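import Groth.Statements.S7596
import Mathlib
set_option linter.style.haveILetI false

set_option autoImplicit false
universe u
open CategoryTheory CategoryTheory.Limits AlgebraicGeometry
open Variety

namespace Groth.Agent.S7596

section Aux
open CategoryTheory CategoryTheory.Limits AlgebraicGeometry

private lemma range_of_isPullback {Z X' Y' S' : Scheme.{u}} {a : Z ⟶ X'} {b : Z ⟶ Y'}
    {c : X' ⟶ S'} {d : Y' ⟶ S'} (h : IsPullback a b c d) :
    Set.range a = c ⁻¹' Set.range d := by
  ext x
  constructor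
  · rintro ⟨z, rfl⟩
    exact ⟨b z, by rw [← Scheme.Hom.comp_apply, ← Scheme.Hom.comp_apply, h.w]⟩
  · intro hx
    have : x ∈ Set.range (pullback.fst c d) := by
      rw [Scheme.Pullback.range_fst]
      exact hx
    obtain ⟨w, rfl⟩ := this
    refine ⟨h.isoPullback.inv w, ?_⟩
    rw [← Scheme.Hom.comp_apply, h.isoPullback_inv_fst]

private lemma fromSpecRes_comp (k : Type u) [Field k] (X : Scheme.{u})
    [X.Over (Spec (CommRingCat.of k))] (x : X) :
    X.fromSpecResidueField x ≫ (X ↘ Spec (CommRingCat.of k)) =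
      Spec.map (CommRingCat.ofHom (Curv2.resMap k X x)) := by
  apply ext_of_isAffine
  rw [← cancel_mono (Scheme.ΓSpecIso _).hom, Scheme.ΓSpecIso_naturality]
  simp only [Scheme.fromSpecResidueField, Scheme.Hom.comp_appTop, Scheme.fromSpecStalk_appTop,
    Category.assoc, Scheme.ΓSpecIso_naturality]
  have e : ∀ (h : (X.fromSpecStalk x) ⁻¹ᵁ ⊤ ≤ ⊤),
      (Spec (X.presheaf.stalk x)).presheaf.map (homOfLE h).op = 𝟙 _ :=
    fun h => (Spec _).presheaf.map_id _
  have hres : CommRingCat.ofHom (Curv2.resMap k X x) =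
      (Scheme.ΓSpecIso (CommRingCat.of k)).inv ≫ (X ↘ Spec (CommRingCat.of k)).appTop ≫
        X.presheaf.germ ⊤ x trivial ≫ X.residue x := rfl
  erw [e]
  rw [Category.id_comp, Iso.inv_hom_id_assoc, hres, Iso.hom_inv_id_assoc]

end Aux


/-- Let X be an irreducible scheme over a field k whose k-rational points (points x at which k → κ(x) is
onto) form a dense subset. Then X is geometrically irreducible over k. -/
theorem result (k : Type u) [Field k] (X : Scheme.{u}) [X.Over (Spec (CommRingCat.of k))] [IrreducibleSpace ↥X]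
    (hd : Dense {x : ↥X | Function.Surjective (Curv2.resMap k X x)}) :
    GeometricallyIrreducible (X ↘ (Spec (CommRingCat.of k))) := by
  refine ⟨?_⟩
  intro K _ y Z fst snd h
  show IrreducibleSpace Z
  have hopen : UniversallyOpen fst :=
    MorphismProperty.of_isPullback (P := @UniversallyOpen) h.flip inferInstance
  have hsurj : ∀ x : X, x ∈ Set.range fst := by
    intro x
    rw [range_of_isPullback h]
    obtain ⟨p⟩ : Nonempty (Spec (CommRingCat.of K)) := inferInstance
    exact ⟨p, Subsingleton.elim _ _⟩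
  have hinj : ∀ x : X, Function.Surjective (Curv2.resMap k X x) →
      ∀ z₁ z₂ : Z, fst z₁ = x → fst z₂ = x → z₁ = z₂ := by
    intro x hx z₁ z₂ h1 h2
    have hbij : Function.Bijective (Curv2.resMap k X x) :=
      ⟨(Curv2.resMap k X x).injective, hx⟩
    have hiso1 : IsIso (CommRingCat.ofHom (Curv2.resMap k X x)) :=
      (ConcreteCategory.isIso_iff_bijective _).mpr hbij
    have hiso2 : IsIso (X.fromSpecResidueField x ≫ (X ↘ Spec (CommRingCat.of k))) := by
      rw [fromSpecRes_comp]
      infer_instance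
    have hpb := (IsPullback.of_hasPullback fst (X.fromSpecResidueField x)).paste_horiz h.flip
    have hiso3 : IsIso (pullback.fst fst (X.fromSpecResidueField x) ≫ snd) :=
      hpb.isIso_fst_of_isIso hiso2
    have hr : ∀ z : Z, fst z = x → z ∈ Set.range (fst.fiberι x) := by
      intro z hz
      rw [Scheme.Hom.range_fiberι]
      exact hz
    obtain ⟨a, rfl⟩ := hr z₁ h1
    obtain ⟨b, rfl⟩ := hr z₂ h2
    have hinv : ∀ c : ↥(fst.fiber x),
        (inv (pullback.fst fst (X.fromSpecResidueField x) ≫ snd))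
          ((pullback.fst fst (X.fromSpecResidueField x) ≫ snd) c) = c := by
      intro c
      rw [← Scheme.Hom.comp_apply, IsIso.hom_inv_id]
      rfl
    have hab : (pullback.fst fst (X.fromSpecResidueField x) ≫ snd) a =
        (pullback.fst fst (X.fromSpecResidueField x) ≫ snd) b := Subsingleton.elim _ _
    have : a = b := by rw [← hinv a, ← hinv b, hab]
    rw [this]
  obtain ⟨x₀⟩ : Nonempty X := inferInstance
  obtain ⟨z₀, -⟩ := hsurj x₀
  rw [irreducibleSpace_def]
  refine ⟨⟨z₀, trivial⟩, ?_⟩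
  intro u v hu hv
  rintro ⟨a, -, hau⟩ ⟨b, -, hbv⟩
  have hA : IsOpen (fst '' u) := fst.isOpenMap u hu
  have hB : IsOpen (fst '' v) := fst.isOpenMap v hv
  obtain ⟨w, hwA, hwB⟩ := nonempty_preirreducible_inter hA hB ⟨_, a, hau, rfl⟩ ⟨_, b, hbv, rfl⟩
  obtain ⟨x, hx, ⟨z₁, hz₁u, hz₁⟩, ⟨z₂, hz₂v, hz₂⟩⟩ :=
    hd.exists_mem_open (hA.inter hB) ⟨w, hwA, hwB⟩
  have := hinj x hx z₁ z₂ hz₁ hz₂
  subst this
  exact ⟨z₁, trivial, hz₁u, hz₂v⟩

end Groth.Agent.S7596
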