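import Mathlib
import Groth.Agent.S7596
set_option linter.style.haveILetI false

/-!
Helper library (helper26): base change of schemes over an algebraically closed field.
* `geomIrr_of_algClosed`: irreducible + locally of finite type over alg. closed `k` ⇒ geometrically irreducible.
* `irreducibleSpace_tensor`: `Spec (K ⊗[k] L)` is irreducible for field extensions `K`, `L` of alg. closed `k`.
* `isIrreducible_fiber_bc`: fibres of `X_L → X` are irreducible.
* `isConnected_preimage_of_open`: open continuous map with connected fibres pulls back connected sets.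
-/

set_option autoImplicit false
universe u
open CategoryTheory CategoryTheory.Limits AlgebraicGeometry TensorProduct

namespace Groth.Agent.AlgClosedBC

private lemma fromSpecRes_comp (k : Type u) [Field k] (X : Scheme.{u})
    [X.Over (Spec (CommRingCat.of k))] (x : X) :
    X.fromSpecResidueField x ≫ (X ↘ Spec (CommRingCat.of k)) =
      Spec.map (CommRingCat.ofHom (Curv2.resMap k X x)) := by
  apply ext_of_isAffine
  rw [← cancel_mono (Scheme.ΓSpecIso _).hom, Scheme.ΓSpecIso_naturality]
  simp only [Scheme.fromSpecResidueField, Scheme.Hom.comp_appTop, Scheme.fromSpecStalk_appTop,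
    Category.assoc, Scheme.ΓSpecIso_naturality]
  have e : ∀ (h : (X.fromSpecStalk x) ⁻¹ᵁ ⊤ ≤ ⊤),
      (Spec (X.presheaf.stalk x)).presheaf.map (homOfLE h).op = 𝟙 _ :=
    fun h => (Spec _).presheaf.map_id _
  have hres : CommRingCat.ofHom (Curv2.resMap k X x) =
      (Scheme.ΓSpecIso (CommRingCat.of k)).inv ≫ (X ↘ Spec (CommRingCat.of k)).appTop ≫
        X.presheaf.germ ⊤ x trivial ≫ X.residue x := rfl
  erw [e]
  rw [Category.id_comp, Iso.inv_hom_id_assoc, hres, Iso.hom_inv_id_assoc]

/-- Over an algebraically closed field, an irreducible scheme locally of finite type is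
geometrically irreducible. -/
theorem geomIrr_of_algClosed (k : Type u) [Field k] [IsAlgClosed k] {X : Scheme.{u}}
    (q : X ⟶ Spec (CommRingCat.of k)) [LocallyOfFiniteType q] [IrreducibleSpace ↥X] :
    GeometricallyIrreducible q := by
  letI : X.Over (Spec (CommRingCat.of k)) := ⟨q⟩
  haveI hJ : JacobsonSpace ↥X := LocallyOfFiniteType.jacobsonSpace q
  have hd : Dense {x : ↥X | Function.Surjective (Curv2.resMap k X x)} := by
    have h1 : Dense (closedPoints ↥X) := by
      rw [dense_iff_closure_eq]; exact closure_closedPoints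
    refine h1.mono ?_
    intro x hx
    have h2 : Spec.map (residueFieldIsoBase q x hx).inv =
        Spec.map (CommRingCat.ofHom (Curv2.resMap k X x)) := by
      rw [SpecMap_residueFieldIsoBase_inv]; exact fromSpecRes_comp k X x
    have h3 := Spec.map_injective h2
    have h4 : Function.Bijective (residueFieldIsoBase q x hx).inv.hom :=
      (ConcreteCategory.isIso_iff_bijective _).mp inferInstance
    rw [h3] at h4; exact h4.2
  exact Groth.Agent.S7596.result k X hd

section Tensor

variable {k K L : Type u} [Field k] [Field K] [Field L] [Algebra k K] [Algebra k L]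

/-- The map `A ⊗ L → K ⊗ L` for a subalgebra `A` of `K`. -/
noncomputable abbrev tmap (L : Type u) [Field L] [Algebra k L] (A : Subalgebra k K) :
    ↥A ⊗[k] L →ₐ[k] K ⊗[k] L :=
  Algebra.TensorProduct.map A.val (AlgHom.id k L)

lemma tmap_injective (A : Subalgebra k K) : Function.Injective (tmap L A) := by
  have h := TensorProduct.map_injective_of_flat_flat (R := k) A.val.toLinearMap
    (LinearMap.id : L →ₗ[k] L) Subtype.val_injective Function.injective_id
  intro a b hab
  apply h
  have e : ∀ w : ↥A ⊗[k] L, TensorProduct.map A.val.toLinearMap (LinearMap.id : L →ₗ[k] L) w =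
      tmap L A w := by
    intro w
    induction w using TensorProduct.induction_on with
    | zero => simp
    | tmul a l => simp [tmap]
    | add x y hx hy => simp only [map_add, hx, hy]
  rw [e, e, hab]

lemma tmap_range_mono {A B : Subalgebra k K} (h : A ≤ B) :
    Set.range (tmap L A) ⊆ Set.range (tmap L B) := by
  rintro _ ⟨w, rfl⟩
  refine ⟨Algebra.TensorProduct.map (Subalgebra.inclusion h) (AlgHom.id k L) w, ?_⟩
  induction w using TensorProduct.induction_on with
  | zero => simp
  | tmul a l => simp [tmap]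
  | add x y hx hy => simp only [map_add, hx, hy]

lemma exists_fg_mem_range (x : K ⊗[k] L) :
    ∃ A : Subalgebra k K, A.FG ∧ x ∈ Set.range (tmap L A) := by
  induction x using TensorProduct.induction_on with
  | zero => exact ⟨⊥, Subalgebra.fg_bot, 0, map_zero _⟩
  | tmul a l =>
    refine ⟨Algebra.adjoin k {a}, ⟨{a}, by rw [Finset.coe_singleton]⟩,
      (⟨a, Algebra.subset_adjoin (Set.mem_singleton a)⟩ : ↥(Algebra.adjoin k {a})) ⊗ₜ[k] l, ?_⟩
    simp [tmap]
  | add x y hx hy =>
    obtain ⟨A₁, h₁, hx⟩ := hx
    obtain ⟨A₂, h₂, hy⟩ := hy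
    obtain ⟨v₁, e₁⟩ := tmap_range_mono (L := L) (le_sup_left : A₁ ≤ A₁ ⊔ A₂) hx
    obtain ⟨v₂, e₂⟩ := tmap_range_mono (L := L) (le_sup_right : A₂ ≤ A₁ ⊔ A₂) hy
    exact ⟨A₁ ⊔ A₂, h₁.sup h₂, v₁ + v₂, by rw [map_add, e₁, e₂]⟩

end Tensor

/-- For field extensions `K`, `L` of an algebraically closed field `k`, `Spec (K ⊗[k] L)` is
irreducible. -/
theorem irreducibleSpace_tensor (k K L : Type u) [Field k] [IsAlgClosed k] [Field K] [Field L]
    [Algebra k K] [Algebra k L] : IrreducibleSpace (PrimeSpectrum (K ⊗[k] L)) := by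
  have hA : ∀ A : Subalgebra k K, A.FG → (nilradical (↥A ⊗[k] L)).IsPrime := by
    intro A hfg
    haveI : Algebra.FiniteType k ↥A := (Subalgebra.fg_iff_finiteType A).mp hfg
    haveI hft : LocallyOfFiniteType (Spec.map (CommRingCat.ofHom (algebraMap k ↥A))) :=
      HasRingHomProperty.Spec_iff.mpr (RingHom.finiteType_algebraMap.mpr inferInstance)
    haveI : IrreducibleSpace ↥(Spec (CommRingCat.of ↥A)) := inferInstance
    haveI := geomIrr_of_algClosed k (Spec.map (CommRingCat.ofHom (algebraMap k ↥A)))
    haveI h1 : IrreducibleSpace ↥(pullback (Spec.map (CommRingCat.ofHom (algebraMap k ↥A)))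
        (Spec.map (CommRingCat.ofHom (algebraMap k L)))) :=
      GeometricallyIrreducible.geometrically_irreducibleSpace _ _ _ (.of_hasPullback _ _)
    have h2 : IrreducibleSpace ↥(Spec (CommRingCat.of (↥A ⊗[k] L))) :=
      ((pullbackSpecIso k ↥A L).hom.homeomorph.irreducibleSpace_iff).mp h1
    have h3 : IsIrreducible (Set.univ : Set (PrimeSpectrum (↥A ⊗[k] L))) :=
      (irreducibleSpace_def _).mp h2
    rw [← PrimeSpectrum.zeroLocus_bot, PrimeSpectrum.isIrreducible_zeroLocus_iff] at h3
    exact h3
  have hprime : (nilradical (K ⊗[k] L)).IsPrime := by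
    refine ⟨?_, ?_⟩
    · intro htop
      have h1 : (1 : K ⊗[k] L) ∈ nilradical (K ⊗[k] L) := htop ▸ Submodule.mem_top
      obtain ⟨n, hn⟩ := mem_nilradical.mp h1
      rw [one_pow] at hn
      have h2 : (1 : ↥(⊥ : Subalgebra k K) ⊗[k] L) = 0 :=
        tmap_injective (L := L) ⊥ (by rw [map_one, map_zero]; exact hn)
      have h3 : nilradical (↥(⊥ : Subalgebra k K) ⊗[k] L) = ⊤ := by
        rw [Ideal.eq_top_iff_one, h2]; exact zero_mem _
      exact (hA ⊥ Subalgebra.fg_bot).ne_top h3
    · intro x y hxy
      obtain ⟨A₁, h₁, hx⟩ := exists_fg_mem_range (L := L) x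
      obtain ⟨A₂, h₂, hy⟩ := exists_fg_mem_range (L := L) y
      obtain ⟨x', rfl⟩ := tmap_range_mono (L := L) (le_sup_left : A₁ ≤ A₁ ⊔ A₂) hx
      obtain ⟨y', rfl⟩ := tmap_range_mono (L := L) (le_sup_right : A₂ ≤ A₁ ⊔ A₂) hy
      have hp := hA (A₁ ⊔ A₂) (h₁.sup h₂)
      have hxy' : x' * y' ∈ nilradical (↥(A₁ ⊔ A₂) ⊗[k] L) := by
        obtain ⟨n, hn⟩ := mem_nilradical.mp hxy
        refine mem_nilradical.mpr ⟨n, tmap_injective (L := L) _ ?_⟩
        rw [map_pow, map_mul, map_zero]; exact hn
      rcases hp.mem_or_mem hxy' with h | h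
      · left; exact mem_nilradical.mpr ((mem_nilradical.mp h).map _)
      · right; exact mem_nilradical.mpr ((mem_nilradical.mp h).map _)
  have h5 : IsIrreducible (Set.univ : Set (PrimeSpectrum (K ⊗[k] L))) := by
    rw [← PrimeSpectrum.zeroLocus_bot, PrimeSpectrum.isIrreducible_zeroLocus_iff]
    exact hprime
  exact (irreducibleSpace_def _).mpr h5

section BC

variable (k : Type u) [Field k] [IsAlgClosed k] {X : Scheme.{u}}
  (f : X ⟶ Spec (CommRingCat.of k)) (L : Type u) [Field L] [Algebra k L]

omit [IsAlgClosed k] in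
lemma bc_isOpenMap :
    IsOpenMap (pullback.fst f (Spec.map (CommRingCat.ofHom (algebraMap k L)))).base :=
  (pullback.fst f (Spec.map (CommRingCat.ofHom (algebraMap k L)))).isOpenMap

/-- The fibres of `X_L → X` are irreducible when `k` is algebraically closed. -/
theorem isIrreducible_fiber_bc (x₀ : ↥X) :
    IsIrreducible ((pullback.fst f (Spec.map (CommRingCat.ofHom (algebraMap k L)))).base ⁻¹' {x₀}) := by
  let φ : k →+* X.residueField x₀ := (Spec.preimage (X.fromSpecResidueField x₀ ≫ f)).hom
  letI : Algebra k (X.residueField x₀) := φ.toAlgebra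
  have hφ : X.fromSpecResidueField x₀ ≫ f =
      Spec.map (CommRingCat.ofHom (algebraMap k (X.residueField x₀))) :=
    (Spec.map_preimage _).symm
  have key : ∀ g : Spec (X.residueField x₀) ⟶ Spec (CommRingCat.of k),
      g = Spec.map (CommRingCat.ofHom (algebraMap k (X.residueField x₀))) →
      IrreducibleSpace ↥(pullback g (Spec.map (CommRingCat.ofHom (algebraMap k L)))) := by
    rintro g rfl
    haveI := irreducibleSpace_tensor k (X.residueField x₀) L
    exact ((pullbackSpecIso k (X.residueField x₀) L).hom.homeomorph.irreducibleSpace_iff).mpr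
      (inferInstanceAs (IrreducibleSpace (PrimeSpectrum ((X.residueField x₀) ⊗[k] L))))
  haveI h1 : IrreducibleSpace ↥(pullback (X.fromSpecResidueField x₀ ≫ f)
      (Spec.map (CommRingCat.ofHom (algebraMap k L)))) := key _ hφ
  let e1 : (pullback.fst f (Spec.map (CommRingCat.ofHom (algebraMap k L)))).fiber x₀ ≅
      pullback (X.fromSpecResidueField x₀ ≫ f) (Spec.map (CommRingCat.ofHom (algebraMap k L))) :=
    pullbackSymmetry _ _ ≪≫ pullbackRightPullbackFstIso f _ (X.fromSpecResidueField x₀)
  haveI h2 : IrreducibleSpace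
      ↥((pullback.fst f (Spec.map (CommRingCat.ofHom (algebraMap k L)))).fiber x₀) :=
    (e1.hom.homeomorph.irreducibleSpace_iff).mpr h1
  have h3 : IsIrreducible (Set.range
      ((pullback.fst f (Spec.map (CommRingCat.ofHom (algebraMap k L)))).fiberι x₀).base) := by
    rw [← Set.image_univ]
    exact (IrreducibleSpace.isIrreducible_univ _).image _
      ((pullback.fst f (Spec.map (CommRingCat.ofHom (algebraMap k L)))).fiberι x₀).continuous.continuousOn
  have h4 := (pullback.fst f (Spec.map (CommRingCat.ofHom (algebraMap k L)))).range_fiberι x₀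
  rw [← h4]
  exact h3

end BC

/-- An open continuous map with connected fibres pulls back connected sets to connected sets. -/
theorem isConnected_preimage_of_open {α β : Type*} [TopologicalSpace α] [TopologicalSpace β]
    {f : α → β} (hc : Continuous f) (ho : IsOpenMap f)
    (hfib : ∀ y, IsConnected (f ⁻¹' {y})) {Z : Set β} (hZ : IsConnected Z) :
    IsConnected (f ⁻¹' Z) := by
  have hsurj : Function.Surjective f := fun y => (hfib y).nonempty
  let g : f ⁻¹' Z → Z := Z.restrictPreimage f
  have hgc : Continuous g := hc.restrictPreimage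
  have hgo : IsOpenMap g := ho.restrictPreimage Z
  have hgs : Function.Surjective g := by
    rintro ⟨z, hz⟩
    obtain ⟨x, rfl⟩ := hsurj z
    exact ⟨⟨x, hz⟩, rfl⟩
  have hq : Topology.IsCoinducing g := (hgo.isQuotientMap hgc hgs).isCoinducing
  have hgf : ∀ z : Z, IsConnected (g ⁻¹' {z}) := by
    intro z
    have h1 : (Subtype.val : f ⁻¹' Z → α) '' (g ⁻¹' {z}) = f ⁻¹' {z.1} := by
      ext x
      constructor
      · rintro ⟨w, hw, rfl⟩
        exact congrArg Subtype.val hw
      · intro hx
        have hx' : f x = z.1 := hx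
        refine ⟨⟨x, ?_⟩, ?_, rfl⟩
        · show f x ∈ Z
          rw [hx']; exact z.2
        · exact Subtype.ext hx'
    have h2 : IsConnected ((Subtype.val : f ⁻¹' Z → α) '' (g ⁻¹' {z})) := h1 ▸ hfib z.1
    exact ⟨h2.nonempty.of_image,
      (Topology.IsInducing.subtypeVal.isPreconnected_image).mp h2.isPreconnected⟩
  haveI : ConnectedSpace Z := isConnected_iff_connectedSpace.mp hZ
  have h3 : IsConnected (g ⁻¹' Set.univ) :=
    hq.isConnected_preimage_of_isClosed hgf isClosed_univ isConnected_univ
  rw [Set.preimage_univ] at h3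
  haveI : ConnectedSpace (f ⁻¹' Z) := connectedSpace_iff_univ.mpr h3
  exact isConnected_iff_connectedSpace.mpr inferInstance

end Groth.Agent.AlgClosedBC
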