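import Mathlib.CategoryTheory.EffectiveEpi.Comp
import Mathlib.CategoryTheory.MorphismProperty.Limits
import Mathlib.CategoryTheory.Limits.Shapes.Pullback.HasPullback
import Mathlib.CategoryTheory.Comma.Over.Pullback

set_option autoImplicit false
open CategoryTheory CategoryTheory.Limits
universe w v₁ u₁

namespace Groth.Agent.DescCatLib

/-- abbreviation: universal effective epimorphisms -/
abbrev UEE (C : Type u₁) [Category.{v₁} C] : MorphismProperty C :=
  MorphismProperty.universally (fun (A B : C) (p : A ⟶ B) => EffectiveEpi p)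

theorem UEE.effectiveEpi {C : Type u₁} [Category.{v₁} C] {X Y : C} {f : X ⟶ Y}
    (hf : UEE C f) : EffectiveEpi f :=
  MorphismProperty.universally_le _ _ hf

theorem UEE.of_isPullback {C : Type u₁} [Category.{v₁} C] {X Y X' Y' : C} {f : X ⟶ Y}
    (hf : UEE C f) {f' : X' ⟶ Y'} {i₁ : X' ⟶ X} {i₂ : Y' ⟶ Y} (H : IsPullback f' i₁ i₂ f) :
    UEE C f' :=
  (MorphismProperty.universally_isStableUnderBaseChange
      (fun (A B : C) (p : A ⟶ B) => EffectiveEpi p)).of_isPullback H.flip hf

/-- mono descends along a universal effective epimorphism -/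
theorem mono_of_isPullback {C : Type u₁} [Category.{v₁} C] [HasPullbacks C]
    {X Y X' Y' : C} {g : X ⟶ Y} {q : Y' ⟶ Y} {g' : X' ⟶ Y'} {r : X' ⟶ X}
    (H : IsPullback g' r q g) (hq : UEE C q) [Mono g'] : Mono g := by
  constructor
  intro Z a b hab
  have hp : EffectiveEpi (pullback.fst (a ≫ g) q) := hq _ _ _ (IsPullback.of_hasPullback (a ≫ g) q)
  have c : pullback.fst (a ≫ g) q ≫ (a ≫ g) = pullback.snd (a ≫ g) q ≫ q := pullback.condition
  have wa : pullback.snd (a ≫ g) q ≫ q = (pullback.fst (a ≫ g) q ≫ a) ≫ g := by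
    rw [← c, Category.assoc]
  have wb : pullback.snd (a ≫ g) q ≫ q = (pullback.fst (a ≫ g) q ≫ b) ≫ g := by
    rw [← c, Category.assoc]
    exact congrArg (pullback.fst (a ≫ g) q ≫ ·) hab
  have e : H.lift _ _ wa = H.lift _ _ wb := by
    rw [← cancel_mono g']
    simp
  have e2 := congrArg (· ≫ r) e
  simp only [IsPullback.lift_snd] at e2
  exact (cancel_epi _).mp e2

/-- iso descends along a universal effective epimorphism -/
theorem isIso_of_isPullback {C : Type u₁} [Category.{v₁} C] [HasPullbacks C]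
    {X Y X' Y' : C} {g : X ⟶ Y} {q : Y' ⟶ Y} {g' : X' ⟶ Y'} {r : X' ⟶ X}
    (H : IsPullback g' r q g) (hq : UEE C q) [IsIso g'] : IsIso g := by
  have hm : Mono g := mono_of_isPullback H hq
  have hqe : EffectiveEpi q := hq.effectiveEpi
  have hcomp : (inv g' ≫ r) ≫ g = q := by
    rw [Category.assoc, ← H.w, IsIso.inv_hom_id_assoc]
  let k : Y ⟶ X := EffectiveEpi.desc q (inv g' ≫ r) (by
    intro Z a b hab
    rw [← cancel_mono g]
    simp only [Category.assoc] at hcomp ⊢
    rw [hcomp, hab])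
  have hk : q ≫ k = inv g' ≫ r := EffectiveEpi.fac q _ _
  have h1 : k ≫ g = 𝟙 Y := by
    rw [← cancel_epi q, ← Category.assoc, hk, hcomp, Category.comp_id]
  have h2 : g ≫ k = 𝟙 X := by
    rw [← cancel_mono g, Category.assoc, h1, Category.comp_id, Category.id_comp]
  exact ⟨k, h2, h1⟩

end Groth.Agent.DescCatLib
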