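import Mathlib
import Groth.Agent.AlgClosedBC
import Groth.Agent.S2500
set_option linter.style.haveILetI false

/-!
Helper library (helper26): base change of schemes over a separably closed field, and descent of
geometric irreducibility / connectedness from an algebraic extension of the base field.
-/

set_option autoImplicit false
universe u
open CategoryTheory CategoryTheory.Limits AlgebraicGeometry TensorProduct

namespace Groth.Agent.SepClosedBC

/-- Abstract pasting lemma. -/
theorem exists_isPullback_of_comm {C : Type*} [Category C] [HasPullbacks C] {X S S' SL W : C}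
    (f : X ⟶ S) (y' : S' ⟶ S) (yL : SL ⟶ S) (sψ : W ⟶ S') (sι : W ⟶ SL)
    (hΩ : sι ≫ yL = sψ ≫ y') :
    ∃ a : pullback (pullback.snd f yL) sι ⟶ pullback f y',
      IsPullback a (pullback.snd (pullback.snd f yL) sι) (pullback.snd f y') sψ := by
  have big : IsPullback (pullback.fst (pullback.snd f yL) sι ≫ pullback.fst f yL)
      (pullback.snd (pullback.snd f yL) sι) f (sι ≫ yL) :=
    (IsPullback.of_hasPullback (pullback.snd f yL) sι).paste_horiz (IsPullback.of_hasPullback f yL)
  rw [hΩ] at big
  exact ⟨_, IsPullback.of_right' big (IsPullback.of_hasPullback f y')⟩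

lemma surjective_SpecMap_field (L Ω : Type u) [Field L] [Field Ω] (ι : L →+* Ω) :
    Surjective (Spec.map (CommRingCat.ofHom ι)) :=
  ⟨fun _ => ⟨IsLocalRing.closedPoint Ω, Subsingleton.elim (α := PrimeSpectrum L) _ _⟩⟩

section Descent

variable (k k' : Type u) [Field k] [Field k'] [Algebra k k'] [Algebra.IsAlgebraic k k']
  {X : Scheme.{u}} (f : X ⟶ Spec (CommRingCat.of k))

/-- For every field extension `K` of `k` there is a scheme `Z`, a base change of `X_{k'}` along a
field extension of `k'`, surjecting onto `X_K`. -/
theorem exists_dominating (K : Type u) [Field K] [Algebra k K] :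
    ∃ (Ω : Type u) (_ : Field Ω) (ψ : k' →+* Ω) (ι : K →+* Ω)
      (a : pullback (pullback.snd f (Spec.map (CommRingCat.ofHom (algebraMap k K))))
          (Spec.map (CommRingCat.ofHom ι)) ⟶
        pullback f (Spec.map (CommRingCat.ofHom (algebraMap k k')))),
      IsPullback a (pullback.snd _ _)
        (pullback.snd f (Spec.map (CommRingCat.ofHom (algebraMap k k'))))
        (Spec.map (CommRingCat.ofHom ψ)) ∧
      Function.Surjective (pullback.fst (pullback.snd f (Spec.map (CommRingCat.ofHom (algebraMap k K))))
          (Spec.map (CommRingCat.ofHom ι))).base := by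
  let ψ : k' →ₐ[k] AlgebraicClosure K := IsAlgClosed.lift
  have h1 : (algebraMap K (AlgebraicClosure K)).comp (algebraMap k K) =
      (ψ : k' →+* AlgebraicClosure K).comp (algebraMap k k') := by
    rw [ψ.comp_algebraMap, ← IsScalarTower.algebraMap_eq]
  have hΩ : Spec.map (CommRingCat.ofHom (algebraMap K (AlgebraicClosure K))) ≫
      Spec.map (CommRingCat.ofHom (algebraMap k K)) =
      Spec.map (CommRingCat.ofHom (ψ : k' →+* AlgebraicClosure K)) ≫
        Spec.map (CommRingCat.ofHom (algebraMap k k')) := by
    rw [← Spec.map_comp, ← Spec.map_comp, ← CommRingCat.ofHom_comp, ← CommRingCat.ofHom_comp, h1]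
  obtain ⟨a, ha⟩ := exists_isPullback_of_comm f (Spec.map (CommRingCat.ofHom (algebraMap k k')))
    (Spec.map (CommRingCat.ofHom (algebraMap k K)))
    (Spec.map (CommRingCat.ofHom (ψ : k' →+* AlgebraicClosure K)))
    (Spec.map (CommRingCat.ofHom (algebraMap K (AlgebraicClosure K)))) hΩ
  haveI := surjective_SpecMap_field K (AlgebraicClosure K) (algebraMap K (AlgebraicClosure K))
  exact ⟨AlgebraicClosure K, inferInstance, (ψ : k' →+* AlgebraicClosure K),
    algebraMap K (AlgebraicClosure K), a, ha,
    (pullback.fst (pullback.snd f (Spec.map (CommRingCat.ofHom (algebraMap k K))))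
      (Spec.map (CommRingCat.ofHom (algebraMap K (AlgebraicClosure K))))).surjective⟩

/-- Geometric irreducibility descends from the base change to an algebraic extension. -/
theorem geomIrr_of_bc
    [GeometricallyIrreducible (pullback.snd f (Spec.map (CommRingCat.ofHom (algebraMap k k'))))] :
    GeometricallyIrreducible f := by
  refine ⟨geometrically_iff_of_commRing_of_isClosedUnderIsomorphisms.mpr fun K _ _ => ?_⟩
  obtain ⟨Ω, _, ψ, ι, a, ha, hs⟩ := exists_dominating k k' f K
  haveI hZ : IrreducibleSpace ↥(pullback (pullback.snd f (Spec.map (CommRingCat.ofHom (algebraMap k K))))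
      (Spec.map (CommRingCat.ofHom ι))) :=
    GeometricallyIrreducible.geometrically_irreducibleSpace _ _ _ ha
  exact hs.irreducibleSpace (pullback.fst (pullback.snd f (Spec.map (CommRingCat.ofHom (algebraMap k K))))
      (Spec.map (CommRingCat.ofHom ι))).continuous

/-- Geometric connectedness descends from the base change to an algebraic extension. -/
theorem geomConn_of_bc
    [GeometricallyConnected (pullback.snd f (Spec.map (CommRingCat.ofHom (algebraMap k k'))))] :
    GeometricallyConnected f := by
  refine ⟨geometrically_iff_of_commRing_of_isClosedUnderIsomorphisms.mpr fun K _ _ => ?_⟩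
  obtain ⟨Ω, _, ψ, ι, a, ha, hs⟩ := exists_dominating k k' f K
  haveI hZ : ConnectedSpace ↥(pullback (pullback.snd f (Spec.map (CommRingCat.ofHom (algebraMap k K))))
      (Spec.map (CommRingCat.ofHom ι))) :=
    GeometricallyConnected.geometrically_connectedSpace _ _ _ ha
  exact hs.connectedSpace (pullback.fst (pullback.snd f (Spec.map (CommRingCat.ofHom (algebraMap k K))))
      (Spec.map (CommRingCat.ofHom ι))).continuous

end Descent

section General

variable {k : Type u} [Field k] {X : Scheme.{u}} (f : X ⟶ Spec (CommRingCat.of k))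

/-- The fibres of `X_L → X` are irreducible as soon as `Spec K ×_k Spec L` is irreducible for all
field extensions `K` of `k`. -/
theorem isIrreducible_fiber_bc' (L : Type u) [Field L] [Algebra k L]
    (H : ∀ (K : Type u) [Field K] [Algebra k K],
      IrreducibleSpace ↥(pullback (Spec.map (CommRingCat.ofHom (algebraMap k K)))
        (Spec.map (CommRingCat.ofHom (algebraMap k L))))) (x₀ : ↥X) :
    IsIrreducible ((pullback.fst f (Spec.map (CommRingCat.ofHom (algebraMap k L)))).base ⁻¹' {x₀}) := by
  let φ : k →+* X.residueField x₀ := (Spec.preimage (X.fromSpecResidueField x₀ ≫ f)).hom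
  letI : Algebra k (X.residueField x₀) := φ.toAlgebra
  have hφ : X.fromSpecResidueField x₀ ≫ f =
      Spec.map (CommRingCat.ofHom (algebraMap k (X.residueField x₀))) :=
    (Spec.map_preimage _).symm
  have key : ∀ g : Spec (X.residueField x₀) ⟶ Spec (CommRingCat.of k),
      g = Spec.map (CommRingCat.ofHom (algebraMap k (X.residueField x₀))) →
      IrreducibleSpace ↥(pullback g (Spec.map (CommRingCat.ofHom (algebraMap k L)))) := by
    rintro g rfl
    exact H (X.residueField x₀)
  haveI h1 : IrreducibleSpace ↥(pullback (X.fromSpecResidueField x₀ ≫ f)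
      (Spec.map (CommRingCat.ofHom (algebraMap k L)))) := key _ hφ
  let e1 : (pullback.fst f (Spec.map (CommRingCat.ofHom (algebraMap k L)))).fiber x₀ ≅
      pullback (X.fromSpecResidueField x₀ ≫ f) (Spec.map (CommRingCat.ofHom (algebraMap k L))) :=
    pullbackSymmetry _ _ ≪≫ pullbackRightPullbackFstIso f _ (X.fromSpecResidueField x₀)
  haveI h2 : IrreducibleSpace
      ↥((pullback.fst f (Spec.map (CommRingCat.ofHom (algebraMap k L)))).fiber x₀) :=
    (e1.hom.homeomorph.irreducibleSpace_iff).mpr h1
  have h3 : IsIrreducible (Set.range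
      ((pullback.fst f (Spec.map (CommRingCat.ofHom (algebraMap k L)))).fiberι x₀).base) := by
    rw [← Set.image_univ]
    exact (IrreducibleSpace.isIrreducible_univ _).image _
      ((pullback.fst f (Spec.map (CommRingCat.ofHom (algebraMap k L)))).fiberι x₀).continuous.continuousOn
  have h4 := (pullback.fst f (Spec.map (CommRingCat.ofHom (algebraMap k L)))).range_fiberι x₀
  rw [← h4]
  exact h3

end General

section SepClosed

variable (k : Type u) [Field k] [IsSepClosed k]

/-- Over a separably closed field, `Spec K → Spec k` is geometrically irreducible. -/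
theorem geomIrr_SpecMap_of_isSepClosed (K : Type u) [Field K] [Algebra k K] :
    GeometricallyIrreducible (Spec.map (CommRingCat.ofHom (algebraMap k K))) := by
  haveI : IsPurelyInseparable k (AlgebraicClosure k) := inferInstance
  have hh := PrimeSpectrum.isHomeomorph_comap_of_isPurelyInseparable k (AlgebraicClosure k) K
  haveI h0 : IrreducibleSpace (PrimeSpectrum (K ⊗[k] AlgebraicClosure k)) :=
    ((IsHomeomorph.homeomorph _ hh).irreducibleSpace_iff).mpr inferInstance
  haveI hW : IrreducibleSpace ↥(pullback (Spec.map (CommRingCat.ofHom (algebraMap k K)))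
      (Spec.map (CommRingCat.ofHom (algebraMap k (AlgebraicClosure k))))) :=
    ((pullbackSpecIso k K (AlgebraicClosure k)).hom.homeomorph.irreducibleSpace_iff).mpr
      (inferInstanceAs (IrreducibleSpace (PrimeSpectrum (K ⊗[k] AlgebraicClosure k))))
  haveI hgi : GeometricallyIrreducible (pullback.snd (Spec.map (CommRingCat.ofHom (algebraMap k K)))
      (Spec.map (CommRingCat.ofHom (algebraMap k (AlgebraicClosure k))))) :=
    Groth.Agent.S2500.result _
  exact geomIrr_of_bc k (AlgebraicClosure k) _

variable {X : Scheme.{u}} (f : X ⟶ Spec (CommRingCat.of k))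

/-- Over a separably closed field, the fibres of `X_L → X` are irreducible. -/
theorem isIrreducible_fiber_bc_sep (L : Type u) [Field L] [Algebra k L] (x₀ : ↥X) :
    IsIrreducible ((pullback.fst f (Spec.map (CommRingCat.ofHom (algebraMap k L)))).base ⁻¹' {x₀}) :=
  isIrreducible_fiber_bc' f L (fun K _ _ =>
    haveI := geomIrr_SpecMap_of_isSepClosed k K
    GeometricallyIrreducible.geometrically_irreducibleSpace _ _ _ (.of_hasPullback _ _)) x₀

theorem geomIrr_of_isSepClosed [IrreducibleSpace ↥X] : GeometricallyIrreducible f := by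
  refine ⟨geometrically_iff_of_commRing_of_isClosedUnderIsomorphisms.mpr fun K _ _ => ?_⟩
  have h := (IrreducibleSpace.isIrreducible_univ ↥X).preimage_of_isPreirreducible_fiber
    (pullback.fst f (Spec.map (CommRingCat.ofHom (algebraMap k K)))).base
    (Groth.Agent.AlgClosedBC.bc_isOpenMap k f K)
    (fun x => (isIrreducible_fiber_bc_sep k f K x).isPreirreducible)
    (by
      obtain ⟨x⟩ := (inferInstance : Nonempty ↥X)
      obtain ⟨w, hw⟩ := (isIrreducible_fiber_bc_sep k f K x).nonempty
      exact ⟨x, trivial, w, hw⟩)
  rw [Set.preimage_univ] at h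
  exact (irreducibleSpace_def _).mpr h

theorem geomConn_of_isSepClosed [ConnectedSpace ↥X] : GeometricallyConnected f := by
  refine ⟨geometrically_iff_of_commRing_of_isClosedUnderIsomorphisms.mpr fun K _ _ => ?_⟩
  have h := Groth.Agent.AlgClosedBC.isConnected_preimage_of_open
    (pullback.fst f (Spec.map (CommRingCat.ofHom (algebraMap k K)))).continuous
    (Groth.Agent.AlgClosedBC.bc_isOpenMap k f K)
    (fun x => (isIrreducible_fiber_bc_sep k f K x).isConnected)
    (isConnected_univ (α := ↥X))
  rw [Set.preimage_univ] at h
  exact connectedSpace_iff_univ.mpr h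

end SepClosed

end Groth.Agent.SepClosedBC
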