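import Mathlib
import Groth.Agent.SepClosedBC
set_option linter.style.haveILetI false

/-!
Helper library (helper26): compositum of two field extensions, a scheme dominating two base changes,
and a cardinality bound for irreducible components along a continuous surjection.
-/

set_option autoImplicit false
universe u
open CategoryTheory CategoryTheory.Limits AlgebraicGeometry TensorProduct

namespace Groth.Agent.FieldBC2

/-- Two field extensions of `k` embed into a common field, compatibly over `k`. -/
theorem exists_compositum (k K L : Type u) [Field k] [Field K] [Field L] [Algebra k K] [Algebra k L] :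
    ∃ (Ω : Type u) (_ : Field Ω) (ψ : K →+* Ω) (ι : L →+* Ω),
      ψ.comp (algebraMap k K) = ι.comp (algebraMap k L) := by
  haveI : Nontrivial (K ⊗[k] L) :=
    Algebra.TensorProduct.nontrivial_of_algebraMap_injective_of_isDomain k K L
      (algebraMap k K).injective (algebraMap k L).injective
  obtain ⟨m, hm⟩ := Ideal.exists_maximal (K ⊗[k] L)
  haveI := hm
  letI : Field ((K ⊗[k] L) ⧸ m) := Ideal.Quotient.field m
  refine ⟨(K ⊗[k] L) ⧸ m, inferInstance,
    (Ideal.Quotient.mk m).comp Algebra.TensorProduct.includeLeftRingHom,
    (Ideal.Quotient.mk m).comp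
      ((Algebra.TensorProduct.includeRight : L →ₐ[k] K ⊗[k] L) : L →+* K ⊗[k] L), ?_⟩
  refine RingHom.ext fun x => ?_
  simp only [RingHom.comp_apply]
  congr 1
  show (algebraMap k K x) ⊗ₜ[k] (1 : L) = (1 : K) ⊗ₜ[k] (algebraMap k L x)
  rw [Algebra.algebraMap_eq_smul_one, Algebra.algebraMap_eq_smul_one, TensorProduct.smul_tmul]

/-- Given a common field `Ω` of `k'` and `K` over `k`, the base change `(X_K)_Ω` is also a base
change of `X_{k'}`. -/
theorem exists_dominating' {k : Type u} [Field k] {X : Scheme.{u}}
    (f : X ⟶ Spec (CommRingCat.of k))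
    (k' K Ω : Type u) [Field k'] [Field K] [Field Ω] [Algebra k k'] [Algebra k K]
    (ψ : k' →+* Ω) (ι : K →+* Ω) (h : ι.comp (algebraMap k K) = ψ.comp (algebraMap k k')) :
    ∃ a : pullback (pullback.snd f (Spec.map (CommRingCat.ofHom (algebraMap k K))))
        (Spec.map (CommRingCat.ofHom ι)) ⟶
        pullback f (Spec.map (CommRingCat.ofHom (algebraMap k k'))),
      IsPullback a (pullback.snd _ _)
        (pullback.snd f (Spec.map (CommRingCat.ofHom (algebraMap k k'))))
        (Spec.map (CommRingCat.ofHom ψ)) := by
  have hΩ : Spec.map (CommRingCat.ofHom ι) ≫ Spec.map (CommRingCat.ofHom (algebraMap k K)) =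
      Spec.map (CommRingCat.ofHom ψ) ≫ Spec.map (CommRingCat.ofHom (algebraMap k k')) := by
    rw [← Spec.map_comp, ← Spec.map_comp, ← CommRingCat.ofHom_comp, ← CommRingCat.ofHom_comp, h]
  exact Groth.Agent.SepClosedBC.exists_isPullback_of_comm f _ _ _ _ hΩ

/-- A base change of a surjective `Spec` of a field map is surjective. -/
theorem surjective_of_isPullback {Z Y : Scheme.{u}} {K Ω : Type u} [Field K] [Field Ω]
    {ψ : K →+* Ω} {a : Z ⟶ Y} {s : Z ⟶ Spec (CommRingCat.of Ω)} {t : Y ⟶ Spec (CommRingCat.of K)}
    (ha : IsPullback a s t (Spec.map (CommRingCat.ofHom ψ))) : Function.Surjective a.base := by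
  haveI := Groth.Agent.SepClosedBC.surjective_SpecMap_field K Ω ψ
  haveI : Surjective a := MorphismProperty.of_isPullback (P := @Surjective) ha.flip inferInstance
  exact a.surjective

/-- Along a continuous surjection onto a quasi-sober space, the target has at most as many
irreducible components as the source. -/
theorem mk_irreducibleComponents_le_of_surjective {α β : Type u} [TopologicalSpace α]
    [TopologicalSpace β] [QuasiSober β] {a : α → β} (hc : Continuous a)
    (hs : Function.Surjective a) :
    Cardinal.mk ↥(irreducibleComponents β) ≤ Cardinal.mk ↥(irreducibleComponents α) := by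
  classical
  have hgen : ∀ T : irreducibleComponents β, ∃ z : α, IsGenericPoint (a z) T.1 := by
    intro T
    obtain ⟨η, hη⟩ := QuasiSober.sober T.2.1 (isClosed_of_mem_irreducibleComponents T.1 T.2)
    obtain ⟨z, rfl⟩ := hs η
    exact ⟨z, hη⟩
  choose z hz using hgen
  let g : irreducibleComponents β → irreducibleComponents α := fun T =>
    ⟨irreducibleComponent (z T), irreducibleComponent_mem_irreducibleComponents _⟩
  have key : ∀ T : irreducibleComponents β, closure (a '' irreducibleComponent (z T)) = T.1 := by
    intro T
    have hirr : IsIrreducible (closure (a '' irreducibleComponent (z T))) :=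
      (isIrreducible_irreducibleComponent.image a hc.continuousOn).closure
    have hsub : T.1 ⊆ closure (a '' irreducibleComponent (z T)) := by
      rw [← (hz T).def]
      exact closure_mono (Set.singleton_subset_iff.mpr ⟨z T, mem_irreducibleComponent, rfl⟩)
    exact Set.Subset.antisymm (T.2.2 hirr hsub) hsub
  refine Cardinal.mk_le_of_injective (f := g) ?_
  intro T₁ T₂ h
  apply Subtype.ext
  have h' : irreducibleComponent (z T₁) = irreducibleComponent (z T₂) := congrArg Subtype.val h
  rw [← key T₁, ← key T₂, h']

end Groth.Agent.FieldBC2
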