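import Groth.Statements.S6177
import Mathlib

set_option autoImplicit false
universe u
open CategoryTheory
open SGA4

namespace Groth.Agent.S6177

open MonoidalCategory


open CategoryTheory.Limits in
/-- Topos of sheaves of sets on a small site; U an open, i.e. a subobject of the final object; X_CU the
pushout of U <- U x X -> X along the two projections: (ii) <=> (iii): the canonical map X -> X_CU is
an isomorphism if and only if the projection U x X -> U is an isomorphism (X belongs to the closed
complement of U); and (i) => (iii): if X is isomorphic to Y_CU for some Y then X belongs to the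
closed complement of U ((iii) => (i) with Y = X is then immediate from (ii)). -/
theorem result {C : Type u} [SmallCategory C] (J : GrothendieckTopology C)
    (U : Sheaf J (Type u)) (hU : SGA4.IsOpen U) (X : Sheaf J (Type u)) :
    (SGA4.closedCompl U X ↔ IsIso (pushout.inr (prod.fst : U ⨯ X ⟶ U) (prod.snd : U ⨯ X ⟶ X))) ∧
    ((∃ Y : Sheaf J (Type u), Nonempty (X ≅ pushout (prod.fst : U ⨯ Y ⟶ U) (prod.snd : U ⨯ Y ⟶ Y))) →
      SGA4.closedCompl U X) := by
  have hpo : HasPushouts (Sheaf J (Type u)) := HasFiniteColimits.out WalkingSpan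
  have hsub : ∀ {W : Sheaf J (Type u)} (f g : W ⟶ U), f = g := by
    intro W f g
    have : Mono (terminal.from U) := hU
    rw [← cancel_mono (terminal.from U)]
    exact Subsingleton.elim _ _
  -- the functor `U ⨯ -` is a left adjoint
  let e : ∀ X : Sheaf J (Type u), U ⊗ X ≅ U ⨯ X := fun X =>
    (CartesianMonoidalCategory.tensorProductIsBinaryProduct U X).conePointUniqueUpToIso
      (limit.isLimit (pair U X))
  have e1 : ∀ X, (e X).hom ≫ prod.fst = CartesianMonoidalCategory.fst U X := fun X =>
    IsLimit.conePointUniqueUpToIso_hom_comp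
      (CartesianMonoidalCategory.tensorProductIsBinaryProduct U X) (limit.isLimit (pair U X))
      ⟨WalkingPair.left⟩
  have e2 : ∀ X, (e X).hom ≫ prod.snd = CartesianMonoidalCategory.snd U X := fun X =>
    IsLimit.conePointUniqueUpToIso_hom_comp
      (CartesianMonoidalCategory.tensorProductIsBinaryProduct U X) (limit.isLimit (pair U X))
      ⟨WalkingPair.right⟩
  let iso : tensorLeft U ≅ Over.star U ⋙ Over.forget U :=
    NatIso.ofComponents e (by
      intro X X' f
      show (U ◁ f) ≫ (e X').hom = (e X).hom ≫ prod.map (𝟙 U) f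
      apply Limits.prod.hom_ext
      · rw [Category.assoc, e1, Category.assoc, prod.map_fst, Category.comp_id, e1]
        exact CartesianMonoidalCategory.whiskerLeft_fst U f
      · rw [Category.assoc, e2, Category.assoc, prod.map_snd, ← Category.assoc, e2]
        exact CartesianMonoidalCategory.whiskerLeft_snd U f)
  let adjU : Over.star U ⋙ Over.forget U ⊣ ihom U := (ihom.adjunction U).ofNatIsoLeft iso
  have hpc : PreservesColimitsOfSize.{0, 0} (Over.star U ⋙ Over.forget U) :=
    adjU.leftAdjoint_preservesColimits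
  -- the key fact
  have key : ∀ Y : Sheaf J (Type u),
      IsIso (prod.fst : U ⨯ pushout (prod.fst : U ⨯ Y ⟶ U) (prod.snd : U ⨯ Y ⟶ Y) ⟶ U) := by
    intro Y
    have po : IsPushout (prod.fst : U ⨯ Y ⟶ U) (prod.snd : U ⨯ Y ⟶ Y)
        (pushout.inl _ _) (pushout.inr _ _) := IsPushout.of_hasPushout _ _
    have po' := po.map (Over.star U ⋙ Over.forget U)
    have hh : (prod.fst : U ⨯ pushout (prod.fst : U ⨯ Y ⟶ U) (prod.snd : U ⨯ Y ⟶ Y) ⟶ U) ≫
        pushout.inl _ _ = prod.snd := by
      apply po'.hom_ext
      · show prod.map (𝟙 U) (pushout.inl _ _) ≫ prod.fst ≫ pushout.inl _ _ =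
          prod.map (𝟙 U) (pushout.inl _ _) ≫ prod.snd
        rw [← Category.assoc, prod.map_fst, prod.map_snd, Category.comp_id,
          hsub (prod.fst : U ⨯ U ⟶ U) prod.snd]
      · show prod.map (𝟙 U) (pushout.inr _ _) ≫ prod.fst ≫ pushout.inl _ _ =
          prod.map (𝟙 U) (pushout.inr _ _) ≫ prod.snd
        rw [← Category.assoc, prod.map_fst, prod.map_snd, Category.comp_id]
        exact pushout.condition
    refine ⟨prod.lift (𝟙 U) (pushout.inl _ _), ?_, ?_⟩
    · apply Limits.prod.hom_ext
      · rw [Category.assoc, prod.lift_fst, Category.comp_id, Category.id_comp]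
      · rw [Category.assoc, prod.lift_snd, Category.id_comp, hh]
    · exact prod.lift_fst _ _
  have trans : ∀ {X Y : Sheaf J (Type u)} (i : X ⟶ Y), IsIso i →
      IsIso (prod.fst : U ⨯ Y ⟶ U) → IsIso (prod.fst : U ⨯ X ⟶ U) := by
    intro X Y i _ h
    have h1 : (prod.fst : U ⨯ X ⟶ U) = prod.map (𝟙 U) i ≫ prod.fst := by
      rw [prod.map_fst, Category.comp_id]
    rw [h1]
    infer_instance
  refine ⟨⟨fun h => ?_, fun h => ?_⟩, ?_⟩
  · have : IsIso (prod.fst : U ⨯ X ⟶ U) := h
    infer_instance
  · exact trans _ h (key X)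
  · rintro ⟨Y, ⟨i⟩⟩
    exact trans i.hom inferInstance (key Y)

end Groth.Agent.S6177
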