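import Groth.Statements.S4186
import Mathlib

set_option autoImplicit false
open CategoryTheory AlgebraicGeometry Topology TopologicalSpace
open An

namespace Groth.Agent.S4186

/-- A scheme locally of finite type over ℂ is nonempty if and only if it has a ℂ-point. -/
theorem result (X : Scheme.{0}) [X.Over An.SC] [LocallyOfFiniteType (X ↘ An.SC)] :
    Nonempty ↥X ↔ Nonempty (An.Pts X) := by
  constructor
  · rintro ⟨x0⟩
    haveI : JacobsonSpace ↥X := LocallyOfFiniteType.jacobsonSpace (X ↘ An.SC)
    have h : closure (closedPoints ↥X) = Set.univ := closure_closedPoints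
    have hne : (closedPoints ↥X).Nonempty := by
      by_contra hcon
      rw [Set.not_nonempty_iff_eq_empty] at hcon
      rw [hcon, closure_empty] at h
      exact (h ▸ Set.mem_univ x0 : x0 ∈ (∅ : Set ↥X))
    obtain ⟨x, hx⟩ := hne
    exact ⟨(pointEquivClosedPoint (X ↘ An.SC)).symm ⟨x, hx⟩⟩
  · rintro ⟨x⟩
    exact ⟨x.pt⟩

end Groth.Agent.S4186
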