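import Groth.Statements.S9110
import Groth.Agent.H10.SheafHomEx
import Mathlib

set_option autoImplicit false
universe u
open CategoryTheory CategoryTheory.Limits
open ModSite

namespace Groth.Agent.S9110

/-- Let C be a small category, O a presheaf of commutative rings on C and F a presheaf of O-modules such
that each F(U) is a flat O(U)-module. Then F is flat as a presheaf of modules, i.e. the functor G ↦
G ⊗_{p,O} F given by the sectionwise tensor product of presheaves of modules is exact (preserves
finite limits and finite colimits). -/
theorem result {C : Type u} [SmallCategory C] (O : Cᵒᵖ ⥤ CommRingCat.{u})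
    (F : PresheafOfModules.{u} (O ⋙ forget₂ CommRingCat.{u} RingCat.{u}))
    (hF : ∀ X : Cᵒᵖ, Module.Flat (O.obj X) (F.obj X)) :
    PreservesFiniteLimits (MonoidalCategory.tensorRight F) ∧ PreservesFiniteColimits (MonoidalCategory.tensorRight F) := by
  haveI := Groth.Agent.H10.SheafHomEx.tensorRight_isLeftAdjoint O F
  have hc : PreservesFiniteColimits (MonoidalCategory.tensorRight F) := inferInstance
  refine ⟨?_, hc⟩
  haveI : (MonoidalCategory.tensorRight F).Additive := by
    haveI : PreservesBinaryBiproducts (MonoidalCategory.tensorRight F) :=
      preservesBinaryBiproducts_of_preservesBinaryCoproducts _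
    exact Functor.additive_of_preservesBinaryBiproducts _
  have hm : (MonoidalCategory.tensorRight F).PreservesMonomorphisms := by
    constructor
    intro M' M m hm
    apply PresheafOfModules.mono_of_injective
    intro X
    let FX : ModuleCat (O.obj X) := F.obj X
    haveI : Module.Flat (O.obj X) FX := hF X
    have h1 : Mono (m.app X) := inferInstance
    have h2 : Mono ((MonoidalCategory.tensorRight (C := ModuleCat (O.obj X)) FX).map (m.app X)) :=
      inferInstance
    exact (ModuleCat.mono_iff_injective _).mp h2
  haveI := hm
  have h0 := ((Functor.preservesFiniteColimits_tfae (MonoidalCategory.tensorRight F)).out 3 0).mp hc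
  refine ((Functor.preservesFiniteLimits_tfae (MonoidalCategory.tensorRight F)).out 0 3).mp ?_
  intro S hS
  haveI := hS.mono_f
  exact ⟨(h0 S hS).1, inferInstance⟩

end Groth.Agent.S9110
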