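import Groth.Statements.S0523
import Mathlib
import Groth.Agent.Lib.Helper26.HensPair

set_option autoImplicit false
universe u
open Hensel

namespace Groth.Agent.S0523

/-- `A` is Henselian at `I` exactly when for every étale `A`-algebra `A'` every `A`-algebra map `A' →
A/I` lifts to an `A`-algebra map `A' → A`. -/
theorem result (A : Type u) [CommRing A] (I : Ideal A) :
    HenselianRing A I ↔ ∀ (A' : Type u) [CommRing A'] [Algebra A A'] [Algebra.Etale A A']
      (σ : A' →ₐ[A] A ⧸ I), ∃ τ : A' →ₐ[A] A, (Ideal.Quotient.mkₐ A I).comp τ = σ := by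
  constructor
  · intro hH A' _ _ _ σ
    exact Groth.Agent.Helper26.HensPair.exists_section I hH σ
  · intro H
    refine ⟨?_, ?_⟩
    · intro x hx
      rw [Ideal.mem_jacobson_bot]
      intro y
      obtain ⟨s, hs⟩ : ∃ s : A, s = x * y + 1 := ⟨_, rfl⟩
      rw [← hs]
      have hsu : IsUnit (Ideal.Quotient.mk I s) := by
        have : Ideal.Quotient.mk I s = 1 := by
          rw [hs, map_add, map_one, Ideal.Quotient.eq_zero_iff_mem.mpr (I.mul_mem_right y hx),
            zero_add]
        rw [this]; exact isUnit_one
      let σ : Localization.Away s →ₐ[A] A ⧸ I :=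
        IsLocalization.liftAlgHom (M := Submonoid.powers s) (f := Ideal.Quotient.mkₐ A I)
          (by rintro ⟨_, n, rfl⟩; simpa using hsu.pow n)
      obtain ⟨τ, -⟩ := H (Localization.Away s) σ
      have hu : IsUnit (algebraMap A (Localization.Away s) s) :=
        IsLocalization.Away.algebraMap_isUnit s
      have := hu.map τ
      rwa [AlgHom.commutes] at this
    · intro f hf a₀ ha₀ hu
      let P : StandardEtalePair A := ⟨f, hf, Polynomial.derivative f, 1, 0, 1, by ring⟩
      have key : ∀ p : Polynomial A, Polynomial.aeval (Ideal.Quotient.mk I a₀) p =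
          Ideal.Quotient.mk I (p.eval a₀) := by
        intro p
        rw [Polynomial.aeval_def, Ideal.Quotient.algebraMap_eq, Polynomial.eval₂_at_apply]
      have hmap : P.HasMap (Ideal.Quotient.mk I a₀) := by
        constructor
        · show Polynomial.aeval (Ideal.Quotient.mk I a₀) f = 0
          rw [key]
          exact Ideal.Quotient.eq_zero_iff_mem.mpr ha₀
        · show IsUnit (Polynomial.aeval (Ideal.Quotient.mk I a₀) (Polynomial.derivative f))
          rw [key]
          exact hu
      obtain ⟨τ, hτ⟩ := H P.Ring (P.lift _ hmap)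
      refine ⟨τ P.X, ?_, ?_⟩
      · have h1 : Polynomial.aeval (τ P.X) f = 0 := by
          rw [Polynomial.aeval_algHom_apply]
          rw [show Polynomial.aeval P.X f = 0 from (StandardEtalePair.hasMap_X (P := P)).1,
            map_zero]
        show f.eval (τ P.X) = 0
        rw [← Polynomial.coe_aeval_eq_eval]
        exact h1
      · have h2 : Ideal.Quotient.mk I (τ P.X) = Ideal.Quotient.mk I a₀ := by
          have := congrArg (fun φ => φ P.X) hτ
          simpa using this
        exact Ideal.Quotient.eq.mp h2

end Groth.Agent.S0523
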