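import Mathlib
import Groth.Statements.S0527
import Groth.Agent.H11.Hens

set_option autoImplicit false
universe u
open Hensel

namespace Groth.Agent.S0527

open Polynomial Groth.Agent.H11 in
/-- A ring is Henselian at any locally nilpotent ideal, i.e. an ideal all of whose elements are
nilpotent. -/
theorem result (A : Type u) [CommRing A] (I : Ideal A) (hI : ∀ x ∈ I, IsNilpotent x) :
    HenselianRing A I := by
  have hjac : I ≤ Ideal.jacobson ⊥ := by
    intro x hx
    have h1 : x ∈ nilradical A := mem_nilradical.2 (hI x hx)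
    have h2 := nilradical_le_jacobson A h1
    rw [Ideal.jacobson_bot]
    exact h2
  refine ⟨hjac, ?_⟩
  intro f _ a₀ h₁ h₂
  have hn : IsNilpotent (aeval a₀ f) := by
    rw [coe_aeval_eq_eval]; exact hI _ h₁
  have hu : IsUnit (aeval a₀ (derivative f)) := by
    rw [coe_aeval_eq_eval]; exact isUnit_of_isUnit_mk I hjac _ h₂
  obtain ⟨r, ⟨hr1, hr2⟩, -⟩ := existsUnique_nilpotent_sub_and_aeval_eq_zero hn hu
  rw [coe_aeval_eq_eval] at hr2
  refine ⟨r, hr2, ?_⟩
  apply root_sub_mem I f r a₀ (by rw [hr2]; exact I.zero_mem) h₁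
  intro c
  have hnil : IsNilpotent (c * (r - a₀)) := by
    have : IsNilpotent (r - a₀) := by
      have := hr1.neg; simpa using this
    exact (Commute.all _ _).isNilpotent_mul_left this
  rw [map_add]
  exact (hnil.map (Ideal.Quotient.mk I)).isUnit_add_left_of_commute h₂ (Commute.all _ _)

end Groth.Agent.S0527
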