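import Groth.Statements.S2042
import Mathlib
import Groth.Agent.Lib.Helper26.EtaleSection

set_option autoImplicit false
universe u
open CAlg

namespace Groth.Agent.S2042

set_option linter.style.haveILetI false

open Polynomial

section homEquiv

variable {R : Type u} [CommRing R] {S : Type u} [CommRing S] [Algebra R S]
variable {n : ℕ} (m k : ℕ) (hn : n = m + k) (p : MonicDegreeEq R n)

set_option backward.isDefEq.respectTransparency.types false in
theorem homEquiv_fst (φ : UniversalCoprimeFactorizationRing m k hn p →ₐ[R] S) :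
    (UniversalCoprimeFactorizationRing.homEquiv S m k hn p φ).1.1.1 =
      (UniversalCoprimeFactorizationRing.factor₁ m k hn p).1.map (φ : _ →+* S) := by
  simp [UniversalCoprimeFactorizationRing.homEquiv, UniversalFactorizationRing.homEquiv,
    UniversalCoprimeFactorizationRing.factor₁, MonicDegreeEq.map, Polynomial.map_map]
  rfl

set_option backward.isDefEq.respectTransparency.types false in
theorem homEquiv_snd (φ : UniversalCoprimeFactorizationRing m k hn p →ₐ[R] S) :
    (UniversalCoprimeFactorizationRing.homEquiv S m k hn p φ).1.2.1 =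
      (UniversalCoprimeFactorizationRing.factor₂ m k hn p).1.map (φ : _ →+* S) := by
  simp [UniversalCoprimeFactorizationRing.homEquiv, UniversalFactorizationRing.homEquiv,
    UniversalCoprimeFactorizationRing.factor₂, MonicDegreeEq.map, Polynomial.map_map]
  rfl

end homEquiv

/-- Core statement: étale lifting of a coprime monic factorisation along `(A, I)`, which in
addition makes a prescribed element `u₀` (a unit modulo `I`) invertible; the lifted factors are
coprime. -/
theorem core' {A : Type u} [CommRing A] (I : Ideal A) (f : A[X])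
    (hf : f.Monic) (g h : (A ⧸ I)[X]) (hg : g.Monic) (hh : h.Monic) (hcop : IsCoprime g h)
    (hfgh : f.map (Ideal.Quotient.mk I) = g * h) (u₀ : A) (hu₀ : IsUnit (Ideal.Quotient.mk I u₀)) :
    ∃ (A' : Type u) (_ : CommRing A') (_ : Algebra A A'), Algebra.Etale A A' ∧
      IsUnit (algebraMap A A' u₀) ∧
      Function.Bijective (algebraMap (A ⧸ I) (A' ⧸ I.map (algebraMap A A'))) ∧
      ∃ g' h' : A'[X], g'.Monic ∧ h'.Monic ∧ f.map (algebraMap A A') = g' * h' ∧
        g'.map (Ideal.Quotient.mk (I.map (algebraMap A A'))) =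
          g.map (algebraMap (A ⧸ I) (A' ⧸ I.map (algebraMap A A'))) ∧
        h'.map (Ideal.Quotient.mk (I.map (algebraMap A A'))) =
          h.map (algebraMap (A ⧸ I) (A' ⧸ I.map (algebraMap A A'))) ∧ IsCoprime g' h' := by
  rcases subsingleton_or_nontrivial (A ⧸ I) with hsub | hnt
  · -- degenerate case `I = ⊤`
    have hI : I = ⊤ := Ideal.Quotient.subsingleton_iff.mp hsub
    have hsub' : Subsingleton (Localization.Away u₀ ⧸
        I.map (algebraMap A (Localization.Away u₀))) := by
      rw [Ideal.Quotient.subsingleton_iff, hI, Ideal.map_top]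
    have hsubP : Subsingleton (Localization.Away u₀ ⧸
        I.map (algebraMap A (Localization.Away u₀)))[X] :=
      Polynomial.subsingleton_iff_subsingleton.mpr hsub'
    refine ⟨Localization.Away u₀, inferInstance, inferInstance,
      Algebra.Etale.of_isLocalizationAway u₀, IsLocalization.Away.algebraMap_isUnit u₀,
      ⟨fun x y _ => Subsingleton.elim _ _, fun y => ⟨0, Subsingleton.elim _ _⟩⟩,
      f.map (algebraMap A _), 1, hf.map _, monic_one, (mul_one _).symm,
      Subsingleton.elim _ _, Subsingleton.elim _ _, isCoprime_one_right⟩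
  · set n := f.natDegree with hn_def
    set m := g.natDegree with hm_def
    set k := h.natDegree with hk_def
    have hn : n = m + k := by
      have := congrArg Polynomial.natDegree hfgh
      rwa [hf.natDegree_map, hg.natDegree_mul hh] at this
    let p : MonicDegreeEq A n := .mk f hf rfl
    let q : { q : MonicDegreeEq (A ⧸ I) m × MonicDegreeEq (A ⧸ I) k //
        q.1.1 * q.2.1 = p.1.map (algebraMap A (A ⧸ I)) ∧ IsCoprime q.1.1 q.2.1 } :=
      ⟨(.mk g hg rfl, .mk h hh rfl), hfgh.symm, hcop⟩
    let ψ : UniversalCoprimeFactorizationRing m k hn p →ₐ[A] A ⧸ I :=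
      (UniversalCoprimeFactorizationRing.homEquiv (A ⧸ I) m k hn p).symm q
    have hq : UniversalCoprimeFactorizationRing.homEquiv (A ⧸ I) m k hn p ψ = q :=
      Equiv.apply_symm_apply _ _
    have hψ1 : (UniversalCoprimeFactorizationRing.factor₁ m k hn p).1.map
        (ψ : _ →+* A ⧸ I) = g := by
      rw [← homEquiv_fst, hq]
      rfl
    have hψ2 : (UniversalCoprimeFactorizationRing.factor₂ m k hn p).1.map
        (ψ : _ →+* A ⧸ I) = h := by
      rw [← homEquiv_snd, hq]
      rfl
    -- invert `u₀`
    let c : UniversalCoprimeFactorizationRing m k hn p := algebraMap A _ u₀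
    have hc : IsUnit (ψ c) := by
      change IsUnit (ψ (algebraMap A _ u₀))
      rw [AlgHom.commutes, Ideal.Quotient.algebraMap_eq]
      exact hu₀
    let ψ₂ : Localization.Away c →ₐ[A] A ⧸ I := IsLocalization.Away.liftAlgHom c hc
    have hψ₂ : ∀ x, ψ₂ (algebraMap _ (Localization.Away c) x) = ψ x := fun x => by
      simp [ψ₂]
    obtain ⟨A', _, _, hA', hbij, γ, hγ⟩ :=
      Groth.Agent.Helper26.EtaleSection.exists_etale_of_section I ψ₂
    let α : UniversalCoprimeFactorizationRing m k hn p →ₐ[A] Localization.Away c :=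
      IsScalarTower.toAlgHom A _ _
    let δ : UniversalCoprimeFactorizationRing m k hn p →ₐ[A] A' := γ.comp α
    have hδalg : (δ : UniversalCoprimeFactorizationRing m k hn p →+* A').comp
        (algebraMap A (UniversalCoprimeFactorizationRing m k hn p)) =
        algebraMap A A' := δ.comp_algebraMap
    have hcomp : (Ideal.Quotient.mk (I.map (algebraMap A A'))).comp
        (δ : UniversalCoprimeFactorizationRing m k hn p →+* A') =
        (algebraMap (A ⧸ I) (A' ⧸ I.map (algebraMap A A'))).comp
          (ψ : UniversalCoprimeFactorizationRing m k hn p →+* A ⧸ I) := by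
      ext x
      simp only [RingHom.comp_apply]
      change Ideal.Quotient.mk _ (γ (α x)) = algebraMap (A ⧸ I) _ (ψ x)
      rw [hγ, ← hψ₂ x]
      rfl
    refine ⟨A', inferInstance, inferInstance, hA', ?_, hbij,
      (UniversalCoprimeFactorizationRing.factor₁ m k hn p).1.map
        (δ : UniversalCoprimeFactorizationRing m k hn p →+* A'),
      (UniversalCoprimeFactorizationRing.factor₂ m k hn p).1.map
        (δ : UniversalCoprimeFactorizationRing m k hn p →+* A'),
      (UniversalCoprimeFactorizationRing.factor₁ m k hn p).monic.map _,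
      (UniversalCoprimeFactorizationRing.factor₂ m k hn p).monic.map _, ?_, ?_, ?_, ?_⟩
    · have h1 : IsUnit (α c) := IsLocalization.Away.algebraMap_isUnit c
      have h2 : algebraMap A A' u₀ = γ (α c) := by
        rw [← hδalg]; rfl
      rw [h2]
      exact h1.map γ
    · rw [← Polynomial.map_mul, UniversalCoprimeFactorizationRing.factor₁_mul_factor₂,
        MonicDegreeEq.map_coe, Polynomial.map_map, hδalg]
      rfl
    · rw [Polynomial.map_map, hcomp, ← Polynomial.map_map, hψ1]
    · rw [Polynomial.map_map, hcomp, ← Polynomial.map_map, hψ2]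
    · exact (UniversalCoprimeFactorizationRing.isCoprime_factor₁_factor₂ m k hn p).map
        (Polynomial.mapRingHom (δ : UniversalCoprimeFactorizationRing m k hn p →+* A'))

/-- Core statement without the coprimality output. -/
theorem core {A : Type u} [CommRing A] (I : Ideal A) (f : A[X])
    (hf : f.Monic) (g h : (A ⧸ I)[X]) (hg : g.Monic) (hh : h.Monic) (hcop : IsCoprime g h)
    (hfgh : f.map (Ideal.Quotient.mk I) = g * h) (u₀ : A) (hu₀ : IsUnit (Ideal.Quotient.mk I u₀)) :
    ∃ (A' : Type u) (_ : CommRing A') (_ : Algebra A A'), Algebra.Etale A A' ∧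
      IsUnit (algebraMap A A' u₀) ∧
      Function.Bijective (algebraMap (A ⧸ I) (A' ⧸ I.map (algebraMap A A'))) ∧
      ∃ g' h' : A'[X], g'.Monic ∧ h'.Monic ∧ f.map (algebraMap A A') = g' * h' ∧
        g'.map (Ideal.Quotient.mk (I.map (algebraMap A A'))) =
          g.map (algebraMap (A ⧸ I) (A' ⧸ I.map (algebraMap A A'))) ∧
        h'.map (Ideal.Quotient.mk (I.map (algebraMap A A'))) =
          h.map (algebraMap (A ⧸ I) (A' ⧸ I.map (algebraMap A A'))) := by
  obtain ⟨A', _, _, h1, h2, h3, g', h', h4, h5, h6, h7, h8, -⟩ :=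
    core' I f hf g h hg hh hcop hfgh u₀ hu₀
  exact ⟨A', _, _, h1, h2, h3, g', h', h4, h5, h6, h7, h8⟩

open Polynomial in
/-- Let `I ⊆ A` be an ideal and `f ∈ A[X]` monic whose image in `(A/I)[X]` factors as a product of two
monic polynomials generating the unit ideal. Then over some étale `A`-algebra `A'` with `A/I →
A'/IA'` bijective, `f` factors as a product of two monic polynomials lifting the given factors. -/
theorem result {A : Type u} [CommRing A] (I : Ideal A) (f : A[X])
    (hf : f.Monic) (g h : (A ⧸ I)[X]) (hg : g.Monic) (hh : h.Monic) (hcop : IsCoprime g h)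
    (hfgh : f.map (Ideal.Quotient.mk I) = g * h) :
    ∃ (A' : Type u) (_ : CommRing A') (_ : Algebra A A'), Algebra.Etale A A' ∧
      Function.Bijective (algebraMap (A ⧸ I) (A' ⧸ I.map (algebraMap A A'))) ∧
      ∃ g' h' : A'[X], g'.Monic ∧ h'.Monic ∧ f.map (algebraMap A A') = g' * h' ∧
        g'.map (Ideal.Quotient.mk (I.map (algebraMap A A'))) =
          g.map (algebraMap (A ⧸ I) (A' ⧸ I.map (algebraMap A A'))) ∧
        h'.map (Ideal.Quotient.mk (I.map (algebraMap A A'))) =
          h.map (algebraMap (A ⧸ I) (A' ⧸ I.map (algebraMap A A'))) := by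
  obtain ⟨A', _, _, h1, -, h2, h3⟩ := core I f hf g h hg hh hcop hfgh 1 (by rw [map_one]; exact isUnit_one)
  exact ⟨A', _, _, h1, h2, h3⟩

end Groth.Agent.S2042
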