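import Groth.Statements.S2041
import Mathlib
import Groth.Agent.S2042

set_option autoImplicit false
universe u
open CAlg

namespace Groth.Agent.S2041

set_option linter.style.haveILetI false

open Polynomial TensorProduct

open TensorProduct in
/-- Let `I ⊆ A` be an ideal, `A → B` integral and `ē` an idempotent of `B/IB`. Then there is an étale
`A`-algebra `A'` with `A/I → A'/IA'` bijective and an idempotent of `A' ⊗ B` whose class modulo `I`
agrees with that of any lift of `ē`. -/
theorem result {A B : Type u} [CommRing A] [CommRing B] [Algebra A B]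
    [Algebra.IsIntegral A B] (I : Ideal A) (e : B ⧸ I.map (algebraMap A B)) (he : IsIdempotentElem e) :
    ∃ (A' : Type u) (_ : CommRing A') (_ : Algebra A A'), Algebra.Etale A A' ∧
      Function.Bijective (algebraMap (A ⧸ I) (A' ⧸ I.map (algebraMap A A'))) ∧
      ∃ e' : A' ⊗[A] B, IsIdempotentElem e' ∧
        ∀ b : B, Ideal.Quotient.mk (I.map (algebraMap A B)) b = e →
          e' - 1 ⊗ₜ b ∈ I.map (algebraMap A (A' ⊗[A] B)) := by
  rcases subsingleton_or_nontrivial A with hA | hA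
  · -- degenerate case: everything is the zero ring
    have hT : Subsingleton (A ⊗[A] B) := Module.subsingleton A _
    have hQ : Subsingleton (A ⧸ I.map (algebraMap A A)) :=
      Function.Surjective.subsingleton Ideal.Quotient.mk_surjective
    have hQ' : Subsingleton (A ⧸ I) :=
      Function.Surjective.subsingleton Ideal.Quotient.mk_surjective
    refine ⟨A, inferInstance, inferInstance, inferInstance,
      ⟨fun x y _ => Subsingleton.elim _ _, fun y => ⟨0, Subsingleton.elim _ _⟩⟩,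
      0, IsIdempotentElem.zero, fun b _ => ?_⟩
    rw [Subsingleton.elim ((0 : A ⊗[A] B) - 1 ⊗ₜ b) 0]
    exact Ideal.zero_mem _
  obtain ⟨b, rfl⟩ := Ideal.Quotient.mk_surjective e
  set IB := I.map (algebraMap A B) with hIB
  have hc : b * b - b ∈ IB := by
    rw [← Ideal.Quotient.eq_zero_iff_mem, map_sub, map_mul]
    exact sub_eq_zero.mpr he
  obtain ⟨P₀, hP₀monic, hP₀eval, hP₀coeff⟩ :=
    Polynomial.exists_monic_aeval_eq_zero_forall_mem_of_mem_map hc
  obtain ⟨P, hPdef⟩ : ∃ P : A[X], P = X * P₀ := ⟨_, rfl⟩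
  have hPmonic : P.Monic := by rw [hPdef]; exact monic_X.mul hP₀monic
  have hPeval : aeval (b * b - b) P = 0 := by rw [hPdef, map_mul, hP₀eval, mul_zero]
  obtain ⟨N, hNdef⟩ : ∃ N : ℕ, N = P₀.natDegree + 1 := ⟨_, rfl⟩
  have hPmap : P.map (Ideal.Quotient.mk I) = X ^ N := by
    have h0 : P₀.map (Ideal.Quotient.mk I) = X ^ P₀.natDegree := by
      ext i
      rw [coeff_map, coeff_X_pow]
      split_ifs with h
      · rw [h, hP₀monic.coeff_natDegree, map_one]
      · exact Ideal.Quotient.eq_zero_iff_mem.mpr (hP₀coeff i h)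
    rw [hPdef, Polynomial.map_mul, map_X, h0, hNdef, pow_succ']
  obtain ⟨Q, hQdef⟩ : ∃ Q : A[X], Q = X ^ 2 - X := ⟨_, rfl⟩
  have hQmonic : Q.Monic := by
    rw [hQdef]
    exact monic_X_pow_sub (lt_of_le_of_lt degree_X_le (by exact_mod_cast Nat.one_lt_two))
  have hQdeg : Q.natDegree ≠ 0 := by
    have : Q.natDegree = 2 := by
      rw [hQdef, natDegree_sub_eq_left_of_natDegree_lt (by rw [natDegree_X_pow, natDegree_X]; norm_num),
        natDegree_X_pow]
    rw [this]; norm_num
  obtain ⟨F, hFdef⟩ : ∃ F : A[X], F = P.comp Q := ⟨_, rfl⟩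
  have hFmonic : F.Monic := by rw [hFdef]; exact hPmonic.comp hQmonic hQdeg
  have hFeval : aeval b F = 0 := by
    rw [hFdef, aeval_comp]
    have : aeval b Q = b * b - b := by rw [hQdef]; simp [pow_two]
    rw [this, hPeval]
  have hFmap : F.map (Ideal.Quotient.mk I) = X ^ N * (X - C 1) ^ N := by
    rw [hFdef, Polynomial.map_comp, hPmap, X_pow_comp, hQdef, ← mul_pow]
    congr 1
    simp only [Polynomial.map_sub, Polynomial.map_pow, map_X, map_one]
    ring
  have hcop0 : IsCoprime (X ^ N : (A ⧸ I)[X]) ((X - C 1) ^ N) := by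
    apply IsCoprime.pow
    exact ⟨1, -1, by simp⟩
  obtain ⟨A', _, _, hA', -, hbij, G, H, -, -, hfac, hG, hH, hGH⟩ :=
    Groth.Agent.S2042.core' I F hFmonic (X ^ N) ((X - C 1) ^ N) (monic_X_pow N)
      ((monic_X_sub_C 1).pow N) hcop0 hFmap 1 (by rw [map_one]; exact isUnit_one)
  refine ⟨A', inferInstance, inferInstance, hA', hbij, ?_⟩
  -- work in `T = A' ⊗ B`
  set IT := I.map (algebraMap A (A' ⊗[A] B)) with hIT
  set IA' := I.map (algebraMap A A') with hIA'
  obtain ⟨b', hb'def⟩ : ∃ b' : A' ⊗[A] B, b' = (1 : A') ⊗ₜ[A] b := ⟨_, rfl⟩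
  have hFb' : aeval b' (F.map (algebraMap A A')) = 0 := by
    rw [aeval_map_algebraMap]
    have : b' = (Algebra.TensorProduct.includeRight : B →ₐ[A] A' ⊗[A] B) b := hb'def
    rw [this, aeval_algHom_apply, hFeval, map_zero]
  obtain ⟨u, v, huv⟩ := hGH
  obtain ⟨e', he'def⟩ : ∃ e' : A' ⊗[A] B, e' = aeval b' (u * G) := ⟨_, rfl⟩
  obtain ⟨w, hwdef⟩ : ∃ w : A' ⊗[A] B, w = aeval b' (v * H) := ⟨_, rfl⟩
  have h1 : e' + w = 1 := by rw [he'def, hwdef, ← map_add, huv, map_one]
  have h2 : e' * w = 0 := by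
    rw [he'def, hwdef, ← map_mul]
    have : u * G * (v * H) = u * v * (G * H) := by ring
    rw [this, ← hfac, map_mul, hFb', mul_zero]
  have hidem : IsIdempotentElem e' := by
    change e' * e' = e'
    have h3 : w = 1 - e' := by rw [← h1]; ring
    rw [h3] at h2
    linear_combination (-1 : A' ⊗[A] B) * h2
  -- reduction modulo `I`
  have hIBT : ∀ y ∈ IB, (1 : A') ⊗ₜ[A] y ∈ IT := by
    intro y hy
    have hle : IB.map (Algebra.TensorProduct.includeRight : B →ₐ[A] A' ⊗[A] B).toRingHom ≤ IT := by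
      rw [hIB, Ideal.map_map, hIT]
      apply le_of_eq
      congr 1
      exact (Algebra.TensorProduct.includeRight : B →ₐ[A] A' ⊗[A] B).comp_algebraMap
    exact hle (Ideal.mem_map_of_mem _ hy)
  have hIA'T : IA' ≤ IT.comap (algebraMap A' (A' ⊗[A] B)) := by
    rw [← Ideal.map_le_iff_le_comap, hIA', Ideal.map_map, ← IsScalarTower.algebraMap_eq]
  let φb : A' ⧸ IA' →+* (A' ⊗[A] B) ⧸ IT :=
    Ideal.quotientMap IT (algebraMap A' (A' ⊗[A] B)) hIA'T
  have hφb : φb.comp (Ideal.Quotient.mk IA') =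
      (Ideal.Quotient.mk IT).comp (algebraMap A' (A' ⊗[A] B)) := by
    ext x; rfl
  obtain ⟨β, hβdef⟩ : ∃ β : (A' ⊗[A] B) ⧸ IT, β = Ideal.Quotient.mk IT b' := ⟨_, rfl⟩
  have heval : ∀ p : A'[X], Ideal.Quotient.mk IT (aeval b' p) =
      eval₂ φb β (p.map (Ideal.Quotient.mk IA')) := by
    intro p
    rw [eval₂_map, hφb, aeval_def, hom_eval₂, hβdef]
  have hββ : β * β = β := by
    rw [hβdef, ← map_mul, ← sub_eq_zero, ← map_sub, Ideal.Quotient.eq_zero_iff_mem]
    have : b' * b' - b' = (1 : A') ⊗ₜ[A] (b * b - b) := by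
      rw [hb'def, Algebra.TensorProduct.tmul_mul_tmul, mul_one, ← TensorProduct.tmul_sub]
    rw [this]
    exact hIBT _ hc
  have hβN : β ^ N = β := by
    rw [hNdef]
    exact IsIdempotentElem.pow_succ_eq _ hββ
  have hGβ : Ideal.Quotient.mk IT (aeval b' G) = β := by
    rw [heval, hG]
    simp only [Polynomial.map_pow, map_X, eval₂_pow, eval₂_X]
    exact hβN
  have hHβ : Ideal.Quotient.mk IT (aeval b' H) = (β - 1) ^ N := by
    rw [heval, hH]
    simp only [Polynomial.map_pow, Polynomial.map_sub, map_X, map_one, eval₂_pow,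
      eval₂_sub, eval₂_X, Polynomial.map_one, eval₂_one]
  have he'β : Ideal.Quotient.mk IT e' = β := by
    have hx : Ideal.Quotient.mk IT e' = Ideal.Quotient.mk IT (aeval b' u) * β := by
      rw [he'def, map_mul, map_mul, hGβ]
    have hy : Ideal.Quotient.mk IT w = Ideal.Quotient.mk IT (aeval b' v) * (β - 1) ^ N := by
      rw [hwdef, map_mul, map_mul, hHβ]
    have h1' : Ideal.Quotient.mk IT e' + Ideal.Quotient.mk IT w = 1 := by
      rw [← map_add, h1, map_one]
    have hz1 : Ideal.Quotient.mk IT e' * (1 - β) = 0 := by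
      rw [hx]
      linear_combination (-(Ideal.Quotient.mk IT (aeval b' u))) * hββ
    have hz2 : Ideal.Quotient.mk IT w * β = 0 := by
      rw [hy, hNdef, pow_succ]
      linear_combination
        (Ideal.Quotient.mk IT (aeval b' v) * (β - 1) ^ P₀.natDegree) * hββ
    have hw' : Ideal.Quotient.mk IT w = 1 - Ideal.Quotient.mk IT e' := by
      rw [← h1']; ring
    rw [hw'] at hz2
    linear_combination hz1 - hz2
  refine ⟨e', hidem, fun b₂ hb₂ => ?_⟩
  rw [← Ideal.Quotient.eq, he'β, hβdef, hb'def, Ideal.Quotient.eq, ← TensorProduct.tmul_sub]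
  exact hIBT _ (Ideal.Quotient.eq.mp hb₂.symm)

end Groth.Agent.S2041
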