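import Groth.Statements.S0521
import Mathlib
import Groth.Agent.Lib.Helper26.HensPair2
import Groth.Agent.S2041
import Groth.Agent.S17968

set_option autoImplicit false
universe u
open Hensel

namespace Groth.Agent.S0521

open TensorProduct in
/-- Forward direction, for integral algebras. -/
theorem fwd {A : Type u} [CommRing A] {I : Ideal A} (hH : HenselianRing A I) (B : Type u)
    [CommRing B] [Algebra A B] [Algebra.IsIntegral A B] :
    Set.BijOn (Ideal.Quotient.mk (Ideal.map (algebraMap A B) I))
      {e : B | IsIdempotentElem e} {e | IsIdempotentElem e} := by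
  have hjacB : I.map (algebraMap A B) ≤ Ideal.jacobson ⊥ := by
    rw [Ideal.jacobson]
    refine le_sInf ?_
    rintro J ⟨-, hJ⟩
    rw [Ideal.map_le_iff_le_comap]
    have : (J.comap (algebraMap A B)).IsMaximal :=
      Ideal.isMaximal_comap_of_isIntegral_of_isMaximal (R := A) J
    exact hH.jac.trans (sInf_le ⟨bot_le, this⟩)
  refine ⟨?_, ?_, ?_⟩
  · intro e he
    exact he.map (Ideal.Quotient.mk _)
  · intro e₁ h₁ e₂ h₂ h12
    have hd : e₁ - e₂ ∈ I.map (algebraMap A B) := Ideal.Quotient.eq.mp h12
    have hu : IsUnit (1 - (e₁ - e₂) ^ 2) := by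
      have := Ideal.mem_jacobson_bot.mp (hjacB hd) (-(e₁ - e₂))
      convert this using 1; ring
    have h3 : (e₁ - e₂) * (1 - (e₁ - e₂) ^ 2) = 0 := by
      have a1 : e₁ * e₁ = e₁ := h₁
      have a2 : e₂ * e₂ = e₂ := h₂
      linear_combination (-(e₁ + 1 - 3 * e₂)) * a1 + (-(3 * e₁ - e₂ - 1)) * a2
    exact sub_eq_zero.mp ((IsUnit.mul_left_eq_zero hu).mp h3)
  · intro ē hē
    obtain ⟨A', _, _, hA', hbij, e', he', hcomp⟩ := Groth.Agent.S2041.result I ē hē
    have := hA'
    obtain ⟨τ, -⟩ := Groth.Agent.Helper26.HensPair.exists_retraction I hH hbij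
    let φ : A' ⊗[A] B →ₐ[A] B :=
      Algebra.TensorProduct.productMap ((Algebra.ofId A B).comp τ) (AlgHom.id A B)
    obtain ⟨b, hb⟩ := Ideal.Quotient.mk_surjective ē
    refine ⟨φ e', he'.map φ, ?_⟩
    have h1 := hcomp b hb
    have h2 : φ (e' - 1 ⊗ₜ b) ∈ I.map (algebraMap A B) := by
      have := Ideal.mem_map_of_mem (φ : A' ⊗[A] B →+* B) h1
      rwa [Ideal.map_map, φ.comp_algebraMap] at this
    rw [map_sub, Algebra.TensorProduct.productMap_apply_tmul, map_one, one_mul] at h2
    rw [← hb]
    exact Ideal.Quotient.eq.mpr h2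

/-- Backward direction, using only finite algebras. -/
theorem bwd {A : Type u} [CommRing A] {I : Ideal A}
    (H : ∀ (B : Type u) [CommRing B] [Algebra A B], Module.Finite A B →
      Set.BijOn (Ideal.Quotient.mk (Ideal.map (algebraMap A B) I))
        {e : B | IsIdempotentElem e} {e | IsIdempotentElem e}) :
    HenselianRing A I := by
  have hjac : I ≤ Ideal.jacobson ⊥ := by
    intro x hx
    rw [Ideal.mem_jacobson_bot]
    intro y
    obtain ⟨s, hs⟩ : ∃ s : A, s = x * y + 1 := ⟨_, rfl⟩
    rw [← hs]
    have hfin : Module.Finite A (A ⧸ Ideal.span {s}) :=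
      Module.Finite.of_surjective (Ideal.Quotient.mkₐ A _).toLinearMap
        (Ideal.Quotient.mkₐ_surjective A _)
    have hB := H (A ⧸ Ideal.span {s}) hfin
    have h01 : Ideal.Quotient.mk (Ideal.map (algebraMap A (A ⧸ Ideal.span {s})) I)
        (0 : A ⧸ Ideal.span {s}) = Ideal.Quotient.mk _ 1 := by
      rw [eq_comm, Ideal.Quotient.eq, sub_zero]
      have h1 : (1 : A ⧸ Ideal.span {s}) = algebraMap A _ (-(x * y)) := by
        have hs0 : algebraMap A (A ⧸ Ideal.span {s}) s = 0 :=
          Ideal.Quotient.eq_zero_iff_mem.mpr (Ideal.mem_span_singleton_self s)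
        have hs0' : algebraMap A (A ⧸ Ideal.span {s}) (x * y) + 1 = 0 := by
          rw [← map_one (algebraMap A (A ⧸ Ideal.span {s})), ← map_add, ← hs]; exact hs0
        rw [map_neg]
        exact eq_neg_of_add_eq_zero_right hs0'
      rw [h1]
      exact Ideal.mem_map_of_mem _ (neg_mem (I.mul_mem_right y hx))
    have h0 : (0 : A ⧸ Ideal.span {s}) = 1 :=
      hB.injOn IsIdempotentElem.zero IsIdempotentElem.one h01
    have : (1 : A) ∈ Ideal.span {s} := by
      rw [← Ideal.Quotient.eq_zero_iff_mem, map_one]; exact h0.symm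
    exact Ideal.span_singleton_eq_top.mp ((Ideal.eq_top_iff_one _).mpr this)
  refine Groth.Agent.S17968.result A I hjac ?_
  intro m p hp _
  have hfin : Module.Finite A (AdjoinRoot p) := hp.finite_adjoinRoot
  exact (H (AdjoinRoot p) hfin).surjOn

/-- `A` is Henselian at `I` exactly when, for every `A`-algebra `B` finitely generated as an `A`-module,
reduction modulo `IB` is a bijection from the idempotents of `B` to the idempotents of `B/IB`. -/
theorem result (A : Type u) [CommRing A] (I : Ideal A) :
    HenselianRing A I ↔ ∀ (B : Type u) [CommRing B] [Algebra A B], Module.Finite A B →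
      Set.BijOn (Ideal.Quotient.mk (Ideal.map (algebraMap A B) I))
        {e : B | IsIdempotentElem e} {e | IsIdempotentElem e} := by
  constructor
  · intro hH B _ _ hfin
    have : Algebra.IsIntegral A B := Algebra.IsIntegral.of_finite A B
    exact fwd hH B
  · exact bwd

end Groth.Agent.S0521
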