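import Groth.Statements.S9436
import Mathlib

set_option autoImplicit false
universe u
open CAlg

namespace Groth.Agent.S9436

open TensorProduct in
/-- Étale algebras lift along surjections: for an ideal I of R and an étale (R/I)-algebra S̄ there is an
étale R-algebra S with (R/I) ⊗_R S ≅ S̄ over R/I. -/
theorem result (R : Type u) [CommRing R] (I : Ideal R) (Sb : Type u)
    [CommRing Sb] [Algebra (R ⧸ I) Sb] [Algebra.Etale (R ⧸ I) Sb] :
    ∃ (S : Type u) (_ : CommRing S) (_ : Algebra R S), Algebra.Etale R S ∧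
      Nonempty (((R ⧸ I) ⊗[R] S) ≃ₐ[R ⧸ I] Sb) := by
  classical
  -- a submersive presentation of relative dimension zero
  obtain ⟨ι, σ, hσ, hι, P, hP⟩ :=
    (Algebra.Etale.iff_isStandardSmoothOfRelativeDimension_zero (R := R ⧸ I) (S := Sb)).mp
      inferInstance |>.out
  -- lift the relations
  have hlift : ∀ j : σ, ∃ w : MvPolynomial ι R,
      MvPolynomial.map (Ideal.Quotient.mk I) w = P.relation j := fun j =>
    MvPolynomial.map_surjective _ Ideal.Quotient.mk_surjective _
  choose v hv using hlift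
  let S₀ := MvPolynomial ι R ⧸ (Ideal.span <| Set.range v)
  let P₀ : Algebra.PreSubmersivePresentation R S₀ ι σ :=
    Algebra.PreSubmersivePresentation.naive P.map P.map_inj
  let Δ₀ : S₀ := P₀.jacobian
  let S := Localization.Away Δ₀
  let Q : Algebra.PreSubmersivePresentation S₀ S Unit Unit :=
    Algebra.PreSubmersivePresentation.localizationAway S Δ₀
  let PP : Algebra.PreSubmersivePresentation R S (Unit ⊕ ι) (Unit ⊕ σ) := Q.comp P₀
  have hunit : IsUnit PP.jacobian := by
    rw [Algebra.PreSubmersivePresentation.comp_jacobian_eq_jacobian_smul_jacobian,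
      Algebra.PreSubmersivePresentation.localizationAway_jacobian, Algebra.smul_def]
    exact (IsLocalization.Away.algebraMap_isUnit Δ₀).mul (IsLocalization.Away.algebraMap_isUnit Δ₀)
  let PS : Algebra.SubmersivePresentation R S (Unit ⊕ ι) (Unit ⊕ σ) := ⟨PP, hunit⟩
  have hdim : PS.dimension = 0 := by
    have h1 := Algebra.PreSubmersivePresentation.dimension_comp_eq_dimension_add_dimension Q P₀
    have h2 : Q.dimension = 0 := Algebra.Presentation.localizationAway_dimension_zero Δ₀
    have h3 : P₀.dimension = P.dimension := rfl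
    show PP.dimension = 0
    rw [h1, h2, h3, hP]
  have hEt : Algebra.Etale R S :=
    Algebra.Etale.iff_isStandardSmoothOfRelativeDimension_zero.mpr
      (PS.isStandardSmoothOfRelativeDimension hdim)
  refine ⟨S, inferInstance, inferInstance, hEt, ?_⟩
  -- the R-algebra structure on Sb
  let _ : Algebra R Sb := ((algebraMap (R ⧸ I) Sb).comp (algebraMap R (R ⧸ I))).toAlgebra
  have : IsScalarTower R (R ⧸ I) Sb := IsScalarTower.of_algebraMap_eq (fun _ => rfl)
  let J : Ideal (MvPolynomial ι R) := Ideal.span (Set.range v)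
  have haev : ∀ p : MvPolynomial ι R, MvPolynomial.aeval (R := R) P.val p =
      MvPolynomial.aeval (R := R ⧸ I) P.val (MvPolynomial.map (Ideal.Quotient.mk I) p) := by
    intro p
    exact (MvPolynomial.aeval_map_algebraMap (R ⧸ I) P.val p).symm
  have hJ : ∀ a ∈ J, (MvPolynomial.aeval (R := R) P.val) a = 0 := by
    intro a ha
    have : J ≤ RingHom.ker (MvPolynomial.aeval (R := R) P.val) := by
      rw [Ideal.span_le]
      rintro _ ⟨j, rfl⟩
      rw [SetLike.mem_coe, RingHom.mem_ker, haev, hv, P.aeval_val_relation]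
    exact this ha
  let ψ₀ : S₀ →ₐ[R] Sb := Ideal.Quotient.liftₐ J (MvPolynomial.aeval P.val) hJ
  have hψ₀ : ∀ p : MvPolynomial ι R, ψ₀ (Ideal.Quotient.mk J p) = MvPolynomial.aeval P.val p :=
    fun p => rfl
  have hΔ : ψ₀ Δ₀ = P.jacobian := by
    cases nonempty_fintype σ
    have e1 : Δ₀ = Ideal.Quotient.mk J P₀.jacobiMatrix.det :=
      P₀.jacobian_eq_jacobiMatrix_det
    have e2 : P.jacobiMatrix = (MvPolynomial.map (Ideal.Quotient.mk I)).mapMatrix P₀.jacobiMatrix := by
      ext i j : 1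
      rw [Algebra.PreSubmersivePresentation.jacobiMatrix_apply, RingHom.mapMatrix_apply,
        Matrix.map_apply, Algebra.PreSubmersivePresentation.jacobiMatrix_naive, ← hv,
        MvPolynomial.pderiv_map]
    rw [e1, hψ₀, haev, RingHom.map_det, ← e2, P.jacobian_eq_jacobiMatrix_det,
      Algebra.Generators.algebraMap_apply]
  have hψunit : IsUnit (ψ₀ Δ₀) := by rw [hΔ]; exact P.jacobian_isUnit
  let ψ : S →ₐ[R] Sb := IsLocalization.Away.liftAlgHom (A := R) Δ₀ (f := ψ₀) hψunit
  have hψ : ∀ x : S₀, ψ (algebraMap S₀ S x) = ψ₀ x := fun x =>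
    IsLocalization.Away.lift_eq Δ₀ hψunit x
  let F : (R ⧸ I) ⊗[R] S →ₐ[R ⧸ I] Sb :=
    Algebra.TensorProduct.lift (Algebra.ofId (R ⧸ I) Sb) ψ (fun _ _ => Commute.all _ _)
  let gen : ι → (R ⧸ I) ⊗[R] S := fun i =>
    (1 : R ⧸ I) ⊗ₜ[R] (algebraMap S₀ S (Ideal.Quotient.mk J (MvPolynomial.X i)))
  let G₀ : MvPolynomial ι (R ⧸ I) →ₐ[R ⧸ I] (R ⧸ I) ⊗[R] S := MvPolynomial.aeval gen
  let aevalP : MvPolynomial ι (R ⧸ I) →ₐ[R ⧸ I] Sb := MvPolynomial.aeval P.val
  have hsurj : Function.Surjective aevalP := P.aeval_val_surjective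
  have hG₀ : ∀ p : MvPolynomial ι R, G₀ (MvPolynomial.map (Ideal.Quotient.mk I) p) =
      (1 : R ⧸ I) ⊗ₜ[R] (algebraMap S₀ S (Ideal.Quotient.mk J p)) := by
    intro p
    have h1 : G₀ (MvPolynomial.map (Ideal.Quotient.mk I) p) = MvPolynomial.aeval (R := R) gen p :=
      MvPolynomial.aeval_map_algebraMap (R ⧸ I) gen p
    let φ : MvPolynomial ι R →ₐ[R] (R ⧸ I) ⊗[R] S :=
      (Algebra.TensorProduct.includeRight).comp
        ((IsScalarTower.toAlgHom R S₀ S).comp (Ideal.Quotient.mkₐ R J))
    have h2 : φ = MvPolynomial.aeval (R := R) gen := by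
      apply MvPolynomial.algHom_ext
      intro i
      rw [MvPolynomial.aeval_X]
      rfl
    rw [h1, ← h2]
    rfl
  have hker : RingHom.ker aevalP.toRingHom ≤ RingHom.ker G₀.toRingHom := by
    have : RingHom.ker aevalP.toRingHom = Ideal.span (Set.range P.relation) := by
      rw [P.span_range_relation_eq_ker, P.ker_eq_ker_aeval_val]
      rfl
    rw [this, Ideal.span_le]
    rintro _ ⟨j, rfl⟩
    rw [SetLike.mem_coe, RingHom.mem_ker]
    show G₀ (P.relation j) = 0
    rw [← hv, hG₀]
    have : Ideal.Quotient.mk J (v j) = 0 :=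
      Ideal.Quotient.eq_zero_iff_mem.mpr (Ideal.subset_span ⟨j, rfl⟩)
    rw [this, map_zero, TensorProduct.tmul_zero]
  let Gm : Sb →ₐ[R ⧸ I] (R ⧸ I) ⊗[R] S := AlgHom.liftOfSurjective aevalP hsurj G₀ hker
  have hGm : ∀ p, Gm (aevalP p) = G₀ p := fun p =>
    AlgHom.liftOfSurjective_apply aevalP hsurj G₀ hker p
  have hFgen : ∀ i, F (gen i) = P.val i := by
    intro i
    simp only [F, gen, Algebra.TensorProduct.lift_tmul, map_one, one_mul, hψ, hψ₀,
      MvPolynomial.aeval_X]
  have h1 : F.comp Gm = AlgHom.id (R ⧸ I) Sb := by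
    apply AlgHom.ext
    intro x
    obtain ⟨p, rfl⟩ := hsurj x
    have : (F.comp G₀) = aevalP := by
      apply MvPolynomial.algHom_ext
      intro i
      simp only [AlgHom.comp_apply, G₀, aevalP, MvPolynomial.aeval_X, hFgen]
    rw [AlgHom.comp_apply, hGm, ← AlgHom.comp_apply, this]
    rfl
  have hGmval : ∀ i, Gm (P.val i) = gen i := by
    intro i
    have := hGm (MvPolynomial.X i)
    simpa only [aevalP, G₀, MvPolynomial.aeval_X] using this
  have h2 : Gm.comp F = AlgHom.id (R ⧸ I) ((R ⧸ I) ⊗[R] S) := by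
    apply Algebra.TensorProduct.ext
    · exact AlgHom.ext fun x => (AlgHom.commutes _ x).trans (AlgHom.commutes _ x).symm
    · apply IsLocalization.algHom_ext (Submonoid.powers Δ₀)
      apply Ideal.Quotient.algHom_ext
      apply MvPolynomial.algHom_ext
      intro i
      simp only [AlgHom.comp_apply, AlgHom.restrictScalars_apply,
        Ideal.Quotient.mkₐ_eq_mk, Algebra.TensorProduct.includeRight_apply, AlgHom.id_apply]
      show Gm (F (gen i)) = gen i
      rw [hFgen, hGmval]
  exact ⟨AlgEquiv.ofAlgHom F Gm h1 h2⟩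

end Groth.Agent.S9436
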