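import Groth.Statements.S5754
import Mathlib

set_option autoImplicit false
universe u
open EGA41

namespace Groth.Agent.S5754

/-- Let A be a Noetherian ring, M a finitely generated A-module and t an element of A which is
M-regular. For every associated prime p of M, every prime ideal minimal among those containing p +
tA is an associated prime of M/tM. -/
theorem result (A : Type u) [CommRing A]
    [IsNoetherianRing A] (M : Type u) [AddCommGroup M] [Module A M] [Module.Finite A M] (t : A)
    (ht : IsSMulRegular M t) (p : Ideal A) (hp : p ∈ associatedPrimes A M) (q : Ideal A)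
    (hq : q ∈ (p ⊔ Ideal.span {t}).minimalPrimes) : q ∈ associatedPrimes A (QuotSMulTop t M) := by
  classical
  open scoped Pointwise in
  obtain ⟨hprime, x, hann⟩ := (isAssociatedPrime_iff).mp hp
  let N : Submodule A M := Submodule.torsionBySet A M p
  have hxN : x ∈ N := by
    rw [Submodule.mem_torsionBySet_iff]
    intro a
    have : (a : A) ∈ (⊥ : Submodule A M).colon {x} := hann ▸ a.2
    simpa [Submodule.mem_colon_singleton] using this
  have hannN : Module.annihilator A N = p := by
    ext a
    rw [Module.mem_annihilator]
    constructor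
    · intro h
      have h1 := h ⟨x, hxN⟩
      rw [hann, Submodule.mem_colon_singleton]
      have h2 : a • x = 0 := by simpa using congrArg Subtype.val h1
      simp [h2]
    · intro ha n
      ext
      exact (Submodule.mem_torsionBySet_iff (R := A) (M := M) (s := (p : Set A)) n.1).mp n.2 ⟨a, ha⟩
  let φ : QuotSMulTop t N →ₗ[A] QuotSMulTop t M := QuotSMulTop.map t N.subtype
  have hφ : Function.Injective φ := by
    rw [← LinearMap.ker_eq_bot, LinearMap.ker_eq_bot']
    intro y hy
    obtain ⟨n, rfl⟩ := Submodule.Quotient.mk_surjective _ y
    have h1 : Submodule.Quotient.mk (p := (t • ⊤ : Submodule A M)) (n : M) = 0 := hy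
    rw [Submodule.Quotient.mk_eq_zero] at h1
    obtain ⟨m, -, hm⟩ := h1
    have hm' : t • m = (n : M) := hm
    have hmN : m ∈ N := by
      rw [Submodule.mem_torsionBySet_iff]
      intro a
      apply ht
      show t • ((a : A) • m) = t • 0
      rw [smul_zero, smul_comm, hm']
      exact (Submodule.mem_torsionBySet_iff (R := A) (M := M) (s := (p : Set A)) n.1).mp n.2 a
    rw [Submodule.Quotient.mk_eq_zero]
    refine ⟨⟨m, hmN⟩, trivial, ?_⟩
    ext
    exact hm'
  have hzl : PrimeSpectrum.zeroLocus (Module.annihilator A (QuotSMulTop t N) : Set A) =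
      PrimeSpectrum.zeroLocus ((p ⊔ Ideal.span {t} : Ideal A) : Set A) := by
    rw [← Module.support_eq_zeroLocus, Module.support_quotSMulTop, Module.support_eq_zeroLocus,
      hannN, PrimeSpectrum.zeroLocus_sup, PrimeSpectrum.zeroLocus_span]
  have hrad : (Module.annihilator A (QuotSMulTop t N)).radical = (p ⊔ Ideal.span {t}).radical := by
    rw [← PrimeSpectrum.vanishingIdeal_zeroLocus_eq_radical,
      ← PrimeSpectrum.vanishingIdeal_zeroLocus_eq_radical, hzl]
  have hq' : q ∈ (Module.annihilator A (QuotSMulTop t N)).minimalPrimes := by
    rw [← Ideal.radical_minimalPrimes, hrad, Ideal.radical_minimalPrimes]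
    exact hq
  exact associatedPrimes.subset_of_injective hφ
    (Module.associatedPrimes.minimalPrimes_annihilator_subset_associatedPrimes (R := A) (M := QuotSMulTop t N) hq')

end Groth.Agent.S5754
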