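import Groth.Statements.S0533
import Mathlib
import Groth.Agent.Lib.Helper26.HensPair
import Groth.Agent.S0526

set_option autoImplicit false
universe u
open Hensel

namespace Groth.Agent.S0533

open TensorProduct in
/-- Algebra maps out of `(A/I) ⊗ B₁` are determined by their values on `1 ⊗ b`. -/
theorem algHom_ext_one_tmul {A : Type u} [CommRing A] (I : Ideal A) {B₁ X : Type u} [CommRing B₁]
    [Algebra A B₁] [CommRing X] [Algebra (A ⧸ I) X]
    (f g : (A ⧸ I) ⊗[A] B₁ →ₐ[A ⧸ I] X) (h : ∀ b : B₁, f (1 ⊗ₜ b) = g (1 ⊗ₜ b)) : f = g := by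
  refine AlgHom.ext fun z => ?_
  induction z using TensorProduct.induction_on with
  | zero => simp
  | tmul x b =>
    have : x ⊗ₜ[A] b = x • ((1 : A ⧸ I) ⊗ₜ[A] b) := by
      rw [TensorProduct.smul_tmul', smul_eq_mul, mul_one]
    rw [this, map_smul, map_smul, h]
  | add x y hx hy => rw [map_add, map_add, hx, hy]

theorem map_le_jacobson {A : Type u} [CommRing A] {I : Ideal A} (hI : I ≤ Ideal.jacobson ⊥)
    (B : Type u) [CommRing B] [Algebra A B] [Algebra.IsIntegral A B] :
    I.map (algebraMap A B) ≤ Ideal.jacobson ⊥ := by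
  rw [Ideal.jacobson]
  refine le_sInf ?_
  rintro J ⟨-, hJ⟩
  rw [Ideal.map_le_iff_le_comap]
  have : (J.comap (algebraMap A B)).IsMaximal :=
    Ideal.isMaximal_comap_of_isIntegral_of_isMaximal (R := A) J
  exact hI.trans (sInf_le ⟨bot_le, this⟩)

open TensorProduct in
/-- Two maps from an étale algebra to an integral algebra that agree modulo an ideal in the
Jacobson radical are equal. -/
theorem inj_aux {A : Type u} [CommRing A] (I : Ideal A) (hI : I ≤ Ideal.jacobson ⊥)
    (B₁ B₂ : Type u) [CommRing B₁] [CommRing B₂] [Algebra A B₁] [Algebra A B₂]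
    [Algebra.Etale A B₁] [Algebra.IsIntegral A B₂] (φ₁ φ₂ : B₁ →ₐ[A] B₂)
    (h : ∀ b, φ₁ b - φ₂ b ∈ I.map (algebraMap A B₂)) : φ₁ = φ₂ := by
  have hjac := map_le_jacobson hI B₂
  let Φ : B₁ ⊗[A] B₁ →ₐ[A] B₂ := Algebra.TensorProduct.productMap φ₁ φ₂
  have hΦ : ∀ a b, Φ (a ⊗ₜ b) = φ₁ a * φ₂ b := fun a b =>
    Algebra.TensorProduct.productMap_apply_tmul _ _ _ _
  have h1 : ∀ s, (φ₂ s - φ₁ s) * Φ (Algebra.FormallyUnramified.elem A B₁) = 0 := by
    intro s
    have := congrArg Φ
      (Algebra.FormallyUnramified.one_tmul_sub_tmul_one_mul_elem (R := A) (S := B₁) s)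
    rw [map_mul, map_sub, map_zero, hΦ, hΦ, map_one, map_one, one_mul, mul_one] at this
    exact this
  have h2 : ∀ x : B₁ ⊗[A] B₁,
      Φ x - φ₁ (Algebra.TensorProduct.lmul' A x) ∈ I.map (algebraMap A B₂) := by
    intro x
    induction x using TensorProduct.induction_on with
    | zero => simp
    | tmul a b =>
      have : Φ (a ⊗ₜ b) - φ₁ (Algebra.TensorProduct.lmul' A (a ⊗ₜ[A] b)) =
          φ₁ a * -(φ₁ b - φ₂ b) := by
        rw [hΦ, Algebra.TensorProduct.lmul'_apply_tmul, map_mul]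
        ring
      rw [this]
      exact Ideal.mul_mem_left _ _ (neg_mem (h b))
    | add x y hx hy =>
      have : Φ (x + y) - φ₁ (Algebra.TensorProduct.lmul' A (x + y)) =
          (Φ x - φ₁ (Algebra.TensorProduct.lmul' A x)) +
            (Φ y - φ₁ (Algebra.TensorProduct.lmul' A y)) := by
        simp only [map_add]; ring
      rw [this]; exact Ideal.add_mem _ hx hy
  have h3 : Φ (Algebra.FormallyUnramified.elem A B₁) - 1 ∈ I.map (algebraMap A B₂) := by
    have := h2 (Algebra.FormallyUnramified.elem A B₁)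
    rwa [Algebra.FormallyUnramified.lmul_elem, map_one] at this
  have hu : IsUnit (Φ (Algebra.FormallyUnramified.elem A B₁)) := by
    have := Ideal.mem_jacobson_bot.mp (hjac h3) 1
    rwa [mul_one, sub_add_cancel] at this
  refine AlgHom.ext fun s => ?_
  have := (IsUnit.mul_left_eq_zero hu).mp (h1 s)
  exact (sub_eq_zero.mp this).symm

open TensorProduct in
/-- If `A` is Henselian at `I`, base change to `A/I` gives a bijection between `A`-algebra maps of two
finite étale `A`-algebras and `A/I`-algebra maps of their reductions. -/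
theorem result (A : Type u) [CommRing A] (I : Ideal A) [HenselianRing A I]
    (B₁ B₂ : Type u) [CommRing B₁] [CommRing B₂] [Algebra A B₁] [Algebra A B₂]
    [Module.Finite A B₁] [Algebra.Etale A B₁] [Module.Finite A B₂] [Algebra.Etale A B₂] :
    Function.Bijective (fun φ : B₁ →ₐ[A] B₂ =>
      Algebra.TensorProduct.map (AlgHom.id (A ⧸ I) (A ⧸ I)) φ) := by
  have hH : HenselianRing A I := inferInstance
  have : Algebra.IsIntegral A B₂ := Algebra.IsIntegral.of_finite A B₂
  constructor
  · intro φ₁ φ₂ h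
    have h' : ∀ b, φ₁ b - φ₂ b ∈ I.map (algebraMap A B₂) := by
      intro b
      have hb := congrArg (fun f => f ((1 : A ⧸ I) ⊗ₜ[A] b)) h
      simp only [Algebra.TensorProduct.map_tmul, AlgHom.coe_id, id_eq] at hb
      rw [← Algebra.TensorProduct.quotIdealMapEquivQuotTensor_mk B₂ I,
        ← Algebra.TensorProduct.quotIdealMapEquivQuotTensor_mk B₂ I] at hb
      exact Ideal.Quotient.eq.mp
        ((Algebra.TensorProduct.quotIdealMapEquivQuotTensor B₂ I).injective hb)
    exact inj_aux I hH.jac B₁ B₂ φ₁ φ₂ h'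
  · intro ψ
    have hH₂ : HenselianRing B₂ (I.map (algebraMap A B₂)) := Groth.Agent.S0526.result A I B₂
    let θ := Algebra.TensorProduct.quotIdealMapEquivQuotTensor B₂ I
    let g : B₁ →ₐ[A] B₂ ⧸ I.map (algebraMap A B₂) :=
      ((θ.symm : _ →ₐ[A ⧸ I] _).restrictScalars A).comp
        ((ψ.restrictScalars A).comp Algebra.TensorProduct.includeRight)
    have hg : ∀ b, θ (g b) = ψ (1 ⊗ₜ b) := fun b => θ.apply_symm_apply _
    let σ : B₂ ⊗[A] B₁ →ₐ[B₂] B₂ ⧸ I.map (algebraMap A B₂) :=
      Algebra.TensorProduct.lift (Algebra.ofId B₂ _) g (fun _ _ => Commute.all _ _)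
    obtain ⟨τ, hτ⟩ :=
      Groth.Agent.Helper26.HensPair.exists_section (I.map (algebraMap A B₂)) hH₂ σ
    let φ : B₁ →ₐ[A] B₂ := (τ.restrictScalars A).comp Algebra.TensorProduct.includeRight
    refine ⟨φ, ?_⟩
    show Algebra.TensorProduct.map (AlgHom.id (A ⧸ I) (A ⧸ I)) φ = ψ
    apply algHom_ext_one_tmul
    intro b
    rw [Algebra.TensorProduct.map_tmul, AlgHom.coe_id, id_eq, ← hg b,
      ← Algebra.TensorProduct.quotIdealMapEquivQuotTensor_mk B₂ I]
    congr 1
    have := congrArg (fun f => f ((1 : B₂) ⊗ₜ[A] b)) hτ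
    simp only [AlgHom.comp_apply, σ, Algebra.TensorProduct.lift_tmul, map_one, one_mul] at this
    exact this

end Groth.Agent.S0533
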