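import Groth.Statements.S19474
import Mathlib

set_option autoImplicit false
set_option linter.style.haveILetI false
universe u
open CAlg

namespace Groth.Agent.S19474


open IsLocalRing

section Aux

variable (A : Type u) [CommRing A] [IsNoetherianRing A] (I : Ideal A)

/-- Every element of the completion is congruent to an element of `A` modulo `I Â`. -/
theorem exists_sub_mem (y : AdicCompletion I A) :
    ∃ a : A, y - algebraMap A (AdicCompletion I A) a ∈
      I.map (algebraMap A (AdicCompletion I A)) := by
  have fg : I.FG := IsNoetherian.noetherian I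
  obtain ⟨a, ha⟩ := Ideal.Quotient.mk_surjective (AdicCompletion.evalOneₐ I y)
  refine ⟨a, ?_⟩
  have h : AdicCompletion.evalOneₐ I (algebraMap A _ a) = Ideal.Quotient.mk I a :=
    (AdicCompletion.evalOneₐ I).commutes a
  rw [← AdicCompletion.ker_evalOneₐ_eq_map I fg, RingHom.mem_ker]
  show AdicCompletion.evalOneₐ I (y - algebraMap A _ a) = 0
  rw [map_sub, h, ha, sub_self]

/-- The `I`-adic completion of a Noetherian ring is Noetherian. -/
theorem isNoetherianRing_adicCompletion : IsNoetherianRing (AdicCompletion I A) := by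
  classical
  have fg : I.FG := IsNoetherian.noetherian I
  obtain ⟨s, hs⟩ := fg
  obtain ⟨d, hd⟩ : ∃ d, d = s.card := ⟨_, rfl⟩
  let a : Fin d → A := fun i => ((s.equivFin.symm (Fin.cast hd i) : s) : A)
  have ha : Ideal.span (Set.range a) = I := by
    have : Set.range a = (s : Set A) := by
      ext r; constructor
      · rintro ⟨i, rfl⟩; exact (s.equivFin.symm (Fin.cast hd i)).2
      · intro hr
        refine ⟨Fin.cast hd.symm (s.equivFin ⟨r, hr⟩), ?_⟩
        simp [a]
    rw [this]; exact hs
  have fg : I.FG := IsNoetherian.noetherian I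
  haveI hcomp : IsAdicComplete (I.map (algebraMap A (AdicCompletion I A))) (AdicCompletion I A) :=
    AdicCompletion.isAdicComplete_self I fg
  let x : Fin d → AdicCompletion I A := fun i => algebraMap A (AdicCompletion I A) (a i)
  have hx : Ideal.span (Set.range x) = I.map (algebraMap A (AdicCompletion I A)) := by
    rw [show I.map (algebraMap A (AdicCompletion I A)) =
      (Ideal.span (Set.range a)).map (algebraMap A (AdicCompletion I A)) from
      congrArg _ ha.symm, Ideal.map_span]
    congr 1
    ext r; constructor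
    · rintro ⟨i, rfl⟩; exact ⟨a i, ⟨i, rfl⟩, rfl⟩
    · rintro ⟨_, ⟨i, rfl⟩, rfl⟩; exact ⟨i, rfl⟩
  let ψ : MvPolynomial (Fin d) A →ₐ[A] AdicCompletion I A := MvPolynomial.aeval x
  have hψ : ∀ n, (MvPolynomial.idealOfVars (Fin d) A) ^ n ≤
      Ideal.comap ψ ((I.map (algebraMap A (AdicCompletion I A))) ^ n) := by
    intro n
    rw [← Ideal.map_le_iff_le_comap, Ideal.map_pow]
    apply Ideal.pow_right_mono
    rw [Ideal.map_span, Ideal.span_le]
    rintro _ ⟨_, ⟨i, rfl⟩, rfl⟩
    rw [← hx]; apply Ideal.subset_span; exact ⟨i, by simp [ψ]⟩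
  let g : (n : ℕ) → MvPowerSeries (Fin d) A →ₐ[A]
      AdicCompletion I A ⧸ (I.map (algebraMap A (AdicCompletion I A))) ^ n := fun n =>
    (Ideal.quotientMapₐ ((I.map (algebraMap A (AdicCompletion I A))) ^ n) ψ (hψ n)).comp
      ((MvPowerSeries.truncTotalAlgHom (Fin d) A n).restrictScalars A)
  have hg : ∀ n p, g n p = Ideal.Quotient.mk _ (ψ (MvPowerSeries.truncTotal n p)) := by
    intro n p; rfl
  have compat : ∀ {m n : ℕ} (hle : m ≤ n),
      (Ideal.Quotient.factorₐ A (Ideal.pow_le_pow_right hle)).comp (g n) = g m := by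
    intro m n hle
    ext p
    rw [AlgHom.comp_apply, hg, hg]
    show Ideal.Quotient.mk _ (ψ (MvPowerSeries.truncTotal n p)) = _
    rw [Ideal.Quotient.mk_eq_mk_iff_sub_mem, ← map_sub]
    exact hψ m (MvPowerSeries.truncTotal_sub_truncTotal_mem_pow_idealOfVars hle le_rfl p)
  let φ : MvPowerSeries (Fin d) A →ₐ[A] AdicCompletion I A :=
    IsAdicComplete.liftAlgHom (I.map (algebraMap A (AdicCompletion I A))) g compat
  have hφ : ∀ n p, Ideal.Quotient.mk ((I.map (algebraMap A (AdicCompletion I A))) ^ n) (φ p) =
      g n p := fun n p =>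
    IsAdicComplete.mk_liftAlgHom (I.map (algebraMap A (AdicCompletion I A))) g compat n p
  have hφX : ∀ i, φ (MvPowerSeries.X i) = x i := by
    intro i
    have h0 : ∀ n : ℕ, φ (MvPowerSeries.X i) - x i ∈
        (I.map (algebraMap A (AdicCompletion I A))) ^ n := by
      intro n
      rw [← Ideal.Quotient.mk_eq_mk_iff_sub_mem, hφ]
      have h1 := (MvPowerSeries.truncTotalAlgHom (Fin d) A n).commutes (MvPolynomial.X i)
      have h2 : algebraMap (MvPolynomial (Fin d) A) (MvPowerSeries (Fin d) A) (MvPolynomial.X i) =
          MvPowerSeries.X i := by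
        rw [MvPowerSeries.algebraMap_apply', Algebra.algebraMap_self, MvPowerSeries.map_id,
          RingHom.id_apply, MvPolynomial.coe_X]
      rw [h2] at h1
      show (Ideal.quotientMapₐ ((I.map (algebraMap A (AdicCompletion I A))) ^ n) ψ (hψ n))
        (MvPowerSeries.truncTotalAlgHom (Fin d) A n (MvPowerSeries.X i)) = _
      rw [h1]
      show Ideal.Quotient.mk _ (ψ (MvPolynomial.X i)) = _
      simp [ψ]
    have h1 := IsHausdorff.haus hcomp.toIsHausdorff (φ (MvPowerSeries.X i) - x i) (fun n => by
      rw [SModEq.zero, smul_eq_mul, Ideal.mul_top]; exact h0 n)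
    exact sub_eq_zero.mp h1
  have hmap : Ideal.map φ.toRingHom
      (Ideal.span (Set.range (MvPowerSeries.X : Fin d → MvPowerSeries (Fin d) A))) =
      I.map (algebraMap A (AdicCompletion I A)) := by
    rw [Ideal.map_span, ← hx]
    congr 1
    ext r; constructor
    · rintro ⟨_, ⟨i, rfl⟩, rfl⟩; exact ⟨i, (hφX i).symm⟩
    · rintro ⟨i, rfl⟩; exact ⟨_, ⟨i, rfl⟩, hφX i⟩
  have hsurj : Function.Surjective φ := by
    haveI : IsHausdorff (Ideal.map φ.toRingHom
      (Ideal.span (Set.range (MvPowerSeries.X : Fin d → MvPowerSeries (Fin d) A))))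
      (AdicCompletion I A) := by
      rw [hmap]; infer_instance
    have := surjective_of_mk_map_comp_surjective φ.toRingHom
      (I := Ideal.span (Set.range (MvPowerSeries.X : Fin d → MvPowerSeries (Fin d) A))) ?_
    · exact this
    · intro y
      obtain ⟨r, rfl⟩ := Ideal.Quotient.mk_surjective y
      obtain ⟨c, hc⟩ := exists_sub_mem A I r
      refine ⟨MvPowerSeries.C c, ?_⟩
      rw [RingHom.comp_apply]
      have h3 : φ.toRingHom (MvPowerSeries.C c) = algebraMap A (AdicCompletion I A) c := by
        have := φ.commutes c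
        rwa [MvPowerSeries.algebraMap_apply, Algebra.algebraMap_self, RingHom.id_apply] at this
      rw [h3, Ideal.Quotient.mk_eq_mk_iff_sub_mem, hmap]
      have := Ideal.neg_mem_iff _ |>.mpr hc
      rwa [neg_sub] at this
  exact isNoetherianRing_of_surjective _ _ φ.toRingHom hsurj

variable [IsLocalRing A]

/-- The `I`-adic completion of a Noetherian local ring at a proper ideal is local. -/
theorem isLocalRing_adicCompletion (hI : I ≠ ⊤) : IsLocalRing (AdicCompletion I A) := by
  have fg : I.FG := IsNoetherian.noetherian I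
  have hIm : I ≤ maximalIdeal A := IsLocalRing.le_maximalIdeal hI
  haveI hMmax := AdicCompletion.isMaximal_map_of_le I (maximalIdeal A) hIm fg
  haveI hcomp := AdicCompletion.isAdicComplete_self I fg
  refine IsLocalRing.of_unique_max_ideal ⟨_, hMmax, fun K hK => ?_⟩
  have hsurj : Function.Surjective (AdicCompletion.evalOneₐ I).toRingHom :=
    AdicCompletion.evalOneₐ_surjective I
  have hker : RingHom.ker (AdicCompletion.evalOneₐ I).toRingHom =
      I.map (algebraMap A (AdicCompletion I A)) := AdicCompletion.ker_evalOneₐ_eq_map I fg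
  have hJK : RingHom.ker (AdicCompletion.evalOneₐ I).toRingHom ≤ K := by
    rw [hker]
    exact (IsAdicComplete.le_jacobson_bot _).trans (sInf_le ⟨bot_le, hK⟩)
  have hJM : RingHom.ker (AdicCompletion.evalOneₐ I).toRingHom ≤
      (maximalIdeal A).map (algebraMap A (AdicCompletion I A)) := by
    rw [hker]; exact Ideal.map_mono hIm
  haveI : Nontrivial (A ⧸ I) := Ideal.Quotient.nontrivial_iff.mpr hI
  haveI : IsLocalRing (A ⧸ I) :=
    IsLocalRing.of_surjective' (Ideal.Quotient.mk I) Ideal.Quotient.mk_surjective
  have h1 : (K.map (AdicCompletion.evalOneₐ I).toRingHom).IsMaximal :=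
    Ideal.IsMaximal.map_of_surjective_of_ker_le hsurj hJK
  have h2 : (((maximalIdeal A).map (algebraMap A (AdicCompletion I A))).map
      (AdicCompletion.evalOneₐ I).toRingHom).IsMaximal :=
    Ideal.IsMaximal.map_of_surjective_of_ker_le hsurj hJM
  have h3 : K.map (AdicCompletion.evalOneₐ I).toRingHom =
      ((maximalIdeal A).map (algebraMap A (AdicCompletion I A))).map
        (AdicCompletion.evalOneₐ I).toRingHom :=
    (IsLocalRing.eq_maximalIdeal h1).trans (IsLocalRing.eq_maximalIdeal h2).symm
  calc K = (K.map (AdicCompletion.evalOneₐ I).toRingHom).comap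
        (AdicCompletion.evalOneₐ I).toRingHom := by
        rw [Ideal.comap_map_of_surjective' _ hsurj]; exact (sup_eq_left.mpr hJK).symm
    _ = _ := by rw [h3]
    _ = _ := by rw [Ideal.comap_map_of_surjective' _ hsurj]; exact sup_eq_left.mpr hJM

variable [IsLocalRing (AdicCompletion I A)]

theorem maximalIdeal_adicCompletion (hI : I ≠ ⊤) : maximalIdeal (AdicCompletion I A) =
    (maximalIdeal A).map (algebraMap A (AdicCompletion I A)) :=
  (IsLocalRing.eq_maximalIdeal (AdicCompletion.isMaximal_map_of_le I (maximalIdeal A)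
    (IsLocalRing.le_maximalIdeal hI) (IsNoetherian.noetherian I))).symm

theorem isLocalHom_adicCompletion (hI : I ≠ ⊤) :
    IsLocalHom (algebraMap A (AdicCompletion I A)) := by
  apply ((IsLocalRing.local_hom_TFAE _).out 0 2).mpr
  rw [maximalIdeal_adicCompletion A I hI]

theorem ringKrullDim_adicCompletion [IsNoetherianRing (AdicCompletion I A)] (hI : I ≠ ⊤) :
    ringKrullDim (AdicCompletion I A) = ringKrullDim A := by
  haveI := isLocalHom_adicCompletion A I hI
  haveI : (maximalIdeal (AdicCompletion I A)).LiesOver (maximalIdeal A) :=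
    ⟨(IsLocalRing.maximalIdeal_comap (algebraMap A (AdicCompletion I A))).symm⟩
  have h := Ideal.height_eq_height_add_of_liesOver_of_hasGoingDown (maximalIdeal A)
    (maximalIdeal (AdicCompletion I A))
  have hbot : (maximalIdeal (AdicCompletion I A)).map (Ideal.Quotient.mk
      ((maximalIdeal A).map (algebraMap A (AdicCompletion I A)))) = ⊥ := by
    rw [maximalIdeal_adicCompletion A I hI, Ideal.map_quotient_self]
  haveI : Nontrivial (AdicCompletion I A ⧸
      (maximalIdeal A).map (algebraMap A (AdicCompletion I A))) := by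
    rw [Ideal.Quotient.nontrivial_iff, ← maximalIdeal_adicCompletion A I hI]
    exact Ideal.IsPrime.ne_top'
  rw [hbot, Ideal.height_bot, add_zero] at h
  rw [← IsLocalRing.maximalIdeal_height_eq_ringKrullDim,
    ← IsLocalRing.maximalIdeal_height_eq_ringKrullDim, h]

theorem spanFinrank_maximalIdeal_adicCompletion [IsNoetherianRing (AdicCompletion I A)]
    (hI : I ≠ ⊤) :
    (maximalIdeal (AdicCompletion I A)).spanFinrank = (maximalIdeal A).spanFinrank := by
  haveI := isLocalHom_adicCompletion A I hI
  have hmax := maximalIdeal_adicCompletion A I hI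
  have hIm : I ≤ maximalIdeal A := IsLocalRing.le_maximalIdeal hI
  have hJM : I.map (algebraMap A (AdicCompletion I A)) ≤ maximalIdeal (AdicCompletion I A) := by
    rw [hmax]; exact Ideal.map_mono hIm
  haveI : Module.FaithfullyFlat A (AdicCompletion I A) :=
    Module.FaithfullyFlat.of_flat_of_isLocalHom
  have fg : (maximalIdeal A).FG := IsNoetherian.noetherian _
  have comapeq := IsLocalRing.maximalIdeal_comap (algebraMap A (AdicCompletion I A))
  let f := Ideal.mapCotangent _ _ (Algebra.ofId A (AdicCompletion I A))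
    (le_of_eq comapeq.symm)
  have inj : Function.Injective f := by
    rw [← LinearMap.ker_eq_bot, LinearMap.ker_eq_bot']
    intro m hm
    rcases Ideal.toCotangent_surjective _ m with ⟨m', hm'⟩
    simp only [← hm', Ideal.mapCotangent_toCotangent, Algebra.ofId_apply,
      Ideal.toCotangent_eq_zero, hmax, ← Ideal.map_pow, f] at hm
    have h2 : (m' : A) ∈ (maximalIdeal A) ^ 2 := by
      rw [← Ideal.comap_map_eq_self_of_faithfullyFlat (B := AdicCompletion I A)
        ((maximalIdeal A) ^ 2)]
      exact hm
    rw [← hm', Ideal.toCotangent_eq_zero]; exact h2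
  have key : ∀ y ∈ maximalIdeal (AdicCompletion I A), ∃ a ∈ maximalIdeal A,
      algebraMap A (AdicCompletion I A) a - y ∈ (maximalIdeal (AdicCompletion I A)) ^ 2 := by
    intro y hy
    rw [hmax, ← Submodule.restrictScalars_mem A, ← Ideal.smul_top_eq_map] at hy
    refine Submodule.smul_induction_on hy ?_ ?_
    · intro r hr n _
      obtain ⟨b, hb⟩ := exists_sub_mem A I n
      refine ⟨r * b, Ideal.mul_mem_right _ _ hr, ?_⟩
      have : algebraMap A (AdicCompletion I A) (r * b) - r • n =
          - (algebraMap A (AdicCompletion I A) r * (n - algebraMap A (AdicCompletion I A) b)) := by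
        rw [Algebra.smul_def, map_mul]; ring
      rw [this, neg_mem_iff, pow_two]
      refine Ideal.mul_mem_mul ?_ (hJM hb)
      rw [hmax]; exact Ideal.mem_map_of_mem _ hr
    · rintro y₁ y₂ ⟨a₁, h₁, h₁'⟩ ⟨a₂, h₂, h₂'⟩
      refine ⟨a₁ + a₂, Ideal.add_mem _ h₁ h₂, ?_⟩
      have : algebraMap A (AdicCompletion I A) (a₁ + a₂) - (y₁ + y₂) =
          (algebraMap A (AdicCompletion I A) a₁ - y₁) +
          (algebraMap A (AdicCompletion I A) a₂ - y₂) := by
        rw [map_add]; ring
      rw [this]
      exact Ideal.add_mem _ h₁' h₂'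
  have surj : Function.Surjective f := by
    intro m
    rcases Ideal.toCotangent_surjective _ m with ⟨⟨y, hy⟩, hm'⟩
    obtain ⟨a, ham, hay⟩ := key y hy
    use (maximalIdeal A).toCotangent ⟨a, ham⟩
    rw [← hm']
    simp only [Ideal.mapCotangent_toCotangent, Algebra.ofId_apply, f]
    rw [Ideal.toCotangent_eq]
    exact hay
  have rbij : Function.Bijective
      (IsLocalRing.ResidueField.map (algebraMap A (AdicCompletion I A))) := by
    refine ⟨RingHom.injective _, fun x => ?_⟩
    rcases residue_surjective x with ⟨y, rfl⟩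
    obtain ⟨a, ha⟩ := exists_sub_mem A I y
    use residue A a
    rw [IsLocalRing.ResidueField.map_residue]
    apply (Ideal.Quotient.mk_eq_mk_iff_sub_mem _ _).mpr
    have := hJM ha
    rw [← neg_mem_iff, neg_sub]
    exact this
  have rkeq := rank_eq_of_equiv_equiv _
    (LinearEquiv.ofBijective f ⟨inj, surj⟩).toAddEquiv rbij (fun r m ↦ by
      rcases IsLocalRing.residue_surjective r with ⟨s, rfl⟩
      exact map_smul f s m)
  have fg' : (maximalIdeal (AdicCompletion I A)).FG := IsNoetherian.noetherian _
  rw [IsLocalRing.spanFinrank_maximalIdeal_eq_finrank_cotangentSpace_of_fg fg,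
    IsLocalRing.spanFinrank_maximalIdeal_eq_finrank_cotangentSpace_of_fg fg', eq_comm]
  simp [Module.finrank, CotangentSpace, rkeq]

end Aux

/-- Let A be a Noetherian local ring and I an ideal of A different from A. Then the I-adic completion of
A has the same Krull dimension as A, and A is a regular local ring if and only if the I-adic
completion of A is a regular local ring (in particular the completion is then local and Noetherian).
The case where I is the maximal ideal is the classical one; here I is any proper ideal. -/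
theorem result (A : Type u) [CommRing A]
    [IsLocalRing A] [IsNoetherianRing A] (I : Ideal A) (hI : I ≠ ⊤) :
    ringKrullDim (AdicCompletion I A) = ringKrullDim A ∧
      (IsRegularLocalRing A ↔ IsRegularLocalRing (AdicCompletion I A)) := by
  haveI hN : IsNoetherianRing (AdicCompletion I A) := isNoetherianRing_adicCompletion A I
  haveI hL : IsLocalRing (AdicCompletion I A) := isLocalRing_adicCompletion A I hI
  have hdim := ringKrullDim_adicCompletion A I hI
  have hspan := spanFinrank_maximalIdeal_adicCompletion A I hI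
  refine ⟨hdim, ?_, ?_⟩
  · intro h
    rw [isRegularLocalRing_iff] at h ⊢
    rw [hspan, hdim]; exact h
  · intro h
    have h' := (isRegularLocalRing_iff (AdicCompletion I A)).mp h
    rw [isRegularLocalRing_iff, ← hspan, ← hdim]
    exact h'

end Groth.Agent.S19474
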