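import Groth.Statements.S14002
import Mathlib
import Groth.Agent.H20.FlatBC

set_option autoImplicit false
universe u
open CAlg

namespace Groth.Agent.S14002

open TensorProduct in
/-- Flatness of an adic morphism of locally Noetherian formal schemes is detected on the truncations.
Let B → A be a homomorphism of Noetherian rings and J an ideal of B such that A is adically
separated and complete with respect to the extended ideal JA. Then A is a flat B-module if and only
if for every n ≥ 1 the base change (B/Jⁿ) ⊗_B A = A/JⁿA is a flat (B/Jⁿ)-module. The ring B is not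
assumed separated or complete for the J-adic topology. (The published statement is about an adic
morphism of locally Noetherian formal schemes, so that both rings are adic there; the criterion
holds without that assumption on B.) -/
theorem result (B A : Type u) [CommRing B] [CommRing A]
    [IsNoetherianRing B] [IsNoetherianRing A] [Algebra B A] (J : Ideal B)
    [IsAdicComplete (J.map (algebraMap B A)) A] :
    Module.Flat B A ↔ ∀ n : ℕ, 0 < n → Module.Flat (B ⧸ J ^ n) ((B ⧸ J ^ n) ⊗[B] A) := by
  constructor
  · intro h n _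
    infer_instance
  intro H
  rw [Module.Flat.iff_lTensor_injective']
  intro I
  rw [injective_iff_map_eq_zero]
  intro x hx
  haveI : Module.Finite B ↥I := Module.Finite.iff_fg.mpr (IsNoetherian.noetherian I)
  have hjac : J.map (algebraMap B A) ≤ (⊥ : Ideal A).jacobson :=
    IsAdicComplete.le_jacobson_bot _
  have hkrull := Ideal.iInf_pow_smul_eq_bot_of_le_jacobson (M := A ⊗[B] ↥I)
    (J.map (algebraMap B A)) hjac
  obtain ⟨k, hk⟩ := Ideal.exists_pow_inf_eq_pow_smul J (I : Submodule B B)
  have hmem : x ∈ (⨅ i : ℕ, (J.map (algebraMap B A)) ^ i • ⊤ : Submodule A (A ⊗[B] ↥I)) := by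
    rw [Submodule.mem_iInf]
    intro n
    rcases Nat.eq_zero_or_pos n with rfl | hn
    · simp
    have hK : 0 < n + k := by omega
    haveI := H (n + k) hK
    have helem : ∀ b ∈ J ^ n • (J ^ k • (⊤ : Submodule B B) ⊓ (I : Submodule B B)),
        ∃ hb : b ∈ I, ∀ a : A, a ⊗ₜ[B] (⟨b, hb⟩ : ↥I) ∈
          ((J.map (algebraMap B A)) ^ n • ⊤ : Submodule A (A ⊗[B] ↥I)) := by
      intro b hb
      refine Submodule.smul_induction_on hb ?_ ?_
      · intro r hr m hm
        refine ⟨I.smul_mem r hm.2, fun a => ?_⟩
        have e : a ⊗ₜ[B] (⟨r • m, I.smul_mem r hm.2⟩ : ↥I) =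
            (algebraMap B A r) • (a ⊗ₜ[B] (⟨m, hm.2⟩ : ↥I)) := by
          have e1 : (⟨r • m, I.smul_mem r hm.2⟩ : ↥I) = r • (⟨m, hm.2⟩ : ↥I) := rfl
          rw [e1, TensorProduct.smul_tmul', smul_eq_mul (a := algebraMap B A r),
            ← Algebra.smul_def, TensorProduct.smul_tmul]
        rw [e]
        exact Submodule.smul_mem_smul
          (by rw [← Ideal.map_pow]; exact Ideal.mem_map_of_mem _ hr) Submodule.mem_top
      · rintro x y ⟨hx, hx'⟩ ⟨hy, hy'⟩
        refine ⟨I.add_mem hx hy, fun a => ?_⟩
        have e : (⟨x + y, I.add_mem hx hy⟩ : ↥I) = ⟨x, hx⟩ + ⟨y, hy⟩ := rfl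
        rw [e, TensorProduct.tmul_add]
        exact Submodule.add_mem _ (hx' a) (hy' a)
    let q : ↥I →ₗ[B] ↥(Ideal.map (Ideal.Quotient.mk (J ^ (n + k))) I) :=
      { toFun := fun i => ⟨Ideal.Quotient.mk (J ^ (n + k)) i, Ideal.mem_map_of_mem _ i.2⟩
        map_add' := fun x y => Subtype.ext (map_add _ _ _)
        map_smul' := fun b x => Subtype.ext (by
          show Ideal.Quotient.mk (J ^ (n + k)) (b * x) = b • Ideal.Quotient.mk (J ^ (n + k)) x
          rw [map_mul, Algebra.smul_def]
          rfl) }
    have hqsurj : Function.Surjective q := by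
      rintro ⟨y, hy⟩
      obtain ⟨i, hi, rfl⟩ :=
        (Ideal.mem_map_iff_of_surjective _ Ideal.Quotient.mk_surjective).mp hy
      exact ⟨⟨i, hi⟩, rfl⟩
    have hψ : Function.Injective
        (((Ideal.map (Ideal.Quotient.mk (J ^ (n + k))) I).subtype.restrictScalars B).lTensor A) :=
      Groth.Agent.H20.lTensor_restrictScalars_injective_of_flat_baseChange
        (R := B) (S := B ⧸ J ^ (n + k)) (M := A) _ (Submodule.subtype_injective _)
    have hcomp : ((Ideal.map (Ideal.Quotient.mk (J ^ (n + k))) I).subtype.restrictScalars B) ∘ₗ q =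
        (Algebra.linearMap B (B ⧸ J ^ (n + k))) ∘ₗ I.subtype := by
      ext i
      rfl
    have hφx : q.lTensor A x = 0 := by
      apply hψ
      rw [map_zero, ← LinearMap.comp_apply, ← LinearMap.lTensor_comp, hcomp,
        LinearMap.lTensor_comp, LinearMap.comp_apply, hx, map_zero]
    have hex : Function.Exact ((LinearMap.ker q).subtype.lTensor A) (q.lTensor A) :=
      lTensor_exact A (LinearMap.exact_subtype_ker_map q) hqsurj
    have hclaim : ∀ y : A ⊗[B] ↥(LinearMap.ker q), (LinearMap.ker q).subtype.lTensor A y ∈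
        ((J.map (algebraMap B A)) ^ n • ⊤ : Submodule A (A ⊗[B] ↥I)) := by
      intro y
      induction y using TensorProduct.induction_on with
      | zero => simp
      | add y1 y2 h1 h2 =>
        rw [map_add]
        exact Submodule.add_mem _ h1 h2
      | tmul a i =>
        rw [LinearMap.lTensor_tmul]
        have hiJ : ((i : ↥I) : B) ∈ J ^ (n + k) := by
          have h0 : q i = 0 := i.2
          have h1 : Ideal.Quotient.mk (J ^ (n + k)) ((i : ↥I) : B) = 0 :=
            congrArg Subtype.val h0
          exact Ideal.Quotient.eq_zero_iff_mem.mp h1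
        have hmem2 : ((i : ↥I) : B) ∈ J ^ (n + k) • (⊤ : Submodule B B) ⊓ (I : Submodule B B) := by
          refine ⟨?_, (i : ↥I).2⟩
          rw [Ideal.smul_eq_mul, Ideal.mul_top]
          exact hiJ
        rw [hk (n + k) (by omega), Nat.add_sub_cancel] at hmem2
        obtain ⟨hb, hb'⟩ := helem _ hmem2
        exact hb' a
    obtain ⟨y, hy⟩ := (hex x).mp hφx
    rw [← hy]
    exact hclaim y
  rw [hkrull] at hmem
  exact hmem

end Groth.Agent.S14002
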