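import Groth.Statements.S3856
import Mathlib
import Groth.Agent.Lib.Helper8.CompleteNoeth

set_option autoImplicit false
universe u
open AdicRing

namespace Groth.Agent.S3856

/-- Let A be a ring that is complete and separated for the J-adic topology of an ideal J. If A/J² is
Noetherian (equivalently, A/J is Noetherian and J/J² is a finitely generated A/J-module), then A is
Noetherian. The published statement is phrased for a formal spectrum Spf(A) all of whose levels
Spec(A/J^(n+1)) are Noetherian; it is stated here with the weaker hypothesis that A/J² is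
Noetherian. -/
theorem result (A : Type u) [CommRing A]
    (J : Ideal A) [IsAdicComplete J A] [IsNoetherianRing (A ⧸ J ^ 2)] : IsNoetherianRing A := by
  classical
  have hle : J ^ 2 ≤ J := Ideal.pow_le_self two_ne_zero
  haveI : IsNoetherianRing (A ⧸ J) :=
    isNoetherianRing_of_surjective (A ⧸ J ^ 2) (A ⧸ J) (Ideal.Quotient.factor hle)
      (Ideal.Quotient.factor_surjective hle)
  have hfg : (J.map (Ideal.Quotient.mk (J ^ 2))).FG := IsNoetherian.noetherian _
  obtain ⟨d, b, hb⟩ := Submodule.fg_iff_exists_fin_generating_family.mp hfg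
  have hbx : ∀ i, ∃ xi ∈ J, Ideal.Quotient.mk (J ^ 2) xi = b i := by
    intro i
    have : b i ∈ J.map (Ideal.Quotient.mk (J ^ 2)) := by
      rw [← hb]; exact Submodule.subset_span ⟨i, rfl⟩
    exact (Ideal.mem_map_iff_of_surjective _ Ideal.Quotient.mk_surjective).mp this
  choose x hxJ hxb using hbx
  refine Groth.Agent.Helper8.CompleteNoeth.isNoetherianRing J x hxJ ?_
  intro a ha
  have h1 : Ideal.Quotient.mk (J ^ 2) a ∈ (Ideal.span (Set.range x)).map
      (Ideal.Quotient.mk (J ^ 2)) := by
    rw [Ideal.map_span]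
    have : (Ideal.Quotient.mk (J ^ 2)) '' Set.range x = Set.range b := by
      ext y
      constructor
      · rintro ⟨_, ⟨i, rfl⟩, rfl⟩; exact ⟨i, (hxb i).symm⟩
      · rintro ⟨i, rfl⟩; exact ⟨x i, ⟨i, rfl⟩, hxb i⟩
    rw [this]
    have h2 : Ideal.span (Set.range b) = J.map (Ideal.Quotient.mk (J ^ 2)) := hb
    rw [h2]
    exact Ideal.mem_map_of_mem _ ha
  obtain ⟨u, hu, hua⟩ := (Ideal.mem_map_iff_of_surjective _ Ideal.Quotient.mk_surjective).mp h1
  have h3 : a - u ∈ J ^ 2 := by
    rw [← Ideal.Quotient.eq_zero_iff_mem, map_sub, hua, sub_self]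
  have : a = u + (a - u) := by ring
  rw [this]
  exact Submodule.add_mem_sup hu h3

end Groth.Agent.S3856
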