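import Mathlib
import Groth.Statements.S13598
import Groth.Agent.H11.HensSup

set_option autoImplicit false
universe u
open Hensel

namespace Groth.Agent.S13598

open Groth.Agent.H11 in
theorem henselianLocalRing_quot (S : Type u) [CommRing S] [HenselianLocalRing S] (K : Ideal S)
    [IsLocalRing (S ⧸ K)] : HenselianLocalRing (S ⧸ K) := by
  have h1 : HenselianRing S (IsLocalRing.maximalIdeal S) := inferInstance
  have h2 := hens_map_of_surjective (Ideal.Quotient.mk K) Ideal.Quotient.mk_surjective _ h1
  have hle1 : IsLocalRing.maximalIdeal (S ⧸ K)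
      ≤ Ideal.map (Ideal.Quotient.mk K) (IsLocalRing.maximalIdeal S) := by
    intro x hx
    obtain ⟨x, rfl⟩ := Ideal.Quotient.mk_surjective x
    apply Ideal.mem_map_of_mem
    rw [IsLocalRing.mem_maximalIdeal, mem_nonunits_iff] at hx ⊢
    intro hu
    exact hx (hu.map _)
  have hle2 : Ideal.map (Ideal.Quotient.mk K) (IsLocalRing.maximalIdeal S)
      ≤ IsLocalRing.maximalIdeal (S ⧸ K) := by
    have := h2.jac
    rwa [IsLocalRing.jacobson_eq_maximalIdeal ⊥ bot_ne_top] at this
  refine { is_henselian := ?_ }
  intro f hf a₀ h₁ h₂
  obtain ⟨a, ha, haa⟩ := h2.is_henselian f hf a₀ (hle1 h₁) (h₂.map _)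
  exact ⟨a, ha, hle2 haa⟩

/-- For a local ring A, a henselization A ⟶ S of A (S a henselian local ring, the structure map local,
and initial among local homomorphisms from A to henselian local rings) and an ideal I of A inside
the maximal ideal, the quotient S/IS with its induced algebra structure over A/I is a henselization
of A/I. (The local-ring and local-homomorphism instances on the quotients hold automatically; they
are taken as hypotheses only so that the conclusion can be stated.) -/
theorem result {A S : Type u} [CommRing A] [IsLocalRing A] [CommRing S]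
    [IsLocalRing S] [Algebra A S] [IsLocalHom (algebraMap A S)] [Hensel.IsHenselization A S]
    (I : Ideal A) (hI : I ≤ IsLocalRing.maximalIdeal A)
    [IsLocalRing (A ⧸ I)] [IsLocalRing (S ⧸ I.map (algebraMap A S))]
    [IsLocalHom (algebraMap (A ⧸ I) (S ⧸ I.map (algebraMap A S)))] :
    Hensel.IsHenselization (A ⧸ I) (S ⧸ I.map (algebraMap A S)) := by
  have hS : HenselianLocalRing S := Hensel.IsHenselization.henselian (R := A)
  have hmk : IsLocalHom (Ideal.Quotient.mk I) := by
    apply isLocalHom_of_le_jacobson_bot
    rwa [IsLocalRing.jacobson_eq_maximalIdeal ⊥ bot_ne_top]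
  refine ⟨henselianLocalRing_quot S _, ?_⟩
  intro T _ _ f hf
  have hloc : IsLocalHom (f.comp (Ideal.Quotient.mk I)) := RingHom.isLocalHom_comp _ _
  obtain ⟨g, hg, hguniq⟩ := Hensel.IsHenselization.universal (S := S) T
    (f.comp (Ideal.Quotient.mk I)) hloc
  have hgI : ∀ a ∈ I.map (algebraMap A S), g a = 0 := by
    intro a ha
    have hle : I.map (algebraMap A S) ≤ RingHom.ker g := by
      rw [Ideal.map_le_iff_le_comap]
      intro x hx
      rw [Ideal.mem_comap, RingHom.mem_ker]
      have := RingHom.congr_fun hg x
      rw [RingHom.comp_apply] at this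
      rw [this, RingHom.comp_apply, Ideal.Quotient.eq_zero_iff_mem.2 hx, map_zero]
    exact hle ha
  refine ⟨Ideal.Quotient.lift _ g hgI, ?_, ?_⟩
  · apply Ideal.Quotient.ringHom_ext
    ext x
    have := RingHom.congr_fun hg x
    rw [RingHom.comp_apply, RingHom.comp_apply, Ideal.Quotient.algebraMap_quotient_map_quotient,
      Ideal.Quotient.lift_mk]
    exact this
  · intro g' hg'
    apply Ideal.Quotient.ringHom_ext
    have h3 : (g'.comp (Ideal.Quotient.mk _)).comp (algebraMap A S)
        = f.comp (Ideal.Quotient.mk I) := by
      ext x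
      have := RingHom.congr_fun hg' (Ideal.Quotient.mk I x)
      rw [RingHom.comp_apply, Ideal.Quotient.algebraMap_quotient_map_quotient] at this
      exact this
    have h4 := hguniq _ h3
    rw [h4]
    ext x
    simp

end Groth.Agent.S13598
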