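import Mathlib
import Groth.Agent.H11.HensFinite
import Groth.Agent.H11.HensEtale2
import Groth.Statements.S5035

set_option autoImplicit false
universe u
open Hensel

namespace Groth.Agent.S5035

/-- a) iff c') (affine form): a local ring R is henselian if and only if, for every R-algebra S of
finite type and every prime q of S lying over the maximal ideal of R such that S is quasi-finite
over R at q, the local ring S_q is a finitely generated R-module. -/
theorem result (R : Type u) [CommRing R] [IsLocalRing R] :
    HenselianLocalRing R ↔
      ∀ (S : Type u) [CommRing S] [Algebra R S] [Algebra.FiniteType R S] (q : Ideal S) [q.IsPrime],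
        q.LiesOver (IsLocalRing.maximalIdeal R) → Algebra.QuasiFiniteAt R q →
          Module.Finite R (Localization.AtPrime q) := by

  classical
  constructor
  · intro hH S _ _ _ q _ hlies hqf
    haveI := hlies
    haveI := hqf
    obtain ⟨ε, hε, hεq, hfin, huniq⟩ := Groth.Agent.H11.HensEt.exists_idempotent_finite' R S q
    set J : Ideal S := Ideal.span {1 - ε} with hJ
    haveI : Module.Finite R (S ⧸ J) := hfin
    haveI : Algebra.IsIntegral R (S ⧸ J) := Algebra.IsIntegral.of_finite R _
    have h1ε : (1 - ε) ∈ q := by
      have h3 : ε * (1 - ε) ∈ q := by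
        rw [mul_sub, mul_one, hε.eq, sub_self]
        exact Ideal.zero_mem _
      exact (Ideal.IsPrime.mem_or_mem ‹_› h3).resolve_left hεq
    have hJq : J ≤ q := by
      rw [hJ, Ideal.span_le]
      intro x hx
      rw [Set.mem_singleton_iff] at hx
      rw [hx]
      exact h1ε
    -- every maximal ideal of `S ⧸ J` pulls back to `q`
    have hmax : ∀ M : Ideal (S ⧸ J), M.IsMaximal → M.comap (Ideal.Quotient.mk J) = q := by
      intro M hM
      haveI := hM.isPrime
      haveI : (M.comap (Ideal.Quotient.mk J)).IsPrime := Ideal.comap_isPrime _ _
      apply huniq _ inferInstance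
      · constructor
        have h1 : (M.under R).IsMaximal := Ideal.isMaximal_comap_of_isIntegral_of_isMaximal (R := R) M
        have h2 : M.under R = IsLocalRing.maximalIdeal R := IsLocalRing.eq_maximalIdeal h1
        rw [← h2]
        rfl
      · intro hεM
        have h1 : Ideal.Quotient.mk J ε ∈ M := hεM
        have h2 : Ideal.Quotient.mk J (1 - ε) = 0 :=
          Ideal.Quotient.eq_zero_iff_mem.2 (Ideal.subset_span rfl)
        rw [map_sub, map_one, sub_eq_zero] at h2
        rw [← h2] at h1
        exact hM.ne_top ((Ideal.eq_top_iff_one _).2 h1)
    -- the map `S ⧸ J → S_q`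
    have hunitε : IsUnit (algebraMap S (Localization.AtPrime q) ε) :=
      IsLocalization.map_units (M := q.primeCompl) _ ⟨ε, hεq⟩
    have hkill : ∀ x ∈ J, algebraMap S (Localization.AtPrime q) x = 0 := by
      intro x hx
      rw [hJ, Ideal.mem_span_singleton'] at hx
      obtain ⟨w, rfl⟩ := hx
      have h0 : algebraMap S (Localization.AtPrime q) ε * algebraMap S (Localization.AtPrime q) (w * (1 - ε)) = 0 := by
        rw [← map_mul]
        have : ε * (w * (1 - ε)) = 0 := by
          have : ε * (1 - ε) = 0 := by rw [mul_sub, mul_one, hε.eq, sub_self]
          calc ε * (w * (1 - ε)) = w * (ε * (1 - ε)) := by ring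
            _ = 0 := by rw [this, mul_zero]
        rw [this, map_zero]
      exact (hunitε.mul_right_eq_zero).1 h0
    let g : S ⧸ J →ₐ[R] Localization.AtPrime q :=
      Ideal.Quotient.liftₐ J (IsScalarTower.toAlgHom R S (Localization.AtPrime q)) hkill
    have hg : ∀ s : S, g (Ideal.Quotient.mk J s) = algebraMap S (Localization.AtPrime q) s := fun s => rfl
    have hunit : ∀ t : S, t ∉ q → IsUnit (Ideal.Quotient.mk J t) := by
      intro t ht
      by_contra hnu
      obtain ⟨M, hM, htM⟩ := exists_max_ideal_of_mem_nonunits hnu
      have h1 : t ∈ M.comap (Ideal.Quotient.mk J) := htM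
      rw [hmax M hM] at h1
      exact ht h1
    have hsurj : Function.Surjective g := by
      intro y
      obtain ⟨s, t, rfl⟩ := IsLocalization.exists_mk'_eq q.primeCompl y
      obtain ⟨u, hu⟩ := hunit t.1 t.2
      refine ⟨Ideal.Quotient.mk J s * ↑u⁻¹, ?_⟩
      rw [map_mul, hg, IsLocalization.eq_mk'_iff_mul_eq, mul_assoc]
      have h2 : g (↑u⁻¹) * algebraMap S (Localization.AtPrime q) t.1 = 1 := by
        rw [← hg, ← hu, ← map_mul, Units.inv_mul, map_one]
      rw [h2, mul_one]
    exact Module.Finite.of_surjective g.toLinearMap hsurj
  · intro h
    apply Groth.Agent.H11.HensEt2.henselian_of_etale_retraction R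
    intro S _ _ _ q _ hqlies hsurj
    haveI := hqlies
    haveI hqf : Algebra.QuasiFiniteAt R q := inferInstance
    haveI hfin : Module.Finite R (Localization.AtPrime q) := h S q hqlies hqf
    haveI : IsLocalHom (algebraMap R (Localization.AtPrime q)) := by
      constructor
      intro r hr
      by_contra hnu
      have h1 : r ∈ IsLocalRing.maximalIdeal R := hnu
      have h2 : algebraMap R S r ∈ q := by
        have : r ∈ q.under R := by rw [← hqlies.over]; exact h1
        exact this
      have h3 : algebraMap S (Localization.AtPrime q) (algebraMap R S r) ∈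
          IsLocalRing.maximalIdeal (Localization.AtPrime q) := by
        rw [← Localization.AtPrime.map_eq_maximalIdeal]
        exact Ideal.mem_map_of_mem _ h2
      rw [← IsScalarTower.algebraMap_apply] at h3
      exact h3 hr
    haveI : Algebra.FormallyUnramified R (Localization.AtPrime q) :=
      Algebra.FormallyUnramified.comp R S (Localization.AtPrime q)
    haveI : Module.Flat R (Localization.AtPrime q) := Module.Flat.trans R S (Localization.AtPrime q)
    have hbij : Function.Bijective (algebraMap R (Localization.AtPrime q)) := by
      constructor
      · haveI : Module.FaithfullyFlat R (Localization.AtPrime q) :=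
          Module.FaithfullyFlat.of_flat_of_isLocalHom
        exact FaithfulSMul.algebraMap_injective R (Localization.AtPrime q)
      · have hmax : (IsLocalRing.maximalIdeal R).map (algebraMap R (Localization.AtPrime q)) =
            IsLocalRing.maximalIdeal (Localization.AtPrime q) :=
          Algebra.FormallyUnramified.map_maximalIdeal
        have htop : (⊤ : Submodule R (Localization.AtPrime q)) ≤
            LinearMap.range (Algebra.linearMap R (Localization.AtPrime q)) := by
          apply Submodule.le_of_le_smul_of_le_jacobson_bot (I := IsLocalRing.maximalIdeal R)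
            Module.Finite.fg_top (IsLocalRing.maximalIdeal_le_jacobson _)
          intro x _
          obtain ⟨r, hr⟩ := hsurj (IsLocalRing.residue (Localization.AtPrime q) x)
          have hx : x - algebraMap R (Localization.AtPrime q) r ∈
              IsLocalRing.maximalIdeal (Localization.AtPrime q) := by
            rw [← Ideal.Quotient.eq_zero_iff_mem]
            show IsLocalRing.residue _ (x - algebraMap R _ r) = 0
            rw [map_sub, sub_eq_zero, ← hr]
            rfl
          rw [← hmax] at hx
          have hx' : x - algebraMap R (Localization.AtPrime q) r ∈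
              (IsLocalRing.maximalIdeal R) • (⊤ : Submodule R (Localization.AtPrime q)) := by
            rw [Ideal.smul_top_eq_map]
            exact hx
          have hsum : x = algebraMap R (Localization.AtPrime q) r +
              (x - algebraMap R (Localization.AtPrime q) r) := by ring
          rw [hsum]
          exact Submodule.add_mem_sup ⟨r, rfl⟩ hx'
        intro x
        obtain ⟨r, hr⟩ := htop (Submodule.mem_top (x := x))
        exact ⟨r, hr⟩
    let e : R ≃ₐ[R] Localization.AtPrime q := AlgEquiv.ofBijective (Algebra.ofId R _) hbij
    exact ⟨(e.symm : Localization.AtPrime q →ₐ[R] R).comp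
      (IsScalarTower.toAlgHom R S (Localization.AtPrime q))⟩

end Groth.Agent.S5035
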