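import Mathlib
import Groth.Agent.H11.MCFrob2
import Groth.Statements.S17941

set_option autoImplicit false
universe u
open MultCrv

namespace Groth.Agent.S17941

/-- Let R be a discrete valuation ring, n ≥ 1, A = R[X]/(X^n), and 0 → M' → M → M'' → 0 a short exact
sequence of finitely generated A-modules with M and M'' torsion-free as R-modules (so M' is as
well). Then the A-dual sequence 0 → Hom_A(M'', A) → Hom_A(M, A) → Hom_A(M', A) → 0 is exact; the
content is that every A-linear form on M' extends to M, i.e. restriction of forms along M' → M is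
surjective. (Statement at a closed point of the sheaf statement on a primitive multiple curve of
multiplicity n, whose local rings are of the form R[X]/(X^n) with R the local ring of the reduced
smooth curve; stated for every discrete valuation ring R.) -/
theorem result (R : Type u) [CommRing R] [IsDomain R] [IsDiscreteValuationRing R] (n : ℕ) (hn : 1 ≤ n) (M' M M'' : Type u) [AddCommGroup M'] [Module (MultCrv.Rn R n) M'] [AddCommGroup M] [Module (MultCrv.Rn R n) M] [Module R M] [IsScalarTower R (MultCrv.Rn R n) M] [Module.Finite (MultCrv.Rn R n) M] [Module.IsTorsionFree R M] [AddCommGroup M''] [Module (MultCrv.Rn R n) M''] [Module R M''] [IsScalarTower R (MultCrv.Rn R n) M''] [Module.Finite (MultCrv.Rn R n) M''] [Module.IsTorsionFree R M''] (f : M' →ₗ[MultCrv.Rn R n] M) (g : M →ₗ[MultCrv.Rn R n] M'') (hf : Function.Injective f) (hg : Function.Surjective g) (hfg : LinearMap.range f = LinearMap.ker g) : Function.Surjective (f.dualMap : Module.Dual (MultCrv.Rn R n) M →ₗ[MultCrv.Rn R n] Module.Dual (MultCrv.Rn R n) M') := by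
  classical
  letI : Module R M' := Module.compHom M' (algebraMap R (MultCrv.Rn R n))
  haveI : IsScalarTower R (MultCrv.Rn R n) M' := IsScalarTower.of_compHom R (MultCrv.Rn R n) M'
  haveI : Module.Finite R (MultCrv.Rn R n) := Groth.Agent.H11.MC.finite_Rn R n
  haveI : Module.Finite R M'' := Module.Finite.trans (MultCrv.Rn R n) M''
  haveI : Module.Free R M'' := Module.free_of_finite_type_torsion_free'
  -- the R-linear versions
  have hex : Function.Exact (f.restrictScalars R) (g.restrictScalars R) := by
    intro m
    have : m ∈ LinearMap.ker g ↔ m ∈ LinearMap.range f := by rw [hfg]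
    rw [LinearMap.mem_ker, LinearMap.mem_range] at this
    exact this
  obtain ⟨s, hs⟩ := Module.projective_lifting_property (g.restrictScalars R) LinearMap.id hg
  have h2 := ((Function.Exact.split_tfae hex hf hg).out 0 1 rfl rfl).1 ⟨s, hs⟩
  obtain ⟨r, hr⟩ := h2
  intro h'
  have hn' : n - 1 < n := by omega
  refine ⟨Groth.Agent.H11.MC.liftA hn
    ((Groth.Agent.H11.MC.coeffQ (R := R) (n - 1) hn').comp ((h'.restrictScalars R).comp r)), ?_⟩
  apply Groth.Agent.H11.MC.eq_of_coeffQ_eq hn
  intro m'
  rw [LinearMap.dualMap_apply, Groth.Agent.H11.MC.coeffQ_liftA]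
  have : r (f m') = m' := LinearMap.congr_fun hr m'
  simp only [LinearMap.comp_apply, LinearMap.restrictScalars_apply]
  rw [show r (f m') = m' from this]

end Groth.Agent.S17941
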