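import Groth.Statements.S9245
import Mathlib

set_option autoImplicit false
universe u
open CAlg

namespace Groth.Agent.S9245

/-- For an étale ring map A → B and a prime q of B with contraction p in A, the localization A_p is a
Noetherian ring exactly when the localization B_q is. -/
theorem result (A B : Type u) [CommRing A] [CommRing B]
    [Algebra A B] [Algebra.Etale A B] (q : Ideal B) [q.IsPrime] :
    IsNoetherianRing (Localization.AtPrime (Ideal.comap (algebraMap A B) q)) ↔
      IsNoetherianRing (Localization.AtPrime q) := by
  classical
  haveI hlo : q.LiesOver (Ideal.comap (algebraMap A B) q) := ⟨rfl⟩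
  letI := Localization.AtPrime.algebraOfLiesOver (Ideal.comap (algebraMap A B) q) q
  haveI : Module.Flat A B := inferInstance
  haveI hflat : Module.Flat (Localization.AtPrime (Ideal.comap (algebraMap A B) q))
      (Localization.AtPrime q) := inferInstance
  haveI hloc : IsLocalHom (algebraMap (Localization.AtPrime (Ideal.comap (algebraMap A B) q))
      (Localization.AtPrime q)) :=
    Localization.isLocalHom_localRingHom _ _ _ Ideal.LiesOver.over
  haveI hff : Module.FaithfullyFlat (Localization.AtPrime (Ideal.comap (algebraMap A B) q))
      (Localization.AtPrime q) := Module.FaithfullyFlat.of_flat_of_isLocalHom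
  constructor
  · intro hN
    haveI : Algebra.EssFiniteType (Localization.AtPrime (Ideal.comap (algebraMap A B) q))
        (Localization.AtPrime q) := Algebra.EssFiniteType.of_comp A _ _
    obtain ⟨S₀, M, hft, hlocz⟩ := (Algebra.essFiniteType_iff_exists_subalgebra _ _).mp this
    haveI : IsNoetherianRing S₀ := Algebra.FiniteType.isNoetherianRing
      (Localization.AtPrime (Ideal.comap (algebraMap A B) q)) S₀
    exact IsLocalization.isNoetherianRing M (Localization.AtPrime q) inferInstance
  · intro hN
    rw [isNoetherianRing_iff, isNoetherian_iff'] at hN ⊢
    have hmono : StrictMono (Ideal.map (algebraMap (Localization.AtPrime (Ideal.comap (algebraMap A B) q))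
        (Localization.AtPrime q))) :=
      Monotone.strictMono_of_injective (fun _ _ h => Ideal.map_mono h)
        (Ideal.map_injective_of_faithfullyFlat)
    exact hmono.wellFoundedGT

end Groth.Agent.S9245
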