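import Groth.Statements.S9246
import Mathlib
import Groth.Agent.Lib.Helper24.EtaleReg
import Groth.Agent.S9245

set_option autoImplicit false
universe u
open CAlg

namespace Groth.Agent.S9246

/-- Let A → B be an étale ring map and q a prime of B lying over the prime p of A. Then A_p is a regular
local ring if and only if B_q is a regular local ring. -/
theorem result (A B : Type u) [CommRing A] [CommRing B]
    [Algebra A B] [Algebra.Etale A B] (q : Ideal B) [q.IsPrime] :
    IsRegularLocalRing (Localization.AtPrime (Ideal.comap (algebraMap A B) q)) ↔
      IsRegularLocalRing (Localization.AtPrime q) := by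
  classical
  have hnoeth := Groth.Agent.S9245.result A B q
  haveI hlo : q.LiesOver (Ideal.comap (algebraMap A B) q) := ⟨rfl⟩
  letI := Localization.AtPrime.algebraOfLiesOver (Ideal.comap (algebraMap A B) q) q
  haveI hflat : Module.Flat (Localization.AtPrime (Ideal.comap (algebraMap A B) q))
      (Localization.AtPrime q) := inferInstance
  haveI hloc : IsLocalHom (algebraMap (Localization.AtPrime (Ideal.comap (algebraMap A B) q))
      (Localization.AtPrime q)) :=
    Localization.isLocalHom_localRingHom _ _ _ Ideal.LiesOver.over
  haveI : Algebra.EssFiniteType (Localization.AtPrime (Ideal.comap (algebraMap A B) q))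
      (Localization.AtPrime q) := Algebra.EssFiniteType.of_comp A _ _
  haveI : Algebra.FormallyUnramified A (Localization.AtPrime q) :=
    Algebra.FormallyUnramified.comp A B (Localization.AtPrime q)
  haveI : Algebra.FormallyUnramified (Localization.AtPrime (Ideal.comap (algebraMap A B) q))
      (Localization.AtPrime q) := Algebra.FormallyUnramified.of_restrictScalars A _ _
  have hmap : (IsLocalRing.maximalIdeal (Localization.AtPrime (Ideal.comap (algebraMap A B) q))).map
      (algebraMap _ (Localization.AtPrime q)) = IsLocalRing.maximalIdeal (Localization.AtPrime q) :=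
    Algebra.FormallyUnramified.map_maximalIdeal
  constructor
  · intro h
    haveI : IsNoetherianRing (Localization.AtPrime (Ideal.comap (algebraMap A B) q)) := inferInstance
    haveI : IsNoetherianRing (Localization.AtPrime q) := hnoeth.1 inferInstance
    exact (Groth.Agent.Helper24.EtaleReg.isRegularLocalRing_iff_of_map_maximalIdeal _ _ hmap).1 h
  · intro h
    haveI : IsNoetherianRing (Localization.AtPrime q) := inferInstance
    haveI : IsNoetherianRing (Localization.AtPrime (Ideal.comap (algebraMap A B) q)) :=
      hnoeth.2 inferInstance
    exact (Groth.Agent.Helper24.EtaleReg.isRegularLocalRing_iff_of_map_maximalIdeal _ _ hmap).2 h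

end Groth.Agent.S9246
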