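import Mathlib
import Groth.Agent.H11.SmoothSmallExt
import Groth.Statements.S2060

set_option autoImplicit false
universe u
open CAlg

namespace Groth.Agent.S2060

/-- Let `R` be Noetherian, `S` of finite type over `R` and `𝔮` a prime of `S`. Then `R → S` is smooth at
`𝔮` if and only if for every surjection `B' → B` of Artinian local `R`-algebras whose kernel is
principal and killed by the maximal ideal of `B'`, every `R`-algebra map `S → B` under which the
maximal ideal pulls back to `𝔮` lifts to `B'`. -/
theorem result {R S : Type u} [CommRing R] [IsNoetherianRing R]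
    [CommRing S] [Algebra R S] [Algebra.FiniteType R S] (q : Ideal S) [q.IsPrime] :
    Algebra.IsSmoothAt R q ↔
      ∀ (B' B : Type u) [CommRing B'] [CommRing B] [IsLocalRing B'] [IsLocalRing B]
        [IsArtinianRing B'] [IsArtinianRing B] [Algebra R B'] [Algebra R B] (π : B' →ₐ[R] B),
        Function.Surjective π →
        (∃ t : B', RingHom.ker π.toRingHom = Ideal.span {t} ∧
          ∀ a ∈ IsLocalRing.maximalIdeal B', a * t = 0) →
        ∀ g : S →ₐ[R] B, (IsLocalRing.maximalIdeal B).comap g = q →
          ∃ g' : S →ₐ[R] B', π.comp g' = g := by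

  constructor
  · intro hsm B' B _ _ _ _ _ _ _ _ π hπ ht g hg
    haveI : Algebra.FormallySmooth R (Localization.AtPrime q) := hsm
    obtain ⟨t, hker, hkill⟩ := ht
    -- `t` lies in the maximal ideal
    have htm : t ∈ IsLocalRing.maximalIdeal B' := by
      rw [IsLocalRing.mem_maximalIdeal, mem_nonunits_iff]
      intro hu
      have h0 : π t = 0 := by
        have : t ∈ RingHom.ker π.toRingHom := hker ▸ Ideal.mem_span_singleton_self t
        exact this
      have h1 : IsUnit (π t) := hu.map π
      rw [h0] at h1
      exact not_isUnit_zero h1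
    have hnil : IsNilpotent (RingHom.ker (π : B' →+* B)) := by
      refine ⟨2, ?_⟩
      change RingHom.ker π.toRingHom ^ 2 = 0
      rw [hker, Ideal.span_singleton_pow, Ideal.zero_eq_bot, Ideal.span_singleton_eq_bot, pow_two]
      exact hkill t htm
    -- extend `g` to the localization
    have hunits : ∀ y : q.primeCompl, IsUnit ((g : S →+* B) y) := by
      intro y
      by_contra hnu
      have hmem : g y.1 ∈ IsLocalRing.maximalIdeal B :=
        (IsLocalRing.mem_maximalIdeal _).2 (mem_nonunits_iff.2 hnu)
      have : y.1 ∈ (IsLocalRing.maximalIdeal B).comap g := hmem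
      rw [hg] at this
      exact y.2 this
    let gq₀ : Localization.AtPrime q →+* B := IsLocalization.lift hunits
    have hgq₀ : ∀ s, gq₀ (algebraMap S _ s) = g s := fun s => IsLocalization.lift_eq hunits s
    let gq : Localization.AtPrime q →ₐ[R] B :=
      { toRingHom := gq₀
        commutes' := fun r => by
          change gq₀ (algebraMap R _ r) = _
          rw [IsScalarTower.algebraMap_apply R S (Localization.AtPrime q), hgq₀, AlgHom.commutes] }
    let l : Localization.AtPrime q →ₐ[R] B' :=
      Algebra.FormallySmooth.liftOfSurjective gq π hπ hnil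
    have hl : ∀ x, π (l x) = gq x := fun x =>
      Algebra.FormallySmooth.liftOfSurjective_apply gq π hπ hnil x
    refine ⟨l.comp (IsScalarTower.toAlgHom R S (Localization.AtPrime q)), ?_⟩
    ext s
    rw [AlgHom.comp_apply, AlgHom.comp_apply, hl]
    exact hgq₀ s
  · intro H
    have hft : Algebra.FiniteType R S := inferInstance
    obtain ⟨n, φ, hφ⟩ := Algebra.FiniteType.iff_quotient_mvPolynomial''.1 hft
    exact Groth.Agent.H11.LocPres.isSmoothAt_of_lifts q hφ
      (fun N => Groth.Agent.H11.SmoothSmallExt.exists_sigma φ hφ q H N)

end Groth.Agent.S2060
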