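import Groth.Statements.S0301
import Mathlib
-- import your own Groth.Agent.* helpers here

set_option autoImplicit false
universe u v
open InjHull

namespace Groth.Agent.S0301

theorem baer_aux (R : Type u) [CommRing R] [IsNoetherianRing R] (I : Type u) [AddCommGroup I]
    [Module R I] (hI : Module.Injective R I) (J : Ideal R) (T : ℕ →o Submodule R I)
    (hT : ∀ n, T n = Submodule.torsionBySet R I ((J ^ n : Ideal R) : Set R)) :
    Module.Baer R ↥(⨆ n, T n) := by
  intro 𝔞 g
  have hTle : ∀ n, T n ≤ ⨆ n, T n := fun n => le_iSup (fun n => T n) n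
  let g₀ : 𝔞 →ₗ[R] I := (⨆ n, T n).subtype ∘ₗ g
  have hg₀ : ∀ a, g₀ a = ((g a : ↥(⨆ n, T n)) : I) := fun a => rfl
  -- step 1: g lands in some T n
  obtain ⟨n, hn⟩ : ∃ n, ∀ a : 𝔞, g₀ a ∈ T n := by
    have hfg : (LinearMap.range g₀).FG := by
      rw [LinearMap.range_eq_map]
      exact Submodule.FG.map _ Module.Finite.fg_top
    have hcomp := (Submodule.fg_iff_compact _).1 hfg
    rw [CompleteLattice.isCompactElement_iff_le_of_directed_sSup_le] at hcomp
    have hle : LinearMap.range g₀ ≤ sSup (Set.range T) := by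
      rintro _ ⟨a, rfl⟩
      rw [hg₀, sSup_range]
      exact (g a).2
    obtain ⟨_, ⟨n, rfl⟩, hn⟩ := hcomp (Set.range T) ⟨_, ⟨0, rfl⟩⟩
      (T.monotone.directed_le.directedOn_range) hle
    exact ⟨n, fun a => hn ⟨a, rfl⟩⟩
  -- step 2: Artin-Rees
  obtain ⟨k, hk⟩ := Ideal.exists_pow_inf_eq_pow_smul J (𝔞 : Submodule R R)
  set K : Ideal R := J ^ (n + k) with hK
  have hvanish : ∀ a : 𝔞, (a : R) ∈ K → g₀ a = 0 := by
    intro a haK
    have h1 : (a : R) ∈ (J ^ (n + k) • ⊤ ⊓ (𝔞 : Submodule R R) : Submodule R R) := by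
      refine ⟨?_, a.2⟩
      rw [Ideal.smul_top_eq_map, Algebra.algebraMap_self, Ideal.map_id]
      exact haK
    rw [hk (n + k) (by omega), Nat.add_sub_cancel] at h1
    have h2 : (J ^ n • (J ^ k • ⊤ ⊓ (𝔞 : Submodule R R)) : Submodule R R) ≤
        (LinearMap.ker g₀).map (Submodule.subtype 𝔞) := by
      rw [Submodule.smul_le]
      intro r hr y hy
      have hy' : y ∈ 𝔞 := hy.2
      refine ⟨r • ⟨y, hy'⟩, ?_, rfl⟩
      rw [SetLike.mem_coe, LinearMap.mem_ker, map_smul]
      have h3 := hn ⟨y, hy'⟩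
      rw [hT, Submodule.mem_torsionBySet_iff] at h3
      exact h3 ⟨r, hr⟩
    obtain ⟨b, hb, hba⟩ := h2 h1
    have : b = a := Subtype.ext hba
    rw [← this]
    exact hb
  -- step 3: extension
  let φ : 𝔞 →ₗ[R] R ⧸ K := K.mkQ ∘ₗ Submodule.subtype 𝔞
  have hle : LinearMap.ker φ ≤ LinearMap.ker g₀ := by
    intro a ha
    rw [LinearMap.mem_ker] at ha ⊢
    have : (a : R) ∈ K := by
      have h : K.mkQ (a : R) = 0 := ha
      rwa [Submodule.mkQ_apply, Submodule.Quotient.mk_eq_zero] at h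
    exact hvanish a this
  let φbar : (𝔞 ⧸ LinearMap.ker φ) →ₗ[R] R ⧸ K := (LinearMap.ker φ).liftQ φ le_rfl
  let gbar : (𝔞 ⧸ LinearMap.ker φ) →ₗ[R] I := (LinearMap.ker φ).liftQ g₀ hle
  have hφbar : Function.Injective φbar :=
    LinearMap.ker_eq_bot.1 (Submodule.ker_liftQ_eq_bot _ _ _ le_rfl)
  obtain ⟨h, hh⟩ := hI.out φbar hφbar gbar
  have hmem : ∀ r : R, (h ∘ₗ K.mkQ) r ∈ ⨆ n, T n := by
    intro r
    apply hTle (n + k)
    rw [hT, Submodule.mem_torsionBySet_iff]
    intro j
    rw [← map_smul]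
    have : (j : R) • r ∈ LinearMap.ker (h ∘ₗ K.mkQ) := by
      rw [LinearMap.mem_ker, LinearMap.comp_apply]
      have : K.mkQ ((j : R) • r) = 0 := by
        rw [Submodule.mkQ_apply, Submodule.Quotient.mk_eq_zero]
        exact K.mul_mem_right r j.2
      rw [this, map_zero]
    exact this
  refine ⟨LinearMap.codRestrict (⨆ n, T n) (h ∘ₗ K.mkQ) hmem, fun x hx => ?_⟩
  apply Subtype.ext
  rw [LinearMap.codRestrict_apply]
  have := hh (Submodule.Quotient.mk ⟨x, hx⟩)
  simp only [φbar, gbar, Submodule.liftQ_apply] at this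
  exact this


/-- Over a Noetherian ring, the submodule of an injective module consisting of the elements killed by
some power of a given ideal is again injective. -/
theorem result (R : Type u) [CommRing R] [IsNoetherianRing R] (I : Type u) [AddCommGroup I] [Module R I] (hI : Module.Injective R I) (J : Ideal R) : Module.Injective R ↥(⨆ n : ℕ, Submodule.torsionBySet R I ((J ^ n : Ideal R) : Set R)) := by
  let T : ℕ →o Submodule R I :=
    ⟨fun n => Submodule.torsionBySet R I ((J ^ n : Ideal R) : Set R), by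
      intro m n hmn x hx
      rw [Submodule.mem_torsionBySet_iff] at hx ⊢
      intro a
      exact hx ⟨a.1, Ideal.pow_le_pow_right hmn a.2⟩⟩
  exact Module.Baer.injective (baer_aux R I hI J T (fun _ => rfl))

end Groth.Agent.S0301
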