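import Groth.Statements.S5155
import Mathlib
import Groth.Agent.Lib.Helper7.Matlis3

set_option autoImplicit false
universe u
open Matlis

namespace Groth.Agent.S5155

/-- Let A be a Noetherian local ring with residue field k. An A-module E is an injective hull of k if
and only if E is injective, E is m-power torsion, and Hom_A(k, E) is simple (one-dimensional over
k). (The torsion condition is needed: for a prime p ≠ m the module E(k) ⊕ E(A/p) is injective with
Hom_A(k, −) simple, represents the same functor on modules of finite length, and is not an injective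
hull of k; the published definition of a dualizing module leaves this condition implicit and the
published proof uses it.) -/
theorem result (A : Type u) [CommRing A] [IsLocalRing A] [IsNoetherianRing A] (E : Type u) [AddCommGroup E] [Module A E] : (∃ f : IsLocalRing.ResidueField A →ₗ[A] E, InjHull.IsInjectiveHull f) ↔ (Module.Injective A E ∧ LocCoh.IsPowerTorsion (IsLocalRing.maximalIdeal A) E ∧ IsSimpleModule A (IsLocalRing.ResidueField A →ₗ[A] E)) := by
  classical
  constructor
  · rintro ⟨f, hf⟩
    refine ⟨hf.isInjective, Groth.Agent.Helper7.Matlis.hull_isPowerTorsion f hf, ?_⟩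
    exact Module.length_eq_one_iff.mp
      (Groth.Agent.Helper7.Matlis.length_hom_residueField f hf.toIsEssentialInj)
  · rintro ⟨hinj, hpt, hsimple⟩
    have hnt : Nontrivial (IsLocalRing.ResidueField A →ₗ[A] E) := IsSimpleModule.nontrivial A _
    obtain ⟨f, hf0⟩ := exists_ne (0 : IsLocalRing.ResidueField A →ₗ[A] E)
    have hk : IsSimpleModule A (IsLocalRing.ResidueField A) :=
      Groth.Agent.Helper7.Matlis.isSimpleModule_residueField
    have hfinj : Function.Injective f := by
      rw [← LinearMap.ker_eq_bot]
      rcases eq_bot_or_eq_top (LinearMap.ker f) with h | h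
      · exact h
      · exact absurd (LinearMap.ker_eq_top.mp h) hf0
    refine ⟨f, ?_⟩
    refine { toIsEssentialInj := ?_, isInjective := hinj }
    rw [Groth.Agent.Helper7.IH.isEssentialInj_iff]
    refine ⟨hfinj, fun x hx => ?_⟩
    obtain ⟨r, hr, hr0⟩ := Groth.Agent.Helper7.Matlis.socle_essential
      (IsLocalRing.maximalIdeal A) hpt x hx
    refine ⟨r, ?_, hr0⟩
    set y := r • x with hy
    -- the map k → E sending 1 to y
    have hle : IsLocalRing.maximalIdeal A ≤ LinearMap.ker (LinearMap.toSpanSingleton A E y) := by
      intro a ha
      rw [LinearMap.mem_ker, LinearMap.toSpanSingleton_apply]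
      exact (Submodule.mem_torsionBySet_iff _ _).1 hr ⟨a, ha⟩
    let gy : IsLocalRing.ResidueField A →ₗ[A] E :=
      (IsLocalRing.maximalIdeal A).liftQ (LinearMap.toSpanSingleton A E y) hle
    have hgy : gy 1 = y := by
      change (IsLocalRing.maximalIdeal A).liftQ (LinearMap.toSpanSingleton A E y) hle
        (Submodule.Quotient.mk 1) = y
      rw [Submodule.liftQ_apply, LinearMap.toSpanSingleton_apply, one_smul]
    obtain ⟨a, ha⟩ := IsSimpleModule.toSpanSingleton_surjective A hf0 gy
    rw [LinearMap.toSpanSingleton_apply] at ha
    refine ⟨a • 1, ?_⟩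
    rw [map_smul, ← hgy, ← ha, LinearMap.smul_apply]

end Groth.Agent.S5155
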