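import Groth.Statements.S5156
import Mathlib
import Groth.Agent.Lib.Helper8.Coext
import Groth.Agent.Lib.Helper7.Matlis1
import Groth.Agent.S5155

set_option autoImplicit false
universe u
open Matlis

namespace Groth.Agent.S5156

/-- Let A and B be Noetherian local rings with B a finite A-algebra, and E an injective hull of the
residue field of A (a dualizing module for A). Then Hom_A(B, E), as a B-module through the action on
the source, is an injective hull of the residue field of B (a dualizing module for B). -/
theorem result (A B : Type u) [CommRing A] [IsLocalRing A] [IsNoetherianRing A] [CommRing B] [IsLocalRing B] [IsNoetherianRing B] [Algebra A B] [Module.Finite A B] (E : Type u) [AddCommGroup E] [Module A E] (f : IsLocalRing.ResidueField A →ₗ[A] E) (hf : InjHull.IsInjectiveHull f) : ∃ g : IsLocalRing.ResidueField B →ₗ[B] (ModuleCat.coextendScalars (algebraMap A B)).obj (ModuleCat.of A E), InjHull.IsInjectiveHull g := by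
  classical
  haveI hloc : IsLocalHom (algebraMap A B) := Groth.Agent.Helper8.Coext.isLocalHom_of_finite
  have hK : IsFiniteLength A (IsLocalRing.ResidueField B) := by
    rw [isFiniteLength_iff_isNoetherian_isArtinian]
    refine ⟨inferInstance, ?_⟩
    haveI : IsArtinian (IsLocalRing.ResidueField A) (IsLocalRing.ResidueField B) := inferInstance
    exact isArtinian_of_surjective_algebraMap (R := IsLocalRing.ResidueField A)
      (M := IsLocalRing.ResidueField B) (S := A)
      (IsLocalRing.residue_surjective :
        Function.Surjective (algebraMap A (IsLocalRing.ResidueField A)))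
  have hlen := Groth.Agent.Helper7.Matlis.length_hom_eq f hf (IsLocalRing.ResidueField B) hK
  have hfin : Module.length A (IsLocalRing.ResidueField B) ≠ ⊤ := Module.length_ne_top_iff.2 hK
  have hsimple := Groth.Agent.Helper8.Coext.simple_hom (A := A) (B := B) (E := E)
    (D := Groth.Agent.Helper8.Coext.Cx A B E) hlen hfin LinearMap.id Function.injective_id
    (fun g _ => ⟨g, rfl⟩)
  exact (Groth.Agent.S5155.result B _).2
    ⟨Groth.Agent.Helper8.Coext.injective_coext hf.isInjective,
      Groth.Agent.Helper8.Coext.powerTorsion_coext
        (Groth.Agent.Helper7.Matlis.hull_isPowerTorsion f hf), hsimple⟩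

end Groth.Agent.S5156
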