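import Groth.Statements.S5162
import Groth.Agent.H13.LCExtGrade

set_option autoImplicit false
universe u
open CategoryTheory
open LocCoh

namespace Groth.Agent.S5162

/-- The affine case. Let A be a Noetherian ring, J an ideal, G any A-module and n ≥ 0. Then: H^i_J(G) =
0 for all i < n iff Ext^i_A(F, G) = 0 for all i < n and all finite A-modules F with Supp F ⊆ V(J),
iff Ext^i_A(F, G) = 0 for all i < n for one finite F with Supp F = V(J). (G is not assumed finitely
generated.) -/
theorem result (A : Type u) [CommRing A] [IsNoetherianRing A] (J : Ideal A) (G : Type u) [AddCommGroup G] [Module A G] (n : ℕ) : ((∀ i : ℕ, i < n → Subsingleton (LocCoh.H J i G)) ↔ ∀ (F : Type u) [AddCommGroup F] [Module A F], Module.Finite A F → Module.support A F ⊆ PrimeSpectrum.zeroLocus (J : Set A) → ∀ i : ℕ, i < n → Subsingleton (Abelian.Ext (ModuleCat.of A F) (ModuleCat.of A G) i)) ∧ ((∀ i : ℕ, i < n → Subsingleton (LocCoh.H J i G)) ↔ ∃ (F : Type u) (_ : AddCommGroup F) (_ : Module A F), Module.Finite A F ∧ Module.support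 A F = PrimeSpectrum.zeroLocus (J : Set A) ∧ ∀ i : ℕ, i < n → Subsingleton (Abelian.Ext (ModuleCat.of A F) (ModuleCat.of A G) i)) := by
  have hsupp : Module.support A (A ⧸ J) = PrimeSpectrum.zeroLocus (J : Set A) := by
    rw [Module.support_eq_zeroLocus, Ideal.annihilator_quotient]
  have h1 : (∀ i : ℕ, i < n → Subsingleton (LocCoh.H J i G)) →
      ∀ (F : Type u) [AddCommGroup F] [Module A F], Module.Finite A F →
        Module.support A F ⊆ PrimeSpectrum.zeroLocus (J : Set A) →
        ∀ i : ℕ, i < n → Subsingleton (Abelian.Ext (ModuleCat.of A F) (ModuleCat.of A G) i) := by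
    intro hP F _ _ hfin hF i hi
    exact Groth.Agent.H13.LC.subsingleton_ext_of_subsingleton_H J n G hP F hfin hF i hi
  refine ⟨⟨h1, ?_⟩, ⟨?_, ?_⟩⟩
  · intro h i hi
    have hX := h (A ⧸ J) inferInstance hsupp.le
    exact Groth.Agent.H13.LC.subsingleton_H_of_subsingleton_ext J n (A ⧸ J) hsupp G hX i hi
  · intro hP
    exact ⟨A ⧸ J, inferInstance, inferInstance, inferInstance, hsupp,
      h1 hP (A ⧸ J) inferInstance hsupp.le⟩
  · rintro ⟨F, _, _, hfin, hF, hX⟩ i hi
    exact Groth.Agent.H13.LC.subsingleton_H_of_subsingleton_ext J n F hF G hX i hi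

end Groth.Agent.S5162
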