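import Groth.Statements.S5157
import Mathlib
import Groth.Agent.S11662

set_option autoImplicit false
universe u
open Matlis

namespace Groth.Agent.S5157

/-- Let A be a Noetherian local ring, a an ideal with A/a local (i.e. a ≠ A) and E an injective hull of
the residue field of A. Then the annihilator of a in E, E[a] = {e | a e = 0}, is an injective hull
of the residue field of A/a over A/a. -/
theorem result (A : Type u) [CommRing A] [IsLocalRing A] [IsNoetherianRing A] (a : Ideal A) [IsLocalRing (A ⧸ a)] (E : Type u) [AddCommGroup E] [Module A E] (f : IsLocalRing.ResidueField A →ₗ[A] E) (hf : InjHull.IsInjectiveHull f) : ∃ g : IsLocalRing.ResidueField (A ⧸ a) →ₗ[A ⧸ a] (LocCoh.torsionBy a E), InjHull.IsInjectiveHull g := by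
  classical
  have hloc : IsLocalHom (Ideal.Quotient.mk a) :=
    IsLocalHom.of_surjective _ Ideal.Quotient.mk_surjective
  let ρ : IsLocalRing.ResidueField A →+* IsLocalRing.ResidueField (A ⧸ a) :=
    IsLocalRing.ResidueField.map (Ideal.Quotient.mk a)
  have hρsurj : Function.Surjective ρ := by
    intro y
    obtain ⟨b, rfl⟩ := IsLocalRing.residue_surjective y
    obtain ⟨r, rfl⟩ := Ideal.Quotient.mk_surjective b
    exact ⟨IsLocalRing.residue A r, IsLocalRing.ResidueField.map_residue _ r⟩
  have hρbij : Function.Bijective ρ := ⟨ρ.injective, hρsurj⟩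
  let φ : IsLocalRing.ResidueField A →ₗ[A] IsLocalRing.ResidueField (A ⧸ a) :=
    { toFun := ρ
      map_add' := map_add ρ
      map_smul' := fun r x => by
        rw [RingHom.id_apply, Algebra.smul_def, Algebra.smul_def, map_mul,
          IsLocalRing.ResidueField.algebraMap_eq,
          IsScalarTower.algebraMap_apply A (A ⧸ a) (IsLocalRing.ResidueField (A ⧸ a)),
          IsLocalRing.ResidueField.algebraMap_eq, Ideal.Quotient.algebraMap_eq]
        congr 1 }
  let e : IsLocalRing.ResidueField A ≃ₗ[A] IsLocalRing.ResidueField (A ⧸ a) :=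
    LinearEquiv.ofBijective φ hρbij
  let f' : IsLocalRing.ResidueField (A ⧸ a) →ₗ[A] E := f ∘ₗ e.symm.toLinearMap
  have hf' : InjHull.IsInjectiveHull f' := by
    refine { injective := ?_, essential := ?_, isInjective := hf.isInjective }
    · exact hf.injective.comp e.symm.injective
    · have hr : LinearMap.range f' = LinearMap.range f :=
        LinearMap.range_comp_of_range_eq_top f (LinearEquiv.range e.symm)
      rw [hr]
      exact hf.essential
  obtain ⟨g, hg, -⟩ := Groth.Agent.S11662.result A a (IsLocalRing.ResidueField (A ⧸ a)) E f' hf'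
  exact ⟨g, hg⟩

end Groth.Agent.S5157
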