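import Groth.Statements.S0345
import Groth.Agent.H29.Gorenstein
import Groth.Agent.H29.DepthMore
import Groth.Agent.H29.ABFormula

set_option autoImplicit false
universe u v
open Goren

namespace Groth.Agent.S0345

open CategoryTheory in
/-- The localization of the `A`-module `A` at `p`, as an object of `ModuleCat A_p`, is `A_p`. -/
noncomputable def locSelfIso (A : Type u) [CommRing A] (p : Ideal A) [p.IsPrime] :
    ((ModuleCat.of A A).localizedModule p.primeCompl) ≅
      ModuleCat.of (Localization.AtPrime p) (Localization.AtPrime p) :=
  ((Shrink.linearEquiv (Localization p.primeCompl) (LocalizedModule p.primeCompl A)).trans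
    ((IsLocalizedModule.iso p.primeCompl
      (Algebra.linearMap A (Localization p.primeCompl))).extendScalarsOfIsLocalization
        p.primeCompl (Localization p.primeCompl))).toModuleIso

/-- For a Noetherian ring A, the A-module A has finite injective dimension exactly when every
localization of A at a prime is Gorenstein and A has finite Krull dimension. -/
theorem result (A : Type u) [CommRing A] [IsNoetherianRing A] : (∃ n : ℕ, CategoryTheory.HasInjectiveDimensionLT (ModuleCat.of A A) n) ↔ (LocCoh.IsGorensteinRing A ∧ ringKrullDim A < ⊤) := by
  classical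
  constructor
  · rintro ⟨n, hn⟩
    have hle : CategoryTheory.HasInjectiveDimensionLE (ModuleCat.of A A) n :=
      CategoryTheory.hasInjectiveDimensionLT_of_ge _ n (n + 1) (by omega)
    have hloc := (ModuleCat.hasInjectiveDimensionLE_iff_forall_primeSpectrum n
      (ModuleCat.of A A)).mp hle
    have key : ∀ (p : Ideal A) [p.IsPrime], CategoryTheory.HasInjectiveDimensionLT
        (ModuleCat.of (Localization.AtPrime p) (Localization.AtPrime p)) (n + 1) := by
      intro p _
      have h := hloc ⟨p, inferInstance⟩
      exact CategoryTheory.hasInjectiveDimensionLT_of_iso (locSelfIso A p) (n + 1)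
    have hG : ∀ (p : Ideal A) [p.IsPrime],
        LocCoh.IsGorensteinLocalRing (Localization.AtPrime p) :=
      fun p _ => { exists_hasInjectiveDimensionLT := ⟨n + 1, key p⟩ }
    refine ⟨{ isGorensteinLocalRing_localization := hG }, ?_⟩
    by_cases hnt : Nontrivial A
    · rw [← Ideal.sup_isPrime_height_eq_ringKrullDim]
      have hsup : (⨆ (I : Ideal A) (_ : I.IsPrime), I.height) ≤ (n : ℕ∞) := by
        refine iSup₂_le (fun p hp => ?_)
        have := hp
        have hGp := hG p
        obtain ⟨t, ht⟩ := Groth.Agent.H29.exists_natCast_eq_depth (Localization.AtPrime p)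
          (Localization.AtPrime p)
        have hdim := Groth.Agent.H29.ringKrullDim_eq_depth_of_gorenstein
          (Localization.AtPrime p) hGp
        rw [IsLocalization.AtPrime.ringKrullDim_eq_height p (Localization.AtPrime p), ht] at hdim
        have hpt : p.height = t := by exact_mod_cast hdim
        have hext := (Groth.Agent.H29.idealDepth_eq_iff_ext
          (IsLocalRing.maximalIdeal (Localization.AtPrime p)) (Localization.AtPrime p)
          (Groth.Agent.H29.maximalIdeal_smul_top_ne_top (Localization.AtPrime p)
            (Localization.AtPrime p)) t).mp ht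
        have htn : t ≤ n := by
          by_contra hlt
          have hkey := key p
          have := CategoryTheory.HasInjectiveDimensionLT.subsingleton
            (ModuleCat.of (Localization.AtPrime p) (Localization.AtPrime p)) (n + 1) t
            (by omega) (ModuleCat.of (Localization.AtPrime p)
              (Localization.AtPrime p ⧸ IsLocalRing.maximalIdeal (Localization.AtPrime p)))
          have hnt2 := hext.2
          exact not_subsingleton _ this
        rw [hpt]
        exact_mod_cast htn
      exact lt_of_le_of_lt (WithBot.coe_le_coe.mpr hsup)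
        (WithBot.coe_lt_coe.mpr (ENat.natCast_lt_top n))
    · rw [not_nontrivial_iff_subsingleton] at hnt
      rw [ringKrullDim_eq_bot_of_subsingleton]
      exact bot_lt_top
  · rintro ⟨hG, hdim⟩
    obtain ⟨d, hd⟩ : ∃ d : ℕ, ringKrullDim A ≤ d := by
      rcases h : ringKrullDim A with _ | x
      · exact ⟨0, bot_le⟩
      · rw [h] at hdim
        have hx : x ≠ ⊤ := fun hx => by
          rw [hx] at hdim
          exact lt_irrefl _ hdim
        obtain ⟨k, rfl⟩ := ENat.ne_top_iff_exists.mp hx
        exact ⟨k, le_rfl⟩
    refine ⟨d + 1, ?_⟩
    show CategoryTheory.HasInjectiveDimensionLE (ModuleCat.of A A) d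
    rw [ModuleCat.hasInjectiveDimensionLE_iff_forall_primeSpectrum]
    intro p
    have hGp := hG.isGorensteinLocalRing_localization p.asIdeal
    obtain ⟨t, ht⟩ := Groth.Agent.H29.exists_natCast_eq_depth (Localization.AtPrime p.asIdeal)
      (Localization.AtPrime p.asIdeal)
    have hinj := Groth.Agent.H29.hasInjectiveDimensionLT_of_gorenstein
      (Localization.AtPrime p.asIdeal) hGp t ht
    have hdimp := Groth.Agent.H29.ringKrullDim_eq_depth_of_gorenstein
      (Localization.AtPrime p.asIdeal) hGp
    rw [IsLocalization.AtPrime.ringKrullDim_eq_height p.asIdeal (Localization.AtPrime p.asIdeal),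
      ht] at hdimp
    have hht : (p.asIdeal.height : WithBot ℕ∞) ≤ d :=
      (Ideal.height_le_ringKrullDim_of_ne_top p.2.ne_top).trans hd
    have htd : t ≤ d := by
      rw [hdimp] at hht
      exact_mod_cast hht
    have : CategoryTheory.HasInjectiveDimensionLT (ModuleCat.of (Localization.AtPrime p.asIdeal)
        (Localization.AtPrime p.asIdeal)) (d + 1) :=
      CategoryTheory.hasInjectiveDimensionLT_of_ge _ (t + 1) (d + 1) (by omega)
    exact CategoryTheory.hasInjectiveDimensionLT_of_iso (locSelfIso A p.asIdeal).symm (d + 1)

end Groth.Agent.S0345
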