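import Groth.Statements.S0342
import Groth.Agent.H29.Bass
import Groth.Agent.H29.RegGlobalDim

set_option autoImplicit false
universe u v
open Goren

namespace Groth.Agent.S0342

/-- Regular local rings have finite injective dimension over themselves, i.e. are Gorenstein. -/
theorem result (A : Type u) [CommRing A] [IsRegularLocalRing A] : LocCoh.IsGorensteinLocalRing A := by
  obtain ⟨d, hd⟩ := Groth.Agent.H29.ringKrullDim_eq_natCast_of_isLocalRing A
  have hk : CategoryTheory.HasProjectiveDimensionLT
      (ModuleCat.of A (A ⧸ IsLocalRing.maximalIdeal A)) (d + 1) :=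
    Groth.Agent.H29.hasProjectiveDimensionLT_of_isRegularLocalRing A d hd _
  exact { exists_hasInjectiveDimensionLT := ⟨d + 1,
    Groth.Agent.H29.hasInjectiveDimensionLT_of_residueField A A d
      (fun i hi => CategoryTheory.HasProjectiveDimensionLT.subsingleton _ (d + 1) i (by omega) _)⟩ }

end Groth.Agent.S0342
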