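import Groth.Statements.S13722
import Mathlib

set_option autoImplicit false
universe u
open scoped TensorProduct
open ZeroCyc

namespace Groth.Agent.S13722

open Polynomial

theorem poly_const {K : Type u} [Field K] (P Q : K[X]) (hQ : Q = P.comp (-X))
    (h : P * Q = C (P.eval 0) ^ 2) : P = C (P.eval 0) := by
  by_cases hc : P.eval 0 = 0
  · rw [hc] at h ⊢
    simp only [ne_eq, OfNat.ofNat_ne_zero, not_false_eq_true, zero_pow, map_zero] at h ⊢
    rcases mul_eq_zero.mp h with h1 | h1
    · exact h1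
    · have : (P.comp (-X)).comp (-X) = P := by
        rw [Polynomial.comp_assoc]; simp
      rw [← this, ← hQ, h1, Polynomial.zero_comp]
  · have hne : P * Q ≠ 0 := by
      rw [h]; exact pow_ne_zero _ (by simpa using hc)
    have hP : P ≠ 0 := left_ne_zero_of_mul hne
    have hQ0 : Q ≠ 0 := right_ne_zero_of_mul hne
    have hdeg := Polynomial.natDegree_mul hP hQ0
    rw [h, ← map_pow, Polynomial.natDegree_C] at hdeg
    have hP0 : P.natDegree = 0 := by omega
    conv_lhs => rw [Polynomial.eq_C_of_natDegree_eq_zero hP0, Polynomial.coeff_zero_eq_eval_zero]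

theorem rTensor_eq_map {A : Type u} [CommRing A] {B : Type u} [CommRing B] [Algebra A B]
    {S S' : Type u} [CommSemiring S] [Algebra A S] [CommSemiring S'] [Algebra A S']
    (φ : S →ₐ[A] S') (z : S ⊗[A] B) :
    φ.toLinearMap.rTensor B z = Algebra.TensorProduct.map φ (AlgHom.id A B) z := by
  induction z using TensorProduct.induction_on with
  | zero => simp
  | tmul a b => rfl
  | add a b ha hb => simp [ha, hb]

theorem compat {A : Type u} [CommRing A] {B : Type u} [CommRing B] [Algebra A B]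
    {C : Type u} [CommRing C] [Algebra A C] (F : B →ₚₗ[A] C)
    {S S' : Type u} [CommSemiring S] [Algebra A S] [CommSemiring S'] [Algebra A S']
    (φ : S →ₐ[A] S') (z : S ⊗[A] B) :
    Algebra.TensorProduct.map φ (AlgHom.id A C) (F.toFun' S z) =
      F.toFun' S' (Algebra.TensorProduct.map φ (AlgHom.id A B) z) := by
  rw [← rTensor_eq_map, ← rTensor_eq_map]
  exact PolynomialLaw.isCompat_apply' φ z

theorem mem_ker_of_poly {A : Type u} [CommRing A] {B : Type u} [CommRing B] [Algebra A B]
    {C : Type u} [CommRing C] [Algebra A C] (F : B →ₚₗ[A] C) (b : B)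
    (h : ∀ (n : ℕ) (x w : MvPolynomial (Fin n) A ⊗[A] B),
      F.toFun' (MvPolynomial (Fin n) A) (x + w * (1 ⊗ₜ[A] b)) =
        F.toFun' (MvPolynomial (Fin n) A) x) :
    b ∈ PolLaw.ker F := by
  change ∀ (S : Type u) [CommSemiring S] [Algebra A S] (x w : S ⊗[A] B),
      F.toFun' S (x + w * (1 ⊗ₜ[A] b)) = F.toFun' S x
  intro S _ _ x w
  obtain ⟨n, ψ, p, hp⟩ := PolynomialLaw.exists_lift (R := A) (M := B × B) (S := S)
      ((LinearMap.inl A B B).lTensor S x + (LinearMap.inr A B B).lTensor S w)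
  have hx : Algebra.TensorProduct.map ψ (AlgHom.id A B)
      ((LinearMap.fst A B B).lTensor _ p) = x := by
    rw [← rTensor_eq_map, ← LinearMap.comp_apply, LinearMap.rTensor_comp_lTensor,
      ← LinearMap.lTensor_comp_rTensor, LinearMap.comp_apply, hp, map_add,
      ← LinearMap.comp_apply, ← LinearMap.comp_apply, ← LinearMap.lTensor_comp,
      ← LinearMap.lTensor_comp, LinearMap.fst_comp_inl, LinearMap.fst_comp_inr]
    simp
  have hw : Algebra.TensorProduct.map ψ (AlgHom.id A B)
      ((LinearMap.snd A B B).lTensor _ p) = w := by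
    rw [← rTensor_eq_map, ← LinearMap.comp_apply, LinearMap.rTensor_comp_lTensor,
      ← LinearMap.lTensor_comp_rTensor, LinearMap.comp_apply, hp, map_add,
      ← LinearMap.comp_apply, ← LinearMap.comp_apply, ← LinearMap.lTensor_comp,
      ← LinearMap.lTensor_comp, LinearMap.snd_comp_inl, LinearMap.snd_comp_inr]
    simp
  have h1 := h n ((LinearMap.fst A B B).lTensor _ p) ((LinearMap.snd A B B).lTensor _ p)
  have h2 := congrArg (Algebra.TensorProduct.map ψ (AlgHom.id A C)) h1
  rw [compat, compat, map_add, map_mul, hx, hw, Algebra.TensorProduct.map_tmul, map_one] at h2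
  exact h2

theorem fieldcase {A : Type u} [CommRing A] {B : Type u} [CommRing B] [Algebra A B]
    {Cc : Type u} [CommRing Cc] [Algebra A Cc] {d : ℕ} (F : PolLaw.MulLaw A B Cc d) (b : B)
    (hb : b ^ 2 ∈ PolLaw.ker F.law)
    (S : Type u) [CommRing S] [Algebra A S] (K : Type u) [Field K] [Algebra A K]
    (ρ : S ⊗[A] Cc →ₐ[A] K) (x w : S ⊗[A] B) :
    ρ (F.law.toFun' S (x + w * (1 ⊗ₜ[A] b))) = ρ (F.law.toFun' S x) := by
  classical
  let j : S →ₐ[A] K[X] :=
    (IsScalarTower.toAlgHom A K K[X]).comp (ρ.comp Algebra.TensorProduct.includeLeft)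
  let c : Cc →ₐ[A] K[X] :=
    (IsScalarTower.toAlgHom A K K[X]).comp (ρ.comp Algebra.TensorProduct.includeRight)
  let m : K[X] ⊗[A] Cc →ₐ[A] K[X] :=
    Algebra.TensorProduct.lift (AlgHom.id A K[X]) c (fun _ _ => Commute.all _ _)
  have hm : ∀ (l : K[X]) (c' : Cc), m (l ⊗ₜ c') = l * c c' := fun l c' => by
    simp [m]
  -- naturality of m w.r.t. K-algebra endomorphisms
  have hnat : ∀ (ψ : K[X] →ₐ[K] K[X]) (r : K[X] ⊗[A] Cc),
      m (Algebra.TensorProduct.map (ψ.restrictScalars A) (AlgHom.id A Cc) r) = ψ (m r) := by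
    intro ψ r
    induction r using TensorProduct.induction_on with
    | zero => simp
    | tmul l c' =>
      rw [Algebra.TensorProduct.map_tmul, hm, hm, map_mul]
      congr 1
      exact (ψ.commutes _).symm
    | add r1 r2 h1 h2 => rw [map_add, map_add, h1, h2, map_add, map_add]
  have hjψ : ∀ (ψ : K[X] →ₐ[K] K[X]), (ψ.restrictScalars A).comp j = j := by
    intro ψ
    refine AlgHom.ext fun s => ?_
    exact ψ.commutes _
  have hmj : ∀ r : S ⊗[A] Cc, m (Algebra.TensorProduct.map j (AlgHom.id A Cc) r) = C (ρ r) := by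
    intro r
    induction r using TensorProduct.induction_on with
    | zero => simp
    | tmul s c' =>
      rw [Algebra.TensorProduct.map_tmul, hm]
      have : s ⊗ₜ[A] c' = (s ⊗ₜ[A] (1 : Cc)) * ((1 : S) ⊗ₜ[A] c') := by simp
      rw [this, map_mul, map_mul]
      rfl
    | add r1 r2 h1 h2 => rw [map_add, map_add, h1, h2, map_add, map_add]
  set u : K[X] ⊗[A] B := Algebra.TensorProduct.map j (AlgHom.id A B) x with hu
  set v : K[X] ⊗[A] B := Algebra.TensorProduct.map j (AlgHom.id A B) w with hv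
  set e : K[X] ⊗[A] B := (1 : K[X]) ⊗ₜ[A] b with he
  -- the family y(q) = u + (q ⊗ 1) v e
  let y : K[X] → K[X] ⊗[A] B := fun q => u + (q ⊗ₜ[A] (1 : B)) * v * e
  have hψy : ∀ (ψ : K[X] →ₐ[K] K[X]) (q : K[X]),
      Algebra.TensorProduct.map (ψ.restrictScalars A) (AlgHom.id A B) (y q) = y (ψ q) := by
    intro ψ q
    simp only [y, map_add, map_mul, hu, hv, he, Algebra.TensorProduct.map_tmul, map_one]
    rw [← AlgHom.comp_apply, ← AlgHom.comp_apply, ← Algebra.TensorProduct.map_comp, hjψ]
    rfl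
  let P : K[X] → K[X] := fun q => m (F.law.toFun' K[X] (y q))
  have hP : ∀ (ψ : K[X] →ₐ[K] K[X]) (q : K[X]), ψ (P q) = P (ψ q) := by
    intro ψ q
    simp only [P]
    rw [← hnat, compat, hψy]
  have hPX0 : (P X).comp (C 0) = P 0 := by
    have := hP (aeval (C (0:K))) X
    rw [aeval_X] at this
    simpa [comp_eq_aeval] using this
  have hPX1 : (P X).comp (C 1) = P 1 := by
    have := hP (aeval (C (1:K))) X
    rw [aeval_X] at this
    simpa [comp_eq_aeval] using this
  have hPXneg : (P X).comp (-X) = P (-X) := by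
    have := hP (aeval (-X : K[X])) X
    rw [aeval_X] at this
    simpa [comp_eq_aeval] using this
  have hy0 : y 0 = u := by simp [y]
  have hy1 : y 1 = u + v * e := by simp [y, ← Algebra.TensorProduct.one_def]
  have hprod : y X * y (-X) =
      u ^ 2 + (-(((X : K[X]) ⊗ₜ[A] (1 : B)) * v) ^ 2) * ((1 : K[X]) ⊗ₜ[A] (b ^ 2)) := by
    simp only [y, TensorProduct.neg_tmul]
    have : (1 : K[X]) ⊗ₜ[A] (b ^ 2) = e ^ 2 := by simp [he, Algebra.TensorProduct.tmul_pow]
    rw [this]; ring
  have hmul : P X * P (-X) = P 0 ^ 2 := by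
    simp only [P]
    rw [← map_mul, ← (F.mult K[X]).2, hprod, hb K[X] _ _, hy0, pow_two, (F.mult K[X]).2, map_mul,
      ← pow_two]
  have hconst : P X = C ((P X).eval 0) := by
    apply poly_const (P X) (P (-X)) hPXneg.symm
    rw [hmul, ← hPX0, comp_C]
  have h01 : P 1 = P 0 := by
    rw [← hPX1, ← hPX0, comp_C, comp_C]
    conv_lhs => rw [hconst]
    simp
  have h1 : P 1 = C (ρ (F.law.toFun' S (x + w * (1 ⊗ₜ[A] b)))) := by
    simp only [P]
    rw [hy1, ← hmj, compat, map_add, map_mul, Algebra.TensorProduct.map_tmul, map_one]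
    rfl
  have h0 : P 0 = C (ρ (F.law.toFun' S x)) := by
    simp only [P]
    rw [hy0, ← hmj, compat]
  exact C_injective (h1.symm.trans (h01.trans h0))

/-- Let B and C be commutative algebras over the commutative ring A and F : B → C a multiplicative
polynomial law homogeneous of degree d. If C is reduced, then the quotient of B by the kernel of F
is reduced. In particular the image of a family of zero-cycles parametrised by a reduced base is
reduced. -/
theorem result {A : Type u} [CommRing A] {B : Type u} [CommRing B] [Algebra A B]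
    {C : Type u} [CommRing C] [Algebra A C] [IsReduced C] {d : ℕ} (F : PolLaw.MulLaw A B C d) :
    IsReduced (PolLaw.image F.law) := by
  classical
  rw [← Ideal.isRadical_iff_quotient_reduced, Ideal.isRadical_iff_pow_one_lt 2 one_lt_two]
  intro b hb
  apply mem_ker_of_poly
  intro n x w
  haveI : IsReduced (MvPolynomial (Fin n) A ⊗[A] C) := by
    let e1 : MvPolynomial (Fin n) A ⊗[A] C ≃ₐ[A] C ⊗[A] MvPolynomial (Fin n) A :=
      Algebra.TensorProduct.comm A _ _
    let e2 : C ⊗[A] MvPolynomial (Fin n) A ≃ₐ[C] MvPolynomial (Fin n) C :=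
      MvPolynomial.scalarRTensorAlgEquiv
    have hinj : Function.Injective
        ((e2.toRingEquiv.toRingHom).comp (e1.toRingEquiv.toRingHom)) := by
      intro a b hab
      exact e1.injective (e2.injective hab)
    exact isReduced_of_injective _ hinj
  rw [← sub_eq_zero]
  have hnil : F.law.toFun' (MvPolynomial (Fin n) A) (x + w * (1 ⊗ₜ[A] b)) -
      F.law.toFun' (MvPolynomial (Fin n) A) x ∈ nilradical (MvPolynomial (Fin n) A ⊗[A] C) := by
    rw [nilradical_eq_sInf, Ideal.mem_sInf]
    intro 𝔭 h𝔭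
    haveI : 𝔭.IsPrime := h𝔭
    let K := FractionRing (MvPolynomial (Fin n) A ⊗[A] C ⧸ 𝔭)
    let ρ : MvPolynomial (Fin n) A ⊗[A] C →ₐ[A] K :=
      (IsScalarTower.toAlgHom A (MvPolynomial (Fin n) A ⊗[A] C ⧸ 𝔭) K).comp (Ideal.Quotient.mkₐ A 𝔭)
    have h := fieldcase F b hb (MvPolynomial (Fin n) A) K ρ x w
    rw [← sub_eq_zero, ← map_sub] at h
    have h2 : (Ideal.Quotient.mk 𝔭) (F.law.toFun' (MvPolynomial (Fin n) A) (x + w * (1 ⊗ₜ[A] b)) -
      F.law.toFun' (MvPolynomial (Fin n) A) x) = 0 :=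
      IsFractionRing.injective (MvPolynomial (Fin n) A ⊗[A] C ⧸ 𝔭) K (by rw [map_zero]; exact h)
    exact Ideal.Quotient.eq_zero_iff_mem.mp h2
  rw [nilradical_eq_zero] at hnil
  exact hnil

end Groth.Agent.S13722
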