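import Groth.Statements.S13720
import Mathlib

set_option autoImplicit false
universe u
open scoped TensorProduct
open ZeroCyc

namespace Groth.Agent.S13720

theorem precomp_apply {A : Type u} [CommRing A] {B : Type u} [CommRing B] [Algebra A B]
    {C : Type u} [CommRing C] [Algebra A C] {B' : Type u} [CommRing B'] [Algebra A B'] {d : ℕ}
    (F : PolLaw.MulLaw A B C d) (f : B' →ₐ[A] B) (S : Type u) [CommSemiring S] [Algebra A S]
    (y : S ⊗[A] B') :
    (F.precomp f).law.toFun' S y =
      F.law.toFun' S (Algebra.TensorProduct.map (AlgHom.id S S) f y) := by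
  rw [← PolLaw.lTensor_algHom_apply]
  rfl

theorem lift_tensor {A : Type u} [CommRing A] {B : Type u} [CommRing B] [Algebra A B]
    {ι : Type u} [Preorder ι] [IsDirected ι (fun i j => i ≤ j)]
    (Bi : ι → Type u) [∀ i, CommRing (Bi i)] [∀ i, Algebra A (Bi i)]
    (t : ∀ i j : ι, i ≤ j → (Bi i →ₐ[A] Bi j)) (φ : ∀ i : ι, Bi i →ₐ[A] B)
    (hcomp : ∀ (i j : ι) (h : i ≤ j), (φ j).comp (t i j h) = φ i)
    (hsurj : ∀ b : B, ∃ (i : ι) (x : Bi i), φ i x = b)
    (S : Type u) [CommSemiring S] [Algebra A S] (z : S ⊗[A] B) (i0 : ι) :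
    ∃ (j : ι) (_ : i0 ≤ j) (y : S ⊗[A] Bi j),
      Algebra.TensorProduct.map (AlgHom.id S S) (φ j) y = z := by
  induction z using TensorProduct.induction_on generalizing i0 with
  | zero => exact ⟨i0, le_rfl, 0, map_zero _⟩
  | tmul s b =>
    obtain ⟨i, x, hx⟩ := hsurj b
    obtain ⟨j, hij, hi0j⟩ := directed_of (fun i j => i ≤ j) i i0
    refine ⟨j, hi0j, s ⊗ₜ t i j hij x, ?_⟩
    rw [Algebra.TensorProduct.map_tmul]
    have := AlgHom.congr_fun (hcomp i j hij) x
    simp only [AlgHom.comp_apply] at this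
    rw [this, hx]
    rfl
  | add z1 z2 h1 h2 =>
    obtain ⟨j1, hj1, y1, hy1⟩ := h1 i0
    obtain ⟨j2, hj2, y2, hy2⟩ := h2 j1
    refine ⟨j2, hj1.trans hj2, Algebra.TensorProduct.map (AlgHom.id S S) (t j1 j2 hj2) y1 + y2, ?_⟩
    rw [map_add, hy2, ← hy1]
    congr 1
    rw [← AlgHom.comp_apply, ← Algebra.TensorProduct.map_comp, hcomp]
    rfl

/-- Let B be the filtered direct limit of a directed system (B_i, t_ij : B_i → B_j) of commutative
algebras over the commutative ring A, with structure maps φ_i : B_i → B (jointly surjective, and an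
element of B_i vanishing in B already vanishes in some B_j), and let F : B → C be a multiplicative
polynomial law homogeneous of degree d, with restrictions F_i = F ∘ φ_i. Then an element b of B lies
in the kernel of F if and only if it is the image of some x ∈ B_i whose images in B_j lie in the
kernel of F_j for every j ≥ i; that is, the kernel of F is the direct limit of the kernels of the
F_i. -/
theorem result {A : Type u} [CommRing A] {B : Type u} [CommRing B] [Algebra A B]
    {C : Type u} [CommRing C] [Algebra A C] {ι : Type u} [Preorder ι] [IsDirected ι (fun i j => i ≤ j)] [Nonempty ι]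
    (Bi : ι → Type u) [∀ i, CommRing (Bi i)] [∀ i, Algebra A (Bi i)]
    (t : ∀ i j : ι, i ≤ j → (Bi i →ₐ[A] Bi j)) (φ : ∀ i : ι, Bi i →ₐ[A] B)
    (hcomp : ∀ (i j : ι) (h : i ≤ j), (φ j).comp (t i j h) = φ i)
    (hsurj : ∀ b : B, ∃ (i : ι) (x : Bi i), φ i x = b)
    (hzero : ∀ (i : ι) (x : Bi i), φ i x = 0 → ∃ (j : ι) (h : i ≤ j), t i j h x = 0)
    {d : ℕ} (F : PolLaw.MulLaw A B C d) (b : B) :
    b ∈ PolLaw.ker F.law ↔ ∃ (i : ι) (x : Bi i), φ i x = b ∧
      ∀ (j : ι) (h : i ≤ j), t i j h x ∈ PolLaw.ker (F.precomp (φ j)).law := by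
  constructor
  · intro hb
    obtain ⟨i, x, hx⟩ := hsurj b
    refine ⟨i, x, hx, fun j h => ?_⟩
    change ∀ (S : Type u) [CommSemiring S] [Algebra A S] (y w : S ⊗[A] Bi j),
      (F.precomp (φ j)).law.toFun' S (y + w * (1 ⊗ₜ[A] t i j h x)) = (F.precomp (φ j)).law.toFun' S y
    intro S _ _ y w
    rw [precomp_apply, precomp_apply, map_add, map_mul, Algebra.TensorProduct.map_tmul]
    have h1 := AlgHom.congr_fun (hcomp i j h) x
    simp only [AlgHom.comp_apply] at h1
    rw [h1, hx, map_one]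
    exact hb S _ _
  · rintro ⟨i, x, hx, hker⟩
    change ∀ (S : Type u) [CommSemiring S] [Algebra A S] (y w : S ⊗[A] B),
      F.law.toFun' S (y + w * (1 ⊗ₜ[A] b)) = F.law.toFun' S y
    intro S _ _ y w
    obtain ⟨j1, hj1, y1, hy1⟩ := lift_tensor Bi t φ hcomp hsurj S y i
    obtain ⟨j2, hj2, w2, hw2⟩ := lift_tensor Bi t φ hcomp hsurj S w j1
    have hk := hker j2 (hj1.trans hj2) S
      (Algebra.TensorProduct.map (AlgHom.id S S) (t j1 j2 hj2) y1) w2
    rw [precomp_apply, precomp_apply, map_add, map_mul, Algebra.TensorProduct.map_tmul] at hk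
    have h1 := AlgHom.congr_fun (hcomp i j2 (hj1.trans hj2)) x
    simp only [AlgHom.comp_apply] at h1
    rw [h1, hx, map_one, hw2, ← AlgHom.comp_apply, ← Algebra.TensorProduct.map_comp, hcomp] at hk
    have h2 : Algebra.TensorProduct.map ((AlgHom.id S S).comp (AlgHom.id S S)) (φ j1) y1 = y := hy1
    rw [h2] at hk
    exact hk

end Groth.Agent.S13720
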