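import Groth.Statements.S13699
import Mathlib
import Groth.Agent.S13722

set_option autoImplicit false
universe u
open scoped TensorProduct
open ZeroCyc

namespace Groth.Agent.S13699

open Polynomial

section
variable {A : Type u} [CommRing A] {B : Type u} [CommRing B] [Algebra A B]

theorem mem_kerBC_iff (F : B →ₚₗ[A] A) (A' : Type u) [CommRing A'] [Algebra A A']
    (b' : A' ⊗[A] B) :
    b' ∈ PolLaw.kerBC F A' ↔ ∀ (R : Type u) [CommSemiring R] [Algebra A R] [Algebra A' R]
      [IsScalarTower A A' R] (x w : R ⊗[A] B),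
      F.toFun' R (x + w * Algebra.TensorProduct.map (IsScalarTower.toAlgHom A A' R)
        (AlgHom.id A B) b') = F.toFun' R x := Iff.rfl

theorem map_ker_le (F : B →ₚₗ[A] A) (A' : Type u) [CommRing A'] [Algebra A A'] :
    (PolLaw.ker F).map (Algebra.TensorProduct.includeRight : B →ₐ[A] A' ⊗[A] B) ≤
      PolLaw.kerBC F A' := by
  rw [Ideal.map_le_iff_le_comap]
  intro b hb
  rw [Ideal.mem_comap, mem_kerBC_iff]
  intro R _ _ _ _ x w
  simp only [Algebra.TensorProduct.includeRight_apply, Algebra.TensorProduct.map_tmul, map_one,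
    AlgHom.coe_id, id_eq]
  exact hb R x w

theorem tmul_one_mul {M : Type u} [CommRing M] [Algebra A M] (S : Type u) [CommSemiring S]
    [Algebra A S] (s : S) (z : S ⊗[A] M) : (s ⊗ₜ[A] (1 : M)) * z = s • z := by
  induction z using TensorProduct.induction_on with
  | zero => simp
  | tmul s' b => rw [Algebra.TensorProduct.tmul_mul_tmul, one_mul, TensorProduct.smul_tmul',
      smul_eq_mul]
  | add x y hx hy => rw [mul_add, hx, hy, smul_add]

theorem coeff_zero_mem (F : B →ₚₗ[A] A) (N : ℕ) (b : ℕ → B)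
    (h : ∑ i ∈ Finset.range (N + 1), ((X : A[X]) ^ i) ⊗ₜ[A] b i ∈ PolLaw.kerBC F A[X]) :
    b 0 ∈ PolLaw.ker F := by
  change ∀ (S : Type u) [CommSemiring S] [Algebra A S] (x w : S ⊗[A] B),
    F.toFun' S (x + w * (1 ⊗ₜ[A] b 0)) = F.toFun' S x
  intro S _ _ x w
  letI : Algebra A[X] S := (aeval (0 : S)).toRingHom.toAlgebra
  haveI : IsScalarTower A A[X] S :=
    IsScalarTower.of_algebraMap_eq (fun a => ((aeval (0 : S)).commutes a).symm)
  have := h S x w
  have e : IsScalarTower.toAlgHom A A[X] S = aeval (0 : S) := AlgHom.ext (fun p => rfl)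
  rw [e, map_sum, Finset.sum_range_succ'] at this
  simpa using this

theorem cancel_X {S : Type u} [CommRing S] [Algebra A S] (d : ℕ) (z z' : S[X] ⊗[A] A)
    (h : ((X : S[X]) ^ d) • z = ((X : S[X]) ^ d) • z') : z = z' := by
  have h1 := congrArg (Algebra.TensorProduct.rid A S[X] S[X]) h
  rw [map_smul, map_smul, smul_eq_mul, smul_eq_mul] at h1
  exact (Algebra.TensorProduct.rid A S[X] S[X]).injective ((isRegular_X_pow d).left h1)
theorem div_X {d : ℕ} (F : PolLaw.MulLaw A B A d) (y : A[X] ⊗[A] B)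
    (h : ((X : A[X]) ⊗ₜ[A] (1 : B)) * y ∈ PolLaw.kerBC F.law A[X]) :
    y ∈ PolLaw.kerBC F.law A[X] := by
  rw [mem_kerBC_iff]
  intro R _ _ _ _ x w
  obtain ⟨n, ψ, p, hp⟩ := PolynomialLaw.exists_lift (R := A) (M := B × B) (S := R)
      ((LinearMap.inl A B B).lTensor R x + (LinearMap.inr A B B).lTensor R w)
  have hx : Algebra.TensorProduct.map ψ (AlgHom.id A B)
      ((LinearMap.fst A B B).lTensor _ p) = x := by
    rw [← Groth.Agent.S13722.rTensor_eq_map, ← LinearMap.comp_apply,
      LinearMap.rTensor_comp_lTensor,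
      ← LinearMap.lTensor_comp_rTensor, LinearMap.comp_apply, hp, map_add,
      ← LinearMap.comp_apply, ← LinearMap.comp_apply, ← LinearMap.lTensor_comp,
      ← LinearMap.lTensor_comp, LinearMap.fst_comp_inl, LinearMap.fst_comp_inr]
    simp
  have hw : Algebra.TensorProduct.map ψ (AlgHom.id A B)
      ((LinearMap.snd A B B).lTensor _ p) = w := by
    rw [← Groth.Agent.S13722.rTensor_eq_map, ← LinearMap.comp_apply,
      LinearMap.rTensor_comp_lTensor,
      ← LinearMap.lTensor_comp_rTensor, LinearMap.comp_apply, hp, map_add,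
      ← LinearMap.comp_apply, ← LinearMap.comp_apply, ← LinearMap.lTensor_comp,
      ← LinearMap.lTensor_comp, LinearMap.snd_comp_inl, LinearMap.snd_comp_inr]
    simp
  set S := MvPolynomial (Fin n) A with hS
  set x₀ : S ⊗[A] B := (LinearMap.fst A B B).lTensor _ p with hx₀
  set w₀ : S ⊗[A] B := (LinearMap.snd A B B).lTensor _ p with hw₀
  let r : R := algebraMap A[X] R X
  let Ψ : S[X] →ₐ[A] R := Polynomial.aevalTower ψ r
  letI : Algebra A[X] S[X] := (Polynomial.mapRingHom (algebraMap A S)).toAlgebra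
  haveI : IsScalarTower A A[X] S[X] := IsScalarTower.of_algebraMap_eq (fun a => by
    show (algebraMap A S[X]) a = Polynomial.map (algebraMap A S) (algebraMap A A[X] a)
    rw [Polynomial.algebraMap_apply, Polynomial.algebraMap_apply, Polynomial.map_C]
    rfl)
  let cS : S →ₐ[A] S[X] := IsScalarTower.toAlgHom A S S[X]
  have hΨc : Ψ.comp cS = ψ := by
    refine AlgHom.ext fun s => ?_
    show Polynomial.aevalTower ψ r (IsScalarTower.toAlgHom A S S[X] s) = ψ s
    rw [Polynomial.aevalTower_toAlgHom]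
  have hΨX : Ψ.comp (IsScalarTower.toAlgHom A A[X] S[X]) = IsScalarTower.toAlgHom A A[X] R := by
    refine Polynomial.algHom_ext ?_
    show Polynomial.aevalTower ψ r (Polynomial.map (algebraMap A S) X) = algebraMap A[X] R X
    rw [Polynomial.map_X, Polynomial.aevalTower_X]
  set x' := Algebra.TensorProduct.map cS (AlgHom.id A B) x₀ with hx'
  set w' := Algebra.TensorProduct.map cS (AlgHom.id A B) w₀ with hw'
  set yS := Algebra.TensorProduct.map (IsScalarTower.toAlgHom A A[X] S[X]) (AlgHom.id A B) y with hyS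
  have core : F.law.toFun' S[X] (x' + w' * yS) = F.law.toFun' S[X] x' := by
    have h1 := h S[X] (((X : S[X]) ⊗ₜ[A] (1 : B)) * x') w'
    rw [map_mul, Algebra.TensorProduct.map_tmul, map_one] at h1
    have hX : (IsScalarTower.toAlgHom A A[X] S[X]) X = X := by
      show Polynomial.map (algebraMap A S) X = X
      rw [Polynomial.map_X]
    rw [hX, ← hyS] at h1
    have e1 : ((X : S[X]) ⊗ₜ[A] (1 : B)) * x' + w' * (((X : S[X]) ⊗ₜ[A] (1 : B)) * yS) =
        (X : S[X]) • (x' + w' * yS) := by
      rw [← tmul_one_mul]; ring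
    rw [e1, tmul_one_mul, F.homog, F.homog] at h1
    exact cancel_X d _ _ h1
  have h2 := congrArg (Algebra.TensorProduct.map Ψ (AlgHom.id A A)) core
  rw [Groth.Agent.S13722.compat, Groth.Agent.S13722.compat, map_add, map_mul] at h2
  have e2 : Algebra.TensorProduct.map Ψ (AlgHom.id A B) x' = x := by
    rw [hx', ← AlgHom.comp_apply, ← Algebra.TensorProduct.map_comp, hΨc]
    exact hx
  have e3 : Algebra.TensorProduct.map Ψ (AlgHom.id A B) w' = w := by
    rw [hw', ← AlgHom.comp_apply, ← Algebra.TensorProduct.map_comp, hΨc]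
    exact hw
  have e4 : Algebra.TensorProduct.map Ψ (AlgHom.id A B) yS =
      Algebra.TensorProduct.map (IsScalarTower.toAlgHom A A[X] R) (AlgHom.id A B) y := by
    rw [hyS, ← AlgHom.comp_apply, ← Algebra.TensorProduct.map_comp, hΨX]
    rfl
  rw [e2, e3, e4] at h2
  exact h2
theorem coeffs_mem {d : ℕ} (F : PolLaw.MulLaw A B A d) : ∀ (N : ℕ) (b : ℕ → B),
    (∑ i ∈ Finset.range (N + 1), ((X : A[X]) ^ i) ⊗ₜ[A] b i) ∈ PolLaw.kerBC F.law A[X] →
    ∀ i, i ≤ N → b i ∈ PolLaw.ker F.law := by
  intro N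
  induction N with
  | zero =>
    intro b h i hi
    obtain rfl : i = 0 := by omega
    exact coeff_zero_mem F.law 0 b h
  | succ N ih =>
    intro b h i hi
    have h0 := coeff_zero_mem F.law (N + 1) b h
    have hy : ((X : A[X]) ⊗ₜ[A] (1 : B)) * ∑ i ∈ Finset.range (N + 1), ((X : A[X]) ^ i) ⊗ₜ[A] b (i + 1)
        ∈ PolLaw.kerBC F.law A[X] := by
      have e : ∑ i ∈ Finset.range (N + 1 + 1), ((X : A[X]) ^ i) ⊗ₜ[A] b i =
          ((X : A[X]) ⊗ₜ[A] (1 : B)) * ∑ i ∈ Finset.range (N + 1), ((X : A[X]) ^ i) ⊗ₜ[A] b (i + 1)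
            + (1 : A[X]) ⊗ₜ[A] b 0 := by
        rw [Finset.sum_range_succ', Finset.mul_sum]
        simp [pow_succ, Algebra.TensorProduct.tmul_mul_tmul, mul_comm]
      rw [e] at h
      have h1 : (1 : A[X]) ⊗ₜ[A] b 0 ∈ PolLaw.kerBC F.law A[X] :=
        map_ker_le _ _ (Ideal.mem_map_of_mem _ h0)
      exact (Ideal.add_mem_iff_left _ h1).mp h
    have h2 := ih (fun i => b (i + 1)) (div_X F _ hy)
    rcases Nat.eq_zero_or_pos i with rfl | hpos
    · exact h0
    · have h3 := h2 (i - 1) (by omega)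
      simp only [Nat.sub_add_cancel hpos] at h3
      exact h3

theorem exists_repr (b' : A[X] ⊗[A] B) : ∃ f : ℕ →₀ B,
    b' = Finsupp.lsum A (fun i => (TensorProduct.mk A A[X] B ((X : A[X]) ^ i))) f := by
  suffices h : b' ∈ LinearMap.range
      (Finsupp.lsum A (fun i => (TensorProduct.mk A A[X] B ((X : A[X]) ^ i)))) by
    obtain ⟨f, hf⟩ := h
    exact ⟨f, hf.symm⟩
  induction b' using TensorProduct.induction_on with
  | zero => exact zero_mem _
  | add x y hx hy => exact add_mem hx hy
  | tmul p c =>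
    induction p using Polynomial.induction_on' with
    | add p q hp hq => rw [TensorProduct.add_tmul]; exact add_mem hp hq
    | monomial i a =>
      refine ⟨Finsupp.single i (a • c), ?_⟩
      rw [Finsupp.lsum_single, TensorProduct.mk_apply, ← TensorProduct.smul_tmul,
        ← Polynomial.C_mul_X_pow_eq_monomial, Polynomial.smul_eq_C_mul]
end

/-- Let F : B → A be a multiplicative polynomial law homogeneous of degree d over the commutative ring
A. Then the kernel of the base change of F to the polynomial ring A[X] is the ideal of A[X] ⊗_A B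
generated by the kernel of F. -/
theorem result {A : Type u} [CommRing A] {B : Type u} [CommRing B] [Algebra A B]
    {d : ℕ} (F : PolLaw.MulLaw A B A d) :
    (PolLaw.ker F.law).map (Algebra.TensorProduct.includeRight : B →ₐ[A] Polynomial A ⊗[A] B) =
      PolLaw.kerBC F.law (Polynomial A) := by
  apply le_antisymm (map_ker_le _ _)
  intro b' hb'
  obtain ⟨f, hf⟩ := exists_repr b'
  have hsum : b' = ∑ i ∈ Finset.range (f.support.sup id + 1), ((X : A[X]) ^ i) ⊗ₜ[A] f i := by
    rw [hf, Finsupp.lsum_apply, Finsupp.sum_of_support_subset f (s := Finset.range (f.support.sup id + 1))]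
    · rfl
    · intro i hi
      rw [Finset.mem_range]
      have := Finset.le_sup (f := id) hi
      simp only [id_eq] at this
      omega
    · intro i _
      simp
  have hmem := coeffs_mem F (f.support.sup id) (fun i => f i) (hsum ▸ hb')
  rw [hsum]
  refine Ideal.sum_mem _ fun i hi => ?_
  have e : ((X : A[X]) ^ i) ⊗ₜ[A] f i = (((X : A[X]) ^ i) ⊗ₜ[A] (1 : B)) *
      (Algebra.TensorProduct.includeRight : B →ₐ[A] Polynomial A ⊗[A] B) (f i) := by
    simp
  rw [e]
  exact Ideal.mul_mem_left _ _ (Ideal.mem_map_of_mem _ (hmem i (by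
    have := Finset.mem_range.mp hi; omega)))

end Groth.Agent.S13699
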