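import Groth.Statements.S13719
import Mathlib
import Groth.Agent.S13722

set_option autoImplicit false
universe u
open scoped TensorProduct
open ZeroCyc

namespace Groth.Agent.S13719

open Polynomial

theorem idem01 {A : Type u} [CommRing A] [ConnectedSpace (PrimeSpectrum A)] (a : A)
    (ha : IsIdempotentElem a) : a = 0 ∨ a = 1 := by
  have hcl : IsClopen (PrimeSpectrum.basicOpen a : Set (PrimeSpectrum A)) :=
    PrimeSpectrum.isClopen_iff.mpr ⟨a, ha, rfl⟩
  rcases isClopen_iff.mp hcl with h | h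
  · left
    exact PrimeSpectrum.basicOpen_injOn_isIdempotentElem ha IsIdempotentElem.zero
      (TopologicalSpace.Opens.ext (h.trans (by simp)))
  · right
    exact PrimeSpectrum.basicOpen_injOn_isIdempotentElem ha IsIdempotentElem.one
      (TopologicalSpace.Opens.ext (h.trans (by simp)))

theorem grouplike_coeff {A : Type u} [CommRing A] (P : A[X])
    (h : aeval (C X * X : A[X][X]) P = aeval (C X : A[X][X]) P * aeval (X : A[X][X]) P)
    (k l : ℕ) : P.coeff k * P.coeff l = if k = l then P.coeff l else 0 := by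
  have h1 : aeval (C X : A[X][X]) P = C P := by
    have := Polynomial.aeval_algebraMap_apply (A := A[X]) A[X][X] (X : A[X]) P
    rw [aeval_X_left_apply] at this
    exact this
  have h2 : aeval (X : A[X][X]) P = P.map C := by
    rw [aeval_X_left_eq_map]; rfl
  have h3 : (aeval (C X * X : A[X][X]) P).coeff l = C (P.coeff l) * X ^ l := by
    rw [aeval_eq_sum_range' (n := max P.natDegree l + 1) (by omega), finsetSum_coeff]
    have : ∀ i : ℕ, (P.coeff i • (C X * X : A[X][X]) ^ i).coeff l =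
        if l = i then C (P.coeff i) * X ^ i else 0 := by
      intro i
      rw [mul_pow, ← C_pow, coeff_smul, coeff_C_mul, coeff_X_pow]
      split_ifs with hli
      · rw [mul_one, smul_eq_C_mul]
      · simp
    simp_rw [this]
    rw [Finset.sum_ite_eq]
    rw [if_pos (by simp)]
  have h4 := congrArg (fun q => (q.coeff l).coeff k) h
  simp only [h3, h1, h2, coeff_C_mul, coeff_map, coeff_X_pow, coeff_mul_C] at h4
  rw [← h4]
  split_ifs <;> simp

theorem eq_X_pow {A : Type u} [CommRing A] [ConnectedSpace (PrimeSpectrum A)] (P : A[X])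
    (hP : P ≠ 0)
    (hk : ∀ k l, P.coeff k * P.coeff l = if k = l then P.coeff l else 0) : ∃ k : ℕ, P = X ^ k := by
  obtain ⟨k, hk0⟩ : ∃ k, P.coeff k ≠ 0 := by
    by_contra hcon
    push Not at hcon
    exact hP (Polynomial.ext (by simpa using hcon))
  have hk1 : P.coeff k = 1 := by
    rcases idem01 (P.coeff k) (by have := hk k k; simpa [IsIdempotentElem] using this) with h | h
    · exact absurd h hk0
    · exact h
  refine ⟨k, Polynomial.ext fun l => ?_⟩
  rw [coeff_X_pow]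
  split_ifs with hlk
  · rw [hlk, hk1]
  · have := hk l k
    rw [if_neg hlk, hk1, mul_one] at this
    exact this

theorem idem_law {A : Type u} [CommRing A] [ConnectedSpace (PrimeSpectrum A)]
    {B : Type u} [CommRing B] [Algebra A B] {d : ℕ} (F : PolLaw.MulLaw A B A d) (e e' : B)
    (hsum : e + e' = 1) (hee' : e * e' = 0) :
    ∃ k : ℕ, ∀ (S : Type u) [CommSemiring S] [Algebra A S] (s : S),
      F.law.toFun' S (s ⊗ₜ[A] e + 1 ⊗ₜ[A] e') = (s ^ k) ⊗ₜ[A] (1 : A) := by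
  haveI : Nontrivial A := PrimeSpectrum.nonempty_iff_nontrivial.mp inferInstance
  have he : e * e = e := by
    have : e * (e + e') = e := by rw [hsum, mul_one]
    rw [mul_add, hee', add_zero] at this; exact this
  have hee'2 : e' * e = 0 := by rw [mul_comm]; exact hee'
  have he' : e' * e' = e' := by
    have : e' * (e + e') = e' := by rw [hsum, mul_one]
    rw [mul_add, hee'2, zero_add] at this; exact this
  set P : A[X] := Algebra.TensorProduct.rid A A A[X]
    (F.law.toFun' A[X] (X ⊗ₜ e + 1 ⊗ₜ e')) with hPdef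
  have hP : F.law.toFun' A[X] (X ⊗ₜ e + 1 ⊗ₜ e') = P ⊗ₜ 1 := by
    rw [hPdef, ← Algebra.TensorProduct.rid_symm_apply (R := A) (S := A), AlgEquiv.symm_apply_apply]
  have key : ∀ (S : Type u) [CommSemiring S] [Algebra A S] (s : S),
      F.law.toFun' S (s ⊗ₜ e + 1 ⊗ₜ e') = (aeval s P) ⊗ₜ[A] (1 : A) := by
    intro S _ _ s
    have := Groth.Agent.S13722.compat F.law (aeval s : A[X] →ₐ[A] S) (X ⊗ₜ e + 1 ⊗ₜ e')
    rw [hP] at this
    simp only [map_add, Algebra.TensorProduct.map_tmul, aeval_X, map_one, AlgHom.coe_id,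
      id_eq] at this
    exact this.symm
  have hmulz : ∀ (S : Type u) [CommSemiring S] [Algebra A S] (s s' : S),
      (s ⊗ₜ[A] e + 1 ⊗ₜ[A] e') * (s' ⊗ₜ[A] e + 1 ⊗ₜ[A] e') =
        ((s * s') ⊗ₜ[A] e + 1 ⊗ₜ[A] e') := by
    intro S _ _ s s'
    simp only [add_mul, mul_add, Algebra.TensorProduct.tmul_mul_tmul, he, he', hee', hee'2,
      TensorProduct.tmul_zero, add_zero, zero_add, mul_one]
  have hmulP : ∀ (S : Type u) [CommSemiring S] [Algebra A S] (s s' : S),
      aeval (s * s') P = aeval s P * aeval s' P := by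
    intro S _ _ s s'
    have h1 := (F.mult S).2 (s ⊗ₜ e + 1 ⊗ₜ e') (s' ⊗ₜ e + 1 ⊗ₜ e')
    rw [hmulz, key, key, key, Algebra.TensorProduct.tmul_mul_tmul, mul_one] at h1
    have := congrArg (Algebra.TensorProduct.rid A A S) h1
    simpa using this
  have hP0 : P ≠ 0 := by
    intro h0
    have h1 := key A 1
    rw [← TensorProduct.tmul_add, hsum, h0, map_zero, TensorProduct.zero_tmul,
      ← Algebra.TensorProduct.one_def, (F.mult A).1] at h1
    have := congrArg (Algebra.TensorProduct.rid A A A) h1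
    simp at this
  obtain ⟨k, hk⟩ := eq_X_pow P hP0 (grouplike_coeff P (hmulP A[X][X] (C X) X))
  refine ⟨k, fun S _ _ s => ?_⟩
  rw [key, hk, map_pow, aeval_X]

section corner
variable {A : Type u} [CommRing A] {B : Type u} [CommRing B] [Algebra A B]
  {B₁ : Type u} [CommRing B₁] [Algebra A B₁]

theorem fact1 (ι : B₁ →ₗ[A] B) (hι : ∀ x y, ι (x * y) = ι x * ι y)
    (S : Type u) [CommSemiring S] [Algebra A S] (x y : S ⊗[A] B₁) :
    ι.lTensor S (x * y) = ι.lTensor S x * ι.lTensor S y :=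
  LinearMap.map_mul_of_map_mul_tmul (fun a₁ a₂ b₁ b₂ => by
    simp [LinearMap.lTensor_tmul, hι]) x y

theorem fact2 (ι : B₁ →ₗ[A] B) (hι : ∀ x y, ι (x * y) = ι x * ι y) (e' : B)
    (hee' : ι 1 * e' = 0)
    (S : Type u) [CommSemiring S] [Algebra A S] (x : S ⊗[A] B₁) :
    ι.lTensor S x * (1 ⊗ₜ[A] e') = 0 := by
  induction x using TensorProduct.induction_on with
  | zero => simp
  | tmul s b =>
    rw [LinearMap.lTensor_tmul, Algebra.TensorProduct.tmul_mul_tmul]
    have : ι b * e' = 0 := by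
      have h1 : ι b = ι b * ι 1 := by rw [← hι, mul_one]
      rw [h1, mul_assoc, hee', mul_zero]
    rw [this, TensorProduct.tmul_zero]
  | add x y hx hy => rw [map_add, add_mul, hx, hy, add_zero]

theorem fact5 (ι : B₁ →ₗ[A] B) (hι : ∀ x y, ι (x * y) = ι x * ι y)
    (S : Type u) [CommSemiring S] [Algebra A S] (s : S) (x : S ⊗[A] B₁) :
    (s ⊗ₜ[A] ι 1) * ι.lTensor S x = ι.lTensor S (s • x) := by
  have h1 : (s ⊗ₜ[A] ι 1) = ι.lTensor S (s ⊗ₜ[A] (1 : B₁)) := by
    rw [LinearMap.lTensor_tmul]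
  have h2 : (s ⊗ₜ[A] (1 : B₁)) * x = s • x := by
    induction x using TensorProduct.induction_on with
    | zero => simp
    | tmul s' b => rw [Algebra.TensorProduct.tmul_mul_tmul, one_mul, TensorProduct.smul_tmul',
        smul_eq_mul]
    | add x y hx hy => rw [mul_add, hx, hy, smul_add]
  rw [h1, ← fact1 ι hι, h2]

theorem smul_eq_tmul_mul (S : Type u) [CommSemiring S] [Algebra A S] (s : S) (z : S ⊗[A] A) :
    (s ⊗ₜ[A] (1 : A)) * z = s • z := by
  induction z using TensorProduct.induction_on with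
  | zero => simp
  | tmul s' b => rw [Algebra.TensorProduct.tmul_mul_tmul, one_mul, TensorProduct.smul_tmul',
      smul_eq_mul]
  | add x y hx hy => rw [mul_add, hx, hy, smul_add]

/-- the "corner" law `x ↦ F (ι x + e')` -/
noncomputable def cornerLaw (F : B →ₚₗ[A] A) (ι : B₁ →ₗ[A] B) (e' : B) : B₁ →ₚₗ[A] A where
  toFun' S _ _ := fun x => F.toFun' S (ι.lTensor S x + 1 ⊗ₜ[A] e')
  isCompat' {S} _ _ {S'} _ _ φ := by
    funext x
    simp only [Function.comp_apply]
    rw [PolynomialLaw.isCompat_apply', map_add, ← LinearMap.comp_apply,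
      LinearMap.rTensor_comp_lTensor, ← LinearMap.lTensor_comp_rTensor, LinearMap.comp_apply,
      LinearMap.rTensor_tmul, AlgHom.toLinearMap_apply, map_one]

noncomputable def cornerMulLaw {d : ℕ} (F : PolLaw.MulLaw A B A d) (ι : B₁ →ₗ[A] B)
    (hι : ∀ x y, ι (x * y) = ι x * ι y) (e' : B) (hsum : ι 1 + e' = 1) (hee' : ι 1 * e' = 0)
    (k : ℕ) (hk : ∀ (S : Type u) [CommSemiring S] [Algebra A S] (s : S),
      F.law.toFun' S (s ⊗ₜ[A] ι 1 + 1 ⊗ₜ[A] e') = (s ^ k) ⊗ₜ[A] (1 : A)) :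
    PolLaw.MulLaw A B₁ A k where
  law := cornerLaw F.law ι e'
  homog S _ _ s x := by
    have he' : e' * e' = e' := by
      have : (ι 1 + e') * e' = e' := by rw [hsum, one_mul]
      rw [add_mul, hee', zero_add] at this; exact this
    show F.law.toFun' S (ι.lTensor S (s • x) + 1 ⊗ₜ[A] e') =
      s ^ k • F.law.toFun' S (ι.lTensor S x + 1 ⊗ₜ[A] e')
    have hprod : ι.lTensor S (s • x) + 1 ⊗ₜ[A] e' =
        (s ⊗ₜ[A] ι 1 + 1 ⊗ₜ[A] e') * (ι.lTensor S x + 1 ⊗ₜ[A] e') := by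
      rw [add_mul, mul_add, mul_add, fact5 ι hι, Algebra.TensorProduct.tmul_mul_tmul,
        Algebra.TensorProduct.tmul_mul_tmul, hee', he', TensorProduct.tmul_zero, add_zero,
        mul_comm (1 ⊗ₜ[A] e') (ι.lTensor S x), fact2 ι hι e' hee', zero_add, mul_one]
    rw [hprod, (F.mult S).2, hk, smul_eq_tmul_mul]
  mult S _ _ := by
    have he' : e' * e' = e' := by
      have : (ι 1 + e') * e' = e' := by rw [hsum, one_mul]
      rw [add_mul, hee', zero_add] at this; exact this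
    refine ⟨?_, fun x y => ?_⟩
    · show F.law.toFun' S (ι.lTensor S 1 + 1 ⊗ₜ[A] e') = 1
      rw [Algebra.TensorProduct.one_def, LinearMap.lTensor_tmul, ← TensorProduct.tmul_add, hsum,
        ← Algebra.TensorProduct.one_def, (F.mult S).1]
    · show F.law.toFun' S (ι.lTensor S (x * y) + 1 ⊗ₜ[A] e') =
        F.law.toFun' S (ι.lTensor S x + 1 ⊗ₜ[A] e') * F.law.toFun' S (ι.lTensor S y + 1 ⊗ₜ[A] e')
      rw [← (F.mult S).2]
      congr 1
      rw [add_mul, mul_add, mul_add, ← fact1 ι hι, fact2 ι hι e' hee',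
        mul_comm (1 ⊗ₜ[A] e') (ι.lTensor S y), fact2 ι hι e' hee',
        Algebra.TensorProduct.tmul_mul_tmul, he', mul_one, add_zero, zero_add]

end corner

theorem decomp_id {A : Type u} [CommRing A] {B₁ : Type u} [CommRing B₁] [Algebra A B₁]
    {B₂ : Type u} [CommRing B₂] [Algebra A B₂] (S : Type u) [CommSemiring S] [Algebra A S]
    (x : S ⊗[A] (B₁ × B₂)) :
    x = (LinearMap.inl A B₁ B₂).lTensor S (LinearMap.lTensor S (LinearMap.fst A B₁ B₂) x) +
      (LinearMap.inr A B₁ B₂).lTensor S (LinearMap.lTensor S (LinearMap.snd A B₁ B₂) x) := by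
  induction x using TensorProduct.induction_on with
  | zero => simp
  | tmul s b =>
    simp only [LinearMap.lTensor_tmul, LinearMap.fst_apply, LinearMap.snd_apply,
      LinearMap.inl_apply, LinearMap.inr_apply]
    rw [← TensorProduct.tmul_add]
    simp
  | add x y hx hy =>
    simp only [map_add]
    rw [add_add_add_comm, ← hx, ← hy]

theorem X_pow_tmul_inj {A : Type u} [CommRing A] [Nontrivial A] {a b : ℕ}
    (h : ((X : A[X]) ^ a) ⊗ₜ[A] (1 : A) = ((X : A[X]) ^ b) ⊗ₜ[A] (1 : A)) : a = b := by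
  have := congrArg (Algebra.TensorProduct.rid A A A[X]) h
  simp only [Algebra.TensorProduct.rid_tmul, one_smul] at this
  have h2 := congrArg Polynomial.natDegree this
  simpa using h2

/-- Let A be a commutative ring whose prime spectrum is connected, B₁, B₂ commutative A-algebras and F :
B₁ × B₂ → A a multiplicative polynomial law homogeneous of degree d (a family of zero-cycles of
degree d on the disjoint union Spec B₁ ⊔ Spec B₂ over Spec A). Then there are natural numbers d₁ +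
d₂ = d, the multiplicities of the family on the two pieces, and multiplicative laws F₁ : B₁ → A, F₂
: B₂ → A homogeneous of degrees d₁, d₂ with F(x) = F₁(x₁) F₂(x₂) for every test algebra S and x ∈ S
⊗ (B₁ × B₂) with components x₁, x₂; and the degrees d₁, d₂ of any such factorisation are uniquely
determined. (The published statement is for finitely many algebraic spaces affine over a connected
algebraic space S; this row is the case of two pieces over an affine base.) -/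
theorem result {A : Type u} [CommRing A] [ConnectedSpace (PrimeSpectrum A)]
    {B₁ : Type u} [CommRing B₁] [Algebra A B₁] {B₂ : Type u} [CommRing B₂] [Algebra A B₂]
    {d : ℕ} (F : PolLaw.MulLaw A (B₁ × B₂) A d) :
    ∃ d₁ d₂ : ℕ, d₁ + d₂ = d ∧
      (∃ (F₁ : PolLaw.MulLaw A B₁ A d₁) (F₂ : PolLaw.MulLaw A B₂ A d₂),
        ∀ (S : Type u) [CommSemiring S] [Algebra A S] (x : S ⊗[A] (B₁ × B₂)),
          F.law.toFun' S x = F₁.law.toFun' S (LinearMap.lTensor S (LinearMap.fst A B₁ B₂) x) *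
            F₂.law.toFun' S (LinearMap.lTensor S (LinearMap.snd A B₁ B₂) x)) ∧
      ∀ (e₁ e₂ : ℕ) (G₁ : PolLaw.MulLaw A B₁ A e₁) (G₂ : PolLaw.MulLaw A B₂ A e₂),
        (∀ (S : Type u) [CommSemiring S] [Algebra A S] (x : S ⊗[A] (B₁ × B₂)),
          F.law.toFun' S x = G₁.law.toFun' S (LinearMap.lTensor S (LinearMap.fst A B₁ B₂) x) *
            G₂.law.toFun' S (LinearMap.lTensor S (LinearMap.snd A B₁ B₂) x)) → e₁ = d₁ ∧ e₂ = d₂ := by
  classical
  haveI : Nontrivial A := PrimeSpectrum.nonempty_iff_nontrivial.mp inferInstance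
  set ι₁ : B₁ →ₗ[A] B₁ × B₂ := LinearMap.inl A B₁ B₂ with hι₁
  set ι₂ : B₂ →ₗ[A] B₁ × B₂ := LinearMap.inr A B₁ B₂ with hι₂
  have hm₁ : ∀ x y, ι₁ (x * y) = ι₁ x * ι₁ y := fun x y => by simp [hι₁]
  have hm₂ : ∀ x y, ι₂ (x * y) = ι₂ x * ι₂ y := fun x y => by simp [hι₂]
  have hsum₁ : ι₁ 1 + ι₂ 1 = 1 := by simp [hι₁, hι₂]
  have hsum₂ : ι₂ 1 + ι₁ 1 = 1 := by rw [add_comm]; exact hsum₁
  have hz₁ : ι₁ 1 * ι₂ 1 = 0 := by simp [hι₁, hι₂]
  have hz₂ : ι₂ 1 * ι₁ 1 = 0 := by rw [mul_comm]; exact hz₁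
  obtain ⟨d₁, hd₁⟩ := idem_law F (ι₁ 1) (ι₂ 1) hsum₁ hz₁
  obtain ⟨d₂, hd₂⟩ := idem_law F (ι₂ 1) (ι₁ 1) hsum₂ hz₂
  have hid₁ : ι₁ 1 * ι₁ 1 = ι₁ 1 := by rw [← hm₁, mul_one]
  have hid₂ : ι₂ 1 * ι₂ 1 = ι₂ 1 := by rw [← hm₂, mul_one]
  refine ⟨d₁, d₂, ?_, ⟨cornerMulLaw F ι₁ hm₁ (ι₂ 1) hsum₁ hz₁ d₁ hd₁,
    cornerMulLaw F ι₂ hm₂ (ι₁ 1) hsum₂ hz₂ d₂ hd₂, ?_⟩, ?_⟩
  · -- degrees add up
    have h1 := (F.mult A[X]).2 ((X : A[X]) ⊗ₜ[A] ι₁ 1 + 1 ⊗ₜ[A] ι₂ 1)
      ((X : A[X]) ⊗ₜ[A] ι₂ 1 + 1 ⊗ₜ[A] ι₁ 1)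
    have hprod : ((X : A[X]) ⊗ₜ[A] ι₁ 1 + 1 ⊗ₜ[A] ι₂ 1) * ((X : A[X]) ⊗ₜ[A] ι₂ 1 + 1 ⊗ₜ[A] ι₁ 1)
        = (X : A[X]) • (1 : A[X] ⊗[A] (B₁ × B₂)) := by
      simp only [add_mul, mul_add, Algebra.TensorProduct.tmul_mul_tmul, hz₁, hz₂, hid₁, hid₂,
        TensorProduct.tmul_zero, add_zero, zero_add, mul_one, one_mul]
      rw [← TensorProduct.tmul_add, hsum₂, Algebra.TensorProduct.one_def, TensorProduct.smul_tmul',
        smul_eq_mul, mul_one]
    rw [hprod, F.homog A[X] X 1, (F.mult A[X]).1, hd₁, hd₂, Algebra.TensorProduct.tmul_mul_tmul,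
      mul_one, ← pow_add, Algebra.TensorProduct.one_def, TensorProduct.smul_tmul', smul_eq_mul,
      mul_one] at h1
    exact (X_pow_tmul_inj h1).symm
  · -- decomposition
    intro S _ _ x
    show F.law.toFun' S x =
      F.law.toFun' S (ι₁.lTensor S (LinearMap.lTensor S (LinearMap.fst A B₁ B₂) x) + 1 ⊗ₜ[A] ι₂ 1) *
      F.law.toFun' S (ι₂.lTensor S (LinearMap.lTensor S (LinearMap.snd A B₁ B₂) x) + 1 ⊗ₜ[A] ι₁ 1)
    rw [← (F.mult S).2]
    congr 1
    set y₁ := ι₁.lTensor S (LinearMap.lTensor S (LinearMap.fst A B₁ B₂) x) with hy₁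
    set y₂ := ι₂.lTensor S (LinearMap.lTensor S (LinearMap.snd A B₁ B₂) x) with hy₂
    have hxy : x = y₁ + y₂ := decomp_id S x
    have h11 : y₁ * (1 ⊗ₜ[A] ι₁ 1) = y₁ := by
      have : (1 ⊗ₜ[A] ι₁ 1 : S ⊗[A] (B₁ × B₂)) = ι₁.lTensor S 1 := by
        rw [Algebra.TensorProduct.one_def, LinearMap.lTensor_tmul]
      rw [this, hy₁, ← fact1 ι₁ hm₁, mul_one]
    have h22 : (1 ⊗ₜ[A] ι₂ 1) * y₂ = y₂ := by
      have : (1 ⊗ₜ[A] ι₂ 1 : S ⊗[A] (B₁ × B₂)) = ι₂.lTensor S 1 := by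
        rw [Algebra.TensorProduct.one_def, LinearMap.lTensor_tmul]
      rw [this, hy₂, ← fact1 ι₂ hm₂, one_mul]
    have h12 : y₁ * y₂ = 0 := by
      rw [← h22, ← mul_assoc, hy₁, fact2 ι₁ hm₁ (ι₂ 1) hz₁, zero_mul]
    rw [add_mul, mul_add, mul_add, h12, h11, h22, Algebra.TensorProduct.tmul_mul_tmul, hz₂,
      TensorProduct.tmul_zero, zero_add, add_zero]
    exact hxy
  · -- uniqueness
    intro e₁ e₂ G₁ G₂ hG
    constructor
    · have h1 := hG A[X] ((X : A[X]) ⊗ₜ[A] ι₁ 1 + 1 ⊗ₜ[A] ι₂ 1)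
      rw [hd₁] at h1
      simp only [map_add, LinearMap.lTensor_tmul, hι₁, hι₂, LinearMap.fst_apply,
        LinearMap.snd_apply, LinearMap.inl_apply, LinearMap.inr_apply, TensorProduct.tmul_zero,
        add_zero, zero_add] at h1
      have hX : (X : A[X]) ⊗ₜ[A] (1 : B₁) = (X : A[X]) • (1 : A[X] ⊗[A] B₁) := by
        rw [Algebra.TensorProduct.one_def, TensorProduct.smul_tmul', smul_eq_mul, mul_one]
      rw [hX, G₁.homog A[X] X 1, (G₁.mult A[X]).1, ← Algebra.TensorProduct.one_def,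
        (G₂.mult A[X]).1, mul_one, Algebra.TensorProduct.one_def, TensorProduct.smul_tmul',
        smul_eq_mul, mul_one] at h1
      exact (X_pow_tmul_inj h1).symm
    · have h1 := hG A[X] ((X : A[X]) ⊗ₜ[A] ι₂ 1 + 1 ⊗ₜ[A] ι₁ 1)
      rw [hd₂] at h1
      simp only [map_add, LinearMap.lTensor_tmul, hι₁, hι₂, LinearMap.fst_apply,
        LinearMap.snd_apply, LinearMap.inl_apply, LinearMap.inr_apply, TensorProduct.tmul_zero,
        add_zero, zero_add] at h1
      have hX : (X : A[X]) ⊗ₜ[A] (1 : B₂) = (X : A[X]) • (1 : A[X] ⊗[A] B₂) := by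
        rw [Algebra.TensorProduct.one_def, TensorProduct.smul_tmul', smul_eq_mul, mul_one]
      rw [hX, G₂.homog A[X] X 1, (G₂.mult A[X]).1, ← Algebra.TensorProduct.one_def,
        (G₁.mult A[X]).1, one_mul, Algebra.TensorProduct.one_def, TensorProduct.smul_tmul',
        smul_eq_mul, mul_one] at h1
      exact (X_pow_tmul_inj h1).symm

end Groth.Agent.S13719
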