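import Groth.Statements.S0226
import Groth.Agent.H29.ABMore
import Groth.Agent.H29.FreeIdeal
import Groth.Agent.H29.ReducedR0S1
import Groth.Agent.H29.DepthFinite
import Groth.Agent.H29.RegLocal2

set_option autoImplicit false
universe u
open Curves

namespace Groth.Agent.S0226

/-- In a regular local ring of dimension two, an ideal inside the maximal ideal with reduced quotient is
zero, the maximal ideal, or principal. -/
theorem result (A : Type u) [CommRing A] [IsRegularLocalRing A] (hdim : ringKrullDim A = 2)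
    (I : Ideal A) (hI : I ≤ IsLocalRing.maximalIdeal A) [IsReduced (A ⧸ I)] :
    I = ⊥ ∨ I = IsLocalRing.maximalIdeal A ∨ ∃ f ∈ IsLocalRing.maximalIdeal A, f ≠ 0 ∧ I = Ideal.span {f} := by
  classical
  by_cases hIm : I = IsLocalRing.maximalIdeal A
  · exact Or.inr (Or.inl hIm)
  have := Groth.Agent.H29.isDomain_of_isRegularLocalRing A
  have hItop : I ≠ ⊤ := fun h =>
    (IsLocalRing.maximalIdeal.isMaximal A).ne_top (top_le_iff.mp (h ▸ hI))
  have : Nontrivial (A ⧸ I) := Ideal.Quotient.nontrivial_iff.mpr hItop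
  have : IsLocalRing (A ⧸ I) :=
    IsLocalRing.of_surjective' (Ideal.Quotient.mk I) Ideal.Quotient.mk_surjective
  have : IsLocalHom (algebraMap A (A ⧸ I)) :=
    IsLocalHom.of_surjective _ Ideal.Quotient.mk_surjective
  have hd0 : LocCoh.depth (A ⧸ I) (A ⧸ I) ≠ 0 := by
    intro h0
    have hbot := Groth.Agent.H29.maximalIdeal_eq_bot_of_isReduced_of_depth_eq_zero (A ⧸ I) h0
    apply hIm
    apply le_antisymm hI
    intro x hx
    have h1 : algebraMap A (A ⧸ I) x ∈ IsLocalRing.maximalIdeal (A ⧸ I) :=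
      Groth.Agent.H29.algebraMap_mem_maximalIdeal A (A ⧸ I) hx
    rw [hbot, Ideal.mem_bot, Ideal.Quotient.algebraMap_eq, Ideal.Quotient.eq_zero_iff_mem] at h1
    exact h1
  have hdep : LocCoh.depth A (A ⧸ I) = LocCoh.depth (A ⧸ I) (A ⧸ I) :=
    Groth.Agent.H29.depth_eq_depth_of_isLocalHom A (A ⧸ I) (A ⧸ I)
  have hdim' : ringKrullDim A = ((2 : ℕ) : WithBot ℕ∞) := by rw [hdim]; rfl
  obtain ⟨e, hen, he1, he2, he3, -⟩ :=
    Groth.Agent.H29.exists_pd_eq_of_isRegularLocalRing A 2 hdim' (A ⧸ I)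
  have he : e ≤ 1 := by
    rw [hdep] at he3
    obtain ⟨t, ht⟩ := Groth.Agent.H29.exists_natCast_eq_depth (A ⧸ I) (A ⧸ I)
    rw [ht] at he3 hd0
    have h1 : t + e = 2 := by exact_mod_cast he3
    have h2 : t ≠ 0 := by exact_mod_cast hd0
    omega
  have hpd2 : CategoryTheory.HasProjectiveDimensionLT (ModuleCat.of A (A ⧸ I)) (0 + 1 + 1) :=
    CategoryTheory.hasProjectiveDimensionLT_of_ge _ (e + 1) _ (by omega)
  have hker := (Groth.Agent.H29.hasProjectiveDimensionLT_iff_ker A A (A ⧸ I) (Submodule.mkQ I)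
    (Submodule.mkQ_surjective I) 0).mp hpd2
  rw [Submodule.ker_mkQ] at hker
  rw [zero_add, ← CategoryTheory.projective_iff_hasProjectiveDimensionLT_one,
    ← IsProjective.iff_projective] at hker
  have : Module.Projective A I := hker
  have : Module.Free A I := Module.free_of_flat_of_isLocalRing
  obtain ⟨f, hf⟩ := Groth.Agent.H29.exists_eq_span_singleton_of_free A I
  by_cases hf0 : f = 0
  · left
    rw [hf, hf0, Ideal.span_singleton_zero]
  · right; right
    exact ⟨f, hI (hf ▸ Ideal.mem_span_singleton_self f), hf0, hf⟩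

end Groth.Agent.S0226
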