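import Groth.Statements.S15315
import Mathlib

set_option autoImplicit false
universe u
open ArLef

namespace Groth.Agent.S15315

/-- For a Noetherian commutative ring A, elements a, b with a a non-zero-divisor on A/(b), and an ideal
I, one has length(A/(aI + bA)) = length(A/(a, b)) + length(A/(I + bA)) as extended natural numbers;
in particular when two of the three quotients have finite length so does the third. -/
theorem result (A : Type u) [CommRing A] [IsNoetherianRing A] (a b : A) (I : Ideal A)
    (ha : IsSMulRegular (A ⧸ Ideal.span ({b} : Set A)) a) :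
    Module.length A (A ⧸ (Ideal.span {a} * I ⊔ Ideal.span {b})) =
      Module.length A (A ⧸ Ideal.span ({a, b} : Set A)) + Module.length A (A ⧸ (I ⊔ Ideal.span {b})) := by
  have hle1 : I ⊔ Ideal.span {b} ≤
      Submodule.comap (LinearMap.lsmul A A a) (Ideal.span {a} * I ⊔ Ideal.span {b}) := by
    intro x hx
    obtain ⟨y, hy, z, hz, rfl⟩ := Submodule.mem_sup.1 hx
    change a * (y + z) ∈ Ideal.span {a} * I ⊔ Ideal.span {b}
    rw [mul_add]
    refine Submodule.add_mem _ (Submodule.mem_sup_left ?_) (Submodule.mem_sup_right ?_)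
    · exact Ideal.mem_span_singleton_mul.2 ⟨y, hy, rfl⟩
    · exact Ideal.mul_mem_left _ _ hz
  have hle2 : Ideal.span {a} * I ⊔ Ideal.span {b} ≤
      Submodule.comap (LinearMap.id : A →ₗ[A] A) (Ideal.span ({a, b} : Set A)) := by
    intro x hx
    obtain ⟨y, hy, z, hz, rfl⟩ := Submodule.mem_sup.1 hx
    change y + z ∈ Ideal.span ({a, b} : Set A)
    have hsa : ({a} : Set A) ⊆ {a, b} := Set.singleton_subset_iff.2 (Set.mem_insert a {b})
    have hsb : ({b} : Set A) ⊆ {a, b} :=
      Set.singleton_subset_iff.2 (Set.mem_insert_of_mem a rfl)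
    refine Ideal.add_mem _ ?_ ?_
    · obtain ⟨y', _, rfl⟩ := Ideal.mem_span_singleton_mul.1 hy
      exact Ideal.mul_mem_right _ _ (Ideal.subset_span (Set.mem_insert a {b}))
    · exact Ideal.span_mono hsb hz
  let f : (A ⧸ (I ⊔ Ideal.span {b})) →ₗ[A] (A ⧸ (Ideal.span {a} * I ⊔ Ideal.span {b})) :=
    Submodule.mapQ _ _ (LinearMap.lsmul A A a) hle1
  let g : (A ⧸ (Ideal.span {a} * I ⊔ Ideal.span {b})) →ₗ[A] (A ⧸ Ideal.span ({a, b} : Set A)) :=
    Submodule.mapQ _ _ LinearMap.id hle2
  have hf : Function.Injective f := by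
    rw [injective_iff_map_eq_zero]
    intro q hq
    obtain ⟨x, rfl⟩ := Submodule.Quotient.mk_surjective _ q
    have hq' : a * x ∈ Ideal.span {a} * I ⊔ Ideal.span {b} := by
      have : f (Submodule.Quotient.mk x) = Submodule.Quotient.mk (a * x) := rfl
      rw [this] at hq
      exact (Submodule.Quotient.mk_eq_zero _).1 hq
    obtain ⟨w, hw, z, hz, hwz⟩ := Submodule.mem_sup.1 hq'
    obtain ⟨y, hy, rfl⟩ := Ideal.mem_span_singleton_mul.1 hw
    have h3 : a * (x - y) ∈ Ideal.span ({b} : Set A) := by
      have : a * (x - y) = z := by rw [mul_sub, ← hwz]; ring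
      rw [this]; exact hz
    have h4 : (Ideal.Quotient.mk (Ideal.span ({b} : Set A)) (x - y)) = 0 := by
      apply ha
      show a • (Ideal.Quotient.mk (Ideal.span ({b} : Set A)) (x - y)) = a • 0
      rw [smul_zero]
      exact Ideal.Quotient.eq_zero_iff_mem.2 h3
    have h5 : x - y ∈ Ideal.span ({b} : Set A) := Ideal.Quotient.eq_zero_iff_mem.1 h4
    rw [Submodule.Quotient.mk_eq_zero]
    have : x = y + (x - y) := by ring
    rw [this]
    exact Submodule.add_mem _ (Submodule.mem_sup_left hy) (Submodule.mem_sup_right h5)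
  have hg : Function.Surjective g := by
    intro q
    obtain ⟨x, rfl⟩ := Submodule.Quotient.mk_surjective _ q
    exact ⟨Submodule.Quotient.mk x, rfl⟩
  have hex : Function.Exact f g := by
    intro q
    obtain ⟨x, rfl⟩ := Submodule.Quotient.mk_surjective _ q
    constructor
    · intro hq
      have hq' : x ∈ Ideal.span ({a, b} : Set A) := by
        have : g (Submodule.Quotient.mk x) = Submodule.Quotient.mk x := rfl
        rw [this] at hq
        exact (Submodule.Quotient.mk_eq_zero _).1 hq
      obtain ⟨c, d, hcd⟩ := Ideal.mem_span_pair.1 hq'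
      refine ⟨Submodule.Quotient.mk c, ?_⟩
      show Submodule.Quotient.mk (a * c) = Submodule.Quotient.mk x
      rw [Submodule.Quotient.eq]
      have : a * c - x = -(d * b) := by rw [← hcd]; ring
      rw [this]
      exact Submodule.neg_mem _ (Submodule.mem_sup_right
        (Ideal.mul_mem_left _ _ (Ideal.mem_span_singleton_self b)))
    · rintro ⟨q', hq'⟩
      obtain ⟨c, rfl⟩ := Submodule.Quotient.mk_surjective _ q'
      rw [← hq']
      show Submodule.Quotient.mk (a * c) = 0
      rw [Submodule.Quotient.mk_eq_zero]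
      exact Ideal.mul_mem_right _ _ (Ideal.subset_span (Set.mem_insert a {b}))
  rw [Module.length_eq_add_of_exact f g hf hg hex, add_comm]

end Groth.Agent.S15315
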