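import Groth.Statements.S12743
import Groth.Agent.H15.ArtInd

set_option autoImplicit false
universe u v
open CategoryTheory
open ArtFun

namespace Groth.Agent.S12743

/-- For functors, let φ : F → G and ψ : G → H be morphisms of functors on Artinian local Λ-algebras with
residue field k, with F and G deformation functors (values at k a point, condition (RS)). If φ is
surjective on tangent spaces and the composite F → H is smooth, then φ is smooth. -/
theorem result {Λ : Type u} {k : Type u} [CommRing Λ] [Field k] [Algebra Λ k]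
    [IsNoetherianRing Λ] [Module.Finite Λ k]
    {F G H : ArtFun.Art Λ k ⥤ Type v}
    (hF0 : ArtFun.H0 F) (hF : (∀ ⦃B A A' A'' : ArtFun.Art Λ k⦄ (p' : B ⟶ A') (p'' : B ⟶ A'') (f' : A' ⟶ A) (f'' : A'' ⟶ A)
        (h : ArtFun.Art.IsFibreProd p' p'' f' f''), Function.Surjective f'' → Function.Bijective (ArtFun.cmp F h)))
    (hG0 : ArtFun.H0 G) (hG : (∀ ⦃B A A' A'' : ArtFun.Art Λ k⦄ (p' : B ⟶ A') (p'' : B ⟶ A'') (f' : A' ⟶ A) (f'' : A'' ⟶ A)
        (h : ArtFun.Art.IsFibreProd p' p'' f' f''), Function.Surjective f'' → Function.Bijective (ArtFun.cmp G h)))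
    (φ : F ⟶ G) (ψ : G ⟶ H) (hd : Function.Surjective (ArtFun.TangentSpace.map φ))
    (hs : ArtFun.IsSmooth (φ ≫ ψ)) : ArtFun.IsSmooth φ := by
  have hFeps : ArtFun.Heps F := fun B A' p' p'' h =>
    hF p' p'' (ArtFun.Art.toBase A') (ArtFun.Art.toBase (ArtFun.Art.dual Λ k)) h
      (ArtFun.Art.dual Λ k).res_surjective
  have hGeps : ArtFun.Heps G := fun B A' p' p'' h =>
    hG p' p'' (ArtFun.Art.toBase A') (ArtFun.Art.toBase (ArtFun.Art.dual Λ k)) h
      (ArtFun.Art.dual Λ k).res_surjective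
  have hGbar : ArtFun.Hbar G := fun B A A' A'' p' p'' f' f'' h hsm => (hG p' p'' f' f'' h hsm.1).2
  apply Groth.Agent.H15.ArtInd.isSmooth_of_small
  intro B A μ hμ
  rw [Groth.Agent.H15.ArtInd.relCmp_surjective_iff]
  intro x y hy0
  have hy : G.map μ y = φ.app A x := hy0
  obtain ⟨x', hx'⟩ := hs μ hμ.1 ⟨(x, ψ.app B y), by
    rw [Groth.Agent.H15.ArtSmooth.comp_app_apply]
    change ψ.app A (φ.app A x) = H.map μ (ψ.app B y)
    rw [← hy, NatTrans.naturality_apply]⟩
  have hx'1 : F.map μ x' = x := congrArg (fun t => t.1.1) hx'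
  obtain ⟨x'', e1, e2⟩ := Groth.Agent.H15.ArtInd.adjust (fun A x => φ.app A x)
    (fun f x => NatTrans.naturality_apply φ f x) hF0.2 hFeps hGbar hGeps hd μ hμ x' y (by
      change G.map μ y = G.map μ (φ.app B x')
      rw [← NatTrans.naturality_apply φ μ x', hx'1]
      exact hy)
  exact ⟨x'', e2.trans hx'1, e1⟩

end Groth.Agent.S12743
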