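import Groth.Statements.S12742
import Groth.Agent.H15.ArtInd

set_option autoImplicit false
universe u v
open CategoryTheory
open ArtFun

namespace Groth.Agent.S12742

/-- For functors, a morphism f : F → G of deformation functors on Artinian local Λ-algebras with residue
field k (values at k a point, condition (RS) for both) is smooth if and only if (1) it is surjective
on tangent spaces and (2) for every small extension A' → A and every x ∈ F(A) whose image in G(A)
lifts to G(A'), x lifts to F(A'). -/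
theorem result {Λ : Type u} {k : Type u} [CommRing Λ] [Field k] [Algebra Λ k]
    [IsNoetherianRing Λ] [Module.Finite Λ k]
    {F G : ArtFun.Art Λ k ⥤ Type v}
    (hF0 : ArtFun.H0 F) (hF : (∀ ⦃B A A' A'' : ArtFun.Art Λ k⦄ (p' : B ⟶ A') (p'' : B ⟶ A'') (f' : A' ⟶ A) (f'' : A'' ⟶ A)
        (h : ArtFun.Art.IsFibreProd p' p'' f' f''), Function.Surjective f'' → Function.Bijective (ArtFun.cmp F h)))
    (hG0 : ArtFun.H0 G) (hG : (∀ ⦃B A A' A'' : ArtFun.Art Λ k⦄ (p' : B ⟶ A') (p'' : B ⟶ A'') (f' : A' ⟶ A) (f'' : A'' ⟶ A)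
        (h : ArtFun.Art.IsFibreProd p' p'' f' f''), Function.Surjective f'' → Function.Bijective (ArtFun.cmp G h)))
    (f : F ⟶ G) :
    ArtFun.IsSmooth f ↔
      (Function.Surjective (ArtFun.TangentSpace.map f) ∧
        ∀ ⦃A' A : ArtFun.Art Λ k⦄ (μ : A' ⟶ A), ArtFun.Art.IsSmallExt μ → ∀ x : F.obj A,
          (∃ y' : G.obj A', G.map μ y' = f.app A x) → ∃ x' : F.obj A', F.map μ x' = x) := by
  have hFeps : ArtFun.Heps F := fun B A' p' p'' h =>
    hF p' p'' (ArtFun.Art.toBase A') (ArtFun.Art.toBase (ArtFun.Art.dual Λ k)) h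
      (ArtFun.Art.dual Λ k).res_surjective
  have hGeps : ArtFun.Heps G := fun B A' p' p'' h =>
    hG p' p'' (ArtFun.Art.toBase A') (ArtFun.Art.toBase (ArtFun.Art.dual Λ k)) h
      (ArtFun.Art.dual Λ k).res_surjective
  have hGbar : ArtFun.Hbar G := fun B A A' A'' p' p'' f' f'' h hsm => (hG p' p'' f' f'' h hsm.1).2
  constructor
  · intro hsm
    refine ⟨fun v => ?_, fun A' A μ hμ x hy => ?_⟩
    · obtain ⟨x₀⟩ := hF0.1
      obtain ⟨z, hz⟩ := hsm (ArtFun.Art.toBase (ArtFun.Art.dual Λ k)) (ArtFun.Art.dual Λ k).res_surjective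
        ⟨(x₀, v), @Subsingleton.elim _ hG0.2 _ _⟩
      exact ⟨z, congrArg (fun t => t.1.2) hz⟩
    · obtain ⟨y', hy'⟩ := hy
      obtain ⟨z, hz⟩ := hsm μ hμ.1 ⟨(x, y'), hy'.symm⟩
      exact ⟨z, congrArg (fun t => t.1.1) hz⟩
  · rintro ⟨hd, hl⟩
    apply Groth.Agent.H15.ArtInd.isSmooth_of_small
    intro B A μ hμ
    rw [Groth.Agent.H15.ArtInd.relCmp_surjective_iff]
    intro x y hy
    obtain ⟨x', hx'1⟩ := hl μ hμ x ⟨y, hy⟩
    obtain ⟨x'', e1, e2⟩ := Groth.Agent.H15.ArtInd.adjust (fun A x => f.app A x)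
      (fun g x => NatTrans.naturality_apply f g x) hF0.2 hFeps hGbar hGeps hd μ hμ x' y (by
        change G.map μ y = G.map μ (f.app B x')
        rw [← NatTrans.naturality_apply f μ x', hx'1]
        exact hy)
    exact ⟨x'', e2.trans hx'1, e1⟩

end Groth.Agent.S12742
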