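import Groth.Statements.S6800
import Mathlib

set_option autoImplicit false
open CategoryTheory CategoryTheory.Limits
universe v u
open CategoryTheory CategoryTheory.SimplicialObject CategoryTheory.SimplicialObject.Truncated

namespace Groth.Agent.S6800

/-- In a category with finite limits every truncated simplicial object has a pointwise right Kan
extension along the inclusion of the truncated simplex category, i.e. the coskeleton functors exist
and are given by the limit formula. -/
theorem result {C : Type u} [Category.{v} C] [HasFiniteLimits C] (m : ℕ) (U : (SimplexCategory.Truncated m)ᵒᵖ ⥤ C) : (SimplexCategory.Truncated.inclusion m).op.HasPointwiseRightKanExtension U := by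
  intro Y
  haveI hT : Finite (SimplexCategory.Truncated m) :=
    Finite.of_injective
      (fun a : SimplexCategory.Truncated m => (⟨a.obj.len, Nat.lt_succ_of_le a.property⟩ : Fin (m + 1)))
      (fun a b h => by
        have h1 : a.obj.len = b.obj.len := congrArg Fin.val h
        exact ObjectProperty.FullSubcategory.ext (SimplexCategory.ext h1))
  haveI hTop : Finite (SimplexCategory.Truncated m)ᵒᵖ :=
    Finite.of_injective Opposite.unop Opposite.unop_injective
  haveI hHomS : ∀ a b : SimplexCategoryᵒᵖ, Finite (a ⟶ b) := fun a b =>
    Finite.of_injective (fun f : a ⟶ b => f.unop) (fun _ _ h => Quiver.Hom.unop_inj h)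
  haveI hHomT : ∀ a b : SimplexCategory.Truncated m, Finite (a ⟶ b) := fun a b =>
    Finite.of_injective (fun f : a ⟶ b => f.hom)
      (fun f g h => SimplexCategory.Truncated.Hom.ext f g (congrArg _ h))
  haveI hHomTop : ∀ a b : (SimplexCategory.Truncated m)ᵒᵖ, Finite (a ⟶ b) := fun a b =>
    Finite.of_injective (fun f : a ⟶ b => f.unop) (fun _ _ h => Quiver.Hom.unop_inj h)
  haveI hObj : Finite (StructuredArrow Y (SimplexCategory.Truncated.inclusion m).op) := by
    refine Finite.of_injective
      (β := Σ k : (SimplexCategory.Truncated m)ᵒᵖ,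
        (Y ⟶ (SimplexCategory.Truncated.inclusion m).op.obj k))
      (fun A => ⟨A.right, A.hom⟩) ?_
    rintro ⟨⟨⟨⟩⟩, r, h⟩ ⟨⟨⟨⟩⟩, r', h'⟩ e
    simp only [Sigma.mk.injEq] at e
    obtain ⟨rfl, e⟩ := e
    rw [heq_iff_eq] at e
    subst e
    rfl
  haveI hHom : ∀ A B : StructuredArrow Y (SimplexCategory.Truncated.inclusion m).op,
      Finite (A ⟶ B) := fun A B =>
    Finite.of_injective (fun f : A ⟶ B => f.right) (fun f g h => StructuredArrow.ext f g h)
  letI : FinCategory (StructuredArrow Y (SimplexCategory.Truncated.inclusion m).op) :=
    { fintypeObj := Fintype.ofFinite _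
      fintypeHom := fun _ _ => Fintype.ofFinite _ }
  show HasLimit (StructuredArrow.proj Y (SimplexCategory.Truncated.inclusion m).op ⋙ U)
  infer_instance

end Groth.Agent.S6800
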