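import Groth.Statements.S12597
import Groth.Agent.Lib.Helper17.Wr

set_option autoImplicit false
open FunFld

namespace Groth.Agent.S12597

/-- Over an algebraically closed constant field, multiplying a projective map `φ = (φ₀, …, φₙ)` by a
nonzero function `y` does not change its `τ`-order sequence `J`, and multiplies the Wronskian `det
[τ(φ) | D^(j₁) φ | ⋯ | D^(jₙ) φ]` taken at that sequence by `τ(y) yⁿ`. -/
theorem result
    (k K : Type*) [Field k] [IsAlgClosed k] [Field K] [Algebra k K]
    (hK : FunFld.IsFunctionField k K) {n : ℕ} (φ : Fin (n + 1) → K) (hφ : LinearIndependent k φ)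
    (τ : K →ₐ[k] K) (s : K) (H : K →ₐ[k] PowerSeries K) (hH : LocRes.IsHasseFamily s H) (y : K) (hy : y ≠ 0) :
    (∀ J : Fin n → ℕ, FunFld.IsOrders K (FunFld.hcol τ H (y • φ)) J ↔ FunFld.IsOrders K (FunFld.hcol τ H φ) J) ∧
    ∀ J : Fin n → ℕ, FunFld.IsOrders K (FunFld.hcol τ H φ) J →
      (FunFld.wrMat τ H (y • φ) J).det = τ y * y ^ n * (FunFld.wrMat τ H φ J).det := by
  classical
  set c := FunFld.hcol τ H φ with hc
  set c' := FunFld.hcol τ H (y • φ) with hc'
  set u : ℕ → K := fun j => Nat.casesOn j (τ y) (fun _ => y) with hu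
  have hu0 : ∀ j, u j ≠ 0 := by
    intro j
    cases j with
    | zero => exact (_root_.map_ne_zero τ).2 hy
    | succ j => exact hy
  have hcoef : ∀ (j : ℕ) (i : Fin (n + 1)), c' (j + 1) i =
      ∑ p ∈ Finset.HasAntidiagonal.antidiagonal j, PowerSeries.coeff p.1 (H y) * c (p.2 + 1) i := by
    intro j i
    show LocRes.hasseD H j ((y • φ) i) = _
    rw [LocRes.hasseD_apply, Pi.smul_apply, smul_eq_mul, map_mul, PowerSeries.coeff_mul]
    rfl
  have htri : ∀ j, c' j - u j • c j ∈ Submodule.span K (c '' Set.Iio j) := by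
    intro j
    cases j with
    | zero =>
      have : c' 0 - u 0 • c 0 = 0 := by
        funext i
        show τ ((y • φ) i) - τ y * τ (φ i) = 0
        rw [Pi.smul_apply, smul_eq_mul, map_mul, sub_self]
      rw [this]
      exact Submodule.zero_mem _
    | succ j =>
      have hmem : ((0 : ℕ), j) ∈ Finset.HasAntidiagonal.antidiagonal j := by simp
      have hy0 : PowerSeries.coeff 0 (H y) = y := by
        rw [PowerSeries.coeff_zero_eq_constantCoeff_apply, hH.2]
      have : c' (j + 1) - u (j + 1) • c (j + 1) =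
          ∑ p ∈ (Finset.HasAntidiagonal.antidiagonal j).erase (0, j), PowerSeries.coeff p.1 (H y) • c (p.2 + 1) := by
        funext i
        rw [Pi.sub_apply, hcoef j i, ← Finset.add_sum_erase _ _ hmem, hy0, Finset.sum_apply]
        show y * c (j + 1) i + _ - y * c (j + 1) i = _
        rw [add_sub_cancel_left]
        rfl
      rw [this]
      refine Submodule.sum_mem _ fun p hp => Submodule.smul_mem _ _ (Submodule.subset_span ?_)
      refine ⟨p.2 + 1, ?_, rfl⟩
      have hp1 := Finset.HasAntidiagonal.mem_antidiagonal.1 (Finset.mem_of_mem_erase hp)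
      have hp2 := Finset.ne_of_mem_erase hp
      simp only [Set.mem_Iio]
      by_contra hcon
      apply hp2
      ext <;> simp <;> omega
  have hwr : ∀ (ψ : Fin (n + 1) → K) (J : Fin n → ℕ),
      FunFld.wrMat τ H ψ J =
        Matrix.of fun i l => Groth.Agent.Helper17.Wr.jcol (FunFld.hcol τ H ψ) J l i := by
    intro ψ J
    ext i l
    refine Fin.cases ?_ (fun l' => ?_) l <;> rfl
  refine ⟨fun J => Groth.Agent.Helper17.Wr.isOrders_iff c c' u hu0 htri J, ?_⟩
  intro J hJ
  rw [hwr, hwr, Groth.Agent.Helper17.Wr.det_jcol c c' u htri J hJ]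
  congr 1
  show τ y * ∏ l : Fin n, y = τ y * y ^ n
  rw [Finset.prod_const, Finset.card_univ, Fintype.card_fin]

end Groth.Agent.S12597
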