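import Groth.Statements.S12598
import Groth.Agent.Lib.Helper17.Hasse
import Groth.Agent.Lib.Helper17.Wr

set_option autoImplicit false
open FunFld

namespace Groth.Agent.S12598

/-- Over an algebraically closed constant field, the `τ`-order sequence `J = (j₁, …, jₙ)` of a
projective map `φ` does not depend on the separating variable used for the Hasse derivatives, and
the Wronskians with respect to `t` and to `s` differ by the factor `(ds/dt)^(j₁ + ⋯ + jₙ)`, where
`ds/dt` is the first Hasse derivative of `s` with respect to `t`. -/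
theorem result
    (k K : Type*) [Field k] [IsAlgClosed k] [Field K] [Algebra k K]
    (hK : FunFld.IsFunctionField k K) {n : ℕ} (φ : Fin (n + 1) → K) (hφ : LinearIndependent k φ)
    (τ : K →ₐ[k] K) (s : K) (Hs : K →ₐ[k] PowerSeries K) (hHs : LocRes.IsHasseFamily s Hs)
    (t : K) (Ht : K →ₐ[k] PowerSeries K) (hHt : LocRes.IsHasseFamily t Ht) :
    (∀ J : Fin n → ℕ, FunFld.IsOrders K (FunFld.hcol τ Ht φ) J ↔ FunFld.IsOrders K (FunFld.hcol τ Hs φ) J) ∧
    ∀ J : Fin n → ℕ, FunFld.IsOrders K (FunFld.hcol τ Hs φ) J →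
      (FunFld.wrMat τ Ht φ J).det =
        LocRes.hasseD Ht 1 s ^ (∑ l, J l) * (FunFld.wrMat τ Hs φ J).det := by
  classical
  have hg : FunFld.IsGeometric k K := Groth.Agent.Helper17.FF.isGeometric_of_perfect k K hK
  set c := FunFld.hcol τ Hs φ with hc
  set c' := FunFld.hcol τ Ht φ with hc'
  set b : PowerSeries K := Ht s - PowerSeries.C s with hb
  have hb0 : PowerSeries.constantCoeff b = 0 := by
    rw [hb, map_sub, hHt.2, PowerSeries.constantCoeff_C, sub_self]
  have hb1 : PowerSeries.coeff 1 b = LocRes.hasseD Ht 1 s := by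
    rw [hb, map_sub, PowerSeries.coeff_C, if_neg one_ne_zero, sub_zero]
    rfl
  have hchain := Groth.Agent.Helper17.Hasse.hasseD_one_mul hK hg hHs hHt
  have hds : LocRes.hasseD Ht 1 s ≠ 0 := by
    intro h0
    rw [h0, mul_zero] at hchain
    exact zero_ne_one hchain
  set u : ℕ → K := fun j => Nat.casesOn j 1 (fun j' => LocRes.hasseD Ht 1 s ^ j') with hu
  have hu0 : ∀ j, u j ≠ 0 := by
    intro j
    cases j with
    | zero => exact one_ne_zero
    | succ j => exact pow_ne_zero _ hds
  have hcoef : ∀ (j : ℕ) (i : Fin (n + 1)), c' (j + 1) i =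
      ∑ d ∈ Finset.range (j + 1), PowerSeries.coeff j (b ^ d) * c (d + 1) i := by
    intro j i
    show LocRes.hasseD Ht j (φ i) = _
    rw [LocRes.hasseD_apply, Groth.Agent.Helper17.Hasse.coeff_hasse_change hK hg hHs hHt (φ i) j]
    refine Finset.sum_congr rfl fun d _ => ?_
    rw [mul_comm]
    rfl
  have htri : ∀ j, c' j - u j • c j ∈ Submodule.span K (c '' Set.Iio j) := by
    intro j
    cases j with
    | zero =>
      have : c' 0 - u 0 • c 0 = 0 := by
        funext i
        show τ (φ i) - (1 : K) * τ (φ i) = 0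
        rw [one_mul, sub_self]
      rw [this]
      exact Submodule.zero_mem _
    | succ j =>
      have : c' (j + 1) - u (j + 1) • c (j + 1) =
          ∑ d ∈ Finset.range j, PowerSeries.coeff j (b ^ d) • c (d + 1) := by
        funext i
        rw [Pi.sub_apply, hcoef j i, Finset.sum_range_succ,
          Groth.Agent.Helper17.Hasse.coeff_pow_self hb0, hb1, Finset.sum_apply]
        show _ + LocRes.hasseD Ht 1 s ^ j * c (j + 1) i - LocRes.hasseD Ht 1 s ^ j * c (j + 1) i = _
        rw [add_sub_cancel_right]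
        rfl
      rw [this]
      refine Submodule.sum_mem _ fun d hd => Submodule.smul_mem _ _ (Submodule.subset_span ?_)
      refine ⟨d + 1, ?_, rfl⟩
      have := Finset.mem_range.1 hd
      simp only [Set.mem_Iio]
      omega
  have hwr : ∀ (H : K →ₐ[k] PowerSeries K) (J : Fin n → ℕ),
      FunFld.wrMat τ H φ J =
        Matrix.of fun i l => Groth.Agent.Helper17.Wr.jcol (FunFld.hcol τ H φ) J l i := by
    intro H J
    ext i l
    refine Fin.cases ?_ (fun l' => ?_) l <;> rfl
  refine ⟨fun J => Groth.Agent.Helper17.Wr.isOrders_iff c c' u hu0 htri J, ?_⟩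
  intro J hJ
  rw [hwr, hwr, Groth.Agent.Helper17.Wr.det_jcol c c' u htri J hJ]
  congr 1
  show (1 : K) * ∏ l : Fin n, LocRes.hasseD Ht 1 s ^ (J l) = _
  rw [one_mul, Finset.prod_pow_eq_pow_sum]

end Groth.Agent.S12598
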