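import Groth.Statements.S12600
import Groth.Agent.H16.SV10
import Groth.Agent.S12597
import Groth.Agent.S12598
-- import your own Groth.Agent.* helpers here

set_option autoImplicit false
open FunFld

namespace Groth.Agent.S12600

/-- Over an algebraically closed constant field, for a linearly independent tuple `φ = (φ₀, …, φₙ)`, a
`k`-endomorphism `τ` and a total Hasse derivative `H`, there are exactly `n` `τ`-orders `j₁ < ⋯ <
jₙ` and the Wronskian `det [τ(φ) | D^(j₁) φ | ⋯ | D^(jₙ) φ]` is nonzero. -/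
theorem result
    (k K : Type*) [Field k] [IsAlgClosed k] [Field K] [Algebra k K]
    (hK : FunFld.IsFunctionField k K) {n : ℕ} (φ : Fin (n + 1) → K) (hφ : LinearIndependent k φ)
    (τ : K →ₐ[k] K) (s : K) (H : K →ₐ[k] PowerSeries K) (hH : LocRes.IsHasseFamily s H) :
    ∃ J : Fin n → ℕ, FunFld.IsOrders K (FunFld.hcol τ H φ) J ∧ (FunFld.wrMat τ H φ J).det ≠ 0 := by
  classical
  obtain ⟨⟨x₀, hx₀, -⟩, -⟩ := id hK
  have hx₀k : x₀ ∉ Set.range (algebraMap k K) := by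
    rintro ⟨c, rfl⟩
    exact hx₀ (isAlgebraic_algebraMap c)
  obtain ⟨P, -⟩ := Groth.Agent.Helper17.FF.exists_zero hK hx₀k
  obtain ⟨t, ht⟩ := P.2.2 (WithZero.exp (-1 : ℤ))
  have hDt := Groth.Agent.Helper16.Hasse.hasseD_one_ne_zero hK P H hH ht
  obtain ⟨Ht, hHt⟩ := Groth.Agent.Helper16.Hasse.exists_hasse H hH t hDt
  have hφ0 : ∀ i, φ i ≠ 0 := fun i => hφ.ne_zero i
  obtain ⟨j₀, -, hmax⟩ := Finset.exists_max_image Finset.univ (fun i => P.1 (φ i))
    ⟨0, Finset.mem_univ _⟩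
  obtain ⟨y, hy⟩ : ∃ y : K, y = (φ j₀)⁻¹ := ⟨_, rfl⟩
  have hy0 : y ≠ 0 := by rw [hy]; exact inv_ne_zero (hφ0 j₀)
  have hint : ∀ i, P.1 ((y • φ) i) ≤ 1 := by
    intro i
    show P.1 (y * φ i) ≤ 1
    rw [hy, map_mul, map_inv₀, inv_mul_le_one₀ (zero_lt_iff.mpr ((map_ne_zero P.1).mpr (hφ0 j₀)))]
    exact hmax i (Finset.mem_univ _)
  have hψ : LinearIndependent k (y • φ) := by
    have h1 := hφ.map' (LinearMap.mulLeft k y) (by
      rw [LinearMap.ker_eq_bot]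
      intro a b hab
      exact mul_left_cancel₀ hy0 hab)
    exact h1
  have hspan := Groth.Agent.Helper16.Hasse.span_hcol_eq_top hK P ht Ht hHt (y • φ) hψ hint τ
  have hc0 : FunFld.hcol τ Ht (y • φ) 0 ≠ 0 := by
    intro h0
    have h1 := congrFun h0 j₀
    have h2 : FunFld.hcol τ Ht (y • φ) 0 j₀ = τ (y * φ j₀) := rfl
    rw [h2, hy, inv_mul_cancel₀ (hφ0 j₀), map_one] at h1
    exact one_ne_zero h1
  obtain ⟨J, hJ⟩ := Groth.Agent.Helper16.Hasse.exists_isOrders (FunFld.hcol τ Ht (y • φ))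
    (n := n) (by simp) hc0 hspan
  have hdetψ := Groth.Agent.Helper16.Hasse.det_wrMat_ne_zero_of_span τ Ht (y • φ) J hJ hspan
  obtain ⟨h97a, h97b⟩ := Groth.Agent.S12597.result k K hK φ hφ τ t Ht hHt y hy0
  have hJφ : FunFld.IsOrders K (FunFld.hcol τ Ht φ) J := (h97a J).mp hJ
  have hdetφ : (FunFld.wrMat τ Ht φ J).det ≠ 0 := by
    intro h0
    apply hdetψ
    rw [h97b J hJφ, h0, mul_zero]
  obtain ⟨h98a, h98b⟩ := Groth.Agent.S12598.result k K hK φ hφ τ s H hH t Ht hHt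
  have hJs : FunFld.IsOrders K (FunFld.hcol τ H φ) J := (h98a J).mp hJφ
  refine ⟨J, hJs, ?_⟩
  intro h0
  apply hdetφ
  rw [h98b J hJs, h0, mul_zero]

end Groth.Agent.S12600
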