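import Groth.Statements.S12601
import Groth.Agent.H21.Orders

set_option autoImplicit false
open FunFld

namespace Groth.Agent.S12601

/-- Over an algebraically closed constant field, if `j'₁ < ⋯ < j'ₙ` is a strictly increasing sequence
with `det [τ(φ) | D^(j'₁) φ | ⋯ | D^(j'ₙ) φ] ≠ 0`, then the `τ`-orders `j₁ < ⋯ < jₙ` of `φ` satisfy
`jₗ ≤ j'ₗ` for all `l`. -/
theorem result
    (k K : Type*) [Field k] [IsAlgClosed k] [Field K] [Algebra k K]
    (hK : FunFld.IsFunctionField k K) {n : ℕ} (φ : Fin (n + 1) → K) (hφ : LinearIndependent k φ)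
    (τ : K →ₐ[k] K) (s : K) (H : K →ₐ[k] PowerSeries K) (hH : LocRes.IsHasseFamily s H)
    (J : Fin n → ℕ) (hJ : FunFld.IsOrders K (FunFld.hcol τ H φ) J)
    (J' : Fin n → ℕ) (hJ' : StrictMono J') (hdet : (FunFld.wrMat τ H φ J').det ≠ 0) :
    ∀ l, J l ≤ J' l := by
  have hu : IsUnit (FunFld.wrMat τ H φ J') := by
    rw [Matrix.isUnit_iff_isUnit_det]
    exact isUnit_iff_ne_zero.mpr hdet
  have hcols : LinearIndependent K (FunFld.wrMat τ H φ J').col :=
    Matrix.linearIndependent_cols_of_isUnit hu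
  have hfd : FiniteDimensional K (Fin (n + 1) → K) := inferInstance
  have heq : (fun x : Fin (n + 1) => FunFld.hcol τ H φ
      (Fin.cases (motive := fun _ => ℕ) 0 (fun l => J' l + 1) x)) = (FunFld.wrMat τ H φ J').col := by
    funext x
    funext i
    refine Fin.cases ?_ (fun l => ?_) x
    · simp [FunFld.wrMat, FunFld.hcol, Matrix.col]
    · simp [FunFld.wrMat, FunFld.hcol, Matrix.col]
  refine Groth.Agent.H21.Orders.orders_le (R := K) (M := Fin (n + 1) → K)
    (FunFld.hcol τ H φ) J J' hJ hJ' ?_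
  rw [heq]
  exact hcols

end Groth.Agent.S12601
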