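import Groth.Statements.S12596
-- import your own Groth.Agent.* helpers here

set_option autoImplicit false
open FunFld

namespace Groth.Agent.S12596

/-- Over an algebraically closed constant field, replacing a projective map `φ` by `Aφ` for an
invertible matrix `A` over `k` does not change the `τ`-order sequence, and multiplies every
generalized Wronskian determinant `det [τ(φ) | D^(I₁) φ | ⋯ | D^(Iₙ) φ]` (Hasse derivatives taken
with `H`) by `det A`. -/
theorem result
    (k K : Type*) [Field k] [IsAlgClosed k] [Field K] [Algebra k K]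
    (hK : FunFld.IsFunctionField k K) {n : ℕ} (φ : Fin (n + 1) → K) (hφ : LinearIndependent k φ)
    (τ : K →ₐ[k] K) (s : K) (H : K →ₐ[k] PowerSeries K) (hH : LocRes.IsHasseFamily s H)
    (A : Matrix (Fin (n + 1)) (Fin (n + 1)) k) (hA : A.det ≠ 0)
    (φ' : Fin (n + 1) → K) (hφ' : ∀ i, φ' i = ∑ j, A i j • φ j) :
    (∀ J : Fin n → ℕ, FunFld.IsOrders K (FunFld.hcol τ H φ') J ↔ FunFld.IsOrders K (FunFld.hcol τ H φ) J) ∧
    ∀ I : Fin n → ℕ, (FunFld.wrMat τ H φ' I).det = algebraMap k K A.det * (FunFld.wrMat τ H φ I).det := by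
  classical
  set AK : Matrix (Fin (n + 1)) (Fin (n + 1)) K := A.map (algebraMap k K) with hAK
  have hdetAK : AK.det = algebraMap k K A.det := by
    rw [hAK, ← RingHom.mapMatrix_apply, ← RingHom.map_det]
  have hdetAK0 : AK.det ≠ 0 := by
    rw [hdetAK]; exact (_root_.map_ne_zero _).2 hA
  have hunit : IsUnit AK.det := isUnit_iff_ne_zero.2 hdetAK0
  -- k-linearity of the coordinate maps
  have hlin : ∀ (g : K →ₗ[k] K) (i : Fin (n + 1)), g (φ' i) = ∑ j, AK i j * g (φ j) := by
    intro g i
    rw [hφ' i, map_sum]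
    refine Finset.sum_congr rfl fun j _ => ?_
    rw [map_smul, Algebra.smul_def]
    rfl
  have hτlin : ∀ i, τ (φ' i) = ∑ j, AK i j * τ (φ j) := fun i => hlin τ.toLinearMap i
  have hHlin : ∀ (m : ℕ) (i : Fin (n + 1)),
      LocRes.hasseD H m (φ' i) = ∑ j, AK i j * LocRes.hasseD H m (φ j) := by
    intro m i
    exact hlin ((PowerSeries.coeff (R := K) m).restrictScalars k ∘ₗ H.toLinearMap) i
  -- the columns are related by `mulVec`
  have hcol : ∀ j, FunFld.hcol τ H φ' j = AK.mulVec (FunFld.hcol τ H φ j) := by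
    intro j
    cases j with
    | zero =>
      funext i
      show τ (φ' i) = _
      rw [hτlin i]
      rfl
    | succ j =>
      funext i
      show LocRes.hasseD H j (φ' i) = _
      rw [hHlin j i]
      rfl
  set T : (Fin (n + 1) → K) →ₗ[K] (Fin (n + 1) → K) := Matrix.mulVecLin AK with hT
  have hTinj : Function.Injective T := by
    rw [hT]
    exact Matrix.mulVec_injective_iff_isUnit.2 ((Matrix.isUnit_iff_isUnit_det AK).2 hunit)
  have hcolT : ∀ j, FunFld.hcol τ H φ' j = T (FunFld.hcol τ H φ j) := hcol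
  have hjump : ∀ j, FunFld.IsJump K (FunFld.hcol τ H φ') j ↔ FunFld.IsJump K (FunFld.hcol τ H φ) j := by
    intro j
    unfold FunFld.IsJump
    have himg : (FunFld.hcol τ H φ') '' Set.Iio j = T '' ((FunFld.hcol τ H φ) '' Set.Iio j) := by
      rw [Set.image_image]
      exact Set.image_congr fun m _ => hcolT m
    rw [himg, ← Submodule.map_span, hcolT j]
    rw [not_iff_not]
    constructor
    · rintro ⟨v, hv, hTv⟩
      rwa [← hTinj hTv]
    · intro h
      exact Submodule.mem_map_of_mem h
  refine ⟨?_, ?_⟩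
  · intro J
    unfold FunFld.IsOrders
    simp only [hjump]
  · intro I
    have hmat : FunFld.wrMat τ H φ' I = AK * FunFld.wrMat τ H φ I := by
      ext i c
      rw [Matrix.mul_apply]
      refine Fin.cases ?_ (fun l => ?_) c
      · show τ (φ' i) = _
        rw [hτlin i]
        rfl
      · show LocRes.hasseD H (I l) (φ' i) = _
        rw [hHlin (I l) i]
        rfl
    rw [hmat, Matrix.det_mul, hdetAK]

end Groth.Agent.S12596
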