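import Groth.Statements.S12607
import Groth.Agent.H16.Taylor2
import Groth.Agent.Lib.Helper17.FF19
-- import your own Groth.Agent.* helpers here

set_option autoImplicit false
open FunFld

namespace Groth.Agent.S12607

/-- Over an algebraically closed constant field, let `φ = (φ₀, …, φₙ)` be an effective projective map
normalized at the place `P`, `t` a local parameter at `P` and `j'₁ < ⋯ < j'ₙ` the orders of `φ` at
`P`, `j'₀ = 0`. Then the span of `φ` has a basis `φ'₀, …, φ'ₙ` with `φ'ₗ = t^(j'ₗ) · (1 + higher
order terms)` at `P`; in particular `j` is one of the `j'ₗ` exactly when some function in the span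
of `φ` has order `j` at `P`. -/
theorem result
    (k K : Type*) [Field k] [IsAlgClosed k] [Field K] [Algebra k K]
    (hK : FunFld.IsFunctionField k K) (P : FunFld.Place k K) {n : ℕ} (φ : Fin (n + 1) → K) (hφ : LinearIndependent k φ)
    (heff : (1 : K) ∈ Submodule.span k (Set.range φ)) (hnorm : ∀ i, P.1 (φ i) ≤ 1)
    (t : K) (ht : P.1 t = WithZero.exp (-1))
    (Ht : K →ₐ[k] PowerSeries K) (hHt : LocRes.IsHasseFamily t Ht)
    (J' : Fin n → ℕ) (hJ' : FunFld.IsOrders (IsLocalRing.ResidueField P.O) (FunFld.hcolAt P Ht φ) J') :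
    (∃ φ' : Fin (n + 1) → K,
      Submodule.span k (Set.range φ') = Submodule.span k (Set.range φ) ∧
      P.1 (φ' 0) = 1 ∧ FunFld.evalP P (φ' 0) = 1 ∧
      ∀ l : Fin n, P.1 (φ' l.succ) = WithZero.exp (-(J' l : ℤ)) ∧
        FunFld.evalP P (φ' l.succ / t ^ J' l) = 1) ∧
    ∀ j : ℕ, (j = 0 ∨ j ∈ Set.range J') ↔
      ∃ f ∈ Submodule.span k (Set.range φ), P.1 f = WithZero.exp (-(j : ℤ)) := by
  classical
  have ht0 : t ≠ 0 := Groth.Agent.Helper16.Hasse.t_ne_zero hK P ht Ht hHt
  have h0 : (0 : ℕ) ∉ Set.range J' := by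
    rw [hJ'.2 0]
    unfold FunFld.IsJump
    rw [not_not]
    apply Submodule.subset_span
    refine ⟨0, by simp, ?_⟩
    exact Groth.Agent.Helper16.Hasse.hcolAt_zero_eq P Ht hHt φ
  have hpos : ∀ l, 1 ≤ J' l := fun l => Nat.pos_of_ne_zero (fun h => h0 ⟨l, h⟩)
  have hsecond : ∀ j : ℕ, (j = 0 ∨ j ∈ Set.range J') ↔
      ∃ f ∈ Submodule.span k (Set.range φ), P.1 f = WithZero.exp (-(j : ℤ)) := by
    intro j
    rcases Nat.eq_zero_or_pos j with rfl | hj
    · constructor
      · intro _
        exact ⟨1, heff, by simp⟩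
      · intro _
        exact Or.inl rfl
    · rw [← Groth.Agent.Helper16.Hasse.jump_iff hK P ht Ht hHt φ hnorm hj, ← hJ'.2 j]
      constructor
      · rintro (h | h)
        · omega
        · exact h
      · intro h
        exact Or.inr h
  refine ⟨?_, hsecond⟩
  have hex : ∀ l : Fin n, ∃ f ∈ Submodule.span k (Set.range φ),
      P.1 f = WithZero.exp (-(J' l : ℤ)) := fun l => (hsecond (J' l)).mp (Or.inr ⟨l, rfl⟩)
  choose f hfW hfP using hex
  have hu1 : ∀ l, P.1 (f l / t ^ J' l) = 1 := by
    intro l
    rw [Groth.Agent.Helper16.Hasse.val_div_pow_eq P ht, hfP, ← WithZero.exp_add, neg_add_cancel,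
      WithZero.exp_zero]
  have hune : ∀ l, FunFld.evalP P (f l / t ^ J' l) ≠ 0 := by
    intro l h
    rw [Groth.Agent.Helper16.Hasse.evalP_eq_zero_iff P (le_of_eq (hu1 l)), hu1 l] at h
    exact lt_irrefl _ h
  have hsurj := (Groth.Agent.Helper16.Hasse.algebraMap_bijective hK P).2
  choose c hc using fun l : Fin n => hsurj (FunFld.evalP P (f l / t ^ J' l))
  have hc0 : ∀ l, c l ≠ 0 := by
    intro l h
    apply hune l
    rw [← hc, h, map_zero]
  refine ⟨Fin.cases (1 : K) (fun l => (c l)⁻¹ • f l), ?_, by simp,
    by simpa using Groth.Agent.Helper16.Hasse.evalP_one P, ?_⟩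
  · -- the spans agree
    set φ' : Fin (n + 1) → K := Fin.cases (1 : K) (fun l => (c l)⁻¹ • f l) with hφ'
    have hmemW : ∀ i, φ' i ∈ Submodule.span k (Set.range φ) := by
      intro i
      refine Fin.cases ?_ (fun l => ?_) i
      · exact heff
      · exact Submodule.smul_mem _ _ (hfW l)
    have hval : ∀ i, P.1 (φ' i) = WithZero.exp (-(Fin.cases (0 : ℤ) (fun l => (J' l : ℤ)) i : ℤ)) := by
      intro i
      refine Fin.cases ?_ (fun l => ?_) i
      · simp [hφ']
      · show P.1 ((c l)⁻¹ • f l) = WithZero.exp (-(J' l : ℤ))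
        rw [Algebra.smul_def, map_mul, Groth.Agent.Helper17.FF.val_const P (inv_ne_zero (hc0 l)),
          one_mul, hfP]
    have hz : ∀ i, φ' i ≠ 0 := by
      intro i h
      have := hval i
      rw [h, map_zero] at this
      exact WithZero.exp_ne_zero this.symm
    have hord : ∀ i, P.ord (φ' i) = Fin.cases (0 : ℤ) (fun l => (J' l : ℤ)) i := by
      intro i
      have := hval i
      rw [Groth.Agent.Helper17.FF.val_eq_exp_neg_ord P (hz i)] at this
      have := WithZero.exp_injective this
      linarith
    have hinj : Function.Injective (fun i => P.ord (φ' i)) := by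
      intro a b hab
      simp only [hord] at hab
      revert hab
      refine Fin.cases ?_ (fun la => ?_) a <;> refine Fin.cases ?_ (fun lb => ?_) b
      · intro _; rfl
      · intro h
        simp only [Fin.cases_zero, Fin.cases_succ] at h
        have := hpos lb
        omega
      · intro h
        simp only [Fin.cases_zero, Fin.cases_succ] at h
        have := hpos la
        omega
      · intro h
        simp only [Fin.cases_succ] at h
        have : J' la = J' lb := by exact_mod_cast h
        rw [hJ'.1.injective this]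
    have hli : LinearIndependent k φ' := by
      rw [Fintype.linearIndependent_iff]
      intro g hg
      exact Groth.Agent.Helper17.FF.coeff_eq_zero_of_ord_injective P φ' hz hinj g hg
    have hle : Submodule.span k (Set.range φ') ≤ Submodule.span k (Set.range φ) := by
      rw [Submodule.span_le]
      rintro _ ⟨i, rfl⟩
      exact hmemW i
    haveI : FiniteDimensional k ↥(Submodule.span k (Set.range φ)) :=
      FiniteDimensional.span_of_finite k (Set.finite_range φ)
    apply Submodule.eq_of_le_of_finrank_eq hle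
    rw [finrank_span_eq_card hli, finrank_span_eq_card hφ]
  · intro l
    constructor
    · show P.1 ((c l)⁻¹ • f l) = WithZero.exp (-(J' l : ℤ))
      rw [Algebra.smul_def, map_mul, Groth.Agent.Helper17.FF.val_const P (inv_ne_zero (hc0 l)),
        one_mul, hfP]
    · show FunFld.evalP P ((c l)⁻¹ • f l / t ^ J' l) = 1
      rw [smul_div_assoc, Groth.Agent.Helper16.Hasse.evalP_smul P _ (le_of_eq (hu1 l)), ← hc,
        Algebra.smul_def, ← map_mul, inv_mul_cancel₀ (hc0 l), map_one]

end Groth.Agent.S12607
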