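import Groth.Statements.S11268
import Mathlib

set_option autoImplicit false
open W4bk4grassmannian

namespace Groth.Agent.S11268

lemma val_le_apply {d n : ℕ} (a : Fin d → Fin n) (ha : StrictMono a) :
    ∀ (k : ℕ) (hk : k < d), k ≤ (a ⟨k, hk⟩).val := by
  intro k
  induction k with
  | zero => intro _; exact Nat.zero_le _
  | succ k ih =>
    intro hk
    have h1 := ih (Nat.lt_of_succ_lt hk)
    have h2 : a ⟨k, Nat.lt_of_succ_lt hk⟩ < a ⟨k + 1, hk⟩ := ha (by simp [Fin.lt_def])
    have h3 : (a ⟨k, Nat.lt_of_succ_lt hk⟩).val < (a ⟨k + 1, hk⟩).val := h2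
    omega

open W4bk4grassmannian in
/-- Let τ < w in I(d,n), the strictly increasing maps Fin d → Fin n ordered entrywise. Then there is a
Schubert divisor φ of w, i.e. φ < w with Σ_t (φ_t - t) + 1 = Σ_t (w_t - t), such that τ ≤ φ: every
proper Schubert subvariety of X(w) lies in a Schubert divisor of X(w). -/
theorem result (d n : ℕ) (τ w : Idx d n) (h : τ < w) :
    ∃ φ ∈ divisors w, τ ≤ φ := by
  classical
  obtain ⟨hle, hnle⟩ := lt_iff_le_not_ge.1 h
  have hle' : ∀ i, τ.1 i ≤ w.1 i := hle
  have hex : ∃ i, τ.1 i < w.1 i := by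
    by_contra hcon
    push Not at hcon
    apply hnle
    intro i
    exact hcon i
  let S : Finset (Fin d) := Finset.univ.filter (fun i => τ.1 i < w.1 i)
  have hS : S.Nonempty := by
    obtain ⟨i, hi⟩ := hex
    exact ⟨i, by simp [S, hi]⟩
  set t := S.min' hS with ht_def
  have ht : τ.1 t < w.1 t := (Finset.mem_filter.1 (S.min'_mem hS)).2
  have hmin : ∀ s, s < t → τ.1 s = w.1 s := by
    intro s hs
    by_contra hne
    have hlt : τ.1 s < w.1 s := lt_of_le_of_ne (hle' s) hne
    have hsS : s ∈ S := by simp [S, hlt]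
    have := S.min'_le s hsS
    exact absurd hs (not_lt.2 this)
  have htv : (τ.1 t).val < (w.1 t).val := ht
  have hpos : 0 < (w.1 t).val := by omega
  let pt : Fin n := ⟨(w.1 t).val - 1, by have := (w.1 t).isLt; omega⟩
  let φf : Fin d → Fin n := fun s => if s = t then pt else w.1 s
  have hφt : φf t = pt := by simp [φf]
  have hφs : ∀ s, s ≠ t → φf s = w.1 s := by intro s hs; simp [φf, hs]
  have hmono : StrictMono φf := by
    intro a b hab
    by_cases ha : a = t
    · have hb : b ≠ t := by rintro rfl; exact absurd hab (by rw [ha]; exact lt_irrefl _)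
      rw [ha, hφt, hφs b hb]
      have h1 : w.1 t < w.1 b := w.2 (ha ▸ hab)
      have h2 : (w.1 t).val < (w.1 b).val := h1
      show (pt : Fin n).val < (w.1 b).val
      simp only [pt]
      omega
    · by_cases hb : b = t
      · rw [hb, hφt, hφs a ha]
        have hat : a < t := hb ▸ hab
        have h1 : τ.1 a = w.1 a := hmin a hat
        have h2 : τ.1 a < τ.1 t := τ.2 hat
        have h3 : (τ.1 a).val < (τ.1 t).val := h2
        have h4 : (τ.1 a).val = (w.1 a).val := by rw [h1]
        show (w.1 a).val < (pt : Fin n).val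
        simp only [pt]
        omega
      · rw [hφs a ha, hφs b hb]
        exact w.2 hab
  refine ⟨⟨φf, hmono⟩, ⟨?_, ?_⟩, ?_⟩
  · -- φ < w
    rw [lt_iff_le_not_ge]
    constructor
    · intro s
      show φf s ≤ w.1 s
      by_cases hs : s = t
      · rw [hs, hφt]
        show (pt : Fin n).val ≤ (w.1 t).val
        simp only [pt]; omega
      · rw [hφs s hs]
    · intro hcon
      have := hcon t
      have h5 : (w.1 t).val ≤ (φf t).val := this
      rw [hφt] at h5
      simp only [pt] at h5
      omega
  · -- codeg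
    unfold codeg
    have hkt : t.val ≤ (τ.1 t).val := val_le_apply τ.1 τ.2 t.val t.isLt
    rw [← Finset.add_sum_erase Finset.univ _ (Finset.mem_univ t),
      ← Finset.add_sum_erase Finset.univ (fun s => (w.1 s).val - s.val) (Finset.mem_univ t)]
    have hrest : ∑ s ∈ Finset.univ.erase t, (((⟨φf, hmono⟩ : Idx d n).1 s).val - s.val) =
        ∑ s ∈ Finset.univ.erase t, ((w.1 s).val - s.val) := by
      apply Finset.sum_congr rfl
      intro s hs
      have hst : s ≠ t := Finset.ne_of_mem_erase hs
      show (φf s).val - s.val = _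
      rw [hφs s hst]
    rw [hrest]
    show (φf t).val - t.val + _ + 1 = _
    rw [hφt]
    simp only [pt]
    omega
  · -- τ ≤ φ
    intro s
    show τ.1 s ≤ φf s
    by_cases hs : s = t
    · rw [hs, hφt]
      show (τ.1 t).val ≤ (pt : Fin n).val
      simp only [pt]; omega
    · rw [hφs s hs]
      exact hle' s

end Groth.Agent.S11268
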