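import Groth.Statements.S11078
import Groth.Agent.H16.LocRing
import Groth.Agent.H16.LLS3
-- import your own Groth.Agent.* helpers here

set_option autoImplicit false
open FunFld

namespace Groth.Agent.S11078

/-- Over an algebraically closed constant field, for a projective map `φ = (φ₀, …, φₙ)`, `n ≥ 1`, and a
point `a = φ(P)` with local ring `O_a`, the fibre `φ⁻¹(a)` consists of the places `Q` with `O_a ⊆
O_Q` and `m_Q ∩ O_a` equal to the maximal ideal of `O_a` (which is `m_P ∩ O_a`). Here `O_a` consists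
of the quotients of polynomials over `k` in the ratios `φᵢ/φⱼ`, `φⱼ` of least order at `P`, with
denominator a unit at `P`; and `Q` has the same image point as `P` when some entry has least order
at both places and the ratios are congruent to common constants modulo both maximal ideals. -/
theorem result
    (k K : Type*) [Field k] [IsAlgClosed k] [Field K] [Algebra k K]
    (hK : FunFld.IsFunctionField k K) {n : ℕ} (hn : 1 ≤ n) (φ : Fin (n + 1) → K)
    (hφ : LinearIndependent k φ) (P Q : FunFld.Place k K) :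
    FunFld.SameImage φ P Q ↔
      ∀ z : K, FunFld.InLocRing φ P z → (Q.1 z ≤ 1 ∧ (Q.1 z < 1 ↔ P.1 z < 1)) := by
  constructor
  · rintro ⟨j, hj0, hjP, hjQ, hc⟩
    choose c hcP hcQ using hc
    rintro z ⟨j', hj'0, hj'P, u, hu, w, hw, hPw, hzw⟩
    -- t = φ j' / φ j
    have hPt : P.1 (φ j' / φ j) = 1 := by
      rw [map_div₀]
      have e : P.1 (φ j') = P.1 (φ j) := le_antisymm (hjP j') (hj'P j)
      rw [e]
      exact div_self ((map_ne_zero P.1).mpr hj0)
    obtain ⟨m₁, h₁⟩ := Groth.Agent.Helper16.Emb.change_index (k := k) φ hj0 hj'0 hu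
    obtain ⟨m₂, h₂⟩ := Groth.Agent.Helper16.Emb.change_index (k := k) φ hj0 hj'0 hw
    have hu' := h₁ (max m₁ m₂) (le_max_left _ _)
    have hw' := h₂ (max m₁ m₂) (le_max_right _ _)
    set m := max m₁ m₂
    have hPw' : P.1 (w * (φ j' / φ j) ^ m) = 1 := by
      rw [map_mul, map_pow, hPw, hPt, one_pow, one_mul]
    have hzw' : z * (w * (φ j' / φ j) ^ m) = u * (φ j' / φ j) ^ m := by
      rw [← mul_assoc, hzw]
    obtain ⟨c₀, a, ha, ew⟩ := Groth.Agent.Helper16.Emb.A_decomp φ j c hw'
    obtain ⟨d₀, b, hb, eu⟩ := Groth.Agent.Helper16.Emb.A_decomp φ j c hu'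
    have hc₀ : c₀ ≠ 0 := by
      intro h0
      have := (Groth.Agent.Helper16.Emb.val_decomp P φ hjP c hcP (c₀ := c₀) ha).1 h0
      rw [← ew, hPw'] at this
      exact lt_irrefl _ this
    have hQw' : Q.1 (w * (φ j' / φ j) ^ m) = 1 := by
      rw [ew]
      exact (Groth.Agent.Helper16.Emb.val_decomp Q φ hjQ c hcQ (c₀ := c₀) ha).2 hc₀
    have hQz : Q.1 z = Q.1 (u * (φ j' / φ j) ^ m) := by
      rw [← hzw', map_mul, hQw', mul_one]
    have hPz : P.1 z = P.1 (u * (φ j' / φ j) ^ m) := by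
      rw [← hzw', map_mul, hPw', mul_one]
    rw [hQz, hPz]
    refine ⟨Groth.Agent.Helper16.Emb.A_le_O Q φ hjQ hu', ?_⟩
    rw [eu]
    have hP := Groth.Agent.Helper16.Emb.val_decomp P φ hjP c hcP (c₀ := d₀) hb
    have hQ := Groth.Agent.Helper16.Emb.val_decomp Q φ hjQ c hcQ (c₀ := d₀) hb
    by_cases hd : d₀ = 0
    · exact ⟨fun _ => hP.1 hd, fun _ => hQ.1 hd⟩
    · constructor
      · intro h
        rw [hQ.2 hd] at h
        exact absurd h (lt_irrefl _)
      · intro h
        rw [hP.2 hd] at h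
        exact absurd h (lt_irrefl _)
  · intro H
    obtain ⟨j, hj⟩ := Finite.exists_max (fun i => P.1 (φ i))
    have hj0 : φ j ≠ 0 := hφ.ne_zero j
    have hmem : ∀ i, φ i / φ j ∈ Algebra.adjoin k (Set.range fun i => φ i / φ j) :=
      fun i => Algebra.subset_adjoin (Set.mem_range_self i)
    have hloc : ∀ y ∈ Algebra.adjoin k (Set.range fun i => φ i / φ j),
        FunFld.InLocRing φ P y := by
      intro y hy
      exact ⟨j, hj0, hj, y, hy, 1, Subalgebra.one_mem _, map_one _, mul_one _⟩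
    have hjQ : ∀ i, Q.1 (φ i) ≤ Q.1 (φ j) := by
      intro i
      have h1 := (H _ (hloc _ (hmem i))).1
      rw [map_div₀] at h1
      have hpos : 0 < Q.1 (φ j) := zero_lt_iff.mpr ((map_ne_zero Q.1).mpr hj0)
      exact (div_le_one₀ hpos).mp h1
    refine ⟨j, hj0, hj, hjQ, fun i => ?_⟩
    have hPx : P.1 (φ i / φ j) ≤ 1 := Groth.Agent.Helper16.Emb.A_le_O P φ hj (hmem i)
    obtain ⟨ci, hci⟩ := Groth.Agent.Helper16.LLS.exists_const_sub_lt hK P hPx
    refine ⟨ci, hci, ?_⟩
    have hy : φ i / φ j - algebraMap k K ci ∈ Algebra.adjoin k (Set.range fun i => φ i / φ j) :=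
      Subalgebra.sub_mem _ (hmem i) (Subalgebra.algebraMap_mem _ _)
    exact (H _ (hloc _ hy)).2.mpr hci

end Groth.Agent.S11078
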