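import Groth.Statements.S12614
import Groth.Agent.H16.SV14
import Groth.Agent.S12596
import Groth.Agent.S12597
import Groth.Agent.S12598
import Groth.Agent.S12600
-- import your own Groth.Agent.* helpers here

set_option autoImplicit false
open FunFld

namespace Groth.Agent.S12614

/-- Over an algebraically closed constant field, the Weierstrass divisor `W_s(φ, τ) = [w_s(φ, τ)] +
[τ(φ)] + n[φ] + j(φ, τ)[ds]` does not depend on the separating variable `s` and does not change when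
`φ` is replaced by an equivalent map `y · Aφ` (`A` invertible over `k`, `y ≠ 0`). Divisors of
differentials are read through a fixed family of Laurent expansions. -/
theorem result
    (k K : Type*) [Field k] [IsAlgClosed k] [Field K] [Algebra k K]
    (hK : FunFld.IsFunctionField k K) {n : ℕ} (φ : Fin (n + 1) → K) (hφ : LinearIndependent k φ)
    (τ : K →ₐ[k] K) (s : K) (Hs : K →ₐ[k] PowerSeries K) (hHs : LocRes.IsHasseFamily s Hs)
    (t : K) (Ht : K →ₐ[k] PowerSeries K) (hHt : LocRes.IsHasseFamily t Ht)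
    (J : Fin n → ℕ) (hJ : FunFld.IsOrders K (FunFld.hcol τ Hs φ) J)
    (A : Matrix (Fin (n + 1)) (Fin (n + 1)) k) (hA : A.det ≠ 0) (y : K) (hy : y ≠ 0)
    (φ' : Fin (n + 1) → K) (hφ' : ∀ i, φ' i = y * ∑ j, A i j • φ j)
    (Φ : FunFld.Place k K → (K →ₐ[k] LaurentSeries k))
    (hΦ : ∀ P : FunFld.Place k K, LocRes.IsExpansionAt P.1 (Φ P)) :
    FunFld.wDiv τ Ht Φ t φ' J = FunFld.wDiv τ Hs Φ s φ J := by
  classical
  have hg := Groth.Agent.Helper17.FF.isGeometric_of_perfect k K hK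
  obtain ⟨φ₁, hφ₁def⟩ : ∃ φ₁ : Fin (n + 1) → K, φ₁ = fun i => ∑ j, A i j • φ j := ⟨_, rfl⟩
  have hφ₁ : LinearIndependent k φ₁ := by
    rw [hφ₁def]; exact Groth.Agent.Helper16.Hasse.linearIndependent_comb φ hφ A hA
  have hφ'eq : φ' = y • φ₁ := by
    funext i
    rw [hφ' i, hφ₁def]
    rfl
  -- orders and determinants
  obtain ⟨h98a, h98b⟩ := Groth.Agent.S12598.result k K hK φ hφ τ s Hs hHs t Ht hHt
  have hJt : FunFld.IsOrders K (FunFld.hcol τ Ht φ) J := (h98a J).mpr hJ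
  obtain ⟨h96a, h96b⟩ := Groth.Agent.S12596.result k K hK φ hφ τ t Ht hHt A hA φ₁
    (fun i => by rw [hφ₁def])
  have hJ₁ : FunFld.IsOrders K (FunFld.hcol τ Ht φ₁) J := (h96a J).mpr hJt
  obtain ⟨h97a, h97b⟩ := Groth.Agent.S12597.result k K hK φ₁ hφ₁ τ t Ht hHt y hy
  have hdet : (FunFld.wrMat τ Ht φ' J).det =
      τ y * y ^ n * (algebraMap k K A.det *
        (LocRes.hasseD Ht 1 s ^ (∑ l, J l) * (FunFld.wrMat τ Hs φ J).det)) := by
    rw [hφ'eq, h97b J hJ₁, h96b J, h98b J hJ]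
  obtain ⟨J₀, hJ₀, hdet₀⟩ := Groth.Agent.S12600.result k K hK φ hφ τ s Hs hHs
  have hws : (FunFld.wrMat τ Hs φ J).det ≠ 0 :=
    Groth.Agent.Helper16.Hasse.det_wrMat_ne_zero τ Hs φ J hJ J₀ hdet₀
  have hDts : LocRes.hasseD Ht 1 s ≠ 0 := by
    intro h0
    have := Groth.Agent.Helper17.Hasse.hasseD_one_mul hK hg hHs hHt
    rw [h0, mul_zero] at this
    exact zero_ne_one this
  have hτy : τ y ≠ 0 := (map_ne_zero τ).mpr hy
  have hAK : algebraMap k K A.det ≠ 0 := (map_ne_zero _).mpr hA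
  -- the maps `τ ∘ φ`
  have hτφ : LinearIndependent k (⇑τ ∘ φ) := by
    have := hφ.map' τ.toLinearMap (by
      rw [LinearMap.ker_eq_bot]
      exact τ.toRingHom.injective)
    exact this
  have hτφ' : ∀ i, (⇑τ ∘ φ') i = τ y * ∑ j, A i j • (⇑τ ∘ φ) j := by
    intro i
    show τ (φ' i) = _
    rw [hφ' i, map_mul, map_sum]
    congr 1
    refine Finset.sum_congr rfl fun j _ => ?_
    rw [map_smul]
    rfl
  ext P
  have hm1 := Groth.Agent.Helper16.Hasse.mapDiv_comb hK P φ φ' hφ y hy A hA hφ'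
  have hm2 := Groth.Agent.Helper16.Hasse.mapDiv_comb hK P (⇑τ ∘ φ) (⇑τ ∘ φ') hτφ (τ y) hτy A hA
    hτφ'
  have hd1 := Groth.Agent.Helper16.Hasse.divDiff_apply hK Hs hHs Φ hΦ P
  have hd2 := Groth.Agent.Helper16.Hasse.divDiff_apply hK Ht hHt Φ hΦ P
  have hch := Groth.Agent.Helper16.Hasse.ordDiff_chain hK P (Φ P) (hΦ P) Hs hHs Ht hHt
  have hord : P.ord (FunFld.wrMat τ Ht φ' J).det =
      P.ord (τ y) + n * P.ord y + ((∑ l, J l : ℕ) : ℤ) * P.ord (LocRes.hasseD Ht 1 s) +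
        P.ord (FunFld.wrMat τ Hs φ J).det := by
    rw [hdet, Groth.Agent.Helper17.FF.ord_mul P (mul_ne_zero hτy (pow_ne_zero _ hy))
      (mul_ne_zero hAK (mul_ne_zero (pow_ne_zero _ hDts) hws)),
      Groth.Agent.Helper17.FF.ord_mul P hτy (pow_ne_zero _ hy),
      Groth.Agent.Helper17.FF.ord_mul P hAK (mul_ne_zero (pow_ne_zero _ hDts) hws),
      Groth.Agent.Helper17.FF.ord_mul P (pow_ne_zero _ hDts) hws,
      Groth.Agent.Helper17.FF.ord_pow, Groth.Agent.Helper17.FF.ord_pow,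
      Groth.Agent.Helper17.FF.ord_const]
    ring
  unfold FunFld.wDiv
  simp only [Finsupp.add_apply, Finsupp.smul_apply, Groth.Agent.Helper17.FF.div_apply hK]
  rw [hm1, hm2, hd1, hd2, hch, hord]
  simp only [smul_eq_mul]
  push_cast
  ring

end Groth.Agent.S12614
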