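import Groth.Statements.S12603
import Groth.Agent.H16.SVW
import Groth.Agent.S12614
import Groth.Agent.S12597
import Groth.Agent.S12598
-- import your own Groth.Agent.* helpers here

set_option autoImplicit false
open FunFld

namespace Groth.Agent.S12603

/-- Over an algebraically closed constant field, the Weierstrass divisor `W(φ, τ) = [w_s(φ, τ)] + [τ(φ)]
+ n[φ] + j(φ, τ)[ds]` of a linearly independent tuple `φ = (φ₀, …, φₙ)` with respect to a
`k`-endomorphism `τ` is nonnegative, and its degree is `(deg τ + n) deg φ + (2g - 2) j(φ, τ)`, where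
`deg τ = [K : τ(K)]`, `deg φ` is the degree of the divisor of `φ`, `g` is the genus and `j(φ, τ)`
the sum of the `τ`-orders. The divisor of `ds` is read through a family of Laurent expansions at the
places. -/
theorem result
    (k K : Type*) [Field k] [IsAlgClosed k] [Field K] [Algebra k K]
    (hK : FunFld.IsFunctionField k K) {n : ℕ} (φ : Fin (n + 1) → K) (hφ : LinearIndependent k φ)
    (τ : K →ₐ[k] K) (s : K) (H : K →ₐ[k] PowerSeries K) (hH : LocRes.IsHasseFamily s H)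
    (J : Fin n → ℕ) (hJ : FunFld.IsOrders K (FunFld.hcol τ H φ) J)
    (Φ : FunFld.Place k K → (K →ₐ[k] LaurentSeries k))
    (hΦ : ∀ P : FunFld.Place k K, LocRes.IsExpansionAt P.1 (Φ P)) :
    0 ≤ FunFld.wDiv τ H Φ s φ J ∧
    (FunFld.wDiv τ H Φ s φ J).deg =
      ((Module.finrank τ.fieldRange K : ℤ) + n) * (FunFld.mapDiv k φ).deg +
        (2 * (FunFld.genus k K : ℤ) - 2) * ∑ l, (J l : ℤ) := by
  classical
  refine ⟨?_, ?_⟩
  · intro P
    obtain ⟨t, ht⟩ := P.2.2 (WithZero.exp (-1 : ℤ))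
    have hDt := Groth.Agent.Helper16.Hasse.hasseD_one_ne_zero hK P H hH ht
    obtain ⟨Ht, hHt⟩ := Groth.Agent.Helper16.Hasse.exists_hasse H hH t hDt
    have hφ0 : ∀ i, φ i ≠ 0 := fun i => hφ.ne_zero i
    obtain ⟨j₀, -, hmax⟩ := Finset.exists_max_image Finset.univ (fun i => P.1 (φ i))
      ⟨0, Finset.mem_univ _⟩
    obtain ⟨y, hy⟩ : ∃ y : K, y = (φ j₀)⁻¹ := ⟨_, rfl⟩
    have hy0 : y ≠ 0 := by rw [hy]; exact inv_ne_zero (hφ0 j₀)
    obtain ⟨ψ, hψdef⟩ : ∃ ψ : Fin (n + 1) → K, ψ = y • φ := ⟨_, rfl⟩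
    have hψi : ∀ i, ψ i = y * φ i := fun i => by rw [hψdef]; rfl
    have hint : ∀ i, P.1 (ψ i) ≤ 1 := by
      intro i
      rw [hψi, hy, map_mul, map_inv₀,
        inv_mul_le_one₀ (zero_lt_iff.mpr ((map_ne_zero P.1).mpr (hφ0 j₀)))]
      exact hmax i (Finset.mem_univ _)
    have hψ : LinearIndependent k ψ := by
      have h1 := hφ.map' (LinearMap.mulLeft k y) (by
        rw [LinearMap.ker_eq_bot]
        intro a b hab
        exact mul_left_cancel₀ hy0 hab)
      rw [hψdef]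
      exact h1
    have hψj₀ : ψ j₀ = 1 := by rw [hψi, hy, inv_mul_cancel₀ (hφ0 j₀)]
    have heff : (1 : K) ∈ Submodule.span k (Set.range ψ) := by
      rw [← hψj₀]
      exact Submodule.subset_span (Set.mem_range_self j₀)
    have hone : (1 : Matrix (Fin (n + 1)) (Fin (n + 1)) k).det ≠ 0 := by
      rw [Matrix.det_one]; exact one_ne_zero
    have hψ' : ∀ i, ψ i = y * ∑ j, (1 : Matrix (Fin (n + 1)) (Fin (n + 1)) k) i j • φ j := by
      intro i
      rw [hψi]
      congr 1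
      simp [Matrix.one_apply, ite_smul]
    have htr := Groth.Agent.S12614.result k K hK φ hφ τ s H hH t Ht hHt J hJ 1 hone y hy0 ψ hψ' Φ hΦ
    rw [← htr]
    obtain ⟨h98a, -⟩ := Groth.Agent.S12598.result k K hK φ hφ τ s H hH t Ht hHt
    have hJt : FunFld.IsOrders K (FunFld.hcol τ Ht φ) J := (h98a J).mpr hJ
    obtain ⟨h97a, -⟩ := Groth.Agent.S12597.result k K hK φ hφ τ t Ht hHt y hy0
    have hJψ : FunFld.IsOrders K (FunFld.hcol τ Ht ψ) J := by
      rw [hψdef]; exact (h97a J).mpr hJt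
    exact Groth.Agent.Helper16.Hasse.wDiv_nonneg_param hK τ P ψ hψ heff hint ht Ht hHt J hJψ Φ (hΦ P)
  · have hs : KaehlerDifferential.D k K s ≠ 0 :=
      Groth.Agent.Helper17.Hasse.D_ne_zero_of_isHasseFamily hH
    unfold FunFld.wDiv
    rw [Groth.Agent.Helper17.FF.deg_add, Groth.Agent.Helper17.FF.deg_add, Groth.Agent.Helper17.FF.deg_add,
      Groth.Agent.Helper17.FF.deg_zsmul, Groth.Agent.Helper17.FF.deg_zsmul,
      Groth.Agent.Helper17.FF.deg_div hK, Groth.Agent.Helper17.FF.deg_mapDiv_comp_algHom hK,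
      Groth.Agent.Helper16.Hasse.deg_divDiff hK hs Φ hΦ]
    ring

end Groth.Agent.S12603
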