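import Groth.Statements.S12606
import Groth.Agent.H16.SV5
import Groth.Agent.S12607
-- import your own Groth.Agent.* helpers here

set_option autoImplicit false
open FunFld

namespace Groth.Agent.S12606

/-- Over an algebraically closed constant field, let `P` be a strong fixed point of the `k`-endomorphism
`τ`, `φ = (φ₀, …, φₙ)` (`n ≥ 1`) an effective projective map normalized at `P` with `τ(φ)` not a
`K`-multiple of `φ`, `t` a local parameter at `P`, `j₁, …, jₙ` the `τ`-orders of `φ` and `j'₁, …,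
j'ₙ` the orders of `φ` at `P`. Then `jₗ ≤ j'ₗ - j'₁` for `1 ≤ l ≤ n`. -/
theorem result
    (k K : Type*) [Field k] [IsAlgClosed k] [Field K] [Algebra k K]
    (hK : FunFld.IsFunctionField k K) (τ : K →ₐ[k] K) (P : FunFld.Place k K) (hP : FunFld.IsStrongFixedPt τ P)
    {n : ℕ} (hn : 0 < n) (φ : Fin (n + 1) → K) (hφ : LinearIndependent k φ)
    (heff : (1 : K) ∈ Submodule.span k (Set.range φ)) (hnorm : ∀ i, P.1 (φ i) ≤ 1)
    (hτφ : ¬ ∃ y : K, ∀ i, τ (φ i) = y * φ i)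
    (t : K) (ht : P.1 t = WithZero.exp (-1))
    (Ht : K →ₐ[k] PowerSeries K) (hHt : LocRes.IsHasseFamily t Ht)
    (J : Fin n → ℕ) (hJ : FunFld.IsOrders K (FunFld.hcol τ Ht φ) J)
    (J' : Fin n → ℕ) (hJ' : FunFld.IsOrders (IsLocalRing.ResidueField P.O) (FunFld.hcolAt P Ht φ) J') :
    ∀ l, J l + J' ⟨0, hn⟩ ≤ J' l := by
  classical
  obtain ⟨⟨φ', hspan, h0v, h0e, hl⟩, _⟩ :=
    Groth.Agent.S12607.result k K hK P φ hφ heff hnorm t ht Ht hHt J' hJ'
  have h0 : (0 : ℕ) ∉ Set.range J' := by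
    rw [hJ'.2 0]
    unfold FunFld.IsJump
    rw [not_not]
    apply Submodule.subset_span
    refine ⟨0, by simp, ?_⟩
    exact Groth.Agent.Helper16.Hasse.hcolAt_zero_eq P Ht hHt φ
  have hpos : ∀ l, 1 ≤ J' l := fun l => Nat.pos_of_ne_zero (fun h => h0 ⟨l, h⟩)
  have hφ' : LinearIndependent k φ' :=
    Groth.Agent.Helper16.Hasse.linearIndependent_of_span_eq φ φ' hφ hspan
  obtain ⟨A, hA, hAφ⟩ := Groth.Agent.Helper16.Hasse.exists_basis_change φ φ' hφ' hspan
  exact Groth.Agent.Helper16.Hasse.strong_orders_le hK τ P hP ht Ht hHt φ φ' A hAφ J' hJ'.1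
    h0v h0e hl hpos J hJ hn

end Groth.Agent.S12606
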