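import Groth.Statements.S12615
import Groth.Agent.H16.SV8
import Groth.Agent.S12605
-- import your own Groth.Agent.* helpers here

set_option autoImplicit false
open FunFld

namespace Groth.Agent.S12615

/-- Over an algebraically closed constant field, let `P` be a fixed point of the `k`-endomorphism `τ`,
`φ` an effective projective map normalized at `P` with `τ`-orders `j₁, …, jₙ` and orders `j'₁, …,
j'ₙ` at `P`. Then the coefficient of the Weierstrass divisor `W(φ, τ)` at `P` is at least `Σ (j'ₗ -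
jₗ)`; if `τ = 1` or `P` is a strong fixed point, it equals `Σ (j'ₗ - jₗ)` exactly when the matrix of
binomial coefficients `(j'_r choose j_s)`, read in `k`, has nonzero determinant. The divisor of `dt`
in `W` is read through a family of Laurent expansions. -/
theorem result
    (k K : Type*) [Field k] [IsAlgClosed k] [Field K] [Algebra k K]
    (hK : FunFld.IsFunctionField k K) (τ : K →ₐ[k] K) (P : FunFld.Place k K) (hP : FunFld.IsFixedPt τ P)
    {n : ℕ} (φ : Fin (n + 1) → K) (hφ : LinearIndependent k φ)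
    (heff : (1 : K) ∈ Submodule.span k (Set.range φ)) (hnorm : ∀ i, P.1 (φ i) ≤ 1)
    (t : K) (ht : P.1 t = WithZero.exp (-1))
    (Ht : K →ₐ[k] PowerSeries K) (hHt : LocRes.IsHasseFamily t Ht)
    (J : Fin n → ℕ) (hJ : FunFld.IsOrders K (FunFld.hcol τ Ht φ) J)
    (J' : Fin n → ℕ) (hJ' : FunFld.IsOrders (IsLocalRing.ResidueField P.O) (FunFld.hcolAt P Ht φ) J')
    (Φ : FunFld.Place k K → (K →ₐ[k] LaurentSeries k))
    (hΦ : ∀ P : FunFld.Place k K, LocRes.IsExpansionAt P.1 (Φ P)) :
    (∑ l, ((J' l : ℤ) - J l)) ≤ FunFld.wDiv τ Ht Φ t φ J P ∧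
    ((τ = AlgHom.id k K ∨ FunFld.IsStrongFixedPt τ P) →
      (FunFld.wDiv τ Ht Φ t φ J P = ∑ l, ((J' l : ℤ) - J l) ↔ (FunFld.binomMat k J' J).det ≠ 0)) := by
  classical
  have h0' : (0 : ℕ) ∉ Set.range J' := by
    rw [hJ'.2 0]
    unfold FunFld.IsJump
    rw [not_not]
    apply Submodule.subset_span
    refine ⟨0, by simp, ?_⟩
    exact Groth.Agent.Helper16.Hasse.hcolAt_zero_eq P Ht hHt φ
  have hpos' : ∀ l, 0 < J' l := fun l => Nat.pos_of_ne_zero (fun h => h0' ⟨l, h⟩)
  have key' := Groth.Agent.S12605.result k K hK τ P hP φ hφ heff hnorm t ht Ht hHt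
    J' hJ' J' hJ'.1
  have hdet' : (FunFld.wrMat τ Ht φ J').det ≠ 0 := by
    have h1 := (key'.2 (Or.inl hpos')).mpr (by
      rw [Groth.Agent.Helper16.Hasse.det_binomMat_self k J' hJ'.1]; exact one_ne_zero)
    intro h0
    rw [h0, map_zero] at h1
    exact WithZero.exp_ne_zero h1.symm
  have hdet : (FunFld.wrMat τ Ht φ J).det ≠ 0 :=
    Groth.Agent.Helper16.Hasse.det_wrMat_ne_zero τ Ht φ J hJ J' hdet'
  have key := Groth.Agent.S12605.result k K hK τ P hP φ hφ heff hnorm t ht Ht hHt
    J' hJ' J hJ.1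
  rw [Groth.Agent.Helper16.Hasse.wDiv_apply_param hK τ P hP φ hφ heff hnorm ht Ht J Φ (hΦ P)]
  refine ⟨?_, ?_⟩
  · have := (Groth.Agent.Helper17.FF.val_le_exp_iff P hdet _).mp key.1
    simpa using this
  · intro hcase
    have hc : (∀ l, 0 < J l) ∨ FunFld.IsStrongFixedPt τ P := by
      rcases hcase with h | h
      · left
        subst h
        have h0 : (0 : ℕ) ∉ Set.range J := by
          rw [hJ.2 0]
          unfold FunFld.IsJump
          rw [not_not]
          apply Submodule.subset_span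
          refine ⟨0, by simp, ?_⟩
          funext i
          show (AlgHom.id k K) (φ i) = LocRes.hasseD Ht 0 (φ i)
          rw [Groth.Agent.Helper16.Hasse.hasseD_zero Ht hHt]
          rfl
        exact fun l => Nat.pos_of_ne_zero (fun h => h0 ⟨l, h⟩)
      · right; exact h
    rw [← key.2 hc, Groth.Agent.Helper17.FF.val_eq_exp_iff P hdet]
    constructor <;> intro h <;> omega

end Groth.Agent.S12615
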