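import Groth.Statements.S12604
import Groth.Agent.H16.Expn
import Groth.Agent.H16.SVW
import Groth.Agent.S12603
import Groth.Agent.S12606
import Groth.Agent.S12614
import Groth.Agent.S12615
import Groth.Agent.S12597
import Groth.Agent.S12598
import Groth.Agent.Lib.Helper17.FF20
-- import your own Groth.Agent.* helpers here

set_option autoImplicit false
open FunFld

namespace Groth.Agent.S12604

theorem le_wDiv_of_strong (k K : Type*) [Field k] [IsAlgClosed k] [Field K] [Algebra k K]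
    (hK : FunFld.IsFunctionField k K) (τ : K →ₐ[k] K) {n : ℕ} (hn : 0 < n) (φ : Fin (n + 1) → K)
    (hφ : LinearIndependent k φ)
    (hτφ : ¬ ∃ y : K, ∀ i, τ (φ i) = y * φ i) (s : K) (H : K →ₐ[k] PowerSeries K)
    (hH : LocRes.IsHasseFamily s H)
    (J : Fin n → ℕ) (hJ : FunFld.IsOrders K (FunFld.hcol τ H φ) J)
    (Φ : FunFld.Place k K → (K →ₐ[k] LaurentSeries k))
    (hΦ : ∀ P : FunFld.Place k K, LocRes.IsExpansionAt P.1 (Φ P))
    (P : FunFld.Place k K) (hS : FunFld.IsStrongFixedPt τ P) :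
    (n : ℤ) ≤ FunFld.wDiv τ H Φ s φ J P := by
  classical
  have hP : FunFld.IsFixedPt τ P := Groth.Agent.Helper16.Hasse.fixed_of_strong hK hS
  obtain ⟨t, ht⟩ := P.2.2 (WithZero.exp (-1 : ℤ))
  have hDt := Groth.Agent.Helper16.Hasse.hasseD_one_ne_zero hK P H hH ht
  obtain ⟨Ht, hHt⟩ := Groth.Agent.Helper16.Hasse.exists_hasse H hH t hDt
  have hφ0 : ∀ i, φ i ≠ 0 := fun i => hφ.ne_zero i
  obtain ⟨j₀, -, hmax⟩ := Finset.exists_max_image Finset.univ (fun i => P.1 (φ i))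
    ⟨0, Finset.mem_univ _⟩
  obtain ⟨y, hy⟩ : ∃ y : K, y = (φ j₀)⁻¹ := ⟨_, rfl⟩
  have hy0 : y ≠ 0 := by rw [hy]; exact inv_ne_zero (hφ0 j₀)
  obtain ⟨ψ, hψdef⟩ : ∃ ψ : Fin (n + 1) → K, ψ = y • φ := ⟨_, rfl⟩
  have hψi : ∀ i, ψ i = y * φ i := fun i => by rw [hψdef]; rfl
  have hint : ∀ i, P.1 (ψ i) ≤ 1 := by
    intro i
    rw [hψi, hy, map_mul, map_inv₀,
      inv_mul_le_one₀ (zero_lt_iff.mpr ((map_ne_zero P.1).mpr (hφ0 j₀)))]
    exact hmax i (Finset.mem_univ _)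
  have hψ : LinearIndependent k ψ := by
    have h1 := hφ.map' (LinearMap.mulLeft k y) (by
      rw [LinearMap.ker_eq_bot]
      intro a b hab
      exact mul_left_cancel₀ hy0 hab)
    rw [hψdef]
    exact h1
  have hψj₀ : ψ j₀ = 1 := by rw [hψi, hy, inv_mul_cancel₀ (hφ0 j₀)]
  have heff : (1 : K) ∈ Submodule.span k (Set.range ψ) := by
    rw [← hψj₀]
    exact Submodule.subset_span (Set.mem_range_self j₀)
  have hone : (1 : Matrix (Fin (n + 1)) (Fin (n + 1)) k).det ≠ 0 := by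
    rw [Matrix.det_one]; exact one_ne_zero
  have hψ' : ∀ i, ψ i = y * ∑ j, (1 : Matrix (Fin (n + 1)) (Fin (n + 1)) k) i j • φ j := by
    intro i
    rw [hψi]
    congr 1
    simp [Matrix.one_apply, ite_smul]
  have htr := Groth.Agent.S12614.result k K hK φ hφ τ s H hH t Ht hHt J hJ 1 hone y hy0 ψ hψ' Φ hΦ
  rw [← htr]
  obtain ⟨h98a, -⟩ := Groth.Agent.S12598.result k K hK φ hφ τ s H hH t Ht hHt
  have hJt : FunFld.IsOrders K (FunFld.hcol τ Ht φ) J := (h98a J).mpr hJ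
  obtain ⟨h97a, -⟩ := Groth.Agent.S12597.result k K hK φ hφ τ t Ht hHt y hy0
  have hJψ : FunFld.IsOrders K (FunFld.hcol τ Ht ψ) J := by
    rw [hψdef]; exact (h97a J).mpr hJt
  obtain ⟨J', hJ'⟩ := Groth.Agent.Helper16.Hasse.exists_orders_at hK P ht Ht hHt ψ hψ hint
    ⟨j₀, by rw [hψj₀, map_one]⟩
  have h0' : (0 : ℕ) ∉ Set.range J' := by
    rw [hJ'.2 0]
    unfold FunFld.IsJump
    rw [not_not]
    apply Submodule.subset_span
    refine ⟨0, by simp, ?_⟩
    exact Groth.Agent.Helper16.Hasse.hcolAt_zero_eq P Ht hHt ψ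
  have hpos' : ∀ l, 0 < J' l := fun l => Nat.pos_of_ne_zero (fun h => h0' ⟨l, h⟩)
  have hτψ : ¬ ∃ y' : K, ∀ i, τ (ψ i) = y' * ψ i := by
    rintro ⟨y', hy'⟩
    apply hτφ
    refine ⟨y' * y / τ y, fun i => ?_⟩
    have h1 := hy' i
    rw [hψi, map_mul] at h1
    have hτy : τ y ≠ 0 := (map_ne_zero τ).mpr hy0
    field_simp
    rw [mul_comm (τ (φ i)) (τ y), h1]
    ring
  have h615 := (Groth.Agent.S12615.result k K hK τ P hP ψ hψ heff hint t ht Ht hHt J hJψ J' hJ'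
    Φ hΦ).1
  have h606 := Groth.Agent.S12606.result k K hK τ P hS hn ψ hψ heff hint hτψ t ht Ht hHt J hJψ J' hJ'
  have hsum : (n : ℤ) ≤ ∑ l, ((J' l : ℤ) - J l) := by
    have h1 : ∑ _l : Fin n, (1 : ℤ) ≤ ∑ l, ((J' l : ℤ) - J l) := by
      refine Finset.sum_le_sum fun l _ => ?_
      have h2 := h606 l
      have h3 := hpos' ⟨0, hn⟩
      omega
    simpa using h1
  exact hsum.trans h615



/-- Over an algebraically closed constant field, let `τ` be a `k`-endomorphism of the function field `K`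
of genus `g`, of degree `deg τ = [K : τ(K)]`, and `φ = (φ₀, …, φₙ)` a projective map such that
`τ(φ)` is not a `K`-multiple of `φ`, with `τ`-orders `j₁, …, jₙ`. Then the number `N` of strong
fixed points of `τ` (places whose maximal ideal `τ` maps into its square) is finite and `n N ≤ (n +
deg τ) deg φ + (2g - 2)(j₁ + ⋯ + jₙ)`, i.e. `N ≤ (1/n) deg W(φ, τ)`. -/
theorem result
    (k K : Type*) [Field k] [IsAlgClosed k] [Field K] [Algebra k K]
    (hK : FunFld.IsFunctionField k K) (τ : K →ₐ[k] K) {n : ℕ} (φ : Fin (n + 1) → K) (hφ : LinearIndependent k φ)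
    (hτφ : ¬ ∃ y : K, ∀ i, τ (φ i) = y * φ i) (s : K) (H : K →ₐ[k] PowerSeries K) (hH : LocRes.IsHasseFamily s H)
    (J : Fin n → ℕ) (hJ : FunFld.IsOrders K (FunFld.hcol τ H φ) J) :
    {P : FunFld.Place k K | FunFld.IsStrongFixedPt τ P}.Finite ∧
    (n : ℤ) * (Set.ncard {P : FunFld.Place k K | FunFld.IsStrongFixedPt τ P} : ℤ) ≤
      ((n : ℤ) + Module.finrank τ.fieldRange K) * (FunFld.mapDiv k φ).deg +
        (2 * (FunFld.genus k K : ℤ) - 2) * ∑ l, (J l : ℤ) := by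
  classical
  -- expansions at every place
  have hex := fun P => Groth.Agent.Helper16.Hasse.exists_expansion hK H hH P
  choose Φ hΦ using hex
  obtain ⟨hW0, hWdeg⟩ := Groth.Agent.S12603.result k K hK φ hφ τ s H hH J hJ Φ hΦ
  have hn : 0 < n := by
    rcases Nat.eq_zero_or_pos n with h0 | h0
    · exfalso
      subst h0
      apply hτφ
      refine ⟨τ (φ 0) / φ 0, fun i => ?_⟩
      have hi : i = 0 := Fin.fin_one_eq_zero i
      rw [hi, div_mul_cancel₀ _ (hφ.ne_zero 0)]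
    · exact h0
  have hloc : ∀ P, FunFld.IsStrongFixedPt τ P → (n : ℤ) ≤ FunFld.wDiv τ H Φ s φ J P :=
    fun P hS => le_wDiv_of_strong k K hK τ hn φ hφ hτφ s H hH J hJ Φ hΦ P hS
  have hsub : {P : FunFld.Place k K | FunFld.IsStrongFixedPt τ P} ⊆
      ((FunFld.wDiv τ H Φ s φ J).support : Set (FunFld.Place k K)) := by
    intro P hP
    rw [Finset.mem_coe, Finsupp.mem_support_iff]
    have := hloc P hP
    have hn' : (0 : ℤ) < n := by exact_mod_cast hn
    omega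
  have hfin : {P : FunFld.Place k K | FunFld.IsStrongFixedPt τ P}.Finite :=
    (FunFld.wDiv τ H Φ s φ J).support.finite_toSet.subset hsub
  refine ⟨hfin, ?_⟩
  rw [Set.ncard_eq_toFinset_card _ hfin]
  have h1 : (n : ℤ) * (hfin.toFinset.card : ℤ) = ∑ _P ∈ hfin.toFinset, (n : ℤ) := by
    rw [Finset.sum_const, nsmul_eq_mul, mul_comm]
  have h2 : ∑ _P ∈ hfin.toFinset, (n : ℤ) ≤ ∑ P ∈ hfin.toFinset, FunFld.wDiv τ H Φ s φ J P :=
    Finset.sum_le_sum fun P hP => hloc P ((Set.Finite.mem_toFinset hfin).mp hP)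
  have h3 : ∑ P ∈ hfin.toFinset, FunFld.wDiv τ H Φ s φ J P ≤
      ∑ P ∈ (FunFld.wDiv τ H Φ s φ J).support, FunFld.wDiv τ H Φ s φ J P := by
    refine Finset.sum_le_sum_of_subset_of_nonneg ?_ (fun P _ _ => hW0 P)
    intro P hP
    exact hsub ((Set.Finite.mem_toFinset hfin).mp hP)
  have h4 : ∑ P ∈ (FunFld.wDiv τ H Φ s φ J).support, FunFld.wDiv τ H Φ s φ J P =
      (FunFld.wDiv τ H Φ s φ J).deg := by
    unfold FunFld.Divisor.deg Finsupp.sum
    refine Finset.sum_congr rfl fun P _ => ?_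
    show _ = FunFld.wDiv τ H Φ s φ J P * (P.deg : ℤ)
    rw [Groth.Agent.Helper17.FF.deg_eq_one_of_isAlgClosed hK P]
    simp
  rw [h1]
  calc _ ≤ (FunFld.wDiv τ H Φ s φ J).deg := (h2.trans h3).trans_eq h4
    _ = _ := by rw [hWdeg]; ring

end Groth.Agent.S12604
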