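import Groth.Statements.S11053
import Groth.Agent.H16.SF5
-- import your own Groth.Agent.* helpers here

set_option autoImplicit false
open FunFld

namespace Groth.Agent.S11053

/-- Over an algebraically closed constant field, let `τ` be a `k`-embedding of the function field `K` of
genus `g` into itself, of degree `deg τ = [K : τ(K)]`. A place is a strong fixed point of `τ` when
`τ` maps its maximal ideal into the square of that ideal. For every integer `n > g` there are at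
most `1 + deg τ + (n + deg τ / n) g + 2g²(g-1)/n` strong fixed points. -/
theorem result
    (k K : Type*) [Field k] [IsAlgClosed k] [Field K] [Algebra k K]
    (hK : FunFld.IsFunctionField k K) (τ : K →ₐ[k] K) (n : ℕ)
    (hn : FunFld.genus k K < n) :
    {P : FunFld.Place k K | ∀ x : K, P.1 x < 1 → P.1 (τ x) ≤ WithZero.exp (-2)}.Finite ∧
    (Set.ncard {P : FunFld.Place k K | ∀ x : K, P.1 x < 1 → P.1 (τ x) ≤ WithZero.exp (-2)} : ℝ) ≤
      1 + Module.finrank τ.fieldRange K +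
        (n + (Module.finrank τ.fieldRange K : ℝ) / n) * FunFld.genus k K +
        2 * (FunFld.genus k K : ℝ) ^ 2 * (FunFld.genus k K - 1) / n := by
  classical
  obtain ⟨hfin, hb⟩ := Groth.Agent.Helper16.Hasse.strong_bound hK τ n hn
  have hset : {P : FunFld.Place k K | ∀ x : K, P.1 x < 1 → P.1 (τ x) ≤ WithZero.exp (-2)} =
      {P : FunFld.Place k K | FunFld.IsStrongFixedPt τ P} := rfl
  rw [hset]
  refine ⟨hfin, ?_⟩
  obtain ⟨N, hN⟩ : ∃ N : ℕ, N = Set.ncard {P : FunFld.Place k K | FunFld.IsStrongFixedPt τ P} :=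
    ⟨_, rfl⟩
  rw [← hN] at hb ⊢
  obtain ⟨g, hg⟩ : ∃ g : ℕ, g = FunFld.genus k K := ⟨_, rfl⟩
  rw [← hg] at hb hn ⊢
  obtain ⟨d, hd⟩ : ∃ d : ℕ, d = Module.finrank τ.fieldRange K := ⟨_, rfl⟩
  rw [← hd] at hb ⊢
  have hR : (n : ℝ) * (N : ℝ) ≤ ((n : ℝ) + d) * ((n : ℝ) + g) +
      ((g : ℝ) - 1) * ((n : ℝ) ^ 2 - n + 2 * (g : ℝ) ^ 2) := by exact_mod_cast hb
  have hn0 : (0 : ℝ) < n := by
    have : 0 < n := by omega
    exact_mod_cast this
  have hne : (n : ℝ) ≠ 0 := ne_of_gt hn0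
  have key : (N : ℝ) * n ≤ (1 + (d : ℝ) + ((n : ℝ) + (d : ℝ) / n) * g +
      2 * (g : ℝ) ^ 2 * ((g : ℝ) - 1) / n) * n := by
    have e : (1 + (d : ℝ) + ((n : ℝ) + (d : ℝ) / n) * g +
        2 * (g : ℝ) ^ 2 * ((g : ℝ) - 1) / n) * n =
        n + n * d + n ^ 2 * g + d * g + 2 * (g : ℝ) ^ 2 * ((g : ℝ) - 1) := by
      field_simp
      ring
    rw [e]
    nlinarith [hR]
  exact le_of_mul_le_mul_right key hn0

end Groth.Agent.S11053
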