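import Groth.Statements.S12609
import Groth.Agent.H16.Canon
-- import your own Groth.Agent.* helpers here

set_option autoImplicit false
open FunFld

namespace Groth.Agent.S12609

/-- Over an algebraically closed constant field, let `φ` be the canonical map (a basis of `L(C)`, `C`
canonical), normalized at the place `P` after multiplication by `y ≠ 0`, and `t` a local parameter
at `P`. For `j ≥ 1`: the canonical orders at `P` include `j` exactly when `j + 1` is a gap number at
`P`, i.e. `L((j+1)P) = L(jP)`. -/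
theorem result
    (k K : Type*) [Field k] [IsAlgClosed k] [Field K] [Algebra k K]
    (hK : FunFld.IsFunctionField k K) (C : FunFld.Divisor k K) (hC : FunFld.IsCanonical k K C)
    {n : ℕ} (φ : Fin (n + 1) → K) (hφ : LinearIndependent k φ)
    (hspan : Submodule.span k (Set.range φ) = FunFld.L C)
    (P : FunFld.Place k K) (y : K) (hy : y ≠ 0)
    (heff : (1 : K) ∈ Submodule.span k (Set.range (y • φ))) (hnorm : ∀ i, P.1 (y * φ i) ≤ 1)
    (t : K) (ht : P.1 t = WithZero.exp (-1))
    (Ht : K →ₐ[k] PowerSeries K) (hHt : LocRes.IsHasseFamily t Ht) (j : ℕ) (hj : 1 ≤ j) :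
    FunFld.IsJump (IsLocalRing.ResidueField P.O) (FunFld.hcolAt P Ht (y • φ)) (j + 1) ↔
      FunFld.L (Finsupp.single P ((j : ℤ) + 1)) = FunFld.L (Finsupp.single P (j : ℤ)) := by
  classical
  have hnorm' : ∀ i, P.1 ((y • φ) i) ≤ 1 := fun i => by
    rw [Pi.smul_apply, smul_eq_mul]; exact hnorm i
  have hdivinv : FunFld.div k y⁻¹ = -FunFld.div k y := by
    ext Q
    rw [Finsupp.neg_apply, Groth.Agent.Helper17.FF.div_apply hK, Groth.Agent.Helper17.FF.div_apply hK,
      Groth.Agent.Helper17.FF.ord_inv]
  have hC'eq : C - FunFld.div k y = C + FunFld.div k y⁻¹ := by rw [hdivinv, sub_eq_add_neg]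
  have hC' : FunFld.IsCanonical k K (C - FunFld.div k y) := by
    obtain ⟨h1, h2⟩ := (Groth.Agent.Helper17.FF.isCanonical_iff hK C).mp hC
    rw [Groth.Agent.Helper17.FF.isCanonical_iff hK]
    constructor
    · rw [hC'eq, Groth.Agent.Helper17.FF.ell_add_div hK C (inv_ne_zero hy)]; exact h1
    · rw [Groth.Agent.Helper17.FF.deg_sub, Groth.Agent.Helper17.FF.deg_div hK, sub_zero]; exact h2
  have hspan' : Submodule.span k (Set.range (y • φ)) = FunFld.L (C - FunFld.div k y) := by
    apply le_antisymm
    · rw [Submodule.span_le]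
      rintro _ ⟨i, rfl⟩
      rw [SetLike.mem_coe, Pi.smul_apply, smul_eq_mul,
        Groth.Agent.Helper17.FF.mul_mem_L_iff hK _ y (φ i) hy, sub_add_cancel, ← hspan]
      exact Submodule.subset_span (Set.mem_range_self i)
    · intro f hf
      have hfy : f = y * (f / y) := by field_simp
      rw [hfy, Groth.Agent.Helper17.FF.mul_mem_L_iff hK _ y _ hy, sub_add_cancel, ← hspan,
        Submodule.mem_span_range_iff_exists_fun] at hf
      obtain ⟨c, hc⟩ := hf
      rw [hfy, ← hc, Finset.mul_sum]
      apply Submodule.sum_mem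
      intro i _
      have : y * c i • φ i = c i • (y • φ) i := by
        rw [Pi.smul_apply, smul_eq_mul, Algebra.smul_def, Algebra.smul_def]; ring
      rw [this]
      exact Submodule.smul_mem _ _ (Submodule.subset_span (Set.mem_range_self i))
  have h1 : (1 : K) ∈ FunFld.L (C - FunFld.div k y) := by rw [← hspan']; exact heff
  have hreg : ∀ f ∈ FunFld.L (C - FunFld.div k y), P.1 f ≤ 1 := by
    intro f hf
    rw [← hspan', Submodule.mem_span_range_iff_exists_fun] at hf
    obtain ⟨c, rfl⟩ := hf
    exact Groth.Agent.Helper16.Hasse.val_sum_smul_le hK P ht Ht hHt (y • φ) hnorm' c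
  rw [Groth.Agent.Helper16.Hasse.jump_iff hK P ht Ht hHt (y • φ) hnorm' hj, hspan']
  exact Groth.Agent.Helper16.Hasse.canon_gap hK hC' P h1 hreg hj

end Groth.Agent.S12609
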