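import Groth.Statements.S16234
import Mathlib

set_option autoImplicit false
universe u v
open CAlg

namespace Groth.Agent.S16234

/-- For a finitely generated module M over a Noetherian commutative ring A, every prime ideal in the
support of M is a maximal ideal if and only if M has finite length. -/
theorem result (A : Type u) [CommRing A] [IsNoetherianRing A]
    (M : Type v) [AddCommGroup M] [Module A M] [Module.Finite A M] :
    (∀ p ∈ Module.support A M, p.asIdeal.IsMaximal) ↔ IsFiniteLength A M := by
  classical
  letI modQ : Module (A ⧸ Module.annihilator A M) M :=
    (Module.isTorsionBySet_annihilator A M).module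
  haveI tower : IsScalarTower A (A ⧸ Module.annihilator A M) M :=
    (Module.isTorsionBySet_annihilator A M).isScalarTower
  have hsupp : Module.support A M = PrimeSpectrum.zeroLocus (Module.annihilator A M : Set A) :=
    Module.support_eq_zeroLocus
  constructor
  · intro h
    haveI : Ring.KrullDimLE 0 (A ⧸ Module.annihilator A M) :=
      Ring.krullDimLE_zero_iff.mpr fun J hJ => by
        have hJc : (J.comap (Ideal.Quotient.mk (Module.annihilator A M))).IsPrime := hJ.comap _
        have hmem : (⟨J.comap (Ideal.Quotient.mk (Module.annihilator A M)), hJc⟩ :
            PrimeSpectrum A) ∈ Module.support A M := by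
          rw [hsupp, PrimeSpectrum.mem_zeroLocus]
          intro a ha
          change Ideal.Quotient.mk (Module.annihilator A M) a ∈ J
          rw [Ideal.Quotient.eq_zero_iff_mem.mpr ha]
          exact J.zero_mem
        have hmax := h _ hmem
        exact Ideal.isMaximal_of_isIntegral_of_isMaximal_comap (R := A) J hmax
    haveI : IsArtinianRing (A ⧸ Module.annihilator A M) :=
      IsNoetherianRing.isArtinianRing_of_krullDimLE_zero
    haveI : Module.Finite (A ⧸ Module.annihilator A M) M :=
      Module.Finite.of_restrictScalars_finite A (A ⧸ Module.annihilator A M) M
    haveI : IsArtinian (A ⧸ Module.annihilator A M) M := inferInstance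
    haveI : IsArtinian A M :=
      isArtinian_of_surjective_algebraMap (R := A ⧸ Module.annihilator A M) (S := A)
        Ideal.Quotient.mk_surjective
    exact isFiniteLength_iff_isNoetherian_isArtinian.mpr ⟨inferInstance, inferInstance⟩
  · intro h
    obtain ⟨hN, hAr⟩ := isFiniteLength_iff_isNoetherian_isArtinian.mp h
    obtain ⟨n, s, hs⟩ := Module.Finite.exists_fin (R := A) (M := M)
    let f : A →ₗ[A] (Fin n → M) := LinearMap.pi fun i => LinearMap.toSpanSingleton A M (s i)
    have hker : (Module.annihilator A M : Submodule A A) = LinearMap.ker f := by
      ext a
      rw [LinearMap.mem_ker, Module.mem_annihilator]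
      constructor
      · intro ha
        funext i
        simp [f, ha (s i)]
      · intro ha m
        have hm : m ∈ Submodule.span A (Set.range s) := hs ▸ Submodule.mem_top
        induction hm using Submodule.span_induction with
        | mem x hx =>
          obtain ⟨i, rfl⟩ := hx
          have := congrFun ha i
          simpa [f] using this
        | zero => simp
        | add x y _ _ hx hy => rw [smul_add, hx, hy, add_zero]
        | smul c x _ hx => rw [smul_comm, hx, smul_zero]
    haveI : IsArtinian A (A ⧸ Module.annihilator A M) := by
      refine isArtinian_of_injective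
        (Submodule.liftQ (Module.annihilator A M : Submodule A A) f hker.le) ?_
      rw [← LinearMap.ker_eq_bot]
      exact Submodule.ker_liftQ_eq_bot' _ f hker
    haveI : IsArtinianRing (A ⧸ Module.annihilator A M) :=
      isArtinian_of_tower A (inferInstance : IsArtinian A (A ⧸ Module.annihilator A M))
    intro p hp
    rw [hsupp, PrimeSpectrum.mem_zeroLocus] at hp
    have hkerle : RingHom.ker (Ideal.Quotient.mk (Module.annihilator A M)) ≤ p.asIdeal := by
      rw [Ideal.mk_ker]; exact hp
    haveI : (p.asIdeal.map (Ideal.Quotient.mk (Module.annihilator A M))).IsPrime :=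
      Ideal.map_isPrime_of_surjective Ideal.Quotient.mk_surjective hkerle
    haveI hmax : (p.asIdeal.map (Ideal.Quotient.mk (Module.annihilator A M))).IsMaximal :=
      IsArtinianRing.isMaximal_of_isPrime _
    have := Ideal.comap_isMaximal_of_surjective (Ideal.Quotient.mk (Module.annihilator A M))
      Ideal.Quotient.mk_surjective (K := p.asIdeal.map (Ideal.Quotient.mk (Module.annihilator A M)))
    rwa [Ideal.comap_map_of_surjective _ Ideal.Quotient.mk_surjective, ← RingHom.ker_eq_comap_bot,
      sup_eq_left.mpr hkerle] at this

end Groth.Agent.S16234
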