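import Groth.Statements.S14612
import Mathlib
import Mathlib

set_option autoImplicit false
universe u
open FlatCx

namespace Groth.Agent.S14612

open CategoryTheory CategoryTheory.Limits
open TensorProduct in
theorem flat_of_exact {R : Type u} [CommRing R] {M N P : Type u} [AddCommGroup M] [AddCommGroup N]
    [AddCommGroup P] [Module R M] [Module R N] [Module R P] [Module.Flat R N] [Module.Flat R P]
    (g : M →ₗ[R] N) (f : N →ₗ[R] P) (hg : Function.Injective g) (hf : Function.Surjective f)
    (H : Function.Exact g f) : Module.Flat R M := by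
  rw [Module.Flat.iff_rTensor_preserves_injective_linearMap]
  intro X Y _ _ _ _ i hi
  have h1 : Function.Injective (g.lTensor X) :=
    LinearMap.lTensor_injective_of_exact_of_flat f hf g hg H X
  have h2 : Function.Injective (i.rTensor N) :=
    Module.Flat.rTensor_preserves_injective_linearMap i hi
  have hc : (g.lTensor Y) ∘ₗ (i.rTensor M) = (i.rTensor N) ∘ₗ (g.lTensor X) := by
    ext x m
    simp
  have h3 : Function.Injective ((g.lTensor Y) ∘ₗ (i.rTensor M)) := by
    rw [hc]
    exact h2.comp h1
  exact Function.Injective.of_comp h3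

theorem flatZ (A : Type u) [CommRing A]
    (F : CochainComplex (ModuleCat.{u} A) ℤ) (hF : ∀ i, Module.Flat A (F.X i))
    (b : ℤ) (hb : ∀ i, b < i → IsZero (F.X i)) (d : ℤ) (hac : ∀ p, d < p → IsZero (F.homology p)) :
    ∀ n : ℕ, ∀ p : ℤ, d ≤ p → b < p + n → Module.Flat A (LinearMap.ker (F.d p (p+1)).hom) := by
  intro n
  induction n with
  | zero =>
    intro p _ hp
    have hz : IsZero (F.X p) := hb p (by simpa using hp)
    have : Subsingleton (F.X p) := ModuleCat.subsingleton_of_isZero hz
    infer_instance
  | succ n ih =>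
    intro p hdp hp
    have hflat : Module.Flat A (LinearMap.ker (F.d (p+1) (p+1+1)).hom) :=
      ih (p+1) (by omega) (by push_cast at hp ⊢; omega)
    have hex : F.ExactAt (p+1) := by
      rw [HomologicalComplex.exactAt_iff_isZero_homology]
      exact hac (p+1) (by omega)
    rw [HomologicalComplex.exactAt_iff' F p (p+1) (p+1+1) (by simp) (by simp)] at hex
    have hrk := (ShortComplex.moduleCat_exact_iff_range_eq_ker _).mp hex
    change LinearMap.range (F.d p (p+1)).hom = LinearMap.ker (F.d (p+1) (p+1+1)).hom at hrk
    let f : F.X p →ₗ[A] LinearMap.ker (F.d (p+1) (p+1+1)).hom :=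
      (F.d p (p+1)).hom.codRestrict _ (fun x => by
        rw [← hrk]
        exact LinearMap.mem_range_self _ x)
    have hf : Function.Surjective f := by
      rintro ⟨y, hy⟩
      rw [← hrk] at hy
      obtain ⟨x, rfl⟩ := hy
      exact ⟨x, rfl⟩
    haveI := hF p
    refine flat_of_exact (LinearMap.ker (F.d p (p+1)).hom).subtype f
      (Submodule.subtype_injective _) hf ?_
    intro x
    constructor
    · intro hx
      have : (F.d p (p+1)).hom x = 0 := congrArg Subtype.val hx
      exact ⟨⟨x, this⟩, rfl⟩
    · rintro ⟨y, rfl⟩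
      apply Subtype.ext
      exact y.2

open CategoryTheory CategoryTheory.Limits in
/-- Let A be a commutative ring and F a cochain complex of flat A-modules which is bounded above (F^i =
0 for all large i) and whose cohomology H^p(F) vanishes for every p > d. Then the module of
d-cocycles Z^d = ker(F^d → F^{d+1}) is flat over A; hence the truncation τ_{≤ d} F is again a
complex of flat modules (and τ_{≤ d} F → F is a quasi-isomorphism, which is not restated).
Boundedness cannot be dropped. -/
theorem result (A : Type u) [CommRing A]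
    (F : CochainComplex (ModuleCat.{u} A) ℤ) (hF : ∀ i, Module.Flat A (F.X i))
    (hb : ∃ b : ℤ, ∀ i, b < i → IsZero (F.X i)) (d : ℤ) (hac : ∀ p, d < p → IsZero (F.homology p)) :
    Module.Flat A (F.cycles d) := by
  obtain ⟨b, hb⟩ := hb
  have h1 : Module.Flat A (LinearMap.ker (F.d d (d+1)).hom) :=
    Groth.Agent.S14612.flatZ A F hF b hb d hac (b - d + 1).toNat d le_rfl (by
      have := Int.self_le_toNat (b - d + 1)
      omega)
  let e : F.cycles d ≅ ModuleCat.of A (LinearMap.ker (F.d d (d+1)).hom) :=
    F.cyclesIsoSc' (d-1) d (d+1) (by simp) (by simp) ≪≫ (F.sc' (d-1) d (d+1)).moduleCatCyclesIso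
  exact Module.Flat.of_linearEquiv e.toLinearEquiv

end Groth.Agent.S14612
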