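import Groth.Statements.S4834
import Mathlib

set_option autoImplicit false
open CategoryTheory CategoryTheory.Limits
universe u
open Lim8

namespace Groth.Agent.S4834


section helpers

variable {A : Type u} [CommRing A] (M : ModuleCat.{u} A) {J : Type u} [SmallCategory J]
  (N : J ⥤ ModuleCat.{u} A)

lemma post_ι (j : J) (f : M ⟶ N.obj j) :
    colimit.post N (coyoneda.obj (Opposite.op M))
      (colimit.ι (N ⋙ coyoneda.obj (Opposite.op M)) j f) = f ≫ colimit.ι N j :=
  ConcreteCategory.congr_hom (colimit.ι_post N (coyoneda.obj (Opposite.op M)) j) f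

lemma ι_map {j k : J} (φ : j ⟶ k) (f : M ⟶ N.obj j) :
    colimit.ι (N ⋙ coyoneda.obj (Opposite.op M)) k (f ≫ N.map φ) =
      colimit.ι (N ⋙ coyoneda.obj (Opposite.op M)) j f :=
  ConcreteCategory.congr_hom (colimit.w (N ⋙ coyoneda.obj (Opposite.op M)) φ) f

lemma map_comp_apply {j k l : J} (φ : j ⟶ k) (ψ : k ⟶ l) (x : N.obj j) :
    (N.map (φ ≫ ψ)).hom x = (N.map ψ).hom ((N.map φ).hom x) := by
  rw [N.map_comp]
  rfl

lemma ι_map_apply {j k : J} (φ : j ⟶ k) (x : N.obj j) :
    (colimit.ι N k).hom ((N.map φ).hom x) = (colimit.ι N j).hom x :=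
  congrArg (fun t => t.hom x) (colimit.w N φ)

/-- two elements with the same image in a filtered colimit become equal at a later stage,
along a single morphism -/
lemma exists_map_eq [IsFiltered J] {k : J} (a b : N.obj k)
    (h : (colimit.ι N k).hom a = (colimit.ι N k).hom b) :
    ∃ (k' : J) (φ : k ⟶ k'), (N.map φ).hom a = (N.map φ).hom b := by
  obtain ⟨k₂, u, v, huv⟩ := (Concrete.colimit_rep_eq_iff_exists N a b).1 h
  have huv' : (N.map u).hom a = (N.map v).hom b := huv
  refine ⟨IsFiltered.coeq u v, u ≫ IsFiltered.coeqHom u v, ?_⟩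
  rw [map_comp_apply, huv', ← map_comp_apply, ← IsFiltered.coeq_condition, map_comp_apply]

lemma exists_forall_map_eq [IsFiltered J] {k : J} (f g : M ⟶ N.obj k)
    (h : f ≫ colimit.ι N k = g ≫ colimit.ι N k) (S : Finset M) :
    ∃ (k' : J) (φ : k ⟶ k'), ∀ m ∈ S, (N.map φ).hom (f.hom m) = (N.map φ).hom (g.hom m) := by
  classical
  induction S using Finset.induction_on with
  | empty => exact ⟨k, 𝟙 k, fun m hm => by simp at hm⟩
  | insert m₀ S _ ih =>
    obtain ⟨k₁, φ₁, h₁⟩ := ih
    have hm₀ : (colimit.ι N k).hom (f.hom m₀) = (colimit.ι N k).hom (g.hom m₀) :=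
      congrArg (fun t => t.hom m₀) h
    have h2 : (colimit.ι N k₁).hom ((N.map φ₁).hom (f.hom m₀)) =
        (colimit.ι N k₁).hom ((N.map φ₁).hom (g.hom m₀)) := by
      rw [ι_map_apply, ι_map_apply, hm₀]
    obtain ⟨k₂, ψ, hψ⟩ := exists_map_eq N _ _ h2
    refine ⟨k₂, φ₁ ≫ ψ, ?_⟩
    intro m hm
    rw [map_comp_apply, map_comp_apply]
    rcases Finset.mem_insert.1 hm with rfl | hm'
    · exact hψ
    · rw [h₁ m hm']

lemma exists_eq_of_comp_ι_eq [IsFiltered J] [Module.Finite A M] {k : J} (f g : M ⟶ N.obj k)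
    (h : f ≫ colimit.ι N k = g ≫ colimit.ι N k) :
    ∃ (k' : J) (φ : k ⟶ k'), f ≫ N.map φ = g ≫ N.map φ := by
  obtain ⟨S, hS⟩ := (Module.Finite.fg_top : (⊤ : Submodule A M).FG)
  obtain ⟨k', φ, hφ⟩ := exists_forall_map_eq M N f g h S
  refine ⟨k', φ, ModuleCat.hom_ext (LinearMap.ext_on hS ?_)⟩
  intro m hm
  exact hφ m hm

/-- injectivity of the comparison map, for filtered index categories -/
theorem post_injective [IsFiltered J] [Module.Finite A M] :
    Function.Injective (colimit.post N (coyoneda.obj (Opposite.op M))) := by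
  intro x y hxy
  obtain ⟨j₁, f₁, rfl⟩ := Types.jointly_surjective' x
  obtain ⟨j₂, f₂, rfl⟩ := Types.jointly_surjective' y
  rw [← ι_map M N (IsFiltered.leftToMax j₁ j₂) f₁, ← ι_map M N (IsFiltered.rightToMax j₁ j₂) f₂]
    at hxy ⊢
  rw [post_ι, post_ι] at hxy
  obtain ⟨k', φ, hφ⟩ := exists_eq_of_comp_ι_eq M N _ _ hxy
  rw [← ι_map M N φ (f₁ ≫ N.map (IsFiltered.leftToMax j₁ j₂)),
    ← ι_map M N φ (f₂ ≫ N.map (IsFiltered.rightToMax j₁ j₂)), hφ]

end helpers

/-- Let A be a commutative ring, M an A-module of finite type and (N_λ) an inductive system of A-modules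
indexed by a nonempty directed preordered set. Then the canonical map colim_λ Hom_A(M, N_λ) →
Hom_A(M, colim_λ N_λ), sending a compatible system of homomorphisms to its inductive limit, is
injective. This is the finite type case, in the form its proof gives. -/
theorem result {A : Type u} [CommRing A] (M : ModuleCat.{u} A)
    [Module.Finite A M] {J : Type u} [Preorder J] [IsDirected J (· ≤ ·)] [Nonempty J]
    (N : J ⥤ ModuleCat.{u} A) :
    Function.Injective (colimit.post N (coyoneda.obj (Opposite.op M))) := by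
  exact post_injective M N

end Groth.Agent.S4834
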