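import Groth.Statements.S3525
import Mathlib
import Groth.Agent.S4834

set_option autoImplicit false
universe u
open HTor

namespace Groth.Agent.S3525


section helpers

open CategoryTheory CategoryTheory.Limits HomologicalComplex
open Groth.Agent.S4834 (map_comp_apply ι_map_apply)

variable {R : Type u} [CommRing R] {J : Type u} [SmallCategory J] [IsFiltered J]

lemma exists_rep (F : J ⥤ ModuleCat.{u} R) {D : Cocone F} (hD : IsColimit D) (x : D.pt) :
    ∃ (a : J) (y : F.obj a), (D.ι.app a).hom y = x :=
  Concrete.isColimit_exists_rep F hD x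

lemma exists_map_eq' (F : J ⥤ ModuleCat.{u} R) {D : Cocone F} (hD : IsColimit D) {a : J}
    (y y' : F.obj a) (h : (D.ι.app a).hom y = (D.ι.app a).hom y') :
    ∃ (b : J) (φ : a ⟶ b), (F.map φ).hom y = (F.map φ).hom y' := by
  obtain ⟨k, u, v, huv⟩ := Concrete.isColimit_exists_of_rep_eq F hD y y' h
  have huv' : (F.map u).hom y = (F.map v).hom y' := huv
  refine ⟨IsFiltered.coeq u v, u ≫ IsFiltered.coeqHom u v, ?_⟩
  rw [map_comp_apply, huv', ← map_comp_apply, ← IsFiltered.coeq_condition]

lemma exists_of_isKernel {X Y Z : ModuleCat.{u} R} (ι : X ⟶ Y) (g : Y ⟶ Z) (w : ι ≫ g = 0)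
    (h : IsLimit (KernelFork.ofι ι w)) (y : Y) (hy : g.hom y = 0) : ∃ x : X, ι.hom x = y :=
  (ShortComplex.moduleCat_exact_iff (ShortComplex.mk ι g w)).1
    (ShortComplex.exact_of_f_is_kernel _ h) y hy

lemma exists_of_isCokernel {X Y Z : ModuleCat.{u} R} (f : X ⟶ Y) (π : Y ⟶ Z) (w : f ≫ π = 0)
    (h : IsColimit (CokernelCofork.ofπ π w)) (y : Y) (hy : π.hom y = 0) : ∃ x : X, f.hom x = y :=
  (ShortComplex.moduleCat_exact_iff (ShortComplex.mk f π w)).1
    (ShortComplex.exact_of_g_is_cokernel _ h) y hy

section main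

variable {ι' : Type*} (c : ComplexShape ι')

section single

variable {c}
variable {X Y : HomologicalComplex (ModuleCat.{u} R) c} (φ : X ⟶ Y) (i : ι')

lemma comm_apply (s t : ι') (x : X.X s) :
    (φ.f t).hom ((X.d s t).hom x) = (Y.d s t).hom ((φ.f s).hom x) :=
  (congrArg (fun m => m.hom x) (φ.comm s t)).symm

lemma cyclesMap_i_apply (z : X.cycles i) :
    (Y.iCycles i).hom ((cyclesMap φ i).hom z) = (φ.f i).hom ((X.iCycles i).hom z) :=
  congrArg (fun m => m.hom z) (cyclesMap_i φ i)

lemma homologyπ_naturality_apply (z : X.cycles i) :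
    (homologyMap φ i).hom ((X.homologyπ i).hom z) =
      (Y.homologyπ i).hom ((cyclesMap φ i).hom z) :=
  congrArg (fun m => m.hom z) (homologyπ_naturality φ i)

variable (X)

lemma toCycles_i_apply (k : ι') (u : X.X k) :
    (X.iCycles i).hom ((X.toCycles k i).hom u) = (X.d k i).hom u :=
  congrArg (fun m => m.hom u) (X.toCycles_i k i)

lemma iCycles_d_apply (j : ι') (z : X.cycles i) :
    (X.d i j).hom ((X.iCycles i).hom z) = 0 :=
  congrArg (fun m => m.hom z) (X.iCycles_d i j)

lemma toCycles_homologyπ_apply (k : ι') (u : X.X k) :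
    (X.homologyπ i).hom ((X.toCycles k i).hom u) = 0 :=
  congrArg (fun m => m.hom u) (X.toCycles_comp_homologyπ k i)

lemma iCycles_injective : Function.Injective (X.iCycles i).hom :=
  (ModuleCat.mono_iff_injective _).1 inferInstance

lemma homologyπ_surjective : Function.Surjective (X.homologyπ i).hom :=
  (ModuleCat.epi_iff_surjective _).1 inferInstance

end single

variable (K : J ⥤ HomologicalComplex (ModuleCat.{u} R) c) (i : ι')

/-- the degreewise colimit cocone -/
noncomputable def isColimitEval (t : ι') :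
    IsColimit ((eval (ModuleCat.{u} R) c t).mapCocone (colimit.cocone K)) :=
  isColimitOfPreserves (eval (ModuleCat.{u} R) c t) (colimit.isColimit K)

lemma C1 (t : ι') (x : (colimit K).X t) :
    ∃ (a : J) (y : (K.obj a).X t), ((colimit.ι K a).f t).hom y = x :=
  exists_rep (K ⋙ eval (ModuleCat.{u} R) c t) (isColimitEval c K t) x

lemma C2 (t : ι') {a : J} (y y' : (K.obj a).X t)
    (h : ((colimit.ι K a).f t).hom y = ((colimit.ι K a).f t).hom y') :
    ∃ (b : J) (φ : a ⟶ b), ((K.map φ).f t).hom y = ((K.map φ).f t).hom y' :=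
  exists_map_eq' (K ⋙ eval (ModuleCat.{u} R) c t) (isColimitEval c K t) y y' h

lemma inc_map (t : ι') {a b : J} (φ : a ⟶ b) (y : (K.obj a).X t) :
    ((colimit.ι K b).f t).hom (((K.map φ).f t).hom y) = ((colimit.ι K a).f t).hom y :=
  congrArg (fun m : K.obj a ⟶ colimit K => (m.f t).hom y) (colimit.w K φ)

lemma C1' (t : ι') (x : (colimit K).X t) (a₀ : J) :
    ∃ (b : J) (_ : a₀ ⟶ b) (y : (K.obj b).X t), ((colimit.ι K b).f t).hom y = x := by
  obtain ⟨a', y', hy'⟩ := C1 c K t x
  exact ⟨IsFiltered.max a₀ a', IsFiltered.leftToMax a₀ a',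
    ((K.map (IsFiltered.rightToMax a₀ a')).f t).hom y', by rw [inc_map, hy']⟩

lemma cyclesMap_inc_map {a b : J} (α : a ⟶ b) (z : (K.obj a).cycles i) :
    (cyclesMap (colimit.ι K b) i).hom ((cyclesMap (K.map α) i).hom z) =
      (cyclesMap (colimit.ι K a) i).hom z := by
  have h := cyclesMap_comp (K.map α) (colimit.ι K b) i
  rw [colimit.w] at h
  exact (congrArg (fun m => m.hom z) h).symm

lemma post_ι_apply (a : J) (w : (K.obj a).homology i) :
    (colimit.post K (homologyFunctor (ModuleCat.{u} R) c i)).hom
      ((colimit.ι (K ⋙ homologyFunctor (ModuleCat.{u} R) c i) a).hom w) =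
      (homologyMap (colimit.ι K a) i).hom w :=
  congrArg (fun m => m.hom w) (colimit.ι_post K (homologyFunctor (ModuleCat.{u} R) c i) a)

theorem post_surj :
    Function.Surjective (colimit.post K (homologyFunctor (ModuleCat.{u} R) c i)).hom := by
  intro ξ
  obtain ⟨z, rfl⟩ := homologyπ_surjective (colimit K) i ξ
  obtain ⟨x, hxdef⟩ : ∃ x, x = ((colimit K).iCycles i).hom z := ⟨_, rfl⟩
  have hx : ((colimit K).d i (c.next i)).hom x = 0 := by
    rw [hxdef]
    exact iCycles_d_apply (colimit K) i (c.next i) z
  obtain ⟨a, y, hy⟩ := C1 c K i x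
  have h4 : ((colimit.ι K a).f (c.next i)).hom (((K.obj a).d i (c.next i)).hom y) =
      ((colimit.ι K a).f (c.next i)).hom 0 := by
    rw [comm_apply, hy, hx, map_zero]
  obtain ⟨b, φ, hφ⟩ := C2 c K (c.next i) _ _ h4
  have hy'd : ((K.obj b).d i (c.next i)).hom (((K.map φ).f i).hom y) = 0 := by
    rw [← comm_apply, hφ, map_zero]
  obtain ⟨z', hz'⟩ := exists_of_isKernel ((K.obj b).iCycles i) ((K.obj b).d i (c.next i))
    ((K.obj b).iCycles_d i (c.next i)) ((K.obj b).cyclesIsKernel i (c.next i) rfl) _ hy'd
  have h8 : (cyclesMap (colimit.ι K b) i).hom z' = z := by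
    apply iCycles_injective (colimit K) i
    rw [cyclesMap_i_apply, hz', inc_map, hy, hxdef]
  refine ⟨(colimit.ι (K ⋙ homologyFunctor (ModuleCat.{u} R) c i) b).hom
    (((K.obj b).homologyπ i).hom z'), ?_⟩
  rw [post_ι_apply, homologyπ_naturality_apply, h8]

theorem post_inj :
    Function.Injective (colimit.post K (homologyFunctor (ModuleCat.{u} R) c i)).hom := by
  rw [injective_iff_map_eq_zero]
  intro η hη
  obtain ⟨a, w, rfl⟩ :=
    Concrete.colimit_exists_rep (K ⋙ homologyFunctor (ModuleCat.{u} R) c i) η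
  have hη' : (homologyMap (colimit.ι K a) i).hom w = 0 := (post_ι_apply c K i a w).symm.trans hη
  obtain ⟨z, rfl⟩ := homologyπ_surjective (K.obj a) i w
  rw [homologyπ_naturality_apply] at hη'
  obtain ⟨u, hu⟩ := exists_of_isCokernel ((colimit K).toCycles (c.prev i) i)
    ((colimit K).homologyπ i) ((colimit K).toCycles_comp_homologyπ (c.prev i) i)
    ((colimit K).homologyIsCokernel (c.prev i) i rfl) _ hη'
  obtain ⟨b, α, u₁, hu₁⟩ := C1' c K (c.prev i) u a
  -- comparison in degree `i` at stage `b`
  have hl : ((colimit.ι K b).f i).hom (((K.obj b).d (c.prev i) i).hom u₁) =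
      ((colimit K).d (c.prev i) i).hom u := by
    rw [comm_apply, hu₁]
  have hr : ((colimit.ι K b).f i).hom
      (((K.obj b).iCycles i).hom ((cyclesMap (K.map α) i).hom z)) =
      ((colimit K).d (c.prev i) i).hom u := by
    rw [← cyclesMap_i_apply, cyclesMap_inc_map, ← hu, toCycles_i_apply]
  obtain ⟨b', ψ, hψ⟩ := C2 c K i _ _ (hl.trans hr.symm)
  have h9 : (cyclesMap (K.map ψ) i).hom ((cyclesMap (K.map α) i).hom z) =
      ((K.obj b').toCycles (c.prev i) i).hom (((K.map ψ).f (c.prev i)).hom u₁) := by
    apply iCycles_injective (K.obj b') i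
    rw [cyclesMap_i_apply, toCycles_i_apply, ← hψ, comm_apply]
  show (colimit.ι (K ⋙ homologyFunctor (ModuleCat.{u} R) c i) a).hom
    (((K.obj a).homologyπ i).hom z) = 0
  rw [← ι_map_apply (K ⋙ homologyFunctor (ModuleCat.{u} R) c i) α,
    ← ι_map_apply (K ⋙ homologyFunctor (ModuleCat.{u} R) c i) ψ]
  show (colimit.ι (K ⋙ homologyFunctor (ModuleCat.{u} R) c i) b').hom
    ((homologyMap (K.map ψ) i).hom ((homologyMap (K.map α) i).hom
      (((K.obj a).homologyπ i).hom z))) = 0
  rw [homologyπ_naturality_apply, homologyπ_naturality_apply, h9, toCycles_homologyπ_apply]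
  exact map_zero _

lemma isIso_post : IsIso (colimit.post K (homologyFunctor (ModuleCat.{u} R) c i)) := by
  haveI : Mono (colimit.post K (homologyFunctor (ModuleCat.{u} R) c i)) :=
    (ModuleCat.mono_iff_injective _).2 (post_inj c K i)
  haveI : Epi (colimit.post K (homologyFunctor (ModuleCat.{u} R) c i)) :=
    (ModuleCat.epi_iff_surjective _).2 (post_surj c K i)
  exact isIso_of_mono_of_epi _

/-- homology of complexes of modules commutes with filtered colimits -/
theorem homology_preserves :
    PreservesColimitsOfShape J (homologyFunctor (ModuleCat.{u} R) c i) :=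
  ⟨fun {K} => by
    haveI := isIso_post c K i
    exact preservesColimit_of_isIso_post _ _⟩

end main

section tor

open MonoidalCategory

variable (R)
variable (P : ChainComplex (ModuleCat.{u} R) ℕ)

/-- `M ↦ M ⊗ P` as a functor to chain complexes -/
noncomputable def Φ : ModuleCat.{u} R ⥤ ChainComplex (ModuleCat.{u} R) ℕ where
  obj M := (((tensoringLeft (ModuleCat.{u} R)).obj M).mapHomologicalComplex
    (ComplexShape.down ℕ)).obj P
  map f := (NatTrans.mapHomologicalComplex ((tensoringLeft (ModuleCat.{u} R)).map f)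
    (ComplexShape.down ℕ)).app P
  map_id M := by
    rw [CategoryTheory.Functor.map_id, NatTrans.mapHomologicalComplex_id]
    rfl
  map_comp f g := by
    rw [CategoryTheory.Functor.map_comp, NatTrans.mapHomologicalComplex_comp]
    rfl

/-- evaluation of `Φ` in degree `t` is tensoring with `P.X t` -/
noncomputable def ΦevalIso (t : ℕ) :
    Φ R P ⋙ eval (ModuleCat.{u} R) (ComplexShape.down ℕ) t ≅ tensorRight (P.X t) :=
  NatIso.ofComponents (fun M => Iso.refl _) (fun f => by
    simp only [Iso.refl_hom, Category.comp_id, Category.id_comp]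
    rfl)

lemma tensorRight_preserves (X : ModuleCat.{u} R) :
    PreservesColimitsOfShape J (tensorRight X) := by
  haveI : PreservesColimitsOfShape J (tensorLeft X) :=
    (ihom.adjunction X).leftAdjoint_preservesColimits.preservesColimitsOfShape
  exact preservesColimitsOfShape_of_natIso (BraidedCategory.tensorLeftIsoTensorRight X)

lemma Φ_preserves : PreservesColimitsOfShape J (Φ R P) :=
  HomologicalComplex.preservesColimitsOfShape_of_eval _ (fun t => by
    haveI := tensorRight_preserves (J := J) R (P.X t)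
    exact preservesColimitsOfShape_of_natIso (ΦevalIso R P t).symm)

/-- `Tor_n(-, N)` computed through a projective resolution of `N` -/
noncomputable def torIso (N : ModuleCat.{u} R) (n : ℕ) (Pr : ProjectiveResolution N) :
    (Tor (ModuleCat.{u} R) n).flip.obj N ≅
      Φ R Pr.complex ⋙ homologyFunctor (ModuleCat.{u} R) (ComplexShape.down ℕ) n :=
  NatIso.ofComponents
    (fun M => Pr.isoLeftDerivedObj ((tensoringLeft (ModuleCat.{u} R)).obj M) n)
    (fun {M M'} f => by
      have h2 : ((Tor (ModuleCat.{u} R) n).flip.obj N).map f =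
          (Pr.isoLeftDerivedObj ((tensoringLeft (ModuleCat.{u} R)).obj M) n).hom ≫
            (homologyFunctor (ModuleCat.{u} R) (ComplexShape.down ℕ) n).map
              ((NatTrans.mapHomologicalComplex ((tensoringLeft (ModuleCat.{u} R)).map f)
                (ComplexShape.down ℕ)).app Pr.complex) ≫
            (Pr.isoLeftDerivedObj ((tensoringLeft (ModuleCat.{u} R)).obj M') n).inv :=
        ProjectiveResolution.leftDerived_app_eq
          ((tensoringLeft (ModuleCat.{u} R)).map f) Pr n
      exact (Iso.eq_comp_inv _).1 (h2.trans (Category.assoc _ _ _).symm))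

end tor

end helpers

open CategoryTheory CategoryTheory.Limits in
/-- For a commutative ring A, an A-module N and p ≥ 0, the functor M ↦ Tor_p^A(M, N) preserves filtered
colimits. (Tor is Mathlib's, left derived in the second variable; this is the case of single modules
rather than complexes.) -/
theorem result (A : Type u) [CommRing A] (p : ℕ) (N : ModuleCat.{u} A)
    (J : Type u) [SmallCategory J] [IsFiltered J] :
    PreservesColimitsOfShape J ((CategoryTheory.Tor (ModuleCat.{u} A) p).flip.obj N) := by
  haveI := Φ_preserves (J := J) A (projectiveResolution N).complex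
  haveI := homology_preserves (J := J) (R := A) (ComplexShape.down ℕ) p
  exact preservesColimitsOfShape_of_natIso (torIso A N p (projectiveResolution N)).symm

end Groth.Agent.S3525
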