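import Groth.Statements.S5809
import Mathlib
import Mathlib
import Groth.Agent.H19.TorShift
import Groth.Agent.H19.TorSymm
import Groth.Agent.S3527

set_option autoImplicit false
universe u
open CategoryTheory
open EGA41

namespace Groth.Agent.S5809

open CategoryTheory TensorProduct Function in
theorem aux (A : Type u) [CommRing A] [IsLocalRing A] [IsNoetherianRing A] (n : ℕ) :
    ∀ (M : Type u) [AddCommGroup M] [Module A M] [Module.Finite A M],
    (HasProjectiveDimensionLT (ModuleCat.of A M) (n + 1) →
      ∀ i : ℕ, n < i → Subsingleton (DRing.Tor A i M (IsLocalRing.ResidueField A))) ∧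
    (Subsingleton (DRing.Tor A (n + 1) M (IsLocalRing.ResidueField A)) →
      HasProjectiveDimensionLT (ModuleCat.of A M) (n + 1)) := by
  induction n with
  | zero =>
    intro M _ _ _
    constructor
    · intro hpd i hi
      have hproj : Projective (ModuleCat.of A M) :=
        projective_iff_hasProjectiveDimensionLT_one.2 hpd
      haveI : Module.Projective A M := (IsProjective.iff_projective (R := A) M).2 hproj
      exact (Groth.Agent.S3527.result A M (IsLocalRing.ResidueField A) i hi).1
    · intro h
      obtain ⟨m, p, hp⟩ := Module.Finite.exists_fin' A M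
      have hi : Injective (LinearMap.ker p).subtype := Submodule.injective_subtype _
      have hip : Exact (LinearMap.ker p).subtype p := LinearMap.exact_subtype_ker_map p
      obtain ⟨e⟩ := Groth.Agent.H19.TorShift.tor_one_equiv' (LinearMap.ker p).subtype p hi hp hip
        (IsLocalRing.ResidueField A)
      haveI : Subsingleton (LinearMap.ker ((LinearMap.ker p).subtype.rTensor
          (IsLocalRing.ResidueField A))) := e.symm.toEquiv.subsingleton
      have hinj : Injective ((LinearMap.ker p).subtype.rTensor (IsLocalRing.ResidueField A)) := by
        intro a b hab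
        have hmem : a - b ∈ LinearMap.ker ((LinearMap.ker p).subtype.rTensor
            (IsLocalRing.ResidueField A)) := by
          rw [LinearMap.mem_ker, map_sub, hab, sub_self]
        have h0 := Subsingleton.elim (⟨a - b, hmem⟩ : LinearMap.ker
          ((LinearMap.ker p).subtype.rTensor (IsLocalRing.ResidueField A))) 0
        exact sub_eq_zero.1 (congrArg Subtype.val h0)
      have hinj' : Injective ((LinearMap.ker p).subtype.lTensor (IsLocalRing.ResidueField A)) :=
        (LinearMap.lTensor_inj_iff_rTensor_inj _ _).2 hinj
      haveI : Module.Free A M :=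
        Module.free_of_lTensor_residueField_injective (LinearMap.ker p).subtype p hp hip hinj'
      have hproj : Projective (ModuleCat.of A M) :=
        (IsProjective.iff_projective (R := A) M).1 inferInstance
      exact projective_iff_hasProjectiveDimensionLT_one.1 hproj
  | succ n ih =>
    intro M _ _ _
    obtain ⟨m, p, hp⟩ := Module.Finite.exists_fin' A M
    have hi : Injective (LinearMap.ker p).subtype := Submodule.injective_subtype _
    have hip : Exact (LinearMap.ker p).subtype p := LinearMap.exact_subtype_ker_map p
    let S : ShortComplex (ModuleCat.{u} A) :=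
      ShortComplex.mk (ModuleCat.ofHom (LinearMap.ker p).subtype) (ModuleCat.ofHom p) (by
        ext x
        exact x.2)
    have hS : S.ShortExact := by
      refine ShortComplex.ShortExact.mk' ?_ ?_ ?_
      · rw [ShortComplex.moduleCat_exact_iff]
        intro y hy
        exact ⟨⟨y, hy⟩, rfl⟩
      · rw [ModuleCat.mono_iff_injective]
        exact hi
      · rw [ModuleCat.epi_iff_surjective]
        exact hp
    have hproj : Projective S.X₂ :=
      (IsProjective.iff_projective (R := A) (Fin m → A)).1 inferInstance
    have hiff := hS.hasProjectiveDimensionLT_X₃_iff n hproj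
    obtain ⟨ih1, ih2⟩ := ih (LinearMap.ker p)
    constructor
    · intro hpd i hi'
      obtain ⟨j, rfl⟩ : ∃ j, i = j + 2 := ⟨i - 2, by omega⟩
      obtain ⟨e⟩ := Groth.Agent.H19.TorShift.tor_succ_succ_equiv' (LinearMap.ker p).subtype p hi hp
        hip (IsLocalRing.ResidueField A) j
      haveI := ih1 (hiff.1 hpd) (j + 1) (by omega)
      exact e.toEquiv.subsingleton
    · intro h
      obtain ⟨e⟩ := Groth.Agent.H19.TorShift.tor_succ_succ_equiv' (LinearMap.ker p).subtype p hi hp
        hip (IsLocalRing.ResidueField A) n
      exact hiff.2 (ih2 e.symm.toEquiv.subsingleton)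

/-- Let A be a Noetherian local ring with residue field k, M a finitely generated A-module and n ≥ 0.
For M to have projective dimension at most n it is necessary that Tor^A_i(M, k) = 0 for all i > n,
and it suffices that Tor^A_(n+1)(M, k) = 0. (Tor is written here as the left derived functors of k ⊗
- evaluated at M, i.e. computed from a projective resolution of M.) -/
theorem result (A : Type u) [CommRing A] [IsLocalRing A]
    [IsNoetherianRing A] (M : Type u) [AddCommGroup M] [Module A M] [Module.Finite A M] (n : ℕ) :
    (HasProjectiveDimensionLT (ModuleCat.of A M) (n + 1) →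
        ∀ i : ℕ, n < i → Limits.IsZero (((Tor (ModuleCat.{u} A) i).obj
          (ModuleCat.of A (IsLocalRing.ResidueField A))).obj (ModuleCat.of A M))) ∧
      (Limits.IsZero (((Tor (ModuleCat.{u} A) (n + 1)).obj
          (ModuleCat.of A (IsLocalRing.ResidueField A))).obj (ModuleCat.of A M)) →
        HasProjectiveDimensionLT (ModuleCat.of A M) (n + 1)) := by
  obtain ⟨h1, h2⟩ := Groth.Agent.S5809.aux A n M
  constructor
  · intro hpd i hi
    rw [ModuleCat.isZero_iff_subsingleton]
    obtain ⟨e⟩ := Groth.Agent.H19.TorSymm.tor_symm (A := A) M (IsLocalRing.ResidueField A) i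
    haveI := h1 hpd i hi
    exact e.symm.toEquiv.subsingleton
  · intro h
    rw [ModuleCat.isZero_iff_subsingleton] at h
    obtain ⟨e⟩ := Groth.Agent.H19.TorSymm.tor_symm (A := A) M (IsLocalRing.ResidueField A) (n + 1)
    exact h2 e.toEquiv.subsingleton

end Groth.Agent.S5809
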