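import Groth.Statements.S4492
import Mathlib
import Mathlib

set_option autoImplicit false
universe u
open FlatCx

namespace Groth.Agent.S4492

open CategoryTheory CategoryTheory.Limits
section modlemmas
variable {R : Type*} [Ring R] {N M P : Type*} [AddCommGroup N] [AddCommGroup M] [AddCommGroup P]
  [Module R N] [Module R M] [Module R P]

theorem length_eq_range_add_range (f : N →ₗ[R] M) (g : M →ₗ[R] P) (H : Function.Exact f g) :
    Module.length R M = Module.length R (LinearMap.range f) + Module.length R (LinearMap.range g) := by
  have h1 : Module.length R M = Module.length R (LinearMap.ker g) + Module.length R (LinearMap.range g) :=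
    Module.length_eq_add_of_exact (LinearMap.ker g).subtype g.rangeRestrict
      (Submodule.subtype_injective _) g.surjective_rangeRestrict (by
        intro x
        constructor
        · intro hx
          have : g x = 0 := by
            have := congrArg Subtype.val hx
            simpa using this
          exact ⟨⟨x, this⟩, rfl⟩
        · rintro ⟨y, rfl⟩
          apply Subtype.ext
          simp)
  have h2 : LinearMap.ker g = LinearMap.range f := (LinearMap.exact_iff.mp H)
  rw [h1, h2]

theorem length_range_le_dom (f : N →ₗ[R] M) :
    Module.length R (LinearMap.range f) ≤ Module.length R N :=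
  Module.length_le_of_surjective f.rangeRestrict f.surjective_rangeRestrict

theorem length_range_le_cod (f : N →ₗ[R] M) :
    Module.length R (LinearMap.range f) ≤ Module.length R M :=
  Module.length_le_of_injective (LinearMap.range f).subtype (Submodule.subtype_injective _)

theorem injective_of_length_range_eq (f : N →ₗ[R] M) (hN : Module.length R N ≠ ⊤)
    (h : Module.length R (LinearMap.range f) = Module.length R N) : Function.Injective f := by
  have h1 : Module.length R N = Module.length R (LinearMap.ker f) + Module.length R (LinearMap.range f) :=
    Module.length_eq_add_of_exact (LinearMap.ker f).subtype f.rangeRestrict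
      (Submodule.subtype_injective _) f.surjective_rangeRestrict (by
        intro x
        constructor
        · intro hx
          have : f x = 0 := by
            have := congrArg Subtype.val hx
            simpa using this
          exact ⟨⟨x, this⟩, rfl⟩
        · rintro ⟨y, rfl⟩
          apply Subtype.ext
          simp)
  rw [h] at h1
  have h0 : Module.length R (LinearMap.ker f) = 0 := by
    generalize Module.length R (LinearMap.ker f) = a at h1
    generalize Module.length R N = n at h1 hN
    lift n to ℕ using hN
    have : a ≠ ⊤ := by
      rintro rfl
      simp at h1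
    lift a to ℕ using this
    have : n = a + n := by exact_mod_cast h1
    have : a = 0 := by omega
    simp [this]
  rw [Module.length_eq_zero_iff] at h0
  rw [← LinearMap.ker_eq_bot]
  exact (Submodule.subsingleton_iff_eq_bot).mp h0

theorem surjective_of_length_range_eq (g : M →ₗ[R] P) (hP : Module.length R P ≠ ⊤)
    (h : Module.length R (LinearMap.range g) = Module.length R P) : Function.Surjective g := by
  have h1 : Module.length R P = Module.length R (LinearMap.range g) + Module.length R (P ⧸ LinearMap.range g) :=
    Module.length_eq_add_of_exact (LinearMap.range g).subtype (LinearMap.range g).mkQ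
      (Submodule.subtype_injective _) (Submodule.mkQ_surjective _)
      (LinearMap.exact_subtype_mkQ _)
  rw [h] at h1
  have h0 : Module.length R (P ⧸ LinearMap.range g) = 0 := by
    generalize Module.length R (P ⧸ LinearMap.range g) = a at h1
    generalize Module.length R P = n at h1 hP
    lift n to ℕ using hP
    have : a ≠ ⊤ := by
      rintro rfl
      simp at h1
    lift a to ℕ using this
    have : n = n + a := by exact_mod_cast h1
    have : a = 0 := by omega
    simp [this]
  rw [Module.length_eq_zero_iff] at h0
  rw [← LinearMap.range_eq_top]
  exact Submodule.Quotient.subsingleton_iff.mp h0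

theorem length_le_of_exact' (f : N →ₗ[R] M) (g : M →ₗ[R] P) (H : Function.Exact f g) :
    Module.length R M ≤ Module.length R N + Module.length R P := by
  rw [length_eq_range_add_range f g H]
  exact add_le_add (length_range_le_dom f) (length_range_le_cod g)

theorem length_eq_iff_of_exact' (f : N →ₗ[R] M) (g : M →ₗ[R] P) (H : Function.Exact f g)
    (hN : Module.length R N ≠ ⊤) (hP : Module.length R P ≠ ⊤) :
    Module.length R M = Module.length R N + Module.length R P ↔
      Function.Injective f ∧ Function.Surjective g := by
  constructor
  · intro h
    rw [length_eq_range_add_range f g H] at h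
    have h1 := length_range_le_dom f
    have h2 := length_range_le_cod g
    have key : Module.length R (LinearMap.range f) = Module.length R N ∧
        Module.length R (LinearMap.range g) = Module.length R P := by
      generalize Module.length R (LinearMap.range f) = a at h h1
      generalize Module.length R (LinearMap.range g) = b at h h2
      generalize Module.length R N = n at h h1 hN
      generalize Module.length R P = p at h h2 hP
      lift n to ℕ using hN
      lift p to ℕ using hP
      have ha : a ≠ ⊤ := fun h' => by rw [h'] at h1; simp at h1
      have hb : b ≠ ⊤ := fun h' => by rw [h'] at h2; simp at h2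
      lift a to ℕ using ha
      lift b to ℕ using hb
      have e1 : a + b = n + p := by exact_mod_cast h
      have e2 : a ≤ n := by exact_mod_cast h1
      have e3 : b ≤ p := by exact_mod_cast h2
      constructor
      · have : a = n := by omega
        exact_mod_cast this
      · have : b = p := by omega
        exact_mod_cast this
    exact ⟨injective_of_length_range_eq f hN key.1, surjective_of_length_range_eq g hP key.2⟩
  · rintro ⟨hf, hg⟩
    exact Module.length_eq_add_of_exact f g hf hg H

end modlemmas

theorem map_exact_fun {A B : Type u} [Ring A] [Ring B]
    (F : ModuleCat.{u} A ⥤ ModuleCat.{u} B) [F.Additive]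
    (S : ShortComplex (ModuleCat.{u} A)) (h : (S.map F).Exact) :
    Function.Exact (F.map S.f).hom (F.map S.g).hom :=
  (ShortComplex.ShortExact.moduleCat_exact_iff_function_exact (S.map F)).mp h

theorem ineq {A B : Type u} [Ring A] [Ring B]
    (F : ModuleCat.{u} A ⥤ ModuleCat.{u} B) [F.Additive]
    (S : ShortComplex (ModuleCat.{u} A)) (h : (S.map F).Exact) :
    Module.length B (F.obj S.X₂) ≤ Module.length B (F.obj S.X₁) + Module.length B (F.obj S.X₃) :=
  length_le_of_exact' (F.map S.f).hom (F.map S.g).hom (map_exact_fun F S h)

theorem part1 {A B : Type u} [Ring A] [Ring B]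
    (F : ModuleCat.{u} A ⥤ ModuleCat.{u} B) [F.Additive]
    (hF : ∀ S : ShortComplex (ModuleCat.{u} A), S.ShortExact → (S.map F).Exact)
    (hS : ∀ M : ModuleCat.{u} A, IsSimpleModule A M → Module.length B (F.obj M) ≠ ⊤) :
    ∀ n : ℕ, ∀ E : ModuleCat.{u} A, Module.length A E = n → Module.length B (F.obj E) ≠ ⊤ := by
  intro n
  induction n using Nat.strong_induction_on with
  | _ n ih =>
    intro E hE
    by_cases hsub : Subsingleton E
    · have hz : IsZero E := ModuleCat.isZero_of_subsingleton E
      have hz' : IsZero (F.obj E) := F.map_isZero hz
      have : Subsingleton (F.obj E) := ModuleCat.subsingleton_of_isZero hz'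
      rw [Module.length_eq_zero]
      simp
    · rw [not_subsingleton_iff_nontrivial] at hsub
      have hfl : IsFiniteLength A E := by
        rw [← Module.length_ne_top_iff, hE]
        simp
      obtain ⟨hnoeth, hart⟩ := isFiniteLength_iff_isNoetherian_isArtinian.mp hfl
      obtain ⟨N, hN⟩ : ∃ N : Submodule A E, IsCoatom N := by
        rcases eq_top_or_exists_le_coatom (⊥ : Submodule A E) with h | ⟨N, hN, -⟩
        · exact absurd h bot_ne_top
        · exact ⟨N, hN⟩
      have hsimple : IsSimpleModule A (E ⧸ N) := isSimpleModule_iff_isCoatom.mpr hN
      have hadd : Module.length A E = Module.length A N + Module.length A (E ⧸ N) :=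
        Module.length_eq_add_of_exact N.subtype N.mkQ (Submodule.subtype_injective _)
          (Submodule.mkQ_surjective _) (LinearMap.exact_subtype_mkQ _)
      rw [Module.length_eq_one A (E ⧸ N), hE] at hadd
      have hNtop : Module.length A N ≠ ⊤ := by
        intro h
        rw [h] at hadd
        simp at hadd
      obtain ⟨m, hm⟩ := ENat.ne_top_iff_exists.mp hNtop
      have hlt : m < n := by
        rw [← hm] at hadd
        have : n = m + 1 := by exact_mod_cast hadd
        omega
      let S : ShortComplex (ModuleCat.{u} A) :=
        ShortComplex.mk (ModuleCat.ofHom N.subtype) (ModuleCat.ofHom N.mkQ) (by ext x; simp)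
      have hSE : S.ShortExact := ModuleCat.shortComplex_shortExact S
        (LinearMap.exact_subtype_mkQ N) (Submodule.subtype_injective _) (Submodule.mkQ_surjective _)
      have h1 := ineq F S (hF S hSE)
      have h2 : Module.length B (F.obj (ModuleCat.of A N)) ≠ ⊤ := ih m hlt (ModuleCat.of A N) hm.symm
      have h3 : Module.length B (F.obj (ModuleCat.of A (E ⧸ N))) ≠ ⊤ := hS _ hsimple
      intro htop
      change Module.length B (F.obj E) ≤ Module.length B (F.obj (ModuleCat.of A N)) +
        Module.length B (F.obj (ModuleCat.of A (E ⧸ N))) at h1
      rw [htop, top_le_iff] at h1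
      exact (WithTop.add_ne_top.mpr ⟨h2, h3⟩) h1

open CategoryTheory CategoryTheory.Limits in
/-- (The published statement is for arbitrary abelian categories; this row is for functors between
module categories.) Let F be an additive functor from A-modules to B-modules which is half exact
(every short exact sequence 0 → E' → E → E'' → 0 goes to a sequence F(E') → F(E) → F(E'') exact at
the middle) and such that F(S) has finite length for every simple A-module S. Then F(E) has finite
length for every A-module E of finite length; and for every short exact sequence 0 → E' → E → E'' →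
0 of A-modules with E of finite length one has length F(E) ≤ length F(E') + length F(E''), with
equality if and only if 0 → F(E') → F(E) → F(E'') → 0 is (short) exact. Lengths are Mathlib's,
valued in ℕ∞. -/
theorem result {A B : Type u} [Ring A] [Ring B]
    (F : ModuleCat.{u} A ⥤ ModuleCat.{u} B) [F.Additive]
    (hF : ∀ S : ShortComplex (ModuleCat.{u} A), S.ShortExact → (S.map F).Exact)
    (hS : ∀ M : ModuleCat.{u} A, IsSimpleModule A M → Module.length B (F.obj M) ≠ ⊤) :
    (∀ E : ModuleCat.{u} A, Module.length A E ≠ ⊤ → Module.length B (F.obj E) ≠ ⊤) ∧
      ∀ S : ShortComplex (ModuleCat.{u} A), S.ShortExact → Module.length A S.X₂ ≠ ⊤ →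
        Module.length B (F.obj S.X₂) ≤ Module.length B (F.obj S.X₁) + Module.length B (F.obj S.X₃) ∧
          (Module.length B (F.obj S.X₂) = Module.length B (F.obj S.X₁) + Module.length B (F.obj S.X₃) ↔
            (S.map F).ShortExact) := by
  have P1 : ∀ E : ModuleCat.{u} A, Module.length A E ≠ ⊤ → Module.length B (F.obj E) ≠ ⊤ := by
    intro E hE
    obtain ⟨m, hm⟩ := ENat.ne_top_iff_exists.mp hE
    exact Groth.Agent.S4492.part1 F hF hS m E hm.symm
  refine ⟨P1, ?_⟩
  intro S hSE hfin
  have hex := hF S hSE
  refine ⟨Groth.Agent.S4492.ineq F S hex, ?_⟩
  have hX1 : Module.length A S.X₁ ≠ ⊤ := by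
    intro h
    have := Module.length_le_of_injective S.f.hom hSE.moduleCat_injective_f
    rw [h, top_le_iff] at this
    exact hfin this
  have hX3 : Module.length A S.X₃ ≠ ⊤ := by
    intro h
    have := Module.length_le_of_surjective S.g.hom hSE.moduleCat_surjective_g
    rw [h, top_le_iff] at this
    exact hfin this
  have hfun := Groth.Agent.S4492.map_exact_fun F S hex
  rw [Groth.Agent.S4492.length_eq_iff_of_exact' (F.map S.f).hom (F.map S.g).hom hfun (P1 _ hX1) (P1 _ hX3)]
  constructor
  · rintro ⟨hi, hs⟩
    exact ModuleCat.shortComplex_shortExact (S.map F) hfun hi hs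
  · intro h
    exact ⟨h.moduleCat_injective_f, h.moduleCat_surjective_g⟩

end Groth.Agent.S4492
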