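import Groth.Statements.S4485
import Mathlib
import Mathlib
import Groth.Agent.H19.FlatCxEW
import Groth.Agent.H19.FlatCxCmp

set_option autoImplicit false
universe u
open FlatCx

namespace Groth.Agent.S4485

open CategoryTheory CategoryTheory.Limits TensorProduct

theorem smul_of_fraction {A B : Type*} [CommRing A] [CommRing B] [Algebra A B] {V W : Type*}
    [AddCommGroup V] [AddCommGroup W] [Module B V] [Module B W] [Module A V] [Module A W]
    [IsScalarTower A B V] [IsScalarTower A B W]
    (hB : ∀ b : B, ∃ a s : A, IsUnit (algebraMap A B s) ∧ b * algebraMap A B s = algebraMap A B a)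
    (f : V →ₗ[A] W) (b : B) (v : V) : f (b • v) = b • f v := by
  obtain ⟨a, s, hu, hb⟩ := hB b
  apply (hu.smul_left_cancel).mp
  calc algebraMap A B s • f (b • v) = s • f (b • v) := algebraMap_smul B s _
    _ = f (s • (b • v)) := (map_smul f s _).symm
    _ = f (algebraMap A B s • (b • v)) := by rw [algebraMap_smul]
    _ = f ((b * algebraMap A B s) • v) := by rw [← mul_smul, mul_comm]
    _ = f (algebraMap A B a • v) := by rw [hb]
    _ = f (a • v) := by rw [algebraMap_smul]
    _ = a • f v := map_smul f a v
    _ = algebraMap A B a • f v := (algebraMap_smul B a _).symm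
    _ = (b * algebraMap A B s) • f v := by rw [hb]
    _ = algebraMap A B s • (b • f v) := by rw [mul_comm, mul_smul]

theorem residueField_fraction {A : Type u} [CommRing A] (x : PrimeSpectrum A)
    (b : x.asIdeal.ResidueField) :
    ∃ a s : A, IsUnit (algebraMap A x.asIdeal.ResidueField s) ∧
      b * algebraMap A x.asIdeal.ResidueField s = algebraMap A x.asIdeal.ResidueField a := by
  obtain ⟨y, rfl⟩ := IsLocalRing.residue_surjective b
  obtain ⟨⟨a, s⟩, rfl⟩ := IsLocalization.mk'_surjective x.asIdeal.primeCompl y
  refine ⟨a, s.1, ?_, ?_⟩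
  · have h1 : IsUnit (algebraMap A (Localization.AtPrime x.asIdeal) s.1) :=
      IsLocalization.map_units _ s
    have h2 := h1.map (IsLocalRing.residue (Localization.AtPrime x.asIdeal))
    exact h2
  · have h1 : IsLocalization.mk' (Localization.AtPrime x.asIdeal) a s *
        algebraMap A (Localization.AtPrime x.asIdeal) s.1 =
        algebraMap A (Localization.AtPrime x.asIdeal) a := IsLocalization.mk'_spec _ a s
    have h2 := congrArg (IsLocalRing.residue (Localization.AtPrime x.asIdeal)) h1
    rw [map_mul] at h2
    exact h2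

open Groth.Agent.H19.FlatCxCmp Groth.Agent.H19.FlatCxEW in
theorem dRank_eq_rankAtStalk {A : Type u} [CommRing A]
    (P : ChainComplex (ModuleCat.{u} A) ℤ) (hP : ∀ i, Module.Flat A (P.X i)) (p : ℤ)
    (hmono : (CohIII.TFun P p).PreservesMonomorphisms)
    (hepi : (CohIII.TFun P p).PreservesEpimorphisms) (x : PrimeSpectrum A)
    [Module.Finite A (P.homology p)] [Module.Flat A (P.homology p)] :
    CohIII.dRank P p x = Module.rankAtStalk (P.homology p) x := by
  rw [Module.rankAtStalk_eq]
  let B := x.asIdeal.ResidueField
  let V := (CohIII.bcCx (algebraMap A B) P).homology p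
  letI : Module A V := Module.compHom V (algebraMap A B)
  haveI : IsScalarTower A B V := ⟨fun a b v => by
    show (a • b) • v = algebraMap A B a • (b • v)
    rw [Algebra.smul_def, mul_smul]⟩
  let e1 : V ≃ₗ[A] (CohIII.TFun P p).obj (ModuleCat.of A B) :=
    (cmpHomologyIso B P p).toLinearEquiv
  let e2 := ewEquiv P p hP hmono hepi (ModuleCat.of A B)
  let e3 := TensorProduct.comm A (P.homology p) B
  let Φ : V ≃ₗ[A] B ⊗[A] (P.homology p) := e1 ≪≫ₗ (e2 ≪≫ₗ e3)
  let ΦB : V ≃ₗ[B] B ⊗[A] (P.homology p) :=
    { Φ with
      map_smul' := fun b v => smul_of_fraction (residueField_fraction x) Φ.toLinearMap b v }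
  exact ΦB.finrank_eq

open CategoryTheory CategoryTheory.Limits in
/-- For the homological functor T_p(M) = H_p(P ⊗_A M) of a chain complex P of flat modules over a
commutative ring A. If T_p takes injections to injections and surjections to surjections and T_p(A)
is a finitely presented A-module, then the function x ↦ dim_{k(x)} H_p(P ⊗_A k(x)) is locally
constant on Spec A (hence constant when Spec A is connected). No Noetherian hypothesis on A. -/
theorem result {A : Type u} [CommRing A]
    (P : ChainComplex (ModuleCat.{u} A) ℤ) (hP : ∀ i, Module.Flat A (P.X i)) (p : ℤ)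
    (hex : (CohIII.TFun P p).PreservesMonomorphisms ∧ (CohIII.TFun P p).PreservesEpimorphisms)
    (hfp : Module.FinitePresentation A (CohIII.T P p (ModuleCat.of A A))) :
    IsLocallyConstant (CohIII.dRank P p) := by
  haveI : Module.FinitePresentation A ((CohIII.TFun P p).obj (ModuleCat.of A A)) := hfp
  haveI : Module.FinitePresentation A (P.homology p) :=
    Module.FinitePresentation.of_equiv (Groth.Agent.S2446.TUnitIso P p).toLinearEquiv
  haveI : Module.Flat A (P.homology p) := by
    have hrel : (ComplexShape.down ℤ).Rel p (p - 1) := by simp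
    have f1 : Module.Flat A (P.opcycles p) := (Groth.Agent.S2375.result P hP p).mp hex.1
    have f2 : Module.Flat A (P.opcycles (p - 1)) :=
      (Groth.Agent.S2375.result P hP (p - 1)).mp
        ((Groth.Agent.S2406.result P hP p (p - 1) (by omega)).mp hex.2)
    have f3 := Groth.Agent.S2446.flat_bdry P (p - 1) (hP _) f2
    exact Groth.Agent.S2446.flat_homology_of P p (p - 1) hrel f1 f3
  have heq : CohIII.dRank P p = Module.rankAtStalk (R := A) (P.homology p) := by
    funext x
    exact Groth.Agent.S4485.dRank_eq_rankAtStalk P hP p hex.1 hex.2 x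
  rw [heq]
  exact Module.isLocallyConstant_rankAtStalk

end Groth.Agent.S4485
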