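import Groth.Statements.S0556
import Mathlib
import Groth.Agent.Lib.Helper12.KrullAkizuki

set_option autoImplicit false
universe u
open CAlg

namespace Groth.Agent.S0556

/-- Any domain `A` sandwiched between a one-dimensional Noetherian domain `R` and a field `L` of finite
degree over the fraction field of `R` is itself Noetherian. -/
theorem result (R : Type u) [CommRing R]
    [IsDomain R] [IsNoetherianRing R] (hdim : ringKrullDim R = 1) (K L : Type u) [Field K] [Field L]
    [Algebra R K] [IsFractionRing R K] [Algebra K L] [FiniteDimensional K L] [Algebra R L]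
    [IsScalarTower R K L] (A : Type u) [CommRing A] [Algebra R A] [Algebra A L]
    [IsScalarTower R A L] (hA : Function.Injective (algebraMap A L)) :
    IsNoetherianRing A := by
  classical
  haveI : IsDomain A := Function.Injective.isDomain (algebraMap A L) hA
  obtain ⟨ι, hιdef⟩ : ∃ ι : A →ₗ[R] L, ∀ x, ι x = algebraMap A L x :=
    ⟨(IsScalarTower.toAlgHom R A L).toLinearMap, fun x => rfl⟩
  have hι : Function.Injective ι := fun x y h => hA (by rw [← hιdef, ← hιdef, h])
  rw [isNoetherianRing_iff_ideal_fg]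
  intro J
  by_cases hJ : J = ⊥
  · rw [hJ]; exact Submodule.fg_bot
  obtain ⟨b, hbJ, hb0⟩ := Submodule.exists_mem_ne_zero_of_ne_bot hJ
  have halgL : IsAlgebraic R (algebraMap A L b) := by
    have h1 : IsAlgebraic K (algebraMap A L b) := Algebra.IsAlgebraic.isAlgebraic _
    exact (IsFractionRing.isAlgebraic_iff R K L).mpr h1
  have halg : IsAlgebraic R b :=
    (isAlgebraic_algHom_iff (IsScalarTower.toAlgHom R A L) hA).mp halgL
  obtain ⟨r, hr0, hdvd⟩ := halg.exists_nonzero_dvd (mem_nonZeroDivisors_of_ne_zero hb0)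
  have hrJ : algebraMap R A r ∈ J := Ideal.mem_of_dvd J hdvd hbJ
  have hN := Groth.Agent.Helper12.KA.isNoetherian_quot R hdim K L A ι hι r hr0
  obtain ⟨JR, hJR⟩ : ∃ JR : Submodule R A, JR = J.restrictScalars R := ⟨_, rfl⟩
  have hfg : (Submodule.map (Groth.Agent.Helper12.KA.aN A r 1).mkQ JR).FG :=
    IsNoetherian.noetherian _
  obtain ⟨n, x, hx⟩ := Submodule.fg_iff_exists_fin_generating_family.mp hfg
  have hex : ∀ i, ∃ y ∈ J, (Submodule.Quotient.mk y : A ⧸ Groth.Agent.Helper12.KA.aN A r 1) = x i := by
    intro i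
    have : x i ∈ Submodule.map (Groth.Agent.Helper12.KA.aN A r 1).mkQ JR :=
      hx ▸ Submodule.subset_span ⟨i, rfl⟩
    obtain ⟨y, hy, hyx⟩ := this
    rw [hJR] at hy
    exact ⟨y, hy, hyx⟩
  choose y hyJ hy using hex
  have hJeq : J = Ideal.span (Set.range y ∪ {algebraMap R A r}) := by
    apply le_antisymm
    · intro w hw
      have hw' : (Submodule.Quotient.mk w : A ⧸ Groth.Agent.Helper12.KA.aN A r 1) ∈
          Submodule.span R (Set.range x) := by
        rw [hx]
        exact ⟨w, hJR ▸ hw, rfl⟩
      obtain ⟨c, hc⟩ := (Submodule.mem_span_range_iff_exists_fun R).mp hw'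
      have h1 : w - ∑ i, c i • y i ∈ Groth.Agent.Helper12.KA.aN A r 1 := by
        rw [← Submodule.Quotient.mk_eq_zero, Submodule.Quotient.mk_sub, ← hc]
        have h3 : (Submodule.Quotient.mk (∑ i, c i • y i) :
            A ⧸ Groth.Agent.Helper12.KA.aN A r 1) = ∑ i, c i • x i := by
          rw [← Submodule.mkQ_apply, map_sum]
          apply Finset.sum_congr rfl
          intro i _
          rw [map_smul, Submodule.mkQ_apply, hy]
        rw [h3, sub_self]
      obtain ⟨t, ht⟩ := Groth.Agent.Helper12.KA.mem_aN.mp h1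
      have h2 : w = ∑ i, c i • y i + r ^ 1 • t := by rw [ht]; abel
      rw [h2]
      refine Ideal.add_mem _ (Ideal.sum_mem _ fun i _ => ?_) ?_
      · rw [Algebra.smul_def]
        exact Ideal.mul_mem_left _ _ (Ideal.subset_span (Or.inl ⟨i, rfl⟩))
      · rw [pow_one, Algebra.smul_def, mul_comm]
        exact Ideal.mul_mem_left _ _ (Ideal.subset_span (Or.inr rfl))
    · rw [Ideal.span_le]
      rintro _ (⟨i, rfl⟩ | rfl)
      · exact hyJ i
      · exact hrJ
  rw [hJeq]
  exact Submodule.fg_span ((Set.finite_range y).union (Set.finite_singleton _))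

end Groth.Agent.S0556
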