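import Mathlib
import Groth.Statements.S4433
import Groth.Agent.Lib.Helper9.DVRDom
-- import your own Groth.Agent.* helpers here

set_option autoImplicit false
universe u
open EGA2

namespace Groth.Agent.S4433

open Groth.Agent.Helper9.DVRDom

/-- Let A be a Noetherian local domain that is not a field, K its field of fractions and L a finitely
generated field extension of K. Then there is a discrete valuation subring of L, with fraction field
L, which contains the image of A and dominates A (elements of the maximal ideal of A have valuation
less than one). -/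
theorem result (A : Type u) [CommRing A] [IsDomain A] [IsNoetherianRing A]
    [IsLocalRing A] (hA : ¬ IsField A) (K : Type u) [Field K] [Algebra A K] [IsFractionRing A K]
    (L : Type u) [Field L] [Algebra K L] [Algebra A L] [IsScalarTower A K L] (hfg : (⊤ : IntermediateField K L).FG) :
    ∃ R : ValuationSubring L, IsDiscreteValuationRing R ∧ (∀ a : A, algebraMap A L a ∈ R) ∧
      ∀ a ∈ IsLocalRing.maximalIdeal A, R.valuation (algebraMap A L a) < 1 := by
  classical
  have hinj : Function.Injective (algebraMap A L) := by
    rw [IsScalarTower.algebraMap_eq A K L]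
    exact (algebraMap K L).injective.comp (IsFractionRing.injective A K)
  obtain ⟨T, hT⟩ := hfg
  haveI : IsNoetherianRing (algebraMap A L).range :=
    isNoetherianRing_of_surjective A _ (algebraMap A L).rangeRestrict
      (algebraMap A L).rangeRestrict_surjective
  let e : A ≃+* (algebraMap A L).range :=
    RingEquiv.ofBijective (algebraMap A L).rangeRestrict
      ⟨fun a b hab => hinj (congrArg Subtype.val hab), (algebraMap A L).rangeRestrict_surjective⟩
  have hm0 : IsLocalRing.maximalIdeal A ≠ ⊥ := fun h =>
    hA (IsLocalRing.isField_iff_maximalIdeal_eq.mpr h)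
  obtain ⟨c, hcm, hc0⟩ := Submodule.exists_mem_ne_zero_of_ne_bot hm0
  obtain ⟨V, hV, hAV, hJV⟩ := exists_dvr_dominating (algebraMap A L).range
    (Ideal.comap e.symm.toRingHom (IsLocalRing.maximalIdeal A))
    (Ideal.comap_ne_top _ (IsLocalRing.maximalIdeal.isMaximal A).ne_top)
    (e c) (by rw [Ideal.mem_comap]; show e.symm (e c) ∈ _; rw [e.symm_apply_apply]; exact hcm)
    (fun h => hc0 (e.injective (by rw [h, map_zero]))) T
    (closure_eq_top_of_adjoin_eq_top A K (T : Set L) hT)
  refine ⟨V, hV, fun a => hAV ⟨a, rfl⟩, fun a ha => ?_⟩
  have h1 : ((e a : (algebraMap A L).range) : L) ∈ V.nonunits :=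
    hJV (e a) (by rw [Ideal.mem_comap]; show e.symm (e a) ∈ _; rw [e.symm_apply_apply]; exact ha)
  exact (ValuationSubring.mem_nonunits_iff V).mp h1

end Groth.Agent.S4433
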