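import Mathlib
import Groth.Statements.S6318
import Groth.Agent.H11.Resolution

set_option autoImplicit false
universe u
open CategoryTheory
open CAlg

namespace Groth.Agent.S6318

open Limits Groth.Agent.H11

variable (R : Type u) [CommRing R]

/-- a finite free cover of a finite module -/
noncomputable def ffCover (K : ModuleCat.{u} R) (h : Module.Finite R K) : Cover K :=
  ⟨ModuleCat.of R (Fin (Module.Finite.exists_fin' R K).choose → R),
    ModuleCat.ofHom (Module.Finite.exists_fin' R K).choose_spec.choose,
    (IsProjective.iff_projective (R := R) _).1 inferInstance,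
    (ModuleCat.epi_iff_surjective _).2 (Module.Finite.exists_fin' R K).choose_spec.choose_spec⟩

theorem ffCover_finite (K : ModuleCat.{u} R) (h : Module.Finite R K) :
    Module.Finite R (ffCover R K h).Q ∧ Module.Free R (ffCover R K h).Q := by
  constructor
  · show Module.Finite R (Fin (Module.Finite.exists_fin' R K).choose → R)
    infer_instance
  · show Module.Free R (Fin (Module.Finite.exists_fin' R K).choose → R)
    infer_instance

open Classical in
noncomputable def cov (K : ModuleCat.{u} R) : Cover K :=
  if h : Module.Finite R K then ffCover R K h
  else ⟨Projective.over K, Projective.π K, Projective.projective_over K, inferInstance⟩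

theorem cov_finite (K : ModuleCat.{u} R) (h : Module.Finite R K) :
    Module.Finite R (cov R K).Q ∧ Module.Free R (cov R K).Q := by
  unfold cov
  rw [dif_pos h]
  exact ffCover_finite R K h

theorem kernel_finite [IsNoetherianRing R] {X Y : ModuleCat.{u} R} (f : X ⟶ Y)
    (hX : Module.Finite R X) : Module.Finite R (kernel f : ModuleCat.{u} R) := by
  have : IsNoetherian R X := isNoetherian_of_isNoetherianRing_of_finite R X
  have h1 : Module.Finite R (LinearMap.ker f.hom) := inferInstance
  exact Module.Finite.equiv (ModuleCat.kernelIsoKer f).toLinearEquiv.symm

/-- Let R be a Noetherian ring and M a finite R-module. Then M has a resolution … → F₂ → F₁ → F₀ → M → 0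
with every Fᵢ finite free; stated as the existence of a projective resolution of M in the category
of R-modules all of whose terms are finite free. -/
theorem result (R : Type u) [CommRing R] [IsNoetherianRing R] (M : Type u) [AddCommGroup M] [Module R M] [Module.Finite R M] : ∃ F : ProjectiveResolution (ModuleCat.of R M), ∀ n : ℕ, Module.Finite R (F.complex.X n) ∧ Module.Free R (F.complex.X n) := by
  have hM : Module.Finite R (ModuleCat.of R M) := ‹Module.Finite R M›
  have h0 := cov_finite R (ModuleCat.of R M) hM
  have hk := kernel_finite R (cov R (ModuleCat.of R M)).q h0.1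
  have h1 := cov_finite R _ hk
  refine ⟨res (cov R) (Start.ofCovers (cov R (ModuleCat.of R M)) (cov R _)), ?_⟩
  have key : ∀ n : ℕ,
      (Module.Finite R ((resComplex (cov R)
          (Start.ofCovers (cov R (ModuleCat.of R M)) (cov R _))).X n) ∧
        Module.Free R ((resComplex (cov R)
          (Start.ofCovers (cov R (ModuleCat.of R M)) (cov R _))).X n)) ∧
      (Module.Finite R ((resComplex (cov R)
          (Start.ofCovers (cov R (ModuleCat.of R M)) (cov R _))).X (n + 1)) ∧
        Module.Free R ((resComplex (cov R)
          (Start.ofCovers (cov R (ModuleCat.of R M)) (cov R _))).X (n + 1))) := by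
    intro n
    induction n with
    | zero => exact ⟨h0, h1⟩
    | succ n ih =>
      refine ⟨ih.2, ?_⟩
      have hk' := kernel_finite R ((resComplex (cov R)
          (Start.ofCovers (cov R (ModuleCat.of R M)) (cov R _))).d (n + 1) n) ih.2.1
      have h2 := cov_finite R _ hk'
      have e := (resXIso (cov R)
          (Start.ofCovers (cov R (ModuleCat.of R M)) (cov R _)) n).toLinearEquiv
      have i1 := h2.1
      have i2 := h2.2
      exact ⟨Module.Finite.equiv e.symm, Module.Free.of_equiv e.symm⟩
  intro n
  exact (key n).1

end Groth.Agent.S6318
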