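import Mathlib
import Groth.Statements.S6315
import Groth.Agent.S6318

set_option autoImplicit false
universe u
open CategoryTheory
open CAlg

namespace Groth.Agent.S6315

/-- Let R be a Noetherian ring and M, N finite R-modules. Then Tor_pᴿ(M, N) is a finite R-module for all
p. -/
theorem result (R : Type u) [CommRing R] [IsNoetherianRing R] (M N : Type u) [AddCommGroup M] [Module R M] [AddCommGroup N] [Module R N] [Module.Finite R M] [Module.Finite R N] (p : ℕ) : Module.Finite R (((CategoryTheory.Tor (ModuleCat.{u} R) p).obj (ModuleCat.of R M)).obj (ModuleCat.of R N)) := by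
  obtain ⟨F, hF⟩ := Groth.Agent.S6318.result R N
  have iso := F.isoLeftDerivedObj
    ((MonoidalCategory.tensoringLeft (ModuleCat.{u} R)).obj (ModuleCat.of R M)) p
  have hXp : Module.Finite R (F.complex.X p) := (hF p).1
  have hX : Module.Finite R (((((MonoidalCategory.tensoringLeft (ModuleCat.{u} R)).obj
      (ModuleCat.of R M)).mapHomologicalComplex _).obj F.complex).X p) := by
    show Module.Finite R (TensorProduct R M (F.complex.X p))
    infer_instance
  have hN : IsNoetherian R (((((MonoidalCategory.tensoringLeft (ModuleCat.{u} R)).obj
      (ModuleCat.of R M)).mapHomologicalComplex _).obj F.complex).X p) :=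
    isNoetherian_of_isNoetherianRing_of_finite R _
  have hcyc : Module.Finite R (((((MonoidalCategory.tensoringLeft (ModuleCat.{u} R)).obj
      (ModuleCat.of R M)).mapHomologicalComplex _).obj F.complex).cycles p) :=
    Module.Finite.of_injective
      ((((((MonoidalCategory.tensoringLeft (ModuleCat.{u} R)).obj
      (ModuleCat.of R M)).mapHomologicalComplex _).obj F.complex).iCycles p).hom)
      ((ModuleCat.mono_iff_injective _).1 inferInstance)
  have hhom : Module.Finite R (((((MonoidalCategory.tensoringLeft (ModuleCat.{u} R)).obj
      (ModuleCat.of R M)).mapHomologicalComplex _).obj F.complex).homology p) :=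
    Module.Finite.of_surjective
      ((((((MonoidalCategory.tensoringLeft (ModuleCat.{u} R)).obj
      (ModuleCat.of R M)).mapHomologicalComplex _).obj F.complex).homologyπ p).hom)
      ((ModuleCat.epi_iff_surjective _).1 inferInstance)
  have hhom' : Module.Finite R
      ((HomologicalComplex.homologyFunctor (ModuleCat.{u} R) (ComplexShape.down ℕ) p).obj
        ((((MonoidalCategory.tensoringLeft (ModuleCat.{u} R)).obj
          (ModuleCat.of R M)).mapHomologicalComplex _).obj F.complex) : ModuleCat.{u} R) := hhom
  exact Module.Finite.equiv iso.toLinearEquiv.symm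

end Groth.Agent.S6315
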