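import Groth.Statements.S15431
import Mathlib

set_option autoImplicit false
universe u
open GrSyz

namespace Groth.Agent.S15431

theorem constantCoeff_eq_zero_of_mem_irrel (k : Type u) [Field k] (σ : Type*)
    (p : MvPolynomial σ k) (hp : p ∈ (GrSyz.irrel (GrSyz.stdGr k σ)).toIdeal) :
    MvPolynomial.constantCoeff p = 0 := by
  have hle : (GrSyz.irrel (GrSyz.stdGr k σ)).toIdeal ≤ RingHom.ker (MvPolynomial.constantCoeff (R := k) (σ := σ)) := by
    change Ideal.span _ ≤ _
    rw [Ideal.span_le]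
    rintro r ⟨n, hn, hr⟩
    rw [SetLike.mem_coe, RingHom.mem_ker]
    by_contra hne
    have hr' : r.IsWeightedHomogeneous (fun _ : σ => (1 : ℤ)) n := hr
    have := hr' (d := 0) (by rwa [MvPolynomial.constantCoeff_eq] at hne)
    rw [map_zero] at this
    omega
  exact hle hp

theorem weight_one_pos {σ : Type*} (d : σ →₀ ℕ) (hd : d ≠ 0) :
    0 < Finsupp.weight (fun _ : σ => (1 : ℤ)) d := by
  rw [Finsupp.weight_apply, Finsupp.sum]
  obtain ⟨i, hi⟩ : ∃ i, d i ≠ 0 := by
    by_contra h
    push Not at h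
    exact hd (Finsupp.ext h)
  have hi' : i ∈ d.support := Finsupp.mem_support_iff.mpr hi
  have h1 : ∀ j ∈ d.support, 0 ≤ d j • (1 : ℤ) := fun j _ => by simp
  have h2 : 0 < d i • (1 : ℤ) := by
    simp only [nsmul_eq_mul, mul_one]
    exact_mod_cast Nat.pos_of_ne_zero hi
  exact Finset.sum_pos' h1 ⟨i, hi', h2⟩

theorem eq_zero_of_mem_stdGr_nonpos_of_mem_irrel (k : Type u) [Field k] (σ : Type*)
    (p : MvPolynomial σ k) (j : ℤ) (hj : j ≤ 0) (hpj : p ∈ GrSyz.stdGr k σ j)
    (hp : p ∈ (GrSyz.irrel (GrSyz.stdGr k σ)).toIdeal) : p = 0 := by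
  ext d
  rw [MvPolynomial.coeff_zero]
  by_cases hd : d = 0
  · subst hd
    have := constantCoeff_eq_zero_of_mem_irrel k σ p hp
    rwa [MvPolynomial.constantCoeff_eq] at this
  · by_contra hne
    have hpj' : p.IsWeightedHomogeneous (fun _ : σ => (1 : ℤ)) j := hpj
    have h1 := hpj' hne
    have h2 := weight_one_pos d hd
    omega

/-- Let k be a field, S = k[x_0, …, x_r] graded by degree, 𝔪 = (x_0, …, x_r), M a finitely generated
ℤ-graded S-module and F a minimal graded free resolution of M by free modules of finite rank with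
homogeneous bases (all matrix entries in 𝔪), so that its basis degrees give the graded Betti
numbers. If for some i the graded Betti numbers β_{i,j} vanish for all j < d, that is every basis
vector of F_i has degree at least d, then β_{i+1,j+1} = 0 for all j < d: every basis vector of
F_{i+1} has degree at least d + 1. -/
theorem result (k : Type u) [Field k] (r : ℕ)
    (M : Type u) [AddCommGroup M] [Module k M] [Module (MvPolynomial (Fin (r + 1)) k) M]
    [IsScalarTower k (MvPolynomial (Fin (r + 1)) k) M] [Module.Finite (MvPolynomial (Fin (r + 1)) k) M]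
    (ℳ : ℤ → Submodule k M) [DirectSum.Decomposition ℳ] [SetLike.GradedSMul (GrSyz.stdGr k (Fin (r + 1))) ℳ]
    (F : GrSyz.FreeRes (GrSyz.stdGr k (Fin (r + 1))) ℳ) (hF : F.IsMinimal (GrSyz.irrel (GrSyz.stdGr k (Fin (r + 1)))).toIdeal) (i : ℕ) (d : ℤ)
    (h : ∀ a : Fin (F.rk i), d ≤ F.deg i a) (b : Fin (F.rk (i + 1))) :
    d + 1 ≤ F.deg (i + 1) b := by
  classical
  by_contra hcon
  push Not at hcon
  have hcol : ∀ a : Fin (F.rk i), F.d i a b = 0 := by
    intro a
    refine eq_zero_of_mem_stdGr_nonpos_of_mem_irrel k _ _ (F.deg (i + 1) b - F.deg i a) ?_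
      (F.d_mem i a b) (hF i a b)
    have := h a
    omega
  have hker : (Pi.single b 1 : Fin (F.rk (i + 1)) → MvPolynomial (Fin (r + 1)) k) ∈
      LinearMap.ker (Matrix.mulVecLin (F.d i)) := by
    rw [LinearMap.mem_ker, Matrix.mulVecLin_apply, Matrix.mulVec_single_one]
    funext a
    exact hcol a
  rw [F.exact_succ i] at hker
  obtain ⟨v, hv⟩ := hker
  have hb := congrFun hv b
  rw [Matrix.mulVecLin_apply, Pi.single_eq_same] at hb
  have hmem : (1 : MvPolynomial (Fin (r + 1)) k) ∈ (GrSyz.irrel (GrSyz.stdGr k (Fin (r + 1)))).toIdeal := by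
    rw [← hb]
    change ∑ c, F.d (i + 1) b c * v c ∈ _
    exact Ideal.sum_mem _ (fun c _ => Ideal.mul_mem_right _ _ (hF (i + 1) b c))
  have := constantCoeff_eq_zero_of_mem_irrel k _ _ hmem
  rw [map_one] at this
  exact one_ne_zero this

end Groth.Agent.S15431
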