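import Groth.Statements.S15427
import Mathlib
import Groth.Agent.S15431

set_option autoImplicit false
universe u
open GrSyz

namespace Groth.Agent.S15427

open Groth.Agent.S15431 in
theorem isUnit_of_mem_stdGr_of_not_mem_irrel (k : Type u) [Field k] (σ : Type*)
    (p : MvPolynomial σ k) (j : ℤ) (hpj : p ∈ GrSyz.stdGr k σ j)
    (hp : p ∉ (GrSyz.irrel (GrSyz.stdGr k σ)).toIdeal) : IsUnit p := by
  classical
  have hj : ¬ 0 < j := by
    intro hj
    exact hp (Ideal.subset_span ⟨j, hj, hpj⟩)
  have hpj' : p.IsWeightedHomogeneous (fun _ : σ => (1 : ℤ)) j := hpj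
  have hC : p = MvPolynomial.C (MvPolynomial.coeff 0 p) := by
    ext d
    rw [MvPolynomial.coeff_C]
    by_cases hd : d = 0
    · subst hd; simp
    · rw [if_neg (Ne.symm hd)]
      by_contra hne
      have h1 := hpj' hne
      have h2 := weight_one_pos d hd
      omega
  have hne : MvPolynomial.coeff 0 p ≠ 0 := by
    intro h0
    rw [h0, map_zero] at hC
    exact hp (hC ▸ zero_mem _)
  rw [hC]
  exact (isUnit_iff_ne_zero.mpr hne).map MvPolynomial.C

open Groth.Agent.S15431 in
theorem one_not_mem_irrel (k : Type u) [Field k] (σ : Type*) :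
    (1 : MvPolynomial σ k) ∉ (GrSyz.irrel (GrSyz.stdGr k σ)).toIdeal := by
  intro h
  have := constantCoeff_eq_zero_of_mem_irrel k σ _ h
  rw [map_one] at this
  exact one_ne_zero this

/-- If `v` has a unit coordinate at `b` and `∑ v c • x c = 0`, then `x b` is in the span of the others. -/
theorem mem_span_of_unit_coord {R N : Type*} [CommRing R] [AddCommGroup N] [Module R N] {n : ℕ}
    (x : Fin n → N) (v : Fin n → R) (b : Fin n) (hu : IsUnit (v b)) (hsum : ∑ c, v c • x c = 0) :
    x b ∈ Submodule.span R (x '' {b' | b' ≠ b}) := by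
  classical
  obtain ⟨u, hu⟩ := hu
  have h1 : v b • x b = - ∑ c ∈ Finset.univ.erase b, v c • x c := by
    rw [eq_neg_iff_add_eq_zero, ← hsum, ← Finset.add_sum_erase _ _ (Finset.mem_univ b)]
  have h2 : x b = (↑u⁻¹ : R) • (v b • x b) := by
    rw [smul_smul, ← hu, Units.inv_mul, one_smul]
  rw [h2, h1]
  refine Submodule.smul_mem _ _ (Submodule.neg_mem _ (Submodule.sum_mem _ (fun c hc => ?_)))
  refine Submodule.smul_mem _ _ (Submodule.subset_span ⟨c, ?_, rfl⟩)
  exact Finset.ne_of_mem_erase hc

/-- If `x b = ∑_{b' ≠ b} ...`, produce a vector `v` with `v b = 1` and `∑ v c • x c = 0`. -/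
theorem exists_vec_of_mem_span {R N : Type*} [CommRing R] [AddCommGroup N] [Module R N] {n : ℕ}
    (x : Fin n → N) (b : Fin n) (h : x b ∈ Submodule.span R (x '' {b' | b' ≠ b})) :
    ∃ v : Fin n → R, v b = 1 ∧ ∑ c, v c • x c = 0 := by
  classical
  rw [Submodule.mem_span_image_iff_exists_fun] at h
  obtain ⟨t, ht, c, hc⟩ := h
  refine ⟨fun j => if j = b then 1 else if hj : j ∈ t then - c ⟨j, hj⟩ else 0, by simp, ?_⟩
  rw [← Finset.add_sum_erase _ _ (Finset.mem_univ b)]
  simp only [if_true, one_smul]
  have : ∑ j ∈ Finset.univ.erase b, (if j = b then (1 : R) else if hj : j ∈ t then - c ⟨j, hj⟩ else 0) • x j =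
      - ∑ i : t, c i • x i := by
    rw [← Finset.sum_neg_distrib]
    have hsub : t ⊆ Finset.univ.erase b := by
      intro j hj
      have : j ≠ b := ht hj
      exact Finset.mem_erase.mpr ⟨this, Finset.mem_univ _⟩
    rw [← Finset.sum_subset hsub]
    · rw [← Finset.sum_attach t]
      refine Finset.sum_congr rfl ?_
      rintro ⟨j, hj⟩ _
      have hjb : j ≠ b := ht hj
      simp only [if_neg hjb, dif_pos hj, neg_smul]
    · intro j hj hjt
      have hjb : j ≠ b := Finset.ne_of_mem_erase hj
      simp only [if_neg hjb, dif_neg hjt, zero_smul]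
  rw [this, ← hc, add_neg_cancel]

/-- Let k be a field, S = k[x_0, …, x_r] graded by degree, 𝔪 = (x_0, …, x_r), M a finitely generated
ℤ-graded S-module and F a graded free resolution of M by free modules of finite rank with chosen
homogeneous bases, written as matrices d_i : F_{i+1} → F_i together with the images aug b ∈ M of the
basis of F_0. Then F is a minimal complex (every matrix entry lies in 𝔪) if and only if every map of
the resolution carries its basis to an irredundant (minimal) family of generators of its image: for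
each b, aug b is not in the S-span of the remaining aug b', and for each i and each column of d_i,
that column is not in the S-span of the remaining columns. -/
theorem result (k : Type u) [Field k] (r : ℕ)
    (M : Type u) [AddCommGroup M] [Module k M] [Module (MvPolynomial (Fin (r + 1)) k) M]
    [IsScalarTower k (MvPolynomial (Fin (r + 1)) k) M] [Module.Finite (MvPolynomial (Fin (r + 1)) k) M]
    (ℳ : ℤ → Submodule k M) [DirectSum.Decomposition ℳ] [SetLike.GradedSMul (GrSyz.stdGr k (Fin (r + 1))) ℳ]
    (F : GrSyz.FreeRes (GrSyz.stdGr k (Fin (r + 1))) ℳ) :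
    F.IsMinimal (GrSyz.irrel (GrSyz.stdGr k (Fin (r + 1)))).toIdeal ↔
      ((∀ b : Fin (F.rk 0), F.aug b ∉ Submodule.span (MvPolynomial (Fin (r + 1)) k) (F.aug '' {b' | b' ≠ b})) ∧
        ∀ (i : ℕ) (b : Fin (F.rk (i + 1))),
          (fun a => F.d i a b) ∉ Submodule.span (MvPolynomial (Fin (r + 1)) k) ((fun b' a => F.d i a b') '' {b' | b' ≠ b})) := by
  classical
  have hmulVec : ∀ (i : ℕ) (v : Fin (F.rk (i + 1)) → MvPolynomial (Fin (r + 1)) k),
      (F.d i).mulVec v = ∑ c, v c • (fun a => F.d i a c) := by
    intro i v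
    funext a
    rw [Finset.sum_apply]
    simp only [Matrix.mulVec, dotProduct, Pi.smul_apply, smul_eq_mul]
    exact Finset.sum_congr rfl (fun c _ => mul_comm _ _)
  constructor
  · intro hF
    have hrange : ∀ (i : ℕ) (w : Fin (F.rk (i + 1)) → MvPolynomial (Fin (r + 1)) k) (b : Fin (F.rk i)),
        (F.d i).mulVec w b ∈ (GrSyz.irrel (GrSyz.stdGr k (Fin (r + 1)))).toIdeal := by
      intro i w b
      change ∑ c, F.d i b c * w c ∈ _
      exact Ideal.sum_mem _ (fun c _ => Ideal.mul_mem_right _ _ (hF i b c))
    constructor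
    · intro b hb
      obtain ⟨v, hvb, hv⟩ := exists_vec_of_mem_span F.aug b hb
      have hker : v ∈ LinearMap.ker (Fintype.linearCombination (MvPolynomial (Fin (r + 1)) k) F.aug) := by
        rw [LinearMap.mem_ker, Fintype.linearCombination_apply]
        exact hv
      rw [F.exact_zero] at hker
      obtain ⟨w, hw⟩ := hker
      have := hrange 0 w b
      rw [Matrix.mulVecLin_apply] at hw
      rw [hw, hvb] at this
      exact one_not_mem_irrel k _ this
    · intro i b hb
      obtain ⟨v, hvb, hv⟩ := exists_vec_of_mem_span (fun b' a => F.d i a b') b hb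
      have hker : v ∈ LinearMap.ker (Matrix.mulVecLin (F.d i)) := by
        rw [LinearMap.mem_ker, Matrix.mulVecLin_apply, hmulVec]
        exact hv
      rw [F.exact_succ i] at hker
      obtain ⟨w, hw⟩ := hker
      have := hrange (i + 1) w b
      rw [Matrix.mulVecLin_apply] at hw
      rw [hw, hvb] at this
      exact one_not_mem_irrel k _ this
  · rintro ⟨h1, h2⟩ i a b
    by_contra hnot
    have hunit := isUnit_of_mem_stdGr_of_not_mem_irrel k _ _ _ (F.d_mem i a b) hnot
    have hcol : (fun a' => F.d i a' b) ∈ LinearMap.range (Matrix.mulVecLin (F.d i)) := by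
      refine ⟨Pi.single b 1, ?_⟩
      rw [Matrix.mulVecLin_apply, Matrix.mulVec_single_one]
      rfl
    cases i with
    | zero =>
      rw [← F.exact_zero, LinearMap.mem_ker, Fintype.linearCombination_apply] at hcol
      exact h1 a (mem_span_of_unit_coord F.aug (fun a' => F.d 0 a' b) a hunit hcol)
    | succ j =>
      rw [← F.exact_succ j, LinearMap.mem_ker, Matrix.mulVecLin_apply, hmulVec] at hcol
      exact h2 j a (mem_span_of_unit_coord (fun b' a'' => F.d j a'' b') (fun a' => F.d (j + 1) a' b) a hunit hcol)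

end Groth.Agent.S15427
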