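import Groth.Statements.S15436
import Mathlib
import Groth.Agent.H19.FreeResProj
import Groth.Agent.S15431
import Groth.Agent.S2374

set_option autoImplicit false
universe u
open GrSyz

namespace Groth.Agent.S15436

theorem irrel_eq_ker (k : Type u) [Field k] (σ : Type*) :
    (GrSyz.irrel (GrSyz.stdGr k σ)).toIdeal =
      RingHom.ker (MvPolynomial.constantCoeff (R := k) (σ := σ)) := by
  apply le_antisymm
  · intro p hp
    rw [RingHom.mem_ker]
    exact Groth.Agent.S15431.constantCoeff_eq_zero_of_mem_irrel k σ p hp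
  · intro p hp
    rw [RingHom.mem_ker] at hp
    rw [← MvPolynomial.support_sum_monomial_coeff p]
    apply Ideal.sum_mem
    intro d hd
    have hd0 : d ≠ 0 := by
      rintro rfl
      rw [MvPolynomial.mem_support_iff] at hd
      apply hd
      rwa [MvPolynomial.constantCoeff_eq] at hp
    change _ ∈ Ideal.span _
    apply Ideal.subset_span
    refine ⟨Finsupp.weight (fun _ : σ => (1 : ℤ)) d, Groth.Agent.S15431.weight_one_pos d hd0, ?_⟩
    exact MvPolynomial.isWeightedHomogeneous_monomial _ d _ rfl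

theorem irrel_isMaximal (k : Type u) [Field k] (σ : Type*) :
    (GrSyz.irrel (GrSyz.stdGr k σ)).toIdeal.IsMaximal := by
  rw [irrel_eq_ker]
  exact RingHom.ker_isMaximal_of_surjective _ (fun c => ⟨MvPolynomial.C c, by simp⟩)

open TensorProduct in
theorem lTensor_eq_zero {R : Type*} [CommRing R] (𝔪 : Ideal R) {m n : ℕ}
    (d : Matrix (Fin n) (Fin m) R) (hd : ∀ a b, d a b ∈ 𝔪) :
    LinearMap.lTensor (R ⧸ 𝔪) (Matrix.mulVecLin d) = 0 := by
  apply TensorProduct.ext'
  intro x v
  rw [LinearMap.lTensor_tmul, LinearMap.zero_apply]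
  have hv : Matrix.mulVecLin d v = ∑ a, (d.mulVec v a) • (Pi.single a (1 : R) : Fin n → R) := by
    rw [Matrix.mulVecLin_apply]
    conv_lhs => rw [pi_eq_sum_univ' (d.mulVec v)]
  rw [hv, TensorProduct.tmul_sum]
  apply Finset.sum_eq_zero
  intro a _
  rw [TensorProduct.tmul_smul, TensorProduct.smul_tmul']
  have hmem : d.mulVec v a ∈ 𝔪 := by
    rw [Matrix.mulVec, dotProduct]
    exact Ideal.sum_mem _ fun b _ => Ideal.mul_mem_right _ _ (hd a b)
  have hx : d.mulVec v a • x = 0 := by
    obtain ⟨y, rfl⟩ := Ideal.Quotient.mk_surjective x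
    rw [← Ideal.Quotient.mk_eq_mk, ← Submodule.Quotient.mk_smul, Submodule.Quotient.mk_eq_zero]
    exact Ideal.mul_mem_right _ _ hmem
  rw [hx, TensorProduct.zero_tmul]

open TensorProduct in
theorem length_tensor_pi {R : Type*} [CommRing R] (𝔪 : Ideal R) [𝔪.IsMaximal] (n : ℕ) :
    Module.length R ((R ⧸ 𝔪) ⊗[R] (Fin n → R)) = n := by
  have e : ((R ⧸ 𝔪) ⊗[R] (Fin n → R)) ≃ₗ[R] (Fin n → R ⧸ 𝔪) :=
    TensorProduct.piScalarRight R R (R ⧸ 𝔪) (Fin n)
  rw [e.length_eq, Module.length_pi_of_fintype]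
  have h1 : Module.length R (R ⧸ 𝔪) = 1 := by
    rw [Module.length_eq_one_iff, isSimpleModule_iff_isCoatom, ← Ideal.isMaximal_def]
    infer_instance
  simp [h1]

section
open CategoryTheory MonoidalCategory
variable {R : Type u} [CommRing R] {σ' : Type u} [SetLike σ' R] [AddSubgroupClass σ' R]
  {𝒜 : ℤ → σ'}
  {M : Type u} [AddCommGroup M] [Module R M] {τ : Type u} [SetLike τ M] [AddSubgroupClass τ M]
  {ℳ : ℤ → τ} [DirectSum.Decomposition ℳ] [SetLike.GradedSMul 𝒜 ℳ] (F : GrSyz.FreeRes 𝒜 ℳ)

theorem whisker_d_zero (𝔪 : Ideal R) (hF : F.IsMinimal 𝔪) (a b : ℕ) :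
    (ModuleCat.of R (R ⧸ 𝔪)) ◁ ((Groth.Agent.H19.FreeResProj.complex F).d a b) = 0 := by
  by_cases h : b + 1 = a
  · subst h
    rw [Groth.Agent.H19.FreeResProj.complex_d]
    apply ModuleCat.hom_ext
    exact lTensor_eq_zero 𝔪 (F.d b) (hF b)
  · rw [(Groth.Agent.H19.FreeResProj.complex F).shape a b h]
    exact MonoidalPreadditive.whiskerLeft_zero

theorem length_tor (𝔪 : Ideal R) [𝔪.IsMaximal] (hF : F.IsMinimal 𝔪) (i : ℕ) :
    Module.length R (((Tor (ModuleCat.{u} R) i).obj (ModuleCat.of R (R ⧸ 𝔪))).obj (ModuleCat.of R M)) =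
      (F.rk i : ℕ∞) := by
  let P := Groth.Agent.H19.FreeResProj.projRes F
  let k' := ModuleCat.of R (R ⧸ 𝔪)
  have e := P.isoLeftDerivedObj (tensorLeft k') i
  have h1 : Module.length R (((Tor (ModuleCat.{u} R) i).obj k').obj (ModuleCat.of R M)) =
      Module.length R ((HomologicalComplex.homologyFunctor (ModuleCat.{u} R) _ i).obj
        (((tensorLeft k').mapHomologicalComplex _).obj P.complex)) := e.toLinearEquiv.length_eq
  rw [h1]
  set K := ((tensorLeft k').mapHomologicalComplex (ComplexShape.down ℕ)).obj P.complex with hK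
  have hd : ∀ a b, K.d a b = 0 := fun a b => whisker_d_zero F 𝔪 hF a b
  have h2 := Groth.Agent.S2374.sc_length (K.sc i)
  have hf : (K.sc i).f = 0 := hd _ _
  have hg : (K.sc i).g = 0 := hd _ _
  rw [hf, hg] at h2
  have h0 : ∀ (X Y : ModuleCat.{u} R), Module.length R (LinearMap.range (0 : X ⟶ Y).hom) = 0 := by
    intro X Y
    have : LinearMap.range (0 : X ⟶ Y).hom = ⊥ := LinearMap.range_zero
    rw [this]
    exact Module.length_eq_zero
  rw [h0, h0, add_zero, add_zero] at h2
  change Module.length R (K.sc i).homology = _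
  rw [← h2]
  exact length_tensor_pi 𝔪 (F.rk i)
end

/-- Let k be a field, S = k[x_0, …, x_r] graded by degree, 𝔪 = (x_0, …, x_r), M a finitely generated
ℤ-graded S-module and F a minimal graded free resolution of M by free modules of finite rank with
homogeneous bases (all matrix entries in 𝔪). Then for every i the rank of F_i (the number of
elements of a minimal generating set of the i-th syzygy module) equals the length, i.e. the
dimension over k = S/𝔪, of Tor_i^S(S/𝔪, M), where Tor_i is the i-th left derived functor of S/𝔪 ⊗_S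
− on S-modules. (The published statement is the degree-by-degree refinement: F_i has exactly dim_k
Tor_i^S(k, M)_j basis vectors of degree j; the grading on Tor is not available here, so the counts
are summed over j.) -/
theorem result (k : Type u) [Field k] (r : ℕ)
    (M : Type u) [AddCommGroup M] [Module k M] [Module (MvPolynomial (Fin (r + 1)) k) M]
    [IsScalarTower k (MvPolynomial (Fin (r + 1)) k) M] [Module.Finite (MvPolynomial (Fin (r + 1)) k) M]
    (ℳ : ℤ → Submodule k M) [DirectSum.Decomposition ℳ] [SetLike.GradedSMul (GrSyz.stdGr k (Fin (r + 1))) ℳ]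
    (F : GrSyz.FreeRes (GrSyz.stdGr k (Fin (r + 1))) ℳ) (hF : F.IsMinimal (GrSyz.irrel (GrSyz.stdGr k (Fin (r + 1)))).toIdeal) (i : ℕ) :
    Module.length (MvPolynomial (Fin (r + 1)) k)
        (((CategoryTheory.Tor (ModuleCat.{u} (MvPolynomial (Fin (r + 1)) k)) i).obj
            (ModuleCat.of (MvPolynomial (Fin (r + 1)) k) ((MvPolynomial (Fin (r + 1)) k) ⧸ (GrSyz.irrel (GrSyz.stdGr k (Fin (r + 1)))).toIdeal))).obj
          (ModuleCat.of (MvPolynomial (Fin (r + 1)) k) M)) = (F.rk i : ℕ∞) := by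
  haveI := Groth.Agent.S15436.irrel_isMaximal k (Fin (r + 1))
  exact Groth.Agent.S15436.length_tor F _ hF i

end Groth.Agent.S15436
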