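import Groth.Statements.S12908
import Mathlib
import Groth.Agent.H29.DepthLib

set_option autoImplicit false
universe u
open CAlgX

namespace Groth.Agent.S12908


section Aux12908
variable {R : Type u} [CommRing R]

theorem det_smul_of_mulVec_zero {n : Type} [Fintype n] [DecidableEq n] (A : Matrix n n R)
    (u : n → R) (h : A.mulVec u = 0) : A.det • u = 0 := by
  calc A.det • u = (A.det • (1 : Matrix n n R)).mulVec u := by
        rw [Matrix.smul_mulVec, Matrix.one_mulVec]
    _ = (Matrix.adjugate A * A).mulVec u := by rw [Matrix.adjugate_mul]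
    _ = (Matrix.adjugate A).mulVec (A.mulVec u) := by rw [Matrix.mulVec_mulVec]
    _ = 0 := by rw [h, Matrix.mulVec_zero]

def Dm {t : ℕ} (Ψ : Matrix (Fin (t + 1)) (Fin t) R) (c : Fin (t + 1)) : R :=
  (Ψ.submatrix c.succAbove id).det

def Mw {t : ℕ} (Ψ : Matrix (Fin (t + 1)) (Fin t) R) (w : Fin (t + 1) → R) :
    Matrix (Fin (t + 1)) (Fin (t + 1)) R :=
  Matrix.of fun i => (Fin.cons (w i) (Ψ i) : Fin (t + 1) → R)

theorem Mw_zero {t : ℕ} (Ψ : Matrix (Fin (t + 1)) (Fin t) R) (w : Fin (t + 1) → R)
    (i : Fin (t + 1)) : Mw Ψ w i 0 = w i := by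
  simp [Mw]

theorem Mw_succ {t : ℕ} (Ψ : Matrix (Fin (t + 1)) (Fin t) R) (w : Fin (t + 1) → R)
    (i : Fin (t + 1)) (j : Fin t) : Mw Ψ w i j.succ = Ψ i j := by
  simp [Mw]

theorem Mw_sub {t : ℕ} (Ψ : Matrix (Fin (t + 1)) (Fin t) R) (w : Fin (t + 1) → R)
    (c : Fin (t + 1)) :
    (Mw Ψ w).submatrix c.succAbove Fin.succ = Ψ.submatrix c.succAbove id := by
  ext r j
  simp [Mw]

theorem det_Mw {t : ℕ} (Ψ : Matrix (Fin (t + 1)) (Fin t) R) (w : Fin (t + 1) → R) :
    (Mw Ψ w).det = ∑ i : Fin (t + 1), (-1 : R) ^ (i : ℕ) * w i * Dm Ψ i := by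
  rw [Matrix.det_succ_column_zero]
  refine Finset.sum_congr rfl fun i _ => ?_
  rw [Mw_sub, Mw_zero]
  rfl

theorem minorIdeal_eq {t : ℕ} (Ψ : Matrix (Fin (t + 1)) (Fin t) R) :
    CAlgX.minorIdeal Ψ t = Ideal.span (Set.range (Dm Ψ)) := by
  apply le_antisymm
  · unfold CAlgX.minorIdeal
    rw [Ideal.span_le]
    rintro _ ⟨⟨f, g⟩, rfl⟩
    show (Ψ.submatrix f g).det ∈ _
    by_cases hg : Function.Injective g
    · by_cases hf : Function.Injective f
      · have hc : ∃ c, c ∉ Set.range f := by
          by_contra hcon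
          push_neg at hcon
          have hsurj : Function.Surjective f := hcon
          have := Fintype.card_le_of_surjective f hsurj
          simp at this
        obtain ⟨c, hc⟩ := hc
        have hne : ∀ i, f i ≠ c := fun i h => hc ⟨i, h⟩
        choose τ hτ using fun i => Fin.exists_succAbove_eq (hne i)
        have hτinj : Function.Injective τ := fun i j hij => hf (by rw [← hτ i, ← hτ j, hij])
        let τe : Fin t ≃ Fin t := Equiv.ofBijective τ (Finite.injective_iff_bijective.mp hτinj)
        let σ : Fin t ≃ Fin t := Equiv.ofBijective g (Finite.injective_iff_bijective.mp hg)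
        have hsub : Ψ.submatrix f g =
            ((Ψ.submatrix c.succAbove id).submatrix τe id).submatrix id σ := by
          ext i j
          simp [τe, σ, hτ]
        rw [hsub, Matrix.det_permute', Matrix.det_permute]
        exact Ideal.mul_mem_left _ _ (Ideal.mul_mem_left _ _ (Ideal.subset_span ⟨c, rfl⟩))
      · rw [Function.Injective] at hf
        push_neg at hf
        obtain ⟨i, j, hij, hne⟩ := hf
        rw [Matrix.det_zero_of_row_eq hne (by ext k; simp [hij])]
        exact zero_mem _
    · rw [Function.Injective] at hg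
      push_neg at hg
      obtain ⟨i, j, hij, hne⟩ := hg
      rw [Matrix.det_zero_of_column_eq hne (fun k => by simp [hij])]
      exact zero_mem _
  · rw [Ideal.span_le]
    rintro _ ⟨c, rfl⟩
    exact Ideal.subset_span ⟨(c.succAbove, id), rfl⟩

open scoped Pointwise in
theorem main12908 [IsNoetherianRing R] (t : ℕ) (Ψ : Matrix (Fin (t + 1)) (Fin t) R)
    (hdepth : 2 ≤ LocCoh.idealDepth (CAlgX.minorIdeal Ψ t) R) (a : R)
    (ha : a ∈ nonZeroDivisors R) :
    LinearMap.ker Ψ.mulVecLin = ⊥ ∧
      LinearMap.ker (Fintype.linearCombination R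
          (fun i : Fin (t + 1) => a * ((-1 : R) ^ (i : ℕ) * (Ψ.submatrix i.succAbove id).det))) =
        LinearMap.range Ψ.mulVecLin ∧
      LinearMap.range (Fintype.linearCombination R
          (fun i : Fin (t + 1) => a * ((-1 : R) ^ (i : ℕ) * (Ψ.submatrix i.succAbove id).det))) =
        Ideal.span {a} * CAlgX.minorIdeal Ψ t := by
  have hJeq : CAlgX.minorIdeal Ψ t = Ideal.span (Set.range (Dm Ψ)) := minorIdeal_eq Ψ
  have hΔ : ∀ w : Fin (t + 1) → R, Fintype.linearCombination R
      (fun i : Fin (t + 1) => a * ((-1 : R) ^ (i : ℕ) * (Ψ.submatrix i.succAbove id).det)) w =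
      a * (Mw Ψ w).det := by
    intro w
    rw [Fintype.linearCombination_apply, det_Mw, Finset.mul_sum]
    refine Finset.sum_congr rfl fun i _ => ?_
    simp only [Dm, smul_eq_mul]
    ring
  have hsq : ∀ c : ℕ, ((-1 : R) ^ c) * ((-1 : R) ^ c) = 1 := fun c => by
    rw [← pow_add]
    exact Even.neg_one_pow ⟨c, rfl⟩
  -- regular elements from the depth hypothesis
  have hreg : CAlgX.minorIdeal Ψ t = ⊤ ∨ ∃ x y : R, x ∈ CAlgX.minorIdeal Ψ t ∧
      y ∈ CAlgX.minorIdeal Ψ t ∧ IsSMulRegular R x ∧ IsSMulRegular (QuotSMulTop x R) y := by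
    by_cases hI : CAlgX.minorIdeal Ψ t • (⊤ : Submodule R R) = ⊤
    · left
      rw [← hI, smul_eq_mul, Ideal.mul_top]
    · right
      obtain ⟨rs, hlen, hreg, hmem⟩ :=
        (Groth.Agent.H29.le_idealDepth_iff (CAlgX.minorIdeal Ψ t) R hI 2).mp
          (by exact_mod_cast hdepth)
      obtain ⟨x, y, rfl⟩ := List.length_eq_two.mp hlen
      rw [RingTheory.Sequence.isWeaklyRegular_cons_iff,
        RingTheory.Sequence.isWeaklyRegular_cons_iff] at hreg
      exact ⟨x, y, hmem x (by simp), hmem y (by simp), hreg.1, hreg.2.1⟩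
  have F1 : ∀ {n : ℕ} (v : Fin n → R), (∀ z ∈ CAlgX.minorIdeal Ψ t, z • v = 0) → v = 0 := by
    intro n v hv
    rcases hreg with htop | ⟨x, y, hx, -, hxreg, -⟩
    · have := hv 1 (by rw [htop]; trivial)
      rwa [one_smul] at this
    · funext j
      have h1 := congrFun (hv x hx) j
      exact hxreg.right_eq_zero_of_smul h1
  -- part 1
  have hker : LinearMap.ker Ψ.mulVecLin = ⊥ := by
    rw [LinearMap.ker_eq_bot']
    intro v hv
    rw [Matrix.mulVecLin_apply] at hv
    apply F1 v
    rw [hJeq]
    have hle : Ideal.span (Set.range (Dm Ψ)) ≤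
        LinearMap.ker (LinearMap.toSpanSingleton R (Fin t → R) v) := by
      rw [Ideal.span_le]
      rintro _ ⟨c, rfl⟩
      rw [SetLike.mem_coe, LinearMap.mem_ker, LinearMap.toSpanSingleton_apply]
      apply det_smul_of_mulVec_zero
      funext r
      exact congrFun hv (c.succAbove r)
    intro z hz
    have := hle hz
    rwa [LinearMap.mem_ker, LinearMap.toSpanSingleton_apply] at this
  have F2 : ∀ w : Fin (t + 1) → R,
      (∀ z ∈ CAlgX.minorIdeal Ψ t, z • w ∈ LinearMap.range Ψ.mulVecLin) →
      w ∈ LinearMap.range Ψ.mulVecLin := by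
    intro w hw
    rcases hreg with htop | ⟨x, y, hx, hy, hxreg, hyreg⟩
    · have := hw 1 (by rw [htop]; trivial)
      rwa [one_smul] at this
    · obtain ⟨p, hp⟩ := hw x hx
      obtain ⟨q, hq⟩ := hw y hy
      have h1 : y • p = x • q := by
        have h2 : Ψ.mulVecLin (y • p - x • q) = 0 := by
          rw [map_sub, map_smul, map_smul, hp, hq, smul_comm, sub_self]
        have h3 : y • p - x • q ∈ LinearMap.ker Ψ.mulVecLin := h2
        rw [hker, Submodule.mem_bot] at h3
        exact sub_eq_zero.mp h3
      have h4 : ∀ j, ∃ b : R, x • b = p j := by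
        intro j
        have h5 : y • (Submodule.Quotient.mk (p j) : QuotSMulTop x R) = 0 := by
          rw [← Submodule.Quotient.mk_smul, Submodule.Quotient.mk_eq_zero]
          have h6 : y • p j = x • q j := congrFun h1 j
          rw [h6]
          exact Submodule.smul_mem_pointwise_smul _ x ⊤ Submodule.mem_top
        have h7 := hyreg.right_eq_zero_of_smul h5
        rw [Submodule.Quotient.mk_eq_zero] at h7
        obtain ⟨b, -, hb⟩ := (Submodule.mem_smul_pointwise_iff_exists _ _ _).mp h7
        exact ⟨b, hb⟩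
      choose p' hp' using h4
      refine ⟨p', ?_⟩
      have h8 : x • (Ψ.mulVecLin p' - w) = 0 := by
        rw [smul_sub, ← map_smul, ← hp]
        have : x • p' = p := funext hp'
        rw [this, sub_self]
      have h9 : Ψ.mulVecLin p' - w = 0 := by
        funext j
        exact hxreg.right_eq_zero_of_smul (congrFun h8 j)
      exact sub_eq_zero.mp h9
  refine ⟨hker, ?_, ?_⟩
  · apply le_antisymm
    · intro w hw
      rw [LinearMap.mem_ker, hΔ] at hw
      have hdet : (Mw Ψ w).det = 0 := by
        have := (mem_nonZeroDivisors_iff.mp ha).2 ((Mw Ψ w).det)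
        exact this (by rw [mul_comm]; exact hw)
      apply F2 w
      rw [hJeq]
      have hle : Ideal.span (Set.range (Dm Ψ)) ≤
          (LinearMap.range Ψ.mulVecLin).comap (LinearMap.toSpanSingleton R (Fin (t + 1) → R) w) := by
        rw [Ideal.span_le]
        rintro _ ⟨c, rfl⟩
        rw [SetLike.mem_coe, Submodule.mem_comap, LinearMap.toSpanSingleton_apply]
        have hmem : ((-1 : R) ^ (c : ℕ) * Dm Ψ c) • w ∈ LinearMap.range Ψ.mulVecLin := by
          have hadj := Matrix.mul_adjugate (Mw Ψ w)
          rw [hdet, zero_smul] at hadj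
          refine ⟨fun j => - (Matrix.adjugate (Mw Ψ w)) j.succ c, ?_⟩
          funext r
          have h := congrFun (congrFun hadj r) c
          rw [Matrix.mul_apply, Fin.sum_univ_succ, Matrix.zero_apply] at h
          have hadj0 : Matrix.adjugate (Mw Ψ w) 0 c = (-1) ^ (c : ℕ) * Dm Ψ c := by
            rw [Matrix.adjugate_fin_succ_eq_det_submatrix, Fin.succAbove_zero, Mw_sub]
            simp [Dm]
          simp only [Mw_zero, Mw_succ, hadj0] at h
          rw [Matrix.mulVecLin_apply]
          simp only [Matrix.mulVec, dotProduct, Pi.smul_apply, smul_eq_mul, mul_neg,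
            Finset.sum_neg_distrib]
          linear_combination (-1 : R) * h
        have h2 := Submodule.smul_mem _ ((-1 : R) ^ (c : ℕ)) hmem
        rwa [smul_smul, ← mul_assoc, hsq, one_mul] at h2
      intro z hz
      have := hle hz
      rwa [Submodule.mem_comap, LinearMap.toSpanSingleton_apply] at this
    · rintro _ ⟨v, rfl⟩
      rw [LinearMap.mem_ker, hΔ, Matrix.mulVecLin_apply]
      have hdet : (Mw Ψ (Ψ.mulVec v)).det = 0 := by
        have hu : (Mw Ψ (Ψ.mulVec v)).mulVec (Fin.cons (-1) v : Fin (t + 1) → R) = 0 := by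
          funext r
          simp only [Matrix.mulVec, dotProduct, Fin.sum_univ_succ, Mw_zero, Mw_succ, Fin.cons_zero,
            Fin.cons_succ, Pi.zero_apply]
          ring
        have h1 := congrFun (det_smul_of_mulVec_zero _ _ hu) 0
        simpa using h1
      rw [hdet, mul_zero]
  · rw [Fintype.range_linearCombination, hJeq]
    apply le_antisymm
    · rw [Submodule.span_le]
      rintro _ ⟨c, rfl⟩
      exact Ideal.mul_mem_mul (Ideal.mem_span_singleton_self a)
        (Ideal.mul_mem_left _ _ (Ideal.subset_span ⟨c, rfl⟩))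
    · rw [Ideal.span_singleton_mul_le_iff]
      have hle : Ideal.span (Set.range (Dm Ψ)) ≤
          (Submodule.span R (Set.range fun i : Fin (t + 1) =>
            a * ((-1 : R) ^ (i : ℕ) * (Ψ.submatrix i.succAbove id).det))).comap
            (LinearMap.mulLeft R a) := by
        rw [Ideal.span_le]
        rintro _ ⟨c, rfl⟩
        rw [SetLike.mem_coe, Submodule.mem_comap, LinearMap.mulLeft_apply]
        have h1 : a * Dm Ψ c = (-1 : R) ^ (c : ℕ) *
            (a * ((-1 : R) ^ (c : ℕ) * (Ψ.submatrix c.succAbove id).det)) := by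
          have := hsq (c : ℕ)
          simp only [Dm]
          linear_combination (-(a * (Ψ.submatrix c.succAbove id).det)) * this
        rw [h1]
        exact Submodule.smul_mem _ _ (Submodule.subset_span ⟨c, rfl⟩)
      intro z hz
      have := hle hz
      rwa [Submodule.mem_comap, LinearMap.mulLeft_apply] at this

end Aux12908


/-- Let R be a Noetherian ring, t a natural number, Ψ a (t+1) × t matrix over R such that the
I_t(Ψ)-depth of R is at least 2, where I_t(Ψ) is the ideal generated by the t × t minors of Ψ, and a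
a non-zero-divisor of R. Put Δ_i = a · (-1)^i det Ψ_i, where Ψ_i is Ψ with row i deleted. Then 0 →
R^t → R^{t+1} → R, with first map Ψ and second map v ↦ Σ_i Δ_i v_i, is exact: Ψ is injective and the
kernel of the second map equals the image of Ψ; moreover the image of the second map is the ideal a
· I_t(Ψ). (The published statement adds that this ideal has depth 2 exactly when a is a unit; that
clause is not stated here.) -/
theorem result {R : Type u} [CommRing R] [IsNoetherianRing R] (t : ℕ)
    (Ψ : Matrix (Fin (t + 1)) (Fin t) R) (hdepth : 2 ≤ LocCoh.idealDepth (CAlgX.minorIdeal Ψ t) R)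
    (a : R) (ha : a ∈ nonZeroDivisors R) :
    LinearMap.ker Ψ.mulVecLin = ⊥ ∧
      LinearMap.ker (Fintype.linearCombination R
          (fun i : Fin (t + 1) => a * ((-1 : R) ^ (i : ℕ) * (Ψ.submatrix i.succAbove id).det))) =
        LinearMap.range Ψ.mulVecLin ∧
      LinearMap.range (Fintype.linearCombination R
          (fun i : Fin (t + 1) => a * ((-1 : R) ^ (i : ℕ) * (Ψ.submatrix i.succAbove id).det))) =
        Ideal.span {a} * CAlgX.minorIdeal Ψ t := by
  exact main12908 t Ψ hdepth a ha

end Groth.Agent.S12908
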