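import Groth.Statements.S12909
import Mathlib

set_option autoImplicit false
universe u
open CAlgX

namespace Groth.Agent.S12909


/-- alternating sum of ranks -/
def chi : ℕ → (ℕ → ℕ) → ℤ
  | 0, n => (n 0 : ℤ) - (n 1 : ℤ)
  | (e + 1), n => (n 0 : ℤ) - chi e (fun i => n (i + 1))

def SplitProp (S : Type u) [CommRing S] : Prop :=
  ∀ (a b : ℕ) (φ : (Fin a → S) →ₗ[S] (Fin b → S)), Function.Injective φ →
    ∃ c : ℕ, a + c = b ∧ Nonempty (((Fin b → S) ⧸ LinearMap.range φ) ≃ₗ[S] (Fin c → S))

open TensorProduct in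
theorem coord_mem_of_tmul_eq_zero {S : Type u} [CommRing S] [IsLocalRing S] {b : ℕ}
    (v : Fin b → S) (h : (1 : IsLocalRing.ResidueField S) ⊗ₜ[S] v = 0) (i : Fin b) :
    v i ∈ IsLocalRing.maximalIdeal S := by
  have h1 := congrArg (fun z => TensorProduct.rid S (IsLocalRing.ResidueField S)
    (LinearMap.lTensor (IsLocalRing.ResidueField S) (LinearMap.proj i : (Fin b → S) →ₗ[S] S) z)) h
  simp only [LinearMap.lTensor_tmul, LinearMap.proj_apply, TensorProduct.rid_tmul, map_zero] at h1
  rw [Algebra.smul_def, mul_one] at h1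
  exact (IsLocalRing.residue_eq_zero_iff (v i)).mp h1

open TensorProduct in
theorem tmul_eq_zero_of_coord_mem {S : Type u} [CommRing S] [IsLocalRing S] {a : ℕ}
    (v : Fin a → S) (h : ∀ j, v j ∈ IsLocalRing.maximalIdeal S) :
    (1 : IsLocalRing.ResidueField S) ⊗ₜ[S] v = 0 := by
  have hv : v = ∑ j, v j • (Pi.single j (1 : S) : Fin a → S) := by
    ext i; simp [Finset.sum_apply, Pi.single_apply]
  rw [hv, TensorProduct.tmul_sum]
  apply Finset.sum_eq_zero
  intro j _
  rw [TensorProduct.tmul_smul, TensorProduct.smul_tmul']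
  have h0 : v j • (1 : IsLocalRing.ResidueField S) = 0 := by
    rw [Algebra.smul_def, mul_one]
    exact (IsLocalRing.residue_eq_zero_iff (v j)).mpr (h j)
  rw [h0, TensorProduct.zero_tmul]

open TensorProduct in
theorem splitProp_of_depth_zero {S : Type u} [CommRing S] [IsLocalRing S]
    (y : S) (hy : y ≠ 0) (hmy : ∀ z ∈ IsLocalRing.maximalIdeal S, z * y = 0) : SplitProp S := by
  intro a b φ hφ
  have key : Function.Injective (φ.lTensor (IsLocalRing.ResidueField S)) := by
    rw [injective_iff_map_eq_zero]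
    intro z hz
    obtain ⟨v, rfl⟩ := TensorProduct.mk_surjective S (Fin a → S) (IsLocalRing.ResidueField S)
      IsLocalRing.residue_surjective z
    change (φ.lTensor _) ((1 : IsLocalRing.ResidueField S) ⊗ₜ[S] v) = 0 at hz
    rw [LinearMap.lTensor_tmul] at hz
    have h1 : ∀ i, φ v i ∈ IsLocalRing.maximalIdeal S := coord_mem_of_tmul_eq_zero (φ v) hz
    have h2 : φ (y • v) = 0 := by
      rw [map_smul]; ext i
      simp only [Pi.smul_apply, smul_eq_mul, Pi.zero_apply]
      rw [mul_comm]; exact hmy _ (h1 i)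
    have h3 : y • v = 0 := hφ (by rw [h2, map_zero])
    have h4 : ∀ j, v j ∈ IsLocalRing.maximalIdeal S := by
      intro j
      by_contra hj
      have hu : IsUnit (v j) := by
        by_contra hnu
        exact hj ((IsLocalRing.mem_maximalIdeal _).mpr hnu)
      have h5 : y * v j = 0 := by
        have := congrFun h3 j
        simpa using this
      exact hy ((hu.mul_left_eq_zero).mp h5)
    change (1 : IsLocalRing.ResidueField S) ⊗ₜ[S] v = 0
    exact tmul_eq_zero_of_coord_mem v h4
  haveI : Module.Free S ((Fin b → S) ⧸ LinearMap.range φ) :=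
    Module.free_of_lTensor_residueField_injective φ (LinearMap.range φ).mkQ
      (Submodule.mkQ_surjective _) φ.exact_map_mkQ_range key
  obtain ⟨ψ, hψ⟩ := (IsLocalRing.split_injective_iff_lTensor_residueField_injective φ).mpr key
  have hψ' : ∀ u, ψ (φ u) = u := fun u => LinearMap.congr_fun hψ u
  let θ : (Fin b → S) →ₗ[S] ((Fin a → S) × ((Fin b → S) ⧸ LinearMap.range φ)) :=
    ψ.prod (LinearMap.range φ).mkQ
  have hθ : Function.Bijective θ := by
    constructor
    · rw [injective_iff_map_eq_zero]
      intro x hx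
      have hx1 : ψ x = 0 := congrArg Prod.fst hx
      have hx2 : (LinearMap.range φ).mkQ x = 0 := congrArg Prod.snd hx
      rw [Submodule.mkQ_apply, Submodule.Quotient.mk_eq_zero] at hx2
      obtain ⟨u, rfl⟩ := hx2
      rw [hψ'] at hx1
      rw [hx1, map_zero]
    · rintro ⟨u, q⟩
      obtain ⟨q, rfl⟩ := Submodule.mkQ_surjective _ q
      refine ⟨φ u + (q - φ (ψ q)), ?_⟩
      have h1 : ∀ w, (LinearMap.range φ).mkQ (φ w) = 0 := fun w => by
        rw [Submodule.mkQ_apply, Submodule.Quotient.mk_eq_zero]; exact ⟨w, rfl⟩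
      apply Prod.ext
      · show ψ (φ u + (q - φ (ψ q))) = u
        rw [map_add, map_sub, hψ', hψ']; abel
      · show (LinearMap.range φ).mkQ (φ u + (q - φ (ψ q))) = (LinearMap.range φ).mkQ q
        rw [map_add, map_sub, h1, h1, zero_add, sub_zero]
  have hrank : Module.finrank S (Fin b → S) =
      Module.finrank S (Fin a → S) + Module.finrank S ((Fin b → S) ⧸ LinearMap.range φ) := by
    rw [(LinearEquiv.ofBijective θ hθ).finrank_eq, Module.finrank_prod]
  rw [Module.finrank_fin_fun, Module.finrank_fin_fun] at hrank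
  exact ⟨Module.finrank S ((Fin b → S) ⧸ LinearMap.range φ), hrank.symm,
    ⟨(Module.finBasis S ((Fin b → S) ⧸ LinearMap.range φ)).equivFun⟩⟩

theorem chain_free {S : Type u} [CommRing S] (hS : SplitProp S) :
    ∀ (e : ℕ) (n : ℕ → ℕ) (A : (i : ℕ) → Matrix (Fin (n i)) (Fin (n (i + 1))) S),
      (∀ i, i < e → LinearMap.ker (A i).mulVecLin = LinearMap.range (A (i + 1)).mulVecLin) →
      LinearMap.ker (A e).mulVecLin = ⊥ →
      ∃ c : ℕ, (c : ℤ) = chi e n ∧
        Nonempty (((Fin (n 0) → S) ⧸ LinearMap.range (A 0).mulVecLin) ≃ₗ[S] (Fin c → S)) := by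
  intro e
  induction e with
  | zero =>
    intro n A _ hlast
    obtain ⟨c, hc, ⟨ε⟩⟩ := hS (n 1) (n 0) (A 0).mulVecLin (LinearMap.ker_eq_bot.mp hlast)
    refine ⟨c, ?_, ⟨ε⟩⟩
    simp only [chi]
    omega
  | succ e ih =>
    intro n A hA hlast
    obtain ⟨c', hc', ⟨ε'⟩⟩ := ih (fun i => n (i + 1)) (fun i => A (i + 1))
      (fun i hi => hA (i + 1) (by omega)) hlast
    have h01 : LinearMap.ker (A 0).mulVecLin = LinearMap.range (A 1).mulVecLin := hA 0 (by omega)
    let q1 : ((Fin (n 1) → S) ⧸ LinearMap.range (A 1).mulVecLin) ≃ₗ[S]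
        ((Fin (n 1) → S) ⧸ LinearMap.ker (A 0).mulVecLin) := Submodule.quotEquivOfEq _ _ h01.symm
    let q2 := (A 0).mulVecLin.quotKerEquivRange
    let φ : (Fin c' → S) →ₗ[S] (Fin (n 0) → S) :=
      (LinearMap.range (A 0).mulVecLin).subtype ∘ₗ
        (q2.toLinearMap ∘ₗ (q1.toLinearMap ∘ₗ ε'.symm.toLinearMap))
    have hφinj : Function.Injective φ := by
      intro x y hxy
      apply ε'.symm.injective
      apply q1.injective
      apply q2.injective
      apply Subtype.ext
      exact hxy
    have hφrange : LinearMap.range φ = LinearMap.range (A 0).mulVecLin := by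
      apply le_antisymm
      · rintro _ ⟨x, rfl⟩
        exact (q2 (q1 (ε'.symm x))).2
      · intro y hy
        refine ⟨ε' (q1.symm (q2.symm ⟨y, hy⟩)), ?_⟩
        show ((q2 (q1 (ε'.symm (ε' (q1.symm (q2.symm ⟨y, hy⟩)))))) : Fin (n 0) → S) = y
        simp
    obtain ⟨c, hc, ⟨ε⟩⟩ := hS c' (n 0) φ hφinj
    refine ⟨c, ?_, ⟨(Submodule.quotEquivOfEq _ _ hφrange.symm).trans ε⟩⟩
    simp only [chi]
    omega

noncomputable def locPi (R S : Type u) [CommRing R] [CommRing S] [Algebra R S] (k : ℕ) :
    (Fin k → R) →ₗ[R] (Fin k → S) :=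
  LinearMap.pi fun i => (Algebra.linearMap R S) ∘ₗ LinearMap.proj i

theorem locPi_apply {R S : Type u} [CommRing R] [CommRing S] [Algebra R S] (k : ℕ)
    (x : Fin k → R) (i : Fin k) : locPi R S k x i = algebraMap R S (x i) := rfl

theorem locPi_isLoc {R S : Type u} [CommRing R] [CommRing S] [Algebra R S] (M : Submonoid R)
    [IsLocalization M S] (k : ℕ) : IsLocalizedModule M (locPi R S k) :=
  IsLocalizedModule.pi M (fun _ : Fin k => Algebra.linearMap R S)

theorem map_mulVecLin_eq {R S : Type u} [CommRing R] [CommRing S] [Algebra R S] (M : Submonoid R)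
    [IsLocalization M S] {a b : ℕ} (A : Matrix (Fin b) (Fin a) R) (z : Fin a → S) :
    haveI := locPi_isLoc (S := S) M a
    haveI := locPi_isLoc (S := S) M b
    IsLocalizedModule.map M (locPi R S a) (locPi R S b) A.mulVecLin z =
      (A.map (algebraMap R S)).mulVecLin z := by
  haveI := locPi_isLoc (S := S) M a
  haveI := locPi_isLoc (S := S) M b
  have h := IsLocalizedModule.linearMap_ext M (locPi R S a) (locPi R S b)
    (g := IsLocalizedModule.map M (locPi R S a) (locPi R S b) A.mulVecLin)
    (g' := ((A.map (algebraMap R S)).mulVecLin).restrictScalars R) (by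
      apply LinearMap.ext
      intro x
      simp only [LinearMap.comp_apply, IsLocalizedModule.map_apply, LinearMap.restrictScalars_apply]
      funext i
      rw [locPi_apply, Matrix.mulVecLin_apply, Matrix.mulVecLin_apply, RingHom.map_mulVec]
      rfl)
  exact LinearMap.congr_fun h z

theorem exact_loc {R S : Type u} [CommRing R] [CommRing S] [Algebra R S] (M : Submonoid R)
    [IsLocalization M S] {a b c : ℕ} (A : Matrix (Fin b) (Fin a) R) (B : Matrix (Fin c) (Fin b) R)
    (h : LinearMap.ker B.mulVecLin = LinearMap.range A.mulVecLin) :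
    LinearMap.ker (B.map (algebraMap R S)).mulVecLin =
      LinearMap.range (A.map (algebraMap R S)).mulVecLin := by
  haveI := locPi_isLoc (S := S) M a
  haveI := locPi_isLoc (S := S) M b
  haveI := locPi_isLoc (S := S) M c
  have hex : Function.Exact A.mulVecLin B.mulVecLin := (LinearMap.exact_iff).mpr h
  have hex' := IsLocalizedModule.map_exact M (locPi R S a) (locPi R S b) (locPi R S c)
    A.mulVecLin B.mulVecLin hex
  apply le_antisymm
  · intro z hz
    rw [LinearMap.mem_ker, ← map_mulVecLin_eq M B z] at hz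
    obtain ⟨u, hu⟩ := (hex' z).mp hz
    exact ⟨u, by rw [← map_mulVecLin_eq M A u]; exact hu⟩
  · rintro _ ⟨u, rfl⟩
    rw [LinearMap.mem_ker, ← map_mulVecLin_eq M A u, ← map_mulVecLin_eq M B]
    exact (hex' _).mpr ⟨u, rfl⟩

theorem inj_loc {R S : Type u} [CommRing R] [CommRing S] [Algebra R S] (M : Submonoid R)
    [IsLocalization M S] {a b : ℕ} (A : Matrix (Fin b) (Fin a) R)
    (h : LinearMap.ker A.mulVecLin = ⊥) :
    LinearMap.ker (A.map (algebraMap R S)).mulVecLin = ⊥ := by
  haveI := locPi_isLoc (S := S) M a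
  haveI := locPi_isLoc (S := S) M b
  have hinj := IsLocalizedModule.map_injective M (locPi R S a) (locPi R S b) A.mulVecLin
    (LinearMap.ker_eq_bot.mp h)
  rw [LinearMap.ker_eq_bot]
  intro z z' hzz
  apply hinj
  rw [map_mulVecLin_eq M A z, map_mulVecLin_eq M A z']
  exact hzz

theorem exact_loc_pi {R S : Type u} [CommRing R] [CommRing S] [Algebra R S] (M : Submonoid R)
    [IsLocalization M S] {a b : ℕ} (A : Matrix (Fin b) (Fin a) R) (π : (Fin b → R) →ₗ[R] R)
    (h : LinearMap.ker π = LinearMap.range A.mulVecLin) :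
    haveI := locPi_isLoc (S := S) M b
    Function.Exact (A.map (algebraMap R S)).mulVecLin
      (IsLocalizedModule.map M (locPi R S b) (Algebra.linearMap R S) π) := by
  haveI := locPi_isLoc (S := S) M a
  haveI := locPi_isLoc (S := S) M b
  have hex : Function.Exact A.mulVecLin π := (LinearMap.exact_iff).mpr h
  have hex' := IsLocalizedModule.map_exact M (locPi R S a) (locPi R S b) (Algebra.linearMap R S)
    A.mulVecLin π hex
  intro z
  rw [hex' z]
  constructor
  · rintro ⟨u, hu⟩
    exact ⟨u, by rw [← map_mulVecLin_eq M A u]; exact hu⟩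
  · rintro ⟨u, hu⟩
    exact ⟨u, by rw [map_mulVecLin_eq M A u]; exact hu⟩

theorem per_prime {R : Type u} [CommRing R] (P : Ideal R) [P.IsPrime]
    (w : R) (hw : P = Submodule.colon (⊥ : Submodule R R) {w})
    (e : ℕ) (n : ℕ → ℕ) (A : (i : ℕ) → Matrix (Fin (n i)) (Fin (n (i + 1))) R)
    (hA : ∀ i, i < e → LinearMap.ker (A i).mulVecLin = LinearMap.range (A (i + 1)).mulVecLin)
    (hlast : LinearMap.ker (A e).mulVecLin = ⊥) :
    ∃ c : ℕ, (c : ℤ) = chi e n ∧
      Nonempty (((Fin (n 0) → Localization.AtPrime P) ⧸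
        LinearMap.range ((A 0).map (algebraMap R (Localization.AtPrime P))).mulVecLin)
          ≃ₗ[Localization.AtPrime P] (Fin c → Localization.AtPrime P)) := by
  have hS : SplitProp (Localization.AtPrime P) := by
    apply splitProp_of_depth_zero (algebraMap R (Localization.AtPrime P) w)
    · intro h0
      rw [IsLocalization.map_eq_zero_iff P.primeCompl] at h0
      obtain ⟨⟨s, hs⟩, hsw⟩ := h0
      have hs' : s ∉ P := hs
      apply hs'
      rw [hw, Submodule.mem_colon_singleton, Submodule.mem_bot]
      exact hsw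
    · intro z hz
      rw [← Localization.AtPrime.map_eq_maximalIdeal] at hz
      have hle : Ideal.map (algebraMap R (Localization.AtPrime P)) P ≤
          LinearMap.ker (LinearMap.toSpanSingleton (Localization.AtPrime P) (Localization.AtPrime P)
            (algebraMap R (Localization.AtPrime P) w)) := by
        rw [Ideal.map_le_iff_le_comap]
        intro p hp
        rw [hw, Submodule.mem_colon_singleton, Submodule.mem_bot, smul_eq_mul] at hp
        rw [Ideal.mem_comap, LinearMap.mem_ker, LinearMap.toSpanSingleton_apply, smul_eq_mul,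
          ← map_mul, hp, map_zero]
      have := hle hz
      rw [LinearMap.mem_ker, LinearMap.toSpanSingleton_apply, smul_eq_mul] at this
      exact this
  apply chain_free hS e n (fun i => (A i).map (algebraMap R (Localization.AtPrime P)))
  · intro i hi
    exact exact_loc P.primeCompl (A (i + 1)) (A i) (hA i hi)
  · exact inj_loc P.primeCompl (A e) hlast


/-- Let R be a Noetherian ring and I a nonzero ideal with a finite free resolution 0 → R^{n_e} → … →
R^{n_1} → R^{n_0} → I → 0 with e ≥ 1: the map R^{n_{i+1}} → R^{n_i} is the matrix A_i, the map π :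
R^{n_0} → R is linear with image I, the kernel of π is the image of A_0, the kernel of A_i is the
image of A_{i+1} for 0 ≤ i ≤ e - 2, and A_{e-1} is injective. Then I contains a non-zero-divisor of
R. (The hypothesis that I is nonzero is implicit in the published statement: the zero ideal of a
domain has a finite free resolution and contains no non-zero-divisor.) -/
theorem result {R : Type u} [CommRing R] [IsNoetherianRing R]
    (e : ℕ) (he : 1 ≤ e) (n : ℕ → ℕ) (A : (i : ℕ) → Matrix (Fin (n i)) (Fin (n (i + 1))) R)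
    (π : (Fin (n 0) → R) →ₗ[R] R) (hI : LinearMap.range π ≠ ⊥)
    (h0 : LinearMap.ker π = LinearMap.range (A 0).mulVecLin)
    (hA : ∀ i, i + 2 ≤ e → LinearMap.ker (A i).mulVecLin = LinearMap.range (A (i + 1)).mulVecLin)
    (hlast : LinearMap.ker (A (e - 1)).mulVecLin = ⊥) :
    ∃ x : R, x ∈ LinearMap.range π ∧ x ∈ nonZeroDivisors R := by
  obtain ⟨e', rfl⟩ : ∃ e', e = e' + 1 := ⟨e - 1, by omega⟩
  have hA' : ∀ i, i < e' →
      LinearMap.ker (A i).mulVecLin = LinearMap.range (A (i + 1)).mulVecLin :=
    fun i hi => hA i (by omega)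
  have hlast' : LinearMap.ker (A e').mulVecLin = ⊥ := by simpa using hlast
  by_cases hχ : chi e' n = 0
  · exfalso
    apply hI
    rw [eq_bot_iff]
    rintro x ⟨v, rfl⟩
    rw [Submodule.mem_bot]
    by_contra hx
    obtain ⟨P, hP, hle⟩ := exists_le_isAssociatedPrime_of_isNoetherianRing R (π v) hx
    rw [isAssociatedPrime_iff] at hP
    obtain ⟨hPp, w, hw⟩ := hP
    haveI := hPp
    obtain ⟨c, hc, ⟨ε⟩⟩ := per_prime P w hw e' n A hA' hlast'
    have hc0 : c = 0 := by rw [hχ] at hc; exact_mod_cast hc
    subst hc0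
    haveI := locPi_isLoc (S := Localization.AtPrime P) P.primeCompl (n 0)
    have hsub : ∀ z : Fin (n 0) → Localization.AtPrime P,
        z ∈ LinearMap.range ((A 0).map (algebraMap R (Localization.AtPrime P))).mulVecLin := by
      intro z
      have h1 : (Submodule.Quotient.mk z : (Fin (n 0) → Localization.AtPrime P) ⧸
          LinearMap.range ((A 0).map (algebraMap R (Localization.AtPrime P))).mulVecLin) = 0 :=
        ε.injective (Subsingleton.elim _ _)
      exact (Submodule.Quotient.mk_eq_zero _).mp h1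
    have hex := exact_loc_pi (S := Localization.AtPrime P) P.primeCompl (A 0) π h0
    have h1 := (hex (locPi R (Localization.AtPrime P) (n 0) v)).mpr (hsub _)
    rw [IsLocalizedModule.map_apply, Algebra.linearMap_apply] at h1
    obtain ⟨⟨s, hs⟩, hsx⟩ :=
      (IsLocalization.map_eq_zero_iff P.primeCompl (Localization.AtPrime P) (π v)).mp h1
    have hs' : s ∉ P := hs
    apply hs'
    apply hle
    rw [Submodule.mem_colon_singleton, Submodule.mem_bot]
    exact hsx
  · by_contra hno
    push_neg at hno
    have hdisj : Disjoint ((LinearMap.range π : Ideal R) : Set R) (nonZeroDivisors R : Set R) := by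
      rw [Set.disjoint_left]
      intro x hx hx'
      exact hno x hx hx'
    have hlt := Ideal.bot_lt_annihilator_of_disjoint_nonZeroDivisors hdisj
    obtain ⟨y, hyann, hy0⟩ := (Submodule.ne_bot_iff _).mp hlt.ne'
    have hyI : ∀ v, y * π v = 0 := by
      intro v
      have h1 := Module.mem_annihilator.mp hyann (⟨π v, ⟨v, rfl⟩⟩ : (LinearMap.range π : Ideal R))
      have h2 := congrArg Subtype.val h1
      simpa using h2
    obtain ⟨P, hP, hle⟩ := exists_le_isAssociatedPrime_of_isNoetherianRing R y hy0
    rw [isAssociatedPrime_iff] at hP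
    obtain ⟨hPp, w, hw⟩ := hP
    haveI := hPp
    obtain ⟨c, hc, ⟨ε⟩⟩ := per_prime P w hw e' n A hA' hlast'
    have hc0 : c ≠ 0 := by
      intro h
      apply hχ
      rw [← hc, h]
      rfl
    obtain ⟨c', rfl⟩ : ∃ c', c = c' + 1 := ⟨c - 1, by omega⟩
    haveI := locPi_isLoc (S := Localization.AtPrime P) P.primeCompl (n 0)
    have hex := exact_loc_pi (S := Localization.AtPrime P) P.primeCompl (A 0) π h0
    have hkill : ∀ z : Fin (n 0) → Localization.AtPrime P,
        (algebraMap R (Localization.AtPrime P) y) • z ∈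
          LinearMap.range ((A 0).map (algebraMap R (Localization.AtPrime P))).mulVecLin := by
      intro z
      obtain ⟨⟨v, s⟩, hvs⟩ := IsLocalizedModule.surj P.primeCompl
        (locPi R (Localization.AtPrime P) (n 0)) z
      have hvs' : (s : R) • z = locPi R (Localization.AtPrime P) (n 0) v := hvs
      rw [algebraMap_smul]
      have h2 : (s : R) • (IsLocalizedModule.map P.primeCompl
          (locPi R (Localization.AtPrime P) (n 0)) (Algebra.linearMap R (Localization.AtPrime P)) π)
            (y • z) = 0 := by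
        rw [← map_smul, smul_comm, hvs', map_smul, IsLocalizedModule.map_apply,
          Algebra.linearMap_apply, Algebra.smul_def, ← map_mul, hyI v, map_zero]
      rw [Algebra.smul_def] at h2
      have h1 := ((IsLocalization.map_units (Localization.AtPrime P) s).mul_right_eq_zero).mp h2
      exact (hex (y • z)).mp h1
    obtain ⟨z, hz⟩ := Submodule.mkQ_surjective
      (LinearMap.range ((A 0).map (algebraMap R (Localization.AtPrime P))).mulVecLin)
      (ε.symm (Pi.single 0 1))
    have h3 : ε ((algebraMap R (Localization.AtPrime P) y) •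
        (Submodule.mkQ (LinearMap.range
          ((A 0).map (algebraMap R (Localization.AtPrime P))).mulVecLin) z)) = 0 := by
      rw [← map_smul (Submodule.mkQ _), Submodule.mkQ_apply,
        (Submodule.Quotient.mk_eq_zero _).mpr (hkill z), map_zero]
    rw [map_smul, hz, LinearEquiv.apply_symm_apply] at h3
    have h4 := congrFun h3 0
    simp at h4
    obtain ⟨⟨s, hs⟩, hsy⟩ :=
      (IsLocalization.map_eq_zero_iff P.primeCompl (Localization.AtPrime P) y).mp h4
    have hs' : s ∉ P := hs
    apply hs'
    apply hle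
    rw [Submodule.mem_colon_singleton, Submodule.mem_bot]
    exact hsy

end Groth.Agent.S12909
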