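import Groth.Statements.S12907
import Mathlib
import Groth.Agent.H29.DepthLib
import Groth.Agent.S12908
import Groth.Agent.S12909

set_option autoImplicit false
universe u
open CAlgX

namespace Groth.Agent.S12907


open Groth.Agent in
theorem rows_span_top {K : Type u} [Field K] {n m : ℕ} (M : Matrix (Fin n) (Fin m) K)
    (h : Function.Injective M.mulVec) : Submodule.span K (Set.range M.row) = ⊤ := by
  have h1 : M.rank = m := by
    unfold Matrix.rank
    rw [LinearMap.finrank_range_of_inj (f := M.mulVecLin) h, Module.finrank_fin_fun]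
  apply Submodule.eq_top_of_finrank_eq
  rw [← Matrix.rank_eq_finrank_span_row, h1, Module.finrank_fin_fun]

theorem exists_minor_ne_zero {K : Type u} [Field K] {n m : ℕ} (M : Matrix (Fin n) (Fin m) K)
    (h : Function.Injective M.mulVec) : ∃ f : Fin m → Fin n, (M.submatrix f id).det ≠ 0 := by
  classical
  have htop := rows_span_top M h
  obtain ⟨b, hbs, hbspan, hli⟩ := exists_linearIndependent K (Set.range M.row)
  have hbtop : ⊤ ≤ Submodule.span K (Set.range (Subtype.val : b → (Fin m → K))) := by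
    rw [Subtype.range_coe, hbspan, htop]
  let B : Module.Basis b K (Fin m → K) := Module.Basis.mk hli hbtop
  haveI : Finite b := Module.Finite.finite_basis B
  haveI : Fintype b := Fintype.ofFinite b
  have hcard : Fintype.card b = m := by
    rw [← Module.finrank_eq_card_basis B, Module.finrank_fin_fun]
  let e : Fin m ≃ b := (Fintype.equivFinOfCardEq hcard).symm
  have hch : ∀ j : Fin m, ∃ i : Fin n, M.row i = (e j : Fin m → K) := fun j => hbs (e j).2
  choose f hf using hch
  refine ⟨f, ?_⟩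
  have hli2 : LinearIndependent K (M.submatrix f id).row := by
    have h1 : (M.submatrix f id).row = (Subtype.val : b → (Fin m → K)) ∘ e := by
      funext j
      exact hf j
    rw [h1]
    exact hli.comp e e.injective
  have hu : IsUnit (M.submatrix f id) := Matrix.linearIndependent_rows_iff_isUnit.mp hli2
  exact ((Matrix.isUnit_iff_isUnit_det _).mp hu).ne_zero

theorem unit_minor {S : Type u} [CommRing S] [IsLocalRing S] {n m : ℕ}
    (Ψ' : Matrix (Fin n) (Fin m) S) (𝔞 : Ideal S) (y : S) (hy : y ∉ 𝔞)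
    (hmy : ∀ z ∈ IsLocalRing.maximalIdeal S, z * y ∈ 𝔞)
    (H : ∀ v : Fin m → S, (∀ i, (Ψ'.mulVec v) i ∈ 𝔞) → ∀ j, v j ∈ 𝔞) :
    ∃ f : Fin m → Fin n, IsUnit (Ψ'.submatrix f id).det := by
  have hinj : Function.Injective (Ψ'.map (IsLocalRing.residue S)).mulVec := by
    intro v1 v2 h12
    have hsub : (Ψ'.map (IsLocalRing.residue S)).mulVec (v1 - v2) = 0 := by
      rw [Matrix.mulVec_sub, h12, sub_self]
    have hl : ∃ v : Fin m → S, ∀ j, IsLocalRing.residue S (v j) = (v1 - v2) j := by
      choose g hg using fun j => IsLocalRing.residue_surjective ((v1 - v2) j)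
      exact ⟨g, hg⟩
    obtain ⟨v, hv⟩ := hl
    have hv' : (v1 - v2) = (IsLocalRing.residue S) ∘ v := funext fun j => (hv j).symm
    rw [hv'] at hsub
    have h1 : ∀ i, (Ψ'.mulVec v) i ∈ IsLocalRing.maximalIdeal S := by
      intro i
      rw [← IsLocalRing.residue_eq_zero_iff, RingHom.map_mulVec]
      exact congrFun hsub i
    have h2 : ∀ i, (Ψ'.mulVec (y • v)) i ∈ 𝔞 := by
      intro i
      rw [Matrix.mulVec_smul, Pi.smul_apply, smul_eq_mul, mul_comm]
      exact hmy _ (h1 i)
    have h3 := H (y • v) h2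
    have h4 : ∀ j, v j ∈ IsLocalRing.maximalIdeal S := by
      intro j
      by_contra hj
      have hu : IsUnit (v j) := by
        by_contra hnu
        exact hj ((IsLocalRing.mem_maximalIdeal _).mpr hnu)
      apply hy
      have h5 : y * v j ∈ 𝔞 := by simpa using h3 j
      obtain ⟨u, hu'⟩ := hu
      have h6 : y = (y * v j) * ↑u⁻¹ := by
        rw [← hu', mul_assoc, Units.mul_inv, mul_one]
      rw [h6]
      exact 𝔞.mul_mem_right _ h5
    have h5 : v1 - v2 = 0 := by
      rw [hv']
      funext j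
      exact (IsLocalRing.residue_eq_zero_iff _).mpr (h4 j)
    exact sub_eq_zero.mp h5
  obtain ⟨f, hf⟩ := exists_minor_ne_zero (Ψ'.map (IsLocalRing.residue S)) hinj
  refine ⟨f, ?_⟩
  have h6 : IsLocalRing.residue S ((Ψ'.submatrix f id).det) =
      ((Ψ'.map (IsLocalRing.residue S)).submatrix f id).det := by
    rw [RingHom.map_det]
    rfl
  by_contra hnu
  apply hf
  rw [← h6]
  exact (IsLocalRing.residue_eq_zero_iff _).mpr ((IsLocalRing.mem_maximalIdeal _).mpr hnu)

section AtP
variable {R : Type u} [CommRing R] (P : Ideal R) [P.IsPrime]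

local notation "SP" => Localization.AtPrime P

theorem depth_witness (x w : R) (hP : ∀ r, r ∈ P ↔ ∃ t, r * w = x * t) :
    algebraMap R SP w ∉ Ideal.span {algebraMap R SP x} ∧
    ∀ z ∈ IsLocalRing.maximalIdeal SP, z * algebraMap R SP w ∈ Ideal.span {algebraMap R SP x} := by
  constructor
  · intro hmem
    rw [Ideal.mem_span_singleton'] at hmem
    obtain ⟨a, ha⟩ := hmem
    obtain ⟨r, s, rfl⟩ := IsLocalization.exists_mk'_eq P.primeCompl a
    have h1 : algebraMap R SP (s * w) = algebraMap R SP (r * x) := by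
      calc algebraMap R SP (s * w) = algebraMap R SP s * algebraMap R SP w := map_mul _ _ _
        _ = algebraMap R SP s * (IsLocalization.mk' SP r s * algebraMap R SP x) := by rw [ha]
        _ = (IsLocalization.mk' SP r s * algebraMap R SP s) * algebraMap R SP x := by ring
        _ = algebraMap R SP r * algebraMap R SP x := by rw [IsLocalization.mk'_spec]
        _ = algebraMap R SP (r * x) := (map_mul _ _ _).symm
    obtain ⟨t, ht⟩ := (IsLocalization.eq_iff_exists P.primeCompl SP).mp h1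
    have h2 : ((t * s : P.primeCompl) : R) ∈ P := by
      rw [hP]
      refine ⟨t * r, ?_⟩
      rw [Submonoid.coe_mul]
      linear_combination ht
    exact (t * s).2 h2
  · intro z hz
    rw [← Localization.AtPrime.map_eq_maximalIdeal] at hz
    have hle : Ideal.map (algebraMap R SP) P ≤
        Submodule.colon (Ideal.span {algebraMap R SP x}) {algebraMap R SP w} := by
      rw [Ideal.map_le_iff_le_comap]
      intro p hp
      obtain ⟨t, ht⟩ := (hP p).mp hp
      rw [Ideal.mem_comap, Submodule.mem_colon_singleton, smul_eq_mul, ← map_mul, ht, map_mul]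
      exact Ideal.mul_mem_right _ _ (Ideal.mem_span_singleton_self _)
    have h := hle hz
    rwa [Submodule.mem_colon_singleton, smul_eq_mul] at h

theorem minor_not_le (x w : R) (hP : ∀ r, r ∈ P ↔ ∃ t, r * w = x * t)
    (hx : x = 0 ∨ x ∈ nonZeroDivisors R)
    {n m : ℕ} (Ψ : Matrix (Fin n) (Fin m) R) (π : (Fin n → R) →ₗ[R] R)
    (hΨ : LinearMap.ker Ψ.mulVecLin = ⊥) (hex : LinearMap.ker π = LinearMap.range Ψ.mulVecLin) :
    ¬ (CAlgX.minorIdeal Ψ m ≤ P) := by
  have hΨ' := S12909.inj_loc (S := SP) P.primeCompl Ψ hΨ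
  haveI := S12909.locPi_isLoc (S := SP) P.primeCompl n
  have hex' := S12909.exact_loc_pi (S := SP) P.primeCompl Ψ π hex
  obtain ⟨hy, hmy⟩ := depth_witness P x w hP
  have H : ∀ v : Fin m → SP, (∀ i, ((Ψ.map (algebraMap R SP)).mulVec v) i ∈
      Ideal.span {algebraMap R SP x}) → ∀ j, v j ∈ Ideal.span {algebraMap R SP x} := by
    intro v hv j
    rcases hx with hx0 | hxr
    · have hv0 : (Ψ.map (algebraMap R SP)).mulVecLin v = 0 := by
        funext i
        have h := hv i
        rw [hx0, map_zero, Ideal.span_singleton_eq_bot.mpr rfl, Submodule.mem_bot] at h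
        exact h
      have hk : v ∈ LinearMap.ker (Ψ.map (algebraMap R SP)).mulVecLin := hv0
      rw [hΨ', Submodule.mem_bot] at hk
      rw [hk]
      exact Ideal.zero_mem _
    · have hu : ∀ i, ∃ u, ((Ψ.map (algebraMap R SP)).mulVec v) i = algebraMap R SP x * u := by
        intro i
        obtain ⟨u, hu⟩ := Ideal.mem_span_singleton'.mp (hv i)
        exact ⟨u, by rw [← hu, mul_comm]⟩
      choose u hu using hu
      have h1 : (Ψ.map (algebraMap R SP)).mulVecLin v = x • u := by
        funext i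
        rw [Matrix.mulVecLin_apply, hu i, Pi.smul_apply, Algebra.smul_def]
      have h2 := (hex' ((Ψ.map (algebraMap R SP)).mulVecLin v)).mpr ⟨v, rfl⟩
      rw [h1, map_smul, Algebra.smul_def] at h2
      have hx' : algebraMap R SP x ∈ nonZeroDivisors SP :=
        IsLocalization.map_nonZeroDivisors_le P.primeCompl SP (Submonoid.mem_map_of_mem _ hxr)
      have h3 := ((mem_nonZeroDivisors_iff.mp hx').1 _ h2)
      obtain ⟨v', hv'⟩ := (hex' u).mp h3
      have h4 : (Ψ.map (algebraMap R SP)).mulVecLin (v - algebraMap R SP x • v') = 0 := by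
        rw [map_sub, map_smul, hv', h1, algebraMap_smul, sub_self]
      have hk : v - algebraMap R SP x • v' ∈ LinearMap.ker (Ψ.map (algebraMap R SP)).mulVecLin :=
        h4
      rw [hΨ', Submodule.mem_bot, sub_eq_zero] at hk
      rw [hk]
      exact Ideal.mem_span_singleton'.mpr ⟨v' j, by simp [mul_comm]⟩
  obtain ⟨f, hf⟩ := unit_minor (Ψ.map (algebraMap R SP)) (Ideal.span {algebraMap R SP x})
    (algebraMap R SP w) hy hmy H
  intro hle
  have hd : (Ψ.submatrix f id).det ∈ CAlgX.minorIdeal Ψ m :=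
    Ideal.subset_span ⟨(f, id), rfl⟩
  have hdP := hle hd
  have h7 : algebraMap R SP (Ψ.submatrix f id).det =
      ((Ψ.map (algebraMap R SP)).submatrix f id).det := by
    rw [RingHom.map_det]
    rfl
  rw [← h7] at hf
  exact ((IsLocalization.AtPrime.isUnit_to_map_iff SP P _).mp hf) hdP

theorem local_rank (w : R) (hP : ∀ r, r ∈ P ↔ r * w = 0)
    {n m : ℕ} (Ψ : Matrix (Fin n) (Fin m) R) (π : (Fin n → R) →ₗ[R] R)
    (hΨ : LinearMap.ker Ψ.mulVecLin = ⊥) (hex : LinearMap.ker π = LinearMap.range Ψ.mulVecLin)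
    (v : Fin n → R) (hv : ∀ s, s * π v = 0 → s ∈ P) : n = m + 1 := by
  have hP' : ∀ r, r ∈ P ↔ ∃ t, r * w = 0 * t := by
    intro r
    rw [hP]
    constructor
    · intro h; exact ⟨0, by rw [h, zero_mul]⟩
    · rintro ⟨t, ht⟩; rw [ht, zero_mul]
  obtain ⟨hy, hmy⟩ := depth_witness P 0 w hP'
  rw [map_zero, Ideal.span_singleton_eq_bot.mpr rfl] at hy hmy
  have hS : S12909.SplitProp SP := by
    apply S12909.splitProp_of_depth_zero (algebraMap R SP w)
    · intro h0; exact hy (by rw [h0]; exact Submodule.zero_mem _)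
    · intro z hz; exact (Submodule.mem_bot _).mp (hmy z hz)
  have hΨ' := S12909.inj_loc (S := SP) P.primeCompl Ψ hΨ
  haveI := S12909.locPi_isLoc (S := SP) P.primeCompl n
  have hex' := S12909.exact_loc_pi (S := SP) P.primeCompl Ψ π hex
  obtain ⟨c, hc, ⟨ε⟩⟩ := hS m n (Ψ.map (algebraMap R SP)).mulVecLin (LinearMap.ker_eq_bot.mp hΨ')
  have hquot : ∀ z : Fin n → SP, IsLocalizedModule.map P.primeCompl (S12909.locPi R SP n)
      (Algebra.linearMap R SP) π z = 0 →
      (Submodule.mkQ (LinearMap.range (Ψ.map (algebraMap R SP)).mulVecLin) z) = 0 := by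
    intro z hz
    obtain ⟨u, hu⟩ := (hex' z).mp hz
    rw [Submodule.mkQ_apply, Submodule.Quotient.mk_eq_zero]
    exact ⟨u, hu⟩
  rcases c with _ | _ | c'
  · -- c = 0
    exfalso
    have hsub : ∀ z : Fin n → SP,
        z ∈ LinearMap.range (Ψ.map (algebraMap R SP)).mulVecLin := by
      intro z
      have h1 : (Submodule.Quotient.mk z : (Fin n → SP) ⧸
          LinearMap.range (Ψ.map (algebraMap R SP)).mulVecLin) = 0 :=
        ε.injective (Subsingleton.elim _ _)
      exact (Submodule.Quotient.mk_eq_zero _).mp h1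
    have h1 := (hex' (S12909.locPi R SP n v)).mpr (hsub _)
    rw [IsLocalizedModule.map_apply, Algebra.linearMap_apply] at h1
    obtain ⟨⟨s, hs⟩, hsx⟩ := (IsLocalization.map_eq_zero_iff P.primeCompl SP (π v)).mp h1
    have hs' : s ∉ P := hs
    exact hs' (hv s hsx)
  · omega
  · -- c ≥ 2
    exfalso
    obtain ⟨z0, hz0⟩ := Submodule.mkQ_surjective
      (LinearMap.range (Ψ.map (algebraMap R SP)).mulVecLin) (ε.symm (Pi.single 0 1))
    obtain ⟨z1, hz1⟩ := Submodule.mkQ_surjective
      (LinearMap.range (Ψ.map (algebraMap R SP)).mulVecLin) (ε.symm (Pi.single 1 1))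
    let πL : (Fin n → SP) →ₗ[SP] SP := (IsLocalizedModule.map P.primeCompl (S12909.locPi R SP n)
      (Algebra.linearMap R SP) π).extendScalarsOfIsLocalization P.primeCompl SP
    have hπL : ∀ z, IsLocalizedModule.map P.primeCompl (S12909.locPi R SP n)
      (Algebra.linearMap R SP) π z = πL z := fun z => rfl
    have h1 : πL (πL z1 • z0 - πL z0 • z1) = 0 := by
      rw [map_sub, map_smul, map_smul, smul_eq_mul, smul_eq_mul, mul_comm, sub_self]
    have h2 := hquot _ ((hπL _).trans h1)
    rw [map_sub, map_smul, map_smul, hz0, hz1] at h2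
    have h2' := congrArg ε h2
    rw [map_sub, map_smul, map_smul, ε.apply_symm_apply, ε.apply_symm_apply, map_zero] at h2'
    have h3 := congrFun h2' 0
    have h4 := congrFun h2' 1
    simp at h3 h4
    have h5 := hquot z0 ((hπL _).trans h4)
    rw [hz0] at h5
    have h6 : (Pi.single 0 1 : Fin (c' + 1 + 1) → SP) = 0 := by
      have h := congrArg ε h5
      rwa [map_zero, ε.apply_symm_apply] at h
    have h7 := congrFun h6 0
    simp at h7

end AtP

theorem exists_pair {R : Type u} [CommRing R] [IsNoetherianRing R] (m n : ℕ)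
    (Ψ : Matrix (Fin n) (Fin m) R) (π : (Fin n → R) →ₗ[R] R)
    (hΨ : LinearMap.ker Ψ.mulVecLin = ⊥) (hex : LinearMap.ker π = LinearMap.range Ψ.mulVecLin) :
    ∃ x1 ∈ CAlgX.minorIdeal Ψ m, ∃ x2 ∈ CAlgX.minorIdeal Ψ m,
      x1 ∈ nonZeroDivisors R ∧ IsSMulRegular (QuotSMulTop x1 R) x2 := by
  have hx1 : ∃ x1 ∈ CAlgX.minorIdeal Ψ m, x1 ∈ nonZeroDivisors R := by
    by_contra hcon
    push_neg at hcon
    have hsub : ((CAlgX.minorIdeal Ψ m : Ideal R) : Set R) ⊆
        ⋃ P ∈ associatedPrimes R R, ((id P : Ideal R) : Set R) := by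
      intro x hx
      have h := hcon x hx
      simp only [id]
      rw [biUnion_associatedPrimes_eq_compl_nonZeroDivisors]
      exact h
    obtain ⟨P, hP, hle⟩ := ((CAlgX.minorIdeal Ψ m).subset_union_prime_finite
      (associatedPrimes.finite R R) (f := id) 0 0 (fun _ h _ _ => h.1)).1 hsub
    rw [AssociatedPrimes.mem_iff, isAssociatedPrime_iff] at hP
    obtain ⟨hPp, w, hw⟩ := hP
    haveI := hPp
    refine minor_not_le P 0 w (fun r => ?_) (Or.inl rfl) Ψ π hΨ hex hle
    rw [hw, Submodule.mem_colon_singleton, Submodule.mem_bot, smul_eq_mul]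
    constructor
    · intro h; exact ⟨0, by rw [h, zero_mul]⟩
    · rintro ⟨t, ht⟩; rw [ht, zero_mul]
  obtain ⟨x1, hx1J, hx1r⟩ := hx1
  refine ⟨x1, hx1J, ?_⟩
  by_contra hcon
  push_neg at hcon
  have hsub : ((CAlgX.minorIdeal Ψ m : Ideal R) : Set R) ⊆
      ⋃ P ∈ associatedPrimes R (QuotSMulTop x1 R), ((id P : Ideal R) : Set R) := by
    intro x hx
    have h := hcon x hx hx1r
    rw [isSMulRegular_iff_right_eq_zero_of_smul] at h
    push_neg at h
    obtain ⟨q, hq, hq0⟩ := h
    simp only [id]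
    rw [biUnion_associatedPrimes_eq_zero_divisors]
    exact ⟨q, hq0, hq⟩
  obtain ⟨Q, hQ, hle⟩ := ((CAlgX.minorIdeal Ψ m).subset_union_prime_finite
    (associatedPrimes.finite R (QuotSMulTop x1 R)) (f := id) 0 0 (fun _ h _ _ => h.1)).1 hsub
  rw [AssociatedPrimes.mem_iff, isAssociatedPrime_iff] at hQ
  obtain ⟨hQp, wbar, hw⟩ := hQ
  obtain ⟨w, rfl⟩ := Submodule.mkQ_surjective _ wbar
  haveI := hQp
  refine minor_not_le Q x1 w (fun r => ?_) (Or.inr hx1r) Ψ π hΨ hex hle
  rw [hw, Submodule.mem_colon_singleton, Submodule.mem_bot, ← map_smul, Submodule.mkQ_apply,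
    Submodule.Quotient.mk_eq_zero, Submodule.mem_smul_pointwise_iff_exists]
  simp only [Submodule.mem_top, true_and, smul_eq_mul]
  constructor
  · rintro ⟨t, ht⟩; exact ⟨t, ht.symm⟩
  · rintro ⟨t, ht⟩; exact ⟨t, ht.symm⟩

def nn (n m : ℕ) : ℕ → ℕ
  | 0 => n
  | _ + 1 => m

def AA {R : Type u} [CommRing R] {n m : ℕ} (Ψ : Matrix (Fin n) (Fin m) R) :
    (i : ℕ) → Matrix (Fin (nn n m i)) (Fin (nn n m (i + 1))) R
  | 0 => Ψ
  | _ + 1 => 0


/-- Let R be a Noetherian ring and I a nonzero ideal admitting a free resolution 0 → R^m → R^n → I → 0: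
an injective matrix Ψ with n rows and m columns, and a linear map π : R^n → R with image I whose
kernel is the image of Ψ. Then n = m + 1; there is a non-zero-divisor a with I = a · I_m(Ψ), where
I_m(Ψ) is the ideal generated by the m × m minors of Ψ; and the I_m(Ψ)-depth of R is at least 2.
(The published statement also asserts that this depth is exactly 2; only the lower bound is stated
here. The hypothesis that I is nonzero is implicit in the published statement.) -/
theorem result {R : Type u} [CommRing R] [IsNoetherianRing R] (m n : ℕ)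
    (Ψ : Matrix (Fin n) (Fin m) R) (π : (Fin n → R) →ₗ[R] R)
    (hΨ : LinearMap.ker Ψ.mulVecLin = ⊥) (hex : LinearMap.ker π = LinearMap.range Ψ.mulVecLin)
    (hI : LinearMap.range π ≠ ⊥) :
    n = m + 1 ∧
      (∃ a : R, a ∈ nonZeroDivisors R ∧ LinearMap.range π = Ideal.span {a} * CAlgX.minorIdeal Ψ m) ∧
      2 ≤ LocCoh.idealDepth (CAlgX.minorIdeal Ψ m) R := by
  -- a nonzero element of I and an associated prime containing its annihilator
  obtain ⟨x0, hx0I, hx00⟩ := (Submodule.ne_bot_iff _).mp hI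
  obtain ⟨v0, rfl⟩ := hx0I
  obtain ⟨P, hP, hleP⟩ := exists_le_isAssociatedPrime_of_isNoetherianRing R (π v0) hx00
  rw [isAssociatedPrime_iff] at hP
  obtain ⟨hPp, w, hw⟩ := hP
  haveI := hPp
  have hn : n = m + 1 := by
    refine local_rank P w (fun r => ?_) Ψ π hΨ hex v0 (fun s hs => ?_)
    · rw [hw, Submodule.mem_colon_singleton, Submodule.mem_bot, smul_eq_mul]
    · apply hleP
      rw [Submodule.mem_colon_singleton, Submodule.mem_bot, smul_eq_mul]
      exact hs
  subst hn
  refine ⟨rfl, ?_⟩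
  obtain ⟨x1, hx1J, x2, hx2J, hr1, hr2⟩ := exists_pair m (m + 1) Ψ π hΨ hex
  have hr1' : IsSMulRegular R x1 := by
    rw [isSMulRegular_iff_right_eq_zero_of_smul]
    intro z hz
    exact (mem_nonZeroDivisors_iff.mp hr1).1 z hz
  have hdepth : 2 ≤ LocCoh.idealDepth (CAlgX.minorIdeal Ψ m) R := by
    by_cases hJ : (CAlgX.minorIdeal Ψ m) • (⊤ : Submodule R R) = ⊤
    · unfold LocCoh.idealDepth
      rw [if_pos hJ]
      exact le_top
    · have h := (Groth.Agent.H29.le_idealDepth_iff (CAlgX.minorIdeal Ψ m) R hJ 2).mpr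
        ⟨[x1, x2], rfl, ?_, ?_⟩
      · exact_mod_cast h
      · rw [RingTheory.Sequence.isWeaklyRegular_cons_iff]
        refine ⟨hr1', ?_⟩
        rw [RingTheory.Sequence.isWeaklyRegular_cons_iff]
        exact ⟨hr2, RingTheory.Sequence.IsWeaklyRegular.nil _ _⟩
      · intro r hr
        simp only [List.mem_cons, List.not_mem_nil, or_false] at hr
        rcases hr with rfl | rfl
        · exact hx1J
        · exact hx2J
  refine ⟨?_, hdepth⟩
  obtain ⟨_, hkerΔ, hrangeΔ⟩ := Groth.Agent.S12908.result m Ψ hdepth 1 (one_mem _)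
  set Δ := Fintype.linearCombination R
    (fun i : Fin (m + 1) => 1 * ((-1 : R) ^ (i : ℕ) * (Ψ.submatrix i.succAbove id).det)) with hΔ
  have hJΔ : LinearMap.range Δ = CAlgX.minorIdeal Ψ m := by
    rw [hrangeΔ, Ideal.span_singleton_one, Ideal.top_mul]
  have hker : LinearMap.ker π = LinearMap.ker Δ := by rw [hex, hkerΔ]
  obtain ⟨v1, hv1⟩ : x1 ∈ LinearMap.range Δ := by rw [hJΔ]; exact hx1J
  obtain ⟨v2, hv2⟩ : x2 ∈ LinearMap.range Δ := by rw [hJΔ]; exact hx2J
  have hstar : ∀ v, x1 * π v = Δ v * π v1 := by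
    intro v
    have hmem : x1 • v - Δ v • v1 ∈ LinearMap.ker Δ := by
      rw [LinearMap.mem_ker, map_sub, map_smul, map_smul, hv1, smul_eq_mul, smul_eq_mul,
        mul_comm, sub_self]
    rw [← hker, LinearMap.mem_ker, map_sub, map_smul, map_smul, smul_eq_mul, smul_eq_mul,
      sub_eq_zero] at hmem
    exact hmem
  have h12 : x2 * π v1 = x1 * π v2 := by
    have h := hstar v2
    rw [hv2] at h
    exact h.symm
  obtain ⟨a, ha⟩ : ∃ a, π v1 = x1 * a := by
    have hq : x2 • (Submodule.Quotient.mk (π v1) : QuotSMulTop x1 R) = 0 := by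
      rw [← Submodule.Quotient.mk_smul, Submodule.Quotient.mk_eq_zero,
        Submodule.mem_smul_pointwise_iff_exists]
      exact ⟨π v2, Submodule.mem_top, by rw [smul_eq_mul, smul_eq_mul, h12]⟩
    have h := hr2.right_eq_zero_of_smul hq
    rw [Submodule.Quotient.mk_eq_zero, Submodule.mem_smul_pointwise_iff_exists] at h
    obtain ⟨t, _, ht⟩ := h
    exact ⟨t, ht.symm⟩
  have hπ : ∀ v, π v = a * Δ v := by
    intro v
    have h := hstar v
    rw [ha] at h
    have h' : x1 • π v = x1 • (a * Δ v) := by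
      rw [smul_eq_mul, smul_eq_mul, h]; ring
    exact hr1' h'
  have hres : ∃ x : R, x ∈ LinearMap.range π ∧ x ∈ nonZeroDivisors R :=
    Groth.Agent.S12909.result 1 le_rfl (nn (m + 1) m) (AA Ψ) π hI hex
      (fun i hi => absurd hi (by omega)) hΨ
  obtain ⟨r, hrI, hrn⟩ := hres
  obtain ⟨vr, rfl⟩ := hrI
  refine ⟨a, ?_, ?_⟩
  · rw [hπ vr] at hrn
    exact (mul_mem_nonZeroDivisors.mp hrn).1
  · apply le_antisymm
    · rintro _ ⟨v, rfl⟩
      rw [hπ v]
      refine Ideal.mul_mem_mul (Ideal.mem_span_singleton_self a) ?_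
      rw [← hJΔ]
      exact ⟨v, rfl⟩
    · rw [Ideal.span_singleton_mul_le_iff]
      intro z hz
      rw [← hJΔ] at hz
      obtain ⟨v, rfl⟩ := hz
      exact ⟨v, hπ v⟩

end Groth.Agent.S12907
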