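import Groth.Statements.S14422
import Mathlib
import Mathlib
import Groth.Agent.H19.TorFlip

set_option autoImplicit false
universe u
open CategoryTheory
open CAlg

namespace Groth.Agent.S14422

open CategoryTheory CategoryTheory.Limits in
/-- transport of exactness along the flip. -/
theorem flip_exact (A : Type u) [CommRing A] (i : ℕ) (M : ModuleCat.{u} A)
    {X₁ X₂ X₃ : ModuleCat.{u} A} (f : X₁ ⟶ X₂) (g : X₂ ⟶ X₃)
    (w : ((Tor (ModuleCat.{u} A) i).obj M).map f ≫ ((Tor (ModuleCat.{u} A) i).obj M).map g = 0)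
    (w' : ((Tor (ModuleCat.{u} A) i).map f).app M ≫ ((Tor (ModuleCat.{u} A) i).map g).app M = 0)
    (h : (ShortComplex.mk _ _ w').Exact) : (ShortComplex.mk _ _ w).Exact := by
  refine ShortComplex.exact_of_iso ?_ h
  refine (ShortComplex.isoMk (Groth.Agent.H19.TorFlip.θ A i M X₁)
    (Groth.Agent.H19.TorFlip.θ A i M X₂) (Groth.Agent.H19.TorFlip.θ A i M X₃) ?_ ?_).symm
  · exact (Groth.Agent.H19.TorFlip.θ_naturality_right A i M f).symm
  · exact (Groth.Agent.H19.TorFlip.θ_naturality_right A i M g).symm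

/-- Long exact sequence for Tor: let A be a ring, M an A-module and 0 → N' → N → N'' → 0 a short exact
sequence of A-modules; write Tor_i(M, ·) for the i-th left derived functor of M ⊗_A ·. Then for
every i the composite Tor_i(M, N') → Tor_i(M, N) → Tor_i(M, N'') is zero and the sequence is exact,
Tor_0(M, N) → Tor_0(M, N'') is surjective, and there is a connecting map δ_i : Tor_{i+1}(M, N'') →
Tor_i(M, N') such that Tor_{i+1}(M, N) → Tor_{i+1}(M, N'') → Tor_i(M, N') and Tor_{i+1}(M, N'') →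
Tor_i(M, N') → Tor_i(M, N) are exact. (Only the existence of connecting maps with these exactness
properties is asserted; the published statement refers to the natural connecting homomorphisms.) -/
theorem result (A : Type u) [CommRing A] (M : ModuleCat.{u} A)
    (S : ShortComplex (ModuleCat.{u} A)) (hS : S.ShortExact) (i : ℕ) :
    (∃ w₀ : ((Tor (ModuleCat.{u} A) i).obj M).map S.f ≫ ((Tor (ModuleCat.{u} A) i).obj M).map S.g = 0,
        (ShortComplex.mk (((Tor (ModuleCat.{u} A) i).obj M).map S.f) (((Tor (ModuleCat.{u} A) i).obj M).map S.g) w₀).Exact) ∧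
      Epi (((Tor (ModuleCat.{u} A) 0).obj M).map S.g) ∧
      ∃ (δ : ((Tor (ModuleCat.{u} A) (i + 1)).obj M).obj S.X₃ ⟶ ((Tor (ModuleCat.{u} A) i).obj M).obj S.X₁)
        (w₁ : ((Tor (ModuleCat.{u} A) (i + 1)).obj M).map S.g ≫ δ = 0)
        (w₂ : δ ≫ ((Tor (ModuleCat.{u} A) i).obj M).map S.f = 0),
        (ShortComplex.mk (((Tor (ModuleCat.{u} A) (i + 1)).obj M).map S.g) δ w₁).Exact ∧
          (ShortComplex.mk δ (((Tor (ModuleCat.{u} A) i).obj M).map S.f) w₂).Exact := by
  have hfg : ((Tor (ModuleCat.{u} A) i).obj M).map S.f ≫ ((Tor (ModuleCat.{u} A) i).obj M).map S.g = 0 := by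
    have n1 := Groth.Agent.H19.TorFlip.θ_naturality_right A i M S.f
    have n2 := Groth.Agent.H19.TorFlip.θ_naturality_right A i M S.g
    rw [← cancel_mono (Groth.Agent.H19.TorFlip.θ A i M S.X₃).hom, Category.assoc, n2,
      reassoc_of% n1, Groth.Agent.H19.TorFirst.map_f_g S M i, Limits.comp_zero, Limits.zero_comp]
  refine ⟨⟨hfg, Groth.Agent.S14422.flip_exact A i M S.f S.g hfg
    (Groth.Agent.H19.TorFirst.map_f_g S M i) (Groth.Agent.H19.TorFirst.exact₂ S hS M i)⟩, ?_, ?_⟩
  · -- epi in degree zero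
    haveI : Epi S.g := hS.epi_g
    have hnat := Groth.Agent.H19.TorFlip.θ_naturality_right A 0 M S.g
    have hepi : Epi (((Tor (ModuleCat.{u} A) 0).map S.g).app M) := by
      rw [ModuleCat.epi_iff_surjective]
      intro y
      obtain ⟨t, ht⟩ := (Groth.Agent.H19.TorZero.tor0Iso_bijective S.X₃ M).2
        (((Groth.Agent.H19.TorZero.tor0Iso S.X₃).hom.app M).hom y)
      have hsurj : Function.Surjective (S.g.hom.rTensor M) :=
        LinearMap.rTensor_surjective _ ((ModuleCat.epi_iff_surjective S.g).1 inferInstance)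
      obtain ⟨s, hs⟩ := hsurj (((Groth.Agent.H19.TorZero.tor0Iso S.X₃).hom.app M).hom y)
      obtain ⟨x, hx⟩ := (Groth.Agent.H19.TorZero.tor0Iso_bijective S.X₂ M).2 s
      refine ⟨x, ?_⟩
      apply (Groth.Agent.H19.TorZero.tor0Iso_bijective S.X₃ M).1
      have h1 := Groth.Agent.H19.TorZero.tor0Iso_naturality_apply S.g M x
      rw [h1, hx]
      exact hs
    have h2 : ((Tor (ModuleCat.{u} A) 0).obj M).map S.g =
        (Groth.Agent.H19.TorFlip.θ A 0 M S.X₂).hom ≫ ((Tor (ModuleCat.{u} A) 0).map S.g).app M ≫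
          (Groth.Agent.H19.TorFlip.θ A 0 M S.X₃).inv := by
      rw [← Category.assoc, ← hnat, Category.assoc, Iso.hom_inv_id, Category.comp_id]
    rw [h2]
    infer_instance
  · -- connecting maps
    let δ' := (Groth.Agent.H19.TorFlip.θ A (i + 1) M S.X₃).hom ≫
      Groth.Agent.H19.TorFirst.δ S hS M i ≫ (Groth.Agent.H19.TorFlip.θ A i M S.X₁).inv
    have e3 : ((Tor (ModuleCat.{u} A) (i + 1)).obj M).map S.g ≫
        (Groth.Agent.H19.TorFlip.θ A (i + 1) M S.X₃).hom =
        (Groth.Agent.H19.TorFlip.θ A (i + 1) M S.X₂).hom ≫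
          ((Tor (ModuleCat.{u} A) (i + 1)).map S.g).app M :=
      Groth.Agent.H19.TorFlip.θ_naturality_right A (i + 1) M S.g
    have e1 : (Groth.Agent.H19.TorFlip.θ A i M S.X₁).inv ≫
        ((Tor (ModuleCat.{u} A) i).obj M).map S.f =
        ((Tor (ModuleCat.{u} A) i).map S.f).app M ≫ (Groth.Agent.H19.TorFlip.θ A i M S.X₂).inv := by
      rw [Iso.inv_comp_eq, ← Category.assoc, Iso.eq_comp_inv]
      exact Groth.Agent.H19.TorFlip.θ_naturality_right A i M S.f
    have w₁ : ((Tor (ModuleCat.{u} A) (i + 1)).obj M).map S.g ≫ δ' = 0 := by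
      show _ ≫ _ ≫ _ ≫ _ = 0
      rw [reassoc_of% e3, reassoc_of% (Groth.Agent.H19.TorFirst.map_g_δ S hS M i), Limits.zero_comp, Limits.comp_zero]
    have w₂ : δ' ≫ ((Tor (ModuleCat.{u} A) i).obj M).map S.f = 0 := by
      show (_ ≫ _ ≫ _) ≫ _ = 0
      rw [Category.assoc, Category.assoc, e1,
        reassoc_of% (Groth.Agent.H19.TorFirst.δ_map_f S hS M i), Limits.zero_comp, Limits.comp_zero]
    refine ⟨δ', w₁, w₂, ?_, ?_⟩
    · refine ShortComplex.exact_of_iso ?_ (Groth.Agent.H19.TorFirst.exact₃ S hS M i)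
      refine (ShortComplex.isoMk (Groth.Agent.H19.TorFlip.θ A (i + 1) M S.X₂)
        (Groth.Agent.H19.TorFlip.θ A (i + 1) M S.X₃) (Groth.Agent.H19.TorFlip.θ A i M S.X₁)
        ?_ ?_).symm
      · exact e3.symm
      · show _ ≫ _ = (_ ≫ _ ≫ _) ≫ _
        simp only [Category.assoc, Iso.inv_hom_id, Category.comp_id]
    · refine ShortComplex.exact_of_iso ?_ (Groth.Agent.H19.TorFirst.exact₁ S hS M i)
      refine (ShortComplex.isoMk (Groth.Agent.H19.TorFlip.θ A (i + 1) M S.X₃)
        (Groth.Agent.H19.TorFlip.θ A i M S.X₁) (Groth.Agent.H19.TorFlip.θ A i M S.X₂)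
        ?_ ?_).symm
      · show _ ≫ _ = (_ ≫ _ ≫ _) ≫ _
        simp only [Category.assoc, Iso.inv_hom_id, Category.comp_id]
      · exact (Groth.Agent.H19.TorFlip.θ_naturality_right A i M S.f).symm

end Groth.Agent.S14422
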