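import Groth.Statements.S6862
import Mathlib.Algebra.Module.StablyFree.Basic
import Mathlib.Algebra.Exact.Basic
import Mathlib.LinearAlgebra.FreeModule.Basic
import Mathlib.RingTheory.Finiteness.Prod

set_option autoImplicit false
universe u
open CAlg

namespace Groth.Agent.S6862

/-- rearrangement `((A × B) × C) × D ≃ B × ((A × D) × C)` -/
def rearr1 (R A B C D : Type*) [CommRing R] [AddCommGroup A] [AddCommGroup B] [AddCommGroup C]
    [AddCommGroup D] [Module R A] [Module R B] [Module R C] [Module R D] :
    (((A × B) × C) × D) ≃ₗ[R] B × ((A × D) × C) where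
  toFun x := (x.1.1.2, ((x.1.1.1, x.2), x.1.2))
  invFun y := (((y.2.1.1, y.1), y.2.2), y.2.1.2)
  map_add' _ _ := rfl
  map_smul' _ _ := rfl
  left_inv _ := rfl
  right_inv _ := rfl

/-- rearrangement `((A × B) × C) × D ≃ A × ((B × D) × C)` -/
def rearr3 (R A B C D : Type*) [CommRing R] [AddCommGroup A] [AddCommGroup B] [AddCommGroup C]
    [AddCommGroup D] [Module R A] [Module R B] [Module R C] [Module R D] :
    (((A × B) × C) × D) ≃ₗ[R] A × ((B × D) × C) where
  toFun x := (x.1.1.1, ((x.1.1.2, x.2), x.1.2))
  invFun y := (((y.1, y.2.1.1), y.2.2), y.2.1.2)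
  map_add' _ _ := rfl
  map_smul' _ _ := rfl
  left_inv _ := rfl
  right_inv _ := rfl

/-- Let `R` be a commutative ring and `P'`, `P`, `P''` finitely generated projective `R`-modules in an
exact sequence `0 → P' → P → P'' → 0`. Whenever two of the three are stably free, the remaining one
is stably free too (all three cases are stated). -/
theorem result {R : Type u} [CommRing R] {P' P P'' : Type u}
    [AddCommGroup P'] [Module R P'] [Module.Finite R P'] [Module.Projective R P']
    [AddCommGroup P] [Module R P] [Module.Finite R P] [Module.Projective R P]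
    [AddCommGroup P''] [Module R P''] [Module.Finite R P''] [Module.Projective R P'']
    (f : P' →ₗ[R] P) (g : P →ₗ[R] P'') (hf : Function.Injective f) (hg : Function.Surjective g)
    (hfg : Function.Exact f g) :
    (Module.IsStablyFree R P' → Module.IsStablyFree R P → Module.IsStablyFree R P'') ∧
    (Module.IsStablyFree R P' → Module.IsStablyFree R P'' → Module.IsStablyFree R P) ∧
    (Module.IsStablyFree R P → Module.IsStablyFree R P'' → Module.IsStablyFree R P') := by
  obtain ⟨l, hl⟩ := Module.projective_lifting_property g LinearMap.id hg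
  let e : P ≃ₗ[R] P' × P'' := ((hfg.splitSurjectiveEquiv hf) ⟨l, hl⟩).1
  refine ⟨fun h1 h2 => ?_, fun h1 h2 => ?_, fun h1 h2 => ?_⟩
  · obtain ⟨F', _, _, _, _, hF'⟩ := Module.IsStablyFree.exist_free_prod R P'
    obtain ⟨F, _, _, _, _, hF⟩ := Module.IsStablyFree.exist_free_prod R P
    have hfree : Module.Free R (P'' × ((P' × F') × F)) :=
      Module.Free.of_equiv
        (((e.prodCongr (LinearEquiv.refl R F)).prodCongr (LinearEquiv.refl R F')).trans
          (rearr1 R P' P'' F F'))
    exact Module.IsStablyFree.of_free_prod R P'' ((P' × F') × F)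
  · obtain ⟨F', _, _, _, _, hF'⟩ := Module.IsStablyFree.exist_free_prod R P'
    obtain ⟨F'', _, _, _, _, hF''⟩ := Module.IsStablyFree.exist_free_prod R P''
    have hfree : Module.Free R (P × (F' × F'')) :=
      Module.Free.of_equiv
        ((e.prodCongr (LinearEquiv.refl R (F' × F''))).trans
          (LinearEquiv.prodProdProdComm R P' P'' F' F'')).symm
    exact Module.IsStablyFree.of_free_prod R P (F' × F'')
  · obtain ⟨F, _, _, _, _, hF⟩ := Module.IsStablyFree.exist_free_prod R P
    obtain ⟨F'', _, _, _, _, hF''⟩ := Module.IsStablyFree.exist_free_prod R P''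
    have hfree : Module.Free R (P' × ((P'' × F'') × F)) :=
      Module.Free.of_equiv
        (((e.prodCongr (LinearEquiv.refl R F)).prodCongr (LinearEquiv.refl R F'')).trans
          (rearr3 R P' P'' F F''))
    exact Module.IsStablyFree.of_free_prod R P' ((P'' × F'') × F)

end Groth.Agent.S6862
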