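import Groth.Statements.S8596
import Mathlib
import Mathlib
import Groth.Agent.H19.TorFirst
import Groth.Agent.S4507

set_option autoImplicit false
universe u
open CategoryTheory CategoryTheory.Limits
open CAlg

namespace Groth.Agent.S8596

open CategoryTheory CategoryTheory.Limits MonoidalCategory
open Groth.Agent.H19.TorFirst

section gen

variable {A : Type u} [CommRing A] (M : ModuleCat.{u} A) (n : ℕ)

/-- the class of modules `N` with `Tor_i(N, M) = 0` for `i > n`. -/
def C (N : Type u) [AddCommGroup N] [Module A N] : Prop :=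
  ∀ i : ℕ, n < i → IsZero (((Tor (ModuleCat.{u} A) i).obj (ModuleCat.of A N)).obj M)

theorem C_of_equiv {N N' : Type u} [AddCommGroup N] [Module A N] [AddCommGroup N'] [Module A N']
    (e : N ≃ₗ[A] N') (h : C M n N) : C M n N' := fun i hi =>
  IsZero.of_iso (h i hi) (((Tor (ModuleCat.{u} A) i).mapIso e.toModuleIso).app M).symm

theorem C_of_subsingleton (N : Type u) [AddCommGroup N] [Module A N] [Subsingleton N] :
    C M n N := fun i _ =>
  (TorF M i).map_isZero (ModuleCat.isZero_of_subsingleton (ModuleCat.of A N))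

theorem C_of_exact {N₁ N₂ N₃ : Type u} [AddCommGroup N₁] [Module A N₁] [AddCommGroup N₂]
    [Module A N₂] [AddCommGroup N₃] [Module A N₃] (f : N₁ →ₗ[A] N₂) (g : N₂ →ₗ[A] N₃)
    (hf : Function.Injective f) (hg : Function.Surjective g) (hfg : Function.Exact f g)
    (h1 : C M n N₁) (h3 : C M n N₃) : C M n N₂ := fun i hi =>
  isZero_mid (ShortComplex.mk (ModuleCat.ofHom f) (ModuleCat.ofHom g) (by
      apply ModuleCat.hom_ext
      apply LinearMap.ext
      intro x
      exact hfg.apply_apply_eq_zero x))
    (ModuleCat.shortComplex_shortExact _ hfg hf hg) M i (h1 i hi) (h3 i hi)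

end gen

section noeth

variable {A : Type u} [CommRing A] [IsNoetherianRing A] (M : ModuleCat.{u} A) (n : ℕ)

theorem C_of_fg (I : Ideal A)
    (hI : ∀ q : Ideal A, q.IsPrime → I ≤ q → C M n (A ⧸ q))
    (N : Type u) [AddCommGroup N] [Module A N] [hfin : Module.Finite A N] :
    I ≤ Module.annihilator A N → C M n N := by
  induction hfin using IsNoetherianRing.induction_on_isQuotientEquivQuotientPrime A with
  | subsingleton N => intro _; exact C_of_subsingleton M n N
  | quotient N p f =>
    intro hN
    refine C_of_equiv M n f.symm (hI p.1 p.2 ?_)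
    rw [f.annihilator_eq, Ideal.annihilator_quotient] at hN
    exact hN
  | exact N₁ N₂ N₃ f g hf hg hfg h₁ h₃ =>
    intro hN
    exact C_of_exact M n f g hf hg hfg (h₁ (hN.trans (f.annihilator_le_of_injective hf)))
      (h₃ (hN.trans (g.annihilator_le_of_surjective hg)))

end noeth

section loc

theorem bijective_of_isLocalizedModule {R : Type*} [CommRing R] (S : Submonoid R) {X Y : Type*}
    [AddCommGroup X] [Module R X] [AddCommGroup Y] [Module R Y] (g : X →ₗ[R] Y)
    [IsLocalizedModule S g] (h : ∀ s ∈ S, Function.Bijective (fun x : X => s • x)) :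
    Function.Bijective g := by
  constructor
  · intro x x' hxx'
    obtain ⟨c, hc⟩ := IsLocalizedModule.exists_of_eq (S := S) hxx'
    exact (h c.1 c.2).1 hc
  · intro y
    obtain ⟨⟨x, s⟩, hs⟩ := IsLocalizedModule.surj S g y
    obtain ⟨x', hx'⟩ := (h s.1 s.2).2 x
    refine ⟨x', ?_⟩
    apply IsLocalizedModule.smul_injective g s
    have hs' : s • y = g x := hs
    show s • g x' = s • y
    rw [hs', ← hx']
    exact (map_smul g s.1 x').symm

variable {A : Type u} [CommRing A]

theorem residueField_isLocalizedModule (p : Ideal A) [p.IsPrime] :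
    IsLocalizedModule p.primeCompl
      ((IsScalarTower.toAlgHom A (A ⧸ p) p.ResidueField).toLinearMap) := by
  have hne : ∀ s : p.primeCompl, algebraMap A p.ResidueField s ≠ 0 := fun s hs =>
    s.2 (Ideal.algebraMap_residueField_eq_zero.1 hs)
  refine ⟨fun s => ?_, fun y => ?_, fun {x₁ x₂} h => ?_⟩
  · rw [Module.End.isUnit_iff]
    constructor
    · intro x y hxy
      have hxy' : (s : A) • x = (s : A) • y := hxy
      rw [Algebra.smul_def, Algebra.smul_def] at hxy'
      exact mul_left_cancel₀ (hne s) hxy'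
    · intro y
      refine ⟨(algebraMap A p.ResidueField s)⁻¹ * y, ?_⟩
      show (s : A) • ((algebraMap A p.ResidueField s)⁻¹ * y) = y
      rw [Algebra.smul_def, ← mul_assoc, mul_inv_cancel₀ (hne s), one_mul]
  · obtain ⟨⟨x, sbar⟩, hx⟩ := IsLocalization.surj (nonZeroDivisors (A ⧸ p)) y
    obtain ⟨s, hs⟩ := Ideal.Quotient.mk_surjective sbar.1
    have hsp : s ∉ p := by
      intro hsp
      have : sbar.1 = 0 := by rw [← hs]; exact Ideal.Quotient.eq_zero_iff_mem.2 hsp
      exact nonZeroDivisors.ne_zero sbar.2 this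
    refine ⟨⟨x, ⟨s, hsp⟩⟩, ?_⟩
    show (s : A) • y = algebraMap (A ⧸ p) p.ResidueField x
    rw [← hx, Algebra.smul_def, mul_comm, ← hs]
    rfl
  · refine ⟨1, ?_⟩
    rw [one_smul, one_smul]
    exact Ideal.injective_algebraMap_quotient_residueField p h

end loc

section prime

variable {A : Type u} [CommRing A]

theorem smul_id_injective (p : Ideal A) [p.IsPrime] (f : A) (hf : f ∉ p) :
    Function.Injective (f • (LinearMap.id : (A ⧸ p) →ₗ[A] (A ⧸ p))) := by
  intro x y hxy
  have h1 : f • x = f • y := hxy
  rw [Algebra.smul_def, Algebra.smul_def] at h1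
  refine mul_left_cancel₀ ?_ h1
  intro h0
  exact hf (Ideal.Quotient.eq_zero_iff_mem.1 h0)

theorem smul_id_exact (p : Ideal A) (f : A) :
    Function.Exact (f • (LinearMap.id : (A ⧸ p) →ₗ[A] (A ⧸ p)))
      (Ideal.Quotient.factorₐ A (le_sup_left : p ≤ p ⊔ Ideal.span {f})).toLinearMap := by
  intro x
  obtain ⟨a, rfl⟩ := Ideal.Quotient.mk_surjective x
  constructor
  · intro h
    have h' : Ideal.Quotient.mk (p ⊔ Ideal.span {f}) a = 0 := h
    rw [Ideal.Quotient.eq_zero_iff_mem, Submodule.mem_sup] at h'
    obtain ⟨b, hb, c, hc, hbc⟩ := h'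
    obtain ⟨d, rfl⟩ := Ideal.mem_span_singleton'.1 hc
    refine ⟨Ideal.Quotient.mk p d, ?_⟩
    show f • Ideal.Quotient.mk p d = Ideal.Quotient.mk p a
    rw [← hbc, map_add, Ideal.Quotient.eq_zero_iff_mem.2 hb, zero_add, Algebra.smul_def,
      mul_comm d f, map_mul]
    rfl
  · rintro ⟨y, hy⟩
    obtain ⟨d, rfl⟩ := Ideal.Quotient.mk_surjective y
    have hy' : f • Ideal.Quotient.mk p d = Ideal.Quotient.mk p a := hy
    show Ideal.Quotient.factor (le_sup_left : p ≤ p ⊔ Ideal.span {f}) (Ideal.Quotient.mk p a) = 0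
    rw [← hy', Algebra.smul_def, map_mul]
    have : Ideal.Quotient.factor (le_sup_left : p ≤ p ⊔ Ideal.span {f})
        (algebraMap A (A ⧸ p) f) = 0 := by
      show Ideal.Quotient.mk (p ⊔ Ideal.span {f}) f = 0
      rw [Ideal.Quotient.eq_zero_iff_mem]
      exact Ideal.mem_sup_right (Ideal.mem_span_singleton_self f)
    rw [this, zero_mul]

theorem factor_surjective (p : Ideal A) (f : A) :
    Function.Surjective
      (Ideal.Quotient.factorₐ A (le_sup_left : p ≤ p ⊔ Ideal.span {f})).toLinearMap := by
  intro x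
  obtain ⟨a, rfl⟩ := Ideal.Quotient.mk_surjective x
  exact ⟨Ideal.Quotient.mk p a, rfl⟩

variable [IsNoetherianRing A] (M : ModuleCat.{u} A) (n : ℕ)

theorem prime_step (hk : ∀ (x : Ideal A) [x.IsPrime], C M n x.ResidueField) (p : Ideal A)
    [p.IsPrime] (IH : ∀ q : Ideal A, p < q → q.IsPrime → C M n (A ⧸ q)) : C M n (A ⧸ p) := by
  intro i hi
  have hQ : ∀ f : A, f ∉ p → C M n (A ⧸ (p ⊔ Ideal.span {f})) := fun f hf =>
    C_of_fg M n (p ⊔ Ideal.span {f}) (fun q hq hle => IH q
      (lt_of_le_of_ne (le_sup_left.trans hle) (fun hpq => hf (by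
        rw [hpq]
        exact hle (Ideal.mem_sup_right (Ideal.mem_span_singleton_self f))))) hq) _
      (by rw [Ideal.annihilator_quotient])
  have hbij : ∀ f : A, f ∉ p →
      Function.Bijective (fun y : (TorF M i).obj (ModuleCat.of A (A ⧸ p)) => f • y) := by
    intro f hf
    have hb := bijective_map_f (ShortComplex.mk (ModuleCat.ofHom (f • LinearMap.id))
      (ModuleCat.ofHom (Ideal.Quotient.factorₐ A (le_sup_left : p ≤ p ⊔ Ideal.span {f})).toLinearMap)
      (by
        apply ModuleCat.hom_ext
        apply LinearMap.ext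
        intro x
        exact (smul_id_exact p f).apply_apply_eq_zero x))
      (ModuleCat.shortComplex_shortExact _ (smul_id_exact p f) (smul_id_injective p f hf)
        (factor_surjective p f)) M i (hQ f hf (i + 1) (by omega)) (hQ f hf i hi)
    have heq : ∀ y : (TorF M i).obj (ModuleCat.of A (A ⧸ p)),
        (((Tor (ModuleCat.{u} A) i).map (ModuleCat.ofHom
          (f • (LinearMap.id : (A ⧸ p) →ₗ[A] (A ⧸ p))))).app M).hom y = f • y := fun y =>
      TorF_map_smul_id_apply M i (ModuleCat.of A (A ⧸ p)) f y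
    have hfun : (fun y : (TorF M i).obj (ModuleCat.of A (A ⧸ p)) => f • y) = _ :=
      funext (fun y => (heq y).symm)
    rw [hfun]
    exact hb
  haveI hloc := Groth.Agent.S4507.result (TorF M i) (fun J _ _ => TorF_preservesFiltered M i J)
    p.primeCompl (ModuleCat.of A (A ⧸ p))
  have hb := bijective_of_isLocalizedModule p.primeCompl
    ((TorF M i).map (ModuleCat.ofHom (LocalizedModule.mkLinearMap p.primeCompl (A ⧸ p)) :
      ModuleCat.of A (A ⧸ p) ⟶ ModuleCat.of A (LocalizedModule p.primeCompl (A ⧸ p)))).hom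
    (fun s hs => hbij s hs)
  haveI := residueField_isLocalizedModule p
  have e : LocalizedModule p.primeCompl (A ⧸ p) ≃ₗ[A] p.ResidueField :=
    IsLocalizedModule.iso p.primeCompl
      ((IsScalarTower.toAlgHom A (A ⧸ p) p.ResidueField).toLinearMap)
  have hz : IsZero ((TorF M i).obj (ModuleCat.of A (LocalizedModule p.primeCompl (A ⧸ p)))) :=
    C_of_equiv M n e.symm (hk p) i hi
  haveI := ModuleCat.subsingleton_of_isZero hz
  haveI : Subsingleton ↑(((Tor (ModuleCat.{u} A) i).obj (ModuleCat.of A (A ⧸ p))).obj M) :=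
    hb.1.subsingleton
  exact ModuleCat.isZero_of_subsingleton _

end prime

section colim

variable {A : Type u} [CommRing A] (M : ModuleCat.{u} A) (i : ℕ)

open Classical in
theorem isZero_of_fg
    (h : ∀ (N : Type u) [AddCommGroup N] [Module A N] [Module.Finite A N],
      IsZero (((Tor (ModuleCat.{u} A) i).obj (ModuleCat.of A N)).obj M))
    (N : ModuleCat.{u} A) : IsZero (((Tor (ModuleCat.{u} A) i).obj N).obj M) := by
  let ι := {N' : Submodule A N // N'.FG}
  haveI : Nonempty ι := ⟨⟨⊥, Submodule.fg_bot⟩⟩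
  let c := ModuleCat.directLimitCocone (R := A) (fun N' : ι => ↥N'.1) (Module.fgSystem A N)
  have hc : IsColimit c := ModuleCat.directLimitIsColimit _ _
  haveI := TorF_preservesFiltered M i ι
  have hTc : IsColimit ((TorF M i).mapCocone c) := isColimitOfPreserves (TorF M i) hc
  have hz : IsZero ((TorF M i).mapCocone c).pt := by
    rw [IsZero.iff_id_eq_zero]
    apply hTc.hom_ext
    intro j
    haveI : Module.Finite A ↥j.1 := Module.Finite.iff_fg.2 j.2
    exact (h ↥j.1).eq_of_src _ _
  exact IsZero.of_iso hz ((TorF M i).mapIso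
    ((Module.fgSystem.equiv A N).symm.toModuleIso : N ≅ ModuleCat.of A _))

end colim

/-- Case of a complex reduced to a single module in degree 0: let A be a commutative Noetherian ring, M
an A-module (not necessarily finitely generated) and n ≥ 0. Then M has tor-dimension at most n —
Tor_i^A(N, M) = 0 for every A-module N and every i > n, the Tor being the left derived functors of N
⊗ - evaluated at M — if and only if Tor_i^A(k(x), M) = 0 for every prime ideal x of A, with residue
field k(x), and every i > n. (The published statement gives the equivalence for bounded-above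
complexes K and the derived tensor product K ⊗^L k(x); this is the case K = M[0].) -/
theorem result (A : Type u) [CommRing A] [IsNoetherianRing A]
    (M : ModuleCat.{u} A) (n : ℕ) :
    (∀ (N : ModuleCat.{u} A) (i : ℕ), n < i → IsZero (((Tor (ModuleCat.{u} A) i).obj N).obj M)) ↔
    (∀ (x : Ideal A) [x.IsPrime] (i : ℕ), n < i →
      IsZero (((Tor (ModuleCat.{u} A) i).obj (ModuleCat.of A x.ResidueField)).obj M)) := by
  constructor
  · intro h x _ i hi
    exact h _ i hi
  · intro h
    have hk : ∀ (x : Ideal A) [x.IsPrime], Groth.Agent.S8596.C M n x.ResidueField :=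
      fun x _ i hi => h x i hi
    have hprime : ∀ p : Ideal A, p.IsPrime → Groth.Agent.S8596.C M n (A ⧸ p) := by
      intro p
      induction p using WellFoundedGT.induction with
      | ind p IH =>
        intro hp
        exact Groth.Agent.S8596.prime_step M n hk p (fun q hpq hq => IH q hpq hq)
    have hfg : ∀ (N : Type u) [AddCommGroup N] [Module A N] [Module.Finite A N],
        Groth.Agent.S8596.C M n N := fun N _ _ _ =>
      Groth.Agent.S8596.C_of_fg M n ⊥ (fun q hq _ => hprime q hq) N bot_le
    intro N i hi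
    exact Groth.Agent.S8596.isZero_of_fg M i (fun N' _ _ _ => hfg N' i hi) N

end Groth.Agent.S8596
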