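import Groth.Statements.S15821
import Mathlib
import Groth.Agent.H19.KosSES
-- import your own Groth.Agent.* helpers here

set_option autoImplicit false
universe u
open CategoryTheory
open Koszul

namespace Groth.Agent.S15821

open Groth.Agent.H19.Kos CategoryTheory.Limits HomologicalComplex MonoidalCategory
open scoped Pointwise

section Main

variable {A : Type u} [CommRing A]

/-- positive-degree vanishing -/
theorem KH_pos (l : List A) : ∀ (M : Type u) [AddCommGroup M] [Module A M] (n : ℤ), 0 < n →
    Subsingleton (KH l M n) := by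
  induction l with
  | nil =>
    intro M _ _ n hn
    exact KH_nil_subsingleton M n (ne_of_gt hn)
  | cons f l ih =>
    intro M _ _ n hn
    obtain ⟨α, δ, h₁, h₂, h₃⟩ := KH_cons_les f l M n (n+1) rfl
    haveI := ih M n hn
    haveI := ih M (n+1) (by omega)
    have key : ∀ x : KH (f :: l) M n, x = 0 := by
      intro x
      obtain ⟨z, hz⟩ := (h₂ x).1 (Subsingleton.elim _ _)
      rw [← hz, Subsingleton.elim z 0, map_zero]
    exact ⟨fun x y => by rw [key x, key y]⟩

theorem main (l : List A) : ∀ (M : Type u) [AddCommGroup M] [Module A M],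
    RingTheory.Sequence.IsWeaklyRegular M l →
    (∀ n : ℤ, n ≠ 0 → Subsingleton (KH l M n)) ∧
      Nonempty (KH l M 0 ≃ₗ[A] M ⧸ (Ideal.ofList l • ⊤ : Submodule A M)) := by
  induction l with
  | nil =>
    intro M _ _ _
    have h : (Ideal.ofList ([] : List A) • ⊤ : Submodule A M) = ⊥ := by
      rw [Ideal.ofList_nil, Submodule.bot_smul]
    exact ⟨fun n hn => KH_nil_subsingleton M n hn,
      ⟨(KH_nil_zero M).trans (Submodule.quotEquivOfEqBot _ h).symm⟩⟩
  | cons f l ih =>
    intro M _ _ hreg
    rw [RingTheory.Sequence.isWeaklyRegular_cons_iff] at hreg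
    obtain ⟨hf, hl⟩ := hreg
    obtain ⟨ihv, ⟨ihe⟩⟩ := ih (QuotSMulTop f M) hl
    have hinj : Function.Injective (LinearMap.lsmul A M f) := fun x y h => hf h
    have hsurj : Function.Surjective (Submodule.mkQ (f • (⊤ : Submodule A M))) :=
      Submodule.mkQ_surjective _
    have hex : Function.Exact (LinearMap.lsmul A M f)
        (Submodule.mkQ (f • (⊤ : Submodule A M))) := by
      intro y
      rw [Submodule.mkQ_apply, Submodule.Quotient.mk_eq_zero]
      constructor
      · intro hy
        obtain ⟨z, -, hz⟩ := (Submodule.mem_smul_pointwise_iff_exists _ _ _).1 hy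
        exact ⟨z, hz⟩
      · rintro ⟨z, rfl⟩
        exact Submodule.smul_mem_pointwise_smul z f ⊤ Submodule.mem_top
    obtain ⟨c, E1, E2, E3⟩ := KH_ses_les l (LinearMap.lsmul A M f)
      (Submodule.mkQ (f • (⊤ : Submodule A M))) hinj hsurj hex
    simp only [KHmap_lsmul] at E1 E3
    refine ⟨fun n hn => ?_, ?_⟩
    · obtain ⟨α, δ, h₁, h₂, h₃⟩ := KH_cons_les f l M n (n+1) rfl
      haveI := ihv n hn
      have key : ∀ x : KH (f :: l) M n, x = 0 := by
        intro x
        have hδ : δ x = 0 := by
          have h1 : LinearMap.lsmul A (KH l M (n+1)) f (δ x) = 0 := (h₃ (δ x)).2 ⟨x, rfl⟩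
          obtain ⟨w, hw⟩ := ((E3 n) (δ x)).1 h1
          rw [← hw, Subsingleton.elim w 0, map_zero]
        obtain ⟨y, hy⟩ := (h₂ x).1 hδ
        obtain ⟨z, hz⟩ := ((E1 n) y).1 (Subsingleton.elim _ _)
        rw [← hy, ← hz]
        exact (h₁ _).2 ⟨z, rfl⟩
      exact ⟨fun x y => by rw [key x, key y]⟩
    · obtain ⟨α, δ, h₁, h₂, h₃⟩ := KH_cons_les f l M 0 1 rfl
      haveI hpos : Subsingleton (KH l M 1) := KH_pos l M 1 one_pos
      haveI hpos' : Subsingleton (KH l M (0+1)) := KH_pos l M (0+1) (by norm_num)
      have hα : Function.Surjective α := fun x => (h₂ x).1 (Subsingleton.elim _ _)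
      have hγ : Function.Surjective (KHmap l (Submodule.mkQ (f • (⊤ : Submodule A M))) 0) :=
        fun x => ((E2 0) x).1 (Subsingleton.elim _ _)
      have hk : LinearMap.ker α =
          LinearMap.ker (KHmap l (Submodule.mkQ (f • (⊤ : Submodule A M))) 0) := by
        rw [(LinearMap.exact_iff).1 h₁, (LinearMap.exact_iff).1 (E1 0)]
      let e₁ := α.quotKerEquivOfSurjective hα
      let e₂ := (KHmap l (Submodule.mkQ (f • (⊤ : Submodule A M))) 0).quotKerEquivOfSurjective hγ
      exact ⟨e₁.symm.trans ((Submodule.quotEquivOfEq _ _ hk).trans (e₂.trans (ihe.trans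
        (Submodule.quotOfListConsSMulTopEquivQuotSMulTopInner M f l).symm)))⟩

noncomputable def KC_self_iso (l : List A) : KC l A ≅ Koszul.koszul A l :=
  (NatIso.mapHomologicalComplex (rightUnitorNatIso (ModuleCat.{u} A))
      (ComplexShape.up ℤ)).app (Koszul.koszul A l) ≪≫
    (Functor.mapHomologicalComplexIdIso (ModuleCat.{u} A) (ComplexShape.up ℤ)).app
      (Koszul.koszul A l)

end Main


/-- Let A be a commutative ring and f = (f_1, …, f_r) a sequence in A which is regular in the weak sense
(f_1 is a non-zero-divisor of A and each f_i is a non-zero-divisor of A/(f_1, …, f_{i-1}); no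
condition A/(f) ≠ 0). Then the Koszul complex K(f) (iterated mapping-cone model, degrees -r, …, 0)
has vanishing cohomology in all nonzero degrees, i.e. f is Koszul-regular, and its cohomology in
degree 0 is isomorphic as an A-module to A/(f_1, …, f_r) (existence of an A-linear isomorphism):
K(f) is a free resolution of A/(f). -/
theorem result (A : Type u) [CommRing A] (l : List A)
    (hl : RingTheory.Sequence.IsWeaklyRegular A l) :
    LCI.IsKoszulRegularSeq A l ∧
      Nonempty ((Koszul.koszul A l).homology 0 ≅ ModuleCat.of A (A ⧸ Ideal.ofList l)) := by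
  obtain ⟨hv, ⟨e⟩⟩ := main l A hl
  have hsm : (Ideal.ofList l • ⊤ : Submodule A A) = Ideal.ofList l := by
    first | simp | (rw [Ideal.smul_eq_mul, Ideal.mul_top])
  constructor
  · intro i hi
    haveI := hv i hi
    have hz : Limits.IsZero (KH l A i) := ModuleCat.isZero_of_subsingleton _
    exact Limits.IsZero.of_iso hz (HomologicalComplex.homologyMapIso (KC_self_iso l) i).symm
  · let e' : (A ⧸ (Ideal.ofList l • ⊤ : Submodule A A)) ≃ₗ[A] (A ⧸ Ideal.ofList l) :=
      Submodule.quotEquivOfEq _ _ hsm
    exact ⟨(HomologicalComplex.homologyMapIso (KC_self_iso l) 0).symm ≪≫ (e.trans e').toModuleIso⟩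

end Groth.Agent.S15821
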