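import Groth.Statements.S2119
import Mathlib

set_option autoImplicit false
universe u
open CAlg

namespace Groth.Agent.S2119


/-- Nagata's criterion for factoriality, final assertion: let `A` be a domain in which every nonzero
nonunit factors into irreducibles, and `S` the multiplicative subset generated by a set of prime
elements. If the localization `S⁻¹A` is a unique factorization domain, then so is `A`. -/
theorem result {A : Type u} [CommRing A] [IsDomain A]
    (hfac : ∀ a : A, a ≠ 0 → ¬ IsUnit a → ∃ f : Multiset A, (∀ b ∈ f, Irreducible b) ∧ Associated f.prod a) (P : Set A)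
    (hP : ∀ p ∈ P, Prime p) [IsDomain (Localization (Submonoid.closure P))]
    (hS : UniqueFactorizationMonoid (Localization (Submonoid.closure P))) : UniqueFactorizationMonoid A := by
  classical
  have hSnzd : Submonoid.closure P ≤ nonZeroDivisors A :=
    (Submonoid.closure_le).mpr (fun p hp => mem_nonZeroDivisors_of_ne_zero (hP p hp).ne_zero)
  have hinj : Function.Injective (algebraMap A (Localization (Submonoid.closure P))) :=
    IsLocalization.injective _ hSnzd
  have hc : ∀ s ∈ Submonoid.closure P, ∀ c a b : A, c * s = a * b →
      ∃ s1 ∈ Submonoid.closure P, ∃ s2 ∈ Submonoid.closure P, ∃ a' b' : A,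
        a = s1 * a' ∧ b = s2 * b' ∧ c = a' * b' := by
    intro s hs
    induction hs using Submonoid.closure_induction with
    | mem p hp =>
      intro c a b h
      have hp' := hP p hp
      have hdvd : p ∣ a * b := ⟨c, by rw [← h]; ring⟩
      rcases hp'.dvd_or_dvd hdvd with ⟨a', rfl⟩ | ⟨b', rfl⟩
      · refine ⟨p, Submonoid.subset_closure hp, 1, Submonoid.one_mem _, a', b, rfl, (one_mul b).symm, ?_⟩
        have : p * c = p * (a' * b) := by linear_combination h
        exact mul_left_cancel₀ hp'.ne_zero this
      · refine ⟨1, Submonoid.one_mem _, p, Submonoid.subset_closure hp, a, b', (one_mul a).symm, rfl, ?_⟩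
        have : p * c = p * (a * b') := by linear_combination h
        exact mul_left_cancel₀ hp'.ne_zero this
    | one =>
      intro c a b h
      exact ⟨1, Submonoid.one_mem _, 1, Submonoid.one_mem _, a, b, (one_mul a).symm, (one_mul b).symm,
        by simpa using h⟩
    | mul s₁ s₂ hs₁ hs₂ ih₁ ih₂ =>
      intro c a b h
      obtain ⟨t1, ht1, t2, ht2, a', b', rfl, rfl, h'⟩ := ih₂ (c * s₁) a b (by rw [← h]; ring)
      obtain ⟨u1, hu1, u2, hu2, a'', b'', rfl, rfl, h''⟩ := ih₁ c a' b' h'
      exact ⟨t1 * u1, Submonoid.mul_mem _ ht1 hu1, t2 * u2, Submonoid.mul_mem _ ht2 hu2, a'', b'',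
        by ring, by ring, h''⟩
  have hirr : ∀ q : A, Irreducible q → Prime q := by
    intro q hq
    by_cases hdiv : ∃ p ∈ P, p ∣ q
    · obtain ⟨p, hp, u, rfl⟩ := hdiv
      have hp' := hP p hp
      rcases hq.isUnit_or_isUnit rfl with h | h
      · exact absurd h hp'.not_isUnit
      · exact (associated_mul_unit_right p u h).prime hp'
    · push Not at hdiv
      have ha : ∀ s ∈ Submonoid.closure P, ∀ a : A, q ∣ s * a → q ∣ a := by
        intro s hs
        induction hs using Submonoid.closure_induction with
        | mem p hp =>
          rintro a ⟨b, hb⟩
          have hp' := hP p hp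
          have hdvd : p ∣ q * b := ⟨a, hb.symm⟩
          rcases hp'.dvd_or_dvd hdvd with h | ⟨b', rfl⟩
          · exact absurd h (hdiv p hp)
          · refine ⟨b', mul_left_cancel₀ hp'.ne_zero ?_⟩
            rw [hb]; ring
        | one => intro a h; simpa using h
        | mul s₁ s₂ _ _ ih₁ ih₂ =>
          intro a h
          exact ih₂ a (ih₁ (s₂ * a) (by rwa [← mul_assoc]))
      have hqB : Irreducible (algebraMap A (Localization (Submonoid.closure P)) q) := by
        rw [irreducible_iff]
        constructor
        · intro hu
          obtain ⟨⟨a, s⟩, hx⟩ := IsLocalization.surj (Submonoid.closure P)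
            ((hu.unit⁻¹ : (Localization (Submonoid.closure P))ˣ) : Localization (Submonoid.closure P))
          have h1 : algebraMap A (Localization (Submonoid.closure P)) (q * a) =
              algebraMap A (Localization (Submonoid.closure P)) s := by
            simp only at hx
            rw [map_mul, ← hx, ← mul_assoc, IsUnit.mul_val_inv, one_mul]
          have h2 := hinj h1
          have h3 : q ∣ (s : A) * 1 := ⟨a, by rw [mul_one, ← h2]⟩
          exact hq.not_isUnit (isUnit_of_dvd_one (ha s s.2 1 h3))
        · intro x y hxy
          obtain ⟨⟨a, s⟩, hx⟩ := IsLocalization.surj (Submonoid.closure P) x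
          obtain ⟨⟨b, t⟩, hy⟩ := IsLocalization.surj (Submonoid.closure P) y
          simp only at hx hy
          have h1 : algebraMap A (Localization (Submonoid.closure P)) (q * ((s : A) * (t : A))) =
              algebraMap A (Localization (Submonoid.closure P)) (a * b) := by
            simp only [map_mul]; rw [hxy, ← hx, ← hy]; ring
          have h2 := hinj h1
          obtain ⟨s1, hs1, s2, hs2, a', b', rfl, rfl, hq'⟩ :=
            hc ((s : A) * (t : A)) (Submonoid.mul_mem _ s.2 t.2) q a b h2
          rcases hq.isUnit_or_isUnit hq' with h | h
          · left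
            have hu : IsUnit (x * algebraMap A (Localization (Submonoid.closure P)) s) := by
              rw [hx, map_mul]
              exact (IsLocalization.map_units _ (⟨s1, hs1⟩ : Submonoid.closure P)).mul (h.map _)
            exact isUnit_of_mul_isUnit_left hu
          · right
            have hu : IsUnit (y * algebraMap A (Localization (Submonoid.closure P)) t) := by
              rw [hy, map_mul]
              exact (IsLocalization.map_units _ (⟨s2, hs2⟩ : Submonoid.closure P)).mul (h.map _)
            exact isUnit_of_mul_isUnit_left hu
      have hqBp : Prime (algebraMap A (Localization (Submonoid.closure P)) q) :=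
        UniqueFactorizationMonoid.irreducible_iff_prime.mp hqB
      have key : ∀ a : A, algebraMap A (Localization (Submonoid.closure P)) q ∣
          algebraMap A (Localization (Submonoid.closure P)) a → q ∣ a := by
        rintro a ⟨y, hy⟩
        obtain ⟨⟨c, s⟩, hc'⟩ := IsLocalization.surj (Submonoid.closure P) y
        simp only at hc'
        have h1 : algebraMap A (Localization (Submonoid.closure P)) ((s : A) * a) =
            algebraMap A (Localization (Submonoid.closure P)) (q * c) := by
          simp only [map_mul]; rw [hy, ← hc']; ring
        have h2 := hinj h1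
        exact ha s s.2 a ⟨c, h2⟩
      refine ⟨hq.ne_zero, hq.not_isUnit, fun a b hab => ?_⟩
      have hdvd : algebraMap A (Localization (Submonoid.closure P)) q ∣
          algebraMap A (Localization (Submonoid.closure P)) a *
            algebraMap A (Localization (Submonoid.closure P)) b := by
        rw [← map_mul]; exact map_dvd _ hab
      rcases hqBp.dvd_or_dvd hdvd with h | h
      · left; exact key a h
      · right; exact key b h
  apply UniqueFactorizationMonoid.of_exists_prime_factors
  intro a ha0
  by_cases hu : IsUnit a
  · refine ⟨0, by simp, ?_⟩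
    simpa using (associated_one_iff_isUnit.mpr hu).symm
  · obtain ⟨f, hf, hfa⟩ := hfac a ha0 hu
    exact ⟨f, fun b hb => hirr b (hf b hb), hfa⟩

end Groth.Agent.S2119
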