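import Groth.Statements.S0079
import Mathlib.Tactic

set_option autoImplicit false
open CategoryTheory CategoryTheory.Limits AlgebraicGeometry Opposite
universe u
open EtBase

namespace Groth.Agent.S0079

/-- Quasi-compactness of a morphism descends along a quasi-compact flat surjective base change: if the
base change of a morphism g along a quasi-compact, flat, surjective morphism to its target is
quasi-compact, then g is quasi-compact. (Stated for a single quasi-compact faithfully flat cover;
combined with Zariski-locality on the target this gives the fpqc-local form.) -/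
theorem result :
    MorphismProperty.DescendsAlong @QuasiCompact (@Surjective ⊓ @Flat ⊓ @QuasiCompact : MorphismProperty Scheme.{u}) := by
  apply MorphismProperty.DescendsAlong.mk'
  intro X Y Z f g _ hf hfst
  obtain ⟨⟨hsurj, hflat⟩, hqc⟩ := hf
  have hsurj' : Surjective f := hsurj
  have hqc' : QuasiCompact f := hqc
  have hfst' : QuasiCompact (pullback.fst f g) := hfst
  change QuasiCompact g
  constructor
  intro U hU hUc
  have h1 : IsCompact (f ⁻¹' U) := hqc'.isCompact_preimage U hU hUc
  have h2 : IsCompact ((pullback.fst f g) ⁻¹' (f ⁻¹' U)) :=
    hfst'.isCompact_preimage _ (hU.preimage f.continuous) h1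
  have hsnd : Surjective (pullback.snd f g) := inferInstance
  have heq : g ⁻¹' U = (pullback.snd f g) '' ((pullback.fst f g) ⁻¹' (f ⁻¹' U)) := by
    have hcomm : ∀ z, f ((pullback.fst f g) z) = g ((pullback.snd f g) z) := by
      intro z
      rw [← Scheme.Hom.comp_apply, ← Scheme.Hom.comp_apply, pullback.condition]
    ext y
    constructor
    · intro hy
      obtain ⟨z, rfl⟩ := (pullback.snd f g).surjective y
      refine ⟨z, ?_, rfl⟩
      simp only [Set.mem_preimage] at hy ⊢
      rw [hcomm]; exact hy
    · rintro ⟨z, hz, rfl⟩
      simp only [Set.mem_preimage] at hz ⊢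
      rw [← hcomm]; exact hz
  rw [heq]
  exact h2.image (pullback.snd f g).continuous

end Groth.Agent.S0079
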