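import Groth.Statements.S8772
import Mathlib

set_option autoImplicit false
universe u
open PureExt

namespace Groth.Agent.S8772

/-- For every `R`-module `M` the evaluation map `M → (M^∨)^∨` into the double character module is
universally injective; with the pure injectivity of character modules this gives a universally exact
embedding of `M` into a pure injective module. (The published statement asserts only the existence
of such an embedding; this row names the map.) -/
theorem result (R : Type u) [CommRing R] (M : Type u) [AddCommGroup M]
    [Module R M] : CAlgX.UniversallyInjective R (PureExt.charEval R M) := by
  intro Q _ _
  rw [rTensor_injective_iff_lcomp_surjective]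
  intro φ
  let φ' : Q →ₗ[R] CharacterModule M :=
    { toFun := fun q =>
        (AddMonoidHom.mk' (fun m => φ m q) (fun m m' => by
          show (φ (m + m')) q = _
          rw [map_add φ m m']; rfl) : M →+ AddCircle (1:ℚ))
      map_add' := fun q q' => by
        apply CharacterModule.ext; intro m
        exact map_add (φ m) q q'
      map_smul' := fun r q => by
        apply CharacterModule.ext; intro m
        show φ m (r • q) = φ (r • m) q
        rw [map_smul φ r m]; rfl }
  refine ⟨CharacterModule.dual φ', ?_⟩
  apply LinearMap.ext; intro m
  apply CharacterModule.ext; intro q
  rfl

end Groth.Agent.S8772
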