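import Groth.Statements.S6818
import Mathlib

set_option autoImplicit false
open CategoryTheory CategoryTheory.Limits Opposite
universe v u
open CategoryTheory CategoryTheory.Abelian

namespace Groth.Agent.S6818

/-- For a simplicial object `U` of an abelian category and `n ≥ 0`, the subobjects `U'_m ⊆ U_m`
generated by the images of all `U_i ⟶ U_m` induced by maps `[m] ⟶ [i]` with `i ≤ n` form a
simplicial subobject equal to `U` in dimensions `≤ n` whose normalized part vanishes in dimensions
`> n`. Here the normalized subobject of `U_m` is the joint kernel of the faces `d_1, …, d_m`; the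
published statement uses the faces `d_0, …, d_{m-1}`, the mirror-image convention, and both versions
hold. -/
theorem result {A : Type u} [Category.{v} A] [Abelian A] (U : SimplicialObject A) (n : ℕ) (U' : ∀ m : ℕ, Subobject (U.obj (op (SimplexCategory.mk m)))) (hU' : ∀ m : ℕ, IsLUB (Set.range (fun φ : Σ i : Fin (n + 1), (SimplexCategory.mk m ⟶ SimplexCategory.mk i) => imageSubobject (U.map φ.2.op))) (U' m)) : (∀ (m m' : ℕ) (ψ : SimplexCategory.mk m' ⟶ SimplexCategory.mk m), imageSubobject ((U' m).arrow ≫ U.map ψ.op) ≤ U' m') ∧ (∀ i : ℕ, i ≤ n → U' i = ⊤) ∧ (∀ m : ℕ, n < m → U' m ⊓ AlgebraicTopology.NormalizedMooreComplex.objX U m = ⊥) := by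
  have hub : ∀ (m : ℕ) (i : ℕ) (hi : i ≤ n) (φ : SimplexCategory.mk m ⟶ SimplexCategory.mk i),
      imageSubobject (U.map φ.op) ≤ U' m := by
    intro m i hi φ
    exact (hU' m).1 ⟨⟨⟨i, Nat.lt_succ_of_le hi⟩, φ⟩, rfl⟩
  refine ⟨?_, ?_, ?_⟩
  · intro m m' ψ
    -- U' m ≤ pullback (U.map ψ.op) (U' m')
    have key : U' m ≤ (Subobject.pullback (U.map ψ.op)).obj (U' m') := by
      apply (hU' m).2
      rintro _ ⟨⟨i, φ⟩, rfl⟩
      dsimp only
      have h1 : (U' m').Factors (U.map φ.op ≫ U.map ψ.op) := by
        have : U.map φ.op ≫ U.map ψ.op = U.map (ψ ≫ φ).op := by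
          rw [← U.map_comp]; rfl
        rw [this]
        exact Subobject.factors_of_le _ (hub m' i (Nat.le_of_lt_succ i.2) (ψ ≫ φ))
          (imageSubobject_factors_comp_self (f := U.map (ψ ≫ φ).op) (𝟙 _) |> fun h => by simpa using h)
      have h2 := (CategoryTheory.Limits.pullback_factors_iff (U.map ψ.op) (U' m') (U.map φ.op)).mpr h1
      exact imageSubobject_le _ ((Subobject.pullback (U.map ψ.op)).obj (U' m') |>.factorThru _ h2)
        (Subobject.factorThru_arrow _ _ _)
    have h3 : ((Subobject.pullback (U.map ψ.op)).obj (U' m')).Factors (U' m).arrow :=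
      Subobject.factors_of_le _ key (Subobject.factors_self _)
    have h4 := (CategoryTheory.Limits.pullback_factors_iff (U.map ψ.op) (U' m') (U' m).arrow).mp h3
    exact imageSubobject_le _ ((U' m').factorThru _ h4) (Subobject.factorThru_arrow _ _ _)
  · intro i hi
    have h1 := hub i i hi (𝟙 _)
    have h2 : imageSubobject (U.map (𝟙 (SimplexCategory.mk i)).op) = ⊤ := by
      have : U.map (𝟙 (SimplexCategory.mk i)).op = 𝟙 _ := by
        rw [op_id, U.map_id]
      rw [this, imageSubobject_mono]
      exact Subobject.mk_eq_top_of_isIso _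
    rw [h2] at h1
    exact top_le_iff.mp h1
  · intro m hm
    obtain ⟨m₀, rfl⟩ : ∃ m₀, m = m₀ + 1 := ⟨m - 1, by omega⟩
    -- U' ≤ kernel of PInfty
    have hker : (U' (m₀ + 1)).arrow ≫ (AlgebraicTopology.DoldKan.PInfty (X := U)).f (m₀ + 1) = 0 := by
      have hle : U' (m₀ + 1) ≤ kernelSubobject ((AlgebraicTopology.DoldKan.PInfty (X := U)).f (m₀ + 1)) := by
        apply (hU' (m₀ + 1)).2
        rintro _ ⟨⟨i, φ⟩, rfl⟩
        dsimp only
        have hni : ¬ Function.Injective φ.toOrderHom := by
          intro hinj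
          have := Fintype.card_le_of_injective _ hinj
          simp only [SimplexCategory.len_mk, Fintype.card_fin] at this
          have := i.2
          omega
        obtain ⟨j, θ', hθ⟩ := SimplexCategory.eq_σ_comp_of_not_injective φ hni
        have hcomp : U.map φ.op ≫ (AlgebraicTopology.DoldKan.PInfty (X := U)).f (m₀ + 1) = 0 := by
          rw [hθ, op_comp, U.map_comp, Category.assoc]
          have := AlgebraicTopology.DoldKan.σ_comp_PInfty U j
          change U.map (SimplexCategory.σ j).op ≫ _ = 0 at this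
          rw [this, comp_zero]
        exact imageSubobject_le _ (kernel.lift _ _ hcomp ≫ (kernelSubobjectIso _).inv) (by simp)
      have := Subobject.ofLE_arrow hle
      rw [← this, Category.assoc, kernelSubobject_arrow_comp, comp_zero]
    have hN : (AlgebraicTopology.NormalizedMooreComplex.objX U (m₀ + 1)).arrow ≫
        (AlgebraicTopology.DoldKan.PInfty (X := U)).f (m₀ + 1) =
        (AlgebraicTopology.NormalizedMooreComplex.objX U (m₀ + 1)).arrow := by
      have := HomologicalComplex.congr_hom (AlgebraicTopology.DoldKan.inclusionOfMooreComplexMap_comp_PInfty U) (m₀ + 1)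
      rw [HomologicalComplex.comp_f, AlgebraicTopology.inclusionOfMooreComplexMap_f] at this
      exact this
    set S := U' (m₀ + 1) ⊓ AlgebraicTopology.NormalizedMooreComplex.objX U (m₀ + 1) with hS
    have h1 : S.arrow ≫ (AlgebraicTopology.DoldKan.PInfty (X := U)).f (m₀ + 1) = 0 := by
      rw [← Subobject.ofLE_arrow (inf_le_left : S ≤ U' (m₀ + 1)), Category.assoc, hker, comp_zero]
    have h2 : S.arrow ≫ (AlgebraicTopology.DoldKan.PInfty (X := U)).f (m₀ + 1) = S.arrow := by
      rw [← Subobject.ofLE_arrow (inf_le_right : S ≤ AlgebraicTopology.NormalizedMooreComplex.objX U (m₀ + 1)),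
        Category.assoc, hN]
    have h3 : S.arrow = 0 := by rw [← h2, h1]
    rw [← Subobject.mk_arrow S, Subobject.mk_eq_bot_iff_zero]
    exact h3

end Groth.Agent.S6818
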