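import Groth.Statements.S1123
import Groth.Agent.H23.Horseshoe

set_option autoImplicit false
universe v u
open CategoryTheory CategoryTheory.Limits
open CohDer

namespace Groth.Agent.S1123

/-- Let A be an abelian category with enough injectives and S : 0 → A• → B• → C• → 0 a short exact
sequence of cochain complexes all vanishing below degree n. Then there are a short exact sequence T
: 0 → I₁ → I₂ → I₃ → 0 of complexes of injective objects vanishing below degree n and a morphism of
short exact sequences S ⟶ T whose three components are quasi-isomorphisms. -/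
theorem result {A : Type u} [Category.{v} A] [Abelian A] [EnoughInjectives A]
    (S : ShortComplex (CochainComplex A ℤ)) (hS : S.ShortExact) (n : ℤ)
    [S.X₁.IsStrictlyGE n] [S.X₂.IsStrictlyGE n] [S.X₃.IsStrictlyGE n] :
    ∃ (T : ShortComplex (CochainComplex A ℤ)) (φ : S ⟶ T), T.ShortExact ∧
      T.X₁.IsStrictlyGE n ∧ T.X₂.IsStrictlyGE n ∧ T.X₃.IsStrictlyGE n ∧
      (∀ k : ℤ, Injective (T.X₁.X k) ∧ Injective (T.X₂.X k) ∧ Injective (T.X₃.X k)) ∧
      QuasiIso φ.τ₁ ∧ QuasiIso φ.τ₂ ∧ QuasiIso φ.τ₃ := by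
  classical
  obtain ⟨I₃, c, hc, hI₃inj, hI₃ge⟩ :=
    CochainComplex.Plus.modelCategoryQuillen.exists_quasiIso_injective S.X₃ n
  obtain ⟨I₂, hI₂ge, ι, π, hι, hιqi, hπ, hfac⟩ :=
    Groth.Agent.H23.Horseshoe.cm5a' (S.g ≫ c) n
  have hπepi : Epi π := hπ.epi
  have hT : (ShortComplex.mk (kernel.ι π) π (kernel.condition π)).ShortExact :=
    { exact := ShortComplex.exact_of_f_is_kernel _ (kernelIsKernel π)
      mono_f := inferInstance
      epi_g := hπepi }
  have hw : (S.f ≫ ι) ≫ π = 0 := by
    rw [Category.assoc, hfac, ← Category.assoc, S.zero, zero_comp]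
  have hinj₂ : ∀ k, Injective (I₂.X k) := by
    intro k
    obtain ⟨J, hJ, f, w, ⟨σ⟩⟩ := (CategoryTheory.Abelian.epiWithInjectiveKernel_iff (π.f k)).1 (hπ k)
    have := hI₃inj k
    exact Injective.of_iso σ.isoBinaryBiproduct.symm inferInstance
  have hinj₁ : ∀ k, Injective ((kernel π).X k) := by
    intro k
    have hTk := hT.map_of_exact (HomologicalComplex.eval A (ComplexShape.up ℤ) k)
    have e := IsLimit.conePointUniqueUpToIso hTk.fIsKernel (limit.isLimit _)
    have := (hπ k).2
    exact Injective.of_iso e.symm this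
  have hge₁ : (kernel π).IsStrictlyGE n := by
    rw [CochainComplex.isStrictlyGE_iff]
    intro i hi
    exact IsZero.of_mono ((kernel.ι π).f i) (I₂.isZero_of_isStrictlyGE n i hi)
  refine ⟨ShortComplex.mk (kernel.ι π) π (kernel.condition π),
    { τ₁ := kernel.lift π (S.f ≫ ι) hw
      τ₂ := ι
      τ₃ := c
      comm₁₂ := by simp
      comm₂₃ := by simpa using hfac }, hT, hge₁, hI₂ge, hI₃ge,
    fun k => ⟨hinj₁ k, hinj₂ k, hI₃inj k⟩, ?_, hιqi, hc⟩
  -- quasi-isomorphism of τ₁ via the derived category
  have : HasDerivedCategory A := MorphismProperty.HasLocalization.standard _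
  have h₂ : IsIso (DerivedCategory.Q.map ι) := by
    rw [DerivedCategory.isIso_Q_map_iff_quasiIso]; exact hιqi
  have h₃ : IsIso (DerivedCategory.Q.map c) := by
    rw [DerivedCategory.isIso_Q_map_iff_quasiIso]; exact hc
  have := Pretriangulated.isIso₁_of_isIso₂₃
    (DerivedCategory.triangleOfSES.map hS hT
      { τ₁ := kernel.lift π (S.f ≫ ι) hw
        τ₂ := ι
        τ₃ := c
        comm₁₂ := by simp
        comm₂₃ := by simpa using hfac })
    (DerivedCategory.triangleOfSES_distinguished hS)
    (DerivedCategory.triangleOfSES_distinguished hT) h₂ h₃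
  rw [← DerivedCategory.isIso_Q_map_iff_quasiIso]
  exact this

end Groth.Agent.S1123
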