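import Groth.Statements.S12229
import Groth.Agent.S1123

set_option autoImplicit false
universe w w' v v' u u'
open CategoryTheory CategoryTheory.Limits
open CohDer

namespace Groth.Agent.S12229

/-- Let F : C → D be a left exact functor between abelian categories with C having enough injectives,
and let 0 → X₁ → X₂ → X₃ → 0 be a short exact sequence of bounded below complexes of C (maps f, g
with f a monomorphism, g an epimorphism and ker g = im f, degreewise). Then there is a long exact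
cohomology sequence … → H^i(RF X₁) → H^i(RF X₂) → H^i(RF X₃) → H^{i+1}(RF X₁) → …: for every i the
induced sequence is exact at H^i(RF X₂), and there is a connecting morphism H^i(RF X₃) → H^{i+1}(RF
X₁) with exactness at H^i(RF X₃) and at H^{i+1}(RF X₁). Here RF is the right derived functor on the
bounded below derived category and H^i is computed in D(D); exactness is expressed as equality of
kernel and image subobjects. Existence of such a connecting morphism only; the canonical one coming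
from the distinguished triangle of the short exact sequence is not named. -/
theorem result {C : Type u} [Category.{v} C] [Abelian C] [HasDerivedCategory.{w} C]
    [EnoughInjectives C] {D : Type u'} [Category.{v'} D] [Abelian D] [HasDerivedCategory.{w'} D]
    (F : C ⥤ D) [F.Additive] [PreservesFiniteLimits F]
    {X₁ X₂ X₃ : CochainComplex.Plus C} (f : X₁ ⟶ X₂) (g : X₂ ⟶ X₃)
    (hf : Mono ((CochainComplex.Plus.ι C).map f)) (hg : Epi ((CochainComplex.Plus.ι C).map g))
    (hex : kernelSubobject ((CochainComplex.Plus.ι C).map g) = imageSubobject ((CochainComplex.Plus.ι C).map f))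
    (i : ℤ) :
    let Φ := HomotopyCategory.Plus.quotient C ⋙ DerivedCategory.Plus.Qh ⋙ F.rightDerivedFunctorPlus ⋙
      DerivedCategory.Plus.ι ⋙ DerivedCategory.homologyFunctor D i
    let Ψ := HomotopyCategory.Plus.quotient C ⋙ DerivedCategory.Plus.Qh ⋙ F.rightDerivedFunctorPlus ⋙
      DerivedCategory.Plus.ι ⋙ DerivedCategory.homologyFunctor D (i + 1)
    kernelSubobject (Φ.map g) = imageSubobject (Φ.map f) ∧
      ∃ δ : Φ.obj X₃ ⟶ Ψ.obj X₁,
        kernelSubobject δ = imageSubobject (Φ.map g) ∧ kernelSubobject (Ψ.map f) = imageSubobject δ := by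
  classical
  intro Φ Ψ
  let Fn : ℤ → (CochainComplex.Plus C ⥤ D) := fun n =>
    HomotopyCategory.Plus.quotient C ⋙ DerivedCategory.Plus.Qh ⋙
      F.rightDerivedFunctorPlus ⋙ DerivedCategory.Plus.homologyFunctor D n
  let Φn : ℤ → (CochainComplex.Plus C ⥤ D) := fun n =>
    HomotopyCategory.Plus.quotient C ⋙
      (F.mapHomotopyCategoryPlus ⋙ DerivedCategory.Plus.Qh) ⋙
        DerivedCategory.Plus.homologyFunctor D n
  let η : ∀ n, Φn n ⟶ Fn n := fun n =>
    Functor.whiskerLeft (HomotopyCategory.Plus.quotient C)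
      (Functor.whiskerRight F.rightDerivedFunctorPlusUnit
        (DerivedCategory.Plus.homologyFunctor D n))
  change kernelSubobject ((Fn i).map g) = imageSubobject ((Fn i).map f) ∧
    ∃ δ : (Fn i).obj X₃ ⟶ (Fn (i + 1)).obj X₁,
      kernelSubobject δ = imageSubobject ((Fn i).map g) ∧
        kernelSubobject ((Fn (i + 1)).map f) = imageSubobject δ
  have hex' : kernelSubobject g.hom = imageSubobject f.hom := hex
  have hf' : Mono f.hom := hf
  have hg' : Epi g.hom := hg
  have hzero : f.hom ≫ g.hom = 0 := by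
    have hle : imageSubobject f.hom ≤ kernelSubobject g.hom := le_of_eq hex'.symm
    calc f.hom ≫ g.hom
        = (factorThruImageSubobject f.hom ≫ (imageSubobject f.hom).arrow) ≫ g.hom := by
          rw [imageSubobject_arrow_comp]
      _ = (factorThruImageSubobject f.hom ≫ Subobject.ofLE _ _ hle ≫
            (kernelSubobject g.hom).arrow) ≫ g.hom := by
          rw [Subobject.ofLE_arrow]
      _ = 0 := by
          simp only [Category.assoc, kernelSubobject_arrow_comp, comp_zero]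
  have hS : (ShortComplex.mk f.hom g.hom hzero).ShortExact :=
    { exact := (ShortComplex.exact_iff_image_eq_kernel _).mpr hex'.symm
      mono_f := hf'
      epi_g := hg' }
  -- a common lower bound
  obtain ⟨n₁, h₁⟩ := X₁.property
  obtain ⟨n₂, h₂⟩ := X₂.property
  obtain ⟨n₃, h₃⟩ := X₃.property
  obtain ⟨n₀, hn₀⟩ : ∃ n₀ : ℤ, n₀ = min n₁ (min n₂ n₃) := ⟨_, rfl⟩
  have : X₁.obj.IsStrictlyGE n₀ := X₁.obj.isStrictlyGE_of_ge n₀ n₁ (by omega)
  have : X₂.obj.IsStrictlyGE n₀ := X₂.obj.isStrictlyGE_of_ge n₀ n₂ (by omega)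
  have : X₃.obj.IsStrictlyGE n₀ := X₃.obj.isStrictlyGE_of_ge n₀ n₃ (by omega)
  obtain ⟨R, τ, hR, hR1, hR2, hR3, hinj, hq1, hq2, hq3⟩ :=
    Groth.Agent.S1123.result (ShortComplex.mk f.hom g.hom hzero) hS n₀
  let J₁ : CochainComplex.Plus C := ⟨R.X₁, ⟨n₀, hR1⟩⟩
  let J₂ : CochainComplex.Plus C := ⟨R.X₂, ⟨n₀, hR2⟩⟩
  let J₃ : CochainComplex.Plus C := ⟨R.X₃, ⟨n₀, hR3⟩⟩
  let a : J₁ ⟶ J₂ := ObjectProperty.homMk R.f
  let b : J₂ ⟶ J₃ := ObjectProperty.homMk R.g
  let q₁ : X₁ ⟶ J₁ := ObjectProperty.homMk τ.τ₁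
  let q₂ : X₂ ⟶ J₂ := ObjectProperty.homMk τ.τ₂
  let q₃ : X₃ ⟶ J₃ := ObjectProperty.homMk τ.τ₃
  have c12 : f ≫ q₂ = q₁ ≫ a := by
    ext : 1
    exact τ.comm₁₂.symm
  have c23 : g ≫ q₃ = q₂ ≫ b := by
    ext : 1
    exact τ.comm₂₃.symm
  have inv_qi : ∀ (n : ℤ) {X Y : CochainComplex.Plus C} (q : X ⟶ Y), QuasiIso q.hom →
      IsIso ((Fn n).map q) := by
    intro n X Y q hq
    have h1 : IsIso (DerivedCategory.Plus.Qh.map ((HomotopyCategory.Plus.quotient C).map q)) :=
      Localization.inverts (HomotopyCategory.Plus.quotient C ⋙ DerivedCategory.Plus.Qh)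
        (CochainComplex.Plus.quasiIso C) q hq
    exact Functor.map_isIso
      (F.rightDerivedFunctorPlus ⋙ DerivedCategory.Plus.homologyFunctor D n) _
  -- the image under `F` of the injective short exact sequence
  let G := F.mapHomologicalComplex (ComplexShape.up ℤ)
  have hS' : (R.map G).ShortExact := by
    apply HomologicalComplex.shortExact_of_degreewise_shortExact
    intro k
    have hk : (R.map (HomologicalComplex.eval C (ComplexShape.up ℤ) k)).ShortExact :=
      hR.map_of_exact _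
    have : Injective (R.map (HomologicalComplex.eval C (ComplexShape.up ℤ) k)).X₁ := (hinj k).1
    exact (hk.splittingOfInjective.map F).shortExact
  let ε : ∀ (n : ℤ) (X : CochainComplex.Plus C), (Φn n).obj X ≅ (G.obj X.obj).homology n :=
    fun n X => (DerivedCategory.homologyFunctorFactors D n).app (G.obj X.obj)
  have εnat : ∀ (n : ℤ) {X Y : CochainComplex.Plus C} (f : X ⟶ Y),
      (Φn n).map f ≫ (ε n Y).hom =
        (ε n X).hom ≫ HomologicalComplex.homologyMap (G.map f.hom) n := by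
    intro n X Y f
    exact DerivedCategory.homologyFunctorFactors_hom_naturality (G.map f.hom) n
  have iη : ∀ (n : ℤ) (J : CochainComplex.Plus C), (∀ k, Injective (J.obj.X k)) →
      IsIso ((η n).app J) := by
    intro n J hJ
    change IsIso ((DerivedCategory.Plus.homologyFunctor D n).map
      (F.rightDerivedFunctorPlusUnit.app ((HomotopyCategory.Plus.quotient C).obj J)))
    infer_instance
  have comm : ∀ (n : ℤ) {X Y : CochainComplex.Plus C} (f : X ⟶ Y)
      [IsIso ((η n).app X)] [IsIso ((η n).app Y)],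
      (inv ((η n).app X) ≫ (ε n X).hom) ≫ HomologicalComplex.homologyMap (G.map f.hom) n =
        (Fn n).map f ≫ (inv ((η n).app Y) ≫ (ε n Y).hom) := by
    intro n X Y f _ _
    rw [Category.assoc, ← εnat n f, ← Category.assoc, ← Category.assoc]
    congr 1
    rw [IsIso.eq_comp_inv, Category.assoc, (η n).naturality f, IsIso.inv_hom_id_assoc]
  let Θ : ∀ (n : ℤ) {X J : CochainComplex.Plus C} (q : X ⟶ J) [IsIso ((Fn n).map q)]
      [IsIso ((η n).app J)], (Fn n).obj X ≅ (G.obj J.obj).homology n := fun n X J q _ _ =>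
    asIso ((Fn n).map q) ≪≫ (asIso ((η n).app J)).symm ≪≫ ε n J
  have Θnat : ∀ (n : ℤ) {X Y J J' : CochainComplex.Plus C} (f : X ⟶ Y) (a : J ⟶ J')
      (q : X ⟶ J) (q' : Y ⟶ J') (hc : f ≫ q' = q ≫ a)
      [IsIso ((Fn n).map q)] [IsIso ((Fn n).map q')]
      [IsIso ((η n).app J)] [IsIso ((η n).app J')],
      (Θ n q).hom ≫ HomologicalComplex.homologyMap (G.map a.hom) n =
        (Fn n).map f ≫ (Θ n q').hom := by
    intro n X Y J J' f a q q' hc _ _ _ _
    change ((Fn n).map q ≫ inv ((η n).app J) ≫ (ε n J).hom) ≫ _ =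
      (Fn n).map f ≫ ((Fn n).map q' ≫ inv ((η n).app J') ≫ (ε n J').hom)
    rw [Category.assoc, comm n a, ← (Fn n).map_comp_assoc, ← hc, (Fn n).map_comp_assoc]
  have inj1 : ∀ k, Injective (J₁.obj.X k) := fun k => (hinj k).1
  have inj2 : ∀ k, Injective (J₂.obj.X k) := fun k => (hinj k).2.1
  have inj3 : ∀ k, Injective (J₃.obj.X k) := fun k => (hinj k).2.2
  have iq1 : ∀ n, IsIso ((Fn n).map q₁) := fun n => inv_qi n q₁ hq1
  have iq2 : ∀ n, IsIso ((Fn n).map q₂) := fun n => inv_qi n q₂ hq2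
  have iq3 : ∀ n, IsIso ((Fn n).map q₃) := fun n => inv_qi n q₃ hq3
  have ie1 : ∀ n, IsIso ((η n).app J₁) := fun n => iη n J₁ inj1
  have ie2 : ∀ n, IsIso ((η n).app J₂) := fun n => iη n J₂ inj2
  have ie3 : ∀ n, IsIso ((η n).app J₃) := fun n => iη n J₃ inj3
  have n12 : ∀ n, (Θ n q₁).hom ≫ HomologicalComplex.homologyMap (G.map a.hom) n =
      (Fn n).map f ≫ (Θ n q₂).hom := fun n => Θnat n f a q₁ q₂ c12
  have n23 : ∀ n, (Θ n q₂).hom ≫ HomologicalComplex.homologyMap (G.map b.hom) n =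
      (Fn n).map g ≫ (Θ n q₃).hom := fun n => Θnat n g b q₂ q₃ c23
  have hmz : HomologicalComplex.homologyMap (G.map a.hom) i ≫
      HomologicalComplex.homologyMap (G.map b.hom) i = 0 := by
    rw [← HomologicalComplex.homologyMap_comp, ← G.map_comp]
    have hab : a.hom ≫ b.hom = 0 := R.zero
    rw [hab, G.map_zero, HomologicalComplex.homologyMap_zero]
  let δ₀ : (G.obj J₃.obj).homology i ⟶ (G.obj J₁.obj).homology (i + 1) :=
    hS'.δ i (i + 1) rfl
  have cd : HomologicalComplex.homologyMap (G.map b.hom) i ≫ δ₀ = 0 :=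
    hS'.comp_δ i (i + 1) rfl
  have dc : δ₀ ≫ HomologicalComplex.homologyMap (G.map a.hom) (i + 1) = 0 :=
    hS'.δ_comp i (i + 1) rfl
  have z2 : (Fn i).map f ≫ (Fn i).map g = 0 := by
    rw [← cancel_mono (Θ i q₃).hom, Category.assoc, ← n23 i, ← Category.assoc, ← n12 i,
      Category.assoc, zero_comp, hmz, comp_zero]
  have ex2 : (ShortComplex.mk ((Fn i).map f) ((Fn i).map g) z2).Exact :=
    (ShortComplex.exact_iff_of_iso (ShortComplex.isoMk (Θ i q₁) (Θ i q₂) (Θ i q₃)
      (n12 i) (n23 i))).2 (hS'.homology_exact₂ i)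
  let δ' : (Fn i).obj X₃ ⟶ (Fn (i + 1)).obj X₁ :=
    (Θ i q₃).hom ≫ δ₀ ≫ (Θ (i + 1) q₁).inv
  have cδ : (Θ i q₃).hom ≫ δ₀ = δ' ≫ (Θ (i + 1) q₁).hom := by
    change _ = ((Θ i q₃).hom ≫ δ₀ ≫ (Θ (i + 1) q₁).inv) ≫ (Θ (i + 1) q₁).hom
    rw [Category.assoc, Category.assoc, Iso.inv_hom_id, Category.comp_id]
  have z3 : (Fn i).map g ≫ δ' = 0 := by
    change (Fn i).map g ≫ (Θ i q₃).hom ≫ δ₀ ≫ (Θ (i + 1) q₁).inv = 0
    rw [reassoc_of% (n23 i).symm, reassoc_of% cd, zero_comp, comp_zero]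
  have n12' : (Θ (i + 1) q₁).inv ≫ (Fn (i + 1)).map f =
      HomologicalComplex.homologyMap (G.map a.hom) (i + 1) ≫ (Θ (i + 1) q₂).inv := by
    rw [Iso.inv_comp_eq, ← Category.assoc, n12 (i + 1), Category.assoc, Iso.hom_inv_id,
      Category.comp_id]
  have z1 : δ' ≫ (Fn (i + 1)).map f = 0 := by
    change ((Θ i q₃).hom ≫ δ₀ ≫ (Θ (i + 1) q₁).inv) ≫
      (Fn (i + 1)).map f = 0
    rw [Category.assoc, Category.assoc, n12', reassoc_of% dc, zero_comp, comp_zero]
  have ex3 : (ShortComplex.mk ((Fn i).map g) δ' z3).Exact :=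
    (ShortComplex.exact_iff_of_iso (ShortComplex.isoMk (Θ i q₂) (Θ i q₃) (Θ (i + 1) q₁)
      (n23 i) cδ)).2 (hS'.homology_exact₃ i (i + 1) rfl)
  have ex1 : (ShortComplex.mk δ' ((Fn (i + 1)).map f) z1).Exact :=
    (ShortComplex.exact_iff_of_iso (ShortComplex.isoMk (Θ i q₃) (Θ (i + 1) q₁) (Θ (i + 1) q₂)
      cδ (n12 (i + 1)))).2 (hS'.homology_exact₁ i (i + 1) rfl)
  exact ⟨((ShortComplex.exact_iff_image_eq_kernel _).1 ex2).symm, δ',
    ((ShortComplex.exact_iff_image_eq_kernel _).1 ex3).symm,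
    ((ShortComplex.exact_iff_image_eq_kernel _).1 ex1).symm⟩

end Groth.Agent.S12229
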