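import Groth.Statements.S5483
import Groth.Agent.H23.RootD.Span
import Groth.Agent.S5486

set_option autoImplicit false
open RootD

namespace Groth.Agent.S5483

lemma mixed_contra {ι M N : Type*} [AddCommGroup M] [AddCommGroup N]
    (P : RootPairing ι ℤ M N) [Finite ι] {Δ : Set ι} (hΔ : RootD.IsSimpleSys P Δ) {A : Set ι}
    (hA : A ⊆ Δ) {j i : ι} (hj : j ∈ RootD.posOf P Δ)
    (hjA : ↑(H23.RD.coeff hΔ j).support ⊆ A) (hi : i ∈ Δ) (hiA : i ∉ A)
    (horth : ∀ l ∈ A, P.pairing l i = 0) (hm : P.root j + P.root i ∈ Set.range P.root) : False := by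
  classical
  have hp : P.pairing j i = 0 := by
    have h1 : P.pairing j i = P.coroot' i (H23.RD.lc P (H23.RD.coeff hΔ j)) := by
      rw [H23.RD.lc_coeff hΔ j, P.root_coroot'_eq_pairing]
    rw [h1, H23.RD.lc, Finsupp.linearCombination_apply, Finsupp.sum, map_sum]
    refine Finset.sum_eq_zero (fun l hl => ?_)
    rw [map_smul, P.root_coroot'_eq_pairing, horth l (hjA hl), smul_zero]
  have horth' : P.IsOrthogonal j i := ⟨hp, (H23.RD.pairing_zero_iff P).1 hp⟩
  obtain ⟨m', hm'⟩ := (Groth.Agent.S5486.result P j i horth').1 hm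
  have hcm : H23.RD.coeff hΔ m' = H23.RD.coeff hΔ j - Finsupp.single i 1 := by
    apply H23.RD.coeff_eq hΔ
    · intro l hl
      rcases Finset.mem_union.1 (Finsupp.support_sub hl) with h | h
      · exact H23.RD.coeff_supp hΔ j h
      · have := Finsupp.support_single_subset h
        simp only [Finset.mem_singleton] at this
        rwa [this]
    · simp only [H23.RD.lc, map_sub, Finsupp.linearCombination_single, one_smul]
      rw [hm']
      congr 1
      exact H23.RD.lc_coeff hΔ j
  have hji : H23.RD.coeff hΔ j i = 0 := by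
    by_contra h
    exact hiA (hjA (Finsupp.mem_support_iff.2 h))
  obtain ⟨l, hl⟩ : ∃ l, H23.RD.coeff hΔ j l ≠ 0 := by
    by_contra hcon
    push Not at hcon
    exact H23.RD.coeff_ne_zero hΔ j (Finsupp.ext hcon)
  have hlpos : 0 < H23.RD.coeff hΔ j l :=
    lt_of_le_of_ne ((H23.RD.mem_posOf_iff hΔ).1 hj l) (Ne.symm hl)
  have hli : l ≠ i := by rintro rfl; exact hl hji
  rcases H23.RD.coeff_sign hΔ m' with h | h
  · have := h i
    rw [hcm] at this
    simp [hji] at this
  · have := h l
    rw [hcm] at this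
    simp only [Finsupp.coe_sub, Pi.sub_apply, Finsupp.single_apply, if_neg hli.symm, sub_zero] at this
    omega

/-- If a system of simple roots Δ is the disjoint union of two mutually orthogonal subsets Δ', Δ'', then
R_{Δ'} and R_{Δ''} partition the set of roots. -/
theorem result {ι M N : Type*} [AddCommGroup M] [AddCommGroup N]
    (P : RootPairing ι ℤ M N) [Finite ι] (Δ Δ' : Set ι) (hΔ : RootD.IsSimpleSys P Δ)
    (hsub : Δ' ⊆ Δ) (horth : ∀ i ∈ Δ', ∀ j ∈ Δ \ Δ', P.IsOrthogonal i j) (k : ι) :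
    (k ∈ RootD.inSpan P Δ' ∨ k ∈ RootD.inSpan P (Δ \ Δ')) ∧
      ¬ (k ∈ RootD.inSpan P Δ' ∧ k ∈ RootD.inSpan P (Δ \ Δ')) := by
  classical
  have key : ∀ m, H23.RD.Reach P Δ m →
      m ∈ RootD.inSpan P Δ' ∨ m ∈ RootD.inSpan P (Δ \ Δ') := by
    intro m hm
    induction hm with
    | @base m hi =>
      by_cases h : m ∈ Δ'
      · exact Or.inl (Submodule.subset_span ⟨m, h, rfl⟩)
      · exact Or.inr (Submodule.subset_span ⟨m, ⟨hi, h⟩, rfl⟩)
    | @step j i m hj hi hm ih =>
      have hjpos : j ∈ RootD.posOf P Δ := hj.mem_natSpan P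
      rcases ih with h | h
      · by_cases hiA : i ∈ Δ'
        · left
          show P.root m ∈ Submodule.span ℤ (P.root '' Δ')
          rw [hm]
          exact add_mem h (Submodule.subset_span ⟨i, hiA, rfl⟩)
        · exfalso
          rw [H23.RD.mem_inSpan_iff hΔ hsub] at h
          exact mixed_contra P hΔ hsub hjpos h hi hiA
            (fun l hl => (horth l hl i ⟨hi, hiA⟩).1) ⟨m, hm⟩
      · by_cases hiA : i ∈ Δ \ Δ'
        · right
          show P.root m ∈ Submodule.span ℤ (P.root '' (Δ \ Δ'))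
          rw [hm]
          exact add_mem h (Submodule.subset_span ⟨i, hiA, rfl⟩)
        · exfalso
          rw [H23.RD.mem_inSpan_iff hΔ Set.sdiff_subset] at h
          have hiΔ' : i ∈ Δ' := by
            by_contra h'; exact hiA ⟨hi, h'⟩
          exact mixed_contra P hΔ Set.sdiff_subset hjpos h hi hiA
            (fun l hl => (horth i hiΔ' l hl).2) ⟨m, hm⟩
  constructor
  · rcases H23.RD.reach_or_reach_neg hΔ k with h | h
    · exact key k h
    · rcases key _ h with h' | h'
      · exact Or.inl (H23.RD.negIdx_mem_inSpan_iff.1 h')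
      · exact Or.inr (H23.RD.negIdx_mem_inSpan_iff.1 h')
  · rintro ⟨h1, h2⟩
    rw [H23.RD.mem_inSpan_iff hΔ hsub] at h1
    rw [H23.RD.mem_inSpan_iff hΔ Set.sdiff_subset] at h2
    apply H23.RD.coeff_ne_zero hΔ k
    ext i
    by_contra hi
    have hi' : i ∈ (H23.RD.coeff hΔ k).support := Finsupp.mem_support_iff.2 hi
    exact (h2 hi').2 (h1 hi')

end Groth.Agent.S5483
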