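import Groth.Statements.S5494
import Groth.Agent.H23.RootD.Span

set_option autoImplicit false
open RootD

namespace Groth.Agent.S5494

/-- If a system of simple roots has no partition into two non-empty orthogonal subsets, then any two
roots are linked by a chain of roots with consecutive members non-orthogonal. -/
theorem result {ι M N : Type*} [AddCommGroup M] [AddCommGroup N]
    (P : RootPairing ι ℤ M N) [Finite ι] (Δ : Set ι) (hΔ : RootD.IsSimpleSys P Δ)
    (hconn : ∀ Δ' : Set ι, Δ' ⊆ Δ → (∀ i ∈ Δ', ∀ j ∈ Δ \ Δ', P.IsOrthogonal i j) → Δ' = ∅ ∨ Δ' = Δ)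
    (i j : ι) : Relation.ReflTransGen (fun a b : ι => ¬ P.IsOrthogonal a b) i j := by
  classical
  have : Fintype ι := Fintype.ofFinite ι
  have claim1 : ∀ k : ι, ∃ l ∈ Δ, ¬ P.IsOrthogonal k l := by
    intro k
    have hpos := H23.RD.rootForm_root_pos P k
    have h1 : P.RootForm (P.root k) (P.root k) =
        ∑ l ∈ (H23.RD.coeff hΔ k).support,
          H23.RD.coeff hΔ k l * P.RootForm (P.root l) (P.root k) := by
      conv_lhs => rw [← H23.RD.lc_coeff hΔ k]
      nth_rewrite 2 [H23.RD.lc_coeff hΔ k]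
      simp only [H23.RD.lc, Finsupp.linearCombination_apply, Finsupp.sum, map_sum,
        LinearMap.sum_apply, map_smul, LinearMap.smul_apply, smul_eq_mul]
    rw [h1] at hpos
    obtain ⟨l, hl, hne⟩ := Finset.exists_ne_zero_of_sum_ne_zero hpos.ne'
    refine ⟨l, H23.RD.coeff_supp hΔ k hl, fun horth => hne ?_⟩
    have h2 := H23.RD.two_mul_rootForm P l k
    rw [horth.2, zero_mul] at h2
    have : P.RootForm (P.root l) (P.root k) = 0 := by omega
    rw [this, mul_zero]
  have hsymm : ∀ a b : ι, ¬ P.IsOrthogonal a b → ¬ P.IsOrthogonal b a :=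
    fun a b h h' => h h'.symm
  set C : Set ι := {k | Relation.ReflTransGen (fun a b : ι => ¬ P.IsOrthogonal a b) i k} with hC
  have hΔC : Δ ⊆ C := by
    have horth : ∀ l ∈ Δ ∩ C, ∀ l' ∈ Δ \ (Δ ∩ C), P.IsOrthogonal l l' := by
      rintro l ⟨hlΔ, hlC⟩ l' ⟨hl'Δ, hl'C⟩
      by_contra h
      exact hl'C ⟨hl'Δ, Relation.ReflTransGen.tail hlC h⟩
    rcases hconn (Δ ∩ C) Set.inter_subset_left horth with h | h
    · exfalso
      obtain ⟨l0, hl0, hr⟩ := claim1 i
      have : l0 ∈ Δ ∩ C := ⟨hl0, Relation.ReflTransGen.single hr⟩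
      rw [h] at this
      exact this
    · intro l hl
      rw [← h] at hl
      exact hl.2
  obtain ⟨l, hl, hr⟩ := claim1 j
  exact Relation.ReflTransGen.tail (hΔC hl) (hsymm j l hr)

end Groth.Agent.S5494
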