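import Groth.Statements.S5467
import Groth.Agent.H23.RootD.Basic

set_option autoImplicit false
open RootD

namespace Groth.Agent.S5467

/-- For an indivisible positive non-simple root α there is a simple root β with (β^v, α) > 0 such that
s_β(α) is positive; its order relative to Δ is then smaller than that of α by (β^v, α). -/
theorem result {ι M N : Type*} [AddCommGroup M] [AddCommGroup N]
    (P : RootPairing ι ℤ M N) [Finite ι] (Δ : Set ι) (hΔ : RootD.IsSimpleSys P Δ)
    (k : ι) (hk : k ∈ RootD.posOf P Δ) (hkΔ : k ∉ Δ) (hind : RootD.IsIndiv P k) :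
    ∃ i ∈ Δ, 0 < P.pairing k i ∧ P.reflectionPerm i k ∈ RootD.posOf P Δ := by
  classical
  have hc0 := (H23.RD.mem_posOf_iff hΔ).1 hk
  have hroot : (1 : ℕ) • P.root k =
      ∑ l ∈ (H23.RD.coeff hΔ k).support, (H23.RD.coeff hΔ k l).toNat • P.root l := by
    rw [one_smul, ← H23.RD.lc_coeff hΔ k, H23.RD.lc, Finsupp.linearCombination_apply, Finsupp.sum]
    refine Finset.sum_congr rfl (fun l _ => ?_)
    rw [← natCast_zsmul, Int.toNat_of_nonneg (hc0 l)]
  obtain ⟨l, hl, -, hp, -⟩ := H23.RD.exists_sub_mem P (H23.RD.coeff hΔ k).support id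
    (fun l => (H23.RD.coeff hΔ k l).toNat) k
    (fun l hl h => hkΔ (h ▸ H23.RD.coeff_supp hΔ k hl)) 1 one_pos hroot
  simp only [id] at hp
  have hlΔ : l ∈ Δ := H23.RD.coeff_supp hΔ k hl
  refine ⟨l, hlΔ, (H23.RD.pairing_pos_iff P).1 hp, ?_⟩
  apply H23.RD.reflectionPerm_mem_posOf hΔ hk hlΔ
  by_contra hcon
  push Not at hcon
  have hck : H23.RD.coeff hΔ k = Finsupp.single l (H23.RD.coeff hΔ k l) := by
    ext j
    by_cases hj : j = l
    · subst hj; simp
    · rw [hcon j hj, Finsupp.single_apply, if_neg (Ne.symm hj)]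
  have hk' : P.root k = H23.RD.coeff hΔ k l • P.root l := by
    have := H23.RD.lc_coeff hΔ k
    rw [hck] at this
    simpa [H23.RD.lc] using this.symm
  rcases H23.RD.int_of_root_eq_zsmul P hk' with h | h | h | h
  · rw [h, one_smul] at hk'
    exact hkΔ (P.root.injective hk' ▸ hlΔ)
  · have := hc0 l; omega
  · exact hind l (by rw [hk', h])
  · have := hc0 l; omega

end Groth.Agent.S5467
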