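import Groth.Statements.S5455
import Groth.Agent.H23.RootD.PosSys

set_option autoImplicit false
open RootPairing
open scoped Pointwise
open RootD

namespace Groth.Agent.S5455

/-- The Weyl group acts transitively on the set of systems of simple roots (root-only sense). -/
theorem result {ι M N : Type*} [AddCommGroup M] [AddCommGroup N]
    (P : RootPairing ι ℤ M N) [Finite ι] (Δ Δ' : Set ι) (hΔ : RootD.IsSimpleSys P Δ)
    (hΔ' : RootD.IsSimpleSys P Δ') :
    ∃ g : P.Aut, g ∈ P.weylGroup ∧ (fun i : ι => g • i) '' Δ = Δ' := by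
  have hS := H23.RD.isPosSys_posOf hΔ
  have hS' := H23.RD.isPosSys_posOf hΔ'
  obtain ⟨g, hg, h⟩ := H23.RD.exists_weyl_image_eq hS hS'
  refine ⟨g, hg, ?_⟩
  calc (fun i : ι => g • i) '' Δ = (fun i : ι => g • i) '' H23.RD.simpleOf P (RootD.posOf P Δ) := by
        rw [H23.RD.simpleOf_posOf hΔ]
    _ = H23.RD.simpleOf P ((fun i : ι => g • i) '' RootD.posOf P Δ) := (H23.RD.simpleOf_image g _).symm
    _ = H23.RD.simpleOf P (RootD.posOf P Δ') := by rw [h]
    _ = Δ' := H23.RD.simpleOf_posOf hΔ'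

end Groth.Agent.S5455
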