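import Groth.Statements.S5495
import Groth.Agent.H23.RootD.Basic

set_option autoImplicit false
open RootD

namespace Groth.Agent.S5495

/-- If α is an indivisible root and kα is a root for a rational k, then k is an integer. -/
theorem result {ι M N : Type*} [AddCommGroup M] [AddCommGroup N]
    (P : RootPairing ι ℤ M N) [Finite ι] (i j : ι) (hind : RootD.IsIndiv P i) (a b : ℤ) (hb : b ≠ 0)
    (h : b • P.root j = a • P.root i) : b ∣ a := by
  have h1 : b * P.pairing j i = a * 2 := by
    have := congrArg (P.coroot' i) h
    simpa [P.root_coroot'_eq_pairing] using this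
  have h2 : b * 2 = a * P.pairing i j := by
    have := congrArg (P.coroot' j) h
    simpa [P.root_coroot'_eq_pairing] using this
  have ha : a ≠ 0 := by
    rintro rfl
    rw [zero_smul] at h
    have : b • P.root j = b • 0 := by rw [h, smul_zero]
    exact P.ne_zero j (H23.RD.zsmul_inj P hb this)
  have h4 : P.pairing i j * P.pairing j i = 4 := by
    have : b * (P.pairing i j * P.pairing j i) = b * 4 := by
      calc b * (P.pairing i j * P.pairing j i) = (b * P.pairing j i) * P.pairing i j := by ring
        _ = a * 2 * P.pairing i j := by rw [h1]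
        _ = (a * P.pairing i j) * 2 := by ring
        _ = b * 2 * 2 := by rw [h2]
        _ = b * 4 := by ring
    exact mul_left_cancel₀ hb this
  have hd : P.pairing i j ∣ 4 := ⟨_, h4.symm⟩
  have hle := Int.le_of_dvd (by norm_num) hd
  have hle' := Int.le_of_dvd (by norm_num) ((neg_dvd).2 hd)
  have hcases : P.pairing i j = 1 ∨ P.pairing i j = -1 ∨ P.pairing i j = 2 ∨ P.pairing i j = -2 ∨
      P.pairing i j = 4 ∨ P.pairing i j = -4 := by
    have h0 : P.pairing i j ≠ 0 := by intro h0; rw [h0] at h4; simp at h4
    have h3 : P.pairing i j ≠ 3 := by intro h0; rw [h0] at h4; omega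
    have h3' : P.pairing i j ≠ -3 := by intro h0; rw [h0] at h4; omega
    omega
  rcases hcases with hp | hp | hp | hp | hp | hp
  · rw [hp] at h2; exact ⟨2, by linarith⟩
  · rw [hp] at h2; exact ⟨-2, by linarith⟩
  · rw [hp] at h2; exact ⟨1, by linarith⟩
  · rw [hp] at h2; exact ⟨-1, by linarith⟩
  · exfalso
    rw [hp] at h2
    have hb2 : b = 2 * a := by linarith
    rw [hb2, mul_smul] at h
    have h' : a • ((2 : ℤ) • P.root j) = a • P.root i := by rw [smul_comm] at h; exact h
    have := H23.RD.zsmul_inj P ha h'
    exact hind j this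
  · exfalso
    rw [hp] at h2
    have hb2 : b = (-2) * a := by linarith
    rw [hb2, mul_smul] at h
    have h' : a • ((-2 : ℤ) • P.root j) = a • P.root i := by rw [smul_comm] at h; exact h
    have := H23.RD.zsmul_inj P ha h'
    apply hind (P.reflectionPerm j j)
    rw [← this]
    simp

end Groth.Agent.S5495
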