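import Groth.Statements.S0415
import Mathlib

set_option autoImplicit false
universe u
open FlatMor

namespace Groth.Agent.S0415

open AlgebraicGeometry CategoryTheory Limits in
/-- A morphism of schemes is a universal homeomorphism if and only if it is integral, universally
injective and surjective. -/
theorem result {X Y : Scheme.{u}} (f : X ⟶ Y) :
    FlatMor.IsUnivHomeo f ↔ IsIntegralHom f ∧ UniversallyInjective f ∧ Surjective f := by
  constructor
  · intro h
    have hhomeo : IsHomeomorph ⇑f := h _ _ _ IsPullback.of_id_snd
    have huc : UniversallyClosed f := ⟨fun X' Y' i₁ i₂ f' sq => (h i₁ i₂ f' sq).isClosedMap⟩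
    have hui : UniversallyInjective f := ⟨fun X' Y' i₁ i₂ f' sq => (h i₁ i₂ f' sq).injective⟩
    have haff : IsAffineHom f := isAffineHom_of_isInducing f hhomeo.isInducing (by
      rw [hhomeo.surjective.range_eq]; exact isClosed_univ)
    exact ⟨IsIntegralHom.iff_universallyClosed_and_isAffineHom.2 ⟨huc, haff⟩, hui,
      ⟨hhomeo.surjective⟩⟩
  · rintro ⟨hint, hui, hs⟩ X' Y' i₁ i₂ f' sq
    have h1 : IsIntegralHom f' := MorphismProperty.of_isPullback sq.flip hint
    have h2 : UniversallyInjective f' := MorphismProperty.of_isPullback sq.flip hui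
    have h3 : Surjective f' := MorphismProperty.of_isPullback sq.flip hs
    exact isHomeomorph_iff_continuous_isClosedMap_bijective.2
      ⟨f'.continuous, f'.isClosedMap, f'.injective, h3.surj⟩


end Groth.Agent.S0415
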