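import Groth.Statements.S7404
import Groth.Agent.H25.UnivHomeo1

set_option autoImplicit false
universe u
open CategoryTheory AlgebraicGeometry
open Mor

namespace Groth.Agent.S7404

/-- Let `A → B` be a ring map and `B' ⊆ B` an `A`-subalgebra, with `f : Spec B → Spec A` and `f' : Spec
B' → Spec A` the induced morphisms. Each of the following properties passes from `f` to `f'`: being
a universal homeomorphism; being a universal homeomorphism with trivial residue field extensions;
being universally closed; being both universally closed and universally injective. -/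
theorem result {A B : Type u} [CommRing A] [CommRing B] [Algebra A B]
    (B' : Subalgebra A B) :
    (FlatMor.IsUnivHomeo (Spec.map (CommRingCat.ofHom (algebraMap A B))) →
      FlatMor.IsUnivHomeo (Spec.map (CommRingCat.ofHom (algebraMap A B')))) ∧
    ((FlatMor.IsUnivHomeo (Spec.map (CommRingCat.ofHom (algebraMap A B))) ∧
      ∀ x : Spec (CommRingCat.of B),
        Function.Surjective ((Spec.map (CommRingCat.ofHom (algebraMap A B))).residueFieldMap x)) →
      FlatMor.IsUnivHomeo (Spec.map (CommRingCat.ofHom (algebraMap A B'))) ∧
      ∀ x : Spec (CommRingCat.of B'),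
        Function.Surjective ((Spec.map (CommRingCat.ofHom (algebraMap A B'))).residueFieldMap x)) ∧
    (UniversallyClosed (Spec.map (CommRingCat.ofHom (algebraMap A B))) →
      UniversallyClosed (Spec.map (CommRingCat.ofHom (algebraMap A B')))) ∧
    (UniversallyClosed (Spec.map (CommRingCat.ofHom (algebraMap A B))) →
      UniversallyInjective (Spec.map (CommRingCat.ofHom (algebraMap A B))) →
      UniversallyClosed (Spec.map (CommRingCat.ofHom (algebraMap A B'))) ∧
      UniversallyInjective (Spec.map (CommRingCat.ofHom (algebraMap A B')))) := by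
  have hcomp : Spec.map (CommRingCat.ofHom (algebraMap A B)) =
      Spec.map (CommRingCat.ofHom (algebraMap B' B)) ≫
        Spec.map (CommRingCat.ofHom (algebraMap A B')) := by
    rw [← Spec.map_comp, ← CommRingCat.ofHom_comp, ← IsScalarTower.algebraMap_eq]
  have hg : UniversallyClosed (Spec.map (CommRingCat.ofHom (algebraMap A B))) →
      Surjective (Spec.map (CommRingCat.ofHom (algebraMap B' B))) := by
    intro huc
    have h1 : IsIntegralHom (Spec.map (CommRingCat.ofHom (algebraMap A B))) :=
      IsIntegralHom.iff_universallyClosed_and_isAffineHom.2 ⟨huc, inferInstance⟩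
    rw [IsIntegralHom.SpecMap_iff] at h1
    haveI : Algebra.IsIntegral A B := ⟨h1⟩
    haveI : Algebra.IsIntegral B' B := Algebra.IsIntegral.tower_top (R := A)
    have hs := RingHom.IsIntegral.comap_surjective (f := algebraMap B' B)
      (Algebra.IsIntegral.isIntegral (R := B') (A := B)) Subtype.val_injective
    exact ⟨hs⟩
  have huc_of : FlatMor.IsUnivHomeo (Spec.map (CommRingCat.ofHom (algebraMap A B))) →
      UniversallyClosed (Spec.map (CommRingCat.ofHom (algebraMap A B))) :=
    fun h => ⟨fun X' Y' i₁ i₂ f'' sq => (h i₁ i₂ f'' sq).isClosedMap⟩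
  have p1 : FlatMor.IsUnivHomeo (Spec.map (CommRingCat.ofHom (algebraMap A B))) →
      FlatMor.IsUnivHomeo (Spec.map (CommRingCat.ofHom (algebraMap A B'))) := by
    intro h
    haveI := hg (huc_of h)
    rw [hcomp] at h
    exact Groth.Agent.H25.UH.univHomeo_of_comp_surjective _ _ h
  refine ⟨p1, ?_, ?_, ?_⟩
  · rintro ⟨h, hres⟩
    refine ⟨p1 h, ?_⟩
    haveI := hg (huc_of h)
    intro x'
    obtain ⟨x, rfl⟩ := (Spec.map (CommRingCat.ofHom (algebraMap B' B))).surjective x'
    have hx := hres x
    have e : (Spec.map (CommRingCat.ofHom (algebraMap A B))).residueFieldMap x =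
        (Spec.map (CommRingCat.ofHom (algebraMap B' B)) ≫
          Spec.map (CommRingCat.ofHom (algebraMap A B'))).residueFieldMap x := by
      congr 1
    rw [e, Scheme.residueFieldMap_comp] at hx
    intro c
    obtain ⟨a, ha⟩ := hx (((Spec.map (CommRingCat.ofHom (algebraMap B' B))).residueFieldMap x) c)
    refine ⟨a, ?_⟩
    exact ((Spec.map (CommRingCat.ofHom (algebraMap B' B))).residueFieldMap x).hom.injective ha
  · intro huc
    haveI := hg huc
    haveI : UniversallyClosed (Spec.map (CommRingCat.ofHom (algebraMap B' B)) ≫
        Spec.map (CommRingCat.ofHom (algebraMap A B'))) := by rw [← hcomp]; exact huc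
    exact UniversallyClosed.of_comp_surjective (Spec.map (CommRingCat.ofHom (algebraMap B' B))) _
  · intro huc hui
    haveI := hg huc
    haveI : UniversallyClosed (Spec.map (CommRingCat.ofHom (algebraMap B' B)) ≫
        Spec.map (CommRingCat.ofHom (algebraMap A B'))) := by rw [← hcomp]; exact huc
    refine ⟨UniversallyClosed.of_comp_surjective (Spec.map (CommRingCat.ofHom (algebraMap B' B))) _,
      ?_⟩
    rw [hcomp] at hui
    exact Groth.Agent.H25.UH.ui_of_comp_surjective _ _ hui


end Groth.Agent.S7404
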