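import Groth.Statements.S7402
import Groth.Agent.H25.UnivHomeo2
import Groth.Agent.H25.ResFld1
open Groth.Agent.H25

set_option autoImplicit false
universe u
open CategoryTheory AlgebraicGeometry
open Polynomial
open Mor

namespace Groth.Agent.S7402

/-- Let `A` be a ring and `x, y ∈ A` with `x^3 = y^2`. Then `A → B = A[t]/(t^2 - x, t^3 - y)` induces a
universal homeomorphism on spectra and isomorphisms on residue fields. -/
theorem result (A : Type u) [CommRing A] (x y : A) (h : x ^ 3 = y ^ 2) :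
    FlatMor.IsUnivHomeo (Spec.map (CommRingCat.ofHom (algebraMap A
      (A[X] ⧸ Ideal.span ({X ^ 2 - C x, X ^ 3 - C y} : Set A[X]))))) ∧
    ∀ q : Spec (CommRingCat.of (A[X] ⧸ Ideal.span ({X ^ 2 - C x, X ^ 3 - C y} : Set A[X]))),
      Function.Surjective ((Spec.map (CommRingCat.ofHom (algebraMap A
        (A[X] ⧸ Ideal.span ({X ^ 2 - C x, X ^ 3 - C y} : Set A[X]))))).residueFieldMap q) := by
  classical
  set I := Ideal.span ({X ^ 2 - C x, X ^ 3 - C y} : Set A[X]) with hI
  have hm1 : Ideal.Quotient.mk I (X ^ 2 - C x) = 0 :=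
    Ideal.Quotient.eq_zero_iff_mem.2 (Ideal.subset_span (by simp))
  have hm2 : Ideal.Quotient.mk I (X ^ 3 - C y) = 0 :=
    Ideal.Quotient.eq_zero_iff_mem.2 (Ideal.subset_span (by simp))
  have e1 : ∀ {F : Type u} [CommRing F] (ψ : (A[X] ⧸ I) →+* F), (ψ (Ideal.Quotient.mk I X)) ^ 2 =
      ψ (algebraMap A (A[X] ⧸ I) x) ∧
      (ψ (Ideal.Quotient.mk I X)) ^ 3 = ψ (algebraMap A (A[X] ⧸ I) y) := by
    intro F _ ψ
    constructor
    · have := congr(ψ $hm1)
      simp only [map_sub, map_pow, map_zero, sub_eq_zero] at this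
      exact this
    · have := congr(ψ $hm2)
      simp only [map_sub, map_pow, map_zero, sub_eq_zero] at this
      exact this
  have key : ∀ {F : Type u} [Field F] (τ a b : F), τ ^ 2 = a → τ ^ 3 = b →
      τ = if a = 0 then 0 else b / a := by
    intro F _ τ a b h2 h3
    split_ifs with ha
    · rw [ha] at h2
      exact pow_eq_zero_iff (two_ne_zero) |>.1 h2
    · rw [eq_div_iff ha, ← h2, ← h3]; ring
  refine ⟨?_, ?_⟩
  · apply UH.spec_univHomeo_of_unique_ext
    · exact UH.isIntegral_quotient_of_monic _ (X ^ 2 - C x) (monic_X_pow_sub_C x two_ne_zero)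
        (Ideal.subset_span (by simp))
    · intro F _ ψ₁ ψ₂ h12
      apply UH.quotient_hom_ext _ _ _ h12
      have hx : ψ₁ (algebraMap A (A[X] ⧸ I) x) = ψ₂ (algebraMap A (A[X] ⧸ I) x) := congr($h12 x)
      have hy : ψ₁ (algebraMap A (A[X] ⧸ I) y) = ψ₂ (algebraMap A (A[X] ⧸ I) y) := congr($h12 y)
      rw [key _ _ _ (e1 ψ₁).1 (e1 ψ₁).2, key _ _ _ (e1 ψ₂).1 (e1 ψ₂).2, hx, hy]
    · intro F _ _ χ
      have hrel : χ x ^ 3 = χ y ^ 2 := by rw [← map_pow, h, map_pow]
      by_cases ha : χ x = 0
      · have hb : χ y = 0 := by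
          rw [ha, zero_pow three_ne_zero] at hrel
          exact pow_eq_zero_iff two_ne_zero |>.1 hrel.symm
        apply UH.exists_quotient_hom _ χ 0
        intro g hg
        rcases hg with rfl | rfl
        · simp [ha]
        · simp [hb]
      · apply UH.exists_quotient_hom _ χ (χ y / χ x)
        intro g hg
        rcases hg with rfl | rfl
        · simp only [eval₂_sub, eval₂_pow, eval₂_X, eval₂_C]
          rw [div_pow, ← hrel, sub_eq_zero, div_eq_iff (pow_ne_zero _ ha)]; ring
        · simp only [eval₂_sub, eval₂_pow, eval₂_X, eval₂_C]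
          rw [div_pow, sub_eq_zero, div_eq_iff (pow_ne_zero _ ha), hrel]; ring
  · intro q
    apply ResFld.residueFieldMap_surjective_of_generated
    intro E hE b
    obtain ⟨g, rfl⟩ := Ideal.Quotient.mk_surjective b
    set ψ := algebraMap (A[X] ⧸ I) q.asIdeal.ResidueField with hψ
    have hcomp : ψ.comp (Ideal.Quotient.mk I) =
        Polynomial.eval₂RingHom (ψ.comp (algebraMap A (A[X] ⧸ I))) (ψ (Ideal.Quotient.mk I X)) := by
      apply Polynomial.ringHom_ext
      · intro a; simp; rfl
      · simp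
    have ht : ψ (Ideal.Quotient.mk I X) ∈ E := by
      rw [key _ _ _ (e1 ψ).1 (e1 ψ).2]
      split_ifs
      · exact zero_mem E
      · exact div_mem (hE y) (hE x)
    have := congr($hcomp g)
    simp only [RingHom.comp_apply] at this
    rw [this, Polynomial.coe_eval₂RingHom, Polynomial.eval₂_eq_sum_range]
    refine sum_mem fun i _ => mul_mem (hE _) (pow_mem ht _)

end Groth.Agent.S7402
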