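import Groth.Statements.S7403
import Groth.Agent.H25.UnivHomeo2
open Groth.Agent.H25

set_option autoImplicit false
universe u
open CategoryTheory AlgebraicGeometry
open Polynomial
open Mor

namespace Groth.Agent.S7403

/-- Let `A` be a ring, `p` a prime number and `x, y ∈ A` with `p^p x = y^p`. Then `A → B = A[t]/(t^p -
x, p t - y)` induces a universal homeomorphism on spectra. -/
theorem result (A : Type u) [CommRing A] (p : ℕ) (hp : p.Prime) (x y : A)
    (h : (p : A) ^ p * x = y ^ p) :
    FlatMor.IsUnivHomeo (Spec.map (CommRingCat.ofHom (algebraMap A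
      (A[X] ⧸ Ideal.span ({X ^ p - C x, C (p : A) * X - C y} : Set A[X]))))) := by
  set I := Ideal.span ({X ^ p - C x, C (p : A) * X - C y} : Set A[X]) with hI
  have hm1 : Ideal.Quotient.mk I (X ^ p - C x) = 0 :=
    Ideal.Quotient.eq_zero_iff_mem.2 (Ideal.subset_span (by simp))
  have hm2 : Ideal.Quotient.mk I (C (p : A) * X - C y) = 0 :=
    Ideal.Quotient.eq_zero_iff_mem.2 (Ideal.subset_span (by simp))
  apply UH.spec_univHomeo_of_unique_ext
  · exact UH.isIntegral_quotient_of_monic _ (X ^ p - C x) (monic_X_pow_sub_C x hp.ne_zero)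
      (Ideal.subset_span (by simp))
  · intro F _ ψ₁ ψ₂ h12
    apply UH.quotient_hom_ext _ _ _ h12
    have e1 : ∀ ψ : (A[X] ⧸ I) →+* F, (ψ (Ideal.Quotient.mk I X)) ^ p =
        ψ (algebraMap A (A[X] ⧸ I) x) ∧
        (p : F) * ψ (Ideal.Quotient.mk I X) = ψ (algebraMap A (A[X] ⧸ I) y) := by
      intro ψ
      constructor
      · have := congr(ψ $hm1)
        simp only [map_sub, map_pow, map_zero, sub_eq_zero] at this
        exact this
      · have := congr(ψ $hm2)
        simp only [map_sub, map_mul, map_zero, sub_eq_zero] at this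
        refine Eq.trans ?_ this
        congr 1
        have : (Ideal.Quotient.mk I (C (p : A))) = ((p : ℕ) : A[X] ⧸ I) := by
          rw [map_natCast, map_natCast]
        rw [this, map_natCast]
    have hx : ψ₁ (algebraMap A (A[X] ⧸ I) x) = ψ₂ (algebraMap A (A[X] ⧸ I) x) := congr($h12 x)
    have hy : ψ₁ (algebraMap A (A[X] ⧸ I) y) = ψ₂ (algebraMap A (A[X] ⧸ I) y) := congr($h12 y)
    by_cases hpF : (p : F) = 0
    · haveI : CharP F p := (CharP.charP_iff_prime_eq_zero hp).2 hpF
      haveI : ExpChar F p := ExpChar.prime hp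
      apply frobenius_inj F p
      rw [frobenius_def, frobenius_def, (e1 ψ₁).1, (e1 ψ₂).1, hx]
    · apply mul_left_cancel₀ hpF
      rw [(e1 ψ₁).2, (e1 ψ₂).2, hy]
  · intro F _ _ χ
    have hχ : (χ (p : A)) = (p : F) := map_natCast χ p
    have hrel : (p : F) ^ p * χ x = χ y ^ p := by
      rw [← hχ, ← map_pow, ← map_mul, h, map_pow]
    by_cases hpF : (p : F) = 0
    · obtain ⟨τ, hτ⟩ := IsAlgClosed.exists_pow_nat_eq (χ x) hp.pos
      have hy0 : χ y = 0 := by
        rw [hpF, zero_pow hp.ne_zero, zero_mul] at hrel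
        exact pow_eq_zero_iff hp.ne_zero |>.1 hrel.symm
      apply UH.exists_quotient_hom _ χ τ
      intro g hg
      rcases hg with rfl | rfl
      · simp [hτ]
      · simp [hpF, hy0]
    · apply UH.exists_quotient_hom _ χ (χ y / (p : F))
      intro g hg
      rcases hg with rfl | rfl
      · simp only [eval₂_sub, eval₂_pow, eval₂_X, eval₂_C]
        rw [div_pow, ← hrel, mul_div_assoc, mul_comm, div_mul_cancel₀, sub_self]
        exact pow_ne_zero _ hpF
      · simp only [eval₂_sub, eval₂_mul, eval₂_X, eval₂_C, hχ]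
        rw [mul_div_cancel₀ _ hpF, sub_self]

end Groth.Agent.S7403
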