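import Groth.Statements.S7421
import Mathlib

set_option autoImplicit false
universe u
open CategoryTheory AlgebraicGeometry
open HTop

namespace Groth.Agent.S7421

/-- A seminormal ring is reduced, and a seminormal scheme is reduced. -/
theorem result :
    (∀ (A : Type u) [CommRing A], HTop.IsSeminormalRing A → IsReduced A) ∧
    ∀ (X : Scheme.{u}), HTop.IsSeminormal X → AlgebraicGeometry.IsReduced X := by
  have ring_part : ∀ (A : Type u) [CommRing A], HTop.IsSeminormalRing A → IsReduced A := by
    intro A _ hA
    rw [isReduced_iff_pow_one_lt 2 (by norm_num)]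
    intro n hn
    obtain ⟨a, _, hau⟩ := hA 0 0 (by simp)
    have h1 : n = a := hau n ⟨by rw [hn], by rw [pow_succ, hn, zero_mul]⟩
    have h2 : (0 : A) = a := hau 0 ⟨by simp, by simp⟩
    rw [h1, ← h2]
  refine ⟨ring_part, ?_⟩
  intro X hX
  choose U hxU hU using hX
  have hcov : TopologicalSpace.IsOpenCover (fun x : X => ((U x : X.affineOpens) : X.Opens)) := by
    apply TopologicalSpace.IsOpenCover.mk
    rw [eq_top_iff]
    intro x _
    exact TopologicalSpace.Opens.mem_iSup.mpr ⟨x, hxU x⟩
  let 𝒰 := X.openCoverOfIsOpenCover _ hcov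
  haveI : ∀ i, AlgebraicGeometry.IsReduced (𝒰.X i) := by
    intro x
    show AlgebraicGeometry.IsReduced ((U x : X.Opens) : Scheme)
    haveI : IsAffine ((U x : X.Opens) : Scheme) := (U x).2
    haveI : _root_.IsReduced Γ(X, (U x : X.Opens)) := ring_part _ (hU x)
    haveI : _root_.IsReduced Γ(((U x : X.Opens) : Scheme), ⊤) :=
      isReduced_of_injective (Scheme.Opens.topIso (U x : X.Opens)).hom.hom
        (ConcreteCategory.bijective_of_isIso (Scheme.Opens.topIso (U x : X.Opens)).hom).1
    exact isReduced_of_isAffine_isReduced _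
  exact AlgebraicGeometry.IsReduced.of_openCover _ 𝒰

end Groth.Agent.S7421
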