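import Groth.Statements.S7418
import Mathlib
import Groth.Agent.S7421

set_option linter.style.haveILetI false

set_option autoImplicit false
universe u
open CategoryTheory AlgebraicGeometry
open HTop

namespace Groth.Agent.S7418

section Aux

variable {A : Type u} [CommRing A]

theorem uniq_of_reduced [IsReduced A] {a b : A} (h2 : a ^ 2 = b ^ 2) (h3 : a ^ 3 = b ^ 3) :
    a = b := by
  have h : (a - b) ^ 3 = 0 := by linear_combination 4 * h3 - 3 * b * h2 - 3 * a * h2
  exact sub_eq_zero.mp (IsReduced.eq_zero _ ⟨3, h⟩)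

theorem exists_pow_mul_eq (f x y : A)
    (h : algebraMap A (Localization.Away f) x = algebraMap A (Localization.Away f) y) :
    ∃ n : ℕ, f ^ n * x = f ^ n * y := by
  obtain ⟨⟨_, n, rfl⟩, hc⟩ := IsLocalization.exists_of_eq (M := Submonoid.powers f) h
  exact ⟨n, hc⟩

theorem eq_zero_of_local (s : Finset A) (hs : Ideal.span (s : Set A) = ⊤) (z : A)
    (h : ∀ f ∈ s, ∃ n : ℕ, f ^ n * z = 0) : z = 0 := by
  classical
  choose! n hn using h
  have hN : ∀ f ∈ s, f ^ (s.sup n) * z = 0 := by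
    intro f hf
    have hle : n f ≤ s.sup n := Finset.le_sup hf
    obtain ⟨d, hd⟩ := Nat.exists_eq_add_of_le hle
    rw [hd, pow_add, mul_comm (f ^ n f) (f ^ d), mul_assoc, hn f hf, mul_zero]
  have h1 : Ideal.span ((fun x : A => x ^ (s.sup n)) '' (s : Set A)) ≤
      (Submodule.span A {z}).annihilator := by
    rw [Ideal.span_le]
    rintro _ ⟨f, hf, rfl⟩
    rw [SetLike.mem_coe, Submodule.mem_annihilator_span_singleton, smul_eq_mul]
    exact hN f (Finset.mem_coe.mp hf)
  have h2 : (1 : A) ∈ (Submodule.span A {z}).annihilator := by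
    apply h1
    rw [Ideal.span_pow_eq_top _ hs]
    trivial
  rw [Submodule.mem_annihilator_span_singleton, one_smul] at h2
  exact h2

theorem eq_of_local (s : Finset A) (hs : Ideal.span (s : Set A) = ⊤) (x y : A)
    (h : ∀ f ∈ s, ∃ n : ℕ, f ^ n * x = f ^ n * y) : x = y := by
  apply sub_eq_zero.mp
  apply eq_zero_of_local s hs
  intro f hf
  obtain ⟨n, hn⟩ := h f hf
  exact ⟨n, by rw [mul_sub, hn, sub_self]⟩

theorem isReduced_of_local (s : Finset A) (hs : Ideal.span (s : Set A) = ⊤)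
    (h : ∀ f ∈ s, IsReduced (Localization.Away f)) : IsReduced A := by
  constructor
  rintro z ⟨k, hk⟩
  apply eq_zero_of_local s hs
  intro f hf
  haveI := h f hf
  have h1 : algebraMap A (Localization.Away f) z = 0 := by
    apply IsReduced.eq_zero
    exact ⟨k, by rw [← map_pow, hk, map_zero]⟩
  obtain ⟨n, hn⟩ := exists_pow_mul_eq f z 0 (by rw [h1, map_zero])
  exact ⟨n, by rw [hn, mul_zero]⟩

theorem exists_glue (s : Finset A) (hs : Ideal.span (s : Set A) = ⊤) (N : ℕ) (b : s → A)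
    (hcompat : ∀ f g : s, b f * (g : A) ^ N = b g * (f : A) ^ N) :
    ∃ a : A, ∀ g : s, (g : A) ^ N * a = b g := by
  classical
  have h1 : Ideal.span ((fun x : A => x ^ N) '' (s : Set A)) ≤
      Ideal.span (Set.range fun f : s => (f : A) ^ N) := by
    apply Ideal.span_mono
    rintro _ ⟨f, hf, rfl⟩
    exact ⟨⟨f, Finset.mem_coe.mp hf⟩, rfl⟩
  have h2 : (1 : A) ∈ Ideal.span (Set.range fun f : s => (f : A) ^ N) := by
    apply h1
    rw [Ideal.span_pow_eq_top _ hs]
    trivial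
  obtain ⟨c, hc⟩ := Ideal.mem_span_range_iff_exists_fun.mp h2
  have hc' : ∑ f : s, c f * (f : A) ^ N = 1 := hc
  refine ⟨∑ f : s, c f * b f, fun g => ?_⟩
  calc (g : A) ^ N * ∑ f : s, c f * b f = ∑ f : s, c f * (b f * (g : A) ^ N) := by
        rw [Finset.mul_sum]
        refine Finset.sum_congr rfl fun f _ => ?_
        ring
    _ = ∑ f : s, b g * (c f * (f : A) ^ N) := by
        refine Finset.sum_congr rfl fun f _ => ?_
        rw [hcompat f g]
        ring
    _ = b g := by rw [← Finset.mul_sum, hc', mul_one]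

theorem local_data (f x y : A) (β : Localization.Away f)
    (hx : algebraMap A (Localization.Away f) x = β ^ 2)
    (hy : algebraMap A (Localization.Away f) y = β ^ 3) :
    ∃ (b : A) (n : ℕ), b ^ 2 = x * f ^ (2 * n) ∧ b ^ 3 = y * f ^ (3 * n) := by
  obtain ⟨⟨b0, ⟨_, n0, rfl⟩⟩, hb0⟩ := IsLocalization.surj (Submonoid.powers f) β
  have hb0' : β * algebraMap A (Localization.Away f) (f ^ n0) =
      algebraMap A (Localization.Away f) b0 := hb0
  have e2 : algebraMap A (Localization.Away f) (b0 ^ 2) =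
      algebraMap A (Localization.Away f) (x * f ^ (2 * n0)) := by
    simp only [map_pow, map_mul] at hb0' ⊢
    rw [← hb0', hx]
    ring
  have e3 : algebraMap A (Localization.Away f) (b0 ^ 3) =
      algebraMap A (Localization.Away f) (y * f ^ (3 * n0)) := by
    simp only [map_pow, map_mul] at hb0' ⊢
    rw [← hb0', hy]
    ring
  obtain ⟨t, ht⟩ := exists_pow_mul_eq f _ _ e2
  obtain ⟨t', ht'⟩ := exists_pow_mul_eq f _ _ e3
  refine ⟨f ^ (t + t') * b0, n0 + t + t', ?_, ?_⟩
  · calc (f ^ (t + t') * b0) ^ 2 = f ^ (2 * t' + t) * (f ^ t * b0 ^ 2) := by ring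
      _ = f ^ (2 * t' + t) * (f ^ t * (x * f ^ (2 * n0))) := by rw [ht]
      _ = x * f ^ (2 * (n0 + t + t')) := by ring
  · calc (f ^ (t + t') * b0) ^ 3 = f ^ (3 * t + 2 * t') * (f ^ t' * b0 ^ 3) := by ring
      _ = f ^ (3 * t + 2 * t') * (f ^ t' * (y * f ^ (3 * n0))) := by rw [ht']
      _ = y * f ^ (3 * (n0 + t + t')) := by ring

theorem exists_of_local_data [IsReduced A] (s : Finset A) (hs : Ideal.span (s : Set A) = ⊤)
    (x y : A)
    (h : ∀ f ∈ s, ∃ (b : A) (n : ℕ), b ^ 2 = x * f ^ (2 * n) ∧ b ^ 3 = y * f ^ (3 * n)) :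
    ∃ a : A, x = a ^ 2 ∧ y = a ^ 3 := by
  classical
  have h' : ∀ f : s, ∃ (b : A) (n : ℕ),
      b ^ 2 = x * (f : A) ^ (2 * n) ∧ b ^ 3 = y * (f : A) ^ (3 * n) := fun f => h f.1 f.2
  choose b n hb using h'
  obtain ⟨N, hN⟩ : ∃ N, ∀ f : s, n f ≤ N :=
    ⟨Finset.univ.sup n, fun f => Finset.le_sup (Finset.mem_univ f)⟩
  have hb2 : ∀ f : s, (b f * (f : A) ^ (N - n f)) ^ 2 = x * (f : A) ^ (2 * N) := by
    intro f
    obtain ⟨d, hd⟩ := Nat.exists_eq_add_of_le (hN f)
    rw [hd, Nat.add_sub_cancel_left, mul_pow, (hb f).1]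
    ring
  have hb3 : ∀ f : s, (b f * (f : A) ^ (N - n f)) ^ 3 = y * (f : A) ^ (3 * N) := by
    intro f
    obtain ⟨d, hd⟩ := Nat.exists_eq_add_of_le (hN f)
    rw [hd, Nat.add_sub_cancel_left, mul_pow, (hb f).2]
    ring
  have hcompat : ∀ f g : s, b f * (f : A) ^ (N - n f) * (g : A) ^ N =
      b g * (g : A) ^ (N - n g) * (f : A) ^ N := by
    intro f g
    apply uniq_of_reduced
    · rw [mul_pow, mul_pow (b g * (g : A) ^ (N - n g)), hb2 f, hb2 g]
      ring
    · rw [mul_pow, mul_pow (b g * (g : A) ^ (N - n g)), hb3 f, hb3 g]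
      ring
  obtain ⟨a, ha⟩ := exists_glue s hs N (fun f => b f * (f : A) ^ (N - n f)) hcompat
  refine ⟨a, ?_, ?_⟩
  · apply eq_of_local s hs
    intro g hg
    refine ⟨2 * N, ?_⟩
    have h1 : g ^ N * a = b ⟨g, hg⟩ * g ^ (N - n ⟨g, hg⟩) := ha ⟨g, hg⟩
    have h2 : (b ⟨g, hg⟩ * g ^ (N - n ⟨g, hg⟩)) ^ 2 = x * g ^ (2 * N) := hb2 ⟨g, hg⟩
    calc g ^ (2 * N) * x = x * g ^ (2 * N) := mul_comm _ _
      _ = (g ^ N * a) ^ 2 := by rw [h1, h2]
      _ = g ^ (2 * N) * a ^ 2 := by ring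
  · apply eq_of_local s hs
    intro g hg
    refine ⟨3 * N, ?_⟩
    have h1 : g ^ N * a = b ⟨g, hg⟩ * g ^ (N - n ⟨g, hg⟩) := ha ⟨g, hg⟩
    have h2 : (b ⟨g, hg⟩ * g ^ (N - n ⟨g, hg⟩)) ^ 3 = y * g ^ (3 * N) := hb3 ⟨g, hg⟩
    calc g ^ (3 * N) * y = y * g ^ (3 * N) := mul_comm _ _
      _ = (g ^ N * a) ^ 3 := by rw [h1, h2]
      _ = g ^ (3 * N) * a ^ 3 := by ring

theorem loc_exists (f : A) (hA : HTop.IsSeminormalRing A) (x y : Localization.Away f)
    (hxy : x ^ 3 = y ^ 2) : ∃ β : Localization.Away f, x = β ^ 2 ∧ y = β ^ 3 := by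
  obtain ⟨⟨x0, ⟨_, m, rfl⟩⟩, hx0⟩ := IsLocalization.surj (Submonoid.powers f) x
  obtain ⟨⟨y0, ⟨_, n, rfl⟩⟩, hy0⟩ := IsLocalization.surj (Submonoid.powers f) y
  have hx0' : x * algebraMap A (Localization.Away f) (f ^ m) =
      algebraMap A (Localization.Away f) x0 := hx0
  have hy0' : y * algebraMap A (Localization.Away f) (f ^ n) =
      algebraMap A (Localization.Away f) y0 := hy0
  rw [map_pow] at hx0' hy0'
  have hx1 : algebraMap A (Localization.Away f) (x0 * f ^ (m + 2 * n)) =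
      x * algebraMap A (Localization.Away f) f ^ (2 * (m + n)) := by
    rw [map_mul, map_pow, ← hx0']
    ring
  have hy1 : algebraMap A (Localization.Away f) (y0 * f ^ (3 * m + 2 * n)) =
      y * algebraMap A (Localization.Away f) f ^ (3 * (m + n)) := by
    rw [map_mul, map_pow, ← hy0']
    ring
  have e : algebraMap A (Localization.Away f) ((x0 * f ^ (m + 2 * n)) ^ 3) =
      algebraMap A (Localization.Away f) ((y0 * f ^ (3 * m + 2 * n)) ^ 2) := by
    rw [map_pow, map_pow, hx1, hy1, mul_pow, mul_pow, hxy]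
    ring
  obtain ⟨t, ht⟩ := exists_pow_mul_eq f _ _ e
  have h32 : (f ^ (2 * t) * (x0 * f ^ (m + 2 * n))) ^ 3 =
      (f ^ (3 * t) * (y0 * f ^ (3 * m + 2 * n))) ^ 2 := by
    calc (f ^ (2 * t) * (x0 * f ^ (m + 2 * n))) ^ 3
        = f ^ (5 * t) * (f ^ t * (x0 * f ^ (m + 2 * n)) ^ 3) := by ring
      _ = f ^ (5 * t) * (f ^ t * (y0 * f ^ (3 * m + 2 * n)) ^ 2) := by rw [ht]
      _ = (f ^ (3 * t) * (y0 * f ^ (3 * m + 2 * n))) ^ 2 := by ring
  obtain ⟨a, ⟨hxa, hya⟩, -⟩ := hA _ _ h32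
  have hx2 : algebraMap A (Localization.Away f) (f ^ (2 * t) * (x0 * f ^ (m + 2 * n))) =
      x * algebraMap A (Localization.Away f) f ^ (2 * (m + n + t)) := by
    rw [map_mul, hx1, map_pow]
    ring
  have hy2 : algebraMap A (Localization.Away f) (f ^ (3 * t) * (y0 * f ^ (3 * m + 2 * n))) =
      y * algebraMap A (Localization.Away f) f ^ (3 * (m + n + t)) := by
    rw [map_mul, hy1, map_pow]
    ring
  obtain ⟨w, hw⟩ : IsUnit (algebraMap A (Localization.Away f) f) :=
    IsLocalization.map_units (Localization.Away f) (⟨f, Submonoid.mem_powers f⟩ : Submonoid.powers f)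
  have hwi : algebraMap A (Localization.Away f) f * (↑w⁻¹ : Localization.Away f) = 1 := by
    rw [← hw]
    exact Units.mul_inv w
  refine ⟨algebraMap A (Localization.Away f) a * (↑w⁻¹ : Localization.Away f) ^ (m + n + t), ?_, ?_⟩
  · calc x = x * (algebraMap A (Localization.Away f) f * ↑w⁻¹) ^ (2 * (m + n + t)) := by
          rw [hwi, one_pow, mul_one]
      _ = (x * algebraMap A (Localization.Away f) f ^ (2 * (m + n + t))) *
            ((↑w⁻¹ : Localization.Away f) ^ (m + n + t)) ^ 2 := by ring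
      _ = algebraMap A (Localization.Away f) (a ^ 2) *
            ((↑w⁻¹ : Localization.Away f) ^ (m + n + t)) ^ 2 := by rw [← hx2, hxa]
      _ = (algebraMap A (Localization.Away f) a * (↑w⁻¹ : Localization.Away f) ^ (m + n + t)) ^ 2 := by
          rw [map_pow]
          ring
  · calc y = y * (algebraMap A (Localization.Away f) f * ↑w⁻¹) ^ (3 * (m + n + t)) := by
          rw [hwi, one_pow, mul_one]
      _ = (y * algebraMap A (Localization.Away f) f ^ (3 * (m + n + t))) *
            ((↑w⁻¹ : Localization.Away f) ^ (m + n + t)) ^ 3 := by ring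
      _ = algebraMap A (Localization.Away f) (a ^ 3) *
            ((↑w⁻¹ : Localization.Away f) ^ (m + n + t)) ^ 3 := by rw [← hy2, hya]
      _ = (algebraMap A (Localization.Away f) a * (↑w⁻¹ : Localization.Away f) ^ (m + n + t)) ^ 3 := by
          rw [map_pow]
          ring

end Aux

/-- Being seminormal is a local property of rings: it passes to the localizations `A_f`, and if `f_1, …,
f_n` generate the unit ideal of `A` and each `A_{f_i}` is seminormal then `A` is seminormal. -/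
theorem result :
    (∀ (A : Type u) [CommRing A] (f : A), HTop.IsSeminormalRing A → HTop.IsSeminormalRing (Localization.Away f)) ∧
    ∀ (A : Type u) [CommRing A] (s : Finset A), Ideal.span (s : Set A) = ⊤ →
      (∀ f ∈ s, HTop.IsSeminormalRing (Localization.Away f)) → HTop.IsSeminormalRing A := by
  refine ⟨?_, ?_⟩
  · intro A _ f hA
    haveI : IsReduced A := (Groth.Agent.S7421.result.1) A hA
    intro x y hxy
    obtain ⟨β, hβ⟩ := loc_exists f hA x y hxy
    refine ⟨β, hβ, fun β' hβ' => ?_⟩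
    exact uniq_of_reduced (by rw [← hβ'.1, ← hβ.1]) (by rw [← hβ'.2, ← hβ.2])
  · intro A _ s hs h
    haveI : IsReduced A := isReduced_of_local s hs
      (fun f hf => (Groth.Agent.S7421.result.1) _ (h f hf))
    intro x y hxy
    obtain ⟨a, ha⟩ := exists_of_local_data s hs x y (fun f hf => by
      obtain ⟨β, ⟨hβ2, hβ3⟩, -⟩ := h f hf (algebraMap A _ x) (algebraMap A _ y)
        (by rw [← map_pow, ← map_pow, hxy])
      exact local_data f x y β hβ2 hβ3)
    refine ⟨a, ha, fun a' ha' => ?_⟩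
    exact uniq_of_reduced (by rw [← ha'.1, ← ha.1]) (by rw [← ha'.2, ← ha.2])

end Groth.Agent.S7418
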