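import Groth.Statements.S7419
import Mathlib
import Groth.Agent.S7418

set_option linter.style.haveILetI false

set_option autoImplicit false
universe u
open CategoryTheory AlgebraicGeometry
open HTop

namespace Groth.Agent.S7419

section Aux

variable {A : Type u} [CommRing A]

open Groth.Agent.S7418

theorem uniq_p [IsReduced A] {p : ℕ} (hp : p.Prime) {a b : A} (h1 : a ^ p = b ^ p)
    (h2 : (p : A) * a = (p : A) * b) : a = b := by
  obtain ⟨r, hr⟩ := exists_add_pow_prime_eq hp b (a - b)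
  have hd : (p : A) * (a - b) = 0 := by rw [mul_sub, h2, sub_self]
  have h : (a - b) ^ p = 0 := by
    have e : b + (a - b) = a := by ring
    rw [e, h1] at hr
    have e2 : (p : A) * b * (a - b) * r = ((p : A) * (a - b)) * (b * r) := by ring
    rw [e2, hd, zero_mul, add_zero] at hr
    exact left_eq_add.mp hr
  exact sub_eq_zero.mp (IsReduced.eq_zero _ ⟨p, h⟩)

theorem local_data_p {p : ℕ} (hp : p.Prime) (f x y : A) (β : Localization.Away f)
    (hx : algebraMap A (Localization.Away f) x = β ^ p)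
    (hy : algebraMap A (Localization.Away f) y = (p : Localization.Away f) * β) :
    ∃ (b : A) (n : ℕ), b ^ p = x * f ^ (p * n) ∧ (p : A) * b = y * f ^ n := by
  obtain ⟨q, hq⟩ : ∃ q, q + 1 = p := ⟨p - 1, by have := hp.one_lt; omega⟩
  subst hq
  obtain ⟨⟨b0, ⟨_, n0, rfl⟩⟩, hb0⟩ := IsLocalization.surj (Submonoid.powers f) β
  have hb0' : β * algebraMap A (Localization.Away f) (f ^ n0) =
      algebraMap A (Localization.Away f) b0 := hb0
  have e2 : algebraMap A (Localization.Away f) (b0 ^ (q + 1)) =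
      algebraMap A (Localization.Away f) (x * f ^ ((q + 1) * n0)) := by
    simp only [map_pow, map_mul] at hb0' ⊢
    rw [← hb0', hx]
    ring
  have e3 : algebraMap A (Localization.Away f) (((q + 1 : ℕ) : A) * b0) =
      algebraMap A (Localization.Away f) (y * f ^ n0) := by
    simp only [map_pow, map_mul, map_natCast] at hb0' ⊢
    rw [← hb0', hy]
    ring
  obtain ⟨t, ht⟩ := exists_pow_mul_eq f _ _ e2
  obtain ⟨t', ht'⟩ := exists_pow_mul_eq f _ _ e3
  refine ⟨f ^ (t + t') * b0, n0 + t + t', ?_, ?_⟩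
  · calc (f ^ (t + t') * b0) ^ (q + 1)
        = f ^ (q * t + (q + 1) * t') * (f ^ t * b0 ^ (q + 1)) := by ring
      _ = f ^ (q * t + (q + 1) * t') * (f ^ t * (x * f ^ ((q + 1) * n0))) := by rw [ht]
      _ = x * f ^ ((q + 1) * (n0 + t + t')) := by ring
  · calc ((q + 1 : ℕ) : A) * (f ^ (t + t') * b0)
        = f ^ t * (f ^ t' * (((q + 1 : ℕ) : A) * b0)) := by ring
      _ = f ^ t * (f ^ t' * (y * f ^ n0)) := by rw [ht']
      _ = y * f ^ (n0 + t + t') := by ring

theorem exists_of_local_data_p [IsReduced A] {p : ℕ} (hp : p.Prime) (s : Finset A)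
    (hs : Ideal.span (s : Set A) = ⊤) (x y : A)
    (h : ∀ f ∈ s, ∃ (b : A) (n : ℕ), b ^ p = x * f ^ (p * n) ∧ (p : A) * b = y * f ^ n) :
    ∃ a : A, x = a ^ p ∧ y = (p : A) * a := by
  classical
  have h' : ∀ f : s, ∃ (b : A) (n : ℕ),
      b ^ p = x * (f : A) ^ (p * n) ∧ (p : A) * b = y * (f : A) ^ n := fun f => h f.1 f.2
  choose b n hb using h'
  obtain ⟨N, hN⟩ : ∃ N, ∀ f : s, n f ≤ N :=
    ⟨Finset.univ.sup n, fun f => Finset.le_sup (Finset.mem_univ f)⟩
  have hb2 : ∀ f : s, (b f * (f : A) ^ (N - n f)) ^ p = x * (f : A) ^ (p * N) := by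
    intro f
    obtain ⟨d, hd⟩ := Nat.exists_eq_add_of_le (hN f)
    rw [hd, Nat.add_sub_cancel_left, mul_pow, (hb f).1]
    ring
  have hb3 : ∀ f : s, (p : A) * (b f * (f : A) ^ (N - n f)) = y * (f : A) ^ N := by
    intro f
    obtain ⟨d, hd⟩ := Nat.exists_eq_add_of_le (hN f)
    rw [hd, Nat.add_sub_cancel_left, ← mul_assoc, (hb f).2]
    ring
  have hcompat : ∀ f g : s, b f * (f : A) ^ (N - n f) * (g : A) ^ N =
      b g * (g : A) ^ (N - n g) * (f : A) ^ N := by
    intro f g
    apply uniq_p hp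
    · rw [mul_pow, mul_pow (b g * (g : A) ^ (N - n g)), hb2 f, hb2 g]
      ring
    · calc (p : A) * (b f * (f : A) ^ (N - n f) * (g : A) ^ N)
          = ((p : A) * (b f * (f : A) ^ (N - n f))) * (g : A) ^ N := by ring
        _ = y * (f : A) ^ N * (g : A) ^ N := by rw [hb3 f]
        _ = ((p : A) * (b g * (g : A) ^ (N - n g))) * (f : A) ^ N := by rw [hb3 g]; ring
        _ = (p : A) * (b g * (g : A) ^ (N - n g) * (f : A) ^ N) := by ring
  obtain ⟨a, ha⟩ := exists_glue s hs N (fun f => b f * (f : A) ^ (N - n f)) hcompat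
  refine ⟨a, ?_, ?_⟩
  · apply eq_of_local s hs
    intro g hg
    refine ⟨p * N, ?_⟩
    have h1 : g ^ N * a = b ⟨g, hg⟩ * g ^ (N - n ⟨g, hg⟩) := ha ⟨g, hg⟩
    have h2 : (b ⟨g, hg⟩ * g ^ (N - n ⟨g, hg⟩)) ^ p = x * g ^ (p * N) := hb2 ⟨g, hg⟩
    calc g ^ (p * N) * x = x * g ^ (p * N) := mul_comm _ _
      _ = (g ^ N * a) ^ p := by rw [h1, h2]
      _ = g ^ (p * N) * a ^ p := by ring
  · apply eq_of_local s hs
    intro g hg
    refine ⟨N, ?_⟩
    have h1 : g ^ N * a = b ⟨g, hg⟩ * g ^ (N - n ⟨g, hg⟩) := ha ⟨g, hg⟩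
    have h2 : (p : A) * (b ⟨g, hg⟩ * g ^ (N - n ⟨g, hg⟩)) = y * g ^ N := hb3 ⟨g, hg⟩
    calc g ^ N * y = y * g ^ N := mul_comm _ _
      _ = (p : A) * (g ^ N * a) := by rw [h1, h2]
      _ = g ^ N * ((p : A) * a) := by ring

theorem loc_exists_p {p : ℕ} (hp : p.Prime) (f : A)
    (hA : ∀ x y : A, (p : A) ^ p * x = y ^ p → ∃! a : A, x = a ^ p ∧ y = (p : A) * a)
    (x y : Localization.Away f) (hxy : (p : Localization.Away f) ^ p * x = y ^ p) :
    ∃ β : Localization.Away f, x = β ^ p ∧ y = (p : Localization.Away f) * β := by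
  obtain ⟨q, hq⟩ : ∃ q, q + 1 = p := ⟨p - 1, by have := hp.one_lt; omega⟩
  subst hq
  obtain ⟨⟨x0, ⟨_, m, rfl⟩⟩, hx0⟩ := IsLocalization.surj (Submonoid.powers f) x
  obtain ⟨⟨y0, ⟨_, n, rfl⟩⟩, hy0⟩ := IsLocalization.surj (Submonoid.powers f) y
  have hx0' : x * algebraMap A (Localization.Away f) (f ^ m) =
      algebraMap A (Localization.Away f) x0 := hx0
  have hy0' : y * algebraMap A (Localization.Away f) (f ^ n) =
      algebraMap A (Localization.Away f) y0 := hy0
  rw [map_pow] at hx0' hy0'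
  have hx1 : algebraMap A (Localization.Away f) (x0 * f ^ (q * m + (q + 1) * n)) =
      x * algebraMap A (Localization.Away f) f ^ ((q + 1) * (m + n)) := by
    rw [map_mul, map_pow, ← hx0']
    ring
  have hy1 : algebraMap A (Localization.Away f) (y0 * f ^ m) =
      y * algebraMap A (Localization.Away f) f ^ (m + n) := by
    rw [map_mul, map_pow, ← hy0']
    ring
  have e : algebraMap A (Localization.Away f)
      (((q + 1 : ℕ) : A) ^ (q + 1) * (x0 * f ^ (q * m + (q + 1) * n))) =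
      algebraMap A (Localization.Away f) ((y0 * f ^ m) ^ (q + 1)) := by
    rw [map_mul, map_pow, map_pow, map_natCast, hx1, hy1, mul_pow, ← hxy]
    ring
  obtain ⟨t, ht⟩ := exists_pow_mul_eq f _ _ e
  have hpp : ((q + 1 : ℕ) : A) ^ (q + 1) *
      (f ^ ((q + 1) * t) * (x0 * f ^ (q * m + (q + 1) * n))) =
      (f ^ t * (y0 * f ^ m)) ^ (q + 1) := by
    calc ((q + 1 : ℕ) : A) ^ (q + 1) * (f ^ ((q + 1) * t) * (x0 * f ^ (q * m + (q + 1) * n)))
        = f ^ (q * t) * (f ^ t * (((q + 1 : ℕ) : A) ^ (q + 1) *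
            (x0 * f ^ (q * m + (q + 1) * n)))) := by ring
      _ = f ^ (q * t) * (f ^ t * (y0 * f ^ m) ^ (q + 1)) := by rw [ht]
      _ = (f ^ t * (y0 * f ^ m)) ^ (q + 1) := by ring
  obtain ⟨a, ⟨hxa, hya⟩, -⟩ := hA _ _ hpp
  have hx2 : algebraMap A (Localization.Away f)
      (f ^ ((q + 1) * t) * (x0 * f ^ (q * m + (q + 1) * n))) =
      x * algebraMap A (Localization.Away f) f ^ ((q + 1) * (m + n + t)) := by
    rw [map_mul, hx1, map_pow]
    ring
  have hy2 : algebraMap A (Localization.Away f) (f ^ t * (y0 * f ^ m)) =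
      y * algebraMap A (Localization.Away f) f ^ (m + n + t) := by
    rw [map_mul, hy1, map_pow]
    ring
  obtain ⟨w, hw⟩ : IsUnit (algebraMap A (Localization.Away f) f) :=
    IsLocalization.map_units (Localization.Away f) (⟨f, Submonoid.mem_powers f⟩ : Submonoid.powers f)
  have hwi : algebraMap A (Localization.Away f) f * (↑w⁻¹ : Localization.Away f) = 1 := by
    rw [← hw]
    exact Units.mul_inv w
  refine ⟨algebraMap A (Localization.Away f) a * (↑w⁻¹ : Localization.Away f) ^ (m + n + t), ?_, ?_⟩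
  · calc x = x * (algebraMap A (Localization.Away f) f * ↑w⁻¹) ^ ((q + 1) * (m + n + t)) := by
          rw [hwi, one_pow, mul_one]
      _ = (x * algebraMap A (Localization.Away f) f ^ ((q + 1) * (m + n + t))) *
            ((↑w⁻¹ : Localization.Away f) ^ (m + n + t)) ^ (q + 1) := by ring
      _ = algebraMap A (Localization.Away f) (a ^ (q + 1)) *
            ((↑w⁻¹ : Localization.Away f) ^ (m + n + t)) ^ (q + 1) := by rw [← hx2, hxa]
      _ = (algebraMap A (Localization.Away f) a *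
            (↑w⁻¹ : Localization.Away f) ^ (m + n + t)) ^ (q + 1) := by
          rw [map_pow]
          ring
  · calc y = y * (algebraMap A (Localization.Away f) f * ↑w⁻¹) ^ (m + n + t) := by
          rw [hwi, one_pow, mul_one]
      _ = (y * algebraMap A (Localization.Away f) f ^ (m + n + t)) *
            (↑w⁻¹ : Localization.Away f) ^ (m + n + t) := by ring
      _ = algebraMap A (Localization.Away f) (((q + 1 : ℕ) : A) * a) *
            (↑w⁻¹ : Localization.Away f) ^ (m + n + t) := by rw [← hy2, hya]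
      _ = ((q + 1 : ℕ) : Localization.Away f) * (algebraMap A (Localization.Away f) a *
            (↑w⁻¹ : Localization.Away f) ^ (m + n + t)) := by
          rw [map_mul, map_natCast]
          ring

end Aux

/-- Being absolutely weakly normal is a local property of rings: it passes to the localizations `A_f`,
and if `f_1, …, f_n` generate the unit ideal of `A` and each `A_{f_i}` is absolutely weakly normal
then so is `A`. -/
theorem result :
    (∀ (A : Type u) [CommRing A] (f : A), HTop.IsAWNRing A → HTop.IsAWNRing (Localization.Away f)) ∧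
    ∀ (A : Type u) [CommRing A] (s : Finset A), Ideal.span (s : Set A) = ⊤ →
      (∀ f ∈ s, HTop.IsAWNRing (Localization.Away f)) → HTop.IsAWNRing A := by
  refine ⟨?_, ?_⟩
  · intro A _ f hA
    haveI : IsReduced A := (Groth.Agent.S7421.result.1) A hA.1
    refine ⟨(Groth.Agent.S7418.result.1) A f hA.1, ?_⟩
    intro p hp x y hxy
    obtain ⟨β, hβ⟩ := loc_exists_p hp f (hA.2 p hp) x y hxy
    refine ⟨β, hβ, fun β' hβ' => ?_⟩
    exact uniq_p hp (by rw [← hβ'.1, ← hβ.1]) (by rw [← hβ'.2, ← hβ.2])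
  · intro A _ s hs h
    haveI : IsReduced A := Groth.Agent.S7418.isReduced_of_local s hs
      (fun f hf => (Groth.Agent.S7421.result.1) _ (h f hf).1)
    refine ⟨(Groth.Agent.S7418.result.2) A s hs (fun f hf => (h f hf).1), ?_⟩
    intro p hp x y hxy
    obtain ⟨a, ha⟩ := exists_of_local_data_p hp s hs x y (fun f hf => by
      obtain ⟨β, ⟨hβ2, hβ3⟩, -⟩ := (h f hf).2 p hp (algebraMap A _ x) (algebraMap A _ y)
        (by rw [← map_pow, ← hxy, map_mul, map_pow, map_natCast])
      exact local_data_p hp f x y β hβ2 hβ3)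
    refine ⟨a, ha, fun a' ha' => ?_⟩
    exact uniq_p hp (by rw [← ha'.1, ← ha.1]) (by rw [← ha'.2, ← ha.2])

end Groth.Agent.S7419
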