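import Groth.Statements.S7422
import Groth.Agent.S7427
import Groth.Agent.H25.FieldPts
open Groth.Agent.H25

set_option autoImplicit false
universe u
open CategoryTheory AlgebraicGeometry
open HTop

namespace Groth.Agent.S7422

/-- Every ring `A` has an absolute weak normalization: a ring map `A → A^awn` which induces a universal
homeomorphism on spectra and is final among ring maps out of `A` with this property. -/
theorem result (A : Type u) [CommRing A] :
    ∃ (B : Type u) (_ : CommRing B) (φ : A →+* B), HTop.IsRingAWN φ := by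
  classical
  let F : PrimeSpectrum A → Type u := fun 𝔭 => AlgebraicClosure 𝔭.asIdeal.ResidueField
  let Ω : Type u := ∀ 𝔭 : PrimeSpectrum A, AlgebraicClosure (F 𝔭)
  let ι𝔭 : ∀ 𝔭 : PrimeSpectrum A, A →+* F 𝔭 := fun 𝔭 =>
    (algebraMap 𝔭.asIdeal.ResidueField (F 𝔭)).comp (algebraMap A 𝔭.asIdeal.ResidueField)
  let ι : A →+* Ω := RingHom.pi fun 𝔭 => (algebraMap (F 𝔭) (AlgebraicClosure (F 𝔭))).comp (ι𝔭 𝔭)
  letI : Algebra A Ω := ι.toAlgebra
  have hιker : ∀ 𝔭 : PrimeSpectrum A, RingHom.ker (ι𝔭 𝔭) = 𝔭.asIdeal := by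
    intro 𝔭
    rw [RingHom.ker_comp_of_injective _ (algebraMap 𝔭.asIdeal.ResidueField (F 𝔭)).injective,
      Ideal.ker_algebraMap_residueField]
  haveI : IsDominant (Spec.map (CommRingCat.ofHom (algebraMap A Ω))) := by
    constructor
    change DenseRange (PrimeSpectrum.comap (algebraMap A Ω))
    rw [PrimeSpectrum.denseRange_comap_iff_ker_le_nilRadical]
    intro a ha
    rw [nilradical_eq_sInf, Ideal.mem_sInf]
    intro 𝔭 h𝔭
    have h1 : ι a = 0 := ha
    have h2 := congr_fun h1 ⟨𝔭, h𝔭⟩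
    have h3 : ι𝔭 ⟨𝔭, h𝔭⟩ a = 0 := by
      apply (algebraMap (F ⟨𝔭, h𝔭⟩) (AlgebraicClosure (F ⟨𝔭, h𝔭⟩))).injective
      rw [map_zero]; exact h2
    have : a ∈ RingHom.ker (ι𝔭 ⟨𝔭, h𝔭⟩) := h3
    rwa [hιker] at this
  obtain ⟨B', hB', hmax⟩ := Groth.Agent.S7427.result (A := A) (B := Ω)
  refine ⟨B', inferInstance, algebraMap A B', hB', ?_⟩
  intro C _ ψ hψ
  have hψ' := (ColimUH.univHomeo_iff ψ).1 hψ
  -- construct g : C → Ω
  have hext : ∀ 𝔭 : PrimeSpectrum A, ∃ g𝔭 : C →+* AlgebraicClosure (F 𝔭),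
      g𝔭.comp ψ = (algebraMap (F 𝔭) (AlgebraicClosure (F 𝔭))).comp (ι𝔭 𝔭) := by
    intro 𝔭
    apply FieldPts.exists_extension ψ hψ'.1 (ι𝔭 𝔭)
    intro a ha
    obtain ⟨n, hn⟩ := hψ'.2.2 a ha
    have : (ι𝔭 𝔭 a) ^ n = 0 := by rw [← map_pow, hn, map_zero]
    exact IsReduced.eq_zero _ ⟨n, this⟩
  choose g𝔭 hg𝔭 using hext
  let g₀ : C →+* Ω := RingHom.pi g𝔭
  letI : Algebra A C := ψ.toAlgebra
  have hg₀ : ∀ a, g₀ (algebraMap A C a) = algebraMap A Ω a := by
    intro a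
    funext 𝔭
    exact congr($(hg𝔭 𝔭) a)
  let g : C →ₐ[A] Ω := { g₀ with commutes' := hg₀ }
  have hrange := hmax C g hψ
  refine ⟨(Subalgebra.inclusion hrange).toRingHom.comp g.rangeRestrict.toRingHom, ?_, ?_⟩
  · refine RingHom.ext fun a => Subtype.ext ?_
    exact hg₀ a
  · intro χ hχ
    refine RingHom.ext fun c => Subtype.ext (funext fun 𝔭 => ?_)
    let pr : B' →+* AlgebraicClosure (F 𝔭) := (Pi.evalRingHom _ 𝔭).comp B'.val.toRingHom
    have h1 : (pr.comp χ).comp ψ = (pr.comp ((Subalgebra.inclusion hrange).toRingHom.comp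
        g.rangeRestrict.toRingHom)).comp ψ := by
      ext a
      have e1 := congr($hχ a)
      simp only [RingHom.comp_apply] at e1 ⊢
      rw [e1]
      congr 1
      apply Subtype.ext
      exact (hg₀ a).symm
    have h2 := hψ'.2.1 _ _ _ h1
    exact congr($h2 c)

end Groth.Agent.S7422
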