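import Groth.Statements.S7423
import Groth.Agent.H25.AWN1
open Groth.Agent.H25

set_option autoImplicit false
universe u
open CategoryTheory AlgebraicGeometry
open HTop

namespace Groth.Agent.S7423

/-- Let `φ : A → A^awn` be an absolute weak normalization and `ψ : A → B` a ring map inducing a
universal homeomorphism on spectra. Then `B` is absolutely weakly normal exactly when the induced
map `χ : B → A^awn` with `χ ∘ ψ = φ` is an isomorphism. -/
theorem result {A B W : Type u} [CommRing A] [CommRing B] [CommRing W]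
    (φ : A →+* W) (hφ : HTop.IsRingAWN φ) (ψ : A →+* B)
    (hψ : FlatMor.IsUnivHomeo (Spec.map (CommRingCat.ofHom ψ))) (χ : B →+* W) (hχ : χ.comp ψ = φ) :
    Function.Bijective χ ↔ HTop.IsAWNRing B := by
  haveI hWred := AWN.awn_reduced φ hφ
  have hW := AWN.awn_isAWNRing φ hφ
  constructor
  · intro hbij
    let e : B ≃+* W := RingEquiv.ofBijective χ hbij
    have he : ∀ b, e b = χ b := fun b => rfl
    constructor
    · intro x y hxy
      obtain ⟨a', ⟨h1, h2⟩, huniq⟩ := hW.1 (e x) (e y) (by rw [← map_pow, ← map_pow, hxy])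
      refine ⟨e.symm a', ⟨?_, ?_⟩, ?_⟩
      · apply e.injective; rw [map_pow, e.apply_symm_apply]; exact h1
      · apply e.injective; rw [map_pow, e.apply_symm_apply]; exact h2
      · rintro b ⟨hb1, hb2⟩
        have := huniq (e b) ⟨by rw [← map_pow, ← hb1], by rw [← map_pow, ← hb2]⟩
        rw [← this, e.symm_apply_apply]
    · intro p hp x y hxy
      obtain ⟨a', ⟨h1, h2⟩, huniq⟩ := hW.2 p hp (e x) (e y) (by
        rw [← map_pow, ← hxy, map_mul, map_pow, map_natCast])
      refine ⟨e.symm a', ⟨?_, ?_⟩, ?_⟩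
      · apply e.injective; rw [map_pow, e.apply_symm_apply]; exact h1
      · apply e.injective; rw [map_mul, map_natCast, e.apply_symm_apply]; exact h2
      · rintro b ⟨hb1, hb2⟩
        have := huniq (e b) ⟨by rw [← map_pow, ← hb1], by rw [hb2, map_mul, map_natCast]⟩
        rw [← this, e.symm_apply_apply]
  · intro hB
    have hχuh : FlatMor.IsUnivHomeo (Spec.map (CommRingCat.ofHom χ)) :=
      AWN.cancel_uh ψ χ (hχ ▸ hφ.1) hψ
    have hBred : IsReduced B := by
      rw [isReduced_iff_pow_one_lt 2 (by norm_num)]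
      intro b hb
      obtain ⟨a, -, huniq⟩ := hB.1 0 0 (by simp)
      have h1 := huniq b ⟨hb.symm, by rw [pow_succ, hb, zero_mul]⟩
      have h2 := huniq 0 ⟨by simp, by simp⟩
      rw [h1, h2]
    have hinj : Function.Injective χ := by
      rw [injective_iff_map_eq_zero]
      intro b hb
      exact IsReduced.eq_zero _ (((ColimUH.univHomeo_iff χ).1 hχuh).2.2 b hb)
    refine ⟨hinj, ?_⟩
    by_contra hns
    rcases UHStruct.dichotomy χ hinj hχuh hns with ⟨w, hw, ⟨x, hx⟩, ⟨y, hy⟩⟩ |
      ⟨-, l, w, hl, hw, ⟨y, hy⟩, ⟨x, hx⟩⟩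
    · have hxy : x ^ 3 = y ^ 2 := by
        apply hinj
        rw [map_pow, map_pow, hx, hy]; ring
      obtain ⟨a, ⟨h1, h2⟩, -⟩ := hB.1 x y hxy
      apply hw
      refine ⟨a, ?_⟩
      apply AWN.reduced_eq_of_sq_cube
      · rw [← map_pow, ← h1, hx]
      · rw [← map_pow, ← h2, hy]
    · have hxy : (l : B) ^ l * x = y ^ l := by
        apply hinj
        rw [map_mul, map_pow, map_pow, map_natCast, hx, hy]; ring
      obtain ⟨a, ⟨h1, h2⟩, -⟩ := hB.2 l hl x y hxy
      apply hw
      refine ⟨a, ?_⟩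
      apply AWN.reduced_eq_of_pow_p l hl
      · have := congr(χ $h2)
        rw [map_mul, map_natCast, hy] at this
        exact this.symm
      · rw [← map_pow, ← h1, hx]

end Groth.Agent.S7423
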