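import Groth.Statements.S7420
import Mathlib
import Groth.Agent.S7419

set_option linter.style.haveILetI false

set_option autoImplicit false
universe u
open CategoryTheory AlgebraicGeometry
open HTop

namespace Groth.Agent.S7420

section Aux

theorem seminormal_of_equiv {A B : Type u} [CommRing A] [CommRing B] (e : A ≃+* B)
    (hA : HTop.IsSeminormalRing A) : HTop.IsSeminormalRing B := by
  intro x y hxy
  obtain ⟨a, ⟨h1, h2⟩, hu⟩ := hA (e.symm x) (e.symm y) (by rw [← map_pow, ← map_pow, hxy])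
  refine ⟨e a, ⟨?_, ?_⟩, fun b hb => ?_⟩
  · rw [← map_pow, ← h1, e.apply_symm_apply]
  · rw [← map_pow, ← h2, e.apply_symm_apply]
  · have := hu (e.symm b) ⟨by rw [← map_pow, ← hb.1], by rw [← map_pow, ← hb.2]⟩
    rw [← this, e.apply_symm_apply]

theorem awn_of_equiv {A B : Type u} [CommRing A] [CommRing B] (e : A ≃+* B)
    (hA : HTop.IsAWNRing A) : HTop.IsAWNRing B := by
  refine ⟨seminormal_of_equiv e hA.1, ?_⟩
  intro p hp x y hxy
  obtain ⟨a, ⟨h1, h2⟩, hu⟩ := hA.2 p hp (e.symm x) (e.symm y)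
    (by rw [← map_pow, ← hxy, map_mul, map_pow, map_natCast])
  refine ⟨e a, ⟨?_, ?_⟩, fun b hb => ?_⟩
  · rw [← map_pow, ← h1, e.apply_symm_apply]
  · rw [← map_natCast e p, ← map_mul, ← h2, e.apply_symm_apply]
  · have := hu (e.symm b) ⟨by rw [← map_pow, ← hb.1],
      by rw [← map_natCast e.symm p, ← map_mul, ← hb.2]⟩
    rw [← this, e.apply_symm_apply]

theorem affine_local (P : ∀ (A : Type u) [CommRing A], Prop)
    (hiso : ∀ (A B : Type u) [CommRing A] [CommRing B], (A ≃+* B) → P A → P B)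
    (hloc : ∀ (A : Type u) [CommRing A] (f : A), P A → P (Localization.Away f))
    (hglue : ∀ (A : Type u) [CommRing A] (s : Finset A), Ideal.span (s : Set A) = ⊤ →
      (∀ f ∈ s, P (Localization.Away f)) → P A)
    (X : Scheme.{u}) :
    (∀ x : X, ∃ U : X.affineOpens, x ∈ (U : X.Opens) ∧ P Γ(X, U)) ↔
      ∀ U : X.affineOpens, P Γ(X, U) := by
  constructor
  · intro h V
    choose U hxU hU using h
    have hbasic : ∀ (W : X.affineOpens) (f : Γ(X, W)),
        Nonempty (Localization.Away f ≃+* Γ(X, X.basicOpen f)) := by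
      intro W f
      haveI := IsAffineOpen.isLocalization_basicOpen W.2 f
      exact ⟨(IsLocalization.algEquiv (Submonoid.powers f) (Localization.Away f)
        Γ(X, X.basicOpen f)).toRingEquiv⟩
    refine of_affine_open_cover (P := fun W => P Γ(X, W)) U ?_ V ?_ ?_ hU
    · exact eq_top_iff.mpr fun x _ => TopologicalSpace.Opens.mem_iSup.mpr ⟨x, hxU x⟩
    · intro W f hW
      obtain ⟨e⟩ := hbasic W f
      exact hiso _ _ e (hloc _ f hW)
    · intro W s hs hf
      apply hglue _ s hs
      intro f hfs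
      obtain ⟨e⟩ := hbasic W f
      exact hiso _ _ e.symm (hf ⟨f, hfs⟩)
  · intro h x
    obtain ⟨W, hW, hxW, -⟩ := exists_isAffineOpen_mem_and_subset (X := X) (x := x) (U := ⊤)
      (TopologicalSpace.Opens.mem_top x)
    exact ⟨⟨W, hW⟩, hxW, h ⟨W, hW⟩⟩

end Aux

/-- A scheme `X` is seminormal if and only if `O_X(U)` is seminormal for every affine open `U ⊆ X`; the
same holds with 'seminormal' replaced by 'absolutely weakly normal'. -/
theorem result (X : Scheme.{u}) :
    (HTop.IsSeminormal X ↔ ∀ U : X.affineOpens, HTop.IsSeminormalRing Γ(X, U)) ∧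
    (HTop.IsAWN X ↔ ∀ U : X.affineOpens, HTop.IsAWNRing Γ(X, U)) := by
  refine ⟨?_, ?_⟩
  · exact affine_local (fun A inst => @HTop.IsSeminormalRing A inst)
      (fun A B _ _ e h => seminormal_of_equiv e h)
      (Groth.Agent.S7418.result.1) (Groth.Agent.S7418.result.2) X
  · exact affine_local (fun A inst => @HTop.IsAWNRing A inst)
      (fun A B _ _ e h => awn_of_equiv e h)
      (Groth.Agent.S7419.result.1) (Groth.Agent.S7419.result.2) X

end Groth.Agent.S7420
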