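import Groth.Statements.S10535
import Groth.Agent.H25.AlgSp29

set_option autoImplicit false
universe u
open CategoryTheory CategoryTheory.Limits AlgebraicGeometry
open AlgSp

namespace Groth.Agent.S10535

/-- The property of morphisms of algebraic spaces over S given by f is separated (diagonal representable
and a closed immersion) is fpqc local on the base: for an fpqc covering of an algebraic space Y by
algebraic spaces Y_i, a morphism f : X ⟶ Y of algebraic spaces and cartesian squares X_i = Y_i ×_Y
X, f has the property if and only if every X_i ⟶ Y_i has it. -/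
theorem result (S : Scheme.{u}) :
    AlgSp.IsLocalOnBase (AlgSp.IsFpqcCover (S := S)) AlgSp.IsSeparatedMor := by
  intro ι Y Yi g hY hYi hcov X f hX Xi p q hXi sq
  constructor
  · intro hf i
    exact Groth.Agent.H25.AS.repWith_snd_of_isPullback
      (Groth.Agent.H25.AS.isPullback_diagonal_of_isPullback (sq i)) hf
  · intro hp
    rw [Groth.Agent.H25.AS.isSeparatedMor_iff_isUnivClosedMor_diagonal hX f]
    have hD : IsAlgSpace (pullback f f) :=
      Groth.Agent.H25.AS.isAlgSpace_of_isPullback hY.diag hX hX (IsPullback.of_hasPullback f f)
    refine Groth.Agent.H25.AS.univSp_of_fpqcRefine Groth.Agent.H25.AS.coindFam_isClosedMor hD.diag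
      (pullback.diagonal f) (fun i => pullback (p i) (p i)) _
      (fun i => Groth.Agent.H25.AS.isAlgSpace_of_isPullback (hYi i).diag (hXi i) (hXi i)
        (IsPullback.of_hasPullback (p i) (p i)))
      (Groth.Agent.H25.AS.fpqcRefine_pullback_map f Yi g hcov.2 Xi p q sq) Xi
      (fun i => pullback.diagonal (p i)) q
      (fun i => Groth.Agent.H25.AS.isPullback_diagonal_of_isPullback (sq i)) fun i => ?_
    exact (Groth.Agent.H25.AS.isSeparatedMor_iff_isUnivClosedMor_diagonal (hXi i) (p i)).1 (hp i)


end Groth.Agent.S10535
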