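import Groth.Statements.S10216
import Groth.Agent.H25.AlgSp119
import Mathlib.AlgebraicGeometry.Sites.EtalePoint
open Groth.Agent.H25 Groth.Agent.H25.AS

set_option autoImplicit false
universe u
open CategoryTheory CategoryTheory.Limits AlgebraicGeometry Topology TopologicalSpace
open AlgSp

namespace Groth.Agent.S10216

/-- Let φ : U ⟶ X be an etale morphism of algebraic spaces over a scheme S, take a geometric point x̄ :
Spec k ⟶ X of X whose image in |X| is x, and let u ∈ |U| with φ(u) = x. Then there is a geometric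
point ū : Spec k ⟶ U (with the same field k) lying over u and with φ ∘ ū = x̄. -/
theorem result {S : Scheme.{u}} {U X : AlgSp.Space S} (φ : U ⟶ X)
    (hφ : AlgSp.IsEtaleMor φ.hom) (xbar : AlgSp.FieldPt X.obj) (hx : xbar.IsGeometric)
    (u : AlgSp.Points U.obj) (hu : AlgSp.Points.map φ.hom u = AlgSp.Points.mk xbar) :
    ∃ ubar : (AlgSp.yon S).obj xbar.pt ⟶ U.obj,
      ubar ≫ φ.hom = xbar.toHom ∧ AlgSp.Points.ofPt ubar (IsLocalRing.closedPoint xbar.K) = u := by

  obtain ⟨A, a, hae, has⟩ := U.property.atlas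
  obtain ⟨a₀, ha₀⟩ := ofPt_surjective a has u
  have hrep : AlgSp.RepWith @Etale (a ≫ φ.hom) := hφ a hae
  have sq := hrep.rep.isPullback xbar.toHom
  have hsnd : Etale (hrep.rep.snd xbar.toHom).left := hrep.property_snd xbar.toHom
  have e : AlgSp.Points.ofPt xbar.toHom (IsLocalRing.closedPoint xbar.K) =
      AlgSp.Points.map (a ≫ φ.hom) (AlgSp.Points.ofScheme A a₀) := by
    rw [AlgSp.Points.ofPt_toHom, ← hu, ← ha₀, AlgSp.Points.ofPt_eq_map_ofScheme,
      AlgSp.Points.map_comp]
  obtain ⟨w, hw1, hw2⟩ := exists_point_of_isPullback sq (IsLocalRing.closedPoint xbar.K)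
    (AlgSp.Points.ofScheme A a₀) e
  haveI : IsAlgClosed xbar.K := hx
  obtain ⟨l, hl1, hl2⟩ := Scheme.exists_fac_of_etale_of_isSepClosed (Ω := xbar.K)
    (hrep.rep.snd xbar.toHom).left
    (𝟙 (Spec (CommRingCat.of xbar.K)) : Spec (CommRingCat.of xbar.K) ⟶ xbar.pt.left) w (by
      rw [hw1]
      exact Subsingleton.elim (α := ↥(Spec (CommRingCat.of xbar.K))) _ _)
  let ℓ : xbar.pt ⟶ hrep.rep.pullback xbar.toHom := Over.homMk l (by
    rw [← Over.w (hrep.rep.snd xbar.toHom), ← Category.assoc, hl1]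
    exact Category.id_comp _)
  have hℓ : ℓ ≫ hrep.rep.snd xbar.toHom = 𝟙 _ := by
    apply Over.OverMorphism.ext
    exact hl1
  refine ⟨(AlgSp.yon S).map ℓ ≫ hrep.rep.fst xbar.toHom ≫ a, ?_, ?_⟩
  · rw [Category.assoc, Category.assoc, sq.w, ← Category.assoc, ← Functor.map_comp, hℓ,
      CategoryTheory.Functor.map_id, Category.id_comp]
  · rw [ofPt_map_comp, ← AlgSp.Points.map_ofPt]
    have : ℓ.left (IsLocalRing.closedPoint xbar.K) = w := by
      rw [← hl2]
      exact congrArg l (Subsingleton.elim (α := ↥(Spec (CommRingCat.of xbar.K))) _ _)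
    rw [this, hw2, ← AlgSp.Points.ofPt_eq_map_ofScheme, ha₀]


end Groth.Agent.S10216
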