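import Groth.Statements.S15941
import Mathlib

set_option autoImplicit false
universe u
open HTop

namespace Groth.Agent.S15941

/-- An integrally closed integral domain is a seminormal ring, that is, whenever x^3 = y^2 there is
exactly one element a with x = a^2 and y = a^3. (The published statement is for a normal Noetherian
scheme and reduces at once to this affine integral case; the Noetherian hypothesis plays no role.) -/
theorem result (A : Type u) [CommRing A] [IsDomain A]
    [IsIntegrallyClosed A] : HTop.IsSeminormalRing A := by
  intro x y hxy
  by_cases hx : x = 0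
  · subst hx
    have hy : y = 0 := by
      have h0 : y ^ 2 = 0 := by rw [← hxy]; simp
      exact (pow_eq_zero_iff (two_ne_zero)).mp h0
    subst hy
    refine ⟨0, by simp, ?_⟩
    rintro a ⟨ha, -⟩
    exact (pow_eq_zero_iff (two_ne_zero)).mp ha.symm
  · have hinj : Function.Injective (algebraMap A (FractionRing A)) :=
      IsFractionRing.injective A (FractionRing A)
    have hx' : algebraMap A (FractionRing A) x ≠ 0 := by
      intro h
      exact hx (hinj (by rw [h, map_zero]))
    have hxy' : algebraMap A (FractionRing A) x ^ 3 = algebraMap A (FractionRing A) y ^ 2 := by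
      rw [← map_pow, ← map_pow, hxy]
    have ha2 : (algebraMap A (FractionRing A) y / algebraMap A (FractionRing A) x) ^ 2 =
        algebraMap A (FractionRing A) x := by
      rw [div_pow, ← hxy']
      field_simp
    have hint : IsIntegral A (algebraMap A (FractionRing A) y / algebraMap A (FractionRing A) x) := by
      refine ⟨Polynomial.X ^ 2 - Polynomial.C x, Polynomial.monic_X_pow_sub_C x (by norm_num), ?_⟩
      simp [ha2]
    obtain ⟨a, ha⟩ := IsIntegrallyClosed.isIntegral_iff.mp hint
    have hxa : x = a ^ 2 := by
      apply hinj
      rw [map_pow, ha, ha2]
    have hya : y = a ^ 3 := by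
      apply hinj
      rw [map_pow, ha, pow_succ, ha2]
      field_simp
    refine ⟨a, ⟨hxa, hya⟩, ?_⟩
    rintro b ⟨hxb, hyb⟩
    apply hinj
    rw [ha]
    have hb0 : algebraMap A (FractionRing A) b ≠ 0 := by
      intro h
      have : b = 0 := hinj (by rw [h, map_zero])
      apply hx
      rw [hxb, this]
      simp
    rw [hxb, hyb, map_pow, map_pow]
    field_simp

end Groth.Agent.S15941
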