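import Groth.Statements.S0418
import Groth.Agent.H25.Tower3
import Groth.Agent.H25.PPow
open Groth.Agent.H25

set_option autoImplicit false
universe u
open FlatMor

namespace Groth.Agent.S0418

open AlgebraicGeometry in
/-- For a prime number p and a ring map A → B that becomes an isomorphism after inverting p, Spec B →
Spec A is a universal homeomorphism if and only if the kernel consists of nilpotents and every
element of B has some p-power multiple and p-power power in the image. -/
theorem result {A B : Type u} [CommRing A] [CommRing B] (φ : A →+* B) (p : ℕ) (hp : p.Prime)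
    (h : Function.Bijective (Localization.awayMap φ (p : A))) :
    FlatMor.IsUnivHomeo (Spec.map (CommRingCat.ofHom φ)) ↔
      (∀ a ∈ RingHom.ker φ, IsNilpotent a) ∧ ∀ b : B, ∃ n : ℕ, (p ^ n : B) * b ∈ φ.range ∧ b ^ (p ^ n) ∈ φ.range := by
  classical
  have hpB : φ (p : A) = (p : B) := map_natCast φ p
  constructor
  · intro hU
    have hU' := (ColimUH.univHomeo_iff φ).1 hU
    refine ⟨fun a ha => hU'.2.2 a ha, ?_⟩
    -- every element is p-power torsion modulo the image
    have hT : ∀ b : B, ∃ N : ℕ, (p : B) ^ N * b ∈ φ.range := by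
      intro b
      obtain ⟨z, hz⟩ := h.2 (algebraMap B (Localization.Away (φ (p : A))) b)
      obtain ⟨⟨a, s⟩, hs⟩ := IsLocalization.surj (Submonoid.powers (p : A)) z
      obtain ⟨k, hk⟩ := s.2
      have h1 := congr(Localization.awayMap φ (p : A) $hs)
      rw [map_mul, hz] at h1
      simp only [Localization.awayMap, IsLocalization.Away.map, IsLocalization.map_eq] at h1
      rw [← map_mul, IsLocalization.eq_iff_exists (Submonoid.powers (φ (p : A)))] at h1
      obtain ⟨⟨c, m, hm⟩, hc⟩ := h1
      simp only at hc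
      refine ⟨m + k, (p : A) ^ m * a, ?_⟩
      have hk' : (s : A) = (p : A) ^ k := hk.symm
      have hm' : c = φ (p : A) ^ m := hm.symm
      calc φ ((p : A) ^ m * a) = φ (p : A) ^ m * φ a := by rw [map_mul, map_pow]
        _ = c * φ a := by rw [hm']
        _ = c * (b * φ s) := hc.symm
        _ = φ (p : A) ^ m * (b * φ (p : A) ^ k) := by rw [hm', hk', map_pow]
        _ = (p : B) ^ (m + k) * b := by rw [hpB]; ring
    algebraize [φ]
    have hφ : algebraMap A B = φ := rfl
    let B' : Subalgebra A B :=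
      { carrier := {b | ∃ n : ℕ, (p : B) ^ n * b ∈ φ.range ∧ b ^ (p ^ n) ∈ φ.range}
        mul_mem' := by
          rintro x y ⟨n, hx1, hx2⟩ ⟨m, hy1, hy2⟩
          refine ⟨n + m, ?_, ?_⟩
          · have : (p : B) ^ (n + m) * (x * y) = ((p : B) ^ n * x) * ((p : B) ^ m * y) := by ring
            rw [this]; exact mul_mem hx1 hy1
          · have : (x * y) ^ (p ^ (n + m)) = (x ^ (p ^ n)) ^ (p ^ m) * (y ^ (p ^ m)) ^ (p ^ n) := by
              have e : p ^ (n + m) = p ^ n * p ^ m := pow_add p n m
              rw [mul_pow, ← pow_mul, ← pow_mul, mul_comm (p ^ m) (p ^ n), ← e]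
            rw [this]; exact mul_mem (pow_mem hx2 _) (pow_mem hy2 _)
        add_mem' := by
          rintro x y ⟨n, hx1, hx2⟩ ⟨m, hy1, hy2⟩
          have hx1' : (p : B) ^ (n + m) * x ∈ φ.range := by
            have : (p : B) ^ (n + m) * x = (p : B) ^ m * ((p : B) ^ n * x) := by ring
            rw [this]; exact mul_mem (pow_mem (natCast_mem _ p) _) hx1
          have hy1' : (p : B) ^ (n + m) * y ∈ φ.range := by
            have : (p : B) ^ (n + m) * y = (p : B) ^ n * ((p : B) ^ m * y) := by ring
            rw [this]; exact mul_mem (pow_mem (natCast_mem _ p) _) hy1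
          have hx2' : x ^ (p ^ (n + m)) ∈ φ.range := by
            rw [pow_add, pow_mul]; exact pow_mem hx2 _
          have hy2' : y ^ (p ^ (n + m)) ∈ φ.range := by
            rw [add_comm, pow_add, pow_mul]; exact pow_mem hy2 _
          exact PPow.add_pow_mem φ.range p hp x y (n + m) hx1' hx2' hy1' hy2'
        algebraMap_mem' := by
          intro a
          refine ⟨0, ?_, ?_⟩
          · rw [pow_zero, one_mul]; exact ⟨a, rfl⟩
          · rw [pow_zero, pow_one]; exact ⟨a, rfl⟩ }
    have hB'mem : ∀ b, b ∈ B' ↔ ∃ n : ℕ, (p : B) ^ n * b ∈ φ.range ∧ b ^ (p ^ n) ∈ φ.range :=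
      fun b => Iff.rfl
    have hB'pow : ∀ b, b ∈ B' → ∃ m : ℕ, b ^ (p ^ m) ∈ φ.range := fun b hb => by
      obtain ⟨n, -, h2⟩ := (hB'mem b).1 hb
      exact ⟨n, h2⟩
    -- combine: enough to find a p-power power in the image
    have hcomb : ∀ b : B, (∃ m : ℕ, b ^ (p ^ m) ∈ φ.range) → b ∈ B' := by
      intro b ⟨m, hm⟩
      obtain ⟨N, hN⟩ := hT b
      refine ⟨N + m, ?_, ?_⟩
      · have : (p : B) ^ (N + m) * b = (p : B) ^ m * ((p : B) ^ N * b) := by ring
        rw [this]; exact mul_mem (pow_mem (natCast_mem _ p) _) hN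
      · rw [add_comm, pow_add, pow_mul]; exact pow_mem hm _
    have hB'top : B' = ⊤ := by
      by_contra hne
      obtain ⟨b, hbB', hEl⟩ := Tower.hex2 hU B' hne
      apply hbB'
      apply hcomb
      rcases hEl with ⟨h2, h3⟩ | ⟨l, hl, h1, h2l⟩
      · -- b², b³ ∈ B'
        have hpow : ∀ k, 2 ≤ k → b ^ k ∈ B' := by
          intro k hk
          obtain ⟨i, j, rfl⟩ : ∃ i j, k = 2 * i + 3 * j := by
            rcases Nat.even_or_odd' k with ⟨c, hc | hc⟩
            · exact ⟨c, 0, by omega⟩
            · exact ⟨c - 1, 1, by omega⟩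
          rw [pow_add, pow_mul, pow_mul]
          exact mul_mem (pow_mem h2 _) (pow_mem h3 _)
        have h4 : b ^ (p ^ 1) ∈ B' := hpow _ (by rw [pow_one]; exact hp.two_le)
        obtain ⟨m, hm⟩ := hB'pow _ h4
        refine ⟨1 + m, ?_⟩
        rw [pow_add, pow_mul]; exact hm
      · -- l b ∈ B'
        by_cases hlp : l = p
        · subst hlp
          obtain ⟨m, hm⟩ := hB'pow _ h2l
          refine ⟨1 + m, ?_⟩
          rw [pow_add, pow_one, pow_mul]; exact hm
        · obtain ⟨n, -, hn2⟩ := (hB'mem _).1 h1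
          rw [mul_pow] at hn2
          obtain ⟨N, hN⟩ := hT (b ^ (p ^ n))
          refine ⟨n, ?_⟩
          have hcop : Nat.Coprime (l ^ (p ^ n)) (p ^ N) :=
            Nat.Coprime.pow _ _ ((Nat.coprime_primes hl hp).2 hlp)
          obtain ⟨u, v, huv⟩ := Nat.isCoprime_iff_coprime.2 hcop
          have huvB : (u : B) * (l : B) ^ (p ^ n) + (v : B) * (p : B) ^ N = 1 := by
            have := congr(((($huv) : ℤ) : B))
            push_cast at this
            exact this
          have : b ^ (p ^ n) = (u : B) * ((l : B) ^ (p ^ n) * b ^ (p ^ n)) +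
              (v : B) * ((p : B) ^ N * b ^ (p ^ n)) := by
            calc b ^ (p ^ n) = 1 * b ^ (p ^ n) := (one_mul _).symm
              _ = ((u : B) * (l : B) ^ (p ^ n) + (v : B) * (p : B) ^ N) * b ^ (p ^ n) := by
                rw [huvB]
              _ = _ := by ring
          rw [this]
          exact add_mem (mul_mem (intCast_mem _ u) hn2) (mul_mem (intCast_mem _ v) hN)
    intro b
    have : b ∈ B' := hB'top ▸ Algebra.mem_top
    obtain ⟨n, h1, h2⟩ := (hB'mem b).1 this
    exact ⟨n, by simpa using h1, h2⟩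
  · rintro ⟨hker, hb⟩
    rw [ColimUH.univHomeo_iff]
    refine ⟨?_, ?_, fun a ha => hker a ha⟩
    · intro b
      obtain ⟨n, -, a, ha⟩ := hb b
      refine ⟨Polynomial.X ^ (p ^ n) - Polynomial.C a,
        Polynomial.monic_X_pow_sub_C a (pow_pos hp.pos n).ne', ?_⟩
      simp [ha]
    · intro F _ ψ₁ ψ₂ h12
      ext b
      obtain ⟨n, ⟨a₁, ha₁⟩, ⟨a₂, ha₂⟩⟩ := hb b
      have e1 : (p : F) ^ n * ψ₁ b = (p : F) ^ n * ψ₂ b := by
        have h1 : ψ₁ ((p ^ n : B) * b) = ψ₂ ((p ^ n : B) * b) := by
          rw [← ha₁]; exact congr($h12 a₁)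
        simpa using h1
      have e2 : ψ₁ b ^ (p ^ n) = ψ₂ b ^ (p ^ n) := by
        rw [← map_pow, ← map_pow, ← ha₂]; exact congr($h12 a₂)
      by_cases hpF : (p : F) = 0
      · haveI : CharP F p := (CharP.charP_iff_prime_eq_zero hp).2 hpF
        haveI : ExpChar F p := ExpChar.prime hp
        apply iterateFrobenius_inj F p n
        rw [iterateFrobenius_def, iterateFrobenius_def, e2]
      · exact mul_left_cancel₀ (pow_ne_zero n hpF) e1

end Groth.Agent.S0418
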