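import Groth.Statements.S10909
import Mathlib
import Groth.Agent.H29.RegPowerSeries
import Groth.Agent.H11.RegOmega
import Groth.Agent.S2680

set_option autoImplicit false
universe u
open TensorProduct
open SmVar

namespace Groth.Agent.S10909

open IsLocalRing Module KaehlerDifferential

/-- The residue field at a closed point of a finite type algebra over an algebraically closed
field is the base field. -/
theorem hres (k : Type u) [Field k] [IsAlgClosed k] (A : Type u) [CommRing A] [Algebra k A]
    [Algebra.FiniteType k A] (m : Ideal A) [hm : m.IsMaximal] :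
    Function.Bijective (algebraMap k (ResidueField (Localization.AtPrime m))) := by
  refine ⟨(algebraMap k _).injective, fun x => ?_⟩
  obtain ⟨a, rfl⟩ := Ideal.algebraMap_residueField_surjective m x
  letI : Field (A ⧸ m) := Ideal.Quotient.field m
  haveI : Algebra.FiniteType k (A ⧸ m) :=
    Algebra.FiniteType.of_surjective (Ideal.Quotient.mkₐ k m) (Ideal.Quotient.mkₐ_surjective k m)
  haveI : Module.Finite k (A ⧸ m) := finite_of_finite_type_of_isJacobsonRing k (A ⧸ m)
  haveI : Algebra.IsIntegral k (A ⧸ m) := Algebra.IsIntegral.of_finite k (A ⧸ m)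
  obtain ⟨c, hc⟩ := (IsAlgClosed.algebraMap_bijective_of_isIntegral (k := k) (K := A ⧸ m)).2
    (Ideal.Quotient.mk m a)
  refine ⟨c, ?_⟩
  have h1 : algebraMap k m.ResidueField c = algebraMap A m.ResidueField (algebraMap k A c) :=
    IsScalarTower.algebraMap_apply k A m.ResidueField c
  refine h1.trans ?_
  rw [← sub_eq_zero, ← map_sub, Ideal.algebraMap_residueField_eq_zero,
    ← Ideal.Quotient.eq_zero_iff_mem, map_sub, sub_eq_zero]
  exact hc

theorem dim_congr {A : Type u} [CommRing A] (P Q : Ideal A) [hP : P.IsPrime] [hQ : Q.IsPrime]
    (h : P = Q) :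
    ringKrullDim (Localization.AtPrime P) = ringKrullDim (Localization.AtPrime Q) := by
  subst h; rfl

/-- All closed points of an irreducible finite type `k`-scheme of dimension `n` have local
dimension `n`. -/
theorem dim_loc (k : Type u) [Field k] (A : Type u) [CommRing A] [Algebra k A]
    [Algebra.FiniteType k A] (hirr : (nilradical A).IsPrime) (n : ℕ) (hn : ringKrullDim A = n)
    (m : Ideal A) [hm : m.IsMaximal] : ringKrullDim (Localization.AtPrime m) = n := by
  apply le_antisymm
  · rw [IsLocalization.AtPrime.ringKrullDim_eq_height m (Localization.AtPrime m), ← hn]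
    exact Ideal.height_le_ringKrullDim_of_ne_top hm.ne_top
  · haveI : (nilradical A).IsPrime := hirr
    haveI : IsDomain (A ⧸ nilradical A) := Ideal.Quotient.isDomain _
    haveI : Algebra.FiniteType k (A ⧸ nilradical A) :=
      Algebra.FiniteType.of_surjective (Ideal.Quotient.mkₐ k (nilradical A))
        (Ideal.Quotient.mkₐ_surjective k (nilradical A))
    have hdim : ringKrullDim (A ⧸ nilradical A) = n := by
      rw [ringKrullDim_quotient, (PrimeSpectrum.zeroLocus_eq_univ_iff _).mpr subset_rfl, ← hn]
      exact Order.krullDim_eq_of_orderIso OrderIso.Set.univ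
    obtain ⟨n', -, h2, h3⟩ := Groth.Agent.S2680.result k (A ⧸ nilradical A)
    have hnn : (n' : WithBot ℕ∞) = n := by rw [← h2, hdim]
    have hker : RingHom.ker (Ideal.Quotient.mk (nilradical A)) ≤ m := by
      rw [Ideal.mk_ker]; exact nilradical_le_prime m
    haveI hP : (m.map (Ideal.Quotient.mk (nilradical A))).IsMaximal :=
      Ideal.IsMaximal.map_of_surjective_of_ker_le Ideal.Quotient.mk_surjective hker
    have hcomap : (m.map (Ideal.Quotient.mk (nilradical A))).comap
        (Ideal.Quotient.mk (nilradical A)) = m := by
      rw [Ideal.comap_map_of_surjective _ Ideal.Quotient.mk_surjective,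
        ← RingHom.ker_eq_comap_bot, sup_of_le_left hker]
    have h4 := h3 (m.map (Ideal.Quotient.mk (nilradical A)))
    have hsurj := RingHom.surjective_localRingHom_of_surjective
      (Ideal.Quotient.mk (nilradical A)) Ideal.Quotient.mk_surjective
      (m.map (Ideal.Quotient.mk (nilradical A)))
    have h5 := ringKrullDim_le_of_surjective _ hsurj
    rw [h4, hnn] at h5
    exact h5.trans (dim_congr _ m hcomap).le

/-- The rank of `Ω_{A/k}` at `m` is the rank of `Ω_{A_m/k}`. -/
theorem rank_eq (k : Type u) [Field k] (A : Type u) [CommRing A] [Algebra k A]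
    (m : Ideal A) [hm : m.IsPrime] :
    Module.rankAtStalk (Ω[A⁄k]) ⟨m, hm⟩ =
      finrank (Localization.AtPrime m) (Ω[Localization.AtPrime m⁄k]) := by
  show finrank (Localization.AtPrime m) (LocalizedModule m.primeCompl (Ω[A⁄k])) = _
  exact (IsLocalizedModule.mapEquiv m.primeCompl
    (LocalizedModule.mkLinearMap m.primeCompl (Ω[A⁄k]))
    (KaehlerDifferential.map k k A (Localization.AtPrime m)) (Localization.AtPrime m)
    (LinearEquiv.refl A (Ω[A⁄k]))).finrank_eq


/-- Let k be an algebraically closed field and A a k-algebra of finite type with irreducible spectrum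
(the nilradical of A is prime) and Krull dimension n; X = Spec A is then an irreducible separated
k-scheme of finite type of dimension n. Then X is a nonsingular variety — A is reduced and every
localization of A at a prime is a regular local ring — if and only if the module of Kähler
differentials Ω_{A/k} is locally free of rank n: projective, with fibre κ(P) ⊗_A Ω_{A/k} of
dimension n at every prime P. -/
theorem result (k : Type u) [Field k]
    [IsAlgClosed k] (A : Type u) [CommRing A] [Algebra k A] [Algebra.FiniteType k A]
    (hirr : (nilradical A).IsPrime) (n : ℕ) (hn : ringKrullDim A = n) :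
    (IsReduced A ∧ IsRegularRing A) ↔
      (Module.Projective A (Ω[A⁄k]) ∧
        ∀ (P : Ideal A) [P.IsPrime],
          Module.finrank P.ResidueField (P.ResidueField ⊗[A] Ω[A⁄k]) = n) := by
  haveI : IsNoetherianRing A := Algebra.FiniteType.isNoetherianRing k A
  haveI : Module.Finite A (Ω[A⁄k]) := inferInstance
  have hdimloc : ∀ (m : Ideal A) [m.IsMaximal],
      ringKrullDim (Localization.AtPrime m) = (n : WithBot ℕ∞) :=
    fun m _ => dim_loc k A hirr n hn m
  constructor
  · rintro ⟨hred, hreg⟩
    haveI := hreg
    have hfree : ∀ (m : Ideal A) [m.IsMaximal],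
        Module.Free (Localization.AtPrime m) (Ω[Localization.AtPrime m⁄k]) ∧
          finrank (Localization.AtPrime m) (Ω[Localization.AtPrime m⁄k]) = n := by
      intro m hm
      exact Groth.Agent.H11.RegOmega.free_of_regular k (Localization.AtPrime m) (hres k A m) n
        (hdimloc m)
    haveI hflat : Module.Flat A (Ω[A⁄k]) := by
      refine Module.flat_of_isLocalized_maximal (R := A) (S := A) (Ω[A⁄k])
        (fun P _ => Ω[Localization.AtPrime P⁄k])
        (fun P _ => KaehlerDifferential.map k k A (Localization.AtPrime P)) ?_
      intro P hP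
      haveI := (hfree P).1
      exact Module.Flat.trans A (Localization.AtPrime P) _
    haveI : Module.FinitePresentation A (Ω[A⁄k]) := Module.finitePresentation_of_finite A _
    refine ⟨Module.Flat.projective_of_finitePresentation, ?_⟩
    intro P hP
    obtain ⟨m, hm, hPm⟩ := Ideal.exists_le_maximal P hP.ne_top
    haveI := hm
    have h1 : finrank P.ResidueField (P.ResidueField ⊗[A] Ω[A⁄k]) =
        Module.rankAtStalk (Ω[A⁄k]) ⟨P, hP⟩ := Ideal.finrank_fiber_eq_rankAtStalk P
    rw [h1, Module.rankAtStalk_eq_of_le_of_finite_of_flat' (Ω[A⁄k]) hPm, rank_eq k A m]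
    exact (hfree m).2
  · rintro ⟨hproj, hrank⟩
    haveI := hproj
    have hregloc : ∀ (m : Ideal A) [m.IsMaximal],
        IsRegularLocalRing (Localization.AtPrime m) := by
      intro m hm
      haveI : Module.Flat (Localization.AtPrime m) (Ω[Localization.AtPrime m⁄k]) :=
        Module.Flat.of_isLocalizedModule (Localization.AtPrime m) m.primeCompl
          (KaehlerDifferential.map k k A (Localization.AtPrime m))
      haveI : Module.Free (Localization.AtPrime m) (Ω[Localization.AtPrime m⁄k]) :=
        Module.free_of_flat_of_isLocalRing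
      have h1 : finrank (Localization.AtPrime m) (Ω[Localization.AtPrime m⁄k]) = n := by
        rw [← rank_eq k A m, ← Ideal.finrank_fiber_eq_rankAtStalk m]
        exact hrank m
      exact Groth.Agent.H11.RegOmega.regular_of_free k (Localization.AtPrime m) (hres k A m) n
        (hdimloc m) h1
    refine ⟨?_, Groth.Agent.H29.isRegularRing_of_forall_isMaximal A hregloc⟩
    refine isReduced_ofLocalizationMaximal A ?_
    intro m hm
    haveI := hm
    haveI := hregloc m
    haveI := Groth.Agent.H29.isDomain_of_isRegularLocalRing (Localization.AtPrime m)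
    infer_instance

end Groth.Agent.S10909
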