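import Groth.Statements.S9409
import Mathlib

set_option autoImplicit false
universe u
open CAlg

namespace Groth.Agent.S9409

open TensorProduct

theorem transfer (k F A L E : Type u) [Field k] [Field F] [Algebra F k] [Field L] [Algebra k L]
    [Field E] [Algebra F E] [CommRing A] [Algebra k A] [Algebra F A] [IsScalarTower F k A]
    (e' : k ⊗[F] E ≃ₐ[k] L) [IsRegularRing (E ⊗[F] A)] : IsRegularRing (L ⊗[k] A) := by
  let e1 : L ⊗[k] A ≃ₐ[k] (k ⊗[F] E) ⊗[k] A := Algebra.TensorProduct.congr e'.symm AlgEquiv.refl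
  let e2 : (k ⊗[F] E) ⊗[k] A ≃ₐ[k] A ⊗[k] (k ⊗[F] E) := Algebra.TensorProduct.comm k _ _
  let e3 : A ⊗[k] (k ⊗[F] E) ≃ₐ[k] A ⊗[F] E :=
    Algebra.TensorProduct.cancelBaseChange F k k A E
  let e4 : A ⊗[F] E ≃ₐ[F] E ⊗[F] A := Algebra.TensorProduct.comm F A E
  exact IsRegularRing.of_ringEquiv
    (((e1.toRingEquiv.trans e2.toRingEquiv).trans e3.toRingEquiv).trans e4.toRingEquiv).symm



/-- Let k be a field written as a directed union of subfields k_i (given as fields mapping to k whose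
images form a directed family covering k) and A a Noetherian k-algebra. Geometric regularity of A
over every one of the k_i implies that A is also geometrically regular as a k-algebra. -/
theorem result (k : Type u) [Field k] {ι : Type u}
    (K : ι → Type u) [∀ i, Field (K i)] [∀ i, Algebra (K i) k]
    (hdir : ∀ i j, ∃ l, Set.range (algebraMap (K i) k) ⊆ Set.range (algebraMap (K l) k) ∧
      Set.range (algebraMap (K j) k) ⊆ Set.range (algebraMap (K l) k))
    (hcov : ∀ x : k, ∃ i, x ∈ Set.range (algebraMap (K i) k))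
    (A : Type u) [CommRing A] [Algebra k A] [IsNoetherianRing A] [∀ i, Algebra (K i) A]
    [∀ i, IsScalarTower (K i) k A] (h : ∀ i, CAlg.IsGeometricallyRegular (K i) A) :
    CAlg.IsGeometricallyRegular k A := by
  intro L _ _ hfin
  classical
  have hcovfin : ∀ s : Finset k, ∃ i, ∀ x ∈ s, x ∈ Set.range (algebraMap (K i) k) := by
    intro s
    induction s using Finset.induction_on with
    | empty => obtain ⟨i, _⟩ := hcov 0; exact ⟨i, fun x hx => absurd hx (Finset.notMem_empty x)⟩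
    | insert a s _ ih =>
      obtain ⟨i, hi⟩ := ih
      obtain ⟨j, hj⟩ := hcov a
      obtain ⟨l, hl1, hl2⟩ := hdir i j
      refine ⟨l, fun x hx => ?_⟩
      rcases Finset.mem_insert.mp hx with rfl | hx
      · exact hl2 hj
      · exact hl1 (hi x hx)
  haveI : Module.Finite k L := hfin
  obtain ⟨b, -⟩ : ∃ b : Module.Basis (Fin (Module.finrank k L)) k L, b = b := ⟨Module.finBasis k L, rfl⟩
  obtain ⟨i₀, hi₀⟩ := hcovfin ((Finset.univ.image (fun t : Fin (Module.finrank k L) × Fin (Module.finrank k L) × Fin (Module.finrank k L) => b.repr (b t.1 * b t.2.1) t.2.2)) ∪ (Finset.univ.image (fun l => b.repr 1 l)))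
  have hc : ∀ i j l, ∃ r : K i₀, algebraMap (K i₀) k r = b.repr (b i * b j) l := by
    intro i j l
    exact hi₀ _ (Finset.mem_union_left _ (Finset.mem_image.mpr ⟨(i, j, l), Finset.mem_univ _, rfl⟩))
  have hu : ∀ l, ∃ r : K i₀, algebraMap (K i₀) k r = b.repr 1 l := by
    intro l
    exact hi₀ _ (Finset.mem_union_right _ (Finset.mem_image.mpr ⟨l, Finset.mem_univ _, rfl⟩))
  letI algFL : Algebra (K i₀) L := ((algebraMap k L).comp (algebraMap (K i₀) k)).toAlgebra
  haveI : IsScalarTower (K i₀) k L := IsScalarTower.of_algebraMap_eq (fun _ => rfl)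
  haveI : FaithfulSMul (K i₀) k := (faithfulSMul_iff_algebraMap_injective _ _).mpr (algebraMap (K i₀) k).injective
  obtain ⟨M, hM⟩ : ∃ M : Submodule (K i₀) L, M = Submodule.span (K i₀) (Set.range b) := ⟨_, rfl⟩
  have hbM : ∀ j, b j ∈ M := fun j => by rw [hM]; exact Submodule.subset_span ⟨j, rfl⟩
  have hexp : ∀ x : L, (∀ l, ∃ r : K i₀, algebraMap (K i₀) k r = b.repr x l) → x ∈ M := by
    intro x hx
    rw [← b.sum_repr x]
    refine Submodule.sum_mem _ (fun l _ => ?_)
    obtain ⟨r, hr⟩ := hx l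
    rw [← hr, algebraMap_smul]
    exact Submodule.smul_mem _ _ (hbM l)
  have h1 : (1 : L) ∈ M := hexp 1 hu
  have hbb : ∀ i j, b i * b j ∈ M := fun i j => hexp _ (hc i j)
  have hmul : ∀ x y, x ∈ M → y ∈ M → x * y ∈ M := by
    intro x y hx hy
    rw [hM] at hx hy
    induction hx using Submodule.span_induction with
    | mem x hx =>
      obtain ⟨i, rfl⟩ := hx
      induction hy using Submodule.span_induction with
      | mem y hy => obtain ⟨j, rfl⟩ := hy; exact hbb i j
      | zero => rw [mul_zero]; exact M.zero_mem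
      | add y z _ _ hy hz => rw [mul_add]; exact M.add_mem hy hz
      | smul r y _ hy => rw [mul_smul_comm]; exact M.smul_mem r hy
    | zero => rw [zero_mul]; exact M.zero_mem
    | add x z _ _ hx hz => rw [add_mul]; exact M.add_mem hx hz
    | smul r x _ hx => rw [smul_mul_assoc]; exact M.smul_mem r hx
  obtain ⟨L₀, hL₀⟩ : ∃ L₀ : Subalgebra (K i₀) L, ∀ x, x ∈ L₀ ↔ x ∈ M :=
    ⟨M.toSubalgebra h1 hmul, fun x => Submodule.mem_toSubalgebra⟩
  have hfg : (Subalgebra.toSubmodule L₀).FG := by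
    have : Subalgebra.toSubmodule L₀ = M := by
      ext x; rw [Subalgebra.mem_toSubmodule]; exact hL₀ x
    rw [this, hM]; exact Submodule.fg_span (Set.finite_range b)
  haveI : Algebra.IsIntegral (K i₀) ↥L₀ := ⟨fun x =>
    (isIntegral_algHom_iff L₀.val Subtype.val_injective).mp (IsIntegral.of_mem_of_fg L₀ hfg x.1 x.2)⟩
  have hfield : IsField ↥L₀ := isField_of_isIntegral_of_isField' (Field.toIsField (K i₀))
  obtain ⟨E, hE⟩ : ∃ E : IntermediateField (K i₀) L, ∀ x, x ∈ E ↔ x ∈ M :=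
    ⟨L₀.toIntermediateField' hfield, fun x => by rw [← hL₀ x]; rfl⟩
  have hbE : ∀ j, b j ∈ E := fun j => (hE _).mpr (hbM j)
  obtain ⟨b', hb'⟩ : ∃ b' : Fin (Module.finrank k L) → ↥E, ∀ j, (b' j : L) = b j :=
    ⟨fun j => ⟨b j, hbE j⟩, fun j => rfl⟩
  have hli : LinearIndependent (K i₀) b' := by
    have h0 : LinearIndependent (K i₀) (fun j => b j) :=
      LinearIndependent.restrict_scalars' (K i₀) b.linearIndependent
    refine LinearIndependent.of_comp E.val.toLinearMap ?_
    convert h0 using 1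
    ext j; exact hb' j
  have hsp : ⊤ ≤ Submodule.span (K i₀) (Set.range b') := by
    rintro ⟨x, hx⟩ -
    have hxM : x ∈ Submodule.span (K i₀) (Set.range b) := by rw [← hM]; exact (hE x).mp hx
    have key : ∀ y, y ∈ Submodule.span (K i₀) (Set.range b) →
        ∃ z : ↥E, z ∈ Submodule.span (K i₀) (Set.range b') ∧ (z : L) = y := by
      intro y hy
      induction hy using Submodule.span_induction with
      | mem y hy => obtain ⟨j, rfl⟩ := hy; exact ⟨b' j, Submodule.subset_span ⟨j, rfl⟩, hb' j⟩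
      | zero => exact ⟨0, Submodule.zero_mem _, rfl⟩
      | add y z _ _ hy hz =>
        obtain ⟨y', hy', rfl⟩ := hy; obtain ⟨z', hz', rfl⟩ := hz
        exact ⟨y' + z', Submodule.add_mem _ hy' hz', rfl⟩
      | smul r y _ hy =>
        obtain ⟨y', hy', rfl⟩ := hy
        exact ⟨r • y', Submodule.smul_mem _ r hy', rfl⟩
    obtain ⟨z, hz, hzx⟩ := key x hxM
    have : z = ⟨x, hx⟩ := Subtype.ext hzx
    rw [← this]; exact hz
  obtain ⟨bE, hbE'⟩ : ∃ bE : Module.Basis (Fin (Module.finrank k L)) (K i₀) ↥E, ∀ j, (bE j : L) = b j :=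
    ⟨Module.Basis.mk hli hsp, fun j => by rw [Module.Basis.mk_apply]; exact hb' j⟩
  haveI : Module.Finite (K i₀) ↥E := Module.Finite.of_basis bE
  obtain ⟨φ, hφ⟩ : ∃ φ : k ⊗[K i₀] ↥E →ₐ[k] L, ∀ (a : k) (x : ↥E), φ (a ⊗ₜ x) = algebraMap k L a * (x : L) :=
    ⟨Algebra.TensorProduct.lift (Algebra.ofId k L) E.val (fun _ _ => Commute.all _ _), fun a x => by
      rw [Algebra.TensorProduct.lift_tmul]; rfl⟩
  have hφbij : Function.Bijective φ := by
    obtain ⟨bT, hbT⟩ : ∃ bT : Module.Basis (Fin (Module.finrank k L)) k (k ⊗[K i₀] ↥E), ∀ j, bT j = 1 ⊗ₜ bE j :=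
      ⟨bE.baseChange k, fun j => Module.Basis.baseChange_apply k bE j⟩
    obtain ⟨eL, heL⟩ : ∃ eL : (k ⊗[K i₀] ↥E) ≃ₗ[k] L, ∀ j, eL (bT j) = b j :=
      ⟨bT.equiv b (Equiv.refl _), fun j => by rw [Module.Basis.equiv_apply]; rfl⟩
    have hφe : φ.toLinearMap = eL.toLinearMap := by
      refine bT.ext (fun j => ?_)
      rw [AlgHom.toLinearMap_apply, LinearEquiv.coe_coe, heL, hbT, hφ, map_one, one_mul, hbE']
    have : ⇑φ = ⇑eL := funext (fun x => LinearMap.congr_fun hφe x)
    rw [this]; exact eL.bijective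
  haveI : IsRegularRing (↥E ⊗[K i₀] A) := h i₀ ↥E inferInstance
  exact transfer k (K i₀) A L ↥E (AlgEquiv.ofBijective φ hφbij)

end Groth.Agent.S9409
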