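import Groth.Statements.S9410
import Mathlib
import Groth.Agent.S9409
import Groth.Agent.H27.AdicSmooth

set_option autoImplicit false
universe u
open CAlg

namespace Groth.Agent.S9410

open TensorProduct

theorem locIso {R R' : Type u} [CommRing R] [CommRing R'] (π : R →+* R')
    (hπ : Function.Surjective π) (q : Ideal R) [q.IsPrime] (q' : Ideal R') [q'.IsPrime]
    (hq : q = q'.comap π) (τ : R) (hτ : π τ ∉ q') (hkill : ∀ x, π x = 0 → τ * x = 0) :
    Function.Bijective (Localization.localRingHom q q' π hq) := by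
  subst hq
  constructor
  · rw [injective_iff_map_eq_zero]
    intro x hx
    obtain ⟨b, s, rfl⟩ := IsLocalization.exists_mk'_eq (q'.comap π).primeCompl x
    rw [Localization.localRingHom_mk'] at hx
    rw [IsLocalization.mk'_eq_zero_iff] at hx ⊢
    obtain ⟨u', hu'⟩ := hx
    obtain ⟨u, hu⟩ := hπ u'.1
    have hkb : π (u * b) = 0 := by rw [map_mul, hu]; exact hu'
    have hτm : τ ∈ (q'.comap π).primeCompl := hτ
    have hum : u ∈ (q'.comap π).primeCompl := by
      show u ∉ q'.comap π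
      rw [Ideal.mem_comap, hu]; exact u'.2
    refine ⟨⟨τ * u, (q'.comap π).primeCompl.mul_mem hτm hum⟩, ?_⟩
    show τ * u * b = 0
    rw [mul_assoc]; exact hkill _ hkb
  · intro y
    obtain ⟨b', s', rfl⟩ := IsLocalization.exists_mk'_eq q'.primeCompl y
    obtain ⟨b, rfl⟩ := hπ b'
    obtain ⟨s, hs⟩ := hπ s'.1
    have hsq : s ∈ (q'.comap π).primeCompl := by
      show s ∉ q'.comap π
      rw [Ideal.mem_comap, hs]; exact s'.2
    refine ⟨IsLocalization.mk' _ b ⟨s, hsq⟩, ?_⟩
    rw [Localization.localRingHom_mk', IsLocalization.mk'_eq_iff_eq]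
    show algebraMap _ _ (s'.1 * π b) = algebraMap _ _ (π s * π b)
    rw [hs]

theorem reg_down {R R' : Type u} [CommRing R] [CommRing R'] (π : R →+* R')
    (hπ : Function.Surjective π) (τ : R) (hτ : π τ = 1) (hkill : ∀ x, π x = 0 → τ * x = 0)
    [IsRegularRing R] : IsRegularRing R' := by
  haveI : IsNoetherianRing R' := isNoetherianRing_of_surjective R R' π hπ
  rw [isRegularRing_iff]
  intro q' hq'
  have hb := locIso π hπ (q'.comap π) q' rfl τ
    (by rw [hτ]; exact fun h => hq'.ne_top ((Ideal.eq_top_iff_one _).mpr h)) hkill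
  exact IsRegularLocalRing.of_ringEquiv (RingEquiv.ofBijective _ hb)

theorem regLocal_up {R R' : Type u} [CommRing R] [CommRing R'] (π : R →+* R')
    (hπ : Function.Surjective π) (q : Ideal R) [q.IsPrime] (hker : RingHom.ker π ≤ q) (τ : R)
    (hτ : τ ∉ q) (hkill : ∀ x, π x = 0 → τ * x = 0) [IsRegularRing R'] :
    IsRegularLocalRing (Localization.AtPrime q) := by
  haveI : (q.map π).IsPrime := Ideal.map_isPrime_of_surjective hπ hker
  have hcm : (q.map π).comap π = q := by
    rw [Ideal.comap_map_of_surjective π hπ, ← RingHom.ker_eq_comap_bot, sup_eq_left]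
    exact hker
  have hτ' : π τ ∉ q.map π := fun h => hτ (by rw [← hcm]; exact h)
  have hb := locIso π hπ q (q.map π) hcm.symm τ hτ' hkill
  exact IsRegularLocalRing.of_ringEquiv (RingEquiv.ofBijective _ hb).symm

theorem art_idem {C : Type u} [CommRing C] [IsArtinianRing C] [IsReduced C] (m : Ideal C)
    [m.IsMaximal] : ∃ τ₀ : C, τ₀ ∉ m ∧ ∀ x ∈ m, τ₀ * x = 0 := by
  classical
  obtain ⟨e, he⟩ : ∃ e : C ≃+* ((I : MaximalSpectrum C) → C ⧸ I.asIdeal),
      ∀ x I, e x I = Ideal.Quotient.mk I.asIdeal x :=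
    ⟨(IsArtinianRing.equivPi C).toRingEquiv, fun x I => rfl⟩
  obtain ⟨I₀, hI₀⟩ : ∃ I₀ : MaximalSpectrum C, I₀.asIdeal = m := ⟨⟨m, inferInstance⟩, rfl⟩
  refine ⟨e.symm (Pi.single I₀ 1), ?_, ?_⟩
  · intro h
    have h1 : e (e.symm (Pi.single I₀ 1)) I₀ = 0 := by
      rw [he]; exact Ideal.Quotient.eq_zero_iff_mem.mpr (hI₀ ▸ h)
    rw [RingEquiv.apply_symm_apply, Pi.single_eq_same] at h1
    exact one_ne_zero h1
  · intro x hx
    apply e.injective
    rw [map_mul, RingEquiv.apply_symm_apply, map_zero]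
    funext I
    by_cases hI : I = I₀
    · subst hI
      rw [Pi.mul_apply, he, Ideal.Quotient.eq_zero_iff_mem.mpr (hI₀ ▸ hx), mul_zero]; rfl
    · rw [Pi.mul_apply, Pi.single_eq_of_ne hI, zero_mul]; rfl

theorem fin_sep_down (k E M A : Type u) [Field k] [Field E] [Algebra k E] [Module.Finite k E]
    [Algebra.IsSeparable k E] [Field M] [Algebra E M] [Algebra k M] [IsScalarTower k E M]
    [CommRing A] [Algebra k A] [Algebra E A] [IsScalarTower k E A]
    [IsRegularRing (M ⊗[k] A)] : IsRegularRing (M ⊗[E] A) := by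
  haveI : Algebra.FormallyUnramified k E := Algebra.FormallyUnramified.of_isSeparable k E
  obtain ⟨t, ht1, ht2⟩ :=
    (Algebra.FormallyUnramified.iff_exists_tensorProduct (R := k) (S := E)).mp inferInstance
  obtain ⟨π, hπt, hπs, hπk⟩ : ∃ π : M ⊗[k] A →ₐ[E] M ⊗[E] A,
      (∀ m a, π (m ⊗ₜ a) = m ⊗ₜ a) ∧ Function.Surjective π ∧
      ∀ x, π x = 0 → x ∈ Submodule.span E {y : M ⊗[k] A | ∃ (d : E) (m : M) (a : A),
        (d • m) ⊗ₜ[k] a - m ⊗ₜ[k] (d • a) = y} := by
    refine ⟨Algebra.TensorProduct.mapOfCompatibleSMul E k E M A,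
      fun m a => Algebra.TensorProduct.mapOfCompatibleSMul_tmul E k E M A m a,
      Algebra.TensorProduct.mapOfCompatibleSMul_surjective E k E M A, fun x hx => ?_⟩
    rw [← TensorProduct.AlgebraTensorModule.ker_mapOfCompatibleSMul (R := k) E M (N := A)]
    exact hx
  obtain ⟨ψ, hψ⟩ : ∃ ψ : E ⊗[k] E →ₐ[k] M ⊗[k] A,
      ∀ x y, ψ (x ⊗ₜ y) = algebraMap E M x ⊗ₜ algebraMap E A y :=
    ⟨Algebra.TensorProduct.map (IsScalarTower.toAlgHom k E M) (IsScalarTower.toAlgHom k E A),
      fun x y => rfl⟩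
  have hcomp : ∀ z : E ⊗[k] E,
      π (ψ z) = algebraMap E (M ⊗[E] A) (Algebra.TensorProduct.lmul' k z) := by
    intro z
    induction z using TensorProduct.induction_on with
    | zero => simp
    | tmul x y =>
      rw [hψ, hπt, Algebra.TensorProduct.lmul'_apply_tmul]
      calc algebraMap E M x ⊗ₜ[E] algebraMap E A y
          = algebraMap E M x ⊗ₜ[E] (y • (1 : A)) := by rw [Algebra.algebraMap_eq_smul_one y]
        _ = (y • algebraMap E M x) ⊗ₜ[E] (1 : A) :=
            (TensorProduct.smul_tmul y (algebraMap E M x) (1 : A)).symm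
        _ = algebraMap E M (x * y) ⊗ₜ[E] (1 : A) := by rw [Algebra.smul_def, ← map_mul, mul_comm]
        _ = algebraMap E (M ⊗[E] A) (x * y) := (Algebra.TensorProduct.algebraMap_apply _).symm
    | add x y hx hy => rw [map_add, map_add, map_add, map_add, hx, hy]
  obtain ⟨τ, hτdef⟩ : ∃ τ, τ = ψ t := ⟨_, rfl⟩
  have hτ1 : π τ = 1 := by rw [hτdef, hcomp, ht2, map_one]
  have hspan : ∀ x ∈ Submodule.span E {y : M ⊗[k] A | ∃ (d : E) (m : M) (a : A),
      (d • m) ⊗ₜ[k] a - m ⊗ₜ[k] (d • a) = y}, τ * x = 0 := by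
    intro x hmem
    induction hmem using Submodule.span_induction with
    | mem y hy =>
      obtain ⟨d, m, a, rfl⟩ := hy
      have h1 : (d • m) ⊗ₜ[k] a - m ⊗ₜ[k] (d • a)
          = (m ⊗ₜ[k] a) * ψ (d ⊗ₜ[k] (1 : E) - (1 : E) ⊗ₜ[k] d) := by
        rw [map_sub, hψ, hψ, mul_sub, Algebra.TensorProduct.tmul_mul_tmul,
          Algebra.TensorProduct.tmul_mul_tmul, map_one, map_one, mul_one, mul_one,
          Algebra.smul_def d m, Algebra.smul_def d a, mul_comm m, mul_comm a]
      have h2 : (d ⊗ₜ[k] (1 : E) - (1 : E) ⊗ₜ[k] d) * t = 0 := by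
        have := ht1 d
        rw [← neg_sub, neg_mul, this, neg_zero]
      rw [h1, hτdef]
      calc ψ t * ((m ⊗ₜ[k] a) * ψ (d ⊗ₜ[k] (1 : E) - (1 : E) ⊗ₜ[k] d))
          = (m ⊗ₜ[k] a) * ψ ((d ⊗ₜ[k] (1 : E) - (1 : E) ⊗ₜ[k] d) * t) := by
            rw [map_mul]; ring
        _ = 0 := by rw [h2, map_zero, mul_zero]
    | zero => exact mul_zero _
    | add y z _ _ hy hz => rw [mul_add, hy, hz, add_zero]
    | smul e y _ hy => rw [mul_smul_comm, hy, smul_zero]
  exact reg_down (π : M ⊗[k] A →+* M ⊗[E] A) hπs τ hτ1 (fun x hx => hspan x (hπk x hx))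



/-- Given a separable algebraic field extension k'/k and a Noetherian k'-algebra A, geometric regularity
of A over k' is equivalent to geometric regularity of A over k. -/
theorem result (k : Type u) [Field k] (k' : Type u)
    [Field k'] [Algebra k k'] [Algebra.IsSeparable k k'] (A : Type u) [CommRing A] [Algebra k' A]
    [Algebra k A] [IsScalarTower k k' A] [IsNoetherianRing A] :
    CAlg.IsGeometricallyRegular k A ↔ CAlg.IsGeometricallyRegular k' A := by
  constructor
  · intro hk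
    haveI : ∀ i : {E : IntermediateField k k' // FiniteDimensional k E}, FiniteDimensional k i.1 :=
      fun i => i.2
    refine Groth.Agent.S9409.result k'
      (fun i : {E : IntermediateField k k' // FiniteDimensional k E} => ↥i.1) ?_ ?_ A ?_
    · intro i j
      refine ⟨⟨i.1 ⊔ j.1, IntermediateField.finiteDimensional_sup i.1 j.1⟩, ?_, ?_⟩
      · rintro _ ⟨x, rfl⟩
        exact ⟨⟨x.1, (le_sup_left : i.1 ≤ i.1 ⊔ j.1) x.2⟩, rfl⟩
      · rintro _ ⟨x, rfl⟩
        exact ⟨⟨x.1, (le_sup_right : j.1 ≤ i.1 ⊔ j.1) x.2⟩, rfl⟩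
    · intro x
      have hx : IsIntegral k x := Algebra.IsSeparable.isIntegral k x
      exact ⟨⟨IntermediateField.adjoin k {x}, IntermediateField.adjoin.finiteDimensional hx⟩,
        ⟨⟨x, IntermediateField.mem_adjoin_simple_self k x⟩, rfl⟩⟩
    · intro i M _ _ hfin
      haveI : Module.Finite i.1 M := hfin
      letI : Algebra k M := ((algebraMap i.1 M).comp (algebraMap k i.1)).toAlgebra
      haveI : IsScalarTower k i.1 M := IsScalarTower.of_algebraMap_eq (fun _ => rfl)
      haveI : Module.Finite k M := Module.Finite.trans i.1 M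
      haveI : Algebra.IsSeparable k i.1 := Algebra.isSeparable_tower_bot_of_isSeparable k i.1 k'
      haveI : IsRegularRing (M ⊗[k] A) := hk M inferInstance
      exact fin_sep_down k i.1 M A
  · intro hk' L _ _ hfin
    haveI : Module.Finite k L := hfin
    haveI := Algebra.FormallyEtale.of_isSeparable k k'
    haveI : Algebra.IsGeometricallyReduced k k' :=
      Groth.Agent.H27.AdicSmooth.geomReduced_of_formallySmooth
    haveI : Algebra.IsAlgebraic k L := Algebra.IsAlgebraic.of_finite k L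
    haveI hred0 : IsReduced (L ⊗[k] k') := inferInstance
    haveI hred : IsReduced (k' ⊗[k] L) :=
      isReduced_of_injective (Algebra.TensorProduct.comm k k' L).toRingEquiv.toRingHom
        (Algebra.TensorProduct.comm k k' L).injective
    haveI : IsArtinianRing (k' ⊗[k] L) := IsArtinianRing.of_finite k' _
    have hR2 : IsRegularRing (A ⊗[k'] (k' ⊗[k] L)) := by
      haveI : IsNoetherianRing (A ⊗[k'] (k' ⊗[k] L)) := Algebra.FiniteType.isNoetherianRing A _
      rw [isRegularRing_iff]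
      intro q hq
      obtain ⟨incl, hincl, hincl2⟩ : ∃ incl : (k' ⊗[k] L) →+* A ⊗[k'] (k' ⊗[k] L),
          (∀ c, incl c = (1 : A) ⊗ₜ[k'] c) ∧ ∀ I : Ideal (k' ⊗[k] L), I.map incl = I.map
            (Algebra.TensorProduct.includeRight : (k' ⊗[k] L) →ₐ[k'] A ⊗[k'] (k' ⊗[k] L)) :=
        ⟨(Algebra.TensorProduct.includeRight : (k' ⊗[k] L) →ₐ[k'] A ⊗[k'] (k' ⊗[k] L)).toRingHom,
          fun c => rfl, fun I => rfl⟩
      obtain ⟨m, hm⟩ : ∃ m : Ideal (k' ⊗[k] L), m = q.comap incl := ⟨_, rfl⟩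
      haveI hmp : m.IsPrime := hm ▸ Ideal.comap_isPrime incl q
      haveI hmm : m.IsMaximal := IsArtinianRing.isMaximal_of_isPrime m
      obtain ⟨τ₀, hτ₀1, hτ₀2⟩ := art_idem m
      letI : Field ((k' ⊗[k] L) ⧸ m) := Ideal.Quotient.field m
      haveI : IsRegularRing (((k' ⊗[k] L) ⧸ m) ⊗[k'] A) := hk' _ inferInstance
      haveI : IsRegularRing (A ⊗[k'] ((k' ⊗[k] L) ⧸ m)) :=
        IsRegularRing.of_ringEquiv (Algebra.TensorProduct.comm k' _ _).toRingEquiv
      obtain ⟨π, hπs, hker⟩ : ∃ π : A ⊗[k'] (k' ⊗[k] L) →+* A ⊗[k'] ((k' ⊗[k] L) ⧸ m),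
          Function.Surjective π ∧ RingHom.ker π = m.map incl := by
        refine ⟨(Algebra.TensorProduct.map (AlgHom.id k' A) (Ideal.Quotient.mkₐ k' m)).toRingHom,
          Algebra.TensorProduct.map_surjective _ _ Function.surjective_id
            (Ideal.Quotient.mkₐ_surjective k' m), ?_⟩
        have h := Algebra.TensorProduct.lTensor_ker (A := A) (Ideal.Quotient.mkₐ k' m)
          (Ideal.Quotient.mkₐ_surjective k' m)
        have hkm : RingHom.ker (Ideal.Quotient.mkₐ k' m) = m := by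
          ext x
          rw [RingHom.mem_ker, Ideal.Quotient.mkₐ_eq_mk, Ideal.Quotient.eq_zero_iff_mem]
        rw [hkm, ← hincl2] at h
        refine Ideal.ext (fun x => ?_)
        rw [← h]
        exact Iff.rfl
      refine regLocal_up π hπs q ?_ (incl τ₀) ?_ ?_
      · rw [hker, Ideal.map_le_iff_le_comap, hm]
      · intro h
        exact hτ₀1 (hm ▸ h)
      · intro x hx
        have hx' : x ∈ m.map incl := by rw [← hker]; exact hx
        have hle : m.map incl ≤ (Ideal.span {incl τ₀}).annihilator := by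
          rw [Ideal.map_le_iff_le_comap]
          intro y hy
          rw [Ideal.mem_comap, Submodule.mem_annihilator_span_singleton, smul_eq_mul, ← map_mul,
            mul_comm, hτ₀2 y hy, map_zero]
        have h3 := hle hx'
        rw [Submodule.mem_annihilator_span_singleton, smul_eq_mul] at h3
        rw [mul_comm]; exact h3
    haveI := hR2
    exact IsRegularRing.of_ringEquiv
      ((Algebra.TensorProduct.cancelBaseChange k k' k' A L).toRingEquiv.trans
        (Algebra.TensorProduct.comm k A L).toRingEquiv)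

end Groth.Agent.S9410
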