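import Groth.Statements.S2471
import Mathlib
import Groth.Agent.H27.OmegaInj

set_option autoImplicit false
universe u
open EGA41

namespace Groth.Agent.S2471

open IsLocalRing in
/-- Let k be a field and A a Noetherian local k-algebra with maximal ideal 𝔪 and residue field K. Then A
is formally smooth over k for the 𝔪-adic topology if and only if A is regular and the canonical map
Ω_{k/ℤ} ⊗_k K → Ω_{A/ℤ} ⊗_A K is injective. (The published criterion has a first condition that, for
Noetherian A, amounts to regularity of A; it is stated here for Noetherian A only.) -/
theorem result {k A : Type u} [Field k] [CommRing A] [IsLocalRing A] [IsNoetherianRing A] [Algebra k A] :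
    CAlgX.IsAdicFormallySmooth k A (maximalIdeal A) ↔
      (IsRegularLocalRing A ∧ Function.Injective ((KaehlerDifferential.mapBaseChange ℤ k A).lTensor (ResidueField A))) := by
  constructor
  · intro h
    exact ⟨(Groth.Agent.H27.RegSmoothU.main_general h).1,
      Groth.Agent.H27.OmegaInj.inj_of_smooth
        (Groth.Agent.H27.OmegaInj.surj_form (IsLocalRing.maximalIdeal A) h)⟩
  · rintro ⟨hreg, hinj⟩
    exact Groth.Agent.H27.OmegaInj.smooth_of_inj hreg hinj

end Groth.Agent.S2471
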