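import Groth.Statements.S18703
import Mathlib
import Groth.Agent.H29.DepthLib

set_option autoImplicit false
universe u
open QGor

namespace Groth.Agent.S18703


section Aux18703
variable {A : Type u} [CommRing A] [IsNoetherianRing A] {G : Type u} [AddCommGroup G] [Module A G]
  [Module.Finite A G]

noncomputable def Lmap (p : Ideal A) [p.IsPrime] : Module.Dual A G →ₗ[A]
    Module.Dual (Localization.AtPrime p) (LocalizedModule p.primeCompl G) :=
  IsLocalizedModule.mapExtendScalars p.primeCompl (LocalizedModule.mkLinearMap p.primeCompl G)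
    (Algebra.linearMap A (Localization.AtPrime p)) (Localization.AtPrime p)

theorem Lmap_apply (p : Ideal A) [p.IsPrime] (f : Module.Dual A G) (g : G) :
    Lmap p f (LocalizedModule.mkLinearMap p.primeCompl G g) =
      algebraMap A (Localization.AtPrime p) (f g) := by
  unfold Lmap
  rw [IsLocalizedModule.mapExtendScalars_apply_apply, IsLocalizedModule.map_apply]
  rfl

instance Lmap_loc (p : Ideal A) [p.IsPrime] :
    IsLocalizedModule p.primeCompl (Lmap (G := G) p) := by
  unfold Lmap
  haveI : Module.FinitePresentation A G := Module.finitePresentation_of_finite A G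
  infer_instance

theorem loc_inj (p : Ideal A) [p.IsPrime]
    (hr : Module.IsReflexive (Localization.AtPrime p) (LocalizedModule p.primeCompl G))
    (g : G) (hg : Module.Dual.eval A G g = 0) : ∃ s : p.primeCompl, s • g = 0 := by
  haveI := hr
  have hinj := (Module.bijective_dual_eval (Localization.AtPrime p)
    (LocalizedModule p.primeCompl G)).1
  rw [← IsLocalizedModule.eq_zero_iff p.primeCompl (LocalizedModule.mkLinearMap p.primeCompl G)]
  apply hinj
  rw [map_zero]
  refine LinearMap.ext fun F => ?_
  rw [Module.Dual.eval_apply, LinearMap.zero_apply]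
  obtain ⟨⟨f, s⟩, hfs⟩ := IsLocalizedModule.surj p.primeCompl (Lmap (G := G) p) F
  have hfg : f g = 0 := by
    have := LinearMap.congr_fun hg f
    rwa [Module.Dual.eval_apply, LinearMap.zero_apply] at this
  have h1 : (s • F) (LocalizedModule.mkLinearMap p.primeCompl G g) = 0 := by
    rw [hfs, Lmap_apply, hfg, map_zero]
  have h2 : (s : A) • F (LocalizedModule.mkLinearMap p.primeCompl G g) = 0 := h1
  rw [Algebra.smul_def] at h2
  exact ((IsLocalization.map_units (Localization.AtPrime p) s).mul_right_eq_zero).mp h2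

theorem loc_surj (p : Ideal A) [p.IsPrime]
    (hr : Module.IsReflexive (Localization.AtPrime p) (LocalizedModule p.primeCompl G))
    (ψ : Module.Dual A (Module.Dual A G)) :
    ∃ (s : p.primeCompl) (g : G), (s : A) • ψ = Module.Dual.eval A G g := by
  haveI := hr
  have hunits : ∀ s : p.primeCompl,
      IsUnit (algebraMap A (Module.End A (Localization.AtPrime p)) s) :=
    IsLocalizedModule.map_units (Algebra.linearMap A (Localization.AtPrime p))
  let Ψ₀ : Module.Dual (Localization.AtPrime p) (LocalizedModule p.primeCompl G) →ₗ[A]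
      Localization.AtPrime p :=
    IsLocalizedModule.lift p.primeCompl (Lmap (G := G) p)
      ((Algebra.linearMap A (Localization.AtPrime p)).comp ψ) hunits
  have hΨ₀ : ∀ f, Ψ₀ (Lmap p f) = algebraMap A (Localization.AtPrime p) (ψ f) := fun f =>
    IsLocalizedModule.lift_apply p.primeCompl (Lmap (G := G) p) _ hunits f
  let Ψ : Module.Dual (Localization.AtPrime p)
      (Module.Dual (Localization.AtPrime p) (LocalizedModule p.primeCompl G)) :=
    LinearMap.extendScalarsOfIsLocalization p.primeCompl (Localization.AtPrime p) Ψ₀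
  obtain ⟨γ, hγ⟩ := (Module.bijective_dual_eval (Localization.AtPrime p)
    (LocalizedModule p.primeCompl G)).2 Ψ
  obtain ⟨⟨g, s⟩, hgs⟩ := IsLocalizedModule.surj p.primeCompl
    (LocalizedModule.mkLinearMap p.primeCompl G) γ
  have hgs' : (s : A) • γ = LocalizedModule.mkLinearMap p.primeCompl G g := hgs
  have key : (Algebra.linearMap A (Localization.AtPrime p)).comp (Module.Dual.eval A G g) =
      (Algebra.linearMap A (Localization.AtPrime p)).comp ((s : A) • ψ) := by
    refine LinearMap.ext fun f => ?_
    rw [LinearMap.comp_apply, LinearMap.comp_apply, Module.Dual.eval_apply, LinearMap.smul_apply,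
      Algebra.linearMap_apply, Algebra.linearMap_apply]
    rw [← Lmap_apply p f g, ← hgs']
    have h1 : Lmap p f γ = algebraMap A (Localization.AtPrime p) (ψ f) := by
      have := LinearMap.congr_fun hγ (Lmap p f)
      rw [Module.Dual.eval_apply] at this
      rw [this]
      exact hΨ₀ f
    rw [← algebraMap_smul (Localization.AtPrime p) (s : A) γ, map_smul, h1, smul_eq_mul,
      smul_eq_mul, map_mul]
  haveI : Module.Finite A (Module.Dual A G) := Module.IsNoetherian.finite A (G →ₗ[A] A)
  obtain ⟨t, ht⟩ := Module.Finite.exists_smul_of_comp_eq_of_isLocalizedModule p.primeCompl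
    (Algebra.linearMap A (Localization.AtPrime p)) _ _ key
  have ht' : (t : A) • Module.Dual.eval A G g = (t : A) • ((s : A) • ψ) := ht
  refine ⟨t * s, (t : A) • g, ?_⟩
  rw [map_smul, Submonoid.coe_mul, mul_smul]
  exact ht'.symm

open scoped Pointwise in
theorem main18703 (I : Ideal A) (hA : 1 ≤ LocCoh.idealDepth I A)
    (hU : ∀ p : PrimeSpectrum A, ¬ I ≤ p.asIdeal →
      Module.IsReflexive (Localization.AtPrime p.asIdeal) (LocalizedModule p.asIdeal.primeCompl G))
    (hG : 2 ≤ LocCoh.idealDepth I G) : Module.IsReflexive A G := by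
  have M1 : ∀ g : G, Module.Dual.eval A G g = 0 → ∀ x ∈ I, ∃ n : ℕ, x ^ n • g = 0 := by
    intro g hg x hx
    have hxr : x ∈ (Ideal.torsionOf A G g).radical := by
      rw [Ideal.radical_eq_sInf, Ideal.mem_sInf]
      rintro P ⟨hP, hPp⟩
      by_contra hxP
      haveI := hPp
      have hr := hU ⟨P, hPp⟩ (fun hIP => hxP (hIP hx))
      obtain ⟨s, hs⟩ := loc_inj P hr g hg
      exact s.2 (hP ((Ideal.mem_torsionOf_iff _ _).mpr hs))
    obtain ⟨n, hn⟩ := hxr
    exact ⟨n, (Ideal.mem_torsionOf_iff _ _).mp hn⟩
  have M2 : ∀ ψ : Module.Dual A (Module.Dual A G), ∃ N : ℕ, ∀ b ∈ I ^ N,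
      b • ψ ∈ LinearMap.range (Module.Dual.eval A G) := by
    intro ψ
    let J : Ideal A := Submodule.comap (LinearMap.toSpanSingleton A _ ψ)
      (LinearMap.range (Module.Dual.eval A G))
    have hJ : ∀ r, r ∈ J ↔ r • ψ ∈ LinearMap.range (Module.Dual.eval A G) := fun r => by
      rw [Submodule.mem_comap, LinearMap.toSpanSingleton_apply]
    have hIJ : I ≤ J.radical := by
      intro x hx
      rw [Ideal.radical_eq_sInf, Ideal.mem_sInf]
      rintro P ⟨hP, hPp⟩
      by_contra hxP
      haveI := hPp
      have hr := hU ⟨P, hPp⟩ (fun hIP => hxP (hIP hx))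
      obtain ⟨s, g, hs⟩ := loc_surj P hr ψ
      exact s.2 (hP ((hJ _).mpr ⟨g, hs.symm⟩))
    obtain ⟨N, hN⟩ := Ideal.exists_pow_le_of_le_radical_of_fg_radical hIJ
      (IsNoetherian.noetherian _)
    exact ⟨N, fun b hb => (hJ b).mp (hN hb)⟩
  have hinj : Function.Injective (Module.Dual.eval A G) := by
    rw [← LinearMap.ker_eq_bot, LinearMap.ker_eq_bot']
    intro g hg
    by_cases hIG : I • (⊤ : Submodule A G) = ⊤
    · obtain ⟨c, hc, hcg⟩ := Submodule.exists_mem_and_smul_eq_self_of_fg_of_le_smul I
        (⊤ : Submodule A G) Module.Finite.fg_top (le_of_eq hIG.symm)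
      obtain ⟨n, hn⟩ := M1 g hg c hc
      have hcg' : ∀ k : ℕ, c ^ k • g = g := by
        intro k
        induction k with
        | zero => simp
        | succ k ih => rw [pow_succ, mul_smul, hcg g Submodule.mem_top, ih]
      rw [← hcg' n, hn]
    · obtain ⟨rs, hlen, hreg, hmem⟩ :=
        (Groth.Agent.H29.le_idealDepth_iff I G hIG 2).mp (by exact_mod_cast hG)
      obtain ⟨x, y, rfl⟩ := List.length_eq_two.mp hlen
      rw [RingTheory.Sequence.isWeaklyRegular_cons_iff] at hreg
      obtain ⟨n, hn⟩ := M1 g hg x (hmem x (by simp))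
      exact (hreg.1.pow n).right_eq_zero_of_smul hn
  have hB : ∀ ψ : Module.Dual A (Module.Dual A G),
      (∀ b ∈ I, b • ψ ∈ LinearMap.range (Module.Dual.eval A G)) →
      ψ ∈ LinearMap.range (Module.Dual.eval A G) := by
    intro ψ hψ
    by_cases hIG : I • (⊤ : Submodule A G) = ⊤
    · obtain ⟨c, hc, hcg⟩ := Submodule.exists_mem_and_smul_eq_self_of_fg_of_le_smul I
        (⊤ : Submodule A G) Module.Finite.fg_top (le_of_eq hIG.symm)
      have hcψ : c • ψ = ψ := by
        refine LinearMap.ext fun f => ?_
        rw [LinearMap.smul_apply, ← map_smul]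
        congr 1
        refine LinearMap.ext fun g => ?_
        rw [LinearMap.smul_apply, ← map_smul, hcg g Submodule.mem_top]
      rw [← hcψ]
      exact hψ c hc
    · obtain ⟨rs, hlen, hreg, hmem⟩ :=
        (Groth.Agent.H29.le_idealDepth_iff I G hIG 2).mp (by exact_mod_cast hG)
      obtain ⟨x, y, rfl⟩ := List.length_eq_two.mp hlen
      rw [RingTheory.Sequence.isWeaklyRegular_cons_iff,
        RingTheory.Sequence.isWeaklyRegular_cons_iff] at hreg
      obtain ⟨hxreg, hyreg, -⟩ := hreg
      have hxI : x ∈ I := hmem x (by simp)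
      have hyI : y ∈ I := hmem y (by simp)
      obtain ⟨a, haI, hareg⟩ : ∃ a ∈ I, IsSMulRegular A a := by
        by_cases hIA : I • (⊤ : Submodule A A) = ⊤
        · refine ⟨1, ?_, IsSMulRegular.one A⟩
          have hI : I = ⊤ := by
            rw [← hIA, smul_eq_mul, Ideal.mul_top]
          rw [hI]
          trivial
        · obtain ⟨rs, hlen, hreg, hmem⟩ :=
            (Groth.Agent.H29.le_idealDepth_iff I A hIA 1).mp (by exact_mod_cast hA)
          obtain ⟨a, rfl⟩ := List.length_eq_one_iff.mp hlen
          rw [RingTheory.Sequence.isWeaklyRegular_cons_iff] at hreg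
          exact ⟨a, hmem a (by simp), hreg.1⟩
      obtain ⟨g₁, hg₁⟩ := hψ x hxI
      obtain ⟨g₂, hg₂⟩ := hψ y hyI
      have h1 : y • g₁ = x • g₂ := by
        apply hinj
        rw [map_smul, map_smul, hg₁, hg₂, smul_comm]
      have h2 : g₁ ∈ x • (⊤ : Submodule A G) := by
        have h3 : y • (Submodule.Quotient.mk g₁ : QuotSMulTop x G) = 0 := by
          rw [← Submodule.Quotient.mk_smul, h1, Submodule.Quotient.mk_eq_zero]
          exact Submodule.smul_mem_pointwise_smul g₂ x ⊤ Submodule.mem_top
        have h4 := hyreg.right_eq_zero_of_smul h3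
        rwa [Submodule.Quotient.mk_eq_zero] at h4
      obtain ⟨g', -, hg'⟩ := (Submodule.mem_smul_pointwise_iff_exists _ _ _).mp h2
      refine ⟨g', ?_⟩
      have hxθ : x • (ψ - Module.Dual.eval A G g') = 0 := by
        rw [smul_sub, ← map_smul, hg', hg₁, sub_self]
      obtain ⟨g₄, hg₄⟩ := hψ a haI
      have haθ : a • (ψ - Module.Dual.eval A G g') = Module.Dual.eval A G (g₄ - a • g') := by
        rw [smul_sub, map_sub, map_smul, hg₄]
      have h5 : g₄ - a • g' = 0 := by
        apply hxreg.right_eq_zero_of_smul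
        apply hinj
        rw [map_smul, ← haθ, smul_comm, hxθ, smul_zero, map_zero]
      rw [h5, map_zero] at haθ
      have hθ : ψ - Module.Dual.eval A G g' = 0 := by
        refine LinearMap.ext fun f => ?_
        have := LinearMap.congr_fun haθ f
        rw [LinearMap.smul_apply, LinearMap.zero_apply] at this
        rw [LinearMap.zero_apply]
        exact hareg.right_eq_zero_of_smul this
      exact (sub_eq_zero.mp hθ).symm
  have hsurj : Function.Surjective (Module.Dual.eval A G) := by
    intro ψ
    obtain ⟨N, hN⟩ := M2 ψ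
    suffices h : ∀ (N : ℕ) (ψ : Module.Dual A (Module.Dual A G)),
        (∀ b ∈ I ^ N, b • ψ ∈ LinearMap.range (Module.Dual.eval A G)) →
        ψ ∈ LinearMap.range (Module.Dual.eval A G) from h N ψ hN
    intro N
    induction N with
    | zero =>
      intro ψ h
      have := h 1 (by simp)
      rwa [one_smul] at this
    | succ N ih =>
      intro ψ h
      apply ih
      intro b hb
      apply hB
      intro c hc
      rw [← mul_smul]
      apply h
      rw [pow_succ']
      exact Ideal.mul_mem_mul hc hb
  exact ⟨⟨hinj, hsurj⟩⟩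

end Aux18703


/-- Affine form. Let A be a Noetherian ring and I an ideal with depth_I A ≥ 1. Let G be a finite
A-module such that G_p is a reflexive A_p-module for every prime p not containing I (G is reflexive
off V(I)). If depth_I G ≥ 2, then G is reflexive. -/
theorem result (A : Type u) [CommRing A] [IsNoetherianRing A] (I : Ideal A)
    (hA : 1 ≤ LocCoh.idealDepth I A)
    (G : Type u) [AddCommGroup G] [Module A G] [Module.Finite A G]
    (hU : ∀ p : PrimeSpectrum A, ¬ I ≤ p.asIdeal →
      Module.IsReflexive (Localization.AtPrime p.asIdeal) (LocalizedModule p.asIdeal.primeCompl G))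
    (hG : 2 ≤ LocCoh.idealDepth I G) : Module.IsReflexive A G := by
  exact main18703 I hA hU hG

end Groth.Agent.S18703
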