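import Groth.Statements.S9315
import Mathlib

set_option autoImplicit false
universe u
open CAlg

namespace Groth.Agent.S9315

lemma exists_fibre {R S A : Type u} [CommRing R] [CommRing S] [CommRing A] [Algebra R S]
    [Algebra R A] (J : Ideal A) (hJ : J ^ 2 = ⊥) (I : Ideal S) (ψb : S ⧸ I →ₐ[R] A ⧸ J) :
    ∃ (A' : Type u) (_ : CommRing A') (_ : Algebra R A') (p₁ : A' →ₐ[R] A)
      (p₂ : A' →ₐ[R] S ⧸ I),
      Function.Surjective p₂ ∧ (∀ x, Ideal.Quotient.mk J (p₁ x) = ψb (p₂ x)) ∧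
      (∀ x y, p₂ x = 0 → p₂ y = 0 → x * y = 0) := by
  let f₁ : (A × (S ⧸ I)) →ₐ[R] A ⧸ J :=
    (Ideal.Quotient.mkₐ R J).comp (AlgHom.fst R A (S ⧸ I))
  let f₂ : (A × (S ⧸ I)) →ₐ[R] A ⧸ J := ψb.comp (AlgHom.snd R A (S ⧸ I))
  refine ⟨↥(AlgHom.equalizer f₁ f₂), inferInstance, inferInstance,
    (AlgHom.fst R A (S ⧸ I)).comp (Subalgebra.val _),
    (AlgHom.snd R A (S ⧸ I)).comp (Subalgebra.val _), ?_, ?_, ?_⟩
  · intro t
    obtain ⟨a, ha⟩ := Ideal.Quotient.mk_surjective (ψb t)
    exact ⟨⟨(a, t), ha⟩, rfl⟩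
  · intro x
    exact x.2
  · intro x y hx hy
    have hx2 : x.1.2 = 0 := hx
    have hy2 : y.1.2 = 0 := hy
    have hx1 : x.1.1 ∈ J := by
      rw [← Ideal.Quotient.eq_zero_iff_mem]
      have h : Ideal.Quotient.mk J x.1.1 = ψb x.1.2 := x.2
      rw [h, hx2, map_zero]
    have hy1 : y.1.1 ∈ J := by
      rw [← Ideal.Quotient.eq_zero_iff_mem]
      have h : Ideal.Quotient.mk J y.1.1 = ψb y.1.2 := y.2
      rw [h, hy2, map_zero]
    have hxy : x.1.1 * y.1.1 = 0 := by
      have h : x.1.1 * y.1.1 ∈ J ^ 2 := by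
        rw [pow_two]
        exact Ideal.mul_mem_mul hx1 hy1
      rw [hJ] at h
      exact h
    apply Subtype.ext
    apply Prod.ext
    · show x.1.1 * y.1.1 = 0
      exact hxy
    · show x.1.2 * y.1.2 = 0
      rw [hx2, zero_mul]


open IsLocalRing in
/-- Let `R → S` be a local homomorphism of local rings (no Noetherian hypothesis). Then `R → S` is
formally smooth for the adic topology of the maximal ideal of `S` if and only if the following
lifting property holds: for every local ring `A` with a local structure map `R → A`, every ideal `J`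
of `A` of square zero such that some power of the maximal ideal of `A` is zero, and every local
`R`-algebra homomorphism `ψ : S → A/J` inducing a bijection on residue fields, there is an
`R`-algebra homomorphism `S → A` lifting `ψ`. -/
theorem result {R S : Type u} [CommRing R] [CommRing S]
    [IsLocalRing R] [IsLocalRing S] [Algebra R S] [IsLocalHom (algebraMap R S)] :
    CAlgX.IsAdicFormallySmooth R S (maximalIdeal S) ↔
      ∀ (A : Type u) [CommRing A] [IsLocalRing A] [Algebra R A] [IsLocalHom (algebraMap R A)]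
        (J : Ideal A), J ^ 2 = ⊥ → (∃ n : ℕ, maximalIdeal A ^ n = ⊥) →
        ∀ [IsLocalRing (A ⧸ J)] (ψ : S →ₐ[R] A ⧸ J) [IsLocalHom ψ.toRingHom],
          Function.Bijective (ResidueField.map ψ.toRingHom) →
          ∃ χ : S →ₐ[R] A, (Ideal.Quotient.mkₐ R J).comp χ = ψ := by
  constructor
  · intro h A _ _ _ _ J hJ ⟨n, hn⟩ _ ψ _ _
    refine h A J hJ ψ ⟨n, fun x hx => ?_⟩
    have h1 : maximalIdeal (A ⧸ J) ≤ (maximalIdeal A).map (Ideal.Quotient.mk J) := by
      intro y hy
      obtain ⟨a, rfl⟩ := Ideal.Quotient.mk_surjective y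
      refine Ideal.mem_map_of_mem _ ?_
      rw [mem_maximalIdeal, mem_nonunits_iff]
      intro ha
      exact (mem_nonunits_iff.mp ((mem_maximalIdeal _).mp hy)) (ha.map _)
    have h2 : (maximalIdeal (A ⧸ J)) ^ n = ⊥ := by
      apply le_bot_iff.mp
      calc (maximalIdeal (A ⧸ J)) ^ n
          ≤ ((maximalIdeal A).map (Ideal.Quotient.mk J)) ^ n := Ideal.pow_right_mono h1 n
        _ = ((maximalIdeal A) ^ n).map (Ideal.Quotient.mk J) := (Ideal.map_pow _ _ _).symm
        _ = ⊥ := by rw [hn, Ideal.map_bot]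
    have h3 : ψ x ∈ (maximalIdeal (A ⧸ J)) ^ n := by
      have h5 : (maximalIdeal S).map ψ.toRingHom ≤ maximalIdeal (A ⧸ J) := by
        rw [Ideal.map_le_iff_le_comap]
        intro s hs
        rw [Ideal.mem_comap, mem_maximalIdeal, mem_nonunits_iff]
        intro hu
        exact (mem_nonunits_iff.mp ((mem_maximalIdeal _).mp hs))
          (isUnit_of_map_unit ψ.toRingHom s hu)
      have h4 : (maximalIdeal S ^ n).map ψ.toRingHom ≤ (maximalIdeal (A ⧸ J)) ^ n := by
        rw [Ideal.map_pow]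
        exact Ideal.pow_right_mono h5 n
      exact h4 (Ideal.mem_map_of_mem ψ.toRingHom hx)
    rw [h2] at h3
    exact h3
  · intro hLP A _ _ J hJ ψ ⟨k, hk⟩
    obtain ⟨I, hIdef⟩ : ∃ I : Ideal S, I = maximalIdeal S ^ (k + 1) := ⟨_, rfl⟩
    have hIle : I ≤ maximalIdeal S := by
      rw [hIdef]
      exact Ideal.pow_le_self (Nat.succ_ne_zero k)
    have hIk : ∀ x ∈ I, ψ x = 0 := fun x hx => hk x (by
      rw [hIdef] at hx
      exact Ideal.pow_le_pow_right (Nat.le_succ k) hx)
    obtain ⟨ψb, hψb⟩ : ∃ ψb : S ⧸ I →ₐ[R] A ⧸ J, ∀ s, ψb (Ideal.Quotient.mk I s) = ψ s :=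
      ⟨Ideal.Quotient.liftₐ I ψ hIk, fun s => rfl⟩
    obtain ⟨A', instA', algA', p₁, p₂, hp₂, hcomp, hsq⟩ := exists_fibre J hJ I ψb
    have hmkI : ∀ s : S, IsUnit (Ideal.Quotient.mk I s) → IsUnit s := by
      intro s hs
      by_contra hns
      have hsm : s ∈ maximalIdeal S := (mem_maximalIdeal s).mpr (mem_nonunits_iff.mpr hns)
      obtain ⟨t', ht'⟩ := isUnit_iff_exists_inv.mp hs
      obtain ⟨t, rfl⟩ := Ideal.Quotient.mk_surjective t'
      rw [← map_mul, ← map_one (Ideal.Quotient.mk I), Ideal.Quotient.eq] at ht'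
      have h1 : s * t - 1 ∈ maximalIdeal S := hIle ht'
      have h2 : s * t ∈ maximalIdeal S := Ideal.mul_mem_right _ _ hsm
      have h3 : (1 : S) ∈ maximalIdeal S := by
        have := Ideal.sub_mem _ h2 h1
        simpa using this
      exact (Ideal.ne_top_iff_one _).mp (maximalIdeal.isMaximal S).ne_top h3
    have hIne : I ≠ ⊤ := fun h =>
      (maximalIdeal.isMaximal S).ne_top (top_le_iff.mp (h ▸ hIle))
    haveI : Nontrivial (S ⧸ I) := Ideal.Quotient.nontrivial_iff.mpr hIne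
    haveI : IsLocalRing (S ⧸ I) :=
      IsLocalRing.of_surjective' (Ideal.Quotient.mk I) Ideal.Quotient.mk_surjective
    have hmSk : maximalIdeal (S ⧸ I) ^ (k + 1) = ⊥ := by
      have h1 : maximalIdeal (S ⧸ I) ≤ (maximalIdeal S).map (Ideal.Quotient.mk I) := by
        intro y hy
        obtain ⟨a, rfl⟩ := Ideal.Quotient.mk_surjective y
        refine Ideal.mem_map_of_mem _ ?_
        rw [mem_maximalIdeal, mem_nonunits_iff]
        intro ha
        exact (mem_nonunits_iff.mp ((mem_maximalIdeal _).mp hy)) (ha.map _)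
      apply le_bot_iff.mp
      calc maximalIdeal (S ⧸ I) ^ (k + 1)
          ≤ ((maximalIdeal S).map (Ideal.Quotient.mk I)) ^ (k + 1) := Ideal.pow_right_mono h1 _
        _ = ((maximalIdeal S) ^ (k + 1)).map (Ideal.Quotient.mk I) := (Ideal.map_pow _ _ _).symm
        _ = ⊥ := by rw [← hIdef, Ideal.map_quotient_self]
    have hunit : ∀ x : A', IsUnit (p₂ x) → IsUnit x := by
      intro x hx
      obtain ⟨t', ht'⟩ := isUnit_iff_exists_inv.mp hx
      obtain ⟨y, rfl⟩ := hp₂ t'
      have h0 : p₂ (x * y - 1) = 0 := by rw [map_sub, map_mul, map_one, ht', sub_self]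
      have hjj : (x * y - 1) * (x * y - 1) = 0 := hsq _ _ h0 h0
      refine isUnit_iff_exists_inv.mpr ⟨y * (1 - (x * y - 1)), ?_⟩
      have h1 : x * (y * (1 - (x * y - 1))) = 1 - (x * y - 1) * (x * y - 1) := by ring
      rw [h1, hjj, sub_zero]
    haveI : Nontrivial A' := p₂.toRingHom.domain_nontrivial
    haveI : IsLocalRing A' := IsLocalRing.of_isUnit_or_isUnit_one_sub_self (fun a => by
      rcases IsLocalRing.isUnit_or_isUnit_one_sub_self (p₂ a) with h | h
      · exact Or.inl (hunit a h)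
      · refine Or.inr (hunit (1 - a) ?_)
        rwa [map_sub, map_one])
    have hJ'sq : (RingHom.ker p₂) ^ 2 = ⊥ := by
      rw [pow_two]
      apply le_bot_iff.mp
      rw [Ideal.mul_le]
      intro x hx y hy
      rw [Ideal.mem_bot]
      exact hsq x y ((RingHom.mem_ker).mp hx) ((RingHom.mem_ker).mp hy)
    have hmA' : ∀ x ∈ maximalIdeal A', p₂ x ∈ maximalIdeal (S ⧸ I) := by
      intro x hx
      rw [mem_maximalIdeal, mem_nonunits_iff]
      intro hu
      exact (mem_nonunits_iff.mp ((mem_maximalIdeal _).mp hx)) (hunit x hu)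
    have hmA'pow : maximalIdeal A' ^ (k + 1) ≤ RingHom.ker p₂ := by
      have h1 : (maximalIdeal A').map p₂.toRingHom ≤ maximalIdeal (S ⧸ I) := by
        rw [Ideal.map_le_iff_le_comap]
        intro x hx
        exact hmA' x hx
      have h2 : (maximalIdeal A' ^ (k + 1)).map p₂.toRingHom ≤ ⊥ := by
        rw [Ideal.map_pow, ← hmSk]
        exact Ideal.pow_right_mono h1 _
      intro x hx
      rw [RingHom.mem_ker]
      have h3 := h2 (Ideal.mem_map_of_mem p₂.toRingHom hx)
      exact (Ideal.mem_bot.mp h3)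
    have hnil : maximalIdeal A' ^ (2 * (k + 1)) = ⊥ := by
      apply le_bot_iff.mp
      rw [mul_comm, pow_mul, ← hJ'sq]
      exact Ideal.pow_right_mono hmA'pow 2
    haveI : IsLocalHom (algebraMap R A') := ⟨fun r hr => by
      have h1 : IsUnit (p₂ (algebraMap R A' r)) := hr.map p₂
      rw [AlgHom.commutes] at h1
      have h2 : algebraMap R (S ⧸ I) r = Ideal.Quotient.mk I (algebraMap R S r) := rfl
      rw [h2] at h1
      exact isUnit_of_map_unit (algebraMap R S) r (hmkI _ h1)⟩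
    have hker_ne : RingHom.ker p₂ ≠ ⊤ := by
      intro h
      have h1 : (1 : A') ∈ RingHom.ker p₂ := h ▸ Submodule.mem_top
      rw [RingHom.mem_ker, map_one] at h1
      exact one_ne_zero h1
    haveI : Nontrivial (A' ⧸ RingHom.ker p₂) := Ideal.Quotient.nontrivial_iff.mpr hker_ne
    haveI : IsLocalRing (A' ⧸ RingHom.ker p₂) :=
      IsLocalRing.of_surjective' (Ideal.Quotient.mk _) Ideal.Quotient.mk_surjective
    obtain ⟨e, he⟩ : ∃ e : (A' ⧸ RingHom.ker p₂) ≃ₐ[R] S ⧸ I,
        ∀ x, e (Ideal.Quotient.mk _ x) = p₂ x :=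
      ⟨Ideal.quotientKerAlgEquivOfSurjective hp₂, fun x => rfl⟩
    obtain ⟨ψ', hψ'⟩ : ∃ ψ' : S →ₐ[R] A' ⧸ RingHom.ker p₂,
        ∀ s, e (ψ' s) = Ideal.Quotient.mk I s :=
      ⟨e.symm.toAlgHom.comp (Ideal.Quotient.mkₐ R I), fun s => by simp⟩
    haveI : IsLocalHom ψ'.toRingHom := ⟨fun s hs => by
      have h1 : IsUnit (e (ψ' s)) := hs.map e
      rw [hψ'] at h1
      exact hmkI s h1⟩
    have hbij : Function.Bijective (ResidueField.map ψ'.toRingHom) := by
      refine ⟨(ResidueField.map ψ'.toRingHom).injective, ?_⟩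
      intro y
      obtain ⟨z, rfl⟩ := residue_surjective y
      obtain ⟨s, hs⟩ : ∃ s, ψ' s = z := by
        obtain ⟨s, hs⟩ := Ideal.Quotient.mk_surjective (e z)
        exact ⟨s, e.injective (by rw [hψ', hs])⟩
      exact ⟨residue S s, by rw [ResidueField.map_residue]; exact congrArg _ hs⟩
    obtain ⟨χ', hχ'⟩ := hLP A' (RingHom.ker p₂) hJ'sq ⟨_, hnil⟩ ψ' hbij
    refine ⟨p₁.comp χ', AlgHom.ext fun s => ?_⟩
    have h1 : Ideal.Quotient.mk (RingHom.ker p₂) (χ' s) = ψ' s := DFunLike.congr_fun hχ' s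
    have h2 : p₂ (χ' s) = Ideal.Quotient.mk I s := by rw [← he, h1, hψ']
    show Ideal.Quotient.mk J (p₁ (χ' s)) = ψ s
    rw [hcomp, h2, hψb]

end Groth.Agent.S9315
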