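import Groth.Statements.S6409
import Groth.Agent.H13.TwoYoneda
import Groth.Agent.H13.FibGrpd

set_option autoImplicit false
open CategoryTheory
universe v u
open FibCat

namespace Groth.Agent.S6409

/-- For `𝒳` fibred in groupoids over `C`, evaluation at `𝟙_U` is an equivalence of categories from the
category of functors `C/U ⟶ 𝒳` over `C` to the fibre category `𝒳_U`. -/
theorem result {C : Type u} [Category.{v} C] {𝒳 : BasedCategory.{v, max u v} C} (h𝒳 : FibCat.IsFibGrpd 𝒳.p) (U : C) :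
    (FibCat.evalAtId 𝒳 U).IsEquivalence := by
  have ht : Limits.IsTerminal (Over.mk (𝟙 U) : (FibCat.overCat U).obj) := Over.mkIdTerminal
  have hcart : ∀ {a b : (FibCat.overCat U).obj} (g : a ⟶ b),
      (FibCat.overCat U).p.IsStronglyCartesian ((FibCat.overCat U).p.map g) g :=
    fun g => Groth.Agent.H13.TwoYoneda.over_isStronglyCartesian U g
  haveI : 𝒳.p.IsFibered := Groth.Agent.H13.FibGrpd.isFibered h𝒳
  have hall : ∀ H : FibCat.overCat U ⥤ᵇ 𝒳, FibCat.PreservesStronglyCartesian H := by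
    intro H R S f a b φ hφ
    haveI : 𝒳.p.IsHomLift f (H.map φ) := inferInstance
    exact Groth.Agent.H13.FibGrpd.isStronglyCartesian' h𝒳 f (H.map φ)
  refine { faithful := ⟨?_⟩, full := ⟨?_⟩, essSurj := ⟨?_⟩ }
  · intro X Y α β h
    apply Groth.Agent.H13.TwoYoneda.nat_ext ht hcart (hall Y)
    exact congrArg Subtype.val h
  · intro X Y ψ
    refine ⟨Groth.Agent.H13.TwoYoneda.liftNat ht hcart (hall Y) ψ.1 (hφ := ψ.2), ?_⟩
    apply Functor.Fiber.hom_ext
    exact Groth.Agent.H13.TwoYoneda.liftNat_app ht hcart (hall Y) ψ.1 (hφ := ψ.2)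
  · intro x
    have hx : 𝒳.p.obj x.1 = (FibCat.overCat U).p.obj (Over.mk (𝟙 U) : (FibCat.overCat U).obj) := x.2
    refine ⟨Groth.Agent.H13.TwoYoneda.pbFunctor ht x.1 hx, ⟨?_⟩⟩
    exact Groth.Agent.H13.TwoYoneda.pbIso ht x.1 hx

end Groth.Agent.S6409
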