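import Groth.Statements.S12796
import Groth.Agent.Lib.Helper22.RepDiag

set_option autoImplicit false
open CategoryTheory
universe w v u
open Stk


set_option backward.isDefEq.respectTransparency false
set_option backward.isDefEq.respectTransparency.types false

namespace Groth.Agent.S12796aux

open CategoryTheory Opposite Stk
open Groth.Agent.Helper22.RepDiag

universe v₂ u₂

section elt
variable {C : Type u} [Category.{v} C] {P : Cᵒᵖ ⥤ Type w}

lemma elt_eq_of_lift {x y : EltObj P} (m : x ⟶ y) {V U : C} (f : V ⟶ U)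
    (h : (Stk.ofPsh P).p.IsHomLift f m) (t : P.obj (op U)) (hy : y = ⟨U, t⟩) :
    x = ⟨V, P.map f.op t⟩ := by
  subst hy
  obtain ⟨xb, xs⟩ := x
  haveI := h
  have h1 : xb = V := IsHomLift.domain_eq (Stk.ofPsh P).p f m
  subst h1
  have h2 : f = m.hom :=
    @IsHomLift.eq_of_isHomLift _ _ _ _ (Stk.ofPsh P).p (⟨xb, xs⟩ : EltObj P) (⟨U, t⟩ : EltObj P)
      f m h
  have h3 : P.map m.hom.op t = xs := m.map_sec
  have h4 : xs = P.map f.op t := by rw [h2]; exact h3.symm
  rw [h4]

lemma elt_eq_of_lift_id {x y : EltObj P} (m : x ⟶ y) {T : C}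
    (h : (Stk.ofPsh P).p.IsHomLift (𝟙 T) m) : x = y := by
  obtain ⟨yb, ys⟩ := y
  haveI := h
  have h1 : yb = T := IsHomLift.codomain_eq (Stk.ofPsh P).p (𝟙 T) m
  subst h1
  have h2 := elt_eq_of_lift m (𝟙 yb) h ys rfl
  rw [h2]
  simp

lemma sec_eq {V : C} {t t' : P.obj (op V)} (h : (⟨V, t⟩ : EltObj P) = ⟨V, t'⟩) : t = t' := by
  simpa using h

lemma hom_thin {x y : EltObj P} {V U : C} (f : V ⟶ U) (m m' : x ⟶ y)
    (h : (Stk.ofPsh P).p.IsHomLift f m) (h' : (Stk.ofPsh P).p.IsHomLift f m') : m = m' := by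
  apply EltObj.hom_ext
  haveI := h
  haveI := h'
  exact (IsHomLift.fac' (Stk.ofPsh P).p f m).trans (IsHomLift.fac' (Stk.ofPsh P).p f m').symm

lemma exists_sec_of_base {U : C} (e : EltObj P) (h : e.base = U) :
    ∃ es : P.obj (op U), e = ⟨U, es⟩ := by
  obtain ⟨eb, es⟩ := e
  subst h
  exact ⟨es, rfl⟩

lemma fam_congr {U : C} {R : Sieve U} (x : Presieve.FamilyOfElements P R.arrows) {V : C}
    {f f' : V ⟶ U} (h : f = f') (hf : R f) (hf' : R f') : x f hf = x f' hf' := by
  subst h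
  rfl

section nat
variable {𝒜 : BasedCategory.{v₂, u₂} C}

lemma nat_thin {G G' : 𝒜 ⥤ᵇ Stk.ofPsh P} (α β : G ⟶ G') : α = β := by
  apply BasedNatTrans.homCategory.ext
  apply NatTrans.ext
  funext a
  exact hom_thin (𝟙 (𝒜.p.obj a)) _ _ (α.isHomLift' a) (β.isHomLift' a)

def natOfEq (G G' : 𝒜 ⥤ᵇ Stk.ofPsh P) (h : ∀ a, G.obj a = G'.obj a) : BasedNatTrans G G' where
  app a := eqToHom (h a)
  naturality a b k := by
    apply hom_thin (𝒜.p.map k)
    · have h2 : (Stk.ofPsh P).p.IsHomLift (𝟙 (𝒜.p.obj b)) (eqToHom (h b)) :=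
        IsHomLift.eqToHom_domain_lift_id (h b) (G.w_obj b)
      have h1 : (Stk.ofPsh P).p.IsHomLift (𝒜.p.map k) (G.map k) :=
        BasedFunctor.preserves_isHomLift G (𝒜.p.map k) k
      exact @IsHomLift.comp_lift_id_right _ _ _ _ (Stk.ofPsh P).p _ _ _ _ _ (𝒜.p.map k)
        (G.map k) h1 (eqToHom (h b)) h2
    · have h2 : (Stk.ofPsh P).p.IsHomLift (𝟙 (𝒜.p.obj a)) (eqToHom (h a)) :=
        IsHomLift.eqToHom_domain_lift_id (h a) (G.w_obj a)
      have h1 : (Stk.ofPsh P).p.IsHomLift (𝒜.p.map k) (G'.map k) :=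
        BasedFunctor.preserves_isHomLift G' (𝒜.p.map k) k
      exact @IsHomLift.comp_lift_id_left _ _ _ _ (Stk.ofPsh P).p _ _ _ _ _ (𝒜.p.map k)
        (G'.map k) h1 (eqToHom (h a)) h2
  isHomLift' a := IsHomLift.eqToHom_domain_lift_id (h a) (G.w_obj a)

def natIsoOfEq (G G' : 𝒜 ⥤ᵇ Stk.ofPsh P) (h : ∀ a, G.obj a = G'.obj a) : G ≅ G' where
  hom := natOfEq G G' h
  inv := natOfEq G' G (fun a => (h a).symm)
  hom_inv_id := nat_thin _ _
  inv_hom_id := nat_thin _ _

end nat

lemma sieve_map_lift {U : C} {R : Sieve U} {𝒳 : BasedCategory.{v₂, u₂} C}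
    (H : Stk.sieveCat R ⥤ᵇ 𝒳) {a b : (Stk.sieveCat R).obj} (k : a ⟶ b) :
    𝒳.p.IsHomLift k.hom.left (H.map k) := by
  have h0 : 𝒳.p.IsHomLift ((Stk.sieveCat R).p.map k) (H.map k) := inferInstance
  exact h0

lemma exists_sec {U : C} (G : FibCat.overCat U ⥤ᵇ Stk.ofPsh P) :
    ∃ s : P.obj (op U), ∀ a : Over U, G.obj a = ⟨a.left, P.map a.hom.op s⟩ := by
  obtain ⟨es, he⟩ := exists_sec_of_base (G.obj (Over.mk (𝟙 U))) (G.w_obj (Over.mk (𝟙 U)))
  refine ⟨es, fun a => ?_⟩
  let m : a ⟶ Over.mk (𝟙 U) := Over.homMk a.hom (by simp)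
  exact elt_eq_of_lift (G.map m) a.hom (over_map_lift G m) es he

lemma exists_family {U : C} {R : Sieve U} (H : Stk.sieveCat R ⥤ᵇ Stk.ofPsh P) :
    ∃ x : Presieve.FamilyOfElements P R.arrows, x.Compatible ∧
      ∀ a : (Stk.sieveCat R).obj, H.obj a = ⟨a.obj.left, x a.obj.hom a.property⟩ := by
  have h0 : ∀ a : (Stk.sieveCat R).obj, ∃ t : P.obj (op a.obj.left), H.obj a = ⟨a.obj.left, t⟩ :=
    fun a => exists_sec_of_base (H.obj a) (H.w_obj a)
  choose t ht using h0
  let x : Presieve.FamilyOfElements P R.arrows := fun V f hf => t ⟨Over.mk f, hf⟩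
  refine ⟨x, ?_, ?_⟩
  · rw [Presieve.compatible_iff_sieveCompatible]
    intro V W f g hf
    let b : (Stk.sieveCat R).obj := ⟨Over.mk f, hf⟩
    let a : (Stk.sieveCat R).obj := ⟨Over.mk (g ≫ f), R.downward_closed hf g⟩
    let k : a ⟶ b := ObjectProperty.homMk (Over.homMk g rfl)
    have h1 := elt_eq_of_lift (H.map k) g (sieve_map_lift H k) (t b) (ht b)
    have h2 := (ht a).symm.trans h1
    exact sec_eq h2
  · intro a
    exact ht a

def ofSec {U : C} (s : P.obj (op U)) : FibCat.overCat U ⥤ᵇ Stk.ofPsh P where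
  toFunctor :=
    { obj := fun a => ⟨a.left, P.map a.hom.op s⟩
      map := fun {a b} k => ⟨k.left, by
        show P.map k.left.op (P.map b.hom.op s) = P.map a.hom.op s
        rw [← Over.w k, op_comp, Functor.map_comp_apply]⟩
      map_id := fun a => EltObj.hom_ext rfl
      map_comp := fun k l => EltObj.hom_ext rfl }
  w := rfl

def ofFamily {U : C} {R : Sieve U} (x : Presieve.FamilyOfElements P R.arrows)
    (hx : x.SieveCompatible) : Stk.sieveCat R ⥤ᵇ Stk.ofPsh P where
  toFunctor :=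
    { obj := fun a => ⟨a.obj.left, x a.obj.hom a.property⟩
      map := fun {a b} k => ⟨k.hom.left, by
        show P.map k.hom.left.op (x b.obj.hom b.property) = x a.obj.hom a.property
        rw [← hx b.obj.hom k.hom.left b.property]
        exact fam_congr x (Over.w k.hom) _ _⟩
      map_id := fun a => EltObj.hom_ext rfl
      map_comp := fun k l => EltObj.hom_ext rfl }
  w := rfl

theorem isStackFor_of_sheafFor {U : C} (R : Sieve U) (hP : Presieve.IsSheafFor P R.arrows) :
    Stk.IsStackFor R (Stk.ofPsh P) := by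
  have hfa : (Stk.resSieve R (Stk.ofPsh P)).Faithful := by
    refine ⟨?_⟩
    intro G G' α β _
    exact nat_thin α β
  have hfu : (Stk.resSieve R (Stk.ofPsh P)).Full := by
    refine ⟨?_⟩
    intro G G' α
    obtain ⟨s, hs⟩ := exists_sec G
    obtain ⟨s', hs'⟩ := exists_sec G'
    have hss : s = s' := by
      apply hP.isSeparatedFor.ext
      intro V f hf
      let a : (Stk.sieveCat R).obj := ⟨Over.mk f, hf⟩
      have h1 : G.obj (Over.mk f) = G'.obj (Over.mk f) :=
        elt_eq_of_lift_id (α.toNatTrans.app a) (α.isHomLift' a)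
      rw [hs, hs'] at h1
      exact sec_eq h1
    subst hss
    have hobj : ∀ a, G.obj a = G'.obj a := fun a => (hs a).trans (hs' a).symm
    exact ⟨natOfEq G G' hobj, nat_thin _ _⟩
  have hes : (Stk.resSieve R (Stk.ofPsh P)).EssSurj := by
    refine ⟨fun H => ?_⟩
    obtain ⟨x, hx, hH⟩ := exists_family H
    obtain ⟨s, hs, -⟩ := hP x hx
    refine ⟨ofSec s, ⟨natIsoOfEq _ _ ?_⟩⟩
    intro a
    rw [hH a]
    show (⟨a.obj.left, P.map a.obj.hom.op s⟩ : EltObj P) = _
    rw [hs a.obj.hom a.property]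
  exact { faithful := hfa, full := hfu, essSurj := hes }

theorem sheafFor_of_isStackFor {U : C} (R : Sieve U) (h : Stk.IsStackFor R (Stk.ofPsh P)) :
    Presieve.IsSheafFor P R.arrows := by
  haveI : (Stk.resSieve R (Stk.ofPsh P)).IsEquivalence := h
  intro x hx
  have hx' : x.SieveCompatible := (Presieve.compatible_iff_sieveCompatible x).1 hx
  let G := (Stk.resSieve R (Stk.ofPsh P)).objPreimage (ofFamily x hx')
  let e : (Stk.resSieve R (Stk.ofPsh P)).obj G ≅ ofFamily x hx' :=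
    (Stk.resSieve R (Stk.ofPsh P)).objObjPreimageIso (ofFamily x hx')
  obtain ⟨s, hs⟩ := exists_sec G
  have hG : ∀ a : (Stk.sieveCat R).obj, G.obj a.obj = (ofFamily x hx').obj a := fun a =>
    elt_eq_of_lift_id (e.hom.toNatTrans.app a) (e.hom.isHomLift' a)
  refine ⟨s, ?_, ?_⟩
  · intro V f hf
    let a : (Stk.sieveCat R).obj := ⟨Over.mk f, hf⟩
    have h1 : G.obj (Over.mk f) = (ofFamily x hx').obj a := hG a
    rw [hs] at h1
    exact sec_eq h1
  · intro s' hs'
    have hobj : ∀ a : (Stk.sieveCat R).obj,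
        ((Stk.resSieve R (Stk.ofPsh P)).obj (ofSec s')).obj a =
          ((Stk.resSieve R (Stk.ofPsh P)).obj G).obj a := by
      intro a
      show (⟨a.obj.left, P.map a.obj.hom.op s'⟩ : EltObj P) = G.obj a.obj
      rw [hG a, hs' a.obj.hom a.property]
      rfl
    obtain ⟨β, -⟩ := (Stk.resSieve R (Stk.ofPsh P)).map_surjective (natOfEq _ _ hobj)
    have h2 : (ofSec s').obj (Over.mk (𝟙 U)) = G.obj (Over.mk (𝟙 U)) :=
      elt_eq_of_lift_id (β.toNatTrans.app (Over.mk (𝟙 U))) (β.isHomLift' (Over.mk (𝟙 U)))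
    rw [hs] at h2
    have h3 : P.map (𝟙 U).op s' = P.map (𝟙 U).op s := sec_eq h2
    simpa using h3

theorem main (J : GrothendieckTopology C) (P : Cᵒᵖ ⥤ Type w) :
    Stk.IsStack J (Stk.ofPsh P) ↔ Presieve.IsSheaf J P := by
  constructor
  · rintro ⟨-, h⟩ U R hR
    exact sheafFor_of_isStackFor R (h R hR)
  · intro h
    exact ⟨Stk.isFibGrpd_ofPsh P, fun U R hR => isStackFor_of_sheafFor R (h R hR)⟩

end elt

end Groth.Agent.S12796aux

namespace Groth.Agent.S12796

/-- For a presheaf of sets `P` on `C`, the category over `C` attached to `P` (which is fibred in sets)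
is a stack in groupoids for the topology `J` if and only if `P` is a sheaf for `J`: under the
correspondence between presheaves and categories fibred in sets, sheaves correspond to stacks. -/
theorem result {C : Type u} [Category.{v} C] (J : GrothendieckTopology C) (P : Cᵒᵖ ⥤ Type w) :
    Stk.IsStack J (Stk.ofPsh P) ↔ Presieve.IsSheaf J P := by
  exact Groth.Agent.S12796aux.main J P

end Groth.Agent.S12796
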