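import Groth.Statements.S5142
import Groth.Agent.Lib.Helper22.RepDiag

set_option autoImplicit false
open CategoryTheory
universe u v u₂ v₂
open FibCat


set_option backward.isDefEq.respectTransparency false
set_option backward.isDefEq.respectTransparency.types false

namespace Groth.Agent.S5142aux

open CategoryTheory CategoryTheory.Limits FibCat
open Groth.Agent.Helper22.RepDiag

universe u₃ v₃ u₄ v₄

section gen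
variable {𝒮 : Type u₄} {𝒵 : Type u₃} [Category.{v₄} 𝒮] [Category.{v₃} 𝒵] (p : 𝒵 ⥤ 𝒮)

lemma cart_iff_map {R S : 𝒮} {a b : 𝒵} (f : R ⟶ S) (φ : a ⟶ b) (h : p.IsHomLift f φ) :
    p.IsCartesian f φ ↔ p.IsCartesian (p.map φ) φ := by
  haveI := h
  subst_hom_lift p f φ
  exact Iff.rfl

end gen

section self
variable {C : Type u} [Category.{v} C]

lemma lift_of_isEq {a b : C} {ψ : a ⟶ b} (h : IsEq ψ) :
    (FibCat.selfOver C).p.IsHomLift (𝟙 a) ψ := by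
  obtain ⟨h, rfl⟩ := h
  exact IsHomLift.eqToHom_domain_lift_id (p := (FibCat.selfOver C).p) h rfl

lemma self_lift_ext {a b R S : C} (f : R ⟶ S) (φ ψ : a ⟶ b)
    (h₁ : (FibCat.selfOver C).p.IsHomLift f φ) (h₂ : (FibCat.selfOver C).p.IsHomLift f ψ) :
    φ = ψ := by
  haveI := h₁
  haveI := h₂
  exact (IsHomLift.fac' (FibCat.selfOver C).p f φ).trans
    (IsHomLift.fac' (FibCat.selfOver C).p f ψ).symm

end self

section main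
variable {C : Type u} [Category.{v} C] {𝒳 : BasedCategory.{v₂, u₂} C}
  {𝒴 : BasedCategory.{v₃, u₃} C}

theorem cart_of_components {x y : (FibCat.fp (FibCat.toSelf 𝒳) (FibCat.toSelf 𝒴)).obj} (φ : x ⟶ y)
    (h₁ : 𝒳.p.IsCartesian (𝒳.p.map φ.hom.fst) φ.hom.fst)
    (h₂ : 𝒴.p.IsCartesian (𝒴.p.map φ.hom.snd) φ.hom.snd) :
    (FibCat.fp (FibCat.toSelf 𝒳) (FibCat.toSelf 𝒴)).p.IsCartesian
      ((FibCat.fp (FibCat.toSelf 𝒳) (FibCat.toSelf 𝒴)).p.map φ) φ := by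
  have hA : 𝒴.p.IsHomLift (𝒳.p.map φ.hom.fst) φ.hom.snd :=
    FibCat.fp_isHomLift_snd (FibCat.toSelf 𝒳) (FibCat.toSelf 𝒴) φ
  haveI h₂' : 𝒴.p.IsCartesian (𝒳.p.map φ.hom.fst) φ.hom.snd :=
    (cart_iff_map 𝒴.p _ _ hA).2 h₂
  haveI := h₁
  refine { toIsHomLift := inferInstance, universal_property := ?_ }
  intro z φ' hφ'
  haveI hφ'₁ : 𝒳.p.IsHomLift (𝒳.p.map φ.hom.fst) φ'.hom.fst :=
    (Groth.Agent.H13.fp_isHomLift_iff _ _ φ' _).1 hφ'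
  haveI hφ'₂ : 𝒴.p.IsHomLift (𝒳.p.map φ.hom.fst) φ'.hom.snd :=
    fp_lift_snd _ _ φ' _ hφ'
  let χ₁ : z.obj.fst ⟶ x.obj.fst :=
    Functor.IsCartesian.map 𝒳.p (𝒳.p.map φ.hom.fst) φ.hom.fst φ'.hom.fst
  let χ₂ : z.obj.snd ⟶ x.obj.snd :=
    Functor.IsCartesian.map 𝒴.p (𝒳.p.map φ.hom.fst) φ.hom.snd φ'.hom.snd
  have hχ₁ : 𝒳.p.IsHomLift (𝟙 (𝒳.p.obj x.obj.fst)) χ₁ := inferInstance
  have hχ₂ : 𝒴.p.IsHomLift (𝟙 (𝒳.p.obj x.obj.fst)) χ₂ := inferInstance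
  have hw : (FibCat.toSelf 𝒳).map χ₁ ≫ x.obj.iso.hom =
      z.obj.iso.hom ≫ (FibCat.toSelf 𝒴).map χ₂ := by
    apply IsEq.ext
    · exact IsEq.comp (isEq_map χ₁ hχ₁) (isEq_of_lift x.property)
    · exact IsEq.comp (isEq_of_lift z.property) (isEq_map χ₂ hχ₂)
  let χ : z ⟶ x := ObjectProperty.homMk ⟨χ₁, χ₂, hw⟩
  refine ⟨χ, ⟨?_, ?_⟩, ?_⟩
  · exact (Groth.Agent.H13.fp_isHomLift_iff _ _ χ _).2 hχ₁
  · apply ObjectProperty.hom_ext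
    apply CategoryTheory.Limits.CategoricalPullback.hom_ext
    · exact Functor.IsCartesian.fac 𝒳.p (𝒳.p.map φ.hom.fst) φ.hom.fst φ'.hom.fst
    · exact Functor.IsCartesian.fac 𝒴.p (𝒳.p.map φ.hom.fst) φ.hom.snd φ'.hom.snd
  · rintro ψ ⟨hψ, hψφ⟩
    haveI hψ₁ : 𝒳.p.IsHomLift (𝟙 (𝒳.p.obj x.obj.fst)) ψ.hom.fst :=
      (Groth.Agent.H13.fp_isHomLift_iff _ _ ψ _).1 hψ
    haveI hψ₂ : 𝒴.p.IsHomLift (𝟙 (𝒳.p.obj x.obj.fst)) ψ.hom.snd :=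
      fp_lift_snd _ _ ψ _ hψ
    have e₁ : ψ.hom.fst ≫ φ.hom.fst = φ'.hom.fst :=
      congrArg (fun m : z ⟶ y => m.hom.fst) hψφ
    have e₂ : ψ.hom.snd ≫ φ.hom.snd = φ'.hom.snd :=
      congrArg (fun m : z ⟶ y => m.hom.snd) hψφ
    apply ObjectProperty.hom_ext
    apply CategoryTheory.Limits.CategoricalPullback.hom_ext
    · exact Functor.IsCartesian.map_uniq 𝒳.p (𝒳.p.map φ.hom.fst) φ.hom.fst φ'.hom.fst ψ.hom.fst e₁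
    · exact Functor.IsCartesian.map_uniq 𝒴.p (𝒳.p.map φ.hom.fst) φ.hom.snd φ'.hom.snd ψ.hom.snd e₂

theorem fst_cart {x y : (FibCat.fp (FibCat.toSelf 𝒳) (FibCat.toSelf 𝒴)).obj} (φ : x ⟶ y)
    (h : (FibCat.fp (FibCat.toSelf 𝒳) (FibCat.toSelf 𝒴)).p.IsCartesian
      ((FibCat.fp (FibCat.toSelf 𝒳) (FibCat.toSelf 𝒴)).p.map φ) φ) :
    𝒳.p.IsCartesian (𝒳.p.map φ.hom.fst) φ.hom.fst := by
  haveI := h
  have hA : 𝒴.p.IsHomLift (𝒳.p.map φ.hom.fst) φ.hom.snd :=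
    FibCat.fp_isHomLift_snd (FibCat.toSelf 𝒳) (FibCat.toSelf 𝒴) φ
  refine { toIsHomLift := inferInstance, universal_property := ?_ }
  intro a' φ'₁ hφ'₁
  have hx : 𝒳.p.obj a' = 𝒳.p.obj x.obj.fst :=
    IsHomLift.domain_eq 𝒳.p (𝒳.p.map φ.hom.fst) φ'₁
  have hx₂ : 𝒴.p.obj x.obj.snd = 𝒳.p.obj x.obj.fst :=
    Groth.Agent.H13.fp_obj_snd_proj _ _ x
  let ι : (FibCat.toSelf 𝒳).obj a' ≅ (FibCat.toSelf 𝒴).obj x.obj.snd :=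
    eqToIso (hx.trans hx₂.symm)
  have hι : (FibCat.selfOver C).p.IsHomLift (𝟙 (𝒳.p.obj a')) ι.hom :=
    lift_of_isEq ⟨hx.trans hx₂.symm, rfl⟩
  let z : (FibCat.fp (FibCat.toSelf 𝒳) (FibCat.toSelf 𝒴)).obj := ⟨⟨a', x.obj.snd, ι⟩, hι⟩
  have hw : (FibCat.toSelf 𝒳).map φ'₁ ≫ y.obj.iso.hom =
      ι.hom ≫ (FibCat.toSelf 𝒴).map φ.hom.snd := by
    haveI := hA
    haveI hy : (FibCat.selfOver C).p.IsHomLift (𝟙 (𝒳.p.obj y.obj.fst)) y.obj.iso.hom := y.property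
    haveI := hι
    haveI l1 : (FibCat.selfOver C).p.IsHomLift (𝒳.p.map φ.hom.fst)
        ((FibCat.toSelf 𝒳).map φ'₁) := inferInstance
    haveI l2 : (FibCat.selfOver C).p.IsHomLift (𝒳.p.map φ.hom.fst)
        ((FibCat.toSelf 𝒴).map φ.hom.snd) := inferInstance
    apply self_lift_ext (𝒳.p.map φ.hom.fst)
    · exact IsHomLift.comp_lift_id_right' (FibCat.selfOver C).p (𝒳.p.map φ.hom.fst)
        ((FibCat.toSelf 𝒳).map φ'₁) (𝒳.p.obj y.obj.fst) y.obj.iso.hom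
    · exact IsHomLift.comp_lift_id_left' (FibCat.selfOver C).p (𝒳.p.obj a') ι.hom
        (𝒳.p.map φ.hom.fst) ((FibCat.toSelf 𝒴).map φ.hom.snd)
  let φ' : z ⟶ y := ObjectProperty.homMk ⟨φ'₁, φ.hom.snd, hw⟩
  haveI hφ' : (FibCat.fp (FibCat.toSelf 𝒳) (FibCat.toSelf 𝒴)).p.IsHomLift
      ((FibCat.fp (FibCat.toSelf 𝒳) (FibCat.toSelf 𝒴)).p.map φ) φ' :=
    (Groth.Agent.H13.fp_isHomLift_iff _ _ φ' _).2 hφ'₁
  let χ : z ⟶ x := Functor.IsCartesian.map (FibCat.fp (FibCat.toSelf 𝒳) (FibCat.toSelf 𝒴)).p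
    ((FibCat.fp (FibCat.toSelf 𝒳) (FibCat.toSelf 𝒴)).p.map φ) φ φ'
  have hχ : (FibCat.fp (FibCat.toSelf 𝒳) (FibCat.toSelf 𝒴)).p.IsHomLift
      (𝟙 (𝒳.p.obj x.obj.fst)) χ :=
    Functor.IsCartesian.map_isHomLift (FibCat.fp (FibCat.toSelf 𝒳) (FibCat.toSelf 𝒴)).p
      ((FibCat.fp (FibCat.toSelf 𝒳) (FibCat.toSelf 𝒴)).p.map φ) φ φ'
  have hfac : χ ≫ φ = φ' :=
    Functor.IsCartesian.fac (FibCat.fp (FibCat.toSelf 𝒳) (FibCat.toSelf 𝒴)).p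
      ((FibCat.fp (FibCat.toSelf 𝒳) (FibCat.toSelf 𝒴)).p.map φ) φ φ'
  refine ⟨χ.hom.fst, ⟨(Groth.Agent.H13.fp_isHomLift_iff _ _ χ _).1 hχ,
    congrArg (fun m : z ⟶ y => m.hom.fst) hfac⟩, ?_⟩
  rintro ψ₁ ⟨hψ₁, hψ₁φ⟩
  have hwψ : (FibCat.toSelf 𝒳).map ψ₁ ≫ x.obj.iso.hom =
      ι.hom ≫ (FibCat.toSelf 𝒴).map (𝟙 x.obj.snd) := by
    apply IsEq.ext
    · exact IsEq.comp (isEq_map ψ₁ hψ₁) (isEq_of_lift x.property)
    · exact IsEq.comp (isEq_of_lift hι) ⟨rfl, (FibCat.toSelf 𝒴).toFunctor.map_id _⟩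
  let ψ : z ⟶ x := ObjectProperty.homMk ⟨ψ₁, 𝟙 x.obj.snd, hwψ⟩
  haveI hψ : (FibCat.fp (FibCat.toSelf 𝒳) (FibCat.toSelf 𝒴)).p.IsHomLift
      (𝟙 ((FibCat.fp (FibCat.toSelf 𝒳) (FibCat.toSelf 𝒴)).p.obj x)) ψ :=
    (Groth.Agent.H13.fp_isHomLift_iff _ _ ψ _).2 hψ₁
  have hψφ : ψ ≫ φ = φ' := by
    apply ObjectProperty.hom_ext
    apply CategoryTheory.Limits.CategoricalPullback.hom_ext
    · exact hψ₁φ
    · exact Category.id_comp _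
  have hψχ : ψ = χ :=
    Functor.IsCartesian.map_uniq (FibCat.fp (FibCat.toSelf 𝒳) (FibCat.toSelf 𝒴)).p
      ((FibCat.fp (FibCat.toSelf 𝒳) (FibCat.toSelf 𝒴)).p.map φ) φ φ' ψ hψφ
  exact congrArg (fun m : z ⟶ x => m.hom.fst) hψχ

theorem snd_cart {x y : (FibCat.fp (FibCat.toSelf 𝒳) (FibCat.toSelf 𝒴)).obj} (φ : x ⟶ y)
    (h : (FibCat.fp (FibCat.toSelf 𝒳) (FibCat.toSelf 𝒴)).p.IsCartesian
      ((FibCat.fp (FibCat.toSelf 𝒳) (FibCat.toSelf 𝒴)).p.map φ) φ) :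
    𝒴.p.IsCartesian (𝒴.p.map φ.hom.snd) φ.hom.snd := by
  haveI := h
  have hA : 𝒴.p.IsHomLift (𝒳.p.map φ.hom.fst) φ.hom.snd :=
    FibCat.fp_isHomLift_snd (FibCat.toSelf 𝒳) (FibCat.toSelf 𝒴) φ
  refine (cart_iff_map 𝒴.p (𝒳.p.map φ.hom.fst) φ.hom.snd hA).1 ?_
  refine { toIsHomLift := hA, universal_property := ?_ }
  intro b' φ'₂ hφ'₂
  have hx : 𝒴.p.obj b' = 𝒳.p.obj x.obj.fst :=
    IsHomLift.domain_eq 𝒴.p (𝒳.p.map φ.hom.fst) φ'₂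
  let ι : (FibCat.toSelf 𝒳).obj x.obj.fst ≅ (FibCat.toSelf 𝒴).obj b' := eqToIso hx.symm
  have hι : (FibCat.selfOver C).p.IsHomLift (𝟙 (𝒳.p.obj x.obj.fst)) ι.hom :=
    lift_of_isEq ⟨hx.symm, rfl⟩
  let z : (FibCat.fp (FibCat.toSelf 𝒳) (FibCat.toSelf 𝒴)).obj := ⟨⟨x.obj.fst, b', ι⟩, hι⟩
  have hw : (FibCat.toSelf 𝒳).map φ.hom.fst ≫ y.obj.iso.hom =
      ι.hom ≫ (FibCat.toSelf 𝒴).map φ'₂ := by
    haveI hy : (FibCat.selfOver C).p.IsHomLift (𝟙 (𝒳.p.obj y.obj.fst)) y.obj.iso.hom := y.property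
    haveI := hι
    haveI l1 : (FibCat.selfOver C).p.IsHomLift (𝒳.p.map φ.hom.fst)
        ((FibCat.toSelf 𝒳).map φ.hom.fst) := inferInstance
    haveI l2 : (FibCat.selfOver C).p.IsHomLift (𝒳.p.map φ.hom.fst)
        ((FibCat.toSelf 𝒴).map φ'₂) := inferInstance
    apply self_lift_ext (𝒳.p.map φ.hom.fst)
    · exact IsHomLift.comp_lift_id_right' (FibCat.selfOver C).p (𝒳.p.map φ.hom.fst)
        ((FibCat.toSelf 𝒳).map φ.hom.fst) (𝒳.p.obj y.obj.fst) y.obj.iso.hom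
    · exact IsHomLift.comp_lift_id_left' (FibCat.selfOver C).p (𝒳.p.obj x.obj.fst) ι.hom
        (𝒳.p.map φ.hom.fst) ((FibCat.toSelf 𝒴).map φ'₂)
  let φ' : z ⟶ y := ObjectProperty.homMk ⟨φ.hom.fst, φ'₂, hw⟩
  haveI hφ' : (FibCat.fp (FibCat.toSelf 𝒳) (FibCat.toSelf 𝒴)).p.IsHomLift
      ((FibCat.fp (FibCat.toSelf 𝒳) (FibCat.toSelf 𝒴)).p.map φ) φ' :=
    (Groth.Agent.H13.fp_isHomLift_iff _ _ φ' _).2
      (inferInstance : 𝒳.p.IsHomLift (𝒳.p.map φ.hom.fst) φ.hom.fst)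
  let χ : z ⟶ x := Functor.IsCartesian.map (FibCat.fp (FibCat.toSelf 𝒳) (FibCat.toSelf 𝒴)).p
    ((FibCat.fp (FibCat.toSelf 𝒳) (FibCat.toSelf 𝒴)).p.map φ) φ φ'
  have hχ : (FibCat.fp (FibCat.toSelf 𝒳) (FibCat.toSelf 𝒴)).p.IsHomLift
      (𝟙 (𝒳.p.obj x.obj.fst)) χ :=
    Functor.IsCartesian.map_isHomLift (FibCat.fp (FibCat.toSelf 𝒳) (FibCat.toSelf 𝒴)).p
      ((FibCat.fp (FibCat.toSelf 𝒳) (FibCat.toSelf 𝒴)).p.map φ) φ φ'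
  have hfac : χ ≫ φ = φ' :=
    Functor.IsCartesian.fac (FibCat.fp (FibCat.toSelf 𝒳) (FibCat.toSelf 𝒴)).p
      ((FibCat.fp (FibCat.toSelf 𝒳) (FibCat.toSelf 𝒴)).p.map φ) φ φ'
  refine ⟨χ.hom.snd, ⟨fp_lift_snd _ _ χ _ hχ,
    congrArg (fun m : z ⟶ y => m.hom.snd) hfac⟩, ?_⟩
  rintro ψ₂ ⟨hψ₂, hψ₂φ⟩
  have hwψ : (FibCat.toSelf 𝒳).map (𝟙 x.obj.fst) ≫ x.obj.iso.hom =
      ι.hom ≫ (FibCat.toSelf 𝒴).map ψ₂ := by
    apply IsEq.ext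
    · exact IsEq.comp ⟨rfl, (FibCat.toSelf 𝒳).toFunctor.map_id _⟩ (isEq_of_lift x.property)
    · exact IsEq.comp (isEq_of_lift hι) (isEq_map ψ₂ hψ₂)
  let ψ : z ⟶ x := ObjectProperty.homMk ⟨𝟙 x.obj.fst, ψ₂, hwψ⟩
  haveI hψ : (FibCat.fp (FibCat.toSelf 𝒳) (FibCat.toSelf 𝒴)).p.IsHomLift
      (𝟙 ((FibCat.fp (FibCat.toSelf 𝒳) (FibCat.toSelf 𝒴)).p.obj x)) ψ :=
    (Groth.Agent.H13.fp_isHomLift_iff _ _ ψ _).2
      (inferInstance : 𝒳.p.IsHomLift (𝟙 (𝒳.p.obj x.obj.fst)) (𝟙 x.obj.fst))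
  have hψφ : ψ ≫ φ = φ' := by
    apply ObjectProperty.hom_ext
    apply CategoryTheory.Limits.CategoricalPullback.hom_ext
    · exact Category.id_comp _
    · exact hψ₂φ
  have hψχ : ψ = χ :=
    Functor.IsCartesian.map_uniq (FibCat.fp (FibCat.toSelf 𝒳) (FibCat.toSelf 𝒴)).p
      ((FibCat.fp (FibCat.toSelf 𝒳) (FibCat.toSelf 𝒴)).p.map φ) φ φ' ψ hψφ
  exact congrArg (fun m : z ⟶ x => m.hom.snd) hψχ

theorem main {x y : (FibCat.fp (FibCat.toSelf 𝒳) (FibCat.toSelf 𝒴)).obj} (φ : x ⟶ y) :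
    (FibCat.fp (FibCat.toSelf 𝒳) (FibCat.toSelf 𝒴)).p.IsCartesian
        ((FibCat.fp (FibCat.toSelf 𝒳) (FibCat.toSelf 𝒴)).p.map φ) φ ↔
      𝒳.p.IsCartesian (𝒳.p.map φ.hom.fst) φ.hom.fst ∧
        𝒴.p.IsCartesian (𝒴.p.map φ.hom.snd) φ.hom.snd :=
  ⟨fun h => ⟨fst_cart φ h, snd_cart φ h⟩, fun h => cart_of_components φ h.1 h.2⟩

/-- version over an arbitrary base morphism. -/
theorem main' {x y : (FibCat.fp (FibCat.toSelf 𝒳) (FibCat.toSelf 𝒴)).obj} (φ : x ⟶ y)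
    {R S : C} (f : R ⟶ S)
    (hf : (FibCat.fp (FibCat.toSelf 𝒳) (FibCat.toSelf 𝒴)).p.IsHomLift f φ) :
    (FibCat.fp (FibCat.toSelf 𝒳) (FibCat.toSelf 𝒴)).p.IsCartesian f φ ↔
      𝒳.p.IsCartesian f φ.hom.fst ∧ 𝒴.p.IsCartesian f φ.hom.snd := by
  have h1 : 𝒳.p.IsHomLift f φ.hom.fst := (Groth.Agent.H13.fp_isHomLift_iff _ _ φ _).1 hf
  have h2 : 𝒴.p.IsHomLift f φ.hom.snd := fp_lift_snd _ _ φ _ hf
  rw [cart_iff_map _ f φ hf, cart_iff_map _ f _ h1, cart_iff_map _ f _ h2]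
  exact main φ

end main

end Groth.Agent.S5142aux

namespace Groth.Agent.S5142

/-- A morphism of the fibre product 𝒳 ×_C 𝒴 of two categories over C is cartesian if and only if its two
components are cartesian (each over its image in C). The fibre product is taken as the 2-fibre
product over C of the two structure functors, whose objects are pairs over one object of C together
with an isomorphism of C lying over an identity. -/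
theorem result {C : Type u} [Category.{v} C] {𝒳 𝒴 : BasedCategory.{v₂, u₂} C}
    {x y : (FibCat.fp (FibCat.toSelf 𝒳) (FibCat.toSelf 𝒴)).obj} (φ : x ⟶ y) :
    (FibCat.fp (FibCat.toSelf 𝒳) (FibCat.toSelf 𝒴)).p.IsCartesian
        ((FibCat.fp (FibCat.toSelf 𝒳) (FibCat.toSelf 𝒴)).p.map φ) φ ↔
      𝒳.p.IsCartesian (𝒳.p.map φ.hom.fst) φ.hom.fst ∧ 𝒴.p.IsCartesian (𝒴.p.map φ.hom.snd) φ.hom.snd := by
  exact Groth.Agent.S5142aux.main φ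

end Groth.Agent.S5142
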