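import Groth.Statements.S12790
import Groth.Agent.Lib.Helper22.FpEquiv
import Groth.Agent.S5142

set_option autoImplicit false
open CategoryTheory CategoryTheory.Limits
universe v u
open FibCat


set_option backward.isDefEq.respectTransparency false
set_option backward.isDefEq.respectTransparency.types false

namespace Groth.Agent.S12790aux

open CategoryTheory CategoryTheory.Limits FibCat
open Groth.Agent.Helper22 Groth.Agent.Helper22.EquivComp Groth.Agent.Helper22.RepDiag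
open Groth.Agent.S5142aux

section iso2
variable {C : Type u} [Category.{v} C] {𝒮₁ 𝒮₂ : BasedCategory.{v, max u v} C}

/-- isomorphisms of `𝒮₁ ×_C 𝒮₂` from pairs of isomorphisms lying over identities. -/
def isoP2 (X Y : (FibCat.fp (FibCat.toSelf 𝒮₁) (FibCat.toSelf 𝒮₂)).obj)
    (e₁ : X.obj.fst ≅ Y.obj.fst) (e₂ : X.obj.snd ≅ Y.obj.snd) {T T' : C}
    (h₁ : 𝒮₁.p.IsHomLift (𝟙 T) e₁.hom) (h₂ : 𝒮₂.p.IsHomLift (𝟙 T') e₂.hom) : X ≅ Y :=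
  ObjectProperty.isoMk _ (CategoricalPullback.mkIso e₁ e₂ (by
    apply IsEq.ext
    · exact IsEq.comp (isEq_map e₁.hom h₁) (isEq_of_lift Y.property)
    · exact IsEq.comp (isEq_of_lift X.property) (isEq_map e₂.hom h₂)))

end iso2

section main
variable {C : Type u} [Category.{v} C] {𝒳₁ 𝒳₂ 𝒴₁ 𝒴₂ : BasedCategory.{v, max u v} C}
  (f₁ : 𝒳₁ ⥤ᵇ 𝒴₁) (f₂ : 𝒳₂ ⥤ᵇ 𝒴₂)
  (e : BasedFunctor.comp (BasedFunctor.comp (FibCat.fpFst (FibCat.toSelf 𝒳₁) (FibCat.toSelf 𝒳₂)) f₁)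
      (FibCat.toSelf 𝒴₁) ≅
    BasedFunctor.comp (BasedFunctor.comp (FibCat.fpSnd (FibCat.toSelf 𝒳₁) (FibCat.toSelf 𝒳₂)) f₂)
      (FibCat.toSelf 𝒴₂))
  {U : C} (y : FibCat.overCat U ⥤ᵇ FibCat.fp (FibCat.toSelf 𝒴₁) (FibCat.toSelf 𝒴₂))

/-- the product functor. -/
abbrev PP : FibCat.fp (FibCat.toSelf 𝒳₁) (FibCat.toSelf 𝒳₂) ⥤ᵇ
    FibCat.fp (FibCat.toSelf 𝒴₁) (FibCat.toSelf 𝒴₂) :=
  FibCat.fpLift (BasedFunctor.comp (FibCat.fpFst (FibCat.toSelf 𝒳₁) (FibCat.toSelf 𝒳₂)) f₁)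
    (BasedFunctor.comp (FibCat.fpSnd (FibCat.toSelf 𝒳₁) (FibCat.toSelf 𝒳₂)) f₂) e

abbrev y₁ : FibCat.overCat U ⥤ᵇ 𝒴₁ :=
  BasedFunctor.comp y (FibCat.fpFst (FibCat.toSelf 𝒴₁) (FibCat.toSelf 𝒴₂))

abbrev y₂ : FibCat.overCat U ⥤ᵇ 𝒴₂ :=
  BasedFunctor.comp y (FibCat.fpSnd (FibCat.toSelf 𝒴₁) (FibCat.toSelf 𝒴₂))

abbrev Y₂ : FibCat.fp (y₁ y) f₁ ⥤ᵇ 𝒴₂ :=
  BasedFunctor.comp (FibCat.fpFst (y₁ y) f₁) (y₂ y)

lemma hσ (q : (FibCat.fp (Y₂ f₁ y) f₂).obj) :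
    𝒳₁.p.obj q.obj.fst.obj.snd = 𝒳₂.p.obj q.obj.snd :=
  (Groth.Agent.H13.fp_obj_snd_proj (y₁ y) f₁ q.obj.fst).trans
    (Groth.Agent.H13.fp_obj_snd_proj (Y₂ f₁ y) f₂ q).symm

/-- the object of `𝒳₁ ×_C 𝒳₂` attached to an object of the iterated fibre product. -/
def Aobj (q : (FibCat.fp (Y₂ f₁ y) f₂).obj) :
    (FibCat.fp (FibCat.toSelf 𝒳₁) (FibCat.toSelf 𝒳₂)).obj :=
  ⟨{ fst := q.obj.fst.obj.snd, snd := q.obj.snd, iso := eqToIso (hσ f₁ f₂ y q) },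
    lift_of_isEq ⟨hσ f₁ f₂ y q, rfl⟩⟩

lemma hθ₁ (q : (FibCat.fp (Y₂ f₁ y) f₂).obj) :
    𝒴₁.p.IsHomLift (𝟙 q.obj.fst.obj.fst.left) q.obj.fst.obj.iso.hom := q.obj.fst.property

lemma hθ₂ (q : (FibCat.fp (Y₂ f₁ y) f₂).obj) :
    𝒴₂.p.IsHomLift (𝟙 q.obj.fst.obj.fst.left) q.obj.iso.hom := q.property

def Θobj (q : (FibCat.fp (Y₂ f₁ y) f₂).obj) :
    y.obj q.obj.fst.obj.fst ≅ (PP f₁ f₂ e).obj (Aobj f₁ f₂ y q) :=
  isoP2 (y.obj q.obj.fst.obj.fst) ((PP f₁ f₂ e).obj (Aobj f₁ f₂ y q)) q.obj.fst.obj.iso q.obj.iso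
    (hθ₁ f₁ f₂ y q) (hθ₂ f₁ f₂ y q)

lemma Θ_lift (q : (FibCat.fp (Y₂ f₁ y) f₂).obj) :
    (FibCat.fp (FibCat.toSelf 𝒴₁) (FibCat.toSelf 𝒴₂)).p.IsHomLift
      (𝟙 ((FibCat.overCat U).p.obj q.obj.fst.obj.fst)) (Θobj f₁ f₂ e y q).hom := by
  refine (Groth.Agent.H13.fp_isHomLift_iff (FibCat.toSelf 𝒴₁) (FibCat.toSelf 𝒴₂)
    (Θobj f₁ f₂ e y q).hom _).2 ?_
  exact hθ₁ f₁ f₂ y q

def Amap {q q' : (FibCat.fp (Y₂ f₁ y) f₂).obj} (n : q ⟶ q') :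
    Aobj f₁ f₂ y q ⟶ Aobj f₁ f₂ y q' :=
  ObjectProperty.homMk
    { fst := n.hom.fst.hom.snd
      snd := n.hom.snd
      w := by
        have l1 : 𝒳₁.p.IsHomLift n.hom.fst.hom.fst.left n.hom.fst.hom.snd :=
          FibCat.fp_isHomLift_snd (y₁ y) f₁ n.hom.fst
        have l2 : 𝒳₂.p.IsHomLift n.hom.fst.hom.fst.left n.hom.snd :=
          FibCat.fp_isHomLift_snd (Y₂ f₁ y) f₂ n
        haveI := l1
        haveI := l2
        haveI m1 : (FibCat.selfOver C).p.IsHomLift n.hom.fst.hom.fst.left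
            ((FibCat.toSelf 𝒳₁).map n.hom.fst.hom.snd) := inferInstance
        haveI m2 : (FibCat.selfOver C).p.IsHomLift n.hom.fst.hom.fst.left
            ((FibCat.toSelf 𝒳₂).map n.hom.snd) := inferInstance
        haveI m3 : (FibCat.selfOver C).p.IsHomLift (𝟙 (𝒳₁.p.obj q'.obj.fst.obj.snd))
            (eqToHom (hσ f₁ f₂ y q')) := lift_of_isEq ⟨hσ f₁ f₂ y q', rfl⟩
        haveI m4 : (FibCat.selfOver C).p.IsHomLift (𝟙 (𝒳₁.p.obj q.obj.fst.obj.snd))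
            (eqToHom (hσ f₁ f₂ y q)) := lift_of_isEq ⟨hσ f₁ f₂ y q, rfl⟩
        apply self_lift_ext n.hom.fst.hom.fst.left
        · exact IsHomLift.comp_lift_id_right' (FibCat.selfOver C).p n.hom.fst.hom.fst.left
            ((FibCat.toSelf 𝒳₁).map n.hom.fst.hom.snd) (𝒳₁.p.obj q'.obj.fst.obj.snd)
            (eqToHom (hσ f₁ f₂ y q'))
        · exact IsHomLift.comp_lift_id_left' (FibCat.selfOver C).p
            (𝒳₁.p.obj q.obj.fst.obj.snd) (eqToHom (hσ f₁ f₂ y q)) n.hom.fst.hom.fst.left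
            ((FibCat.toSelf 𝒳₂).map n.hom.snd) }

/-- the comparison functor from the iterated fibre product. -/
def Ξ : FibCat.fp (Y₂ f₁ y) f₂ ⥤ᵇ FibCat.fp y (PP f₁ f₂ e) where
  toFunctor :=
    { obj := fun q =>
        ⟨{ fst := q.obj.fst.obj.fst, snd := Aobj f₁ f₂ y q, iso := Θobj f₁ f₂ e y q },
          Θ_lift f₁ f₂ e y q⟩
      map := fun {q q'} n => ObjectProperty.homMk
          { fst := n.hom.fst.hom.fst
            snd := Amap f₁ f₂ y n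
            w := by
              apply ObjectProperty.hom_ext
              apply CategoryTheory.Limits.CategoricalPullback.hom_ext
              · exact n.hom.fst.hom.w
              · exact n.hom.w }
      map_id := fun q => by
        apply ObjectProperty.hom_ext
        apply CategoryTheory.Limits.CategoricalPullback.hom_ext
        · rfl
        · apply ObjectProperty.hom_ext
          apply CategoryTheory.Limits.CategoricalPullback.hom_ext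
          · rfl
          · rfl
      map_comp := fun n n' => by
        apply ObjectProperty.hom_ext
        apply CategoryTheory.Limits.CategoricalPullback.hom_ext
        · rfl
        · apply ObjectProperty.hom_ext
          apply CategoryTheory.Limits.CategoricalPullback.hom_ext
          · rfl
          · rfl }
  w := rfl

lemma isEquivOver_Ξ : FibCat.IsEquivOver (Ξ f₁ f₂ e y) := by
  haveI hfa : (Ξ f₁ f₂ e y).toFunctor.Faithful := by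
    refine ⟨?_⟩
    intro q q' n n' h
    apply ObjectProperty.hom_ext
    apply CategoryTheory.Limits.CategoricalPullback.hom_ext
    · apply ObjectProperty.hom_ext
      apply CategoryTheory.Limits.CategoricalPullback.hom_ext
      · exact congrArg (fun t => t.hom.fst) h
      · exact congrArg (fun t => t.hom.snd.hom.fst) h
    · exact congrArg (fun t => t.hom.snd.hom.snd) h
  haveI hfu : (Ξ f₁ f₂ e y).toFunctor.Full := by
    refine ⟨?_⟩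
    intro q q' N
    let k : q.obj.fst.obj.fst ⟶ q'.obj.fst.obj.fst := N.hom.fst
    let lam := N.hom.snd
    let l₁ : q.obj.fst.obj.snd ⟶ q'.obj.fst.obj.snd := lam.hom.fst
    let l₂ : q.obj.snd ⟶ q'.obj.snd := lam.hom.snd
    have hw := N.hom.w
    have w₁ : (y₁ y).map k ≫ q'.obj.fst.obj.iso.hom = q.obj.fst.obj.iso.hom ≫ f₁.map l₁ :=
      congrArg (fun z : y.obj q.obj.fst.obj.fst ⟶
        (PP f₁ f₂ e).obj (Aobj f₁ f₂ y q') => z.hom.fst) hw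
    have w₂ : (y₂ y).map k ≫ q'.obj.iso.hom = q.obj.iso.hom ≫ f₂.map l₂ :=
      congrArg (fun z : y.obj q.obj.fst.obj.fst ⟶
        (PP f₁ f₂ e).obj (Aobj f₁ f₂ y q') => z.hom.snd) hw
    let ν : q.obj.fst ⟶ q'.obj.fst := ObjectProperty.homMk ⟨k, l₁, w₁⟩
    let n : q ⟶ q' := ObjectProperty.homMk ⟨ν, l₂, w₂⟩
    refine ⟨n, ?_⟩
    apply ObjectProperty.hom_ext
    apply CategoryTheory.Limits.CategoricalPullback.hom_ext
    · rfl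
    · apply ObjectProperty.hom_ext
      apply CategoryTheory.Limits.CategoricalPullback.hom_ext
      · rfl
      · rfl
  apply FibLift.isEquivOver_of_ff
  intro η
  let c : Over U := η.obj.fst
  let A₀ : (FibCat.fp (FibCat.toSelf 𝒳₁) (FibCat.toSelf 𝒳₂)).obj := η.obj.snd
  let x₁ : 𝒳₁.obj := A₀.obj.fst
  let x₂ : 𝒳₂.obj := A₀.obj.snd
  let Θ₀ : y.obj c ≅ (PP f₁ f₂ e).obj A₀ := η.obj.iso
  have hΘ₀ : (FibCat.fp (FibCat.toSelf 𝒴₁) (FibCat.toSelf 𝒴₂)).p.IsHomLift (𝟙 c.left) Θ₀.hom :=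
    η.property
  let θ₁ : (y₁ y).obj c ≅ f₁.obj x₁ :=
    (FibCat.fpFst (FibCat.toSelf 𝒴₁) (FibCat.toSelf 𝒴₂)).toFunctor.mapIso Θ₀
  let θ₂ : (y₂ y).obj c ≅ f₂.obj x₂ :=
    (FibCat.fpSnd (FibCat.toSelf 𝒴₁) (FibCat.toSelf 𝒴₂)).toFunctor.mapIso Θ₀
  have hθ₁' : 𝒴₁.p.IsHomLift (𝟙 c.left) θ₁.hom :=
    (Groth.Agent.H13.fp_isHomLift_iff (FibCat.toSelf 𝒴₁) (FibCat.toSelf 𝒴₂) Θ₀.hom _).1 hΘ₀
  have hθ₂' : 𝒴₂.p.IsHomLift (𝟙 c.left) θ₂.hom :=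
    fp_lift_snd (FibCat.toSelf 𝒴₁) (FibCat.toSelf 𝒴₂) Θ₀.hom _ hΘ₀
  let p₁ : (FibCat.fp (y₁ y) f₁).obj := ⟨⟨c, x₁, θ₁⟩, hθ₁'⟩
  let q : (FibCat.fp (Y₂ f₁ y) f₂).obj := ⟨⟨p₁, x₂, θ₂⟩, hθ₂'⟩
  let isoA : Aobj f₁ f₂ y q ≅ A₀ :=
    isoP2 (Aobj f₁ f₂ y q) A₀ (Iso.refl x₁) (Iso.refl x₂)
      (IsHomLift.id (rfl : 𝒳₁.p.obj x₁ = 𝒳₁.p.obj x₁))
      (IsHomLift.id (rfl : 𝒳₂.p.obj x₂ = 𝒳₂.p.obj x₂))
  let E : (Ξ f₁ f₂ e y).obj q ≅ η :=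
    ObjectProperty.isoMk _ (CategoryTheory.Limits.CategoricalPullback.mkIso (Iso.refl c) isoA (by
      apply ObjectProperty.hom_ext
      apply CategoryTheory.Limits.CategoricalPullback.hom_ext
      · show (y₁ y).map (𝟙 c) ≫ θ₁.hom = θ₁.hom ≫ f₁.map (𝟙 x₁)
        rw [(y₁ y).toFunctor.map_id, f₁.toFunctor.map_id, Category.id_comp, Category.comp_id]
      · show (y₂ y).map (𝟙 c) ≫ θ₂.hom = θ₂.hom ≫ f₂.map (𝟙 x₂)
        rw [(y₂ y).toFunctor.map_id, f₂.toFunctor.map_id, Category.id_comp, Category.comp_id]))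
  refine ⟨q, E, ?_⟩
  refine (Groth.Agent.H13.fp_isHomLift_iff y (PP f₁ f₂ e) E.hom _).2 ?_
  exact IsHomLift.id rfl

theorem main (hf₁ : FibCat.IsRepresentable1 f₁) (hf₂ : FibCat.IsRepresentable1 f₂) :
    FibCat.IsRepresentable (FibCat.fp y (PP f₁ f₂ e)) := by
  obtain ⟨W₁, E₁, hE₁⟩ := hf₁ U (y₁ y)
  obtain ⟨E₁', ⟨e₁⟩, ⟨e₂⟩⟩ := hE₁
  have hE₁' : FibCat.IsEquivOver E₁' := ⟨E₁, ⟨e₂⟩, ⟨e₁⟩⟩
  have h1 : FibCat.IsRepresentable (FibCat.fp (BasedFunctor.comp E₁' (Y₂ f₁ y)) f₂) :=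
    hf₂ W₁ (BasedFunctor.comp E₁' (Y₂ f₁ y))
  have h2 : FibCat.IsRepresentable (FibCat.fp (Y₂ f₁ y) f₂) :=
    isRepresentable_of_equiv (FpEquiv.fpPre E₁' (Y₂ f₁ y) f₂)
      (FpEquiv.isEquivOver_fpPre E₁' (Y₂ f₁ y) f₂ hE₁') h1
  exact isRepresentable_of_equiv (Ξ f₁ f₂ e y) (isEquivOver_Ξ f₁ f₂ e y) h2

end main

end Groth.Agent.S12790aux

namespace Groth.Agent.S12790

/-- For representable 1-morphisms `f₁ : 𝒳₁ ⟶ 𝒴₁`, `f₂ : 𝒳₂ ⟶ 𝒴₂` of categories over `C`, the product `f₁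
× f₂ : 𝒳₁ × 𝒳₂ ⟶ 𝒴₁ × 𝒴₂` (products over `C`; the functor induced on 2-fibre products, for any
choice of the 2-isomorphism `e` filling the square) is a representable 1-morphism. (The published
statement is for categories fibred in groupoids over schemes over a base; this row is stated for
categories over any base category.) -/
theorem result {C : Type u} [Category.{v} C] {𝒳₁ 𝒳₂ 𝒴₁ 𝒴₂ : BasedCategory.{v, max u v} C}
    (f₁ : 𝒳₁ ⥤ᵇ 𝒴₁) (f₂ : 𝒳₂ ⥤ᵇ 𝒴₂) (hf₁ : FibCat.IsRepresentable1 f₁) (hf₂ : FibCat.IsRepresentable1 f₂)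
    (e : BasedFunctor.comp (BasedFunctor.comp (FibCat.fpFst (FibCat.toSelf 𝒳₁) (FibCat.toSelf 𝒳₂)) f₁) (FibCat.toSelf 𝒴₁) ≅ BasedFunctor.comp (BasedFunctor.comp (FibCat.fpSnd (FibCat.toSelf 𝒳₁) (FibCat.toSelf 𝒳₂)) f₂) (FibCat.toSelf 𝒴₂)) :
    FibCat.IsRepresentable1 (FibCat.fpLift (BasedFunctor.comp (FibCat.fpFst (FibCat.toSelf 𝒳₁) (FibCat.toSelf 𝒳₂)) f₁) (BasedFunctor.comp (FibCat.fpSnd (FibCat.toSelf 𝒳₁) (FibCat.toSelf 𝒳₂)) f₂) e) := by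
  intro U y
  exact Groth.Agent.S12790aux.main f₁ f₂ e y hf₁ hf₂

end Groth.Agent.S12790
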