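import Groth.Statements.S6406
import Mathlib

set_option autoImplicit false
open CategoryTheory
universe v u
open FibCat

namespace Groth.Agent.S6406aux

open CategoryTheory Functor

universe v₂ u₂ v₃ u₃

section
variable {C : Type u} [Category.{v} C] {X : Type u₂} [Category.{v₂} X] (p : X ⥤ C)

lemma lift_comp_iff {D : Type u₃} [Category.{v₃} D] (F : D ⥤ X) {R S : C} (f : R ⟶ S) {a b : D}
    (ψ : a ⟶ b) : (F ⋙ p).IsHomLift f ψ ↔ p.IsHomLift f (F.map ψ) := by
  constructor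
  · intro h
    cases h
    show p.IsHomLift (p.map (F.map ψ)) (F.map ψ)
    infer_instance
  · intro h
    haveI := h
    exact IsHomLift.of_fac' (F ⋙ p) f ψ (IsHomLift.domain_eq p f (F.map ψ))
      (IsHomLift.codomain_eq p f (F.map ψ)) (IsHomLift.fac' p f (F.map ψ))

lemma sc_of_ff {D : Type u₃} [Category.{v₃} D] (F : D ⥤ X) [F.Full] [F.Faithful] {R S : C}
    (f : R ⟶ S) {a b : D} (φ : a ⟶ b) (h : p.IsStronglyCartesian f (F.map φ)) :
    (F ⋙ p).IsStronglyCartesian f φ := by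
  haveI := h
  haveI h0 : (F ⋙ p).IsHomLift f φ := (lift_comp_iff p F f φ).2 inferInstance
  refine { toIsHomLift := h0, universal_property' := ?_ }
  intro a' g φ' hφ'
  haveI : p.IsHomLift (g ≫ f) (F.map φ') := (lift_comp_iff p F (g ≫ f) φ').1 hφ'
  obtain ⟨χ, ⟨hχ1, hχ2⟩, hχ3⟩ :=
    IsStronglyCartesian.universal_property' (p := p) (f := f) (φ := F.map φ) g (F.map φ')
  refine ⟨F.preimage χ, ⟨(lift_comp_iff p F g _).2 (by rw [F.map_preimage]; exact hχ1),
    F.map_injective (by rw [F.map_comp, F.map_preimage]; exact hχ2)⟩, ?_⟩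
  rintro ψ ⟨hψ1, hψ2⟩
  apply F.map_injective
  rw [F.map_preimage]
  apply hχ3
  exact ⟨(lift_comp_iff p F g ψ).1 hψ1, by rw [← F.map_comp, hψ2]⟩

/-- the relation "isomorphic in a fibre" (for a category fibred in groupoids). -/
def rel (x y : X) : Prop := ∃ (S : C) (φ : x ⟶ y), p.IsHomLift (𝟙 S) φ

variable {p}

lemma rel_refl (x : X) : rel p x x := ⟨p.obj x, 𝟙 x, inferInstance⟩

lemma isIso_of_lift_id (hp : FibCat.IsFibGrpd p) {x y : X} (S : C) (φ : x ⟶ y)
    [p.IsHomLift (𝟙 S) φ] : IsIso φ := by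
  haveI := hp.isStronglyCartesian φ
  haveI : IsIso (p.map φ) := by
    rw [IsHomLift.fac' p (𝟙 S) φ]
    infer_instance
  exact IsStronglyCartesian.isIso_of_base_isIso p (p.map φ) φ

lemma rel_symm (hp : FibCat.IsFibGrpd p) {x y : X} (h : rel p x y) : rel p y x := by
  obtain ⟨S, φ, hφ⟩ := h
  haveI := hφ
  haveI : IsIso φ := isIso_of_lift_id hp S φ
  exact ⟨S, inv φ, inferInstance⟩

lemma rel_trans {x y z : X} (h1 : rel p x y) (h2 : rel p y z) : rel p x z := by
  obtain ⟨S, φ, hφ⟩ := h1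
  obtain ⟨T, ψ, hψ⟩ := h2
  haveI := hφ
  haveI := hψ
  have e1 : p.obj y = S := IsHomLift.codomain_eq p (𝟙 S) φ
  have e2 : p.obj y = T := IsHomLift.domain_eq p (𝟙 T) ψ
  obtain rfl : S = T := e1.symm.trans e2
  exact ⟨S, φ ≫ ψ, inferInstance⟩

/-- the setoid. -/
def st (hp : FibCat.IsFibGrpd p) : Setoid X :=
  ⟨rel p, ⟨rel_refl, fun h => rel_symm hp h, fun h1 h2 => rel_trans h1 h2⟩⟩

/-- chosen representative. -/
noncomputable def rep (hp : FibCat.IsFibGrpd p) (x : X) : X := (Quotient.mk (st hp) x).out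

lemma rel_rep (hp : FibCat.IsFibGrpd p) (x : X) : rel p (rep hp x) x :=
  Quotient.exact (Quotient.out_eq (Quotient.mk (st hp) x))

lemma rep_eq_of_rel (hp : FibCat.IsFibGrpd p) {x y : X} (h : rel p x y) : rep hp x = rep hp y :=
  congrArg Quotient.out (Quotient.sound (s := st hp) h)

lemma rep_rep (hp : FibCat.IsFibGrpd p) (x : X) : rep hp (rep hp x) = rep hp x :=
  rep_eq_of_rel hp (rel_rep hp x)

lemma exists_theta (hp : FibCat.IsFibGrpd p) (x : X) :
    ∃ θ : rep hp x ⟶ x, p.IsHomLift (𝟙 (p.obj x)) θ := by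
  obtain ⟨S, φ, hφ⟩ := rel_rep hp x
  haveI := hφ
  obtain rfl : p.obj x = S := IsHomLift.codomain_eq p (𝟙 S) φ
  exact ⟨φ, hφ⟩

/-- chosen iso from the representative. -/
noncomputable def θ (hp : FibCat.IsFibGrpd p) (x : X) : rep hp x ≅ x :=
  haveI := (exists_theta hp x).choose_spec
  haveI := isIso_of_lift_id hp (p.obj x) (exists_theta hp x).choose
  asIso (exists_theta hp x).choose

instance θ_hom_lift (hp : FibCat.IsFibGrpd p) (x : X) :
    p.IsHomLift (𝟙 (p.obj x)) (θ hp x).hom := by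
  have h := (exists_theta hp x).choose_spec
  exact h

lemma obj_rep (hp : FibCat.IsFibGrpd p) (x : X) : p.obj (rep hp x) = p.obj x :=
  IsHomLift.domain_eq p (𝟙 (p.obj x)) (θ hp x).hom

lemma map_θ_hom (hp : FibCat.IsFibGrpd p) (x : X) :
    p.map (θ hp x).hom = eqToHom (obj_rep hp x) := by
  have := IsHomLift.fac' p (𝟙 (p.obj x)) (θ hp x).hom
  simpa using this

lemma map_θ_inv (hp : FibCat.IsFibGrpd p) (x : X) :
    p.map (θ hp x).inv = eqToHom (obj_rep hp x).symm := by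
  rw [← cancel_epi (p.map (θ hp x).hom), ← p.map_comp, Iso.hom_inv_id, map_θ_hom]
  simp

lemma uniq_lift (hp : FibCat.IsFibGrpd p) (ht : ∀ U : C, Quiver.IsThin (p.Fiber U)) {R S : C}
    (f : R ⟶ S) {x y : X} (a b : x ⟶ y) [p.IsHomLift f a] [p.IsHomLift f b] : a = b := by
  haveI := hp.isStronglyCartesian b
  have hab : p.map a = p.map b := by rw [IsHomLift.fac' p f a, IsHomLift.fac' p f b]
  haveI : p.IsHomLift (p.map b) a := by rw [← hab]; infer_instance
  have hf' : p.map b = 𝟙 (p.obj x) ≫ p.map b := (Category.id_comp _).symm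
  obtain ⟨χ, ⟨hχ1, hχ2⟩, -⟩ :=
    IsStronglyCartesian.universal_property p (p.map b) b (𝟙 (p.obj x)) (p.map b) hf' a
  haveI := hχ1
  have h3 : Fiber.homMk p (p.obj x) χ = 𝟙 _ := (ht (p.obj x) _ _).elim _ _
  have h4 : χ = 𝟙 x := by
    have := congrArg (fun t => Fiber.fiberInclusion.map t) h3
    simpa using this
  rw [← hχ2, h4, Category.id_comp]

/-- objects which are their own representative. -/
def P (hp : FibCat.IsFibGrpd p) : ObjectProperty X := fun x => rep hp x = x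

/-- the retraction onto the representatives. -/
noncomputable def Fr (hp : FibCat.IsFibGrpd p) : X ⥤ (P hp).FullSubcategory where
  obj x := ⟨rep hp x, rep_rep hp x⟩
  map {x y} φ := ObjectProperty.homMk ((θ hp x).hom ≫ φ ≫ (θ hp y).inv)
  map_id x := by
    apply ObjectProperty.hom_ext
    simp
  map_comp φ ψ := by
    apply ObjectProperty.hom_ext
    simp

lemma Fr_w (hp : FibCat.IsFibGrpd p) : Fr hp ⋙ (P hp).ι ⋙ p = p :=
  CategoryTheory.Functor.ext (fun x => obj_rep hp x) (fun x y φ => by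
    show p.map ((θ hp x).hom ≫ φ ≫ (θ hp y).inv) = _
    rw [p.map_comp, p.map_comp, map_θ_hom, map_θ_inv]
    rfl)

lemma isFibGrpd_Y (hp : FibCat.IsFibGrpd p) : FibCat.IsFibGrpd ((P hp).ι ⋙ p) where
  exists_lift := by
    intro x V f
    obtain ⟨y, φ, hφ⟩ := hp.exists_lift (x := x.obj) f
    haveI := hφ
    obtain rfl : p.obj y = V := IsHomLift.domain_eq p f φ
    refine ⟨⟨rep hp y, rep_rep hp y⟩, ObjectProperty.homMk ((θ hp y).hom ≫ φ), ?_⟩
    rw [lift_comp_iff]
    show p.IsHomLift f ((θ hp y).hom ≫ φ)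
    infer_instance
  isStronglyCartesian := by
    intro y x φ
    exact sc_of_ff p (P hp).ι _ φ (hp.isStronglyCartesian ((P hp).ι.map φ))

lemma isDiscrete_Y (hp : FibCat.IsFibGrpd p) (ht : ∀ U : C, Quiver.IsThin (p.Fiber U)) (U : C) :
    IsDiscrete (((P hp).ι ⋙ p).Fiber U) where
  subsingleton a b := by
    constructor
    intro φ ψ
    apply Fiber.hom_ext
    apply ObjectProperty.hom_ext
    haveI h1 : p.IsHomLift (𝟙 U) (Fiber.fiberInclusion.map φ).hom :=
      (lift_comp_iff p (P hp).ι (𝟙 U) _).1 inferInstance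
    haveI h2 : p.IsHomLift (𝟙 U) (Fiber.fiberInclusion.map ψ).hom :=
      (lift_comp_iff p (P hp).ι (𝟙 U) _).1 inferInstance
    exact uniq_lift hp ht (𝟙 U) _ _
  eq_of_hom := by
    intro a b φ
    have h1 : p.IsHomLift (𝟙 U) ((P hp).ι.map (Fiber.fiberInclusion.map φ)) :=
      (lift_comp_iff p (P hp).ι (𝟙 U) _).1 inferInstance
    have h2 : rel p a.1.obj b.1.obj := ⟨U, (P hp).ι.map (Fiber.fiberInclusion.map φ), h1⟩
    have h3 : a.1.obj = b.1.obj := by
      have ha : rep hp a.1.obj = a.1.obj := a.1.property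
      have hb : rep hp b.1.obj = b.1.obj := b.1.property
      rw [← ha, ← hb]
      exact rep_eq_of_rel hp h2
    apply Subtype.ext
    exact ObjectProperty.FullSubcategory.ext h3

end

section
variable {C : Type u} [Category.{v} C] (𝒳 : BasedCategory.{v₂, u₂} C)

/-- the skeleton over the base. -/
def Y (hp : FibCat.IsFibGrpd 𝒳.p) : BasedCategory.{v₂, u₂} C :=
  BasedCategory.ofFunctor ((P hp).ι ⋙ 𝒳.p)

/-- the retraction as a based functor. -/
noncomputable def FF (hp : FibCat.IsFibGrpd 𝒳.p) : 𝒳 ⥤ᵇ Y 𝒳 hp where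
  toFunctor := Fr hp
  w := Fr_w hp

/-- the inclusion as a based functor. -/
def GG (hp : FibCat.IsFibGrpd 𝒳.p) : Y 𝒳 hp ⥤ᵇ 𝒳 where
  toFunctor := (P hp).ι
  w := rfl

lemma isEquivOver_FF (hp : FibCat.IsFibGrpd 𝒳.p) : FibCat.IsEquivOver (FF 𝒳 hp) := by
  refine ⟨GG 𝒳 hp, ⟨?_⟩, ⟨?_⟩⟩
  · refine BasedNatIso.mkNatIso (NatIso.ofComponents (fun x => θ hp x) ?_) ?_
    · intro x y φ
      show ((θ hp x).hom ≫ φ ≫ (θ hp y).inv) ≫ (θ hp y).hom = (θ hp x).hom ≫ φ
      simp
    · intro x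
      show 𝒳.p.IsHomLift (𝟙 (𝒳.p.obj x)) (θ hp x).hom
      infer_instance
  · refine BasedNatIso.mkNatIso (NatIso.ofComponents (fun y => (P hp).isoMk (θ hp y.obj)) ?_) ?_
    · intro x y φ
      apply ObjectProperty.hom_ext
      show ((θ hp x.obj).hom ≫ φ.hom ≫ (θ hp y.obj).inv) ≫ (θ hp y.obj).hom = (θ hp x.obj).hom ≫ φ.hom
      simp
    · intro y
      refine (lift_comp_iff 𝒳.p (P hp).ι _ _).2 ?_
      show 𝒳.p.IsHomLift (𝟙 (𝒳.p.obj y.obj)) (θ hp y.obj).hom
      infer_instance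

end

end Groth.Agent.S6406aux

namespace Groth.Agent.S6406

/-- A category fibred in setoids over `C` admits an equivalence over `C` to a category fibred in sets
over `C`. (The target is taken in the same universes as the slices `C/U`; its morphism sets are
essentially as small as those of `C`.) -/
theorem result {C : Type u} [Category.{v} C] {𝒳 : BasedCategory.{v, max u v} C} (h𝒳 : FibCat.IsFibSetoid 𝒳.p) :
    ∃ (𝒴 : BasedCategory.{v, max u v} C) (F : 𝒳 ⥤ᵇ 𝒴), FibCat.IsFibSet 𝒴.p ∧ FibCat.IsEquivOver F := by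
  obtain ⟨hp, ht⟩ := h𝒳
  exact ⟨Groth.Agent.S6406aux.Y 𝒳 hp, Groth.Agent.S6406aux.FF 𝒳 hp,
    ⟨Groth.Agent.S6406aux.isFibGrpd_Y hp, Groth.Agent.S6406aux.isDiscrete_Y hp ht⟩,
    Groth.Agent.S6406aux.isEquivOver_FF 𝒳 hp⟩

end Groth.Agent.S6406
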