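import Groth.Statements.S6402
import Groth.Agent.S6406
import Mathlib

set_option autoImplicit false
open CategoryTheory
universe v u
open FibCat

set_option backward.isDefEq.respectTransparency false
set_option backward.isDefEq.respectTransparency.types false

namespace Groth.Agent.S6402aux

open CategoryTheory CategoryTheory.Limits FibCat

universe v₂ u₂ v₃ u₃ v₄ u₄

section
variable {C : Type u} [Category.{v} C]

lemma fp_lift_iff {𝒳 : BasedCategory.{v₂, u₂} C} {𝒴 : BasedCategory.{v₃, u₃} C}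
    {𝒮 : BasedCategory.{v₄, u₄} C} (F : 𝒳 ⥤ᵇ 𝒮) (G : 𝒴 ⥤ᵇ 𝒮) {R S : C} (f : R ⟶ S)
    {a b : (FibCat.fp F G).obj} (ψ : a ⟶ b) :
    (FibCat.fp F G).p.IsHomLift f ψ ↔ 𝒳.p.IsHomLift f ψ.hom.fst :=
  (Groth.Agent.S6406aux.lift_comp_iff
    (CategoricalPullback.π₁ F.toFunctor G.toFunctor ⋙ 𝒳.p) (FibCat.fpProp F G).ι f ψ).trans
    (Groth.Agent.S6406aux.lift_comp_iff 𝒳.p (CategoricalPullback.π₁ F.toFunctor G.toFunctor) f
      ((FibCat.fpProp F G).ι.map ψ))

lemma based_ext {𝒳 : BasedCategory.{v₂, u₂} C} {𝒴 : BasedCategory.{v₃, u₃} C} (F G : 𝒳 ⥤ᵇ 𝒴)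
    (h : F.toFunctor = G.toFunctor) : F = G := by
  cases F
  cases G
  cases h
  rfl

variable {𝒳 𝒴 : BasedCategory.{v, max u v} C} (F : 𝒳 ⥤ᵇ 𝒴)

lemma diag_iso_hom (x : 𝒳.obj) : ((FibCat.diag F).obj x).obj.iso.hom = 𝟙 (F.obj x) := rfl

/-- first component of an isomorphism between diagonal objects. -/
def cA {x y : 𝒳.obj} (j : (FibCat.diag F).obj x ≅ (FibCat.diag F).obj y) : x ≅ y :=
  (FibCat.fpFst F F).toFunctor.mapIso j

/-- second component of an isomorphism between diagonal objects. -/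
def cB {x y : 𝒳.obj} (j : (FibCat.diag F).obj x ≅ (FibCat.diag F).obj y) : x ≅ y :=
  (FibCat.fpSnd F F).toFunctor.mapIso j

lemma cA_hom {x y : 𝒳.obj} (j : (FibCat.diag F).obj x ≅ (FibCat.diag F).obj y) :
    (cA F j).hom = j.hom.hom.fst := rfl

lemma cB_hom {x y : 𝒳.obj} (j : (FibCat.diag F).obj x ≅ (FibCat.diag F).obj y) :
    (cB F j).hom = j.hom.hom.snd := rfl

lemma map_cA_eq {x y : 𝒳.obj} (j : (FibCat.diag F).obj x ≅ (FibCat.diag F).obj y) :
    F.map (cA F j).hom = F.map (cB F j).hom := by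
  have h : F.map j.hom.hom.fst ≫ 𝟙 (F.obj y) = 𝟙 (F.obj x) ≫ F.map j.hom.hom.snd := j.hom.hom.w
  exact (Category.comp_id (F.map (cA F j).hom)).symm.trans
    (h.trans (Category.id_comp (F.map (cB F j).hom)))

lemma aut_lift (w : FibCat.InertiaObj F) : 𝒳.p.IsHomLift (𝟙 (𝒳.p.obj w.pt)) w.aut.hom := by
  rw [← BasedFunctor.isHomLift_iff F, w.map_aut]
  infer_instance

/-- the automorphism `(α, 𝟙)` of the diagonal object. -/
def isoW (w : FibCat.InertiaObj F) : (FibCat.diag F).obj w.pt ≅ (FibCat.diag F).obj w.pt :=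
  (FibCat.fpProp F F).isoMk (CategoricalPullback.mkIso w.aut (Iso.refl w.pt) (by
    show F.map w.aut.hom ≫ 𝟙 _ = 𝟙 _ ≫ F.map (𝟙 w.pt)
    rw [w.map_aut, F.toFunctor.map_id]))

/-- the 2-cell. -/
def eIso : BasedFunctor.comp (FibCat.inertiaToBase F) (FibCat.diag F) ≅
    BasedFunctor.comp (FibCat.inertiaToBase F) (FibCat.diag F) :=
  BasedNatIso.mkNatIso (NatIso.ofComponents (fun w => isoW F w) (by
      intro w w' g
      apply ObjectProperty.hom_ext
      apply CategoricalPullback.hom_ext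
      · exact g.comm.symm
      · show g.hom ≫ 𝟙 _ = 𝟙 _ ≫ g.hom
        simp))
    (fun w => (fp_lift_iff F F _ _).2 (aut_lift F w))

/-- the comparison functor. -/
def E : FibCat.inertia F ⥤ᵇ FibCat.fp (FibCat.diag F) (FibCat.diag F) :=
  FibCat.fpLift (FibCat.inertiaToBase F) (FibCat.inertiaToBase F) (eIso F)

/-- the inverse, on underlying categories. -/
def Gfun : (FibCat.fp (FibCat.diag F) (FibCat.diag F)).obj ⥤ FibCat.InertiaObj F where
  obj z := ⟨z.obj.fst, cA F z.obj.iso ≪≫ (cB F z.obj.iso).symm, by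
    show F.map ((cA F z.obj.iso).hom ≫ (cB F z.obj.iso).inv) = 𝟙 _
    rw [F.toFunctor.map_comp, map_cA_eq, ← F.toFunctor.map_comp, Iso.hom_inv_id,
      F.toFunctor.map_id]⟩
  map {z z'} f := ⟨f.hom.fst, by
    have h1 : f.hom.fst ≫ (cA F z'.obj.iso).hom = (cA F z.obj.iso).hom ≫ f.hom.snd :=
      congrArg (fun m => m.hom.fst) f.hom.w
    have h2 : f.hom.fst ≫ (cB F z'.obj.iso).hom = (cB F z.obj.iso).hom ≫ f.hom.snd :=
      congrArg (fun m => m.hom.snd) f.hom.w
    have h3 : (cB F z.obj.iso).inv ≫ f.hom.fst = f.hom.snd ≫ (cB F z'.obj.iso).inv := by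
      rw [Iso.inv_comp_eq, ← Category.assoc, ← h2, Category.assoc, Iso.hom_inv_id,
        Category.comp_id]
    show ((cA F z.obj.iso).hom ≫ (cB F z.obj.iso).inv) ≫ f.hom.fst =
      f.hom.fst ≫ ((cA F z'.obj.iso).hom ≫ (cB F z'.obj.iso).inv)
    calc ((cA F z.obj.iso).hom ≫ (cB F z.obj.iso).inv) ≫ f.hom.fst
        = (cA F z.obj.iso).hom ≫ ((cB F z.obj.iso).inv ≫ f.hom.fst) := Category.assoc _ _ _
      _ = (cA F z.obj.iso).hom ≫ (f.hom.snd ≫ (cB F z'.obj.iso).inv) := by rw [h3]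
      _ = ((cA F z.obj.iso).hom ≫ f.hom.snd) ≫ (cB F z'.obj.iso).inv :=
          (Category.assoc _ _ _).symm
      _ = (f.hom.fst ≫ (cA F z'.obj.iso).hom) ≫ (cB F z'.obj.iso).inv := by rw [h1]
      _ = f.hom.fst ≫ ((cA F z'.obj.iso).hom ≫ (cB F z'.obj.iso).inv) := Category.assoc _ _ _⟩
  map_id z := FibCat.InertiaObj.hom_ext rfl
  map_comp f g := FibCat.InertiaObj.hom_ext rfl

/-- the inverse as a based functor. -/
def G : FibCat.fp (FibCat.diag F) (FibCat.diag F) ⥤ᵇ FibCat.inertia F where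
  toFunctor := Gfun F
  w := rfl

/-- isomorphisms in the inertia. -/
def inertiaIso {w w' : FibCat.InertiaObj F} (e : w.pt ≅ w'.pt)
    (h : w.aut.hom ≫ e.hom = e.hom ≫ w'.aut.hom) : w ≅ w' where
  hom := ⟨e.hom, h⟩
  inv := ⟨e.inv, by
    rw [← cancel_mono e.hom, Category.assoc, Category.assoc, e.inv_hom_id, Category.comp_id, h,
      ← Category.assoc, e.inv_hom_id, Category.id_comp]⟩
  hom_inv_id := FibCat.InertiaObj.hom_ext e.hom_inv_id
  inv_hom_id := FibCat.InertiaObj.hom_ext e.inv_hom_id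

/-- first triangle. -/
def iso1 : BasedFunctor.comp (E F) (G F) ≅ BasedFunctor.id (FibCat.inertia F) :=
  BasedNatIso.mkNatIso (NatIso.ofComponents (fun w => inertiaIso F (Iso.refl w.pt) (by
      show (w.aut.hom ≫ 𝟙 _) ≫ 𝟙 _ = 𝟙 _ ≫ w.aut.hom
      simp)) (by
      intro w w' g
      apply FibCat.InertiaObj.hom_ext
      show g.hom ≫ 𝟙 _ = 𝟙 _ ≫ g.hom
      simp))
    (fun w => (Groth.Agent.S6406aux.lift_comp_iff 𝒳.p FibCat.InertiaObj.forget _ _).2 (by
      show 𝒳.p.IsHomLift (𝟙 (𝒳.p.obj w.pt)) (𝟙 w.pt)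
      infer_instance))

/-- second triangle. -/
def iso2 : BasedFunctor.comp (G F) (E F) ≅
    BasedFunctor.id (FibCat.fp (FibCat.diag F) (FibCat.diag F)) :=
  BasedNatIso.mkNatIso (NatIso.ofComponents (fun z =>
      (FibCat.fpProp (FibCat.diag F) (FibCat.diag F)).isoMk
        (CategoricalPullback.mkIso (Iso.refl z.obj.fst) (cB F z.obj.iso) (by
          apply ObjectProperty.hom_ext
          apply CategoricalPullback.hom_ext
          · show 𝟙 _ ≫ (cA F z.obj.iso).hom =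
              ((cA F z.obj.iso).hom ≫ (cB F z.obj.iso).inv) ≫ (cB F z.obj.iso).hom
            simp
          · show 𝟙 _ ≫ (cB F z.obj.iso).hom = 𝟙 _ ≫ (cB F z.obj.iso).hom
            rfl))) (by
      intro z z' f
      apply ObjectProperty.hom_ext
      apply CategoricalPullback.hom_ext
      · show f.hom.fst ≫ 𝟙 _ = 𝟙 _ ≫ f.hom.fst
        simp
      · show f.hom.fst ≫ (cB F z'.obj.iso).hom = (cB F z.obj.iso).hom ≫ f.hom.snd
        exact congrArg (fun m => m.hom.snd) f.hom.w))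
    (fun z => (fp_lift_iff (FibCat.diag F) (FibCat.diag F) _ _).2 (by
      show 𝒳.p.IsHomLift (𝟙 (𝒳.p.obj z.obj.fst)) (𝟙 z.obj.fst)
      infer_instance))

end

end Groth.Agent.S6402aux

namespace Groth.Agent.S6402

/-- For a functor `F : 𝒳 ⟶ 𝒴` of fibred categories over `C` preserving strongly cartesian morphisms, the
relative inertia `I_{𝒳/𝒴}` (pairs `(x, α)` with `α` an automorphism of `x` sent to the identity by
`F`) is equivalent over `C` to `𝒳 ×_{Δ, 𝒳 ×_𝒴 𝒳, Δ} 𝒳`, by a functor over `C` whose composite with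
either projection is the forgetful functor `(x, α) ↦ x`. (Only the two projections of the
equivalence are pinned here; its 2-cell component at `(x, α)` is `(α, 𝟙)`.) -/
theorem result {C : Type u} [Category.{v} C] {𝒳 𝒴 : BasedCategory.{v, max u v} C} [𝒳.p.IsFibered] [𝒴.p.IsFibered] (F : 𝒳 ⥤ᵇ 𝒴) (hF : FibCat.PreservesStronglyCartesian F) :
    ∃ E : FibCat.inertia F ⥤ᵇ FibCat.fp (FibCat.diag F) (FibCat.diag F),
      FibCat.IsEquivOver E ∧ BasedFunctor.comp E (FibCat.fpFst _ _) = FibCat.inertiaToBase F ∧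
        BasedFunctor.comp E (FibCat.fpSnd _ _) = FibCat.inertiaToBase F := by
  exact ⟨Groth.Agent.S6402aux.E F,
    ⟨Groth.Agent.S6402aux.G F, ⟨Groth.Agent.S6402aux.iso1 F⟩, ⟨Groth.Agent.S6402aux.iso2 F⟩⟩,
    rfl, rfl⟩

end Groth.Agent.S6402
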