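import Groth.Statements.S12792
import Groth.Agent.S6401
import Groth.Agent.S6402
import Mathlib

set_option autoImplicit false
open CategoryTheory
universe w v u
open Stk

set_option backward.isDefEq.respectTransparency false
set_option backward.isDefEq.respectTransparency.types false

namespace Groth.Agent.S12792aux

open CategoryTheory CategoryTheory.Limits FibCat Stk

universe v₂ u₂ v₃ u₃ v₄ u₄

section
variable {C : Type u} [Category.{v} C]

/-- right whiskering of an iso of based functors. -/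
def wrIso {𝒲 : BasedCategory.{v₂, u₂} C} {𝒳' : BasedCategory.{v₃, u₃} C}
    {𝒮' : BasedCategory.{v₄, u₄} C} {P P' : 𝒲 ⥤ᵇ 𝒳'} (e : P ≅ P') (F : 𝒳' ⥤ᵇ 𝒮') :
    BasedFunctor.comp P F ≅ BasedFunctor.comp P' F where
  hom := BasedCategory.whiskerRight e.hom F
  inv := BasedCategory.whiskerRight e.inv F
  hom_inv_id := by
    apply BasedNatTrans.homCategory.ext
    ext a
    show F.map (e.hom.toNatTrans.app a) ≫ F.map (e.inv.toNatTrans.app a) = 𝟙 _
    rw [← F.toFunctor.map_comp,
      show e.hom.toNatTrans.app a ≫ e.inv.toNatTrans.app a = 𝟙 _ from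
        congrArg (fun t => t.toNatTrans.app a) e.hom_inv_id, F.toFunctor.map_id]
  inv_hom_id := by
    apply BasedNatTrans.homCategory.ext
    ext a
    show F.map (e.inv.toNatTrans.app a) ≫ F.map (e.hom.toNatTrans.app a) = 𝟙 _
    rw [← F.toFunctor.map_comp,
      show e.inv.toNatTrans.app a ≫ e.hom.toNatTrans.app a = 𝟙 _ from
        congrArg (fun t => t.toNatTrans.app a) e.inv_hom_id, F.toFunctor.map_id]

/-- left whiskering of an iso of based functors. -/
def wlIso {𝒲 : BasedCategory.{v₂, u₂} C} {𝒳' : BasedCategory.{v₃, u₃} C}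
    {𝒮' : BasedCategory.{v₄, u₄} C} (Q : 𝒲 ⥤ᵇ 𝒳') {A B : 𝒳' ⥤ᵇ 𝒮'} (e : A ≅ B) :
    BasedFunctor.comp Q A ≅ BasedFunctor.comp Q B where
  hom := BasedCategory.whiskerLeft Q e.hom
  inv := BasedCategory.whiskerLeft Q e.inv
  hom_inv_id := by
    apply BasedNatTrans.homCategory.ext
    ext a
    exact congrArg (fun t => t.toNatTrans.app (Q.obj a)) e.hom_inv_id
  inv_hom_id := by
    apply BasedNatTrans.homCategory.ext
    ext a
    exact congrArg (fun t => t.toNatTrans.app (Q.obj a)) e.inv_hom_id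

lemma aux_w {Z : Type*} [Category Z] {A B C' D : Z} (f : A ⟶ B) (i : B ⟶ C') (g : D ⟶ C')
    (g' : C' ⟶ D) (hg : g' ≫ g = 𝟙 _) (k : A ⟶ D) (hk : k = f ≫ i ≫ g') : f ≫ i = k ≫ g := by
  rw [hk, Category.assoc, Category.assoc, hg, Category.comp_id]

variable {𝒜 ℬ 𝒳 𝒴 𝒮 : BasedCategory.{v, max u v} C}
  (ι : ℬ ⥤ᵇ 𝒜) (F : 𝒳 ⥤ᵇ 𝒮) (G : 𝒴 ⥤ᵇ 𝒮)

lemma hom_ext_fp {𝒲 : BasedCategory.{v, max u v} C} {P P' : 𝒲 ⥤ᵇ FibCat.fp F G} (α β : P ⟶ P')
    (h1 : ∀ a, (α.toNatTrans.app a).hom.fst = (β.toNatTrans.app a).hom.fst)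
    (h2 : ∀ a, (α.toNatTrans.app a).hom.snd = (β.toNatTrans.app a).hom.snd) : α = β := by
  apply BasedNatTrans.homCategory.ext
  apply NatTrans.ext
  funext a
  apply ObjectProperty.hom_ext
  exact CategoricalPullback.hom_ext (h1 a) (h2 a)

/-- a 2-morphism into the fibre product from its two components. -/
def mkHom {𝒲 : BasedCategory.{v, max u v} C} {P P' : 𝒲 ⥤ᵇ FibCat.fp F G}
    (α1 : BasedFunctor.comp P (FibCat.fpFst F G) ⟶ BasedFunctor.comp P' (FibCat.fpFst F G))
    (α2 : BasedFunctor.comp P (FibCat.fpSnd F G) ⟶ BasedFunctor.comp P' (FibCat.fpSnd F G))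
    (hc : ∀ a, F.map (α1.toNatTrans.app a) ≫ (P'.obj a).obj.iso.hom =
      (P.obj a).obj.iso.hom ≫ G.map (α2.toNatTrans.app a)) : P ⟶ P' where
  toNatTrans :=
    { app := fun a => ObjectProperty.homMk
        { fst := α1.toNatTrans.app a
          snd := α2.toNatTrans.app a
          w := hc a }
      naturality := fun a a' f => by
        apply ObjectProperty.hom_ext
        apply CategoricalPullback.hom_ext
        · exact α1.toNatTrans.naturality f
        · exact α2.toNatTrans.naturality f }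
  isHomLift' := fun a => (Groth.Agent.S6402aux.fp_lift_iff F G _ _).2 (α1.isHomLift' a)

lemma faithful_res [(Stk.restr ι 𝒳).Faithful] [(Stk.restr ι 𝒴).Faithful] :
    (Stk.restr ι (FibCat.fp F G)).Faithful where
  map_injective {P P'} α β h := by
    have h1 : BasedCategory.whiskerRight α (FibCat.fpFst F G) =
        BasedCategory.whiskerRight β (FibCat.fpFst F G) := by
      apply (Stk.restr ι 𝒳).map_injective
      apply BasedNatTrans.homCategory.ext
      ext b
      exact congrArg (fun t => (t.toNatTrans.app b).hom.fst) h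
    have h2 : BasedCategory.whiskerRight α (FibCat.fpSnd F G) =
        BasedCategory.whiskerRight β (FibCat.fpSnd F G) := by
      apply (Stk.restr ι 𝒴).map_injective
      apply BasedNatTrans.homCategory.ext
      ext b
      exact congrArg (fun t => (t.toNatTrans.app b).hom.snd) h
    apply hom_ext_fp
    · intro a
      exact congrArg (fun t => t.toNatTrans.app a) h1
    · intro a
      exact congrArg (fun t => t.toNatTrans.app a) h2

lemma full_res [(Stk.restr ι 𝒳).Full] [(Stk.restr ι 𝒴).Full] [(Stk.restr ι 𝒮).Faithful] :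
    (Stk.restr ι (FibCat.fp F G)).Full where
  map_surjective {P P'} γ := by
    have s1 := (Stk.restr ι 𝒳).map_surjective (X := BasedFunctor.comp P (FibCat.fpFst F G))
      (Y := BasedFunctor.comp P' (FibCat.fpFst F G))
    obtain ⟨α1, hα1⟩ := s1 (BasedCategory.whiskerRight γ (FibCat.fpFst F G))
    have s2 := (Stk.restr ι 𝒴).map_surjective (X := BasedFunctor.comp P (FibCat.fpSnd F G))
      (Y := BasedFunctor.comp P' (FibCat.fpSnd F G))
    obtain ⟨α2, hα2⟩ := s2 (BasedCategory.whiskerRight γ (FibCat.fpSnd F G))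
    have hc : ∀ a, F.map (α1.toNatTrans.app a) ≫ (P'.obj a).obj.iso.hom =
        (P.obj a).obj.iso.hom ≫ G.map (α2.toNatTrans.app a) := by
      let L : BasedFunctor.comp (BasedFunctor.comp P (FibCat.fpFst F G)) F ⟶
          BasedFunctor.comp (BasedFunctor.comp P' (FibCat.fpSnd F G)) G :=
        BasedCategory.whiskerRight α1 F ≫ BasedCategory.whiskerLeft P' (FibCat.fpIso F G).hom
      let R' : BasedFunctor.comp (BasedFunctor.comp P (FibCat.fpFst F G)) F ⟶
          BasedFunctor.comp (BasedFunctor.comp P' (FibCat.fpSnd F G)) G :=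
        BasedCategory.whiskerLeft P (FibCat.fpIso F G).hom ≫ BasedCategory.whiskerRight α2 G
      have hLR : L = R' := by
        apply (Stk.restr ι 𝒮).map_injective
        apply BasedNatTrans.homCategory.ext
        ext b
        have e1 : α1.toNatTrans.app (ι.obj b) = (γ.toNatTrans.app b).hom.fst :=
          congrArg (fun t => t.toNatTrans.app b) hα1
        have e2 : α2.toNatTrans.app (ι.obj b) = (γ.toNatTrans.app b).hom.snd :=
          congrArg (fun t => t.toNatTrans.app b) hα2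
        exact (congrArg (fun z => F.map z ≫ (P'.obj (ι.obj b)).obj.iso.hom) e1).trans
          (((γ.toNatTrans.app b).hom.w).trans
            (congrArg (fun z => (P.obj (ι.obj b)).obj.iso.hom ≫ G.map z) e2.symm))
      intro a
      exact congrArg (fun t => t.toNatTrans.app a) hLR
    refine ⟨mkHom F G α1 α2 hc, ?_⟩
    apply hom_ext_fp
    · intro b
      exact congrArg (fun t => t.toNatTrans.app b) hα1
    · intro b
      exact congrArg (fun t => t.toNatTrans.app b) hα2

lemma essSurj_res [(Stk.restr ι 𝒳).EssSurj] [(Stk.restr ι 𝒴).EssSurj] [(Stk.restr ι 𝒮).Full]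
    [(Stk.restr ι 𝒮).Faithful] : (Stk.restr ι (FibCat.fp F G)).EssSurj where
  mem_essImage Q := by
    let P1 := (Stk.restr ι 𝒳).objPreimage (BasedFunctor.comp Q (FibCat.fpFst F G))
    let e1 : (Stk.restr ι 𝒳).obj P1 ≅ BasedFunctor.comp Q (FibCat.fpFst F G) :=
      (Stk.restr ι 𝒳).objObjPreimageIso _
    let P2 := (Stk.restr ι 𝒴).objPreimage (BasedFunctor.comp Q (FibCat.fpSnd F G))
    let e2 : (Stk.restr ι 𝒴).obj P2 ≅ BasedFunctor.comp Q (FibCat.fpSnd F G) :=
      (Stk.restr ι 𝒴).objObjPreimageIso _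
    let ω : (Stk.restr ι 𝒮).obj (BasedFunctor.comp P1 F) ≅
        (Stk.restr ι 𝒮).obj (BasedFunctor.comp P2 G) :=
      wrIso e1 F ≪≫ wlIso Q (FibCat.fpIso F G) ≪≫ (wrIso e2 G).symm
    let ε : BasedFunctor.comp P1 F ≅ BasedFunctor.comp P2 G := (Stk.restr ι 𝒮).preimageIso ω
    have hε : (Stk.restr ι 𝒮).map ε.hom = ω.hom := (Stk.restr ι 𝒮).map_preimage ω.hom
    let P : 𝒜 ⥤ᵇ FibCat.fp F G := FibCat.fpLift P1 P2 ε
    have hg : ∀ b, G.map (e2.inv.toNatTrans.app b) ≫ G.map (e2.hom.toNatTrans.app b) = 𝟙 _ := by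
      intro b
      rw [← G.toFunctor.map_comp,
        show e2.inv.toNatTrans.app b ≫ e2.hom.toNatTrans.app b = 𝟙 _ from
          congrArg (fun t => t.toNatTrans.app b) e2.inv_hom_id, G.toFunctor.map_id]
    have hb : ∀ b, ε.hom.toNatTrans.app (ι.obj b) = F.map (e1.hom.toNatTrans.app b) ≫
        (Q.obj b).obj.iso.hom ≫ G.map (e2.inv.toNatTrans.app b) := by
      intro b
      exact congrArg (fun t => t.toNatTrans.app b) hε
    refine ⟨P, ⟨?_⟩⟩
    refine BasedNatIso.mkNatIso (NatIso.ofComponents (fun b =>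
      (FibCat.fpProp F G).isoMk (CategoricalPullback.mkIso
        (((BasedNatTrans.forgetful _ _).mapIso e1).app b)
        (((BasedNatTrans.forgetful _ _).mapIso e2).app b)
        (aux_w (F.map (e1.hom.toNatTrans.app b)) ((Q.obj b).obj.iso.hom)
          (G.map (e2.hom.toNatTrans.app b)) (G.map (e2.inv.toNatTrans.app b)) (hg b)
          (ε.hom.toNatTrans.app (ι.obj b)) (hb b)))) ?_) ?_
    · intro b b' f
      apply ObjectProperty.hom_ext
      apply CategoricalPullback.hom_ext
      · exact e1.hom.toNatTrans.naturality f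
      · exact e2.hom.toNatTrans.naturality f
    · intro b
      exact (Groth.Agent.S6402aux.fp_lift_iff F G _ _).2 (e1.hom.isHomLift' b)

lemma isEquivalence_res [(Stk.restr ι 𝒳).IsEquivalence] [(Stk.restr ι 𝒴).IsEquivalence]
    [(Stk.restr ι 𝒮).Full] [(Stk.restr ι 𝒮).Faithful] :
    (Stk.restr ι (FibCat.fp F G)).IsEquivalence := by
  have := faithful_res ι F G
  have := full_res ι F G
  have := essSurj_res ι F G
  exact { }

end

end Groth.Agent.S12792aux

namespace Groth.Agent.S12792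

/-- For categories `𝒳`, `𝒴` over `C` that are stacks in groupoids for the topology `J`, a category `𝒮`
over `C` that is a prestack in groupoids for `J`, and functors `F : 𝒳 ⟶ 𝒮`, `G : 𝒴 ⟶ 𝒮` over `C`,
the 2-fibre product `𝒳 ×_𝒮 𝒴` over `C` is a stack in groupoids for `J`. (The published statement
takes `𝒮` a stack in groupoids as well; its proof uses only that morphisms of `𝒮` glue uniquely,
which is the hypothesis made here.) -/
theorem result {C : Type u} [Category.{v} C] (J : GrothendieckTopology C) {𝒳 𝒴 𝒮 : BasedCategory.{v, max u v} C}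
    (F : 𝒳 ⥤ᵇ 𝒮) (G : 𝒴 ⥤ᵇ 𝒮) (h𝒳 : Stk.IsStack J 𝒳) (h𝒴 : Stk.IsStack J 𝒴) (h𝒮 : Stk.IsPrestack J 𝒮) :
    Stk.IsStack J (FibCat.fp F G) := by
  obtain ⟨hX1, hX2⟩ := h𝒳
  obtain ⟨hY1, hY2⟩ := h𝒴
  obtain ⟨hS1, hS2⟩ := h𝒮
  refine ⟨Groth.Agent.S6401.result F G hX1 hY1 hS1, ?_⟩
  intro U R hR
  haveI eX : (Stk.restr (Stk.sieveIncl R) 𝒳).IsEquivalence := hX2 R hR
  haveI eY : (Stk.restr (Stk.sieveIncl R) 𝒴).IsEquivalence := hY2 R hR
  obtain ⟨fS, faS⟩ := hS2 R hR
  haveI fS' : (Stk.restr (Stk.sieveIncl R) 𝒮).Full := fS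
  haveI faS' : (Stk.restr (Stk.sieveIncl R) 𝒮).Faithful := faS
  exact Groth.Agent.S12792aux.isEquivalence_res (Stk.sieveIncl R) F G

end Groth.Agent.S12792
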