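import Groth.Statements.S12817
import Mathlib
set_option linter.style.haveILetI false

set_option autoImplicit false
universe u
open CategoryTheory AlgebraicGeometry
open AlgSt

namespace Groth.Agent.S12817

section Aux
open CategoryTheory AlgebraicGeometry Limits

theorem aux_field_point {S : Scheme.{u}} {A B C : Over S} (f : A ⟶ C) (g : B ⟶ C)
    (hA : Nonempty ↥A.left) (hB : Nonempty ↥B.left) (hC : Subsingleton ↥C.left) :
    ∃ (M : Type u) (_ : Field M) (str : Spec (CommRingCat.of M) ⟶ S)
      (u : Over.mk str ⟶ A) (v : Over.mk str ⟶ B), u ≫ f = v ≫ g := by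
  obtain ⟨a⟩ := hA
  obtain ⟨b⟩ := hB
  obtain ⟨z, -, -⟩ := Scheme.Pullback.exists_preimage_pullback (f := f.left) (g := g.left) a b
    (Subsingleton.elim _ _)
  have h1 := Over.w f
  have h2 := Over.w g
  refine ⟨(pullback f.left g.left).residueField z, inferInstance,
    (pullback f.left g.left).fromSpecResidueField z ≫ pullback.fst f.left g.left ≫ A.hom,
    Over.homMk ((pullback f.left g.left).fromSpecResidueField z ≫ pullback.fst f.left g.left) (by simp),
    Over.homMk ((pullback f.left g.left).fromSpecResidueField z ≫ pullback.snd f.left g.left) ?_, ?_⟩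
  · simp only [Over.mk_hom, Category.assoc]
    rw [← h2, ← h1, pullback.condition_assoc]
  · ext
    simp [pullback.condition]

end Aux

/-- For a category fibred in groupoids over the category of schemes over `S`, the relation on
field-valued points under which `Spec K ⟶ 𝒳` and `Spec L ⟶ 𝒳` are related when some `Spec M ⟶ 𝒳`
maps to both is an equivalence relation, so that the points of `𝒳` are its equivalence classes. (The
published statement is for an algebraic stack; this row takes any category fibred in groupoids over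
the base.) -/
theorem result {S : Scheme.{u}} (𝒳 : AlgSt.Cat S) (h𝒳 : FibCat.IsFibGrpd 𝒳.p) :
    _root_.Equivalence (@AlgSt.FPt.Rel S 𝒳) := by
  refine ⟨fun p => ⟨p, 𝟙 _, 𝟙 _, trivial⟩, fun ⟨r, a, b, _⟩ => ⟨r, b, a, trivial⟩, ?_⟩
  rintro p q s ⟨r₁, a₁, b₁, -⟩ ⟨r₂, a₂, b₂, -⟩
  have hA : Nonempty ↥(𝒳.p.obj r₁.obj).left := by
    rw [r₁.lies]
    show Nonempty (PrimeSpectrum r₁.K)
    infer_instance
  have hB : Nonempty ↥(𝒳.p.obj r₂.obj).left := by
    rw [r₂.lies]
    show Nonempty (PrimeSpectrum r₂.K)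
    infer_instance
  have hC : Subsingleton ↥(𝒳.p.obj q.obj).left := by
    rw [q.lies]
    show Subsingleton (PrimeSpectrum q.K)
    infer_instance
  obtain ⟨M, hM, str, u, v, huv⟩ := aux_field_point (𝒳.p.map b₁) (𝒳.p.map a₂) hA hB hC
  obtain ⟨y, φ, hφ⟩ := h𝒳.exists_lift (x := r₁.obj) u
  haveI := hφ
  haveI := h𝒳.isStronglyCartesian a₂
  let χ : y ⟶ r₂.obj := Functor.IsStronglyCartesian.map 𝒳.p (𝒳.p.map a₂) a₂ huv (φ ≫ b₁)
  exact ⟨⟨M, str, y, IsHomLift.domain_eq 𝒳.p u φ⟩, φ ≫ a₁, χ ≫ b₂, trivial⟩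

end Groth.Agent.S12817
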