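import Mathlib
import Groth.Statements.S9128
-- import your own Groth.Agent.* helpers here

set_option autoImplicit false
universe u
open CAlg

namespace Groth.Agent.S9128

open Order

section OrderPart
variable {P : Type*} [PartialOrder P]

lemma covBy_of_length_eq_coheight (s : LTSeries P) (hs : (s.length : ℕ∞) = coheight s.head)
    (i : Fin s.length) : s i.castSucc ⋖ s i.succ := by
  refine ⟨s.step i, fun c hc hc' => ?_⟩
  have h1 : (s.take i.castSucc).last < c := by
    rw [RelSeries.last_take]; exact hc
  have h2 : ((s.take i.castSucc).snoc c h1).last < (s.drop i.succ).head := by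
    rw [RelSeries.last_snoc, RelSeries.head_drop]; exact hc'
  have key := Order.length_le_coheight_head
    (p := (((s.take i.castSucc).snoc c h1).append (s.drop i.succ) h2 : LTSeries P))
  rw [RelSeries.head_append, RelSeries.head_snoc, RelSeries.head_take, ← hs] at key
  have hlen : (((s.take i.castSucc).snoc c h1).append (s.drop i.succ) h2 : LTSeries P).length
      = s.length + 1 := by
    simp only [RelSeries.append_length, RelSeries.snoc_length, RelSeries.take, RelSeries.drop,
      Fin.val_castSucc, Fin.val_succ]
    have := i.2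
    omega
  rw [hlen] at key
  have : s.length + 1 ≤ s.length := by exact_mod_cast key
  omega

lemma isMax_last_of_length_eq_coheight (s : LTSeries P) (hs : (s.length : ℕ∞) = coheight s.head) :
    IsMax s.last := by
  by_contra h
  rw [not_isMax_iff] at h
  obtain ⟨b, hb⟩ := h
  have key := Order.length_le_coheight_head (p := (s.snoc b hb : LTSeries P))
  rw [RelSeries.head_snoc, ← hs] at key
  have hlen : (s.snoc b hb : LTSeries P).length = s.length + 1 := by
    simp only [RelSeries.snoc_length]
  rw [hlen] at key
  have : s.length + 1 ≤ s.length := by exact_mod_cast key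
  omega

/-- catenary ⇒ coheight drops by exactly one along covers -/
lemma coheight_eq_of_covBy (m : P) (hm : ∀ x : P, x ≤ m)
    (hfin : ∀ x : P, coheight x ≠ ⊤)
    (hcat : ∀ s t : LTSeries P, s.head = t.head → s.last = t.last →
      (∀ i : Fin s.length, s (Fin.castSucc i) ⋖ s (Fin.succ i)) →
      (∀ i : Fin t.length, t (Fin.castSucc i) ⋖ t (Fin.succ i)) →
      s.length = t.length)
    (p q : P) (hpq : p ⋖ q) : coheight p = coheight q + 1 := by
  obtain ⟨n, hn⟩ := ENat.ne_top_iff_exists.mp (hfin p)
  obtain ⟨k, hk⟩ := ENat.ne_top_iff_exists.mp (hfin q)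
  obtain ⟨s, hs0, hsl⟩ := exists_series_of_le_coheight p (n := n) (le_of_eq hn)
  obtain ⟨t, ht0, htl⟩ := exists_series_of_le_coheight q (n := k) (le_of_eq hk)
  have hs : (s.length : ℕ∞) = coheight s.head := by rw [hs0, hsl, hn]
  have ht : (t.length : ℕ∞) = coheight t.head := by rw [ht0, htl, hk]
  have hslast : s.last = m := le_antisymm (hm _) (isMax_last_of_length_eq_coheight s hs (hm _))
  have htlast : t.last = m := le_antisymm (hm _) (isMax_last_of_length_eq_coheight t ht (hm _))
  -- the chain p ⋖ q = t 0 ⋖ t 1 ...
  have hmono : StrictMono (Fin.cons p t.toFun : Fin (t.length + 2) → P) := by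
    rw [Fin.strictMono_iff_lt_succ]
    intro i
    refine Fin.cases ?_ (fun j => ?_) i
    · simp only [Fin.castSucc_zero, Fin.cons_zero, Fin.succ_zero_eq_one, Fin.cons_one]
      change p < t.head
      rw [ht0]; exact hpq.lt
    · rw [← Fin.succ_castSucc, Fin.cons_succ, Fin.cons_succ]
      exact t.step j
  let u : LTSeries P := LTSeries.mk (t.length + 1) (Fin.cons p t.toFun) hmono
  have hu0 : u.head = s.head := by
    rw [hs0]; rfl
  have hul : u.last = s.last := by
    rw [hslast, ← htlast]
    change (Fin.cons p t.toFun : Fin (t.length + 2) → P) (Fin.last (t.length + 1)) = t.last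
    rw [← Fin.succ_last, Fin.cons_succ]
    rfl
  have husat : ∀ i : Fin u.length, u (Fin.castSucc i) ⋖ u (Fin.succ i) := by
    intro i
    change (Fin.cons p t.toFun : Fin (t.length + 2) → P) (Fin.castSucc i) ⋖
      (Fin.cons p t.toFun : Fin (t.length + 2) → P) (Fin.succ i)
    refine Fin.cases ?_ (fun j => ?_) i
    · simp only [Fin.castSucc_zero, Fin.cons_zero, Fin.succ_zero_eq_one, Fin.cons_one]
      change p ⋖ t.head
      rw [ht0]; exact hpq
    · rw [← Fin.succ_castSucc, Fin.cons_succ, Fin.cons_succ]
      exact covBy_of_length_eq_coheight t ht j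
  have := hcat u s hu0 hul husat (covBy_of_length_eq_coheight s hs)
  have h3 : t.length + 1 = s.length := this
  rw [← hn, ← hk, ← hsl, ← htl, ← h3]
  push_cast
  rfl

/-- dimension function ⇒ saturated chains have length determined by endpoints -/
lemma length_eq_of_dimFun (D : P → ℕ∞)
    (hD : ∀ p q : P, p ⋖ q → D p = D q + 1) (s : LTSeries P)
    (hs : ∀ i : Fin s.length, s (Fin.castSucc i) ⋖ s (Fin.succ i)) :
    D s.head = D s.last + s.length := by
  have : ∀ i : Fin (s.length + 1), D s.head = D (s i) + (i : ℕ) := by
    intro i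
    induction i using Fin.induction with
    | zero => simp [RelSeries.head]
    | succ j ih =>
      rw [ih, hD _ _ (hs j)]
      simp only [Fin.val_castSucc, Fin.val_succ]
      push_cast
      ring
  have h := this (Fin.last _)
  simpa [RelSeries.last] using h

end OrderPart

lemma dim_quot (A : Type u) [CommRing A] (p : PrimeSpectrum A) :
    ringKrullDim (A ⧸ p.asIdeal) = ((coheight p : ℕ∞) : WithBot ℕ∞) := by
  rw [ringKrullDim_quotient, coheight_eq_krullDim_Ici]
  congr 1


/-- A Noetherian local ring A is catenary if and only if the assignment sending a prime p to the Krull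
dimension of A/p is a dimension function on Spec A, i.e. it decreases strictly along strict
inclusions of primes and drops by exactly one along inclusions with no prime strictly in between. -/
theorem result (A : Type u) [CommRing A] [IsNoetherianRing A]
    [IsLocalRing A] :
    CAlg.IsCatenary A ↔
      ∀ p q : PrimeSpectrum A, p < q →
        ringKrullDim (A ⧸ q.asIdeal) < ringKrullDim (A ⧸ p.asIdeal) ∧
          (p ⋖ q → ringKrullDim (A ⧸ p.asIdeal) = ringKrullDim (A ⧸ q.asIdeal) + 1) := by
  have hfin : ∀ x : PrimeSpectrum A, coheight x ≠ ⊤ := fun x => (coheight_lt_top x).ne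
  have hm : ∀ x : PrimeSpectrum A, x ≤ IsLocalRing.closedPoint A := fun x =>
    IsLocalRing.le_maximalIdeal x.2.ne_top
  constructor
  · intro hcat p q hpq
    rw [dim_quot, dim_quot]
    refine ⟨WithBot.coe_lt_coe.mpr (coheight_strictAnti hpq (coheight_lt_top q)), fun hcov => ?_⟩
    rw [coheight_eq_of_covBy _ hm hfin hcat.2 p q hcov]
    rfl
  · intro h
    have hD : ∀ p q : PrimeSpectrum A, p ⋖ q → coheight p = coheight q + 1 := by
      intro p q hcov
      have := (h p q hcov.lt).2 hcov
      rw [dim_quot, dim_quot] at this
      exact_mod_cast this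
    refine ⟨fun p q _ => ?_, fun s t h0 hl hs ht => ?_⟩
    · obtain ⟨n, hn⟩ := ENat.ne_top_iff_exists.mp (hfin p)
      refine ⟨n, fun s hs _ => ?_⟩
      have := Order.length_le_coheight_head (p := s)
      rw [hs, ← hn] at this
      exact_mod_cast this
    · have e1 := length_eq_of_dimFun _ hD s hs
      have e2 := length_eq_of_dimFun _ hD t ht
      rw [h0, hl, e2] at e1
      have := ENat.add_right_injective_of_ne_top (hfin t.last) e1
      exact_mod_cast this.symm

end Groth.Agent.S9128
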