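import Groth.Statements.S0601
import Groth.Agent.H13.Serre

set_option autoImplicit false
set_option linter.style.haveILetI false
universe u
open CAlg
open Groth.Agent.H29 Groth.Agent.H13.Serre IsLocalRing

namespace Groth.Agent.S0601

/-- A Noetherian ring has all its local rings integrally closed domains exactly when it satisfies the
regularity condition R₁ and the depth condition S₂. -/
theorem result (R : Type u) [CommRing R] [IsNoetherianRing R] :
    (∀ (p : Ideal R) [p.IsPrime], IsDomain (Localization.AtPrime p) ∧
      IsIntegrallyClosed (Localization.AtPrime p)) ↔ (LocCoh.HasRk 1 R ∧ LocCoh.HasSk 2 R R) := by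
  constructor
  · intro h
    refine ⟨?_, ?_⟩
    · intro P _ hP
      obtain ⟨hD, hIC⟩ := h P
      haveI := hD
      haveI := hIC
      have hmh : (maximalIdeal (Localization.AtPrime P)).height ≤ 1 := by
        have e1 := IsLocalRing.maximalIdeal_height_eq_ringKrullDim (R := Localization.AtPrime P)
        have e2 := IsLocalization.AtPrime.ringKrullDim_eq_height P (Localization.AtPrime P)
        have e3 : ((maximalIdeal (Localization.AtPrime P)).height : WithBot ℕ∞) =
            (P.height : WithBot ℕ∞) := e1.trans e2
        have e4 := WithBot.coe_injective e3
        rw [e4]
        exact_mod_cast hP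
      have hall : ∀ Q : Ideal (Localization.AtPrime P), Q ≠ ⊥ → Q.IsPrime →
          Q = maximalIdeal (Localization.AtPrime P) := by
        intro Q hQ0 hQ
        by_contra hne
        have hlt : Q < maximalIdeal (Localization.AtPrime P) :=
          lt_of_le_of_ne (IsLocalRing.le_maximalIdeal hQ.ne_top) hne
        have h1 := Ideal.height_strict_mono_of_isPrime_of_isPrime hlt
        have h2 : Q.height = 0 := Order.lt_one_iff.mp (lt_of_lt_of_le h1 hmh)
        exact hQ0 (Ideal.height_eq_zero_iff_eq_bot.mp h2)
      have ht := (tfae_of_isNoetherianRing_of_isLocalRing_of_isDomain
        (Localization.AtPrime P)).out 3 0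
      haveI : IsPrincipalIdealRing (Localization.AtPrime P) := ht.mp ⟨hIC, hall⟩
      infer_instance
    · intro P _
      obtain ⟨hD, hIC⟩ := h P
      haveI := hD
      haveI := hIC
      rw [supportDim_localizedModule_self, depth_localizedModule_self]
      by_cases hd2 : (2 : ℕ∞) ≤ LocCoh.depth (Localization.AtPrime P) (Localization.AtPrime P)
      · refine le_trans (min_le_left _ _) ?_
        have h' : ((2 : ℕ∞) : WithBot ℕ∞) ≤
            ((LocCoh.depth (Localization.AtPrime P) (Localization.AtPrime P) : ℕ∞) : WithBot ℕ∞) :=
          WithBot.coe_le_coe.mpr hd2
        exact h'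
      · rw [not_le] at hd2
        apply le_trans (min_le_right _ _)
        have hne : LocCoh.depth (Localization.AtPrime P) (Localization.AtPrime P) ≠ ⊤ :=
          ne_top_of_lt hd2
        obtain ⟨n, hn⟩ := ENat.ne_top_iff_exists.mp hne
        have hn2 : n < 2 := by
          rw [← hn] at hd2
          exact_mod_cast hd2
        have hbotcase : maximalIdeal (Localization.AtPrime P) = ⊥ →
            ringKrullDim (Localization.AtPrime P) ≤ 0 := by
          intro hm
          rw [← IsLocalRing.maximalIdeal_height_eq_ringKrullDim, hm, Ideal.height_bot]
          exact le_refl _
        interval_cases n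
        · have hd0 : LocCoh.depth (Localization.AtPrime P) (Localization.AtPrime P) = 0 := by
            rw [← hn]
            rfl
          rw [hd0]
          have hass := (depth_eq_zero_iff_mem_ass (Localization.AtPrime P)
            (Localization.AtPrime P)).mp hd0
          obtain ⟨-, y, hy⟩ := isAssociatedPrime_iff.mp hass
          have hy0 : y ≠ 0 := by
            intro h0
            apply (maximalIdeal.isMaximal (Localization.AtPrime P)).ne_top
            rw [hy, h0, Ideal.eq_top_iff_one, Submodule.mem_colon_singleton, smul_zero]
            exact Submodule.zero_mem _
          apply hbotcase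
          rw [eq_bot_iff]
          intro r hr
          rw [hy, Submodule.mem_colon_singleton, Submodule.mem_bot, smul_eq_mul] at hr
          rcases mul_eq_zero.mp hr with h' | h'
          · rw [h']
            exact Submodule.zero_mem _
          · exact absurd h' hy0
        · have hd1 : LocCoh.depth (Localization.AtPrime P) (Localization.AtPrime P) = 1 := by
            rw [← hn]
            rfl
          rw [hd1]
          by_cases hm : maximalIdeal (Localization.AtPrime P) = ⊥
          · exact le_trans (hbotcase hm) (by exact_mod_cast zero_le_one)
          · obtain ⟨a, ha, ha0⟩ := Submodule.exists_mem_ne_zero_of_ne_bot hm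
            have hreg : IsSMulRegular (Localization.AtPrime P) a :=
              fun x y hxy => mul_left_cancel₀ ha0 hxy
            have h4 := depth_quotSMulTop_add_one (Localization.AtPrime P)
              (Localization.AtPrime P) a ha hreg
            rw [hd1] at h4
            have h5 : LocCoh.depth (Localization.AtPrime P)
                (QuotSMulTop a (Localization.AtPrime P)) = 0 :=
              ENat.add_left_injective_of_ne_top ENat.one_ne_top
                (by show _ + 1 = 0 + 1; rw [h4, zero_add])
            have hass := (depth_eq_zero_iff_mem_ass (Localization.AtPrime P)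
              (QuotSMulTop a (Localization.AtPrime P))).mp h5
            obtain ⟨-, y, hy⟩ := isAssociatedPrime_iff.mp hass
            obtain ⟨c, rfl⟩ := Submodule.Quotient.mk_surjective _ y
            have hc : c ∉ Ideal.span {a} := by
              intro hc
              obtain ⟨k, hk⟩ := Ideal.mem_span_singleton'.mp hc
              have h0 : (Submodule.Quotient.mk c :
                  QuotSMulTop a (Localization.AtPrime P)) = 0 := by
                rw [Submodule.Quotient.mk_eq_zero, ← hk, mul_comm]
                exact Submodule.smul_mem_pointwise_smul k a ⊤ Submodule.mem_top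
              apply (maximalIdeal.isMaximal (Localization.AtPrime P)).ne_top
              rw [hy, h0, Ideal.eq_top_iff_one, Submodule.mem_colon_singleton, smul_zero]
              exact Submodule.zero_mem _
            have hcm : ∀ m' ∈ maximalIdeal (Localization.AtPrime P),
                ∃ k : Localization.AtPrime P, k * a = c * m' := by
              intro m' hm'
              rw [hy, Submodule.mem_colon_singleton, Submodule.mem_bot,
                ← Submodule.Quotient.mk_smul, Submodule.Quotient.mk_eq_zero] at hm'
              obtain ⟨k, -, hk⟩ := (Submodule.mem_smul_pointwise_iff_exists _ _ _).mp hm'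
              have hk' : a * k = m' * c := hk
              exact ⟨k, by rw [mul_comm, hk', mul_comm]⟩
            haveI hprin := Groth.Agent.S2111.principal_aux (Localization.AtPrime P) a c ha ha0 hc hcm
            have hmem : maximalIdeal (Localization.AtPrime P) ∈
                (maximalIdeal (Localization.AtPrime P)).minimalPrimes := by
              rw [Ideal.minimalPrimes_eq_subsingleton_self]
              exact Set.mem_singleton _
            have hht := Ideal.height_le_one_of_isPrincipal_of_mem_minimalPrimes _ _ hmem
            rw [← IsLocalRing.maximalIdeal_height_eq_ringKrullDim]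
            exact_mod_cast hht
  · rintro ⟨h1, h2⟩ p _
    have h0 : LocCoh.HasRk 0 R := fun q _ hq =>
      h1 q (le_trans hq (by exact_mod_cast zero_le_one))
    have hS1 : LocCoh.HasSk 1 R R := fun q _ =>
      le_trans (min_le_min_right _ (by exact_mod_cast one_le_two)) (h2 q)
    haveI : IsReduced R := isReduced_of_hasRk_zero_of_hasSk_one R h0 hS1
    apply local_main (Localization.AtPrime p)
    intro P' _ hd
    let e : Localization.AtPrime (P'.comap (algebraMap R (Localization.AtPrime p))) ≃+*
        Localization.AtPrime P' :=
      (IsLocalization.localizationLocalizationAtPrimeIsoLocalization p.primeCompl P').toRingEquiv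
    have hd' : LocCoh.depth (Localization.AtPrime (P'.comap (algebraMap R (Localization.AtPrime p))))
        (Localization.AtPrime (P'.comap (algebraMap R (Localization.AtPrime p)))) = 1 := by
      rw [depth_self_of_ringEquiv e]
      exact hd
    obtain ⟨hD, hIC⟩ := normal_of_depth_one R h1 h2 _ hd'
    haveI := hD
    haveI := hIC
    exact ⟨MulEquiv.isDomain _ e.symm.toMulEquiv, IsIntegrallyClosed.of_equiv e⟩

end Groth.Agent.S0601
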