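import Groth.Statements.S7346
import Groth.Agent.H2.NumType
open Groth.Agent.H2

set_option autoImplicit false
open Finset
open Models Models.NumericalType

namespace Groth.Agent.S7346

/-- Classification of proper subgraphs of type D4 (one vertex joined to three others): let T be a
numerical type on n > 4 indices and i_1, …, i_4 distinct (-2)-indices with a_{12}, a_{13}, a_{14}
nonzero. Then for some integer w all w_{i_j} equal w, these intersection numbers equal w, all other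
a_{i_j i_k} (j ≠ k) vanish, and 2 m_1 ≥ m_2 + m_3 + m_4, 2 m_2 ≥ m_1, 2 m_3 ≥ m_1, 2 m_4 ≥ m_1. -/
theorem result {n : ℕ} (T : Models.NumericalType n) (hn : 4 < n)
    (v : Fin 4 ↪ Fin n) (hv : ∀ j, T.IsMinusTwo (v j)) (h01 : T.a (v 0) (v 1) ≠ 0) (h02 : T.a (v 0) (v 2) ≠ 0) (h03 : T.a (v 0) (v 3) ≠ 0) :
    ∃ w : ℤ, (∀ j : Fin 4, T.w (v j) = w) ∧
      T.a (v 0) (v 1) = w ∧
      T.a (v 0) (v 2) = w ∧
      T.a (v 0) (v 3) = w ∧
      T.a (v 1) (v 2) = 0 ∧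
      T.a (v 1) (v 3) = 0 ∧
      T.a (v 2) (v 3) = 0 ∧
      T.m (v 1) + T.m (v 2) + T.m (v 3) ≤ 2 * T.m (v 0) ∧
      T.m (v 0) ≤ 2 * T.m (v 1) ∧
      T.m (v 0) ≤ 2 * T.m (v 2) ∧
      T.m (v 0) ≤ 2 * T.m (v 3) := by
  classical
  have hne : ∀ p q : Fin 4, p ≠ q → v p ≠ v q := fun p q h => v.injective.ne h
  have hs : ∀ p q, T.a (v p) (v q) = T.a (v q) (v p) := fun p q => (T.symm.apply _ _).symm
  have hd : ∀ p, T.a (v p) (v p) = -2 * T.w (v p) := fun p => (hv p).2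
  have hw : ∀ p, 0 < T.w (v p) := fun p => T.w_pos _
  have hnn : ∀ p q, p ≠ q → 0 ≤ T.a (v p) (v q) := fun p q h => T.offDiag_nonneg _ _ (hne p q h)
  obtain ⟨p1, hp1⟩ := T.w_dvd (v 0) (v 1)
  obtain ⟨p2, hp2⟩ := T.w_dvd (v 0) (v 2)
  obtain ⟨p3, hp3⟩ := T.w_dvd (v 0) (v 3)
  obtain ⟨q1, hq1⟩ := T.w_dvd (v 1) (v 0)
  obtain ⟨q2, hq2⟩ := T.w_dvd (v 2) (v 0)
  obtain ⟨q3, hq3⟩ := T.w_dvd (v 3) (v 0)
  obtain ⟨c12, hc12⟩ := T.w_dvd (v 1) (v 2)
  obtain ⟨c13, hc13⟩ := T.w_dvd (v 1) (v 3)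
  obtain ⟨c23, hc23⟩ := T.w_dvd (v 2) (v 3)
  rw [← hs 0 1] at hq1
  rw [← hs 0 2] at hq2
  rw [← hs 0 3] at hq3
  have hA1 : 0 < T.a (v 0) (v 1) := lt_of_le_of_ne (hnn 0 1 (by decide)) (Ne.symm h01)
  have hA2 : 0 < T.a (v 0) (v 2) := lt_of_le_of_ne (hnn 0 2 (by decide)) (Ne.symm h02)
  have hA3 : 0 < T.a (v 0) (v 3) := lt_of_le_of_ne (hnn 0 3 (by decide)) (Ne.symm h03)
  have hB12 := hnn 1 2 (by decide)
  have hB13 := hnn 1 3 (by decide)
  have hB23 := hnn 2 3 (by decide)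
  have hw0 := hw 0
  have hw1 := hw 1
  have hw2 := hw 2
  have hw3 := hw 3
  have pos_of : ∀ a b : ℤ, 0 < a → 0 < a * b → 1 ≤ b := by
    intro a b ha hab
    by_contra hb
    push Not at hb
    have : b ≤ 0 := by omega
    nlinarith
  have hp1' : 1 ≤ p1 := pos_of _ _ hw0 (hp1 ▸ hA1)
  have hp2' : 1 ≤ p2 := pos_of _ _ hw0 (hp2 ▸ hA2)
  have hp3' : 1 ≤ p3 := pos_of _ _ hw0 (hp3 ▸ hA3)
  have hq1' : 1 ≤ q1 := pos_of _ _ hw1 (hq1 ▸ hA1)
  have hq2' : 1 ≤ q2 := pos_of _ _ hw2 (hq2 ▸ hA2)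
  have hq3' : 1 ≤ q3 := pos_of _ _ hw3 (hq3 ▸ hA3)
  have key := quad_neg_emb T v hn ![2, q1, q2, q3] (by intro h; have := congrFun h 0; simp at this)
  simp only [Fin.sum_univ_succ, Fin.sum_univ_zero, Matrix.cons_val_zero, Matrix.cons_val_succ,
    Fin.succ_zero_eq_one, Fin.succ_one_eq_two, add_zero] at key
  simp at key
  rw [hs 1 0, hs 2 0, hs 3 0, hs 2 1, hs 3 1, hs 3 2, hd 0, hd 1, hd 2, hd 3] at key
  set A1 := T.a (v 0) (v 1) with hA1def
  set A2 := T.a (v 0) (v 2) with hA2def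
  set A3 := T.a (v 0) (v 3) with hA3def
  set B12 := T.a (v 1) (v 2) with hB12def
  set B13 := T.a (v 1) (v 3) with hB13def
  set B23 := T.a (v 2) (v 3) with hB23def
  set w0 := T.w (v 0) with hw0def
  set w1 := T.w (v 1) with hw1def
  set w2 := T.w (v 2) with hw2def
  set w3 := T.w (v 3) with hw3def
  have e1 : w1 * q1 * q1 = A1 * q1 := by rw [hq1]
  have e2 : w2 * q2 * q2 = A2 * q2 := by rw [hq2]
  have e3 : w3 * q3 * q3 = A3 * q3 := by rw [hq3]
  have f1 : A1 * q1 = w0 * (p1 * q1) := by rw [hp1]; ring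
  have f2 : A2 * q2 = w0 * (p2 * q2) := by rw [hp2]; ring
  have f3 : A3 * q3 = w0 * (p3 * q3) := by rw [hp3]; ring
  have g12 : 0 ≤ B12 * q1 * q2 := by positivity
  have g13 : 0 ≤ B13 * q1 * q3 := by positivity
  have g23 : 0 ≤ B23 * q2 * q3 := by positivity
  have hS0 : w0 * (p1 * q1 + p2 * q2 + p3 * q3 - 4) + (B12 * q1 * q2 + B13 * q1 * q3 + B23 * q2 * q3) < 0 := by
    nlinarith
  have hS : p1 * q1 + p2 * q2 + p3 * q3 < 4 := by
    by_contra hcon
    push Not at hcon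
    nlinarith
  have k1 : 1 ≤ p1 * q1 := by nlinarith
  have k2 : 1 ≤ p2 * q2 := by nlinarith
  have k3 : 1 ≤ p3 * q3 := by nlinarith
  have one_of : ∀ a b : ℤ, 1 ≤ a → 1 ≤ b → a * b ≤ 1 → a = 1 ∧ b = 1 := by
    intro a b ha hb hab
    have : a + b ≤ 2 := by nlinarith
    constructor <;> omega
  obtain ⟨rfl, rfl⟩ := one_of p1 q1 hp1' hq1' (by linarith)
  obtain ⟨rfl, rfl⟩ := one_of p2 q2 hp2' hq2' (by linarith)
  obtain ⟨rfl, rfl⟩ := one_of p3 q3 hp3' hq3' (by linarith)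
  simp only [mul_one] at *
  have hw1e : w1 = w0 := by rw [← hq1, hp1]
  have hw2e : w2 = w0 := by rw [← hq2, hp2]
  have hw3e : w3 = w0 := by rw [← hq3, hp3]
  have hB : B12 + B13 + B23 < w0 := by linarith
  have zero_of : ∀ c : ℤ, 0 ≤ w0 * c → w0 * c < w0 → w0 * c = 0 := by
    intro c h1 h2
    have hc0 : 0 ≤ c := by
      by_contra hc
      push Not at hc
      nlinarith
    have hc1 : c < 1 := by
      by_contra hc
      push Not at hc
      nlinarith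
    have : c = 0 := by omega
    rw [this, mul_zero]
  rw [hw1e] at hc12 hc13
  rw [hw2e] at hc23
  have hB12z : B12 = 0 := by rw [hc12]; exact zero_of c12 (hc12 ▸ hB12) (by rw [← hc12]; linarith)
  have hB13z : B13 = 0 := by rw [hc13]; exact zero_of c13 (hc13 ▸ hB13) (by rw [← hc13]; linarith)
  have hB23z : B23 = 0 := by rw [hc23]; exact zero_of c23 (hc23 ▸ hB23) (by rw [← hc23]; linarith)
  -- multiplicities
  have r0 := row_le T (v 0) {v 1, v 2, v 3} (by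
    simp only [Finset.mem_insert, Finset.mem_singleton, not_or]
    exact ⟨hne 0 1 (by decide), hne 0 2 (by decide), hne 0 3 (by decide)⟩)
  rw [Finset.sum_insert (by
      simp only [Finset.mem_insert, Finset.mem_singleton, not_or]
      exact ⟨hne 1 2 (by decide), hne 1 3 (by decide)⟩),
    Finset.sum_insert (by
      simp only [Finset.mem_singleton]
      exact hne 2 3 (by decide)), Finset.sum_singleton, hd 0] at r0
  have r1 := row_le T (v 1) {v 0} (by simp only [Finset.mem_singleton]; exact hne 1 0 (by decide))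
  have r2 := row_le T (v 2) {v 0} (by simp only [Finset.mem_singleton]; exact hne 2 0 (by decide))
  have r3 := row_le T (v 3) {v 0} (by simp only [Finset.mem_singleton]; exact hne 3 0 (by decide))
  rw [Finset.sum_singleton, hs 1 0, hd 1] at r1
  rw [Finset.sum_singleton, hs 2 0, hd 2] at r2
  rw [Finset.sum_singleton, hs 3 0, hd 3] at r3
  refine ⟨w0, ?_, hp1, hp2, hp3, hB12z, hB13z, hB23z, ?_, ?_, ?_, ?_⟩
  · intro j
    fin_cases j
    · rfl
    · exact hw1e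
    · exact hw2e
    · exact hw3e
  · rw [← hA1def, ← hA2def, ← hA3def, hp1, hp2, hp3] at r0
    have : w0 * (T.m (v 1) + T.m (v 2) + T.m (v 3)) ≤ w0 * (2 * T.m (v 0)) := by linarith
    exact le_of_mul_le_mul_left this hw0
  · rw [← hA1def, hp1, ← hw1def, hw1e] at r1
    have : w0 * T.m (v 0) ≤ w0 * (2 * T.m (v 1)) := by linarith
    exact le_of_mul_le_mul_left this hw0
  · rw [← hA2def, hp2, ← hw2def, hw2e] at r2
    have : w0 * T.m (v 0) ≤ w0 * (2 * T.m (v 2)) := by linarith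
    exact le_of_mul_le_mul_left this hw0
  · rw [← hA3def, hp3, ← hw3def, hw3e] at r3
    have : w0 * T.m (v 0) ≤ w0 * (2 * T.m (v 3)) := by linarith
    exact le_of_mul_le_mul_left this hw0

end Groth.Agent.S7346
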