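import Groth.Statements.S8804
import Groth.Agent.H3.RigClosed

set_option autoImplicit false
universe u
open AdicRing

namespace Groth.Agent.S8804

/-- Let A be a Noetherian ring which is complete for the adic topology of an ideal I, and let q be a
prime ideal of A. The following are equivalent: (1) I ⊄ q and q is maximal among the primes not
containing I; (5) dim(A/q) = 1 and I ⊄ q; (8) A/q is a one-dimensional complete local ring whose
maximal ideal is the radical of the image of I (stated as: the Krull dimension of A/q is 1, every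
maximal ideal of A/q equals the radical of I(A/q), and A/q is adically complete for that radical).
(The other equivalent forms, for other ideals of definition or for the induced topology, are not
stated.) -/
theorem result (A : Type u) [CommRing A] [IsNoetherianRing A] (I : Ideal A) [IsAdicComplete I A] (q : PrimeSpectrum A) : List.TFAE [¬ I ≤ q.asIdeal ∧ ∀ q' : PrimeSpectrum A, q ≤ q' → ¬ I ≤ q'.asIdeal → q' = q, ringKrullDim (A ⧸ q.asIdeal) = 1 ∧ ¬ I ≤ q.asIdeal, ringKrullDim (A ⧸ q.asIdeal) = 1 ∧ (∀ m : Ideal (A ⧸ q.asIdeal), m.IsMaximal → m = (I.map (Ideal.Quotient.mk q.asIdeal)).radical) ∧ IsAdicComplete (I.map (Ideal.Quotient.mk q.asIdeal)).radical (A ⧸ q.asIdeal)] := by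
  classical
  have hsurj : Function.Surjective (Ideal.Quotient.mk q.asIdeal) := Ideal.Quotient.mk_surjective
  haveI hcomp : IsAdicComplete (I.map (Ideal.Quotient.mk q.asIdeal)) (A ⧸ q.asIdeal) := by
    have h1 : IsAdicComplete I (A ⧸ q.asIdeal) := H26.isAdicComplete_of_finite I _
    exact (IsAdicComplete.map_algebraMap_iff (I := I) (M := A ⧸ q.asIdeal)
      (S := A ⧸ q.asIdeal)).mpr h1
  have hJbot : I.map (Ideal.Quotient.mk q.asIdeal) = ⊥ ↔ I ≤ q.asIdeal := by
    rw [Ideal.map_eq_bot_iff_le_ker, Ideal.mk_ker]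
  tfae_have 1 → 3 := by
    rintro ⟨hI, hmax⟩
    have hJ0 : I.map (Ideal.Quotient.mk q.asIdeal) ≠ ⊥ := fun h => hI (hJbot.mp h)
    have hall : ∀ P : Ideal (A ⧸ q.asIdeal), P.IsPrime → P ≠ ⊥ →
        I.map (Ideal.Quotient.mk q.asIdeal) ≤ P := by
      intro P hP hP0
      by_contra hJP
      have hIP : ¬ I ≤ P.comap (Ideal.Quotient.mk q.asIdeal) :=
        fun h => hJP (Ideal.map_le_iff_le_comap.mpr h)
      have hle : q ≤ ⟨P.comap (Ideal.Quotient.mk q.asIdeal), inferInstance⟩ := by
        show q.asIdeal ≤ P.comap _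
        intro z hz
        rw [Ideal.mem_comap, Ideal.Quotient.eq_zero_iff_mem.mpr hz]
        exact P.zero_mem
      have hq' := hmax ⟨P.comap (Ideal.Quotient.mk q.asIdeal), inferInstance⟩ hle hIP
      apply hP0
      have h1 : P.comap (Ideal.Quotient.mk q.asIdeal) = q.asIdeal :=
        congrArg PrimeSpectrum.asIdeal hq'
      rw [← Ideal.map_comap_of_surjective _ hsurj P, h1, Ideal.map_quotient_self]
    obtain ⟨h1, h2⟩ := Groth.Agent.H3.RigClosed.aux _ hJ0 hall
    obtain ⟨N, hN⟩ := Ideal.exists_radical_pow_le_of_fg (I.map (Ideal.Quotient.mk q.asIdeal))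
      (IsNoetherian.noetherian _)
    exact ⟨h1, h2, H26.isAdicComplete_of_le_of_pow_le _ Ideal.le_radical N hN⟩
  tfae_have 3 → 2 := by
    rintro ⟨hdim, hmax, -⟩
    refine ⟨hdim, fun hI => ?_⟩
    have hJ0 : I.map (Ideal.Quotient.mk q.asIdeal) = ⊥ := hJbot.mpr hI
    obtain ⟨m, hm⟩ := Ideal.exists_maximal (A ⧸ q.asIdeal)
    have hm0 : m = ⊥ := by rw [hmax m hm, hJ0, Ideal.radical_bot_of_isReduced]
    have hfield : IsField (A ⧸ q.asIdeal) := Ring.isField_iff_maximal_bot.mpr (hm0 ▸ hm)
    rw [ringKrullDim_eq_zero_of_isField hfield] at hdim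
    exact zero_ne_one hdim
  tfae_have 2 → 1 := by
    rintro ⟨hdim, hI⟩
    refine ⟨hI, fun q' hqq' hIq' => ?_⟩
    by_contra hne
    have hqq'' : q.asIdeal ≤ q'.asIdeal := hqq'
    have hlt : q.asIdeal < q'.asIdeal :=
      lt_of_le_of_ne hqq'' (fun h => hne (PrimeSpectrum.ext h.symm))
    have hker : RingHom.ker (Ideal.Quotient.mk q.asIdeal) ≤ q'.asIdeal := by
      rw [Ideal.mk_ker]; exact hqq''
    haveI hPp : (q'.asIdeal.map (Ideal.Quotient.mk q.asIdeal)).IsPrime :=
      Ideal.map_isPrime_of_surjective hsurj hker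
    have hP0 : q'.asIdeal.map (Ideal.Quotient.mk q.asIdeal) ≠ ⊥ := by
      intro h
      rw [Ideal.map_eq_bot_iff_le_ker, Ideal.mk_ker] at h
      exact absurd h (not_le_of_gt hlt)
    have hKD : Ring.KrullDimLE 1 (A ⧸ q.asIdeal) :=
      Ring.krullDimLE_iff.mpr (by rw [hdim]; rfl)
    haveI hPmax := Ring.krullDimLE_one_iff_of_noZeroDivisors.mp hKD _ hP0 hPp
    have hcm : (q'.asIdeal.map (Ideal.Quotient.mk q.asIdeal)).comap
        (Ideal.Quotient.mk q.asIdeal) = q'.asIdeal := by
      rw [Ideal.comap_map_of_surjective _ hsurj, ← RingHom.ker_eq_comap_bot, sup_eq_left.mpr hker]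
    have hq'max : q'.asIdeal.IsMaximal :=
      hcm ▸ Ideal.comap_isMaximal_of_surjective _ hsurj
    exact hIq' ((IsAdicComplete.le_jacobson_bot I).trans (sInf_le ⟨bot_le, hq'max⟩))
  tfae_finish

end Groth.Agent.S8804
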