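import Groth.Statements.S12286
import Mathlib

set_option autoImplicit false
universe u w m
open scoped TensorProduct
open DefT

namespace Groth.Agent.S12286


/-- Let A → B be a ring homomorphism, P a presentation of B over A and M a B-module. The canonical
B-linear map from the A-derivations Der_A(B, M) = Hom_B(Ω_{B/A}, M) to T^0(B/A, M) (the kernel of
Hom_B(L₀, M) → Hom_B(L₁, M), L₀ = B ⊗_R Ω_{R/A}), sending a derivation D to b ⊗ dr ↦ b·D(r̄), is
bijective. -/
theorem result
    (A B : Type u) [CommRing A] [CommRing B] [Algebra A B] (ι σ : Type w) (P : Algebra.Presentation A B ι σ)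
    (M : Type m) [AddCommGroup M] [Module B M] [Module A M] [IsScalarTower A B M] :
    Function.Bijective (CotT.derToT0 P M) := by
  constructor
  · rw [injective_iff_map_eq_zero]
    intro D hD
    have h1 : ∀ i, D (P.val i) = 0 := by
      intro i
      rw [← CotT.derLift_basis P M D i, ← CotT.derToT0_apply, hD]
      rfl
    apply Derivation.ext_of_adjoin_eq_top (Set.range P.val)
    · rw [Algebra.adjoin_range_eq_range_aeval]
      rw [AlgHom.range_eq_top]
      exact P.aeval_val_surjective
    · rintro _ ⟨i, rfl⟩
      rw [h1 i]; rfl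
  · rintro ⟨φ, hφ⟩
    rw [LinearMap.mem_ker, CotT.d1Star_apply] at hφ
    -- φ kills the image of the cotangent complex
    have h1 : ∀ c, φ (P.toExtension.cotangentComplex c) = 0 := by
      intro c
      obtain ⟨⟨r, hr⟩, rfl⟩ := Algebra.Extension.Cotangent.mk_surjective c
      have hr' : r ∈ LinearMap.range (CotT.jmap P) := by
        rw [CotT.range_jmap]; exact hr
      obtain ⟨f, rfl⟩ := hr'
      have : P.toExtension.cotangentComplex (Algebra.Extension.Cotangent.mk ⟨CotT.jmap P f, hr⟩) =
          CotT.d1 P ((1 : B) ⊗ₜ f) := by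
        rw [CotT.d1, LinearMap.comp_apply, CotT.toCot_tmul, one_smul]
        rfl
      rw [this, ← LinearMap.comp_apply, hφ, LinearMap.zero_apply]
    have h2 : LinearMap.ker P.toExtension.toKaehler ≤ LinearMap.ker φ := by
      intro x hx
      rw [LinearMap.mem_ker] at hx
      obtain ⟨c, rfl⟩ := (P.toExtension.exact_cotangentComplex_toKaehler x).1 hx
      exact h1 c
    let ψ : Ω[B⁄A] →ₗ[B] M :=
      ((LinearMap.ker P.toExtension.toKaehler).liftQ φ h2) ∘ₗ
        (LinearMap.quotKerEquivOfSurjective _ P.toExtension.toKaehler_surjective).symm.toLinearMap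
    have hψ : ∀ x, ψ (P.toExtension.toKaehler x) = φ x := by
      intro x
      have : (LinearMap.quotKerEquivOfSurjective _ P.toExtension.toKaehler_surjective).symm
          (P.toExtension.toKaehler x) = Submodule.Quotient.mk x := by
        rw [LinearEquiv.symm_apply_eq]
        rfl
      simp only [ψ, LinearMap.comp_apply, LinearEquiv.coe_coe, this, Submodule.liftQ_apply]
    refine ⟨ψ.compDer (KaehlerDifferential.D A B), ?_⟩
    apply Subtype.ext
    apply (P.cotangentSpaceBasis).ext
    intro i
    rw [CotT.derToT0_apply, CotT.derLift_basis]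
    change ψ (KaehlerDifferential.D A B (P.val i)) = φ (P.cotangentSpaceBasis i)
    rw [← hψ, Algebra.Generators.toKaehler_cotangentSpaceBasis]

end Groth.Agent.S12286
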