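import Groth.Statements.S12289
import Mathlib

set_option autoImplicit false
universe u w m
open scoped TensorProduct
open DefT

namespace Groth.Agent.S12289

section
variable {A B : Type u} [CommRing A] [CommRing B] [Algebra A B] {ι σ : Type w}
  (P : Algebra.Presentation A B ι σ)

lemma toCot_surjective : Function.Surjective (CotT.toCot P) := by
  intro c
  obtain ⟨⟨r, hr⟩, rfl⟩ := Algebra.Extension.Cotangent.mk_surjective c
  have hr' : r ∈ LinearMap.range (CotT.jmap P) := by
    rw [CotT.range_jmap]; exact hr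
  obtain ⟨f, rfl⟩ := hr'
  refine ⟨(1 : B) ⊗ₜ f, ?_⟩
  rw [CotT.toCot_tmul, one_smul]
  rfl

lemma exists_one_tmul (x : CotT.L1 P) : ∃ f : CotT.relMod P, x = (1 : B) ⊗ₜ f := by
  induction x using TensorProduct.induction_on with
  | zero => exact ⟨0, (TensorProduct.tmul_zero _ _).symm⟩
  | tmul b f =>
    obtain ⟨r, rfl⟩ : ∃ r : P.toExtension.Ring, algebraMap P.toExtension.Ring B r = b :=
      P.algebraMap_surjective b
    refine ⟨r • f, ?_⟩
    rw [← TensorProduct.smul_tmul, Algebra.smul_def, mul_one]
  | add x y hx hy =>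
    obtain ⟨f, rfl⟩ := hx
    obtain ⟨g, rfl⟩ := hy
    exact ⟨f + g, (TensorProduct.tmul_add _ _ _).symm⟩

lemma exists_of_mem_sq (y : P.toExtension.Ring) (hy : y ∈ P.toExtension.ker ^ 2) :
    ∃ g : CotT.relMod P, CotT.jmap P g = y ∧ (1 : B) ⊗ₜ[P.toExtension.Ring] g = (0 : CotT.L1 P) := by
  rw [pow_two] at hy
  induction hy using Submodule.mul_induction_on' with
  | mem_mul_mem a ha b hb =>
    have hb' : b ∈ LinearMap.range (CotT.jmap P) := by
      rw [CotT.range_jmap]; exact hb
    obtain ⟨h, rfl⟩ := hb'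
    refine ⟨a • h, by rw [map_smul, smul_eq_mul], ?_⟩
    have ha0 : algebraMap P.toExtension.Ring B a = 0 := ha
    rw [← TensorProduct.smul_tmul, Algebra.smul_def, ha0, zero_mul, TensorProduct.zero_tmul]
  | add x hx y hy h1 h2 =>
    obtain ⟨g1, e1, z1⟩ := h1
    obtain ⟨g2, e2, z2⟩ := h2
    exact ⟨g1 + g2, by rw [map_add, e1, e2], by rw [TensorProduct.tmul_add, z1, z2, add_zero]⟩

lemma ker_toCot_le_range_d2 : LinearMap.ker (CotT.toCot P) ≤ LinearMap.range (CotT.d2 P) := by
  intro x hx
  obtain ⟨f, rfl⟩ := exists_one_tmul P x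
  rw [LinearMap.mem_ker, CotT.toCot_tmul, one_smul, Algebra.Extension.Cotangent.mk_eq_zero_iff] at hx
  obtain ⟨g, hg, hg0⟩ := exists_of_mem_sq P _ hx
  have hq : f - g ∈ CotT.relKer P := by
    change CotT.jmap P (f - g) = 0
    rw [map_sub, hg]
    exact sub_self _
  refine ⟨Submodule.Quotient.mk ((1 : B) ⊗ₜ (⟨f - g, hq⟩ : CotT.relKer P)), ?_⟩
  rw [CotT.d2_mk_tmul]
  change (1 : B) ⊗ₜ[P.toExtension.Ring] (f - g) = _
  rw [TensorProduct.tmul_sub, hg0, sub_zero]

end

/-- Let k be a commutative ring and B a k-algebra presented as R/I with R = k[x_i] a polynomial ring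
(any set of variables) and chosen generators of I, and let M be a B-module; T^0(B/k, M) and T^1(B/k,
M) are computed from this presentation. Then the sequence 0 → T^0(B/k, M) → Hom_B(Ω_{R/k} ⊗_R B, M)
→ Hom_B(I/I², M) → T^1(B/k, M) → 0 is exact, where the middle map is composition with the conormal
map d : I/I² → Ω_{R/k} ⊗_R B and the last map sends φ to the class of φ ∘ (F/IF → I/I²): the
submodule T^0(B/k, M) of Hom_B(Ω_{R/k} ⊗ B, M) is the kernel of composition with d, the kernel of
Hom_B(I/I², M) → T^1(B/k, M) is the image of composition with d, and Hom_B(I/I², M) → T^1(B/k, M) is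
surjective. (The published statement takes finitely many variables over a field and adds that the
same holds over any base ring; this row allows any base ring and any set of variables.) -/
theorem result
    (k B : Type u) [CommRing k] [CommRing B] [Algebra k B] (ι σ : Type w) (P : Algebra.Presentation k B ι σ)
    (M : Type m) [AddCommGroup M] [Module B M] :
    LinearMap.ker (CotT.d1Star P M) = LinearMap.ker (LinearMap.lcomp B M P.toExtension.cotangentComplex) ∧
    LinearMap.ker (CotT.homToT1 P M) = LinearMap.range (LinearMap.lcomp B M P.toExtension.cotangentComplex) ∧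
    Function.Surjective (CotT.homToT1 P M) := by
  refine ⟨?_, ?_, ?_⟩
  · ext φ
    rw [LinearMap.mem_ker, LinearMap.mem_ker, CotT.d1Star_apply, LinearMap.lcomp_apply']
    constructor
    · intro h
      ext c
      obtain ⟨x, rfl⟩ := toCot_surjective P c
      have := congrArg (fun f => f x) h
      exact this
    · intro h
      rw [CotT.d1, ← LinearMap.comp_assoc, h, LinearMap.zero_comp]
  · ext φ
    rw [LinearMap.mem_ker, LinearMap.mem_range]
    change (CotT.coboundaries1 P M).mkQ _ = 0 ↔ _
    rw [Submodule.mkQ_apply, Submodule.Quotient.mk_eq_zero]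
    change (φ ∘ₗ CotT.toCot P) ∈ LinearMap.range (CotT.d1Star P M) ↔ _
    rw [LinearMap.mem_range]
    constructor
    · rintro ⟨ψ, hψ⟩
      refine ⟨ψ, ?_⟩
      rw [LinearMap.lcomp_apply']
      ext c
      obtain ⟨x, rfl⟩ := toCot_surjective P c
      have := congrArg (fun f => f x) hψ
      exact this
    · rintro ⟨ψ, hψ⟩
      refine ⟨ψ, ?_⟩
      rw [LinearMap.lcomp_apply'] at hψ
      rw [CotT.d1Star_apply, CotT.d1, ← LinearMap.comp_assoc, hψ]
  · intro t
    obtain ⟨⟨c, hc⟩, rfl⟩ := Submodule.Quotient.mk_surjective _ t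
    have hc' : c ∘ₗ CotT.d2 P = 0 := by
      have := hc
      rw [LinearMap.mem_ker, CotT.d2Star_apply] at this
      exact this
    have h2 : LinearMap.ker (CotT.toCot P) ≤ LinearMap.ker c := by
      intro x hx
      obtain ⟨y, rfl⟩ := ker_toCot_le_range_d2 P hx
      rw [LinearMap.mem_ker, ← LinearMap.comp_apply, hc', LinearMap.zero_apply]
    let φ : P.toExtension.Cotangent →ₗ[B] M :=
      ((LinearMap.ker (CotT.toCot P)).liftQ c h2) ∘ₗ
        (LinearMap.quotKerEquivOfSurjective _ (toCot_surjective P)).symm.toLinearMap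
    have hφ : ∀ x, φ (CotT.toCot P x) = c x := by
      intro x
      have : (LinearMap.quotKerEquivOfSurjective _ (toCot_surjective P)).symm
          (CotT.toCot P x) = Submodule.Quotient.mk x := by
        rw [LinearEquiv.symm_apply_eq]
        rfl
      simp only [φ, LinearMap.comp_apply, LinearEquiv.coe_coe, this, Submodule.liftQ_apply]
    refine ⟨φ, ?_⟩
    change (CotT.coboundaries1 P M).mkQ _ = _
    rw [Submodule.mkQ_apply]
    congr 1
    apply Subtype.ext
    ext x
    exact hφ x

end Groth.Agent.S12289
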