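import Groth.Statements.S5818
import Groth.Agent.Helper1.Exal

set_option autoImplicit false
universe u v
open EGA41

namespace Groth.Agent.S5818

attribute [local instance] Exal.opModule Exal.isCentralScalar_opModule

open Groth.Agent.Helper1.ExalAux

/-- Commutative rings, exactness at Exalcom_B(C, L) on underlying pointed sets. For ring maps A → B → C
and a C-module L, a B-extension of C by L is A-trivial if and only if it is equivalent to the
extension attached to some A-derivation B → L. -/
theorem result {A : Type u} {B C L : Type v} [CommRing A] [CommRing B] [CommRing C]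
    [Algebra A B] [Algebra B C] [Algebra A C] [IsScalarTower A B C]
    [AddCommGroup L] [Module C L] [Module B L] [IsScalarTower B C L] [Module A L] [IsScalarTower A B L]
    [IsScalarTower A C L]
    (X : Exal.Ext B C L) :
    X.IsTrivialOver A ↔
      ∃ D : Derivation A B L, Nonempty (X.Equiv (Exal.Ext.ofDerivation (C := C) D)) := by
  constructor
  · rintro ⟨s, hs⟩
    let s' : C → X.E := fun c => s c
    have hs' : ∀ c, X.proj (s' c) = c := hs
    have hs_add : ∀ c c', s' (c + c') = s' c + s' c' := fun c c' => map_add s c c'
    have hs_mul : ∀ c c', s' (c * c') = s' c * s' c' := fun c c' => map_mul s c c'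
    have hs_one : s' 1 = 1 := map_one s
    have hs_zero : s' 0 = 0 := map_zero s
    have hs_alg : ∀ a : A, s' (algebraMap A C a) = algebraMap B X.E (algebraMap A B a) :=
      fun a => s.commutes a
    have hinj := X.isExtension.incl_injective
    have hk : ∀ b : B, X.proj (algebraMap B X.E b - s' (algebraMap B C b)) = 0 := by
      intro b; rw [map_sub, hs', AlgHom.commutes, sub_self]
    let δ : B → L := fun b => X.kerLift _ (hk b)
    have hδ : ∀ b, X.incl (δ b) = algebraMap B X.E b - s' (algebraMap B C b) := fun b =>
      Exal.Ext.incl_kerLift _ _ _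
    have hleib : ∀ b b' : B, δ (b * b') = b • δ b' + b' • δ b := by
      intro b b'
      apply hinj
      rw [map_add, hδ]
      have h1 : X.incl (b • δ b') = algebraMap B X.E b * X.incl (δ b') := by
        rw [X.isExtension.mul_incl, AlgHom.commutes, algebraMap_smul]
      have h2 : X.incl (b' • δ b) = s' (algebraMap B C b') * X.incl (δ b) := by
        rw [X.isExtension.mul_incl, hs', algebraMap_smul]
      rw [h1, h2, hδ, hδ, map_mul, map_mul, hs_mul]
      ring
    let δl : B →ₗ[A] L :=
      { toFun := δ
        map_add' := fun b b' => by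
          apply hinj
          rw [map_add, hδ, hδ, hδ, map_add, map_add, hs_add]; abel
        map_smul' := fun a b => by
          apply hinj
          rw [RingHom.id_apply, hδ, Algebra.smul_def, map_mul, map_mul, hs_mul,
            ← IsScalarTower.algebraMap_apply A B C, hs_alg, ← mul_sub, ← hδ,
            X.isExtension.mul_incl, AlgHom.commutes, algebraMap_smul, algebraMap_smul] }
    let D : Derivation A B L := Derivation.mk' δl hleib
    have hD : ∀ b, D b = δ b := fun b => rfl
    refine ⟨D, ⟨Exal.Ext.Equiv.symm ?_⟩⟩
    -- the algebra map from the derivation extension to `X`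
    let φ : (Exal.Ext.ofDerivation (C := C) D).E →ₐ[B] X.E :=
      { toFun := fun x => s' (TrivSqZeroExt.fst (x : TrivSqZeroExt C L)) +
          X.incl (TrivSqZeroExt.snd (x : TrivSqZeroExt C L))
        map_one' := by
          change s' (TrivSqZeroExt.fst (1 : TrivSqZeroExt C L)) +
            X.incl (TrivSqZeroExt.snd (1 : TrivSqZeroExt C L)) = 1
          rw [TrivSqZeroExt.fst_one, TrivSqZeroExt.snd_one, hs_one, map_zero, add_zero]
        map_mul' := fun x y => by
          have key : ∀ x y : TrivSqZeroExt C L, s' (TrivSqZeroExt.fst (x * y)) +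
              X.incl (TrivSqZeroExt.snd (x * y)) =
              (s' (TrivSqZeroExt.fst x) + X.incl (TrivSqZeroExt.snd x)) *
                (s' (TrivSqZeroExt.fst y) + X.incl (TrivSqZeroExt.snd y)) := by
            intro x y
            rw [TrivSqZeroExt.fst_mul, TrivSqZeroExt.snd_mul, hs_mul, map_add]
            have h1 : X.incl (TrivSqZeroExt.fst x • TrivSqZeroExt.snd y) =
                s' (TrivSqZeroExt.fst x) * X.incl (TrivSqZeroExt.snd y) := by
              rw [X.isExtension.mul_incl, hs']
            have h2 : X.incl (MulOpposite.op (TrivSqZeroExt.fst y) • TrivSqZeroExt.snd x) =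
                s' (TrivSqZeroExt.fst y) * X.incl (TrivSqZeroExt.snd x) := by
              rw [X.isExtension.mul_incl, hs']; rfl
            rw [h1, h2]
            have h3 := incl_mul_incl X (TrivSqZeroExt.snd x) (TrivSqZeroExt.snd y)
            linear_combination (-1 : X.E) * h3
          exact key x y
        map_zero' := by
          change s' (TrivSqZeroExt.fst (0 : TrivSqZeroExt C L)) +
            X.incl (TrivSqZeroExt.snd (0 : TrivSqZeroExt C L)) = 0
          rw [TrivSqZeroExt.fst_zero, TrivSqZeroExt.snd_zero, hs_zero, map_zero, add_zero]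
        map_add' := fun x y => by
          have key : ∀ x y : TrivSqZeroExt C L, s' (TrivSqZeroExt.fst (x + y)) +
              X.incl (TrivSqZeroExt.snd (x + y)) =
              (s' (TrivSqZeroExt.fst x) + X.incl (TrivSqZeroExt.snd x)) +
                (s' (TrivSqZeroExt.fst y) + X.incl (TrivSqZeroExt.snd y)) := by
            intro x y
            rw [TrivSqZeroExt.fst_add, TrivSqZeroExt.snd_add, hs_add, map_add]; abel
          exact key x y
        commutes' := fun b => by
          change s' (TrivSqZeroExt.fst (TrivSqZeroExt.inl (algebraMap B C b) + TrivSqZeroExt.inr (D b) :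
            TrivSqZeroExt C L)) + X.incl (TrivSqZeroExt.snd
              (TrivSqZeroExt.inl (algebraMap B C b) + TrivSqZeroExt.inr (D b) : TrivSqZeroExt C L)) = _
          simp only [TrivSqZeroExt.fst_add, TrivSqZeroExt.fst_inl, TrivSqZeroExt.fst_inr, add_zero,
            TrivSqZeroExt.snd_add, TrivSqZeroExt.snd_inl, TrivSqZeroExt.snd_inr, zero_add]
          rw [hD, hδ]; abel }
    have hφ : ∀ x : (Exal.Ext.ofDerivation (C := C) D).E,
        φ x = s' (TrivSqZeroExt.fst (x : TrivSqZeroExt C L)) +
          X.incl (TrivSqZeroExt.snd (x : TrivSqZeroExt C L)) := fun x => rfl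
    have hbij : Function.Bijective φ := by
      constructor
      · rw [injective_iff_map_eq_zero]
        intro x hx
        rw [hφ] at hx
        have h1 : TrivSqZeroExt.fst (x : TrivSqZeroExt C L) = 0 := by
          have := congrArg X.proj hx
          rwa [map_add, hs', proj_incl, add_zero, map_zero] at this
        rw [h1, hs_zero, zero_add] at hx
        have h2 : TrivSqZeroExt.snd (x : TrivSqZeroExt C L) = 0 := hinj (hx.trans (map_zero _).symm)
        exact TrivSqZeroExt.ext h1 h2
      · intro y
        have hy : X.proj (y - s' (X.proj y)) = 0 := by rw [map_sub, hs', sub_self]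
        refine ⟨(TrivSqZeroExt.inl (X.proj y) + TrivSqZeroExt.inr (X.kerLift _ hy) :
          TrivSqZeroExt C L), ?_⟩
        refine (hφ _).trans ?_
        simp only [TrivSqZeroExt.fst_add, TrivSqZeroExt.fst_inl, TrivSqZeroExt.fst_inr, add_zero,
            TrivSqZeroExt.snd_add, TrivSqZeroExt.snd_inl, TrivSqZeroExt.snd_inr, zero_add]
        rw [Exal.Ext.incl_kerLift]; abel
    exact
      { toAlgEquiv := AlgEquiv.ofBijective φ hbij
        proj_apply := fun x => by
          change X.proj (φ x) = TrivSqZeroExt.fst (x : TrivSqZeroExt C L)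
          rw [hφ, map_add, hs', proj_incl, add_zero]
        apply_incl := fun z => by
          change φ (TrivSqZeroExt.inr z : TrivSqZeroExt C L) = X.incl z
          refine (hφ _).trans ?_
          rw [TrivSqZeroExt.fst_inr, TrivSqZeroExt.snd_inr, hs_zero, zero_add] }
  · rintro ⟨D, ⟨e⟩⟩
    -- the section `c ↦ e⁻¹ (c, 0)`
    let ι : C →+* TrivSqZeroExt C L := TrivSqZeroExt.inlHom C L
    refine ⟨{ toFun := fun c => e.toAlgEquiv.symm (TrivSqZeroExt.inl c : TrivSqZeroExt C L)
              map_one' := ?_, map_mul' := ?_, map_zero' := ?_, map_add' := ?_, commutes' := ?_ }, ?_⟩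
    · change e.toAlgEquiv.symm (1 : (Exal.Ext.ofDerivation (C := C) D).E) = 1
      exact map_one _
    · intro c c'
      change e.toAlgEquiv.symm ((TrivSqZeroExt.inl (c * c') : TrivSqZeroExt C L)) = _
      rw [TrivSqZeroExt.inl_mul]
      exact map_mul e.toAlgEquiv.symm (TrivSqZeroExt.inl c : TrivSqZeroExt C L)
        (TrivSqZeroExt.inl c' : TrivSqZeroExt C L)
    · change e.toAlgEquiv.symm ((TrivSqZeroExt.inl 0 : TrivSqZeroExt C L)) = 0
      rw [TrivSqZeroExt.inl_zero]
      exact map_zero e.toAlgEquiv.symm
    · intro c c'
      change e.toAlgEquiv.symm ((TrivSqZeroExt.inl (c + c') : TrivSqZeroExt C L)) = _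
      rw [TrivSqZeroExt.inl_add]
      exact map_add e.toAlgEquiv.symm (TrivSqZeroExt.inl c : TrivSqZeroExt C L)
        (TrivSqZeroExt.inl c' : TrivSqZeroExt C L)
    · intro a
      change e.toAlgEquiv.symm ((TrivSqZeroExt.inl (algebraMap A C a) : TrivSqZeroExt C L)) =
        algebraMap B X.E (algebraMap A B a)
      rw [← e.toAlgEquiv.symm.commutes (algebraMap A B a)]
      congr 1
      change _ = (TrivSqZeroExt.inl (algebraMap B C (algebraMap A B a)) +
        TrivSqZeroExt.inr (D (algebraMap A B a)) : TrivSqZeroExt C L)
      rw [Derivation.map_algebraMap, TrivSqZeroExt.inr_zero, add_zero,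
        ← IsScalarTower.algebraMap_apply]
    · intro c
      change X.proj (e.toAlgEquiv.symm (TrivSqZeroExt.inl c : TrivSqZeroExt C L)) = c
      have := e.symm.proj_apply (TrivSqZeroExt.inl c : TrivSqZeroExt C L)
      exact this

end Groth.Agent.S5818
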