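import Groth.Statements.S5819
import Groth.Agent.Helper1.Exal

set_option autoImplicit false
universe u v
open EGA41

namespace Groth.Agent.S5819

open Groth.Agent.Helper1.ExalAux

/-- Commutative rings, exactness at Exalcom_A(C, L) on underlying pointed sets. For ring maps A → B → C
and a C-module L, an A-extension Y of C by L pulls back to a trivial A-extension of B if and only if
Y is equivalent to some B-extension of C by L viewed as an A-extension. -/
theorem result {A : Type u} {B C L : Type v} [CommRing A]
    [CommRing B] [CommRing C] [Algebra A B] [Algebra B C] [Algebra A C] [IsScalarTower A B C]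
    [AddCommGroup L] [Module C L] [Module B L] [IsScalarTower B C L]
    (Y : Exal.Ext A C L) :
    (Y.pullback B).IsTrivial ↔
      ∃ X : Exal.Ext B C L, Nonempty ((X.restrictBase A).Equiv Y) := by
  constructor
  · rintro ⟨s, hs⟩
    -- the lift `u : B → Y.E`
    let u : B →ₐ[A] Y.E := (AlgHom.fst A Y.E B).comp ((Y.fiberProd B).val.comp s)
    have hu : ∀ b : B, Y.proj (u b) = algebraMap B C b := by
      intro b
      let t : Y.fiberProd B := s b
      have h := t.2
      have h2 : (t : Y.E × B).2 = b := hs b
      have h3 : Y.proj (t : Y.E × B).1 = algebraMap B C (t : Y.E × B).2 := by
        have h' : (t : Y.E × B) ∈ AlgHom.equalizer (Y.proj.comp (AlgHom.fst A Y.E B))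
          ((IsScalarTower.toAlgHom A B C).comp (AlgHom.snd A Y.E B)) := h
        rw [AlgHom.mem_equalizer] at h'
        exact h'
      rw [h2] at h3
      exact h3
    let algB : Algebra B Y.E := u.toRingHom.toAlgebra
    let X : Exal.Ext B C L :=
      { E := Y.E
        commRing := inferInstance
        algebra := algB
        proj :=
          { toFun := fun x => Y.proj x
            map_one' := map_one Y.proj
            map_mul' := map_mul Y.proj
            map_zero' := map_zero Y.proj
            map_add' := map_add Y.proj
            commutes' := fun b => hu b }
        incl := Y.incl
        isExtension :=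
          { proj_surjective := Y.isExtension.proj_surjective
            incl_injective := Y.isExtension.incl_injective
            exact := Y.isExtension.exact
            mul_incl := Y.isExtension.mul_incl } }
    refine ⟨X, ⟨{ toAlgEquiv :=
                    { toFun := fun x => x
                      invFun := fun x => x
                      left_inv := fun _ => rfl
                      right_inv := fun _ => rfl
                      map_mul' := fun _ _ => rfl
                      map_add' := fun _ _ => rfl
                      commutes' := fun a => ?_ }
                  proj_apply := fun _ => rfl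
                  apply_incl := fun _ => rfl }⟩⟩
    change u (algebraMap A B a) = algebraMap A Y.E a
    exact u.commutes a
  · rintro ⟨X, ⟨e⟩⟩
    let u : B →ₐ[A] Y.E :=
      { toFun := fun b => e.toAlgEquiv (algebraMap B X.E b)
        map_one' := by rw [map_one]; exact map_one e.toAlgEquiv
        map_mul' := fun b b' => by rw [map_mul]; exact map_mul e.toAlgEquiv _ _
        map_zero' := by rw [map_zero]; exact map_zero e.toAlgEquiv
        map_add' := fun b b' => by rw [map_add]; exact map_add e.toAlgEquiv _ _
        commutes' := fun a => e.toAlgEquiv.commutes a }
    have hu : ∀ b : B, Y.proj (u b) = algebraMap B C b := by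
      intro b
      change Y.proj (e.toAlgEquiv (algebraMap B X.E b)) = _
      refine (e.proj_apply _).trans ?_
      exact X.proj.commutes b
    refine ⟨AlgHom.codRestrict (AlgHom.prod u (AlgHom.id A B)) (Y.fiberProd B) (fun b => ?_),
      fun b => rfl⟩
    simp only [Exal.Ext.fiberProd, AlgHom.mem_equalizer, AlgHom.coe_comp, Function.comp_apply]
    exact hu b

end Groth.Agent.S5819
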