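import Mathlib
import Groth.Agent.FieldBC2
set_option linter.style.haveILetI false

/-!
Helper library (helper26): images of irreducible components under `X_K → X`.
-/

set_option autoImplicit false
universe u
open CategoryTheory CategoryTheory.Limits AlgebraicGeometry TensorProduct

namespace Groth.Agent.IrrCompBC

/-- Abstract pasting lemma, with the commutation of the first projections. -/
theorem exists_isPullback_of_comm' {C : Type*} [Category C] [HasPullbacks C] {X S S' SL W : C}
    (f : X ⟶ S) (y' : S' ⟶ S) (yL : SL ⟶ S) (sψ : W ⟶ S') (sι : W ⟶ SL)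
    (hΩ : sι ≫ yL = sψ ≫ y') :
    ∃ a : pullback (pullback.snd f yL) sι ⟶ pullback f y',
      IsPullback a (pullback.snd (pullback.snd f yL) sι) (pullback.snd f y') sψ ∧
      a ≫ pullback.fst f y' = pullback.fst (pullback.snd f yL) sι ≫ pullback.fst f yL := by
  have big : IsPullback (pullback.fst (pullback.snd f yL) sι ≫ pullback.fst f yL)
      (pullback.snd (pullback.snd f yL) sι) f (sι ≫ yL) :=
    (IsPullback.of_hasPullback (pullback.snd f yL) sι).paste_horiz (IsPullback.of_hasPullback f yL)
  rw [hΩ] at big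
  exact ⟨_, IsPullback.of_right' big (IsPullback.of_hasPullback f y'),
    (IsPullback.of_hasPullback f y').lift_fst _ _ _⟩

theorem exists_dominating'' {k : Type u} [Field k] {X : Scheme.{u}}
    (f : X ⟶ Spec (CommRingCat.of k))
    (k' K Ω : Type u) [Field k'] [Field K] [Field Ω] [Algebra k k'] [Algebra k K]
    (ψ : k' →+* Ω) (ι : K →+* Ω) (h : ι.comp (algebraMap k K) = ψ.comp (algebraMap k k')) :
    ∃ a : pullback (pullback.snd f (Spec.map (CommRingCat.ofHom (algebraMap k K))))
        (Spec.map (CommRingCat.ofHom ι)) ⟶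
        pullback f (Spec.map (CommRingCat.ofHom (algebraMap k k'))),
      IsPullback a (pullback.snd _ _)
        (pullback.snd f (Spec.map (CommRingCat.ofHom (algebraMap k k'))))
        (Spec.map (CommRingCat.ofHom ψ)) ∧
      a ≫ pullback.fst f (Spec.map (CommRingCat.ofHom (algebraMap k k'))) =
        pullback.fst (pullback.snd f (Spec.map (CommRingCat.ofHom (algebraMap k K))))
          (Spec.map (CommRingCat.ofHom ι)) ≫
          pullback.fst f (Spec.map (CommRingCat.ofHom (algebraMap k K))) := by
  have hΩ : Spec.map (CommRingCat.ofHom ι) ≫ Spec.map (CommRingCat.ofHom (algebraMap k K)) =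
      Spec.map (CommRingCat.ofHom ψ) ≫ Spec.map (CommRingCat.ofHom (algebraMap k k')) := by
    rw [← Spec.map_comp, ← Spec.map_comp, ← CommRingCat.ofHom_comp, ← CommRingCat.ofHom_comp, h]
  exact exists_isPullback_of_comm' f _ _ _ _ hΩ

section TL

variable {A B C Z : Type*} [TopologicalSpace A] [TopologicalSpace B] [TopologicalSpace C]
  [TopologicalSpace Z] [QuasiSober A] [QuasiSober B] [QuasiSober C]
  {p : A → B} {r : Z → A} {s : Z → C} {π : C → B}

/-- The image of an irreducible component under a closed generalizing continuous map is an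
irreducible component. -/
theorem image_mem_irrComp_of_closed_generalizing (hπ : Continuous π) (hπc : IsClosedMap π)
    (hπg : GeneralizingMap π) {V : Set C} (hV : V ∈ irreducibleComponents C) :
    π '' V ∈ irreducibleComponents B := by
  have hVc : IsClosed V := isClosed_of_mem_irreducibleComponents V hV
  obtain ⟨ξ, hξ⟩ := QuasiSober.sober hV.1 hVc
  have himg_irr : IsIrreducible (π '' V) := hV.1.image π hπ.continuousOn
  have himg_cl : IsClosed (π '' V) := hπc V hVc
  refine ⟨himg_irr, fun S hS hVS => ?_⟩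
  obtain ⟨σ, hσ⟩ := QuasiSober.sober hS.closure isClosed_closure
  have hξV : ξ ∈ V := hξ.mem
  have h1 : σ ⤳ π ξ := by
    rw [specializes_iff_mem_closure, hσ.def]
    exact subset_closure (hVS ⟨ξ, hξV, rfl⟩)
  obtain ⟨ξ', hξ', hπξ'⟩ := hπg h1
  have h2 : V ⊆ closure {ξ'} := by
    rw [← hξ.def]
    exact closure_minimal (Set.singleton_subset_iff.mpr (specializes_iff_mem_closure.mp hξ'))
      isClosed_closure
  have h3 : closure {ξ'} ⊆ V := hV.2 (isIrreducible_singleton.closure) h2
  have hξ'V : ξ' ∈ V := h3 (subset_closure rfl)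
  have hσ_mem : σ ∈ π '' V := ⟨ξ', hξ'V, hπξ'⟩
  calc S ⊆ closure S := subset_closure
    _ = closure {σ} := hσ.def.symm
    _ ⊆ π '' V := closure_minimal (Set.singleton_subset_iff.mpr hσ_mem) himg_cl

variable (hp : Continuous p) (hr : Continuous r) (hrs : Function.Surjective r)
  (hs : Continuous s) (hso : IsOpenMap s) (hsf : ∀ x, IsPreirreducible (s ⁻¹' {x}))
  (hss : Function.Surjective s)
  (hπ : Continuous π) (hπc : IsClosedMap π) (hπg : GeneralizingMap π) (hπs : Function.Surjective π)
  (hcomm : ∀ z, p (r z) = π (s z))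

include hp hr hrs hs hso hsf hss hπ hπc hπg hcomm in
theorem image_mem_of_tower {T : Set A} (hT : T ∈ irreducibleComponents A) :
    p '' T ∈ irreducibleComponents B := by
  obtain ⟨η, hη⟩ := QuasiSober.sober hT.1 (isClosed_of_mem_irreducibleComponents T hT)
  obtain ⟨z, rfl⟩ := hrs η
  have hW : irreducibleComponent z ∈ irreducibleComponents Z :=
    irreducibleComponent_mem_irreducibleComponents z
  have hzW : z ∈ irreducibleComponent z := mem_irreducibleComponent
  have hV := image_mem_irreducibleComponents_of_isPreirreducible_fiber s hs hso hsf hss hW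
  have hB := image_mem_irrComp_of_closed_generalizing hπ hπc hπg hV
  have hcl : closure (r '' irreducibleComponent z) = T := by
    have hirr : IsIrreducible (closure (r '' irreducibleComponent z)) :=
      (isIrreducible_irreducibleComponent.image r hr.continuousOn).closure
    have hsub : T ⊆ closure (r '' irreducibleComponent z) := by
      rw [← hη.def]
      exact closure_mono (Set.singleton_subset_iff.mpr ⟨z, hzW, rfl⟩)
    exact Set.Subset.antisymm (hT.2 hirr hsub) hsub
  have hsub : π '' (s '' irreducibleComponent z) ⊆ p '' T := by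
    rintro _ ⟨_, ⟨w, hw, rfl⟩, rfl⟩
    refine ⟨r w, ?_, hcomm w⟩
    rw [← hcl]
    exact subset_closure ⟨w, hw, rfl⟩
  have hirr : IsIrreducible (p '' T) := hT.1.image p hp.continuousOn
  have h4 := hB.2 hirr hsub
  rw [show p '' T = π '' (s '' irreducibleComponent z) from Set.Subset.antisymm h4 hsub]
  exact hB

include hp hr hs hso hsf hss hπ hπc hπg hπs hcomm in
theorem exists_image_eq_of_tower {Z₀ : Set B} (hZ₀ : Z₀ ∈ irreducibleComponents B) :
    ∃ T ∈ irreducibleComponents A, p '' T = Z₀ := by
  obtain ⟨σ, hσ⟩ := QuasiSober.sober hZ₀.1 (isClosed_of_mem_irreducibleComponents Z₀ hZ₀)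
  obtain ⟨ξ₀, rfl⟩ := hπs σ
  have hV : irreducibleComponent ξ₀ ∈ irreducibleComponents C :=
    irreducibleComponent_mem_irreducibleComponents ξ₀
  have hB := image_mem_irrComp_of_closed_generalizing hπ hπc hπg hV
  have hBcl : IsClosed (π '' irreducibleComponent ξ₀) := isClosed_of_mem_irreducibleComponents _ hB
  have h1 : Z₀ ⊆ π '' irreducibleComponent ξ₀ := by
    rw [← hσ.def]
    exact closure_minimal (Set.singleton_subset_iff.mpr ⟨ξ₀, mem_irreducibleComponent, rfl⟩) hBcl
  have h2 : π '' irreducibleComponent ξ₀ = Z₀ := Set.Subset.antisymm (hZ₀.2 hB.1 h1) h1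
  have hWirr : IsIrreducible (s ⁻¹' irreducibleComponent ξ₀) :=
    hV.1.preimage_of_isPreirreducible_fiber s hso hsf
      (by rw [hss.range_eq, Set.inter_univ]; exact hV.1.1)
  have hsW : s '' (s ⁻¹' irreducibleComponent ξ₀) = irreducibleComponent ξ₀ :=
    Set.image_preimage_eq _ hss
  have hrW : IsIrreducible (r '' (s ⁻¹' irreducibleComponent ξ₀)) := hWirr.image r hr.continuousOn
  obtain ⟨T, hTpre, hTsub, hTmax⟩ := exists_preirreducible _ hrW.2
  have hTirr : IsIrreducible T := ⟨hrW.1.mono hTsub, hTpre⟩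
  have hT : T ∈ irreducibleComponents A := ⟨hTirr, fun u hu hTu => (hTmax u hu.2 hTu).le⟩
  refine ⟨T, hT, ?_⟩
  have hsub : Z₀ ⊆ p '' T := by
    rw [← h2, ← hsW]
    rintro _ ⟨_, ⟨w, hw, rfl⟩, rfl⟩
    exact ⟨r w, hTsub ⟨w, hw, rfl⟩, hcomm w⟩
  exact Set.Subset.antisymm (hZ₀.2 (hTirr.image p hp.continuousOn) hsub) hsub

end TL

end Groth.Agent.IrrCompBC
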