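import Groth.Statements.S9498
import Mathlib.Algebra.Homology.ShortComplex.ExactFunctor

set_option autoImplicit false
universe u
open AffSch

namespace Groth.Agent.S9498

open AlgebraicGeometry CategoryTheory Limits

theorem mono_tilde_map {R : CommRingCat.{u}} {M N : ModuleCat.{u} R} (f : M ⟶ N) [Mono f] :
    Mono (tilde.map f) := by
  have hf : Function.Injective f.hom := (ModuleCat.mono_iff_injective f).mp inferInstance
  apply (Scheme.Modules.toPresheaf (Spec R)).mono_of_mono_map
  rw [NatTrans.mono_iff_mono_app]
  intro U
  rw [AddCommGrpCat.mono_iff_injective]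
  intro s t hst
  apply Subtype.ext
  funext y
  have := congrArg (fun z => z.1 y) hst
  have key : Function.Injective (IsLocalizedModule.map y.1.asIdeal.primeCompl
      (LocalizedModule.mkLinearMap y.1.asIdeal.primeCompl M)
      (LocalizedModule.mkLinearMap y.1.asIdeal.primeCompl N) f.hom) :=
    IsLocalizedModule.map_injective _ _ _ _ hf
  exact key this

theorem preservesFiniteLimits_tilde (R : CommRingCat.{u}) :
    PreservesFiniteLimits (tilde.functor R) := by
  have hcolim : PreservesFiniteColimits (tilde.functor R) := inferInstance
  rw [Functor.preservesFiniteLimits_iff_forall_exact_map_and_mono]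
  intro S hS
  refine ⟨?_, ?_⟩
  · have h30 := (Functor.preservesFiniteColimits_tfae (tilde.functor R)).out 3 0
    exact (h30.mp hcolim S hS).1
  · have := hS.mono_f
    exact mono_tilde_map S.f

theorem preservesFiniteColimits_tilde (R : CommRingCat.{u}) :
    PreservesFiniteColimits (tilde.functor R) := inferInstance

theorem result
    (A : Type u) [CommRing A] :
    PreservesFiniteLimits (tilde.functor (CommRingCat.of A)) ∧
      PreservesFiniteColimits (tilde.functor (CommRingCat.of A)) :=
  ⟨preservesFiniteLimits_tilde _, preservesFiniteColimits_tilde _⟩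

end Groth.Agent.S9498
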