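import Groth.Statements.S9496
import Groth.Agent.S9498
-- import your own Groth.Agent.* helpers here

set_option autoImplicit false
universe u
open AffSch

namespace Groth.Agent.S9496


section
open CategoryTheory CategoryTheory.Limits AlgebraicGeometry Opposite TopologicalSpace

theorem key (R : CommRingCat.{u}) {M N : (Spec R).Modules} [M.IsQuasicoherent]
    [N.IsQuasicoherent] (φ : M ⟶ N) :
    (kernel φ).IsQuasicoherent ∧ (cokernel φ).IsQuasicoherent := by
  haveI := Groth.Agent.S9498.preservesFiniteLimits_tilde R
  haveI : IsIso (Scheme.Modules.fromTildeΓ (R := R) M) := inferInstance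
  haveI : IsIso (Scheme.Modules.fromTildeΓ (R := R) N) := inferInstance
  let eM := asIso (Scheme.Modules.fromTildeΓ (R := R) M)
  let eN := asIso (Scheme.Modules.fromTildeΓ (R := R) N)
  obtain ⟨g, hg⟩ := (tilde.functor R).map_surjective (eM.hom ≫ φ ≫ eN.inv)
  have w : φ ≫ eN.symm.hom = eM.symm.hom ≫ (tilde.functor R).map g := by
    rw [hg]; exact (Iso.inv_hom_id_assoc eM _).symm
  constructor
  · have e : (tilde.functor R).obj (kernel g) ≅ kernel φ :=
      PreservesKernel.iso (tilde.functor R) g ≪≫
        (kernel.mapIso φ ((tilde.functor R).map g) eM.symm eN.symm w).symm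
    exact (SheafOfModules.isQuasicoherent.{u} (Spec R).ringCatSheaf).prop_of_iso e
      (inferInstanceAs ((tilde.functor R).obj (kernel g)).IsQuasicoherent)
  · have e : (tilde.functor R).obj (cokernel g) ≅ cokernel φ :=
      PreservesCokernel.iso (tilde.functor R) g ≪≫
        (cokernel.mapIso φ ((tilde.functor R).map g) eM.symm eN.symm w).symm
    exact (SheafOfModules.isQuasicoherent.{u} (Spec R).ringCatSheaf).prop_of_iso e
      (inferInstanceAs ((tilde.functor R).obj (cokernel g)).IsQuasicoherent)

end

open AlgebraicGeometry in
open CategoryTheory Limits in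
/-- Let X = Spec A be an affine scheme and φ : M → N a morphism of quasi-coherent O_X-modules. Then the
kernel and the cokernel of φ, computed in the category of all O_X-modules, are quasi-coherent. -/
theorem result
    (A : Type u) [CommRing A] {M N : (Spec (CommRingCat.of A)).Modules}
    [Coh.IsQCoh M] [Coh.IsQCoh N] (φ : M ⟶ N) :
    Coh.IsQCoh (kernel φ) ∧ Coh.IsQCoh (cokernel φ) := by
  exact key (CommRingCat.of A) φ

end Groth.Agent.S9496
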