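import Groth.Statements.S0046
import Groth.Agent.Lead.FinType3
-- import your own Groth.Agent.* helpers here

set_option autoImplicit false
universe u
open Coherent

namespace Groth.Agent.S0046

open AlgebraicGeometry CategoryTheory in
/-- On a locally Noetherian scheme, a quasi-coherent submodule of a coherent module is coherent. (The
statement about quotients is omitted.) -/
theorem result (X : Scheme.{u}) [IsLocallyNoetherian X]
    (M N : X.Modules) (i : N ⟶ M) [Mono i] (hM : Coh.IsCoh M) (hN : Coh.IsQCoh N) : Coh.IsCoh N := by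
  haveI : M.IsQuasicoherent := hM.1
  haveI : SheafOfModules.IsFiniteType (R := X.ringCatSheaf) M := hM.2
  haveI : N.IsQuasicoherent := hN
  refine ⟨hN, ?_⟩
  apply Groth.Agent.Lead.FinType.isFiniteType_of_finite_sections
  intro x
  obtain ⟨U, hU, hxU⟩ : ∃ U : X.Opens, IsAffineOpen U ∧ x ∈ U := by
    obtain ⟨_, ⟨U, hU, rfl⟩, hxU, -⟩ :=
      X.isBasis_affineOpens.exists_subset_of_mem_open (Set.mem_univ x) isOpen_univ
    exact ⟨U, hU, hxU⟩
  refine ⟨U, hU, hxU, ?_⟩
  haveI : IsNoetherianRing Γ(X, U) := IsLocallyNoetherian.component_noetherian ⟨U, hU⟩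
  haveI : Module.Finite Γ(X, U) Γ(M, U) :=
    Groth.Agent.Lead.FinType.finite_sections_of_isFiniteType M hU
  let φ : Γ(N, U) →ₗ[Γ(X, U)] Γ(M, U) :=
    { toFun := i.app U
      map_add' := fun a b => map_add _ a b
      map_smul' := fun a m => Scheme.Modules.Hom.app_smul i a m }
  exact Module.Finite.of_injective φ (Groth.Agent.Lead.QCoh.app_injective_of_mono i U)

end Groth.Agent.S0046
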