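import Groth.Statements.S9514
import Groth.Agent.Lead.QCoh9
import Groth.Agent.Lead.FinType3
import Groth.Agent.S0046
-- import your own Groth.Agent.* helpers here

set_option autoImplicit false
universe u
open Coherent

namespace Groth.Agent.S9514


section
open CategoryTheory CategoryTheory.Limits AlgebraicGeometry Opposite TopologicalSpace
open Groth.Agent.Lead.QCoh Groth.Agent.Lead.FinType Groth.Agent.Lead.EpiStalk

variable {X : Scheme.{u}}

theorem isFiniteType_of_epi {G C : X.Modules} (π : G ⟶ C) [Epi π]
    [hG : SheafOfModules.IsFiniteType (R := X.ringCatSheaf) G] :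
    SheafOfModules.IsFiniteType.{u, u, u} (R := X.ringCatSheaf) C := by
  apply isFiniteType_of_span_germ
  intro x
  obtain ⟨U, hxU, I, hI, s, hs⟩ := exists_span_germ_eq_top G x
  refine ⟨U, hxU, I, hI, fun i => π.app U (s i), fun y hy => ?_⟩
  rw [eq_top_iff]
  rintro m -
  obtain ⟨m', rfl⟩ := stalkMap_surjective_of_epi π y m
  have hm' : m' ∈ Submodule.span (X.presheaf.stalk y)
      (Set.range fun i => G.presheaf.germ U y hy (s i)) := by rw [hs y hy]; trivial
  induction hm' using Submodule.span_induction with
  | mem t ht =>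
    obtain ⟨i, rfl⟩ := ht
    rw [stalkMap_germ]
    exact Submodule.subset_span ⟨i, rfl⟩
  | zero => rw [map_zero]; exact Submodule.zero_mem _
  | add a b _ _ ha hb => rw [map_add]; exact Submodule.add_mem _ ha hb
  | smul c t _ ht => rw [stalkMap_smul]; exact Submodule.smul_mem _ _ ht

end

open CategoryTheory CategoryTheory.Limits AlgebraicGeometry in
/-- Let X be a locally Noetherian scheme and φ : F → G a morphism of O_X-modules with F and G coherent.
Then the kernel and the cokernel of φ, taken in the category of O_X-modules, are coherent. -/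
theorem result (X : Scheme.{u}) [IsLocallyNoetherian X] {F G : X.Modules}
    (hF : Coh.IsCoh F) (hG : Coh.IsCoh G) (φ : F ⟶ G) :
    Coh.IsCoh (kernel φ) ∧ Coh.IsCoh (cokernel φ) := by
  haveI : F.IsQuasicoherent := hF.1
  haveI : G.IsQuasicoherent := hG.1
  haveI : SheafOfModules.IsFiniteType (R := X.ringCatSheaf) G := hG.2
  have hq := Groth.Agent.Lead.QCoh.isQuasicoherent_kernel_cokernel φ
  refine ⟨?_, hq.2, ?_⟩
  · exact Groth.Agent.S0046.result X F (kernel φ) (kernel.ι φ) hF hq.1
  · exact isFiniteType_of_epi (cokernel.π φ)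

end Groth.Agent.S9514
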