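import Groth.Statements.S0049
import Groth.Agent.Lead.QCoh9
import Groth.Agent.Lead.FinType3
import Groth.Agent.S9514
import Groth.Prelude.Def_ZClos
-- import your own Groth.Agent.* helpers here

set_option autoImplicit false
universe u
open Coherent

namespace Groth.Agent.S0049


section
open CategoryTheory CategoryTheory.Limits AlgebraicGeometry Opposite TopologicalSpace
open Groth.Agent.Lead.QCoh Groth.Agent.Lead.FinType Groth.Agent.Lead.EpiStalk

variable {X : Scheme.{u}}

/-- A quasi-coherent subobject of a coherent module on a locally Noetherian scheme is of finite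
type. -/
theorem isFiniteType_of_mono [IsLocallyNoetherian X] {K M : X.Modules} (i : K ⟶ M) [Mono i]
    [K.IsQuasicoherent] [M.IsQuasicoherent]
    [SheafOfModules.IsFiniteType.{u, u, u} (R := X.ringCatSheaf) M] :
    SheafOfModules.IsFiniteType.{u, u, u} (R := X.ringCatSheaf) K := by
  apply isFiniteType_of_finite_sections
  intro x
  obtain ⟨U, hxU⟩ : ∃ U : X.affineOpens, x ∈ (U : X.Opens) := by
    have : x ∈ (⨆ U : X.affineOpens, (U : X.Opens)) := by
      rw [iSup_affineOpens_eq_top]; trivial
    exact Opens.mem_iSup.mp this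
  refine ⟨U.1, U.2, hxU, ?_⟩
  haveI : IsNoetherianRing Γ(X, U.1) := IsLocallyNoetherian.component_noetherian U
  haveI : Module.Finite Γ(X, U.1) Γ(M, U.1) := finite_sections_of_isFiniteType M U.2
  haveI : _root_.IsNoetherian Γ(X, U.1) Γ(M, U.1) := isNoetherian_of_isNoetherianRing_of_finite _ _
  let f : Γ(K, U.1) →ₗ[Γ(X, U.1)] Γ(M, U.1) :=
    { toFun := fun x => i.app U.1 x
      map_add' := fun x y => map_add _ x y
      map_smul' := fun r x => Scheme.Modules.Hom.app_smul _ r x }
  exact Module.Finite.of_injective f (app_injective_of_mono i U.1)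

theorem section_eq_zero_of_stalks (M : X.Modules) (V : X.Opens)
    (hV : ∀ z ∈ V, Subsingleton (M.presheaf.stalk z)) (t : Γ(M, V)) : t = 0 := by
  apply TopCat.Presheaf.section_ext ((SheafOfModules.toSheaf _).obj M) V
  intro z hz
  exact @Subsingleton.elim _ (hV z hz) _ _

theorem map_injective_of_le (M : X.Modules) {A B : X.Opens} (h : A ≤ B) (h' : B ≤ A) :
    Function.Injective (M.presheaf.map (homOfLE h).op) := by
  intro a b hab
  have h1 := congrArg (M.presheaf.map (homOfLE h').op) hab
  rw [map_map_apply M (homOfLE h') (homOfLE h) (𝟙 B) a,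
    map_map_apply M (homOfLE h') (homOfLE h) (𝟙 B) b] at h1
  simpa using h1

set_option backward.isDefEq.respectTransparency false in
theorem main (X : Scheme.{u}) [IsNoetherian X] (M : X.Modules)
    (hM : Coh.IsCoh M) (Z Z' : Set X) (hZ : IsClosed Z) (hZ' : IsClosed Z')
    (h : CohB1.support M = Z ∪ Z') :
    ∃ S : ShortComplex X.Modules, S.ShortExact ∧ Nonempty (S.X₂ ≅ M) ∧
      Coh.IsCoh S.X₁ ∧ Coh.IsCoh S.X₃ ∧
      CohB1.support S.X₁ ⊆ Z' ∧ CohB1.support S.X₃ ⊆ Z := by
  obtain ⟨hq, hf⟩ := hM
  haveI := hq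
  haveI := hf
  let U : X.Opens := ⟨Z'ᶜ, hZ'.isOpen_compl⟩
  let P : X.Modules := (ZClos.resPush U).obj M
  let η : M ⟶ P := (ZClos.resPushUnit U).app M
  haveI hP : P.IsQuasicoherent := by
    show ((Scheme.Modules.pushforward U.ι).obj
      ((Scheme.Modules.restrictFunctor U.ι).obj M)).IsQuasicoherent
    exact isQuasicoherent_pushforward U.ι _
  haveI hK : (kernel η).IsQuasicoherent := (isQuasicoherent_kernel_cokernel η).1
  haveI hKf : SheafOfModules.IsFiniteType.{u, u, u} (R := X.ringCatSheaf) (kernel η) :=
    isFiniteType_of_mono (kernel.ι η)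
  haveI hC : (cokernel (kernel.ι η)).IsQuasicoherent :=
    (isQuasicoherent_kernel_cokernel (kernel.ι η)).2
  haveI hCf : SheafOfModules.IsFiniteType.{u, u, u} (R := X.ringCatSheaf)
      (cokernel (kernel.ι η)) :=
    Groth.Agent.S9514.isFiniteType_of_epi (cokernel.π (kernel.ι η))
  have hMstalk : ∀ z : X, z ∉ Z → z ∉ Z' → Subsingleton (M.presheaf.stalk z) := by
    intro z hz hz'
    by_contra hne
    have : z ∈ CohB1.support M := hne
    rw [h] at this
    exact this.elim hz hz'
  refine ⟨ShortComplex.mk (kernel.ι η) (cokernel.π (kernel.ι η)) (cokernel.condition _),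
    { exact := ShortComplex.exact_cokernel _
      mono_f := inferInstanceAs (Mono (kernel.ι η))
      epi_g := inferInstanceAs (Epi (cokernel.π (kernel.ι η))) }, ⟨Iso.refl M⟩, ⟨hK, hKf⟩, ⟨hC, hCf⟩, ?_, ?_⟩
  · -- support of the kernel
    intro x hx
    by_contra hxZ'
    apply hx
    have hxU : x ∈ U := hxZ'
    have h0 : ∀ m : (kernel η).presheaf.stalk x, m = 0 := by
      intro m
      obtain ⟨W, hxW, s, rfl⟩ := TopCat.Presheaf.exists_germ_eq (kernel η).presheaf m
      let W' : X.Opens := W ⊓ U
      have hxW' : x ∈ W' := ⟨hxW, hxU⟩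
      let s' : Γ(kernel η, W') := (kernel η).presheaf.map (homOfLE (inf_le_left : W' ≤ W)).op s
      have hs' : s' = 0 := by
        apply app_injective_of_mono (kernel.ι η) W'
        rw [map_zero]
        have h1 : η.app W' ((kernel.ι η).app W' s') = 0 := by
          have h2 : (kernel.ι η ≫ η).app W' s' = 0 := by
            rw [kernel.condition]; rfl
          exact h2
        have h3 : η.app W' = M.presheaf.map (homOfLE (U.ι.image_preimage_le W')).op :=
          ZClos.resPushUnit_app_app U M W'
        rw [h3] at h1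
        have hle : W' ≤ U.ι ''ᵁ U.ι ⁻¹ᵁ W' := by
          rw [ZClos.ι_image_preimage]
          exact le_inf inf_le_right le_rfl
        apply map_injective_of_le M (U.ι.image_preimage_le W') hle
        exact h1.trans (map_zero _).symm
      have : (kernel η).presheaf.germ W x hxW s = (kernel η).presheaf.germ W' x hxW' s' :=
        (TopCat.Presheaf.germ_res_apply (kernel η).presheaf (homOfLE inf_le_left) x hxW' s).symm
      rw [this, hs', map_zero]
    exact ⟨fun a b => by rw [h0 a, h0 b]⟩
  · -- support of the cokernel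
    intro x hx
    by_contra hxZ
    apply hx
    by_cases hxZ' : x ∈ Z'
    · -- stalk of P at x vanishes
      have h0 : ∀ m : P.presheaf.stalk x, m = 0 := by
        intro m
        obtain ⟨W, hxW, t, rfl⟩ := TopCat.Presheaf.exists_germ_eq P.presheaf m
        let V : X.Opens := ⟨Zᶜ, hZ.isOpen_compl⟩
        let W' : X.Opens := W ⊓ V
        have hxW' : x ∈ W' := ⟨hxW, hxZ⟩
        let t' : Γ(P, W') := P.presheaf.map (homOfLE (inf_le_left : W' ≤ W)).op t
        have ht' : t' = 0 := by
          apply section_eq_zero_of_stalks M (U.ι ''ᵁ U.ι ⁻¹ᵁ W')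
          intro z hz
          rw [ZClos.ι_image_preimage] at hz
          exact hMstalk z hz.2.2 hz.1
        have : P.presheaf.germ W x hxW t = P.presheaf.germ W' x hxW' t' :=
          (TopCat.Presheaf.germ_res_apply P.presheaf (homOfLE inf_le_left) x hxW' t).symm
        rw [this, ht', map_zero]
      haveI : Subsingleton (P.presheaf.stalk x) := ⟨fun a b => by rw [h0 a, h0 b]⟩
      exact (stalkMap_injective_of_mono (Abelian.factorThruCoimage η) x).subsingleton
    · haveI : Subsingleton (M.presheaf.stalk x) := hMstalk x hxZ hxZ'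
      exact (stalkMap_surjective_of_epi (cokernel.π (kernel.ι η)) x).subsingleton
end

open AlgebraicGeometry CategoryTheory in
/-- On a Noetherian scheme, if the support of a coherent module F is the union of closed sets Z and Z',
there is a short exact sequence 0 → G' → F → G → 0 of coherent modules with G' supported in Z' and G
supported in Z. -/
theorem result (X : Scheme.{u}) [IsNoetherian X] (M : X.Modules) (hM : Coh.IsCoh M)
    (Z Z' : Set X) (hZ : IsClosed Z) (hZ' : IsClosed Z') (h : CohB1.support M = Z ∪ Z') :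
    ∃ S : ShortComplex X.Modules, S.ShortExact ∧ Nonempty (S.X₂ ≅ M) ∧ Coh.IsCoh S.X₁ ∧ Coh.IsCoh S.X₃ ∧
      CohB1.support S.X₁ ⊆ Z' ∧ CohB1.support S.X₃ ⊆ Z := by
  exact main X M hM Z Z' hZ hZ' h

end Groth.Agent.S0049
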