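import Groth.Statements.S0020
import Groth.Agent.Lead.FinType
-- import your own Groth.Agent.* helpers here

set_option autoImplicit false
universe u
open Coherent

namespace Groth.Agent.S0020

open AlgebraicGeometry in
/-- On a scheme X, the set of points at which the stalk of a finite type 𝒪_X-module M is nonzero (the
support of M) is closed. -/
theorem result (X : Scheme.{u}) (M : X.Modules) (hM : CohB1.IsFT M) :
    IsClosed (CohB1.support M) := by
  classical
  haveI : SheafOfModules.IsFiniteType (R := X.ringCatSheaf) M := hM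
  rw [← isOpen_compl_iff, isOpen_iff_forall_mem_open]
  intro x hx
  have hx' : Subsingleton (M.presheaf.stalk x) := by
    by_contra h
    exact hx h
  obtain ⟨U, hxU, I, hI, s, hs⟩ := Groth.Agent.Lead.FinType.exists_span_germ_eq_top M x
  have h1 : ∀ i : I, ∃ W : X.Opens, x ∈ W ∧ ∃ hWU : W ≤ U,
      M.presheaf.map (CategoryTheory.homOfLE hWU).op (s i) = 0 := by
    intro i
    have h0 : M.presheaf.germ U x hxU (s i) = M.presheaf.germ U x hxU 0 :=
      Subsingleton.elim _ _
    obtain ⟨W, hxW, iU, iV, e⟩ := TopCat.Presheaf.germ_eq M.presheaf x hxU hxU (s i) 0 h0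
    refine ⟨W, hxW, iU.le, ?_⟩
    rw [map_zero] at e
    exact e
  choose W hxW hWU hW0 using h1
  refine ⟨(U : Set X) ∩ ⋂ i, (W i : Set X), ?_, ?_, ⟨hxU, Set.mem_iInter.mpr hxW⟩⟩
  · rintro y ⟨hyU, hyW⟩
    have hyW' : ∀ i, y ∈ W i := fun i => Set.mem_iInter.mp hyW i
    have h2 : ∀ i, M.presheaf.germ U y hyU (s i) = 0 := by
      intro i
      rw [← TopCat.Presheaf.germ_res_apply M.presheaf (CategoryTheory.homOfLE (hWU i)) y (hyW' i),
        hW0 i, map_zero]
    have h3 := hs y hyU
    have h4 : (Set.range fun i => M.presheaf.germ U y hyU (s i)) ⊆ {0} := by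
      rintro _ ⟨i, rfl⟩
      exact h2 i
    have h5 : (⊥ : Submodule (X.presheaf.stalk y) (M.presheaf.stalk y)) = ⊤ := by
      rw [← h3, eq_comm, Submodule.span_eq_bot]
      intro m hm
      exact h4 hm
    have h6 : Subsingleton (M.presheaf.stalk y) := by
      refine ⟨fun a b => ?_⟩
      have ha : a ∈ (⊥ : Submodule (X.presheaf.stalk y) (M.presheaf.stalk y)) := by
        rw [h5]; trivial
      have hb : b ∈ (⊥ : Submodule (X.presheaf.stalk y) (M.presheaf.stalk y)) := by
        rw [h5]; trivial
      rw [Submodule.mem_bot] at ha hb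
      rw [ha, hb]
    intro hy
    exact hy h6
  · exact U.2.inter (isOpen_iInter_of_finite fun i => (W i).2)

end Groth.Agent.S0020
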