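import Groth.Statements.S9525
import Groth.Agent.Lead.UnitCoh
import Groth.Agent.Lead.QCoh9
import Groth.Agent.S0020
-- import your own Groth.Agent.* helpers here

set_option autoImplicit false
universe u
open Coherent

namespace Groth.Agent.S9525


section
open CategoryTheory CategoryTheory.Limits AlgebraicGeometry Opposite TopologicalSpace
open Groth.Agent.Lead.QCoh Groth.Agent.Lead.FinType Groth.Agent.Lead.EpiStalk
open Groth.Agent.Lead.StalkExact

variable {X : Scheme.{u}}

theorem isZero_restrict_of_subsingleton_stalk (F : X.Modules) (U : X.Opens)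
    (h : ∀ y ∈ U, Subsingleton (F.presheaf.stalk y)) : IsZero (F.restrict U.ι) := by
  rw [IsZero.iff_id_eq_zero]
  ext V s
  have hs : ∀ t : Γ(F, U.ι ''ᵁ V), t = 0 := by
    intro t
    apply TopCat.Presheaf.section_ext ((SheafOfModules.toSheaf _).obj F) (U.ι ''ᵁ V)
    intro y hy
    exact @Subsingleton.elim _ (h y (U.ι_image_le V hy)) _ _
  change _ = _
  rw [hs ((ConcreteCategory.hom ((𝟙 (F.restrict U.ι) : F.restrict U.ι ⟶ F.restrict U.ι).app V)) s)]
  exact (hs _).symm

theorem exists_isZero_restrict (F : X.Modules) (hF : CohB1.IsFT F) (x : X)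
    (hx : Subsingleton (F.presheaf.stalk x)) :
    ∃ U : X.Opens, x ∈ U ∧ ∀ y ∈ U, Subsingleton (F.presheaf.stalk y) := by
  have hcl := Groth.Agent.S0020.result X F hF
  refine ⟨⟨(CohB1.support F)ᶜ, hcl.isOpen_compl⟩, ?_, ?_⟩
  · change x ∉ CohB1.support F
    exact fun h => h hx
  · intro y hy
    have : y ∉ CohB1.support F := hy
    simpa [CohB1.support] using this

theorem mono_restrict_of_isZero (U : X.Opens) {A B : X.Modules} (φ : A ⟶ B)
    (h : IsZero ((kernel φ).restrict U.ι)) : Mono ((Scheme.Modules.restrictFunctor U.ι).map φ) := by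
  have hz : IsZero (kernel ((Scheme.Modules.restrictFunctor U.ι).map φ)) :=
    h.of_iso (restrictKernelIso U.ι φ).symm
  apply Preadditive.mono_of_cancel_zero
  intro P g hg
  rw [← kernel.lift_ι _ g hg, hz.eq_of_tgt (kernel.lift _ g hg) 0, zero_comp]

theorem epi_restrict_of_isZero (U : X.Opens) {A B : X.Modules} (φ : A ⟶ B)
    (h : IsZero ((cokernel φ).restrict U.ι)) : Epi ((Scheme.Modules.restrictFunctor U.ι).map φ) := by
  have hz : IsZero (cokernel ((Scheme.Modules.restrictFunctor U.ι).map φ)) :=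
    h.of_iso (restrictCokernelIso U.ι φ).symm
  apply Preadditive.epi_of_cancel_zero
  intro P g hg
  rw [← cokernel.π_desc _ g hg, hz.eq_of_src (cokernel.desc _ g hg) 0, comp_zero]

end

open CategoryTheory CategoryTheory.Limits AlgebraicGeometry in
/-- Let X be a locally Noetherian scheme, F and G coherent O_X-modules, φ : G → F a morphism and x ∈ X.
(1) If F_x = 0 there is an open neighbourhood U of x with F|_U = 0. (2) If the stalk map φ_x : G_x →
F_x is injective there is an open neighbourhood U of x with φ|_U injective. (4) If φ_x is bijective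
there is an open neighbourhood U of x with φ|_U an isomorphism. (Part (3), surjectivity, is the
finite-type statement valid on any ringed space and is not restated.) -/
theorem result (X : Scheme.{u}) [IsLocallyNoetherian X]
    (F G : X.Modules) (hF : Coh.IsCoh F) (hG : Coh.IsCoh G) (φ : G ⟶ F) (x : X) :
    (Subsingleton ↑(F.presheaf.stalk x) →
      ∃ U : X.Opens, x ∈ U ∧ IsZero ((Scheme.Modules.restrictFunctor U.ι).obj F)) ∧
    (Function.Injective ((TopCat.Presheaf.stalkFunctor _ x).map φ.mapPresheaf).hom →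
      ∃ U : X.Opens, x ∈ U ∧ Mono ((Scheme.Modules.restrictFunctor U.ι).map φ)) ∧
    (Function.Bijective ((TopCat.Presheaf.stalkFunctor _ x).map φ.mapPresheaf).hom →
      ∃ U : X.Opens, x ∈ U ∧ IsIso ((Scheme.Modules.restrictFunctor U.ι).map φ)) := by
  obtain ⟨hK, hC⟩ := Groth.Agent.S9514.result X hG hF φ
  refine ⟨?_, ?_, ?_⟩
  · intro hx
    obtain ⟨U, hxU, hU⟩ := exists_isZero_restrict F hF.2 x hx
    exact ⟨U, hxU, isZero_restrict_of_subsingleton_stalk F U hU⟩
  · intro hinj
    have hKx : Subsingleton ((kernel φ).presheaf.stalk x) := by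
      refine ⟨fun k k' => ?_⟩
      apply Groth.Agent.Lead.QCoh.stalkMap_injective_of_mono (kernel.ι φ) x
      apply hinj
      change Groth.Agent.Lead.QCoh.stalkMap φ x (Groth.Agent.Lead.QCoh.stalkMap (kernel.ι φ) x k) =
        Groth.Agent.Lead.QCoh.stalkMap φ x (Groth.Agent.Lead.QCoh.stalkMap (kernel.ι φ) x k')
      rw [← Groth.Agent.Lead.StalkExact.stalkMap_comp, ← Groth.Agent.Lead.StalkExact.stalkMap_comp,
        kernel.condition, Groth.Agent.Lead.StalkExact.stalkMap_zero,
        Groth.Agent.Lead.StalkExact.stalkMap_zero]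
    obtain ⟨U, hxU, hU⟩ := exists_isZero_restrict (kernel φ) hK.2 x hKx
    exact ⟨U, hxU, mono_restrict_of_isZero U φ
      (isZero_restrict_of_subsingleton_stalk (kernel φ) U hU)⟩
  · intro hbij
    obtain ⟨hKx, hCx⟩ := (Groth.Agent.Lead.StalkExact.bijective_stalkMap_iff φ x).mp hbij
    obtain ⟨U₁, hxU₁, hU₁⟩ := exists_isZero_restrict (kernel φ) hK.2 x hKx
    obtain ⟨U₂, hxU₂, hU₂⟩ := exists_isZero_restrict (cokernel φ) hC.2 x hCx
    refine ⟨U₁ ⊓ U₂, ⟨hxU₁, hxU₂⟩, ?_⟩
    haveI := mono_restrict_of_isZero (U₁ ⊓ U₂) φ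
      (isZero_restrict_of_subsingleton_stalk (kernel φ) _ (fun y hy => hU₁ y hy.1))
    haveI := epi_restrict_of_isZero (U₁ ⊓ U₂) φ
      (isZero_restrict_of_subsingleton_stalk (cokernel φ) _ (fun y hy => hU₂ y hy.2))
    exact isIso_of_mono_of_epi _

end Groth.Agent.S9525
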