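import Groth.Statements.S0048
import Groth.Agent.Lead.UnitCoh
import Groth.Agent.Lead.QCoh10
import Groth.Agent.S9525
-- import your own Groth.Agent.* helpers here

set_option autoImplicit false
universe u
open Coherent

namespace Groth.Agent.S0048


section
open CategoryTheory CategoryTheory.Limits AlgebraicGeometry Opposite TopologicalSpace
open Groth.Agent.Lead.QCoh Groth.Agent.Lead.FinType Groth.Agent.Lead.EpiStalk

variable {X Y : Scheme.{u}}

/-- Quasi-coherence is local for open covers. -/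
theorem isQuasicoherent_of_isOpenCover (M : X.Modules) {ι : Type*} (U : ι → X.Opens)
    (hU : IsOpenCover U) (h : ∀ i, (M.restrict (U i).ι).IsQuasicoherent) :
    M.IsQuasicoherent := by
  let J := {V : X.affineOpens // ∃ i, (V : X.Opens) ≤ U i}
  have hcov : IsOpenCover (fun V : J => (V.1 : X.Opens)) := by
    rw [IsOpenCover, eq_top_iff]
    intro x _
    obtain ⟨i, hi⟩ : ∃ i, x ∈ U i := by
      have : x ∈ (⨆ i, U i : X.Opens) := by rw [hU.iSup_eq_top]; trivial
      simpa [Opens.mem_iSup] using this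
    obtain ⟨_, ⟨V, hV, rfl⟩, hxV, hVU⟩ :=
      X.isBasis_affineOpens.exists_subset_of_mem_open hi (U i).2
    exact Opens.mem_iSup.mpr ⟨⟨⟨V, hV⟩, i, hVU⟩, hxV⟩
  have hp : ∀ V : J, Nonempty (M.restrict (V.1 : X.Opens).ι).Presentation := by
    rintro ⟨V, i, hVi⟩
    have : IsAffine ((V : X.Opens) : Scheme.{u}) := V.2
    haveI := h i
    have h1 : ((M.restrict (U i).ι).restrict (X.homOfLE hVi)).IsQuasicoherent := inferInstance
    have e : (M.restrict (U i).ι).restrict (X.homOfLE hVi) ≅ M.restrict (V : X.Opens).ι :=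
      ((Scheme.Modules.restrictFunctorComp (X.homOfLE hVi) (U i).ι).app M).symm ≪≫
        (Scheme.Modules.restrictFunctorCongr (X.homOfLE_ι hVi)).app M
    have : (M.restrict (V : X.Opens).ι).IsQuasicoherent :=
      (SheafOfModules.isQuasicoherent.{u} _).prop_of_iso e h1
    exact nonempty_presentation_of_isAffine _ _
  exact isQuasicoherent_of_isOpenCover_presentation M (fun V : J => (V.1 : X.Opens)) hcov
    (fun V => (hp V).some)

theorem isQuasicoherent_of_isZero (Z : X.Modules) (hZ : IsZero Z) : Z.IsQuasicoherent := by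
  haveI := Groth.Agent.Lead.UnitCoh.isQuasicoherent_unit X
  have hk := (isQuasicoherent_kernel_cokernel (𝟙 (unitM X))).1
  exact (SheafOfModules.isQuasicoherent.{u} _).prop_of_iso
    (hZ.iso (isZero_kernel_of_mono (𝟙 (unitM X)))).symm hk

theorem finite_push_of_finite (f : X ⟶ Y) (F : X.Modules) (V : Y.Opens)
    (hsurj : Function.Surjective (f.app V).hom)
    (h : Module.Finite Γ(X, f ⁻¹ᵁ V) Γ(F, f ⁻¹ᵁ V)) :
    Module.Finite Γ(Y, V) Γ((Scheme.Modules.pushforward f).obj F, V) := by
  letI : Algebra Γ(Y, V) Γ(X, f ⁻¹ᵁ V) := (f.app V).hom.toAlgebra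
  haveI : Module.Finite Γ(Y, V) Γ(X, f ⁻¹ᵁ V) :=
    Module.Finite.of_surjective (Algebra.linearMap Γ(Y, V) Γ(X, f ⁻¹ᵁ V)) hsurj
  letI : Module Γ(X, f ⁻¹ᵁ V) Γ((Scheme.Modules.pushforward f).obj F, V) :=
    inferInstanceAs (Module Γ(X, f ⁻¹ᵁ V) Γ(F, f ⁻¹ᵁ V))
  haveI : IsScalarTower Γ(Y, V) Γ(X, f ⁻¹ᵁ V) Γ((Scheme.Modules.pushforward f).obj F, V) :=
    ⟨fun r a m => by
      rw [Algebra.smul_def, mul_smul]; rfl⟩
  haveI : Module.Finite Γ(X, f ⁻¹ᵁ V) Γ((Scheme.Modules.pushforward f).obj F, V) := h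
  exact Module.Finite.trans (R := Γ(Y, V)) Γ(X, f ⁻¹ᵁ V)
    Γ((Scheme.Modules.pushforward f).obj F, V)

theorem sections_eq_zero (U : X.Opens) (T : Set X) (F : (↑U : Scheme.{u}).Modules)
    (hs : ∀ x : ↥U, x ∈ CohB1.support F → (x : X) ∈ T)
    (W' : X.Opens) (hW' : (W' : Set X) ⊆ Tᶜ) (t : Γ(F, U.ι ⁻¹ᵁ W')) : t = 0 := by
  apply TopCat.Presheaf.section_ext ((SheafOfModules.toSheaf _).obj F) (U.ι ⁻¹ᵁ W')
  intro z hz
  have : Subsingleton (F.presheaf.stalk z) := by
    by_contra hne
    exact hW' hz (hs z hne)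
  exact @Subsingleton.elim _ this _ _

theorem main (X : Scheme.{u}) (U : X.Opens) (T : Set X)
    (hT : IsClosed T) (hTU : T ⊆ (U : Set X)) (F : (↑U : Scheme.{u}).Modules) (hF : Coh.IsCoh F)
    (hs : ∀ x : ↥U, x ∈ CohB1.support F → (x : X) ∈ T) :
    Coh.IsCoh ((Scheme.Modules.pushforward U.ι).obj F) := by
  classical
  haveI : F.IsQuasicoherent := hF.1
  haveI : SheafOfModules.IsFiniteType (R := (↑U : Scheme.{u}).ringCatSheaf) F := hF.2
  let W : X.Opens := ⟨Tᶜ, hT.isOpen_compl⟩
  let P : X.Modules := (Scheme.Modules.pushforward U.ι).obj F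
  -- stalks of P vanish on W
  have hstalk : ∀ y ∈ W, Subsingleton (P.presheaf.stalk y) := by
    intro y hy
    have key : ∀ c : P.presheaf.stalk y, c = 0 := by
      intro c
      obtain ⟨W0, hyW0, t, rfl⟩ := TopCat.Presheaf.exists_germ_eq P.presheaf c
      have e1 : P.presheaf.germ W0 y hyW0 t = P.presheaf.germ (W0 ⊓ W) y ⟨hyW0, hy⟩
          (P.presheaf.map (homOfLE inf_le_left).op t) :=
        (TopCat.Presheaf.germ_res_apply P.presheaf (homOfLE inf_le_left) y ⟨hyW0, hy⟩ t).symm
      have h0 : P.presheaf.map (homOfLE (inf_le_left : W0 ⊓ W ≤ W0)).op t = 0 :=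
        sections_eq_zero U T F hs (W0 ⊓ W) (fun z hz => hz.2) _
      rw [e1, h0, map_zero]
    exact ⟨fun a b => by rw [key a, key b]⟩
  have hPW : IsZero (P.restrict W.ι) := Groth.Agent.S9525.isZero_restrict_of_subsingleton_stalk P W hstalk
  have hPU : (P.restrict U.ι).IsQuasicoherent :=
    (SheafOfModules.isQuasicoherent.{u} _).prop_of_iso
      ((Scheme.Modules.restrictFunctorAdjCounitIso U.ι).app F).symm hF.1
  have hcov : IsOpenCover (fun b : Bool => cond b U W) := by
    rw [IsOpenCover, eq_top_iff]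
    intro x _
    by_cases hx : x ∈ T
    · exact TopologicalSpace.Opens.mem_iSup.mpr ⟨true, hTU hx⟩
    · exact TopologicalSpace.Opens.mem_iSup.mpr ⟨false, hx⟩
  have hPq : P.IsQuasicoherent := by
    refine isQuasicoherent_of_isOpenCover P (fun b : Bool => cond b U W) hcov ?_
    intro b
    cases b
    · exact isQuasicoherent_of_isZero _ hPW
    · exact hPU
  refine ⟨hPq, ?_⟩
  haveI := hPq
  apply Groth.Agent.Lead.FinType.isFiniteType_of_finite_sections
  intro x
  by_cases hxU : x ∈ U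
  · obtain ⟨_, ⟨V, hV, rfl⟩, hxV, hVU⟩ :=
      X.isBasis_affineOpens.exists_subset_of_mem_open hxU U.2
    have hV' : IsAffineOpen V := hV
    have hVr : V ≤ U.ι.opensRange := by rw [U.opensRange_ι]; exact hVU
    have hVa : IsAffineOpen (U.ι ⁻¹ᵁ V) := hV'.preimage_of_isOpenImmersion U.ι hVr
    haveI := U.ι.isIso_app V hVr
    refine ⟨V, hV', hxV, finite_push_of_finite U.ι F V ?_ ?_⟩
    · exact (ConcreteCategory.bijective_of_isIso (U.ι.app V)).2
    · exact Groth.Agent.Lead.FinType.finite_sections_of_isFiniteType F hVa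
  · have hxW : x ∈ W := fun hxT => hxU (hTU hxT)
    obtain ⟨_, ⟨V, hV, rfl⟩, hxV, hVW⟩ :=
      X.isBasis_affineOpens.exists_subset_of_mem_open hxW W.2
    have hV' : IsAffineOpen V := hV
    refine ⟨V, hV', hxV, ?_⟩
    haveI : Subsingleton Γ(P, V) :=
      ⟨fun a b => by
        rw [sections_eq_zero U T F hs V hVW a, sections_eq_zero U T F hs V hVW b]⟩
    infer_instance

end

open AlgebraicGeometry in
/-- Let U ⊆ X be open and T ⊆ U a subset closed in X. If F is a coherent (quasi-coherent of finite type,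
i.e. `Coh.IsCoh`) module on U with support contained in T, then its direct image along U ↪ X is
again coherent in the same sense. (The published statement is for coherent modules in the usual
sense; here both hypothesis and conclusion use the notion `Coh.IsCoh`.) -/
theorem result (X : Scheme.{u}) (U : X.Opens) (T : Set X)
    (hT : IsClosed T) (hTU : T ⊆ (U : Set X)) (F : (↑U : Scheme.{u}).Modules) (hF : Coh.IsCoh F)
    (hs : ∀ x : ↥U, x ∈ CohB1.support F → (x : X) ∈ T) : Coh.IsCoh ((Coh.push U.ι).obj F) := by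
  exact main X U T hT hTU F hF hs

end Groth.Agent.S0048
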