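import Groth.Statements.S2460
import Mathlib
import Groth.Agent.H27.CoeffSection
import Groth.Agent.H3.MvPSDim
import Groth.Agent.Lib.Helper17.AdicLimit2

set_option autoImplicit false
universe u
open EGA41

namespace Groth.Agent.S2460

theorem dim_le_of_isIntegral {A B : Type*} [CommRing A] [CommRing B] (f : A →+* B)
    (hf : f.IsIntegral) : ringKrullDim B ≤ ringKrullDim A := by
  letI := f.toAlgebra
  haveI : Algebra.IsIntegral A B := ⟨hf⟩
  refine Order.krullDim_le_of_strictMono
    (fun p : PrimeSpectrum B => PrimeSpectrum.comap (algebraMap A B) p) ?_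
  intro p q hpq
  exact Ideal.IsIntegral.comap_lt_comap (R := A) hpq

theorem finite_of_isFiniteLength (k₀ : Type*) [CommRing k₀] (B : Type*) [CommRing B] [Algebra k₀ B]
    [IsLocalRing B] [hK : Module.Finite k₀ (B ⧸ IsLocalRing.maximalIdeal B)] (M : Type*)
    [AddCommGroup M] [Module B M] (h : IsFiniteLength B M) :
    ∀ [Module k₀ M] [IsScalarTower k₀ B M], Module.Finite k₀ M := by
  induction h with
  | of_subsingleton =>
    intro _ _
    infer_instance
  | @of_simple_quotient M _ _ N hs hN ih =>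
    intro _ _
    haveI : Module.Finite k₀ N := ih
    obtain ⟨I, hI, ⟨e⟩⟩ := isSimpleModule_iff_quot_maximal.mp hs
    have hIm : I = IsLocalRing.maximalIdeal B := IsLocalRing.eq_maximalIdeal hI
    subst hIm
    haveI : Module.Finite k₀ (M ⧸ N) := Module.Finite.equiv (e.restrictScalars k₀).symm
    haveI : Module.Finite k₀ (N.restrictScalars k₀) :=
      Module.Finite.equiv ((Submodule.restrictScalarsEquiv k₀ B M N).restrictScalars k₀).symm
    haveI : Module.Finite k₀ (M ⧸ N.restrictScalars k₀) :=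
      Module.Finite.equiv (Submodule.Quotient.restrictScalarsEquiv k₀ N).symm
    exact Module.Finite.of_submodule_quotient (N.restrictScalars k₀)

open IsLocalRing in
theorem finite_of_artinian_quot {k₀ A : Type u} [Field k₀] [CommRing A] [IsLocalRing A]
    [IsNoetherianRing A] [Algebra k₀ A] [Module.Finite k₀ (ResidueField A)] {n : ℕ}
    (w₀ : MvPowerSeries (Fin n) k₀ →+* A)
    (huC : ∀ c, w₀ (MvPowerSeries.C c) = algebraMap k₀ A c) (q : Ideal A)
    (hqm : q ≤ maximalIdeal A) [IsArtinianRing (A ⧸ q)]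
    (hmap : (maximalIdeal (MvPowerSeries (Fin n) k₀)).map w₀ = q) : w₀.Finite := by
  classical
  have hq_ne : q ≠ ⊤ := fun h =>
    (maximalIdeal.isMaximal A).ne_top (top_le_iff.mp (h ▸ hqm))
  haveI : Nontrivial (A ⧸ q) := Ideal.Quotient.nontrivial_iff.mpr hq_ne
  haveI : IsLocalRing (A ⧸ q) :=
    IsLocalRing.of_surjective' (Ideal.Quotient.mk q) Ideal.Quotient.mk_surjective
  have hmem : ∀ a ∈ maximalIdeal A, Ideal.Quotient.mk q a ∈ maximalIdeal (A ⧸ q) := by
    intro a ha
    rw [IsLocalRing.mem_maximalIdeal, mem_nonunits_iff]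
    intro hu
    obtain ⟨b', hb'⟩ := hu.exists_right_inv
    obtain ⟨b, rfl⟩ := Ideal.Quotient.mk_surjective b'
    have h1 : a * b - 1 ∈ q := by
      rw [← Ideal.Quotient.eq, map_mul, hb', map_one]
    have h2 : a * b ∈ maximalIdeal A := Ideal.mul_mem_right _ _ ha
    have h3 : (1 : A) ∈ maximalIdeal A := by
      have := (maximalIdeal A).sub_mem h2 (hqm h1)
      simpa using this
    exact (Ideal.ne_top_iff_one _).mp (maximalIdeal.isMaximal A).ne_top h3
  haveI : Module.Finite k₀ (A ⧸ maximalIdeal A) := ‹Module.Finite k₀ (ResidueField A)›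
  let φ : A ⧸ maximalIdeal A →ₐ[k₀] (A ⧸ q) ⧸ maximalIdeal (A ⧸ q) :=
    Ideal.Quotient.liftₐ (maximalIdeal A)
      ((Ideal.Quotient.mkₐ k₀ (maximalIdeal (A ⧸ q))).comp (Ideal.Quotient.mkₐ k₀ q))
      (fun a ha => by
        show Ideal.Quotient.mk (maximalIdeal (A ⧸ q)) (Ideal.Quotient.mk q a) = 0
        exact Ideal.Quotient.eq_zero_iff_mem.mpr (hmem a ha))
  have hφ : Function.Surjective φ := by
    intro y
    obtain ⟨y', rfl⟩ := Ideal.Quotient.mk_surjective y
    obtain ⟨a, rfl⟩ := Ideal.Quotient.mk_surjective y'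
    exact ⟨Ideal.Quotient.mk _ a, rfl⟩
  haveI : Module.Finite k₀ ((A ⧸ q) ⧸ maximalIdeal (A ⧸ q)) :=
    Module.Finite.of_surjective φ.toLinearMap hφ
  have hFL : IsFiniteLength (A ⧸ q) (A ⧸ q) :=
    (isArtinianRing_iff_isFiniteLength (A ⧸ q)).mp inferInstance
  haveI hB : Module.Finite k₀ (A ⧸ q) := finite_of_isFiniteLength k₀ (A ⧸ q) (A ⧸ q) hFL
  letI : Algebra (MvPowerSeries (Fin n) k₀) A := w₀.toAlgebra
  show Module.Finite (MvPowerSeries (Fin n) k₀) A
  obtain ⟨r, g, hg⟩ := Module.Finite.exists_fin (R := k₀) (M := A ⧸ q)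
  choose a ha using fun j => Ideal.Quotient.mk_surjective (g j)
  have hsmul : ∀ (f : MvPowerSeries (Fin n) k₀) (y : A), f • y = w₀ f * y := fun f y => rfl
  have hmulclosed : ∀ (c : A), ∀ y ∈ (maximalIdeal (MvPowerSeries (Fin n) k₀) • ⊤ :
      Submodule (MvPowerSeries (Fin n) k₀) A), c * y ∈
        (maximalIdeal (MvPowerSeries (Fin n) k₀) • ⊤ : Submodule (MvPowerSeries (Fin n) k₀) A) := by
    intro c y hy
    refine Submodule.smul_induction_on hy ?_ ?_
    · intro f hf z _
      rw [mul_smul_comm]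
      exact Submodule.smul_mem_smul hf Submodule.mem_top
    · intro y z hy hz
      rw [mul_add]
      exact Submodule.add_mem _ hy hz
  have hqsub : ∀ y ∈ q, y ∈ (maximalIdeal (MvPowerSeries (Fin n) k₀) • ⊤ :
      Submodule (MvPowerSeries (Fin n) k₀) A) := by
    intro y hy
    rw [← hmap] at hy
    have hy' : y ∈ Submodule.span A
        (w₀ '' (maximalIdeal (MvPowerSeries (Fin n) k₀) : Set (MvPowerSeries (Fin n) k₀))) := hy
    refine Submodule.span_induction ?_ ?_ ?_ ?_ hy'
    · rintro _ ⟨f, hf, rfl⟩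
      have h1 : w₀ f = f • (1 : A) := by rw [hsmul, mul_one]
      rw [h1]
      exact Submodule.smul_mem_smul hf Submodule.mem_top
    · exact Submodule.zero_mem _
    · intro y z _ _ hy hz
      exact Submodule.add_mem _ hy hz
    · intro c y _ hy
      exact hmulclosed c y hy
  have hspan : Submodule.span (MvPowerSeries (Fin n) k₀) (Set.range a) ⊔
      (maximalIdeal (MvPowerSeries (Fin n) k₀) • ⊤ : Submodule (MvPowerSeries (Fin n) k₀) A) =
        ⊤ := by
    rw [eq_top_iff]
    intro y _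
    have h1 : Ideal.Quotient.mk q y ∈ Submodule.span k₀ (Set.range g) := by
      rw [hg]; exact Submodule.mem_top
    rw [Submodule.mem_span_range_iff_exists_fun] at h1
    obtain ⟨c, hc⟩ := h1
    have h2 : y - ∑ j, algebraMap k₀ A (c j) * a j ∈ q := by
      rw [← Ideal.Quotient.eq_zero_iff_mem, map_sub, map_sum, sub_eq_zero, ← hc]
      refine Finset.sum_congr rfl (fun j _ => ?_)
      rw [map_mul, ha j, Algebra.smul_def]
      rfl
    have h3 : y = ∑ j, algebraMap k₀ A (c j) * a j +
        (y - ∑ j, algebraMap k₀ A (c j) * a j) := by ring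
    rw [h3]
    refine Submodule.add_mem_sup ?_ (hqsub _ h2)
    refine Submodule.sum_mem _ (fun j _ => ?_)
    have h4 : algebraMap k₀ A (c j) * a j =
        (MvPowerSeries.C (c j) : MvPowerSeries (Fin n) k₀) • a j := by
      rw [hsmul, huC]
    rw [h4]
    exact Submodule.smul_mem _ _ (Submodule.subset_span ⟨j, rfl⟩)
  haveI : IsHausdorff (maximalIdeal (MvPowerSeries (Fin n) k₀)) A := by
    refine ⟨fun y hy => ?_⟩
    have hkrull := Ideal.iInf_pow_eq_bot_of_isLocalRing (maximalIdeal A)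
      (maximalIdeal.isMaximal A).ne_top
    rw [← Ideal.mem_bot, ← hkrull, Ideal.mem_iInf]
    intro k
    have h1 := hy k
    rw [SModEq.sub_mem, sub_zero] at h1
    have hle : (maximalIdeal (MvPowerSeries (Fin n) k₀) ^ k • ⊤ :
        Submodule (MvPowerSeries (Fin n) k₀) A) ≤
        (maximalIdeal A ^ k).restrictScalars (MvPowerSeries (Fin n) k₀) := by
      rw [Submodule.smul_le]
      intro f hf z _
      show f • z ∈ maximalIdeal A ^ k
      rw [hsmul]
      apply Ideal.mul_mem_right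
      have h2 : w₀ f ∈ (maximalIdeal (MvPowerSeries (Fin n) k₀) ^ k).map w₀ :=
        Ideal.mem_map_of_mem w₀ hf
      rw [Ideal.map_pow, hmap] at h2
      exact Ideal.pow_right_mono hqm k h2
    exact hle h1
  haveI : IsPrecomplete (maximalIdeal (MvPowerSeries (Fin n) k₀)) (MvPowerSeries (Fin n) k₀) := by
    rw [Groth.Agent.H3.MvPSDim.maximalIdeal_eq_span_X]
    infer_instance
  have htop := Groth.Agent.Helper17.span_eq_top_of_complete
    (maximalIdeal (MvPowerSeries (Fin n) k₀)) a hspan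
  exact ⟨⟨Finset.univ.image a, by
    rw [Finset.coe_image, Finset.coe_univ, Set.image_univ]; exact htop⟩⟩



open IsLocalRing in
/-- Let A be a complete Noetherian local domain containing a field k₀ such that the residue field of A
is a finite extension of k₀. Then there are n and an injective local k₀-algebra homomorphism from
the power series ring k₀[[T_1, …, T_n]] into A making A a finite module over it. -/
theorem result {k₀ A : Type u} [Field k₀] [CommRing A] [IsDomain A] [IsLocalRing A] [IsNoetherianRing A]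
    [IsAdicComplete (maximalIdeal A) A] [Algebra k₀ A] [Module.Finite k₀ (ResidueField A)] :
    ∃ (n : ℕ) (w : MvPowerSeries (Fin n) k₀ →ₐ[k₀] A), Function.Injective w ∧ IsLocalHom w.toRingHom ∧ w.toRingHom.Finite := by
  classical
  obtain ⟨s, hs_min, hs_card⟩ :=
    Ideal.exists_finset_card_eq_height_of_isNoetherianRing (maximalIdeal A)
  obtain ⟨n, hn⟩ : ∃ n, n = s.card := ⟨_, rfl⟩
  let e : s ≃ Fin n := Finset.equivFinOfCardEq hn.symm
  let x : Fin n → A := fun i => (e.symm i : A)
  have hrange : Set.range x = (s : Set A) := by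
    ext y
    constructor
    · rintro ⟨i, rfl⟩
      exact (e.symm i).2
    · intro hy
      refine ⟨e ⟨y, hy⟩, ?_⟩
      show ((e.symm (e ⟨y, hy⟩) : s) : A) = y
      rw [Equiv.symm_apply_apply]
  obtain ⟨q, hq⟩ : ∃ q : Ideal A, q = Ideal.span (Set.range x) := ⟨_, rfl⟩
  have hq_min : maximalIdeal A ∈ q.minimalPrimes := by
    rw [hq, hrange]; exact hs_min
  have hqm : q ≤ maximalIdeal A := hq_min.1.2
  have hxm : ∀ i, x i ∈ maximalIdeal A := fun i => hqm (hq ▸ Ideal.subset_span ⟨i, rfl⟩)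
  haveI hArt : IsArtinianRing (A ⧸ q) :=
    IsLocalRing.quotient_artinian_of_mem_minimalPrimes_of_isLocalRing q hq_min
  obtain ⟨w₀, huC, huX⟩ := Groth.Agent.H27.CoeffSection.exists_ps_hom (maximalIdeal A)
    (algebraMap k₀ A) x hxm
  let w : MvPowerSeries (Fin n) k₀ →ₐ[k₀] A :=
    { toRingHom := w₀
      commutes' := fun c => by
        show w₀ (algebraMap k₀ (MvPowerSeries (Fin n) k₀) c) = _
        rw [MvPowerSeries.algebraMap_apply]
        exact huC c }
  have hmS : maximalIdeal (MvPowerSeries (Fin n) k₀) =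
      Ideal.span (Set.range (MvPowerSeries.X : Fin n → MvPowerSeries (Fin n) k₀)) :=
    Groth.Agent.H3.MvPSDim.maximalIdeal_eq_span_X
  have hmap : (maximalIdeal (MvPowerSeries (Fin n) k₀)).map w₀ = q := by
    rw [hmS, Ideal.map_span, hq]
    congr 1
    ext y
    constructor
    · rintro ⟨_, ⟨i, rfl⟩, rfl⟩
      exact ⟨i, (huX i).symm⟩
    · rintro ⟨i, rfl⟩
      exact ⟨_, ⟨i, rfl⟩, huX i⟩
  have hfin : w₀.Finite := finite_of_artinian_quot w₀ huC q hqm hmap
  have hloc : IsLocalHom w₀ := by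
    refine ⟨fun f hf => ?_⟩
    by_contra hnu
    have h1 : f ∈ maximalIdeal (MvPowerSeries (Fin n) k₀) :=
      (IsLocalRing.mem_maximalIdeal f).mpr hnu
    have h2 : w₀ f ∈ q := hmap ▸ Ideal.mem_map_of_mem w₀ h1
    exact (IsLocalRing.mem_maximalIdeal _).mp (hqm h2) hf
  refine ⟨n, w, ?_, hloc, hfin⟩
  show Function.Injective w₀
  rw [RingHom.injective_iff_ker_eq_bot]
  by_contra hne
  obtain ⟨f, hf, hf0⟩ := Submodule.exists_mem_ne_zero_of_ne_bot hne
  have hfnz : f ∈ nonZeroDivisors (MvPowerSeries (Fin n) k₀) :=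
    mem_nonZeroDivisors_of_ne_zero hf0
  have h1 := ringKrullDim_quotient_succ_le_of_nonZeroDivisor hfnz
  have hkill : ∀ a ∈ Ideal.span {f}, w₀ a = 0 := by
    intro a ha
    have hle : Ideal.span {f} ≤ RingHom.ker w₀ := (Ideal.span_singleton_le_iff_mem _).2 hf
    exact hle ha
  have hvint : (Ideal.Quotient.lift (Ideal.span {f}) w₀ hkill).IsIntegral :=
    RingHom.IsIntegral.tower_top (Ideal.Quotient.mk (Ideal.span {f})) _
      (by rw [Ideal.Quotient.lift_comp_mk]; exact hfin.to_isIntegral)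
  have h2 := dim_le_of_isIntegral _ hvint
  have h3 := Groth.Agent.H3.MvPSDim.dim_le k₀ n
  have h4 : ((n : ℕ) : WithBot ℕ∞) = ringKrullDim A := by
    rw [← IsLocalRing.maximalIdeal_height_eq_ringKrullDim, ← hs_card, hn]
    rfl
  have h5 : ((n : ℕ) : WithBot ℕ∞) + 1 ≤ ((n : ℕ) : WithBot ℕ∞) := by
    calc ((n : ℕ) : WithBot ℕ∞) + 1
        ≤ ringKrullDim (MvPowerSeries (Fin n) k₀ ⧸ Ideal.span {f}) + 1 := by
          rw [h4]
          gcongr
      _ ≤ ringKrullDim (MvPowerSeries (Fin n) k₀) := h1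
      _ ≤ _ := h3
  have h6 : n + 1 ≤ n := by exact_mod_cast h5
  omega

end Groth.Agent.S2460
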