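import Groth.Statements.S4647
import Mathlib
import Groth.Agent.S2279

set_option autoImplicit false
open CategoryTheory AlgebraicGeometry
universe u
open FDesc

namespace Groth.Agent.S4647

section Helpers
open AlgebraicGeometry CategoryTheory TopologicalSpace

theorem nilradical_isPrime_of_ringEquiv {A B : Type*} [CommRing A] [CommRing B] (e : A ≃+* B)
    (h : (nilradical A).IsPrime) : (nilradical B).IsPrime := by
  have hcomap : nilradical B = (nilradical A).comap (e.symm : B →+* A) := by
    ext x
    simp only [mem_nilradical, Ideal.mem_comap]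
    exact (IsNilpotent.map_iff (f := (e.symm : B →+* A)) e.symm.injective).symm
  rw [hcomap]
  exact Ideal.comap_isPrime _ _

/-- If all nilradicals of stalks are prime and `U` is an open with Noetherian underlying space,
every point of `U` has an irreducible open neighbourhood contained in `U`. -/
theorem exists_irreducible_open {Y : Scheme.{u}}
    (hY : ∀ y : Y, (nilradical (Y.presheaf.stalk y)).IsPrime)
    (U : Y.Opens) (hN : NoetherianSpace ↥U) (y : Y) (hy : y ∈ U) :
    ∃ V : Y.Opens, y ∈ V ∧ V ≤ U ∧ IsIrreducible (V : Set Y) := by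
  have hU : ∀ u : (U : Scheme.{u}),
      (nilradical ((U : Scheme.{u}).presheaf.stalk u)).IsPrime := by
    intro u
    exact nilradical_isPrime_of_ringEquiv (U.stalkIso u).commRingCatIsoToRingEquiv.symm (hY u.1)
  have hdisj : (irreducibleComponents ((U : Scheme.{u}) : Type u)).PairwiseDisjoint id :=
    (Groth.Agent.S2279.result (U : Scheme.{u})).mpr hU
  haveI : NoetherianSpace ((U : Scheme.{u}) : Type u) := hN
  have hfin : (irreducibleComponents ((U : Scheme.{u}) : Type u)).Finite :=
    NoetherianSpace.finite_irreducibleComponents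
  obtain ⟨u, hu⟩ : ∃ u : (U : Scheme.{u}), u = (⟨y, hy⟩ : ↥U) := ⟨_, rfl⟩
  have hTmem := irreducibleComponent_mem_irreducibleComponents u
  -- the union of the other components is closed
  have hSclosed : IsClosed (⋃₀ (irreducibleComponents ((U : Scheme.{u}) : Type u) \
      {irreducibleComponent u})) := by
    rw [Set.sUnion_eq_biUnion]
    exact (hfin.subset Set.diff_subset).isClosed_biUnion fun T hT =>
      isClosed_of_mem_irreducibleComponents T hT.1
  have hTeq : irreducibleComponent u = (⋃₀ (irreducibleComponents ((U : Scheme.{u}) : Type u) \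
      {irreducibleComponent u}))ᶜ := by
    ext v
    constructor
    · intro hv
      rintro ⟨T, ⟨hT, hTne⟩, hvT⟩
      have := hdisj hTmem hT (fun h => hTne h.symm)
      exact Set.disjoint_left.mp this hv hvT
    · intro hv
      have hvu : v ∈ ⋃₀ irreducibleComponents ((U : Scheme.{u}) : Type u) := by
        rw [sUnion_irreducibleComponents]; trivial
      obtain ⟨T, hT, hvT⟩ := hvu
      by_cases hTe : T = irreducibleComponent u
      · rw [← hTe]; exact hvT
      · exact absurd ⟨T, ⟨hT, hTe⟩, hvT⟩ hv
  have hTopen : IsOpen (irreducibleComponent u) := by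
    rw [hTeq]; exact hSclosed.isOpen_compl
  refine ⟨U.ι ''ᵁ ⟨irreducibleComponent u, hTopen⟩, ?_, ?_, ?_⟩
  · exact ⟨u, mem_irreducibleComponent, by rw [hu]; rfl⟩
  · rintro _ ⟨v, -, rfl⟩
    exact v.2
  · exact isIrreducible_irreducibleComponent.image _ U.ι.continuous.continuousOn

theorem isIntegral_of_irreducible_open {Y : Scheme.{u}}
    (hY : ∀ y : Y, IsDomain (Y.presheaf.stalk y)) (V : Y.Opens)
    (hV : IsIrreducible (V : Set Y)) : IsIntegral (V : Scheme.{u}) := by
  haveI : IrreducibleSpace ↥((V : Y.Opens) : Scheme.{u}) := Subtype.irreducibleSpace hV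
  haveI : ∀ v : (V : Scheme.{u}), _root_.IsReduced ((V : Scheme.{u}).presheaf.stalk v) := by
    intro v
    haveI := hY v.1
    exact isReduced_of_injective (V.stalkIso v).commRingCatIsoToRingEquiv.toRingHom
      (V.stalkIso v).commRingCatIsoToRingEquiv.injective
  haveI : IsReduced (V : Scheme.{u}) := isReduced_of_isReduced_stalk _
  exact isIntegral_of_irreducibleSpace_of_isReduced _

theorem main {X Y : Scheme.{u}} (f : X ⟶ Y) [Flat f] [Surjective f]
    (hX : ∀ x : X, IsDomain ↑(X.presheaf.stalk x))
    (hY : ∀ y : Y, ∃ U : Y.Opens, y ∈ U ∧ TopologicalSpace.NoetherianSpace ↥U) (y : Y) :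
    ∃ U : Y.Opens, y ∈ U ∧ IsIntegral (U : Scheme.{u}) := by
  have hdom : ∀ y : Y, IsDomain (Y.presheaf.stalk y) := by
    intro y
    obtain ⟨x, rfl⟩ := f.surjective y
    haveI := hX x
    have hflat : (f.stalkMap x).hom.Flat := Flat.stalkMap f x
    algebraize [(f.stalkMap x).hom]
    haveI : IsLocalHom (algebraMap (Y.presheaf.stalk (f x)) (X.presheaf.stalk x)) :=
      inferInstanceAs <| IsLocalHom (f.stalkMap x).hom
    haveI : Module.FaithfullyFlat (Y.presheaf.stalk (f x)) (X.presheaf.stalk x) :=
      Module.FaithfullyFlat.of_flat_of_isLocalHom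
    exact (FaithfulSMul.algebraMap_injective (Y.presheaf.stalk (f x))
      (X.presheaf.stalk x)).isDomain (algebraMap _ _)
  have hnil : ∀ y : Y, (nilradical (Y.presheaf.stalk y)).IsPrime := by
    intro y
    haveI := hdom y
    rw [nilradical_eq_zero]
    exact Ideal.bot_prime
  obtain ⟨U, hyU, hN⟩ := hY y
  obtain ⟨V, hyV, -, hirr⟩ := exists_irreducible_open hnil U hN y hyU
  exact ⟨V, hyV, isIntegral_of_irreducible_open hdom V hirr⟩

end Helpers

/-- Let f : X → Y be a faithfully flat (flat and surjective) morphism. If all local rings of X are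
domains (in particular if X is locally integral) and the underlying space of Y is locally
Noetherian, then Y is locally integral: every point of Y has an open neighbourhood which is an
integral scheme. -/
theorem result {X Y : Scheme.{u}} (f : X ⟶ Y) [Flat f] [Surjective f]
    (hX : ∀ x : X, IsDomain ↑(X.presheaf.stalk x))
    (hY : ∀ y : Y, ∃ U : Y.Opens, y ∈ U ∧ TopologicalSpace.NoetherianSpace ↥U) (y : Y) :
    ∃ U : Y.Opens, y ∈ U ∧ IsIntegral (U : Scheme.{u}) := by
  exact main f hX hY y

end Groth.Agent.S4647
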