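import Groth.Statements.S6361
import Mathlib
import Groth.Agent.Lib.Helper12.MLChain

set_option autoImplicit false
universe u
open CAlg

namespace Groth.Agent.S6361

/-- Let M be a Mittag-Leffler, countably generated module over a commutative ring R, and f : P → M a
linear map with P finitely generated. Then there is an endomorphism a of M which factors through
some finitely presented module and satisfies a ∘ f = f. -/
theorem result (R : Type u)
    [CommRing R] (M : Type u) [AddCommGroup M] [Module R M] (hML : CAlg.IsMittagLeffler R M)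
    (hc : CAlg.IsCountablyGenerated R M) {P : Type u} [AddCommGroup P] [Module R P] [Module.Finite R P]
    (f : P →ₗ[R] M) :
    ∃ (Q : Type u) (_ : AddCommGroup Q) (_ : Module R Q) (_ : Module.FinitePresentation R Q)
      (b : M →ₗ[R] Q) (c : Q →ₗ[R] M), (c ∘ₗ b) ∘ₗ f = f := by
  classical
  obtain ⟨s, hs, hspan⟩ := hc
  obtain ⟨g, hg⟩ := (hs.insert 0).exists_eq_range (Set.insert_nonempty 0 s)
  have hgspan : Submodule.span R (Set.range g) = ⊤ := by
    rw [← hg, eq_top_iff, ← hspan]; exact Submodule.span_mono (Set.subset_insert 0 s)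
  obtain ⟨k, π, hπ⟩ := Module.Finite.exists_fin' R P
  obtain ⟨T, j, hj, hcT, hdT, hfpT, hmem⟩ :=
    Groth.Agent.Helper12.MLChain.exists_tower (R := R) (M := M)
      (fun S => Module.FinitePresentation R S.Q)
      (fun S hS x => Groth.Agent.Helper12.MLChain.exists_next_fp hML S hS x)
      ⟨Fin k → R, f ∘ₗ π⟩ (inferInstanceAs (Module.FinitePresentation R (Fin k → R))) g
  have heT : T.Exh := T.exh_of_span hcT g hgspan hmem
  obtain ⟨b, hb0, hbc, _⟩ := T.exists_seq (X := (T.S (0 + 1)).Q)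
    (fun n β => ∃ φ : (T.S (n + 1)).Q →ₗ[R] (T.S (0 + 1)).Q, β = φ ∘ₗ T.t n)
    (fun n β hβ => by
      obtain ⟨φ, rfl⟩ := hβ
      obtain ⟨h, hh⟩ := T.exists_back hcT hdT hfpT n
      refine ⟨(φ ∘ₗ h) ∘ₗ T.t (n + 1), ⟨φ ∘ₗ h, rfl⟩, ?_⟩
      conv_rhs => rw [hh]
      rfl)
    (T.t 0) ⟨LinearMap.id, rfl⟩
  obtain ⟨B, hB⟩ := T.glue b hbc hcT hdT heT
  refine ⟨(T.S (0 + 1)).Q, inferInstance, inferInstance, hfpT (0 + 1), B, (T.S (0 + 1)).u, ?_⟩
  apply LinearMap.ext
  intro p
  obtain ⟨v, rfl⟩ := hπ p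
  have h2 : f (π v) = (T.S 0).u (j v) := (LinearMap.congr_fun hj v).symm
  show (T.S (0 + 1)).u (B (f (π v))) = f (π v)
  rw [h2]
  have h3 : B ((T.S 0).u (j v)) = b 0 (j v) := LinearMap.congr_fun (hB 0) (j v)
  rw [h3, hb0]
  exact T.u_t hcT 0 (j v)

end Groth.Agent.S6361
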