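import Groth.Statements.S14953
import Mathlib
import Groth.Agent.H10.FibreSquare

set_option autoImplicit false
universe u
open TensorProduct
open EtAlg

namespace Groth.Agent.S14953

open TensorProduct in
theorem exists_fg_surj {R S : Type u} [CommRing R] [CommRing S] [Algebra R S] (L : Type u)
    [AddCommGroup L] [Module R L] [Module.Finite S (S ⊗[R] L)] :
    ∃ N' : Submodule R L, N'.FG ∧ Function.Surjective (N'.subtype.lTensor S) := by
  obtain ⟨s, hs⟩ := (Module.finite_def.mp (inferInstance : Module.Finite S (S ⊗[R] L)))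
  obtain ⟨N', hfin, hsub⟩ := TensorProduct.exists_finite_submodule_right_of_setFinite
    (R := R) (M := S) (N := L) (s : Set (S ⊗[R] L)) s.finite_toSet
  refine ⟨N', Module.Finite.iff_fg.mp hfin, ?_⟩
  have hrange : LinearMap.range (N'.subtype.baseChange S) = ⊤ := by
    rw [eq_top_iff, ← hs, Submodule.span_le]
    intro x hx
    obtain ⟨z, hz⟩ := hsub hx
    exact ⟨z, by rw [LinearMap.baseChange_eq_ltensor]; exact hz⟩
  intro x
  obtain ⟨z, hz⟩ := LinearMap.range_eq_top.mp hrange x
  exact ⟨z, by rw [← hz, LinearMap.baseChange_eq_ltensor]⟩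

open TensorProduct in
theorem tensor_quot_zero {R S : Type u} [CommRing R] [CommRing S] [Algebra R S] (L : Type u)
    [AddCommGroup L] [Module R L] (N N' : Submodule R L) (hle : N' ≤ N)
    (hsurj : Function.Surjective (N'.subtype.lTensor S)) (q : L ⧸ N) :
    (1 : S) ⊗ₜ[R] q = (0 : S ⊗[R] (L ⧸ N)) := by
  obtain ⟨l, rfl⟩ := N.mkQ_surjective q
  obtain ⟨z, hz⟩ := hsurj ((1 : S) ⊗ₜ[R] l)
  have h1 : N.mkQ.lTensor S ((1 : S) ⊗ₜ[R] l) = (1 : S) ⊗ₜ[R] (N.mkQ l) := by
    rw [LinearMap.lTensor_tmul]
  rw [← h1, ← hz]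
  have h2 : N'.subtype = N.subtype ∘ₗ (Submodule.inclusion hle) := by
    ext x; rfl
  rw [h2, LinearMap.lTensor_comp, LinearMap.comp_apply]
  exact (lTensor_exact S (LinearMap.exact_subtype_mkQ N) N.mkQ_surjective).apply_apply_eq_zero _


/-- Let B' = B ×_A A' be a fibre product of commutative rings with A' → A surjective and L' a B'-module.
If B ⊗_{B'} L' is a finitely generated B-module and A' ⊗_{B'} L' is a finitely generated A'-module,
then L' is a finitely generated B'-module. (The published statement is about flat modules of finite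
type; the finiteness conclusion does not use flatness, which descends separately.) -/
theorem result (B' B A' A : Type u) [CommRing B'] [CommRing B] [CommRing A'] [CommRing A]
    [Algebra B' B] [Algebra B' A'] [Algebra B A] [Algebra A' A] [Algebra B' A] [IsScalarTower B' B A] [IsScalarTower B' A' A]
    (hsq : EtMil.IsFibreSquare B' B A' A)
    (L' : Type u) [AddCommGroup L'] [Module B' L']
    [Module.Finite B (B ⊗[B'] L')] [Module.Finite A' (A' ⊗[B'] L')] : Module.Finite B' L' := by
  obtain ⟨N1, hN1, hs1⟩ := exists_fg_surj (R := B') (S := B) L'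
  obtain ⟨N2, hN2, hs2⟩ := exists_fg_surj (R := B') (S := A') L'
  have hfg : (N1 ⊔ N2).FG := hN1.sup hN2
  have htop : N1 ⊔ N2 = ⊤ := by
    rw [eq_top_iff]
    intro l _
    have hq : (N1 ⊔ N2).mkQ l = 0 := by
      have h1 := tensor_quot_zero (S := B) L' (N1 ⊔ N2) N1 le_sup_left hs1
      have h2 := tensor_quot_zero (S := A') L' (N1 ⊔ N2) N2 le_sup_right hs2
      have hmem := Groth.Agent.H10.fs_mem_smul_top hsq (L' ⧸ (N1 ⊔ N2)) ((N1 ⊔ N2).mkQ l) (h1 _)
      refine Submodule.smul_induction_on hmem ?_ ?_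
      · intro j hj d _
        rw [RingHom.mem_ker] at hj
        exact Groth.Agent.H10.fs_smul_eq_zero hsq _ j hj d (h2 d)
      · intro a b ha hb
        rw [ha, hb, add_zero]
    rwa [Submodule.mkQ_apply, Submodule.Quotient.mk_eq_zero] at hq
  rw [Module.finite_def, ← htop]
  exact hfg

end Groth.Agent.S14953
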