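import Groth.Statements.S6916
import Mathlib

set_option autoImplicit false
universe u
open TensorProduct
open EtAlg

namespace Groth.Agent.S6916

/-- Let `B' = B ×_A A'` be a fibre square of rings with `A' → A` surjective and `L'` any `B'`-module.
Then the canonical map from `L'` to the glueing of `(L' ⊗_{B'} B, L' ⊗_{B'} A')` is surjective:
every pair `(x, y) ∈ (B ⊗_{B'} L') × (A' ⊗_{B'} L')` with equal images in `A ⊗_{B'} L'` is of the
form `(1 ⊗ l, 1 ⊗ l)`. (It is in general not injective.) -/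
theorem result (B' B A' A : Type u) [CommRing B'] [CommRing B] [CommRing A'] [CommRing A]
    [Algebra B' B] [Algebra B' A'] [Algebra B A] [Algebra A' A] [Algebra B' A] [IsScalarTower B' B A] [IsScalarTower B' A' A]
    (hsq : EtMil.IsFibreSquare B' B A' A)
    (L' : Type u) [AddCommGroup L'] [Module B' L'] (x : B ⊗[B'] L') (y : A' ⊗[B'] L')
    (hxy : (IsScalarTower.toAlgHom B' B A).toLinearMap.rTensor L' x = (IsScalarTower.toAlgHom B' A' A).toLinearMap.rTensor L' y) :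
    ∃ l : L', (1 : B) ⊗ₜ[B'] l = x ∧ (1 : A') ⊗ₜ[B'] l = y := by
  obtain ⟨hsurj, hfib⟩ := hsq
  have hBsurj : ∀ b : B, ∃ b' : B', algebraMap B' B b' = b := by
    intro b
    obtain ⟨a', ha'⟩ := hsurj (algebraMap B A b)
    obtain ⟨b', ⟨hb', _⟩, _⟩ := hfib b a' ha'.symm
    exact ⟨b', hb'⟩
  have h1 : ∀ x : B ⊗[B'] L', ∃ l : L', (1 : B) ⊗ₜ[B'] l = x := by
    intro x
    induction x using TensorProduct.induction_on with
    | zero => exact ⟨0, by simp⟩
    | tmul b l =>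
      obtain ⟨b', rfl⟩ := hBsurj b
      refine ⟨b' • l, ?_⟩
      rw [← TensorProduct.smul_tmul, Algebra.smul_def, mul_one]
    | add x y hx hy =>
      obtain ⟨l₁, rfl⟩ := hx
      obtain ⟨l₂, rfl⟩ := hy
      exact ⟨l₁ + l₂, by rw [TensorProduct.tmul_add]⟩
  obtain ⟨l₀, rfl⟩ := h1 x
  obtain ⟨g, hg⟩ : ∃ g : A' →ₗ[B'] A, g = (IsScalarTower.toAlgHom B' A' A).toLinearMap :=
    ⟨_, rfl⟩
  have hgapp : ∀ a', g a' = algebraMap A' A a' := by intro a'; rw [hg]; rfl
  have hgsurj : Function.Surjective g := by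
    intro a; obtain ⟨a', h⟩ := hsurj a; exact ⟨a', by rw [hgapp, h]⟩
  have hex := rTensor_exact L' (LinearMap.exact_subtype_ker_map g) hgsurj
  have hy' : g.rTensor L' (y - (1 : A') ⊗ₜ[B'] l₀) = 0 := by
    rw [map_sub, hg, ← hxy]
    simp
  obtain ⟨t, ht⟩ := (hex _).1 hy'
  have h2 : ∀ t : (LinearMap.ker g) ⊗[B'] L', ∃ l : L', (1 : B) ⊗ₜ[B'] l = 0 ∧
      (1 : A') ⊗ₜ[B'] l = (LinearMap.ker g).subtype.rTensor L' t := by
    intro t
    induction t using TensorProduct.induction_on with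
    | zero => exact ⟨0, by simp, by simp⟩
    | tmul i l =>
      obtain ⟨i, hi⟩ := i
      have hi' : algebraMap A' A i = 0 := by rw [← hgapp]; exact hi
      obtain ⟨b', ⟨hb1, hb2⟩, _⟩ := hfib 0 i (by rw [map_zero, hi'])
      refine ⟨b' • l, ?_, ?_⟩
      · rw [← TensorProduct.smul_tmul, Algebra.smul_def, mul_one, hb1, TensorProduct.zero_tmul]
      · rw [← TensorProduct.smul_tmul, Algebra.smul_def, mul_one, hb2]
        rfl
    | add x y hx hy =>
      obtain ⟨l₁, h11, h12⟩ := hx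
      obtain ⟨l₂, h21, h22⟩ := hy
      exact ⟨l₁ + l₂, by rw [TensorProduct.tmul_add, h11, h21, add_zero],
        by rw [TensorProduct.tmul_add, h12, h22, map_add]⟩
  obtain ⟨l₁, hl1, hl2⟩ := h2 t
  refine ⟨l₀ + l₁, ?_, ?_⟩
  · rw [TensorProduct.tmul_add, hl1, add_zero]
  · rw [TensorProduct.tmul_add, hl2, ht]; abel

end Groth.Agent.S6916
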