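import Groth.Statements.S12081
import Mathlib
import Groth.Agent.H10.FibreSquare

set_option autoImplicit false
universe u
open TensorProduct
open EtAlg

namespace Groth.Agent.S12081

/-- Let `B' = B ×_A A'` be a fibre square of rings with `A' → A` surjective with kernel `I`, let `J =
Ker(B' → B)`, let `D'` be a `B'`-algebra and `C' = D' ⊗_{B'} A'`. Then the ideal `I C'` is, as a
subset of `C'`, the image of the ideal `J D'` under `D' → C'`; that is, the map `J D' → I C'` is
surjective. -/
theorem result (B' B A' A : Type u) [CommRing B'] [CommRing B] [CommRing A'] [CommRing A]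
    [Algebra B' B] [Algebra B' A'] [Algebra B A] [Algebra A' A] [Algebra B' A] [IsScalarTower B' B A] [IsScalarTower B' A' A]
    (hsq : EtMil.IsFibreSquare B' B A' A)
    (D' C' : Type u) [CommRing D'] [CommRing C'] [Algebra B' D'] [Algebra A' C']
    [Algebra D' C'] [Algebra B' C'] [IsScalarTower B' A' C'] [IsScalarTower B' D' C'] [Algebra.IsPushout B' A' D' C'] :
    (algebraMap D' C') '' ((RingHom.ker (algebraMap B' B)).map (algebraMap B' D') : Set D') =
      ((RingHom.ker (algebraMap A' A)).map (algebraMap A' C') : Set C') := by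
  have hpo : IsBaseChange A' (IsScalarTower.toAlgHom B' D' C').toLinearMap :=
    (inferInstance : Algebra.IsPushout B' A' D' C').out
  have hcomm : ∀ b : B', algebraMap D' C' (algebraMap B' D' b) =
      algebraMap A' C' (algebraMap B' A' b) := by
    intro b
    rw [← IsScalarTower.algebraMap_apply B' D' C', ← IsScalarTower.algebraMap_apply B' A' C']
  -- sub-claim Q
  have hQ : ∀ (a' : A') (y : D'), y ∈ (RingHom.ker (algebraMap B' B)).map (algebraMap B' D') →
      a' • algebraMap D' C' y ∈
        (algebraMap D' C') '' ((RingHom.ker (algebraMap B' B)).map (algebraMap B' D') : Set D') := by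
    intro a' y hy
    unfold Ideal.map at hy
    induction hy using Submodule.span_induction with
    | mem y hy =>
      obtain ⟨j, hj, rfl⟩ := hy
      rw [SetLike.mem_coe, RingHom.mem_ker] at hj
      obtain ⟨j', hj'1, hj'2⟩ := Groth.Agent.H10.fs_exists_ker hsq (a' * algebraMap B' A' j)
        (by rw [map_mul, Groth.Agent.H10.fs_ker_map j hj, mul_zero])
      refine ⟨algebraMap B' D' j', Ideal.mem_map_of_mem _ (RingHom.mem_ker.mpr hj'1), ?_⟩
      rw [hcomm, hcomm, hj'2, Algebra.smul_def, map_mul]
    | zero =>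
      exact ⟨0, Ideal.zero_mem _, by simp⟩
    | add y1 y2 _ _ h1 h2 =>
      obtain ⟨z1, hz1, e1⟩ := h1
      obtain ⟨z2, hz2, e2⟩ := h2
      exact ⟨z1 + z2, Ideal.add_mem _ hz1 hz2, by rw [map_add, map_add, smul_add, e1, e2]⟩
    | smul d y1 _ h1 =>
      obtain ⟨z1, hz1, e1⟩ := h1
      refine ⟨d * z1, Ideal.mul_mem_left _ d hz1, ?_⟩
      rw [smul_eq_mul, map_mul, map_mul, e1, mul_smul_comm]
  apply Set.eq_of_subset_of_subset
  · rintro _ ⟨y, hy, rfl⟩
    have hle : (RingHom.ker (algebraMap B' B)).map (algebraMap B' D') ≤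
        ((RingHom.ker (algebraMap A' A)).map (algebraMap A' C')).comap (algebraMap D' C') := by
      rw [Ideal.map_le_iff_le_comap]
      intro j hj
      rw [RingHom.mem_ker] at hj
      rw [Ideal.mem_comap, Ideal.mem_comap, hcomm]
      exact Ideal.mem_map_of_mem _ (RingHom.mem_ker.mpr (Groth.Agent.H10.fs_ker_map j hj))
    exact hle hy
  · intro x hx
    rw [SetLike.mem_coe] at hx
    unfold Ideal.map at hx
    induction hx using Submodule.span_induction with
    | mem x hx =>
      obtain ⟨i, hi, rfl⟩ := hx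
      rw [SetLike.mem_coe, RingHom.mem_ker] at hi
      obtain ⟨j, hj1, hj2⟩ := Groth.Agent.H10.fs_exists_ker hsq i hi
      exact ⟨algebraMap B' D' j, Ideal.mem_map_of_mem _ (RingHom.mem_ker.mpr hj1), by
        rw [hcomm, hj2]⟩
    | zero => exact ⟨0, Ideal.zero_mem _, map_zero _⟩
    | add x1 x2 _ _ h1 h2 =>
      obtain ⟨z1, hz1, e1⟩ := h1
      obtain ⟨z2, hz2, e2⟩ := h2
      exact ⟨z1 + z2, Ideal.add_mem _ hz1 hz2, by rw [map_add, e1, e2]⟩
    | smul c x1 _ h1 =>
      obtain ⟨z1, hz1, rfl⟩ := h1
      rw [smul_eq_mul]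
      -- induction on c
      have hP : ∀ c : C', ∀ y : D', y ∈ (RingHom.ker (algebraMap B' B)).map (algebraMap B' D') →
          c * algebraMap D' C' y ∈ (algebraMap D' C') ''
            ((RingHom.ker (algebraMap B' B)).map (algebraMap B' D') : Set D') := by
        intro c
        refine hpo.inductionOn c _ ?_ ?_ ?_ ?_
        · intro y _
          exact ⟨0, Ideal.zero_mem _, by rw [map_zero, zero_mul]⟩
        · intro d y hy
          exact ⟨d * y, Ideal.mul_mem_left _ d hy, by rw [map_mul]; rfl⟩
        · intro a' c0 h0 y hy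
          obtain ⟨y', hy', e'⟩ := h0 y hy
          rw [smul_mul_assoc, ← e']
          exact hQ a' y' hy'
        · intro c1 c2 h1 h2 y hy
          obtain ⟨w1, hw1, e1⟩ := h1 y hy
          obtain ⟨w2, hw2, e2⟩ := h2 y hy
          exact ⟨w1 + w2, Ideal.add_mem _ hw1 hw2, by rw [map_add, e1, e2, add_mul]⟩
      exact hP c z1 hz1

end Groth.Agent.S12081
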