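import Groth.Statements.S9806
import Groth.Agent.Lead.StalkLoc
-- import your own Groth.Agent.* helpers here

set_option autoImplicit false
universe u
open CategoryTheory AlgebraicGeometry TopologicalSpace
open Props

namespace Groth.Agent.S9806


section
open Opposite
open Groth.Agent.Lead.QCoh Groth.Agent.Lead.FinType Groth.Agent.Lead.FreeEpi Groth.Agent.Lead.FreeIso
open Groth.Agent.Lead.LocFree Groth.Agent.Lead.FPSec Groth.Agent.Lead.StalkLoc

set_option backward.isDefEq.respectTransparency false in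
theorem fwd (X : Scheme.{u}) (M : X.Modules) [M.IsQuasicoherent]
    [SheafOfModules.IsFinitePresentation.{u, u, u} (R := X.ringCatSheaf) M]
    (hfree : ∀ x : X, Module.Free (X.presheaf.stalk x) (M.presheaf.stalk x)) :
    FlatMod.IsFinLocFree M := by
  classical
  intro x
  have hx0 : x ∈ (⨆ U : X.affineOpens, (U : X.Opens)) := by
    rw [iSup_affineOpens_eq_top]; trivial
  obtain ⟨U0, hxU0⟩ := Opens.mem_iSup.mp hx0
  haveI := finitePresentation_sections M U0.2
  haveI := hfree x
  obtain ⟨f, hxf, r, g, hg, hli⟩ := exists_basis_basicOpen' M U0.2 x hxU0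
  have hV : IsAffineOpen (X.basicOpen f) := U0.2.basicOpen f
  let g' : ULift.{u} (Fin r) → Γ(M, X.basicOpen f) := fun i => g i.down
  have hg' : Submodule.span Γ(X, X.basicOpen f) (Set.range g') = ⊤ := by
    rw [eq_top_iff, ← hg]
    apply Submodule.span_mono
    rintro _ ⟨i, rfl⟩
    exact ⟨⟨i⟩, rfl⟩
  have hli' : LinearIndependent Γ(X, X.basicOpen f) g' :=
    hli.comp (fun i : ULift.{u} (Fin r) => i.down) Equiv.ulift.injective
  obtain ⟨e'⟩ := exists_iso_free_restrict M hV (ULift.{u} (Fin r)) g' hg' hli'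
  exact ⟨X.basicOpen f, r, hxf,
    ⟨e'.symm ≪≫ (freeModIso ((X.basicOpen f : X.Opens) : Scheme.{u}) r).symm⟩⟩

set_option backward.isDefEq.respectTransparency false in
theorem bwd (X : Scheme.{u}) (M : X.Modules) [M.IsQuasicoherent] (h : FlatMod.IsFinLocFree M)
    (x : X) : Module.Free (X.presheaf.stalk x) (M.presheaf.stalk x) := by
  obtain ⟨U, n, hxU, ⟨e⟩⟩ := h x
  obtain ⟨W', hW'aff, hxW', -⟩ := Opens.isBasis_iff_nbhd.mp
    (U : Scheme.{u}).isBasis_affineOpens
    (show (⟨x, hxU⟩ : U) ∈ (⊤ : (U : Scheme.{u}).Opens) from trivial)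
  obtain ⟨b⟩ := exists_basis_of_iso_freeMod M U e W'
  haveI : Module.Free Γ(X, U.ι ''ᵁ W') Γ(M, U.ι ''ᵁ W') := Module.Free.of_basis b
  exact free_stalk_of_free_sections M (hW'aff.image_of_isOpenImmersion U.ι) x
    ⟨⟨x, hxU⟩, hxW', rfl⟩
end

/-- A quasi-coherent module on a scheme is of finite presentation with all stalks free over the local
rings if and only if it is finite locally free. -/
theorem result (X : Scheme.{u}) (M : X.Modules) (hM : Coh.IsQCoh M) :
    (CohB1.IsFP M ∧ ∀ x : X, Module.Free (X.presheaf.stalk x) (M.presheaf.stalk x)) ↔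
      FlatMod.IsFinLocFree M := by
  haveI : M.IsQuasicoherent := hM
  constructor
  · rintro ⟨hfp, hfree⟩
    haveI : SheafOfModules.IsFinitePresentation.{u, u, u} (R := X.ringCatSheaf) M := hfp
    exact fwd X M hfree
  · intro h
    exact ⟨Groth.Agent.Lead.StalkLoc.isFP_of_isFinLocFree M h, fun x => bwd X M h x⟩

end Groth.Agent.S9806
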