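import Groth.Statements.S9285
import Mathlib

set_option autoImplicit false
universe u
open CAlg

namespace Groth.Agent.S9285

/-- A ring R has the property that every proper finitely generated ideal has a nonzero annihilator if
and only if every injective linear map R → R^n admits a retraction. -/
theorem result (R : Type u) [CommRing R] :
    (∀ I : Ideal R, I.FG → I ≠ ⊤ → I.annihilator ≠ ⊥) ↔
      ∀ (n : ℕ) (u : R →ₗ[R] (Fin n → R)), Function.Injective u →
        ∃ v : (Fin n → R) →ₗ[R] R, v.comp u = LinearMap.id := by
  constructor
  · intro h n u hu
    set a : Fin n → R := u 1 with ha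
    have hux : ∀ x : R, u x = x • a := by
      intro x
      have : u (x • (1 : R)) = x • u 1 := map_smul u x 1
      simpa using this
    have htop : Ideal.span (Set.range a) = ⊤ := by
      by_contra hne
      have hfg : (Ideal.span (Set.range a)).FG := Submodule.fg_span (Set.finite_range a)
      have hann := h _ hfg hne
      apply hann
      rw [eq_bot_iff]
      intro r hr
      rw [Submodule.mem_annihilator] at hr
      have hr0 : u r = 0 := by
        rw [hux]
        ext i
        have := hr (a i) (Ideal.subset_span ⟨i, rfl⟩)
        simpa using this
      have : r = 0 := hu (by rw [hr0, map_zero])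
      simp [this]
    have h1 : (1 : R) ∈ Ideal.span (Set.range a) := by rw [htop]; trivial
    rw [Ideal.mem_span_range_iff_exists_fun] at h1
    obtain ⟨b, hb⟩ := h1
    refine ⟨∑ i, b i • LinearMap.proj i, ?_⟩
    ext
    simp only [LinearMap.comp_apply, LinearMap.id_apply, hux]
    simp only [LinearMap.sum_apply, LinearMap.smul_apply, LinearMap.proj_apply, Pi.smul_apply,
      smul_eq_mul, one_mul]
    exact hb
  · intro h I hfg hne hann
    obtain ⟨n, a, ha⟩ := Submodule.fg_iff_exists_fin_generating_family.mp hfg
    let u : R →ₗ[R] (Fin n → R) := LinearMap.toSpanSingleton R (Fin n → R) a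
    have hu : Function.Injective u := by
      rw [injective_iff_map_eq_zero]
      intro x hx
      have hx' : ∀ i, x * a i = 0 := by
        intro i
        have := congrFun hx i
        simpa [u] using this
      have : x ∈ I.annihilator := by
        rw [Submodule.mem_annihilator]
        intro y hy
        rw [← ha] at hy
        refine Submodule.span_induction ?_ ?_ ?_ ?_ hy
        · rintro _ ⟨i, rfl⟩
          simpa using hx' i
        · simp
        · intro y z _ _ hy hz
          rw [smul_add, hy, hz, add_zero]
        · intro c y _ hy
          rw [smul_comm, hy, smul_zero]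
      rw [hann] at this
      simpa using this
    obtain ⟨v, hv⟩ := h n u hu
    apply hne
    rw [Ideal.eq_top_iff_one]
    have h1 : v (u 1) = 1 := by
      have := LinearMap.congr_fun hv 1
      simpa using this
    have hu1 : u 1 = a := by simp [u]
    rw [hu1] at h1
    have ha' : a = ∑ i, a i • (Pi.single i (1 : R) : Fin n → R) := by
      ext j
      simp [Finset.sum_apply, Pi.single_apply]
    rw [ha', map_sum] at h1
    rw [← h1]
    refine Ideal.sum_mem _ fun i _ => ?_
    rw [map_smul, smul_eq_mul]
    apply Ideal.mul_mem_right
    rw [← ha]
    exact Submodule.subset_span ⟨i, rfl⟩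

end Groth.Agent.S9285
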