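import Groth.Statements.S3869
import Mathlib

set_option autoImplicit false
universe u
open FCompl

namespace Groth.Agent.S3869

section helpers
open IsLocalRing

theorem isUnit_of_evalOne {R : Type u} [CommRing R] (I : Ideal R) (x : AdicCompletion I R)
    (h : IsUnit (AdicCompletion.evalOneₐ I x)) : IsUnit x := by
  have hu : ∀ n, IsUnit (x.val n) := by
    intro n
    rcases Nat.eq_zero_or_pos n with rfl | hn
    · haveI : Subsingleton (R ⧸ (I ^ 0 • ⊤ : Ideal R)) := by
        apply Ideal.Quotient.subsingleton_iff.mpr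
        simp
      exact isUnit_of_subsingleton _
    · obtain ⟨r, hr⟩ := Ideal.Quotient.mk_surjective (x.val n)
      have h1 : x.val 1 = Ideal.Quotient.mk _ r :=
        (x.property hn).symm.trans (by
          rw [← hr]; exact AdicCompletion.transitionMap_ideal_mk I hn r)
      have h2 : AdicCompletion.evalOneₐ I x = Ideal.Quotient.mk I r := by
        rw [← AdicCompletion.factorₐ_evalₐ_one,
          ← AdicCompletion.factor_eval_eq_evalₐ I x (le_of_eq (Ideal.mul_top _)),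
          AdicCompletion.eval_apply, h1] <;> rfl
      rw [h2] at h
      have h3 : IsUnit (Ideal.Quotient.mk (I ^ n) r) :=
        (Ideal.Quotient.isUnit_mk_pow_iff_isUnit_mk I hn.ne').mpr h
      rw [← hr]
      have e : (I ^ n • ⊤ : Ideal R) = I ^ n := Ideal.mul_top _
      rw [e]
      exact h3
  have hcompat : ∀ {m n : ℕ} (hmn : m ≤ n),
      AdicCompletion.transitionMap I R hmn (↑(hu n).unit⁻¹ : R ⧸ (I ^ n • ⊤ : Ideal R)) =
        ↑(hu m).unit⁻¹ := by
    intro m n hmn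
    have e1 : x.val m * AdicCompletion.transitionMap I R hmn (↑(hu n).unit⁻¹) = 1 := by
      rw [← x.property hmn, ← AdicCompletion.transitionMap_map_mul, IsUnit.mul_val_inv,
        AdicCompletion.transitionMap_map_one]
    have e2 : (↑(hu m).unit⁻¹ : R ⧸ (I ^ m • ⊤ : Ideal R)) * x.val m = 1 :=
      IsUnit.val_inv_mul (hu m)
    exact (left_inv_eq_right_inv e2 e1).symm
  let y : AdicCompletion I R := ⟨fun n => ↑(hu n).unit⁻¹, hcompat⟩
  refine IsUnit.of_mul_eq_one y ?_
  apply AdicCompletion.ext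
  intro n
  rw [AdicCompletion.val_mul, AdicCompletion.val_one]
  exact IsUnit.mul_val_inv (hu n)

theorem evalₐ_complMap_mk {S T : Type u} [CommRing S] [CommRing T] (I : Ideal S) (K : Ideal T)
    (g : S →+* T) (h : I.map g ≤ K) (n : ℕ) (x : AdicCompletion I S) (r : S)
    (hr : AdicCompletion.evalₐ I n x = Ideal.Quotient.mk (I ^ n) r) :
    AdicCompletion.evalₐ K n (FSch.complMap I K g h x) = Ideal.Quotient.mk (K ^ n) (g r) := by
  unfold FSch.complMap
  generalize_proofs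
  rw [AdicCompletion.evalₐ_liftRingHom]
  · simp only [RingHom.comp_apply, AlgHom.toRingHom_eq_coe, RingHom.coe_coe]
    rw [hr, Ideal.quotientMap_mk]
  · assumption

theorem evalOne_complMap_mk {S T : Type u} [CommRing S] [CommRing T] (I : Ideal S) (K : Ideal T)
    (g : S →+* T) (h : I.map g ≤ K) (x : AdicCompletion I S) (r : S)
    (hr : AdicCompletion.evalₐ I 1 x = Ideal.Quotient.mk (I ^ 1) r) :
    AdicCompletion.evalOneₐ K (FSch.complMap I K g h x) = Ideal.Quotient.mk K (g r) := by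
  rw [← AdicCompletion.factorₐ_evalₐ_one, evalₐ_complMap_mk I K g h 1 x r hr,
    Ideal.Quotient.factor_mk]

theorem complMap_comp_eq {S T U : Type u} [CommRing S] [CommRing T] [CommRing U]
    (I : Ideal S) (K : Ideal T) (L : Ideal U) (g₁ : S →+* T) (g₂ : T →+* U) (g₃ : S →+* U)
    (h₁ : I.map g₁ ≤ K) (h₂ : K.map g₂ ≤ L) (h₃ : I.map g₃ ≤ L) (hcomp : g₂.comp g₁ = g₃)
    (x : AdicCompletion I S) :
    FSch.complMap K L g₂ h₂ (FSch.complMap I K g₁ h₁ x) = FSch.complMap I L g₃ h₃ x := by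
  subst hcomp
  apply AdicCompletion.ext_evalₐ
  intro n
  obtain ⟨r, hr⟩ := Ideal.Quotient.mk_surjective (AdicCompletion.evalₐ I n x)
  have e1 := evalₐ_complMap_mk K L g₂ h₂ n _ (g₁ r) (evalₐ_complMap_mk I K g₁ h₁ n x r hr.symm)
  have e2 := evalₐ_complMap_mk I L (g₂.comp g₁) h₃ n x r hr.symm
  exact e1.trans e2.symm

theorem isUnit_of_isUnit_mk {R : Type u} [CommRing R] [IsLocalRing R] (I : Ideal R)
    (hI : I ≤ maximalIdeal R) (r : R) (h : IsUnit (Ideal.Quotient.mk I r)) : IsUnit r := by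
  obtain ⟨s', hs'⟩ := h.exists_right_inv
  obtain ⟨s, rfl⟩ := Ideal.Quotient.mk_surjective s'
  rw [← map_mul, ← map_one (Ideal.Quotient.mk I), Ideal.Quotient.eq] at hs'
  have h1 : r * s - 1 ∈ maximalIdeal R := hI hs'
  have h2 : IsUnit (r * s) := by
    by_contra hns
    have h3 : r * s ∈ maximalIdeal R := (IsLocalRing.mem_maximalIdeal _).mpr hns
    have h4 : (1 : R) ∈ maximalIdeal R := by
      have := (maximalIdeal R).sub_mem h3 h1
      simpa using this
    exact (maximalIdeal.isMaximal R).ne_top ((Ideal.eq_top_iff_one _).mpr h4)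
  exact isUnit_of_mul_isUnit_left h2

noncomputable def awayMap (A : Type u) [CommRing A] (f a : A) :
    Localization.Away f →+* Localization.Away (f * a) :=
  IsLocalization.Away.lift f (g := algebraMap A (Localization.Away (f * a)))
    (isUnit_of_mul_isUnit_left (by
      rw [← map_mul]
      exact IsLocalization.Away.algebraMap_isUnit (S := Localization.Away (f * a)) (f * a)))

theorem awayMap_algebraMap (A : Type u) [CommRing A] (f a x : A) :
    awayMap A f a (algebraMap A (Localization.Away f) x) =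
      algebraMap A (Localization.Away (f * a)) x := by
  simp [awayMap]

theorem map_awayMap_le (A : Type u) [CommRing A] (J : Ideal A) (f a : A) :
    (J.map (algebraMap A (Localization.Away f))).map (awayMap A f a) ≤
      J.map (algebraMap A (Localization.Away (f * a))) := by
  rw [Ideal.map_map]
  apply le_of_eq
  congr 1
  ext x
  simp [awayMap_algebraMap]

theorem awayToAtPrime_algebraMap (A : Type u) [CommRing A] (𝔭 : Ideal A) [𝔭.IsPrime] (f : A)
    (hf : f ∉ 𝔭) (x : A) :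
    FSch.awayToAtPrime A 𝔭 f hf (algebraMap A (Localization.Away f) x) =
      algebraMap A (Localization.AtPrime 𝔭) x := by
  simp [FSch.awayToAtPrime]

theorem awayToAtPrime_comp_awayMap (A : Type u) [CommRing A] (𝔭 : Ideal A) [𝔭.IsPrime]
    (f a : A) (hf : f ∉ 𝔭) (hfa : f * a ∉ 𝔭) :
    (FSch.awayToAtPrime A 𝔭 (f * a) hfa).comp (awayMap A f a) = FSch.awayToAtPrime A 𝔭 f hf := by
  apply IsLocalization.ringHom_ext (Submonoid.powers f)
  ext x
  simp [awayToAtPrime_algebraMap, awayMap_algebraMap]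

theorem cAwayToAtPrime_eq (A : Type u) [CommRing A] (J 𝔭 : Ideal A) [𝔭.IsPrime] (f a : A)
    (hf : f ∉ 𝔭) (hfa : f * a ∉ 𝔭) (x' : FSch.cAway A J f) :
    FSch.cAwayToAtPrime A J 𝔭 f hf x' =
      FSch.cAwayToAtPrime A J 𝔭 (f * a) hfa
        (FSch.complMap _ _ (awayMap A f a) (map_awayMap_le A J f a) x') := by
  unfold FSch.cAwayToAtPrime
  exact (complMap_comp_eq _ _ _ _ _ _ _ _ _ (awayToAtPrime_comp_awayMap A 𝔭 f a hf hfa) x').symm

theorem range_le (A : Type u) [CommRing A] (J 𝔭 : Ideal A) [𝔭.IsPrime] (f g : A) (hf : f ∉ 𝔭)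
    (hg : g ∉ 𝔭) (h : ∃ a, g = f * a) :
    (FSch.cAwayToAtPrime A J 𝔭 f hf).range ≤ (FSch.cAwayToAtPrime A J 𝔭 g hg).range := by
  obtain ⟨a, rfl⟩ := h
  rintro _ ⟨x', rfl⟩
  exact ⟨_, (cAwayToAtPrime_eq A J 𝔭 f a hf hg x').symm⟩

theorem mem_stalk_iff (A : Type u) [CommRing A] (J 𝔭 : Ideal A) [h𝔭 : 𝔭.IsPrime]
    (x : FSch.cAtPrime A J 𝔭) :
    x ∈ FSch.stalkSubring A J 𝔭 ↔
      ∃ (f : A) (hf : f ∉ 𝔭), x ∈ (FSch.cAwayToAtPrime A J 𝔭 f hf).range := by
  haveI : Nonempty {f : A // f ∉ 𝔭} := ⟨⟨1, (Ideal.ne_top_iff_one 𝔭).mp h𝔭.ne_top⟩⟩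
  have hdir : Directed (· ≤ ·)
      (fun f : {f : A // f ∉ 𝔭} => (FSch.cAwayToAtPrime A J 𝔭 f.1 f.2).range) := by
    intro f g
    have hfg : f.1 * g.1 ∉ 𝔭 := fun h => (h𝔭.mem_or_mem h).elim f.2 g.2
    exact ⟨⟨f.1 * g.1, hfg⟩, range_le A J 𝔭 _ _ f.2 hfg ⟨g.1, rfl⟩,
      range_le A J 𝔭 _ _ g.2 hfg ⟨f.1, mul_comm _ _⟩⟩
  unfold FSch.stalkSubring
  rw [Subring.mem_iSup_of_directed hdir]
  constructor
  · rintro ⟨f, hf⟩; exact ⟨f.1, f.2, hf⟩
  · rintro ⟨f, hf, h⟩; exact ⟨⟨f, hf⟩, h⟩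

theorem map_le_max (A : Type u) [CommRing A] (J 𝔭 : Ideal A) [𝔭.IsPrime] (hJ : J ≤ 𝔭) :
    J.map (algebraMap A (Localization.AtPrime 𝔭)) ≤ maximalIdeal (Localization.AtPrime 𝔭) := by
  rw [← Localization.AtPrime.map_eq_maximalIdeal]
  exact Ideal.map_mono hJ

noncomputable def psi (A : Type u) [CommRing A] (J 𝔭 : Ideal A) [𝔭.IsPrime] (hJ : J ≤ 𝔭) :
    FSch.cAtPrime A J 𝔭 →+* ResidueField (Localization.AtPrime 𝔭) :=
  (Ideal.Quotient.lift (J.map (algebraMap A (Localization.AtPrime 𝔭)))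
      (residue (Localization.AtPrime 𝔭))
      (fun a ha => (residue_eq_zero_iff a).mpr (map_le_max A J 𝔭 hJ ha))).comp
    (AdicCompletion.evalOneₐ (J.map (algebraMap A (Localization.AtPrime 𝔭)))).toRingHom

theorem psi_apply (A : Type u) [CommRing A] (J 𝔭 : Ideal A) [𝔭.IsPrime] (hJ : J ≤ 𝔭)
    (x : FSch.cAtPrime A J 𝔭) (r : Localization.AtPrime 𝔭)
    (h : AdicCompletion.evalOneₐ _ x = Ideal.Quotient.mk _ r) :
    psi A J 𝔭 hJ x = residue _ r := by
  unfold psi
  simp only [RingHom.comp_apply, AlgHom.toRingHom_eq_coe, RingHom.coe_coe]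
  rw [h, Ideal.Quotient.lift_mk]

theorem key_unit (A : Type u) [CommRing A] (J 𝔭 : Ideal A) [h𝔭 : 𝔭.IsPrime] (hJ : J ≤ 𝔭)
    (x : FSch.cAtPrime A J 𝔭) (hx : x ∈ FSch.stalkSubring A J 𝔭)
    (hu : IsUnit (psi A J 𝔭 hJ x)) : ∃ y ∈ FSch.stalkSubring A J 𝔭, x * y = 1 := by
  obtain ⟨f, hf, x', rfl⟩ := (mem_stalk_iff A J 𝔭 x).mp hx
  obtain ⟨r', hr'⟩ := Ideal.Quotient.mk_surjective
    (AdicCompletion.evalₐ (J.map (algebraMap A (Localization.Away f))) 1 x')
  have h1 : AdicCompletion.evalOneₐ _ (FSch.cAwayToAtPrime A J 𝔭 f hf x') =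
      Ideal.Quotient.mk _ (FSch.awayToAtPrime A 𝔭 f hf r') :=
    evalOne_complMap_mk _ _ _ _ x' r' hr'.symm
  have h2 : psi A J 𝔭 hJ (FSch.cAwayToAtPrime A J 𝔭 f hf x') =
      residue _ (FSch.awayToAtPrime A 𝔭 f hf r') := psi_apply A J 𝔭 hJ _ _ h1
  rw [h2] at hu
  have h3 : IsUnit (FSch.awayToAtPrime A 𝔭 f hf r') := by
    by_contra hn
    have : residue _ (FSch.awayToAtPrime A 𝔭 f hf r') = 0 :=
      (residue_eq_zero_iff _).mpr ((IsLocalRing.mem_maximalIdeal _).mpr hn)
    rw [this] at hu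
    exact not_isUnit_zero hu
  obtain ⟨⟨a', s⟩, hs⟩ := IsLocalization.mk'_surjective (Submonoid.powers f) r'
  have hs' : IsLocalization.mk' (Localization.Away f) a' s = r' := hs
  have hspec : r' * algebraMap A (Localization.Away f) (s : A) =
      algebraMap A (Localization.Away f) a' := by
    rw [← hs']; exact IsLocalization.mk'_spec _ a' s
  have hsunit : IsUnit (algebraMap A (Localization.AtPrime 𝔭) (s : A)) := by
    obtain ⟨k, hk⟩ := (Submonoid.mem_powers_iff _ _).mp s.2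
    rw [← hk, map_pow]
    exact (IsLocalization.map_units (Localization.AtPrime 𝔭)
      (⟨f, hf⟩ : 𝔭.primeCompl)).pow k
  have h4 : FSch.awayToAtPrime A 𝔭 f hf r' * algebraMap A (Localization.AtPrime 𝔭) (s : A) =
      algebraMap A (Localization.AtPrime 𝔭) a' := by
    have := congrArg (FSch.awayToAtPrime A 𝔭 f hf) hspec
    rw [map_mul, awayToAtPrime_algebraMap, awayToAtPrime_algebraMap] at this
    exact this
  have ha' : a' ∉ 𝔭 := by
    have hu' : IsUnit (algebraMap A (Localization.AtPrime 𝔭) a') := h4 ▸ h3.mul hsunit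
    exact (IsLocalization.AtPrime.isUnit_to_map_iff (Localization.AtPrime 𝔭) 𝔭 a').mp hu'
  have hfa : f * a' ∉ 𝔭 := fun h => (h𝔭.mem_or_mem h).elim hf ha'
  have h5 : IsUnit (awayMap A f a' r') := by
    have e : awayMap A f a' r' * algebraMap A (Localization.Away (f * a')) (s : A) =
        algebraMap A (Localization.Away (f * a')) a' := by
      have := congrArg (awayMap A f a') hspec
      rw [map_mul, awayMap_algebraMap, awayMap_algebraMap] at this
      exact this
    have hau : IsUnit (algebraMap A (Localization.Away (f * a')) a') := by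
      have := IsLocalization.Away.algebraMap_isUnit (S := Localization.Away (f * a')) (f * a')
      rw [map_mul] at this
      exact isUnit_of_mul_isUnit_right this
    rw [← e] at hau
    exact isUnit_of_mul_isUnit_left hau
  have h6 : IsUnit (FSch.complMap _ _ (awayMap A f a') (map_awayMap_le A J f a') x') := by
    apply isUnit_of_evalOne
    rw [evalOne_complMap_mk _ _ _ _ x' r' hr'.symm]
    exact h5.map (Ideal.Quotient.mk _)
  obtain ⟨u, hu''⟩ := h6
  refine ⟨FSch.cAwayToAtPrime A J 𝔭 (f * a') hfa ↑u⁻¹, ?_, ?_⟩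
  · exact (mem_stalk_iff A J 𝔭 _).mpr ⟨f * a', hfa, _, rfl⟩
  · rw [cAwayToAtPrime_eq A J 𝔭 f a' hf hfa x', ← hu'', ← map_mul, Units.mul_inv, map_one]

end helpers

/-- For a ring A, an ideal J and a prime ideal 𝔭, let A{S⁻¹}, S = A ∖ 𝔭, be the completion of A_𝔭 for
the topology defined by the extension of J, and for f ∉ 𝔭 let A_{f} be the completion of A_f for the
topology defined by the extension of J. Consider the subring A_{S} of A{S⁻¹} generated by the images
of all the A_{f}, f ∉ 𝔭 (when A is adic Noetherian and 𝔭 is open, this is the inductive limit of the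
A_{f}, i.e. the stalk at 𝔭 of the structure sheaf of Spf(A) as a plain ring). If J ⊆ 𝔭, then A_{S}
is a local ring and its inclusion into A{S⁻¹} is a local homomorphism. -/
theorem result (A : Type u) [CommRing A] (J : Ideal A) (𝔭 : Ideal A) [𝔭.IsPrime]
    (hJ : J ≤ 𝔭) :
    IsLocalRing (FSch.stalkSubring A J 𝔭) ∧ IsLocalHom (FSch.stalkSubring A J 𝔭).subtype := by
  have hK := key_unit A J 𝔭 hJ
  have hloc : ∀ x : FSch.stalkSubring A J 𝔭,
      IsUnit (psi A J 𝔭 hJ (x : FSch.cAtPrime A J 𝔭)) → IsUnit x := by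
    intro x hx
    obtain ⟨y, hy, hxy⟩ := hK x.1 x.2 hx
    exact IsUnit.of_mul_eq_one ⟨y, hy⟩ (Subtype.ext hxy)
  constructor
  · let ψ' : FSch.stalkSubring A J 𝔭 →+* IsLocalRing.ResidueField (Localization.AtPrime 𝔭) :=
      (psi A J 𝔭 hJ).comp (FSch.stalkSubring A J 𝔭).subtype
    haveI : IsLocalHom ψ' := ⟨fun x hx => hloc x hx⟩
    exact RingHom.domain_isLocalRing ψ'
  · exact ⟨fun x hx => hloc x (hx.map (psi A J 𝔭 hJ))⟩

end Groth.Agent.S3869
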