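import Groth.Statements.S12915
import Mathlib

set_option autoImplicit false
universe u
open CAlgX

namespace Groth.Agent.S12915


theorem finrank_homog_gen (k : Type u) [Field k] (r d : ℕ) :
    Module.finrank k (MvPolynomial.homogeneousSubmodule (Fin (r + 1)) k d) =
      Nat.choose (d + r) r := by
  have hset : {e : Fin (r + 1) →₀ ℕ | e.degree = d} =
      ((Finset.univ : Finset (Fin (r + 1))).finsuppAntidiag d : Set (Fin (r + 1) →₀ ℕ)) := by
    ext e
    simp [Finset.mem_finsuppAntidiag, Finsupp.degree_eq_sum]
  rw [MvPolynomial.homogeneousSubmodule_eq_finsupp_supported, hset,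
    LinearEquiv.finrank_eq (AddMonoidAlgebra.supportedEquivFinsupp _),
    Module.finrank_finsupp_self]
  simp only [Finset.coe_sort_coe, Fintype.card_coe]
  rw [Finset.card_finsuppAntidiag_nat_eq_choose]
  simp only [Finset.card_univ, Fintype.card_fin]
  rw [show r + 1 + d - 1 = d + r by omega,
    ← Nat.choose_symm_of_eq_add (by omega : d + r = r + d)]

theorem hc_mul_gen {k : Type u} [Field k] {σ : Type} (f g : MvPolynomial σ k) (m t : ℕ)
    (hf : f.IsHomogeneous m) (ht : m ≤ t) :
    MvPolynomial.homogeneousComponent t (f * g) =
      f * MvPolynomial.homogeneousComponent (t - m) g := by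
  conv_lhs => rw [← MvPolynomial.sum_homogeneousComponent g, Finset.mul_sum, map_sum]
  have key : ∀ i ∈ Finset.range (g.totalDegree + 1),
      MvPolynomial.homogeneousComponent t (f * MvPolynomial.homogeneousComponent i g) =
        if i = t - m then f * MvPolynomial.homogeneousComponent i g else 0 := by
    intro i _
    rw [MvPolynomial.homogeneousComponent_of_mem
      (hf.mul (MvPolynomial.homogeneousComponent_isHomogeneous i g))]
    by_cases h : i = t - m
    · rw [if_pos h, if_pos (by omega)]
    · rw [if_neg h, if_neg (by omega)]
  rw [Finset.sum_congr rfl key, Finset.sum_ite_eq']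
  split_ifs with h
  · rfl
  · rw [Finset.mem_range, not_lt] at h
    have h0 : MvPolynomial.homogeneousComponent (t - m) g = 0 :=
      MvPolynomial.homogeneousComponent_eq_zero _ _ (by omega)
    rw [h0, mul_zero]


/-- Let k be a field, S = k[x_0, …, x_r], and f a nonzero homogeneous polynomial of degree m. For every
t ≥ m the image in S/(f) of the homogeneous polynomials of degree t is a k-vector space of dimension
C(t + r, r) - C(t + r - m, r). (The published clause states that the hypersurface f = 0 in P^r has
degree m; its proof computes exactly this Hilbert function, whose polynomial has leading term m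
t^(r-1)/(r-1)!, and that computation is what is stated here.) -/
theorem result (k : Type u) [Field k] (r m : ℕ)
    (f : MvPolynomial (Fin (r + 1)) k) (hf : f.IsHomogeneous m) (hf0 : f ≠ 0) (t : ℕ) (ht : m ≤ t) :
    Module.finrank k
        (Submodule.map ((Ideal.Quotient.mkₐ k (Ideal.span {f})).toLinearMap)
          (MvPolynomial.homogeneousSubmodule (Fin (r + 1)) k t)) =
      Nat.choose (t + r) r - Nat.choose (t + r - m) r := by
  classical
  set V := MvPolynomial.homogeneousSubmodule (Fin (r + 1)) k t with hV
  set W := MvPolynomial.homogeneousSubmodule (Fin (r + 1)) k (t - m) with hW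
  set π := (Ideal.Quotient.mkₐ k (Ideal.span {f})).toLinearMap with hπ
  haveI : Module.Finite k V :=
    Module.Finite.iff_fg.mpr (MvPolynomial.homogeneousSubmodule_fg _ k t)
  haveI : Module.Finite k W :=
    Module.Finite.iff_fg.mpr (MvPolynomial.homogeneousSubmodule_fg _ k (t - m))
  let g : V →ₗ[k] _ := π.domRestrict V
  have hrange : LinearMap.range g = Submodule.map π V := LinearMap.range_domRestrict V π
  have hrk := LinearMap.finrank_range_add_finrank_ker g
  have hmem : ∀ a ∈ W, (LinearMap.mulLeft k f) a ∈ V := by
    intro a ha
    have h1 : (f * a).IsHomogeneous (m + (t - m)) := hf.mul ha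
    rw [show m + (t - m) = t by omega] at h1
    exact h1
  let ψ : W →ₗ[k] V := (LinearMap.mulLeft k f).restrict hmem
  have hψinj : Function.Injective ψ := by
    intro a b hab
    have h1 : f * a.1 = f * b.1 := congrArg Subtype.val hab
    exact Subtype.ext (mul_left_cancel₀ hf0 h1)
  have hψrange : LinearMap.range ψ = LinearMap.ker g := by
    ext v
    rw [LinearMap.mem_range, LinearMap.mem_ker]
    constructor
    · rintro ⟨a, rfl⟩
      show (Ideal.Quotient.mk (Ideal.span {f})) (f * a.1) = 0
      rw [Ideal.Quotient.eq_zero_iff_mem]
      exact Ideal.mul_mem_right _ _ (Ideal.mem_span_singleton_self f)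
    · intro hv
      have hv' : (Ideal.Quotient.mk (Ideal.span {f})) v.1 = 0 := hv
      rw [Ideal.Quotient.eq_zero_iff_mem, Ideal.mem_span_singleton] at hv'
      obtain ⟨c, hc⟩ := hv'
      refine ⟨⟨MvPolynomial.homogeneousComponent (t - m) c,
        MvPolynomial.homogeneousComponent_isHomogeneous _ _⟩, ?_⟩
      apply Subtype.ext
      show f * MvPolynomial.homogeneousComponent (t - m) c = v.1
      rw [← hc_mul_gen f c m t hf ht, ← hc]
      exact MvPolynomial.homogeneousComponent_eq_self v.2
  have hker : Module.finrank k (LinearMap.ker g) = Module.finrank k W := by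
    rw [← hψrange]
    exact LinearMap.finrank_range_of_inj hψinj
  rw [← hrange]
  have e1 : Module.finrank k V = Nat.choose (t + r) r := finrank_homog_gen k r t
  have e2 : Module.finrank k W = Nat.choose (t + r - m) r := by
    rw [show t + r - m = t - m + r by omega]
    exact finrank_homog_gen k r (t - m)
  omega

end Groth.Agent.S12915
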