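import Groth.Statements.S10820
import Mathlib

set_option autoImplicit false
universe u
open AlgebraicGeometry Topology TopologicalSpace
open Variety

namespace Groth.Agent.S10820

theorem isHomogeneous_of_minimal {A σ : Type*} [CommRing A] [SetLike σ A] [AddSubgroupClass σ A]
    (𝒜 : ℕ → σ) [GradedRing 𝒜]
    (J : Ideal A) (hJ : J.IsHomogeneous 𝒜) (q : Ideal A) (hq : q ∈ J.minimalPrimes) :
    q.IsHomogeneous 𝒜 := by
  have hqp : q.IsPrime := hq.1.1
  have h1 : (q.homogeneousCore 𝒜).toIdeal.IsPrime := Ideal.IsPrime.homogeneousCore hqp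
  have h2 : (q.homogeneousCore 𝒜).toIdeal ≤ q := Ideal.toIdeal_homogeneousCore_le 𝒜 q
  have h3 : J ≤ (q.homogeneousCore 𝒜).toIdeal := by
    rw [← hJ.toIdeal_homogeneousCore_eq_self]
    exact Ideal.homogeneousCore_mono 𝒜 hq.1.2
  have h4 : q ≤ (q.homogeneousCore 𝒜).toIdeal := hq.2 ⟨h1, h3⟩ h2
  have : (q.homogeneousCore 𝒜).toIdeal = q := le_antisymm h2 h4
  rw [← this]
  exact (q.homogeneousCore 𝒜).isHomogeneous

theorem principal_of_minimal {R : Type*} [CommRing R] [IsDomain R] [UniqueFactorizationMonoid R]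
    (f : R) (hf : f ≠ 0) (p : Ideal R) (hp : p ∈ (Ideal.span {f}).minimalPrimes) :
    ∃ g, p = Ideal.span {g} := by
  have hpp : p.IsPrime := hp.1.1
  have hfp : f ∈ p := hp.1.2 (Ideal.mem_span_singleton_self f)
  have hprod : (UniqueFactorizationMonoid.factors f).prod ∈ p := by
    obtain ⟨u, hu⟩ := UniqueFactorizationMonoid.factors_prod hf
    have : (UniqueFactorizationMonoid.factors f).prod = f * ↑u⁻¹ := by
      rw [Units.eq_mul_inv_iff_mul_eq]; exact hu
    rw [this]; exact Ideal.mul_mem_right _ _ hfp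
  obtain ⟨g, hg, hgp⟩ := (Ideal.IsPrime.multiset_prod_mem_iff_exists_mem hpp _).mp hprod
  have hgprime : Prime g := UniqueFactorizationMonoid.prime_of_factor g hg
  have hgf : g ∣ f := UniqueFactorizationMonoid.dvd_of_mem_factors hg
  have hgle : Ideal.span {g} ≤ p := by
    rw [Ideal.span_singleton_le_iff_mem]; exact hgp
  refine ⟨g, le_antisymm ?_ hgle⟩
  exact hp.2 ⟨(Ideal.span_singleton_prime hgprime.ne_zero).mpr hgprime,
    Ideal.span_singleton_le_span_singleton.mpr hgf⟩ hgle

theorem three_le_height (k : Type u) [Field k] (n : ℕ) (hn : 2 ≤ n)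
    (q : Ideal (MvPolynomial (Fin (n+1)) k)) [hq : q.IsPrime]
    (hX : ∀ i, (MvPolynomial.X i : MvPolynomial (Fin (n+1)) k) ∈ q) : 3 ≤ q.height := by
  let φ : ℕ → MvPolynomial (Fin (n+1)) k →ₐ[k] MvPolynomial (Fin (n+1)) k := fun j =>
    MvPolynomial.aeval (fun i : Fin (n+1) => if i.val < j then 0 else MvPolynomial.X i)
  have hφX : ∀ j i, φ j (MvPolynomial.X i) = if i.val < j then 0 else MvPolynomial.X i :=
    fun j i => MvPolynomial.aeval_X _ _
  have hcomp : ∀ a b : ℕ, a ≤ b → ∀ p, φ b (φ a p) = φ b p := by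
    intro a b hab p
    have : (φ b).comp (φ a) = φ b := by
      apply MvPolynomial.algHom_ext
      intro i
      rw [AlgHom.comp_apply, hφX a i, hφX b i]
      by_cases hia : i.val < a
      · rw [if_pos hia, if_pos (lt_of_lt_of_le hia hab), map_zero]
      · rw [if_neg hia, hφX b i]
    exact congrArg (fun f => f p) this
  have hXne : ∀ i : Fin (n+1), (MvPolynomial.X i : MvPolynomial (Fin (n+1)) k) ≠ 0 :=
    fun i => MvPolynomial.X_ne_zero i
  have hdiff : ∀ j p, p - φ j p ∈ q := by
    intro j p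
    induction p using MvPolynomial.induction_on with
    | C a => 
      have : φ j (MvPolynomial.C a) = MvPolynomial.C a := (φ j).commutes a
      rw [this, sub_self]; exact q.zero_mem
    | add a b ha hb =>
      rw [map_add, add_sub_add_comm]; exact q.add_mem ha hb
    | mul_X a i ha =>
      rw [map_mul]
      have : a * MvPolynomial.X i - φ j a * φ j (MvPolynomial.X i) =
          (a - φ j a) * MvPolynomial.X i + φ j a * (MvPolynomial.X i - φ j (MvPolynomial.X i)) := by
        ring
      rw [this]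
      refine q.add_mem (q.mul_mem_right _ ha) (q.mul_mem_left _ ?_)
      rw [hφX]
      split_ifs
      · rw [sub_zero]; exact hX i
      · rw [sub_self]; exact q.zero_mem
  have hP : ∀ j, (RingHom.ker (φ j)).IsPrime := fun j => RingHom.ker_isPrime _
  have i0 : Fin (n+1) := ⟨0, by omega⟩
  have h01 : (⊥ : Ideal (MvPolynomial (Fin (n+1)) k)) < RingHom.ker (φ 1) := by
    refine lt_of_le_of_ne bot_le ?_
    intro h
    have h1 : (MvPolynomial.X (⟨0, by omega⟩ : Fin (n+1)) : MvPolynomial (Fin (n+1)) k) ∈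
        RingHom.ker (φ 1) := by
      rw [RingHom.mem_ker, hφX, if_pos (by simp)]
    rw [← h] at h1
    exact hXne _ h1
  have h12 : RingHom.ker (φ 1) < RingHom.ker (φ 2) := by
    refine lt_of_le_of_ne ?_ ?_
    · intro p hp
      rw [RingHom.mem_ker] at hp ⊢
      rw [← hcomp 1 2 (by norm_num), hp, map_zero]
    · intro h
      have h1 : (MvPolynomial.X (⟨1, by omega⟩ : Fin (n+1)) : MvPolynomial (Fin (n+1)) k) ∈
          RingHom.ker (φ 2) := by
        rw [RingHom.mem_ker, hφX, if_pos (by simp)]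
      rw [← h, RingHom.mem_ker, hφX, if_neg (by simp)] at h1
      exact hXne _ h1
  have h2q : RingHom.ker (φ 2) < q := by
    refine lt_of_le_of_ne ?_ ?_
    · intro p hp
      rw [RingHom.mem_ker] at hp
      have := hdiff 2 p
      rwa [hp, sub_zero] at this
    · intro h
      have h1 : (MvPolynomial.X (⟨2, by omega⟩ : Fin (n+1)) : MvPolynomial (Fin (n+1)) k) ∈
          RingHom.ker (φ 2) := by
        rw [h]; exact hX _
      rw [RingHom.mem_ker, hφX, if_neg (by simp)] at h1
      exact hXne _ h1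
  have hb : (⊥ : Ideal (MvPolynomial (Fin (n+1)) k)).IsPrime := Ideal.isPrime_bot
  have e1 := Ideal.height_add_one_le_of_lt_of_isPrime h01
  have e2 := Ideal.height_add_one_le_of_lt_of_isPrime h12
  have e3 := Ideal.height_add_one_le_of_lt_of_isPrime h2q
  calc (3 : ℕ∞) = 0 + 1 + 1 + 1 := by norm_num
    _ ≤ (⊥ : Ideal (MvPolynomial (Fin (n+1)) k)).height + 1 + 1 + 1 := by gcongr; exact bot_le
    _ ≤ (RingHom.ker (φ 1)).height + 1 + 1 := by gcongr
    _ ≤ (RingHom.ker (φ 2)).height + 1 := by gcongr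
    _ ≤ q.height := e3

theorem le_irrelevant (k : Type u) [Field k] (n : ℕ) (J : Ideal (MvPolynomial (Fin (n+1)) k))
    (hJ : J.IsHomogeneous (CohB1.polyGrading n k)) (hne : J ≠ ⊤) :
    J ≤ (HomogeneousIdeal.irrelevant (CohB1.polyGrading n k)).toIdeal := by
  intro p hp
  show p ∈ (HomogeneousIdeal.irrelevant (CohB1.polyGrading n k))
  rw [HomogeneousIdeal.mem_irrelevant_iff, GradedRing.proj_apply]
  have h0 : ((DirectSum.decompose (CohB1.polyGrading n k) p 0 :
      CohB1.polyGrading n k 0) : MvPolynomial (Fin (n+1)) k) ∈ J := hJ 0 hp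
  have h1 : ((DirectSum.decompose (CohB1.polyGrading n k) p 0 :
      CohB1.polyGrading n k 0) : MvPolynomial (Fin (n+1)) k).IsHomogeneous 0 :=
    (DirectSum.decompose (CohB1.polyGrading n k) p 0).2
  rw [← MvPolynomial.totalDegree_zero_iff_isHomogeneous,
    MvPolynomial.totalDegree_eq_zero_iff_eq_C] at h1
  by_contra hne'
  have hc : MvPolynomial.coeff 0 ((DirectSum.decompose (CohB1.polyGrading n k) p 0 :
      CohB1.polyGrading n k 0) : MvPolynomial (Fin (n+1)) k) ≠ 0 := by
    intro h
    rw [h, map_zero] at h1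
    exact hne' h1
  have hu : IsUnit ((DirectSum.decompose (CohB1.polyGrading n k) p 0 :
      CohB1.polyGrading n k 0) : MvPolynomial (Fin (n+1)) k) := by
    rw [h1]
    exact (IsUnit.mk0 _ hc).map MvPolynomial.C
  exact hne (Ideal.eq_top_of_isUnit_mem _ h0 hu)

/-- For a field k, n ≥ 2 and a nonzero homogeneous polynomial f of degree d ≥ 1 in n + 1 variables, the
hypersurface V_+(f) in projective n-space over k (as a subspace of Proj of the polynomial ring
graded by degree) is connected and nonempty. -/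
theorem result (k : Type u) [Field k] (n d : ℕ) (hn : 2 ≤ n)
    (f : MvPolynomial (Fin (n + 1)) k) (hf : f.IsHomogeneous d) (hd : 0 < d) (hf0 : f ≠ 0) :
    IsConnected (ProjectiveSpectrum.zeroLocus (CohB1.polyGrading n k)
      ({f} : Set (MvPolynomial (Fin (n + 1)) k))) := by
  classical
  have hfhom : (Ideal.span ({f} : Set (MvPolynomial (Fin (n + 1)) k))).IsHomogeneous
      (CohB1.polyGrading n k) := by
    apply Ideal.homogeneous_span
    rintro x rfl
    exact ⟨d, (MvPolynomial.mem_homogeneousSubmodule d x).mpr hf⟩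
  have hirr : (HomogeneousIdeal.irrelevant (CohB1.polyGrading n k)).toIdeal.IsPrime := by
    rw [HomogeneousIdeal.toIdeal_irrelevant]; exact RingHom.ker_isPrime _
  have hXirr : ∀ i : Fin (n+1), (MvPolynomial.X i : MvPolynomial (Fin (n+1)) k) ∈
      (HomogeneousIdeal.irrelevant (CohB1.polyGrading n k)).toIdeal := fun i =>
    HomogeneousIdeal.mem_irrelevant_of_mem _ one_pos
      ((MvPolynomial.mem_homogeneousSubmodule 1 _).mpr (MvPolynomial.isHomogeneous_X _ _))
  have hfm : f ∈ (HomogeneousIdeal.irrelevant (CohB1.polyGrading n k)).toIdeal :=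
    HomogeneousIdeal.mem_irrelevant_of_mem _ hd
      ((MvPolynomial.mem_homogeneousSubmodule d _).mpr hf)
  have hspan_ne : Ideal.span ({f} : Set (MvPolynomial (Fin (n + 1)) k)) ≠ ⊤ := by
    intro h
    apply hirr.ne_top
    rw [eq_top_iff, ← h, Ideal.span_singleton_le_iff_mem]
    exact hfm
  -- minimal primes of (f) give points
  have key1 : ∀ p ∈ (Ideal.span ({f} : Set (MvPolynomial (Fin (n + 1)) k))).minimalPrimes,
      ∃ x : ProjectiveSpectrum (CohB1.polyGrading n k), x.asHomogeneousIdeal.toIdeal = p := by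
    intro p hp
    have hpp : p.IsPrime := hp.1.1
    have hph := isHomogeneous_of_minimal (CohB1.polyGrading n k) _ hfhom p hp
    have hht : p.height ≤ 1 := by
      haveI : (Ideal.span ({f} : Set (MvPolynomial (Fin (n + 1)) k))).IsPrincipal := ⟨⟨f, rfl⟩⟩
      exact Ideal.height_le_one_of_isPrincipal_of_mem_minimalPrimes _ p hp
    refine ⟨⟨⟨p, hph⟩, hpp, ?_⟩, rfl⟩
    intro hle
    have h3 := three_le_height k n hn p (fun i => hle (hXirr i))
    have := h3.trans hht
    norm_num at this
  have key2 : ∀ p ∈ (Ideal.span ({f} : Set (MvPolynomial (Fin (n + 1)) k))).minimalPrimes,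
      ∀ p' ∈ (Ideal.span ({f} : Set (MvPolynomial (Fin (n + 1)) k))).minimalPrimes,
      ∃ y : ProjectiveSpectrum (CohB1.polyGrading n k),
        p ≤ y.asHomogeneousIdeal.toIdeal ∧ p' ≤ y.asHomogeneousIdeal.toIdeal := by
    intro p hp p' hp'
    have hpp : p.IsPrime := hp.1.1
    have hpp' : p'.IsPrime := hp'.1.1
    have hph := isHomogeneous_of_minimal (CohB1.polyGrading n k) _ hfhom p hp
    have hph' := isHomogeneous_of_minimal (CohB1.polyGrading n k) _ hfhom p' hp'
    obtain ⟨g, hg⟩ := principal_of_minimal f hf0 p hp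
    obtain ⟨g', hg'⟩ := principal_of_minimal f hf0 p' hp'
    have hsup_hom : (p ⊔ p').IsHomogeneous (CohB1.polyGrading n k) := hph.sup hph'
    have hsup_ne : p ⊔ p' ≠ ⊤ := by
      intro h
      apply hirr.ne_top
      rw [eq_top_iff, ← h]
      exact sup_le (le_irrelevant k n p hph hpp.ne_top) (le_irrelevant k n p' hph' hpp'.ne_top)
    obtain ⟨⟨q, hq⟩⟩ := Ideal.nonempty_minimalPrimes hsup_ne
    have hqp : q.IsPrime := hq.1.1
    have hqh := isHomogeneous_of_minimal (CohB1.polyGrading n k) _ hsup_hom q hq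
    have hspan : p ⊔ p' = Ideal.span (({g, g'} : Finset (MvPolynomial (Fin (n + 1)) k)) :
        Set (MvPolynomial (Fin (n + 1)) k)) := by
      rw [hg, hg', Finset.coe_insert, Finset.coe_singleton, Ideal.span_insert]
    have hht : q.height ≤ 2 := by
      rw [hspan] at hq
      refine (Ideal.height_le_card_of_mem_minimalPrimes_span_finset hq).trans ?_
      exact_mod_cast Finset.card_le_two
    refine ⟨⟨⟨q, hqh⟩, hqp, ?_⟩, le_sup_left.trans hq.1.2, le_sup_right.trans hq.1.2⟩
    intro hle
    have h3 := three_le_height k n hn q (fun i => hle (hXirr i))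
    have := h3.trans hht
    norm_num at this
  have hcover : ∀ x ∈ ProjectiveSpectrum.zeroLocus (CohB1.polyGrading n k)
      ({f} : Set (MvPolynomial (Fin (n + 1)) k)),
      ∃ p ∈ (Ideal.span ({f} : Set (MvPolynomial (Fin (n + 1)) k))).minimalPrimes,
        p ≤ x.asHomogeneousIdeal.toIdeal := by
    intro x hx
    rw [ProjectiveSpectrum.mem_zeroLocus] at hx
    haveI := x.isPrime
    exact Ideal.exists_minimalPrimes_le (Ideal.span_le.mpr hx)
  have hsub : ∀ a : ProjectiveSpectrum (CohB1.polyGrading n k),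
      f ∈ a.asHomogeneousIdeal.toIdeal →
      closure ({a} : Set (ProjectiveSpectrum (CohB1.polyGrading n k))) ⊆
        ProjectiveSpectrum.zeroLocus (CohB1.polyGrading n k)
          ({f} : Set (MvPolynomial (Fin (n + 1)) k)) := by
    intro a ha z hz
    rw [← ProjectiveSpectrum.le_iff_mem_closure] at hz
    rw [ProjectiveSpectrum.mem_zeroLocus, Set.singleton_subset_iff]
    exact hz ha
  refine ⟨?_, ?_⟩
  · obtain ⟨⟨p, hp⟩⟩ := Ideal.nonempty_minimalPrimes hspan_ne
    obtain ⟨x, hx⟩ := key1 p hp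
    refine ⟨x, ?_⟩
    rw [ProjectiveSpectrum.mem_zeroLocus, Set.singleton_subset_iff]
    show f ∈ x.asHomogeneousIdeal.toIdeal
    rw [hx]
    exact hp.1.2 (Ideal.mem_span_singleton_self f)
  · apply isPreconnected_of_forall_pair
    intro x hx y hy
    obtain ⟨p, hp, hpx⟩ := hcover x hx
    obtain ⟨p', hp', hpy⟩ := hcover y hy
    obtain ⟨a, ha⟩ := key1 p hp
    obtain ⟨b, hb⟩ := key1 p' hp'
    obtain ⟨c, hc1, hc2⟩ := key2 p hp p' hp'
    refine ⟨closure {a} ∪ closure {b}, ?_, Or.inl ?_, Or.inr ?_, ?_⟩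
    · apply Set.union_subset
      · apply hsub
        rw [ha]; exact hp.1.2 (Ideal.mem_span_singleton_self f)
      · apply hsub
        rw [hb]; exact hp'.1.2 (Ideal.mem_span_singleton_self f)
    · rw [← ProjectiveSpectrum.le_iff_mem_closure]
      show a.asHomogeneousIdeal.toIdeal ≤ x.asHomogeneousIdeal.toIdeal
      rw [ha]; exact hpx
    · rw [← ProjectiveSpectrum.le_iff_mem_closure]
      show b.asHomogeneousIdeal.toIdeal ≤ y.asHomogeneousIdeal.toIdeal
      rw [hb]; exact hpy
    · refine IsPreconnected.union' ⟨c, ?_, ?_⟩ isPreconnected_singleton.closure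
        isPreconnected_singleton.closure
      · rw [← ProjectiveSpectrum.le_iff_mem_closure]
        show a.asHomogeneousIdeal.toIdeal ≤ c.asHomogeneousIdeal.toIdeal
        rw [ha]; exact hc1
      · rw [← ProjectiveSpectrum.le_iff_mem_closure]
        show b.asHomogeneousIdeal.toIdeal ≤ c.asHomogeneousIdeal.toIdeal
        rw [hb]; exact hc2

end Groth.Agent.S10820
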