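import Groth.Statements.S10840
import Mathlib
import Groth.Agent.S10820

set_option autoImplicit false
universe u
open AlgebraicGeometry Topology
open Variety

namespace Groth.Agent.S10840

open AlgebraicGeometry in
theorem quasiSober_PS {A σ : Type u} [CommRing A] [SetLike σ A] [AddSubgroupClass σ A] (𝒜 : ℕ → σ)
    [GradedRing 𝒜] : QuasiSober (ProjectiveSpectrum 𝒜) :=
  (inferInstance : QuasiSober ↥(Proj 𝒜))

open AlgebraicGeometry in
theorem t0_PS {A σ : Type u} [CommRing A] [SetLike σ A] [AddSubgroupClass σ A] (𝒜 : ℕ → σ)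
    [GradedRing 𝒜] : T0Space (ProjectiveSpectrum 𝒜) :=
  (inferInstance : T0Space ↥(Proj 𝒜))

theorem topDim_eq {X : Type*} [TopologicalSpace X] [QuasiSober X] [T0Space X] :
    topologicalKrullDim X = @Order.krullDim X (specializationPreorder X) := by
  letI := specializationOrder X
  exact Order.krullDim_eq_of_orderIso (irreducibleSetEquivPoints (α := X))

theorem topDim_eq_zero_iff {X : Type*} [TopologicalSpace X] [QuasiSober X] [T0Space X] :
    topologicalKrullDim X = 0 ↔ Nonempty X ∧ ∀ x y : X, x ⤳ y → y ⤳ x := by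
  rw [topDim_eq]
  letI := specializationPreorder X
  constructor
  · intro h
    refine ⟨Order.krullDim_nonneg_iff.mp h.ge, ?_⟩
    intro x y hxy
    by_contra hyx
    have : (0 : WithBot ℕ∞) < Order.krullDim X := Order.krullDim_pos_iff.mpr ⟨y, x, hxy, hyx⟩
    rw [h] at this
    exact lt_irrefl _ this
  · rintro ⟨hne, h⟩
    refine le_antisymm ?_ (Order.krullDim_nonneg_iff.mpr hne)
    by_contra hlt
    rw [not_le] at hlt
    obtain ⟨x, y, hxy⟩ := Order.krullDim_pos_iff.mp hlt
    exact hxy.2 (h y x hxy.1)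

theorem principal_of_height_le_one {R : Type*} [CommRing R] [IsDomain R]
    [UniqueFactorizationMonoid R]
    (f : R) (hf : f ≠ 0) (p : Ideal R) [hpp : p.IsPrime] (hht : p.height ≤ 1) (hfp : f ∈ p) :
    ∃ f₁, Prime f₁ ∧ f₁ ∣ f ∧ p = Ideal.span {f₁} := by
  have hprod : (UniqueFactorizationMonoid.factors f).prod ∈ p := by
    obtain ⟨u, hu⟩ := UniqueFactorizationMonoid.factors_prod hf
    have : (UniqueFactorizationMonoid.factors f).prod = f * ↑u⁻¹ := by
      rw [Units.eq_mul_inv_iff_mul_eq]; exact hu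
    rw [this]; exact Ideal.mul_mem_right _ _ hfp
  obtain ⟨g, hg, hgp⟩ := (Ideal.IsPrime.multiset_prod_mem_iff_exists_mem hpp _).mp hprod
  have hgprime : Prime g := UniqueFactorizationMonoid.prime_of_factor g hg
  have hgf : g ∣ f := UniqueFactorizationMonoid.dvd_of_mem_factors hg
  have hgle : Ideal.span {g} ≤ p := by
    rw [Ideal.span_singleton_le_iff_mem]; exact hgp
  refine ⟨g, hgprime, hgf, ?_⟩
  by_contra hne
  have hlt : Ideal.span {g} < p := lt_of_le_of_ne hgle (Ne.symm hne)
  haveI : (Ideal.span {g}).IsPrime := (Ideal.span_singleton_prime hgprime.ne_zero).mpr hgprime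
  haveI : (⊥ : Ideal R).IsPrime := Ideal.isPrime_bot
  have h0 : (⊥ : Ideal R) < Ideal.span {g} := by
    refine lt_of_le_of_ne bot_le ?_
    intro h
    exact hgprime.ne_zero (Ideal.span_singleton_eq_bot.mp h.symm)
  have e1 := Ideal.height_add_one_le_of_lt_of_isPrime h0
  have e2 := Ideal.height_add_one_le_of_lt_of_isPrime hlt
  have : (2 : ℕ∞) ≤ 1 :=
    calc (2 : ℕ∞) = 0 + 1 + 1 := by norm_num
      _ ≤ (⊥ : Ideal R).height + 1 + 1 := by gcongr; exact bot_le
      _ ≤ (Ideal.span {g}).height + 1 := by gcongr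
      _ ≤ p.height := e2
      _ ≤ 1 := hht
  norm_num at this

/-- For a field k and nonzero homogeneous polynomials f, g of positive degrees in three variables, the
common zero set V_+(f, g) in the projective plane over k is zero-dimensional as a topological
subspace exactly when f and g are coprime, i.e. their only common divisors are the non-zero
constants. -/
theorem result (k : Type u) [Field k] (n m : ℕ)
    (f g : MvPolynomial (Fin 3) k) (hf : f.IsHomogeneous n) (hg : g.IsHomogeneous m)
    (hn : 0 < n) (hm : 0 < m) (hf0 : f ≠ 0) (hg0 : g ≠ 0) :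
    topologicalKrullDim ↥(ProjectiveSpectrum.zeroLocus (CohB1.polyGrading 2 k)
        ({f, g} : Set (MvPolynomial (Fin 3) k))) = 0 ↔ IsRelPrime f g := by
  classical
  haveI := quasiSober_PS (CohB1.polyGrading 2 k)
  haveI := t0_PS (CohB1.polyGrading 2 k)
  haveI : QuasiSober ↥(ProjectiveSpectrum.zeroLocus (CohB1.polyGrading 2 k)
      ({f, g} : Set (MvPolynomial (Fin 3) k))) :=
    (ProjectiveSpectrum.isClosed_zeroLocus (CohB1.polyGrading 2 k)
      _).isClosedEmbedding_subtypeVal.quasiSober
  rw [topDim_eq_zero_iff]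
  have hspec : ∀ x y : ProjectiveSpectrum (CohB1.polyGrading 2 k), x ⤳ y ↔
      x.asHomogeneousIdeal.toIdeal ≤ y.asHomogeneousIdeal.toIdeal := by
    intro x y
    rw [specializes_iff_mem_closure, ← ProjectiveSpectrum.le_iff_mem_closure]
    rfl
  have hirr : (HomogeneousIdeal.irrelevant (CohB1.polyGrading 2 k)).toIdeal.IsPrime := by
    rw [HomogeneousIdeal.toIdeal_irrelevant]; exact RingHom.ker_isPrime _
  have hXirr : ∀ i : Fin 3, (MvPolynomial.X i : MvPolynomial (Fin 3) k) ∈
      (HomogeneousIdeal.irrelevant (CohB1.polyGrading 2 k)).toIdeal := fun i =>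
    HomogeneousIdeal.mem_irrelevant_of_mem _ one_pos
      ((MvPolynomial.mem_homogeneousSubmodule 1 _).mpr (MvPolynomial.isHomogeneous_X _ _))
  have hXhom : ∀ i : Fin 3, (Ideal.span ({(MvPolynomial.X i : MvPolynomial (Fin 3) k)} :
      Set (MvPolynomial (Fin 3) k))).IsHomogeneous (CohB1.polyGrading 2 k) := by
    intro i
    apply Ideal.homogeneous_span
    rintro x rfl
    exact ⟨1, (MvPolynomial.mem_homogeneousSubmodule 1 _).mpr (MvPolynomial.isHomogeneous_X _ _)⟩
  have hfm : f ∈ (HomogeneousIdeal.irrelevant (CohB1.polyGrading 2 k)).toIdeal :=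
    HomogeneousIdeal.mem_irrelevant_of_mem _ hn
      ((MvPolynomial.mem_homogeneousSubmodule n _).mpr hf)
  have hgm : g ∈ (HomogeneousIdeal.irrelevant (CohB1.polyGrading 2 k)).toIdeal :=
    HomogeneousIdeal.mem_irrelevant_of_mem _ hm
      ((MvPolynomial.mem_homogeneousSubmodule m _).mpr hg)
  have hfhom : (Ideal.span ({f} : Set (MvPolynomial (Fin 3) k))).IsHomogeneous
      (CohB1.polyGrading 2 k) := by
    apply Ideal.homogeneous_span
    rintro x rfl
    exact ⟨n, (MvPolynomial.mem_homogeneousSubmodule n x).mpr hf⟩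
  have hfghom : (Ideal.span ({f, g} : Set (MvPolynomial (Fin 3) k))).IsHomogeneous
      (CohB1.polyGrading 2 k) := by
    apply Ideal.homogeneous_span
    rintro x (rfl | rfl)
    · exact ⟨n, (MvPolynomial.mem_homogeneousSubmodule n x).mpr hf⟩
    · exact ⟨m, (MvPolynomial.mem_homogeneousSubmodule m x).mpr hg⟩
  -- making points
  have mkpt : ∀ q : Ideal (MvPolynomial (Fin 3) k), q.IsPrime →
      q.IsHomogeneous (CohB1.polyGrading 2 k) → q.height ≤ 2 →
      ∃ x : ProjectiveSpectrum (CohB1.polyGrading 2 k), x.asHomogeneousIdeal.toIdeal = q := by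
    intro q hqp hqh hht
    refine ⟨⟨⟨q, hqh⟩, hqp, ?_⟩, rfl⟩
    intro hle
    have h3 := Groth.Agent.S10820.three_le_height k 2 le_rfl q (fun i => hle (hXirr i))
    have := h3.trans hht
    norm_num at this
  have hmemZ : ∀ x : ProjectiveSpectrum (CohB1.polyGrading 2 k),
      x ∈ ProjectiveSpectrum.zeroLocus (CohB1.polyGrading 2 k)
        ({f, g} : Set (MvPolynomial (Fin 3) k)) ↔
      f ∈ x.asHomogeneousIdeal.toIdeal ∧ g ∈ x.asHomogeneousIdeal.toIdeal := by
    intro x
    rw [ProjectiveSpectrum.mem_zeroLocus, Set.insert_subset_iff, Set.singleton_subset_iff]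
    rfl
  have hdim : ringKrullDim (MvPolynomial (Fin 3) k) = ((3 : ℕ) : WithBot ℕ∞) := by
    rw [MvPolynomial.ringKrullDim_of_isNoetherianRing, ringKrullDim_eq_zero_of_field]
    simp
  have hm3 : (HomogeneousIdeal.irrelevant (CohB1.polyGrading 2 k)).toIdeal.height ≤ 3 := by
    have := Ideal.height_le_ringKrullDim_of_ne_top hirr.ne_top
    rw [hdim, ← WithBot.coe_natCast, WithBot.coe_le_coe] at this
    exact_mod_cast this
  constructor
  · -- dim 0 ⇒ coprime
    rintro ⟨-, H⟩ h hhf hhg
    by_contra hnu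
    have hh0 : h ≠ 0 := ne_zero_of_dvd_ne_zero hf0 hhf
    obtain ⟨h₁, hirr₁, hdvd₁⟩ := WfDvdMonoid.exists_irreducible_factor hnu hh0
    have hprime₁ : Prime h₁ := UniqueFactorizationMonoid.irreducible_iff_prime.mp hirr₁
    haveI hPprime : (Ideal.span ({h₁} : Set (MvPolynomial (Fin 3) k))).IsPrime :=
      (Ideal.span_singleton_prime hprime₁.ne_zero).mpr hprime₁
    have hfP : f ∈ Ideal.span ({h₁} : Set (MvPolynomial (Fin 3) k)) :=
      Ideal.mem_span_singleton.mpr (hdvd₁.trans hhf)
    have hgP : g ∈ Ideal.span ({h₁} : Set (MvPolynomial (Fin 3) k)) :=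
      Ideal.mem_span_singleton.mpr (hdvd₁.trans hhg)
    obtain ⟨p₀, hp₀, hp₀le⟩ := Ideal.exists_minimalPrimes_le
      (I := Ideal.span ({f} : Set (MvPolynomial (Fin 3) k)))
      (J := Ideal.span ({h₁} : Set (MvPolynomial (Fin 3) k)))
      ((Ideal.span_singleton_le_iff_mem _).mpr hfP)
    haveI hp₀p : p₀.IsPrime := hp₀.1.1
    have hp₀ht : p₀.height ≤ 1 := by
      haveI : (Ideal.span ({f} : Set (MvPolynomial (Fin 3) k))).IsPrincipal := ⟨⟨f, rfl⟩⟩
      exact Ideal.height_le_one_of_isPrincipal_of_mem_minimalPrimes _ p₀ hp₀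
    obtain ⟨f₁, hf₁p, hf₁f, hp₀eq⟩ := principal_of_height_le_one f hf0 p₀ hp₀ht
      (hp₀.1.2 (Ideal.mem_span_singleton_self f))
    have hassoc : Associated h₁ f₁ := by
      rw [← Prime.dvd_prime_iff_associated hprime₁ hf₁p]
      rw [← Ideal.mem_span_singleton]
      apply hp₀le
      rw [hp₀eq]
      exact Ideal.mem_span_singleton_self f₁
    have hPeq : Ideal.span ({h₁} : Set (MvPolynomial (Fin 3) k)) = p₀ := by
      rw [hp₀eq]
      exact Ideal.span_singleton_eq_span_singleton.mpr hassoc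
    have hPhom : (Ideal.span ({h₁} : Set (MvPolynomial (Fin 3) k))).IsHomogeneous
        (CohB1.polyGrading 2 k) := by
      rw [hPeq]
      exact Groth.Agent.S10820.isHomogeneous_of_minimal (CohB1.polyGrading 2 k) _ hfhom p₀ hp₀
    have hPht : (Ideal.span ({h₁} : Set (MvPolynomial (Fin 3) k))).height ≤ 1 := by
      rw [hPeq]; exact hp₀ht
    obtain ⟨x, hx⟩ := mkpt _ hPprime hPhom (hPht.trans (by norm_num))
    -- some variable not in P
    have hXi : ∃ i : Fin 3, (MvPolynomial.X i : MvPolynomial (Fin 3) k) ∉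
        Ideal.span ({h₁} : Set (MvPolynomial (Fin 3) k)) := by
      by_contra hall
      push Not at hall
      have h3 := Groth.Agent.S10820.three_le_height k 2 le_rfl _ hall
      have := h3.trans hPht
      norm_num at this
    obtain ⟨i, hi⟩ := hXi
    have hJhom : (Ideal.span ({h₁} : Set (MvPolynomial (Fin 3) k)) ⊔
        Ideal.span ({(MvPolynomial.X i : MvPolynomial (Fin 3) k)} :
          Set (MvPolynomial (Fin 3) k))).IsHomogeneous (CohB1.polyGrading 2 k) :=
      hPhom.sup (hXhom i)
    have hJne : Ideal.span ({h₁} : Set (MvPolynomial (Fin 3) k)) ⊔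
        Ideal.span ({(MvPolynomial.X i : MvPolynomial (Fin 3) k)} :
          Set (MvPolynomial (Fin 3) k)) ≠ ⊤ := by
      intro h
      apply hirr.ne_top
      rw [eq_top_iff, ← h]
      refine sup_le (Groth.Agent.S10820.le_irrelevant k 2 _ hPhom hPprime.ne_top) ?_
      rw [Ideal.span_singleton_le_iff_mem]
      exact hXirr i
    obtain ⟨⟨q, hq⟩⟩ := Ideal.nonempty_minimalPrimes hJne
    have hqp : q.IsPrime := hq.1.1
    have hqh := Groth.Agent.S10820.isHomogeneous_of_minimal (CohB1.polyGrading 2 k) _ hJhom q hq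
    have hspan : Ideal.span ({h₁} : Set (MvPolynomial (Fin 3) k)) ⊔
        Ideal.span ({(MvPolynomial.X i : MvPolynomial (Fin 3) k)} :
          Set (MvPolynomial (Fin 3) k)) =
        Ideal.span (({h₁, MvPolynomial.X i} : Finset (MvPolynomial (Fin 3) k)) :
          Set (MvPolynomial (Fin 3) k)) := by
      rw [Finset.coe_insert, Finset.coe_singleton, Ideal.span_insert]
    have hqht : q.height ≤ 2 := by
      rw [hspan] at hq
      refine (Ideal.height_le_card_of_mem_minimalPrimes_span_finset hq).trans ?_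
      exact_mod_cast Finset.card_le_two
    obtain ⟨y, hy⟩ := mkpt q hqp hqh hqht
    have hPq : Ideal.span ({h₁} : Set (MvPolynomial (Fin 3) k)) ≤ q := le_sup_left.trans hq.1.2
    have hxZ : x ∈ ProjectiveSpectrum.zeroLocus (CohB1.polyGrading 2 k)
        ({f, g} : Set (MvPolynomial (Fin 3) k)) := by
      rw [hmemZ, hx]; exact ⟨hfP, hgP⟩
    have hyZ : y ∈ ProjectiveSpectrum.zeroLocus (CohB1.polyGrading 2 k)
        ({f, g} : Set (MvPolynomial (Fin 3) k)) := by
      rw [hmemZ, hy]; exact ⟨hPq hfP, hPq hgP⟩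
    have hxy : (⟨x, hxZ⟩ : ↥(ProjectiveSpectrum.zeroLocus (CohB1.polyGrading 2 k)
        ({f, g} : Set (MvPolynomial (Fin 3) k)))) ⤳ ⟨y, hyZ⟩ := by
      rw [subtype_specializes_iff, hspec, hx, hy]
      exact hPq
    have hyx := H _ _ hxy
    rw [subtype_specializes_iff, hspec, hx, hy] at hyx
    apply hi
    apply hyx
    apply hq.1.2
    exact Ideal.mem_sup_right (Ideal.mem_span_singleton_self _)
  · -- coprime ⇒ dim 0
    intro hrel
    constructor
    · have hJne : Ideal.span ({f, g} : Set (MvPolynomial (Fin 3) k)) ≠ ⊤ := by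
        intro h
        apply hirr.ne_top
        rw [eq_top_iff, ← h, Ideal.span_le]
        rintro x (rfl | rfl)
        · exact hfm
        · exact hgm
      obtain ⟨⟨q, hq⟩⟩ := Ideal.nonempty_minimalPrimes hJne
      have hqp : q.IsPrime := hq.1.1
      have hqh := Groth.Agent.S10820.isHomogeneous_of_minimal (CohB1.polyGrading 2 k) _ hfghom q hq
      have hspan : Ideal.span ({f, g} : Set (MvPolynomial (Fin 3) k)) =
          Ideal.span (({f, g} : Finset (MvPolynomial (Fin 3) k)) :
            Set (MvPolynomial (Fin 3) k)) := by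
        rw [Finset.coe_insert, Finset.coe_singleton]
      have hqht : q.height ≤ 2 := by
        rw [hspan] at hq
        refine (Ideal.height_le_card_of_mem_minimalPrimes_span_finset hq).trans ?_
        exact_mod_cast Finset.card_le_two
      obtain ⟨y, hy⟩ := mkpt q hqp hqh hqht
      refine ⟨⟨y, ?_⟩⟩
      rw [hmemZ, hy]
      exact ⟨hq.1.2 (Ideal.subset_span (by simp)), hq.1.2 (Ideal.subset_span (by simp))⟩
    · rintro ⟨x, hxZ⟩ ⟨y, hyZ⟩ hxy
      rw [subtype_specializes_iff, hspec] at hxy ⊢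
      by_contra hyx
      have hlt : x.asHomogeneousIdeal.toIdeal < y.asHomogeneousIdeal.toIdeal :=
        lt_of_le_not_ge hxy hyx
      haveI := x.isPrime
      haveI := y.isPrime
      have hym : y.asHomogeneousIdeal.toIdeal <
          (HomogeneousIdeal.irrelevant (CohB1.polyGrading 2 k)).toIdeal := by
        refine lt_of_le_not_ge (Groth.Agent.S10820.le_irrelevant k 2 _
          y.asHomogeneousIdeal.isHomogeneous y.isPrime.ne_top) ?_
        intro hle
        exact y.not_irrelevant_le hle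
      have e1 := Ideal.height_add_one_le_of_lt_of_isPrime hlt
      have e2 := Ideal.height_add_one_le_of_lt_of_isPrime hym
      have hxht : x.asHomogeneousIdeal.toIdeal.height ≤ 1 := by
        by_contra hcon
        rw [not_le] at hcon
        have h2 : (1 : ℕ∞) + 1 ≤ x.asHomogeneousIdeal.toIdeal.height := Order.add_one_le_of_lt hcon
        have : (4 : ℕ∞) ≤ 3 :=
          calc (4 : ℕ∞) = 1 + 1 + 1 + 1 := by norm_num
            _ ≤ x.asHomogeneousIdeal.toIdeal.height + 1 + 1 := by gcongr
            _ ≤ y.asHomogeneousIdeal.toIdeal.height + 1 := by gcongr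
            _ ≤ _ := e2
            _ ≤ 3 := hm3
        norm_num at this
      rw [hmemZ] at hxZ
      obtain ⟨f₁, hf₁p, hf₁f, hxf⟩ := principal_of_height_le_one f hf0 _ hxht hxZ.1
      obtain ⟨g₁, hg₁p, hg₁g, hxg⟩ := principal_of_height_le_one g hg0 _ hxht hxZ.2
      have hassoc : Associated f₁ g₁ := by
        rw [← Ideal.span_singleton_eq_span_singleton, ← hxf, ← hxg]
      exact hf₁p.not_isUnit (hrel hf₁f (hassoc.dvd.trans hg₁g))

end Groth.Agent.S10840
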