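import Groth.Statements.S10821
import Mathlib
import Groth.Agent.S10820
import Groth.Agent.S10840

set_option autoImplicit false
universe u
open AlgebraicGeometry Topology TopologicalSpace
open Variety

namespace Groth.Agent.S10821

open TopologicalSpace in
theorem coheight_eq_height {A σ : Type u} [CommRing A] [SetLike σ A] [AddSubgroupClass σ A]
    (𝒜 : ℕ → σ) [GradedRing 𝒜] (Z : IrreducibleCloseds (ProjectiveSpectrum 𝒜)) :
    ∃ z : ProjectiveSpectrum 𝒜, (Z : Set (ProjectiveSpectrum 𝒜)) = closure {z} ∧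
      Order.coheight Z = Order.height z := by
  haveI := Groth.Agent.S10840.quasiSober_PS 𝒜
  haveI := Groth.Agent.S10840.t0_PS 𝒜
  let e₁ := @irreducibleSetEquivPoints (ProjectiveSpectrum 𝒜) _ _ _
  let e₂ : @OrderIso (ProjectiveSpectrum 𝒜) (ProjectiveSpectrum 𝒜)ᵒᵈ
      (specializationOrder (ProjectiveSpectrum 𝒜)).toLE _ :=
    { toEquiv := OrderDual.toDual
      map_rel_iff' := by
        intro x y
        show y ≤ x ↔ y ⤳ x
        rw [ProjectiveSpectrum.le_iff_mem_closure, specializes_iff_mem_closure] }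
  refine ⟨e₁.toEquiv Z, ?_, ?_⟩
  · have h1 : e₁.toEquiv.symm (e₁.toEquiv Z) = Z := e₁.toEquiv.symm_apply_apply Z
    have h2 : ((e₁.toEquiv.symm (e₁.toEquiv Z) : IrreducibleCloseds (ProjectiveSpectrum 𝒜)) :
        Set (ProjectiveSpectrum 𝒜)) = closure {e₁.toEquiv Z} := rfl
    rw [← h2, h1]
  · have h3 := @Order.coheight_orderIso _ _ _
      (specializationOrder (ProjectiveSpectrum 𝒜)).toPreorder e₁ Z
    have h4 := @Order.coheight_orderIso _ _
      (specializationOrder (ProjectiveSpectrum 𝒜)).toPreorder _ e₂ (e₁.toEquiv Z)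
    exact (h3.symm.trans h4.symm).trans rfl

theorem exists_homogeneousComponent_ne_zero {σ R : Type*} [CommRing R] (g : MvPolynomial σ R)
    (hg : g ≠ 0) : ∃ i, MvPolynomial.homogeneousComponent i g ≠ 0 := by
  by_contra h
  push Not at h
  apply hg
  rw [← MvPolynomial.sum_homogeneousComponent g]
  exact Finset.sum_eq_zero (fun i _ => h i)

theorem homogeneousComponent_mem (k : Type u) [Field k] (n : ℕ)
    (J : Ideal (MvPolynomial (Fin (n+1)) k)) (hJ : J.IsHomogeneous (CohB1.polyGrading n k))
    (a : MvPolynomial (Fin (n+1)) k) (ha : a ∈ J) (i : ℕ) :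
    MvPolynomial.homogeneousComponent i a ∈ J := by
  have := hJ i ha
  rwa [show ((DirectSum.decompose (CohB1.polyGrading n k) a i : CohB1.polyGrading n k i) :
    MvPolynomial (Fin (n+1)) k) = MvPolynomial.homogeneousComponent i a from
      MvPolynomial.decomposition.decompose'_apply a i] at this

theorem isHomogeneous_of_span (k : Type u) [Field k] (n : ℕ)
    (g : MvPolynomial (Fin (n+1)) k) (hg0 : g ≠ 0)
    (hq : (Ideal.span ({g} : Set (MvPolynomial (Fin (n+1)) k))).IsHomogeneous
      (CohB1.polyGrading n k)) : ∃ d, g.IsHomogeneous d := by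
  obtain ⟨i, hi⟩ := exists_homogeneousComponent_ne_zero g hg0
  have hmem := homogeneousComponent_mem k n _ hq g (Ideal.mem_span_singleton_self g) i
  obtain ⟨c, hc⟩ := Ideal.mem_span_singleton.mp hmem
  have hc0 : c ≠ 0 := by
    rintro rfl
    rw [mul_zero] at hc
    exact hi hc
  have hdeg : (MvPolynomial.homogeneousComponent i g).totalDegree = i :=
    (MvPolynomial.homogeneousComponent_isHomogeneous i g).totalDegree hi
  have hile : i ≤ g.totalDegree := by
    by_contra hlt
    rw [not_le] at hlt
    exact hi (MvPolynomial.homogeneousComponent_eq_zero _ _ hlt)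
  have hmul : (g * c).totalDegree = g.totalDegree + c.totalDegree :=
    MvPolynomial.totalDegree_mul_of_isDomain hg0 hc0
  have hc_deg : c.totalDegree = 0 := by
    rw [hc, hmul] at hdeg
    omega
  rw [MvPolynomial.totalDegree_eq_zero_iff_eq_C] at hc_deg
  obtain ⟨c₀, rfl⟩ : ∃ c₀, c = MvPolynomial.C c₀ := ⟨_, hc_deg⟩
  have hcc : c₀ ≠ 0 := by
    rintro rfl
    exact hc0 (map_zero _)
  refine ⟨i, ?_⟩
  have : g = MvPolynomial.C c₀⁻¹ * MvPolynomial.homogeneousComponent i g := by
    rw [hc, mul_comm g, ← mul_assoc, ← map_mul, inv_mul_cancel₀ hcc, map_one, one_mul]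
  rw [this]
  exact (MvPolynomial.homogeneousComponent_isHomogeneous i g).C_mul _

/-- For a field k and an irreducible closed subset Z of projective n-space over k, Z has codimension 1
(the longest chain of irreducible closed subsets strictly above Z has length 1) if and only if Z is
the zero set V_+(f) of an irreducible homogeneous polynomial f in n + 1 variables. -/
theorem result (k : Type u) [Field k] (n : ℕ)
    (Z : TopologicalSpace.IrreducibleCloseds (ProjectiveSpectrum (CohB1.polyGrading n k))) :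
    Order.coheight Z = 1 ↔
      ∃ (d : ℕ) (f : MvPolynomial (Fin (n + 1)) k), f.IsHomogeneous d ∧ Irreducible f ∧
        (Z : Set (ProjectiveSpectrum (CohB1.polyGrading n k))) =
          ProjectiveSpectrum.zeroLocus (CohB1.polyGrading n k) ({f} : Set (MvPolynomial (Fin (n + 1)) k)) := by
  classical
  obtain ⟨z, hZz, hco⟩ := coheight_eq_height (CohB1.polyGrading n k) Z
  rw [hco]
  have hXirr : ∀ i : Fin (n+1), (MvPolynomial.X i : MvPolynomial (Fin (n+1)) k) ∈
      (HomogeneousIdeal.irrelevant (CohB1.polyGrading n k)).toIdeal := fun i =>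
    HomogeneousIdeal.mem_irrelevant_of_mem _ one_pos
      ((MvPolynomial.mem_homogeneousSubmodule 1 _).mpr (MvPolynomial.isHomogeneous_X _ _))
  -- the bottom point
  let b0 : ProjectiveSpectrum (CohB1.polyGrading n k) :=
    ⟨⟨⊥, Ideal.IsHomogeneous.bot _⟩, Ideal.isPrime_bot, fun h =>
      MvPolynomial.X_ne_zero (R := k) (0 : Fin (n+1)) ((Ideal.mem_bot).mp (h (hXirr 0)))⟩
  have hle_iff : ∀ x y : ProjectiveSpectrum (CohB1.polyGrading n k), x ≤ y ↔
      x.asHomogeneousIdeal.toIdeal ≤ y.asHomogeneousIdeal.toIdeal := fun x y => Iff.rfl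
  have hmin_iff : ∀ y : ProjectiveSpectrum (CohB1.polyGrading n k),
      IsMin y ↔ y.asHomogeneousIdeal.toIdeal = ⊥ := by
    intro y
    constructor
    · intro hmin
      have h1 : b0 ≤ y := (hle_iff b0 y).mpr bot_le
      have h2 := (hle_iff y b0).mp (hmin h1)
      exact le_bot_iff.mp h2
    · intro h w _
      rw [hle_iff, h]
      exact bot_le
  have hheight : Order.height z = 1 ↔ ¬ IsMin z ∧ ∀ y < z, IsMin y := by
    constructor
    · intro h
      refine ⟨?_, ?_⟩
      · rw [← Order.height_pos, h]; exact one_pos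
      · intro y hy
        have h1 : Order.height z ≤ ((1 : ℕ) : ℕ∞) := by rw [h]; rfl
        rw [Order.height_le_coe_iff] at h1
        have h2 := h1 y hy
        rw [Nat.cast_one, Order.lt_one_iff] at h2
        exact Order.height_eq_zero.mp h2
    · rintro ⟨h1, h2⟩
      apply le_antisymm
      · have h3 : Order.height z ≤ ((1 : ℕ) : ℕ∞) := by
          rw [Order.height_le_coe_iff]
          intro y hy
          rw [Order.height_eq_zero.mpr (h2 y hy)]
          norm_num
        simpa using h3
      · rw [Order.one_le_iff_ne_zero, Order.height_ne_zero]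
        exact h1
  rw [hheight]
  constructor
  · rintro ⟨hz, hall⟩
    have hpz : z.asHomogeneousIdeal.toIdeal ≠ ⊥ := fun h => hz ((hmin_iff z).mpr h)
    obtain ⟨a, haz, ha0⟩ := Submodule.exists_mem_ne_zero_of_ne_bot hpz
    obtain ⟨i, hi⟩ := exists_homogeneousComponent_ne_zero a ha0
    have hhz : MvPolynomial.homogeneousComponent i a ∈ z.asHomogeneousIdeal.toIdeal :=
      homogeneousComponent_mem k n _ z.asHomogeneousIdeal.isHomogeneous a haz i
    have hhhom : (Ideal.span ({MvPolynomial.homogeneousComponent i a} :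
        Set (MvPolynomial (Fin (n+1)) k))).IsHomogeneous (CohB1.polyGrading n k) := by
      apply Ideal.homogeneous_span
      rintro x rfl
      exact ⟨i, (MvPolynomial.mem_homogeneousSubmodule i _).mpr
        (MvPolynomial.homogeneousComponent_isHomogeneous i a)⟩
    haveI := z.isPrime
    obtain ⟨q, hq, hqz⟩ := Ideal.exists_minimalPrimes_le
      (I := Ideal.span ({MvPolynomial.homogeneousComponent i a} :
        Set (MvPolynomial (Fin (n+1)) k)))
      (J := z.asHomogeneousIdeal.toIdeal) ((Ideal.span_singleton_le_iff_mem _).mpr hhz)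
    have hqp : q.IsPrime := hq.1.1
    have hqhom := Groth.Agent.S10820.isHomogeneous_of_minimal (CohB1.polyGrading n k) _ hhhom q hq
    obtain ⟨f₁, hqf⟩ := Groth.Agent.S10820.principal_of_minimal _ hi q hq
    have hhq : MvPolynomial.homogeneousComponent i a ∈ q :=
      hq.1.2 (Ideal.mem_span_singleton_self _)
    have hqne : q ≠ ⊥ := by
      intro h
      rw [h, Ideal.mem_bot] at hhq
      exact hi hhq
    have hf₁0 : f₁ ≠ 0 := by
      rintro rfl
      apply hqne
      rw [hqf]
      exact Ideal.span_singleton_eq_bot.mpr rfl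
    have hf₁prime : Prime f₁ := (Ideal.span_singleton_prime hf₁0).mp (hqf ▸ hqp)
    obtain ⟨d, hd⟩ := isHomogeneous_of_span k n f₁ hf₁0 (hqf ▸ hqhom)
    let y : ProjectiveSpectrum (CohB1.polyGrading n k) :=
      ⟨⟨q, hqhom⟩, hqp, fun hle => z.not_irrelevant_le (hle.trans hqz)⟩
    have hyz : y ≤ z := (hle_iff y z).mpr hqz
    have hzy : z ≤ y := by
      by_contra hnot
      have hlt : y < z := lt_of_le_not_ge hyz hnot
      exact hqne ((hmin_iff y).mp (hall y hlt))
    have hpzq : z.asHomogeneousIdeal.toIdeal = q := le_antisymm ((hle_iff z y).mp hzy) hqz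
    refine ⟨d, f₁, hd, hf₁prime.irreducible, ?_⟩
    rw [hZz, ← ProjectiveSpectrum.zeroLocus_vanishingIdeal_eq_closure,
      ProjectiveSpectrum.vanishingIdeal_singleton,
      ← ProjectiveSpectrum.zeroLocus_span (CohB1.polyGrading n k) {f₁}, ← hqf, ← hpzq]
    rfl
  · rintro ⟨d, f, hf, hfirr, hZf⟩
    have hfprime : Prime f := UniqueFactorizationMonoid.irreducible_iff_prime.mp hfirr
    have hf0 := hfprime.ne_zero
    haveI hPp : (Ideal.span ({f} : Set (MvPolynomial (Fin (n+1)) k))).IsPrime :=
      (Ideal.span_singleton_prime hf0).mpr hfprime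
    have hPhom : (Ideal.span ({f} : Set (MvPolynomial (Fin (n+1)) k))).IsHomogeneous
        (CohB1.polyGrading n k) := by
      apply Ideal.homogeneous_span
      rintro x rfl
      exact ⟨d, (MvPolynomial.mem_homogeneousSubmodule d _).mpr hf⟩
    have hzZ : z ∈ (Z : Set (ProjectiveSpectrum (CohB1.polyGrading n k))) := by
      rw [hZz]; exact subset_closure rfl
    have hfz : f ∈ z.asHomogeneousIdeal.toIdeal := by
      rw [hZf, ProjectiveSpectrum.mem_zeroLocus, Set.singleton_subset_iff] at hzZ
      exact hzZ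
    have hPz : Ideal.span ({f} : Set (MvPolynomial (Fin (n+1)) k)) ≤
        z.asHomogeneousIdeal.toIdeal := (Ideal.span_singleton_le_iff_mem _).mpr hfz
    let y : ProjectiveSpectrum (CohB1.polyGrading n k) :=
      ⟨⟨Ideal.span ({f} : Set (MvPolynomial (Fin (n+1)) k)), hPhom⟩, hPp,
        fun hle => z.not_irrelevant_le (hle.trans hPz)⟩
    have hyZ : y ∈ (Z : Set (ProjectiveSpectrum (CohB1.polyGrading n k))) := by
      rw [hZf, ProjectiveSpectrum.mem_zeroLocus, Set.singleton_subset_iff]
      exact Ideal.mem_span_singleton_self f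
    have hzy : z ≤ y := by
      rw [hZz, ← ProjectiveSpectrum.le_iff_mem_closure] at hyZ
      exact hyZ
    have hpz : z.asHomogeneousIdeal.toIdeal =
        Ideal.span ({f} : Set (MvPolynomial (Fin (n+1)) k)) :=
      le_antisymm ((hle_iff z y).mp hzy) hPz
    refine ⟨?_, ?_⟩
    · intro hmin
      have := (hmin_iff z).mp hmin
      rw [this, Ideal.mem_bot] at hfz
      exact hf0 hfz
    · intro w hw
      rw [hmin_iff]
      by_contra hne
      haveI := w.isPrime
      have h1 : (⊥ : Ideal (MvPolynomial (Fin (n+1)) k)) < w.asHomogeneousIdeal.toIdeal :=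
        bot_lt_iff_ne_bot.mpr hne
      have h2 : w.asHomogeneousIdeal.toIdeal <
          Ideal.span ({f} : Set (MvPolynomial (Fin (n+1)) k)) := by
        rw [← hpz]
        exact lt_of_le_not_ge ((hle_iff w z).mp hw.le) (fun h => hw.not_ge ((hle_iff z w).mpr h))
      haveI : (⊥ : Ideal (MvPolynomial (Fin (n+1)) k)).IsPrime := Ideal.isPrime_bot
      have e1 := Ideal.height_add_one_le_of_lt_of_isPrime h1
      have e2 := Ideal.height_add_one_le_of_lt_of_isPrime h2
      have hht : (Ideal.span ({f} : Set (MvPolynomial (Fin (n+1)) k))).height ≤ 1 := by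
        haveI : (Ideal.span ({f} : Set (MvPolynomial (Fin (n+1)) k))).IsPrincipal := ⟨⟨f, rfl⟩⟩
        apply Ideal.height_le_one_of_isPrincipal_of_mem_minimalPrimes
          (Ideal.span ({f} : Set (MvPolynomial (Fin (n+1)) k)))
        rw [Ideal.minimalPrimes_eq_subsingleton_self]
        rfl
      have : (2 : ℕ∞) ≤ 1 :=
        calc (2 : ℕ∞) = 0 + 1 + 1 := by norm_num
          _ ≤ (⊥ : Ideal (MvPolynomial (Fin (n+1)) k)).height + 1 + 1 := by gcongr; exact bot_le
          _ ≤ w.asHomogeneousIdeal.toIdeal.height + 1 := by gcongr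
          _ ≤ _ := e2
          _ ≤ 1 := hht
      norm_num at this

end Groth.Agent.S10821
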