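import Groth.Statements.S13907
import Mathlib
import Groth.Agent.S10820
import Groth.Agent.S10840

set_option autoImplicit false
universe u
open ProjGeom

namespace Groth.Agent.S13907

theorem no_chain_of_minimal {R : Type*} [CommRing R] [IsNoetherianRing R] {I q m : Ideal R} {x : R}
    [hI : I.IsPrime] [hq : q.IsPrime] (hm : m ∈ (I ⊔ Ideal.span {x}).minimalPrimes)
    (h1 : I < q) (h2 : q < m) : False := by
  have hmp : m.IsPrime := hm.1.1
  have hsurj : Function.Surjective (Ideal.Quotient.mk I) := Ideal.Quotient.mk_surjective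
  have hker : RingHom.ker (Ideal.Quotient.mk I) = I := Ideal.mk_ker
  have hcm : ∀ J : Ideal R, I ≤ J →
      Ideal.comap (Ideal.Quotient.mk I) (Ideal.map (Ideal.Quotient.mk I) J) = J := by
    intro J hJ
    rw [Ideal.comap_map_of_surjective _ hsurj, ← RingHom.ker_eq_comap_bot, hker]
    exact sup_eq_left.mpr hJ
  haveI p1 : (Ideal.map (Ideal.Quotient.mk I) I).IsPrime :=
    Ideal.map_isPrime_of_surjective hsurj (hker.le)
  haveI p2 : (Ideal.map (Ideal.Quotient.mk I) q).IsPrime :=
    Ideal.map_isPrime_of_surjective hsurj (hker.le.trans h1.le)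
  haveI p3 : (Ideal.map (Ideal.Quotient.mk I) m).IsPrime :=
    Ideal.map_isPrime_of_surjective hsurj (hker.le.trans (h1.le.trans h2.le))
  have l1 : Ideal.map (Ideal.Quotient.mk I) I < Ideal.map (Ideal.Quotient.mk I) q := by
    refine lt_of_le_not_ge (Ideal.map_mono h1.le) ?_
    intro h'
    have := Ideal.comap_mono (f := Ideal.Quotient.mk I) h'
    rw [hcm I le_rfl, hcm q h1.le] at this
    exact h1.not_ge this
  have l2 : Ideal.map (Ideal.Quotient.mk I) q < Ideal.map (Ideal.Quotient.mk I) m := by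
    refine lt_of_le_not_ge (Ideal.map_mono h2.le) ?_
    intro h'
    have := Ideal.comap_mono (f := Ideal.Quotient.mk I) h'
    rw [hcm q h1.le, hcm m (h1.le.trans h2.le)] at this
    exact h2.not_ge this
  have e1 := Ideal.height_add_one_le_of_lt_of_isPrime l1
  have e2 := Ideal.height_add_one_le_of_lt_of_isPrime l2
  have e3 := Ideal.map_height_le_one_of_mem_minimalPrimes hm
  have : (2 : ℕ∞) ≤ 1 :=
    calc (2 : ℕ∞) = 0 + 1 + 1 := by norm_num
      _ ≤ (Ideal.map (Ideal.Quotient.mk I) I).height + 1 + 1 := by gcongr; exact bot_le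
      _ ≤ (Ideal.map (Ideal.Quotient.mk I) q).height + 1 := by gcongr
      _ ≤ _ := e2
      _ ≤ 1 := e3
  norm_num at this

theorem irrelevant_le_of_X_mem (k : Type u) [Field k] (n : ℕ)
    (q : Ideal (MvPolynomial (Fin (n+1)) k))
    (hX : ∀ i, (MvPolynomial.X i : MvPolynomial (Fin (n+1)) k) ∈ q) :
    (HomogeneousIdeal.irrelevant (CohB1.polyGrading n k)).toIdeal ≤ q := by
  have hdiff : ∀ a : MvPolynomial (Fin (n+1)) k,
      a - MvPolynomial.C (MvPolynomial.constantCoeff a) ∈ q := by
    intro a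
    induction a using MvPolynomial.induction_on with
    | C a => simp
    | add a b ha hb =>
      rw [map_add, map_add, add_sub_add_comm]; exact q.add_mem ha hb
    | mul_X a i ha =>
      rw [map_mul, MvPolynomial.constantCoeff_X, mul_zero, map_zero, sub_zero]
      exact q.mul_mem_left _ (hX i)
  intro a ha
  have h0 : MvPolynomial.constantCoeff a = 0 := by
    have h1 := (HomogeneousIdeal.mem_irrelevant_iff (CohB1.polyGrading n k) a).mp ha
    rw [GradedRing.proj_apply] at h1
    rw [show ((DirectSum.decompose (CohB1.polyGrading n k) a 0 : CohB1.polyGrading n k 0) :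
      MvPolynomial (Fin (n+1)) k) = MvPolynomial.homogeneousComponent 0 a from
        MvPolynomial.decomposition.decompose'_apply a 0,
      MvPolynomial.homogeneousComponent_zero] at h1
    rw [MvPolynomial.constantCoeff_eq]
    exact MvPolynomial.C_injective _ _ (by rw [h1, map_zero])
  have := hdiff a
  rwa [h0, map_zero, sub_zero] at this

/-- Over an algebraically closed field k, let C be a nonempty irreducible closed subset of the
underlying space of projective n-space with homogeneous coordinates x_0, …, x_n, and for i ≤ n let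
L_i be the linear subspace where x_1, …, x_i vanish. Then there is an index i ≤ n with C ∩ L_i
nonempty and of topological Krull dimension zero. -/
theorem result (k : Type u) [Field k]
    [IsAlgClosed k] (n : ℕ) (C : Set (ProjectiveSpectrum (CohB1.polyGrading n k)))
    (hC : IsClosed C) (hirr : IsIrreducible C) :
    ∃ i : ℕ, i ≤ n ∧
      (C ∩ ProjectiveSpectrum.zeroLocus (CohB1.polyGrading n k)
          ((fun j : Fin (n + 1) => (MvPolynomial.X j : MvPolynomial (Fin (n + 1)) k)) ''
            {j : Fin (n + 1) | 1 ≤ j.val ∧ j.val ≤ i})).Nonempty ∧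
      topologicalKrullDim ↥(C ∩ ProjectiveSpectrum.zeroLocus (CohB1.polyGrading n k)
          ((fun j : Fin (n + 1) => (MvPolynomial.X j : MvPolynomial (Fin (n + 1)) k)) ''
            {j : Fin (n + 1) | 1 ≤ j.val ∧ j.val ≤ i})) = 0 := by
  classical
  let L : ℕ → Set (ProjectiveSpectrum (CohB1.polyGrading n k)) := fun i =>
    ProjectiveSpectrum.zeroLocus (CohB1.polyGrading n k)
      ((fun j : Fin (n + 1) => (MvPolynomial.X j : MvPolynomial (Fin (n + 1)) k)) ''
        {j : Fin (n + 1) | 1 ≤ j.val ∧ j.val ≤ i})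
  have hmemL : ∀ (i : ℕ) (z : ProjectiveSpectrum (CohB1.polyGrading n k)), z ∈ L i ↔
      ∀ j : Fin (n+1), 1 ≤ j.val → j.val ≤ i →
        (MvPolynomial.X j : MvPolynomial (Fin (n + 1)) k) ∈ z.asHomogeneousIdeal.toIdeal := by
    intro i z
    show z ∈ ProjectiveSpectrum.zeroLocus (CohB1.polyGrading n k) _ ↔ _
    rw [ProjectiveSpectrum.mem_zeroLocus, Set.image_subset_iff]
    constructor
    · intro h j h1 h2; exact h ⟨h1, h2⟩
    · rintro h j ⟨h1, h2⟩; exact h j h1 h2
  let P : ℕ → Prop := fun i => (C ∩ L i).Nonempty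
  have hP0 : P 0 := by
    obtain ⟨c, hc⟩ := hirr.nonempty
    exact ⟨c, hc, (hmemL 0 c).mpr (fun j h1 h2 => by omega)⟩
  have hiP : P (Nat.findGreatest P n) := Nat.findGreatest_spec (Nat.zero_le n) hP0
  have hile : Nat.findGreatest P n ≤ n := Nat.findGreatest_le n
  have hmax : ∀ k', Nat.findGreatest P n < k' → k' ≤ n → ¬ P k' :=
    fun k' h1 h2 => Nat.findGreatest_is_greatest h1 h2
  generalize Nat.findGreatest P n = i at hiP hile hmax
  refine ⟨i, hile, hiP, ?_⟩
  haveI := Groth.Agent.S10840.quasiSober_PS (CohB1.polyGrading n k)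
  haveI := Groth.Agent.S10840.t0_PS (CohB1.polyGrading n k)
  have hDclosed : IsClosed (C ∩ L i) :=
    hC.inter (ProjectiveSpectrum.isClosed_zeroLocus (CohB1.polyGrading n k) _)
  haveI : QuasiSober ↥(C ∩ L i) := hDclosed.isClosedEmbedding_subtypeVal.quasiSober
  show topologicalKrullDim ↥(C ∩ L i) = 0
  rw [Groth.Agent.S10840.topDim_eq_zero_iff]
  refine ⟨hiP.to_subtype, ?_⟩
  have hspec : ∀ a b : ProjectiveSpectrum (CohB1.polyGrading n k), a ⤳ b ↔
      a.asHomogeneousIdeal.toIdeal ≤ b.asHomogeneousIdeal.toIdeal := by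
    intro a b
    rw [specializes_iff_mem_closure, ← ProjectiveSpectrum.le_iff_mem_closure]
    rfl
  have hirr' : (HomogeneousIdeal.irrelevant (CohB1.polyGrading n k)).toIdeal.IsPrime := by
    rw [HomogeneousIdeal.toIdeal_irrelevant]; exact RingHom.ker_isPrime _
  have hXirr : ∀ i : Fin (n+1), (MvPolynomial.X i : MvPolynomial (Fin (n+1)) k) ∈
      (HomogeneousIdeal.irrelevant (CohB1.polyGrading n k)).toIdeal := fun i =>
    HomogeneousIdeal.mem_irrelevant_of_mem _ one_pos
      ((MvPolynomial.mem_homogeneousSubmodule 1 _).mpr (MvPolynomial.isHomogeneous_X _ _))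
  have hXhom : ∀ i : Fin (n+1), (Ideal.span ({(MvPolynomial.X i : MvPolynomial (Fin (n+1)) k)} :
      Set (MvPolynomial (Fin (n+1)) k))).IsHomogeneous (CohB1.polyGrading n k) := by
    intro i
    apply Ideal.homogeneous_span
    rintro x rfl
    exact ⟨1, (MvPolynomial.mem_homogeneousSubmodule 1 _).mpr (MvPolynomial.isHomogeneous_X _ _)⟩
  rintro ⟨x, hxC, hxL⟩ ⟨y, hyC, hyL⟩ hxy
  rw [subtype_specializes_iff, hspec] at hxy ⊢
  by_contra hyx
  have hlt : x.asHomogeneousIdeal.toIdeal < y.asHomogeneousIdeal.toIdeal :=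
    lt_of_le_not_ge hxy hyx
  obtain ⟨t, ht⟩ : ∃ t : Fin (n+1), ∀ z : ProjectiveSpectrum (CohB1.polyGrading n k),
      z ∈ C → z ∈ L i →
      (MvPolynomial.X t : MvPolynomial (Fin (n+1)) k) ∉ z.asHomogeneousIdeal.toIdeal := by
    by_cases hin : i < n
    · refine ⟨⟨i+1, by omega⟩, ?_⟩
      intro z hzC hzL hXt
      apply hmax (i+1) (by omega) (by omega)
      refine ⟨z, hzC, (hmemL (i+1) z).mpr ?_⟩
      intro j h1 h2
      by_cases hj : j.val ≤ i
      · exact (hmemL i z).mp hzL j h1 hj
      · have : j = ⟨i+1, by omega⟩ := Fin.ext (by simp only; omega)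
        rw [this]; exact hXt
    · have hin' : i = n := by omega
      refine ⟨0, ?_⟩
      intro z hzC hzL hX0
      apply z.not_irrelevant_le
      apply irrelevant_le_of_X_mem
      intro j
      by_cases hj : j.val = 0
      · have : j = 0 := Fin.ext (by rw [hj]; rfl)
        rw [this]; exact hX0
      · exact (hmemL i z).mp hzL j (by omega) (by have := j.isLt; omega)
  haveI := x.isPrime
  haveI := y.isPrime
  have hxm : x.asHomogeneousIdeal.toIdeal ≤
      (HomogeneousIdeal.irrelevant (CohB1.polyGrading n k)).toIdeal :=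
    Groth.Agent.S10820.le_irrelevant k n _ x.asHomogeneousIdeal.isHomogeneous x.isPrime.ne_top
  have hJm : x.asHomogeneousIdeal.toIdeal ⊔
      Ideal.span ({(MvPolynomial.X t : MvPolynomial (Fin (n+1)) k)} :
        Set (MvPolynomial (Fin (n+1)) k)) ≤
      (HomogeneousIdeal.irrelevant (CohB1.polyGrading n k)).toIdeal :=
    sup_le hxm ((Ideal.span_singleton_le_iff_mem _).mpr (hXirr t))
  obtain ⟨q, hq, hqm⟩ := Ideal.exists_minimalPrimes_le hJm
  have hqp : q.IsPrime := hq.1.1
  have hJhom : (x.asHomogeneousIdeal.toIdeal ⊔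
      Ideal.span ({(MvPolynomial.X t : MvPolynomial (Fin (n+1)) k)} :
        Set (MvPolynomial (Fin (n+1)) k))).IsHomogeneous (CohB1.polyGrading n k) :=
    x.asHomogeneousIdeal.isHomogeneous.sup (hXhom t)
  have hqhom := Groth.Agent.S10820.isHomogeneous_of_minimal (CohB1.polyGrading n k) _ hJhom q hq
  have hmq : (HomogeneousIdeal.irrelevant (CohB1.polyGrading n k)).toIdeal ≤ q := by
    by_contra hrel
    let z : ProjectiveSpectrum (CohB1.polyGrading n k) := ⟨⟨q, hqhom⟩, hqp, hrel⟩
    have hxz : x.asHomogeneousIdeal.toIdeal ≤ q := le_sup_left.trans hq.1.2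
    have hzC : z ∈ C := by
      have h1 : z ∈ closure ({x} : Set (ProjectiveSpectrum (CohB1.polyGrading n k))) :=
        (ProjectiveSpectrum.le_iff_mem_closure _ x z).mp hxz
      exact (hC.closure_subset_iff.mpr (Set.singleton_subset_iff.mpr hxC)) h1
    have hzL : z ∈ L i :=
      (hmemL i z).mpr (fun j h1 h2 => hxz ((hmemL i x).mp hxL j h1 h2))
    exact ht z hzC hzL (hq.1.2 (Ideal.mem_sup_right (Ideal.mem_span_singleton_self _)))
  have hqeq : q = (HomogeneousIdeal.irrelevant (CohB1.polyGrading n k)).toIdeal :=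
    le_antisymm hqm hmq
  rw [hqeq] at hq
  have hym : y.asHomogeneousIdeal.toIdeal <
      (HomogeneousIdeal.irrelevant (CohB1.polyGrading n k)).toIdeal :=
    lt_of_le_not_ge (Groth.Agent.S10820.le_irrelevant k n _
      y.asHomogeneousIdeal.isHomogeneous y.isPrime.ne_top) (fun hle => y.not_irrelevant_le hle)
  exact no_chain_of_minimal hq hlt hym

end Groth.Agent.S13907
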