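import Groth.Statements.S19926
import Mathlib
import Groth.Agent.S10820
import Groth.Agent.S10840
import Groth.Agent.S10821
import Groth.Agent.S13907
import Groth.Agent.Lib.Helper7.SatChain
import Groth.Agent.Lib.Helper7.GlobCI

set_option autoImplicit false
universe u
open ProjDeg

namespace Groth.Agent.S19926

theorem dim_quot_minimal (k R : Type u) [Field k] [CommRing R] [Algebra k R]
    [Algebra.FiniteType k R]
    (p q : Ideal R) [hp : p.IsPrime] (x : R) (hx : x ∉ p)
    (hq : q ∈ (p ⊔ Ideal.span {x}).minimalPrimes) :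
    ringKrullDim (R ⧸ q) + 1 = ringKrullDim (R ⧸ p) := by
  haveI : IsNoetherianRing R := Algebra.FiniteType.isNoetherianRing k R
  have hqp : q.IsPrime := hq.1.1
  have hpq : p ≤ q := le_sup_left.trans hq.1.2
  have hxq : x ∈ q := hq.1.2 (le_sup_right (a := p) (Ideal.mem_span_singleton_self x))
  haveI hPprime : (q.map (Ideal.Quotient.mk p)).IsPrime :=
    Ideal.map_isPrime_of_surjective Ideal.Quotient.mk_surjective (by rw [Ideal.mk_ker]; exact hpq)
  have hP0 : q.map (Ideal.Quotient.mk p) ≠ ⊥ := by
    intro h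
    have : Ideal.Quotient.mk p x ∈ q.map (Ideal.Quotient.mk p) := Ideal.mem_map_of_mem _ hxq
    rw [h, Ideal.mem_bot, Ideal.Quotient.eq_zero_iff_mem] at this
    exact hx this
  have hht : (q.map (Ideal.Quotient.mk p)).height ≤ 1 :=
    Ideal.map_height_le_one_of_mem_minimalPrimes hq
  have hmin : ∀ Q : Ideal (R ⧸ p), Q.IsPrime → Q ≠ ⊥ → Q ≤ q.map (Ideal.Quotient.mk p) →
      Q = q.map (Ideal.Quotient.mk p) := by
    intro Q hQ hQ0 hQP
    by_contra hne
    have hlt : Q < q.map (Ideal.Quotient.mk p) := lt_of_le_of_ne hQP hne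
    have h1 : (⊥ : Ideal (R ⧸ p)) < Q := bot_lt_iff_ne_bot.mpr hQ0
    have h2 := Ideal.height_add_one_le_of_lt_of_isPrime h1
    have h3 := Ideal.height_add_one_le_of_lt_of_isPrime hlt
    have h4 : (1 : ℕ∞) ≤ Q.height := le_trans le_add_self h2
    have h5 : (1 : ℕ∞) + 1 ≤ 1 := (add_le_add_left h4 1).trans (h3.trans hht)
    exact absurd h5 (by norm_num)
  have hKL := Groth.Agent.Helper7.SatChain.KL k (R ⧸ p) (q.map (Ideal.Quotient.mk p)) hP0 hmin
  rw [← hKL]
  congr 1
  exact ringKrullDim_eq_of_ringEquiv (DoubleQuot.quotQuotEquivQuotOfLE hpq).symm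

theorem irrelevant_isMaximal (k : Type u) [Field k] (n : ℕ) :
    (HomogeneousIdeal.irrelevant (CohB1.polyGrading n k)).toIdeal.IsMaximal := by
  have h1 : (RingHom.ker (MvPolynomial.constantCoeff :
      MvPolynomial (Fin (n+1)) k →+* k)).IsMaximal :=
    RingHom.ker_isMaximal_of_surjective _ (fun a => ⟨MvPolynomial.C a, by simp⟩)
  have h2 : (HomogeneousIdeal.irrelevant (CohB1.polyGrading n k)).toIdeal ≤
      RingHom.ker (MvPolynomial.constantCoeff : MvPolynomial (Fin (n+1)) k →+* k) :=
    Groth.Agent.S13907.irrelevant_le_of_X_mem k n _ (fun i => by simp [RingHom.mem_ker])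
  have h3 : RingHom.ker (MvPolynomial.constantCoeff : MvPolynomial (Fin (n+1)) k →+* k) ≤
      (HomogeneousIdeal.irrelevant (CohB1.polyGrading n k)).toIdeal := by
    intro a ha
    show a ∈ (HomogeneousIdeal.irrelevant (CohB1.polyGrading n k))
    rw [HomogeneousIdeal.mem_irrelevant_iff, GradedRing.proj_apply]
    rw [show ((DirectSum.decompose (CohB1.polyGrading n k) a 0 : CohB1.polyGrading n k 0) :
      MvPolynomial (Fin (n+1)) k) = MvPolynomial.homogeneousComponent 0 a from
        MvPolynomial.decomposition.decompose'_apply a 0]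
    rw [MvPolynomial.homogeneousComponent_zero]
    rw [RingHom.mem_ker, MvPolynomial.constantCoeff_eq] at ha
    rw [ha, map_zero]
  rw [le_antisymm h2 h3]
  exact h1

theorem coneDim (k : Type u) [Field k] (n : ℕ) (x : ProjectiveSpectrum (CohB1.polyGrading n k)) :
    ringKrullDim (MvPolynomial (Fin (n + 1)) k ⧸ x.asHomogeneousIdeal.toIdeal) =
      ((Order.coheight x : ℕ∞) : WithBot ℕ∞) + 1 := by
  classical
  have hmax := irrelevant_isMaximal k n
  have hirr : (HomogeneousIdeal.irrelevant (CohB1.polyGrading n k)).toIdeal.IsPrime :=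
    hmax.isPrime
  have hle : ∀ y : ProjectiveSpectrum (CohB1.polyGrading n k),
      y.asHomogeneousIdeal.toIdeal ≤
        (HomogeneousIdeal.irrelevant (CohB1.polyGrading n k)).toIdeal := fun y =>
    Groth.Agent.S10820.le_irrelevant k n _ y.asHomogeneousIdeal.isHomogeneous y.isPrime.ne_top
  -- dimension as coheight in the prime spectrum
  have hdimco : ∀ y : ProjectiveSpectrum (CohB1.polyGrading n k),
      ringKrullDim (MvPolynomial (Fin (n + 1)) k ⧸ y.asHomogeneousIdeal.toIdeal) =
        ((Order.coheight (⟨y.asHomogeneousIdeal.toIdeal, y.isPrime⟩ :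
          PrimeSpectrum (MvPolynomial (Fin (n + 1)) k)) : ℕ∞) : WithBot ℕ∞) := by
    intro y
    rw [ringKrullDim_quotient, Order.coheight_eq_krullDim_Ici]
    congr 1
  -- lower bound
  have hlow : ∀ y : ProjectiveSpectrum (CohB1.polyGrading n k),
      Order.coheight y + 1 ≤ Order.coheight (⟨y.asHomogeneousIdeal.toIdeal, y.isPrime⟩ :
          PrimeSpectrum (MvPolynomial (Fin (n + 1)) k)) := by
    intro y
    let g' : WithTop (ProjectiveSpectrum (CohB1.polyGrading n k)) →
        PrimeSpectrum (MvPolynomial (Fin (n + 1)) k) := fun z =>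
      match z with
      | ⊤ => ⟨_, hirr⟩
      | (z : ProjectiveSpectrum (CohB1.polyGrading n k)) =>
          ⟨z.asHomogeneousIdeal.toIdeal, z.isPrime⟩
    have hg' : StrictMono g' := by
      intro a b hab
      induction a with
      | top => exact absurd hab (not_top_lt)
      | coe a =>
        induction b with
        | top =>
          show a.asHomogeneousIdeal.toIdeal <
            (HomogeneousIdeal.irrelevant (CohB1.polyGrading n k)).toIdeal
          exact lt_of_le_of_ne (hle a) (fun h => a.not_irrelevant_le h.ge)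
        | coe b =>
          have : a < b := WithTop.coe_lt_coe.mp hab
          exact this
    have := Order.coheight_le_coheight_apply_of_strictMono g' hg'
      (y : WithTop (ProjectiveSpectrum (CohB1.polyGrading n k)))
    rw [Order.coheight_coe_withTop] at this
    exact this
  have hup : ∀ (e : ℕ) (y : ProjectiveSpectrum (CohB1.polyGrading n k)),
      ringKrullDim (MvPolynomial (Fin (n + 1)) k ⧸ y.asHomogeneousIdeal.toIdeal) =
        (e : WithBot ℕ∞) → (e : ℕ∞) ≤ Order.coheight y + 1 := by
    intro e
    induction e with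
    | zero => intro y _; exact zero_le
    | succ e ih =>
      intro y hy
      haveI := y.isPrime
      by_cases he : e = 0
      · subst he; simp
      obtain ⟨t, ht⟩ : ∃ t : Fin (n+1),
          (MvPolynomial.X t : MvPolynomial (Fin (n+1)) k) ∉ y.asHomogeneousIdeal.toIdeal := by
        by_contra hcon
        push Not at hcon
        exact y.not_irrelevant_le (Groth.Agent.S13907.irrelevant_le_of_X_mem k n _ hcon)
      have hXm : (MvPolynomial.X t : MvPolynomial (Fin (n+1)) k) ∈
          (HomogeneousIdeal.irrelevant (CohB1.polyGrading n k)).toIdeal :=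
        HomogeneousIdeal.mem_irrelevant_of_mem _ one_pos
          ((MvPolynomial.mem_homogeneousSubmodule 1 _).mpr (MvPolynomial.isHomogeneous_X _ _))
      have hJm : y.asHomogeneousIdeal.toIdeal ⊔
          Ideal.span {(MvPolynomial.X t : MvPolynomial (Fin (n+1)) k)} ≤
          (HomogeneousIdeal.irrelevant (CohB1.polyGrading n k)).toIdeal :=
        sup_le (hle y) ((Ideal.span_singleton_le_iff_mem _).mpr hXm)
      obtain ⟨q, hq, hqm⟩ := Ideal.exists_minimalPrimes_le hJm
      haveI hqp : q.IsPrime := hq.1.1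
      have hXhom : (Ideal.span ({(MvPolynomial.X t : MvPolynomial (Fin (n+1)) k)} :
          Set (MvPolynomial (Fin (n+1)) k))).IsHomogeneous (CohB1.polyGrading n k) := by
        apply Ideal.homogeneous_span
        rintro x rfl
        exact ⟨1, (MvPolynomial.mem_homogeneousSubmodule 1 _).mpr
          (MvPolynomial.isHomogeneous_X _ _)⟩
      have hqhom : q.IsHomogeneous (CohB1.polyGrading n k) :=
        Groth.Agent.S10820.isHomogeneous_of_minimal (CohB1.polyGrading n k) _
          (y.asHomogeneousIdeal.isHomogeneous.sup hXhom) q hq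
      have hdim := dim_quot_minimal k (MvPolynomial (Fin (n+1)) k)
        y.asHomogeneousIdeal.toIdeal q (MvPolynomial.X t) ht hq
      rw [hy] at hdim
      obtain ⟨d, hd, -⟩ := Groth.Agent.Helper7.GlobCI.dim_eq_trdeg k
        (MvPolynomial (Fin (n+1)) k ⧸ q)
      rw [hd] at hdim
      have hde : d = e := by
        have : d + 1 = e + 1 := by exact_mod_cast hdim
        omega
      have hqne : ¬ (HomogeneousIdeal.irrelevant (CohB1.polyGrading n k)).toIdeal ≤ q := by
        intro hmq
        have hqeq : q = (HomogeneousIdeal.irrelevant (CohB1.polyGrading n k)).toIdeal :=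
          le_antisymm hqm hmq
        have h0 : ringKrullDim (MvPolynomial (Fin (n+1)) k ⧸ q) = 0 := by
          haveI : q.IsMaximal := hqeq ▸ hmax
          letI := Ideal.Quotient.field q
          exact ringKrullDim_eq_zero_of_field _
        rw [hd, hde] at h0
        exact he (by exact_mod_cast h0)
      let z : ProjectiveSpectrum (CohB1.polyGrading n k) := ⟨⟨q, hqhom⟩, hqp, hqne⟩
      have hyz : y < z := by
        refine lt_of_le_not_ge (show y.asHomogeneousIdeal.toIdeal ≤ q from
          le_sup_left.trans hq.1.2) ?_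
        intro hzy
        have hzy' : q ≤ y.asHomogeneousIdeal.toIdeal := hzy
        exact ht (hzy' (hq.1.2 (le_sup_right (a := y.asHomogeneousIdeal.toIdeal)
          (Ideal.mem_span_singleton_self _))))
      have ih' := ih z (by rw [← hde]; exact hd)
      have hco := Order.coheight_add_one_le hyz
      calc ((e+1 : ℕ) : ℕ∞) = (e : ℕ∞) + 1 := by push_cast; rfl
        _ ≤ (Order.coheight z + 1) + 1 := add_le_add_left ih' 1
        _ ≤ Order.coheight y + 1 := add_le_add_left hco 1
  haveI := x.isPrime
  obtain ⟨e, he, -⟩ := Groth.Agent.Helper7.GlobCI.dim_eq_trdeg k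
    (MvPolynomial (Fin (n+1)) k ⧸ x.asHomogeneousIdeal.toIdeal)
  have h1 := hup e x he
  have h2 := hlow x
  have h3 := hdimco x
  rw [he] at h3
  have h4 : (e : ℕ∞) = Order.coheight (⟨x.asHomogeneousIdeal.toIdeal, x.isPrime⟩ :
          PrimeSpectrum (MvPolynomial (Fin (n + 1)) k)) := by exact_mod_cast h3
  have h5 : (e : ℕ∞) = Order.coheight x + 1 := le_antisymm h1 (h4 ▸ h2)
  rw [he, show ((e : ℕ) : WithBot ℕ∞) = (((e : ℕ∞)) : WithBot ℕ∞) from rfl, h5]
  push_cast
  rfl

open Topology in
theorem topDim_Ici {A σ : Type u} [CommRing A] [SetLike σ A] [AddSubgroupClass σ A]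
    (𝒜 : ℕ → σ) [GradedRing 𝒜] (x : ProjectiveSpectrum 𝒜) :
    topologicalKrullDim ↥(Set.Ici x) = ((Order.coheight x : ℕ∞) : WithBot ℕ∞) := by
  haveI := Groth.Agent.S10840.quasiSober_PS 𝒜
  haveI := Groth.Agent.S10840.t0_PS 𝒜
  have hcl : IsClosed (Set.Ici x) := by
    have : Set.Ici x = closure {x} := by
      ext y; rw [Set.mem_Ici, ProjectiveSpectrum.le_iff_mem_closure]
    rw [this]; exact isClosed_closure
  haveI : QuasiSober ↥(Set.Ici x) := hcl.isClosedEmbedding_subtypeVal.quasiSober
  rw [Groth.Agent.S10840.topDim_eq, Order.coheight_eq_krullDim_Ici,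
    ← Order.krullDim_orderDual (α := ↥(Set.Ici x))]
  let e₂ : @OrderIso ↥(Set.Ici x) (↥(Set.Ici x))ᵒᵈ
      (specializationPreorder ↥(Set.Ici x)).toLE _ :=
    { toEquiv := OrderDual.toDual
      map_rel_iff' := by
        intro a b
        show b ≤ a ↔ b ⤳ a
        rw [subtype_specializes_iff, specializes_iff_mem_closure,
          ← ProjectiveSpectrum.le_iff_mem_closure]
        rfl }
  exact @Order.krullDim_eq_of_orderIso _ _ (specializationPreorder ↥(Set.Ici x)) _ e₂

/-- Let k be a field, n ≥ 0, S = k[X_0, …, X_n] graded by degree, and p a homogeneous prime ideal of S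
which does not contain the irrelevant ideal S_+, so that X = V_+(p) is a nonempty integral closed
subscheme of P^n_k (every such subscheme arises this way); its affine cone C(X) ⊆ A^{n+1}_k, the
closure of the preimage of X under the projection from A^{n+1} minus the origin, is the closed
subset V(p), with coordinate ring S/p. Then dim C(X) = dim X + 1: the Krull dimension of S/p is the
topological Krull dimension of the closed subset V_+(p) of Proj S plus one. -/
theorem result (k : Type u) [Field k] (n : ℕ)
    (p : Ideal (MvPolynomial (Fin (n + 1)) k)) [p.IsPrime] (hph : p.IsHomogeneous (CohB1.polyGrading n k))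
    (hrel : ¬ (HomogeneousIdeal.irrelevant (CohB1.polyGrading n k)).toIdeal ≤ p) :
    ringKrullDim (MvPolynomial (Fin (n + 1)) k ⧸ p) =
      topologicalKrullDim ↥(ProjectiveSpectrum.zeroLocus (CohB1.polyGrading n k) (p : Set (MvPolynomial (Fin (n + 1)) k))) + 1 := by
  let x : ProjectiveSpectrum (CohB1.polyGrading n k) := ⟨⟨p, hph⟩, inferInstance, hrel⟩
  have hset : ProjectiveSpectrum.zeroLocus (CohB1.polyGrading n k)
      (p : Set (MvPolynomial (Fin (n + 1)) k)) = Set.Ici x := by
    ext y
    rw [ProjectiveSpectrum.mem_zeroLocus, Set.mem_Ici]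
    rfl
  rw [hset, topDim_Ici]
  exact coneDim k n x

end Groth.Agent.S19926
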