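import Groth.Statements.S10822
import Mathlib
import Groth.Agent.S19926

set_option autoImplicit false
universe u
open AlgebraicGeometry Topology TopologicalSpace
open Variety

namespace Groth.Agent.S10822

theorem coheight_step (k : Type u) [Field k] (n : ℕ)
    (x z : ProjectiveSpectrum (CohB1.polyGrading n k)) (f : MvPolynomial (Fin (n + 1)) k)
    (hfx : f ∉ x.asHomogeneousIdeal.toIdeal)
    (hz : z.asHomogeneousIdeal.toIdeal ∈
      (x.asHomogeneousIdeal.toIdeal ⊔ Ideal.span {f}).minimalPrimes) :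
    Order.coheight z + 1 = Order.coheight x := by
  haveI := x.isPrime
  have h1 := Groth.Agent.S19926.dim_quot_minimal k (MvPolynomial (Fin (n + 1)) k)
    x.asHomogeneousIdeal.toIdeal z.asHomogeneousIdeal.toIdeal f hfx hz
  rw [Groth.Agent.S19926.coneDim k n z, Groth.Agent.S19926.coneDim k n x] at h1
  have h1' : Order.coheight z + 1 + 1 = Order.coheight x + 1 := by exact_mod_cast h1
  exact ENat.add_left_injective_of_ne_top ENat.one_ne_top h1'

/-- Let k be a field, X an irreducible closed subset of projective n-space over k of positive dimension,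
and f a homogeneous polynomial in n + 1 variables whose zero set V_+(f) is nonempty and does not
contain X. Then X meets V_+(f), and every irreducible component C of X ∩ V_+(f) has dim C + 1 = dim
X, i.e. codimension 1 in X (all maximal chains of irreducible closed subsets of X have length dim
X). -/
theorem result (k : Type u) [Field k] (n d : ℕ)
    (X : Set (ProjectiveSpectrum (CohB1.polyGrading n k))) (hXc : IsClosed X) (hXi : IsIrreducible X)
    (hXd : 0 < topologicalKrullDim ↥X)
    (f : MvPolynomial (Fin (n + 1)) k) (hf : f.IsHomogeneous d)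
    (hV : (ProjectiveSpectrum.zeroLocus (CohB1.polyGrading n k)
      ({f} : Set (MvPolynomial (Fin (n + 1)) k))).Nonempty)
    (hX : ¬ X ⊆ ProjectiveSpectrum.zeroLocus (CohB1.polyGrading n k)
      ({f} : Set (MvPolynomial (Fin (n + 1)) k))) :
    (X ∩ ProjectiveSpectrum.zeroLocus (CohB1.polyGrading n k)
        ({f} : Set (MvPolynomial (Fin (n + 1)) k))).Nonempty ∧
      ∀ C ∈ irreducibleComponents ↥(X ∩ ProjectiveSpectrum.zeroLocus (CohB1.polyGrading n k)
          ({f} : Set (MvPolynomial (Fin (n + 1)) k))),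
        topologicalKrullDim ↥C + 1 = topologicalKrullDim ↥X := by
  classical
  haveI := Groth.Agent.S10840.quasiSober_PS (CohB1.polyGrading n k)
  haveI := Groth.Agent.S10840.t0_PS (CohB1.polyGrading n k)
  have hIci : ∀ y : ProjectiveSpectrum (CohB1.polyGrading n k), closure {y} = Set.Ici y := by
    intro y; ext z; rw [Set.mem_Ici, ProjectiveSpectrum.le_iff_mem_closure]
  have hle_iff : ∀ y z : ProjectiveSpectrum (CohB1.polyGrading n k),
      y ≤ z ↔ y.asHomogeneousIdeal.toIdeal ≤ z.asHomogeneousIdeal.toIdeal := fun _ _ => Iff.rfl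
  obtain ⟨x, hx⟩ := QuasiSober.sober hXi hXc
  have hXeq : X = Set.Ici x := by rw [← hIci]; exact hx.def.symm
  subst hXeq
  have hmemV : ∀ y : ProjectiveSpectrum (CohB1.polyGrading n k),
      y ∈ ProjectiveSpectrum.zeroLocus (CohB1.polyGrading n k)
        ({f} : Set (MvPolynomial (Fin (n + 1)) k)) ↔ f ∈ y.asHomogeneousIdeal.toIdeal := by
    intro y
    rw [ProjectiveSpectrum.mem_zeroLocus, Set.singleton_subset_iff]
    rfl
  have hfx : f ∉ x.asHomogeneousIdeal.toIdeal := by
    intro hfx
    apply hX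
    intro y hy
    rw [hmemV]
    exact (hle_iff x y).mp hy hfx
  have hmax := Groth.Agent.S19926.irrelevant_isMaximal k n
  have hirr : (HomogeneousIdeal.irrelevant (CohB1.polyGrading n k)).toIdeal.IsPrime :=
    hmax.isPrime
  have hle : ∀ y : ProjectiveSpectrum (CohB1.polyGrading n k),
      y.asHomogeneousIdeal.toIdeal ≤
        (HomogeneousIdeal.irrelevant (CohB1.polyGrading n k)).toIdeal := fun y =>
    Groth.Agent.S10820.le_irrelevant k n _ y.asHomogeneousIdeal.isHomogeneous y.isPrime.ne_top
  have hfm : f ∈ (HomogeneousIdeal.irrelevant (CohB1.polyGrading n k)).toIdeal := by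
    obtain ⟨v, hv⟩ := hV
    exact hle v ((hmemV v).mp hv)
  have hfhom : (Ideal.span ({f} : Set (MvPolynomial (Fin (n + 1)) k))).IsHomogeneous
      (CohB1.polyGrading n k) := by
    apply Ideal.homogeneous_span
    rintro y rfl
    exact ⟨d, (MvPolynomial.mem_homogeneousSubmodule d _).mpr hf⟩
  have hJhom : (x.asHomogeneousIdeal.toIdeal ⊔
      Ideal.span ({f} : Set (MvPolynomial (Fin (n + 1)) k))).IsHomogeneous
      (CohB1.polyGrading n k) := x.asHomogeneousIdeal.isHomogeneous.sup hfhom
  have hJm : x.asHomogeneousIdeal.toIdeal ⊔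
      Ideal.span ({f} : Set (MvPolynomial (Fin (n + 1)) k)) ≤
      (HomogeneousIdeal.irrelevant (CohB1.polyGrading n k)).toIdeal :=
    sup_le (hle x) ((Ideal.span_singleton_le_iff_mem _).mpr hfm)
  have hdimX : topologicalKrullDim ↥(Set.Ici x) = ((Order.coheight x : ℕ∞) : WithBot ℕ∞) :=
    Groth.Agent.S19926.topDim_Ici (CohB1.polyGrading n k) x
  have hcopos : 0 < Order.coheight x := by
    rw [hdimX] at hXd
    exact_mod_cast hXd
  haveI := x.isPrime
  -- minimal primes give relevant points
  have hrelq : ∀ q ∈ (x.asHomogeneousIdeal.toIdeal ⊔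
      Ideal.span ({f} : Set (MvPolynomial (Fin (n + 1)) k))).minimalPrimes,
      q ≤ (HomogeneousIdeal.irrelevant (CohB1.polyGrading n k)).toIdeal →
      ¬ (HomogeneousIdeal.irrelevant (CohB1.polyGrading n k)).toIdeal ≤ q := by
    intro q hq hqm hmq
    have hqeq : q = (HomogeneousIdeal.irrelevant (CohB1.polyGrading n k)).toIdeal :=
      le_antisymm hqm hmq
    have h0 : ringKrullDim (MvPolynomial (Fin (n+1)) k ⧸ q) = 0 := by
      haveI : q.IsMaximal := hqeq ▸ hmax
      letI := Ideal.Quotient.field q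
      exact ringKrullDim_eq_zero_of_field _
    have h1 := Groth.Agent.S19926.dim_quot_minimal k (MvPolynomial (Fin (n + 1)) k)
      x.asHomogeneousIdeal.toIdeal q f hfx hq
    rw [h0, Groth.Agent.S19926.coneDim k n x] at h1
    have h1' : (0 : ℕ∞) + 1 = Order.coheight x + 1 := by exact_mod_cast h1
    have := ENat.add_left_injective_of_ne_top ENat.one_ne_top h1'
    rw [← this] at hcopos
    exact lt_irrefl _ hcopos
  refine ⟨?_, ?_⟩
  · obtain ⟨q, hq, hqm⟩ := Ideal.exists_minimalPrimes_le hJm
    have hqhom := Groth.Agent.S10820.isHomogeneous_of_minimal (CohB1.polyGrading n k) _ hJhom q hq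
    refine ⟨⟨⟨q, hqhom⟩, hq.1.1, hrelq q hq hqm⟩, ?_, ?_⟩
    · exact (hle_iff _ _).mpr (le_sup_left.trans hq.1.2)
    · rw [hmemV]
      exact hq.1.2 (le_sup_right (a := x.asHomogeneousIdeal.toIdeal)
        (Ideal.mem_span_singleton_self f))
  · intro C hC
    have hWcl : IsClosed (Set.Ici x ∩ ProjectiveSpectrum.zeroLocus (CohB1.polyGrading n k)
        ({f} : Set (MvPolynomial (Fin (n + 1)) k))) := by
      refine IsClosed.inter ?_ (ProjectiveSpectrum.isClosed_zeroLocus _ _)
      rw [← hIci]; exact isClosed_closure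
    have hCcl : IsClosed C := isClosed_of_mem_irreducibleComponents C hC
    have hCirr : IsIrreducible C := hC.1
    have hC'cl : IsClosed (Subtype.val '' C) :=
      hWcl.isClosedEmbedding_subtypeVal.isClosedMap _ hCcl
    have hC'irr : IsIrreducible (Subtype.val '' C) :=
      hCirr.image _ continuous_subtype_val.continuousOn
    obtain ⟨y, hy⟩ := QuasiSober.sober hC'irr hC'cl
    have hC'eq : Subtype.val '' C = Set.Ici y := by rw [← hIci y]; exact hy.def.symm
    have hyC' : y ∈ Subtype.val '' C := by rw [hC'eq]; exact Set.mem_Ici.mpr le_rfl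
    obtain ⟨c, hcC, rfl⟩ := hyC'
    have hxy : x.asHomogeneousIdeal.toIdeal ≤ c.1.asHomogeneousIdeal.toIdeal :=
      (hle_iff _ _).mp c.2.1
    have hfy : f ∈ c.1.asHomogeneousIdeal.toIdeal := (hmemV _).mp c.2.2
    have hJy : x.asHomogeneousIdeal.toIdeal ⊔
        Ideal.span ({f} : Set (MvPolynomial (Fin (n + 1)) k)) ≤
        c.1.asHomogeneousIdeal.toIdeal :=
      sup_le hxy ((Ideal.span_singleton_le_iff_mem _).mpr hfy)
    haveI := c.1.isPrime
    obtain ⟨q, hq, hqy⟩ := Ideal.exists_minimalPrimes_le hJy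
    have hqhom := Groth.Agent.S10820.isHomogeneous_of_minimal (CohB1.polyGrading n k) _ hJhom q hq
    have hqrel : ¬ (HomogeneousIdeal.irrelevant (CohB1.polyGrading n k)).toIdeal ≤ q :=
      fun h => c.1.not_irrelevant_le (h.trans hqy)
    have hzW : (⟨⟨q, hqhom⟩, hq.1.1, hqrel⟩ : ProjectiveSpectrum (CohB1.polyGrading n k)) ∈
        Set.Ici x ∩ ProjectiveSpectrum.zeroLocus (CohB1.polyGrading n k)
        ({f} : Set (MvPolynomial (Fin (n + 1)) k)) := by
      refine ⟨(hle_iff _ _).mpr (le_sup_left.trans hq.1.2), ?_⟩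
      rw [hmemV]
      exact hq.1.2 (le_sup_right (a := x.asHomogeneousIdeal.toIdeal)
        (Ideal.mem_span_singleton_self f))
    have hC₂irr : IsIrreducible (closure {(⟨_, hzW⟩ : ↥(Set.Ici x ∩
        ProjectiveSpectrum.zeroLocus (CohB1.polyGrading n k)
        ({f} : Set (MvPolynomial (Fin (n + 1)) k))))}) := isIrreducible_singleton.closure
    have hCsub : C ⊆ closure {(⟨_, hzW⟩ : ↥(Set.Ici x ∩
        ProjectiveSpectrum.zeroLocus (CohB1.polyGrading n k)
        ({f} : Set (MvPolynomial (Fin (n + 1)) k))))} := by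
      intro c' hc'
      rw [Topology.IsEmbedding.subtypeVal.closure_eq_preimage_closure_image, Set.image_singleton,
        hIci]
      have hc'' : c'.1 ∈ Subtype.val '' C := ⟨c', hc', rfl⟩
      rw [hC'eq] at hc''
      exact le_trans ((hle_iff _ _).mpr hqy) hc''
    have hsub2 := hC.2 hC₂irr hCsub
    have hwC := hsub2 (subset_closure (Set.mem_singleton _))
    have hzC' : (⟨⟨q, hqhom⟩, hq.1.1, hqrel⟩ : ProjectiveSpectrum (CohB1.polyGrading n k)) ∈
        Subtype.val '' C := ⟨_, hwC, rfl⟩
    rw [hC'eq] at hzC'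
    have hyz : c.1 = (⟨⟨q, hqhom⟩, hq.1.1, hqrel⟩ : ProjectiveSpectrum (CohB1.polyGrading n k)) :=
      le_antisymm hzC' ((hle_iff _ _).mpr hqy)
    have hmin : c.1.asHomogeneousIdeal.toIdeal ∈ (x.asHomogeneousIdeal.toIdeal ⊔
        Ideal.span ({f} : Set (MvPolynomial (Fin (n + 1)) k))).minimalPrimes := by
      rw [hyz]; exact hq
    have hstep := coheight_step k n x c.1 f hfx hmin
    have hdimC : topologicalKrullDim ↥C = topologicalKrullDim ↥(Subtype.val '' C) :=
      IsHomeomorph.topologicalKrullDim_eq _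
        (Topology.IsEmbedding.subtypeVal.homeomorphImage C).isHomeomorph
    rw [hdimC, hC'eq, Groth.Agent.S19926.topDim_Ici, hdimX, ← hstep]
    push_cast
    rfl

end Groth.Agent.S10822
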