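import Groth.Statements.S10823
import Mathlib
import Groth.Agent.S10822

set_option autoImplicit false
universe u
open AlgebraicGeometry Topology TopologicalSpace
open Variety

namespace Groth.Agent.S10823

theorem dim_le_of_minimal (k R : Type u) [Field k] [CommRing R] [Algebra k R]
    [Algebra.FiniteType k R] :
    ∀ (r : ℕ) (f : Fin r → R) (p q : Ideal R) [p.IsPrime],
      q ∈ (p ⊔ Ideal.span (Set.range f)).minimalPrimes →
      ringKrullDim (R ⧸ p) ≤ ringKrullDim (R ⧸ q) + (r : WithBot ℕ∞) := by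
  intro r
  induction r with
  | zero =>
    intro f p q _ hq
    have : Set.range f = ∅ := Set.range_eq_empty f
    rw [this, Ideal.span_empty, sup_bot_eq, Ideal.minimalPrimes_eq_subsingleton_self] at hq
    have hqp : q = p := hq
    subst hqp
    simp
  | succ r ih =>
    intro f p q _ hq
    have hqprime : q.IsPrime := hq.1.1
    have hrange : Set.range f = Set.range (fun i : Fin r => f i.castSucc) ∪ {f (Fin.last r)} := by
      ext a
      constructor
      · rintro ⟨i, rfl⟩
        induction i using Fin.lastCases with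
        | last => right; rfl
        | cast i => left; exact ⟨i, rfl⟩
      · rintro (⟨i, rfl⟩ | h)
        · exact ⟨_, rfl⟩
        · rw [Set.mem_singleton_iff] at h; rw [h]; exact ⟨_, rfl⟩
    have hJ : p ⊔ Ideal.span (Set.range f) =
        (p ⊔ Ideal.span (Set.range (fun i : Fin r => f i.castSucc))) ⊔
          Ideal.span {f (Fin.last r)} := by
      rw [hrange, Ideal.span_union, sup_assoc]
    rw [hJ] at hq
    have hJ'q : p ⊔ Ideal.span (Set.range (fun i : Fin r => f i.castSucc)) ≤ q :=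
      le_sup_left.trans hq.1.2
    obtain ⟨q', hq', hq'q⟩ := Ideal.exists_minimalPrimes_le hJ'q
    haveI hq'prime : q'.IsPrime := hq'.1.1
    have ih' := ih _ p q' hq'
    have hgq : f (Fin.last r) ∈ q := hq.1.2 (le_sup_right
      (a := p ⊔ Ideal.span (Set.range (fun i : Fin r => f i.castSucc)))
      (Ideal.mem_span_singleton_self _))
    have hqmin : q ∈ (q' ⊔ Ideal.span {f (Fin.last r)}).minimalPrimes := by
      refine ⟨⟨hqprime, sup_le hq'q ((Ideal.span_singleton_le_iff_mem _).mpr hgq)⟩, ?_⟩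
      rintro Q ⟨hQp, hQ⟩ hQq
      exact hq.2 ⟨hQp, (sup_le_sup_right hq'.1.2 _).trans hQ⟩ hQq
    by_cases hg : f (Fin.last r) ∈ q'
    · have : q' ⊔ Ideal.span {f (Fin.last r)} = q' :=
        sup_eq_left.mpr ((Ideal.span_singleton_le_iff_mem _).mpr hg)
      rw [this, Ideal.minimalPrimes_eq_subsingleton_self] at hqmin
      have hqq' : q = q' := hqmin
      subst hqq'
      refine ih'.trans ?_
      push_cast
      rw [← add_assoc]
      exact le_add_of_nonneg_right zero_le_one
    · have h1 := Groth.Agent.S19926.dim_quot_minimal k R q' q (f (Fin.last r)) hg hqmin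
      rw [← h1] at ih'
      refine ih'.trans (le_of_eq ?_)
      push_cast
      rw [add_assoc, add_comm (1 : WithBot ℕ∞)]

theorem comp_generic {A σ : Type u} [CommRing A] [SetLike σ A] [AddSubgroupClass σ A]
    (𝒜 : ℕ → σ) [GradedRing 𝒜] (J : Ideal A) (hJ : J.IsHomogeneous 𝒜)
    (W : Set (ProjectiveSpectrum 𝒜)) (hW : ∀ y, y ∈ W ↔ J ≤ y.asHomogeneousIdeal.toIdeal)
    (C : Set ↥W) (hC : C ∈ irreducibleComponents ↥W) :
    ∃ c : ProjectiveSpectrum 𝒜, Subtype.val '' C = Set.Ici c ∧
      c.asHomogeneousIdeal.toIdeal ∈ J.minimalPrimes := by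
  haveI := Groth.Agent.S10840.quasiSober_PS 𝒜
  haveI := Groth.Agent.S10840.t0_PS 𝒜
  have hIci : ∀ y : ProjectiveSpectrum 𝒜, closure {y} = Set.Ici y := by
    intro y; ext z; rw [Set.mem_Ici, ProjectiveSpectrum.le_iff_mem_closure]
  have hle_iff : ∀ y z : ProjectiveSpectrum 𝒜,
      y ≤ z ↔ y.asHomogeneousIdeal.toIdeal ≤ z.asHomogeneousIdeal.toIdeal := fun _ _ => Iff.rfl
  have hWcl : IsClosed W := by
    have : W = ProjectiveSpectrum.zeroLocus 𝒜 (J : Set A) := by
      ext y
      rw [hW, ProjectiveSpectrum.mem_zeroLocus]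
      rfl
    rw [this]
    exact ProjectiveSpectrum.isClosed_zeroLocus _ _
  have hCcl : IsClosed C := isClosed_of_mem_irreducibleComponents C hC
  have hCirr : IsIrreducible C := hC.1
  have hC'cl : IsClosed (Subtype.val '' C) :=
    hWcl.isClosedEmbedding_subtypeVal.isClosedMap _ hCcl
  have hC'irr : IsIrreducible (Subtype.val '' C) :=
    hCirr.image _ continuous_subtype_val.continuousOn
  obtain ⟨y, hy⟩ := QuasiSober.sober hC'irr hC'cl
  have hC'eq : Subtype.val '' C = Set.Ici y := by rw [← hIci y]; exact hy.def.symm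
  have hyC' : y ∈ Subtype.val '' C := by rw [hC'eq]; exact Set.mem_Ici.mpr le_rfl
  obtain ⟨c, hcC, rfl⟩ := hyC'
  have hJy : J ≤ c.1.asHomogeneousIdeal.toIdeal := (hW _).mp c.2
  haveI := c.1.isPrime
  obtain ⟨q, hq, hqy⟩ := Ideal.exists_minimalPrimes_le hJy
  have hqhom := Groth.Agent.S10820.isHomogeneous_of_minimal 𝒜 _ hJ q hq
  have hqrel : ¬ (HomogeneousIdeal.irrelevant 𝒜).toIdeal ≤ q :=
    fun h => c.1.not_irrelevant_le (h.trans hqy)
  have hzW : (⟨⟨q, hqhom⟩, hq.1.1, hqrel⟩ : ProjectiveSpectrum 𝒜) ∈ W := (hW _).mpr hq.1.2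
  have hC₂irr : IsIrreducible (closure {(⟨_, hzW⟩ : ↥W)}) := isIrreducible_singleton.closure
  have hCsub : C ⊆ closure {(⟨_, hzW⟩ : ↥W)} := by
    intro c' hc'
    rw [Topology.IsEmbedding.subtypeVal.closure_eq_preimage_closure_image, Set.image_singleton,
      hIci]
    have hc'' : c'.1 ∈ Subtype.val '' C := ⟨c', hc', rfl⟩
    rw [hC'eq] at hc''
    exact le_trans ((hle_iff _ _).mpr hqy) hc''
  have hsub2 := hC.2 hC₂irr hCsub
  have hwC := hsub2 (subset_closure (Set.mem_singleton _))
  have hzC' : (⟨⟨q, hqhom⟩, hq.1.1, hqrel⟩ : ProjectiveSpectrum 𝒜) ∈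
      Subtype.val '' C := ⟨_, hwC, rfl⟩
  rw [hC'eq] at hzC'
  have hyz : c.1 = (⟨⟨q, hqhom⟩, hq.1.1, hqrel⟩ : ProjectiveSpectrum 𝒜) :=
    le_antisymm hzC' ((hle_iff _ _).mpr hqy)
  refine ⟨c.1, hC'eq, ?_⟩
  rw [hyz]; exact hq

/-- Let k be a field, X an irreducible closed subset of projective n-space over k, and f_1, …, f_r
nonzero homogeneous polynomials of positive degrees in n + 1 variables. Then every irreducible
component C of X ∩ V_+(f_1, …, f_r) has codimension at most r in X, i.e. dim X ≤ dim C + r, and if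
dim X ≥ r the intersection is nonempty. -/
theorem result (k : Type u) [Field k] (n r : ℕ)
    (X : Set (ProjectiveSpectrum (CohB1.polyGrading n k))) (hXc : IsClosed X) (hXi : IsIrreducible X)
    (f : Fin r → MvPolynomial (Fin (n + 1)) k) (d : Fin r → ℕ)
    (hf : ∀ i, (f i).IsHomogeneous (d i)) (hd : ∀ i, 0 < d i) (hf0 : ∀ i, f i ≠ 0) :
    (∀ C ∈ irreducibleComponents ↥(X ∩ ProjectiveSpectrum.zeroLocus (CohB1.polyGrading n k) (Set.range f)),
        topologicalKrullDim ↥X ≤ topologicalKrullDim ↥C + (r : WithBot ℕ∞)) ∧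
      ((r : WithBot ℕ∞) ≤ topologicalKrullDim ↥X →
        (X ∩ ProjectiveSpectrum.zeroLocus (CohB1.polyGrading n k) (Set.range f)).Nonempty) := by
  classical
  haveI := Groth.Agent.S10840.quasiSober_PS (CohB1.polyGrading n k)
  haveI := Groth.Agent.S10840.t0_PS (CohB1.polyGrading n k)
  have hIci : ∀ y : ProjectiveSpectrum (CohB1.polyGrading n k), closure {y} = Set.Ici y := by
    intro y; ext z; rw [Set.mem_Ici, ProjectiveSpectrum.le_iff_mem_closure]
  have hle_iff : ∀ y z : ProjectiveSpectrum (CohB1.polyGrading n k),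
      y ≤ z ↔ y.asHomogeneousIdeal.toIdeal ≤ z.asHomogeneousIdeal.toIdeal := fun _ _ => Iff.rfl
  obtain ⟨x, hx⟩ := QuasiSober.sober hXi hXc
  have hXeq : X = Set.Ici x := by rw [← hIci]; exact hx.def.symm
  subst hXeq
  have hW : ∀ y : ProjectiveSpectrum (CohB1.polyGrading n k),
      y ∈ Set.Ici x ∩ ProjectiveSpectrum.zeroLocus (CohB1.polyGrading n k) (Set.range f) ↔
        x.asHomogeneousIdeal.toIdeal ⊔ Ideal.span (Set.range f) ≤
          y.asHomogeneousIdeal.toIdeal := by
    intro y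
    rw [Set.mem_inter_iff, ProjectiveSpectrum.mem_zeroLocus, sup_le_iff, Ideal.span_le]
    rfl
  have hmax := Groth.Agent.S19926.irrelevant_isMaximal k n
  have hirr : (HomogeneousIdeal.irrelevant (CohB1.polyGrading n k)).toIdeal.IsPrime :=
    hmax.isPrime
  have hle : ∀ y : ProjectiveSpectrum (CohB1.polyGrading n k),
      y.asHomogeneousIdeal.toIdeal ≤
        (HomogeneousIdeal.irrelevant (CohB1.polyGrading n k)).toIdeal := fun y =>
    Groth.Agent.S10820.le_irrelevant k n _ y.asHomogeneousIdeal.isHomogeneous y.isPrime.ne_top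
  have hfm : ∀ i, f i ∈ (HomogeneousIdeal.irrelevant (CohB1.polyGrading n k)).toIdeal := fun i =>
    HomogeneousIdeal.mem_irrelevant_of_mem _ (hd i)
      ((MvPolynomial.mem_homogeneousSubmodule (d i) _).mpr (hf i))
  have hfhom : (Ideal.span (Set.range f)).IsHomogeneous (CohB1.polyGrading n k) := by
    apply Ideal.homogeneous_span
    rintro y ⟨i, rfl⟩
    exact ⟨d i, (MvPolynomial.mem_homogeneousSubmodule (d i) _).mpr (hf i)⟩
  have hJhom : (x.asHomogeneousIdeal.toIdeal ⊔ Ideal.span (Set.range f)).IsHomogeneous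
      (CohB1.polyGrading n k) := x.asHomogeneousIdeal.isHomogeneous.sup hfhom
  have hJm : x.asHomogeneousIdeal.toIdeal ⊔ Ideal.span (Set.range f) ≤
      (HomogeneousIdeal.irrelevant (CohB1.polyGrading n k)).toIdeal := by
    refine sup_le (hle x) (Ideal.span_le.mpr ?_)
    rintro y ⟨i, rfl⟩
    exact hfm i
  have hdimX : topologicalKrullDim ↥(Set.Ici x) = ((Order.coheight x : ℕ∞) : WithBot ℕ∞) :=
    Groth.Agent.S19926.topDim_Ici (CohB1.polyGrading n k) x
  haveI := x.isPrime
  refine ⟨?_, ?_⟩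
  · intro C hC
    obtain ⟨c, hCc, hcmin⟩ := comp_generic (CohB1.polyGrading n k) _ hJhom _ hW C hC
    have h1 := dim_le_of_minimal k (MvPolynomial (Fin (n + 1)) k) r f
      x.asHomogeneousIdeal.toIdeal c.asHomogeneousIdeal.toIdeal hcmin
    rw [Groth.Agent.S19926.coneDim k n x, Groth.Agent.S19926.coneDim k n c] at h1
    have h1' : Order.coheight x + 1 ≤ Order.coheight c + 1 + (r : ℕ∞) := by exact_mod_cast h1
    have h2 : Order.coheight x ≤ Order.coheight c + (r : ℕ∞) := by
      rw [add_right_comm] at h1'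
      exact (ENat.add_le_add_iff_right ENat.one_ne_top).mp h1'
    have hdimC : topologicalKrullDim ↥C = topologicalKrullDim ↥(Subtype.val '' C) :=
      IsHomeomorph.topologicalKrullDim_eq _
        (Topology.IsEmbedding.subtypeVal.homeomorphImage C).isHomeomorph
    rw [hdimC, hCc, hdimX, Groth.Agent.S19926.topDim_Ici]
    exact_mod_cast h2
  · intro hr
    rw [hdimX] at hr
    have hr' : (r : ℕ∞) ≤ Order.coheight x := by exact_mod_cast hr
    obtain ⟨q, hq, hqm⟩ := Ideal.exists_minimalPrimes_le hJm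
    have hqhom := Groth.Agent.S10820.isHomogeneous_of_minimal (CohB1.polyGrading n k) _ hJhom q hq
    have hqrel : ¬ (HomogeneousIdeal.irrelevant (CohB1.polyGrading n k)).toIdeal ≤ q := by
      intro hmq
      have hqeq : q = (HomogeneousIdeal.irrelevant (CohB1.polyGrading n k)).toIdeal :=
        le_antisymm hqm hmq
      have h0 : ringKrullDim (MvPolynomial (Fin (n+1)) k ⧸ q) = 0 := by
        haveI : q.IsMaximal := hqeq ▸ hmax
        letI := Ideal.Quotient.field q
        exact ringKrullDim_eq_zero_of_field _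
      have h1 := dim_le_of_minimal k (MvPolynomial (Fin (n + 1)) k) r f
        x.asHomogeneousIdeal.toIdeal q hq
      rw [Groth.Agent.S19926.coneDim k n x, h0, zero_add] at h1
      have h1' : Order.coheight x + 1 ≤ (r : ℕ∞) := by exact_mod_cast h1
      have hfin : Order.coheight x ≠ ⊤ := by
        intro h
        rw [h] at h1'
        simp at h1'
      exact absurd (h1'.trans hr') (not_le.mpr ((ENat.lt_add_one_iff hfin).mpr le_rfl))
    exact ⟨⟨⟨q, hqhom⟩, hq.1.1, hqrel⟩, (hW _).mpr hq.1.2⟩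

end Groth.Agent.S10823
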