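import Groth.Statements.S7675
import Mathlib
import Groth.Agent.S10823

set_option autoImplicit false
universe u
open CategoryTheory CategoryTheory.Limits AlgebraicGeometry
open Variety

namespace Groth.Agent.S7675

open TensorProduct in
theorem tmul_one_mem_nzd (k D E : Type u) [Field k] [CommRing D] [IsDomain D] [CommRing E]
    [Algebra k D] [Algebra k E] (d : D) (hd : d ≠ 0) :
    (d ⊗ₜ[k] (1 : E)) ∈ nonZeroDivisors (D ⊗[k] E) := by
  rw [mem_nonZeroDivisors_iff_right]
  intro t ht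
  have h1 : d • t = 0 := by
    rw [Algebra.smul_def, Algebra.TensorProduct.algebraMap_apply, Algebra.algebraMap_self_apply,
      mul_comm]
    exact ht
  exact (smul_eq_zero_iff_right hd).mp h1

open TensorProduct in
theorem one_tmul_mem_nzd (k D E : Type u) [Field k] [CommRing D] [CommRing E] [IsDomain E]
    [Algebra k D] [Algebra k E] (e : E) (he : e ≠ 0) :
    ((1 : D) ⊗ₜ[k] e) ∈ nonZeroDivisors (D ⊗[k] E) := by
  have h := tmul_one_mem_nzd k E D e he
  rw [mem_nonZeroDivisors_iff_right] at h ⊢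
  intro t ht
  have h2 : (Algebra.TensorProduct.comm k D E t) * (e ⊗ₜ[k] (1 : D)) = 0 := by
    rw [← Algebra.TensorProduct.comm_tmul k (1 : D) e, ← map_mul, ht, map_zero]
  have h3 := h _ h2
  exact (Algebra.TensorProduct.comm k D E).injective (by rw [h3, map_zero])

theorem height_add_dim_quot_le {R : Type*} [CommRing R] (p : Ideal R) [hp : p.IsPrime] :
    ((p.height : ℕ∞) : WithBot ℕ∞) + ringKrullDim (R ⧸ p) ≤ ringKrullDim R := by
  have h1 : ringKrullDim (R ⧸ p) =
      ((Order.coheight (⟨p, hp⟩ : PrimeSpectrum R) : ℕ∞) : WithBot ℕ∞) := by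
    rw [ringKrullDim_quotient, Order.coheight_eq_krullDim_Ici]
    congr 1
  rw [h1, (⟨p, hp⟩ : PrimeSpectrum R).height_eq_orderHeight]
  haveI : Nonempty (PrimeSpectrum R) := ⟨⟨p, hp⟩⟩
  rw [ringKrullDim, Order.krullDim_eq_iSup_height_add_coheight_of_nonempty]
  have := le_iSup (fun a : PrimeSpectrum R => Order.height a + Order.coheight a) ⟨p, hp⟩
  exact_mod_cast this

theorem dim_le_of_minimal_finset (k R : Type u) [Field k] [CommRing R] [Algebra k R]
    [Algebra.FiniteType k R] (s : Finset R) (p q : Ideal R) [p.IsPrime]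
    (hq : q ∈ (p ⊔ Ideal.span (s : Set R)).minimalPrimes) :
    ringKrullDim (R ⧸ p) ≤ ringKrullDim (R ⧸ q) + (s.card : WithBot ℕ∞) := by
  have hrange : Set.range (fun i : Fin s.card => ((s.equivFin.symm i : s) : R)) = (s : Set R) := by
    ext a
    constructor
    · rintro ⟨i, rfl⟩
      exact (s.equivFin.symm i).2
    · intro ha
      exact ⟨s.equivFin ⟨a, ha⟩, by simp⟩
  rw [← hrange] at hq
  exact Groth.Agent.S10823.dim_le_of_minimal k R s.card _ p q hq

open TensorProduct in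
theorem adt (k : Type u) [Field k] (N : ℕ) (p q Q : Ideal (MvPolynomial (Fin N) k))
    [hp : p.IsPrime] [hq : q.IsPrime] (hQ : Q ∈ (p ⊔ q).minimalPrimes) :
    ringKrullDim (MvPolynomial (Fin N) k ⧸ p) + ringKrullDim (MvPolynomial (Fin N) k ⧸ q) ≤
      ringKrullDim (MvPolynomial (Fin N) k ⧸ Q) + (N : WithBot ℕ∞) := by
  classical
  haveI hQp : Q.IsPrime := hQ.1.1
  let e := MvPolynomial.tensorEquivSum k (Fin N) (Fin N) k
  haveI hdom : IsDomain (MvPolynomial (Fin N) k ⊗[k] MvPolynomial (Fin N) k) :=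
    e.toRingEquiv.toMulEquiv.isDomain _
  haveI hft : Algebra.FiniteType k (MvPolynomial (Fin N) k ⊗[k] MvPolynomial (Fin N) k) :=
    Algebra.FiniteType.equiv inferInstance e.symm
  have hdimB : ringKrullDim (MvPolynomial (Fin N) k ⊗[k] MvPolynomial (Fin N) k) =
      ((N + N : ℕ) : WithBot ℕ∞) := by
    rw [ringKrullDim_eq_of_ringEquiv e.toRingEquiv, MvPolynomial.ringKrullDim_of_isNoetherianRing,
      ringKrullDim_eq_zero_of_field, zero_add]
    simp [Nat.card_eq_fintype_card]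
  have hdimA : ringKrullDim (MvPolynomial (Fin N) k) = (N : WithBot ℕ∞) := by
    rw [MvPolynomial.ringKrullDim_of_isNoetherianRing, ringKrullDim_eq_zero_of_field, zero_add]
    simp
  let incl : MvPolynomial (Fin N) k →ₐ[k] MvPolynomial (Fin N) k ⊗[k] MvPolynomial (Fin N) k :=
    Algebra.TensorProduct.includeLeft
  let incr : MvPolynomial (Fin N) k →ₐ[k] MvPolynomial (Fin N) k ⊗[k] MvPolynomial (Fin N) k :=
    Algebra.TensorProduct.includeRight
  let mul : MvPolynomial (Fin N) k ⊗[k] MvPolynomial (Fin N) k →ₐ[k] MvPolynomial (Fin N) k :=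
    Algebra.TensorProduct.lmul' k
  have hmul_incl : ∀ a, mul (incl a) = a := fun a => by simp [mul, incl]
  have hmul_incr : ∀ a, mul (incr a) = a := fun a => by simp [mul, incr]
  let π : MvPolynomial (Fin N) k ⊗[k] MvPolynomial (Fin N) k →ₐ[k]
      (MvPolynomial (Fin N) k ⧸ p) ⊗[k] (MvPolynomial (Fin N) k ⧸ q) :=
    Algebra.TensorProduct.map (Ideal.Quotient.mkₐ k p) (Ideal.Quotient.mkₐ k q)
  have hπsurj : Function.Surjective π :=
    Algebra.TensorProduct.map_surjective _ _ (Ideal.Quotient.mkₐ_surjective k p)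
      (Ideal.Quotient.mkₐ_surjective k q)
  have hkerπ : RingHom.ker π = p.map incl ⊔ q.map incr := by
    have := Algebra.TensorProduct.map_ker (Ideal.Quotient.mkₐ k p) (Ideal.Quotient.mkₐ k q)
      (Ideal.Quotient.mkₐ_surjective k p) (Ideal.Quotient.mkₐ_surjective k q)
    have hk : ∀ I : Ideal (MvPolynomial (Fin N) k), RingHom.ker (Ideal.Quotient.mkₐ k I) = I := by
      intro I
      ext a
      rw [RingHom.mem_ker]
      exact Ideal.Quotient.eq_zero_iff_mem
    rw [hk p, hk q] at this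
    exact this
  have hπincl : ∀ a, π (incl a) =
      (Ideal.Quotient.mk p a) ⊗ₜ[k] (1 : MvPolynomial (Fin N) k ⧸ q) := fun a => by
    simp [π, incl]
  have hπincr : ∀ a, π (incr a) =
      (1 : MvPolynomial (Fin N) k ⧸ p) ⊗ₜ[k] (Ideal.Quotient.mk q a) := fun a => by
    simp [π, incr]
  clear_value π
  have hπsurj' : Function.Surjective π.toRingHom := fun t => hπsurj t
  have hkerπ' : RingHom.ker π.toRingHom = p.map incl ⊔ q.map incr := by
    rw [← hkerπ]; rfl
  -- the prime Q₀ over Q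
  have hQ₀prime : (Ideal.comap mul Q).IsPrime := Ideal.comap_isPrime mul Q
  have hJQ₀ : p.map incl ⊔ q.map incr ≤ Ideal.comap mul Q := by
    refine sup_le (Ideal.map_le_iff_le_comap.mpr ?_) (Ideal.map_le_iff_le_comap.mpr ?_)
    · intro a ha
      show mul (incl a) ∈ Q
      rw [hmul_incl]
      exact hQ.1.2 (le_sup_left (a := p) ha)
    · intro a ha
      show mul (incr a) ∈ Q
      rw [hmul_incr]
      exact hQ.1.2 (le_sup_right (a := p) ha)
  obtain ⟨P₀, hP₀, hP₀Q₀⟩ := Ideal.exists_minimalPrimes_le hJQ₀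
  haveI hP₀p : P₀.IsPrime := hP₀.1.1
  have hpP₀ : p.map incl ≤ P₀ := le_sup_left.trans hP₀.1.2
  have hqP₀ : q.map incr ≤ P₀ := le_sup_right.trans hP₀.1.2
  -- P₀ comes from a minimal prime of the tensor product of the quotients
  obtain ⟨P'', hP'', hP₀eq⟩ : ∃ P'' ∈ minimalPrimes
      ((MvPolynomial (Fin N) k ⧸ p) ⊗[k] (MvPolynomial (Fin N) k ⧸ q)),
      P₀ = Ideal.comap π.toRingHom P'' := by
    have h1 := @Ideal.comap_minimalPrimes_eq_of_surjective
      (MvPolynomial (Fin N) k ⊗[k] MvPolynomial (Fin N) k)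
      ((MvPolynomial (Fin N) k ⧸ p) ⊗[k] (MvPolynomial (Fin N) k ⧸ q)) _ _
      π.toRingHom hπsurj' ⊥
    have h2 : Ideal.comap π.toRingHom ⊥ =
        p.map incl ⊔ q.map incr := by
      rw [← hkerπ']; rfl
    rw [h2] at h1
    rw [h1] at hP₀
    obtain ⟨P'', hP'', rfl⟩ := hP₀
    exact ⟨P'', hP'', rfl⟩
  have hdisj := Ideal.disjoint_nonZeroDivisors_of_mem_minimalPrimes hP''
  have hc1 : P₀.comap incl = p := by
    apply le_antisymm
    · intro a ha
      by_contra hap
      have h1 : (Ideal.Quotient.mk p a) ≠ 0 := by rwa [Ne, Ideal.Quotient.eq_zero_iff_mem]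
      have h2 := tmul_one_mem_nzd k (MvPolynomial (Fin N) k ⧸ p) (MvPolynomial (Fin N) k ⧸ q) _ h1
      have h3 := hπincl a
      have h4 : π (incl a) ∈ P'' := by
        have : incl a ∈ P₀ := ha
        rw [hP₀eq] at this
        exact this
      rw [h3] at h4
      exact Set.disjoint_left.mp hdisj h4 h2
    · exact Ideal.le_comap_of_map_le hpP₀
  have hc2 : P₀.comap incr = q := by
    apply le_antisymm
    · intro a ha
      by_contra haq
      have h1 : (Ideal.Quotient.mk q a) ≠ 0 := by rwa [Ne, Ideal.Quotient.eq_zero_iff_mem]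
      have h2 := one_tmul_mem_nzd k (MvPolynomial (Fin N) k ⧸ p) (MvPolynomial (Fin N) k ⧸ q) _ h1
      have h3 := hπincr a
      have h4 : π (incr a) ∈ P'' := by
        have : incr a ∈ P₀ := ha
        rw [hP₀eq] at this
        exact this
      rw [h3] at h4
      exact Set.disjoint_left.mp hdisj h4 h2
    · exact Ideal.le_comap_of_map_le hqP₀
  -- Claim 2: P₀ is minimal over few equations
  obtain ⟨s₁, hs₁, hs₁c⟩ := Ideal.exists_finset_card_eq_height_of_isNoetherianRing p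
  obtain ⟨s₂, hs₂, hs₂c⟩ := Ideal.exists_finset_card_eq_height_of_isNoetherianRing q
  have htmin : P₀ ∈ ((⊥ : Ideal (MvPolynomial (Fin N) k ⊗[k] MvPolynomial (Fin N) k)) ⊔
      Ideal.span ((s₁.image incl ∪ s₂.image incr : Finset _) : Set _)).minimalPrimes := by
    rw [bot_sup_eq]
    have hsub1 : ∀ a ∈ s₁, incl a ∈ Ideal.span ((s₁.image incl ∪ s₂.image incr : Finset _) :
        Set (MvPolynomial (Fin N) k ⊗[k] MvPolynomial (Fin N) k)) := by
      intro a ha
      apply Ideal.subset_span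
      rw [Finset.mem_coe, Finset.mem_union]
      exact Or.inl (Finset.mem_image_of_mem _ ha)
    have hsub2 : ∀ a ∈ s₂, incr a ∈ Ideal.span ((s₁.image incl ∪ s₂.image incr : Finset _) :
        Set (MvPolynomial (Fin N) k ⊗[k] MvPolynomial (Fin N) k)) := by
      intro a ha
      apply Ideal.subset_span
      rw [Finset.mem_coe, Finset.mem_union]
      exact Or.inr (Finset.mem_image_of_mem _ ha)
    refine ⟨⟨hP₀p, ?_⟩, ?_⟩
    · rw [Ideal.span_le]
      intro z hz
      rw [Finset.mem_coe, Finset.mem_union, Finset.mem_image, Finset.mem_image] at hz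
      rcases hz with ⟨a, ha, rfl⟩ | ⟨a, ha, rfl⟩
      · exact hpP₀ (Ideal.mem_map_of_mem _ (hs₁.1.2 (Ideal.subset_span ha)))
      · exact hqP₀ (Ideal.mem_map_of_mem _ (hs₂.1.2 (Ideal.subset_span ha)))
    · rintro P₁ ⟨hP₁p, hP₁⟩ hP₁P₀
      apply hP₀.2 ⟨hP₁p, ?_⟩ hP₁P₀
      have h1 : p ≤ P₁.comap incl := by
        apply hs₁.2 ⟨Ideal.comap_isPrime incl P₁, ?_⟩
        · rw [← hc1]; exact Ideal.comap_mono hP₁P₀
        · rw [Ideal.span_le]
          intro a ha
          exact hP₁ (hsub1 a ha)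
      have h2 : q ≤ P₁.comap incr := by
        apply hs₂.2 ⟨Ideal.comap_isPrime incr P₁, ?_⟩
        · rw [← hc2]; exact Ideal.comap_mono hP₁P₀
        · rw [Ideal.span_le]
          intro a ha
          exact hP₁ (hsub2 a ha)
      exact sup_le (Ideal.map_le_iff_le_comap.mpr h1) (Ideal.map_le_iff_le_comap.mpr h2)
  have hd1 := dim_le_of_minimal_finset k (MvPolynomial (Fin N) k ⊗[k] MvPolynomial (Fin N) k)
    (s₁.image incl ∪ s₂.image incr) ⊥ P₀ htmin
  rw [ringKrullDim_eq_of_ringEquiv (RingEquiv.quotientBot _), hdimB] at hd1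
  have hcard : (s₁.image incl ∪ s₂.image incr).card ≤ s₁.card + s₂.card :=
    (Finset.card_union_le _ _).trans (add_le_add Finset.card_image_le Finset.card_image_le)
  -- Claim 4
  have hh1 := height_add_dim_quot_le p
  have hh2 := height_add_dim_quot_le q
  rw [hdimA, ← hs₁c] at hh1
  rw [hdimA, ← hs₂c] at hh2
  -- Claim 5: the diagonal
  have htmul : ∀ a b : MvPolynomial (Fin N) k, a ⊗ₜ[k] b = incl a * incr b := by
    intro a b
    simp [incl, incr]
  have hδQ₀ : ∀ i : Fin N, incl (MvPolynomial.X i) - incr (MvPolynomial.X i) ∈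
      Ideal.comap mul Q := by
    intro i
    show mul (incl (MvPolynomial.X i) - incr (MvPolynomial.X i)) ∈ Q
    rw [map_sub, hmul_incl, hmul_incr, sub_self]
    exact Q.zero_mem
  have hdiff : ∀ (Q₁ : Ideal (MvPolynomial (Fin N) k ⊗[k] MvPolynomial (Fin N) k)),
      Ideal.span (Set.range (fun i : Fin N => incl (MvPolynomial.X i) -
        incr (MvPolynomial.X i))) ≤ Q₁ →
      ∀ a : MvPolynomial (Fin N) k, incl a - incr a ∈ Q₁ := by
    intro Q₁ hQ₁ a
    induction a using MvPolynomial.induction_on with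
    | C c =>
      have : incl (MvPolynomial.C c) - incr (MvPolynomial.C c) = 0 := by
        rw [← MvPolynomial.algebraMap_eq, AlgHom.commutes, AlgHom.commutes, sub_self]
      rw [this]; exact Q₁.zero_mem
    | add a b ha hb =>
      have : incl (a + b) - incr (a + b) = (incl a - incr a) + (incl b - incr b) := by
        rw [map_add, map_add]; ring
      rw [this]; exact Q₁.add_mem ha hb
    | mul_X a i ha =>
      have : incl (a * MvPolynomial.X i) - incr (a * MvPolynomial.X i) =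
          incl a * (incl (MvPolynomial.X i) - incr (MvPolynomial.X i)) +
            (incl a - incr a) * incr (MvPolynomial.X i) := by
        rw [map_mul, map_mul]; ring
      rw [this]
      exact Q₁.add_mem (Q₁.mul_mem_left _ (hQ₁ (Ideal.subset_span ⟨i, rfl⟩)))
        (Q₁.mul_mem_right _ ha)
  have hzdiff : ∀ (Q₁ : Ideal (MvPolynomial (Fin N) k ⊗[k] MvPolynomial (Fin N) k)),
      Ideal.span (Set.range (fun i : Fin N => incl (MvPolynomial.X i) -
        incr (MvPolynomial.X i))) ≤ Q₁ →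
      ∀ z : MvPolynomial (Fin N) k ⊗[k] MvPolynomial (Fin N) k, z - incl (mul z) ∈ Q₁ := by
    intro Q₁ hQ₁ z
    induction z using TensorProduct.induction_on with
    | zero => rw [map_zero, map_zero, sub_self]; exact Q₁.zero_mem
    | tmul a b =>
      have : a ⊗ₜ[k] b - incl (mul (a ⊗ₜ[k] b)) = - (incl a * (incl b - incr b)) := by
        rw [htmul a b, map_mul, hmul_incl, hmul_incr, map_mul]; ring
      rw [this]
      exact Q₁.neg_mem (Q₁.mul_mem_left _ (hdiff Q₁ hQ₁ b))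
    | add x y hx hy =>
      have : (x + y) - incl (mul (x + y)) = (x - incl (mul x)) + (y - incl (mul y)) := by
        rw [map_add, map_add]; ring
      rw [this]; exact Q₁.add_mem hx hy
  have hQ₀min : Ideal.comap mul Q ∈ (P₀ ⊔ Ideal.span (Set.range (fun i : Fin N =>
      incl (MvPolynomial.X i) - incr (MvPolynomial.X i)))).minimalPrimes := by
    refine ⟨⟨hQ₀prime, sup_le hP₀Q₀ (Ideal.span_le.mpr ?_)⟩, ?_⟩
    · rintro _ ⟨i, rfl⟩
      exact hδQ₀ i
    · rintro Q₁ ⟨hQ₁p, hQ₁⟩ hQ₁Q₀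
      have hP₀Q₁ : P₀ ≤ Q₁ := le_sup_left.trans hQ₁
      have hδQ₁ := le_sup_right.trans hQ₁
      have h1 : p ⊔ q ≤ Q₁.comap incl := by
        refine sup_le ?_ ?_
        · intro a ha
          exact hP₀Q₁ (hpP₀ (Ideal.mem_map_of_mem incl ha))
        · intro b hb
          have h2 : incr b ∈ Q₁ := hP₀Q₁ (hqP₀ (Ideal.mem_map_of_mem incr hb))
          have h3 := hdiff Q₁ hδQ₁ b
          show incl b ∈ Q₁
          have : incl b = (incl b - incr b) + incr b := by ring
          rw [this]; exact Q₁.add_mem h3 h2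
      have h2 : Q₁.comap incl ≤ Q := by
        intro a ha
        have h3 : mul (incl a) ∈ Q := hQ₁Q₀ ha
        rwa [hmul_incl] at h3
      have h3 : Q ≤ Q₁.comap incl := hQ.2 ⟨Ideal.comap_isPrime incl Q₁, h1⟩ h2
      intro z hz
      have h4 : incl (mul z) ∈ Q₁ := h3 hz
      have h5 := hzdiff Q₁ hδQ₁ z
      have : z = (z - incl (mul z)) + incl (mul z) := by ring
      rw [this]; exact Q₁.add_mem h5 h4
  have hd2 := Groth.Agent.S10823.dim_le_of_minimal k
    (MvPolynomial (Fin N) k ⊗[k] MvPolynomial (Fin N) k) N _ P₀ (Ideal.comap mul Q) hQ₀min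
  have hdimQ₀ : ringKrullDim ((MvPolynomial (Fin N) k ⊗[k] MvPolynomial (Fin N) k) ⧸
      Ideal.comap mul Q) = ringKrullDim (MvPolynomial (Fin N) k ⧸ Q) := by
    have hg : Function.Surjective ((Ideal.Quotient.mk Q).comp mul.toRingHom) := by
      intro y
      obtain ⟨a, rfl⟩ := Ideal.Quotient.mk_surjective y
      exact ⟨incl a, by rw [RingHom.comp_apply]; congr 1; exact hmul_incl a⟩
    have hker : RingHom.ker ((Ideal.Quotient.mk Q).comp mul.toRingHom) = Ideal.comap mul Q := by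
      ext z
      rw [RingHom.mem_ker, RingHom.comp_apply, Ideal.Quotient.eq_zero_iff_mem]
      rfl
    rw [← hker]
    exact ringKrullDim_eq_of_ringEquiv (RingHom.quotientKerEquivOfSurjective hg)
  rw [hdimQ₀] at hd2
  -- arithmetic
  obtain ⟨a', ha', -⟩ := Groth.Agent.Helper7.GlobCI.dim_eq_trdeg k (MvPolynomial (Fin N) k ⧸ p)
  obtain ⟨b', hb', -⟩ := Groth.Agent.Helper7.GlobCI.dim_eq_trdeg k (MvPolynomial (Fin N) k ⧸ q)
  obtain ⟨c', hc', -⟩ := Groth.Agent.Helper7.GlobCI.dim_eq_trdeg k (MvPolynomial (Fin N) k ⧸ Q)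
  obtain ⟨g', hg', -⟩ := Groth.Agent.Helper7.GlobCI.dim_eq_trdeg k
    ((MvPolynomial (Fin N) k ⊗[k] MvPolynomial (Fin N) k) ⧸ P₀)
  rw [ha'] at hh1 ⊢
  rw [hb'] at hh2 ⊢
  rw [hc'] at hd2 ⊢
  rw [hg'] at hd1 hd2
  have e1 : s₁.card + a' ≤ N := by exact_mod_cast hh1
  have e2 : s₂.card + b' ≤ N := by exact_mod_cast hh2
  have e3 : N + N ≤ g' + (s₁.image incl ∪ s₂.image incr).card := by exact_mod_cast hd1
  have e4 : g' ≤ c' + N := by exact_mod_cast hd2
  have e5 : a' + b' ≤ c' + N := by omega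
  exact_mod_cast e5

open Topology in
theorem exists_point_coheight_ge {A σ : Type u} [CommRing A] [SetLike σ A] [AddSubgroupClass σ A]
    (𝒜 : ℕ → σ) [GradedRing 𝒜] (X : Set (ProjectiveSpectrum 𝒜)) (hX : IsClosed X) (r : ℕ)
    (hr : (r : WithBot ℕ∞) ≤ topologicalKrullDim ↥X) :
    ∃ x ∈ X, (r : ℕ∞) ≤ Order.coheight x := by
  haveI := Groth.Agent.S10840.quasiSober_PS 𝒜
  haveI := Groth.Agent.S10840.t0_PS 𝒜
  haveI : QuasiSober ↥X := hX.isClosedEmbedding_subtypeVal.quasiSober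
  rw [Groth.Agent.S10840.topDim_eq] at hr
  obtain ⟨l, hl⟩ := (@Order.le_krullDim_iff _ (specializationPreorder ↥X) r).mp hr
  have hf : @StrictMono _ _ (specializationPreorder ↥X) _
      (fun a : ↥X => (OrderDual.toDual a.1 : (ProjectiveSpectrum 𝒜)ᵒᵈ)) := by
    intro a b hab
    have h1 : b ⤳ a := hab.1
    have h2 : ¬ a ⤳ b := hab.2
    rw [subtype_specializes_iff, specializes_iff_mem_closure,
      ← ProjectiveSpectrum.le_iff_mem_closure] at h1 h2
    exact OrderDual.toDual_lt_toDual.mpr (lt_of_le_not_ge h1 h2)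
  refine ⟨(@RelSeries.last _ _ l).1, (@RelSeries.last _ _ l).2, ?_⟩
  have h3 := Order.length_le_height_last
    (p := @LTSeries.map _ _ (specializationPreorder ↥X) _ l _ hf)
  have h5 : RelSeries.last (@LTSeries.map _ _ (specializationPreorder ↥X) _ l _ hf) =
      OrderDual.toDual (@RelSeries.last _ _ l).1 := rfl
  rw [h5, Order.height_toDual] at h3
  rw [← hl]
  exact h3

open Topology in
theorem projDimThm (k : Type u) [Field k] (n r s : ℕ)
    (X Y : Set (ProjectiveSpectrum (CohB1.polyGrading n k))) (hX : IsClosed X) (hY : IsClosed Y)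
    (hXr : (r : WithBot ℕ∞) ≤ topologicalKrullDim ↥X)
    (hYs : (s : WithBot ℕ∞) ≤ topologicalKrullDim ↥Y) (hrs : n ≤ r + s) :
    (X ∩ Y).Nonempty ∧
      ((r + s : ℕ) : WithBot ℕ∞) ≤ topologicalKrullDim ↥(X ∩ Y) + (n : WithBot ℕ∞) := by
  classical
  obtain ⟨x, hxX, hx⟩ := exists_point_coheight_ge (CohB1.polyGrading n k) X hX r hXr
  obtain ⟨y, hyY, hy⟩ := exists_point_coheight_ge (CohB1.polyGrading n k) Y hY s hYs
  have hmax := Groth.Agent.S19926.irrelevant_isMaximal k n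
  have hirr : (HomogeneousIdeal.irrelevant (CohB1.polyGrading n k)).toIdeal.IsPrime :=
    hmax.isPrime
  have hle : ∀ y : ProjectiveSpectrum (CohB1.polyGrading n k),
      y.asHomogeneousIdeal.toIdeal ≤
        (HomogeneousIdeal.irrelevant (CohB1.polyGrading n k)).toIdeal := fun y =>
    Groth.Agent.S10820.le_irrelevant k n _ y.asHomogeneousIdeal.isHomogeneous y.isPrime.ne_top
  have hJm : x.asHomogeneousIdeal.toIdeal ⊔ y.asHomogeneousIdeal.toIdeal ≤
      (HomogeneousIdeal.irrelevant (CohB1.polyGrading n k)).toIdeal := sup_le (hle x) (hle y)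
  obtain ⟨Q, hQ, hQm⟩ := Ideal.exists_minimalPrimes_le hJm
  have hQhom := Groth.Agent.S10820.isHomogeneous_of_minimal (CohB1.polyGrading n k) _
    (x.asHomogeneousIdeal.isHomogeneous.sup y.asHomogeneousIdeal.isHomogeneous) Q hQ
  haveI := x.isPrime
  haveI := y.isPrime
  have hadt := adt k (n + 1) x.asHomogeneousIdeal.toIdeal y.asHomogeneousIdeal.toIdeal Q hQ
  rw [Groth.Agent.S19926.coneDim k n x, Groth.Agent.S19926.coneDim k n y] at hadt
  have hQrel : ¬ (HomogeneousIdeal.irrelevant (CohB1.polyGrading n k)).toIdeal ≤ Q := by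
    intro hmQ
    have hqeq : Q = (HomogeneousIdeal.irrelevant (CohB1.polyGrading n k)).toIdeal :=
      le_antisymm hQm hmQ
    have h0 : ringKrullDim (MvPolynomial (Fin (n+1)) k ⧸ Q) = 0 := by
      haveI : Q.IsMaximal := hqeq ▸ hmax
      letI := Ideal.Quotient.field Q
      exact ringKrullDim_eq_zero_of_field _
    rw [h0, zero_add] at hadt
    have h1 : (Order.coheight x + 1) + (Order.coheight y + 1) ≤ ((n + 1 : ℕ) : ℕ∞) := by
      exact_mod_cast hadt
    have h2 : ((r + 1 + (s + 1) : ℕ) : ℕ∞) ≤ ((n + 1 : ℕ) : ℕ∞) := by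
      refine le_trans ?_ h1
      push_cast
      exact add_le_add (add_le_add hx le_rfl) (add_le_add hy le_rfl)
    have h3 : r + 1 + (s + 1) ≤ n + 1 := by exact_mod_cast h2
    omega
  have hcz := Groth.Agent.S19926.coneDim k n ⟨⟨Q, hQhom⟩, hQ.1.1, hQrel⟩
  have hcz' : ringKrullDim (MvPolynomial (Fin (n+1)) k ⧸ Q) =
      ((Order.coheight (⟨⟨Q, hQhom⟩, hQ.1.1, hQrel⟩ :
        ProjectiveSpectrum (CohB1.polyGrading n k)) : ℕ∞) : WithBot ℕ∞) + 1 := hcz
  rw [hcz'] at hadt
  have hxz : x ≤ (⟨⟨Q, hQhom⟩, hQ.1.1, hQrel⟩ : ProjectiveSpectrum (CohB1.polyGrading n k)) :=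
    show x.asHomogeneousIdeal.toIdeal ≤ Q from le_sup_left.trans hQ.1.2
  have hyz : y ≤ (⟨⟨Q, hQhom⟩, hQ.1.1, hQrel⟩ : ProjectiveSpectrum (CohB1.polyGrading n k)) :=
    show y.asHomogeneousIdeal.toIdeal ≤ Q from le_sup_right.trans hQ.1.2
  have hup : ∀ (W : Set (ProjectiveSpectrum (CohB1.polyGrading n k))), IsClosed W →
      ∀ a ∈ W, Set.Ici a ⊆ W := by
    intro W hW a ha w hw
    have h1 : w ∈ closure {a} :=
      (ProjectiveSpectrum.le_iff_mem_closure (CohB1.polyGrading n k) a w).mp hw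
    exact (hW.closure_subset_iff.mpr (Set.singleton_subset_iff.mpr ha)) h1
  have hzX := hup X hX x hxX hxz
  have hzY := hup Y hY y hyY hyz
  refine ⟨⟨_, hzX, hzY⟩, ?_⟩
  have hsub : Set.Ici (⟨⟨Q, hQhom⟩, hQ.1.1, hQrel⟩ :
      ProjectiveSpectrum (CohB1.polyGrading n k)) ⊆ X ∩ Y :=
    hup (X ∩ Y) (hX.inter hY) _ ⟨hzX, hzY⟩
  have h6 : topologicalKrullDim ↥(Set.Ici (⟨⟨Q, hQhom⟩, hQ.1.1, hQrel⟩ :
      ProjectiveSpectrum (CohB1.polyGrading n k))) ≤ topologicalKrullDim ↥(X ∩ Y) :=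
    (Topology.IsEmbedding.inclusion hsub).isInducing.topologicalKrullDim_le
  rw [Groth.Agent.S19926.topDim_Ici] at h6
  have h4 : (Order.coheight x + 1) + (Order.coheight y + 1) ≤
      Order.coheight (⟨⟨Q, hQhom⟩, hQ.1.1, hQrel⟩ :
        ProjectiveSpectrum (CohB1.polyGrading n k)) + 1 + ((n + 1 : ℕ) : ℕ∞) := by
    exact_mod_cast hadt
  have h5 : Order.coheight x + Order.coheight y ≤
      Order.coheight (⟨⟨Q, hQhom⟩, hQ.1.1, hQrel⟩ :
        ProjectiveSpectrum (CohB1.polyGrading n k)) + (n : ℕ∞) := by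
    have e1 : (Order.coheight x + 1) + (Order.coheight y + 1) =
        (Order.coheight x + Order.coheight y) + 2 := by ring
    have e2 : Order.coheight (⟨⟨Q, hQhom⟩, hQ.1.1, hQrel⟩ :
        ProjectiveSpectrum (CohB1.polyGrading n k)) + 1 + ((n + 1 : ℕ) : ℕ∞) =
        (Order.coheight (⟨⟨Q, hQhom⟩, hQ.1.1, hQrel⟩ :
        ProjectiveSpectrum (CohB1.polyGrading n k)) + (n : ℕ∞)) + 2 := by
      push_cast; ring
    rw [e1, e2] at h4
    exact (ENat.add_le_add_iff_right (by norm_num)).mp h4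
  calc ((r + s : ℕ) : WithBot ℕ∞)
      ≤ ((Order.coheight x + Order.coheight y : ℕ∞) : WithBot ℕ∞) := by
        have : ((r + s : ℕ) : ℕ∞) ≤ Order.coheight x + Order.coheight y := by
          push_cast; exact add_le_add hx hy
        exact_mod_cast this
    _ ≤ ((Order.coheight (⟨⟨Q, hQhom⟩, hQ.1.1, hQrel⟩ :
        ProjectiveSpectrum (CohB1.polyGrading n k)) + (n : ℕ∞) : ℕ∞) : WithBot ℕ∞) := by
        exact_mod_cast h5
    _ = ((Order.coheight (⟨⟨Q, hQhom⟩, hQ.1.1, hQrel⟩ :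
        ProjectiveSpectrum (CohB1.polyGrading n k)) : ℕ∞) : WithBot ℕ∞) + (n : WithBot ℕ∞) := by
        push_cast; rfl
    _ ≤ topologicalKrullDim ↥(X ∩ Y) + (n : WithBot ℕ∞) := add_le_add_left h6 _

/-- Let k be a field, n ≥ 0 and X, Y ⊆ P^n_k nonempty closed subsets of dimensions r and s with r + s ≥
n. Then X ∩ Y is nonempty and dim(X ∩ Y) ≥ r + s − n. -/
theorem result (k : Type u) [Field k] (n r s : ℕ)
    (X Y : Set ↥(CohB1.ProjSpace n k)) (hX : IsClosed X) (hY : IsClosed Y)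
    (hXne : X.Nonempty) (hYne : Y.Nonempty)
    (hXr : topologicalKrullDim X = r) (hYs : topologicalKrullDim Y = s) (hrs : n ≤ r + s) :
    (X ∩ Y).Nonempty ∧ ((r + s : ℕ) : WithBot ℕ∞) ≤ topologicalKrullDim ↥(X ∩ Y) + (n : WithBot ℕ∞) := by
  exact projDimThm k n r s X Y hX hY hXr.ge hYs.ge hrs

end Groth.Agent.S7675
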