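import Groth.Statements.S2143
import Mathlib
import Groth.Agent.S7675
import Groth.Agent.S2680

set_option autoImplicit false
universe u
open CAlg

namespace Groth.Agent.S2143

open Topology in
theorem topDim_sub {S : Type u} [CommRing S] (U : Set (PrimeSpectrum S)) [QuasiSober ↥U] :
    topologicalKrullDim ↥U = Order.krullDim ↥U := by
  rw [Groth.Agent.S10840.topDim_eq, ← Order.krullDim_orderDual (α := ↥U)]
  let e₂ : @OrderIso ↥U (↥U)ᵒᵈ (specializationPreorder ↥U).toLE _ :=
    { toEquiv := OrderDual.toDual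
      map_rel_iff' := by
        intro a b
        show b ≤ a ↔ b ⤳ a
        rw [subtype_specializes_iff, ← PrimeSpectrum.le_iff_specializes]
        rfl }
  exact @Order.krullDim_eq_of_orderIso _ _ (specializationPreorder ↥U) _ e₂

theorem krullDim_open_le {S : Type u} [CommRing S] (U : Set (PrimeSpectrum S)) (N : ℕ∞)
    (h : ∀ P ∈ U, Order.height P ≤ N) : Order.krullDim ↥U ≤ (N : WithBot ℕ∞) := by
  rw [Order.krullDim]
  apply iSup_le
  intro l
  have h1 : (l.length : ℕ∞) ≤ Order.height (l.last.1) :=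
    Order.length_le_height_last (p := l.map Subtype.val (fun _ _ hab => hab))
  have h2 := h1.trans (h _ l.last.2)
  exact_mod_cast h2

theorem height_le_krullDim_open {S : Type u} [CommRing S] (U : Set (PrimeSpectrum S))
    (hU : IsOpen U) (P : PrimeSpectrum S) (hP : P ∈ U) :
    ((Order.height P : ℕ∞) : WithBot ℕ∞) ≤ Order.krullDim ↥U := by
  have hlow : ∀ Q : PrimeSpectrum S, Q ≤ P → Q ∈ U := by
    intro Q hQ
    exact ((PrimeSpectrum.le_iff_specializes Q P).mp hQ).mem_open hU hP
  have h1 : Order.height P ≤ Order.height (⟨P, hP⟩ : ↥U) := by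
    rw [Order.height_le_iff]
    intro p hp
    let p' : LTSeries ↥U :=
      { length := p.length
        toFun := fun i => ⟨p i, hlow _ ((p.monotone (Fin.le_last i)).trans hp)⟩
        step := fun i => p.step i }
    have : p'.last ≤ (⟨P, hP⟩ : ↥U) := hp
    exact Order.length_le_height this
  have h2 := Order.height_le_krullDim (⟨P, hP⟩ : ↥U)
  exact (by exact_mod_cast h1 : ((Order.height P : ℕ∞) : WithBot ℕ∞) ≤
    ((Order.height (⟨P, hP⟩ : ↥U) : ℕ∞) : WithBot ℕ∞)).trans h2

theorem height_quot_le {S : Type u} [CommRing S] (Q m : Ideal S) [Q.IsPrime] [hm : m.IsPrime]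
    (hQm : Q ≤ m) [hm' : (m.map (Ideal.Quotient.mk Q)).IsPrime] :
    (m.map (Ideal.Quotient.mk Q)).height ≤ m.height := by
  have hf : StrictMono (PrimeSpectrum.comap (Ideal.Quotient.mk Q)) := by
    have hmono : Monotone (PrimeSpectrum.comap (Ideal.Quotient.mk Q)) := by
      intro a b hab
      exact Ideal.comap_mono hab
    exact hmono.strictMono_of_injective
      (PrimeSpectrum.comap_injective_of_surjective _ Ideal.Quotient.mk_surjective)
  have h1 := Order.height_le_height_apply_of_strictMono _ hf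
    (⟨m.map (Ideal.Quotient.mk Q), hm'⟩ : PrimeSpectrum (S ⧸ Q))
  have h2 : PrimeSpectrum.comap (Ideal.Quotient.mk Q)
      (⟨m.map (Ideal.Quotient.mk Q), hm'⟩ : PrimeSpectrum (S ⧸ Q)) = ⟨m, hm⟩ := by
    apply PrimeSpectrum.ext
    show Ideal.comap (Ideal.Quotient.mk Q) (m.map (Ideal.Quotient.mk Q)) = m
    rw [Ideal.comap_map_of_surjective _ Ideal.Quotient.mk_surjective, ← RingHom.ker_eq_comap_bot,
      Ideal.mk_ker, sup_eq_left]
    exact hQm
  rw [h2] at h1
  rw [← PrimeSpectrum.height_eq_orderHeight, ← PrimeSpectrum.height_eq_orderHeight] at h1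
  exact h1

/-- (1) = (3): let `S` be of finite type over a field `k` and `𝔭` a prime of `S`. The local dimension of
`Spec S` at `𝔭` is the infimum of `dim S_𝔪` over the maximal ideals `𝔪 ⊇ 𝔭`. -/
theorem result {k S : Type u} [Field k] [CommRing S] [Algebra k S] [Algebra.FiniteType k S]
    (p : Ideal S) [p.IsPrime] :
    FlatMor.localDim (PrimeSpectrum S) ⟨p, inferInstance⟩ =
      ⨅ m : {m : Ideal S // m.IsMaximal ∧ p ≤ m}, ringKrullDim (Localization.AtPrime (hp := m.2.1.isPrime') m.1) := by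
  classical
  haveI : IsNoetherianRing S := Algebra.FiniteType.isNoetherianRing k S
  haveI : IsJacobsonRing S := isJacobsonRing_of_finiteType (A := k)
  have hqs : ∀ U : TopologicalSpace.Opens (PrimeSpectrum S),
      QuasiSober ↥(U : Set (PrimeSpectrum S)) :=
    fun U => U.isOpen.isOpenEmbedding_subtypeVal.quasiSober
  apply le_antisymm
  · apply le_iInf
    rintro ⟨m, hmmax, hpm⟩
    haveI hmprime : m.IsPrime := hmmax.isPrime
    have hfin : (minimalPrimes S).Finite := minimalPrimes.finite_of_isNoetherianRing S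
    have hFcl : IsClosed (⋃ Q ∈ {Q ∈ minimalPrimes S | ¬ Q ≤ m},
        PrimeSpectrum.zeroLocus (Q : Set S)) :=
      (hfin.subset (Set.sep_subset _ _)).isClosed_biUnion
        (fun Q _ => PrimeSpectrum.isClosed_zeroLocus _)
    have hxU : (⟨p, inferInstance⟩ : PrimeSpectrum S) ∈
        (⟨(⋃ Q ∈ {Q ∈ minimalPrimes S | ¬ Q ≤ m}, PrimeSpectrum.zeroLocus (Q : Set S))ᶜ,
          hFcl.isOpen_compl⟩ : TopologicalSpace.Opens (PrimeSpectrum S)) := by
      intro hx
      rw [Set.mem_iUnion₂] at hx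
      obtain ⟨Q, ⟨hQmin, hQm⟩, hxQ⟩ := hx
      exact hQm ((show Q ≤ p from hxQ).trans hpm)
    refine (iInf_le _ (⟨_, hxU⟩ : {U : TopologicalSpace.Opens (PrimeSpectrum S) //
      (⟨p, inferInstance⟩ : PrimeSpectrum S) ∈ U})).trans ?_
    show topologicalKrullDim ↥((⋃ Q ∈ {Q ∈ minimalPrimes S | ¬ Q ≤ m},
      PrimeSpectrum.zeroLocus (Q : Set S))ᶜ) ≤ _
    haveI : QuasiSober ↥((⋃ Q ∈ {Q ∈ minimalPrimes S | ¬ Q ≤ m},
        PrimeSpectrum.zeroLocus (Q : Set S))ᶜ) :=
      hFcl.isOpen_compl.isOpenEmbedding_subtypeVal.quasiSober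
    rw [topDim_sub, IsLocalization.AtPrime.ringKrullDim_eq_height m (Localization.AtPrime m)]
    apply krullDim_open_le
    intro P hP
    rw [Order.height_le_iff]
    intro q hq
    haveI := q.head.isPrime
    obtain ⟨Q, hQmin, hQle⟩ := Ideal.exists_minimalPrimes_le (bot_le : ⊥ ≤ q.head.asIdeal)
    have hmono : ∀ i, q.head ≤ q i := fun i => q.monotone (Fin.zero_le i)
    have hQP : Q ≤ P.asIdeal := hQle.trans ((hmono (Fin.last _)).trans hq)
    have hQm : Q ≤ m := by
      by_contra hnot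
      exact hP (Set.mem_biUnion (show Q ∈ {Q ∈ minimalPrimes S | ¬ Q ≤ m} from ⟨hQmin, hnot⟩) hQP)
    haveI hQprime : Q.IsPrime := hQmin.1.1
    have h1 : (q.length : WithBot ℕ∞) ≤ ringKrullDim (S ⧸ Q) := by
      rw [ringKrullDim_quotient]
      exact Order.LTSeries.length_le_krullDim
        ({ length := q.length
           toFun := fun i => ⟨q i, hQle.trans (hmono i)⟩
           step := fun i => q.step i } : LTSeries ↥(PrimeSpectrum.zeroLocus (Q : Set S)))
    haveI hm'max : (m.map (Ideal.Quotient.mk Q)).IsMaximal :=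
      Ideal.IsMaximal.map_of_surjective_of_ker_le Ideal.Quotient.mk_surjective
        (by rw [Ideal.mk_ker]; exact hQm)
    have h2 := Groth.Agent.S2680.height_eq_of_isMaximal k (S ⧸ Q) (m.map (Ideal.Quotient.mk Q))
    haveI := hm'max.isPrime
    have h3 := height_quot_le Q m hQm
    rw [← h2] at h1
    have h4 : (q.length : ℕ∞) ≤ (m.map (Ideal.Quotient.mk Q)).height := by exact_mod_cast h1
    exact h4.trans h3
  · apply le_iInf
    rintro ⟨U, hxU⟩
    have hZ : IsLocallyClosed ((U : Set (PrimeSpectrum S)) ∩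
        PrimeSpectrum.zeroLocus (p : Set S)) :=
      U.isOpen.isLocallyClosed.inter (PrimeSpectrum.isClosed_zeroLocus _).isLocallyClosed
    obtain ⟨M, ⟨hMU, hMp⟩, hMcl⟩ := nonempty_inter_closedPoints
      (⟨⟨p, inferInstance⟩, hxU, le_refl p⟩ : ((U : Set (PrimeSpectrum S)) ∩
        PrimeSpectrum.zeroLocus (p : Set S)).Nonempty) hZ
    have hMmax : M.asIdeal.IsMaximal := (PrimeSpectrum.isClosed_singleton_iff_isMaximal M).mp hMcl
    refine (iInf_le _ (⟨M.asIdeal, hMmax, hMp⟩ : {m : Ideal S // m.IsMaximal ∧ p ≤ m})).trans ?_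
    show ringKrullDim (Localization.AtPrime M.asIdeal) ≤ topologicalKrullDim ↥(U : Set (PrimeSpectrum S))
    haveI := hqs U
    rw [topDim_sub, IsLocalization.AtPrime.ringKrullDim_eq_height M.asIdeal
      (Localization.AtPrime M.asIdeal), PrimeSpectrum.height_eq_orderHeight]
    exact height_le_krullDim_open _ U.isOpen M hMU

end Groth.Agent.S2143
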