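import Groth.Statements.S1617
import Mathlib
import Groth.Agent.S2143

set_option autoImplicit false
universe u
open CategoryTheory CategoryTheory.Limits AlgebraicGeometry
open Variety

namespace Groth.Agent.S1617

theorem dim_subset_mono {X : Type*} [TopologicalSpace X] {s t : Set X} (h : s ⊆ t) :
    topologicalKrullDim ↥s ≤ topologicalKrullDim ↥t :=
  (Topology.IsEmbedding.inclusion h).isInducing.topologicalKrullDim_le

theorem localDim_openEmbedding {X Y : Type*} [TopologicalSpace X] [TopologicalSpace Y]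
    (j : Y → X) (hj : Topology.IsOpenEmbedding j) (y : Y) :
    FlatMor.localDim Y y = FlatMor.localDim X (j y) := by
  unfold FlatMor.localDim
  apply le_antisymm
  · apply le_iInf
    rintro ⟨U, hU⟩
    have hy : y ∈ (⟨j ⁻¹' (U : Set X), U.isOpen.preimage hj.continuous⟩ :
        TopologicalSpace.Opens Y) := hU
    refine (iInf_le _ (⟨_, hy⟩ : {W : TopologicalSpace.Opens Y // y ∈ W})).trans ?_
    show topologicalKrullDim ↥(j ⁻¹' (U : Set X)) ≤ topologicalKrullDim ↥(U : Set X)
    have e := hj.isEmbedding.homeomorphImage (j ⁻¹' (U : Set X))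
    rw [IsHomeomorph.topologicalKrullDim_eq _ e.isHomeomorph]
    exact dim_subset_mono (Set.image_preimage_subset j _)
  · apply le_iInf
    rintro ⟨W, hW⟩
    have hy : j y ∈ (⟨j '' (W : Set Y), hj.isOpenMap _ W.isOpen⟩ :
        TopologicalSpace.Opens X) := Set.mem_image_of_mem j hW
    refine (iInf_le _ (⟨_, hy⟩ : {U : TopologicalSpace.Opens X // j y ∈ U})).trans ?_
    show topologicalKrullDim ↥(j '' (W : Set Y)) ≤ topologicalKrullDim ↥(W : Set Y)
    have e := hj.isEmbedding.homeomorphImage (W : Set Y)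
    rw [IsHomeomorph.topologicalKrullDim_eq _ e.isHomeomorph]

theorem ft_of_affineOpen (k : Type u) [Field k] (X : Scheme.{u}) (f : X ⟶ Spec (CommRingCat.of k))
    [LocallyOfFiniteType f] (V : X.Opens) (hV : IsAffineOpen V) :
    ∃ φ : k →+* Γ(X, V), φ.FiniteType := by
  have h1 := HasRingHomProperty.appLE (P := @LocallyOfFiniteType) f inferInstance
    ⟨⊤, isAffineOpen_top _⟩ ⟨V, hV⟩ le_top
  refine ⟨(f.appLE ⊤ V le_top).hom.comp (Scheme.ΓSpecIso (CommRingCat.of k)).inv.hom, ?_⟩
  refine RingHom.FiniteType.comp h1 (RingHom.FiniteType.of_surjective _ ?_)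
  exact (ConcreteCategory.bijective_of_isIso (Scheme.ΓSpecIso (CommRingCat.of k)).inv).2

/-- Let X be locally of finite type over a field k and x a closed point. Then the local dimension of X
at x (infimum of the dimensions of open neighbourhoods) equals the Krull dimension of the local ring
at x. -/
theorem result (k : Type u) [Field k] (X : Scheme.{u}) [X.Over (Spec (CommRingCat.of k))] [LocallyOfFiniteType (X ↘ (Spec (CommRingCat.of k)))] (x : X) (hx : IsClosed ({x} : Set X)) :
    FlatMor.localDim X x = ringKrullDim (X.presheaf.stalk x) := by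
  obtain ⟨⟨V, hV⟩, hxV⟩ : ∃ V : X.affineOpens, x ∈ V.1 := by
    obtain ⟨_, ⟨V, hV : IsAffineOpen V, rfl⟩, hxV, -⟩ :=
      X.isBasis_affineOpens.exists_subset_of_mem_open (Set.mem_univ x) isOpen_univ
    exact ⟨⟨V, hV⟩, hxV⟩
  obtain ⟨φ, hφ⟩ := ft_of_affineOpen k X (X ↘ (Spec (CommRingCat.of k))) V hV
  letI : Algebra k Γ(X, V) := φ.toAlgebra
  haveI : Algebra.FiniteType k Γ(X, V) := hφ
  set y := hV.primeIdealOf ⟨x, hxV⟩ with hy
  have hjy : hV.fromSpec y = x := hV.fromSpec_primeIdealOf ⟨x, hxV⟩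
  haveI := hV.isOpenImmersion_fromSpec
  have hj : Topology.IsOpenEmbedding ⇑hV.fromSpec := hV.fromSpec.isOpenEmbedding
  have h1 := localDim_openEmbedding _ hj y
  rw [hjy] at h1
  rw [← h1]
  have hycl : IsClosed ({y} : Set (PrimeSpectrum Γ(X, V))) := by
    have : ({y} : Set (PrimeSpectrum Γ(X, V))) = ⇑hV.fromSpec ⁻¹' {x} := by
      ext z
      simp only [Set.mem_singleton_iff]
      constructor
      · rintro rfl
        exact hjy
      · intro hz
        exact hj.injective (hz.trans hjy.symm)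
    rw [this]
    exact hx.preimage hj.continuous
  have hymax : y.asIdeal.IsMaximal := (PrimeSpectrum.isClosed_singleton_iff_isMaximal y).mp hycl
  letI : Algebra Γ(X, V) (X.presheaf.stalk x) :=
    TopCat.Presheaf.algebra_section_stalk X.presheaf (⟨x, hxV⟩ : V)
  haveI : IsLocalization.AtPrime (X.presheaf.stalk x) y.asIdeal :=
    hV.isLocalization_stalk ⟨x, hxV⟩
  rw [IsLocalization.AtPrime.ringKrullDim_eq_height y.asIdeal (X.presheaf.stalk x)]
  have h2 := Groth.Agent.S2143.result (k := k) y.asIdeal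
  show FlatMor.localDim (PrimeSpectrum Γ(X, V)) y = _
  have h3 : (⟨y.asIdeal, inferInstance⟩ : PrimeSpectrum Γ(X, V)) = y := rfl
  rw [h3] at h2
  rw [h2]
  apply le_antisymm
  · refine (iInf_le _ (⟨y.asIdeal, hymax, le_refl _⟩ :
      {m : Ideal Γ(X, V) // m.IsMaximal ∧ y.asIdeal ≤ m})).trans ?_
    show ringKrullDim (Localization.AtPrime y.asIdeal) ≤ _
    rw [IsLocalization.AtPrime.ringKrullDim_eq_height y.asIdeal (Localization.AtPrime y.asIdeal)]
  · apply le_iInf
    rintro ⟨m, hmmax, hym⟩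
    have hmy : y.asIdeal = m := hymax.eq_of_le hmmax.ne_top hym
    subst hmy
    show _ ≤ ringKrullDim (Localization.AtPrime y.asIdeal)
    rw [IsLocalization.AtPrime.ringKrullDim_eq_height y.asIdeal (Localization.AtPrime y.asIdeal)]

end Groth.Agent.S1617
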