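import Groth.Statements.S2112
import Mathlib

set_option autoImplicit false
universe u
open CAlg

namespace Groth.Agent.S2112

open scoped TensorProduct

/-- nilradical is prime -/
def PN (A : Type u) [CommRing A] : Prop := (nilradical A).IsPrime

theorem hasUMP_iff_PN (A : Type u) [CommRing A] : CAlgX.HasUniqueMinimalPrime A ↔ PN A := by
  unfold CAlgX.HasUniqueMinimalPrime PN
  constructor
  · rintro ⟨p, hp, huniq⟩
    have h1 : minimalPrimes A = {p} := by
      ext q
      constructor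
      · intro hq; exact huniq q hq
      · rintro rfl; exact hp
    have h2 : nilradical A = p := by
      have := Ideal.sInf_minimalPrimes (I := (⊥ : Ideal A))
      rw [show (⊥ : Ideal A).minimalPrimes = minimalPrimes A from rfl, h1, sInf_singleton] at this
      rw [this]; rfl
    rw [h2]
    exact hp.1.1
  · intro hprime
    refine ⟨nilradical A, ?_, ?_⟩
    · refine ⟨⟨hprime, bot_le⟩, ?_⟩
      rintro q ⟨hq, -⟩ -
      exact nilradical_le_prime q
    · rintro q hq
      haveI := hq.1.1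
      exact le_antisymm (hq.2 ⟨hprime, bot_le⟩ (nilradical_le_prime q)) (nilradical_le_prime q) |>.symm ▸ rfl

theorem PN_iff (A : Type u) [CommRing A] : PN A ↔
    (¬ IsNilpotent (1 : A)) ∧ ∀ x y : A, IsNilpotent (x * y) → IsNilpotent x ∨ IsNilpotent y := by
  unfold PN
  rw [Ideal.isPrime_iff]
  simp only [mem_nilradical, ne_eq, Ideal.eq_top_iff_one]


theorem exists_algHom_ne_zero {k R₀ : Type u} [Field k] [IsAlgClosed k] [CommRing R₀] [Algebra k R₀]
    [Algebra.FiniteType k R₀] [IsDomain R₀] {c : R₀} (hc : c ≠ 0) :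
    ∃ χ : R₀ →ₐ[k] k, χ c ≠ 0 := by
  haveI : IsJacobsonRing R₀ := isJacobsonRing_of_finiteType (A := k) (B := R₀)
  have hjac : (⊥ : Ideal R₀).jacobson = ⊥ :=
    IsJacobsonRing.out inferInstance (Ideal.IsPrime.isRadical Ideal.isPrime_bot)
  have hc' : c ∉ (⊥ : Ideal R₀).jacobson := by
    rw [hjac, Ideal.mem_bot]; exact hc
  rw [Ideal.jacobson, Ideal.mem_sInf] at hc'
  push Not at hc'
  obtain ⟨m, ⟨-, hm⟩, hcm⟩ := hc'
  haveI := hm
  letI : Field (R₀ ⧸ m) := Ideal.Quotient.field m
  haveI : Algebra.FiniteType k (R₀ ⧸ m) :=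
    Algebra.FiniteType.of_surjective (Ideal.Quotient.mkₐ k m) (Ideal.Quotient.mkₐ_surjective k m)
  haveI : Module.Finite k (R₀ ⧸ m) := finite_of_finite_type_of_isJacobsonRing k (R₀ ⧸ m)
  haveI : Algebra.IsIntegral k (R₀ ⧸ m) := Algebra.IsIntegral.of_finite k (R₀ ⧸ m)
  have hbij : Function.Bijective (algebraMap k (R₀ ⧸ m)) :=
    IsAlgClosed.algebraMap_bijective_of_isIntegral
  let e : k ≃ₐ[k] (R₀ ⧸ m) := AlgEquiv.ofBijective (Algebra.ofId k (R₀ ⧸ m)) hbij
  refine ⟨(e.symm : (R₀ ⧸ m) →ₐ[k] k).comp (Ideal.Quotient.mkₐ k m), ?_⟩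
  intro h
  apply hcm
  rw [AlgHom.comp_apply] at h
  have h2 : (Ideal.Quotient.mkₐ k m) c = 0 := by
    have := congrArg e h
    simpa using this
  rwa [Ideal.Quotient.mkₐ_eq_mk, Ideal.Quotient.eq_zero_iff_mem] at h2


theorem map_eq_rTensor {k R₀ R S : Type u} [Field k] [CommRing R₀] [CommRing R] [CommRing S]
    [Algebra k R₀] [Algebra k R] [Algebra k S] (f : R₀ →ₐ[k] R) (z : R₀ ⊗[k] S) :
    Algebra.TensorProduct.map f (AlgHom.id k S) z = f.toLinearMap.rTensor S z := by
  induction z using TensorProduct.induction_on with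
  | zero => simp
  | tmul a s => simp
  | add x y hx hy => rw [map_add, map_add, hx, hy]

theorem noZeroDiv_tensor {k R S : Type u} [Field k] [IsAlgClosed k] [CommRing R] [CommRing S]
    [Algebra k R] [Algebra k S] [IsDomain R] [IsDomain S] (x y : R ⊗[k] S) (hxy : x * y = 0) :
    x = 0 ∨ y = 0 := by
  classical
  let b := Module.Basis.ofVectorSpace k S
  let E := TensorProduct.equivFinsuppOfBasisRight (M := R) b
  set fx := E x with hfx
  set fy := E y with hfy
  have hx : x = fx.sum fun i m ↦ m ⊗ₜ[k] b i := by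
    rw [← TensorProduct.equivFinsuppOfBasisRight_symm_apply, hfx, LinearEquiv.symm_apply_apply]
  have hy : y = fy.sum fun i m ↦ m ⊗ₜ[k] b i := by
    rw [← TensorProduct.equivFinsuppOfBasisRight_symm_apply, hfy, LinearEquiv.symm_apply_apply]
  -- the finitely generated subalgebra
  let T : Finset R := fx.support.image fx ∪ fy.support.image fy
  let R₀ : Subalgebra k R := Algebra.adjoin k (T : Set R)
  haveI : Algebra.FiniteType k R₀ :=
    (Subalgebra.fg_iff_finiteType R₀).mp (Subalgebra.fg_adjoin_finset T)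
  have hmemx : ∀ i, fx i ∈ R₀ := by
    intro i
    by_cases hi : i ∈ fx.support
    · apply Algebra.subset_adjoin
      simp only [T, Finset.coe_union, Finset.coe_image, Set.mem_union, Set.mem_image]
      exact Or.inl ⟨i, hi, rfl⟩
    · rw [Finsupp.notMem_support_iff.mp hi]; exact zero_mem _
  have hmemy : ∀ i, fy i ∈ R₀ := by
    intro i
    by_cases hi : i ∈ fy.support
    · apply Algebra.subset_adjoin
      simp only [T, Finset.coe_union, Finset.coe_image, Set.mem_union, Set.mem_image]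
      exact Or.inr ⟨i, hi, rfl⟩
    · rw [Finsupp.notMem_support_iff.mp hi]; exact zero_mem _
  let a : _ → R₀ := fun i => ⟨fx i, hmemx i⟩
  let a' : _ → R₀ := fun i => ⟨fy i, hmemy i⟩
  let x₀ : R₀ ⊗[k] S := ∑ i ∈ fx.support, a i ⊗ₜ[k] b i
  let y₀ : R₀ ⊗[k] S := ∑ i ∈ fy.support, a' i ⊗ₜ[k] b i
  let ι₀ := Algebra.TensorProduct.map R₀.val (AlgHom.id k S)
  have hιx : ι₀ x₀ = x := by
    rw [hx, Finsupp.sum]
    simp only [x₀, ι₀, map_sum, Algebra.TensorProduct.map_tmul, AlgHom.coe_id, id_eq]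
    rfl
  have hιy : ι₀ y₀ = y := by
    rw [hy, Finsupp.sum]
    simp only [y₀, ι₀, map_sum, Algebra.TensorProduct.map_tmul, AlgHom.coe_id, id_eq]
    rfl
  have hinj : Function.Injective ι₀ := by
    have h1 : Function.Injective (R₀.val.toLinearMap.rTensor S) :=
      Module.Flat.rTensor_preserves_injective_linearMap _ Subtype.val_injective
    intro z z' hz
    apply h1
    rw [← map_eq_rTensor, ← map_eq_rTensor]
    exact hz
  have h0 : x₀ * y₀ = 0 := by
    apply hinj
    rw [map_mul, hιx, hιy, hxy, map_zero]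
  -- the dichotomy at every `k`-point
  have hdich : ∀ χ : R₀ →ₐ[k] k, (∀ i ∈ fx.support, χ (a i) = 0) ∨ (∀ j ∈ fy.support, χ (a' j) = 0) := by
    intro χ
    let ψ : R₀ ⊗[k] S →ₐ[k] S :=
      Algebra.TensorProduct.productMap ((Algebra.ofId k S).comp χ) (AlgHom.id k S)
    have hψx : ψ x₀ = ∑ i ∈ fx.support, χ (a i) • b i := by
      simp only [x₀, ψ, map_sum, Algebra.TensorProduct.productMap_apply_tmul, AlgHom.comp_apply,
        AlgHom.coe_id, id_eq, Algebra.ofId_apply, ← Algebra.smul_def]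
    have hψy : ψ y₀ = ∑ i ∈ fy.support, χ (a' i) • b i := by
      simp only [y₀, ψ, map_sum, Algebra.TensorProduct.productMap_apply_tmul, AlgHom.comp_apply,
        AlgHom.coe_id, id_eq, Algebra.ofId_apply, ← Algebra.smul_def]
    have h1 : ψ x₀ * ψ y₀ = 0 := by rw [← map_mul, h0, map_zero]
    rcases mul_eq_zero.mp h1 with h | h
    · left
      rw [hψx] at h
      exact linearIndependent_iff'.mp b.linearIndependent _ _ h
    · right
      rw [hψy] at h
      exact linearIndependent_iff'.mp b.linearIndependent _ _ h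
  have hprod : ∀ i ∈ fx.support, ∀ j ∈ fy.support, a i * a' j = 0 := by
    intro i hi j hj
    by_contra hne
    obtain ⟨χ, hχ⟩ := exists_algHom_ne_zero (k := k) hne
    rw [map_mul] at hχ
    rcases hdich χ with h | h
    · exact hχ (by rw [h i hi, zero_mul])
    · exact hχ (by rw [h j hj, mul_zero])
  by_cases hx0 : fx = 0
  · left
    rw [hx, hx0, Finsupp.sum_zero_index]
  · right
    obtain ⟨i, hi⟩ := Finsupp.support_nonempty_iff.mpr hx0
    have hai : a i ≠ 0 := by
      intro h
      have := congrArg Subtype.val h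
      exact (Finsupp.mem_support_iff.mp hi) this
    have hfy0 : fy = 0 := by
      ext j
      by_contra hj
      have hj' : j ∈ fy.support := Finsupp.mem_support_iff.mpr hj
      have h1 := hprod i hi j hj'
      rcases mul_eq_zero.mp h1 with h | h
      · exact hai h
      · exact hj (congrArg Subtype.val h)
    rw [hy, hfy0, Finsupp.sum_zero_index]


theorem isDomain_tensor {k R S : Type u} [Field k] [IsAlgClosed k] [CommRing R] [CommRing S]
    [Algebra k R] [Algebra k S] [IsDomain R] [IsDomain S] : IsDomain (R ⊗[k] S) := by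
  haveI : Nontrivial (R ⊗[k] S) :=
    (Algebra.TensorProduct.includeLeft_injective (S := k) (R := k) (A := R) (B := S)
      (algebraMap k S).injective).nontrivial
  haveI : NoZeroDivisors (R ⊗[k] S) := ⟨fun {x y} h => noZeroDiv_tensor x y h⟩
  exact NoZeroDivisors.to_isDomain _

theorem PN_of_injective {A B : Type u} [CommRing A] [CommRing B] (f : A →+* B)
    (hf : Function.Injective f) (hB : PN B) : PN A := by
  rw [PN_iff] at hB ⊢
  have hnil : ∀ x : A, IsNilpotent (f x) → IsNilpotent x := by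
    rintro x ⟨n, hn⟩
    refine ⟨n, hf ?_⟩
    rw [map_pow, hn, map_zero]
  refine ⟨fun h => hB.1 (by simpa using h.map f), fun x y hxy => ?_⟩
  rcases hB.2 (f x) (f y) (by rw [← map_mul]; exact hxy.map f) with h | h
  · exact Or.inl (hnil x h)
  · exact Or.inr (hnil y h)

theorem PN_of_pow {A B : Type u} [CommRing A] [CommRing B] (f : A →+* B)
    (hf : Function.Injective f) (hpow : ∀ b : B, ∃ n > 0, b ^ n ∈ f.range) (hA : PN A) : PN B := by
  rw [PN_iff] at hA ⊢
  have hnil : ∀ x : A, IsNilpotent (f x) → IsNilpotent x := by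
    rintro x ⟨n, hn⟩
    refine ⟨n, hf ?_⟩
    rw [map_pow, hn, map_zero]
  refine ⟨fun h => hA.1 (hnil 1 (by simpa using h)), fun x y hxy => ?_⟩
  obtain ⟨n, hn, a, ha⟩ := hpow x
  obtain ⟨m, hm, b, hb⟩ := hpow y
  have h1 : IsNilpotent (f (a ^ m * b ^ n)) := by
    rw [map_mul, map_pow, map_pow, ha, hb, ← pow_mul, ← pow_mul, mul_comm m n, ← mul_pow]
    exact IsNilpotent.pow_of_pos hxy (Nat.mul_pos hn hm).ne'
  rcases hA.2 _ _ (hnil _ h1) with h | h
  · left
    have h2 : IsNilpotent a := (IsNilpotent.pow_iff_pos hm.ne').mp h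
    have h3 : IsNilpotent (x ^ n) := ha ▸ h2.map f
    exact (IsNilpotent.pow_iff_pos hn.ne').mp h3
  · right
    have h2 : IsNilpotent b := (IsNilpotent.pow_iff_pos hn.ne').mp h
    have h3 : IsNilpotent (y ^ m) := hb ▸ h2.map f
    exact (IsNilpotent.pow_iff_pos hm.ne').mp h3

theorem PN_of_surj {A B : Type u} [CommRing A] [CommRing B] (f : A →+* B)
    (hker : RingHom.ker f ≤ nilradical A) (hB : PN B) : PN A := by
  rw [PN_iff] at hB ⊢
  have hnil : ∀ x : A, IsNilpotent (f x) → IsNilpotent x := by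
    rintro x ⟨n, hn⟩
    have h1 : x ^ n ∈ nilradical A := hker (by rw [RingHom.mem_ker, map_pow, hn])
    rw [mem_nilradical] at h1
    by_cases hn0 : n = 0
    · subst hn0
      rw [pow_zero] at h1
      obtain ⟨m, hm⟩ := h1
      rw [one_pow] at hm
      exact ⟨1, by rw [pow_one, ← mul_one x, hm, mul_zero]⟩
    · exact (IsNilpotent.pow_iff_pos hn0).mp h1
  refine ⟨fun h => hB.1 (by simpa using h.map f), fun x y hxy => ?_⟩
  rcases hB.2 (f x) (f y) (by rw [← map_mul]; exact hxy.map f) with h | h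
  · exact Or.inl (hnil x h)
  · exact Or.inr (hnil y h)

theorem PN_of_isDomain (A : Type u) [CommRing A] [IsDomain A] : PN A := by
  unfold PN
  rw [nilradical_eq_zero]
  exact Ideal.isPrime_bot

theorem PN_tensor_algClosed {k R S : Type u} [Field k] [IsAlgClosed k] [CommRing R] [CommRing S]
    [Algebra k R] [Algebra k S] (hR : PN R) (hS : PN S) : PN (R ⊗[k] S) := by
  haveI : (nilradical R).IsPrime := hR
  haveI : (nilradical S).IsPrime := hS
  haveI : IsDomain (R ⧸ nilradical R) := Ideal.Quotient.isDomain _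
  haveI : IsDomain (S ⧸ nilradical S) := Ideal.Quotient.isDomain _
  haveI : IsDomain ((R ⧸ nilradical R) ⊗[k] (S ⧸ nilradical S)) := isDomain_tensor
  let π := Algebra.TensorProduct.map (Ideal.Quotient.mkₐ k (nilradical R))
    (Ideal.Quotient.mkₐ k (nilradical S))
  have hker : RingHom.ker (π : R ⊗[k] S →+* (R ⧸ nilradical R) ⊗[k] (S ⧸ nilradical S)) ≤
      nilradical (R ⊗[k] S) := by
    have h0 := Algebra.TensorProduct.map_ker (Ideal.Quotient.mkₐ k (nilradical R))
      (Ideal.Quotient.mkₐ k (nilradical S)) (Ideal.Quotient.mkₐ_surjective k _)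
      (Ideal.Quotient.mkₐ_surjective k _)
    have h1 : RingHom.ker (π : R ⊗[k] S →+* (R ⧸ nilradical R) ⊗[k] (S ⧸ nilradical S)) =
        RingHom.ker π := rfl
    rw [h1, h0, sup_le_iff, Ideal.map_le_iff_le_comap, Ideal.map_le_iff_le_comap]
    constructor
    · intro r hr
      rw [RingHom.mem_ker, Ideal.Quotient.mkₐ_eq_mk, Ideal.Quotient.eq_zero_iff_mem] at hr
      rw [Ideal.mem_comap, mem_nilradical]
      exact (mem_nilradical.mp hr).map _
    · intro r hr
      rw [RingHom.mem_ker, Ideal.Quotient.mkₐ_eq_mk, Ideal.Quotient.eq_zero_iff_mem] at hr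
      rw [Ideal.mem_comap, mem_nilradical]
      exact (mem_nilradical.mp hr).map _
  exact PN_of_surj (π : R ⊗[k] S →+* (R ⧸ nilradical R) ⊗[k] (S ⧸ nilradical S)) hker
    (PN_of_isDomain _)

theorem PN_baseChange_iff {k K A : Type u} [Field k] [Field K] [Algebra k K]
    [IsPurelyInseparable k K] [CommRing A] [Algebra k A] : PN A ↔ PN (K ⊗[k] A) := by
  have hinj : Function.Injective
      ((Algebra.TensorProduct.includeRight : A →ₐ[k] K ⊗[k] A) : A →+* K ⊗[k] A) :=
    Algebra.TensorProduct.includeRight_injective (algebraMap k K).injective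
  refine ⟨fun h => PN_of_pow _ hinj ?_ h, fun h => PN_of_injective _ hinj h⟩
  intro z
  obtain ⟨n, hn, a, ha⟩ := IsPurelyInseparable.exists_pow_mem_range_tensorProduct (k := k) (K := K)
    (Algebra.TensorProduct.comm k K A z)
  refine ⟨n, hn, a, ?_⟩
  have h1 := congrArg (Algebra.TensorProduct.comm k K A).symm ha
  rw [map_pow, AlgEquiv.symm_apply_apply, Algebra.TensorProduct.algebraMap_apply,
    Algebra.TensorProduct.comm_symm_tmul] at h1
  exact h1


open TensorProduct in
/-- Let `k` be a separably closed field and `R`, `S` two `k`-algebras each having exactly one minimal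
prime ideal. Then `R ⊗_k S` has exactly one minimal prime ideal. -/
theorem result {k R S : Type u} [Field k] [IsSepClosed k] [CommRing R] [CommRing S]
    [Algebra k R] [Algebra k S] (hR : CAlgX.HasUniqueMinimalPrime R) (hS : CAlgX.HasUniqueMinimalPrime S) :
    CAlgX.HasUniqueMinimalPrime (R ⊗[k] S) := by
  rw [hasUMP_iff_PN] at hR hS ⊢
  let K := AlgebraicClosure k
  haveI : IsPurelyInseparable k K := inferInstance
  have hR' : PN (K ⊗[k] R) := (PN_baseChange_iff (k := k) (K := K)).mp hR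
  have hS' : PN (K ⊗[k] S) := (PN_baseChange_iff (k := k) (K := K)).mp hS
  have h1 : PN ((K ⊗[k] R) ⊗[K] (K ⊗[k] S)) := PN_tensor_algClosed hR' hS'
  let e1 : (K ⊗[k] R) ⊗[K] (K ⊗[k] S) ≃ₐ[K] (K ⊗[k] R) ⊗[k] S :=
    Algebra.TensorProduct.cancelBaseChange k K K (K ⊗[k] R) S
  let e2 : (K ⊗[k] R) ⊗[k] S ≃ₐ[k] K ⊗[k] (R ⊗[k] S) :=
    Algebra.TensorProduct.assoc k k k K R S
  let e : K ⊗[k] (R ⊗[k] S) ≃+* (K ⊗[k] R) ⊗[K] (K ⊗[k] S) :=
    (e2.symm : K ⊗[k] (R ⊗[k] S) ≃+* (K ⊗[k] R) ⊗[k] S).trans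
      (e1.symm : (K ⊗[k] R) ⊗[k] S ≃+* (K ⊗[k] R) ⊗[K] (K ⊗[k] S))
  have h2 : PN (K ⊗[k] (R ⊗[k] S)) := PN_of_injective (e : _ →+* _) e.injective h1
  exact (PN_baseChange_iff (k := k) (K := K)).mpr h2

end Groth.Agent.S2112
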