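import Groth.Statements.S2150
import Mathlib
import Groth.Agent.S2112

set_option autoImplicit false
universe u
open CAlg

namespace Groth.Agent.S2150

open scoped TensorProduct
open Polynomial IntermediateField

section
variable {k K : Type u} [Field k] [Field K] [Algebra k K]

theorem mem_lifts_of_dvd (hsc : ∀ α : K, IsSeparable k α → α ∈ Set.range (algebraMap k K))
    {f : k[X]} (hsep : f.Separable) {g : K[X]} (hg : g.Monic)
    (hdvd : g ∣ f.map (algebraMap k K)) : g ∈ lifts (algebraMap k K) := by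
  let L := AlgebraicClosure K
  have hsplit : (g.map (algebraMap K L)).Splits := IsAlgClosed.splits _
  have hprod := hsplit.eq_prod_roots_of_monic (hg.map _)
  have hroots : ∀ a ∈ (g.map (algebraMap K L)).roots, a ∈ separableClosure k L := by
    intro a ha
    rw [mem_separableClosure_iff]
    have h0 : (g.map (algebraMap K L)).eval a = 0 := (Polynomial.mem_roots'.mp ha).2
    have h1 : aeval a f = 0 := by
      obtain ⟨q, hq⟩ := hdvd
      have h2 : (f.map (algebraMap k K)).map (algebraMap K L) =
          g.map (algebraMap K L) * q.map (algebraMap K L) := by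
        rw [hq, Polynomial.map_mul]
      rw [Polynomial.map_map, ← IsScalarTower.algebraMap_eq] at h2
      rw [aeval_def, ← eval_map, h2, eval_mul, h0, zero_mul]
    exact hsep.of_dvd (minpoly.dvd k a h1)
  have hmem : g.map (algebraMap K L) ∈
      liftsRing (algebraMap (separableClosure k L) L) := by
    rw [hprod]
    refine Subring.multiset_prod_mem _ _ ?_
    intro p hp
    obtain ⟨a, ha, rfl⟩ := Multiset.mem_map.mp hp
    refine Subring.sub_mem _ ?_ ?_
    · rw [← lifts_iff_liftsRing]; exact X_mem_lifts _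
    · rw [← lifts_iff_liftsRing]
      exact C_mem_lifts (algebraMap (separableClosure k L) L) ⟨a, hroots a ha⟩
  rw [← lifts_iff_liftsRing, lifts_iff_coeff_lifts] at hmem
  rw [lifts_iff_coeff_lifts]
  intro n
  apply hsc
  obtain ⟨⟨c, hc⟩, hc'⟩ := hmem n
  rw [coeff_map] at hc'
  have hc2 : c = algebraMap K L (g.coeff n) := hc'
  rw [mem_separableClosure_iff, hc2] at hc
  unfold IsSeparable at hc ⊢
  rwa [minpoly.algebraMap_eq (algebraMap K L).injective] at hc

theorem irreducible_map (hsc : ∀ α : K, IsSeparable k α → α ∈ Set.range (algebraMap k K))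
    {f : k[X]} (hf : f.Monic) (hirr : Irreducible f) (hsep : f.Separable) :
    Irreducible (f.map (algebraMap k K)) := by
  have hne : f.map (algebraMap k K) ≠ 1 := by
    intro h
    have h1 := congrArg natDegree h
    rw [natDegree_map, natDegree_one] at h1
    exact hirr.not_isUnit (hf.natDegree_eq_zero.mp h1 ▸ isUnit_one)
  rw [irreducible_of_monic (hf.map _) hne]
  intro g h hg hh hgh
  obtain ⟨g₀, rfl⟩ := (mem_lifts _).mp (mem_lifts_of_dvd hsc hsep hg ⟨h, hgh.symm⟩)
  obtain ⟨h₀, rfl⟩ := (mem_lifts _).mp (mem_lifts_of_dvd hsc hsep hh ⟨g₀.map _, by rw [← hgh, mul_comm]⟩)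
  have hinj := Polynomial.map_injective _ (algebraMap k K).injective
  have hg₀ : g₀.Monic := monic_of_injective (algebraMap k K).injective hg
  have hh₀ : h₀.Monic := monic_of_injective (algebraMap k K).injective hh
  have h1 : g₀ * h₀ = f := hinj (by rw [Polynomial.map_mul, hgh])
  rcases hirr.isUnit_or_isUnit h1.symm with hu | hu
  · left; rw [hg₀.eq_one_of_isUnit hu, Polynomial.map_one]
  · right; rw [hh₀.eq_one_of_isUnit hu, Polynomial.map_one]


theorem isDomain_tensor_of_finite (hsc : ∀ α : K, IsSeparable k α → α ∈ Set.range (algebraMap k K))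
    (E : Type u) [Field E] [Algebra k E] [FiniteDimensional k E] [Algebra.IsSeparable k E] :
    IsDomain (E ⊗[k] K) := by
  obtain ⟨θ, hθ⟩ := Field.exists_primitive_element k E
  have hint : IsIntegral k θ := Algebra.IsIntegral.isIntegral θ
  let f := minpoly k θ
  have hfirr : Irreducible (f.map (algebraMap k K)) :=
    irreducible_map hsc (minpoly.monic hint) (minpoly.irreducible hint)
      (Algebra.IsSeparable.isSeparable k θ)
  haveI : Fact (Irreducible (f.map (algebraMap k K))) := ⟨hfirr⟩
  haveI : Nontrivial (E ⊗[k] K) :=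
    (Algebra.TensorProduct.includeLeft_injective (S := k) (R := k) (A := E) (B := K)
      (algebraMap k K).injective).nontrivial
  let incR : K →+* E ⊗[k] K := (Algebra.TensorProduct.includeRight : K →ₐ[k] E ⊗[k] K)
  let incL : E →+* E ⊗[k] K := (Algebra.TensorProduct.includeLeft : E →ₐ[k] E ⊗[k] K)
  have hcomp : incR.comp (algebraMap k K) = incL.comp (algebraMap k E) := by
    ext c
    simp [incR, incL]
  have h0 : (f.map (algebraMap k K)).eval₂ incR (θ ⊗ₜ[k] (1 : K)) = 0 := by
    rw [eval₂_map, hcomp]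
    have : θ ⊗ₜ[k] (1 : K) = incL θ := rfl
    rw [this, ← hom_eval₂, ← aeval_def, minpoly.aeval, map_zero]
  let φ : AdjoinRoot (f.map (algebraMap k K)) →+* E ⊗[k] K := AdjoinRoot.lift incR _ h0
  have hinj : Function.Injective φ := RingHom.injective φ
  have hsurj : Function.Surjective φ := by
    intro z
    induction z using TensorProduct.induction_on with
    | zero => exact ⟨0, map_zero _⟩
    | add x y hx hy =>
      obtain ⟨a, rfl⟩ := hx
      obtain ⟨b, rfl⟩ := hy
      exact ⟨a + b, map_add _ _ _⟩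
    | tmul e c =>
      have he : e ∈ (k⟮θ⟯).toSubalgebra := by rw [hθ]; trivial
      rw [IntermediateField.adjoin_simple_toSubalgebra_of_isAlgebraic hint.isAlgebraic,
        Algebra.adjoin_singleton_eq_range_aeval] at he
      obtain ⟨p, rfl⟩ := he
      refine ⟨AdjoinRoot.mk _ (p.map (algebraMap k K)) * AdjoinRoot.of _ c, ?_⟩
      rw [map_mul, AdjoinRoot.lift_mk, AdjoinRoot.lift_of, eval₂_map, hcomp]
      have h1 : eval₂ (incL.comp (algebraMap k E)) (θ ⊗ₜ[k] (1 : K)) p = incL (aeval θ p) := by
        have : θ ⊗ₜ[k] (1 : K) = incL θ := rfl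
        rw [this, ← hom_eval₂, ← aeval_def]
      rw [h1]
      show (aeval θ p) ⊗ₜ[k] (1 : K) * ((1 : E) ⊗ₜ[k] c) = _
      rw [Algebra.TensorProduct.tmul_mul_tmul, mul_one, one_mul]
      rfl
  let e := RingEquiv.ofBijective φ ⟨hinj, hsurj⟩
  exact e.symm.toMulEquiv.isDomain _


theorem range_mono {E : Type u} [Field E] [Algebra k E] {F F' : IntermediateField k E} (h : F ≤ F') :
    Set.range (Algebra.TensorProduct.map F.val (AlgHom.id k K)) ⊆
      Set.range (Algebra.TensorProduct.map F'.val (AlgHom.id k K)) := by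
  rintro _ ⟨z, rfl⟩
  refine ⟨Algebra.TensorProduct.map (IntermediateField.inclusion h) (AlgHom.id k K) z, ?_⟩
  rw [← AlgHom.comp_apply, ← Algebra.TensorProduct.map_comp]
  rfl

theorem exists_fin (E : Type u) [Field E] [Algebra k E] [Algebra.IsAlgebraic k E] (x : E ⊗[k] K) :
    ∃ F : IntermediateField k E, FiniteDimensional k F ∧
      x ∈ Set.range (Algebra.TensorProduct.map F.val (AlgHom.id k K)) := by
  induction x using TensorProduct.induction_on with
  | zero => exact ⟨⊥, inferInstance, 0, map_zero _⟩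
  | tmul e c =>
    refine ⟨k⟮e⟯, IntermediateField.adjoin.finiteDimensional
      (Algebra.IsIntegral.isIntegral e), ⟨e, IntermediateField.mem_adjoin_simple_self k e⟩ ⊗ₜ[k] c, ?_⟩
    simp
  | add x y hx hy =>
    obtain ⟨F₁, hF₁, h₁⟩ := hx
    obtain ⟨F₂, hF₂, h₂⟩ := hy
    refine ⟨F₁ ⊔ F₂, IntermediateField.finiteDimensional_sup F₁ F₂, ?_⟩
    obtain ⟨a, ha⟩ := range_mono (K := K) (le_sup_left : F₁ ≤ F₁ ⊔ F₂) h₁
    obtain ⟨b, hb⟩ := range_mono (K := K) (le_sup_right : F₂ ≤ F₁ ⊔ F₂) h₂
    exact ⟨a + b, by rw [map_add, ha, hb]⟩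

theorem isDomain_tensor_of_sep (hsc : ∀ α : K, IsSeparable k α → α ∈ Set.range (algebraMap k K))
    (E : Type u) [Field E] [Algebra k E] [Algebra.IsSeparable k E] :
    IsDomain (E ⊗[k] K) := by
  haveI : Algebra.IsAlgebraic k E := Algebra.IsSeparable.isAlgebraic k E
  haveI : Nontrivial (E ⊗[k] K) :=
    (Algebra.TensorProduct.includeLeft_injective (S := k) (R := k) (A := E) (B := K)
      (algebraMap k K).injective).nontrivial
  haveI : NoZeroDivisors (E ⊗[k] K) := by
    refine ⟨fun {x y} hxy => ?_⟩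
    obtain ⟨F₁, hF₁, h₁⟩ := exists_fin E x
    obtain ⟨F₂, hF₂, h₂⟩ := exists_fin E y
    haveI : FiniteDimensional k ↥(F₁ ⊔ F₂) := IntermediateField.finiteDimensional_sup F₁ F₂
    obtain ⟨a, rfl⟩ := range_mono (K := K) (le_sup_left : F₁ ≤ F₁ ⊔ F₂) h₁
    obtain ⟨b, rfl⟩ := range_mono (K := K) (le_sup_right : F₂ ≤ F₁ ⊔ F₂) h₂
    haveI : IsDomain (↥(F₁ ⊔ F₂) ⊗[k] K) := isDomain_tensor_of_finite hsc _
    have hinj : Function.Injective (Algebra.TensorProduct.map (F₁ ⊔ F₂).val (AlgHom.id k K)) := by
      have h1 : Function.Injective ((F₁ ⊔ F₂).val.toLinearMap.rTensor K) :=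
        Module.Flat.rTensor_preserves_injective_linearMap _ Subtype.val_injective
      intro z z' hz
      apply h1
      rw [← Groth.Agent.S2112.map_eq_rTensor, ← Groth.Agent.S2112.map_eq_rTensor]
      exact hz
    rw [← map_mul] at hxy
    have h0 : a * b = 0 := hinj (by rw [hxy, map_zero])
    rcases mul_eq_zero.mp h0 with h | h
    · left; rw [h, map_zero]
    · right; rw [h, map_zero]
  exact NoZeroDivisors.to_isDomain _


open Groth.Agent.S2112 in
theorem PN_of_insep_sep (hsc : ∀ α : K, IsSeparable k α → α ∈ Set.range (algebraMap k K))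
    (E kb : Type u) [Field E] [Field kb] [Algebra k E] [Algebra k kb] [Algebra E kb]
    [IsScalarTower k E kb] [Algebra.IsSeparable k E] [IsPurelyInseparable E kb] :
    PN (kb ⊗[k] K) := by
  haveI : IsDomain (E ⊗[k] K) := isDomain_tensor_of_sep hsc E
  have hD : PN (E ⊗[k] K) := PN_of_isDomain _
  have hC1 : PN (kb ⊗[E] (E ⊗[k] K)) := (PN_baseChange_iff (k := E) (K := kb)).mp hD
  let e1 : kb ⊗[E] (E ⊗[k] K) ≃ₐ[kb] kb ⊗[k] K :=
    Algebra.TensorProduct.cancelBaseChange k E kb kb K
  exact PN_of_injective (e1.symm : kb ⊗[k] K →+* kb ⊗[E] (E ⊗[k] K)) e1.symm.injective hC1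

open Groth.Agent.S2112 in
theorem PN_algClosure (hsc : ∀ α : K, IsSeparable k α → α ∈ Set.range (algebraMap k K)) :
    PN (AlgebraicClosure k ⊗[k] K) := by
  haveI : IsPurelyInseparable (separableClosure k (AlgebraicClosure k)) (AlgebraicClosure k) :=
    separableClosure.isPurelyInseparable k (AlgebraicClosure k)
  exact PN_of_insep_sep hsc (separableClosure k (AlgebraicClosure k)) (AlgebraicClosure k)

open Groth.Agent.S2112 in
theorem PN_of_algClosed (hsc : ∀ α : K, IsSeparable k α → α ∈ Set.range (algebraMap k K))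
    (k'' : Type u) [Field k''] [Algebra k k''] [IsAlgClosed k''] : PN (k'' ⊗[k] K) := by
  have hC := PN_algClosure hsc
  let σ : AlgebraicClosure k →ₐ[k] k'' := IsAlgClosed.lift
  letI : Algebra (AlgebraicClosure k) k'' := σ.toRingHom.toAlgebra
  haveI : IsScalarTower k (AlgebraicClosure k) k'' :=
    IsScalarTower.of_algebraMap_eq (fun x => (σ.commutes x).symm)
  have hB1 : PN (k'' ⊗[AlgebraicClosure k] ((AlgebraicClosure k) ⊗[k] K)) :=
    PN_tensor_algClosed (k := AlgebraicClosure k) (PN_of_isDomain k'') hC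
  let e2 : k'' ⊗[AlgebraicClosure k] ((AlgebraicClosure k) ⊗[k] K) ≃ₐ[k''] k'' ⊗[k] K :=
    Algebra.TensorProduct.cancelBaseChange k (AlgebraicClosure k) k'' k'' K
  exact PN_of_injective (e2.symm : k'' ⊗[k] K →+* _) e2.symm.injective hB1

open Groth.Agent.S2112 in
theorem PN_of_sepClosedIn (hsc : ∀ α : K, IsSeparable k α → α ∈ Set.range (algebraMap k K))
    (k' : Type u) [Field k'] [Algebra k k'] : PN (k' ⊗[k] K) := by
  have hB := PN_of_algClosed hsc (AlgebraicClosure k')
  let j := Algebra.TensorProduct.map (IsScalarTower.toAlgHom k k' (AlgebraicClosure k'))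
    (AlgHom.id k K)
  have hj : Function.Injective j := by
    have h1 : Function.Injective
        ((IsScalarTower.toAlgHom k k' (AlgebraicClosure k')).toLinearMap.rTensor K) :=
      Module.Flat.rTensor_preserves_injective_linearMap _
        (algebraMap k' (AlgebraicClosure k')).injective
    intro z z' hz
    apply h1
    rw [← map_eq_rTensor, ← map_eq_rTensor]
    exact hz
  exact PN_of_injective (j : k' ⊗[k] K →+* (AlgebraicClosure k') ⊗[k] K) hj hB


open Groth.Agent.S2112 in
theorem not_PN_generic (E : Type u) [Field E] [Algebra k E] (ι : E →ₐ[k] K) (α' : E)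
    {Ω : Type u} [Field Ω] [Algebra k Ω] [Algebra K Ω] [IsScalarTower k K Ω] (σ : E →ₐ[k] Ω)
    (h : K[X]) (f : k[X]) (hh : f.map (algebraMap k K) = (X - C (ι α')) * h)
    (hhα : h.eval (ι α') ≠ 0) (hσ : σ α' ≠ algebraMap K Ω (ι α')) (hf : aeval α' f = 0) :
    ¬ PN (E ⊗[k] K) := by
  intro hPN
  let incR : K →+* E ⊗[k] K := (Algebra.TensorProduct.includeRight : K →ₐ[k] E ⊗[k] K)
  let incL : E →+* E ⊗[k] K := (Algebra.TensorProduct.includeLeft : E →ₐ[k] E ⊗[k] K)
  have hcomp : incR.comp (algebraMap k K) = incL.comp (algebraMap k E) := by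
    ext c
    simp [incR, incL]
  let z : E ⊗[k] K := incL α' - incR (ι α')
  let w : E ⊗[k] K := h.eval₂ incR (incL α')
  have hzw : z * w = 0 := by
    have h1 : z * w = (f.map (algebraMap k K)).eval₂ incR (incL α') := by
      rw [hh, eval₂_mul, eval₂_sub, eval₂_X, eval₂_C]
    rw [h1, eval₂_map, hcomp, ← hom_eval₂, ← aeval_def, hf, map_zero]
  -- `w` is not nilpotent
  let μ₁ : E ⊗[k] K →ₐ[k] K := Algebra.TensorProduct.productMap ι (AlgHom.id k K)
  have hw : ¬ IsNilpotent w := by
    intro hnil
    have h1 : IsNilpotent (μ₁ w) := hnil.map μ₁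
    have h2 : μ₁ w = h.eval (ι α') := by
      have h3 : μ₁ w = h.eval₂ ((μ₁ : E ⊗[k] K →+* K).comp incR) (μ₁ (incL α')) :=
        hom_eval₂ h incR (μ₁ : E ⊗[k] K →+* K) (incL α')
      rw [h3]
      have h4 : (μ₁ : E ⊗[k] K →+* K).comp incR = RingHom.id K := by
        ext c; simp [μ₁, incR]
      have h5 : μ₁ (incL α') = ι α' := by simp [μ₁, incL]
      rw [h4, h5, eval₂_id]
    rw [h2] at h1
    exact hhα (IsNilpotent.eq_zero h1)
  -- `z` is not nilpotent
  let μ₂ : E ⊗[k] K →ₐ[k] Ω :=
    Algebra.TensorProduct.productMap σ (IsScalarTower.toAlgHom k K Ω)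
  have hz : ¬ IsNilpotent z := by
    intro hnil
    have h1 : IsNilpotent (μ₂ z) := hnil.map μ₂
    have h2 : μ₂ z = σ α' - algebraMap K Ω (ι α') := by
      simp only [z, map_sub]
      congr 1
      · simp [μ₂, incL]
      · simp [μ₂, incR]
    rw [h2] at h1
    exact hσ (sub_eq_zero.mp (IsNilpotent.eq_zero h1))
  rcases ((PN_iff _).mp hPN).2 z w (by rw [hzw]; exact IsNilpotent.zero) with h | h
  · exact hz h
  · exact hw h

open Groth.Agent.S2112 in
theorem mem_range_of_PN {α : K} (hα : IsSeparable k α) (hPN : PN ((k⟮α⟯) ⊗[k] K)) :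
    α ∈ Set.range (algebraMap k K) := by
  by_contra hnot
  have hint : IsIntegral k α := hα.isIntegral
  set f := minpoly k α with hf
  have hsep : f.Separable := hα
  -- factor out the root
  have hroot : (f.map (algebraMap k K)).IsRoot α := by
    rw [IsRoot, eval_map, ← aeval_def, minpoly.aeval]
  obtain ⟨h, hh⟩ := dvd_iff_isRoot.mpr hroot
  -- `h α ≠ 0`
  have hhα : h.eval α ≠ 0 := by
    have h1 := hsep.aeval_derivative_ne_zero (minpoly.aeval k α)
    rw [aeval_def, ← eval_map, ← derivative_map, hh, derivative_mul] at h1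
    simpa using h1
  -- degree of `h`
  have hf0 : f ≠ 0 := minpoly.ne_zero hint
  have hh0 : h ≠ 0 := by
    rintro rfl
    rw [mul_zero] at hh
    exact hf0 ((Polynomial.map_eq_zero _).mp hh)
  have hdeg : 1 ≤ h.natDegree := by
    by_contra hlt
    have h0 : h.natDegree = 0 := by omega
    have h1 : f.natDegree = 1 := by
      rw [← natDegree_map (algebraMap k K), hh, natDegree_mul (X_sub_C_ne_zero α) hh0,
        natDegree_X_sub_C, h0]
    apply hnot
    have := minpoly.mem_range_of_degree_eq_one k α (by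
      rw [degree_eq_natDegree hf0, h1]; rfl)
    exact this
  -- another root in the algebraic closure
  obtain ⟨β, hβ⟩ := IsAlgClosed.exists_root (h.map (algebraMap K (AlgebraicClosure K))) (by
    rw [degree_map]
    intro h0
    have := natDegree_eq_zero_iff_degree_le_zero.mpr h0.le
    omega)
  have hβα : β ≠ algebraMap K (AlgebraicClosure K) α := by
    rintro rfl
    rw [IsRoot, eval_map_algebraMap, aeval_algebraMap_apply_eq_algebraMap_eval,
      map_eq_zero_iff _ (algebraMap K (AlgebraicClosure K)).injective] at hβ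
    exact hhα hβ
  have hβf : β ∈ f.aroots (AlgebraicClosure K) := by
    rw [mem_aroots]
    refine ⟨hf0, ?_⟩
    rw [aeval_def, ← eval_map, IsScalarTower.algebraMap_eq k K (AlgebraicClosure K),
      ← Polynomial.map_map, hh, Polynomial.map_mul, eval_mul, hβ, mul_zero]
  let σ : k⟮α⟯ →ₐ[k] (AlgebraicClosure K) :=
    (IntermediateField.algHomAdjoinIntegralEquiv k hint).symm ⟨β, hβf⟩
  have hσ : σ (IntermediateField.AdjoinSimple.gen k α) = β :=
    IntermediateField.algHomAdjoinIntegralEquiv_symm_apply_gen k hint ⟨β, hβf⟩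
  have hα'0 : aeval (IntermediateField.AdjoinSimple.gen k α) f = 0 := by
    apply (algebraMap k⟮α⟯ K).injective
    rw [map_zero, ← aeval_algebraMap_apply]
    exact minpoly.aeval k α
  exact not_PN_generic (k⟮α⟯) (k⟮α⟯).val (IntermediateField.AdjoinSimple.gen k α) σ h f hh hhα
    (by rw [hσ]; exact hβα) hα'0 hPN

end


open TensorProduct in
/-- For a field extension `K/k`, the spectrum of `k' ⊗_k K` is irreducible for every field extension
`k'/k` (geometric irreducibility, extensions in the same universe) if and only if every element of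
`K` which is separable algebraic over `k` lies in `k`. -/
theorem result {k K : Type u} [Field k] [Field K] [Algebra k K] :
    (∀ (k' : Type u) [Field k'] [Algebra k k'], IrreducibleSpace (PrimeSpectrum (k' ⊗[k] K))) ↔
      ∀ α : K, IsSeparable k α → α ∈ Set.range (algebraMap k K) := by
  constructor
  · intro H α hα
    have h1 := H (k⟮α⟯)
    rw [PrimeSpectrum.irreducibleSpace_iff_isPrime_nilradical] at h1
    exact mem_range_of_PN hα h1
  · intro hsc k' _ _
    rw [PrimeSpectrum.irreducibleSpace_iff_isPrime_nilradical]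
    exact PN_of_sepClosedIn hsc k'

end Groth.Agent.S2150
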