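import Groth.Statements.S3285
import Mathlib
import Groth.Agent.Lib.Helper8.LambdaAdams

set_option autoImplicit false
universe u
open Finset
open LambdaRing

namespace Groth.Agent.S3285

open Groth.Agent.Helper8 LambdaRing

/-- Let K be a λ-ring with positive structure having the splitting property (every positive element
becomes a sum of line elements in an extension within the class considered). Then for every j the
Adams operation ψ^j, read off from ψ_t(x) = ε(x) − t (d/dt) log λ_(−t)(x), is a ring homomorphism K
→ K. -/
theorem result (K : Type u) [CommRing K] [LambdaRing.LambdaOps K] (P : LambdaRing.PosStructure K) (hK : LambdaRing.HasSplitting K P) (j : ℕ) :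
    ∃ f : K →+* K, ∀ x : K, f x = LambdaRing.adams P j x := by
  obtain ⟨C, hKC, hC⟩ := hK
  have hmul : ∀ x y : K, LambdaRing.adams P j (x * y) =
      LambdaRing.adams P j x * LambdaRing.adams P j y := by
    intro x y
    obtain ⟨L', hL', (f : K →+* L'.carrier), (hf : IsExtension P L'.posStr f), hx, hy⟩ :=
      exists_split₂ C hC ⟨K, P⟩ hKC x y
    apply hf.injective
    rw [adams_map hf, map_mul, map_mul, adams_map hf, adams_map hf]
    exact adams_mul_of_mem_lineSpan _ j hx hy
  refine ⟨{ toFun := LambdaRing.adams P j, map_one' := ?_, map_mul' := hmul,
            map_zero' := adams_zero P j, map_add' := adams_add P j }, fun x => rfl⟩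
  rw [adams_line P (isLine_one P), one_pow]

end Groth.Agent.S3285
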