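import Groth.Statements.S3291
import Mathlib

set_option autoImplicit false
universe u
open Finset
open LambdaRing

namespace Groth.Agent.S3291

theorem gamma_one {K : Type u} [CommRing K] [LambdaRing.LambdaOps K] (b : K) :
    LambdaRing.gamma 1 b = b := by
  unfold LambdaRing.gamma
  simp [Finset.sum_range_succ, LambdaRing.LambdaOps.lam_one]

/-- the generating set of the filtration -/
def genSet {K : Type u} [CommRing K] [LambdaRing.LambdaOps K] (P : LambdaRing.PosStructure K)
    (n : ℕ) : Set K :=
  {y | ∃ (l : List (ℕ × K)), (∀ p ∈ l, P.aug p.2 = 0) ∧ n ≤ (l.map Prod.fst).sum ∧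
        y = (l.map fun p => LambdaRing.gamma p.1 p.2).prod}

theorem gammaFiltration_pos {K : Type u} [CommRing K] [LambdaRing.LambdaOps K]
    (P : LambdaRing.PosStructure K) (n : ℕ) (hn : n ≠ 0) :
    LambdaRing.gammaFiltration P n = AddSubgroup.closure (genSet P n) := by
  unfold LambdaRing.gammaFiltration genSet
  rw [if_neg hn]

theorem mul_mem_of_gen {K : Type u} [CommRing K] [LambdaRing.LambdaOps K]
    (P : LambdaRing.PosStructure K) (n : ℕ) (a y : K) (hy : y ∈ genSet P n) :
    a * y ∈ AddSubgroup.closure (genSet P n) := by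
  obtain ⟨l, hl, hsum, rfl⟩ := hy
  -- a = (a - aug a) + aug a
  have hdecomp : a = (a - ((P.aug a : ℤ) : K)) + ((P.aug a : ℤ) : K) := by ring
  rw [hdecomp, add_mul]
  apply AddSubgroup.add_mem
  · apply AddSubgroup.subset_closure
    refine ⟨(1, a - ((P.aug a : ℤ) : K)) :: l, ?_, ?_, ?_⟩
    · intro p hp
      rcases List.mem_cons.mp hp with rfl | hp
      · simp
      · exact hl p hp
    · simp only [List.map_cons, List.sum_cons]
      omega
    · simp only [List.map_cons, List.prod_cons, gamma_one]
  · rw [← zsmul_eq_mul]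
    apply AddSubgroup.zsmul_mem
    apply AddSubgroup.subset_closure
    exact ⟨l, hl, hsum, rfl⟩

theorem ideal_part {K : Type u} [CommRing K] [LambdaRing.LambdaOps K]
    (P : LambdaRing.PosStructure K) (n : ℕ) (a x : K) (hx : x ∈ LambdaRing.gammaFiltration P n) :
    a * x ∈ LambdaRing.gammaFiltration P n := by
  by_cases hn : n = 0
  · subst hn
    unfold LambdaRing.gammaFiltration
    simp
  · rw [gammaFiltration_pos P n hn] at hx ⊢
    induction hx using AddSubgroup.closure_induction with
    | mem y hy => exact mul_mem_of_gen P n a y hy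
    | zero => simp
    | add y z _ _ hy hz => rw [mul_add]; exact AddSubgroup.add_mem _ hy hz
    | neg y _ hy => rw [mul_neg]; exact AddSubgroup.neg_mem _ hy

/-- The γ-filtration F^n K of a λ-ring with positive structure (F^0 = K, F^n for n ≥ 1 generated
additively by products γ^(r₁)(x₁)⋯γ^(r_k)(x_k) with ε(x_i) = 0 and Σ r_i ≥ n) consists of ideals,
and F^m · F^n ⊆ F^(m+n). -/
theorem result (K : Type u) [CommRing K] [LambdaRing.LambdaOps K] (P : LambdaRing.PosStructure K) :
    (∀ (n : ℕ) (a x : K), x ∈ LambdaRing.gammaFiltration P n → a * x ∈ LambdaRing.gammaFiltration P n) ∧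
    ∀ (m n : ℕ) (x y : K), x ∈ LambdaRing.gammaFiltration P m → y ∈ LambdaRing.gammaFiltration P n →
      x * y ∈ LambdaRing.gammaFiltration P (m + n) := by
  refine ⟨fun n a x hx => ideal_part P n a x hx, ?_⟩
  intro m n x y hx hy
  by_cases hm : m = 0
  · subst hm
    rw [zero_add]
    exact ideal_part P n x y hy
  by_cases hn : n = 0
  · subst hn
    rw [add_zero, mul_comm]
    exact ideal_part P m y x hx
  have hmn : m + n ≠ 0 := by omega
  rw [gammaFiltration_pos P m hm] at hx
  rw [gammaFiltration_pos P n hn] at hy
  rw [gammaFiltration_pos P (m + n) hmn]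
  induction hx using AddSubgroup.closure_induction with
  | mem x hxg =>
    induction hy using AddSubgroup.closure_induction with
    | mem y hyg =>
      apply AddSubgroup.subset_closure
      obtain ⟨l, hl, hsum, rfl⟩ := hxg
      obtain ⟨l', hl', hsum', rfl⟩ := hyg
      refine ⟨l ++ l', ?_, ?_, ?_⟩
      · intro p hp
        rcases List.mem_append.mp hp with hp | hp
        · exact hl p hp
        · exact hl' p hp
      · simp only [List.map_append, List.sum_append]
        omega
      · simp only [List.map_append, List.prod_append]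
    | zero => simp
    | add y z _ _ hy hz => rw [mul_add]; exact AddSubgroup.add_mem _ hy hz
    | neg y _ hy => rw [mul_neg]; exact AddSubgroup.neg_mem _ hy
  | zero => simp
  | add x z _ _ hx hz => rw [add_mul]; exact AddSubgroup.add_mem _ hx hz
  | neg x _ hx => rw [neg_mul]; exact AddSubgroup.neg_mem _ hx

end Groth.Agent.S3291
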