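import Groth.Statements.S0660
import Groth.Agent.Lib.Helper18.GraphLift

set_option autoImplicit false
open CategoryTheory CategoryTheory.Limits AlgebraicGeometry Opposite
universe u
open EtCore

namespace Groth.Agent.S0660

/-- Let i : Z -> X be a closed immersion, U and U' schemes etale over X, and h a Z-morphism from U x_X Z
to U' x_X Z. Then there are an etale X-scheme W and X-morphisms a : W -> U, b : W -> U' such that
the base change of a to Z is an isomorphism and h is the base change of b composed with the inverse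
of the base change of a. -/
theorem result {Z X : Scheme.{u}} (i : Z ⟶ X) [IsClosedImmersion i] (U U' : X.Etale)
    (h : (EtCoh.bc i).obj U ⟶ (EtCoh.bc i).obj U') :
    ∃ (W : X.Etale) (a : W ⟶ U) (b : W ⟶ U'), IsIso ((EtCoh.bc i).map a) ∧ (EtCoh.bc i).map a ≫ h = (EtCoh.bc i).map b := by
  haveI : Etale U.hom := U.prop
  haveI : Etale U'.hom := U'.prop
  have hh : h.left ≫ pullback.snd U'.hom i = pullback.snd U.hom i := MorphismProperty.Over.w h
  obtain ⟨W, ρ, hρ, h1, h2⟩ := Groth.Agent.Helper18.GraphLift.main i U.hom U'.hom h.left hh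
  let WE : X.Etale := MorphismProperty.Over.mk ⊤ (W.ι ≫ pullback.fst U.hom U'.hom ≫ U.hom)
    inferInstance
  let a : WE ⟶ U := MorphismProperty.Over.homMk (W.ι ≫ pullback.fst U.hom U'.hom)
    (Category.assoc _ _ _) trivial
  let b : WE ⟶ U' := MorphismProperty.Over.homMk (W.ι ≫ pullback.snd U.hom U'.hom)
    (by
      change (W.ι ≫ pullback.snd U.hom U'.hom) ≫ U'.hom = W.ι ≫ pullback.fst U.hom U'.hom ≫ U.hom
      rw [Category.assoc, ← pullback.condition]) trivial
  obtain ⟨ρ', hρ'⟩ : ∃ ρ' : ((EtCoh.bc i).obj U).left ⟶ ((EtCoh.bc i).obj WE).left, ρ' = ρ :=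
    ⟨ρ, rfl⟩
  haveI : IsIso ρ' := by rw [hρ']; exact hρ
  have h1' : ρ' ≫ ((EtCoh.bc i).map a).left = 𝟙 _ := by rw [hρ']; exact h1
  have h2' : ρ' ≫ ((EtCoh.bc i).map b).left = h.left := by rw [hρ']; exact h2
  have h3 : ((EtCoh.bc i).map a).left = inv ρ' := IsIso.eq_inv_of_hom_inv_id h1'
  refine ⟨WE, a, b, ?_, ?_⟩
  · haveI : IsIso ((EtCoh.bc i).map a).left := by rw [h3]; infer_instance
    haveI : IsIso ((Scheme.Etale.forget Z).map ((EtCoh.bc i).map a)) := by
      haveI : IsIso ((CategoryTheory.Over.forget Z).map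
          ((Scheme.Etale.forget Z).map ((EtCoh.bc i).map a))) := by
        change IsIso ((EtCoh.bc i).map a).left
        infer_instance
      exact isIso_of_reflects_iso _ (CategoryTheory.Over.forget Z)
    exact isIso_of_reflects_iso _ (Scheme.Etale.forget Z)
  · apply MorphismProperty.Over.Hom.ext
    change ((EtCoh.bc i).map a).left ≫ h.left = ((EtCoh.bc i).map b).left
    rw [← h2', h3, IsIso.inv_hom_id_assoc]

end Groth.Agent.S0660
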