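import Mathlib
import Groth.Statements.S4450
import Groth.Agent.Lib.Helper9.DVRDom
-- import your own Groth.Agent.* helpers here

set_option autoImplicit false
universe u
open CategoryTheory CategoryTheory.Limits AlgebraicGeometry
open EGA2

namespace Groth.Agent.S4450


theorem closure_eq_top_of_essFiniteType {R L : Type*} [CommRing R] [Field L] (ψ : R →+* L)
    (hψ : ψ.EssFiniteType) :
    ∃ T : Finset L, Subfield.closure ((ψ.range : Set L) ∪ T) = ⊤ := by
  letI := ψ.toAlgebra
  obtain ⟨σ, hσ⟩ := (Algebra.essFiniteType_iff (R := R) (S := L)).mp hψ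
  refine ⟨σ, ?_⟩
  rw [eq_top_iff]
  rintro s -
  obtain ⟨t, ht, htu, hst⟩ := hσ s
  have hle : (Algebra.adjoin R (σ : Set L) : Set L) ⊆
      Subfield.closure ((ψ.range : Set L) ∪ σ) := by
    intro z hz
    rw [SetLike.mem_coe, ← Subalgebra.mem_toSubring, Algebra.adjoin_eq_ring_closure] at hz
    have h1 : Subring.closure (Set.range (algebraMap R L) ∪ (σ : Set L)) ≤
        (Subfield.closure ((ψ.range : Set L) ∪ σ)).toSubring := by
      rw [Subring.closure_le]
      intro w hw
      apply Subfield.subset_closure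
      rcases hw with ⟨r, rfl⟩ | hw
      · exact Or.inl ⟨r, rfl⟩
      · exact Or.inr hw
    exact h1 hz
  have h1 := hle ht
  have h2 := hle hst
  have ht0 : t ≠ 0 := htu.ne_zero
  have h3 : s = (s * t) / t := by field_simp
  rw [h3]
  exact div_mem h2 h1

theorem exists_stalkSpecializes {Y : Scheme.{u}} {y y' : Y} (hsp : y ⤳ y')
    (b : Y.presheaf.stalk y) :
    ∃ a s : Y.presheaf.stalk y', IsUnit ((Y.presheaf.stalkSpecializes hsp).hom s) ∧
      b * (Y.presheaf.stalkSpecializes hsp).hom s = (Y.presheaf.stalkSpecializes hsp).hom a := by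
  obtain ⟨_, ⟨U, hU, rfl⟩, hyU, -⟩ :=
    Y.isBasis_affineOpens.exists_subset_of_mem_open (Set.mem_univ y') isOpen_univ
  have hy : y ∈ U := hsp.mem_open U.2 hyU
  letI : Algebra Γ(Y, U) (Y.presheaf.stalk y) :=
    TopCat.Presheaf.algebra_section_stalk Y.presheaf ⟨y, hy⟩
  haveI : IsLocalization.AtPrime (Y.presheaf.stalk y) (hU.primeIdealOf ⟨y, hy⟩).asIdeal :=
    hU.isLocalization_stalk ⟨y, hy⟩
  obtain ⟨⟨a, s⟩, has⟩ := IsLocalization.surj (hU.primeIdealOf ⟨y, hy⟩).asIdeal.primeCompl b
  have hgs : ∀ z, (Y.presheaf.stalkSpecializes hsp).hom ((Y.presheaf.germ U y' hyU).hom z)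
      = algebraMap Γ(Y, U) (Y.presheaf.stalk y) z := by
    intro z
    rw [← RingHom.comp_apply, ← CommRingCat.hom_comp, TopCat.Presheaf.germ_stalkSpecializes]
    rfl
  refine ⟨(Y.presheaf.germ U y' hyU).hom a, (Y.presheaf.germ U y' hyU).hom s, ?_, ?_⟩
  · rw [hgs]; exact IsLocalization.map_units _ s
  · rw [hgs, hgs]; exact has


/-- Let Y be a locally Noetherian scheme, p : X ⟶ Y a morphism locally of finite type, x a point of X, y
= p(x) and y' a specialization of y distinct from y. Then there are a discrete valuation ring A with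
field of fractions the residue field k(x) and a morphism Spec A ⟶ Y mapping the closed point to y'
and restricting on Spec k(x) to the canonical morphism Spec k(x) ⟶ X ⟶ Y (so the generic point goes
to y, and the rational map from Spec A to X so defined induces the identity of k(x)). -/
theorem result {X Y : Scheme.{u}} [IsLocallyNoetherian Y]
    (p : X ⟶ Y) [LocallyOfFiniteType p] (x : X) (y' : Y) (hsp : p.base x ⤳ y') (hne : y' ≠ p.base x) :
    ∃ (A : ValuationSubring (X.residueField x)) (h : Spec (CommRingCat.of A) ⟶ Y), IsDiscreteValuationRing A ∧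
      h.base (IsLocalRing.closedPoint A) = y' ∧
      Spec.map (CommRingCat.ofHom A.subtype) ≫ h = X.fromSpecResidueField x ≫ p := by
  classical
  let sp := Y.presheaf.stalkSpecializes hsp
  let Φ : Y.presheaf.stalk y' ⟶ X.residueField x := sp ≫ p.stalkMap x ≫ X.residue x
  let φ : Y.presheaf.stalk y' →+* X.residueField x := Φ.hom
  have hΦ : Spec.map Φ ≫ Y.fromSpecStalk y' = X.fromSpecResidueField x ≫ p := by
    simp only [Φ, sp, Spec.map_comp, Category.assoc, Scheme.SpecMap_stalkSpecializes_fromSpecStalk,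
      Scheme.SpecMap_stalkMap_fromSpecStalk, Scheme.fromSpecResidueField]
  -- a nonzero element of the image of the maximal ideal
  have hc : ∃ c ∈ IsLocalRing.maximalIdeal (Y.presheaf.stalk y'), φ c ≠ 0 := by
    by_contra hcon
    push Not at hcon
    apply hne
    let ξ : Spec (X.residueField x) := IsLocalRing.closedPoint (X.residueField x)
    have h1 : (Spec.map Φ) ξ = IsLocalRing.closedPoint (Y.presheaf.stalk y') := by
      apply PrimeSpectrum.ext
      have hmax : IsLocalRing.maximalIdeal (Y.presheaf.stalk y') ≤ ((Spec.map Φ) ξ).asIdeal := by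
        intro c hc
        show φ c ∈ ξ.asIdeal
        rw [hcon c hc]; exact zero_mem _
      exact ((IsLocalRing.maximalIdeal.isMaximal _).eq_of_le
        ((Spec.map Φ) ξ).isPrime.ne_top hmax).symm
    have h2 : (Spec.map Φ ≫ Y.fromSpecStalk y') ξ = (X.fromSpecResidueField x ≫ p) ξ := by
      rw [hΦ]
    rw [Scheme.Hom.comp_apply, Scheme.Hom.comp_apply, h1, Scheme.fromSpecStalk_closedPoint,
      Scheme.fromSpecResidueField_apply] at h2
    exact h2
  obtain ⟨c, hcm, hc0⟩ := hc
  -- the Noetherian subring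
  let A₀ : Subring (X.residueField x) := φ.range
  let J : Ideal A₀ := (IsLocalRing.maximalIdeal (Y.presheaf.stalk y')).map φ.rangeRestrict
  have hJ : J ≠ ⊤ := by
    intro hJ
    have h1 : (1 : A₀) ∈ J := hJ ▸ Submodule.mem_top
    obtain ⟨m, hm, hm1⟩ := (Ideal.mem_map_iff_of_surjective φ.rangeRestrict
      φ.rangeRestrict_surjective).mp h1
    have h2 : φ m = 1 := congrArg Subtype.val hm1
    have h3 : IsUnit (1 - m) := by
      by_contra h
      have h4 : 1 - m ∈ IsLocalRing.maximalIdeal (Y.presheaf.stalk y') := h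
      have h5 : (1 : Y.presheaf.stalk y') ∈ IsLocalRing.maximalIdeal (Y.presheaf.stalk y') := by
        have := add_mem h4 hm
        rwa [sub_add_cancel] at this
      exact (IsLocalRing.maximalIdeal.isMaximal _).ne_top ((Ideal.eq_top_iff_one _).mpr h5)
    have h6 : φ (1 - m) = 0 := by rw [map_sub, map_one, h2, sub_self]
    exact (h3.map φ).ne_zero h6
  -- field generation
  let ψ : Y.presheaf.stalk (p.base x) →+* X.residueField x :=
    (X.residue x).hom.comp (p.stalkMap x).hom
  have hψ : ψ.EssFiniteType :=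
    RingHom.EssFiniteType.comp (LocallyOfFiniteType.stalkMap (f := p) x)
      (RingHom.FiniteType.essFiniteType
        (RingHom.FiniteType.of_surjective _ IsLocalRing.residue_surjective))
  obtain ⟨T, hT⟩ := closure_eq_top_of_essFiniteType ψ hψ
  have hφψ : ∀ a, φ a = ψ (sp.hom a) := fun a => rfl
  have hT' : Subfield.closure ((A₀ : Set (X.residueField x)) ∪ (T : Set (X.residueField x))) = ⊤ := by
    rw [eq_top_iff, ← hT, Subfield.closure_le]
    rintro z (hz | hz)
    · obtain ⟨b, rfl⟩ := hz
      obtain ⟨a, s, hsu, has⟩ := exists_stalkSpecializes hsp b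
      have h1 : ψ b * φ s = φ a := by
        rw [hφψ, hφψ, ← map_mul]; exact congrArg ψ has
      have h2 : φ s ≠ 0 := by rw [hφψ]; exact (hsu.map ψ).ne_zero
      have h3 : ψ b = φ a / φ s := by rw [← h1]; field_simp
      rw [SetLike.mem_coe, h3]
      exact div_mem (Subfield.subset_closure (Or.inl ⟨a, rfl⟩))
        (Subfield.subset_closure (Or.inl ⟨s, rfl⟩))
    · exact Subfield.subset_closure (Or.inr hz)
  obtain ⟨V, hV, hAV, hJV⟩ := Groth.Agent.Helper9.DVRDom.exists_dvr_dominating A₀ J hJ
    (φ.rangeRestrict c) (Ideal.mem_map_of_mem _ hcm)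
    (fun h => hc0 (congrArg Subtype.val h)) T hT'
  let φV : Y.presheaf.stalk y' →+* V := φ.codRestrict V (fun a => hAV ⟨a, rfl⟩)
  haveI : IsLocalHom φV := by
    refine ⟨fun a ha => ?_⟩
    by_contra hna
    have h1 : a ∈ IsLocalRing.maximalIdeal (Y.presheaf.stalk y') := hna
    have h2 : (φ a : X.residueField x) ∈ V.nonunits :=
      hJV (φ.rangeRestrict a) (Ideal.mem_map_of_mem _ h1)
    have h3 : φV a ∈ IsLocalRing.maximalIdeal V := ValuationSubring.coe_mem_nonunits_iff.mp h2
    exact h3 ha
  refine ⟨V, Spec.map (CommRingCat.ofHom φV) ≫ Y.fromSpecStalk y', hV, ?_, ?_⟩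
  · rw [Scheme.Hom.comp_apply]
    have h1 : (Spec.map (CommRingCat.ofHom φV)) (IsLocalRing.closedPoint V)
        = IsLocalRing.closedPoint (Y.presheaf.stalk y') := IsLocalRing.comap_closedPoint φV
    rw [h1, Scheme.fromSpecStalk_closedPoint]
  · rw [← Category.assoc, ← Spec.map_comp, ← hΦ]
    rfl

end Groth.Agent.S4450
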