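import Groth.Statements.S15610

set_option autoImplicit false
universe u
open SchFin SchFin.RSpace

namespace Groth.Agent.S15610aux

open SchFin

set_option backward.isDefEq.respectTransparency false
set_option backward.isDefEq.respectTransparency.types false

theorem idem_zero_of_basicOpen_empty {R : Type u} [CommRing R] (e : R) (he : IsIdempotentElem e)
    (h : (PrimeSpectrum.basicOpen e : Set (PrimeSpectrum R)) = ∅) : e = 0 := by
  have h1 : PrimeSpectrum.basicOpen e = ⊥ := TopologicalSpace.Opens.coe_eq_empty.1 h
  obtain ⟨n, hn⟩ := (PrimeSpectrum.basicOpen_eq_bot_iff e).1 h1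
  have h2 : e ^ (n + 1) = e := IsIdempotentElem.pow_succ_eq n he
  rw [← h2, pow_succ, hn, zero_mul]

theorem spec_conn (R : Type u) [CommRing R] :
    ConnectedSpace (PrimeSpectrum R) ↔
      Nontrivial R ∧ ∀ e : R, IsIdempotentElem e → e = 0 ∨ e = 1 := by
  constructor
  · intro h
    refine ⟨?_, ?_⟩
    · by_contra hn
      rw [not_nontrivial_iff_subsingleton] at hn
      obtain ⟨x⟩ := h.toNonempty
      apply x.isPrime.ne_top
      rw [Ideal.eq_top_iff_one, Subsingleton.elim (1 : R) 0]
      exact zero_mem _
    · intro e he
      have hcl : IsClopen (PrimeSpectrum.basicOpen e : Set (PrimeSpectrum R)) :=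
        PrimeSpectrum.isClopen_iff.2 ⟨e, he, rfl⟩
      rcases isClopen_iff.1 hcl with h0 | h1
      · exact Or.inl (idem_zero_of_basicOpen_empty e he h0)
      · right
        have h2 : (PrimeSpectrum.basicOpen (1 - e) : Set (PrimeSpectrum R)) = ∅ := by
          rw [← PrimeSpectrum.zeroLocus_eq_basicOpen_of_isIdempotentElem e he]
          have h3 := PrimeSpectrum.basicOpen_eq_zeroLocus_compl e
          rw [h1] at h3
          exact Set.compl_univ_iff.1 h3.symm
        have h4 := idem_zero_of_basicOpen_empty (1 - e) he.one_sub h2
        exact (sub_eq_zero.1 h4).symm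
  · rintro ⟨hnt, hid⟩
    rw [connectedSpace_iff_clopen]
    refine ⟨inferInstance, ?_⟩
    intro s hs
    obtain ⟨e, he, rfl⟩ := PrimeSpectrum.isClopen_iff.1 hs
    rcases hid e he with h0 | h1
    · left
      rw [h0, PrimeSpectrum.basicOpen_zero]
      rfl
    · right
      rw [h1, PrimeSpectrum.basicOpen_one]
      rfl

theorem main (X : RSpace.{u}) :
    X.IsWellConnected ↔ (X.IsTopConnected ∧ X.IsPwConnected) := by
  classical
  constructor
  · rintro ⟨hc, hpw⟩
    refine ⟨?_, hpw⟩
    have hpwn : ∀ p : X.pt, Nontrivial (X.ring p) := fun p => ((spec_conn _).1 (hpw p)).1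
    obtain ⟨hnt, hid⟩ := (spec_conn _).1 hc
    have hne : Nonempty X.pt := by
      by_contra hemp
      rw [not_nonempty_iff] at hemp
      obtain ⟨a, b, hab⟩ := hnt.exists_pair_ne
      exact hab (Subtype.ext (funext fun q => (hemp.false q.1).elim))
    refine ⟨hne, ?_⟩
    intro p q
    by_contra hpq
    let ev : (q : ↥(Set.univ : Set X.pt)) → X.ring q.1 := fun q =>
      if Relation.EqvGen (fun a b : X.pt => a ≤ b) p q.1 then 1 else 0
    have hev : ev ∈ X.sectRing Set.univ := by
      intro a b hab
      show X.res hab (ev a) = ev b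
      by_cases h1 : Relation.EqvGen (fun a b : X.pt => a ≤ b) p a.1
      · have h2 : Relation.EqvGen (fun a b : X.pt => a ≤ b) p b.1 :=
          Relation.EqvGen.trans _ _ _ h1 (Relation.EqvGen.rel _ _ hab)
        show X.res hab (if _ then 1 else 0) = (if _ then 1 else 0)
        rw [if_pos h1, if_pos h2, map_one]
      · have h2 : ¬ Relation.EqvGen (fun a b : X.pt => a ≤ b) p b.1 := fun h2 =>
          h1 (Relation.EqvGen.trans _ _ _ h2
            (Relation.EqvGen.symm _ _ (Relation.EqvGen.rel _ _ hab)))
        show X.res hab (if _ then 1 else 0) = (if _ then 1 else 0)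
        rw [if_neg h1, if_neg h2, map_zero]
    let e : X.sectRing Set.univ := ⟨ev, hev⟩
    have he : IsIdempotentElem e := by
      apply Subtype.ext
      funext a
      show ev a * ev a = ev a
      show (if _ then (1 : X.ring a.1) else 0) * (if _ then 1 else 0) = (if _ then 1 else 0)
      split_ifs
      · exact one_mul 1
      · exact zero_mul 0
    have hep : e.1 ⟨p, trivial⟩ = 1 := if_pos (Relation.EqvGen.refl p)
    have heq : e.1 ⟨q, trivial⟩ = 0 := if_neg hpq
    rcases hid e he with h0 | h1
    · rw [h0] at hep
      exact (hpwn p).exists_pair_ne.elim (fun a ⟨b, hab⟩ => hab (by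
        have h01 : (0 : X.ring p) = 1 := hep
        calc a = a * 1 := (mul_one a).symm
          _ = a * 0 := by rw [h01]
          _ = b * 0 := by rw [mul_zero, mul_zero]
          _ = b * 1 := by rw [h01]
          _ = b := mul_one b))
    · rw [h1] at heq
      exact (hpwn q).exists_pair_ne.elim (fun a ⟨b, hab⟩ => hab (by
        have h01 : (1 : X.ring q) = 0 := heq
        calc a = a * 1 := (mul_one a).symm
          _ = a * 0 := by rw [h01]
          _ = b * 0 := by rw [mul_zero, mul_zero]
          _ = b * 1 := by rw [h01]
          _ = b := mul_one b))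
  · rintro ⟨⟨hne, hconn⟩, hpw⟩
    refine ⟨?_, hpw⟩
    have hpwn : ∀ p : X.pt, Nontrivial (X.ring p) := fun p => ((spec_conn _).1 (hpw p)).1
    have hpwi : ∀ (p : X.pt) (a : X.ring p), IsIdempotentElem a → a = 0 ∨ a = 1 :=
      fun p => ((spec_conn _).1 (hpw p)).2
    obtain ⟨p0⟩ := hne
    show ConnectedSpace (PrimeSpectrum (X.sectRing Set.univ))
    rw [spec_conn]
    refine ⟨⟨⟨0, 1, fun h => ?_⟩⟩, ?_⟩
    · have h01 : (0 : X.ring p0) = 1 :=
        congrArg (fun s : X.sectRing Set.univ => s.1 ⟨p0, trivial⟩) h
      exact zero_ne_one h01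
    · intro e he
      have hq : ∀ q : X.pt, e.1 ⟨q, trivial⟩ = 0 ∨ e.1 ⟨q, trivial⟩ = 1 := fun q =>
        hpwi q _ (congrArg (fun s : X.sectRing Set.univ => s.1 ⟨q, trivial⟩) he)
      have hstep : ∀ a b : X.pt, a ≤ b → (e.1 ⟨a, trivial⟩ = 1 ↔ e.1 ⟨b, trivial⟩ = 1) := by
        intro a b hab
        have hres : X.res hab (e.1 ⟨a, trivial⟩) = e.1 ⟨b, trivial⟩ :=
          e.2 ⟨a, trivial⟩ ⟨b, trivial⟩ hab
        constructor
        · intro h1
          rw [← hres, h1, map_one]
        · intro h1
          rcases hq a with h0 | h0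
          · rw [h0, map_zero] at hres
            rw [h1] at hres
            exact absurd hres zero_ne_one
          · exact h0
      have hall : ∀ a b : X.pt, Relation.EqvGen (fun a b : X.pt => a ≤ b) a b →
          (e.1 ⟨a, trivial⟩ = 1 ↔ e.1 ⟨b, trivial⟩ = 1) := by
        intro a b hab
        induction hab with
        | rel x y hxy => exact hstep x y hxy
        | refl x => exact Iff.rfl
        | symm x y _ ih => exact ih.symm
        | trans x y z _ _ ih1 ih2 => exact ih1.trans ih2
      rcases hq p0 with h0 | h1
      · left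
        apply Subtype.ext
        funext q
        show e.1 q = 0
        rcases hq q.1 with h | h
        · exact h
        · have := (hall q.1 p0 (hconn q.1 p0)).1 h
          rw [h0] at this
          exact absurd this zero_ne_one
      · right
        apply Subtype.ext
        funext q
        show e.1 q = 1
        exact (hall p0 q.1 (hconn p0 q.1)).1 h1

end Groth.Agent.S15610aux

namespace Groth.Agent.S15610

open SchFin in
/-- A schematic finite space is well-connected (the prime spectrum of its ring of global sections is
connected and the prime spectrum of the ring of each point is connected) if and only if its poset of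
points is non-empty and connected and the prime spectrum of the ring of each point is connected. -/
theorem result (X : RSpace.{u})
    (hX : X.IsSchematic) : X.IsWellConnected ↔ (X.IsTopConnected ∧ X.IsPwConnected) := by
  exact Groth.Agent.S15610aux.main X

end Groth.Agent.S15610
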