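import Groth.Statements.S1085
import Groth.Agent.Lib.Helper22.FilDCore

set_option autoImplicit false
universe v u
open CategoryTheory CategoryTheory.Limits Opposite
open FilD

open Groth.Agent.Helper22.FilDCore CategoryTheory.Limits Opposite

namespace Groth.Agent.S1085

/-- Let A be an abelian category and S = (X ⟶ Y ⟶ Z) a short complex (composite zero) of finite filtered
objects such that grᵖ X ⟶ grᵖ Y ⟶ grᵖ Z is exact for every p. Then for every p the sequence of p-th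
filtration steps Fᵖ X ⟶ Fᵖ Y ⟶ Fᵖ Z is exact, and both morphisms of S are strict. -/
theorem result {A : Type u} [Category.{v} A] [Abelian A] (S : ShortComplex (FilD.FilF A))
    (hS : ∀ p : ℤ, (S.map (FilD.grF A p)).Exact) :
    (∀ p : ℤ, (S.map ((FilD.IsFinFil A).ι ⋙ (evaluation ℤᵒᵖ A).obj (op p))).Exact) ∧
      FilD.IsStrict S.f ∧ FilD.IsStrict S.g := by
  have hfg : ∀ p : ℤ, S.f.hom.app (op p) ≫ S.g.hom.app (op p) = 0 := by
    intro p
    have h2 := congrArg (fun t => t.hom.app (op p)) S.zero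
    exact h2
  have hgr : ∀ (p : ℤ) ⦃T : A⦄ (y : T ⟶ S.X₂.obj.obj (op p)),
      y ≫ S.g.hom.app (op p) ≫ grπ S.X₃.obj p = 0 →
      ∃ (T' : A) (π : T' ⟶ T) (_ : Epi π) (x : T' ⟶ S.X₁.obj.obj (op p))
        (y₁ : T' ⟶ S.X₂.obj.obj (op (p + 1))),
        π ≫ y = x ≫ S.f.hom.app (op p) + y₁ ≫ S.X₂.obj.map (FilD.stepHom p) := by
    intro p T y hy
    have h1 : (y ≫ grπ S.X₂.obj p) ≫ (FilD.gr A p).map S.g.hom = 0 := by
      rw [Category.assoc, grπ_map]; exact hy
    have hex : ∀ ⦃T : A⦄ (x₂ : T ⟶ (FilD.gr A p).obj S.X₂.obj),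
        x₂ ≫ (FilD.gr A p).map S.g.hom = 0 →
        ∃ (T' : A) (π : T' ⟶ T) (_ : Epi π) (x₁ : T' ⟶ (FilD.gr A p).obj S.X₁.obj),
          π ≫ x₂ = x₁ ≫ (FilD.gr A p).map S.f.hom :=
      (ShortComplex.exact_iff_exact_up_to_refinements _).1 (hS p)
    obtain ⟨T₁, π₁, hπ₁, xb, hxb⟩ := hex (y ≫ grπ S.X₂.obj p) h1
    obtain ⟨T₂, π₂, hπ₂, x, hx⟩ := surjective_up_to_refinements_of_epi (grπ S.X₁.obj p) xb
    have hm : Mono (S.X₂.obj.map (FilD.stepHom p)) := S.X₂.property.1 _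
    have h3 : (π₂ ≫ π₁ ≫ y - x ≫ S.f.hom.app (op p)) ≫ grπ S.X₂.obj p = 0 := by
      rw [Preadditive.sub_comp, sub_eq_zero]
      simp only [Category.assoc]
      rw [hxb, ← grπ_map, ← Category.assoc, hx, Category.assoc]
    obtain ⟨y₁, hy₁⟩ := exists_lift_of_grπ_eq_zero S.X₂.obj p _ h3
    refine ⟨T₂, π₂ ≫ π₁, epi_comp _ _, x, y₁, ?_⟩
    rw [hy₁]
    simp
  -- exactness at each level
  have hP : ∀ (p : ℤ) ⦃T : A⦄ (y : T ⟶ S.X₂.obj.obj (op p)), y ≫ S.g.hom.app (op p) = 0 →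
      ∃ (T' : A) (π : T' ⟶ T) (_ : Epi π) (x : T' ⟶ S.X₁.obj.obj (op p)),
        π ≫ y = x ≫ S.f.hom.app (op p) := by
    obtain ⟨b, hb⟩ := S.X₂.property.2.1
    suffices hmain : ∀ (n : ℕ) (p : ℤ), b ≤ p + n → ∀ ⦃T : A⦄ (y : T ⟶ S.X₂.obj.obj (op p)),
        y ≫ S.g.hom.app (op p) = 0 →
        ∃ (T' : A) (π : T' ⟶ T) (_ : Epi π) (x : T' ⟶ S.X₁.obj.obj (op p)),
          π ≫ y = x ≫ S.f.hom.app (op p) by
      intro p
      exact hmain (b - p).toNat p (by omega)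
    intro n
    induction n with
    | zero =>
      intro p hp T y _
      have hy0 : y = 0 := (hb p (by simpa using hp)).eq_of_tgt _ _
      exact ⟨T, 𝟙 T, inferInstance, 0, by rw [hy0]; simp⟩
    | succ n ih =>
      intro p hp T y hy
      have hy' : y ≫ S.g.hom.app (op p) ≫ grπ S.X₃.obj p = 0 := by
        rw [← Category.assoc, hy, zero_comp]
      obtain ⟨T₁, π₁, hπ₁, x, y₁, hxy⟩ := hgr p y hy'
      have hmZ : Mono (S.X₃.obj.map (FilD.stepHom p)) := S.X₃.property.1 _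
      have hy₁ : y₁ ≫ S.g.hom.app (op (p + 1)) = 0 := by
        rw [← cancel_mono (S.X₃.obj.map (FilD.stepHom p)), Category.assoc,
          ← S.g.hom.naturality (FilD.stepHom p), zero_comp]
        have h5 : (π₁ ≫ y) ≫ S.g.hom.app (op p) = 0 := by
          rw [Category.assoc, hy, comp_zero]
        rw [hxy, Preadditive.add_comp, Category.assoc, hfg, comp_zero, zero_add,
          Category.assoc] at h5
        exact h5
      obtain ⟨T₂, π₂, hπ₂, x₁, hx₁⟩ := ih (p + 1) (by push_cast at hp; omega) y₁ hy₁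
      refine ⟨T₂, π₂ ≫ π₁, epi_comp _ _, π₂ ≫ x + x₁ ≫ S.X₁.obj.map (FilD.stepHom p), ?_⟩
      rw [Category.assoc, hxy, Preadditive.comp_add, ← Category.assoc π₂ y₁, hx₁,
        Preadditive.add_comp]
      simp only [Category.assoc]
      rw [S.f.hom.naturality (FilD.stepHom p)]
  refine ⟨?_, ?_, ?_⟩
  · intro p
    rw [ShortComplex.exact_iff_exact_up_to_refinements]
    exact hP p
  · rw [strict_iff]
    intro p q h T x y hxy
    have hmZ : Mono (S.X₃.obj.map (homOfLE h).op) := S.X₃.property.1 _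
    have hy : y ≫ S.g.hom.app (op q) = 0 := by
      rw [← cancel_mono (S.X₃.obj.map (homOfLE h).op), Category.assoc,
        ← S.g.hom.naturality (homOfLE h).op, ← Category.assoc, ← hxy, Category.assoc, hfg,
        comp_zero, zero_comp]
    obtain ⟨T', π, hπ, x', hx'⟩ := hP q y hy
    exact ⟨T', π, hπ, x', hx'.symm⟩
  · apply strict_of_step
    intro p T y hy
    obtain ⟨T₁, π₁, hπ₁, x, y₁, hxy⟩ := hgr p y hy
    refine ⟨T₁, π₁, hπ₁, y₁, ?_⟩
    rw [← Category.assoc π₁, hxy, Preadditive.add_comp, Category.assoc x, hfg, comp_zero,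
      zero_add, Category.assoc]

end Groth.Agent.S1085
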