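import Groth.Statements.S0970
import Groth.Agent.Lib.Helper22.ResI
import Groth.Agent.Lib.Helper22.OpCx

set_option autoImplicit false
universe v u
open CategoryTheory
open CohDer

namespace Groth.Agent.S0970

open Opposite Groth.Agent.Helper22.OpCx

/-- Let P be a class of objects in an abelian category containing a zero object and such that every
object is a quotient of an object in P. For a cochain complex K vanishing in degrees above a there
is a quasi-isomorphism Q ⟶ K, surjective in each degree, where Q has all terms in P and also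
vanishes above degree a. -/
theorem result {A : Type u} [Category.{v} A] [Abelian A] (P : A → Prop)
    (hP0 : ∃ Z : A, Limits.IsZero Z ∧ P Z) (hP : ∀ X : A, ∃ (Y : A) (π : Y ⟶ X), P Y ∧ Epi π)
    (K : CochainComplex A ℤ) (a : ℤ) [K.IsStrictlyLE a] :
    ∃ (Q : CochainComplex A ℤ) (α : Q ⟶ K), Q.IsStrictlyLE a ∧ (∀ n, P (Q.X n)) ∧ (∀ n, Epi (α.f n)) ∧ QuasiIso α := by
  haveI : (opCx K).IsStrictlyGE (-a) := opCx_isStrictlyGE K a (-a) (by omega)
  obtain ⟨Z, hZ, hPZ⟩ := hP0
  obtain ⟨L, α, h1, h2, h3, h4⟩ := Groth.Agent.Helper22.ResI.general (opCx K)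
    (fun X : Aᵒᵖ => P (unop X)) ⟨op Z, hZ.op, hPZ⟩ (fun X => by
      obtain ⟨Y, π, hY, hπ⟩ := hP (unop X)
      exact ⟨op Y, (show X ⟶ op Y from π.op), hY, (inferInstance : Mono π.op)⟩) (-a)
  haveI := h1
  haveI := h4
  refine ⟨unopCx L, unopMap α ≫ (η K).hom, unopCx_isStrictlyLE L (-a) a (by omega),
    fun n => h2 (-n), fun n => ?_, ?_⟩
  · have e1 : (unopMap α ≫ (η K).hom).f n = (α.f (-n)).unop ≫ ((η K).hom.f n) := rfl
    rw [e1]
    haveI := h3 (-n)
    have hE1 : Epi (α.f (-n)).unop := unop_epi_of_mono (α.f (-n))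
    have hI2 : IsIso ((η K).hom.f n) := inferInstance
    have hE2 : Epi ((η K).hom.f n) := inferInstance
    exact epi_comp' hE1 hE2
  · haveI := quasiIso_unopMap α
    infer_instance

end Groth.Agent.S0970
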