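import Groth.Statements.S15634

set_option autoImplicit false
universe u
open SchFin SchFin.RSpace

namespace Groth.Agent.S15634aux

open SchFin TensorProduct

set_option backward.isDefEq.respectTransparency false
set_option backward.isDefEq.respectTransparency.types false

theorem core {R S T : Type u} [CommRing R] [CommRing S] [CommRing T] [Algebra R S]
    {H H' : Type u} [AddCommGroup H] [AddCommGroup H'] [Module R H] [Module R H'] [Module S H']
    [IsScalarTower R S H'] (ρ : H →ₗ[R] H') (hbc : IsBaseChange S ρ) (ev : H →ₗ[R] S)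
    (xs : S → H) (hxs : ∀ s, ev (xs s) = s) (hkey : ∀ s, s • ρ (xs 1) = ρ (xs s))
    (g₁ g₂ : S →+* T) (hg : ∀ r, g₁ (algebraMap R S r) = g₂ (algebraMap R S r)) : g₁ = g₂ := by
  letI : Module R T := Module.compHom T (g₁.comp (algebraMap R S))
  have hsm : ∀ (c : R) (t : T), c • t = g₁ (algebraMap R S c) * t := fun _ _ => rfl
  let β : S →ₗ[R] H →ₗ[R] T := LinearMap.mk₂ R (fun (s' : S) (x : H) => g₁ s' * g₂ (ev x))
    (fun m₁ m₂ n => by rw [map_add, add_mul])
    (fun c m n => by rw [hsm, Algebra.smul_def, map_mul, mul_assoc])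
    (fun m n₁ n₂ => by rw [map_add, map_add, mul_add])
    (fun c m n => by rw [hsm, map_smul, Algebra.smul_def, map_mul, ← hg, mul_left_comm])
  apply RingHom.ext
  intro s
  have e1 : hbc.equiv (s ⊗ₜ[R] xs 1) = hbc.equiv ((1 : S) ⊗ₜ[R] xs s) := by
    rw [IsBaseChange.equiv_tmul, IsBaseChange.equiv_tmul, one_smul]
    exact hkey s
  have e2 : s ⊗ₜ[R] xs 1 = (1 : S) ⊗ₜ[R] xs s := hbc.equiv.injective e1
  have e3 := congrArg (TensorProduct.lift β) e2
  rw [TensorProduct.lift.tmul, TensorProduct.lift.tmul] at e3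
  have e4 : g₁ s * g₂ (ev (xs 1)) = g₁ 1 * g₂ (ev (xs s)) := e3
  rw [hxs, hxs, map_one, map_one, mul_one, one_mul] at e4
  exact e4

/-- the 0-chain at a point -/
def pt0 (X : RSpace.{u}) {U : Set X.pt} (q : U) : Chain U 0 :=
  { toFun := fun _ => q
    inj' := fun i j _ => Fin.ext (by have := i.isLt; have := j.isLt; omega)
    map_rel_iff' := fun {i j} => ⟨fun _ => le_of_eq (Fin.ext (by have := i.isLt; have := j.isLt; omega)),
      fun _ => le_refl _⟩ }

/-- the 0-cochain of restrictions of an element of the ring of a point below all of `U` -/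
def cst (X : RSpace.{u}) {b : X.pt} (U : Set X.pt) (hU : ∀ q ∈ U, b ≤ q) {R : Type u} [CommRing R]
    (φ : Coef X U R) (s : X.ring b) : Cochain φ X.str 0 :=
  fun σ => X.res (hU _ (σ (Fin.last 0)).2) s

theorem cst_cocycle (X : RSpace.{u}) {b : X.pt} (U : Set X.pt) (hU : ∀ q ∈ U, b ≤ q) {R : Type u}
    [CommRing R] (φ : Coef X U R) (s : X.ring b) : cst X U hU φ s ∈ cocycles φ X.str 0 := by
  show diff φ X.str 0 (cst X U hU φ s) = 0
  funext τ
  show (∑ j : Fin (0 + 2), ((-1 : ℤ) ^ (j : ℕ)) • (cst X U hU φ s).faceVal τ j) = 0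
  have hv : ∀ j : Fin 2, (cst X U hU φ s).faceVal τ j = X.res (hU _ (τ (Fin.last 1)).2) s :=
    fun j => X.res_comp _ _ s
  rw [Fin.sum_univ_two, hv, hv]
  simp

theorem main (X : RSpace.{u}) (hX : X.IsSchematic) {a b : X.pt} (h : a ≤ b) {T : Type u}
    [CommRing T] (g₁ g₂ : X.ring b →+* T) (hg : g₁.comp (X.res h) = g₂.comp (X.res h)) :
    g₁ = g₂ := by
  have hbc := (hX.2.2 0 a b h b b (le_refl b)).1
  let U : Set X.pt := (Hom.id X).wedge a b
  let U' : Set X.pt := (Hom.id X).wedge b b
  have hU : ∀ q ∈ U, b ≤ q := fun q hq => hq.2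
  have hU' : ∀ q ∈ U', b ≤ q := fun q hq => hq.2
  let φ : Coef X U (X.ring a) := Coef.ofLE a U ((Hom.id X).wedge_subset_up a b)
  let φ' : Coef X U' (X.ring b) := Coef.ofLE b U' ((Hom.id X).wedge_subset_up b b)
  letI : Algebra (X.ring a) (X.ring b) := (X.res h).toAlgebra
  letI : Module (X.ring a) (H φ' X.str 0) := Module.compHom _ (X.res h)
  haveI : IsScalarTower (X.ring a) (X.ring b) (H φ' X.str 0) :=
    IsScalarTower.of_algebraMap_smul fun _ _ => rfl
  let ρ : H φ X.str 0 →ₗ[X.ring a] H φ' X.str 0 :=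
    { toFun := resH X.str ((Hom.id X).subSrc h b) 0
      map_add' := (resH X.str ((Hom.id X).subSrc h b) 0).map_add
      map_smul' := (resH X.str ((Hom.id X).subSrc h b) 0).map_smulₛₗ }
  have hbc' : IsBaseChange (X.ring b) ρ := hbc
  let bU : U := ⟨b, h, le_refl b⟩
  let evc : ↥(cocycles φ X.str 0) →ₗ[X.ring a] X.ring b :=
    { toFun := fun c => c.1 (pt0 X bU)
      map_add' := fun _ _ => rfl
      map_smul' := fun _ _ => rfl }
  let ev : H φ X.str 0 →ₗ[X.ring a] X.ring b := Submodule.liftQ _ evc (by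
    intro c hc
    have h0 : c.1 = 0 := (Submodule.mem_bot (X.ring a)).1 hc
    show c.1 (pt0 X bU) = 0
    rw [h0]
    rfl)
  let xs : X.ring b → H φ X.str 0 := fun s =>
    H.mk φ X.str 0 ⟨cst X U hU φ s, cst_cocycle X U hU φ s⟩
  let xs' : X.ring b → H φ' X.str 0 := fun s =>
    H.mk φ' X.str 0 ⟨cst X U' hU' φ' s, cst_cocycle X U' hU' φ' s⟩
  have hρ : ∀ t, ρ (xs t) = xs' t := fun t => rfl
  refine core ρ hbc' ev xs (fun s => ?_) (fun s => ?_) g₁ g₂ (fun r => RingHom.congr_fun hg r)
  · show X.res _ s = s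
    exact X.res_self b s
  · rw [hρ, hρ]
    show s • H.mk φ' X.str 0 ⟨cst X U' hU' φ' 1, cst_cocycle X U' hU' φ' 1⟩ =
      H.mk φ' X.str 0 ⟨cst X U' hU' φ' s, cst_cocycle X U' hU' φ' s⟩
    rw [← map_smul]
    congr 1
    apply Subtype.ext
    funext τ
    show X.res _ s * X.res _ (1 : X.ring b) = X.res _ s
    rw [map_one, mul_one]

end Groth.Agent.S15634aux

namespace Groth.Agent.S15634

open SchFin in
/-- In a schematic finite space the restriction maps of rings along x ≤ y are epimorphisms of rings: two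
ring maps out of the ring of y into a commutative ring which agree after composition with the
restriction map from the ring of x are equal. (The published statement also asserts flatness of the
restriction maps, which here is part of the standing finite-space condition, and a second clause for
affine spaces recalled without proof; only the epimorphism clause, the degree-zero case of the
schematic condition, is stated.) -/
theorem result (X : RSpace.{u}) (hX : X.IsSchematic) {x y : X.pt} (h : x ≤ y)
    {T : Type u} [CommRing T] (g₁ g₂ : X.ring y →+* T) (hg : g₁.comp (X.res h) = g₂.comp (X.res h)) :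
    g₁ = g₂ := by
  exact Groth.Agent.S15634aux.main X hX h g₁ g₂ hg

end Groth.Agent.S15634
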