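import Groth.Statements.S9161
import Mathlib

set_option autoImplicit false
universe u
open CAlg

namespace Groth.Agent.S9161

/-- If two two-term complexes of R-modules A₁ → A₀ and B₁ → B₀ are homotopy equivalent (maps of
complexes both ways whose composites are homotopic to the identity maps), then A₁ ⊕ B₀ and B₁ ⊕ A₀
are isomorphic R-modules. -/
theorem result (R : Type u) [CommRing R]
    (A₁ A₀ B₁ B₀ : Type u) [AddCommGroup A₁] [Module R A₁] [AddCommGroup A₀] [Module R A₀]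
    [AddCommGroup B₁] [Module R B₁] [AddCommGroup B₀] [Module R B₀]
    (dA : A₁ →ₗ[R] A₀) (dB : B₁ →ₗ[R] B₀) (φ₁ : A₁ →ₗ[R] B₁) (φ₀ : A₀ →ₗ[R] B₀)
    (ψ₁ : B₁ →ₗ[R] A₁) (ψ₀ : B₀ →ₗ[R] A₀) (hφ : dB ∘ₗ φ₁ = φ₀ ∘ₗ dA) (hψ : dA ∘ₗ ψ₁ = ψ₀ ∘ₗ dB)
    (h : A₀ →ₗ[R] A₁) (hh₁ : LinearMap.id - ψ₁ ∘ₗ φ₁ = h ∘ₗ dA) (hh₀ : LinearMap.id - ψ₀ ∘ₗ φ₀ = dA ∘ₗ h)
    (h' : B₀ →ₗ[R] B₁) (hh'₁ : LinearMap.id - φ₁ ∘ₗ ψ₁ = h' ∘ₗ dB)
    (hh'₀ : LinearMap.id - φ₀ ∘ₗ ψ₀ = dB ∘ₗ h') :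
    Nonempty ((A₁ × B₀) ≃ₗ[R] (B₁ × A₀)) := by
  have eφ : ∀ x, dB (φ₁ x) = φ₀ (dA x) := fun x => LinearMap.congr_fun hφ x
  have eψ : ∀ y, dA (ψ₁ y) = ψ₀ (dB y) := fun y => LinearMap.congr_fun hψ y
  have e1 : ∀ x, ψ₁ (φ₁ x) = x - h (dA x) := fun x => by
    have := LinearMap.congr_fun hh₁ x
    simp only [LinearMap.sub_apply, LinearMap.id_coe, id_eq, LinearMap.coe_comp,
      Function.comp_apply] at this
    rw [← this]; abel
  have e0 : ∀ a, ψ₀ (φ₀ a) = a - dA (h a) := fun a => by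
    have := LinearMap.congr_fun hh₀ a
    simp only [LinearMap.sub_apply, LinearMap.id_coe, id_eq, LinearMap.coe_comp,
      Function.comp_apply] at this
    rw [← this]; abel
  have e1' : ∀ y, φ₁ (ψ₁ y) = y - h' (dB y) := fun y => by
    have := LinearMap.congr_fun hh'₁ y
    simp only [LinearMap.sub_apply, LinearMap.id_coe, id_eq, LinearMap.coe_comp,
      Function.comp_apply] at this
    rw [← this]; abel
  have e0' : ∀ b, φ₀ (ψ₀ b) = b - dB (h' b) := fun b => by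
    have := LinearMap.congr_fun hh'₀ b
    simp only [LinearMap.sub_apply, LinearMap.id_coe, id_eq, LinearMap.coe_comp,
      Function.comp_apply] at this
    rw [← this]; abel
  let F : (A₁ × B₀) →ₗ[R] (B₁ × A₀) :=
    LinearMap.prod (φ₁.coprod h') ((-dA).coprod ψ₀)
  let G : (B₁ × A₀) →ₗ[R] (A₁ × B₀) :=
    LinearMap.prod (ψ₁.coprod (-h)) (dB.coprod φ₀)
  have hF : ∀ a b, F (a, b) = (φ₁ a + h' b, -dA a + ψ₀ b) := fun a b => by
    simp [F, LinearMap.prod_apply, LinearMap.coprod_apply]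
  have hG : ∀ b a, G (b, a) = (ψ₁ b - h a, dB b + φ₀ a) := fun b a => by
    simp [G, LinearMap.prod_apply, LinearMap.coprod_apply, sub_eq_add_neg]
  have hGF : ∀ a b, G (F (a, b)) = (a + (ψ₁ (h' b) - h (ψ₀ b)), b) := by
    intro a b
    rw [hF, hG]
    refine Prod.ext ?_ ?_
    · simp only [map_add, map_neg, e1]
      abel
    · simp only [map_add, map_neg, eφ, e0']
      abel
  have hFG : ∀ b a, F (G (b, a)) = (b + (h' (φ₀ a) - φ₁ (h a)), a) := by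
    intro b a
    rw [hG, hF]
    refine Prod.ext ?_ ?_
    · simp only [map_add, map_sub, e1']
      abel
    · simp only [map_add, map_sub, eψ, e0]
      abel
  refine ⟨LinearEquiv.ofBijective F ⟨?_, ?_⟩⟩
  · rw [← LinearMap.ker_eq_bot, LinearMap.ker_eq_bot']
    rintro ⟨a, b⟩ hab
    have := hGF a b
    rw [hab, map_zero] at this
    have hb : b = 0 := (congrArg Prod.snd this).symm
    have ha := congrArg Prod.fst this
    simp only [hb, map_zero, sub_zero, add_zero, Prod.fst_zero] at ha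
    rw [← ha, hb]
    rfl
  · rintro ⟨b, a⟩
    refine ⟨G (b - (h' (φ₀ a) - φ₁ (h a)), a), ?_⟩
    rw [hFG]
    simp

end Groth.Agent.S9161
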