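import Groth.Statements.S4580
import Mathlib
import Groth.Agent.Lib.Helper26.JacobianCrit

set_option autoImplicit false
set_option linter.style.haveILetI false
universe u
open EGA41

namespace Groth.Agent.S4580

section General

open TensorProduct Groth.Agent.Helper26.JacobianCrit

variable {R B : Type u} [CommRing R] [CommRing B] [Algebra R B] (J q : Ideal B) [q.IsPrime]
  [(q.map (Ideal.Quotient.mk J)).IsPrime]

omit [q.IsPrime] [(q.map (Ideal.Quotient.mk J)).IsPrime] in
theorem comap_eq (hJq : J ≤ q) :
    q = (q.map (Ideal.Quotient.mk J)).comap (Ideal.Quotient.mk J) := by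
  rw [Ideal.comap_map_of_surjective _ Ideal.Quotient.mk_surjective, ← RingHom.ker_eq_comap_bot,
    Ideal.mk_ker, sup_eq_left.mpr hJq]

omit [q.IsPrime] [(q.map (Ideal.Quotient.mk J)).IsPrime] in
theorem mk_mem_iff (hJq : J ≤ q) (x : B) :
    Ideal.Quotient.mk J x ∈ q.map (Ideal.Quotient.mk J) ↔ x ∈ q := by
  constructor
  · intro h
    rw [comap_eq J q hJq]
    exact Ideal.mem_comap.mpr h
  · exact fun h => Ideal.mem_map_of_mem _ h

/-- The canonical map `B_q → (B/J)_{q/J}`. -/
noncomputable def ρ₀ (hJq : J ≤ q) :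
    Localization.AtPrime q →+* Localization.AtPrime (q.map (Ideal.Quotient.mk J)) :=
  Localization.localRingHom q _ (Ideal.Quotient.mk J) (comap_eq J q hJq)

theorem ρ₀_algebraMap (hJq : J ≤ q) (b : B) :
    ρ₀ J q hJq (algebraMap B (Localization.AtPrime q) b) =
      algebraMap B (Localization.AtPrime (q.map (Ideal.Quotient.mk J))) b := by
  rw [ρ₀, Localization.localRingHom_to_map,
    IsScalarTower.algebraMap_apply B (B ⧸ J) (Localization.AtPrime (q.map (Ideal.Quotient.mk J)))]
  rfl

theorem ρ₀_surjective (hJq : J ≤ q) : Function.Surjective (ρ₀ J q hJq) := by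
  intro y
  obtain ⟨c, s, rfl⟩ := IsLocalization.exists_mk'_eq (q.map (Ideal.Quotient.mk J)).primeCompl y
  obtain ⟨b, rfl⟩ := Ideal.Quotient.mk_surjective c
  obtain ⟨t, ht⟩ := Ideal.Quotient.mk_surjective (s : B ⧸ J)
  have htq : t ∈ q.primeCompl := by
    intro htq
    apply s.2
    rw [← ht]; exact Ideal.mem_map_of_mem _ htq
  refine ⟨IsLocalization.mk' _ b ⟨t, htq⟩, ?_⟩
  rw [ρ₀, Localization.localRingHom_mk']
  congr 1
  exact Subtype.ext ht

theorem ker_ρ₀ (hJq : J ≤ q) :
    RingHom.ker (ρ₀ J q hJq) = J.map (algebraMap B (Localization.AtPrime q)) := by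
  apply le_antisymm
  · intro x hx
    obtain ⟨b, t, rfl⟩ := IsLocalization.exists_mk'_eq q.primeCompl x
    rw [RingHom.mem_ker, ρ₀, Localization.localRingHom_mk', IsLocalization.mk'_eq_zero_iff] at hx
    obtain ⟨s', hs'⟩ := hx
    obtain ⟨s, hs⟩ := Ideal.Quotient.mk_surjective (s' : B ⧸ J)
    have hsq : s ∈ q.primeCompl := by
      intro hsq; apply s'.2; rw [← hs]; exact Ideal.mem_map_of_mem _ hsq
    rw [IsLocalization.mk'_mem_map_algebraMap_iff]
    refine ⟨s, hsq, ?_⟩
    rw [← Ideal.Quotient.eq_zero_iff_mem, map_mul, hs]; exact hs'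
  · rw [Ideal.map_le_iff_le_comap]
    intro j hj
    rw [Ideal.mem_comap, RingHom.mem_ker, ρ₀, Localization.localRingHom_to_map,
      Ideal.Quotient.eq_zero_iff_mem.mpr hj, map_zero]

theorem ρ₀_commutes (hJq : J ≤ q) (x : R) :
    ρ₀ J q hJq (algebraMap R (Localization.AtPrime q) x) =
      algebraMap R (Localization.AtPrime (q.map (Ideal.Quotient.mk J))) x := by
  rw [IsScalarTower.algebraMap_apply R B (Localization.AtPrime q), ρ₀_algebraMap,
    ← IsScalarTower.algebraMap_apply]

/-- Backward direction (general formally smooth `B`). -/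
theorem bwd [Algebra.FormallySmooth R B] (hJq : J ≤ q) {m : ℕ} (f : Fin m → B)
    (D : Fin m → Derivation R B B)
    (hgen : J.map (algebraMap B (Localization.AtPrime q)) =
      Ideal.span (Set.range fun i => algebraMap B (Localization.AtPrime q) (f i)))
    (hdet : Matrix.det (Matrix.of fun i j => D j (f i)) ∉ q) :
    Algebra.FormallySmooth R (Localization.AtPrime (q.map (Ideal.Quotient.mk J))) := by
  letI : Algebra (Localization.AtPrime q) (Localization.AtPrime (q.map (Ideal.Quotient.mk J))) :=
    (ρ₀ J q hJq).toAlgebra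
  have halg : ∀ x, algebraMap (Localization.AtPrime q)
      (Localization.AtPrime (q.map (Ideal.Quotient.mk J))) x = ρ₀ J q hJq x := fun _ => rfl
  haveI : IsScalarTower R (Localization.AtPrime q)
      (Localization.AtPrime (q.map (Ideal.Quotient.mk J))) :=
    IsScalarTower.of_algebraMap_eq (fun x => by rw [halg, ρ₀_commutes])
  haveI : IsScalarTower B (Localization.AtPrime q)
      (Localization.AtPrime (q.map (Ideal.Quotient.mk J))) :=
    IsScalarTower.of_algebraMap_eq (fun x => by rw [halg, ρ₀_algebraMap])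
  have hsurj : Function.Surjective (algebraMap (Localization.AtPrime q)
      (Localization.AtPrime (q.map (Ideal.Quotient.mk J)))) := ρ₀_surjective J q hJq
  have hker : RingHom.ker (algebraMap (Localization.AtPrime q)
      (Localization.AtPrime (q.map (Ideal.Quotient.mk J)))) =
      J.map (algebraMap B (Localization.AtPrime q)) := ker_ρ₀ J q hJq
  let e := KaehlerDifferential.tensorKaehlerEquivOfFormallyEtale R B (Localization.AtPrime q)
  let γ : Fin m → (Ω[B⁄R] →ₗ[B] Localization.AtPrime (q.map (Ideal.Quotient.mk J))) := fun j =>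
    (Algebra.linearMap B (Localization.AtPrime (q.map (Ideal.Quotient.mk J)))) ∘ₗ
      (D j).liftKaehlerDifferential
  let γ' : Fin m → (Ω[Localization.AtPrime q⁄R] →ₗ[Localization.AtPrime q]
      Localization.AtPrime (q.map (Ideal.Quotient.mk J))) := fun j =>
    ((γ j).liftBaseChange (Localization.AtPrime q)) ∘ₗ e.symm.toLinearMap
  let lam : Fin m → ((Localization.AtPrime (q.map (Ideal.Quotient.mk J))) ⊗[Localization.AtPrime q]
      Ω[Localization.AtPrime q⁄R] →ₗ[Localization.AtPrime (q.map (Ideal.Quotient.mk J))]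
      Localization.AtPrime (q.map (Ideal.Quotient.mk J))) := fun j =>
    (γ' j).liftBaseChange (Localization.AtPrime (q.map (Ideal.Quotient.mk J)))
  have hlam : ∀ i j, lam j ((1 : Localization.AtPrime (q.map (Ideal.Quotient.mk J)))
      ⊗ₜ[Localization.AtPrime q] KaehlerDifferential.D R (Localization.AtPrime q)
        (algebraMap B (Localization.AtPrime q) (f i))) =
      algebraMap B (Localization.AtPrime (q.map (Ideal.Quotient.mk J))) (D j (f i)) := by
    intro i j
    simp only [lam, γ', γ, e, LinearMap.liftBaseChange_tmul, one_smul, LinearMap.comp_apply,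
      LinearEquiv.coe_coe, KaehlerDifferential.tensorKaehlerEquivOfFormallyEtale_symm_D_algebraMap,
      Derivation.liftKaehlerDifferential_comp_D, Algebra.linearMap_apply]
  refine formallySmooth_of_functionals (R := R) hsurj
    (fun i => algebraMap B (Localization.AtPrime q) (f i)) ?_ lam ?_
  · rw [hker, hgen]
  · have hmat : (Matrix.of fun i j => lam j ((1 : Localization.AtPrime (q.map (Ideal.Quotient.mk J)))
        ⊗ₜ[Localization.AtPrime q] KaehlerDifferential.D R (Localization.AtPrime q)
          (algebraMap B (Localization.AtPrime q) (f i)))) =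
        (algebraMap B (Localization.AtPrime (q.map (Ideal.Quotient.mk J)))).mapMatrix
          (Matrix.of fun i j => D j (f i)) := by
      ext i j; exact hlam i j
    rw [hmat, ← RingHom.map_det,
      IsScalarTower.algebraMap_apply B (B ⧸ J) (Localization.AtPrime (q.map (Ideal.Quotient.mk J)))]
    exact IsLocalization.map_units (Localization.AtPrime (q.map (Ideal.Quotient.mk J)))
      (⟨Ideal.Quotient.mk J (Matrix.det (Matrix.of fun i j => D j (f i))),
        fun h => hdet ((mk_mem_iff J q hJq _).mp h)⟩ : (q.map (Ideal.Quotient.mk J)).primeCompl)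

/-- Forward direction (general formally smooth `B`, `J` finitely generated). -/
theorem fwd [Algebra.FormallySmooth R B] (hJq : J ≤ q) (hJfg : J.FG)
    [Algebra.FormallySmooth R (Localization.AtPrime (q.map (Ideal.Quotient.mk J)))] :
    ∃ (m : ℕ) (f : Fin m → B) (D : Fin m → Derivation R B B), (∀ i, f i ∈ J) ∧
      J.map (algebraMap B (Localization.AtPrime q)) =
        Ideal.span (Set.range fun i => algebraMap B (Localization.AtPrime q) (f i)) ∧
      Matrix.det (Matrix.of fun i j => D j (f i)) ∉ q := by
  classical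
  letI : Algebra (Localization.AtPrime q) (Localization.AtPrime (q.map (Ideal.Quotient.mk J))) :=
    (ρ₀ J q hJq).toAlgebra
  have halg : ∀ x, algebraMap (Localization.AtPrime q)
      (Localization.AtPrime (q.map (Ideal.Quotient.mk J))) x = ρ₀ J q hJq x := fun _ => rfl
  haveI : IsScalarTower R (Localization.AtPrime q)
      (Localization.AtPrime (q.map (Ideal.Quotient.mk J))) :=
    IsScalarTower.of_algebraMap_eq (fun x => by rw [halg, ρ₀_commutes])
  haveI : IsScalarTower B (Localization.AtPrime q)
      (Localization.AtPrime (q.map (Ideal.Quotient.mk J))) :=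
    IsScalarTower.of_algebraMap_eq (fun x => by rw [halg, ρ₀_algebraMap])
  have hsurj : Function.Surjective (algebraMap (Localization.AtPrime q)
      (Localization.AtPrime (q.map (Ideal.Quotient.mk J)))) := ρ₀_surjective J q hJq
  have hker : RingHom.ker (algebraMap (Localization.AtPrime q)
      (Localization.AtPrime (q.map (Ideal.Quotient.mk J)))) =
      J.map (algebraMap B (Localization.AtPrime q)) := ker_ρ₀ J q hJq
  have hfg : (RingHom.ker (algebraMap (Localization.AtPrime q)
      (Localization.AtPrime (q.map (Ideal.Quotient.mk J))))).FG := by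
    rw [hker]; exact hJfg.map _
  have hjac : RingHom.ker (algebraMap (Localization.AtPrime q)
      (Localization.AtPrime (q.map (Ideal.Quotient.mk J)))) ≤ Ideal.jacobson ⊥ := by
    rw [IsLocalRing.jacobson_eq_maximalIdeal ⊥ bot_ne_top]
    exact IsLocalRing.le_maximalIdeal (RingHom.ker_ne_top _)
  have hs : Ideal.span (Set.range fun x : J => algebraMap B (Localization.AtPrime q) x) =
      RingHom.ker (algebraMap (Localization.AtPrime q)
        (Localization.AtPrime (q.map (Ideal.Quotient.mk J)))) := by
    rw [hker, Ideal.map]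
    congr 1
    ext y
    simp
  obtain ⟨m, a, lam, hlam, hspan⟩ := exists_basis_and_functionals (R := R) hsurj hfg hjac
    (fun x : J => algebraMap B (Localization.AtPrime q) x) hs
  -- projectivity of `Ω[B⁄R]`
  obtain ⟨sec, hsec⟩ := Module.projective_def'.mp (inferInstance : Module.Projective B Ω[B⁄R])
  let Λ : Fin m → (Ω[B⁄R] →ₗ[B] Localization.AtPrime (q.map (Ideal.Quotient.mk J))) := fun j =>
    (((lam j).restrictScalars (Localization.AtPrime q)) ∘ₗ
      (TensorProduct.mk (Localization.AtPrime q) (Localization.AtPrime (q.map (Ideal.Quotient.mk J)))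
        Ω[Localization.AtPrime q⁄R] 1)).restrictScalars B ∘ₗ
      (KaehlerDifferential.map R R B (Localization.AtPrime q))
  have hΛ : ∀ j x, Λ j x = lam j ((1 : Localization.AtPrime (q.map (Ideal.Quotient.mk J)))
      ⊗ₜ[Localization.AtPrime q] KaehlerDifferential.map R R B (Localization.AtPrime q) x) :=
    fun j x => rfl
  let ω : Fin m → Ω[B⁄R] := fun i => KaehlerDifferential.D R B (a i : B)
  have hΛω : ∀ i j, Λ j (ω i) = if i = j then 1 else 0 := by
    intro i j
    rw [hΛ, KaehlerDifferential.map_D]
    exact hlam i j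
  let T : Finset Ω[B⁄R] := Finset.univ.biUnion (fun i => (sec (ω i)).support)
  let Y : Finset (Localization.AtPrime (q.map (Ideal.Quotient.mk J))) :=
    (Finset.univ ×ˢ T).image (fun jx : Fin m × Ω[B⁄R] => Λ jx.1 jx.2)
  obtain ⟨t, ht⟩ := IsLocalization.exist_integer_multiples_of_finset
    (q.map (Ideal.Quotient.mk J)).primeCompl Y
  obtain ⟨s₀, hs₀⟩ := Ideal.Quotient.mk_surjective (t : B ⧸ J)
  have hs₀q : s₀ ∉ q := fun h => t.2 (by rw [← hs₀]; exact Ideal.mem_map_of_mem _ h)
  have hs₀u : IsUnit (algebraMap B (Localization.AtPrime (q.map (Ideal.Quotient.mk J))) s₀) := by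
    rw [IsScalarTower.algebraMap_apply B (B ⧸ J)
      (Localization.AtPrime (q.map (Ideal.Quotient.mk J)))]
    exact IsLocalization.map_units (Localization.AtPrime (q.map (Ideal.Quotient.mk J)))
      (⟨Ideal.Quotient.mk J s₀, fun h => hs₀q ((mk_mem_iff J q hJq _).mp h)⟩ :
        (q.map (Ideal.Quotient.mk J)).primeCompl)
  have hb : ∀ (j : Fin m) (x : Ω[B⁄R]), ∃ b : B, x ∈ T →
      algebraMap B (Localization.AtPrime (q.map (Ideal.Quotient.mk J))) b =
        algebraMap B (Localization.AtPrime (q.map (Ideal.Quotient.mk J))) s₀ * Λ j x := by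
    intro j x
    by_cases hx : x ∈ T
    · have hy : Λ j x ∈ Y := Finset.mem_image.mpr ⟨(j, x), by simp [hx], rfl⟩
      obtain ⟨c, hc⟩ := ht _ hy
      obtain ⟨b, rfl⟩ := Ideal.Quotient.mk_surjective c
      refine ⟨b, fun _ => ?_⟩
      rw [IsScalarTower.algebraMap_apply B (B ⧸ J)
        (Localization.AtPrime (q.map (Ideal.Quotient.mk J))),
        IsScalarTower.algebraMap_apply B (B ⧸ J)
        (Localization.AtPrime (q.map (Ideal.Quotient.mk J))) s₀]
      show algebraMap (B ⧸ J) _ (Ideal.Quotient.mk J b) = algebraMap (B ⧸ J) _ (Ideal.Quotient.mk J s₀) * _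
      rw [hc, hs₀, Algebra.smul_def]
    · exact ⟨0, fun h => absurd h hx⟩
  choose β hβ using hb
  let δ : Fin m → (Ω[B⁄R] →ₗ[B] B) := fun j => (Finsupp.linearCombination B (β j)) ∘ₗ sec
  let D' : Fin m → Derivation R B B := fun j => (δ j).compDer (KaehlerDifferential.D R B)
  have hkey : ∀ i j, algebraMap B (Localization.AtPrime (q.map (Ideal.Quotient.mk J)))
      (D' j (a i : B)) =
      algebraMap B (Localization.AtPrime (q.map (Ideal.Quotient.mk J))) s₀ * Λ j (ω i) := by
    intro i j
    obtain ⟨c, hc⟩ : ∃ c, c = sec (ω i) := ⟨_, rfl⟩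
    have h1 : D' j (a i : B) = Finsupp.linearCombination B (β j) c := by rw [hc]; rfl
    have h2 : ω i = Finsupp.linearCombination B id c := by
      rw [hc]; exact (LinearMap.congr_fun hsec (ω i)).symm
    rw [h1, h2, Finsupp.linearCombination_apply, Finsupp.linearCombination_apply, Finsupp.sum,
      Finsupp.sum, map_sum, map_sum, Finset.mul_sum]
    refine Finset.sum_congr rfl fun x hx => ?_
    have hxT : x ∈ T := Finset.mem_biUnion.mpr ⟨i, Finset.mem_univ _, by rw [← hc]; exact hx⟩
    rw [smul_eq_mul, map_mul, hβ j x hxT, id, map_smul, Algebra.smul_def]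
    ring
  refine ⟨m, fun i => (a i : B), D', fun i => (a i).2, hker ▸ hspan.symm, ?_⟩
  intro hdq
  have hmat : (algebraMap B (Localization.AtPrime (q.map (Ideal.Quotient.mk J)))).mapMatrix
      (Matrix.of fun i j => D' j (a i : B)) =
      (algebraMap B (Localization.AtPrime (q.map (Ideal.Quotient.mk J))) s₀) •
        (1 : Matrix (Fin m) (Fin m) (Localization.AtPrime (q.map (Ideal.Quotient.mk J)))) := by
    ext i j
    rw [RingHom.mapMatrix_apply, Matrix.map_apply, Matrix.of_apply, hkey, hΛω, Matrix.smul_apply,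
      Matrix.one_apply, smul_eq_mul]
  have hu : IsUnit (algebraMap B (Localization.AtPrime (q.map (Ideal.Quotient.mk J)))
      (Matrix.det (Matrix.of fun i j => D' j (a i : B)))) := by
    rw [RingHom.map_det, hmat, Matrix.det_smul, Matrix.det_one, mul_one]
    exact hs₀u.pow _
  rw [IsScalarTower.algebraMap_apply B (B ⧸ J) (Localization.AtPrime (q.map (Ideal.Quotient.mk J))),
    IsLocalization.AtPrime.isUnit_to_map_iff (Localization.AtPrime (q.map (Ideal.Quotient.mk J)))
      (q.map (Ideal.Quotient.mk J))] at hu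
  exact hu (Ideal.mem_map_of_mem _ hdq)

end General

/-- Let k₀ be a field, k a separable (formally smooth) extension field of k₀, B = k[T_1, ..., T_r], J an
ideal of B and q a prime of B containing J, with image p in C = B/J. Then C_p is formally smooth
over k₀ for the discrete topologies if and only if there exist f_1, ..., f_m ∈ J whose images
generate J B_q and k₀-derivations D_1, ..., D_m of B with det(D_j f_i) ∉ q. -/
theorem result {k₀ k : Type u} [Field k₀] [Field k] [Algebra k₀ k]
    [Algebra.FormallySmooth k₀ k] (r : ℕ) (J q : Ideal (MvPolynomial (Fin r) k)) [q.IsPrime] (hJq : J ≤ q)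
    [(q.map (Ideal.Quotient.mk J)).IsPrime] :
    Algebra.FormallySmooth k₀ (Localization.AtPrime (q.map (Ideal.Quotient.mk J))) ↔
      ∃ (m : ℕ) (f : Fin m → MvPolynomial (Fin r) k) (D : Fin m → Derivation k₀ (MvPolynomial (Fin r) k) (MvPolynomial (Fin r) k)),
        (∀ i, f i ∈ J) ∧
        J.map (algebraMap (MvPolynomial (Fin r) k) (Localization.AtPrime q)) =
          Ideal.span (Set.range fun i => algebraMap (MvPolynomial (Fin r) k) (Localization.AtPrime q) (f i)) ∧
        Matrix.det (Matrix.of fun i j => D j (f i)) ∉ q := by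
  haveI : Algebra.FormallySmooth k₀ (MvPolynomial (Fin r) k) := Algebra.FormallySmooth.comp k₀ k _
  constructor
  · intro h
    obtain ⟨m, f, D, h1, h2, h3⟩ := fwd (R := k₀) J q hJq (IsNoetherian.noetherian J)
    exact ⟨m, f, D, h1, h2, h3⟩
  · rintro ⟨m, f, D, -, hgen, hdet⟩
    exact bwd (R := k₀) J q hJq f D hgen hdet

end Groth.Agent.S4580
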