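import Groth.Statements.S9452
import Mathlib

set_option linter.style.haveILetI false

set_option autoImplicit false
universe u
open Unram

namespace Groth.Agent.S9452

open TensorProduct in
/-- Let R → S be of finite type and unramified at a prime q lying over p. Then there are an étale
R-algebra R', a prime p' of R' over p and an R'-algebra isomorphism e : R' ⊗_R S ≅ A × B with R' → A
surjective and p'A a prime ideal of A lying over p' whose pull-back along S → R' ⊗_R S ≅ A × B → A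
is q. -/
theorem result (R : Type u) [CommRing R]
    (S : Type u) [CommRing S] [Algebra R S] [Algebra.FiniteType R S] (q : Ideal S) [q.IsPrime]
    [Algebra.IsUnramifiedAt R q] :
    ∃ (R' : Type u) (_ : CommRing R') (_ : Algebra R R') (_ : Algebra.Etale R R') (p' : Ideal R')
      (_ : p'.IsPrime) (_ : p'.LiesOver (q.under R)) (A : Type u) (_ : CommRing A) (_ : Algebra R' A)
      (B : Type u) (_ : CommRing B) (_ : Algebra R' B) (e : (R' ⊗[R] S) ≃ₐ[R'] (A × B)),
      Function.Surjective (algebraMap R' A) ∧ (p'.map (algebraMap R' A)).IsPrime ∧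
        (p'.map (algebraMap R' A)).comap (algebraMap R' A) = p' ∧
        (p'.map (algebraMap R' A)).comap (((RingHom.fst A B).comp e.toRingHom).comp
          (Algebra.TensorProduct.includeRight : S →ₐ[R] R' ⊗[R] S).toRingHom) = q := by
  classical
  obtain ⟨f, hfq, P, φ, hφ⟩ :=
    Algebra.IsUnramifiedAt.exists_hasStandardEtaleSurjectionOn (R := R) q
  haveI : Algebra.FinitePresentation S (Localization.Away f) :=
    IsLocalization.Away.finitePresentation f
  haveI : Algebra.FormallyEtale S (Localization.Away f) :=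
    Algebra.FormallyEtale.of_isLocalization (Submonoid.powers f)
  obtain ⟨Φ', hΦ'⟩ : ∃ Φ' : S ⊗[R] P.Ring →ₐ[S] Localization.Away f,
      Φ' = Algebra.TensorProduct.productLeftAlgHom (Algebra.ofId S (Localization.Away f)) φ :=
    ⟨_, rfl⟩
  have hΦ'tmul : ∀ (s : S) (x : P.Ring),
      Φ' (s ⊗ₜ[R] x) = algebraMap S (Localization.Away f) s * φ x := by
    intro s x
    rw [hΦ', Algebra.TensorProduct.lift_tmul]
    rfl
  have hΦ'surj : Function.Surjective Φ' := by
    intro y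
    obtain ⟨x, rfl⟩ := hφ y
    exact ⟨1 ⊗ₜ x, by rw [hΦ'tmul, map_one, one_mul]⟩
  letI algT' : Algebra (S ⊗[R] P.Ring) (Localization.Away f) := Φ'.toRingHom.toAlgebra
  haveI : IsScalarTower S (S ⊗[R] P.Ring) (Localization.Away f) :=
    IsScalarTower.of_algebraMap_eq' Φ'.comp_algebraMap.symm
  haveI : Algebra.FormallyEtale (S ⊗[R] P.Ring) (Localization.Away f) :=
    Algebra.FormallyEtale.of_restrictScalars (R := S)
  have hidem : IsIdempotentElem
      (RingHom.ker (algebraMap (S ⊗[R] P.Ring) (Localization.Away f))) :=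
    (Algebra.FormallyEtale.iff_of_surjective hΦ'surj).mp inferInstance
  have hfg : (RingHom.ker (algebraMap (S ⊗[R] P.Ring) (Localization.Away f))).FG :=
    Algebra.FinitePresentation.ker_fG_of_surjective Φ' hΦ'surj
  obtain ⟨e', he', hK'⟩ := (Ideal.isIdempotentElem_iff_of_fg _ hfg).mp hidem
  obtain ⟨c, hc⟩ : ∃ c : S ⊗[R] P.Ring ≃ₐ[R] P.Ring ⊗[R] S,
      c = Algebra.TensorProduct.comm R S P.Ring := ⟨_, rfl⟩
  have hcsymm : ∀ (x : P.Ring) (s : S), c.symm (x ⊗ₜ[R] s) = s ⊗ₜ[R] x := by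
    intro x s; rw [hc]; rfl
  obtain ⟨Φ, hΦ⟩ : ∃ Φ : P.Ring ⊗[R] S →+* Localization.Away f,
      Φ = (Φ' : S ⊗[R] P.Ring →+* Localization.Away f).comp
        (c.symm : P.Ring ⊗[R] S →+* S ⊗[R] P.Ring) := ⟨_, rfl⟩
  have hΦapply : ∀ t, Φ t = Φ' (c.symm t) := by intro t; rw [hΦ]; rfl
  have hΦtmul : ∀ (x : P.Ring) (s : S),
      Φ (x ⊗ₜ[R] s) = algebraMap S (Localization.Away f) s * φ x := by
    intro x s; rw [hΦapply, hcsymm, hΦ'tmul]
  obtain ⟨e, he_def⟩ : ∃ e : P.Ring ⊗[R] S, e = c e' := ⟨_, rfl⟩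
  have he : IsIdempotentElem e := by
    rw [he_def]; exact he'.map c
  have hker : ∀ t : P.Ring ⊗[R] S, Φ t = 0 ↔ t ∈ Ideal.span {e} := by
    intro t
    have h1 : Φ t = 0 ↔ c.symm t ∈ Ideal.span {e'} := by
      rw [hΦapply]
      have : c.symm t ∈ RingHom.ker (algebraMap (S ⊗[R] P.Ring) (Localization.Away f)) ↔
          Φ' (c.symm t) = 0 := RingHom.mem_ker
      rw [← this, hK']
    rw [h1, Ideal.mem_span_singleton', Ideal.mem_span_singleton']
    constructor
    · rintro ⟨y, hy⟩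
      exact ⟨c y, by rw [he_def, ← map_mul, hy, AlgEquiv.apply_symm_apply]⟩
    · rintro ⟨y, hy⟩
      exact ⟨c.symm y, by rw [← hy, he_def, map_mul, AlgEquiv.symm_apply_apply]⟩
  have he1 : e + (1 - e) = 1 := by ring
  have he2 : e * (1 - e) = 0 := by rw [mul_sub, mul_one, he.eq, sub_self]
  obtain ⟨eqv, heqv⟩ : ∃ eqv : (P.Ring ⊗[R] S) ≃ₐ[P.Ring]
      ((P.Ring ⊗[R] S) ⧸ Ideal.span {e}) × ((P.Ring ⊗[R] S) ⧸ Ideal.span {1 - e}),
      eqv = AlgEquiv.prodQuotientOfIsIdempotentElem (R := P.Ring) he he.one_sub he1 he2 :=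
    ⟨_, rfl⟩
  have heqv_fst : ∀ t, (eqv t).1 = Ideal.Quotient.mk _ t := by intro t; rw [heqv]; rfl
  have halg : ∀ x : P.Ring, algebraMap P.Ring ((P.Ring ⊗[R] S) ⧸ Ideal.span {e}) x =
      Ideal.Quotient.mk _ (x ⊗ₜ[R] (1 : S)) := by
    intro x
    rw [IsScalarTower.algebraMap_apply P.Ring (P.Ring ⊗[R] S)
      ((P.Ring ⊗[R] S) ⧸ Ideal.span {e}), Algebra.TensorProduct.algebraMap_apply,
      Ideal.Quotient.algebraMap_eq]
    rfl
  obtain ⟨Φb, hΦb⟩ : ∃ Φb : ((P.Ring ⊗[R] S) ⧸ Ideal.span {e}) →+* Localization.Away f,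
      ∀ t, Φb (Ideal.Quotient.mk _ t) = Φ t :=
    ⟨Ideal.Quotient.lift _ Φ (fun t ht => (hker t).mpr ht), fun t => Ideal.Quotient.lift_mk _ _ _⟩
  have hsurjA : Function.Surjective
      (algebraMap P.Ring ((P.Ring ⊗[R] S) ⧸ Ideal.span {e})) := by
    intro a
    obtain ⟨t, rfl⟩ := Ideal.Quotient.mk_surjective a
    obtain ⟨x, hx⟩ := hφ (Φ t)
    refine ⟨x, ?_⟩
    rw [halg, Ideal.Quotient.eq, ← hker, map_sub, hΦtmul, map_one, one_mul, hx, sub_self]
  have hΦbalg : ∀ x : P.Ring, Φb (algebraMap P.Ring _ x) = φ x := by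
    intro x; rw [halg, hΦb, hΦtmul, map_one, one_mul]
  have hdisj : Disjoint (Submonoid.powers f : Set S) (q : Set S) :=
    (Ideal.disjoint_powers_iff_notMem_of_isPrime f).mpr hfq
  obtain ⟨qf, hqf⟩ : ∃ qf : Ideal (Localization.Away f),
      qf = q.map (algebraMap S (Localization.Away f)) := ⟨_, rfl⟩
  haveI hqfprime : qf.IsPrime := by
    rw [hqf]
    exact IsLocalization.isPrime_of_isPrime_disjoint (Submonoid.powers f) _ _ ‹q.IsPrime› hdisj
  have hqfcomap : ∀ s : S, algebraMap S (Localization.Away f) s ∈ qf ↔ s ∈ q := by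
    intro s
    have h1 : qf.under S = q := by
      rw [hqf]
      exact IsLocalization.under_map_of_isPrime_disjoint (Submonoid.powers f) _ ‹q.IsPrime› hdisj
    rw [← h1, Ideal.under_def, Ideal.mem_comap]
  obtain ⟨p', hp'⟩ : ∃ p' : Ideal P.Ring,
      p' = qf.comap (φ : P.Ring →+* Localization.Away f) := ⟨_, rfl⟩
  have hp'mem : ∀ x, x ∈ p' ↔ φ x ∈ qf := by intro x; rw [hp', Ideal.mem_comap]; rfl
  haveI hp'prime : p'.IsPrime := by rw [hp']; exact Ideal.comap_isPrime _ _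
  have hlies : p'.LiesOver (q.under R) := by
    refine ⟨Ideal.ext fun r => ?_⟩
    rw [Ideal.under_def, Ideal.mem_comap, Ideal.under_def, Ideal.mem_comap, hp'mem,
      AlgHom.commutes, ← hqfcomap, ← IsScalarTower.algebraMap_apply]
  obtain ⟨PA, hPA⟩ : ∃ PA : Ideal ((P.Ring ⊗[R] S) ⧸ Ideal.span {e}), PA = qf.comap Φb :=
    ⟨_, rfl⟩
  haveI hPAprime : PA.IsPrime := by rw [hPA]; exact Ideal.comap_isPrime _ _
  have hPAcomap : PA.comap (algebraMap P.Ring _) = p' := by
    ext x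
    rw [Ideal.mem_comap, hPA, Ideal.mem_comap, hΦbalg, hp'mem]
  have hmap : p'.map (algebraMap P.Ring ((P.Ring ⊗[R] S) ⧸ Ideal.span {e})) = PA := by
    rw [← hPAcomap]; exact Ideal.map_comap_of_surjective _ hsurjA PA
  refine ⟨P.Ring, inferInstance, inferInstance, inferInstance, p', hp'prime, hlies,
    (P.Ring ⊗[R] S) ⧸ Ideal.span {e}, inferInstance, inferInstance,
    (P.Ring ⊗[R] S) ⧸ Ideal.span {1 - e}, inferInstance, inferInstance, eqv, hsurjA, ?_, ?_, ?_⟩
  · rw [hmap]; exact hPAprime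
  · rw [hmap]; exact hPAcomap
  · rw [hmap]
    ext s
    rw [Ideal.mem_comap]
    have : (((RingHom.fst _ _).comp eqv.toRingHom).comp
        (Algebra.TensorProduct.includeRight : S →ₐ[R] P.Ring ⊗[R] S).toRingHom) s =
        Ideal.Quotient.mk _ ((1 : P.Ring) ⊗ₜ[R] s) := by
      show (eqv ((1 : P.Ring) ⊗ₜ[R] s)).1 = _
      exact heqv_fst _
    rw [this, hPA, Ideal.mem_comap, hΦb, hΦtmul, map_one, mul_one, hqfcomap]

end Groth.Agent.S9452
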