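import Groth.Statements.S9826
import Groth.Agent.Lead.FinType2
import Groth.Agent.Lead.QCoh6
-- import your own Groth.Agent.* helpers here

set_option autoImplicit false
universe u
open CategoryTheory CategoryTheory.Limits AlgebraicGeometry TopologicalSpace Opposite
open Props

namespace Groth.Agent.S9826


section
open Groth.Agent.Lead.QCoh Groth.Agent.Lead.FinType

theorem toTop_add (R : CommRingCat.{u}) (M : ModuleCat.{u} R) (x y : M) :
    toTop R M (x + y) = toTop R M x + toTop R M y := map_add (tilde.toOpen M ⊤).hom x y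

theorem finite_of_isFT (R : CommRingCat.{u}) (M : ModuleCat.{u} R)
    (h : CohB1.IsFT (tilde M)) :
    Module.Finite R M := by
  classical
  have h1 : Module.Finite Γ(Spec R, (⊤ : (Spec R).Opens)) Γ(tilde M, (⊤ : (Spec R).Opens)) :=
    finite_sections_of_isFiniteType (tilde M) (isAffineOpen_top (Spec R))
  rw [Module.finite_def] at h1 ⊢
  obtain ⟨S, hS⟩ := h1
  let e := Equiv.ofBijective (toTop R M) (toTop_bijective R M)
  refine ⟨S.image e.symm, ?_⟩
  rw [eq_top_iff]
  rintro x -
  have key : ∀ t ∈ Submodule.span Γ(Spec R, (⊤ : (Spec R).Opens)) (S : Set Γ(tilde M, (⊤ : (Spec R).Opens))),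
      ∃ x' ∈ Submodule.span R ((S.image e.symm : Finset M) : Set M), toTop R M x' = t := by
    intro t ht
    induction ht using Submodule.span_induction with
    | mem t ht =>
      refine ⟨e.symm t, Submodule.subset_span ?_, e.apply_symm_apply t⟩
      exact Finset.mem_coe.mpr (Finset.mem_image_of_mem _ ht)
    | zero => exact ⟨0, Submodule.zero_mem _, toTop_zero R M⟩
    | add a b _ _ ha hb =>
      obtain ⟨xa, hxa, rfl⟩ := ha
      obtain ⟨xb, hxb, rfl⟩ := hb
      exact ⟨xa + xb, Submodule.add_mem _ hxa hxb, toTop_add R M xa xb⟩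
    | smul a t _ ht =>
      obtain ⟨xt, hxt, rfl⟩ := ht
      obtain ⟨a', rfl⟩ := (specΓ_bijective R).2 a
      exact ⟨a' • xt, Submodule.smul_mem _ _ hxt, (specΓ_smul_toTop R M a' xt).symm⟩
  obtain ⟨x', hx', hxx⟩ := key (toTop R M x) (by rw [hS]; trivial)
  rw [← (toTop_bijective R M).1 hxx]
  exact hx'

set_option backward.isDefEq.respectTransparency false in
theorem isFT_of_finite (R : CommRingCat.{u}) (M : ModuleCat.{u} R) (h : Module.Finite R M) :
    CohB1.IsFT (tilde M) := by
  classical
  obtain ⟨S, hS⟩ := h.fg_top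
  let I : Type u := {x : M // x ∈ S}
  let p : (I →₀ R) →ₗ[R] M := Finsupp.linearCombination R (fun i : I => (i : M))
  have hp : Function.Surjective p := by
    rw [← LinearMap.range_eq_top, Finsupp.range_linearCombination, ← hS]
    congr 1
    ext x
    simp [I]
  let pc : ModuleCat.of R (I →₀ R) ⟶ M := ModuleCat.ofHom p
  haveI : Epi pc := (ModuleCat.epi_iff_surjective pc).mpr hp
  haveI : Epi ((tilde.functor R).map pc) := inferInstance
  let π : (SheafOfModules.free (R := (Spec R).ringCatSheaf) I : (Spec R).Modules) ⟶ tilde M :=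
    (tildeFinsupp I).inv ≫ (tilde.functor R).map pc
  have hπ : Epi π := by
    have h1 : IsIso (tildeFinsupp (R := R) I).inv := Iso.isIso_inv _
    have h2 : Epi (tildeFinsupp (R := R) I).inv := @IsIso.epi_of_iso _ _ _ _ _ h1
    exact @epi_comp _ _ _ _ _ _ h2 _ ‹_›
  let G : SheafOfModules.GeneratingSections (R := (Spec R).ringCatSheaf) (tilde M) :=
    { I := I
      s := SheafOfModules.freeHomEquiv (R := (Spec R).ringCatSheaf) (tilde M) π
      epi := by rw [Equiv.symm_apply_apply]; exact hπ }
  haveI : G.IsFiniteType := ⟨(inferInstance : Finite I)⟩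
  have hσ : SheafOfModules.LocalGeneratorsData.IsFiniteType.{u,u,u,u}
      (R := (Spec R).ringCatSheaf) (M := tilde M) (G.localGeneratorsData) := by
    constructor
    intro x
    show (G.map _ _).IsFiniteType
    infer_instance
  unfold CohB1.IsFT
  constructor
  exact Exists.intro G.localGeneratorsData hσ

end

/-- The sheaf associated to a module over a ring is of finite type on the spectrum if and only if the
module is finitely generated. -/
theorem result (R : CommRingCat.{u}) (M : ModuleCat.{u} R) :
    CohB1.IsFT (tilde M) ↔ Module.Finite R M := by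
  exact ⟨finite_of_isFT R M, isFT_of_finite R M⟩

end Groth.Agent.S9826
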