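import Groth.Statements.S9831
import Groth.Agent.Lead.Extend
-- import your own Groth.Agent.* helpers here

set_option autoImplicit false
universe u
open CategoryTheory CategoryTheory.Limits AlgebraicGeometry TopologicalSpace Opposite
open Props

namespace Groth.Agent.S9831


section
open Groth.Agent.Lead.QCoh Groth.Agent.Lead.Extend

set_option backward.isDefEq.respectTransparency false in
theorem main9831 {X : Scheme.{u}} [CompactSpace X] [QuasiSeparatedSpace X] (U : X.Opens)
    (hU : IsCompact (U : Set X)) (G : (U : Scheme.{u}).Modules) [G.IsQuasicoherent]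
    (hG : SheafOfModules.IsFiniteType.{u, u, u} (R := (U : Scheme.{u}).ringCatSheaf) G) :
    ∃ G' : X.Modules, G'.IsQuasicoherent ∧
      SheafOfModules.IsFiniteType.{u, u, u} (R := X.ringCatSheaf) G' ∧
      Nonempty (G'.restrict U.ι ≅ G) := by
  haveI : CompactSpace U := isCompact_iff_compactSpace.mp hU
  haveI : QuasiCompact U.ι := inferInstance
  let adj := Scheme.Modules.restrictAdjunction U.ι
  haveI : ((Scheme.Modules.pushforward U.ι).obj G).IsQuasicoherent :=
    isQuasicoherent_pushforward U.ι G
  haveI : IsIso (adj.counit.app G) :=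
    inferInstanceAs (IsIso ((Scheme.Modules.restrictAdjunction U.ι).counit.app G))
  obtain ⟨F, i, e, -, h2, h3, -⟩ := Groth.Agent.Lead.Extend.main U hU
    ((Scheme.Modules.pushforward U.ι).obj G) G hG (inv (adj.counit.app G))
  exact ⟨F, h2, h3, ⟨e⟩⟩
end

/-- On a quasi-compact quasi-separated scheme, a quasi-coherent module of finite type on a quasi-compact
open U is the restriction of a quasi-coherent module of finite type on the whole scheme. -/
theorem result {X : Scheme.{u}} [CompactSpace X]
    [QuasiSeparatedSpace X] (U : X.Opens) (hU : IsCompact (U : Set X)) (G : (U : Scheme.{u}).Modules)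
    [Coh.IsQCoh G] (hG : CohB1.IsFT G) :
    ∃ G' : X.Modules, Coh.IsQCoh G' ∧ CohB1.IsFT G' ∧ Nonempty (G'.restrict U.ι ≅ G) := by
  haveI hGq : G.IsQuasicoherent := ‹Coh.IsQCoh G›
  obtain ⟨G', h1, h2, h3⟩ := main9831 U hU G hG
  exact ⟨G', h1, h2, h3⟩

end Groth.Agent.S9831
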