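import Groth.Statements.S17553
import Mathlib

set_option autoImplicit false
universe u v w
open W4c5adicflatcompl
open CAlg

namespace Groth.Agent.S17553

/-- Let A be I-adically complete, M an I-adically complete A-module, Z a set and f : Z → M a function.
There is an A-linear map from the I-adically decaying functions Z → A to M whose value on g is the
I-adically convergent sum of the g z • f z. -/
theorem result {A : Type u} [CommRing A] (I : Ideal A) [IsAdicComplete I A]
    (Z : Type v) (M : Type w) [AddCommGroup M] [Module A M] [IsAdicComplete I M] (f : Z → M) :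
    ∃ φ : decaying I Z A →ₗ[A] M, ∀ (g : decaying I Z A) (n : ℕ), ∃ S : Finset Z,
      (∀ z, z ∉ S → (g : Z → A) z • f z ∈ (I ^ n • ⊤ : Submodule A M)) ∧
      φ g - (∑ z ∈ S, (g : Z → A) z • f z) ∈ (I ^ n • ⊤ : Submodule A M) := by
  classical
  have hmem : ∀ (n : ℕ) (a : A), a ∈ (I ^ n • ⊤ : Submodule A A) →
      ∀ m : M, a • m ∈ (I ^ n • ⊤ : Submodule A M) := by
    intro n a ha m
    refine Submodule.smul_induction_on ha (fun r hr x _ => ?_) (fun x y hx hy => ?_)
    · rw [smul_assoc]
      exact Submodule.smul_mem_smul hr Submodule.mem_top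
    · rw [add_smul]
      exact Submodule.add_mem _ hx hy
  have hsupp : ∀ (n : ℕ) (g : decaying I Z A),
      (Function.support fun z => Submodule.mkQ (I ^ n • ⊤ : Submodule A M)
        ((g : Z → A) z • f z)) ⊆ {z | (g : Z → A) z ∉ (I ^ n • ⊤ : Submodule A A)} := by
    intro n g z hz
    rw [Function.mem_support] at hz
    show (g : Z → A) z ∉ (I ^ n • ⊤ : Submodule A A)
    intro hcon
    apply hz
    rw [Submodule.mkQ_apply, Submodule.Quotient.mk_eq_zero]
    exact hmem n _ hcon _
  have hfin : ∀ (n : ℕ) (g : decaying I Z A), Function.HasFiniteSupport fun z =>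
      Submodule.mkQ (I ^ n • ⊤ : Submodule A M) ((g : Z → A) z • f z) := by
    intro n g
    exact (g.2 n).subset (hsupp n g)
  let fn : ∀ n : ℕ, decaying I Z A →ₗ[A] M ⧸ (I ^ n • ⊤ : Submodule A M) := fun n =>
    { toFun := fun g => ∑ᶠ z, Submodule.mkQ (I ^ n • ⊤ : Submodule A M) ((g : Z → A) z • f z)
      map_add' := fun g g' => by
        rw [← finsum_add_distrib (hfin n g) (hfin n g')]
        refine finsum_congr fun z => ?_
        simp [add_smul]
      map_smul' := fun a g => by
        rw [RingHom.id_apply, smul_finsum' a (hfin n g)]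
        refine finsum_congr fun z => ?_
        simp [mul_smul] }
  have hcompat : ∀ {m n : ℕ} (hle : m ≤ n), Submodule.factorPow I M hle ∘ₗ fn n = fn m := by
    intro m n hle
    ext g
    show Submodule.factorPow I M hle (∑ᶠ z, Submodule.mkQ (I ^ n • ⊤ : Submodule A M)
      ((g : Z → A) z • f z)) = ∑ᶠ z, Submodule.mkQ (I ^ m • ⊤ : Submodule A M)
      ((g : Z → A) z • f z)
    have h1 := AddMonoidHom.map_finsum (Submodule.factorPow I M hle).toAddMonoidHom (hfin n g)
    rw [LinearMap.toAddMonoidHom_coe] at h1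
    rw [h1]
    refine finsum_congr fun z => ?_
    rfl
  refine ⟨IsAdicComplete.lift I fn hcompat, ?_⟩
  intro g n
  refine ⟨(g.2 n).toFinset, ?_, ?_⟩
  · intro z hz
    rw [Set.Finite.mem_toFinset] at hz
    have h1 : (g : Z → A) z ∈ (I ^ n • ⊤ : Submodule A A) := by
      by_contra h
      exact hz h
    exact hmem n _ h1 _
  · rw [← Submodule.Quotient.mk_eq_zero, Submodule.Quotient.mk_sub, IsAdicComplete.mk_lift]
    show (∑ᶠ z, Submodule.mkQ (I ^ n • ⊤ : Submodule A M) ((g : Z → A) z • f z)) - _ = 0
    rw [finsum_eq_sum_of_support_subset (s := (g.2 n).toFinset) _ ?_, sub_eq_zero]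
    · rw [← Submodule.mkQ_apply, map_sum]
    · intro z hz
      rw [Finset.mem_coe, Set.Finite.mem_toFinset]
      exact hsupp n g hz

end Groth.Agent.S17553
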