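import Groth.Statements.S9768
import Mathlib
import Groth.Agent.Lib.Helper24.FiberStalk
import Groth.Agent.Helper1.FlatLocalCM
import Groth.Agent.H29.FibTransport
import Groth.Agent.H29.DepthLib
import Groth.Agent.H29.RegLocal3

set_option autoImplicit false
universe u
open FlatMor

namespace Groth.Agent.S9768

section Helpers
open AlgebraicGeometry CategoryTheory Limits IsLocalRing

theorem arith9768 {c d : ℕ∞} {na nb : ℕ}
    (hc : (c : WithBot ℕ∞) ≤ (na : WithBot ℕ∞)) (hd : (d : WithBot ℕ∞) ≤ (nb : WithBot ℕ∞))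
    (h : (na : WithBot ℕ∞) + nb = ((c + d : ℕ∞) : WithBot ℕ∞)) :
    (na : WithBot ℕ∞) = c ∧ (nb : WithBot ℕ∞) = d := by
  have hc' : c ≤ (na : ℕ∞) := by exact_mod_cast hc
  have hd' : d ≤ (nb : ℕ∞) := by exact_mod_cast hd
  lift c to ℕ using ne_top_of_le_ne_top (ENat.coe_ne_top na) hc'
  lift d to ℕ using ne_top_of_le_ne_top (ENat.coe_ne_top nb) hd'
  have h' : na + nb = c + d := by exact_mod_cast h
  have hc'' : c ≤ na := by exact_mod_cast hc'
  have hd'' : d ≤ nb := by exact_mod_cast hd'
  have h1 : c = na := by omega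
  have h2 : d = nb := by omega
  subst h1 h2
  exact ⟨by norm_cast, by norm_cast⟩

/-- Descent of Cohen–Macaulayness along a flat local homomorphism of Noetherian local rings. -/
theorem cm_descent9768 (A C : Type u) [CommRing A] [CommRing C] [IsNoetherianRing A]
    [IsLocalRing A] [IsNoetherianRing C] [IsLocalRing C] [Algebra A C]
    [IsLocalHom (algebraMap A C)] [Module.Flat A C]
    (hC : LocCoh.IsCohenMacaulayLocalRing C) :
    LocCoh.IsCohenMacaulayLocalRing A ∧
      LocCoh.IsCohenMacaulayLocalRing (C ⧸ (maximalIdeal A).map (algebraMap A C)) := by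
  haveI : IsLocalRing (C ⧸ (maximalIdeal A).map (algebraMap A C)) :=
    Groth.Agent.Helper1.CMAscent.isLocalRing_quot A C
  have hdim := Groth.Agent.Helper1.FlatLocalCM.dim_eq_add A C
    ((maximalIdeal A).map (algebraMap A C)) rfl
  have hdep := Groth.Agent.Helper1.FlatLocalCM.depth_eq_add A C
    ((maximalIdeal A).map (algebraMap A C)) rfl
  have hCM := hC.supportDim_eq_depth
  rw [Module.supportDim_self_eq_ringKrullDim] at hCM
  have hc : ((LocCoh.depth A A : ℕ∞) : WithBot ℕ∞) ≤ ringKrullDim A := by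
    have := Groth.Agent.H29.depth_le_supportDim A A
    rwa [Module.supportDim_self_eq_ringKrullDim] at this
  have hd : ((LocCoh.depth (C ⧸ (maximalIdeal A).map (algebraMap A C))
      (C ⧸ (maximalIdeal A).map (algebraMap A C)) : ℕ∞) : WithBot ℕ∞) ≤
      ringKrullDim (C ⧸ (maximalIdeal A).map (algebraMap A C)) := by
    have := Groth.Agent.H29.depth_le_supportDim (C ⧸ (maximalIdeal A).map (algebraMap A C))
      (C ⧸ (maximalIdeal A).map (algebraMap A C))
    rwa [Module.supportDim_self_eq_ringKrullDim] at this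
  obtain ⟨na, hna⟩ := Groth.Agent.H29.ringKrullDim_eq_natCast_of_isLocalRing A
  obtain ⟨nb, hnb⟩ := Groth.Agent.H29.ringKrullDim_eq_natCast_of_isLocalRing
    (C ⧸ (maximalIdeal A).map (algebraMap A C))
  rw [hdim, hdep, hna, hnb] at hCM
  rw [hna] at hc
  rw [hnb] at hd
  obtain ⟨h1, h2⟩ := arith9768 hc hd hCM
  refine ⟨{ supportDim_eq_depth := ?_ }, { supportDim_eq_depth := ?_ }⟩
  · rw [Module.supportDim_self_eq_ringKrullDim, hna]; exact h1
  · rw [Module.supportDim_self_eq_ringKrullDim, hnb]; exact h2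

set_option backward.isDefEq.respectTransparency false in
theorem main9768 {X Y : Scheme.{u}} (f : X ⟶ Y) [IsLocallyNoetherian X] [IsLocallyNoetherian Y]
    [Flat f] (hX : ∀ x : X, LocCoh.IsCohenMacaulayLocalRing ↑(X.presheaf.stalk x)) (x : X) :
    MoreMor.IsCMAt f x ∧ LocCoh.IsCohenMacaulayLocalRing ↑(Y.presheaf.stalk (f x)) := by
  have hfl : (f.stalkMap x).hom.Flat := Flat.stalkMap f x
  obtain ⟨eq⟩ := Groth.Agent.Helper24.FiberStalk.fiberStalkQuot f x
  letI : Algebra (Y.presheaf.stalk (f x)) (X.presheaf.stalk x) := (f.stalkMap x).hom.toAlgebra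
  haveI : Module.Flat (Y.presheaf.stalk (f x)) (X.presheaf.stalk x) := hfl
  haveI : IsLocalHom (algebraMap (Y.presheaf.stalk (f x)) (X.presheaf.stalk x)) :=
    inferInstanceAs (IsLocalHom (f.stalkMap x).hom)
  obtain ⟨h1, h2⟩ := cm_descent9768 (Y.presheaf.stalk (f x)) (X.presheaf.stalk x) (hX x)
  exact ⟨⟨hfl, Groth.Agent.H29.FibTransport.cmLocal_of_ringEquiv eq.symm h2⟩, h1⟩

end Helpers

open AlgebraicGeometry CategoryTheory Limits in
/-- Suppose X and Y are locally Noetherian schemes, f : X ⟶ Y is flat, and every local ring of X is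
Cohen–Macaulay. Then at each point x of X the morphism f is Cohen–Macaulay (flat at x with
Cohen–Macaulay local ring of the fibre), and the local ring of Y at f x is Cohen–Macaulay. -/
theorem result {X Y : Scheme.{u}} (f : X ⟶ Y) [IsLocallyNoetherian X] [IsLocallyNoetherian Y] [Flat f]
    (hX : ∀ x : X, LocCoh.IsCohenMacaulayLocalRing ↑(X.presheaf.stalk x)) (x : X) :
    MoreMor.IsCMAt f x ∧ LocCoh.IsCohenMacaulayLocalRing ↑(Y.presheaf.stalk (f x)) := by
  exact main9768 f hX x

end Groth.Agent.S9768
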