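import Groth.Statements.S1346
import Mathlib
import Groth.Agent.S9768

set_option autoImplicit false
universe u
open FlatMor

namespace Groth.Agent.S1346

section Helpers
open AlgebraicGeometry CategoryTheory Limits IsLocalRing

set_option backward.isDefEq.respectTransparency false in
theorem main1346 {X Y X' Y' : Scheme.{u}} (f : X ⟶ Y)
    (hN : ∀ y : Y, IsLocallyNoetherian (f.fiber y))
    (f' : X' ⟶ Y') (g' : X' ⟶ X) (g : Y' ⟶ Y) (hc : IsPullback g' f' f g) (x' : X')
    (hflat : (f.stalkMap (g' x')).hom.Flat) (h : MoreMor.IsCMAt f' x') :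
    MoreMor.IsCMAt f (g' x') := by
  refine ⟨hflat, ?_⟩
  obtain ⟨-, hCM⟩ := h
  -- the residue field map is flat
  have hres : Flat (Spec.map (g.residueFieldMap (f' x'))) := by
    rw [HasRingHomProperty.Spec_iff (P := @Flat)]
    algebraize [(g.residueFieldMap (f' x')).hom]
    show Module.Flat (Y.residueField (g (f' x'))) (Y'.residueField (f' x'))
    infer_instance
  obtain ⟨Φ, pb, hΦι⟩ : ∃ Φ : f'.fiber (f' x') ⟶ f.fiber (g (f' x')),
      IsPullback Φ (f'.fiberToSpecResidueField (f' x'))
        (f.fiberToSpecResidueField (g (f' x'))) (Spec.map (g.residueFieldMap (f' x'))) ∧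
      Φ ≫ f.fiberι (g (f' x')) = f'.fiberι (f' x') ≫ g' := by
    refine ⟨_, isPullback_fiberToSpecResidueField_of_isPullback hc (f' x'), ?_⟩
    simp [Scheme.Hom.fiberι]
  have hΦ : Flat Φ := MorphismProperty.of_isPullback (P := @Flat) pb.flip hres
  have key : ∀ y (_ : y = f (g' x')), ∃ z : f.fiber y, f.fiberι y z = g' x' ∧
      Nonempty ((f.fiber y).presheaf.stalk z ≃+*
        (f.fiber (f (g' x'))).presheaf.stalk (f.asFiber (g' x'))) := by
    intro y ey
    subst ey
    exact ⟨f.asFiber (g' x'), f.fiberι_asFiber (g' x'), ⟨RingEquiv.refl _⟩⟩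
  have e : g (f' x') = f (g' x') := by
    have := congrArg (fun φ : X' ⟶ Y => φ.base x') hc.w
    exact this.symm
  obtain ⟨z, hz1, ⟨ez⟩⟩ := key _ e
  have h1 : f.fiberι (g (f' x')) (Φ (f'.asFiber x')) = g' x' := by
    show (Φ ≫ f.fiberι (g (f' x'))) (f'.asFiber x') = _
    rw [hΦι]
    show g' ((f'.fiberι (f' x')) (f'.asFiber x')) = _
    rw [Scheme.Hom.fiberι_asFiber]
  have hz : Φ (f'.asFiber x') = z :=
    (f.fiberι (g (f' x'))).isEmbedding.injective (h1.trans hz1.symm)
  subst hz
  haveI := hN (g (f' x'))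
  have hfl := Flat.stalkMap Φ (f'.asFiber x')
  letI : Algebra ((f.fiber (g (f' x'))).presheaf.stalk (Φ (f'.asFiber x')))
      ((f'.fiber (f' x')).presheaf.stalk (f'.asFiber x')) :=
    (Φ.stalkMap (f'.asFiber x')).hom.toAlgebra
  haveI : Module.Flat ((f.fiber (g (f' x'))).presheaf.stalk (Φ (f'.asFiber x')))
      ((f'.fiber (f' x')).presheaf.stalk (f'.asFiber x')) := hfl
  haveI : IsLocalHom (algebraMap ((f.fiber (g (f' x'))).presheaf.stalk (Φ (f'.asFiber x')))
      ((f'.fiber (f' x')).presheaf.stalk (f'.asFiber x'))) :=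
    inferInstanceAs (IsLocalHom (Φ.stalkMap (f'.asFiber x')).hom)
  haveI : IsNoetherianRing ((f'.fiber (f' x')).presheaf.stalk (f'.asFiber x')) := by
    haveI := hCM; infer_instance
  obtain ⟨h2, -⟩ := Groth.Agent.S9768.cm_descent9768
    ((f.fiber (g (f' x'))).presheaf.stalk (Φ (f'.asFiber x')))
    ((f'.fiber (f' x')).presheaf.stalk (f'.asFiber x')) hCM
  exact Groth.Agent.H29.FibTransport.cmLocal_of_ringEquiv ez h2

end Helpers

open AlgebraicGeometry CategoryTheory Limits in
/-- Let f have locally Noetherian fibres and let f' be its base change along a morphism locally of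
finite type. Given a point x' with image x, flatness of f at x together with the Cohen–Macaulay
property of f' at x' implies that f is Cohen–Macaulay at x. -/
theorem result {X Y X' Y' : Scheme.{u}} (f : X ⟶ Y) (hN : ∀ y : Y, IsLocallyNoetherian (f.fiber y))
    (f' : X' ⟶ Y') (g' : X' ⟶ X) (g : Y' ⟶ Y) [LocallyOfFiniteType g] (hc : IsPullback g' f' f g) (x' : X')
    (hflat : (f.stalkMap (g' x')).hom.Flat) (h : MoreMor.IsCMAt f' x') : MoreMor.IsCMAt f (g' x') := by
  exact main1346 f hN f' g' g hc x' hflat h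

end Groth.Agent.S1346
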