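import Groth.Statements.S1347
import Mathlib
import Groth.Agent.S1346
import Groth.Agent.Lib.Helper8.LocalCrit

set_option autoImplicit false
universe u
open FlatMor

namespace Groth.Agent.S1347

section Helpers
open AlgebraicGeometry CategoryTheory Limits IsLocalRing

/-- `Spec O_{X,x} ⟶ X` is flat. -/
theorem flat_fromSpecStalk1347 (X : Scheme.{u}) (x : X) : Flat (X.fromSpecStalk x) := by
  obtain ⟨U, hU, hxU, -⟩ := exists_isAffineOpen_mem_and_subset (x := x) (U := ⊤) trivial
  rw [← hU.fromSpecStalk_eq_fromSpecStalk hxU]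
  have h1 : Flat (Spec.map (X.presheaf.germ U x hxU)) := by
    rw [Flat.SpecMap_iff]
    letI : Algebra Γ(X, U) (X.presheaf.stalk x) := (X.presheaf.germ U x hxU).hom.toAlgebra
    haveI := hU.isLocalization_stalk ⟨x, hxU⟩
    exact IsLocalization.flat (X.presheaf.stalk x) (hU.primeIdealOf ⟨x, hxU⟩).asIdeal.primeCompl
  dsimp [IsAffineOpen.fromSpecStalk]
  infer_instance

/-- Descent of flatness along a flat local homomorphism. -/
theorem flat_descent1347 {A B C : Type u} [CommRing A] [CommRing B] [CommRing C]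
    [IsLocalRing B] [IsLocalRing C]
    (φ : A →+* B) (ψ : B →+* C) [IsLocalHom ψ] (hψ : ψ.Flat) (hc : (ψ.comp φ).Flat) :
    φ.Flat := by
  letI : Algebra A B := φ.toAlgebra
  letI : Algebra B C := ψ.toAlgebra
  letI : Algebra A C := (ψ.comp φ).toAlgebra
  haveI : IsScalarTower A B C := IsScalarTower.of_algebraMap_eq' rfl
  haveI : Module.Flat B C := hψ
  haveI : Module.Flat A C := hc
  haveI : IsLocalHom (algebraMap B C) := ‹IsLocalHom ψ›
  haveI : Module.FaithfullyFlat B C := Module.FaithfullyFlat.of_flat_of_isLocalHom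
  exact Groth.Agent.Helper8.LocalCrit.flat_of_faithfullyFlat_module (R := A) (S := B) (M := C)

set_option backward.isDefEq.respectTransparency false in
theorem flatBC_aux1347 {X Y X' Y' : Scheme.{u}} (f : X ⟶ Y) (f' : X' ⟶ Y') (g' : X' ⟶ X)
    (g : Y' ⟶ Y) (hc : IsPullback g' f' f g) (y' : Y') (hg : (g.stalkMap y').hom.Flat)
    (x'' : ↥(pullback f' (Y'.fromSpecStalk y'))) :
    (g'.stalkMap ((pullback.fst f' (Y'.fromSpecStalk y')) x'')).hom.Flat := by
  haveI hτ : Flat (Y'.fromSpecStalk y') := flat_fromSpecStalk1347 Y' y'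
  have hτg : Flat (Y'.fromSpecStalk y' ≫ g) := by
    rw [← Scheme.SpecMap_stalkMap_fromSpecStalk]
    haveI : Flat (Spec.map (g.stalkMap y')) := Flat.SpecMap_iff.mpr hg
    haveI := flat_fromSpecStalk1347 Y (g y')
    infer_instance
  haveI hfst : Flat (pullback.fst f' (Y'.fromSpecStalk y')) :=
    MorphismProperty.pullback_fst _ _ hτ
  have hpaste : IsPullback (pullback.fst f' (Y'.fromSpecStalk y') ≫ g')
      (pullback.snd f' (Y'.fromSpecStalk y')) f (Y'.fromSpecStalk y' ≫ g) :=
    (IsPullback.of_hasPullback f' (Y'.fromSpecStalk y')).paste_horiz hc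
  haveI hcomp : Flat (pullback.fst f' (Y'.fromSpecStalk y') ≫ g') :=
    MorphismProperty.of_isPullback (P := @Flat) hpaste.flip hτg
  have hA := Flat.stalkMap (pullback.fst f' (Y'.fromSpecStalk y') ≫ g') x''
  rw [Scheme.Hom.stalkMap_comp] at hA
  have hB := Flat.stalkMap (pullback.fst f' (Y'.fromSpecStalk y')) x''
  exact flat_descent1347 (g'.stalkMap ((pullback.fst f' (Y'.fromSpecStalk y')) x'')).hom
    ((pullback.fst f' (Y'.fromSpecStalk y')).stalkMap x'').hom hB hA

/-- Pointwise flat base change: in a cartesian square, if `g` is flat at `f' x'` then `g'` is flat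
at `x'`. -/
theorem flatBC_at1347 {X Y X' Y' : Scheme.{u}} (f : X ⟶ Y) (f' : X' ⟶ Y') (g' : X' ⟶ X)
    (g : Y' ⟶ Y) (hc : IsPullback g' f' f g) (x' : X') (hg : (g.stalkMap (f' x')).hom.Flat) :
    (g'.stalkMap x').hom.Flat := by
  obtain ⟨x'', h1, h2⟩ := Scheme.Pullback.exists_preimage_pullback (f := f')
    (g := Y'.fromSpecStalk (f' x')) x' (IsLocalRing.closedPoint _)
    (by rw [Scheme.fromSpecStalk_closedPoint])
  have := flatBC_aux1347 f f' g' g hc (f' x') hg x''
  rw [h1] at this
  exact this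

theorem main1347 {X Y X' Y' : Scheme.{u}} (f : X ⟶ Y)
    (hN : ∀ y : Y, IsLocallyNoetherian (f.fiber y))
    (f' : X' ⟶ Y') (g' : X' ⟶ X) (g : Y' ⟶ Y) (hc : IsPullback g' f' f g) (x' : X')
    (hflat : (g.stalkMap (f' x')).hom.Flat) (h : MoreMor.IsCMAt f' x') :
    MoreMor.IsCMAt f (g' x') := by
  have hg' := flatBC_at1347 f f' g' g hc x' hflat
  have h1 : ((f' ≫ g).stalkMap x').hom.Flat := by
    rw [Scheme.Hom.stalkMap_comp]; exact RingHom.Flat.comp hflat h.1
  have h2 : ((g' ≫ f).stalkMap x').hom.Flat := by rw [hc.w]; exact h1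
  rw [Scheme.Hom.stalkMap_comp] at h2
  have hf : (f.stalkMap (g' x')).hom.Flat :=
    flat_descent1347 (f.stalkMap (g' x')).hom (g'.stalkMap x').hom hg' h2
  exact Groth.Agent.S1346.main1346 f hN f' g' g hc x' hf h

end Helpers

open AlgebraicGeometry CategoryTheory Limits in
/-- Let f have locally Noetherian fibres and let f' be its base change along a morphism g locally of
finite type. Given a point x' at which f' is Cohen–Macaulay, with g flat at f'(x'), the morphism f
is Cohen–Macaulay at the image g'(x') of x'. -/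
theorem result {X Y X' Y' : Scheme.{u}} (f : X ⟶ Y) (hN : ∀ y : Y, IsLocallyNoetherian (f.fiber y))
    (f' : X' ⟶ Y') (g' : X' ⟶ X) (g : Y' ⟶ Y) [LocallyOfFiniteType g] (hc : IsPullback g' f' f g) (x' : X')
    (hflat : (g.stalkMap (f' x')).hom.Flat) (h : MoreMor.IsCMAt f' x') : MoreMor.IsCMAt f (g' x') := by
  exact main1347 f hN f' g' g hc x' hflat h

end Groth.Agent.S1347
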