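import Groth.Statements.S1412
import Mathlib
import Groth.Agent.S1347

set_option autoImplicit false
universe u
open FlatMor

namespace Groth.Agent.S1412

section Helpers
open AlgebraicGeometry CategoryTheory Limits IsLocalRing TensorProduct
open Groth.Agent.S1347

theorem weaklyEtale_fromSpecStalk1412 (X : Scheme.{u}) (x : X) :
    WeaklyEtale (X.fromSpecStalk x) := by
  haveI := flat_fromSpecStalk1347 X x
  exact { flat := inferInstance, flat_diagonal := inferInstance }

theorem diag_specMap1412 (A B : Type u) [CommRing A] [CommRing B] [Algebra A B] :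
    pullback.diagonal (Spec.map (CommRingCat.ofHom (algebraMap A B))) =
      Spec.map (CommRingCat.ofHom (Algebra.TensorProduct.lmul' A (S := B)).toRingHom) ≫
        (pullbackSpecIso A B B).inv := by
  apply pullback.hom_ext
  · rw [pullback.diagonal_fst, Category.assoc, pullbackSpecIso_inv_fst, ← Spec.map_comp,
      ← CommRingCat.ofHom_comp]
    have : (Algebra.TensorProduct.lmul' A (S := B)).toRingHom.comp
        Algebra.TensorProduct.includeLeftRingHom = RingHom.id B := by
      ext b
      simp
    rw [this]
    simp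
  · rw [pullback.diagonal_snd, Category.assoc, pullbackSpecIso_inv_snd, ← Spec.map_comp,
      ← CommRingCat.ofHom_comp]
    have : (Algebra.TensorProduct.lmul' A (S := B)).toRingHom.comp
        (RingHomClass.toRingHom (Algebra.TensorProduct.includeRight (R := A) (A := B) (B := B))) =
          RingHom.id B := by
      ext b
      simp
    rw [this]
    simp

theorem weaklyEtale_specMap_iff1412 (A B : Type u) [CommRing A] [CommRing B] [Algebra A B] :
    WeaklyEtale (Spec.map (CommRingCat.ofHom (algebraMap A B))) ↔
      (algebraMap A B).Flat ∧ (Algebra.TensorProduct.lmul' A (S := B)).toRingHom.Flat := by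
  rw [weaklyEtale_iff, diag_specMap1412, Flat.SpecMap_iff,
    MorphismProperty.cancel_right_of_respectsIso (P := @Flat), Flat.SpecMap_iff]
  exact Iff.rfl

set_option backward.isDefEq.respectTransparency false in
theorem stalk_iff1412 {X Y : Scheme.{u}} (f : X ⟶ Y) (x : X) :
    WeaklyEtale (Spec.map (f.stalkMap x)) ↔ ((f.stalkMap x).hom.Flat ∧
      (letI := (f.stalkMap x).hom.toAlgebra
       (Algebra.TensorProduct.lmul' (S := ↑(X.presheaf.stalk x))
        (↑(Y.presheaf.stalk (f x)))).toRingHom.Flat)) := by
  letI := (f.stalkMap x).hom.toAlgebra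
  exact weaklyEtale_specMap_iff1412 (Y.presheaf.stalk (f x)) (X.presheaf.stalk x)

set_option backward.isDefEq.respectTransparency false in
theorem main1412 {X Y : Scheme.{u}} (f : X ⟶ Y) :
    WeaklyEtale f ↔ ∀ x : X, (f.stalkMap x).hom.Flat ∧
      (letI := (f.stalkMap x).hom.toAlgebra
       (Algebra.TensorProduct.lmul' (S := ↑(X.presheaf.stalk x))
        (↑(Y.presheaf.stalk (f x)))).toRingHom.Flat) := by
  constructor
  · intro h x
    haveI := h
    haveI h1 : WeaklyEtale (X.fromSpecStalk x) := weaklyEtale_fromSpecStalk1412 X x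
    haveI h2 : WeaklyEtale (Y.fromSpecStalk (f x)) := weaklyEtale_fromSpecStalk1412 Y (f x)
    haveI h3 : WeaklyEtale (Spec.map (f.stalkMap x) ≫ Y.fromSpecStalk (f x)) := by
      rw [Scheme.SpecMap_stalkMap_fromSpecStalk]; infer_instance
    have h4 : WeaklyEtale (Spec.map (f.stalkMap x)) :=
      WeaklyEtale.of_comp _ (Y.fromSpecStalk (f x))
    exact (stalk_iff1412 f x).mp h4
  · intro h
    have hflat : Flat f := (Flat.iff_flat_stalkMap f).mpr (fun x => (h x).1)
    refine { flat := hflat, flat_diagonal := ?_ }
    rw [Flat.iff_flat_stalkMap]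
    intro x
    haveI hι : Flat (X.fromSpecStalk x) := flat_fromSpecStalk1347 X x
    haveI hWE : WeaklyEtale (X.fromSpecStalk x ≫ f) := by
      rw [← Scheme.SpecMap_stalkMap_fromSpecStalk]
      haveI : WeaklyEtale (Spec.map (f.stalkMap x)) := (stalk_iff1412 f x).mpr (h x)
      haveI := weaklyEtale_fromSpecStalk1412 Y (f x)
      infer_instance
    obtain ⟨m, hmflat, hm⟩ : ∃ m : pullback (X.fromSpecStalk x ≫ f) (X.fromSpecStalk x ≫ f) ⟶
        pullback f f, Flat m ∧ pullback.diagonal (X.fromSpecStalk x ≫ f) ≫ m =
          X.fromSpecStalk x ≫ pullback.diagonal f := by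
      refine ⟨pullback.map (X.fromSpecStalk x ≫ f) (X.fromSpecStalk x ≫ f) f f
        (X.fromSpecStalk x) (X.fromSpecStalk x) (𝟙 _) ((Category.comp_id _).trans rfl)
        ((Category.comp_id _).trans rfl),
        MorphismProperty.pullbackMap (P := @Flat) hι hι rfl rfl, ?_⟩
      apply pullback.hom_ext <;> simp
    haveI := hmflat
    have hA : ((pullback.diagonal (X.fromSpecStalk x ≫ f) ≫ m).stalkMap
        (closedPoint (X.presheaf.stalk x))).hom.Flat := Flat.stalkMap _ _
    rw [hm, Scheme.Hom.stalkMap_comp] at hA
    have hB : ((X.fromSpecStalk x).stalkMap (closedPoint (X.presheaf.stalk x))).hom.Flat :=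
      Flat.stalkMap _ _
    have this : ((pullback.diagonal f).stalkMap
        ((X.fromSpecStalk x) (closedPoint (X.presheaf.stalk x)))).hom.Flat :=
      flat_descent1347 ((pullback.diagonal f).stalkMap
        ((X.fromSpecStalk x) (closedPoint (X.presheaf.stalk x)))).hom
        ((X.fromSpecStalk x).stalkMap (closedPoint (X.presheaf.stalk x))).hom hB hA
    rw [Scheme.fromSpecStalk_closedPoint] at this
    exact this

end Helpers

open AlgebraicGeometry CategoryTheory Limits in
/-- A morphism of schemes f : X → Y is weakly étale (flat with flat diagonal) if and only if for every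
point x of X the local ring map O_{Y, f(x)} → O_{X, x} is weakly étale, that is, flat and with flat
multiplication map O_{X,x} ⊗_{O_{Y, f(x)}} O_{X,x} → O_{X,x}. -/
theorem result {X Y : Scheme.{u}} (f : X ⟶ Y) :
    WeaklyEtale f ↔ ∀ x : X, (f.stalkMap x).hom.Flat ∧
      (letI := (f.stalkMap x).hom.toAlgebra
       (Algebra.TensorProduct.lmul' (S := ↑(X.presheaf.stalk x)) (↑(Y.presheaf.stalk (f x)))).toRingHom.Flat) := by
  exact main1412 f

end Groth.Agent.S1412
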