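import Groth.Statements.S9399
import Groth.Agent.S9394

set_option autoImplicit false
universe u
open CAlg

namespace Groth.Agent.S9399


/-- Being universally Japanese can be checked on a finite cover of Spec R by principal opens. -/
theorem result (R : Type u) [CommRing R]
    {ι : Type u} [Finite ι] (f : ι → R) (hf : Ideal.span (Set.range f) = ⊤)
    (h : ∀ i, CAlg.IsUniversallyJapanese (Localization.Away (f i))) :
    CAlg.IsUniversallyJapanese R := by
  intro S _ _ _ hft
  let g : ι → S := fun i => algebraMap R S (f i)
  let ι' : Type u := {i : ι // g i ≠ 0}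
  have hspan : Ideal.span (Set.range fun i : ι' => g i.1) = ⊤ := by
    have h1 : Ideal.span (Set.range g) = ⊤ := by
      have := congrArg (Ideal.map (algebraMap R S)) hf
      rw [Ideal.map_span, Ideal.map_top, ← Set.range_comp] at this
      exact this
    have h2 : (Set.range fun i : ι' => g i.1) = Set.range g \ {0} := by
      ext x
      constructor
      · rintro ⟨i, rfl⟩
        exact ⟨⟨i.1, rfl⟩, i.2⟩
      · rintro ⟨⟨i, rfl⟩, hi⟩
        exact ⟨⟨i, hi⟩, rfl⟩
    rw [h2, Ideal.span_sdiff_singleton_zero, h1]
  haveI : ∀ i : ι', IsDomain (Localization.Away (g i.1)) := fun i =>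
    IsLocalization.isDomain_localization (powers_le_nonZeroDivisors_of_noZeroDivisors i.2)
  have hN2 : ∀ i : ι', CAlg.IsN2 (Localization.Away (g i.1)) := by
    intro i
    letI : Algebra (Localization.Away (f i.1)) (Localization.Away (g i.1)) :=
      (IsLocalization.Away.map (Localization.Away (f i.1)) (Localization.Away (g i.1))
        (algebraMap R S) (f i.1)).toAlgebra
    have hft' : (algebraMap R S).FiniteType := RingHom.finiteType_algebraMap.2 hft
    have := RingHom.localization_away_map_finiteType R S (Localization.Away (f i.1))
      (Localization.Away (g i.1)) (algebraMap R S) (f i.1) hft'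
    exact h i.1 (Localization.Away (g i.1)) (RingHom.finiteType_algebraMap.1 this)
  exact Groth.Agent.S9394.result S (fun i : ι' => g i.1) hspan
    (fun i : ι' => Localization.Away (g i.1)) hN2

end Groth.Agent.S9399
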