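import Groth.Statements.S9400
import Groth.Agent.S9394

set_option autoImplicit false
universe u
open CAlg

namespace Groth.Agent.S9400


/-- Being a Nagata ring can be checked on a finite cover of Spec R by principal opens. -/
theorem result (R : Type u) [CommRing R]
    {ι : Type u} [Finite ι] (f : ι → R) (hf : Ideal.span (Set.range f) = ⊤)
    (h : ∀ i, CAlg.IsNagata (Localization.Away (f i))) : CAlg.IsNagata R := by
  classical
  haveI := Fintype.ofFinite ι
  constructor
  · apply AlgebraicGeometry.isNoetherianRing_of_away (Finset.univ.image f)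
    · rw [Finset.coe_image, Finset.coe_univ, Set.image_univ]; exact hf
    · rintro ⟨s, hs⟩
      rw [Finset.mem_image] at hs
      obtain ⟨i, -, rfl⟩ := hs
      exact (h i).1
  · intro p _
    let g : ι → R ⧸ p := fun i => Ideal.Quotient.mk p (f i)
    let ι' : Type u := {i : ι // g i ≠ 0}
    have hspan : Ideal.span (Set.range fun i : ι' => g i.1) = ⊤ := by
      have h1 : Ideal.span (Set.range g) = ⊤ := by
        have := congrArg (Ideal.map (Ideal.Quotient.mk p)) hf
        rw [Ideal.map_span, Ideal.map_top, ← Set.range_comp] at this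
        exact this
      have h2 : (Set.range fun i : ι' => g i.1) = Set.range g \ {0} := by
        ext x
        constructor
        · rintro ⟨i, rfl⟩
          exact ⟨⟨i.1, rfl⟩, i.2⟩
        · rintro ⟨⟨i, rfl⟩, hi⟩
          exact ⟨⟨i, hi⟩, rfl⟩
      rw [h2, Ideal.span_sdiff_singleton_zero, h1]
    have hdisj : ∀ i : ι', Disjoint (Submonoid.powers (f i.1) : Set R) (p : Set R) := by
      intro i
      rw [Set.disjoint_left]
      rintro _ ⟨n, rfl⟩ hn
      have := Ideal.IsPrime.mem_of_pow_mem ‹p.IsPrime› n hn
      exact i.2 (Ideal.Quotient.eq_zero_iff_mem.2 this)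
    haveI : ∀ i : ι', (p.map (algebraMap R (Localization.Away (f i.1)))).IsPrime := fun i =>
      IsLocalization.isPrime_of_isPrime_disjoint (Submonoid.powers (f i.1)) _ p ‹_› (hdisj i)
    haveI : ∀ i : ι', IsLocalization.Away (g i.1)
        (Localization.Away (f i.1) ⧸ p.map (algebraMap R (Localization.Away (f i.1)))) := by
      intro i
      have : IsLocalization (Algebra.algebraMapSubmonoid (R ⧸ p) (Submonoid.powers (f i.1)))
        (Localization.Away (f i.1) ⧸ p.map (algebraMap R (Localization.Away (f i.1)))) := inferInstance
      have e : Algebra.algebraMapSubmonoid (R ⧸ p) (Submonoid.powers (f i.1)) = Submonoid.powers (g i.1) := by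
        rw [Algebra.algebraMapSubmonoid, Submonoid.map_powers]
        rfl
      rw [e] at this
      exact this
    exact Groth.Agent.S9394.result (R ⧸ p) (fun i : ι' => g i.1) hspan
      (fun i : ι' => Localization.Away (f i.1) ⧸ p.map (algebraMap R (Localization.Away (f i.1))))
      (fun i => (h i.1).2 _)

end Groth.Agent.S9400
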