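import Groth.Statements.S9821
import Mathlib

set_option autoImplicit false
universe u
open CategoryTheory CategoryTheory.Limits AlgebraicGeometry TopologicalSpace Opposite
open Props

namespace Groth.Agent.S9821

/-- An integral scheme is normal if and only if the coordinate ring of every nonempty affine open is an
integrally closed domain. -/
theorem result (X : Scheme.{u}) [IsIntegral X] :
    Pi1.IsNormalScheme X ↔ ∀ (U : X.Opens) [Nonempty U], IsAffineOpen U → IsIntegrallyClosed Γ(X, U) := by
  constructor
  · intro hX U _ hU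
    apply IsIntegrallyClosed.of_localization_maximal
    intro p _ hp
    obtain ⟨y, hy⟩ : ∃ y : PrimeSpectrum Γ(X, U), y.asIdeal = p := ⟨⟨p, hp.isPrime⟩, rfl⟩
    subst hy
    have hyU : hU.fromSpec y ∈ U := by
      have h1 : hU.fromSpec y ∈ hU.fromSpec.opensRange := ⟨y, rfl⟩
      rwa [hU.opensRange_fromSpec] at h1
    letI := TopCat.Presheaf.algebra_section_stalk X.presheaf ⟨_, hyU⟩
    have hloc : IsLocalization.AtPrime (X.presheaf.stalk (hU.fromSpec y)) y.asIdeal :=
      hU.isLocalization_stalk' y hyU
    haveI := (hX (hU.fromSpec y)).2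
    exact IsIntegrallyClosed.of_equiv
      (IsLocalization.algEquiv y.asIdeal.primeCompl (X.presheaf.stalk (hU.fromSpec y))
        (Localization.AtPrime y.asIdeal)).toRingEquiv
  · intro h x
    refine ⟨inferInstance, ?_⟩
    obtain ⟨U, hU, hxU, -⟩ := exists_isAffineOpen_mem_and_subset (x := x) (U := ⊤) trivial
    haveI : Nonempty U := ⟨⟨x, hxU⟩⟩
    haveI := h U hU
    have key : ∀ (y : PrimeSpectrum Γ(X, U)) (x' : X), x' = hU.fromSpec y →
        IsIntegrallyClosed (X.presheaf.stalk x') := by
      rintro y _ rfl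
      have hyU : hU.fromSpec y ∈ U := by
        have h1 : hU.fromSpec y ∈ hU.fromSpec.opensRange := ⟨y, rfl⟩
        rwa [hU.opensRange_fromSpec] at h1
      letI := TopCat.Presheaf.algebra_section_stalk X.presheaf ⟨_, hyU⟩
      have hloc : IsLocalization.AtPrime (X.presheaf.stalk (hU.fromSpec y)) y.asIdeal :=
        hU.isLocalization_stalk' y hyU
      exact isIntegrallyClosed_of_isLocalization (S := X.presheaf.stalk (hU.fromSpec y))
        y.asIdeal.primeCompl y.asIdeal.primeCompl_le_nonZeroDivisors
    exact key (hU.primeIdealOf ⟨x, hxU⟩) x (hU.fromSpec_primeIdealOf ⟨x, hxU⟩).symm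

end Groth.Agent.S9821
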