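import Groth.Statements.S9565
import Mathlib
import Groth.Agent.H20.UnramLocus

set_option autoImplicit false
universe u
open EtLocal

namespace Groth.Agent.S9565

section Helpers
open AlgebraicGeometry CategoryTheory CategoryTheory.Limits TopologicalSpace

set_option backward.isDefEq.respectTransparency false in
/-- Lemma U (⇒): unramified near `x` implies the stalk map is formally unramified. -/
theorem stalk_fu_of_nbhd {X Y : Scheme.{u}} (f : X ⟶ Y) (x : X)
    (h : ∃ U : X.Opens, x ∈ U ∧ FormallyUnramified (U.ι ≫ f)) :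
    (f.stalkMap x).hom.FormallyUnramified := by
  obtain ⟨U, hxU, hU⟩ := h
  let x' : U.toScheme := ⟨x, hxU⟩
  have h1 : ((U.ι ≫ f).stalkMap x').hom.FormallyUnramified :=
    FormallyUnramified.stalkMap (U.ι ≫ f) x'
  have h2 := Scheme.Hom.stalkMap_comp U.ι f x'
  rw [h2, CommRingCat.hom_comp,
    RingHom.FormallyUnramified.respectsIso.cancel_right_isIso] at h1
  exact h1

set_option backward.isDefEq.respectTransparency false in
/-- Lemma U (⇐): if the stalk map is formally unramified, `f` is unramified near `x`. -/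
theorem nbhd_of_stalk_fu {X Y : Scheme.{u}} (f : X ⟶ Y) [LocallyOfFiniteType f] (x : X)
    (h : (f.stalkMap x).hom.FormallyUnramified) :
    ∃ U : X.Opens, x ∈ U ∧ FormallyUnramified (U.ι ≫ f) := by
  obtain ⟨W, hW, hsW, -⟩ := Opens.isBasis_iff_nbhd.mp Y.isBasis_affineOpens
    (Opens.mem_top (f x))
  obtain ⟨V, hV, hxV, eV⟩ := Opens.isBasis_iff_nbhd.mp X.isBasis_affineOpens
    (show x ∈ f ⁻¹ᵁ W from hsW)
  let 𝔮 := hV.primeIdealOf ⟨x, hxV⟩
  have hfs : hV.fromSpec 𝔮 = x := hV.fromSpec_primeIdealOf ⟨x, hxV⟩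
  have e2 : f.appLE W V eV ≫ X.presheaf.germ V x hxV =
      Y.presheaf.germ W (f x) hsW ≫ f.stalkMap x := by
    rw [Scheme.Hom.germ_stalkMap]
    simp only [Scheme.Hom.appLE, Category.assoc, TopCat.Presheaf.germ_res]
  have key : 𝔮 ∈ @Algebra.unramifiedLocus Γ(Y, W) Γ(X, V) _ _ (f.appLE W V eV).hom.toAlgebra := by
    letI := (f.appLE W V eV).hom.toAlgebra
    letI := X.presheaf.algebra_section_stalk ⟨x, hxV⟩
    haveI := hV.isLocalization_stalk ⟨x, hxV⟩
    letI := Y.presheaf.algebra_section_stalk ⟨f x, hsW⟩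
    haveI := hW.isLocalization_stalk ⟨f x, hsW⟩
    letI : Algebra (Y.presheaf.stalk (f x)) (X.presheaf.stalk x) := (f.stalkMap x).hom.toAlgebra
    letI : Algebra Γ(Y, W) (X.presheaf.stalk x) :=
      ((X.presheaf.germ V x hxV).hom.comp (f.appLE W V eV).hom).toAlgebra
    haveI : IsScalarTower Γ(Y, W) Γ(X, V) (X.presheaf.stalk x) :=
      IsScalarTower.of_algebraMap_eq' rfl
    haveI : IsScalarTower Γ(Y, W) (Y.presheaf.stalk (f x)) (X.presheaf.stalk x) :=
      IsScalarTower.of_algebraMap_eq' (congrArg CommRingCat.Hom.hom e2)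
    haveI : Algebra.FormallyUnramified (Y.presheaf.stalk (f x)) (X.presheaf.stalk x) := h
    haveI : Algebra.FormallyUnramified Γ(Y, W) (Y.presheaf.stalk (f x)) :=
      Algebra.FormallyUnramified.of_isLocalization
        (hW.primeIdealOf ⟨f x, hsW⟩).asIdeal.primeCompl
    haveI : Algebra.FormallyUnramified Γ(Y, W) (X.presheaf.stalk x) :=
      Algebra.FormallyUnramified.comp Γ(Y, W) (Y.presheaf.stalk (f x)) (X.presheaf.stalk x)
    let e : X.presheaf.stalk x ≃ₐ[Γ(X, V)] Localization.AtPrime 𝔮.asIdeal :=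
      IsLocalization.algEquiv 𝔮.asIdeal.primeCompl _ _
    show Algebra.FormallyUnramified Γ(Y, W) (Localization.AtPrime 𝔮.asIdeal)
    exact Algebra.FormallyUnramified.of_equiv (e.restrictScalars Γ(Y, W))
  obtain ⟨U, hU1, hU2⟩ := Groth.Agent.H20.UnramLocus.exists_nbhd_of_mem_unramifiedLocus f hW hV eV
    (f.finiteType_appLE hW hV eV) 𝔮 key
  exact ⟨U, hfs ▸ hU1, hU2⟩

theorem nbhd_iff_stalk_fu {X Y : Scheme.{u}} (f : X ⟶ Y) [LocallyOfFiniteType f] (x : X) :
    (∃ U : X.Opens, x ∈ U ∧ FormallyUnramified (U.ι ≫ f)) ↔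
      (f.stalkMap x).hom.FormallyUnramified :=
  ⟨stalk_fu_of_nbhd f x, nbhd_of_stalk_fu f x⟩

theorem finite_sep_congr {K L : Type u} [Field K] [Field L] (a1 a2 : Algebra K L)
    (h : ∀ z, @algebraMap K L _ _ a1 z = @algebraMap K L _ _ a2 z) :
    (@Module.Finite K L _ _ a1.toModule ∧ @Algebra.IsSeparable K L _ _ a1) ↔
    (@Module.Finite K L _ _ a2.toModule ∧ @Algebra.IsSeparable K L _ _ a2) := by
  have : a1 = a2 := Algebra.algebra_ext _ _ h
  subst this
  exact Iff.rfl

set_option backward.isDefEq.respectTransparency false in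
theorem stalk_fu_iff {X Y : Scheme.{u}} (f : X ⟶ Y) [LocallyOfFiniteType f] (x : X) :
    (f.stalkMap x).hom.FormallyUnramified ↔
      ((IsLocalRing.maximalIdeal (Y.presheaf.stalk (f.base x))).map (f.stalkMap x).hom =
          IsLocalRing.maximalIdeal (X.presheaf.stalk x) ∧
        letI := (f.residueFieldMap x).hom.toAlgebra
        Module.Finite (Y.residueField (f.base x)) (X.residueField x) ∧
          Algebra.IsSeparable (Y.residueField (f.base x)) (X.residueField x)) := by
  algebraize [(f.stalkMap x).hom]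
  have : IsLocalHom (algebraMap (Y.presheaf.stalk (f x)) (X.presheaf.stalk x)) :=
    inferInstanceAs <| IsLocalHom (f.stalkMap x).hom
  have : Algebra.EssFiniteType (Y.presheaf.stalk (f x)) (X.presheaf.stalk x) := by
    rw [← RingHom.essFiniteType_algebraMap, RingHom.algebraMap_toAlgebra]
    exact LocallyOfFiniteType.stalkMap f x
  have hconv := finite_sep_congr (K := IsLocalRing.ResidueField (Y.presheaf.stalk (f x)))
    (L := IsLocalRing.ResidueField (X.presheaf.stalk x))
    (f.residueFieldMap x).hom.toAlgebra inferInstance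
    (fun z => by obtain ⟨z, rfl⟩ := IsLocalRing.residue_surjective z; rfl)
  constructor
  · intro h
    haveI : Algebra.FormallyUnramified (Y.presheaf.stalk (f x)) (X.presheaf.stalk x) := h
    exact ⟨Algebra.FormallyUnramified.map_maximalIdeal (R := Y.presheaf.stalk (f x))
      (S := X.presheaf.stalk x), hconv.mpr ⟨inferInstance, inferInstance⟩⟩
  · rintro ⟨h1, h23⟩
    obtain ⟨h2, h3⟩ := hconv.mp h23
    haveI := h3
    exact Algebra.FormallyUnramified.of_map_maximalIdeal h1

end Helpers

open AlgebraicGeometry CategoryTheory in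
/-- Let Y be a locally Noetherian scheme, f : X ⟶ Y locally of finite type and x a point of X with image
y. Then f is unramified on some open neighbourhood of x if and only if the map of local rings
O_{Y,y} → O_{X,x} is an unramified homomorphism of local rings: the maximal ideal of O_{Y,y}
generates that of O_{X,x}, and the residue field of x is a finite separable extension of that of y
(O_{X,x} is automatically essentially of finite type over O_{Y,y}). -/
theorem result {X Y : Scheme.{u}} (f : X ⟶ Y)
    [LocallyOfFiniteType f] [IsLocallyNoetherian Y] (x : X) :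
    (∃ U : X.Opens, x ∈ U ∧ FormallyUnramified (U.ι ≫ f)) ↔
      ((IsLocalRing.maximalIdeal (Y.presheaf.stalk (f.base x))).map (f.stalkMap x).hom =
          IsLocalRing.maximalIdeal (X.presheaf.stalk x) ∧
        letI := (f.residueFieldMap x).hom.toAlgebra
        Module.Finite (Y.residueField (f.base x)) (X.residueField x) ∧
          Algebra.IsSeparable (Y.residueField (f.base x)) (X.residueField x)) := by
  rw [nbhd_iff_stalk_fu]
  exact stalk_fu_iff f x

end Groth.Agent.S9565
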