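import Groth.Statements.S12444
import Mathlib
-- import your own Groth.Agent.* helpers here

set_option autoImplicit false
universe u
open PtTop

namespace Groth.Agent.S12444


open TopologicalSpace Topology

section Order
variable {P Q : Type*} [PartialOrder P] [PartialOrder Q]

/-- abstract codimension in a poset -/
noncomputable def cd (T T' : P) : ℕ∞ :=
  ⨆ (s : LTSeries P) (_ : s.head = T ∧ s.last ≤ T'), (s.length : ℕ∞)

def CatPair (T T' : P) : Prop :=
  cd T T' ≠ ⊤ ∧ ∀ s : LTSeries P, s.head = T → s.last = T' →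
    (∀ i : Fin s.length, s (Fin.castSucc i) ⋖ s (Fin.succ i)) → (s.length : ℕ∞) = cd T T'

variable (f : Q → P) (hf : ∀ a b, f a ≤ f b ↔ a ≤ b)
  (hconv : ∀ (a c : Q) (b : P), f a ≤ b → b ≤ f c → ∃ b', f b' = b)

include hf in
lemma f_inj : Function.Injective f :=
  fun a b h => le_antisymm ((hf a b).1 h.le) ((hf b a).1 h.ge)

include hf in
lemma f_strictMono : StrictMono f :=
  fun a b h => lt_of_le_of_ne ((hf a b).2 h.le) (fun e => h.ne (f_inj f hf e))

include hf in
lemma f_lt_iff (a b : Q) : f a < f b ↔ a < b :=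
  ⟨fun h => lt_of_le_of_ne ((hf a b).1 h.le) (fun e => h.ne (by rw [e])),
    fun h => f_strictMono f hf h⟩

include hf hconv in
lemma exists_lift (T T' : Q) (t : LTSeries P) (h1 : t.head = f T) (h2 : t.last ≤ f T') :
    ∃ g : Fin (t.length + 1) → Q, StrictMono g ∧ ∀ i, f (g i) = t i := by
  have hex : ∀ i, ∃ b', f b' = t i := fun i =>
    hconv T T' (t i) (h1.symm.le.trans (t.head_le i))
      (le_trans (t.monotone (Fin.le_last i)) h2)
  choose g hg using hex
  refine ⟨g, fun i j hij => ?_, hg⟩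
  rw [← f_lt_iff f hf, hg, hg]
  exact t.strictMono hij

include hf hconv in
lemma cd_eq (T T' : Q) : cd (f T) (f T') = cd T T' := by
  unfold cd
  apply le_antisymm
  · apply iSup_le; intro t; apply iSup_le; rintro ⟨h1, h2⟩
    obtain ⟨g, hg, hgt⟩ := exists_lift f hf hconv T T' t h1 h2
    refine le_iSup₂_of_le (LTSeries.mk t.length g hg) ⟨?_, ?_⟩ le_rfl
    · apply f_inj f hf
      show f (g 0) = f T
      rw [hgt]; exact h1
    · rw [← hf]
      show f (g (Fin.last _)) ≤ f T'
      rw [hgt]; exact h2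
  · apply iSup_le; intro s; apply iSup_le; rintro ⟨h1, h2⟩
    refine le_iSup₂_of_le (s.map f (f_strictMono f hf)) ⟨?_, ?_⟩ le_rfl
    · rw [LTSeries.head_map, h1]
    · rw [LTSeries.last_map]; exact (hf _ _).2 h2

include hf hconv in
lemma covBy_iff (a b : Q) : f a ⋖ f b ↔ a ⋖ b := by
  constructor
  · intro h
    exact ⟨(f_lt_iff f hf a b).1 h.lt, fun c hac hcb =>
      h.2 ((f_lt_iff f hf a c).2 hac) ((f_lt_iff f hf c b).2 hcb)⟩
  · intro h
    refine ⟨(f_lt_iff f hf a b).2 h.lt, fun c hac hcb => ?_⟩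
    obtain ⟨c', rfl⟩ := hconv a b c hac.le hcb.le
    exact h.2 ((f_lt_iff f hf a c').1 hac) ((f_lt_iff f hf c' b).1 hcb)

include hf hconv in
lemma catPair_iff (T T' : Q) : CatPair (f T) (f T') ↔ CatPair T T' := by
  unfold CatPair
  rw [cd_eq f hf hconv T T']
  constructor
  · rintro ⟨h0, h⟩
    refine ⟨h0, fun s h1 h2 hs => ?_⟩
    have := h (s.map f (f_strictMono f hf)) (by rw [LTSeries.head_map, h1])
      (by rw [LTSeries.last_map, h2])
      (fun i => (covBy_iff f hf hconv _ _).2 (hs i))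
    exact this
  · rintro ⟨h0, h⟩
    refine ⟨h0, fun t h1 h2 ht => ?_⟩
    obtain ⟨g, hg, hgt⟩ := exists_lift f hf hconv T T' t h1 h2.le
    have e1 : (LTSeries.mk t.length g hg).head = T := by
      apply f_inj f hf
      show f (g 0) = f T
      rw [hgt]; exact h1
    have e2 : (LTSeries.mk t.length g hg).last = T' := by
      apply f_inj f hf
      show f (g (Fin.last _)) = f T'
      rw [hgt]; exact h2
    have e3 : ∀ i : Fin (LTSeries.mk t.length g hg).length,
        (LTSeries.mk t.length g hg) (Fin.castSucc i) ⋖ (LTSeries.mk t.length g hg) (Fin.succ i) := by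
      intro i
      show g (Fin.castSucc i) ⋖ g (Fin.succ i)
      rw [← covBy_iff f hf hconv, hgt, hgt]
      exact ht i
    exact h _ e1 e2 e3

end Order

section Top
variable {X : Type u} [TopologicalSpace X]

lemma codim_eq_cd (T T' : IrreducibleCloseds X) : PtTop.codim T (T' : Set X) = cd T T' := by
  unfold PtTop.codim cd
  apply le_antisymm
  · apply iSup_le; intro s; apply iSup_le; rintro ⟨h1, h2⟩
    exact le_iSup₂_of_le s ⟨h1, SetLike.coe_subset_coe.1 h2⟩ le_rfl
  · apply iSup_le; intro s; apply iSup_le; rintro ⟨h1, h2⟩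
    exact le_iSup₂_of_le s ⟨h1, SetLike.coe_subset_coe.2 h2⟩ le_rfl

lemma isCat_iff : PtTop.IsCatenarySpace X ↔
    ∀ T T' : IrreducibleCloseds X, T ≤ T' → CatPair T T' := by
  unfold PtTop.IsCatenarySpace CatPair
  simp only [codim_eq_cd]

noncomputable def fS (S : Set X) : IrreducibleCloseds S → IrreducibleCloseds X :=
  IrreducibleCloseds.map (Subtype.val) continuous_subtype_val

lemma coe_fS (S : Set X) (a : IrreducibleCloseds S) :
    (fS S a : Set X) = closure (Subtype.val '' (a : Set S)) := rfl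

lemma fS_le_iff (S : Set X) (a b : IrreducibleCloseds S) : fS S a ≤ fS S b ↔ a ≤ b := by
  constructor
  · intro h
    have h' : closure (Subtype.val '' (a : Set S)) ⊆ closure (Subtype.val '' (b : Set S)) :=
      SetLike.coe_subset_coe.2 h
    have ha := IsInducing.subtypeVal.closure_eq_preimage_closure_image (a : Set S)
    have hb := IsInducing.subtypeVal.closure_eq_preimage_closure_image (b : Set S)
    rw [a.isClosed.closure_eq] at ha
    rw [b.isClosed.closure_eq] at hb
    rw [← SetLike.coe_subset_coe]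
    intro x hx
    rw [hb]
    rw [ha] at hx
    exact Set.preimage_mono h' hx
  · intro h; exact IrreducibleCloseds.map_mono continuous_subtype_val h

lemma exists_preimage (S O F : Set X) (hO : IsOpen O) (hF : IsClosed F) (hS : S = O ∩ F)
    (b : IrreducibleCloseds X) (hbF : (b : Set X) ⊆ F) (hbO : ((b : Set X) ∩ O).Nonempty) :
    ∃ b' : IrreducibleCloseds S, fS S b' = b := by
  have himg : Subtype.val '' (Subtype.val ⁻¹' (b : Set X) : Set S) = (b : Set X) ∩ O := by
    rw [Subtype.image_preimage_val, hS]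
    ext x; constructor
    · rintro ⟨⟨h1, _⟩, h3⟩; exact ⟨h3, h1⟩
    · rintro ⟨h1, h2⟩; exact ⟨⟨h2, hbF h1⟩, h1⟩
  have hdense : closure ((b : Set X) ∩ O) = b := by
    apply subset_antisymm
    · exact closure_minimal Set.inter_subset_left b.isClosed
    · exact subset_closure_inter_of_isPreirreducible_of_isOpen b.isIrreducible.2 hO hbO
  have hirr : IsIrreducible (Subtype.val ⁻¹' (b : Set X) : Set S) := by
    constructor
    · obtain ⟨x, hxb, hxO⟩ := hbO
      exact ⟨⟨x, by rw [hS]; exact ⟨hxO, hbF hxb⟩⟩, hxb⟩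
    · intro u' v' hu' hv' hu hv
      obtain ⟨u, hu0, rfl⟩ := isOpen_induced_iff.1 hu'
      obtain ⟨v, hv0, rfl⟩ := isOpen_induced_iff.1 hv'
      obtain ⟨x, hxb, hxu⟩ := hu
      obtain ⟨y, hyb, hyv⟩ := hv
      have hxO : (x : X) ∈ O := (hS.le x.2).1
      have hyO : (y : X) ∈ O := (hS.le y.2).1
      obtain ⟨z, hzb, ⟨hzu, hzO⟩, ⟨hzv, _⟩⟩ := b.isIrreducible.2 (u ∩ O) (v ∩ O)
        (hu0.inter hO) (hv0.inter hO) ⟨x, hxb, hxu, hxO⟩ ⟨y, hyb, hyv, hyO⟩
      exact ⟨⟨z, by rw [hS]; exact ⟨hzO, hbF hzb⟩⟩, hzb, hzu, hzv⟩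
  refine ⟨⟨Subtype.val ⁻¹' (b : Set X), hirr, b.isClosed.preimage continuous_subtype_val⟩, ?_⟩
  apply IrreducibleCloseds.ext
  show closure (Subtype.val '' (Subtype.val ⁻¹' (b : Set X) : Set S)) = b
  rw [himg, hdense]

lemma fS_conv (S O F : Set X) (hO : IsOpen O) (hF : IsClosed F) (hS : S = O ∩ F)
    (a c : IrreducibleCloseds S) (b : IrreducibleCloseds X)
    (hab : fS S a ≤ b) (hbc : b ≤ fS S c) : ∃ b', fS S b' = b := by
  apply exists_preimage S O F hO hF hS b
  · have h1 : (b : Set X) ⊆ closure (Subtype.val '' (c : Set S)) := SetLike.coe_subset_coe.2 hbc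
    refine h1.trans (closure_minimal ?_ hF)
    rintro _ ⟨x, _, rfl⟩
    exact (hS.le x.2).2
  · obtain ⟨x, hx⟩ := a.isIrreducible.nonempty
    have h1 : closure (Subtype.val '' (a : Set S)) ⊆ (b : Set X) := SetLike.coe_subset_coe.2 hab
    refine ⟨x.1, h1 (subset_closure ⟨x, hx, rfl⟩), ?_⟩
    exact (hS.le x.2).1

lemma cat_sub (hX : PtTop.IsCatenarySpace X) (S : Set X) (hlc : IsLocallyClosed S) :
    PtTop.IsCatenarySpace S := by
  obtain ⟨O, F, hO, hF, hS⟩ := hlc
  rw [isCat_iff] at hX ⊢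
  intro T T' hTT'
  exact (catPair_iff (fS S) (fS_le_iff S) (fS_conv S O F hO hF hS) T T').1
    (hX (fS S T) (fS S T') ((fS_le_iff S T T').2 hTT'))

lemma cat_of_local (hloc : ∀ x : X, ∃ U : Set X, IsOpen U ∧ x ∈ U ∧ PtTop.IsCatenarySpace U) :
    PtTop.IsCatenarySpace X := by
  rw [isCat_iff]
  intro T T' hTT'
  obtain ⟨x, hx⟩ := T.isIrreducible.nonempty
  obtain ⟨U, hUo, hxU, hU⟩ := hloc x
  have hS : U = U ∩ Set.univ := (Set.inter_univ U).symm
  obtain ⟨T0, hT0⟩ := exists_preimage U U Set.univ hUo isClosed_univ hS T (Set.subset_univ _)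
    ⟨x, hx, hxU⟩
  obtain ⟨T0', hT0'⟩ := exists_preimage U U Set.univ hUo isClosed_univ hS T' (Set.subset_univ _)
    ⟨x, hTT' hx, hxU⟩
  have h0 : T0 ≤ T0' := by rw [← fS_le_iff, hT0, hT0']; exact hTT'
  rw [← hT0, ← hT0']
  exact (catPair_iff (fS U) (fS_le_iff U) (fS_conv U U Set.univ hUo isClosed_univ hS) T0 T0').2
    ((isCat_iff.1 hU) T0 T0' h0)

end Top


/-- A topological space X is catenary if and only if it has an open covering by catenary subspaces
(here: every point has a catenary open neighbourhood); and if X is catenary then so is every locally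
closed subspace of X. -/
theorem result (X : Type u) [TopologicalSpace X] :
    (PtTop.IsCatenarySpace X ↔
      ∀ x : X, ∃ U : TopologicalSpace.Opens X, x ∈ U ∧ PtTop.IsCatenarySpace U) ∧
    (PtTop.IsCatenarySpace X → ∀ S : Set X, IsLocallyClosed S → PtTop.IsCatenarySpace S) := by
  refine ⟨⟨fun hX x => ⟨⊤, trivial, ?_⟩, fun hloc => ?_⟩, fun hX S hS => cat_sub hX S hS⟩
  · exact cat_sub hX ((⊤ : TopologicalSpace.Opens X) : Set X)
      (⊤ : TopologicalSpace.Opens X).isOpen.isLocallyClosed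
  · apply cat_of_local
    intro x
    obtain ⟨U, hxU, hU⟩ := hloc x
    exact ⟨(U : Set X), U.isOpen, hxU, hU⟩

end Groth.Agent.S12444
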