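import Groth.Statements.S7468
import Mathlib
import Groth.Agent.Lib.Helper5.HTopLib

set_option autoImplicit false
universe w u
open HTop

namespace Groth.Agent.S7468aux

open CategoryTheory CategoryTheory.Limits AlgebraicGeometry HTop

/-- Valuative lifting for a proper surjective morphism, after an extension of valuation rings. -/
theorem exists_lift_proper {T U : Scheme.{u}} (f : U ⟶ T) [IsProper f] [Surjective f]
    (V : CommRingCat.{u}) [IsDomain V] [ValuationRing V] (g : Spec V ⟶ T) :
    ∃ (W : CommRingCat.{u}) (_ : IsDomain W) (_ : ValuationRing W) (φ : V ⟶ W),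
      IsExtVal V W φ ∧ ∃ g' : Spec W ⟶ U, g' ≫ f = Spec.map φ ≫ g := by
  let K := FractionRing V
  let η : Spec (CommRingCat.of K) ⟶ T := Spec.map (CommRingCat.ofHom (algebraMap V K)) ≫ g
  have hsurj : Surjective (pullback.fst η f) := inferInstance
  have hne : Nonempty (Spec (CommRingCat.of K)) := inferInstance
  obtain ⟨x₀⟩ := hne
  obtain ⟨z, -⟩ := hsurj.surj x₀
  let P := pullback η f
  let L := P.residueField z
  let s : Spec L ⟶ P := P.fromSpecResidueField z
  let ψ : CommRingCat.of K ⟶ L := Spec.preimage (s ≫ pullback.fst η f)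
  have hψ : Spec.map ψ = s ≫ pullback.fst η f := Spec.map_preimage _
  let ρ : V →+* L := ψ.hom.comp (algebraMap V K)
  have hρinj : Function.Injective ρ :=
    (RingHom.injective ψ.hom).comp (IsFractionRing.injective V K)
  obtain ⟨A, hA, hloc⟩ := IsLocalRing.exists_factor_valuationRing ρ
  let φ : V ⟶ CommRingCat.of A := CommRingCat.ofHom (ρ.codRestrict A.toSubring hA)
  have hφρ : φ ≫ CommRingCat.ofHom (algebraMap A L) =
      CommRingCat.ofHom (algebraMap V K) ≫ ψ := by
    ext x
    rfl
  have hex : ValuativeCriterion.Existence f := by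
    have h2 : UniversallyClosed f := inferInstance
    rw [UniversallyClosed.eq_valuativeCriterion] at h2
    exact h2.1
  let S : ValuativeCommSq f :=
    { R := A
      K := L
      i₁ := s ≫ pullback.snd η f
      i₂ := Spec.map φ ≫ g
      commSq := ⟨by
        rw [← Category.assoc, ← Spec.map_comp, hφρ, Spec.map_comp, hψ, Category.assoc,
          Category.assoc, Category.assoc]
        exact congrArg (s ≫ ·) pullback.condition.symm⟩ }
  obtain ⟨⟨l⟩⟩ := hex S
  refine ⟨CommRingCat.of A, inferInstance, inferInstance, φ, ⟨?_, ?_⟩, l.l, l.fac_right⟩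
  · intro a b hab
    apply hρinj
    have := congrArg (fun t : A => (t : L)) hab
    exact this
  · exact hloc

end Groth.Agent.S7468aux

namespace Groth.Agent.S7468

open CategoryTheory CategoryTheory.Limits AlgebraicGeometry in
/-- If T is affine and a finite family is obtained by restricting one proper surjective morphism U -> T
to the pieces of a finite affine open cover of U, then the family is a standard V covering. -/
theorem result {T : Scheme.{u}} (E : PreZeroHypercover.{w} T) (hE : HTop.IsStandardPh E) : HTop.IsStandardV E := by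
  obtain ⟨U, f, ι, hf1, hf2, hι, hfac, hcov⟩ := hE.exists_proper
  refine ⟨hE.isAffine, hE.finite_index, hE.isAffine_obj, ?_⟩
  intro V _ _ g
  haveI := hf1
  haveI := hf2
  obtain ⟨W, i1, i2, φ, hφ, g'', hg''⟩ := Groth.Agent.S7468aux.exists_lift_proper f V g
  haveI := i1
  haveI := i2
  obtain ⟨j, hj⟩ := hcov (g'' (IsLocalRing.closedPoint W))
  haveI := hι j
  have hr : Set.range g'' ⊆ Set.range (ι j) := by
    have := Groth.Agent.Helper5.HTopLib.range_subset_of_closedPoint_mem W g'' (ι j).opensRange hj
    exact this
  refine ⟨W, i1, i2, φ, hφ, j, IsOpenImmersion.lift (ι j) g'' hr, ?_⟩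
  rw [← hfac j, ← Category.assoc, IsOpenImmersion.lift_fac, hg'']

end Groth.Agent.S7468
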