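import Groth.Statements.S7471
import Mathlib
import Groth.Agent.Lib.Helper5.HTopLib

set_option autoImplicit false
universe w u
open HTop

namespace Groth.Agent.S7471

open CategoryTheory CategoryTheory.Limits AlgebraicGeometry in
/-- If E is a V covering of T and T' -> T is any morphism of schemes, then the family of base changes T'
x_T T_i -> T' is a V covering of T'. -/
theorem result {T T' : Scheme.{u}} (g : T' ⟶ T) (E : PreZeroHypercover.{w} T) (hE : HTop.IsVCover E) : HTop.IsVCover (E.pullback₁ g) := by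
  intro U'
  haveI : IsAffine ((U' : T'.Opens) : Scheme.{u}) := U'.2
  obtain ⟨F, hF, hFE⟩ := Groth.Agent.Helper5.HTopLib.exists_standardV_refinesOver
    ((U' : T'.Opens).ι ≫ g) E hE
  refine ⟨F, hF, ?_⟩
  intro j
  obtain ⟨i, h, hh⟩ := hFE j
  refine ⟨i, (pullback.lift (F.f j ≫ (U' : T'.Opens).ι) h (by rw [hh, Category.assoc]) :
    F.X j ⟶ pullback g (E.f i)), ?_⟩
  show pullback.lift (F.f j ≫ (U' : T'.Opens).ι) h _ ≫ pullback.fst g (E.f i) = _
  exact pullback.lift_fst _ _ _

end Groth.Agent.S7471
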