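import Groth.Statements.S7153
import Mathlib

set_option autoImplicit false
universe u
open CAlg

namespace Groth.Agent.S7153

/-- Let A be a Noetherian ring, I an ideal and K → L → M a complex of finite A-modules with maps α, β
and homology H = Ker β / Im α; for n ≥ 0 let H_n be the homology of the induced complex K/IⁿK →
L/IⁿL → M/IⁿM, which is β⁻¹(IⁿM)/(Im α + IⁿL). Then there is c > 0 such that for every n: (i) the
image of H_(n+c) → H_n is contained in, hence equal to, the image of H → H_n; (ii) the kernel and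
the cokernel of H/IⁿH → H_n are annihilated by I^c. Everything is phrased with representatives in L. -/
theorem result (A : Type u) [CommRing A] [IsNoetherianRing A] (I : Ideal A)
    (K L M : Type u) [AddCommGroup K] [Module A K] [Module.Finite A K] [AddCommGroup L] [Module A L]
    [Module.Finite A L] [AddCommGroup M] [Module A M] [Module.Finite A M]
    (α : K →ₗ[A] L) (β : L →ₗ[A] M) (hαβ : β ∘ₗ α = 0) :
    ∃ c : ℕ, 0 < c ∧ ∀ n : ℕ,
      (∀ y ∈ (I ^ (n + c) • ⊤ : Submodule A M).comap β,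
        ∃ z ∈ LinearMap.ker β, y - z ∈ LinearMap.range α ⊔ (I ^ n • ⊤ : Submodule A L)) ∧
      (∀ z ∈ LinearMap.ker β, z ∈ LinearMap.range α ⊔ (I ^ n • ⊤ : Submodule A L) →
        ∀ a ∈ I ^ c, a • z ∈ LinearMap.range α ⊔ I ^ n • LinearMap.ker β) ∧
      (∀ y ∈ (I ^ n • ⊤ : Submodule A M).comap β, ∀ a ∈ I ^ c,
        ∃ z ∈ LinearMap.ker β, a • y - z ∈ LinearMap.range α ⊔ (I ^ n • ⊤ : Submodule A L)) := by
  classical
  obtain ⟨k₁, hk₁⟩ := Ideal.exists_pow_inf_eq_pow_smul I (LinearMap.range β)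
  obtain ⟨k₂, hk₂⟩ := Ideal.exists_pow_inf_eq_pow_smul I (LinearMap.ker β)
  have key1 : ∀ (c : ℕ), k₁ ≤ c → ∀ (n : ℕ) (y : L), β y ∈ (I ^ (n + c) • ⊤ : Submodule A M) →
      ∃ l ∈ (I ^ n • ⊤ : Submodule A L), β l = β y := by
    intro c hc n y hy
    have h1 : β y ∈ (I ^ (n + c) • ⊤ : Submodule A M) ⊓ LinearMap.range β :=
      ⟨hy, LinearMap.mem_range_self β y⟩
    rw [hk₁ (n + c) (by omega)] at h1
    have h2 : I ^ (n + c - k₁) • ((I ^ k₁ • ⊤ : Submodule A M) ⊓ LinearMap.range β) ≤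
        I ^ n • LinearMap.range β :=
      Submodule.smul_mono (Ideal.pow_le_pow_right (by omega)) inf_le_right
    have h3 := h2 h1
    rw [LinearMap.range_eq_map, ← Submodule.map_smul''] at h3
    obtain ⟨l, hl, hly⟩ := h3
    exact ⟨l, hl, hly⟩
  have key2 : ∀ (c : ℕ), k₂ ≤ c → ∀ (n : ℕ) (l : L), l ∈ (I ^ n • ⊤ : Submodule A L) →
      l ∈ LinearMap.ker β → ∀ a ∈ I ^ c, a • l ∈ I ^ n • LinearMap.ker β := by
    intro c hc n l hl hlk a ha
    by_cases hn : n ≤ c
    · exact Submodule.smul_mem_smul (Ideal.pow_le_pow_right hn ha) hlk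
    · push Not at hn
      have h1 : l ∈ (I ^ n • ⊤ : Submodule A L) ⊓ LinearMap.ker β := ⟨hl, hlk⟩
      rw [hk₂ n (by omega)] at h1
      have h2 : I ^ (n - k₂) • ((I ^ k₂ • ⊤ : Submodule A L) ⊓ LinearMap.ker β) ≤
          I ^ (n - k₂) • LinearMap.ker β :=
        Submodule.smul_mono le_rfl inf_le_right
      have h3 : a • l ∈ I ^ c • (I ^ (n - k₂) • LinearMap.ker β) :=
        Submodule.smul_mem_smul ha (h2 h1)
      rw [← Submodule.mul_smul, ← pow_add] at h3
      exact Submodule.smul_mono_left (Ideal.pow_le_pow_right (by omega)) h3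
  refine ⟨k₁ + k₂ + 1, by omega, fun n => ⟨?_, ?_, ?_⟩⟩
  · intro y hy
    obtain ⟨l, hl, hly⟩ := key1 _ (by omega) n y hy
    refine ⟨y - l, ?_, ?_⟩
    · simp [LinearMap.mem_ker, hly]
    · rw [sub_sub_cancel]; exact Submodule.mem_sup_right hl
  · intro z hz hz' a ha
    obtain ⟨y, hy, l, hl, rfl⟩ := Submodule.mem_sup.mp hz'
    obtain ⟨k', rfl⟩ := hy
    have hαk : β (α k') = 0 := by have := LinearMap.congr_fun hαβ k'; simpa using this
    have hlk : l ∈ LinearMap.ker β := by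
      rw [LinearMap.mem_ker] at hz ⊢
      rw [map_add, hαk, zero_add] at hz; exact hz
    rw [smul_add]
    refine Submodule.add_mem_sup ?_ (key2 _ (by omega) n l hl hlk a ha)
    exact ⟨a • k', by simp⟩
  · intro y hy a ha
    have h1 : β (a • y) ∈ (I ^ (n + (k₁ + k₂ + 1)) • ⊤ : Submodule A M) := by
      rw [map_smul, add_comm n, pow_add, Submodule.mul_smul]
      exact Submodule.smul_mem_smul ha hy
    obtain ⟨l, hl, hly⟩ := key1 _ (by omega) n (a • y) h1
    refine ⟨a • y - l, ?_, ?_⟩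
    · simp [LinearMap.mem_ker, hly]
    · rw [sub_sub_cancel]; exact Submodule.mem_sup_right hl

end Groth.Agent.S7153
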