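import Groth.Statements.S18812
import Mathlib
import Groth.Agent.H27.HopfInt
import Groth.Agent.Lib.Helper7.HopfInt
import Groth.Agent.Lib.Helper7.Coalg7
-- import your own Groth.Agent.* helpers here

set_option autoImplicit false
universe u v w
open TensorProduct
open HopfRep

namespace Groth.Agent.S18812

open TensorProduct Groth.Agent.H29 Groth.Agent.Helper7.HopfInt Groth.Agent.Helper7.Coalg7

attribute [local instance] Groth.Agent.H29.dualModule

lemma antipode_antipode' {k : Type u} [Field k] {A : Type v} [CommRing A] [HopfAlgebra k A] (a : A) :
    HopfAlgebra.antipode k (HopfAlgebra.antipode k a) = a := by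
  have h : ((WithConv.toConv (AlgHom.id k A))⁻¹)⁻¹ = WithConv.toConv (AlgHom.id k A) := inv_inv _
  exact congrArg (fun f => f.ofConv a) h


/-- Let k be a field and A a commutative Hopf algebra over k, the coordinate ring of an affine group
scheme G. Suppose the inclusion of constants k → A splits as a map of G-representations: there is a
k-linear map α : A → k which is a comodule map from the regular comodule A to the trivial comodule k
and satisfies α(1) = 1. Then every A-comodule, of any dimension, is semisimple: every subcomodule
has a complementary subcomodule. (The source works with left comodules; this is the right-comodule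
form. The converse implication is the easy one and is not part of this row.) -/
theorem result (k : Type u) [Field k] (A : Type v) [CommRing A] [HopfAlgebra k A]
    (α : A →ₗ[k] k) (hα : @Hoch.IsComodHom k _ A _ _ _ A _ _ _ k _ _ (HopfRep.Comod.trivial k A k) α)
    (h1 : α 1 = 1)
    (V : Type w) [AddCommGroup V] [Module k V] [HopfRep.Comod k A V] :
    HopfRep.IsSemisimpleComod k A V := by
  let lam : A →ₗ[k] k := α ∘ₗ HopfAlgebra.antipode k
  have h1' : lam 1 = 1 := by
    show α (HopfAlgebra.antipode k 1) = 1
    rw [HopfAlgebra.antipode_one, h1]
  have hα' : ∀ x : A, (TensorProduct.lid k A) (α.rTensor A (Coalgebra.comul (R := k) x)) =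
      α x • (1 : A) := by
    intro x
    have h := LinearMap.congr_fun hα x
    have h' : (α x) ⊗ₜ[k] (1 : A) = α.rTensor A (Coalgebra.comul (R := k) x) := h
    rw [← h', TensorProduct.lid_tmul]
  have key : ∀ t : A ⊗[k] A, (TensorProduct.lid k A) (α.rTensor A
      (TensorProduct.map (HopfAlgebra.antipode k) (HopfAlgebra.antipode k)
        (TensorProduct.comm k A A t))) = HopfAlgebra.antipode k (rAct A lam t) := by
    intro t
    induction t using TensorProduct.induction_on with
    | zero => simp
    | tmul a b =>
      simp only [TensorProduct.comm_tmul, TensorProduct.map_tmul, LinearMap.rTensor_tmul,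
        TensorProduct.lid_tmul, rAct_tmul, map_smul]
      rfl
    | add x y hx hy => simp only [map_add, hx, hy]
  have hinv : ∀ y : A, dualAct lam y = lam y • (1 : A) := by
    intro y
    have h2 := hα' (HopfAlgebra.antipode k y)
    rw [Groth.Agent.H27.HopfInt.comul_antipode, key] at h2
    have h3 := congrArg (HopfAlgebra.antipode k) h2
    rw [antipode_antipode', map_smul, HopfAlgebra.antipode_one] at h3
    exact h3
  have hreg : HopfRep.IsSemisimpleComod k A A := isSemisimpleComod_regular lam h1' hinv
  haveI : IsSemisimpleModule (DualAlg k A) A := isSemisimpleModule_of_isSemisimpleComod k A A hreg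
  exact isSemisimpleComod_of_isSemisimpleModule k A V
    (isSemisimpleModule_of_regular (K := k) (C := A) (V := V))

end Groth.Agent.S18812
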