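import Groth.Statements.S5802
import Groth.Agent.Helper1.Rees

set_option autoImplicit false
universe u
open EGA41

namespace Groth.Agent.S5802

/-- First assertion: case M = A: in a ring A, every A-regular sequence (f_i)_{1 ≤ i ≤ c} is
quasi-regular, i.e. the canonical surjection (A/J)[T_1, ..., T_c] → gr_J(A), J = f_1 A + ... + f_c
A, is bijective. -/
theorem result (A : Type u) [CommRing A] (c : ℕ) (f : Fin c → A)
    (hf : RingTheory.Sequence.IsWeaklyRegular A (List.ofFn f)) : CAlgX.IsQuasiRegular f := by
  intro n P hP h d
  exact Groth.Agent.Helper1.RegSeq.coeff_mem_of_linType f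
    (Groth.Agent.Helper1.RegSeq.linType_of_wreg c f hf) n P hP h d

end Groth.Agent.S5802
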