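import Groth.Statements.S5778
import Mathlib
import Groth.Agent.H29.RegLocal3
import Groth.Agent.S5802
import Groth.Agent.S5803

set_option autoImplicit false
universe u
open EGA41

namespace Groth.Agent.S5778


section Mon

variable {A : Type u} [CommRing A] {r : ℕ} (x : Fin r → A)

/-- exponent vectors of degree `n` -/
noncomputable def Dn (r n : ℕ) : Finset (Fin r →₀ ℕ) :=
  (Finset.univ : Finset (Fin r)).finsuppAntidiag n

theorem mem_Dn {n : ℕ} {α : Fin r →₀ ℕ} : α ∈ Dn r n ↔ α.degree = n := by
  rw [Dn, Finset.mem_finsuppAntidiag, Finsupp.degree_eq_sum]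
  simp

theorem card_Dn (r n : ℕ) : (Dn r n).card = (r + n - 1).choose n := by
  rw [Dn, Finset.card_finsuppAntidiag_nat_eq_choose, Finset.card_univ, Fintype.card_fin]

/-- monomials in `x` -/
noncomputable def mon (α : Fin r →₀ ℕ) : A := α.prod (fun i e => x i ^ e)

theorem mon_zero : mon x 0 = 1 := Finsupp.prod_zero_index

theorem mon_add_single (α : Fin r →₀ ℕ) (i : Fin r) :
    mon x (α + Finsupp.single i 1) = mon x α * x i := by
  unfold mon
  rw [Finsupp.prod_add_index' (fun _ => pow_zero _) (fun _ _ _ => pow_add _ _ _)]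
  congr 1
  exact (Finsupp.prod_single_index (h := fun i e => x i ^ e) (pow_zero _)).trans (pow_one _)

theorem eval_monomial_eq (α : Fin r →₀ ℕ) (c : A) :
    MvPolynomial.eval x (MvPolynomial.monomial α c) = c * mon x α := by
  rw [MvPolynomial.eval_monomial]; rfl

theorem mon_mem_pow {n : ℕ} {α : Fin r →₀ ℕ} (hα : α ∈ Dn r n) :
    mon x α ∈ Ideal.span (Set.range x) ^ n := by
  rw [mem_Dn] at hα
  have h1 : mon x α ∈ ∏ i ∈ α.support, Ideal.span (Set.range x) ^ (α i) := by
    unfold mon Finsupp.prod
    apply Ideal.prod_mem_prod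
    intro i _
    exact Ideal.pow_mem_pow (Ideal.subset_span (Set.mem_range_self i)) _
  rw [Finset.prod_pow_eq_pow_sum] at h1
  have h2 : ∑ i ∈ α.support, α i = n := by rw [← hα]; rfl
  rwa [h2] at h1

theorem pow_le_span_mon (n : ℕ) :
    Ideal.span (Set.range x) ^ n ≤
      Ideal.span ((fun α => mon x α) '' (Dn r n : Set (Fin r →₀ ℕ))) := by
  induction n with
  | zero =>
    rw [pow_zero, Ideal.one_eq_top]
    have : (1 : A) ∈ Ideal.span ((fun α => mon x α) '' (Dn r 0 : Set (Fin r →₀ ℕ))) := by
      apply Ideal.subset_span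
      refine ⟨0, ?_, mon_zero x⟩
      rw [Finset.mem_coe, mem_Dn, map_zero]
    rw [(Ideal.eq_top_iff_one _).mpr this]
  | succ n ih =>
    rw [pow_succ]
    refine (Ideal.mul_mono_left ih).trans ?_
    rw [Ideal.span_mul_span']
    apply Ideal.span_le.mpr
    rintro _ ⟨_, ⟨α, hα, rfl⟩, _, ⟨i, rfl⟩, rfl⟩
    apply Ideal.subset_span
    refine ⟨α + Finsupp.single i 1, ?_, mon_add_single x α i⟩
    rw [Finset.mem_coe, mem_Dn] at hα ⊢
    rw [map_add, hα, Finsupp.degree_single]

theorem exists_repr {n : ℕ} {a : A} (ha : a ∈ Ideal.span (Set.range x) ^ n) :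
    ∃ c : (Fin r →₀ ℕ) → A, ∑ α ∈ Dn r n, c α * mon x α = a := by
  have h := pow_le_span_mon x n ha
  obtain ⟨c, hc⟩ := (Submodule.mem_span_image_finset_iff_exists_fun' (R := A)
    (v := fun α => mon x α) (s := Dn r n)).mp h
  exact ⟨c, by simpa [smul_eq_mul] using hc⟩

/-- one summand of `psi` -/
noncomputable def psi1 (n : ℕ) (α : Dn r n) :
    (A ⧸ Ideal.span (Set.range x)) →ₗ[A] (A ⧸ Ideal.span (Set.range x) ^ (n + 1)) :=
  Submodule.liftQ _ (LinearMap.toSpanSingleton A (A ⧸ Ideal.span (Set.range x) ^ (n + 1))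
    (Ideal.Quotient.mk _ (mon x α.1))) (by
    intro a ha
    rw [LinearMap.mem_ker, LinearMap.toSpanSingleton_apply]
    have : a • (Ideal.Quotient.mk (Ideal.span (Set.range x) ^ (n + 1)) (mon x α.1)) =
        Ideal.Quotient.mk _ (a * mon x α.1) := rfl
    rw [this, Ideal.Quotient.eq_zero_iff_mem, pow_succ']
    exact Ideal.mul_mem_mul ha (mon_mem_pow x α.2))

/-- the surjection `(A/I)^{D_n} → I^n/I^{n+1} ⊆ A/I^{n+1}` -/
noncomputable def psi (n : ℕ) :
    ((Dn r n) → A ⧸ Ideal.span (Set.range x)) →ₗ[A] (A ⧸ Ideal.span (Set.range x) ^ (n + 1)) :=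
  ∑ α : Dn r n, (psi1 x n α) ∘ₗ (LinearMap.proj α)

theorem psi_mk (n : ℕ) (c : (Fin r →₀ ℕ) → A) :
    psi x n (fun α => Ideal.Quotient.mk _ (c α.1)) =
      Ideal.Quotient.mk _ (∑ α ∈ Dn r n, c α * mon x α) := by
  unfold psi
  rw [LinearMap.sum_apply, ← Finset.sum_coe_sort (Dn r n), map_sum]
  apply Finset.sum_congr rfl
  intro α _
  rfl

theorem exists_lift (n : ℕ) (f : (Dn r n) → A ⧸ Ideal.span (Set.range x)) :
    ∃ c : (Fin r →₀ ℕ) → A, f = fun α => Ideal.Quotient.mk _ (c α.1) := by
  classical
  refine ⟨fun α => if h : α ∈ Dn r n then (Quotient.out (f ⟨α, h⟩)) else 0, ?_⟩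
  funext α
  beta_reduce
  rw [dif_pos α.2]
  exact (Ideal.Quotient.mk_out (f α)).symm

/-- the projection `A/I^{n+1} → A/I^n` -/
noncomputable def factorL (n : ℕ) :
    (A ⧸ Ideal.span (Set.range x) ^ (n + 1)) →ₗ[A] (A ⧸ Ideal.span (Set.range x) ^ n) :=
  Submodule.mapQ _ _ LinearMap.id (by
    rw [Submodule.comap_id]; exact Ideal.pow_le_pow_right (Nat.le_succ n))

theorem factorL_mk (n : ℕ) (a : A) :
    factorL x n (Ideal.Quotient.mk _ a) = Ideal.Quotient.mk _ a := rfl

theorem factorL_surjective (n : ℕ) : Function.Surjective (factorL x n) := by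
  intro y
  obtain ⟨a, rfl⟩ := Ideal.Quotient.mk_surjective y
  exact ⟨Ideal.Quotient.mk _ a, rfl⟩

theorem range_psi (n : ℕ) : LinearMap.range (psi x n) = LinearMap.ker (factorL x n) := by
  apply le_antisymm
  · rintro _ ⟨f, rfl⟩
    obtain ⟨c, rfl⟩ := exists_lift x n f
    rw [psi_mk, LinearMap.mem_ker, factorL_mk, Ideal.Quotient.eq_zero_iff_mem]
    exact Ideal.sum_mem _ (fun α hα => Ideal.mul_mem_left _ _ (mon_mem_pow x hα))
  · intro y hy
    obtain ⟨a, rfl⟩ := Ideal.Quotient.mk_surjective y
    rw [LinearMap.mem_ker, factorL_mk] at hy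
    have ha : a ∈ Ideal.span (Set.range x) ^ n := Ideal.Quotient.eq_zero_iff_mem.mp hy
    obtain ⟨c, hc⟩ := exists_repr x ha
    exact ⟨fun α => Ideal.Quotient.mk _ (c α.1), by rw [psi_mk, hc]⟩

theorem psi_injective_iff (n : ℕ) :
    Function.Injective (psi x n) ↔
      ∀ c : (Fin r →₀ ℕ) → A,
        ∑ α ∈ Dn r n, c α * mon x α ∈ Ideal.span (Set.range x) ^ (n + 1) →
        ∀ α ∈ Dn r n, c α ∈ Ideal.span (Set.range x) := by
  constructor
  · intro hinj c hc α hα
    have h0 : psi x n (fun α => Ideal.Quotient.mk _ (c α.1)) = 0 := by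
      rw [psi_mk]; exact Ideal.Quotient.eq_zero_iff_mem.mpr hc
    have h1 := hinj (h0.trans (map_zero _).symm)
    have h2 := congrFun h1 ⟨α, hα⟩
    exact Ideal.Quotient.eq_zero_iff_mem.mp h2
  · intro h
    rw [← LinearMap.ker_eq_bot, LinearMap.ker_eq_bot']
    intro f hf
    obtain ⟨c, rfl⟩ := exists_lift x n f
    rw [psi_mk, Ideal.Quotient.eq_zero_iff_mem] at hf
    funext α
    exact Ideal.Quotient.eq_zero_iff_mem.mpr (h c hf α.1 α.2)

theorem crit_of_quasiRegular (hq : CAlgX.IsQuasiRegular x) (n : ℕ) (c : (Fin r →₀ ℕ) → A)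
    (hc : ∑ α ∈ Dn r n, c α * mon x α ∈ Ideal.span (Set.range x) ^ (n + 1)) :
    ∀ α ∈ Dn r n, c α ∈ Ideal.span (Set.range x) := by
  classical
  intro α hα
  set P : MvPolynomial (Fin r) A := ∑ β ∈ Dn r n, MvPolynomial.monomial β (c β) with hP
  have hhom : P.IsHomogeneous n := MvPolynomial.IsHomogeneous.sum _ _ _
    (fun β hβ => MvPolynomial.isHomogeneous_monomial _ (mem_Dn.mp hβ))
  have heval : MvPolynomial.eval x P = ∑ β ∈ Dn r n, c β * mon x β := by
    rw [hP, map_sum]; exact Finset.sum_congr rfl (fun β _ => eval_monomial_eq x β (c β))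
  have hcoeff : P.coeff α = c α := by
    rw [hP, MvPolynomial.coeff_sum]
    simp only [MvPolynomial.coeff_monomial]
    rw [Finset.sum_ite_eq' (Dn r n) α (fun β => c β), if_pos hα]
  rw [← hcoeff]
  exact hq n P hhom (by rw [heval]; exact hc) α

theorem quasiRegular_of_crit
    (h : ∀ (n : ℕ) (c : (Fin r →₀ ℕ) → A),
      ∑ α ∈ Dn r n, c α * mon x α ∈ Ideal.span (Set.range x) ^ (n + 1) →
      ∀ α ∈ Dn r n, c α ∈ Ideal.span (Set.range x)) :
    CAlgX.IsQuasiRegular x := by
  intro n P hP hev d
  by_cases hd : d ∈ Dn r n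
  · apply h n (fun α => P.coeff α) ?_ d hd
    have heq : MvPolynomial.eval x P = ∑ α ∈ Dn r n, P.coeff α * mon x α := by
      rw [MvPolynomial.eval_eq]
      apply Finset.sum_subset
      · intro β hβ
        rw [mem_Dn]
        by_contra hne
        exact (MvPolynomial.mem_support_iff.mp hβ) (hP.coeff_eq_zero hne)
      · intro β _ hβ
        rw [MvPolynomial.notMem_support_iff.mp hβ, zero_mul]
    rw [← heq]; exact hev
  · rw [hP.coeff_eq_zero (fun h' => hd (mem_Dn.mpr h'))]
    exact Ideal.zero_mem _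

end Mon

section Len

variable {A : Type u} [CommRing A] {r : ℕ} (x : Fin r → A)

theorem enat_cancel {a : ℕ∞} {b c : ℕ} (h : (c : ℕ∞) = a + b) : a = ((c - b : ℕ) : ℕ∞) := by
  have hne : a ≠ ⊤ := fun ht => by rw [ht, top_add] at h; exact ENat.coe_ne_top _ h
  obtain ⟨k, rfl⟩ := ENat.ne_top_iff_exists.mp hne
  have h' : c = k + b := by exact_mod_cast h
  have : k = c - b := by omega
  rw [this]

theorem length_dom (hmax : (Ideal.span (Set.range x)).IsMaximal) (n : ℕ) :
    Module.length A ((Dn r n) → A ⧸ Ideal.span (Set.range x)) = ((Dn r n).card : ℕ∞) := by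
  haveI : IsSimpleModule A (A ⧸ Ideal.span (Set.range x)) :=
    isSimpleModule_iff_isCoatom.mpr (Ideal.isMaximal_def.mp hmax)
  rw [Module.length_pi_of_fintype]
  simp

theorem length_step (n : ℕ) :
    Module.length A (A ⧸ Ideal.span (Set.range x) ^ (n + 1)) =
      Module.length A (LinearMap.range (psi x n)) +
        Module.length A (A ⧸ Ideal.span (Set.range x) ^ n) := by
  apply Module.length_eq_add_of_exact (LinearMap.range (psi x n)).subtype (factorL x n)
    (Submodule.subtype_injective _) (factorL_surjective x n)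
  rw [LinearMap.exact_iff, Submodule.range_subtype, range_psi]

theorem length_range_eq_of_injective (hmax : (Ideal.span (Set.range x)).IsMaximal) (n : ℕ)
    (hinj : Function.Injective (psi x n)) :
    Module.length A (LinearMap.range (psi x n)) = ((Dn r n).card : ℕ∞) := by
  rw [← length_dom x hmax n]
  exact (LinearEquiv.ofInjective (psi x n) hinj).length_eq.symm

theorem injective_of_length_range_eq (hmax : (Ideal.span (Set.range x)).IsMaximal) (n : ℕ)
    (h : Module.length A (LinearMap.range (psi x n)) = ((Dn r n).card : ℕ∞)) :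
    Function.Injective (psi x n) := by
  have h1 := Module.length_eq_add_of_exact (LinearMap.ker (psi x n)).subtype
    (psi x n).rangeRestrict (Submodule.subtype_injective _)
    (LinearMap.surjective_rangeRestrict _) (by
      rw [LinearMap.exact_iff, Submodule.range_subtype, LinearMap.ker_rangeRestrict])
  rw [length_dom x hmax n, h] at h1
  have h2 := enat_cancel h1
  rw [Nat.sub_self, Nat.cast_zero, Module.length_eq_zero_iff] at h2
  rw [← LinearMap.ker_eq_bot]
  haveI := h2
  exact Submodule.eq_bot_of_subsingleton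

theorem length_zero_pow : Module.length A (A ⧸ Ideal.span (Set.range x) ^ 0) = 0 := by
  rw [Module.length_eq_zero_iff, pow_zero, Ideal.one_eq_top]
  exact Ideal.Quotient.subsingleton_iff.mpr rfl

theorem card_D0 (r : ℕ) : (Dn r 0).card = 1 := by rw [card_Dn]; simp

theorem card_Dsucc (r n : ℕ) : (Dn r (n + 1)).card = (n + r).choose (n + 1) := by
  rw [card_Dn]; congr 1; omega

theorem length_formula (hmax : (Ideal.span (Set.range x)).IsMaximal)
    (hinj : ∀ n, Function.Injective (psi x n)) (s : ℕ) :
    Module.length A (A ⧸ Ideal.span (Set.range x) ^ (s + 1)) =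
      (((s + r).choose s : ℕ) : ℕ∞) := by
  induction s with
  | zero =>
    rw [length_step, length_range_eq_of_injective x hmax 0 (hinj 0), length_zero_pow, add_zero,
      card_D0]
    simp
  | succ s ih =>
    rw [length_step, length_range_eq_of_injective x hmax (s + 1) (hinj (s + 1)), ih, card_Dsucc]
    have : (s + 1 + r).choose (s + 1) = (s + r).choose (s + 1) + (s + r).choose s := by
      have e : s + 1 + r = (s + r) + 1 := by omega
      rw [e, Nat.choose_succ_succ', add_comm]
    rw [this]; push_cast; rfl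

theorem injective_of_length_formula (hmax : (Ideal.span (Set.range x)).IsMaximal)
    (h : ∀ s : ℕ, Module.length A (A ⧸ Ideal.span (Set.range x) ^ (s + 1)) =
      (((s + r).choose s : ℕ) : ℕ∞)) (n : ℕ) : Function.Injective (psi x n) := by
  apply injective_of_length_range_eq x hmax
  rcases n with _ | n
  · have h0 := h 0
    rw [length_step, length_zero_pow, add_zero] at h0
    rw [h0, card_D0]; simp
  · have h1 := h (n + 1)
    rw [length_step, h n] at h1
    have h2 := enat_cancel h1.symm
    rw [h2, card_Dsucc]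
    congr 1
    have e : n + 1 + r = (n + r) + 1 := by omega
    rw [e, Nat.choose_succ_succ']
    omega

theorem formula_of_quasiRegular (I : Ideal A) (hIx : Ideal.span (Set.range x) = I)
    (hI : I.IsMaximal) (hq : CAlgX.IsQuasiRegular x) (s : ℕ) :
    Module.length A (A ⧸ I ^ (s + 1)) = (((s + r).choose s : ℕ) : ℕ∞) := by
  subst hIx
  exact length_formula x hI
    (fun n => (psi_injective_iff x n).mpr (crit_of_quasiRegular x hq n)) s

theorem quasiRegular_of_formula (I : Ideal A) (hIx : Ideal.span (Set.range x) = I)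
    (hI : I.IsMaximal)
    (h : ∀ s : ℕ, Module.length A (A ⧸ I ^ (s + 1)) = (((s + r).choose s : ℕ) : ℕ∞)) :
    CAlgX.IsQuasiRegular x := by
  subst hIx
  exact quasiRegular_of_crit x
    (fun n => (psi_injective_iff x n).mp (injective_of_length_formula x hI h n))

end Len


/-- Let A be a Noetherian local ring with maximal ideal m, residue field k, and let r be the dimension
of the k-vector space m/m². Then A is regular if and only if the canonical surjection of graded
k-algebras from the symmetric algebra of m/m² onto the associated graded ring of A for the m-adic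
filtration is bijective. Since that surjection is bijective exactly when source and target have the
same length in every degree, the condition is expressed here as: length_A(A/m^(s+1)) equals the
binomial coefficient C(s+r, r) for every s ≥ 0. -/
theorem result (A : Type u) [CommRing A] [IsLocalRing A]
    [IsNoetherianRing A] :
    IsRegularLocalRing A ↔
      ∀ s : ℕ, Module.length A (A ⧸ IsLocalRing.maximalIdeal A ^ (s + 1)) =
        ((s + Module.finrank (IsLocalRing.ResidueField A) (IsLocalRing.CotangentSpace A)).choose s : ℕ∞) := by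
  classical
  have hspan : (IsLocalRing.maximalIdeal A).spanFinrank =
      Module.finrank (IsLocalRing.ResidueField A) (IsLocalRing.CotangentSpace A) :=
    IsLocalRing.spanFinrank_maximalIdeal_eq_finrank_cotangentSpace A
  rw [← hspan]
  set r := (IsLocalRing.maximalIdeal A).spanFinrank with hr
  obtain ⟨x, hx⟩ : ∃ x : Fin r → A, Ideal.span (Set.range x) = IsLocalRing.maximalIdeal A := by
    obtain ⟨t, ht1, ht2⟩ := Submodule.FG.exists_span_finset_card_eq_spanFinrank
      (IsNoetherian.noetherian (IsLocalRing.maximalIdeal A))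
    let e := Finset.equivFinOfCardEq ht1
    refine ⟨fun i => ((e.symm i : t) : A), ?_⟩
    have hrange : Set.range (fun i => ((e.symm i : t) : A)) = (t : Set A) := by
      ext a
      constructor
      · rintro ⟨i, rfl⟩; exact (e.symm i).2
      · intro ha; exact ⟨e ⟨a, ha⟩, by simp⟩
    rw [hrange]; exact ht2
  have hmax : (IsLocalRing.maximalIdeal A).IsMaximal := IsLocalRing.maximalIdeal.isMaximal A
  have hmem : ∀ i, x i ∈ IsLocalRing.maximalIdeal A := fun i => by
    rw [← hx]; exact Ideal.subset_span (Set.mem_range_self i)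
  constructor
  · intro hreg s
    have hd : ringKrullDim A = (r : WithBot ℕ∞) := hreg.spanFinrank_maximalIdeal.symm
    have hR := Groth.Agent.H29.isRegular_ofFn_of_span_eq_maximalIdeal A r hd x hx
    have hq := Groth.Agent.S5802.result A r x hR.toIsWeaklyRegular
    exact formula_of_quasiRegular x _ hx hmax hq s
  · intro h
    have hq := quasiRegular_of_formula x _ hx hmax h
    have hw := Groth.Agent.S5803.result A r x (fun i => by
      rw [IsLocalRing.ringJacobson_eq_maximalIdeal]; exact hmem i) hq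
    have hmemL : ∀ y ∈ List.ofFn x, y ∈ IsLocalRing.maximalIdeal A := by
      intro y hy
      rw [List.mem_ofFn] at hy
      obtain ⟨i, rfl⟩ := hy
      exact hmem i
    have hof : Ideal.ofList (List.ofFn x) = IsLocalRing.maximalIdeal A := by
      rw [Ideal.ofList, ← hx]
      congr 1
      ext y
      simp [List.mem_ofFn]
    have hne : (Ideal.ofList (List.ofFn x) • (⊤ : Submodule A A)) ≠ ⊤ := by
      rw [hof, smul_eq_mul, Ideal.mul_top]
      exact Ideal.IsPrime.ne_top'
    haveI : Nontrivial (A ⧸ Ideal.ofList (List.ofFn x) • (⊤ : Submodule A A)) :=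
      Submodule.Quotient.nontrivial_iff.mpr hne
    have hdim := Groth.Agent.H29.supportDim_quotient_add_length_of_isWeaklyRegular A A
      (List.ofFn x) hmemL hw
    rw [List.length_ofFn, Module.supportDim_self_eq_ringKrullDim] at hdim
    have hnb := Module.supportDim_ne_bot_of_nontrivial (R := A)
      (M := A ⧸ Ideal.ofList (List.ofFn x) • (⊤ : Submodule A A))
    apply IsRegularLocalRing.of_spanFinrank_maximalIdeal_le
    rw [← hdim]
    obtain ⟨b, hb⟩ := WithBot.ne_bot_iff_exists.mp hnb
    rw [← hb]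
    show ((r : ℕ∞) : WithBot ℕ∞) ≤ (b : WithBot ℕ∞) + ((r : ℕ∞) : WithBot ℕ∞)
    rw [← WithBot.coe_add, WithBot.coe_le_coe]
    exact le_add_self

end Groth.Agent.S5778
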