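import Groth.Statements.S13363
import Groth.Agent.H7.SocleFinite
-- import your own Groth.Agent.* helpers here

set_option autoImplicit false
universe u
open ProCompl

namespace Groth.Agent.S13363

/-- Let A be a topological abelian group such that the subgroup n·A is open for each n > 0, and a ∈ A.
Then A has an open subgroup of finite index not containing a if and only if a does not lie in the
subgroup of divisible elements ∩_n nA. -/
theorem result {A : Type u} [AddCommGroup A]
    [TopologicalSpace A] [IsTopologicalAddGroup A]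
    (hn : ∀ n : ℕ, 0 < n → IsOpen (Set.range (fun x : A => n • x))) (a : A) :
    (∃ B : AddSubgroup A, IsOpen (B : Set A) ∧ B.FiniteIndex ∧ a ∉ B) ↔
      ¬ (∀ n : ℕ, 0 < n → ∃ b : A, n • b = a) := by
  constructor
  · rintro ⟨B, hBo, hBf, haB⟩ hdiv
    obtain ⟨b, hb⟩ := hdiv B.index (Nat.pos_of_ne_zero AddSubgroup.FiniteIndex.index_ne_zero)
    apply haB
    rw [← hb]
    exact B.nsmul_index_mem b
  · intro hnd
    push Not at hnd
    obtain ⟨n, hnpos, hna⟩ := hnd
    set H : AddSubgroup A := (nsmulAddMonoidHom n : A →+ A).range with hH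
    have hHo : IsOpen (H : Set A) := by
      have : (H : Set A) = Set.range (fun x : A => n • x) := by
        ext y; simp [hH]
      rw [this]; exact hn n hnpos
    have haH : a ∉ H := by
      rintro ⟨b, hb⟩
      exact hna b hb
    -- Zorn
    obtain ⟨C, hHC, hCmax⟩ := zorn_le_nonempty₀ {C : AddSubgroup A | H ≤ C ∧ a ∉ C} (by
      intro c hc hchain y hy
      refine ⟨sSup c, ⟨?_, ?_⟩, fun z hz => le_sSup hz⟩
      · exact (hc hy).1.trans (le_sSup hy)
      · intro hmem
        rw [AddSubgroup.mem_sSup_of_directedOn ⟨y, hy⟩ hchain.directedOn] at hmem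
        obtain ⟨s, hs, has⟩ := hmem
        exact (hc hs).2 has) H ⟨le_rfl, haH⟩
    have hC1 : H ≤ C := hCmax.prop.1
    have haC : a ∉ C := hCmax.prop.2
    have hCo : IsOpen (C : Set A) := AddSubgroup.isOpen_mono hC1 hHo
    refine ⟨C, hCo, ?_, haC⟩
    -- the quotient is finite
    have hexp : AddMonoid.exponent (A ⧸ C) ≠ 0 := by
      have hdvd : AddMonoid.exponent (A ⧸ C) ∣ n := by
        apply AddMonoid.exponent_dvd_of_forall_nsmul_eq_zero
        intro x
        obtain ⟨y, rfl⟩ := QuotientAddGroup.mk_surjective x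
        rw [← QuotientAddGroup.mk_nsmul, QuotientAddGroup.eq_zero_iff]
        exact hC1 ⟨y, rfl⟩
      intro h0
      rw [h0, zero_dvd_iff] at hdvd
      omega
    have ha0 : (QuotientAddGroup.mk a : A ⧸ C) ≠ 0 := by
      rw [Ne, QuotientAddGroup.eq_zero_iff]; exact haC
    have hall : ∀ D : AddSubgroup (A ⧸ C), D ≠ ⊥ → (QuotientAddGroup.mk a : A ⧸ C) ∈ D := by
      intro D hD
      by_contra haD
      set C' := D.comap (QuotientAddGroup.mk' C) with hC'
      have hCC' : C ≤ C' := by
        intro x hx
        rw [hC', AddSubgroup.mem_comap]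
        have : (QuotientAddGroup.mk' C) x = 0 := (QuotientAddGroup.eq_zero_iff x).mpr hx
        rw [this]; exact D.zero_mem
      have hmem : C' ∈ {C : AddSubgroup A | H ≤ C ∧ a ∉ C} := ⟨hC1.trans hCC', haD⟩
      have hle : C' ≤ C := hCmax.le_of_ge hmem hCC'
      apply hD
      rw [eq_bot_iff]
      intro x hx
      obtain ⟨y, rfl⟩ := QuotientAddGroup.mk_surjective x
      have : y ∈ C := hle hx
      rw [AddSubgroup.mem_bot]
      exact (QuotientAddGroup.eq_zero_iff y).mpr this
    have hfin : Finite (A ⧸ C) :=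
      Groth.Agent.H7.finite_of_exponent_of_mem_every_subgroup hexp _ ha0 hall
    exact AddSubgroup.finiteIndex_of_finite_quotient

end Groth.Agent.S13363
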