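import Groth.Statements.S5452
import Groth.Agent.H23.RootD.Weyl

set_option autoImplicit false
open RootPairing
open scoped Pointwise
open RootD

namespace Groth.Agent.S5452

/-- The Weyl group of a root datum acts faithfully on the set of roots. -/
theorem result {ι M N : Type*} [AddCommGroup M] [AddCommGroup N]
    (P : RootPairing ι ℤ M N) [Finite ι] :
    Function.Injective P.weylGroupToPerm := by
  rw [injective_iff_map_eq_one]
  rintro ⟨g, hg⟩ h
  apply Subtype.ext
  apply H23.RD.weyl_eq_one_of_fix hg
  intro l
  have := DFunLike.congr_fun h l
  have h2 : g • l = g.toHom.indexEquiv l := rfl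
  rw [h2]
  simpa using this

end Groth.Agent.S5452
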