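import Groth.Statements.S3286
import Mathlib
import Groth.Agent.Lib.Helper8.LambdaAdams

set_option autoImplicit false
universe u
open Finset
open LambdaRing

namespace Groth.Agent.S3286

open Groth.Agent.Helper8 LambdaRing

/-- In a λ-ring with positive structure having the splitting property, ψ^i (ψ^j (x)) = ψ^(i j) (x) for
all i, j and x. -/
theorem result (K : Type u) [CommRing K] [LambdaRing.LambdaOps K] (P : LambdaRing.PosStructure K) (hK : LambdaRing.HasSplitting K P) (i j : ℕ) (x : K) :
    LambdaRing.adams P i (LambdaRing.adams P j x) = LambdaRing.adams P (i * j) x := by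
  obtain ⟨C, hKC, hC⟩ := hK
  obtain ⟨L', hL', (f : K →+* L'.carrier), (hf : IsExtension P L'.posStr f), hx⟩ :=
    exists_split C hC ⟨K, P⟩ hKC x
  apply hf.injective
  rw [adams_map hf, adams_map hf, adams_map hf]
  exact adams_adams_of_mem_lineSpan _ i j hx

end Groth.Agent.S3286
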