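import Mathlib
import Groth.Statements.S2908
import Groth.Agent.Lib.Helper9.QuotAct
-- import your own Groth.Agent.* helpers here

set_option autoImplicit false
open CategoryTheory CategoryTheory.Limits AlgebraicGeometry
universe u
open SGA1

namespace Groth.Agent.S2908

open Groth.Agent.Helper9 Pointwise

/-- Let a finite group G act on a scheme X and let p : X ⟶ Y be a quotient of X by G. Then p is
surjective, two points of X have the same image exactly when they lie in one G-orbit, and the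
topology of Y is the quotient topology. -/
theorem result {X Y : Scheme.{u}} {G : Type u} [Group G] [Finite G] (ρ : G →* Aut X)
    (p : X ⟶ Y) (hp : SGA1.IsQuot ρ p) :
    Function.Surjective p.base ∧ (∀ x x' : X, p.base x = p.base x' ↔ ∃ g : G, (ρ g).hom.base x = x') ∧
      Topology.IsQuotientMap p.base := by
  haveI hint : IsIntegralHom p := QuotAct.isIntegralHom ρ p hp
  haveI : IsAffineHom p := hp.affine
  haveI : UniversallyClosed p := (IsIntegralHom.iff_universallyClosed_and_isAffineHom.mp hint).1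
  have hsurj : Function.Surjective p.base := by
    intro y
    obtain ⟨_, ⟨V, hV, rfl⟩, hyV, -⟩ := Y.isBasis_affineOpens.exists_subset_of_mem_open
      (Set.mem_univ y) isOpen_univ
    have hW : IsAffineOpen (p ⁻¹ᵁ V) := hV.preimage p
    have hcs := (QuotAct.isIntegral_app ρ p hp V).comap_surjective (hp.injective V)
    obtain ⟨P, hP⟩ := hcs (hV.primeIdealOf ⟨y, hyV⟩)
    refine ⟨hW.fromSpec P, ?_⟩
    have h1 := QuotAct.map_fromSpec p V hV hW P
    rw [hP] at h1
    exact h1.trans (hV.fromSpec_primeIdealOf ⟨y, hyV⟩)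
  refine ⟨hsurj, ?_, p.isClosedMap.isQuotientMap p.continuous hsurj⟩
  intro x x'
  constructor
  · intro hxx'
    obtain ⟨_, ⟨V, hV, rfl⟩, hyV, -⟩ := Y.isBasis_affineOpens.exists_subset_of_mem_open
      (Set.mem_univ (p.base x)) isOpen_univ
    have hW : IsAffineOpen (p ⁻¹ᵁ V) := hV.preimage p
    have hxW : x ∈ p ⁻¹ᵁ V := hyV
    have hx'W : x' ∈ p ⁻¹ᵁ V := by
      show p.base x' ∈ V
      rw [← hxx']; exact hyV
    letI := QuotAct.act ρ p hp.inv V
    letI := (p.app V).hom.toAlgebra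
    haveI := QuotAct.isInvariant ρ p hp V
    haveI := QuotAct.smulCommClass ρ p hp V
    have hPx : hW.fromSpec (hW.primeIdealOf ⟨x, hxW⟩) = x := hW.fromSpec_primeIdealOf ⟨x, hxW⟩
    have hPx' : hW.fromSpec (hW.primeIdealOf ⟨x', hx'W⟩) = x' :=
      hW.fromSpec_primeIdealOf ⟨x', hx'W⟩
    have hunder : (hW.primeIdealOf ⟨x, hxW⟩).asIdeal.under Γ(Y, V) =
        (hW.primeIdealOf ⟨x', hx'W⟩).asIdeal.under Γ(Y, V) := by
      have e1 := QuotAct.map_fromSpec p V hV hW (hW.primeIdealOf ⟨x, hxW⟩)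
      have e2 := QuotAct.map_fromSpec p V hV hW (hW.primeIdealOf ⟨x', hx'W⟩)
      rw [hPx] at e1
      rw [hPx'] at e2
      have e3 : hV.fromSpec (PrimeSpectrum.comap (p.app V).hom (hW.primeIdealOf ⟨x, hxW⟩)) =
          hV.fromSpec (PrimeSpectrum.comap (p.app V).hom (hW.primeIdealOf ⟨x', hx'W⟩)) := by
        rw [← e1, ← e2]; exact hxx'
      have e4 := hV.fromSpec.isOpenEmbedding.injective e3
      exact congrArg PrimeSpectrum.asIdeal e4
    obtain ⟨g, hg⟩ := Algebra.IsInvariant.exists_smul_of_under_eq Γ(Y, V) Γ(X, p ⁻¹ᵁ V) G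
      (hW.primeIdealOf ⟨x, hxW⟩).asIdeal (hW.primeIdealOf ⟨x', hx'W⟩).asIdeal hunder
    refine ⟨g, ?_⟩
    have h5 := QuotAct.fromSpec_comap ρ p hp.inv V hW g (hW.primeIdealOf ⟨x, hxW⟩)
    rw [hPx] at h5
    refine h5.trans (Eq.trans ?_ hPx')
    congr 1
    apply PrimeSpectrum.ext
    ext b
    rw [hg, Ideal.mem_pointwise_smul_iff_inv_smul_mem]
    change QuotAct.σ ρ p hp.inv V g b ∈ (hW.primeIdealOf ⟨x, hxW⟩).asIdeal ↔
      QuotAct.σ ρ p hp.inv V (g⁻¹)⁻¹ b ∈ (hW.primeIdealOf ⟨x, hxW⟩).asIdeal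
    rw [inv_inv]
  · rintro ⟨g, rfl⟩
    have h1 : ((ρ g).hom ≫ p) x = p x := by rw [hp.inv g]
    rw [Scheme.Hom.comp_apply] at h1
    exact h1.symm

end Groth.Agent.S2908
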