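import Mathlib
import Groth.Statements.S13597
import Groth.Agent.Lib.Helper9.QuotRes
-- import your own Groth.Agent.* helpers here

set_option autoImplicit false
universe u
open CategoryTheory AlgebraicGeometry
open SGA1

namespace Groth.Agent.S13597

open Groth.Agent.Helper9 Pointwise

/-- Let a finite group G act on a scheme X and let p : X ⟶ Y be a quotient of X by G (affine,
G-invariant, sections of O_Y = G-invariant sections of O_X). For a point x of X with image y, the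
residue field κ(x) is a normal algebraic extension of κ(y) through the map induced by p, and the
stabilizer of x in G maps onto the group of κ(y)-automorphisms of κ(x): every automorphism τ of κ(x)
over κ(y) is the map on residue fields induced by some g ∈ G with g·x = x (composed with the
identification of the residue fields at g·x and x). -/
theorem result {X Y : Scheme.{u}} {G : Type u}
    [Group G] [Finite G] (ρ : G →* Aut X) (p : X ⟶ Y) (hp : SGA1.IsQuot ρ p) (x : X) :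
    (letI := (p.residueFieldMap x).hom.toAlgebra
     Normal (Y.residueField (p.base x)) (X.residueField x)) ∧
    ∀ τ : X.residueField x ≅ X.residueField x,
      p.residueFieldMap x ≫ τ.hom = p.residueFieldMap x →
      ∃ (g : G) (e : (ρ g).hom.base x = x),
        τ.hom = (X.residueFieldCongr e).inv ≫ (ρ g).hom.residueFieldMap x := by
  haveI := hp.affine
  obtain ⟨_, ⟨V, hV, rfl⟩, hyV, -⟩ := Y.isBasis_affineOpens.exists_subset_of_mem_open
    (Set.mem_univ (p.base x)) isOpen_univ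
  have hW : IsAffineOpen (p ⁻¹ᵁ V) := hV.preimage p
  have hxW : x ∈ p ⁻¹ᵁ V := hyV
  letI := QuotAct.act ρ p hp.inv V
  letI := (p.app V).hom.toAlgebra
  haveI := QuotAct.isInvariant ρ p hp V
  haveI := QuotAct.smulCommClass ρ p hp V
  obtain ⟨Q, hQdef⟩ : ∃ Q : Ideal Γ(X, p ⁻¹ᵁ V), Q = (hW.primeIdealOf ⟨x, hxW⟩).asIdeal :=
    ⟨_, rfl⟩
  haveI hQprime : Q.IsPrime := hQdef ▸ (hW.primeIdealOf ⟨x, hxW⟩).isPrime
  obtain ⟨P, hPdef⟩ : ∃ P : Ideal Γ(Y, V), P = Q.under Γ(Y, V) := ⟨_, rfl⟩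
  haveI hPprime : P.IsPrime := hPdef ▸ Ideal.IsPrime.under Γ(Y, V) Q
  haveI : Q.LiesOver P := ⟨hPdef⟩
  have hQ : ∀ b : Γ(X, p ⁻¹ᵁ V), b ∈ Q ↔ (X.evaluation (p ⁻¹ᵁ V) x hxW).hom b = 0 := by
    intro b
    rw [hQdef]
    exact QuotAct.mem_primeIdealOf_iff (p ⁻¹ᵁ V) hW x hxW b
  have hnat : ∀ a : Γ(Y, V), (X.evaluation (p ⁻¹ᵁ V) x hxW).hom ((p.app V).hom a) = (p.residueFieldMap x).hom ((Y.evaluation V (p.base x) hyV).hom a) :=
    fun a => (Scheme.evaluation_naturality_apply p x hyV a).symm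
  have hP : ∀ a : Γ(Y, V), a ∈ P ↔ (Y.evaluation V (p.base x) hyV).hom a = 0 := by
    intro a
    rw [hPdef]
    change (p.app V).hom a ∈ Q ↔ _
    rw [hQ, hnat, map_eq_zero_iff _ (RingHom.injective _)]
  letI algBL : Algebra (Γ(X, p ⁻¹ᵁ V) ⧸ Q) (X.residueField x) :=
    (Ideal.Quotient.lift Q (X.evaluation (p ⁻¹ᵁ V) x hxW).hom (fun b hb => (hQ b).mp hb)).toAlgebra
  letI algAK : Algebra (Γ(Y, V) ⧸ P) (Y.residueField (p.base x)) :=
    (Ideal.Quotient.lift P (Y.evaluation V (p.base x) hyV).hom (fun a ha => (hP a).mp ha)).toAlgebra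
  letI algKL : Algebra (Y.residueField (p.base x)) (X.residueField x) := (p.residueFieldMap x).hom.toAlgebra
  letI algAL : Algebra (Γ(Y, V) ⧸ P) (X.residueField x) :=
    ((algebraMap (Y.residueField (p.base x)) (X.residueField x)).comp (algebraMap (Γ(Y, V) ⧸ P) (Y.residueField (p.base x)))).toAlgebra
  haveI : IsScalarTower (Γ(Y, V) ⧸ P) (Y.residueField (p.base x)) (X.residueField x) := IsScalarTower.of_algebraMap_eq (fun _ => rfl)
  haveI : IsScalarTower (Γ(Y, V) ⧸ P) (Γ(X, p ⁻¹ᵁ V) ⧸ Q) (X.residueField x) := by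
    refine IsScalarTower.of_algebraMap_eq (fun a => ?_)
    obtain ⟨a, rfl⟩ := Ideal.Quotient.mk_surjective a
    rw [Ideal.Quotient.algebraMap_mk_of_liesOver]
    exact (hnat a).symm
  haveI : FaithfulSMul (Γ(X, p ⁻¹ᵁ V) ⧸ Q) (X.residueField x) := by
    rw [faithfulSMul_iff_algebraMap_injective, injective_iff_map_eq_zero]
    intro b hb
    obtain ⟨b, rfl⟩ := Ideal.Quotient.mk_surjective b
    rw [Ideal.Quotient.eq_zero_iff_mem, hQ]
    exact hb
  haveI : FaithfulSMul (Γ(Y, V) ⧸ P) (Y.residueField (p.base x)) := by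
    rw [faithfulSMul_iff_algebraMap_injective, injective_iff_map_eq_zero]
    intro b hb
    obtain ⟨b, rfl⟩ := Ideal.Quotient.mk_surjective b
    rw [Ideal.Quotient.eq_zero_iff_mem, hP]
    exact hb
  haveI : IsFractionRing (Γ(X, p ⁻¹ᵁ V) ⧸ Q) (X.residueField x) := by
    apply IsFractionRing.of_field
    intro z
    obtain ⟨b, c, hc, hz⟩ := QuotAct.evaluation_frac (p ⁻¹ᵁ V) hW x hxW z
    exact ⟨Ideal.Quotient.mk Q b, Ideal.Quotient.mk Q c, eq_div_of_mul_eq hc hz⟩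
  haveI : IsFractionRing (Γ(Y, V) ⧸ P) (Y.residueField (p.base x)) := by
    apply IsFractionRing.of_field
    intro z
    obtain ⟨b, c, hc, hz⟩ := QuotAct.evaluation_frac V hV (p.base x) hyV z
    exact ⟨Ideal.Quotient.mk P b, Ideal.Quotient.mk P c, eq_div_of_mul_eq hc hz⟩
  have hnormal := Ideal.IsFractionRing.normal G P Q (Y.residueField (p.base x)) (X.residueField x)
  refine ⟨hnormal, ?_⟩
  intro τ hτ
  obtain ⟨⟨g, hgQ⟩, hg⟩ := IsFractionRing.stabilizerHom_surjective G P Q (Y.residueField (p.base x)) (X.residueField x)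
    (AlgEquiv.ofRingEquiv (f := τ.commRingCatIsoToRingEquiv) (fun k => by
      have := congrArg (fun φ => CommRingCat.Hom.hom φ k) hτ
      exact this))
  have hτb : ∀ b : Γ(X, p ⁻¹ᵁ V), τ.hom.hom ((X.evaluation (p ⁻¹ᵁ V) x hxW).hom b) = (X.evaluation (p ⁻¹ᵁ V) x hxW).hom (g • b) := by
    intro b
    have h1 := IsFractionRing.stabilizerHom_apply_apply_mk G P Q (Y.residueField (p.base x)) (X.residueField x) ⟨g, hgQ⟩ b
    rw [hg] at h1
    exact h1
  have hginv : g⁻¹ • Q = Q := (MulAction.stabilizer G Q).inv_mem hgQ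
  have hgQ' : ∀ b : Γ(X, p ⁻¹ᵁ V), QuotAct.σ ρ p hp.inv V g⁻¹ b ∈ Q ↔ b ∈ Q := by
    intro b
    conv_rhs => rw [← hginv, Ideal.mem_pointwise_smul_iff_inv_smul_mem, inv_inv]
    rfl
  have e : (ρ g⁻¹).hom.base x = x := by
    have h5 := QuotAct.fromSpec_comap ρ p hp.inv V hW g⁻¹ (hW.primeIdealOf ⟨x, hxW⟩)
    have h6 : PrimeSpectrum.comap (QuotAct.σ ρ p hp.inv V g⁻¹) (hW.primeIdealOf ⟨x, hxW⟩) =
        hW.primeIdealOf ⟨x, hxW⟩ := by
      apply PrimeSpectrum.ext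
      ext b
      change QuotAct.σ ρ p hp.inv V g⁻¹ b ∈ (hW.primeIdealOf ⟨x, hxW⟩).asIdeal ↔
        b ∈ (hW.primeIdealOf ⟨x, hxW⟩).asIdeal
      rw [← hQdef]
      exact hgQ' b
    rw [h6, hW.fromSpec_primeIdealOf ⟨x, hxW⟩] at h5
    exact h5
  refine ⟨g⁻¹, e, ?_⟩
  apply CommRingCat.hom_ext
  apply QuotAct.ringHom_ext_evaluation (p ⁻¹ᵁ V) hW x hxW
  intro b
  rw [hτb b]
  change _ = ((ρ g⁻¹).hom.residueFieldMap x).hom ((X.residueFieldCongr e).inv.hom ((X.evaluation (p ⁻¹ᵁ V) x hxW).hom b))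
  have hx' : (ρ g⁻¹).hom.base x ∈ p ⁻¹ᵁ V := by rw [e]; exact hxW
  rw [QuotAct.residueFieldCongr_inv_evaluation (p ⁻¹ᵁ V) x _ e hxW hx' b]
  exact (QuotAct.evaluation_appLE (ρ g⁻¹).hom (p ⁻¹ᵁ V) (p ⁻¹ᵁ V)
    (SGA1.preimage_le_of_inv ρ p hp.inv g⁻¹ V) x hxW b).symm

end Groth.Agent.S13597
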