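import Groth.Statements.S6870
import Groth.Agent.Lib.TorsionFree

set_option autoImplicit false
universe u
open CAlg

namespace Groth.Agent.S6870

/-- Let `R` be a domain, `M` a finite `R`-module and `j : M → M**` the evaluation map into the double
dual. Then one nonzero `c ∈ R` kills the kernel of `j` and multiplies `M**` into the image of `j`.
(The published statement says only that the kernel and cokernel of `j` are torsion; this row gives
one such `c` for both.) -/
theorem result (R : Type u) [CommRing R] [IsDomain R] (M : Type u)
    [AddCommGroup M] [Module R M] [Module.Finite R M] :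
    ∃ c : R, c ≠ 0 ∧ (∀ x : M, Module.Dual.eval R M x = 0 → c • x = 0) ∧
      ∀ y : Module.Dual R (Module.Dual R M), c • y ∈ LinearMap.range (Module.Dual.eval R M) := by
  obtain ⟨n, b, A, f, -, hA, h⟩ := Groth.Agent.Lib.exists_coord R M
  let φ : Fin n → Module.Dual R M := fun i => (LinearMap.proj i : (Fin n → R) →ₗ[R] R) ∘ₗ f
  refine ⟨A, hA, fun x hx => ?_, fun y => ?_⟩
  · rw [h x]
    refine Finset.sum_eq_zero fun i _ => ?_
    have : φ i x = 0 := by
      have := congrArg (fun z => z (φ i)) hx
      simpa using this
    have h2 : f x i = 0 := this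
    rw [h2, zero_smul]
  · refine ⟨∑ i, y (φ i) • b i, ?_⟩
    ext ψ
    have hψ : A • ψ = ∑ i, ψ (b i) • φ i := by
      ext x
      have : ψ (A • x) = ψ (∑ i, f x i • b i) := by rw [h x]
      simp only [map_smul, map_sum, smul_eq_mul] at this
      simp only [LinearMap.smul_apply, smul_eq_mul, LinearMap.coe_sum, Finset.sum_apply]
      rw [this]
      refine Finset.sum_congr rfl fun i _ => ?_
      change f x i * ψ (b i) = ψ (b i) * f x i
      ring
    have h3 : (A • y) ψ = y (A • ψ) := by simp
    rw [h3, hψ, Module.Dual.eval_apply]
    simp only [map_sum, map_smul, smul_eq_mul]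
    refine Finset.sum_congr rfl fun i _ => ?_
    exact mul_comm _ _

end Groth.Agent.S6870
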