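import Groth.Statements.S0015

set_option autoImplicit false
universe u
open Coherent

namespace Groth.Agent.S0015

open AlgebraicGeometry in
/-- Let X be quasi-compact and quasi-separated and P a property of opens of X. If P holds for affine
opens, and P(U ∪ V) follows from P(U), P(V), P(U ∩ V) whenever U is quasi-compact open and V affine
open, then P holds for every quasi-compact open, in particular for X. -/
theorem result (X : Scheme.{u}) [CompactSpace X] [QuasiSeparatedSpace X]
    (P : X.Opens → Prop) (h₁ : ∀ U : X.Opens, IsAffineOpen U → P U)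
    (h₂ : ∀ U V : X.Opens, IsCompact (U : Set X) → IsAffineOpen V → P U → P V → P (U ⊓ V) →
      P (U ⊔ V))
    (U : X.Opens) (hU : IsCompact (U : Set X)) : P U := by
  classical
  -- Step 1: P holds for every compact open contained in an affine open.
  have step1 : ∀ (V : X.Opens), IsAffineOpen V → ∀ W : X.Opens, IsCompact (W : Set X) → W ≤ V →
      P W := by
    intro V hV
    -- finite unions of basic opens
    have key : ∀ (s : Finset Γ(X, V)) (g : Γ(X, V)), P (⨆ f ∈ s, X.basicOpen (f * g)) := by
      intro s
      induction s using Finset.induction_on with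
      | empty =>
        intro g
        simpa using h₁ _ (isAffineOpen_bot X)
      | insert a s ha ih =>
        intro g
        rw [Finset.iSup_insert, sup_comm]
        refine h₂ _ _ ?_ (hV.basicOpen _) (ih g) (h₁ _ (hV.basicOpen _)) ?_
        · have : (((⨆ f ∈ s, X.basicOpen (f * g) : X.Opens)) : Set X) =
              ⋃ f ∈ s, (X.basicOpen (f * g) : Set X) := by
            simp
          rw [this]
          exact s.finite_toSet.isCompact_biUnion fun f _ => (hV.basicOpen _).isCompact
        · have : (⨆ f ∈ s, X.basicOpen (f * g)) ⊓ X.basicOpen (a * g) =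
              ⨆ f ∈ s, X.basicOpen (f * (g * (a * g))) := by
            rw [iSup_inf_eq]
            congr 1; ext1 f
            rw [iSup_inf_eq]
            congr 1; ext1 hf
            rw [← Scheme.basicOpen_mul, mul_assoc]
          rw [this]
          exact ih _
    intro W hW hWV
    have hcov : ∀ x : W, ∃ f : Γ(X, V), X.basicOpen f ≤ W ∧ (x : X) ∈ X.basicOpen f :=
      fun x => hV.exists_basicOpen_le x (hWV x.2)
    choose F hF1 hF2 using hcov
    obtain ⟨t, ht⟩ := hW.elim_finite_subcover (fun x : W => (X.basicOpen (F x) : Set X))
      (fun x => (X.basicOpen (F x)).isOpen) (fun x hx => Set.mem_iUnion.mpr ⟨⟨x, hx⟩, hF2 ⟨x, hx⟩⟩)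
    have hWeq : W = ⨆ f ∈ t.image F, X.basicOpen (f * 1) := by
      apply le_antisymm
      · intro x hx
        have := ht hx
        simp only [Set.mem_iUnion] at this
        obtain ⟨i, hi, hxi⟩ := this
        simp only [mul_one, TopologicalSpace.Opens.mem_iSup, Finset.mem_image]
        exact ⟨F i, ⟨i, hi, rfl⟩, hxi⟩
      · simp only [mul_one, iSup_le_iff, Finset.mem_image]
        rintro f ⟨i, _, rfl⟩
        exact hF1 i
    rw [hWeq]
    exact key _ _
  -- Step 2: general compact opens
  refine compact_open_induction_on (P := P) U hU (h₁ _ (isAffineOpen_bot X)) ?_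
  intro S hS A hPS
  refine h₂ S A hS A.2 hPS (h₁ _ A.2) ?_
  refine step1 A A.2 _ ?_ inf_le_right
  exact QuasiSeparatedSpace.inter_isCompact S.1 A.1.1 S.2 hS A.1.2 A.2.isCompact

end Groth.Agent.S0015
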