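import Groth.Statements.S9838
import Groth.Agent.Lead.FinType3
import Groth.Agent.Lead.QCoh8
-- import your own Groth.Agent.* helpers here

set_option autoImplicit false
open CategoryTheory CategoryTheory.Limits AlgebraicGeometry Opposite
universe u
open Desc

namespace Groth.Agent.S9838


section
open CategoryTheory CategoryTheory.Limits AlgebraicGeometry Opposite TopologicalSpace
open Groth.Agent.Lead.QCoh Groth.Agent.Lead.FinType

variable {X Y : Scheme.{u}}

theorem finite_iff (f : X ⟶ Y) [IsFinite f] (F : X.Modules) (V : Y.Opens) (hV : IsAffineOpen V) :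
    Module.Finite Γ(X, f ⁻¹ᵁ V) Γ(F, f ⁻¹ᵁ V) ↔
      Module.Finite Γ(Y, V) Γ((Scheme.Modules.pushforward f).obj F, V) := by
  letI : Algebra Γ(Y, V) Γ(X, f ⁻¹ᵁ V) := (f.app V).hom.toAlgebra
  haveI : Module.Finite Γ(Y, V) Γ(X, f ⁻¹ᵁ V) := IsFinite.finite_app f V hV
  letI : Module Γ(X, f ⁻¹ᵁ V) Γ((Scheme.Modules.pushforward f).obj F, V) :=
    inferInstanceAs (Module Γ(X, f ⁻¹ᵁ V) Γ(F, f ⁻¹ᵁ V))
  haveI : IsScalarTower Γ(Y, V) Γ(X, f ⁻¹ᵁ V) Γ((Scheme.Modules.pushforward f).obj F, V) :=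
    ⟨fun r a m => by
      rw [Algebra.smul_def, mul_smul]; rfl⟩
  constructor
  · intro h
    haveI : Module.Finite Γ(X, f ⁻¹ᵁ V) Γ((Scheme.Modules.pushforward f).obj F, V) := h
    exact Module.Finite.trans (R := Γ(Y, V)) Γ(X, f ⁻¹ᵁ V)
      Γ((Scheme.Modules.pushforward f).obj F, V)
  · intro h
    exact Module.Finite.of_restrictScalars_finite Γ(Y, V) Γ(X, f ⁻¹ᵁ V)
      Γ((Scheme.Modules.pushforward f).obj F, V)

end

/-- Let f : X ⟶ Y be a finite morphism of schemes and F a quasi-coherent O_X-module. The pushforward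
f_*F is of finite type as an O_Y-module exactly when F itself is of finite type as an O_X-module. -/
theorem result {X Y : Scheme.{u}} (f : X ⟶ Y) [IsFinite f]
    (F : X.Modules) [F.IsQuasicoherent] :
    SheafOfModules.IsFiniteType (R := X.ringCatSheaf) F ↔
      SheafOfModules.IsFiniteType (R := Y.ringCatSheaf) ((Scheme.Modules.pushforward f).obj F) := by
  haveI : ((Scheme.Modules.pushforward f).obj F).IsQuasicoherent :=
    Groth.Agent.Lead.QCoh.isQuasicoherent_pushforward f F
  constructor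
  · intro h
    haveI : SheafOfModules.IsFiniteType (R := X.ringCatSheaf) F := h
    apply Groth.Agent.Lead.FinType.isFiniteType_of_finite_sections
    intro y
    obtain ⟨V, hV, hyV⟩ : ∃ V : Y.Opens, IsAffineOpen V ∧ y ∈ V := by
      obtain ⟨_, ⟨V, hV, rfl⟩, hyV, -⟩ :=
        Y.isBasis_affineOpens.exists_subset_of_mem_open (Set.mem_univ y) isOpen_univ
      exact ⟨V, hV, hyV⟩
    refine ⟨V, hV, hyV, (finite_iff f F V hV).mp ?_⟩
    exact Groth.Agent.Lead.FinType.finite_sections_of_isFiniteType F (hV.preimage f)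
  · intro h
    haveI : SheafOfModules.IsFiniteType (R := Y.ringCatSheaf)
      ((Scheme.Modules.pushforward f).obj F) := h
    apply Groth.Agent.Lead.FinType.isFiniteType_of_finite_sections
    intro x
    obtain ⟨V, hV, hyV⟩ : ∃ V : Y.Opens, IsAffineOpen V ∧ f x ∈ V := by
      obtain ⟨_, ⟨V, hV, rfl⟩, hyV, -⟩ :=
        Y.isBasis_affineOpens.exists_subset_of_mem_open (Set.mem_univ (f x)) isOpen_univ
      exact ⟨V, hV, hyV⟩
    refine ⟨f ⁻¹ᵁ V, hV.preimage f, hyV, (finite_iff f F V hV).mpr ?_⟩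
    exact Groth.Agent.Lead.FinType.finite_sections_of_isFiniteType _ hV

end Groth.Agent.S9838
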