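import Groth.Statements.S0045
import Groth.Agent.Lead.FinType3
-- import your own Groth.Agent.* helpers here

set_option autoImplicit false
universe u
open Coherent

namespace Groth.Agent.S0045


section
open CategoryTheory CategoryTheory.Limits AlgebraicGeometry Opposite TopologicalSpace
open Groth.Agent.Lead.QCoh Groth.Agent.Lead.FinType

variable {X : Scheme.{u}}

/-- the submodule of sections of a subobject over `U`. -/
noncomputable def secSub (M : X.Modules) (A : Subobject M) (U : X.Opens) :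
    Submodule Γ(X, U) Γ(M, U) where
  carrier := Set.range (A.arrow.app U)
  add_mem' := by
    rintro _ _ ⟨a, rfl⟩ ⟨b, rfl⟩
    exact ⟨a + b, map_add _ a b⟩
  zero_mem' := ⟨0, map_zero _⟩
  smul_mem' := by
    rintro r _ ⟨a, rfl⟩
    exact ⟨r • a, Scheme.Modules.Hom.app_smul _ r a⟩

theorem ofLE_app (M : X.Modules) {A B : Subobject M} (h : A ≤ B) (U : X.Opens)
    (a : Γ((A : X.Modules), U)) :
    B.arrow.app U ((Subobject.ofLE A B h).app U a) = A.arrow.app U a := by
  have h1 := Subobject.ofLE_arrow h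
  have h2 : (Subobject.ofLE A B h ≫ B.arrow).app U a = A.arrow.app U a := by rw [h1]
  exact h2

theorem secSub_mono (M : X.Modules) {A B : Subobject M} (h : A ≤ B) (U : X.Opens) :
    secSub M A U ≤ secSub M B U := by
  rintro _ ⟨a, rfl⟩
  exact ⟨(Subobject.ofLE A B h).app U a, ofLE_app M h U a⟩

theorem epi_ofLE (M : X.Modules) {A B : Subobject M} (h : A ≤ B)
    [hB : (B : X.Modules).IsQuasicoherent]
    (hcov : ∀ x : X, ∃ U : X.Opens, IsAffineOpen U ∧ x ∈ U ∧ secSub M B U ≤ secSub M A U) :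
    Epi (Subobject.ofLE A B h) := by
  apply epi_of_stalkMap_surjective
  intro x b
  obtain ⟨U, hU, hxU, hle⟩ := hcov x
  obtain ⟨r, n, hxr, hrn⟩ := exists_smul_eq_germ (B : X.Modules) hU x hxU b
  obtain ⟨a, ha⟩ := hle ⟨n, rfl⟩
  have hna : (Subobject.ofLE A B h).app U a = n := by
    apply app_injective_of_mono B.arrow U
    rw [ofLE_app M h U a]
    exact ha
  have hu : IsUnit (X.presheaf.germ U x hxU r) := (Scheme.mem_basicOpen _ _ x hxU).mp hxr
  obtain ⟨v, hv⟩ := hu
  refine ⟨(↑v⁻¹ : X.presheaf.stalk x) • (A : X.Modules).presheaf.germ U x hxU a, ?_⟩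
  rw [stalkMap_smul, stalkMap_germ, hna, ← hrn, ← hv, smul_smul, Units.inv_mul, one_smul]

theorem main (X : Scheme.{u}) [IsNoetherian X] (M : X.Modules)
    (hM : Coh.IsCoh M) (F : ℕ →o Subobject M)
    (hF : ∀ n, Coh.IsQCoh ((F n : Subobject M) : X.Modules)) :
    ∃ n : ℕ, ∀ m : ℕ, n ≤ m → F m = F n := by
  classical
  obtain ⟨hq, hf⟩ := hM
  haveI := hq
  haveI := hf
  have hstab : ∀ U : X.affineOpens,
      ∃ n, ∀ m, n ≤ m → secSub M (F n) U.1 = secSub M (F m) U.1 := by
    intro U
    haveI : IsNoetherianRing Γ(X, U.1) := IsLocallyNoetherian.component_noetherian U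
    haveI : Module.Finite Γ(X, U.1) Γ(M, U.1) := finite_sections_of_isFiniteType M U.2
    haveI : _root_.IsNoetherian Γ(X, U.1) Γ(M, U.1) := isNoetherian_of_isNoetherianRing_of_finite _ _
    exact monotone_stabilizes_iff_noetherian.mpr inferInstance
      ⟨fun n => secSub M (F n) U.1, fun a b hab => secSub_mono M (F.monotone hab) U.1⟩
  choose N hN using hstab
  obtain ⟨t, ht⟩ := isCompact_univ.elim_finite_subcover
    (fun U : X.affineOpens => (U.1 : Set X)) (fun U => U.1.2) (by
      intro x _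
      have : x ∈ (⨆ U : X.affineOpens, (U : X.Opens)) := by
        rw [iSup_affineOpens_eq_top]; trivial
      obtain ⟨U, hU⟩ := Opens.mem_iSup.mp this
      exact Set.mem_iUnion.mpr ⟨U, hU⟩)
  refine ⟨t.sup N, fun m hm => ?_⟩
  have hle : F (t.sup N) ≤ F m := F.monotone hm
  haveI : ((F m : Subobject M) : X.Modules).IsQuasicoherent := hF m
  haveI hepi : Epi (Subobject.ofLE _ _ hle) := by
    apply epi_ofLE M hle
    intro x
    obtain ⟨U, hUt, hxU⟩ : ∃ U ∈ t, x ∈ (U.1 : Set X) := by
      have := ht (Set.mem_univ x)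
      simpa using this
    refine ⟨U.1, U.2, hxU, ?_⟩
    have h1 : N U ≤ t.sup N := Finset.le_sup hUt
    rw [← hN U m (h1.trans hm), hN U (t.sup N) h1]
  haveI : IsIso (Subobject.ofLE _ _ hle) := isIso_of_mono_of_epi _
  refine le_antisymm ?_ hle
  exact Subobject.le_of_comm (inv (Subobject.ofLE _ _ hle))
    (by rw [IsIso.inv_comp_eq, Subobject.ofLE_arrow])
end

open AlgebraicGeometry CategoryTheory in
/-- On a Noetherian scheme, any increasing sequence of quasi-coherent submodules of a coherent module is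
eventually constant. -/
theorem result (X : Scheme.{u}) [IsNoetherian X] (M : X.Modules)
    (hM : Coh.IsCoh M) (F : ℕ →o Subobject M) (hF : ∀ n, Coh.IsQCoh ((F n : Subobject M) : X.Modules)) :
    ∃ n : ℕ, ∀ m : ℕ, n ≤ m → F m = F n := by
  exact main X M hM F hF

end Groth.Agent.S0045
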