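import Groth.Statements.S0063
import Groth.Agent.H2.Rigidity

set_option autoImplicit false
open CategoryTheory CategoryTheory.Limits AlgebraicGeometry Opposite
universe u
open EtBase

namespace Groth.Agent.S0063

/-- Rigidity of maps into an unramified separated scheme — two maps from a connected scheme over the
base that agree at one point, including on residue fields, coincide. -/
theorem result {X S Y : Scheme.{u}} (π : X ⟶ S)
    [FormallyUnramified π] [LocallyOfFiniteType π] [IsSeparated π]
    (h : Y ⟶ S) [ConnectedSpace Y] (f g : Y ⟶ X) (hf : f ≫ π = h) (hg : g ≫ π = h)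
    (y : Y) (hy : Y.fromSpecResidueField y ≫ f = Y.fromSpecResidueField y ≫ g) : f = g := by
  let X' : Over S := Over.mk π
  let Y' : Over S := Over.mk h
  let f' : Y' ⟶ X' := Over.homMk f hf
  let g' : Y' ⟶ X' := Over.homMk g hg
  have hsep : IsSeparated X'.hom := ‹_›
  have hclosed : IsClosedImmersion (equalizer.ι f' g').left := inferInstance
  have hd : IsOpenImmersion (pullback.diagonal X'.hom) :=
    inferInstanceAs (IsOpenImmersion (pullback.diagonal π))
  have hopen : IsOpenImmersion (equalizer.ι f' g').left :=
    Groth.Agent.H2.isOpenImmersion_equalizer_ι_left f' g'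
  set ι : (equalizer f' g').left ⟶ Y := (equalizer.ι f' g').left with hι
  -- the range of ι is clopen and contains y
  have hclopen : IsClopen (Set.range ι) :=
    ⟨ι.isClosedEmbedding.isClosed_range, ι.isOpenEmbedding.isOpen_range⟩
  have hy' : y ∈ Set.range ι := by
    let Sp : Over S := Over.mk (Y.fromSpecResidueField y ≫ h)
    let j : Sp ⟶ Y' := Over.homMk (Y.fromSpecResidueField y) rfl
    have hj : j ≫ f' = j ≫ g' := by
      ext1
      exact hy
    let l : Sp ⟶ equalizer f' g' := equalizer.lift j hj
    have hl : l.left ≫ ι = Y.fromSpecResidueField y := by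
      rw [hι, ← Over.comp_left, equalizer.lift_ι]
      rfl
    refine ⟨l.left (default : ↥(Spec (Y.residueField y))), ?_⟩
    rw [← Scheme.Hom.comp_apply, hl, Scheme.fromSpecResidueField_apply]
  have huniv : Set.range ι = Set.univ := by
    rcases isClopen_iff.mp hclopen with h0 | h1
    · rw [h0] at hy'
      exact absurd hy' (Set.notMem_empty y)
    · exact h1
  have hsurj : Surjective ι := ⟨Set.range_eq_univ.mp huniv⟩
  have hiso : IsIso ι := (isIso_iff_isOpenImmersion_and_surjective ι).mpr ⟨hopen, hsurj⟩
  rw [← cancel_epi ι]
  exact congr($(equalizer.condition f' g').left)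

end Groth.Agent.S0063
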