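import Groth.Statements.S0066
import Groth.Agent.Lib.Helper18.EtNormal

set_option autoImplicit false
open CategoryTheory CategoryTheory.Limits AlgebraicGeometry Opposite
universe u
open EtBase

namespace Groth.Agent.S0066

/-- For an étale morphism f : X → Y with Y locally Noetherian and a point x of X, the local ring O_{X,x}
is a normal domain (a domain which is integrally closed in its fraction field) if and only if
O_{Y,f(x)} is. -/
theorem result {X Y : Scheme.{u}} (f : X ⟶ Y) [AlgebraicGeometry.Etale f]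
    [IsLocallyNoetherian Y] (x : X) :
    (IsDomain (X.presheaf.stalk x) ∧ IsIntegrallyClosed (X.presheaf.stalk x)) ↔
      (IsDomain (Y.presheaf.stalk (f.base x)) ∧ IsIntegrallyClosed (Y.presheaf.stalk (f.base x))) := by
  obtain ⟨_, ⟨V, (hV : IsAffineOpen V), rfl⟩, hyV, -⟩ :=
    Y.isBasis_affineOpens.exists_subset_of_mem_open (Set.mem_univ (f.base x)) isOpen_univ
  obtain ⟨_, ⟨U, (hU : IsAffineOpen U), rfl⟩, hxU, hUV⟩ :=
    X.isBasis_affineOpens.exists_subset_of_mem_open
      (show x ∈ ((f ⁻¹ᵁ V : X.Opens) : Set X) from hyV) (f ⁻¹ᵁ V).isOpen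
  have hle : U ≤ f ⁻¹ᵁ V := hUV
  have hφ := f.etale_appLE hV hU hle
  algebraize [(Y.presheaf.germ V _ hyV).hom]
  algebraize [(X.presheaf.germ U x hxU).hom]
  haveI := hU.isLocalization_stalk ⟨x, hxU⟩
  haveI := hV.isLocalization_stalk ⟨f.base x, hyV⟩
  have hprime : Spec.map (f.appLE V U hle) (hU.primeIdealOf ⟨x, hxU⟩) =
      hV.primeIdealOf ⟨f.base x, hyV⟩ := by
    apply hV.fromSpec.isOpenEmbedding.injective
    rw [← Scheme.Hom.comp_apply, hV.SpecMap_appLE_fromSpec f hU hle, Scheme.Hom.comp_apply,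
      hU.fromSpec_primeIdealOf ⟨x, hxU⟩, hV.fromSpec_primeIdealOf ⟨f.base x, hyV⟩]
  constructor
  · rintro ⟨h1, h2⟩
    algebraize [(f.stalkMap x).hom]
    haveI : Module.FaithfullyFlat (Y.presheaf.stalk (f.base x)) (X.presheaf.stalk x) :=
      @Module.FaithfullyFlat.of_flat_of_isLocalHom _ _ _ _ _ _ _
        (Flat.stalkMap f x) (f.toLRSHom.prop x)
    exact Groth.Agent.H11.EtNorm.normal_of_faithfullyFlat _ (X.presheaf.stalk x)
  · rintro ⟨h1, h2⟩
    algebraize [(f.appLE V U hle).hom]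
    exact Groth.Agent.Helper18.EtNormal.normal_of_etale_loc Γ(Y, V) Γ(X, U)
      (hU.primeIdealOf ⟨x, hxU⟩).asIdeal (hV.primeIdealOf ⟨f.base x, hyV⟩).asIdeal
      (congrArg PrimeSpectrum.asIdeal hprime)
      (Y.presheaf.stalk (f.base x)) (X.presheaf.stalk x)

end Groth.Agent.S0066
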