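import Mathlib
import Groth.Statements.S5128
-- import your own Groth.Agent.* helpers here

set_option autoImplicit false
universe u
open SGA1

namespace Groth.Agent.S5128

open AlgebraicGeometry CategoryTheory CategoryTheory.Limits

theorem isIso_of_openImm_surj {X Y : Scheme.{u}} (f : X ⟶ Y) [IsOpenImmersion f] [Surjective f] :
    IsIso f :=
  (isIso_iff_isOpenImmersion_and_epi_base f).mpr
    ⟨inferInstance, (TopCat.epi_iff_surjective _).mpr f.surjective⟩

theorem graph_isOpenImmersion {S X Y : Scheme.{u}} (p : X ⟶ S) (q : Y ⟶ S) [Etale q]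
    (γ : X ⟶ pullback p q) (hsec : γ ≫ pullback.fst p q = 𝟙 X) : IsOpenImmersion γ := by
  haveI : Etale (γ ≫ pullback.fst p q) := by rw [hsec]; infer_instance
  haveI : Etale γ := Etale.of_comp γ (pullback.fst p q)
  haveI : Mono γ := mono_of_mono_fac hsec
  exact IsOpenImmersion.of_flat_of_mono γ


open AlgebraicGeometry CategoryTheory CategoryTheory.Limits in
/-- Let X and Y be S-schemes with Y etale over S. The map f ↦ Γ_f sending an S-morphism f : X ⟶ Y to the
subset of X ×_S Y underlying its graph is a bijection from Hom_S(X, Y) onto the set of open subsets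
Γ of X ×_S Y for which the restriction Γ → X of the first projection is radicial (universally
injective) and surjective. Stated as: the graph of every S-morphism is an open immersion, and every
such open Γ is the image of the graph of exactly one S-morphism. -/
theorem result {S X Y : Scheme.{u}} (p : X ⟶ S)
    (q : Y ⟶ S) [Etale q] :
    (∀ f : {f : X ⟶ Y // f ≫ q = p},
      IsOpenImmersion (pullback.lift (𝟙 X) f.1 ((Category.id_comp p).trans f.2.symm) : X ⟶ pullback p q)) ∧
    ∀ Γ : (pullback p q).Opens, UniversallyInjective (Γ.ι ≫ pullback.fst p q) → Surjective (Γ.ι ≫ pullback.fst p q) →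
      ∃! f : {f : X ⟶ Y // f ≫ q = p},
        Set.range (pullback.lift (𝟙 X) f.1 ((Category.id_comp p).trans f.2.symm) : X ⟶ pullback p q).base =
          (Γ : Set ↥(pullback p q)) := by
  refine ⟨fun f => graph_isOpenImmersion p q _ (pullback.lift_fst _ _ _), ?_⟩
  intro Γ hui hsurj
  obtain ⟨π, hπ⟩ : ∃ π, π = Γ.ι ≫ pullback.fst p q := ⟨_, rfl⟩
  rw [← hπ] at hui hsurj
  haveI := hui
  haveI := hsurj
  haveI : Etale π := by rw [hπ]; infer_instance
  haveI : Surjective (pullback.diagonal π) := (UniversallyInjective.iff_diagonal π).mp hui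
  haveI : IsIso (pullback.diagonal π) := isIso_of_openImm_surj _
  haveI : Mono π := (pullback.isIso_diagonal_iff π).mp inferInstance
  haveI : IsOpenImmersion π := IsOpenImmersion.of_flat_of_mono π
  haveI : IsIso π := isIso_of_openImm_surj _
  obtain ⟨f, hf⟩ : ∃ f, f = inv π ≫ Γ.ι ≫ pullback.snd p q := ⟨_, rfl⟩
  have hfq : f ≫ q = p := by
    rw [hf, Category.assoc, Category.assoc, ← pullback.condition, ← Category.assoc Γ.ι, ← hπ,
      IsIso.inv_hom_id_assoc]
  have hgraph : ∀ (h : 𝟙 X ≫ p = f ≫ q), pullback.lift (𝟙 X) f h = inv π ≫ Γ.ι := by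
    intro h
    apply pullback.hom_ext
    · rw [pullback.lift_fst, Category.assoc, ← hπ, IsIso.inv_hom_id]
    · rw [pullback.lift_snd, Category.assoc, hf]
  have hrange : Set.range (inv π ≫ Γ.ι) = (Γ : Set ↥(pullback p q)) := by
    ext z
    constructor
    · rintro ⟨x, rfl⟩
      have h0 : (inv π ≫ Γ.ι) x = Γ.ι (inv π x) := Scheme.Hom.comp_apply _ _ _
      rw [h0]
      exact (inv π x).2
    · intro hz
      refine ⟨π ⟨z, hz⟩, ?_⟩
      have h0 : (π ≫ inv π ≫ Γ.ι) ⟨z, hz⟩ = Γ.ι ⟨z, hz⟩ := by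
        rw [IsIso.hom_inv_id_assoc]
      rw [Scheme.Hom.comp_apply] at h0
      exact h0
  refine ⟨⟨f, hfq⟩, ?_, ?_⟩
  · show Set.range (pullback.lift (𝟙 X) f _) = (Γ : Set ↥(pullback p q))
    rw [hgraph]
    exact hrange
  · rintro ⟨f', hf'⟩ hr
    obtain ⟨γ', hγ'⟩ : ∃ γ', γ' = pullback.lift (𝟙 X) f' ((Category.id_comp p).trans hf'.symm) :=
      ⟨_, rfl⟩
    have hr' : Set.range γ' = (Γ : Set ↥(pullback p q)) := by
      rw [hγ']; exact hr
    have hsub : Set.range γ' ⊆ Set.range Γ.ι := by
      rw [hr', Scheme.Opens.range_ι]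
    obtain ⟨h, hh⟩ : ∃ h, h ≫ Γ.ι = γ' :=
      ⟨IsOpenImmersion.lift Γ.ι γ' hsub, IsOpenImmersion.lift_fac _ _ _⟩
    have hhπ : h ≫ π = 𝟙 X := by
      rw [hπ, ← Category.assoc, hh, hγ', pullback.lift_fst]
    have hinv : h = inv π := by
      rw [← Category.comp_id h, ← IsIso.hom_inv_id π, ← Category.assoc, hhπ, Category.id_comp]
    apply Subtype.ext
    show f' = f
    have h1 : γ' ≫ pullback.snd p q = f' := by rw [hγ', pullback.lift_snd]
    rw [← h1, ← hh, hinv, hf, Category.assoc]

end Groth.Agent.S5128
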