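import Mathlib
import Groth.Statements.S0076
import Groth.Agent.S5128
import Groth.Agent.Lib.Helper9.QuotGeom
-- import your own Groth.Agent.* helpers here

set_option autoImplicit false
open CategoryTheory CategoryTheory.Limits AlgebraicGeometry Opposite
universe u
open EtBase

namespace Groth.Agent.S0076

open Groth.Agent.S5128 Groth.Agent.Helper9.QuotGeom

theorem eq_of_surj_precomp {S T T' X : Scheme.{u}} (q : X ⟶ S)
    [IsOpenImmersion (pullback.diagonal q)]
    (e : T' ⟶ T) [Surjective e] (α β : T ⟶ X) (hαβ : α ≫ q = β ≫ q) (h : e ≫ α = e ≫ β) :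
    α = β := by
  obtain ⟨c, hc⟩ : ∃ c, c = pullback.lift α β hαβ := ⟨_, rfl⟩
  have hc1 : c ≫ pullback.fst q q = α := by rw [hc, pullback.lift_fst]
  have hc2 : c ≫ pullback.snd q q = β := by rw [hc, pullback.lift_snd]
  have hec : e ≫ c = (e ≫ α) ≫ pullback.diagonal q := by
    apply pullback.hom_ext
    · rw [Category.assoc, hc1, Category.assoc, pullback.diagonal_fst, Category.comp_id]
    · rw [Category.assoc, hc2, Category.assoc, pullback.diagonal_snd, Category.comp_id, h]
  have hr : Set.range c ⊆ Set.range (pullback.diagonal q) := by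
    rintro _ ⟨t, rfl⟩
    obtain ⟨t', rfl⟩ := e.surjective t
    have h0 : (e ≫ c) t' = ((e ≫ α) ≫ pullback.diagonal q) t' := by rw [hec]
    rw [Scheme.Hom.comp_apply, Scheme.Hom.comp_apply (e ≫ α)] at h0
    rw [h0]
    exact ⟨_, rfl⟩
  obtain ⟨l, hl⟩ : ∃ l, l ≫ pullback.diagonal q = c :=
    ⟨IsOpenImmersion.lift _ _ hr, IsOpenImmersion.lift_fac _ _ _⟩
  rw [← hc1, ← hc2, ← hl, Category.assoc, Category.assoc, pullback.diagonal_fst,
    pullback.diagonal_snd]

theorem isIso_of_etale_univInj_surj {X Y : Scheme.{u}} (π : X ⟶ Y) [Etale π]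
    [hui : UniversallyInjective π] [Surjective π] : IsIso π := by
  haveI : Surjective (pullback.diagonal π) := (UniversallyInjective.iff_diagonal π).mp hui
  haveI : IsIso (pullback.diagonal π) := isIso_of_openImm_surj _
  haveI : Mono π := (pullback.isIso_diagonal_iff π).mp inferInstance
  haveI : IsOpenImmersion π := IsOpenImmersion.of_flat_of_mono π
  exact isIso_of_openImm_surj _

theorem surj_core {S S' Yl Xl : Scheme.{u}} (g : S' ⟶ S) [IsIntegralHom g]
    [UniversallyInjective g] [Surjective g] (p : Yl ⟶ S) (q : Xl ⟶ S) [Etale q]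
    (ψ : pullback p g ⟶ pullback q g) (hψ : ψ ≫ pullback.snd q g = pullback.snd p g) :
    ∃ φ : Yl ⟶ Xl, φ ≫ q = p ∧ pullback.fst p g ≫ φ = ψ ≫ pullback.fst q g := by
  haveI : IsIntegralHom (pullback.fst p g) := MorphismProperty.pullback_fst _ _ inferInstance
  haveI : UniversallyInjective (pullback.fst p g) :=
    MorphismProperty.pullback_fst _ _ inferInstance
  haveI : Surjective (pullback.fst p g) := MorphismProperty.pullback_fst _ _ inferInstance
  haveI : Etale (pullback.snd q g) := MorphismProperty.pullback_snd _ _ inferInstance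
  haveI : Etale (pullback.fst p q) := MorphismProperty.pullback_fst _ _ inferInstance
  -- the comparison map u : Y' ×_{S'} X' ⟶ Y ×_S X
  have hu : (pullback.fst (pullback.snd p g) (pullback.snd q g) ≫ pullback.fst p g) ≫ p =
      (pullback.snd (pullback.snd p g) (pullback.snd q g) ≫ pullback.fst q g) ≫ q := by
    rw [Category.assoc, Category.assoc, pullback.condition, pullback.condition (f := q),
      ← Category.assoc, ← Category.assoc, pullback.condition]
  obtain ⟨u, hu1, hu2⟩ : ∃ u : pullback (pullback.snd p g) (pullback.snd q g) ⟶ pullback p q,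
      u ≫ pullback.fst p q =
        pullback.fst (pullback.snd p g) (pullback.snd q g) ≫ pullback.fst p g ∧
      u ≫ pullback.snd p q =
        pullback.snd (pullback.snd p g) (pullback.snd q g) ≫ pullback.fst q g :=
    ⟨pullback.lift _ _ hu, pullback.lift_fst _ _ _, pullback.lift_snd _ _ _⟩
  have hsq : IsPullback u (pullback.fst (pullback.snd p g) (pullback.snd q g))
      (pullback.fst p q) (pullback.fst p g) := by
    have s1 : IsPullback (pullback.snd (pullback.snd p g) (pullback.snd q g))
        (pullback.fst (pullback.snd p g) (pullback.snd q g)) (pullback.snd q g)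
        (pullback.snd p g) := (IsPullback.of_hasPullback _ _).flip
    have s2 : IsPullback (pullback.fst q g) (pullback.snd q g) q g :=
      IsPullback.of_hasPullback _ _
    have s3 := s1.paste_horiz s2
    have s4 : IsPullback (u ≫ pullback.snd p q)
        (pullback.fst (pullback.snd p g) (pullback.snd q g)) q (pullback.fst p g ≫ p) := by
      rw [hu2, pullback.condition]; exact s3
    exact IsPullback.of_right s4 hu1 (IsPullback.of_hasPullback p q).flip
  haveI : IsIntegralHom u := MorphismProperty.of_isPullback hsq.flip inferInstance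
  haveI : UniversallyInjective u := MorphismProperty.of_isPullback hsq.flip inferInstance
  haveI : Surjective u := MorphismProperty.of_isPullback hsq.flip inferInstance
  have huo : IsOpenMap u := by
    intro A hA
    have hEq : u '' A = (u '' Aᶜ)ᶜ := by
      rw [Set.image_compl_eq ⟨u.injective, u.surjective⟩, compl_compl]
    rw [hEq]
    exact (u.isClosedMap _ hA.isClosed_compl).isOpen_compl
  -- graph of ψ
  obtain ⟨γ, hγ1, hγ2⟩ : ∃ γ : pullback p g ⟶ pullback (pullback.snd p g) (pullback.snd q g),
      γ ≫ pullback.fst (pullback.snd p g) (pullback.snd q g) = 𝟙 _ ∧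
      γ ≫ pullback.snd (pullback.snd p g) (pullback.snd q g) = ψ :=
    ⟨pullback.lift (𝟙 _) ψ (by rw [Category.id_comp, hψ]), pullback.lift_fst _ _ _,
      pullback.lift_snd _ _ _⟩
  haveI : IsOpenImmersion γ := graph_isOpenImmersion _ _ γ hγ1
  obtain ⟨Γ, hΓ⟩ : ∃ Γ : (pullback p q).Opens, (Γ : Set ↥(pullback p q)) = u '' Set.range γ :=
    ⟨⟨u '' Set.range γ, huo _ γ.isOpenEmbedding.isOpen_range⟩, rfl⟩
  have hrγ : Set.range (γ ≫ u) ⊆ Set.range Γ.ι := by
    rw [Scheme.Opens.range_ι, hΓ]
    rintro _ ⟨y', rfl⟩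
    exact ⟨γ y', ⟨y', rfl⟩, (Scheme.Hom.comp_apply _ _ _).symm⟩
  obtain ⟨r, hr⟩ : ∃ r, r ≫ Γ.ι = γ ≫ u :=
    ⟨IsOpenImmersion.lift Γ.ι _ hrγ, IsOpenImmersion.lift_fac _ _ _⟩
  obtain ⟨m, hm⟩ : ∃ m, m = Γ.ι ≫ pullback.fst p q := ⟨_, rfl⟩
  have hrm : r ≫ m = pullback.fst p g := by
    rw [hm, ← Category.assoc, hr, Category.assoc, hu1, ← Category.assoc, hγ1, Category.id_comp]
  haveI : Surjective r := ⟨by
    intro z
    have hz : Γ.ι z ∈ u '' Set.range γ := by rw [← hΓ]; exact z.2
    obtain ⟨_, ⟨y', rfl⟩, hy'⟩ := hz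
    refine ⟨y', ?_⟩
    apply Γ.ι.injective
    have h0 : (r ≫ Γ.ι) y' = (γ ≫ u) y' := by rw [hr]
    rw [Scheme.Hom.comp_apply, Scheme.Hom.comp_apply] at h0
    rw [h0]
    exact hy'⟩
  haveI : Surjective m := ⟨by
    intro y
    obtain ⟨y', rfl⟩ := (pullback.fst p g).surjective y
    refine ⟨r y', ?_⟩
    have h0 : (r ≫ m) y' = pullback.fst p g y' := by rw [hrm]
    rw [Scheme.Hom.comp_apply] at h0
    exact h0⟩
  haveI : UniversallyInjective m := by
    apply universallyInjective_of_points r m
    intro L _ b₁ b₂ hb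
    rw [hrm] at hb
    have hT : UniversallyInjective (pullback.fst p g) ↔
        ∀ (K : Type u) [Field K], Function.Injective
          (fun t : Spec (.of K) ⟶ pullback p g ↦ t ≫ pullback.fst p g) :=
      (tfae_universallyInjective (pullback.fst p g)).out 0 1
    rw [hT.mp inferInstance L hb]
  haveI : Etale m := by rw [hm]; infer_instance
  haveI : IsIso m := isIso_of_etale_univInj_surj m
  refine ⟨inv m ≫ Γ.ι ≫ pullback.snd p q, ?_, ?_⟩
  · rw [Category.assoc, Category.assoc, ← pullback.condition, ← Category.assoc Γ.ι, ← hm,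
      IsIso.inv_hom_id_assoc]
  · have h1 : pullback.fst p g ≫ inv m = r := by
      rw [← hrm, Category.assoc, IsIso.hom_inv_id, Category.comp_id]
    rw [← Category.assoc, h1, ← Category.assoc, hr, Category.assoc, hu2, ← Category.assoc, hγ2]


/-- For X étale over S and any S-scheme Y, base change along an integral, universally injective,
surjective S' → S gives a bijection between S-morphisms Y → X and S'-morphisms of the base changes. -/
theorem result {S S' : Scheme.{u}} (g : S' ⟶ S) [IsIntegralHom g] [UniversallyInjective g]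
    [Surjective g] (X Y : Over S) [AlgebraicGeometry.Etale X.hom] :
    Function.Bijective (fun φ : Y ⟶ X => (Over.pullback g).map φ) := by
  constructor
  · intro φ₁ φ₂ h
    have h2 : (Over.pullback g).map φ₁ = (Over.pullback g).map φ₂ := h
    have h' := congrArg (fun t => t.left ≫ pullback.fst X.hom g) h2
    have e1 : ((Over.pullback g).map φ₁).left ≫ pullback.fst X.hom g =
        pullback.fst Y.hom g ≫ φ₁.left := pullback.lift_fst _ _ _
    have e2 : ((Over.pullback g).map φ₂).left ≫ pullback.fst X.hom g =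
        pullback.fst Y.hom g ≫ φ₂.left := pullback.lift_fst _ _ _
    haveI : Surjective (pullback.fst Y.hom g) := MorphismProperty.pullback_fst _ _ inferInstance
    apply Over.OverMorphism.ext
    apply eq_of_surj_precomp X.hom (pullback.fst Y.hom g) φ₁.left φ₂.left
      (by rw [Over.w φ₁, Over.w φ₂])
    rw [← e1, ← e2]
    exact h'
  · intro ψ
    obtain ⟨φl, hφ1, hφ2⟩ := surj_core g Y.hom X.hom ψ.left (Over.w ψ)
    refine ⟨Over.homMk φl hφ1, ?_⟩
    apply Over.OverMorphism.ext
    apply pullback.hom_ext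
    · have e1 : ((Over.pullback g).map (Over.homMk φl hφ1)).left ≫ pullback.fst X.hom g =
          pullback.fst Y.hom g ≫ φl := pullback.lift_fst _ _ _
      rw [e1, hφ2]
    · have e2 : ((Over.pullback g).map (Over.homMk φl hφ1)).left ≫ pullback.snd X.hom g =
          pullback.snd Y.hom g := Over.w ((Over.pullback g).map (Over.homMk φl hφ1))
      rw [e2]
      exact (Over.w ψ).symm

end Groth.Agent.S0076
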