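import Groth.Statements.S0098
import Groth.Agent.H2.UnramifiedNhd

set_option autoImplicit false
open CategoryTheory CategoryTheory.Limits AlgebraicGeometry Opposite
universe u
open EtBase

namespace Groth.Agent.S0098

/-- A finite étale morphism whose fibre over a point s is a single point with the same residue field is
an isomorphism over an open neighbourhood of s. -/
theorem result {X S : Scheme.{u}} (f : X ⟶ S) [IsFinite f] [AlgebraicGeometry.Etale f] (s : S) (x : X)
    (hx : f.base ⁻¹' {s} = {x}) (hκ : Function.Surjective (f.residueFieldMap x)) :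
    ∃ U : S.Opens, s ∈ U ∧ IsIso (f ∣_ U) := by
  obtain ⟨U, hsU, hU⟩ := Groth.Agent.H2.exists_nhd_eq_of_comp_eq f s x hx hκ
  have hfx : f x = s := by
    have : x ∈ f.base ⁻¹' {s} := by rw [hx]; rfl
    exact this
  let V : S.Opens := ⟨Set.range f, f.isOpenMap.isOpen_range⟩
  refine ⟨U ⊓ V, ⟨hsU, ⟨x, hfx⟩⟩, ?_⟩
  have hm : Mono (f ∣_ (U ⊓ V)) :=
    Groth.Agent.H2.mono_morphismRestrict_of_eq_of_comp_eq f U hU _ inf_le_left
  have ho : IsOpenImmersion (f ∣_ (U ⊓ V)) := IsOpenImmersion.of_flat_of_mono _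
  have hs : Surjective (f ∣_ (U ⊓ V)) := ⟨fun ⟨y, hy⟩ => by
    obtain ⟨x', rfl⟩ := hy.2
    exact ⟨⟨x', hy⟩, Subtype.ext (morphismRestrict_base_coe f _ _)⟩⟩
  exact (isIso_iff_isOpenImmersion_and_surjective _).mpr ⟨ho, hs⟩

end Groth.Agent.S0098
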