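import Groth.Statements.S0101
import Groth.Agent.H10.FlatLan
import Mathlib
import Mathlib

set_option autoImplicit false
open CategoryTheory CategoryTheory.Limits AlgebraicGeometry Opposite
universe u
open EtBase

namespace Groth.Agent.S0101

/-- Part (1) — pullback of abelian étale sheaves along a morphism of schemes is exact (it is a left
adjoint and preserves finite limits). -/
theorem result {X Y : Scheme.{u}} (f : X ⟶ Y) [EtCoh.BCCont f] :
    PreservesFiniteLimits (EtCoh.pull f) := by
  have hex : ∀ V : X.Etaleᵒᵖ,
      HasExactColimitsOfShape (CostructuredArrow (EtCoh.bc f).op V) AddCommGrpCat.{u + 1} := by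
    intro V
    haveI : IsFiltered (CostructuredArrow (EtCoh.bc f).op V) :=
      IsFiltered.of_equivalence (structuredArrowOpEquivalence (EtCoh.bc f) (Opposite.unop V))
    haveI : AB5OfSize.{u, u + 1} AddCommGrpCat.{u + 1} := AB5OfSize_shrink.{u, u + 1, u + 1, u + 1} _
    exact AB5OfSize.ofShape _
  exact Groth.Agent.H10.FlatLan.sheafPullback_preservesFiniteLimits_of_flat (EtCoh.bc f)
    AddCommGrpCat.{u + 1} Y.smallEtaleTopology X.smallEtaleTopology

end Groth.Agent.S0101
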