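import Groth.Statements.S0102
import Mathlib

set_option autoImplicit false
open CategoryTheory CategoryTheory.Limits AlgebraicGeometry Opposite
universe u
open EtBase

namespace Groth.Agent.S0102

set_option backward.isDefEq.respectTransparency.types false in
/-- A section of an abelian étale sheaf over an étale scheme U vanishes on pullback to an étale V → U
exactly when V maps into a certain largest open subset of U. -/
theorem result {S : Scheme.{u}} (F : EtCoh.Ab S) (U : S.Etale) (σ : EtCoh.sect F U) :
    ∃ W : U.left.Opens, ∀ (V : S.Etale) (φ : V ⟶ U),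
      F.obj.map φ.op σ = 0 ↔ Set.range φ.left.base ⊆ (W : Set U.left) := by
  have eS : S.smallEtaleTopology =
      (S.smallPretopology (P := @Etale) (Q := @Etale)).toGrothendieck :=
    Scheme.smallGrothendieckTopology_eq_toGrothendieck_smallPretopology S le_rfl
  let Wset : Set ↥U.left := ⋃ (V : S.Etale) (φ : V ⟶ U) (_ : F.obj.map φ.op σ = 0),
    Set.range φ.left
  have hWopen : IsOpen Wset := by
    refine isOpen_iUnion fun V => isOpen_iUnion fun φ => isOpen_iUnion fun _ => ?_
    exact φ.left.isOpenMap.isOpen_range
  refine ⟨⟨Wset, hWopen⟩, ?_⟩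
  intro V φ
  constructor
  · intro h0 x hx
    exact Set.mem_iUnion.2 ⟨V, Set.mem_iUnion.2 ⟨φ, Set.mem_iUnion.2 ⟨h0, hx⟩⟩⟩
  · intro hsub
    let τ : F.obj.obj (op V) := F.obj.map φ.op σ
    let T : Sieve V :=
      { arrows := fun Z k => F.obj.map k.op τ = 0
        downward_closed := by
          intro Z Z' k hk m
          show F.obj.map (m ≫ k).op τ = 0
          rw [op_comp, Functor.map_comp, ConcreteCategory.comp_apply]
          rw [show F.obj.map k.op τ = 0 from hk, map_zero] }
    have hT : T ∈ S.smallEtaleTopology V := by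
      rw [eS]
      refine (Scheme.mem_toGrothendieck_smallPretopology V T).2 ?_
      intro p
      have hp : φ.left p ∈ Wset := hsub ⟨p, rfl⟩
      obtain ⟨V', hV'⟩ := Set.mem_iUnion.1 hp
      obtain ⟨φ', hφ'⟩ := Set.mem_iUnion.1 hV'
      obtain ⟨h0, p', hp'⟩ := Set.mem_iUnion.1 hφ'
      have e1 : φ.left ≫ U.hom = V.hom := Over.w φ.hom
      have e2 : φ'.left ≫ U.hom = V'.hom := Over.w φ'.hom
      have hk2 : pullback.snd φ.left φ'.left ≫ V'.hom =
          pullback.fst φ.left φ'.left ≫ V.hom := by
        rw [← e1, ← e2, ← Category.assoc, ← Category.assoc, pullback.condition]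
      let Z : S.Etale := Scheme.Etale.mk (pullback.fst φ.left φ'.left ≫ V.hom)
      let k1 : Z ⟶ V := MorphismProperty.Over.homMk (pullback.fst φ.left φ'.left) rfl
      let k2 : Z ⟶ V' := MorphismProperty.Over.homMk (pullback.snd φ.left φ'.left) hk2
      have hk12 : k1 ≫ φ = k2 ≫ φ' := by
        apply MorphismProperty.Over.Hom.ext
        exact pullback.condition
      obtain ⟨z, hz1, hz2⟩ := Scheme.Pullback.exists_preimage_pullback
        (f := φ.left) (g := φ'.left) p p' hp'.symm
      refine ⟨Z, k1, z, ?_, inferInstanceAs (Etale k1.left), hz1⟩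
      show F.obj.map k1.op (F.obj.map φ.op σ) = 0
      rw [← ConcreteCategory.comp_apply, ← Functor.map_comp, ← op_comp, hk12, op_comp,
        Functor.map_comp, ConcreteCategory.comp_apply, h0, map_zero]
    have hsep := Sheaf.isSeparated F V T hT τ 0
    apply hsep
    intro Z k hk
    rw [map_zero]
    exact hk

end Groth.Agent.S0102
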