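import Groth.Statements.S0108
import Groth.Agent.H28.KummerEt

set_option autoImplicit false
open CategoryTheory CategoryTheory.Limits AlgebraicGeometry Opposite
universe u
open EtBase

namespace Groth.Agent.S0108

/-- The Kummer sequence — when n is invertible on S, the n-th power map on the multiplicative group
sheaf is an epimorphism of étale sheaves (its kernel μ_n is, by definition in the prelude, the sheaf
of n-th roots of unity, so the sequence 0 → μ_n → G_m → G_m → 0 is exact). -/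
theorem result (S : Scheme.{u}) (n : ℕ) (hn : IsUnit (n : Γ(S, ⊤))) : Epi (EtCoh.powMap S n) := by
  rw [← Sheaf.isLocallySurjective_iff_epi']
  constructor
  intro U s
  have key : ∀ x : U.left, ∃ (Z : S.Etale) (g : Z ⟶ U), x ∈ Set.range g.left.base ∧
      Presheaf.imageSieve (EtCoh.powMap S n).hom s g := by
    intro x
    obtain ⟨𝒜, -⟩ : ∃ 𝒜, 𝒜 = U.left.affineOpenCover := ⟨_, rfl⟩
    obtain ⟨y, hy⟩ := 𝒜.covers x
    have hnt : Nontrivial (𝒜.X (𝒜.idx x)) := by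
      by_contra h
      rw [not_nontrivial_iff_subsingleton] at h
      exact y.isPrime.ne_top (Subsingleton.elim _ _)
    obtain ⟨ρR, hρR⟩ : ∃ ρR : Γ(U.left, ⊤) →+* 𝒜.X (𝒜.idx x),
        ρR = ((𝒜.f (𝒜.idx x)).appTop ≫ (Scheme.ΓSpecIso _).hom).hom := ⟨_, rfl⟩
    obtain ⟨vR, hvR⟩ : ∃ vR : (𝒜.X (𝒜.idx x))ˣ,
        vR = Units.map ρR.toMonoidHom (Additive.toMul s.down) := ⟨_, rfl⟩
    have hnR : IsUnit ((n : ℕ) : 𝒜.X (𝒜.idx x)) := by
      have h1 := (hn.map (U.hom.appTop.hom)).map ρR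
      simpa using h1
    have hn0 : 0 < n := by
      rcases Nat.eq_zero_or_pos n with h | h
      · subst h
        simp at hnR
      · exact h
    obtain ⟨hEt, hSurj⟩ := Groth.Agent.H28.KummerEt.spec_etale_surj (𝒜.X (𝒜.idx x)) vR n hn0 hnR
    obtain ⟨φ, hφ⟩ : ∃ φ : 𝒜.X (𝒜.idx x) ⟶
        CommRingCat.of (Groth.Agent.H28.KummerEt.pair vR n hn0 hnR).Ring,
        φ = CommRingCat.ofHom (algebraMap (𝒜.X (𝒜.idx x))
          (Groth.Agent.H28.KummerEt.pair vR n hn0 hnR).Ring) := ⟨_, rfl⟩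
    rw [← hφ] at hEt hSurj
    have hEt2 : Etale (Spec.map φ ≫ 𝒜.f (𝒜.idx x)) := inferInstance
    have hEt3 : Etale ((Spec.map φ ≫ 𝒜.f (𝒜.idx x)) ≫ U.hom) := inferInstance
    refine ⟨Scheme.Etale.mk ((Spec.map φ ≫ 𝒜.f (𝒜.idx x)) ≫ U.hom),
      MorphismProperty.Over.homMk (Spec.map φ ≫ 𝒜.f (𝒜.idx x)) rfl, ?_, ?_⟩
    · obtain ⟨z, hz⟩ := hSurj.surj y
      refine ⟨z, ?_⟩
      change (Spec.map φ ≫ 𝒜.f (𝒜.idx x)).base z = x
      rw [Scheme.Hom.comp_base, TopCat.comp_app]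
      erw [hz, hy]
    · obtain ⟨tB, htB⟩ : ∃ tB : (Groth.Agent.H28.KummerEt.pair vR n hn0 hnR).Ringˣ,
          (tB : (Groth.Agent.H28.KummerEt.pair vR n hn0 hnR).Ring) =
            (Groth.Agent.H28.KummerEt.pair vR n hn0 hnR).X :=
        ⟨(Groth.Agent.H28.KummerEt.isUnit_X vR n hn0 hnR).unit, rfl⟩
      refine ⟨ULift.up (Additive.ofMul (Units.map
        (Scheme.ΓSpecIso (CommRingCat.of
          (Groth.Agent.H28.KummerEt.pair vR n hn0 hnR).Ring)).inv.hom.toMonoidHom tB)), ?_⟩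
      change n • (ULift.up (Additive.ofMul (Units.map
        (Scheme.ΓSpecIso (CommRingCat.of
          (Groth.Agent.H28.KummerEt.pair vR n hn0 hnR).Ring)).inv.hom.toMonoidHom tB)) :
          ULift.{u+1} (Additive Γ(Spec (CommRingCat.of
            (Groth.Agent.H28.KummerEt.pair vR n hn0 hnR).Ring), ⊤)ˣ)) =
        ULift.up (Additive.ofMul (Units.map
          (Spec.map φ ≫ 𝒜.f (𝒜.idx x)).appTop.hom.toMonoidHom (Additive.toMul s.down)))
      apply ULift.ext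
      change n • Additive.ofMul _ = Additive.ofMul _
      rw [← ofMul_pow]
      congr 1
      apply Units.ext
      rw [Units.val_pow_eq_pow_val]
      change ((Scheme.ΓSpecIso _).inv.hom (tB : (Groth.Agent.H28.KummerEt.pair vR n hn0 hnR).Ring)) ^ n =
        (Spec.map φ ≫ 𝒜.f (𝒜.idx x)).appTop.hom ((Additive.toMul s.down : Γ(U.left, ⊤)ˣ) : Γ(U.left, ⊤))
      rw [htB, ← map_pow, Groth.Agent.H28.KummerEt.X_pow]
      have h1 : (Spec.map φ ≫ 𝒜.f (𝒜.idx x)).appTop =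
          (𝒜.f (𝒜.idx x)).appTop ≫ (Scheme.ΓSpecIso _).hom ≫ φ ≫ (Scheme.ΓSpecIso _).inv := by
        rw [Scheme.ΓSpecIso_inv_naturality, Iso.hom_inv_id_assoc, ← Scheme.Hom.comp_appTop]
      rw [h1]
      have e : (vR : 𝒜.X (𝒜.idx x)) =
          ρR ((Additive.toMul s.down : Γ(U.left, ⊤)ˣ) : Γ(U.left, ⊤)) := by
        rw [hvR]; rfl
      have hφ' : ∀ r, φ.hom r = algebraMap (𝒜.X (𝒜.idx x))
          (Groth.Agent.H28.KummerEt.pair vR n hn0 hnR).Ring r := by
        intro r; rw [hφ]; rfl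
      change (Scheme.ΓSpecIso _).inv.hom (algebraMap _ _ (vR : 𝒜.X (𝒜.idx x))) =
        (Scheme.ΓSpecIso _).inv.hom (φ.hom ((Scheme.ΓSpecIso _).hom.hom
          ((𝒜.f (𝒜.idx x)).appTop.hom _)))
      rw [hφ', e, hρR]
      rfl
  choose Z g hx hg using key
  refine S.smallEtaleTopology.superset_covering ?_
    ((Scheme.ofArrows_mem_smallEtaleTopology_iff g).mpr ?_)
  · rintro W f ⟨W', a, b, ⟨x⟩, rfl⟩
    exact (Presheaf.imageSieve (EtCoh.powMap S n).hom s).downward_closed (hg x) a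
  · ext y
    simp only [Set.mem_iUnion, Set.mem_univ, iff_true]
    exact ⟨y, hx y⟩

end Groth.Agent.S0108
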