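import Groth.Statements.S0116
import Mathlib

set_option autoImplicit false
open CategoryTheory CategoryTheory.Limits AlgebraicGeometry Opposite
universe u
open EtBase

namespace Groth.Agent.S0116

section Helpers

theorem isNoetherianRing_of_faithfullyFlat (A B : Type*) [CommRing A] [CommRing B] [Algebra A B]
    [Module.FaithfullyFlat A B] [IsNoetherianRing B] : IsNoetherianRing A := by
  have hB : WellFoundedGT (Ideal B) := (isNoetherian_iff' (R := B) (M := B)).mp inferInstance
  have hle : ∀ I J : Ideal A, I.map (algebraMap A B) ≤ J.map (algebraMap A B) ↔ I ≤ J :=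
    fun I J => ⟨fun h => by
      have := Ideal.comap_mono (f := algebraMap A B) h
      rwa [Ideal.comap_map_eq_self_of_faithfullyFlat,
        Ideal.comap_map_eq_self_of_faithfullyFlat] at this, fun h => Ideal.map_mono h⟩
  have : WellFoundedGT (Ideal A) := (OrderEmbedding.ofMapLEIff _ hle).wellFoundedGT
  exact (isNoetherian_iff' (R := A) (M := A)).mpr this

theorem isNoetherianRing_of_ringHom_faithfullyFlat {A B : Type*} [CommRing A] [CommRing B]
    (φ : A →+* B) (hφ : φ.FaithfullyFlat) [IsNoetherianRing B] : IsNoetherianRing A := by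
  letI := φ.toAlgebra
  haveI : Module.FaithfullyFlat A B := hφ
  exact isNoetherianRing_of_faithfullyFlat A B

theorem isLocallyNoetherian_of_isLocalIso {T V : Scheme.{u}} (p : T ⟶ V) [IsLocalIso p]
    [IsLocallyNoetherian V] : IsLocallyNoetherian T := by
  choose U hU hUo using fun t => IsLocalIso.exists_isOpenImmersion (f := p) t
  have hcov : TopologicalSpace.IsOpenCover U :=
    TopologicalSpace.IsOpenCover.mk
      (eq_top_iff.mpr fun t _ => TopologicalSpace.Opens.mem_iSup.mpr ⟨t, hU t⟩)
  rw [isLocallyNoetherian_iff_openCover (T.openCoverOfIsOpenCover U hcov)]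
  intro t
  have := hUo t
  change IsLocallyNoetherian (U t : Scheme)
  exact isLocallyNoetherian_of_isOpenImmersion ((U t).ι ≫ p)

theorem noeth_affine {X Y : Scheme.{u}} [IsAffine Y] (f : X ⟶ Y) [Surjective f] [Flat f]
    [LocallyOfFinitePresentation f] [IsLocallyNoetherian X] : IsLocallyNoetherian Y := by
  obtain ⟨V, hV, e⟩ : ∃ V : X.Opens, IsCompact (V : Set X) ∧ f '' (V : Set X) = Set.univ :=
    f.isOpenMap.exists_opens_image_eq_of_prespectralSpace f.continuous
      (fun y _ => f.surjective y) isOpen_univ isCompact_univ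
  have : CompactSpace (V : Scheme) := isCompact_iff_compactSpace.mp hV
  obtain ⟨T, p, hp, hpP, hT⟩ :=
    Scheme.exists_hom_isAffine_of_isZariskiLocalAtSource @IsLocalIso (V : Scheme)
  have hpl : IsLocalIso p := hpP
  have hTn : IsLocallyNoetherian T := isLocallyNoetherian_of_isLocalIso p
  obtain ⟨q, hq⟩ : ∃ q : T ⟶ Y, q = p ≫ V.ι ≫ f := ⟨_, rfl⟩
  have hqs : Surjective q := by
    rw [hq]
    refine ⟨fun y => ?_⟩
    obtain ⟨x, hxV, rfl⟩ : y ∈ f '' V := e ▸ Set.mem_univ y
    obtain ⟨t, ht⟩ := p.surjective ⟨x, hxV⟩
    exact ⟨t, by rw [Scheme.Hom.comp_apply, Scheme.Hom.comp_apply, ht]; rfl⟩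
  have hqf : Flat q := by
    rw [hq]
    have : Flat p := (IsLocalIso.le_of_isZariskiLocalAtSource @Flat) _ _ _ hpP
    infer_instance
  have hspec : Spec.map q.appTop = T.isoSpec.inv ≫ q ≫ Y.isoSpec.hom := by
    rw [← Scheme.isoSpec_inv_naturality_assoc, Iso.inv_hom_id, Category.comp_id]
  have hff : (q.appTop).hom.FaithfullyFlat := by
    rw [RingHom.FaithfullyFlat.iff_flat_and_comap_surjective]
    constructor
    · exact (HasRingHomProperty.iff_of_isAffine (P := @Flat)).mp hqf
    · have : Surjective (Spec.map q.appTop) := by rw [hspec]; infer_instance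
      exact (Spec.map q.appTop).surjective
  have hTN : IsNoetherianRing Γ(T, ⊤) :=
    IsLocallyNoetherian.component_noetherian ⟨⊤, isAffineOpen_top T⟩
  have hYN : IsNoetherianRing Γ(Y, ⊤) := isNoetherianRing_of_ringHom_faithfullyFlat _ hff
  exact isLocallyNoetherian_of_isOpenImmersion Y.isoSpec.hom

theorem noeth_general {X Y : Scheme.{u}} (f : X ⟶ Y) [Surjective f] [Flat f]
    [LocallyOfFinitePresentation f] [IsLocallyNoetherian X] : IsLocallyNoetherian Y := by
  rw [isLocallyNoetherian_iff_openCover Y.affineCover]
  intro i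
  have : IsLocallyNoetherian (pullback f (Y.affineCover.f i)) :=
    isLocallyNoetherian_of_isOpenImmersion (pullback.fst f (Y.affineCover.f i))
  exact noeth_affine (pullback.snd f (Y.affineCover.f i))

end Helpers

/-- If f : X → Y is surjective, flat and locally of finite presentation and X is locally Noetherian,
then Y is locally Noetherian. (This is the descent half of the statement that, for such f, X is
locally Noetherian if and only if Y is; the ascent half is the fact that a scheme locally of finite
type over a locally Noetherian scheme is locally Noetherian, and is not stated here.) -/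
theorem result {X Y : Scheme.{u}} (f : X ⟶ Y) [Surjective f] [Flat f] [LocallyOfFinitePresentation f]
    [IsLocallyNoetherian X] : IsLocallyNoetherian Y := by
  exact noeth_general f

end Groth.Agent.S0116
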