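import Groth.Statements.S1487
import Mathlib

set_option autoImplicit false
universe u
open FlatMor

namespace Groth.Agent.S1487

section Helpers
open AlgebraicGeometry CategoryTheory Limits TensorProduct

local notation "SM(" f ")" => Spec.map (CommRingCat.ofHom f)

theorem sm_comp {R S T : Type u} [CommRing R] [CommRing S] [CommRing T] (f : R →+* S)
    (g : S →+* T) {X : Scheme.{u}} (m : Spec (CommRingCat.of R) ⟶ X) :
    SM(g) ≫ SM(f) ≫ m = SM(g.comp f) ≫ m := by
  rw [CommRingCat.ofHom_comp, Spec.map_comp, Category.assoc]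

theorem sm_comp' {R S T : Type u} [CommRing R] [CommRing S] [CommRing T] (f : R →+* S)
    (g : S →+* T) : SM(g) ≫ SM(f) = SM(g.comp f) := by
  rw [CommRingCat.ofHom_comp, Spec.map_comp]

theorem exists_factor {X : Scheme.{u}} {U : X.Opens} (hU : IsAffineOpen U) {B : CommRingCat.{u}}
    (l : Spec B ⟶ X) (hl : Set.range l ⊆ (U : Set X)) :
    ∃ σ : Γ(X, U) ⟶ B, l = Spec.map σ ≫ hU.fromSpec := by
  have h : Set.range l ⊆ Set.range hU.fromSpec := by
    rw [hU.range_fromSpec]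
    exact hl
  refine ⟨Spec.preimage (IsOpenImmersion.lift hU.fromSpec l h), ?_⟩
  rw [Spec.map_preimage, IsOpenImmersion.lift_fac]

theorem comapMk_surj {A : Type u} [CommRing A] (I : Ideal A) (hI : I ^ 2 = ⊥)
    (p : PrimeSpectrum A) :
    ∃ q : PrimeSpectrum (A ⧸ I), PrimeSpectrum.comap (Ideal.Quotient.mk I) q = p := by
  have h : p ∈ Set.range (PrimeSpectrum.comap (Ideal.Quotient.mk I)) := by
    rw [range_comap_of_surjective _ (Ideal.Quotient.mk I)
      Ideal.Quotient.mk_surjective, Ideal.mk_ker, PrimeSpectrum.mem_zeroLocus]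
    haveI := p.isPrime
    have h1 : I ≤ p.asIdeal := by
      apply Ideal.IsPrime.le_of_pow_le (n := 2)
      rw [hI]
      exact bot_le
    exact SetLike.coe_subset_coe.mpr h1
  exact h

theorem specMk_surjective {A : Type u} [CommRing A] (I : Ideal A) (hI : I ^ 2 = ⊥) :
    Function.Surjective (SM(Ideal.Quotient.mk I)) :=
  fun p => comapMk_surj I hI p

theorem mem_basicOpen_of_isUnit {R S : Type u} [CommRing R] [CommRing S] (ψ : R →+* S) (r : R)
    (hr : IsUnit (ψ r)) (q : PrimeSpectrum S) :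
    PrimeSpectrum.comap ψ q ∈ PrimeSpectrum.basicOpen r := by
  rw [PrimeSpectrum.mem_basicOpen]
  intro hmem
  exact q.isPrime.ne_top (Ideal.eq_top_of_isUnit_mem _ hmem hr)

theorem specQuot_comm {A A' : Type u} [CommRing A] [CommRing A'] (ψ : A →+* A') (I : Ideal A)
    (J : Ideal A') (h : I ≤ J.comap ψ) :
    SM(Ideal.Quotient.mk J) ≫ SM(ψ) = SM(Ideal.quotientMap J ψ h) ≫ SM(Ideal.Quotient.mk I) := by
  rw [sm_comp', sm_comp', Ideal.quotientMap_comp_mk]

theorem transfer {X : Scheme.{u}} {A A' : Type u} [CommRing A] [CommRing A'] (ψ : A →+* A')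
    (I : Ideal A) (J : Ideal A') (h : I ≤ J.comap ψ) (l : Spec (CommRingCat.of A) ⟶ X)
    (a : Spec (CommRingCat.of (A ⧸ I)) ⟶ X) (hl : SM(Ideal.Quotient.mk I) ≫ l = a) :
    SM(Ideal.Quotient.mk J) ≫ SM(ψ) ≫ l = SM(Ideal.quotientMap J ψ h) ≫ a := by
  subst hl
  rw [← Category.assoc, specQuot_comm ψ I J h, Category.assoc]

theorem uniq_loc {X Y : Scheme.{u}} (f : X ⟶ Y) {U : X.Opens} {V : Y.Opens} (hU : IsAffineOpen U)
    (hV : IsAffineOpen V) (hUV : U ≤ f ⁻¹ᵁ V)
    (hfe : @Algebra.FormallyEtale _ _ _ _ (f.appLE V U hUV).hom.toAlgebra)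
    {A : Type u} [CommRing A] (J : Ideal A) (hJ : J ^ 2 = ⊥)
    (l₁ l₂ : Spec (CommRingCat.of A) ⟶ X)
    (h1 : SM(Ideal.Quotient.mk J) ≫ l₁ = SM(Ideal.Quotient.mk J) ≫ l₂)
    (h2 : l₁ ≫ f = l₂ ≫ f) (hr : Set.range l₁ ⊆ (U : Set X)) : l₁ = l₂ := by
  have hs := specMk_surjective J hJ
  have hr2 : Set.range l₂ ⊆ (U : Set X) := by
    rintro _ ⟨q, rfl⟩
    obtain ⟨q₀, rfl⟩ := hs q
    rw [← Scheme.Hom.comp_apply, ← h1, Scheme.Hom.comp_apply]
    exact hr ⟨_, rfl⟩
  obtain ⟨σ₁, rfl⟩ := exists_factor hU l₁ hr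
  obtain ⟨σ₂, rfl⟩ := exists_factor hU l₂ hr2
  have hφ : f.appLE V U hUV ≫ σ₁ = f.appLE V U hUV ≫ σ₂ := by
    apply Spec.map_injective
    rw [← cancel_mono hV.fromSpec, Spec.map_comp, Spec.map_comp, Category.assoc, Category.assoc,
      IsAffineOpen.SpecMap_appLE_fromSpec f hV hU hUV]
    simpa only [Category.assoc] using h2
  have hmk : σ₁ ≫ CommRingCat.ofHom (Ideal.Quotient.mk J) =
      σ₂ ≫ CommRingCat.ofHom (Ideal.Quotient.mk J) := by
    apply Spec.map_injective
    rw [← cancel_mono hU.fromSpec, Spec.map_comp, Spec.map_comp, Category.assoc, Category.assoc]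
    exact h1
  letI alg1 : Algebra Γ(Y, V) Γ(X, U) := (f.appLE V U hUV).hom.toAlgebra
  letI alg2 : Algebra Γ(Y, V) A := (σ₁.hom.comp (f.appLE V U hUV).hom).toAlgebra
  haveI : Algebra.FormallyEtale Γ(Y, V) Γ(X, U) := hfe
  obtain ⟨τ₁, hτ₁⟩ : ∃ τ : Γ(X, U) →ₐ[Γ(Y, V)] A, ∀ x, τ x = σ₁.hom x :=
    ⟨{ σ₁.hom with commutes' := fun r => rfl }, fun x => rfl⟩
  obtain ⟨τ₂, hτ₂⟩ : ∃ τ : Γ(X, U) →ₐ[Γ(Y, V)] A, ∀ x, τ x = σ₂.hom x :=
    ⟨{ σ₂.hom with commutes' := fun r => (congrArg (fun g => g.hom r) hφ).symm }, fun x => rfl⟩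
  have hτ : (Ideal.Quotient.mkₐ Γ(Y, V) J).comp τ₁ = (Ideal.Quotient.mkₐ Γ(Y, V) J).comp τ₂ := by
    apply AlgHom.ext
    intro x
    have e := congrArg (fun g => g.hom x) hmk
    simp only [AlgHom.comp_apply, hτ₁, hτ₂]
    exact e
  have h3 : τ₁ = τ₂ :=
    Algebra.FormallyUnramified.comp_injective (R := Γ(Y, V)) (A := Γ(X, U)) J hJ hτ
  have h4 : σ₁ = σ₂ := by
    apply CommRingCat.hom_ext
    apply RingHom.ext
    intro x
    rw [← hτ₁, ← hτ₂, h3]
  rw [h4]

theorem exists_loc {X Y : Scheme.{u}} (f : X ⟶ Y) {U : X.Opens} {V : Y.Opens} (hU : IsAffineOpen U)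
    (hV : IsAffineOpen V) (hUV : U ≤ f ⁻¹ᵁ V)
    (hfe : @Algebra.FormallyEtale _ _ _ _ (f.appLE V U hUV).hom.toAlgebra)
    {A : Type u} [CommRing A] (J : Ideal A) (hJ : J ^ 2 = ⊥)
    (a : Spec (CommRingCat.of (A ⧸ J)) ⟶ X) (b : Spec (CommRingCat.of A) ⟶ Y)
    (hab : SM(Ideal.Quotient.mk J) ≫ b = a ≫ f)
    (ha : Set.range a ⊆ (U : Set X)) (hb : Set.range b ⊆ (V : Set Y)) :
    ∃ l : Spec (CommRingCat.of A) ⟶ X, SM(Ideal.Quotient.mk J) ≫ l = a ∧ l ≫ f = b := by
  obtain ⟨α, rfl⟩ := exists_factor hU a ha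
  obtain ⟨β, rfl⟩ := exists_factor hV b hb
  have hαβ : β ≫ CommRingCat.ofHom (Ideal.Quotient.mk J) = f.appLE V U hUV ≫ α := by
    apply Spec.map_injective
    rw [← cancel_mono hV.fromSpec, Spec.map_comp, Spec.map_comp, Category.assoc, Category.assoc,
      IsAffineOpen.SpecMap_appLE_fromSpec f hV hU hUV]
    simpa only [Category.assoc] using hab
  letI alg1 : Algebra Γ(Y, V) Γ(X, U) := (f.appLE V U hUV).hom.toAlgebra
  letI alg2 : Algebra Γ(Y, V) A := β.hom.toAlgebra
  haveI : Algebra.FormallyEtale Γ(Y, V) Γ(X, U) := hfe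
  obtain ⟨α', hα'⟩ : ∃ τ : Γ(X, U) →ₐ[Γ(Y, V)] A ⧸ J, ∀ x, τ x = α.hom x :=
    ⟨{ α.hom with commutes' := fun r => (congrArg (fun g => g.hom r) hαβ).symm }, fun x => rfl⟩
  obtain ⟨σ, hσ⟩ := Algebra.FormallySmooth.comp_surjective Γ(Y, V) Γ(X, U) J hJ α'
  have e1 : CommRingCat.ofHom σ.toRingHom ≫ CommRingCat.ofHom (Ideal.Quotient.mk J) = α := by
    apply CommRingCat.hom_ext
    apply RingHom.ext
    intro x
    rw [← hα', ← hσ]
    rfl
  have e2 : f.appLE V U hUV ≫ CommRingCat.ofHom σ.toRingHom = β := by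
    apply CommRingCat.hom_ext
    apply RingHom.ext
    intro r
    exact σ.commutes r
  refine ⟨SM(σ.toRingHom) ≫ hU.fromSpec, ?_, ?_⟩
  · rw [← Category.assoc, ← Spec.map_comp, e1]
  · rw [Category.assoc, ← IsAffineOpen.SpecMap_appLE_fromSpec f hV hU hUV, ← Category.assoc,
      ← Spec.map_comp, e2]

set_option backward.isDefEq.respectTransparency false in
theorem uniq_aff {X Y : Scheme.{u}} (f : X ⟶ Y)
    (H : ∀ (U : X.Opens) (V : Y.Opens) (_ : IsAffineOpen U) (_ : IsAffineOpen V)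
      (hUV : U ≤ f ⁻¹ᵁ V), @Algebra.FormallyEtale _ _ _ _ (f.appLE V U hUV).hom.toAlgebra)
    {A : Type u} [CommRing A] (J : Ideal A) (hJ : J ^ 2 = ⊥)
    (l₁ l₂ : Spec (CommRingCat.of A) ⟶ X)
    (h1 : SM(Ideal.Quotient.mk J) ≫ l₁ = SM(Ideal.Quotient.mk J) ≫ l₂)
    (h2 : l₁ ≫ f = l₂ ≫ f) : l₁ = l₂ := by
  have key : ∀ p : PrimeSpectrum A, ∃ h : A, p ∈ PrimeSpectrum.basicOpen h ∧
      SM(algebraMap A (Localization.Away h)) ≫ l₁ =
        SM(algebraMap A (Localization.Away h)) ≫ l₂ := by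
    intro p
    obtain ⟨V, hV, hpV, -⟩ := exists_isAffineOpen_mem_and_subset
      (x := f (l₁ p)) (U := ⊤) (TopologicalSpace.Opens.mem_top _)
    obtain ⟨U, hU, hpU, hUV⟩ := exists_isAffineOpen_mem_and_subset
      (x := l₁ p) (U := f ⁻¹ᵁ V) hpV
    have hUV' : U ≤ f ⁻¹ᵁ V := hUV
    have hopen : IsOpen ((l₁ ⁻¹ᵁ U).carrier : Set (PrimeSpectrum A)) :=
      (l₁ ⁻¹ᵁ U).2
    have hmem : p ∈ ((l₁ ⁻¹ᵁ U).carrier : Set (PrimeSpectrum A)) := hpU
    obtain ⟨_, ⟨h, rfl⟩, hph, hhU⟩ :=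
      PrimeSpectrum.isTopologicalBasis_basic_opens.exists_subset_of_mem_open hmem hopen
    refine ⟨h, hph, ?_⟩
    have hJ' : (J.map (algebraMap A (Localization.Away h))) ^ 2 = ⊥ := by
      rw [← Ideal.map_pow, hJ, Ideal.map_bot]
    refine uniq_loc f hU hV hUV' (H U V hU hV hUV') _ hJ' _ _ ?_ ?_ ?_
    · rw [transfer _ J _ Ideal.le_comap_map l₁ _ rfl, transfer _ J _ Ideal.le_comap_map l₂ _ rfl,
        h1]
    · rw [Category.assoc, Category.assoc, h2]
    · rintro _ ⟨q, rfl⟩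
      rw [Scheme.Hom.comp_apply]
      have hq : SM(algebraMap A (Localization.Away h)) q ∈
          (PrimeSpectrum.basicOpen h : Set (PrimeSpectrum A)) := by
        have e := PrimeSpectrum.localization_away_comap_range (Localization.Away h) h
        rw [← e]
        exact ⟨q, rfl⟩
      exact hhU hq
  choose h hp heq using key
  have hspan : Ideal.span (Set.range h) = ⊤ := by
    rw [← PrimeSpectrum.iSup_basicOpen_eq_top_iff]
    exact top_unique fun p _ => TopologicalSpace.Opens.mem_iSup.mpr ⟨p, hp p⟩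
  exact (Scheme.affineOpenCoverOfSpanRangeEqTop (R := CommRingCat.of A) h hspan).openCover.hom_ext
    _ _ (fun p => heq p)

theorem compat_aux {X Y : Scheme.{u}} (f : X ⟶ Y)
    (H : ∀ (U : X.Opens) (V : Y.Opens) (_ : IsAffineOpen U) (_ : IsAffineOpen V)
      (hUV : U ≤ f ⁻¹ᵁ V), @Algebra.FormallyEtale _ _ _ _ (f.appLE V U hUV).hom.toAlgebra)
    {A : Type u} [CommRing A] (I : Ideal A) (hI : I ^ 2 = ⊥)
    (a : Spec (CommRingCat.of (A ⧸ I)) ⟶ X) (b : Spec (CommRingCat.of A) ⟶ Y)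
    (S T : Type u) [CommRing S] [CommRing T] [Algebra A S] [Algebra A T]
    (lS : Spec (CommRingCat.of S) ⟶ X) (lT : Spec (CommRingCat.of T) ⟶ X)
    (hS1 : SM(Ideal.Quotient.mk (I.map (algebraMap A S))) ≫ lS =
      SM(Ideal.quotientMap (I.map (algebraMap A S)) (algebraMap A S) Ideal.le_comap_map) ≫ a)
    (hT1 : SM(Ideal.Quotient.mk (I.map (algebraMap A T))) ≫ lT =
      SM(Ideal.quotientMap (I.map (algebraMap A T)) (algebraMap A T) Ideal.le_comap_map) ≫ a)
    (hS2 : lS ≫ f = SM(algebraMap A S) ≫ b) (hT2 : lT ≫ f = SM(algebraMap A T) ≫ b) :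
    pullback.fst (SM(algebraMap A S)) (SM(algebraMap A T)) ≫ lS =
      pullback.snd (SM(algebraMap A S)) (SM(algebraMap A T)) ≫ lT := by
  rw [← cancel_epi (pullbackSpecIso A S T).inv, pullbackSpecIso_inv_fst_assoc,
    pullbackSpecIso_inv_snd_assoc]
  have hJ : (I.map (algebraMap A (S ⊗[A] T))) ^ 2 = ⊥ := by
    rw [← Ideal.map_pow, hI, Ideal.map_bot]
  have e4 : (Algebra.TensorProduct.includeLeftRingHom (R := A) (A := S) (B := T)).comp
      (algebraMap A S) = (RingHomClass.toRingHom (Algebra.TensorProduct.includeRight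
        (R := A) (A := S) (B := T))).comp (algebraMap A T) :=
    Algebra.TensorProduct.includeLeftRingHom_comp_algebraMap
  have hL : I.map (algebraMap A S) ≤ (I.map (algebraMap A (S ⊗[A] T))).comap
      (Algebra.TensorProduct.includeLeftRingHom (R := A) (A := S) (B := T)) := by
    rw [Ideal.map_le_iff_le_comap]
    intro x hx
    exact Ideal.mem_map_of_mem (algebraMap A (S ⊗[A] T)) hx
  have hR : I.map (algebraMap A T) ≤ (I.map (algebraMap A (S ⊗[A] T))).comap
      (RingHomClass.toRingHom (Algebra.TensorProduct.includeRight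
        (R := A) (A := S) (B := T))) := by
    rw [Ideal.map_le_iff_le_comap]
    intro x hx
    have h3 := Ideal.mem_map_of_mem (algebraMap A (S ⊗[A] T)) hx
    have e := RingHom.congr_fun e4 x
    rw [Ideal.mem_comap, Ideal.mem_comap]
    rw [RingHom.comp_apply, RingHom.comp_apply] at e
    rw [← e]
    exact h3
  have hq : (Ideal.quotientMap (I.map (algebraMap A (S ⊗[A] T)))
      (Algebra.TensorProduct.includeLeftRingHom (R := A) (A := S) (B := T)) hL).comp
        (Ideal.quotientMap (I.map (algebraMap A S)) (algebraMap A S) Ideal.le_comap_map) =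
      (Ideal.quotientMap (I.map (algebraMap A (S ⊗[A] T)))
        (RingHomClass.toRingHom (Algebra.TensorProduct.includeRight
          (R := A) (A := S) (B := T))) hR).comp
        (Ideal.quotientMap (I.map (algebraMap A T)) (algebraMap A T) Ideal.le_comap_map) := by
    apply Ideal.Quotient.ringHom_ext
    refine RingHom.ext fun x => ?_
    simp only [RingHom.comp_apply, Ideal.quotientMap_mk]
    have e := RingHom.congr_fun e4 x
    rw [RingHom.comp_apply, RingHom.comp_apply] at e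
    rw [e]
  refine uniq_aff f H (I.map (algebraMap A (S ⊗[A] T))) hJ _ _ ?_ ?_
  · rw [transfer _ _ _ hL lS _ hS1, transfer _ _ _ hR lT _ hT1, sm_comp, sm_comp, hq]
  · rw [Category.assoc, Category.assoc, hS2, hT2, sm_comp, sm_comp, e4]

theorem E1_aux {X : Scheme.{u}} {A : Type u} [CommRing A] (I : Ideal A)
    (a : Spec (CommRingCat.of (A ⧸ I)) ⟶ X) (h : A)
    (l : Spec (CommRingCat.of (Localization.Away h)) ⟶ X) (L : Spec (CommRingCat.of A) ⟶ X)
    (hl1 : SM(Ideal.Quotient.mk (I.map (algebraMap A (Localization.Away h)))) ≫ l =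
      SM(Ideal.quotientMap (I.map (algebraMap A (Localization.Away h)))
        (algebraMap A (Localization.Away h)) Ideal.le_comap_map) ≫ a)
    (hL : SM(algebraMap A (Localization.Away h)) ≫ L = l) :
    SM(algebraMap (A ⧸ I) (Localization.Away (Ideal.Quotient.mk I h))) ≫
      SM(Ideal.Quotient.mk I) ≫ L =
    SM(algebraMap (A ⧸ I) (Localization.Away (Ideal.Quotient.mk I h))) ≫ a := by
  have hθ : (Localization.awayMap (Ideal.Quotient.mk I) h).comp
      (algebraMap A (Localization.Away h)) =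
      (algebraMap (A ⧸ I) (Localization.Away (Ideal.Quotient.mk I h))).comp
        (Ideal.Quotient.mk I) :=
    IsLocalization.map_comp _
  have hker : ∀ x ∈ I.map (algebraMap A (Localization.Away h)),
      Localization.awayMap (Ideal.Quotient.mk I) h x = 0 := by
    have h0 : I.map (algebraMap A (Localization.Away h)) ≤
        RingHom.ker (Localization.awayMap (Ideal.Quotient.mk I) h) := by
      rw [Ideal.map_le_iff_le_comap]
      intro x hx
      rw [Ideal.mem_comap, RingHom.mem_ker]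
      have e := RingHom.congr_fun hθ x
      rw [RingHom.comp_apply, RingHom.comp_apply] at e
      rw [e, Ideal.Quotient.eq_zero_iff_mem.mpr hx, map_zero]
    intro x hx
    exact h0 hx
  obtain ⟨θ', hθ'⟩ : ∃ θ' : (Localization.Away h ⧸ I.map (algebraMap A (Localization.Away h))) →+*
      Localization.Away (Ideal.Quotient.mk I h), ∀ x, θ' (Ideal.Quotient.mk _ x) =
        Localization.awayMap (Ideal.Quotient.mk I) h x :=
    ⟨Ideal.Quotient.lift _ (Localization.awayMap (Ideal.Quotient.mk I) h) hker,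
      fun x => Ideal.Quotient.lift_mk _ _ _⟩
  have h1 : θ'.comp (Ideal.quotientMap (I.map (algebraMap A (Localization.Away h)))
      (algebraMap A (Localization.Away h)) Ideal.le_comap_map) =
      algebraMap (A ⧸ I) (Localization.Away (Ideal.Quotient.mk I h)) := by
    apply Ideal.Quotient.ringHom_ext
    refine RingHom.ext fun x => ?_
    simp only [RingHom.comp_apply, Ideal.quotientMap_mk]
    rw [hθ']
    have e := RingHom.congr_fun hθ x
    rw [RingHom.comp_apply, RingHom.comp_apply] at e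
    exact e
  have h2 : θ'.comp (Ideal.Quotient.mk (I.map (algebraMap A (Localization.Away h)))) =
      Localization.awayMap (Ideal.Quotient.mk I) h :=
    RingHom.ext fun x => hθ' x
  calc SM(algebraMap (A ⧸ I) (Localization.Away (Ideal.Quotient.mk I h))) ≫
        SM(Ideal.Quotient.mk I) ≫ L
      = SM(Localization.awayMap (Ideal.Quotient.mk I) h) ≫
          SM(algebraMap A (Localization.Away h)) ≫ L := by
        rw [sm_comp, sm_comp, hθ]
    _ = SM(Localization.awayMap (Ideal.Quotient.mk I) h) ≫ l := by rw [hL]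
    _ = SM(θ') ≫ SM(Ideal.Quotient.mk (I.map (algebraMap A (Localization.Away h)))) ≫ l := by
        rw [sm_comp, h2]
    _ = SM(θ') ≫ SM(Ideal.quotientMap (I.map (algebraMap A (Localization.Away h)))
          (algebraMap A (Localization.Away h)) Ideal.le_comap_map) ≫ a := by rw [hl1]
    _ = SM(algebraMap (A ⧸ I) (Localization.Away (Ideal.Quotient.mk I h))) ≫ a := by
        rw [sm_comp, h1]

set_option backward.isDefEq.respectTransparency false in
theorem formallyEtaleHom_of_loc {X Y : Scheme.{u}} (f : X ⟶ Y)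
    (H : ∀ (U : X.Opens) (V : Y.Opens) (_ : IsAffineOpen U) (_ : IsAffineOpen V)
      (hUV : U ≤ f ⁻¹ᵁ V), @Algebra.FormallyEtale _ _ _ _ (f.appLE V U hUV).hom.toAlgebra) :
    MoreMor.IsFormallyEtaleHom f := by
  intro A _ I hI a b hab
  have key : ∀ p : PrimeSpectrum A, ∃ h : A, p ∈ PrimeSpectrum.basicOpen h ∧
      ∃ l : Spec (CommRingCat.of (Localization.Away h)) ⟶ X,
        SM(Ideal.Quotient.mk (I.map (algebraMap A (Localization.Away h)))) ≫ l =
          SM(Ideal.quotientMap (I.map (algebraMap A (Localization.Away h)))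
            (algebraMap A (Localization.Away h)) Ideal.le_comap_map) ≫ a ∧
        l ≫ f = SM(algebraMap A (Localization.Away h)) ≫ b := by
    intro p
    obtain ⟨p₀, hp₀⟩ := comapMk_surj I hI p
    have hxy : f (a p₀) = b p := by
      rw [← Scheme.Hom.comp_apply, ← hab, Scheme.Hom.comp_apply]
      exact congrArg (fun z : PrimeSpectrum A => b z) hp₀
    obtain ⟨V, hV, hpV, -⟩ := exists_isAffineOpen_mem_and_subset
      (x := b p) (U := ⊤) (TopologicalSpace.Opens.mem_top _)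
    obtain ⟨U, hU, hpU, hUV⟩ := exists_isAffineOpen_mem_and_subset
      (x := a p₀) (U := f ⁻¹ᵁ V) (show f (a p₀) ∈ V by rw [hxy]; exact hpV)
    have hUV' : U ≤ f ⁻¹ᵁ V := hUV
    have hopen : IsOpen ((a ⁻¹ᵁ U).carrier : Set (PrimeSpectrum (A ⧸ I))) := (a ⁻¹ᵁ U).2
    have hmem : p₀ ∈ ((a ⁻¹ᵁ U).carrier : Set (PrimeSpectrum (A ⧸ I))) := hpU
    obtain ⟨_, ⟨g₀, rfl⟩, hg₀, hg₀U⟩ :=
      PrimeSpectrum.isTopologicalBasis_basic_opens.exists_subset_of_mem_open hmem hopen
    obtain ⟨g, rfl⟩ := Ideal.Quotient.mk_surjective g₀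
    have hopen' : IsOpen ((b ⁻¹ᵁ V).carrier : Set (PrimeSpectrum A)) :=
      (b ⁻¹ᵁ V).2
    have hmem' : p ∈ ((b ⁻¹ᵁ V).carrier : Set (PrimeSpectrum A)) := hpV
    obtain ⟨_, ⟨g', rfl⟩, hg', hg'V⟩ :=
      PrimeSpectrum.isTopologicalBasis_basic_opens.exists_subset_of_mem_open hmem' hopen'
    have hpg : g ∉ p.asIdeal := by
      rw [← hp₀]
      exact hg₀
    have hpg' : g' ∉ p.asIdeal := hg'
    refine ⟨g * g', ?_, ?_⟩
    · rw [PrimeSpectrum.mem_basicOpen]
      intro hmem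
      rcases p.isPrime.mem_or_mem hmem with h | h
      · exact hpg h
      · exact hpg' h
    · have hI' : (I.map (algebraMap A (Localization.Away (g * g')))) ^ 2 = ⊥ := by
        rw [← Ideal.map_pow, hI, Ideal.map_bot]
      have hu : IsUnit (algebraMap A (Localization.Away (g * g')) (g * g')) :=
        IsLocalization.Away.algebraMap_isUnit (g * g')
      rw [map_mul] at hu
      have hug : IsUnit (algebraMap A (Localization.Away (g * g')) g) :=
        isUnit_of_mul_isUnit_left hu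
      have hug' : IsUnit (algebraMap A (Localization.Away (g * g')) g') :=
        isUnit_of_mul_isUnit_right hu
      refine exists_loc f hU hV hUV' (H U V hU hV hUV') _ hI' _ _ ?_ ?_ ?_
      · rw [Category.assoc]
        exact transfer _ I _ Ideal.le_comap_map b (a ≫ f) hab
      · rintro _ ⟨q, rfl⟩
        rw [Scheme.Hom.comp_apply]
        refine hg₀U (mem_basicOpen_of_isUnit _ (Ideal.Quotient.mk I g) ?_ q)
        rw [CommRingCat.hom_ofHom, Ideal.quotientMap_mk]
        exact hug.map _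
      · rintro _ ⟨q, rfl⟩
        rw [Scheme.Hom.comp_apply]
        exact hg'V (mem_basicOpen_of_isUnit _ g' hug' q)
  choose h hp l hl1 hl2 using key
  have hspan : Ideal.span (Set.range h) = ⊤ := by
    rw [← PrimeSpectrum.iSup_basicOpen_eq_top_iff]
    exact top_unique fun p _ => TopologicalSpace.Opens.mem_iSup.mpr ⟨p, hp p⟩
  let 𝒰 : (Spec (CommRingCat.of A)).OpenCover :=
    (Scheme.affineOpenCoverOfSpanRangeEqTop (R := CommRingCat.of A) h hspan).openCover
  have compat : ∀ p q : 𝒰.I₀,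
      pullback.fst (𝒰.f p) (𝒰.f q) ≫ l p = pullback.snd (𝒰.f p) (𝒰.f q) ≫ l q :=
    fun p q => compat_aux f H I hI a b _ _ (l p) (l q) (hl1 p) (hl1 q) (hl2 p) (hl2 q)
  obtain ⟨L, hL⟩ : ∃ L : Spec (CommRingCat.of A) ⟶ X,
      ∀ p, SM(algebraMap A (Localization.Away (h p))) ≫ L = l p :=
    ⟨𝒰.glueMorphisms l compat, fun p => 𝒰.ι_glueMorphisms l compat p⟩
  have E2 : L ≫ f = b := by
    refine 𝒰.hom_ext _ _ fun p => ?_
    show SM(algebraMap A (Localization.Away (h p))) ≫ L ≫ f =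
      SM(algebraMap A (Localization.Away (h p))) ≫ b
    rw [← Category.assoc, hL p, hl2 p]
  have E1 : SM(Ideal.Quotient.mk I) ≫ L = a := by
    have hspan' : Ideal.span (Set.range fun p => Ideal.Quotient.mk I (h p)) = ⊤ := by
      have e : (Set.range fun p => Ideal.Quotient.mk I (h p)) =
          (Ideal.Quotient.mk I) '' (Set.range h) := by
        rw [← Set.range_comp]
        rfl
      rw [e, ← Ideal.map_span, hspan, Ideal.map_top]
    refine (Scheme.affineOpenCoverOfSpanRangeEqTop (R := CommRingCat.of (A ⧸ I))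
      (fun p => Ideal.Quotient.mk I (h p)) hspan').openCover.hom_ext _ _ fun p => ?_
    exact E1_aux I a (h p) (l p) L (hl1 p) (hL p)
  refine ⟨L, ⟨E1, E2⟩, ?_⟩
  rintro L' ⟨hL'1, hL'2⟩
  exact uniq_aff f H I hI L' L (hL'1.trans E1.symm) (hL'2.trans E2.symm)

theorem loc_of_formallyEtaleHom {X Y : Scheme.{u}} (f : X ⟶ Y)
    (hf : MoreMor.IsFormallyEtaleHom f)
    {U : X.Opens} {V : Y.Opens} (hU : IsAffineOpen U) (hV : IsAffineOpen V) (hUV : U ≤ f ⁻¹ᵁ V) :
    @Algebra.FormallyEtale _ _ _ _ (f.appLE V U hUV).hom.toAlgebra := by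
  letI alg1 : Algebra Γ(Y, V) Γ(X, U) := (f.appLE V U hUV).hom.toAlgebra
  rw [Algebra.FormallyEtale.iff_comp_bijective]
  intro B _ _ I hI
  have hfac := IsAffineOpen.SpecMap_appLE_fromSpec f hV hU hUV
  have halg : ∀ σ : Γ(X, U) →ₐ[Γ(Y, V)] B, f.appLE V U hUV ≫ CommRingCat.ofHom σ.toRingHom =
      CommRingCat.ofHom (algebraMap Γ(Y, V) B) := by
    intro σ
    apply CommRingCat.hom_ext
    refine RingHom.ext fun r => ?_
    exact σ.commutes r
  have hm : ∀ σ : Γ(X, U) →ₐ[Γ(Y, V)] B, SM(σ.toRingHom) ≫ hU.fromSpec ≫ f =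
      SM(algebraMap Γ(Y, V) B) ≫ hV.fromSpec := by
    intro σ
    rw [← hfac, ← Category.assoc, ← Spec.map_comp, halg]
  constructor
  · intro σ₁ σ₂ h12
    have hmk : (Ideal.Quotient.mk I).comp σ₂.toRingHom = (Ideal.Quotient.mk I).comp σ₁.toRingHom :=
      RingHom.ext fun x => (congrArg (fun g => g x) h12).symm
    obtain ⟨l, -, hluniq⟩ := hf B I hI (SM(Ideal.Quotient.mk I) ≫ SM(σ₁.toRingHom) ≫ hU.fromSpec)
      (SM(algebraMap Γ(Y, V) B) ≫ hV.fromSpec)
      (by rw [Category.assoc, Category.assoc, hm σ₁])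
    have e1 := hluniq (SM(σ₁.toRingHom) ≫ hU.fromSpec)
      ⟨rfl, (Category.assoc _ _ _).trans (hm σ₁)⟩
    have e2' : SM(Ideal.Quotient.mk I) ≫ SM(σ₂.toRingHom) ≫ hU.fromSpec =
        SM(Ideal.Quotient.mk I) ≫ SM(σ₁.toRingHom) ≫ hU.fromSpec := by
      rw [← Category.assoc, ← Category.assoc, ← Spec.map_comp, ← Spec.map_comp,
        ← CommRingCat.ofHom_comp, ← CommRingCat.ofHom_comp, hmk]
    have e2 := hluniq (SM(σ₂.toRingHom) ≫ hU.fromSpec)
      ⟨e2', (Category.assoc _ _ _).trans (hm σ₂)⟩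
    have e3 : SM(σ₁.toRingHom) = SM(σ₂.toRingHom) := by
      rw [← cancel_mono hU.fromSpec, e1, e2]
    have e4 := Spec.map_injective e3
    exact AlgHom.ext fun x => congrArg (fun g => g.hom x) e4
  · intro α
    have e : CommRingCat.ofHom (algebraMap Γ(Y, V) B) ≫ CommRingCat.ofHom (Ideal.Quotient.mk I) =
        f.appLE V U hUV ≫ CommRingCat.ofHom α.toRingHom := by
      apply CommRingCat.hom_ext
      refine RingHom.ext fun r => ?_
      exact (α.commutes r).symm
    have hα : SM(Ideal.Quotient.mk I) ≫ SM(algebraMap Γ(Y, V) B) ≫ hV.fromSpec =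
        (SM(α.toRingHom) ≫ hU.fromSpec) ≫ f := by
      rw [Category.assoc, ← hfac, ← Category.assoc, ← Category.assoc, ← Spec.map_comp,
        ← Spec.map_comp, e]
    obtain ⟨l, ⟨hl1, hl2⟩, -⟩ := hf B I hI (SM(α.toRingHom) ≫ hU.fromSpec)
      (SM(algebraMap Γ(Y, V) B) ≫ hV.fromSpec) hα
    have hr : Set.range l ⊆ (U : Set X) := by
      rintro _ ⟨q, rfl⟩
      obtain ⟨q₀, rfl⟩ := specMk_surjective I hI q
      rw [← Scheme.Hom.comp_apply, hl1, Scheme.Hom.comp_apply, ← hU.range_fromSpec]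
      exact ⟨_, rfl⟩
    obtain ⟨σ, rfl⟩ := exists_factor hU l hr
    have hσ1 : f.appLE V U hUV ≫ σ = CommRingCat.ofHom (algebraMap Γ(Y, V) B) := by
      apply Spec.map_injective
      rw [← cancel_mono hV.fromSpec, Spec.map_comp, Category.assoc, hfac, ← Category.assoc]
      exact hl2
    have hσ2 : σ ≫ CommRingCat.ofHom (Ideal.Quotient.mk I) = CommRingCat.ofHom α.toRingHom := by
      apply Spec.map_injective
      rw [← cancel_mono hU.fromSpec, Spec.map_comp, Category.assoc]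
      exact hl1
    refine ⟨{ σ.hom with commutes' := fun r => congrArg (fun g => g.hom r) hσ1 }, ?_⟩
    apply AlgHom.ext
    intro x
    exact congrArg (fun g => g.hom x) hσ2

end Helpers

open AlgebraicGeometry CategoryTheory Limits in
/-- (1) ⇔ (3): a morphism f : X → Y is formally étale (unique lifting against first order thickenings of
affine schemes, rings in the same universe) if and only if for all affine opens U ⊆ f⁻¹(V) the ring
map O_Y(V) → O_X(U) is formally étale. -/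
theorem result {X Y : Scheme.{u}} (f : X ⟶ Y) :
    MoreMor.IsFormallyEtaleHom f ↔ ∀ (U : X.Opens) (V : Y.Opens) (hU : IsAffineOpen U) (hV : IsAffineOpen V) (hUV : U ≤ f ⁻¹ᵁ V),
      letI := (f.appLE V U hUV).hom.toAlgebra
      Algebra.FormallyEtale Γ(Y, V) Γ(X, U) := by
  constructor
  · intro hf U V hU hV hUV
    exact loc_of_formallyEtaleHom f hf hU hV hUV
  · intro H
    exact formallyEtaleHom_of_loc f H

end Groth.Agent.S1487
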