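import Groth.Statements.S5075
import Mathlib
import Groth.Agent.S1487

set_option autoImplicit false
open CategoryTheory AlgebraicGeometry
universe u
open Unram

namespace Groth.Agent.S5075

section Helpers
open AlgebraicGeometry CategoryTheory Limits TensorProduct
open Groth.Agent.S1487

local notation "SM(" f ")" => Spec.map (CommRingCat.ofHom f)

/-- unique lifting against nil-thickenings of affine schemes -/
def NilLift {X Y : Scheme.{u}} (f : X ⟶ Y) : Prop :=
  ∀ (A : Type u) [CommRing A] (I : Ideal A), I ≤ nilradical A →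
    ∀ (a : Spec (CommRingCat.of (A ⧸ I)) ⟶ X) (b : Spec (CommRingCat.of A) ⟶ Y),
      SM(Ideal.Quotient.mk I) ≫ b = a ≫ f →
        ∃! l : Spec (CommRingCat.of A) ⟶ X, SM(Ideal.Quotient.mk I) ≫ l = a ∧ l ≫ f = b

theorem map_le_nilradical {A A' : Type u} [CommRing A] [CommRing A'] (ψ : A →+* A') (I : Ideal A)
    (hI : I ≤ nilradical A) : I.map ψ ≤ nilradical A' := by
  rw [Ideal.map_le_iff_le_comap]
  intro x hx
  rw [Ideal.mem_comap, mem_nilradical]
  exact (mem_nilradical.mp (hI hx)).map ψ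

theorem comapMk_surjN {A : Type u} [CommRing A] (I : Ideal A) (hI : I ≤ nilradical A)
    (p : PrimeSpectrum A) :
    ∃ q : PrimeSpectrum (A ⧸ I), PrimeSpectrum.comap (Ideal.Quotient.mk I) q = p := by
  have h : p ∈ Set.range (PrimeSpectrum.comap (Ideal.Quotient.mk I)) := by
    rw [range_comap_of_surjective _ (Ideal.Quotient.mk I)
      Ideal.Quotient.mk_surjective, Ideal.mk_ker, PrimeSpectrum.mem_zeroLocus]
    haveI := p.isPrime
    have h1 : I ≤ p.asIdeal := hI.trans (nilradical_le_prime p.asIdeal)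
    exact SetLike.coe_subset_coe.mpr h1
  exact h

theorem specMk_surjectiveN {A : Type u} [CommRing A] (I : Ideal A) (hI : I ≤ nilradical A) :
    Function.Surjective (SM(Ideal.Quotient.mk I)) :=
  fun p => comapMk_surjN I hI p

theorem lift_unique_nil {R B A : Type u} [CommRing R] [CommRing B] [CommRing A] [Algebra R B]
    [Algebra R A] [Algebra.FormallyUnramified R B] [Algebra.FiniteType R B]
    (J : Ideal A) (hJ : J ≤ nilradical A) (g₁ g₂ : B →ₐ[R] A)
    (h : (Ideal.Quotient.mkₐ R J).comp g₁ = (Ideal.Quotient.mkₐ R J).comp g₂) : g₁ = g₂ := by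
  obtain ⟨s, hs⟩ := (inferInstance : Algebra.FiniteType R B).out
  classical
  have hsub : ∀ x : B, g₁ x - g₂ x ∈ J := by
    intro x
    have e := congrArg (fun k => k x) h
    have e' : Ideal.Quotient.mk J (g₁ x) = Ideal.Quotient.mk J (g₂ x) := e
    rw [← Ideal.Quotient.eq_zero_iff_mem, map_sub, e', sub_self]
  have hJ₁ : Ideal.span ((s.image fun x => g₁ x - g₂ x : Finset A) : Set A) ≤ J := by
    rw [Ideal.span_le]
    intro y hy
    rw [Finset.coe_image] at hy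
    obtain ⟨x, -, rfl⟩ := hy
    exact hsub x
  have hnil : IsNilpotent (Ideal.span ((s.image fun x => g₁ x - g₂ x : Finset A) : Set A)) :=
    (Ideal.FG.isNilpotent_iff_le_nilradical ⟨_, rfl⟩).mpr (hJ₁.trans hJ)
  apply Algebra.FormallyUnramified.lift_unique _ hnil
  apply AlgHom.ext_of_adjoin_eq_top hs
  intro x hx
  show Ideal.Quotient.mk _ (g₁ x) = Ideal.Quotient.mk _ (g₂ x)
  rw [← sub_eq_zero, ← map_sub, Ideal.Quotient.eq_zero_iff_mem]
  apply Ideal.subset_span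
  rw [Finset.coe_image]
  exact ⟨x, hx, rfl⟩

theorem exists_lift_nil {R B A : Type u} [CommRing R] [CommRing B] [CommRing A] [Algebra R B]
    [Algebra R A] [Algebra.FormallySmooth R B] [Algebra.FinitePresentation R B]
    (J : Ideal A) (hJ : J ≤ nilradical A) (g : B →ₐ[R] A ⧸ J) :
    ∃ g' : B →ₐ[R] A, (Ideal.Quotient.mkₐ R J).comp g' = g := by
  obtain ⟨n, f, hf, hfg⟩ := (inferInstance : Algebra.FinitePresentation R B).out
  choose a ha using fun i : Fin n => Ideal.Quotient.mk_surjective (g (f (MvPolynomial.X i)))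
  obtain ⟨φ, hφ⟩ : ∃ φ : MvPolynomial (Fin n) R →ₐ[R] A, ∀ i, φ (MvPolynomial.X i) = a i :=
    ⟨MvPolynomial.aeval a, fun i => MvPolynomial.aeval_X a i⟩
  have hφg : (Ideal.Quotient.mkₐ R J).comp φ = g.comp f := by
    apply MvPolynomial.algHom_ext
    intro i
    show Ideal.Quotient.mk J (φ (MvPolynomial.X i)) = g (f (MvPolynomial.X i))
    rw [hφ, ha]
  have hJ₀ : (RingHom.ker f.toRingHom).map φ.toRingHom ≤ J := by
    rw [Ideal.map_le_iff_le_comap]
    intro x hx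
    rw [Ideal.mem_comap, ← Ideal.Quotient.eq_zero_iff_mem]
    have e := congrArg (fun k => k x) hφg
    have hx0 : f x = 0 := hx
    have e' : Ideal.Quotient.mk J (φ x) = g (f x) := e
    rw [hx0, map_zero] at e'
    exact e'
  have hnil : IsNilpotent ((RingHom.ker f.toRingHom).map φ.toRingHom) :=
    (Ideal.FG.isNilpotent_iff_le_nilradical (hfg.map _)).mpr (hJ₀.trans hJ)
  obtain ⟨g₀, hg₀⟩ : ∃ g₀ : B →ₐ[R] A ⧸ (RingHom.ker f.toRingHom).map φ.toRingHom,
      ∀ x, g₀ (f x) = Ideal.Quotient.mk _ (φ x) := by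
    have hker : ∀ x ∈ RingHom.ker f.toRingHom,
        ((Ideal.Quotient.mkₐ R ((RingHom.ker f.toRingHom).map φ.toRingHom)).comp φ) x = 0 := by
      intro x hx
      show Ideal.Quotient.mk _ (φ x) = 0
      rw [Ideal.Quotient.eq_zero_iff_mem]
      exact Ideal.mem_map_of_mem _ hx
    refine ⟨(Ideal.Quotient.liftₐ (RingHom.ker f.toRingHom) _ hker).comp
      (Ideal.quotientKerAlgEquivOfSurjective hf).symm.toAlgHom, fun x => ?_⟩
    have e1 : (Ideal.quotientKerAlgEquivOfSurjective hf).symm (f x) =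
        Ideal.Quotient.mk _ x := by
      apply (Ideal.quotientKerAlgEquivOfSurjective hf).injective
      rw [AlgEquiv.apply_symm_apply]
      rfl
    show (Ideal.Quotient.liftₐ (RingHom.ker f.toRingHom) _ hker)
      ((Ideal.quotientKerAlgEquivOfSurjective hf).symm (f x)) = _
    rw [e1]
    rfl
  obtain ⟨g', hg'⟩ := Algebra.FormallySmooth.exists_lift _ hnil g₀
  refine ⟨g', ?_⟩
  apply AlgHom.ext
  intro b
  obtain ⟨x, rfl⟩ := hf b
  show Ideal.Quotient.mk J (g' (f x)) = g (f x)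
  have e2 : Ideal.Quotient.mk _ (g' (f x)) = g₀ (f x) := congrArg (fun k => k (f x)) hg'
  rw [hg₀, ← sub_eq_zero, ← map_sub, Ideal.Quotient.eq_zero_iff_mem] at e2
  have e3 : g' (f x) - φ x ∈ J := hJ₀ e2
  have e4 : Ideal.Quotient.mk J (φ x) = g (f x) := congrArg (fun k => k x) hφg
  rw [← e4, ← sub_eq_zero, ← map_sub, Ideal.Quotient.eq_zero_iff_mem]
  exact e3

theorem uniq_locN {X Y : Scheme.{u}} (f : X ⟶ Y) {U : X.Opens} {V : Y.Opens} (hU : IsAffineOpen U)
    (hV : IsAffineOpen V) (hUV : U ≤ f ⁻¹ᵁ V)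
    (hfe : @Algebra.Etale _ _ _ _ (f.appLE V U hUV).hom.toAlgebra)
    {A : Type u} [CommRing A] (J : Ideal A) (hJ : J ≤ nilradical A)
    (l₁ l₂ : Spec (CommRingCat.of A) ⟶ X)
    (h1 : SM(Ideal.Quotient.mk J) ≫ l₁ = SM(Ideal.Quotient.mk J) ≫ l₂)
    (h2 : l₁ ≫ f = l₂ ≫ f) (hr : Set.range l₁ ⊆ (U : Set X)) : l₁ = l₂ := by
  have hs := specMk_surjectiveN J hJ
  have hr2 : Set.range l₂ ⊆ (U : Set X) := by
    rintro _ ⟨q, rfl⟩
    obtain ⟨q₀, rfl⟩ := hs q
    rw [← Scheme.Hom.comp_apply, ← h1, Scheme.Hom.comp_apply]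
    exact hr ⟨_, rfl⟩
  obtain ⟨σ₁, rfl⟩ := exists_factor hU l₁ hr
  obtain ⟨σ₂, rfl⟩ := exists_factor hU l₂ hr2
  have hφ : f.appLE V U hUV ≫ σ₁ = f.appLE V U hUV ≫ σ₂ := by
    apply Spec.map_injective
    rw [← cancel_mono hV.fromSpec, Spec.map_comp, Spec.map_comp, Category.assoc, Category.assoc,
      IsAffineOpen.SpecMap_appLE_fromSpec f hV hU hUV]
    simpa only [Category.assoc] using h2
  have hmk : σ₁ ≫ CommRingCat.ofHom (Ideal.Quotient.mk J) =
      σ₂ ≫ CommRingCat.ofHom (Ideal.Quotient.mk J) := by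
    apply Spec.map_injective
    rw [← cancel_mono hU.fromSpec, Spec.map_comp, Spec.map_comp, Category.assoc, Category.assoc]
    exact h1
  letI alg1 : Algebra Γ(Y, V) Γ(X, U) := (f.appLE V U hUV).hom.toAlgebra
  letI alg2 : Algebra Γ(Y, V) A := (σ₁.hom.comp (f.appLE V U hUV).hom).toAlgebra
  haveI : Algebra.Etale Γ(Y, V) Γ(X, U) := hfe
  obtain ⟨τ₁, hτ₁⟩ : ∃ τ : Γ(X, U) →ₐ[Γ(Y, V)] A, ∀ x, τ x = σ₁.hom x :=
    ⟨{ σ₁.hom with commutes' := fun r => rfl }, fun x => rfl⟩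
  obtain ⟨τ₂, hτ₂⟩ : ∃ τ : Γ(X, U) →ₐ[Γ(Y, V)] A, ∀ x, τ x = σ₂.hom x :=
    ⟨{ σ₂.hom with commutes' := fun r => (congrArg (fun g => g.hom r) hφ).symm }, fun x => rfl⟩
  have hτ : (Ideal.Quotient.mkₐ Γ(Y, V) J).comp τ₁ = (Ideal.Quotient.mkₐ Γ(Y, V) J).comp τ₂ := by
    apply AlgHom.ext
    intro x
    have e := congrArg (fun g => g.hom x) hmk
    simp only [AlgHom.comp_apply, hτ₁, hτ₂]
    exact e
  have h3 : τ₁ = τ₂ := lift_unique_nil J hJ τ₁ τ₂ hτ
  have h4 : σ₁ = σ₂ := by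
    apply CommRingCat.hom_ext
    apply RingHom.ext
    intro x
    rw [← hτ₁, ← hτ₂, h3]
  rw [h4]


theorem exists_locN {X Y : Scheme.{u}} (f : X ⟶ Y) {U : X.Opens} {V : Y.Opens} (hU : IsAffineOpen U)
    (hV : IsAffineOpen V) (hUV : U ≤ f ⁻¹ᵁ V)
    (hfe : @Algebra.Etale _ _ _ _ (f.appLE V U hUV).hom.toAlgebra)
    {A : Type u} [CommRing A] (J : Ideal A) (hJ : J ≤ nilradical A)
    (a : Spec (CommRingCat.of (A ⧸ J)) ⟶ X) (b : Spec (CommRingCat.of A) ⟶ Y)
    (hab : SM(Ideal.Quotient.mk J) ≫ b = a ≫ f)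
    (ha : Set.range a ⊆ (U : Set X)) (hb : Set.range b ⊆ (V : Set Y)) :
    ∃ l : Spec (CommRingCat.of A) ⟶ X, SM(Ideal.Quotient.mk J) ≫ l = a ∧ l ≫ f = b := by
  obtain ⟨α, rfl⟩ := exists_factor hU a ha
  obtain ⟨β, rfl⟩ := exists_factor hV b hb
  have hαβ : β ≫ CommRingCat.ofHom (Ideal.Quotient.mk J) = f.appLE V U hUV ≫ α := by
    apply Spec.map_injective
    rw [← cancel_mono hV.fromSpec, Spec.map_comp, Spec.map_comp, Category.assoc, Category.assoc,
      IsAffineOpen.SpecMap_appLE_fromSpec f hV hU hUV]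
    simpa only [Category.assoc] using hab
  letI alg1 : Algebra Γ(Y, V) Γ(X, U) := (f.appLE V U hUV).hom.toAlgebra
  letI alg2 : Algebra Γ(Y, V) A := β.hom.toAlgebra
  haveI : Algebra.Etale Γ(Y, V) Γ(X, U) := hfe
  obtain ⟨α', hα'⟩ : ∃ τ : Γ(X, U) →ₐ[Γ(Y, V)] A ⧸ J, ∀ x, τ x = α.hom x :=
    ⟨{ α.hom with commutes' := fun r => (congrArg (fun g => g.hom r) hαβ).symm }, fun x => rfl⟩
  obtain ⟨σ, hσ⟩ := exists_lift_nil J hJ α'
  have e1 : CommRingCat.ofHom σ.toRingHom ≫ CommRingCat.ofHom (Ideal.Quotient.mk J) = α := by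
    apply CommRingCat.hom_ext
    apply RingHom.ext
    intro x
    rw [← hα', ← hσ]
    rfl
  have e2 : f.appLE V U hUV ≫ CommRingCat.ofHom σ.toRingHom = β := by
    apply CommRingCat.hom_ext
    apply RingHom.ext
    intro r
    exact σ.commutes r
  refine ⟨SM(σ.toRingHom) ≫ hU.fromSpec, ?_, ?_⟩
  · rw [← Category.assoc, ← Spec.map_comp, e1]
  · rw [Category.assoc, ← IsAffineOpen.SpecMap_appLE_fromSpec f hV hU hUV, ← Category.assoc,
      ← Spec.map_comp, e2]


set_option backward.isDefEq.respectTransparency false in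
theorem uniq_affN {X Y : Scheme.{u}} (f : X ⟶ Y)
    (H : ∀ (U : X.Opens) (V : Y.Opens) (_ : IsAffineOpen U) (_ : IsAffineOpen V)
      (hUV : U ≤ f ⁻¹ᵁ V), @Algebra.Etale _ _ _ _ (f.appLE V U hUV).hom.toAlgebra)
    {A : Type u} [CommRing A] (J : Ideal A) (hJ : J ≤ nilradical A)
    (l₁ l₂ : Spec (CommRingCat.of A) ⟶ X)
    (h1 : SM(Ideal.Quotient.mk J) ≫ l₁ = SM(Ideal.Quotient.mk J) ≫ l₂)
    (h2 : l₁ ≫ f = l₂ ≫ f) : l₁ = l₂ := by
  have key : ∀ p : PrimeSpectrum A, ∃ h : A, p ∈ PrimeSpectrum.basicOpen h ∧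
      SM(algebraMap A (Localization.Away h)) ≫ l₁ =
        SM(algebraMap A (Localization.Away h)) ≫ l₂ := by
    intro p
    obtain ⟨V, hV, hpV, -⟩ := exists_isAffineOpen_mem_and_subset
      (x := f (l₁ p)) (U := ⊤) (TopologicalSpace.Opens.mem_top _)
    obtain ⟨U, hU, hpU, hUV⟩ := exists_isAffineOpen_mem_and_subset
      (x := l₁ p) (U := f ⁻¹ᵁ V) hpV
    have hUV' : U ≤ f ⁻¹ᵁ V := hUV
    have hopen : IsOpen ((l₁ ⁻¹ᵁ U).carrier : Set (PrimeSpectrum A)) :=
      (l₁ ⁻¹ᵁ U).2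
    have hmem : p ∈ ((l₁ ⁻¹ᵁ U).carrier : Set (PrimeSpectrum A)) := hpU
    obtain ⟨_, ⟨h, rfl⟩, hph, hhU⟩ :=
      PrimeSpectrum.isTopologicalBasis_basic_opens.exists_subset_of_mem_open hmem hopen
    refine ⟨h, hph, ?_⟩
    have hJ' : J.map (algebraMap A (Localization.Away h)) ≤ nilradical _ :=
      map_le_nilradical _ _ hJ
    refine uniq_locN f hU hV hUV' (H U V hU hV hUV') _ hJ' _ _ ?_ ?_ ?_
    · rw [transfer _ J _ Ideal.le_comap_map l₁ _ rfl, transfer _ J _ Ideal.le_comap_map l₂ _ rfl,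
        h1]
    · rw [Category.assoc, Category.assoc, h2]
    · rintro _ ⟨q, rfl⟩
      rw [Scheme.Hom.comp_apply]
      have hq : SM(algebraMap A (Localization.Away h)) q ∈
          (PrimeSpectrum.basicOpen h : Set (PrimeSpectrum A)) := by
        have e := PrimeSpectrum.localization_away_comap_range (Localization.Away h) h
        rw [← e]
        exact ⟨q, rfl⟩
      exact hhU hq
  choose h hp heq using key
  have hspan : Ideal.span (Set.range h) = ⊤ := by
    rw [← PrimeSpectrum.iSup_basicOpen_eq_top_iff]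
    exact top_unique fun p _ => TopologicalSpace.Opens.mem_iSup.mpr ⟨p, hp p⟩
  exact (Scheme.affineOpenCoverOfSpanRangeEqTop (R := CommRingCat.of A) h hspan).openCover.hom_ext
    _ _ (fun p => heq p)


theorem compat_auxN {X Y : Scheme.{u}} (f : X ⟶ Y)
    (H : ∀ (U : X.Opens) (V : Y.Opens) (_ : IsAffineOpen U) (_ : IsAffineOpen V)
      (hUV : U ≤ f ⁻¹ᵁ V), @Algebra.Etale _ _ _ _ (f.appLE V U hUV).hom.toAlgebra)
    {A : Type u} [CommRing A] (I : Ideal A) (hI : I ≤ nilradical A)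
    (a : Spec (CommRingCat.of (A ⧸ I)) ⟶ X) (b : Spec (CommRingCat.of A) ⟶ Y)
    (S T : Type u) [CommRing S] [CommRing T] [Algebra A S] [Algebra A T]
    (lS : Spec (CommRingCat.of S) ⟶ X) (lT : Spec (CommRingCat.of T) ⟶ X)
    (hS1 : SM(Ideal.Quotient.mk (I.map (algebraMap A S))) ≫ lS =
      SM(Ideal.quotientMap (I.map (algebraMap A S)) (algebraMap A S) Ideal.le_comap_map) ≫ a)
    (hT1 : SM(Ideal.Quotient.mk (I.map (algebraMap A T))) ≫ lT =
      SM(Ideal.quotientMap (I.map (algebraMap A T)) (algebraMap A T) Ideal.le_comap_map) ≫ a)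
    (hS2 : lS ≫ f = SM(algebraMap A S) ≫ b) (hT2 : lT ≫ f = SM(algebraMap A T) ≫ b) :
    pullback.fst (SM(algebraMap A S)) (SM(algebraMap A T)) ≫ lS =
      pullback.snd (SM(algebraMap A S)) (SM(algebraMap A T)) ≫ lT := by
  rw [← cancel_epi (pullbackSpecIso A S T).inv, pullbackSpecIso_inv_fst_assoc,
    pullbackSpecIso_inv_snd_assoc]
  have hJ : I.map (algebraMap A (S ⊗[A] T)) ≤ nilradical _ := map_le_nilradical _ _ hI
  have e4 : (Algebra.TensorProduct.includeLeftRingHom (R := A) (A := S) (B := T)).comp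
      (algebraMap A S) = (RingHomClass.toRingHom (Algebra.TensorProduct.includeRight
        (R := A) (A := S) (B := T))).comp (algebraMap A T) :=
    Algebra.TensorProduct.includeLeftRingHom_comp_algebraMap
  have hL : I.map (algebraMap A S) ≤ (I.map (algebraMap A (S ⊗[A] T))).comap
      (Algebra.TensorProduct.includeLeftRingHom (R := A) (A := S) (B := T)) := by
    rw [Ideal.map_le_iff_le_comap]
    intro x hx
    exact Ideal.mem_map_of_mem (algebraMap A (S ⊗[A] T)) hx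
  have hR : I.map (algebraMap A T) ≤ (I.map (algebraMap A (S ⊗[A] T))).comap
      (RingHomClass.toRingHom (Algebra.TensorProduct.includeRight
        (R := A) (A := S) (B := T))) := by
    rw [Ideal.map_le_iff_le_comap]
    intro x hx
    have h3 := Ideal.mem_map_of_mem (algebraMap A (S ⊗[A] T)) hx
    have e := RingHom.congr_fun e4 x
    rw [Ideal.mem_comap, Ideal.mem_comap]
    rw [RingHom.comp_apply, RingHom.comp_apply] at e
    rw [← e]
    exact h3
  have hq : (Ideal.quotientMap (I.map (algebraMap A (S ⊗[A] T)))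
      (Algebra.TensorProduct.includeLeftRingHom (R := A) (A := S) (B := T)) hL).comp
        (Ideal.quotientMap (I.map (algebraMap A S)) (algebraMap A S) Ideal.le_comap_map) =
      (Ideal.quotientMap (I.map (algebraMap A (S ⊗[A] T)))
        (RingHomClass.toRingHom (Algebra.TensorProduct.includeRight
          (R := A) (A := S) (B := T))) hR).comp
        (Ideal.quotientMap (I.map (algebraMap A T)) (algebraMap A T) Ideal.le_comap_map) := by
    apply Ideal.Quotient.ringHom_ext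
    refine RingHom.ext fun x => ?_
    simp only [RingHom.comp_apply, Ideal.quotientMap_mk]
    have e := RingHom.congr_fun e4 x
    rw [RingHom.comp_apply, RingHom.comp_apply] at e
    rw [e]
  refine uniq_affN f H (I.map (algebraMap A (S ⊗[A] T))) hJ _ _ ?_ ?_
  · rw [transfer _ _ _ hL lS _ hS1, transfer _ _ _ hR lT _ hT1, sm_comp, sm_comp, hq]
  · rw [Category.assoc, Category.assoc, hS2, hT2, sm_comp, sm_comp, e4]


set_option backward.isDefEq.respectTransparency false in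
theorem nilLift_of_loc {X Y : Scheme.{u}} (f : X ⟶ Y)
    (H : ∀ (U : X.Opens) (V : Y.Opens) (_ : IsAffineOpen U) (_ : IsAffineOpen V)
      (hUV : U ≤ f ⁻¹ᵁ V), @Algebra.Etale _ _ _ _ (f.appLE V U hUV).hom.toAlgebra) :
    NilLift f := by
  intro A _ I hI a b hab
  have key : ∀ p : PrimeSpectrum A, ∃ h : A, p ∈ PrimeSpectrum.basicOpen h ∧
      ∃ l : Spec (CommRingCat.of (Localization.Away h)) ⟶ X,
        SM(Ideal.Quotient.mk (I.map (algebraMap A (Localization.Away h)))) ≫ l =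
          SM(Ideal.quotientMap (I.map (algebraMap A (Localization.Away h)))
            (algebraMap A (Localization.Away h)) Ideal.le_comap_map) ≫ a ∧
        l ≫ f = SM(algebraMap A (Localization.Away h)) ≫ b := by
    intro p
    obtain ⟨p₀, hp₀⟩ := comapMk_surjN I hI p
    have hxy : f (a p₀) = b p := by
      rw [← Scheme.Hom.comp_apply, ← hab, Scheme.Hom.comp_apply]
      exact congrArg (fun z : PrimeSpectrum A => b z) hp₀
    obtain ⟨V, hV, hpV, -⟩ := exists_isAffineOpen_mem_and_subset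
      (x := b p) (U := ⊤) (TopologicalSpace.Opens.mem_top _)
    obtain ⟨U, hU, hpU, hUV⟩ := exists_isAffineOpen_mem_and_subset
      (x := a p₀) (U := f ⁻¹ᵁ V) (show f (a p₀) ∈ V by rw [hxy]; exact hpV)
    have hUV' : U ≤ f ⁻¹ᵁ V := hUV
    have hopen : IsOpen ((a ⁻¹ᵁ U).carrier : Set (PrimeSpectrum (A ⧸ I))) := (a ⁻¹ᵁ U).2
    have hmem : p₀ ∈ ((a ⁻¹ᵁ U).carrier : Set (PrimeSpectrum (A ⧸ I))) := hpU
    obtain ⟨_, ⟨g₀, rfl⟩, hg₀, hg₀U⟩ :=
      PrimeSpectrum.isTopologicalBasis_basic_opens.exists_subset_of_mem_open hmem hopen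
    obtain ⟨g, rfl⟩ := Ideal.Quotient.mk_surjective g₀
    have hopen' : IsOpen ((b ⁻¹ᵁ V).carrier : Set (PrimeSpectrum A)) :=
      (b ⁻¹ᵁ V).2
    have hmem' : p ∈ ((b ⁻¹ᵁ V).carrier : Set (PrimeSpectrum A)) := hpV
    obtain ⟨_, ⟨g', rfl⟩, hg', hg'V⟩ :=
      PrimeSpectrum.isTopologicalBasis_basic_opens.exists_subset_of_mem_open hmem' hopen'
    have hpg : g ∉ p.asIdeal := by
      rw [← hp₀]
      exact hg₀
    have hpg' : g' ∉ p.asIdeal := hg'
    refine ⟨g * g', ?_, ?_⟩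
    · rw [PrimeSpectrum.mem_basicOpen]
      intro hmem
      rcases p.isPrime.mem_or_mem hmem with h | h
      · exact hpg h
      · exact hpg' h
    · have hI' : I.map (algebraMap A (Localization.Away (g * g'))) ≤ nilradical _ :=
        map_le_nilradical _ _ hI
      have hu : IsUnit (algebraMap A (Localization.Away (g * g')) (g * g')) :=
        IsLocalization.Away.algebraMap_isUnit (g * g')
      rw [map_mul] at hu
      have hug : IsUnit (algebraMap A (Localization.Away (g * g')) g) :=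
        isUnit_of_mul_isUnit_left hu
      have hug' : IsUnit (algebraMap A (Localization.Away (g * g')) g') :=
        isUnit_of_mul_isUnit_right hu
      refine exists_locN f hU hV hUV' (H U V hU hV hUV') _ hI' _ _ ?_ ?_ ?_
      · rw [Category.assoc]
        exact transfer _ I _ Ideal.le_comap_map b (a ≫ f) hab
      · rintro _ ⟨q, rfl⟩
        rw [Scheme.Hom.comp_apply]
        refine hg₀U (mem_basicOpen_of_isUnit _ (Ideal.Quotient.mk I g) ?_ q)
        rw [CommRingCat.hom_ofHom, Ideal.quotientMap_mk]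
        exact hug.map _
      · rintro _ ⟨q, rfl⟩
        rw [Scheme.Hom.comp_apply]
        exact hg'V (mem_basicOpen_of_isUnit _ g' hug' q)
  choose h hp l hl1 hl2 using key
  have hspan : Ideal.span (Set.range h) = ⊤ := by
    rw [← PrimeSpectrum.iSup_basicOpen_eq_top_iff]
    exact top_unique fun p _ => TopologicalSpace.Opens.mem_iSup.mpr ⟨p, hp p⟩
  let 𝒰 : (Spec (CommRingCat.of A)).OpenCover :=
    (Scheme.affineOpenCoverOfSpanRangeEqTop (R := CommRingCat.of A) h hspan).openCover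
  have compat : ∀ p q : 𝒰.I₀,
      pullback.fst (𝒰.f p) (𝒰.f q) ≫ l p = pullback.snd (𝒰.f p) (𝒰.f q) ≫ l q :=
    fun p q => compat_auxN f H I hI a b _ _ (l p) (l q) (hl1 p) (hl1 q) (hl2 p) (hl2 q)
  obtain ⟨L, hL⟩ : ∃ L : Spec (CommRingCat.of A) ⟶ X,
      ∀ p, SM(algebraMap A (Localization.Away (h p))) ≫ L = l p :=
    ⟨𝒰.glueMorphisms l compat, fun p => 𝒰.ι_glueMorphisms l compat p⟩
  have E2 : L ≫ f = b := by
    refine 𝒰.hom_ext _ _ fun p => ?_
    show SM(algebraMap A (Localization.Away (h p))) ≫ L ≫ f =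
      SM(algebraMap A (Localization.Away (h p))) ≫ b
    rw [← Category.assoc, hL p, hl2 p]
  have E1 : SM(Ideal.Quotient.mk I) ≫ L = a := by
    have hspan' : Ideal.span (Set.range fun p => Ideal.Quotient.mk I (h p)) = ⊤ := by
      have e : (Set.range fun p => Ideal.Quotient.mk I (h p)) =
          (Ideal.Quotient.mk I) '' (Set.range h) := by
        rw [← Set.range_comp]
        rfl
      rw [e, ← Ideal.map_span, hspan, Ideal.map_top]
    refine (Scheme.affineOpenCoverOfSpanRangeEqTop (R := CommRingCat.of (A ⧸ I))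
      (fun p => Ideal.Quotient.mk I (h p)) hspan').openCover.hom_ext _ _ fun p => ?_
    exact E1_aux I a (h p) (l p) L (hl1 p) (hL p)
  refine ⟨L, ⟨E1, E2⟩, ?_⟩
  rintro L' ⟨hL'1, hL'2⟩
  exact uniq_affN f H I hI L' L (hL'1.trans E1.symm) (hL'2.trans E2.symm)


theorem nilLift_of_etale {X Y : Scheme.{u}} (f : X ⟶ Y) [Etale f] : NilLift f :=
  nilLift_of_loc f fun _ _ hU hV hUV => Etale.etale_appLE f hV hU hUV

/-- the lifting property over one open of the thickened scheme -/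
def GoodN {X S T T' : Scheme.{u}} (f : X ⟶ S) (t : T ⟶ T') (a : T ⟶ X) (b : T' ⟶ S)
    (W : T'.Opens) (μ : W.toScheme ⟶ X) : Prop :=
  μ ≫ f = W.ι ≫ b ∧ ∀ (Z : Scheme.{u}) (u : Z ⟶ T) (v : Z ⟶ W.toScheme),
    u ≫ t = v ≫ W.ι → u ≫ a = v ≫ μ

theorem goodN_existsUnique {X S : Scheme.{u}} (f : X ⟶ S) (hf : NilLift f)
    {T T' : Scheme.{u}} (t : T ⟶ T') [IsClosedImmersion t] (hsurj : Function.Surjective t)
    (a : T ⟶ X) (b : T' ⟶ S) (w : t ≫ b = a ≫ f) (W : T'.Opens) (hW : IsAffineOpen W) :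
    ∃ μ : W.toScheme ⟶ X, GoodN f t a b W μ ∧
      ∀ μ' : W.toScheme ⟶ X, GoodN f t a b W μ' → μ' = μ := by
  have hW' : IsAffineOpen (t ⁻¹ᵁ W) := hW.preimage t
  obtain ⟨ρ, hρ⟩ : ∃ ρ : Γ(T', W) →+* Γ(T, t ⁻¹ᵁ W), ρ = (t.app W).hom := ⟨_, rfl⟩
  have hρ' : t.appLE W (t ⁻¹ᵁ W) le_rfl = CommRingCat.ofHom ρ := by
    rw [Scheme.Hom.appLE_eq_app, hρ]
    rfl
  have hρsurj : Function.Surjective ρ := by
    rw [hρ]
    exact t.app_surjective W hW
  have hI : RingHom.ker ρ ≤ nilradical Γ(T', W) := by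
    rw [nilradical_eq_sInf]
    refine le_sInf fun P hP => ?_
    haveI : P.IsPrime := hP
    obtain ⟨y, hy⟩ := hsurj (hW.fromSpec ⟨P, hP⟩)
    have hyW : y ∈ t ⁻¹ᵁ W := by
      show t y ∈ W
      rw [hy]
      have h0 : hW.fromSpec ⟨P, hP⟩ ∈ Set.range hW.fromSpec := ⟨_, rfl⟩
      rw [hW.range_fromSpec] at h0
      exact h0
    obtain ⟨q, hq⟩ : ∃ q : Spec Γ(T, t ⁻¹ᵁ W), hW'.fromSpec q = y :=
      ⟨hW'.primeIdealOf ⟨y, hyW⟩, hW'.fromSpec_primeIdealOf ⟨y, hyW⟩⟩
    have h1 : hW.fromSpec (Spec.map (t.appLE W (t ⁻¹ᵁ W) le_rfl) q) = hW.fromSpec ⟨P, hP⟩ := by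
      rw [← Scheme.Hom.comp_apply, IsAffineOpen.SpecMap_appLE_fromSpec t hW hW' le_rfl,
        Scheme.Hom.comp_apply, hq, hy]
    have h2 := hW.fromSpec.isOpenEmbedding.injective h1
    rw [hρ'] at h2
    have h3 : Ideal.comap ρ q.asIdeal = P := congrArg PrimeSpectrum.asIdeal h2
    rw [← h3]
    intro x hx
    rw [Ideal.mem_comap, RingHom.mem_ker.mp hx]
    exact q.asIdeal.zero_mem
  obtain ⟨e, he⟩ : ∃ e : CommRingCat.of (Γ(T', W) ⧸ RingHom.ker ρ) ≅ Γ(T, t ⁻¹ᵁ W),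
      CommRingCat.ofHom ρ ≫ e.inv = CommRingCat.ofHom (Ideal.Quotient.mk (RingHom.ker ρ)) := by
    refine ⟨(RingHom.quotientKerEquivOfSurjective hρsurj).toCommRingCatIso, ?_⟩
    apply CommRingCat.hom_ext
    refine RingHom.ext fun x => ?_
    exact RingHom.quotientKerEquivOfSurjective_symm_apply hρsurj x
  obtain ⟨j, hj⟩ : ∃ j : Spec (CommRingCat.of (Γ(T', W) ⧸ RingHom.ker ρ)) ⟶ T,
      j = Spec.map e.inv ≫ hW'.fromSpec := ⟨_, rfl⟩
  have K : SM(Ideal.Quotient.mk (RingHom.ker ρ)) ≫ hW.fromSpec = j ≫ t := by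
    rw [hj, Category.assoc, ← IsAffineOpen.SpecMap_appLE_fromSpec t hW hW' le_rfl, hρ',
      ← Category.assoc, ← Spec.map_comp, he]
  have hab : SM(Ideal.Quotient.mk (RingHom.ker ρ)) ≫ (hW.fromSpec ≫ b) = (j ≫ a) ≫ f := by
    rw [← Category.assoc, K, Category.assoc, w, Category.assoc]
  obtain ⟨l, ⟨hl1, hl2⟩, hluniq⟩ := hf Γ(T', W) (RingHom.ker ρ) hI (j ≫ a) (hW.fromSpec ≫ b) hab
  refine ⟨hW.isoSpec.hom ≫ l, ⟨?_, ?_⟩, ?_⟩
  · rw [Category.assoc, hl2, IsAffineOpen.isoSpec_hom_fromSpec_assoc]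
  · intro Z u v huv
    have hrange : Set.range u ⊆ Set.range (t ⁻¹ᵁ W).ι := by
      rw [Scheme.Opens.range_ι]
      rintro _ ⟨z, rfl⟩
      show t (u z) ∈ W
      rw [← Scheme.Hom.comp_apply, huv, Scheme.Hom.comp_apply]
      exact (v z).2
    obtain ⟨u', hu'⟩ : ∃ u' : Z ⟶ Spec (CommRingCat.of (Γ(T', W) ⧸ RingHom.ker ρ)),
        u' ≫ j = u := by
      refine ⟨IsOpenImmersion.lift (t ⁻¹ᵁ W).ι u hrange ≫ hW'.isoSpec.hom ≫ Spec.map e.hom, ?_⟩
      rw [hj, Category.assoc, Category.assoc, ← Spec.map_comp_assoc, e.inv_hom_id, Spec.map_id,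
        Category.id_comp, IsAffineOpen.isoSpec_hom_fromSpec, IsOpenImmersion.lift_fac]
    have h3 : u' ≫ SM(Ideal.Quotient.mk (RingHom.ker ρ)) = v ≫ hW.isoSpec.hom := by
      rw [← cancel_mono hW.fromSpec, Category.assoc, K, ← Category.assoc, hu', huv,
        Category.assoc, IsAffineOpen.isoSpec_hom_fromSpec]
    rw [← hu', Category.assoc, ← hl1, ← Category.assoc, h3, Category.assoc]
  · rintro μ' ⟨hμ1, hμ2⟩
    have h4 : hW.isoSpec.inv ≫ μ' = l := by
      apply hluniq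
      constructor
      · have h5 := hμ2 _ j (SM(Ideal.Quotient.mk (RingHom.ker ρ)) ≫ hW.isoSpec.inv) (by
          rw [Category.assoc, IsAffineOpen.isoSpec_inv_ι, K])
        rw [h5, Category.assoc]
      · rw [Category.assoc, hμ1, ← Category.assoc, IsAffineOpen.isoSpec_inv_ι]
    rw [← h4, Iso.hom_inv_id_assoc]

theorem lift_along_nilImmersion {X S : Scheme.{u}} (f : X ⟶ S) (hf : NilLift f)
    {T T' : Scheme.{u}} (t : T ⟶ T') [IsClosedImmersion t] (hsurj : Function.Surjective t)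
    (a : T ⟶ X) (b : T' ⟶ S) (w : t ≫ b = a ≫ f) : ∃! l : T' ⟶ X, t ≫ l = a ∧ l ≫ f = b := by
  have key := fun W : T'.affineOpens => goodN_existsUnique f hf t hsurj a b w W.1 W.2
  choose μ hμ hμu using key
  have htrans' : ∀ (i j : T'.affineOpens) (hij : i ≤ j), T'.homOfLE hij ≫ μ j = μ i := by
    intro i j hij
    apply hμu i
    constructor
    · rw [Category.assoc, (hμ j).1, Scheme.homOfLE_ι_assoc]
    · intro Z u v huv
      have h1 := (hμ j).2 Z u (v ≫ T'.homOfLE hij) (by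
        rw [Category.assoc, Scheme.homOfLE_ι]
        exact huv)
      exact h1.trans (Category.assoc _ _ _)
  have htrans : ∀ {i j : T'.directedAffineCover.I₀} (hij : i ⟶ j),
      T'.directedAffineCover.trans hij ≫ μ j = μ i := by
    intro i j hij
    have h0 : hij = homOfLE (leOfHom hij) := Subsingleton.elim _ _
    rw [h0]
    exact htrans' i j (leOfHom hij)
  obtain ⟨L, hL⟩ : ∃ L : T' ⟶ X, ∀ W : T'.affineOpens, W.1.ι ≫ L = μ W :=
    ⟨T'.directedAffineCover.glueMorphismsOfLocallyDirected μ htrans,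
      fun W => T'.directedAffineCover.map_glueMorphismsOfLocallyDirected μ htrans W⟩
  have E2 : L ≫ f = b := by
    refine T'.directedAffineCover.hom_ext _ _ fun W => ?_
    show W.1.ι ≫ L ≫ f = W.1.ι ≫ b
    rw [← Category.assoc, hL W, (hμ W).1]
  have E1 : t ≫ L = a := by
    refine Scheme.Cover.hom_ext (T'.directedAffineCover.pullback₁ t) _ _ fun W => ?_
    show pullback.fst t W.1.ι ≫ t ≫ L = pullback.fst t W.1.ι ≫ a
    rw [(hμ W).2 _ (pullback.fst t W.1.ι) (pullback.snd t W.1.ι) pullback.condition,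
      pullback.condition_assoc, hL W]
  refine ⟨L, ⟨E1, E2⟩, ?_⟩
  rintro L' ⟨hL'1, hL'2⟩
  refine T'.directedAffineCover.hom_ext _ _ fun W => ?_
  show W.1.ι ≫ L' = W.1.ι ≫ L
  rw [hL W]
  apply hμu W
  constructor
  · rw [Category.assoc, hL'2]
  · intro Z u v huv
    rw [← Category.assoc, ← huv, Category.assoc, hL'1]

theorem main {X S S' S'₀ : Scheme.{u}} (p : X ⟶ S) [Etale p]
    (g : S' ⟶ S) (i : S'₀ ⟶ S') [IsClosedImmersion i] [Surjective i]
    (f₀ : S'₀ ⟶ X) (h₀ : f₀ ≫ p = i ≫ g) :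
    ∃! f : S' ⟶ X, f ≫ p = g ∧ i ≫ f = f₀ := by
  obtain ⟨l, ⟨h1, h2⟩, hu⟩ := lift_along_nilImmersion p (nilLift_of_etale p) i i.surjective f₀ g
    h₀.symm
  exact ⟨l, ⟨h2, h1⟩, fun l' ⟨h1', h2'⟩ => hu l' ⟨h2', h1'⟩⟩

end Helpers

/-- Let p : X ⟶ S be étale, g : S' ⟶ S a morphism and i : S'₀ ⟶ S' a surjective closed immersion (a
closed subscheme with the same underlying space). Then for every f₀ : S'₀ ⟶ X over S there is
exactly one f : S' ⟶ X over S with i ≫ f = f₀. -/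
theorem result {X S S' S'₀ : Scheme.{u}} (p : X ⟶ S) [Etale p]
    (g : S' ⟶ S) (i : S'₀ ⟶ S') [IsClosedImmersion i] [Surjective i]
    (f₀ : S'₀ ⟶ X) (h₀ : f₀ ≫ p = i ≫ g) :
    ∃! f : S' ⟶ X, f ≫ p = g ∧ i ≫ f = f₀ := by
  exact main p g i f₀ h₀

end Groth.Agent.S5075
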