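import Groth.Statements.S0117
import Mathlib
import Groth.Agent.S5075

set_option autoImplicit false
open CategoryTheory CategoryTheory.Limits AlgebraicGeometry Opposite
universe u
open EtBase

namespace Groth.Agent.S0117

section Helpers
open CategoryTheory CategoryTheory.Limits AlgebraicGeometry

theorem main117 {S S₀ : Scheme.{u}} (i : S₀ ⟶ S) [IsClosedImmersion i] [Surjective i]
    {XL YL : Scheme.{u}} (p : XL ⟶ S) (q : YL ⟶ S) [Etale p] :
    (∀ a b : YL ⟶ XL, a ≫ p = q → b ≫ p = q →
      pullback.fst q i ≫ a = pullback.fst q i ≫ b → a = b) ∧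
    (∀ θ : pullback q i ⟶ pullback p i, θ ≫ pullback.snd p i = pullback.snd q i →
      ∃ l : YL ⟶ XL, l ≫ p = q ∧ pullback.fst q i ≫ l = θ ≫ pullback.fst p i) := by
  haveI hci : IsClosedImmersion (pullback.fst q i) := inferInstance
  haveI hsj : Surjective (pullback.fst q i) := inferInstance
  constructor
  · intro a b ha hb hab
    obtain ⟨l, _, hu⟩ := Groth.Agent.S5075.main p q (pullback.fst q i) (pullback.fst q i ≫ a)
      (by rw [Category.assoc, ha])
    exact (hu a ⟨ha, rfl⟩).trans (hu b ⟨hb, hab.symm⟩).symm
  · intro θ hθ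
    obtain ⟨l, ⟨hl1, hl2⟩, _⟩ := Groth.Agent.S5075.main p q (pullback.fst q i)
      (θ ≫ pullback.fst p i) (by
        rw [Category.assoc, pullback.condition, ← Category.assoc, hθ, pullback.condition])
    exact ⟨l, hl1, hl2⟩

end Helpers

/-- Topological invariance of étale morphisms, first-order form — for X étale over S and any S-scheme Y,
base change to a closed subscheme S₀ with the same underlying space gives a bijection between
S-morphisms Y → X and S₀-morphisms of the base changes. -/
theorem result {S S₀ : Scheme.{u}} (i : S₀ ⟶ S) [IsClosedImmersion i] [Surjective i]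
    (X Y : Over S) [AlgebraicGeometry.Etale X.hom] :
    Function.Bijective (fun φ : Y ⟶ X => (Over.pullback i).map φ) := by
  obtain ⟨hinj, hsurj⟩ := main117 i X.hom Y.hom
  constructor
  · intro φ ψ h
    have h' : ((Over.pullback i).map φ).left = ((Over.pullback i).map ψ).left :=
      congrArg (fun t => t.left) h
    have e1 : ∀ k : Y ⟶ X, ((Over.pullback i).map k).left ≫ pullback.fst X.hom i =
        pullback.fst Y.hom i ≫ k.left := fun k => by
      simp only [Over.pullback_map_left, pullback.lift_fst]
    have h1 : pullback.fst Y.hom i ≫ φ.left = pullback.fst Y.hom i ≫ ψ.left := by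
      rw [← e1 φ, ← e1 ψ, h']
    apply Over.OverMorphism.ext
    exact hinj φ.left ψ.left (Over.w φ) (Over.w ψ) h1
  · intro θ
    obtain ⟨l, hl1, hl2⟩ := hsurj θ.left (Over.w θ)
    refine ⟨Over.homMk l hl1, ?_⟩
    apply Over.OverMorphism.ext
    show ((Over.pullback i).map (Over.homMk l hl1)).left = θ.left
    apply pullback.hom_ext
    · refine Eq.trans ?_ hl2
      simp only [Over.pullback_map_left, pullback.lift_fst, Over.homMk_left]
    · refine Eq.trans ?_ (Over.w θ).symm
      simp only [Over.pullback_map_left, pullback.lift_snd]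
      rfl

end Groth.Agent.S0117
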