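import Groth.Statements.S0179
import Groth.Agent.Lib.Helper4.Spectral
import Mathlib.Order.Disjointed

set_option autoImplicit false
universe u
open EtPBC

namespace Groth.Agent.S0179

/-- For a spectral space X with set of closed points X_0, the following are equivalent: (1) any open
cover of X admits a refinement by finitely many pairwise disjoint open-and-closed pieces; (2) the
map from X_0 to the space of connected components pi_0(X) is a bijection. -/
theorem result (X : Type u) [TopologicalSpace X] [SpectralSpace X] :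
    (∀ (ι : Type u) (U : ι → Set X), (∀ i, IsOpen (U i)) → (⋃ i, U i) = Set.univ →
      ∃ (n : ℕ) (V : Fin n → Set X), (∀ k, IsClopen (V k)) ∧
        Pairwise (fun k l => Disjoint (V k) (V l)) ∧ (⋃ k, V k) = Set.univ ∧ ∀ k, ∃ i, V k ⊆ U i) ↔
    Function.Bijective (fun x : {x : X // IsClosed ({x} : Set X)} => _root_.ConnectedComponents.mk x.1) := by
  classical
  constructor
  · intro h1
    constructor
    · rintro ⟨z₁, hz₁⟩ ⟨z₂, hz₂⟩ h
      by_contra hne
      have hne' : z₁ ≠ z₂ := fun e => hne (Subtype.ext e)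
      have h' : z₁ ∈ connectedComponent z₂ := ConnectedComponents.coe_eq_coe'.1 h
      let U : ULift.{u} Bool → Set X := fun b => cond b.down ({z₁} : Set X)ᶜ ({z₂} : Set X)ᶜ
      have hUt : U ⟨true⟩ = ({z₁} : Set X)ᶜ := rfl
      have hUf : U ⟨false⟩ = ({z₂} : Set X)ᶜ := rfl
      have hUo : ∀ b, IsOpen (U b) := by
        rintro ⟨b⟩
        cases b
        · rw [hUf]
          exact hz₂.isOpen_compl
        · rw [hUt]
          exact hz₁.isOpen_compl
      have hUun : (⋃ b, U b) = Set.univ := by
        rw [Set.eq_univ_iff_forall]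
        intro x
        by_cases hx : x = z₁
        · refine Set.mem_iUnion.2 ⟨⟨false⟩, ?_⟩
          rw [hUf, hx]
          exact hne'
        · refine Set.mem_iUnion.2 ⟨⟨true⟩, ?_⟩
          rw [hUt]
          exact hx
      obtain ⟨n, V, hVclopen, -, hVun, hVU⟩ := h1 (ULift.{u} Bool) U hUo hUun
      have hz₂V : z₂ ∈ ⋃ k, V k := by
        rw [hVun]
        exact Set.mem_univ z₂
      obtain ⟨k, hk⟩ := Set.mem_iUnion.1 hz₂V
      have hz₁k : z₁ ∈ V k := (hVclopen k).connectedComponent_subset hk h'
      obtain ⟨⟨b⟩, hb⟩ := hVU k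
      cases b
      · have hmem := hb hk
        rw [hUf] at hmem
        exact hmem rfl
      · have hmem := hb hz₁k
        rw [hUt] at hmem
        exact hmem rfl
    · intro c
      obtain ⟨x, rfl⟩ := ConnectedComponents.surjective_coe c
      obtain ⟨z, hzC, hzc⟩ := IsClosed.exists_closed_singleton
        (isClosed_connectedComponent (x := x)) ⟨x, mem_connectedComponent⟩
      exact ⟨⟨z, hzc⟩, ConnectedComponents.coe_eq_coe'.2 hzC⟩
  · intro hbij ι U hUo hUun
    have hA : ∀ x : X, ∃ i, connectedComponent x ⊆ U i := by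
      intro x
      obtain ⟨z, hzC, hzc⟩ := IsClosed.exists_closed_singleton
        (isClosed_connectedComponent (x := x)) ⟨x, mem_connectedComponent⟩
      have hzU : z ∈ ⋃ i, U i := by
        rw [hUun]
        exact Set.mem_univ z
      obtain ⟨i, hzi⟩ := Set.mem_iUnion.1 hzU
      refine ⟨i, fun y hy => ?_⟩
      obtain ⟨z', hz'y, hz'c⟩ := IsClosed.exists_closed_singleton
        (isClosed_closure (s := ({y} : Set X))) ⟨y, subset_closure (Set.mem_singleton y)⟩
      have hz'C : z' ∈ connectedComponent x :=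
        (isClosed_connectedComponent.closure_subset_iff.2 (Set.singleton_subset_iff.2 hy)) hz'y
      have heq : (⟨z', hz'c⟩ : {x : X // IsClosed ({x} : Set X)}) = ⟨z, hzc⟩ := by
        apply hbij.1
        change (ConnectedComponents.mk z' : ConnectedComponents X) = ConnectedComponents.mk z
        rw [ConnectedComponents.coe_eq_coe', ← connectedComponent_eq hzC]
        exact hz'C
      have hzz : z' = z := congrArg Subtype.val heq
      have hyz : y ⤳ z := by
        rw [← hzz]
        exact specializes_iff_mem_closure.2 hz'y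
      exact hyz.mem_open (hUo i) hzi
    have hC : ∀ x : X, ∃ W : Set X, IsClopen W ∧ x ∈ W ∧ ∃ i, W ⊆ U i := by
      intro x
      obtain ⟨i, hi⟩ := hA x
      rw [Groth.Agent.Helper4.connectedComponent_eq_iInter_isClopen_of_spectral] at hi
      let ι' := {s : Set X // IsClopen s ∧ x ∈ s}
      let t : ι' → Set X := fun s => s.1 ∩ (U i)ᶜ
      have ht : ∀ s, IsClosed (t s) := fun s => s.2.1.isClosed.inter (hUo i).isClosed_compl
      have hempty : Set.univ ∩ ⋂ s, t s = ∅ := by
        rw [Set.univ_inter, Set.eq_empty_iff_forall_notMem]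
        intro y hy
        rw [Set.mem_iInter] at hy
        have hyS : y ∈ ⋂ s : ι', s.1 := Set.mem_iInter.2 fun s => (hy s).1
        exact (hy ⟨Set.univ, isClopen_univ, Set.mem_univ x⟩).2 (hi hyS)
      obtain ⟨u, hu⟩ := isCompact_univ.elim_finite_subfamily_closed t ht hempty
      refine ⟨⋂ s ∈ u, (s : ι').1, isClopen_biInter_finset fun s _ => s.2.1,
        Set.mem_iInter₂.2 fun s _ => s.2.2, i, ?_⟩
      intro y hy
      by_contra hyU
      have hmem : y ∈ Set.univ ∩ ⋂ s ∈ u, t s :=
        ⟨Set.mem_univ y, Set.mem_iInter₂.2 fun s hs => ⟨Set.mem_iInter₂.1 hy s hs, hyU⟩⟩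
      rw [hu] at hmem
      exact hmem
    choose W hWclopen hxW hWU using hC
    choose iW hiW using hWU
    obtain ⟨T, -, hT⟩ := isCompact_univ.elim_nhds_subcover W
      (fun x _ => (hWclopen x).isOpen.mem_nhds (hxW x))
    let e := T.equivFin
    let g : Fin T.card → Set X := fun k => W (e.symm k).1
    refine ⟨T.card, disjointed g, ?_, ?_, ?_, ?_⟩
    · intro k
      exact disjointedRec (fun s j hs => hs.diff (hWclopen _)) (hWclopen _)
    · intro k l hkl
      exact disjoint_disjointed g hkl
    · rw [iUnion_disjointed, Set.eq_univ_iff_forall]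
      intro x
      have hx : x ∈ ⋃ y ∈ T, W y := hT (Set.mem_univ x)
      obtain ⟨y, hyT, hxy⟩ := Set.mem_iUnion₂.1 hx
      refine Set.mem_iUnion.2 ⟨e ⟨y, hyT⟩, ?_⟩
      change x ∈ W (e.symm (e ⟨y, hyT⟩)).1
      rw [Equiv.symm_apply_apply]
      exact hxy
    · intro k
      exact ⟨iW (e.symm k).1, fun x hx => hiW _ (disjointed_le g k hx)⟩

end Groth.Agent.S0179
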