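import Groth.Statements.S0180
import Groth.Agent.Lib.Helper4.Spectral

set_option autoImplicit false
universe u
open EtPBC

namespace Groth.Agent.S0180

/-- Final assertion: if X is spectral, the set X_0 of closed points is closed, and every point of X
specializes to exactly one closed point, then X_0 -> pi_0(X) is bijective (so X satisfies the
equivalent conditions of the lemma; such X are called w-local). -/
theorem result (X : Type u) [TopologicalSpace X]
    [SpectralSpace X] (h0 : IsClosed {x : X | IsClosed ({x} : Set X)})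
    (huniq : ∀ x : X, ∃! z : X, IsClosed ({z} : Set X) ∧ x ⤳ z) :
    Function.Bijective (fun x : {x : X // IsClosed ({x} : Set X)} => _root_.ConnectedComponents.mk x.1) := by
  classical
  constructor
  · rintro ⟨z₁, hz₁⟩ ⟨z₂, hz₂⟩ h
    by_contra hne
    have hne' : z₁ ≠ z₂ := fun e => hne (Subtype.ext e)
    have h' : z₁ ∈ connectedComponent z₂ := ConnectedComponents.coe_eq_coe'.1 h
    -- a compact open neighbourhood of `z₁` missing `z₂`
    obtain ⟨U, ⟨hUo, hUc⟩, hz₁U, hUz₂⟩ :=
      PrespectralSpace.isTopologicalBasis.exists_subset_of_mem_open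
        (show z₁ ∈ ({z₂} : Set X)ᶜ from hne') hz₂.isOpen_compl
    let X₀ : Set X := {x : X | IsClosed ({x} : Set X)}
    have hZ₁ : IsClosed (X₀ ∩ U) :=
      Groth.Agent.Helper4.isClosed_inter_of_closedPoints h0 (fun x hx => hx) hUo hUc
    have hZ₂ : IsClosed (X₀ ∩ Uᶜ) := h0.inter hUo.isClosed_compl
    have hdisj : Disjoint (X₀ ∩ U) (X₀ ∩ Uᶜ) :=
      Set.disjoint_left.2 fun x hx1 hx2 => hx2.2 hx1.2
    have hunion : (X₀ ∩ U) ∪ (X₀ ∩ Uᶜ) = X₀ := by
      rw [← Set.inter_union_distrib_left, Set.union_compl_self, Set.inter_univ]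
    have hconn : ∀ x : X, IsConnected (X₀ ∩ closure {x}) := by
      intro x
      obtain ⟨z, ⟨hzc, hxz⟩, hzu⟩ := huniq x
      have hEq : X₀ ∩ closure {x} = {z} := by
        ext y
        constructor
        · rintro ⟨hy1, hy2⟩
          exact hzu y ⟨hy1, specializes_iff_mem_closure.2 hy2⟩
        · intro hy
          rw [Set.mem_singleton_iff] at hy
          rw [hy]
          exact ⟨hzc, specializes_iff_mem_closure.1 hxz⟩
      rw [hEq]
      exact isConnected_singleton
    obtain ⟨X₁, X₂, hX₁, hX₂, hd, hu, hZ₁eq, hZ₂eq⟩ :=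
      Groth.Agent.Helper4.clopen_decomposition X₀ h0 hconn (X₀ ∩ U) (X₀ ∩ Uᶜ) hZ₁ hZ₂ hdisj hunion
    have hz₁X₁ : z₁ ∈ X₁ := by
      have : z₁ ∈ X₀ ∩ U := ⟨hz₁, hz₁U⟩
      rw [hZ₁eq] at this
      exact this.2
    have hz₂X₂ : z₂ ∈ X₂ := by
      have : z₂ ∈ X₀ ∩ Uᶜ := ⟨hz₂, fun hU => hUz₂ hU rfl⟩
      rw [hZ₂eq] at this
      exact this.2
    have hX₂eq : X₂ = X₁ᶜ := by
      ext x
      constructor
      · intro hx2 hx1
        exact Set.disjoint_left.1 hd hx1 hx2
      · intro hx1
        have : x ∈ X₁ ∪ X₂ := by rw [hu]; exact Set.mem_univ x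
        rcases this with h | h
        · exact (hx1 h).elim
        · exact h
    have hclopen : IsClopen X₂ := ⟨hX₂, by rw [hX₂eq]; exact hX₁.isOpen_compl⟩
    have hsub := hclopen.connectedComponent_subset hz₂X₂
    exact Set.disjoint_left.1 hd hz₁X₁ (hsub h')
  · intro c
    obtain ⟨x, rfl⟩ := ConnectedComponents.surjective_coe c
    obtain ⟨z, ⟨hzc, hxz⟩, -⟩ := huniq x
    refine ⟨⟨z, hzc⟩, ?_⟩
    change (ConnectedComponents.mk z : ConnectedComponents X) = ConnectedComponents.mk x
    rw [ConnectedComponents.coe_eq_coe']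
    exact (isPreconnected_singleton.closure).subset_connectedComponent
      (subset_closure (Set.mem_singleton x)) (specializes_iff_mem_closure.1 hxz)

end Groth.Agent.S0180
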