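import Groth.Statements.S0190
import Groth.Agent.Lib.Helper4.CSA
import Mathlib.RingTheory.Flat.Basic

set_option autoImplicit false
universe u v w
open scoped TensorProduct
open Curves

namespace Groth.Agent.S0190

/-- The tensor product of a simple algebra with a finite central simple algebra is simple. -/
theorem result (k : Type u) [Field k] (A : Type v) [Ring A] [Algebra k A]
    [IsSimpleRing A] (A' : Type w) [Ring A'] [Algebra k A']
    [Algebra.IsCentral k A'] [IsSimpleRing A'] [FiniteDimensional k A'] :
    IsSimpleRing (A ⊗[k] A') := by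
  have hinj : Function.Injective
      (Algebra.TensorProduct.includeLeft : A →ₐ[k] A ⊗[k] A') :=
    Algebra.TensorProduct.includeLeft_injective (algebraMap k A').injective
  have : Nontrivial (A ⊗[k] A') := hinj.nontrivial
  apply IsSimpleRing.of_eq_bot_or_eq_top
  intro I
  by_cases hI : I = ⊥
  · exact Or.inl hI
  right
  obtain ⟨a, ha, haI⟩ := Groth.Agent.Helper4.exists_tmul_one_mem_of_ne_bot I hI
  let J : TwoSidedIdeal A :=
    I.comap (Algebra.TensorProduct.includeLeft : A →ₐ[k] A ⊗[k] A').toRingHom
  have hJ : (1 : A) ∈ J := IsSimpleRing.one_mem_of_ne_zero_mem J ha (by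
    rw [TwoSidedIdeal.mem_comap]; exact haI)
  rw [TwoSidedIdeal.mem_comap] at hJ
  apply (TwoSidedIdeal.one_mem_iff I).1
  rw [Algebra.TensorProduct.one_def]
  exact hJ

end Groth.Agent.S0190
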