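import Groth.Statements.S0195
import Groth.Agent.Lib.Helper4.Brauer

set_option autoImplicit false
universe u v w
open scoped TensorProduct
open Curves

namespace Groth.Agent.S0195

/-- A finite extension k' of k splits a finite central simple algebra A exactly when some algebra
similar to A contains k' with dim equal to [k':k]^2. Uses Mathlib's bundled CSA and Brauer
equivalence. -/
theorem result (k : Type u) [Field k] (A : CSA.{u, u} k)
    (k' : Type u) [Field k'] [Algebra k k'] [FiniteDimensional k k'] :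
    Curves.Splits k A k' ↔ ∃ (B : CSA.{u, u} k) (_ : k' →ₐ[k] B), IsBrauerEquivalent A B ∧
      Module.finrank k B = Module.finrank k k' ^ 2 := by
  constructor
  · rintro ⟨n, hn, ⟨φ⟩⟩
    obtain ⟨B, iR, iA, iC, iS, iF, ι, p, q, hp, hq, ⟨χ⟩, hdim⟩ :=
      Groth.Agent.Helper4.exists_brauer_of_splits k A k' n hn φ
    let B' : CSA.{u, u} k := { toAlgCat := AlgCat.of k B, isCentral := iC, isSimple := iS, fin_dim := iF }
    exact ⟨B', ι, ⟨p, q, hp, hq, ⟨χ⟩⟩, hdim⟩
  · rintro ⟨B, ι, ⟨n, m, hn, hm, ⟨e⟩⟩, hdim⟩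
    obtain ⟨b, hb, ⟨θ⟩⟩ := Groth.Agent.Helper4.splits_of_algHom_of_finrank_eq k B k' ι hdim
    exact Groth.Agent.Helper4.splits_of_matrix_algEquiv k A B k' n m hn hm e b hb θ

end Groth.Agent.S0195
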