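import Groth.Statements.S0197
import Mathlib

set_option autoImplicit false
universe u v w
open scoped TensorProduct
open Curves

namespace Groth.Agent.S0197

/-- If a finite central skew field D has dimension d^2, the degree of any finite splitting field of D is
divisible by d. -/
theorem result (k : Type u) [Field k]
    (D : Type u) [DivisionRing D] [Algebra k D] [Algebra.IsCentral k D] [FiniteDimensional k D]
    (d : ℕ) (hd : Module.finrank k D = d ^ 2)
    (k' : Type u) [Field k'] [Algebra k k'] [FiniteDimensional k k'] (hs : Curves.Splits k D k') :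
    d ∣ Module.finrank k k' := by
  obtain ⟨n, hn, ⟨φ⟩⟩ := hs
  -- `n = d` by comparing `k'`-dimensions
  have h1 : Module.finrank k' (k' ⊗[k] D) = d ^ 2 := by
    rw [Module.finrank_baseChange, hd]
  have h2 : Module.finrank k' (k' ⊗[k] D) = n ^ 2 := by
    rw [LinearEquiv.finrank_eq φ.toLinearEquiv, Module.finrank_matrix]
    simp [sq]
  have hdn : d = n := by
    have h3 : d ^ 2 = n ^ 2 := h1.symm.trans h2
    exact Nat.pow_left_injective (n := 2) (by norm_num) h3
  subst hdn
  -- `D` acts on `k'^d`
  let ρ : D →ₐ[k] Matrix (Fin d) (Fin d) k' :=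
    ((φ.restrictScalars k : k' ⊗[k] D ≃ₐ[k] Matrix (Fin d) (Fin d) k') : _ →ₐ[k] _).comp
      (Algebra.TensorProduct.includeRight : D →ₐ[k] k' ⊗[k] D)
  open Matrix.Module in
  let modV : Module D (Fin d → k') := Module.compHom (Fin d → k') ρ.toRingHom
  have smul_def : ∀ (x : D) (v : Fin d → k'), x • v = (open Matrix.Module in (ρ x) • v) :=
    fun _ _ => rfl
  have : IsScalarTower k D (Fin d → k') := ⟨fun c x v => by
    rw [smul_def, smul_def, map_smul]
    open Matrix.Module in exact smul_assoc c (ρ x) v⟩
  have h4 := Module.finrank_mul_finrank k D (Fin d → k')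
  have h5 : Module.finrank k (Fin d → k') = d * Module.finrank k k' := by
    rw [Module.finrank_pi_fintype]
    simp
  rw [h5, hd] at h4
  have hd0 : 0 < d := Nat.pos_of_ne_zero hn
  have h6 : d * (d * Module.finrank D (Fin d → k')) = d * Module.finrank k k' := by
    rw [← h4]; ring
  exact ⟨_, (Nat.eq_of_mul_eq_mul_left hd0 h6).symm⟩

end Groth.Agent.S0197
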