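import Groth.Statements.S0201
import Mathlib
import Groth.Agent.Lib.Helper4.SepSplit
-- import your own Groth.Agent.* helpers here

set_option autoImplicit false
universe u v w
open scoped TensorProduct
open Curves

namespace Groth.Agent.S0201

/-- Every finite central simple algebra over k is split by a finite Galois extension of k. -/
theorem result (k : Type u) [Field k] (A : Type v) [Ring A] [Algebra k A]
    [Algebra.IsCentral k A] [IsSimpleRing A] [FiniteDimensional k A] :
    ∃ (k' : Type u) (_ : Field k') (_ : Algebra k k'), FiniteDimensional k k' ∧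
      IsGalois k k' ∧ Curves.Splits k A k' := by
  obtain ⟨n, hn, ⟨φ⟩⟩ := Groth.Agent.Helper4.splits_of_isSepClosed k A (SeparableClosure k)
  let Φ : SeparableClosure k ⊗[k] A ≃ₐ[SeparableClosure k]
      SeparableClosure k ⊗[k] Matrix (Fin n) (Fin n) k :=
    φ.trans (Groth.Agent.Helper4.tensorMatrixEquiv k (SeparableClosure k) n).symm
  obtain ⟨S, hS⟩ := Groth.Agent.Helper4.exists_descent k (SeparableClosure k) A
    (Matrix (Fin n) (Fin n) k) Φ
  let F0 : IntermediateField k (SeparableClosure k) :=
    IntermediateField.adjoin k (S : Set (SeparableClosure k))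
  haveI hfd0 : FiniteDimensional k F0 := IntermediateField.finiteDimensional_adjoin
    (fun x _ => Algebra.IsIntegral.isIntegral x)
  let F : IntermediateField k (SeparableClosure k) :=
    IntermediateField.normalClosure k F0 (SeparableClosure k)
  obtain ⟨ψ⟩ := hS F ((IntermediateField.subset_adjoin k _).trans
    (IntermediateField.le_normalClosure F0))
  haveI hfd : FiniteDimensional k F := normalClosure.is_finiteDimensional k F0 (SeparableClosure k)
  haveI hsep : Algebra.IsSeparable k F :=
    Algebra.isSeparable_tower_bot_of_isSeparable k F (SeparableClosure k)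
  haveI hnorm : Normal k F := normalClosure.normal k F0 (SeparableClosure k)
  exact ⟨F, inferInstance, inferInstance, hfd, IsGalois.mk, n, hn,
    ⟨ψ.trans (Groth.Agent.Helper4.tensorMatrixEquiv k _ n)⟩⟩

end Groth.Agent.S0201
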