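import Groth.Statements.S0218
import Mathlib

set_option autoImplicit false
universe u
open Curves

namespace Groth.Agent.S0218aux
open Polynomial

variable {k : Type u} [Field k] {A : Type u} [CommRing A] [Algebra k A]

lemma two_subalg (h : Nat.card (Subalgebra k A) = 2) :
    (⊥ : Subalgebra k A) ≠ ⊤ ∧ ∀ S : Subalgebra k A, S = ⊥ ∨ S = ⊤ := by
  obtain ⟨x, y, hxy, huniv⟩ := Nat.card_eq_two_iff.mp h
  have hmem : ∀ S : Subalgebra k A, S = x ∨ S = y := fun S => by
    have : S ∈ ({x, y} : Set (Subalgebra k A)) := huniv ▸ Set.mem_univ S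
    simpa using this
  have hne : (⊥ : Subalgebra k A) ≠ ⊤ := by
    intro hbt
    have hall : ∀ S : Subalgebra k A, S = ⊥ := fun S => by
      have h1 : S ≤ ⊤ := le_top
      rw [← hbt] at h1
      exact le_antisymm h1 bot_le
    exact hxy ((hall x).trans (hall y).symm)
  refine ⟨hne, fun S => ?_⟩
  rcases hmem ⊥ with hb | hb <;> rcases hmem ⊤ with ht | ht <;> rcases hmem S with hS | hS
  all_goals first
    | exact absurd (hb.trans ht.symm) hne
    | exact Or.inl (hS.trans hb.symm)
    | exact Or.inr (hS.trans ht.symm)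

lemma exists_poly (h2 : ∀ S : Subalgebra k A, S = ⊥ ∨ S = ⊤) {x : A}
    (hx : x ∉ (⊥ : Subalgebra k A)) (y : A) : ∃ q : k[X], aeval x q = y := by
  have hadj : Algebra.adjoin k {x} = ⊤ := by
    rcases h2 (Algebra.adjoin k {x}) with h | h
    · have hx' : x ∈ Algebra.adjoin k {x} := Algebra.subset_adjoin (Set.mem_singleton x)
      rw [h] at hx'
      exact absurd hx' hx
    · exact h
  have hy : y ∈ Algebra.adjoin k {x} := by rw [hadj]; exact Algebra.mem_top
  rw [Algebra.adjoin_singleton_eq_range_aeval] at hy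
  exact (AlgHom.mem_range _).mp hy

lemma isIntegral_of (h2 : ∀ S : Subalgebra k A, S = ⊥ ∨ S = ⊤) {a : A}
    (ha : a ∉ (⊥ : Subalgebra k A)) : IsIntegral k a := by
  rw [← isAlgebraic_iff_isIntegral]
  by_cases hsq : a ^ 2 ∈ (⊥ : Subalgebra k A)
  · obtain ⟨μ, hμ⟩ := Algebra.mem_bot.mp hsq
    refine ⟨X ^ 2 - C μ, ?_, by simp [hμ]⟩
    exact (monic_X_pow_sub_C μ (by norm_num)).ne_zero
  · obtain ⟨q, hq⟩ := exists_poly h2 hsq a
    refine ⟨X - expand k 2 q, ?_, ?_⟩
    · intro h0
      have h1 : (X - expand k 2 q : k[X]).coeff 1 = 1 := by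
        rw [coeff_sub, coeff_X_one, coeff_expand (by norm_num : 0 < 2),
          if_neg (by norm_num), sub_zero]
      rw [h0, coeff_zero] at h1
      exact zero_ne_one h1
    · rw [map_sub, aeval_X, expand_aeval, hq, sub_self]

lemma exists_nonunit [IsAlgClosed k] [Nontrivial A] (h2 : ∀ S : Subalgebra k A, S = ⊥ ∨ S = ⊤) {a : A}
    (ha : a ∉ (⊥ : Subalgebra k A)) :
    ∃ b : A, b ∉ (⊥ : Subalgebra k A) ∧ ¬ IsUnit b := by
  have hint := isIntegral_of h2 ha
  obtain ⟨c, hc⟩ := IsAlgClosed.exists_root (minpoly k a) (minpoly.degree_pos hint).ne'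
  obtain ⟨q, hq⟩ := dvd_iff_isRoot.mpr hc
  refine ⟨a - algebraMap k A c, ?_, ?_⟩
  · intro hmem
    apply ha
    have h1 : a = (a - algebraMap k A c) + algebraMap k A c := by ring
    rw [h1]
    exact add_mem hmem (Subalgebra.algebraMap_mem _ c)
  · intro hu
    have h0 : (a - algebraMap k A c) * aeval a q = 0 := by
      have h1 := minpoly.aeval k a
      rw [hq, map_mul, map_sub, aeval_X, aeval_C] at h1
      exact h1
    have hq0 : aeval a q = 0 := (hu.mul_right_eq_zero).mp h0
    have hqne : q ≠ 0 := by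
      rintro rfl
      rw [mul_zero] at hq
      exact minpoly.ne_zero hint hq
    have hdeg := minpoly.degree_le_of_ne_zero k a hqne hq0
    rw [hq, degree_mul, degree_X_sub_C, degree_eq_natDegree hqne] at hdeg
    have h3 : (1 + q.natDegree : ℕ) ≤ q.natDegree := by exact_mod_cast hdeg
    omega

/-- the map `k × k → A` attached to an idempotent -/
noncomputable def prodHom (e : A) (hee : e * e = e) : k × k →ₐ[k] A :=
  AlgHom.ofLinearMap
    ((LinearMap.fst k k k).smulRight e + (LinearMap.snd k k k).smulRight (1 - e))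
    (by simp)
    (by
      intro p q
      show (p * q).1 • e + (p * q).2 • (1 - e) =
        (p.1 • e + p.2 • (1 - e)) * (q.1 • e + q.2 • (1 - e))
      simp only [Prod.fst_mul, Prod.snd_mul, Algebra.smul_def, map_mul]
      linear_combination (-(algebraMap k A p.1 - algebraMap k A p.2) *
        (algebraMap k A q.1 - algebraMap k A q.2)) * hee)

lemma prodHom_bij (h2 : ∀ S : Subalgebra k A, S = ⊥ ∨ S = ⊤) (e : A) (hee : e * e = e)
    (he0 : e ≠ 0) (he1 : e ≠ 1) (heb : e ∉ (⊥ : Subalgebra k A)) :
    Function.Bijective (prodHom (k := k) e hee) := by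
  have happ : ∀ p : k × k, prodHom e hee p = p.1 • e + p.2 • (1 - e) := fun p => rfl
  constructor
  · rw [injective_iff_map_eq_zero]
    intro p hp
    rw [happ, Algebra.smul_def, Algebra.smul_def] at hp
    have h1 : p.1 • e = 0 := by
      rw [Algebra.smul_def]
      linear_combination e * hp - (algebraMap k A p.1 - algebraMap k A p.2) * hee
    have h2' : p.2 • (1 - e) = 0 := by
      rw [Algebra.smul_def]
      linear_combination (1 - e) * hp - (algebraMap k A p.2 - algebraMap k A p.1) * hee
    have hp1 : p.1 = 0 := (smul_eq_zero.mp h1).resolve_right he0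
    have hp2 : p.2 = 0 := (smul_eq_zero.mp h2').resolve_right (sub_ne_zero.mpr (Ne.symm he1))
    exact Prod.ext hp1 hp2
  · have hr : (prodHom (k := k) e hee).range = ⊤ := by
      rcases h2 (prodHom (k := k) e hee).range with h | h
      · exfalso
        apply heb
        rw [← h]
        exact (AlgHom.mem_range _).mpr ⟨(1, 0), by rw [happ]; simp⟩
      · exact h
    exact (AlgHom.range_eq_top _).mp hr

/-- the map `k[ε] → A` attached to a square-zero element -/
noncomputable def dualHom (b : A) (hbb : b * b = 0) : DualNumber k →ₐ[k] A :=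
  DualNumber.lift ⟨(Algebra.ofId k A, b), hbb, fun _ => Commute.all _ _⟩

lemma dualHom_apply (b : A) (hbb : b * b = 0) (x : DualNumber k) :
    dualHom b hbb x = algebraMap k A x.fst + algebraMap k A x.snd * b := rfl

lemma dualHom_bij (h2 : ∀ S : Subalgebra k A, S = ⊥ ∨ S = ⊤) [Nontrivial A] (b : A)
    (hbb : b * b = 0) (hb : b ∉ (⊥ : Subalgebra k A)) :
    Function.Bijective (dualHom (k := k) b hbb) := by
  have hinj : Function.Injective (algebraMap k A) := (algebraMap k A).injective
  constructor
  · rw [injective_iff_map_eq_zero]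
    intro x hx
    rw [dualHom_apply] at hx
    have hs : x.snd = 0 := by
      by_contra hne
      apply hb
      rw [Algebra.mem_bot]
      refine ⟨-(x.snd⁻¹ * x.fst), ?_⟩
      have h1 : algebraMap k A x.snd⁻¹ * algebraMap k A x.snd = 1 := by
        rw [← map_mul, inv_mul_cancel₀ hne, map_one]
      rw [map_neg, map_mul]
      linear_combination (-(algebraMap k A x.snd⁻¹)) * hx + b * h1
    have hf : x.fst = 0 := by
      rw [hs, map_zero, zero_mul, add_zero] at hx
      exact hinj (hx.trans (map_zero _).symm)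
    exact TrivSqZeroExt.ext hf hs
  · have hr : (dualHom (k := k) b hbb).range = ⊤ := by
      rcases h2 (dualHom (k := k) b hbb).range with h | h
      · exfalso
        apply hb
        rw [← h]
        exact (AlgHom.mem_range _).mpr ⟨DualNumber.eps, DualNumber.lift_apply_eps _⟩
      · exact h
    exact (AlgHom.range_eq_top _).mp hr

theorem main [IsAlgClosed k] (h : Nat.card (Subalgebra k A) = 2) :
    Nonempty (A ≃ₐ[k] (k × k)) ∨ Nonempty (A ≃ₐ[k] DualNumber k) := by
  obtain ⟨hne, h2⟩ := two_subalg h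
  haveI : Nontrivial A := by
    by_contra hnt
    rw [not_nontrivial_iff_subsingleton] at hnt
    refine hne (SetLike.ext fun x => ⟨fun _ => Algebra.mem_top, fun _ => ?_⟩)
    rw [Subsingleton.elim x 0]; exact zero_mem _
  obtain ⟨a, ha⟩ : ∃ a : A, a ∉ (⊥ : Subalgebra k A) := by
    by_contra hcon
    push Not at hcon
    exact hne (SetLike.ext fun x => ⟨fun _ => Algebra.mem_top, fun _ => hcon x⟩)
  obtain ⟨b, hb, hbu⟩ := exists_nonunit h2 ha
  have hinj : Function.Injective (algebraMap k A) := (algebraMap k A).injective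
  by_cases hsq : b ^ 2 ∈ (⊥ : Subalgebra k A)
  · right
    obtain ⟨μ, hμ⟩ := Algebra.mem_bot.mp hsq
    have hμ0 : μ = 0 := by
      by_contra hμne
      apply hbu
      refine IsUnit.of_mul_eq_one (b * algebraMap k A μ⁻¹) ?_
      calc b * (b * algebraMap k A μ⁻¹) = b ^ 2 * algebraMap k A μ⁻¹ := by ring
        _ = algebraMap k A μ * algebraMap k A μ⁻¹ := by rw [hμ]
        _ = 1 := by rw [← map_mul, mul_inv_cancel₀ hμne, map_one]
    have hbb : b * b = 0 := by rw [← sq, ← hμ, hμ0, map_zero]
    exact ⟨(AlgEquiv.ofBijective (dualHom (k := k) b hbb) (dualHom_bij h2 b hbb hb)).symm⟩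
  · left
    obtain ⟨q, hq⟩ := exists_poly h2 hsq b
    obtain ⟨r, hr⟩ : ∃ r : A, r = aeval (b ^ 2) (divX q) := ⟨_, rfl⟩
    have hb1 : r * b ^ 2 + algebraMap k A (q.coeff 0) = b := by
      have h1 := congrArg (aeval (b ^ 2)) (divX_mul_X_add q)
      rw [map_add, map_mul, aeval_X, aeval_C, hq, ← hr] at h1
      exact h1
    have hq0 : q.coeff 0 = 0 := by
      by_contra hne0
      apply hbu
      refine IsUnit.of_mul_eq_one ((1 - r * b) * algebraMap k A (q.coeff 0)⁻¹) ?_
      have h1 : b * (1 - r * b) = algebraMap k A (q.coeff 0) := by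
        linear_combination (-1 : A) * hb1
      calc b * ((1 - r * b) * algebraMap k A (q.coeff 0)⁻¹)
          = (b * (1 - r * b)) * algebraMap k A (q.coeff 0)⁻¹ := by ring
        _ = algebraMap k A (q.coeff 0) * algebraMap k A (q.coeff 0)⁻¹ := by rw [h1]
        _ = 1 := by rw [← map_mul, mul_inv_cancel₀ hne0, map_one]
    have hb2 : b = r * b ^ 2 := by
      rw [hq0, map_zero, add_zero] at hb1; exact hb1.symm
    have hee : (r * b) * (r * b) = r * b := by
      calc (r * b) * (r * b) = r * (r * b ^ 2) := by ring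
        _ = r * b := by rw [← hb2]
    have he0 : r * b ≠ 0 := by
      intro h0
      apply hb
      have hb0 : b = 0 := by
        calc b = r * b ^ 2 := hb2
          _ = (r * b) * b := by ring
          _ = 0 := by rw [h0, zero_mul]
      rw [hb0]; exact zero_mem _
    have he1 : r * b ≠ 1 := by
      intro h1
      exact hbu (IsUnit.of_mul_eq_one r (by rw [mul_comm]; exact h1))
    have heb : r * b ∉ (⊥ : Subalgebra k A) := by
      intro hmem
      obtain ⟨x, hx⟩ := Algebra.mem_bot.mp hmem
      have hxx : x * x = x := hinj (by rw [map_mul, hx, hee])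
      have hx2 : x * (x - 1) = 0 := by linear_combination hxx
      rcases mul_eq_zero.mp hx2 with h0 | h0
      · exact he0 (by rw [← hx, h0, map_zero])
      · exact he1 (by rw [← hx, sub_eq_zero.mp h0, map_one])
    exact ⟨(AlgEquiv.ofBijective (prodHom (k := k) (r * b) hee)
      (prodHom_bij h2 (r * b) hee he0 he1 heb)).symm⟩

end Groth.Agent.S0218aux

namespace Groth.Agent.S0218

/-- Over an algebraically closed field k, a commutative k-algebra with exactly two k-subalgebras is
isomorphic to k × k or to the dual numbers over k. -/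
theorem result (k : Type u) [Field k] [IsAlgClosed k] (A : Type u) [CommRing A] [Algebra k A]
    (h : Nat.card (Subalgebra k A) = 2) :
    Nonempty (A ≃ₐ[k] (k × k)) ∨ Nonempty (A ≃ₐ[k] DualNumber k) := by
  exact Groth.Agent.S0218aux.main h

end Groth.Agent.S0218
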