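import Groth.Statements.S1182
import Mathlib
import Groth.Agent.H11.EtaleNormal

set_option autoImplicit false
universe u
open Desc

namespace Groth.Agent.S1182

section Helpers
open TensorProduct IsLocalRing

/-- Integrally closed domains descend along faithfully flat maps (after helper1/helper29). -/
theorem isIntegrallyClosed_descent1182 (A B : Type u) [CommRing A] [CommRing B] [Algebra A B]
    [Module.FaithfullyFlat A B] [IsDomain B] [IsIntegrallyClosed B] :
    ∃ _ : IsDomain A, IsIntegrallyClosed A := by
  have hinj : Function.Injective (algebraMap A B) := FaithfulSMul.algebraMap_injective A B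
  haveI : IsDomain A := hinj.isDomain _
  refine ⟨inferInstance, ?_⟩
  have hinjL : Function.Injective (algebraMap A (FractionRing B)) := by
    rw [IsScalarTower.algebraMap_eq A B (FractionRing B)]
    exact (IsFractionRing.injective B (FractionRing B)).comp hinj
  let φ : FractionRing A →ₐ[A] FractionRing B :=
    IsFractionRing.liftAlgHom (g := Algebra.ofId A (FractionRing B)) hinjL
  rw [isIntegrallyClosed_iff (FractionRing A)]
  intro x hx
  obtain ⟨β, hβ⟩ := (isIntegrallyClosed_iff (FractionRing B)).mp ‹IsIntegrallyClosed B›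
    ((hx.map φ).tower_top (A := B))
  obtain ⟨a, b, hb, rfl⟩ := IsFractionRing.div_surjective A x
  have hb0 : b ≠ 0 := nonZeroDivisors.ne_zero hb
  have hbL : algebraMap A (FractionRing B) b ≠ 0 :=
    fun h => hb0 (hinjL (by rw [h, map_zero]))
  have hbK : algebraMap A (FractionRing A) b ≠ 0 :=
    fun h => hb0 (IsFractionRing.injective A (FractionRing A) (by rw [h, map_zero]))
  rw [map_div₀, AlgHom.commutes, AlgHom.commutes, eq_div_iff hbL] at hβ
  have hB : β * algebraMap A B b = algebraMap A B a := by
    apply IsFractionRing.injective B (FractionRing B)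
    rw [map_mul, ← IsScalarTower.algebraMap_apply, ← IsScalarTower.algebraMap_apply]
    exact hβ
  have hmem : a ∈ Ideal.span {b} := by
    rw [← Ideal.comap_map_eq_self_of_faithfullyFlat (B := B) (Ideal.span {b}), Ideal.mem_comap,
      Ideal.map_span, Set.image_singleton, Ideal.mem_span_singleton']
    exact ⟨β, hB⟩
  obtain ⟨c, hc⟩ := Ideal.mem_span_singleton'.mp hmem
  refine ⟨c, ?_⟩
  rw [eq_div_iff hbK, ← map_mul, hc]

theorem exists_ff_local1182 {R R' : Type u} [CommRing R] [CommRing R'] [Algebra R R']
    [Module.FaithfullyFlat R R'] (q : Ideal R) [q.IsPrime] :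
    ∃ (Q : Ideal R') (_ : Q.IsPrime)
      (_ : Algebra (Localization.AtPrime q) (Localization.AtPrime Q)),
      Module.FaithfullyFlat (Localization.AtPrime q) (Localization.AtPrime Q) := by
  obtain ⟨Q, hQ, hQq⟩ := Ideal.exists_isPrime_liesOver_of_faithfullyFlat (B := R') q
  have hQq' : q = Q.comap (algebraMap R R') := hQq.over
  let g := Localization.localRingHom q Q (algebraMap R R') hQq'
  letI alg : Algebra (Localization.AtPrime q) (Localization.AtPrime Q) := g.toAlgebra
  haveI : IsLocalHom (algebraMap (Localization.AtPrime q) (Localization.AtPrime Q)) :=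
    Localization.isLocalHom_localRingHom _ _ _ hQq'
  haveI : Module.Flat (Localization.AtPrime q) (Localization.AtPrime Q) :=
    RingHom.Flat.localRingHom (f := algebraMap R R')
      (RingHom.flat_algebraMap_iff.mpr inferInstance) Q q hQq'
  exact ⟨Q, hQ, alg, Module.FaithfullyFlat.of_flat_of_isLocalHom⟩

/-- localization transfer (after helper18's `normal_of_etale_loc_aux`). -/
theorem transfer1182 (A : Type u) [CommRing A] (S : Submonoid A) (q : Ideal A) [q.IsPrime]
    (hdisj : Disjoint (S : Set A) (q : Set A)) (A' : Type u) [CommRing A'] [Algebra A A']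
    [IsLocalization S A']
    (h : ∀ (Q : Ideal A') [Q.IsPrime], Q.comap (algebraMap A A') = q →
      IsDomain (Localization.AtPrime Q) ∧ IsIntegrallyClosed (Localization.AtPrime Q))
    (Aq : Type u) [CommRing Aq] [Algebra A Aq] [IsLocalization.AtPrime Aq q] :
    IsDomain Aq ∧ IsIntegrallyClosed Aq := by
  let q' : Ideal A' := q.map (algebraMap A A')
  haveI hq' : q'.IsPrime := IsLocalization.isPrime_of_isPrime_disjoint S _ _ ‹_› hdisj
  have hcomap : q'.comap (algebraMap A A') = q :=
    IsLocalization.under_map_of_isPrime_disjoint S _ ‹_› hdisj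
  obtain ⟨hd, hic⟩ := h q' hcomap
  haveI h1 : IsLocalization.AtPrime (Localization.AtPrime q') (q'.comap (algebraMap A A')) :=
    IsLocalization.isLocalization_isLocalization_atPrime_isLocalization S _ q'
  have hM : (q'.comap (algebraMap A A')).primeCompl = q.primeCompl :=
    Submonoid.ext fun a => by
      show a ∉ q'.comap (algebraMap A A') ↔ a ∉ q
      rw [hcomap]
  haveI h2 : IsLocalization q.primeCompl (Localization.AtPrime q') := by
    have h1' : IsLocalization (q'.comap (algebraMap A A')).primeCompl
      (Localization.AtPrime q') := h1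
    rw [hM] at h1'
    exact h1'
  let e : Localization.AtPrime q' ≃ₐ[A] Aq := IsLocalization.algEquiv q.primeCompl _ _
  haveI := hd
  haveI := hic
  exact ⟨e.symm.toMulEquiv.isDomain _, IsIntegrallyClosed.of_equiv e.toRingEquiv⟩

/-- after helper18's `normal_of_etale_loc`. -/
theorem etale_loc1182 (R A : Type u) [CommRing R] [CommRing A] [Algebra R A]
    [Algebra.Etale R A] (q : Ideal A) [q.IsPrime] (p : Ideal R) [p.IsPrime]
    (hpq : q.comap (algebraMap R A) = p)
    (Rp : Type u) [CommRing Rp] [Algebra R Rp] [IsLocalization.AtPrime Rp p]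
    [IsDomain Rp] [IsIntegrallyClosed Rp]
    (Aq : Type u) [CommRing Aq] [Algebra A Aq] [IsLocalization.AtPrime Aq q] :
    IsDomain Aq ∧ IsIntegrallyClosed Aq := by
  letI : Algebra A (Rp ⊗[R] A) := Algebra.TensorProduct.rightAlgebra
  haveI hloc : IsLocalization (Algebra.algebraMapSubmonoid A p.primeCompl) (Rp ⊗[R] A) :=
    IsLocalization.tensorRight (S := A) (A := Rp) p.primeCompl
  have hdisj : Disjoint (Algebra.algebraMapSubmonoid A p.primeCompl : Set A) (q : Set A) := by
    rw [Set.disjoint_left]
    rintro _ ⟨r, hr, rfl⟩ hq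
    exact hr (by rw [← hpq]; exact hq)
  exact transfer1182 A (Algebra.algebraMapSubmonoid A p.primeCompl) q hdisj (Rp ⊗[R] A)
    (fun Q _ _ => Groth.Agent.H11.EtNorm.normal_localization_of_etale Rp (Rp ⊗[R] A) Q) Aq

theorem mvPolynomial_isIntegrallyClosed1182 (n : ℕ) (D : Type u) [CommRing D] [IsDomain D]
    [IsIntegrallyClosed D] : IsIntegrallyClosed (MvPolynomial (Fin n) D) := by
  induction n with
  | zero =>
    exact IsIntegrallyClosed.of_equiv (MvPolynomial.isEmptyAlgEquiv D (Fin 0)).symm.toRingEquiv
  | succ n ih =>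
    haveI := ih
    exact IsIntegrallyClosed.of_equiv (MvPolynomial.finSuccEquiv D n).symm.toRingEquiv

attribute [local instance] MvPolynomial.algebraMvPolynomial in
theorem poly_local_normal1182 {A : Type u} [CommRing A] (n : ℕ)
    (hA : ∀ (p : Ideal A) [p.IsPrime],
      IsDomain (Localization.AtPrime p) ∧ IsIntegrallyClosed (Localization.AtPrime p))
    (P' : Ideal (MvPolynomial (Fin n) A)) [P'.IsPrime] :
    IsDomain (Localization.AtPrime P') ∧ IsIntegrallyClosed (Localization.AtPrime P') := by
  let p : Ideal A := P'.comap (algebraMap A (MvPolynomial (Fin n) A))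
  haveI hp : p.IsPrime := Ideal.comap_isPrime _ _
  obtain ⟨hd, hic⟩ := hA p
  haveI := hd
  haveI := hic
  haveI := mvPolynomial_isIntegrallyClosed1182 n (Localization.AtPrime p)
  haveI hloc : IsLocalization (p.primeCompl.map (MvPolynomial.C (σ := Fin n)))
      (MvPolynomial (Fin n) (Localization.AtPrime p)) :=
    MvPolynomial.isLocalization p.primeCompl (Localization.AtPrime p)
  have hdisj : Disjoint ((p.primeCompl.map (MvPolynomial.C (σ := Fin n)) :
      Submonoid (MvPolynomial (Fin n) A)) : Set (MvPolynomial (Fin n) A)) (P' : Set _) := by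
    rw [Set.disjoint_left]
    rintro _ ⟨r, hr, rfl⟩ hq
    exact hr hq
  refine transfer1182 (MvPolynomial (Fin n) A) _ P' hdisj
    (MvPolynomial (Fin n) (Localization.AtPrime p)) ?_ (Localization.AtPrime P')
  intro Q _ _
  exact ⟨IsLocalization.isDomain_localization (Ideal.primeCompl_le_nonZeroDivisors Q),
    isIntegrallyClosed_of_isLocalization (Localization.AtPrime Q) Q.primeCompl
      (Ideal.primeCompl_le_nonZeroDivisors Q)⟩

theorem etale_over_poly1182 {A : Type u} [CommRing A] (n : ℕ)
    (hA : ∀ (p : Ideal A) [p.IsPrime],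
      IsDomain (Localization.AtPrime p) ∧ IsIntegrallyClosed (Localization.AtPrime p))
    (Bg : Type u) [CommRing Bg] [Algebra (MvPolynomial (Fin n) A) Bg]
    [Algebra.Etale (MvPolynomial (Fin n) A) Bg] (Q : Ideal Bg) [Q.IsPrime] :
    IsDomain (Localization.AtPrime Q) ∧ IsIntegrallyClosed (Localization.AtPrime Q) := by
  obtain ⟨hd, hic⟩ := poly_local_normal1182 n hA
    (Q.comap (algebraMap (MvPolynomial (Fin n) A) Bg))
  haveI := hd
  haveI := hic
  exact etale_loc1182 (MvPolynomial (Fin n) A) Bg Q
    (Q.comap (algebraMap (MvPolynomial (Fin n) A) Bg)) rfl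
    (Localization.AtPrime (Q.comap (algebraMap (MvPolynomial (Fin n) A) Bg)))
    (Localization.AtPrime Q)

theorem smooth_normal1182 (A B : Type u) [CommRing A] [CommRing B] [Algebra A B]
    [Algebra.Smooth A B]
    (hA : ∀ (p : Ideal A) [p.IsPrime],
      IsDomain (Localization.AtPrime p) ∧ IsIntegrallyClosed (Localization.AtPrime p))
    (q : Ideal B) [q.IsPrime] :
    IsDomain (Localization.AtPrime q) ∧ IsIntegrallyClosed (Localization.AtPrime q) := by
  obtain ⟨g, hgq, n, alg, tower, hstd⟩ :=
    Algebra.IsSmoothAt.exists_isStandardEtale_mvPolynomial (R := A) (p := q)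
  have hdisj : Disjoint ((Submonoid.powers g : Submonoid B) : Set B) (q : Set B) :=
    (Ideal.disjoint_powers_iff_notMem_of_isPrime _).mpr hgq
  refine transfer1182 B (Submonoid.powers g) q hdisj (Localization.Away g) ?_
    (Localization.AtPrime q)
  intro Q _ _
  exact etale_over_poly1182 n hA (Localization.Away g) Q

end Helpers

/-- Let A → B be a smooth ring map. If A is a normal ring (all local rings integrally closed domains)
then so is B; and if moreover A → B is faithfully flat and B is normal, then A is normal. So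
normality can be checked smooth-locally. -/
theorem result (A B : Type u) [CommRing A] [CommRing B] [Algebra A B] [Algebra.Smooth A B] :
    (EGA4.IsNormalRing A → EGA4.IsNormalRing B) ∧
    (Module.FaithfullyFlat A B → EGA4.IsNormalRing B → EGA4.IsNormalRing A) := by
  refine ⟨fun hA q hq => smooth_normal1182 A B (fun p _ => hA p) q, fun hff hB => ?_⟩
  intro q hq
  obtain ⟨Q, hQ, alg, hff'⟩ := exists_ff_local1182 (R := A) (R' := B) q
  obtain ⟨h1, h2⟩ := hB Q
  obtain ⟨hd, hic⟩ := isIntegrallyClosed_descent1182 (Localization.AtPrime q)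
    (Localization.AtPrime Q)
  exact ⟨hd, hic⟩

end Groth.Agent.S1182
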