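import Groth.Statements.S4989
import Mathlib
import Groth.Agent.S1182
import Groth.Agent.Lib.Helper24.SmoothRed

set_option autoImplicit false
universe u
open CategoryTheory CategoryTheory.Limits AlgebraicGeometry TopologicalSpace
open Unram17

namespace Groth.Agent.S4989

section Helpers
open TensorProduct IsLocalRing AlgebraicGeometry CategoryTheory

theorem transferRed4989 (A : Type u) [CommRing A] (S : Submonoid A) (q : Ideal A) [q.IsPrime]
    (hdisj : Disjoint (S : Set A) (q : Set A)) (A' : Type u) [CommRing A'] [Algebra A A']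
    [IsLocalization S A'] [IsReduced A']
    (Aq : Type u) [CommRing Aq] [Algebra A Aq] [IsLocalization.AtPrime Aq q] :
    IsReduced Aq := by
  let q' : Ideal A' := q.map (algebraMap A A')
  haveI hq' : q'.IsPrime := IsLocalization.isPrime_of_isPrime_disjoint S _ _ ‹_› hdisj
  have hcomap : q'.comap (algebraMap A A') = q :=
    IsLocalization.under_map_of_isPrime_disjoint S _ ‹_› hdisj
  haveI h1 : IsLocalization.AtPrime (Localization.AtPrime q') (q'.comap (algebraMap A A')) :=
    IsLocalization.isLocalization_isLocalization_atPrime_isLocalization S _ q'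
  have hM : (q'.comap (algebraMap A A')).primeCompl = q.primeCompl :=
    Submonoid.ext fun a => by
      show a ∉ q'.comap (algebraMap A A') ↔ a ∉ q
      rw [hcomap]
  haveI h2 : IsLocalization q.primeCompl (Localization.AtPrime q') := by
    have h1' : IsLocalization (q'.comap (algebraMap A A')).primeCompl
      (Localization.AtPrime q') := h1
    rw [hM] at h1'
    exact h1'
  let e : Localization.AtPrime q' ≃ₐ[A] Aq := IsLocalization.algEquiv q.primeCompl _ _
  haveI : IsReduced (Localization.AtPrime q') :=
    isReduced_localizationPreserves q'.primeCompl _ ‹_›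
  exact isReduced_of_injective e.symm e.symm.injective

theorem equiv_iff4989 {R S : Type u} [CommRing R] [CommRing S] (e : R ≃+* S) :
    (IsReduced R ↔ IsReduced S) ∧
    ((IsDomain R ∧ IsIntegrallyClosed R) ↔ (IsDomain S ∧ IsIntegrallyClosed S)) := by
  refine ⟨⟨fun h => ?_, fun h => ?_⟩, ⟨fun h => ?_, fun h => ?_⟩⟩
  · haveI := h
    exact isReduced_of_injective e.symm e.symm.injective
  · haveI := h
    exact isReduced_of_injective e e.injective
  · obtain ⟨h1, h2⟩ := h
    haveI := h1
    haveI := h2
    exact ⟨e.symm.toMulEquiv.isDomain _, IsIntegrallyClosed.of_equiv e⟩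
  · obtain ⟨h1, h2⟩ := h
    haveI := h1
    haveI := h2
    exact ⟨e.toMulEquiv.isDomain _, IsIntegrallyClosed.of_equiv e.symm⟩

theorem ring4989 (A B : Type u) [CommRing A] [CommRing B] [Algebra A B] [Algebra.Smooth A B]
    (p : Ideal A) [p.IsPrime] (q : Ideal B) [q.IsPrime] (hpq : p = q.comap (algebraMap A B)) :
    (IsReduced (Localization.AtPrime q) ↔ IsReduced (Localization.AtPrime p)) ∧
    ((IsDomain (Localization.AtPrime q) ∧ IsIntegrallyClosed (Localization.AtPrime q)) ↔
      (IsDomain (Localization.AtPrime p) ∧ IsIntegrallyClosed (Localization.AtPrime p))) := by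
  let g := Localization.localRingHom p q (algebraMap A B) hpq
  letI alg : Algebra (Localization.AtPrime p) (Localization.AtPrime q) := g.toAlgebra
  haveI : IsLocalHom (algebraMap (Localization.AtPrime p) (Localization.AtPrime q)) :=
    Localization.isLocalHom_localRingHom _ _ _ hpq
  haveI : Module.Flat (Localization.AtPrime p) (Localization.AtPrime q) :=
    RingHom.Flat.localRingHom (f := algebraMap A B)
      (RingHom.flat_algebraMap_iff.mpr inferInstance) q p hpq
  haveI hff : Module.FaithfullyFlat (Localization.AtPrime p) (Localization.AtPrime q) :=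
    Module.FaithfullyFlat.of_flat_of_isLocalHom
  have hdisj : Disjoint (Algebra.algebraMapSubmonoid B p.primeCompl : Set B) (q : Set B) := by
    rw [Set.disjoint_left]
    rintro _ ⟨r, hr, rfl⟩ hq
    exact hr (by rw [hpq]; exact hq)
  letI : Algebra B (Localization.AtPrime p ⊗[A] B) := Algebra.TensorProduct.rightAlgebra
  haveI hloc : IsLocalization (Algebra.algebraMapSubmonoid B p.primeCompl)
      (Localization.AtPrime p ⊗[A] B) :=
    IsLocalization.tensorRight (S := B) (A := Localization.AtPrime p) p.primeCompl
  refine ⟨⟨fun h => ?_, fun h => ?_⟩, ⟨fun h => ?_, fun h => ?_⟩⟩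
  · haveI := h
    exact isReduced_of_injective (algebraMap (Localization.AtPrime p) (Localization.AtPrime q))
      (FaithfulSMul.algebraMap_injective _ _)
  · haveI := h
    haveI : IsReduced (Localization.AtPrime p ⊗[A] B) :=
      Groth.Agent.Helper24.SmoothRed.isReduced_of_smooth (Localization.AtPrime p) _
    exact transferRed4989 B _ q hdisj (Localization.AtPrime p ⊗[A] B) (Localization.AtPrime q)
  · obtain ⟨h1, h2⟩ := h
    haveI := h1
    haveI := h2
    obtain ⟨hd, hic⟩ := Groth.Agent.S1182.isIntegrallyClosed_descent1182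
      (Localization.AtPrime p) (Localization.AtPrime q)
    exact ⟨hd, hic⟩
  · obtain ⟨h1, h2⟩ := h
    haveI := h1
    haveI := h2
    have hAp : ∀ (P : Ideal (Localization.AtPrime p)) [P.IsPrime],
        IsDomain (Localization.AtPrime P) ∧ IsIntegrallyClosed (Localization.AtPrime P) := by
      intro P _
      exact ⟨IsLocalization.isDomain_localization (Ideal.primeCompl_le_nonZeroDivisors P),
        isIntegrallyClosed_of_isLocalization (Localization.AtPrime P) P.primeCompl
          (Ideal.primeCompl_le_nonZeroDivisors P)⟩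
    exact Groth.Agent.S1182.transfer1182 B _ q hdisj (Localization.AtPrime p ⊗[A] B)
      (fun Q _ _ => Groth.Agent.S1182.smooth_normal1182 (Localization.AtPrime p) _ hAp Q)
      (Localization.AtPrime q)

end Helpers

/-- Let f : X ⟶ Y be locally of finite presentation and smooth at a point x with image y. Then the local
ring of X at x is reduced if and only if the local ring of Y at y is reduced, and it is an
integrally closed domain if and only if the local ring of Y at y is one. (The published statement
also covers geometrically unibranch local rings; this row states only the reduced and the integrally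
closed cases.) -/
theorem result {X Y : Scheme.{u}} (f : X ⟶ Y)
    [LocallyOfFinitePresentation f] (x : ↥X) (hx : x ∈ f.smoothLocus) :
    (IsReduced ↑(X.presheaf.stalk x) ↔ IsReduced ↑(Y.presheaf.stalk (f.base x))) ∧
    ((IsDomain ↑(X.presheaf.stalk x) ∧ IsIntegrallyClosed ↑(X.presheaf.stalk x)) ↔
      (IsDomain ↑(Y.presheaf.stalk (f.base x)) ∧ IsIntegrallyClosed ↑(Y.presheaf.stalk (f.base x)))) := by
  obtain ⟨U, hU, V, hV, hVU, hxV, H⟩ := exists_smooth_of_formallySmooth_stalk f x hx
  algebraize [(f.appLE U V hVU).hom]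
  let p := (hU.primeIdealOf ⟨f x, hVU hxV⟩).asIdeal
  let q := (hV.primeIdealOf ⟨x, hxV⟩).asIdeal
  have hpq : p = q.comap (algebraMap Γ(Y, U) Γ(X, V)) :=
    congr($(IsAffineOpen.comap_primeIdealOf_appLE U hU V hV hVU hxV).1).symm
  letI := Y.presheaf.algebra_section_stalk (U := U) ⟨f x, hVU hxV⟩
  haveI := hU.isLocalization_stalk ⟨f x, hVU hxV⟩
  letI := X.presheaf.algebra_section_stalk (U := V) ⟨x, hxV⟩
  haveI := hV.isLocalization_stalk ⟨x, hxV⟩
  let eY : Y.presheaf.stalk (f x) ≃ₐ[Γ(Y, U)] Localization.AtPrime p :=
    IsLocalization.algEquiv p.primeCompl _ _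
  let eX : X.presheaf.stalk x ≃ₐ[Γ(X, V)] Localization.AtPrime q :=
    IsLocalization.algEquiv q.primeCompl _ _
  obtain ⟨r1, r2⟩ := ring4989 Γ(Y, U) Γ(X, V) p q hpq
  obtain ⟨a1, a2⟩ := equiv_iff4989 eY.toRingEquiv
  obtain ⟨b1, b2⟩ := equiv_iff4989 eX.toRingEquiv
  exact ⟨b1.trans (r1.trans a1.symm), b2.trans (r2.trans a2.symm)⟩

end Groth.Agent.S4989
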