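import Groth.Statements.S0246
import Mathlib
import Groth.Agent.S4989
import Groth.Agent.S2284

set_option autoImplicit false
universe u
open Pi1

namespace Groth.Agent.S0246

section Helpers
open AlgebraicGeometry CategoryTheory TopologicalSpace

theorem irreducibleSpace_of_finite_disjoint0246 (W : Type*) [TopologicalSpace W]
    [ConnectedSpace W] (hfin : (irreducibleComponents W).Finite)
    (hdisj : ∀ Z ∈ irreducibleComponents W, ∀ Z' ∈ irreducibleComponents W, Z ≠ Z' →
      Disjoint Z Z') : IrreducibleSpace W := by
  obtain ⟨w₀⟩ := (inferInstance : Nonempty W)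
  have hZ₀mem : irreducibleComponent w₀ ∈ irreducibleComponents W :=
    irreducibleComponent_mem_irreducibleComponents w₀
  let T : Set W := ⋃ Z ∈ (irreducibleComponents W \ {irreducibleComponent w₀}), Z
  have hTclosed : IsClosed T :=
    Set.Finite.isClosed_biUnion (hfin.subset Set.diff_subset)
      fun Z hZ => isClosed_of_mem_irreducibleComponents Z hZ.1
  have hcompl : irreducibleComponent w₀ = Tᶜ := by
    ext w
    constructor
    · intro hw hwT
      obtain ⟨Z, hZ, hwZ⟩ := Set.mem_iUnion₂.mp hwT
      exact (Set.disjoint_left.mp (hdisj _ hZ₀mem Z hZ.1 (fun h => hZ.2 h.symm)) hw) hwZ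
    · intro hw
      by_contra hwZ₀
      apply hw
      have h1 : irreducibleComponent w ∈ irreducibleComponents W :=
        irreducibleComponent_mem_irreducibleComponents w
      have h2 : irreducibleComponent w ≠ irreducibleComponent w₀ :=
        fun h => hwZ₀ (h ▸ mem_irreducibleComponent)
      exact Set.mem_biUnion
        (⟨h1, h2⟩ : irreducibleComponent w ∈ irreducibleComponents W \ {irreducibleComponent w₀})
        mem_irreducibleComponent
  have hopen : IsOpen (irreducibleComponent w₀) := by
    have := hTclosed.isOpen_compl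
    rwa [← hcompl] at this
  have hclopen : IsClopen (irreducibleComponent w₀) := ⟨isClosed_irreducibleComponent, hopen⟩
  have huniv : irreducibleComponent w₀ = Set.univ :=
    hclopen.eq_univ ⟨w₀, mem_irreducibleComponent⟩
  rw [irreducibleSpace_def]
  show IsIrreducible (Set.univ : Set W)
  rw [← huniv]
  exact isIrreducible_irreducibleComponent

set_option backward.isDefEq.respectTransparency false in
theorem main0246 {X W : Scheme.{u}} [IsIntegral X] (hX : Pi1.IsNormalScheme X) (f : W ⟶ X)
    [IsFinite f] [AlgebraicGeometry.Etale f] [ConnectedSpace W] :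
    IsIntegral W ∧ Pi1.IsNormalScheme W := by
  have hN : Pi1.IsNormalScheme W := by
    intro y
    have hy : y ∈ f.smoothLocus := by rw [Scheme.Hom.smoothLocus_eq_top]; trivial
    exact (Groth.Agent.S4989.result f y hy).2.mpr (hX (f.base y))
  refine ⟨?_, hN⟩
  haveI : ∀ y : W, _root_.IsReduced (W.presheaf.stalk y) := fun y => by
    haveI := (hN y).1
    infer_instance
  haveI : IsReduced W := isReduced_of_isReduced_stalk W
  have hgen := Flat.generalizingMap (f := f)
  have hsub : genericPoints W ⊆ f ⁻¹' {genericPoint X} := by
    intro w hw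
    have hw' : closure ({w} : Set W) ∈ irreducibleComponents W := hw
    rw [Groth.Agent.S2284.mem_irreducibleComponents_closure_iff] at hw'
    obtain ⟨w', hw'w, hfw'⟩ := hgen (genericPoint_specializes (f w))
    have hww : w = w' := ((hw' w' hw'w).antisymm hw'w).eq
    show f w = genericPoint X
    rw [hww, hfw']
  have hfinpre : (f ⁻¹' {genericPoint X}).Finite :=
    IsFinite.finite_preimage_singleton f (genericPoint X)
  have hfinGen : (genericPoints W).Finite := hfinpre.subset hsub
  haveI : Finite (genericPoints W) := hfinGen.to_subtype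
  haveI : Finite (irreducibleComponents W) :=
    Finite.of_surjective _ genericPoints.component_surjective
  have hfin : (irreducibleComponents W).Finite := Set.toFinite _
  have hdisj : ∀ Z ∈ irreducibleComponents W, ∀ Z' ∈ irreducibleComponents W, Z ≠ Z' →
      Disjoint Z Z' := by
    intro Z hZ Z' hZ' hne
    rw [Set.disjoint_left]
    intro x hxZ hxZ'
    apply hne
    haveI := (hN x).1
    let t : W := (W.fromSpecStalk x) ⟨⊥, Ideal.bot_prime⟩
    have key : ∀ Z'' ∈ irreducibleComponents W, x ∈ Z'' → Z'' = closure {t} := by
      intro Z'' hZ'' hx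
      let g := genericPoints.ofComponent ⟨Z'', hZ''⟩
      have hg : IsGenericPoint g.1 Z'' := genericPoints.isGenericPoint_ofComponent ⟨Z'', hZ''⟩
      have hgx : g.1 ⤳ x := hg.specializes hx
      have hmem : g.1 ∈ Set.range (W.fromSpecStalk x) := by
        rw [Scheme.range_fromSpecStalk]; exact hgx
      obtain ⟨p, hp⟩ := hmem
      have h1 : (⟨⊥, Ideal.bot_prime⟩ : PrimeSpectrum (W.presheaf.stalk x)) ⤳ p := by
        rw [← PrimeSpectrum.le_iff_specializes]
        show (⊥ : Ideal (W.presheaf.stalk x)) ≤ p.asIdeal
        exact bot_le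
      have h2 : t ⤳ g.1 := by
        rw [← hp]
        exact h1.map (W.fromSpecStalk x).continuous
      have h3 : g.1 ⤳ t :=
        (Groth.Agent.S2284.mem_irreducibleComponents_closure_iff g.1).mp g.2 t h2
      have h4 : g.1 = t := (h3.antisymm h2).eq
      rw [← hg.def, h4]
    rw [key Z hZ hxZ, key Z' hZ' hxZ']
  haveI : IrreducibleSpace W := irreducibleSpace_of_finite_disjoint0246 W hfin hdisj
  exact isIntegral_of_irreducibleSpace_of_isReduced W

end Helpers

open AlgebraicGeometry CategoryTheory CategoryTheory.Limits in
/-- If Y is finite etale over a normal integral scheme X and Y is connected, then Y is an integral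
scheme all of whose local rings are integrally closed domains. -/
theorem result {X : Scheme.{u}} [IsIntegral X] (hX : Pi1.IsNormalScheme X) (Y : FEt.Cat X)
    [ConnectedSpace Y.left] : IsIntegral Y.left ∧ Pi1.IsNormalScheme Y.left := by
  haveI : IsFinite Y.hom := Y.prop.1
  haveI : AlgebraicGeometry.Etale Y.hom := Y.prop.2
  exact main0246 hX Y.hom

end Groth.Agent.S0246
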