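import Groth.Statements.S0249
import Mathlib

set_option autoImplicit false
universe u
open Pi1

namespace Groth.Agent.S0249

theorem aux_height_one {A : Type*} [CommRing A] [IsNoetherianRing A] (f : A) :
    ∀ (n : ℕ) (q : Ideal A), q.IsPrime → f ∈ q → q.height = (n + 1 : ℕ) →
      ∃ p : Ideal A, p.IsPrime ∧ f ∈ p ∧ p.height = 1 := by
  intro n
  induction n using Nat.strong_induction_on with
  | _ n ih =>
    intro q hq hfq hht
    rcases Nat.eq_zero_or_pos n with rfl | hn
    · exact ⟨q, hq, hfq, by simpa using hht⟩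
    -- height q ≥ 2
    have hnot : ¬ q.height ≤ (1 : ℕ) := by
      rw [hht]
      norm_cast
      omega
    rw [Ideal.height_le_iff] at hnot
    push_neg at hnot
    obtain ⟨q₁, hq₁, hq₁q, hq₁h⟩ := hnot
    have hnot0 : ¬ q₁.height ≤ (0 : ℕ) := by
      intro h
      have : q₁.height < 1 := lt_of_le_of_lt h (by norm_num)
      exact absurd this (not_lt.mpr (by exact_mod_cast hq₁h))
    rw [Ideal.height_le_iff] at hnot0
    push_neg at hnot0
    obtain ⟨q₀, hq₀, hq₀q₁, -⟩ := hnot0
    -- a general reduction: any prime q' with f ∈ q', 1 ≤ height, q' < q is handled by induction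
    have reduce : ∀ q' : Ideal A, q'.IsPrime → f ∈ q' → 1 ≤ q'.height → q' < q →
        ∃ p : Ideal A, p.IsPrime ∧ f ∈ p ∧ p.height = 1 := by
      intro q' hq' hfq' h1 hlt
      have hlt' : q'.height < q.height := Ideal.height_strict_mono_of_isPrime_of_isPrime hlt
      have hfin : q'.height ≠ ⊤ := (lt_of_lt_of_le hlt' le_top).ne
      obtain ⟨m, hm⟩ := ENat.ne_top_iff_exists.mp hfin
      rw [← hm] at h1 hlt'
      rw [hht] at hlt'
      have h1' : 1 ≤ m := by exact_mod_cast h1
      have hlt'' : m < n + 1 := by exact_mod_cast hlt'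
      obtain ⟨k, rfl⟩ : ∃ k, m = k + 1 := ⟨m - 1, by omega⟩
      exact ih k (by omega) q' hq' hfq' hm.symm
    -- minimal prime over q₀ ⊔ span {f} inside q
    have hle : q₀ ⊔ Ideal.span {f} ≤ q := by
      apply sup_le (hq₀q₁.le.trans hq₁q.le)
      rw [Ideal.span_le]
      simpa using hfq
    obtain ⟨q', hq'min, hq'q⟩ := Ideal.exists_minimalPrimes_le hle
    have hq' : q'.IsPrime := hq'min.1.1
    have hq₀q' : q₀ ≤ q' := le_sup_left.trans hq'min.1.2
    have hfq' : f ∈ q' := hq'min.1.2 (Ideal.mem_sup_right (Ideal.subset_span rfl))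
    have hmapht := Ideal.map_height_le_one_of_mem_minimalPrimes hq'min
    -- q' ≠ q
    have hne : q' ≠ q := by
      rintro rfl
      haveI : (q'.map (Ideal.Quotient.mk q₀)).IsPrime :=
        Ideal.map_isPrime_of_surjective Ideal.Quotient.mk_surjective (by simpa using hq₀q')
      have hmapht' : (q'.map (Ideal.Quotient.mk q₀)).height ≤ (1 : ℕ) := by exact_mod_cast hmapht
      rw [Ideal.height_le_iff] at hmapht'
      have hq₁prime : (q₁.map (Ideal.Quotient.mk q₀)).IsPrime :=
        Ideal.map_isPrime_of_surjective Ideal.Quotient.mk_surjective (by simpa using hq₀q₁.le)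
      have hcm : ∀ J : Ideal A, q₀ ≤ J → (J.map (Ideal.Quotient.mk q₀)).comap (Ideal.Quotient.mk q₀) = J := by
        intro J hJ
        rw [Ideal.comap_map_of_surjective' _ Ideal.Quotient.mk_surjective, Ideal.mk_ker, sup_eq_left.mpr hJ]
      have hlt : q₁.map (Ideal.Quotient.mk q₀) < q'.map (Ideal.Quotient.mk q₀) := by
        refine lt_of_le_of_ne (Ideal.map_mono hq₁q.le) ?_
        intro heq
        have := congrArg (Ideal.comap (Ideal.Quotient.mk q₀)) heq
        rw [hcm _ hq₀q₁.le, hcm _ hq₀q'] at this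
        exact hq₁q.ne this
      have h0 := hmapht' _ hq₁prime hlt
      have h0' : (q₁.map (Ideal.Quotient.mk q₀)).height = 0 := by
        have : (q₁.map (Ideal.Quotient.mk q₀)).height < (1 : ℕ∞) := by exact_mod_cast h0
        exact ENat.lt_one_iff_eq_zero.mp this
      haveI : IsDomain (A ⧸ q₀) := Ideal.Quotient.isDomain q₀
      rw [Ideal.height_eq_zero_iff_eq_bot] at h0'
      have := congrArg (Ideal.comap (Ideal.Quotient.mk q₀)) h0'
      rw [hcm _ hq₀q₁.le, ← RingHom.ker_eq_comap_bot, Ideal.mk_ker] at this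
      exact hq₀q₁.ne this.symm
    have hq'ltq : q' < q := lt_of_le_of_ne hq'q hne
    by_cases hq'q₀ : q' = q₀
    · -- then f ∈ q₀ ⊆ q₁
      have hfq₁ : f ∈ q₁ := hq₀q₁.le (hq'q₀ ▸ hfq')
      exact reduce q₁ hq₁ hfq₁ (by exact_mod_cast hq₁h) hq₁q
    · have hlt : q₀ < q' := lt_of_le_of_ne hq₀q' (Ne.symm hq'q₀)
      have h1 : 1 ≤ q'.height := by
        have := Ideal.height_add_one_le_of_lt_of_isPrime hlt
        exact le_trans (by simp) this
      exact reduce q' hq' hfq' h1 hq'ltq

open AlgebraicGeometry CategoryTheory CategoryTheory.Limits in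
/-- Let A be a Noetherian local ring of dimension at least 1 and f an element of its maximal ideal. Then
some prime ideal of height exactly 1 contains f. -/
theorem result (A : Type u) [CommRing A] [IsNoetherianRing A] [IsLocalRing A]
    (h : (1 : WithBot ℕ∞) ≤ ringKrullDim A) (f : A) (hf : f ∈ IsLocalRing.maximalIdeal A) :
    ∃ p : Ideal A, p.IsPrime ∧ f ∈ p ∧ p.height = 1 := by
  have hm : (IsLocalRing.maximalIdeal A).IsPrime := inferInstance
  have hht : ((IsLocalRing.maximalIdeal A).height : WithBot ℕ∞) = ringKrullDim A :=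
    IsLocalRing.maximalIdeal_height_eq_ringKrullDim
  have hfin : (IsLocalRing.maximalIdeal A).height ≠ ⊤ := Ideal.height_ne_top hm.ne_top
  obtain ⟨m, hm'⟩ := ENat.ne_top_iff_exists.mp hfin
  have h1 : 1 ≤ m := by
    rw [← hht, ← hm'] at h
    exact_mod_cast h
  obtain ⟨k, rfl⟩ : ∃ k, m = k + 1 := ⟨m - 1, by omega⟩
  exact aux_height_one f k _ hm hf hm'.symm

end Groth.Agent.S0249
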