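import Mathlib
import Groth.Statements.S3709
import Groth.Agent.S0076
-- import your own Groth.Agent.* helpers here

set_option autoImplicit false
universe u
open SGA1

namespace Groth.Agent.S3709

open AlgebraicGeometry CategoryTheory CategoryTheory.Limits
open Groth.Agent.S5128 Groth.Agent.Helper9.QuotGeom Groth.Agent.S0076

theorem coc {S S' X Y : Scheme.{u}} (g : S' ⟶ S) (p : X ⟶ S) (q : Y ⟶ S)
    (f' : pullback p g ⟶ pullback q g)
    (π₁ π₂ : pullback p (pullback.fst g g ≫ g) ⟶ pullback p g)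
    (h1f : π₁ ≫ pullback.fst p g = pullback.fst p (pullback.fst g g ≫ g) ≫ 𝟙 X)
    (h1s : π₁ ≫ pullback.snd p g = pullback.snd p (pullback.fst g g ≫ g) ≫ pullback.fst g g)
    (h2f : π₂ ≫ pullback.fst p g = pullback.fst p (pullback.fst g g ≫ g) ≫ 𝟙 X)
    (h2s : π₂ ≫ pullback.snd p g = pullback.snd p (pullback.fst g g ≫ g) ≫ pullback.snd g g)
    (hcoc : π₁ ≫ f' ≫ pullback.fst q g = π₂ ≫ f' ≫ pullback.fst q g)
    {T : Scheme.{u}} (c₁ c₂ : T ⟶ pullback p g)
    (hc : c₁ ≫ pullback.fst p g = c₂ ≫ pullback.fst p g) :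
    c₁ ≫ f' ≫ pullback.fst q g = c₂ ≫ f' ≫ pullback.fst q g := by
  have hs : (c₁ ≫ pullback.snd p g) ≫ g = (c₂ ≫ pullback.snd p g) ≫ g := by
    rw [Category.assoc, Category.assoc, ← pullback.condition, ← Category.assoc, hc, Category.assoc]
  obtain ⟨σ, hσ1, hσ2⟩ : ∃ σ : T ⟶ pullback g g, σ ≫ pullback.fst g g = c₁ ≫ pullback.snd p g ∧
      σ ≫ pullback.snd g g = c₂ ≫ pullback.snd p g :=
    ⟨pullback.lift _ _ hs, pullback.lift_fst _ _ _, pullback.lift_snd _ _ _⟩
  have hd : (c₁ ≫ pullback.fst p g) ≫ p = σ ≫ pullback.fst g g ≫ g := by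
    rw [← Category.assoc σ, hσ1, Category.assoc, Category.assoc, pullback.condition]
  obtain ⟨d, hd1, hd2⟩ : ∃ d : T ⟶ pullback p (pullback.fst g g ≫ g),
      d ≫ pullback.fst p (pullback.fst g g ≫ g) = c₁ ≫ pullback.fst p g ∧
      d ≫ pullback.snd p (pullback.fst g g ≫ g) = σ :=
    ⟨pullback.lift _ _ hd, pullback.lift_fst _ _ _, pullback.lift_snd _ _ _⟩
  have e1 : d ≫ π₁ = c₁ := by
    apply pullback.hom_ext
    · rw [Category.assoc, h1f, Category.comp_id, hd1]
    · rw [Category.assoc, h1s, ← Category.assoc, hd2, hσ1]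
  have e2 : d ≫ π₂ = c₂ := by
    apply pullback.hom_ext
    · rw [Category.assoc, h2f, Category.comp_id, hd1, hc]
    · rw [Category.assoc, h2s, ← Category.assoc, hd2, hσ2]
  rw [← e1, ← e2, Category.assoc, Category.assoc, hcoc]

theorem desc_core {S S' X Y : Scheme.{u}} (g : S' ⟶ S) (hg : SGA1.UnivSubmersive g)
    (p : X ⟶ S) (q : Y ⟶ S) [Etale q]
    (ψ : pullback p g ⟶ pullback q g) (hψ : ψ ≫ pullback.snd q g = pullback.snd p g)
    (hcoc : ∀ {T : Scheme.{u}} (c₁ c₂ : T ⟶ pullback p g),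
      c₁ ≫ pullback.fst p g = c₂ ≫ pullback.fst p g →
      c₁ ≫ ψ ≫ pullback.fst q g = c₂ ≫ ψ ≫ pullback.fst q g) :
    ∃ φ : X ⟶ Y, φ ≫ q = p ∧ pullback.fst p g ≫ φ = ψ ≫ pullback.fst q g := by
  have hprq : Topology.IsQuotientMap (pullback.fst p g) :=
    hg _ _ _ (IsPullback.of_hasPullback p g)
  haveI : Surjective (pullback.fst p g) := ⟨hprq.surjective⟩
  haveI : Etale (pullback.snd q g) := MorphismProperty.pullback_snd _ _ inferInstance
  haveI : Etale (pullback.fst p q) := MorphismProperty.pullback_fst _ _ inferInstance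
  have hu : (pullback.fst (pullback.snd p g) (pullback.snd q g) ≫ pullback.fst p g) ≫ p =
      (pullback.snd (pullback.snd p g) (pullback.snd q g) ≫ pullback.fst q g) ≫ q := by
    rw [Category.assoc, Category.assoc, pullback.condition, pullback.condition (f := q),
      ← Category.assoc, ← Category.assoc, pullback.condition]
  obtain ⟨u, hu1, hu2⟩ : ∃ u : pullback (pullback.snd p g) (pullback.snd q g) ⟶ pullback p q,
      u ≫ pullback.fst p q =
        pullback.fst (pullback.snd p g) (pullback.snd q g) ≫ pullback.fst p g ∧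
      u ≫ pullback.snd p q =
        pullback.snd (pullback.snd p g) (pullback.snd q g) ≫ pullback.fst q g :=
    ⟨pullback.lift _ _ hu, pullback.lift_fst _ _ _, pullback.lift_snd _ _ _⟩
  have hsq : IsPullback u (pullback.fst (pullback.snd p g) (pullback.snd q g))
      (pullback.fst p q) (pullback.fst p g) := by
    have s1 : IsPullback (pullback.snd (pullback.snd p g) (pullback.snd q g))
        (pullback.fst (pullback.snd p g) (pullback.snd q g)) (pullback.snd q g)
        (pullback.snd p g) := (IsPullback.of_hasPullback _ _).flip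
    have s2 : IsPullback (pullback.fst q g) (pullback.snd q g) q g :=
      IsPullback.of_hasPullback _ _
    have s3 := s1.paste_horiz s2
    have s4 : IsPullback (u ≫ pullback.snd p q)
        (pullback.fst (pullback.snd p g) (pullback.snd q g)) q (pullback.fst p g ≫ p) := by
      rw [hu2, pullback.condition]; exact s3
    exact IsPullback.of_right s4 hu1 (IsPullback.of_hasPullback p q).flip
  have huq : Topology.IsQuotientMap u :=
    hg _ _ _ (hsq.paste_vert (IsPullback.of_hasPullback p g))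
  obtain ⟨γ, hγ1, hγ2⟩ : ∃ γ : pullback p g ⟶ pullback (pullback.snd p g) (pullback.snd q g),
      γ ≫ pullback.fst (pullback.snd p g) (pullback.snd q g) = 𝟙 _ ∧
      γ ≫ pullback.snd (pullback.snd p g) (pullback.snd q g) = ψ :=
    ⟨pullback.lift (𝟙 _) ψ (by rw [Category.id_comp, hψ]), pullback.lift_fst _ _ _,
      pullback.lift_snd _ _ _⟩
  haveI : IsOpenImmersion γ := graph_isOpenImmersion _ _ γ hγ1
  have hγu1 : γ ≫ u ≫ pullback.fst p q = pullback.fst p g := by
    rw [hu1, ← Category.assoc, hγ1, Category.id_comp]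
  have hγu2 : γ ≫ u ≫ pullback.snd p q = ψ ≫ pullback.fst q g := by
    rw [hu2, ← Category.assoc, hγ2]
  have hsat : u ⁻¹' (u '' Set.range γ) = Set.range γ := by
    apply Set.Subset.antisymm _ (Set.subset_preimage_image _ _)
    rintro w ⟨_, ⟨x', rfl⟩, hx'⟩
    obtain ⟨z, hz1, hz2⟩ := Scheme.Pullback.exists_preimage_pullback (f := u) (g := u) w (γ x')
      hx'.symm
    have hzT : z ∈ pullback.snd u u ⁻¹ᵁ γ.opensRange := ⟨x', hz2.symm⟩
    have hr2 : Set.range ((pullback.snd u u ⁻¹ᵁ γ.opensRange).ι ≫ pullback.snd u u) ⊆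
        Set.range γ := by
      rintro _ ⟨t, rfl⟩
      have ht : ((pullback.snd u u ⁻¹ᵁ γ.opensRange).ι t) ∈
          pullback.snd u u ⁻¹ᵁ γ.opensRange := t.2
      rw [Scheme.Hom.comp_apply]
      exact ht
    obtain ⟨c, hc⟩ : ∃ c, c ≫ γ = (pullback.snd u u ⁻¹ᵁ γ.opensRange).ι ≫ pullback.snd u u :=
      ⟨IsOpenImmersion.lift γ _ hr2, IsOpenImmersion.lift_fac _ _ _⟩
    have hcc : c = ((pullback.snd u u ⁻¹ᵁ γ.opensRange).ι ≫ pullback.snd u u) ≫
        pullback.fst (pullback.snd p g) (pullback.snd q g) := by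
      rw [← hc, Category.assoc, hγ1, Category.comp_id]
    obtain ⟨a₁, ha₁⟩ : ∃ a₁, a₁ = (pullback.snd u u ⁻¹ᵁ γ.opensRange).ι ≫ pullback.fst u u := ⟨_, rfl⟩
    have hau : a₁ ≫ u = (c ≫ γ) ≫ u := by
      rw [ha₁, hc, Category.assoc, Category.assoc, pullback.condition]
    have hpr : (a₁ ≫ pullback.fst (pullback.snd p g) (pullback.snd q g)) ≫ pullback.fst p g =
        c ≫ pullback.fst p g := by
      rw [Category.assoc, ← hu1, ← Category.assoc, hau, Category.assoc, Category.assoc, hγu1]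
    have hY : a₁ ≫ pullback.snd (pullback.snd p g) (pullback.snd q g) ≫ pullback.fst q g =
        c ≫ ψ ≫ pullback.fst q g := by
      rw [← hu2, ← Category.assoc, hau, Category.assoc, Category.assoc, hγu2]
    have key : a₁ = (a₁ ≫ pullback.fst (pullback.snd p g) (pullback.snd q g)) ≫ γ := by
      apply pullback.hom_ext
      · rw [Category.assoc, hγ1, Category.comp_id]
      · rw [Category.assoc, hγ2]
        apply pullback.hom_ext
        · rw [Category.assoc, hY, Category.assoc]
          exact (hcoc _ _ hpr).symm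
        · rw [Category.assoc, Category.assoc, hψ, ← pullback.condition, Category.assoc]
    have h0 : a₁ ⟨z, hzT⟩ =
        ((a₁ ≫ pullback.fst (pullback.snd p g) (pullback.snd q g)) ≫ γ) ⟨z, hzT⟩ := by
      rw [← key]
    rw [Scheme.Hom.comp_apply] at h0
    have hw : a₁ ⟨z, hzT⟩ = w := by
      rw [ha₁, Scheme.Hom.comp_apply]
      exact hz1
    rw [hw] at h0
    exact ⟨_, h0.symm⟩
  have hopen : IsOpen (u '' Set.range γ) := by
    rw [← huq.isOpen_preimage, hsat]
    exact γ.isOpenEmbedding.isOpen_range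
  obtain ⟨Γ, hΓ⟩ : ∃ Γ : (pullback p q).Opens, (Γ : Set ↥(pullback p q)) = u '' Set.range γ :=
    ⟨⟨u '' Set.range γ, hopen⟩, rfl⟩
  have hrγ : Set.range (γ ≫ u) ⊆ Set.range Γ.ι := by
    rw [Scheme.Opens.range_ι, hΓ]
    rintro _ ⟨y', rfl⟩
    exact ⟨γ y', ⟨y', rfl⟩, (Scheme.Hom.comp_apply _ _ _).symm⟩
  obtain ⟨r, hr⟩ : ∃ r, r ≫ Γ.ι = γ ≫ u :=
    ⟨IsOpenImmersion.lift Γ.ι _ hrγ, IsOpenImmersion.lift_fac _ _ _⟩
  obtain ⟨m, hm⟩ : ∃ m, m = Γ.ι ≫ pullback.fst p q := ⟨_, rfl⟩
  have hrm : r ≫ m = pullback.fst p g := by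
    rw [hm, ← Category.assoc, hr, Category.assoc, hγu1]
  haveI : Surjective r := ⟨by
    intro z
    have hz : Γ.ι z ∈ u '' Set.range γ := by rw [← hΓ]; exact z.2
    obtain ⟨_, ⟨y', rfl⟩, hy'⟩ := hz
    refine ⟨y', ?_⟩
    apply Γ.ι.injective
    have h0 : (r ≫ Γ.ι) y' = (γ ≫ u) y' := by rw [hr]
    rw [Scheme.Hom.comp_apply, Scheme.Hom.comp_apply] at h0
    rw [h0]
    exact hy'⟩
  haveI : Surjective m := ⟨by
    intro y
    obtain ⟨y', rfl⟩ := (pullback.fst p g).surjective y
    refine ⟨r y', ?_⟩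
    have h0 : (r ≫ m) y' = pullback.fst p g y' := by rw [hrm]
    rw [Scheme.Hom.comp_apply] at h0
    exact h0⟩
  haveI : UniversallyInjective m := by
    apply universallyInjective_of_points r m
    intro L _ b₁ b₂ hb
    rw [hrm] at hb
    rw [← cancel_mono Γ.ι, Category.assoc, Category.assoc, hr]
    apply pullback.hom_ext
    · rw [Category.assoc, Category.assoc, hγu1, Category.assoc, Category.assoc, hγu1]
      exact hb
    · rw [Category.assoc, Category.assoc, hγu2, Category.assoc, Category.assoc, hγu2]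
      exact hcoc _ _ hb
  haveI : Etale m := by rw [hm]; infer_instance
  haveI : IsIso m := isIso_of_etale_univInj_surj m
  refine ⟨inv m ≫ Γ.ι ≫ pullback.snd p q, ?_, ?_⟩
  · rw [Category.assoc, Category.assoc, ← pullback.condition, ← Category.assoc Γ.ι, ← hm,
      IsIso.inv_hom_id_assoc]
  · have h1 : pullback.fst p g ≫ inv m = r := by
      rw [← hrm, Category.assoc, IsIso.hom_inv_id, Category.comp_id]
    rw [← Category.assoc, h1, ← Category.assoc, hr, Category.assoc, hγu2]


open AlgebraicGeometry CategoryTheory CategoryTheory.Limits in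
/-- A universally submersive morphism is a descent morphism for etale schemes (exactness of Hom_S(X, Y)
-> Hom_S'(X', Y') => Hom_S''(X'', Y'')): let g : S' -> S be universally submersive, X and Y schemes
over S with Y etale over S, X' and Y' their base changes along g, and f' : X' -> Y' an S'-morphism
whose two pullbacks to S'' = S' x_S S' coincide (equivalently: the two composites X'' -> X' -> Y' ->
Y along the two projections agree). Then there is exactly one S-morphism u : X -> Y whose base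
change is f'. -/
theorem result {S S' X Y : Scheme.{u}} (g : S' ⟶ S) (hg : SGA1.UnivSubmersive g)
    (p : X ⟶ S) (q : Y ⟶ S) [Etale q]
    (f' : pullback p g ⟶ pullback q g) (hf' : f' ≫ pullback.snd q g = pullback.snd p g)
    (hcoc : pullback.map p (pullback.fst g g ≫ g) p g (𝟙 X) (pullback.fst g g) (𝟙 S)
        ((Category.comp_id _).trans (Category.id_comp _).symm) (Category.comp_id _) ≫ f' ≫ pullback.fst q g =
      pullback.map p (pullback.fst g g ≫ g) p g (𝟙 X) (pullback.snd g g) (𝟙 S)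
        ((Category.comp_id _).trans (Category.id_comp _).symm) ((Category.comp_id _).trans pullback.condition) ≫
        f' ≫ pullback.fst q g) :
    ∃! u : X ⟶ Y, u ≫ q = p ∧ f' ≫ pullback.fst q g = pullback.fst p g ≫ u := by
  have COC : ∀ {T : Scheme.{u}} (c₁ c₂ : T ⟶ pullback p g),
      c₁ ≫ pullback.fst p g = c₂ ≫ pullback.fst p g →
      c₁ ≫ f' ≫ pullback.fst q g = c₂ ≫ f' ≫ pullback.fst q g := fun c₁ c₂ hc =>
    coc g p q f' _ _ (pullback.lift_fst _ _ _) (pullback.lift_snd _ _ _) (pullback.lift_fst _ _ _)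
      (pullback.lift_snd _ _ _) hcoc c₁ c₂ hc
  obtain ⟨φ, hφ1, hφ2⟩ := desc_core g hg p q f' hf' COC
  refine ⟨φ, ⟨hφ1, hφ2.symm⟩, ?_⟩
  rintro φ' ⟨h1, h2⟩
  have hprq : Topology.IsQuotientMap (pullback.fst p g) :=
    hg _ _ _ (IsPullback.of_hasPullback p g)
  haveI : Surjective (pullback.fst p g) := ⟨hprq.surjective⟩
  exact eq_of_surj_precomp q (pullback.fst p g) φ' φ (by rw [h1, hφ1]) (by rw [← h2, hφ2])

end Groth.Agent.S3709
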