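import Mathlib
import Groth.Statements.S2916
import Groth.Agent.S3709
-- import your own Groth.Agent.* helpers here

set_option autoImplicit false
open CategoryTheory CategoryTheory.Limits AlgebraicGeometry Opposite
universe u
open SGA1

namespace Groth.Agent.S2916

open AlgebraicGeometry CategoryTheory CategoryTheory.Limits
open Groth.Agent.S5128 Groth.Agent.Helper9.QuotGeom Groth.Agent.S0076 Groth.Agent.S3709

theorem lqf_of_etale {X Y : Scheme.{u}} (f : X ⟶ Y) [Etale f] : LocallyQuasiFinite f := by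
  refine ⟨fun {U} hU {V} hV e => ?_⟩
  have h := Etale.etale_appLE f hU hV e
  algebraize [(f.appLE U V e).hom]
  show Algebra.QuasiFinite _ _
  haveI : Algebra.Etale Γ(Y, U) Γ(X, V) := h
  infer_instance

theorem eq_of_points {S T Y : Scheme.{u}} (q : Y ⟶ S) [IsOpenImmersion (pullback.diagonal q)]
    (α β : T ⟶ Y) (hαβ : α ≫ q = β ≫ q)
    (H : ∀ t : T, ∃ (T' : Scheme.{u}) (e : T' ⟶ T), t ∈ Set.range e ∧ e ≫ α = e ≫ β) :
    α = β := by
  obtain ⟨c, hc⟩ : ∃ c, c = pullback.lift α β hαβ := ⟨_, rfl⟩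
  have hc1 : c ≫ pullback.fst q q = α := by rw [hc, pullback.lift_fst]
  have hc2 : c ≫ pullback.snd q q = β := by rw [hc, pullback.lift_snd]
  have hr : Set.range c ⊆ Set.range (pullback.diagonal q) := by
    rintro _ ⟨t, rfl⟩
    obtain ⟨T', e, ⟨t', rfl⟩, h⟩ := H t
    have hec : e ≫ c = (e ≫ α) ≫ pullback.diagonal q := by
      apply pullback.hom_ext
      · rw [Category.assoc, hc1, Category.assoc, pullback.diagonal_fst, Category.comp_id]
      · rw [Category.assoc, hc2, Category.assoc, pullback.diagonal_snd, Category.comp_id, h]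
    have h0 : (e ≫ c) t' = ((e ≫ α) ≫ pullback.diagonal q) t' := by rw [hec]
    rw [Scheme.Hom.comp_apply, Scheme.Hom.comp_apply (e ≫ α)] at h0
    rw [h0]
    exact ⟨_, rfl⟩
  obtain ⟨l, hl⟩ : ∃ l, l ≫ pullback.diagonal q = c :=
    ⟨IsOpenImmersion.lift _ _ hr, IsOpenImmersion.lift_fac _ _ _⟩
  rw [← hc1, ← hc2, ← hl, Category.assoc, Category.assoc, pullback.diagonal_fst,
    pullback.diagonal_snd]

theorem geom_const_aux {S S' X Y : Scheme.{u}} (g : S' ⟶ S) (p : X ⟶ S) (q : Y ⟶ S) [Etale q]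
    (ψ : pullback p g ⟶ pullback q g) (hψ : ψ ≫ pullback.snd q g = pullback.snd p g)
    (K : Type u) [Field K] (a₁ a₂ : Spec (CommRingCat.of K) ⟶ pullback p g)
    (xb : Spec (CommRingCat.of K) ⟶ X) (sb : Spec (CommRingCat.of K) ⟶ S)
    (hx : a₁ ≫ pullback.fst p g = xb) (hx2 : a₂ ≫ pullback.fst p g = xb) (hs : sb = xb ≫ p)
    (hF : ConnectedSpace ↑(pullback g sb)) :
    a₁ ≫ ψ ≫ pullback.fst q g = a₂ ≫ ψ ≫ pullback.fst q g := by
  have hφc : ∀ a : Spec (CommRingCat.of K) ⟶ pullback p g, a ≫ pullback.fst p g = xb →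
      (a ≫ pullback.snd p g) ≫ g = 𝟙 _ ≫ sb := by
    intro a h
    rw [Category.assoc, ← pullback.condition, ← Category.assoc, h, Category.id_comp, hs]
  have hh₀ : (pullback.snd g sb ≫ xb) ≫ p = pullback.fst g sb ≫ g := by
    rw [Category.assoc, ← hs, pullback.condition]
  obtain ⟨h₀, hh1, hh2⟩ : ∃ h₀ : pullback g sb ⟶ pullback p g,
      h₀ ≫ pullback.fst p g = pullback.snd g sb ≫ xb ∧
      h₀ ≫ pullback.snd p g = pullback.fst g sb :=
    ⟨pullback.lift _ _ hh₀, pullback.lift_fst _ _ _, pullback.lift_snd _ _ _⟩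
  have hh' : (h₀ ≫ ψ ≫ pullback.fst q g) ≫ q = pullback.snd g sb ≫ sb := by
    rw [Category.assoc, Category.assoc, pullback.condition, ← Category.assoc ψ, hψ,
      ← Category.assoc, hh2, pullback.condition]
  obtain ⟨h', hh'1, hh'2⟩ : ∃ h' : pullback g sb ⟶ pullback q sb,
      h' ≫ pullback.fst q sb = h₀ ≫ ψ ≫ pullback.fst q g ∧
      h' ≫ pullback.snd q sb = pullback.snd g sb :=
    ⟨pullback.lift _ _ hh', pullback.lift_fst _ _ _, pullback.lift_snd _ _ _⟩
  haveI : Etale (pullback.snd q sb) := MorphismProperty.pullback_snd _ _ inferInstance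
  haveI : LocallyQuasiFinite (pullback.snd q sb) := lqf_of_etale _
  haveI : DiscreteTopology ↥(pullback q sb) := by
    have hd := (pullback.snd q sb).isDiscrete_preimage_singleton (IsLocalRing.closedPoint K)
    have hd2 : _root_.IsDiscrete (Set.univ : Set ↥(pullback q sb)) := by
      convert hd using 1
      exact (Set.eq_univ_of_forall fun e => Subsingleton.elim (α := PrimeSpectrum K) _ _).symm
    exact isDiscrete_univ_iff.mp hd2
  have hconst : ∀ φ₁ φ₂ : Spec (CommRingCat.of K) ⟶ pullback g sb,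
      φ₁ ≫ pullback.snd g sb = 𝟙 _ → φ₂ ≫ pullback.snd g sb = 𝟙 _ → φ₁ ≫ h' = φ₂ ≫ h' := by
    intro φ₁ φ₂ h1 h2
    obtain ⟨y₀, hy₀⟩ : ∃ y₀, y₀ = φ₁ ≫ h' := ⟨_, rfl⟩
    have hsec : y₀ ≫ pullback.snd q sb = 𝟙 _ := by rw [hy₀, Category.assoc, hh'2, h1]
    haveI : Etale (y₀ ≫ pullback.snd q sb) := by rw [hsec]; infer_instance
    haveI : Etale y₀ := Etale.of_comp y₀ (pullback.snd q sb)
    haveI : Mono y₀ := mono_of_mono_fac hsec
    haveI : IsOpenImmersion y₀ := IsOpenImmersion.of_flat_of_mono y₀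
    have hr : Set.range h' ⊆ Set.range y₀ := by
      rintro _ ⟨z, rfl⟩
      refine ⟨IsLocalRing.closedPoint K, ?_⟩
      have hcz := PreconnectedSpace.constant (inferInstance : PreconnectedSpace ↥(pullback g sb))
        h'.continuous (x := φ₁ (IsLocalRing.closedPoint K)) (y := z)
      rw [hy₀, Scheme.Hom.comp_apply]
      exact hcz
    obtain ⟨l, hl⟩ : ∃ l, l ≫ y₀ = h' :=
      ⟨IsOpenImmersion.lift y₀ _ hr, IsOpenImmersion.lift_fac _ _ _⟩
    have hl' : l = pullback.snd g sb := by
      rw [← hh'2, ← hl, Category.assoc, hsec, Category.comp_id]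
    rw [← hy₀, ← hl, ← Category.assoc, hl', h2, Category.id_comp]
  obtain ⟨φ₁, hφ11, hφ12⟩ : ∃ φ₁ : Spec (CommRingCat.of K) ⟶ pullback g sb,
      φ₁ ≫ pullback.fst g sb = a₁ ≫ pullback.snd p g ∧ φ₁ ≫ pullback.snd g sb = 𝟙 _ :=
    ⟨pullback.lift _ _ (hφc a₁ hx), pullback.lift_fst _ _ _, pullback.lift_snd _ _ _⟩
  obtain ⟨φ₂, hφ21, hφ22⟩ : ∃ φ₂ : Spec (CommRingCat.of K) ⟶ pullback g sb,
      φ₂ ≫ pullback.fst g sb = a₂ ≫ pullback.snd p g ∧ φ₂ ≫ pullback.snd g sb = 𝟙 _ :=
    ⟨pullback.lift _ _ (hφc a₂ hx2), pullback.lift_fst _ _ _, pullback.lift_snd _ _ _⟩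
  have e1 : φ₁ ≫ h₀ = a₁ := by
    apply pullback.hom_ext
    · rw [Category.assoc, hh1, ← Category.assoc, hφ12, Category.id_comp, hx]
    · rw [Category.assoc, hh2, hφ11]
  have e2 : φ₂ ≫ h₀ = a₂ := by
    apply pullback.hom_ext
    · rw [Category.assoc, hh1, ← Category.assoc, hφ22, Category.id_comp, hx2]
    · rw [Category.assoc, hh2, hφ21]
  rw [← e1, ← e2, Category.assoc, Category.assoc, ← hh'1, ← Category.assoc, ← Category.assoc,
    hconst φ₁ φ₂ hφ12 hφ22]

theorem coc_of_conn {S S' X Y : Scheme.{u}} (g : S' ⟶ S)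
    (hconn : ∀ (K : Type u) [Field K] [IsAlgClosed K] (ξ : Spec (CommRingCat.of K) ⟶ S),
      ConnectedSpace ↑(pullback g ξ))
    (p : X ⟶ S) (q : Y ⟶ S) [Etale q]
    (ψ : pullback p g ⟶ pullback q g) (hψ : ψ ≫ pullback.snd q g = pullback.snd p g)
    {T : Scheme.{u}} (c₁ c₂ : T ⟶ pullback p g)
    (hc : c₁ ≫ pullback.fst p g = c₂ ≫ pullback.fst p g) :
    c₁ ≫ ψ ≫ pullback.fst q g = c₂ ≫ ψ ≫ pullback.fst q g := by
  have hq : ∀ c : T ⟶ pullback p g,
      (c ≫ ψ ≫ pullback.fst q g) ≫ q = (c ≫ pullback.fst p g) ≫ p := by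
    intro c
    rw [Category.assoc, Category.assoc, pullback.condition, ← Category.assoc ψ, hψ,
      ← pullback.condition, Category.assoc]
  apply eq_of_points q _ _ (by rw [hq, hq, hc])
  intro t
  obtain ⟨tb, htb⟩ : ∃ tb : Spec (CommRingCat.of (AlgebraicClosure (T.residueField t))) ⟶ T,
      tb = Spec.map (CommRingCat.ofHom (algebraMap (T.residueField t)
        (AlgebraicClosure (T.residueField t)))) ≫ T.fromSpecResidueField t := ⟨_, rfl⟩
  refine ⟨_, tb, ⟨IsLocalRing.closedPoint _, ?_⟩, ?_⟩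
  · rw [htb, Scheme.Hom.comp_apply, Scheme.fromSpecResidueField_apply]
  · rw [← Category.assoc, ← Category.assoc]
    exact geom_const_aux g p q ψ hψ _ (tb ≫ c₁) (tb ≫ c₂) _ _ rfl
      (by rw [Category.assoc, Category.assoc, hc]) rfl (hconn _ _)


/-- Let g : S' ⟶ S be universally submersive with geometrically connected fibres (the base change of S'
to any algebraically closed field valued point of S is connected). Then S' is connected whenever S
is, and for schemes X, Y etale over S every S'-morphism between their base changes comes from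
exactly one S-morphism X ⟶ Y. -/
theorem result {S' S : Scheme.{u}} (g : S' ⟶ S)
    (hg : SGA1.UnivSubmersive g)
    (hconn : ∀ (K : Type u) [Field K] [IsAlgClosed K] (ξ : Spec (CommRingCat.of K) ⟶ S), ConnectedSpace ↑(pullback g ξ)) :
    (ConnectedSpace S → ConnectedSpace S') ∧
    ∀ (X Y : Over S) [Etale X.hom] [Etale Y.hom], Function.Bijective ((Over.pullback g).map : (X ⟶ Y) → _) := by
  have hprq : ∀ {X : Scheme.{u}} (p : X ⟶ S), Surjective (pullback.fst p g) := fun p =>
    ⟨(hg _ _ _ (IsPullback.of_hasPullback p g)).surjective⟩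
  constructor
  · intro hS
    haveI := hS
    have hgq : Topology.IsQuotientMap g := hg _ _ _ (IsPullback.id_vert g)
    have hfib : ∀ s : S, _root_.IsConnected (g ⁻¹' {s}) := by
      intro s
      obtain ⟨ξ, hξ⟩ : ∃ ξ : Spec (CommRingCat.of (AlgebraicClosure (S.residueField s))) ⟶ S,
          Set.range ξ = {s} := by
        refine ⟨Spec.map (CommRingCat.ofHom (algebraMap (S.residueField s)
          (AlgebraicClosure (S.residueField s)))) ≫ S.fromSpecResidueField s, ?_⟩
        ext y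
        constructor
        · rintro ⟨z, rfl⟩
          rw [Scheme.Hom.comp_apply, Scheme.fromSpecResidueField_apply]
          rfl
        · rintro rfl
          exact ⟨IsLocalRing.closedPoint _, by
            rw [Scheme.Hom.comp_apply, Scheme.fromSpecResidueField_apply]⟩
      haveI := hconn _ ξ
      have hrange := Scheme.Pullback.range_fst g ξ
      rw [hξ] at hrange
      rw [← hrange]
      exact isConnected_range (pullback.fst g ξ).continuous
    have hpre := hgq.isCoinducing.isConnected_preimage_of_isClosed hfib isClosed_univ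
      isConnected_univ
    rw [Set.preimage_univ] at hpre
    exact connectedSpace_iff_univ.mpr hpre
  · intro X Y _ _
    constructor
    · intro φ₁ φ₂ h
      have h' := congrArg (fun t => t.left ≫ pullback.fst Y.hom g) h
      have e1 : ((Over.pullback g).map φ₁).left ≫ pullback.fst Y.hom g =
          pullback.fst X.hom g ≫ φ₁.left := pullback.lift_fst _ _ _
      have e2 : ((Over.pullback g).map φ₂).left ≫ pullback.fst Y.hom g =
          pullback.fst X.hom g ≫ φ₂.left := pullback.lift_fst _ _ _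
      haveI : Surjective (pullback.fst X.hom g) := hprq X.hom
      apply Over.OverMorphism.ext
      apply eq_of_surj_precomp Y.hom (pullback.fst X.hom g) φ₁.left φ₂.left
        (by rw [Over.w φ₁, Over.w φ₂])
      rw [← e1, ← e2]
      exact h'
    · intro ψ
      obtain ⟨φl, hφ1, hφ2⟩ := desc_core g hg X.hom Y.hom ψ.left (Over.w ψ)
        (fun c₁ c₂ hc => coc_of_conn g hconn X.hom Y.hom ψ.left (Over.w ψ) c₁ c₂ hc)
      refine ⟨Over.homMk φl hφ1, ?_⟩
      apply Over.OverMorphism.ext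
      apply pullback.hom_ext
      · have e1 : ((Over.pullback g).map (Over.homMk φl hφ1)).left ≫ pullback.fst Y.hom g =
            pullback.fst X.hom g ≫ φl := pullback.lift_fst _ _ _
        rw [e1, hφ2]
      · have e2 : ((Over.pullback g).map (Over.homMk φl hφ1)).left ≫ pullback.snd Y.hom g =
            pullback.snd X.hom g := Over.w ((Over.pullback g).map (Over.homMk φl hφ1))
        rw [e2]
        exact (Over.w ψ).symm

end Groth.Agent.S2916
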