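import Mathlib
import Groth.Statements.S0264
import Groth.Agent.S2916
-- import your own Groth.Agent.* helpers here

set_option autoImplicit false
universe u
open Pi1

namespace Groth.Agent.S0264

open AlgebraicGeometry CategoryTheory CategoryTheory.Limits
open Groth.Agent.S5128 Groth.Agent.Helper9.QuotGeom Groth.Agent.S0076 Groth.Agent.S3709
  Groth.Agent.S2916

theorem exists_geomPt (S : Scheme.{u}) (s : S) :
    ∃ ξ : Spec (CommRingCat.of (AlgebraicClosure (S.residueField s))) ⟶ S, Set.range ξ = {s} := by
  refine ⟨Spec.map (CommRingCat.ofHom (algebraMap (S.residueField s)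
    (AlgebraicClosure (S.residueField s)))) ≫ S.fromSpecResidueField s, ?_⟩
  ext y
  constructor
  · rintro ⟨z, rfl⟩
    rw [Scheme.Hom.comp_apply, Scheme.fromSpecResidueField_apply]
    rfl
  · rintro rfl
    exact ⟨IsLocalRing.closedPoint _, by
      rw [Scheme.Hom.comp_apply, Scheme.fromSpecResidueField_apply]⟩

theorem univSubm_of_univClosed_surj {X S : Scheme.{u}} (f : X ⟶ S) [UniversallyClosed f]
    [Surjective f] : SGA1.UnivSubmersive f := by
  intro X' Y' i₁ i₂ f' hpb
  haveI : UniversallyClosed f' := MorphismProperty.of_isPullback hpb.flip inferInstance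
  haveI : Surjective f' := MorphismProperty.of_isPullback hpb.flip inferInstance
  exact f'.isClosedMap.isQuotientMap f'.continuous f'.surjective

theorem fet_ff {X Y : Scheme.{u}} (f : X ⟶ Y) (hf : SGA1.UnivSubmersive f)
    (hconn : ∀ (K : Type u) [Field K] [IsAlgClosed K] (ξ : Spec (CommRingCat.of K) ⟶ Y),
      ConnectedSpace ↑(pullback f ξ)) :
    (FEt.restrict f).Full ∧ (FEt.restrict f).Faithful := by
  constructor
  · refine ⟨fun {A B} ψ => ?_⟩
    haveI : Etale B.hom := B.prop.2
    have hw : ψ.left ≫ pullback.snd B.hom f = pullback.snd A.hom f := MorphismProperty.Over.w ψ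
    obtain ⟨φl, hφ1, hφ2⟩ := desc_core f hf A.hom B.hom ψ.left hw
      (fun c₁ c₂ hc => coc_of_conn f hconn A.hom B.hom ψ.left hw c₁ c₂ hc)
    refine ⟨MorphismProperty.Over.homMk φl hφ1 trivial, ?_⟩
    apply MorphismProperty.Over.Hom.ext
    apply pullback.hom_ext
    · have e1 : ((FEt.restrict f).map (MorphismProperty.Over.homMk φl hφ1 trivial)).left ≫
          pullback.fst B.hom f = pullback.fst A.hom f ≫ φl := pullback.lift_fst _ _ _
      exact e1.trans hφ2
    · have e2 : ((FEt.restrict f).map (MorphismProperty.Over.homMk φl hφ1 trivial)).left ≫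
          pullback.snd B.hom f = pullback.snd A.hom f := pullback.lift_snd _ _ _
      exact e2.trans hw.symm
  · refine ⟨fun {A B} g₁ g₂ h => ?_⟩
    haveI : Etale B.hom := B.prop.2
    have h' := congrArg (fun t => t.left ≫ pullback.fst B.hom f) h
    have e1 : ((FEt.restrict f).map g₁).left ≫ pullback.fst B.hom f =
        pullback.fst A.hom f ≫ g₁.left := pullback.lift_fst _ _ _
    have e2 : ((FEt.restrict f).map g₂).left ≫ pullback.fst B.hom f =
        pullback.fst A.hom f ≫ g₂.left := pullback.lift_fst _ _ _
    haveI : Surjective (pullback.fst A.hom f) :=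
      ⟨(hf _ _ _ (IsPullback.of_hasPullback A.hom f)).surjective⟩
    apply MorphismProperty.Over.Hom.ext
    apply Groth.Agent.S0076.eq_of_surj_precomp B.hom (pullback.fst A.hom f) g₁.left g₂.left
      (by rw [MorphismProperty.Over.w g₁, MorphismProperty.Over.w g₂])
    exact e1.symm.trans (h'.trans e2)


open AlgebraicGeometry CategoryTheory CategoryTheory.Limits in
/-- Functor form of the surjectivity part of the homotopy exact sequence: Let f : X -> S be flat, proper
and locally of finite presentation with S connected, such that for every algebraically closed field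
Ω and every geometric point Spec Ω -> S the fibre X ×_S Spec Ω is connected and reduced. Then the
restriction functor FEt.restrict f, pulling back finite etale covers along f, is full and faithful. -/
theorem result {X S : Scheme.{u}} (f : X ⟶ S) [IsProper f] [Flat f] [LocallyOfFinitePresentation f]
    [ConnectedSpace S]
    (hfib : ∀ (Ω : Type u) [Field Ω] [IsAlgClosed Ω] (s : Spec (CommRingCat.of Ω) ⟶ S),
      ConnectedSpace ↥(pullback f s) ∧ IsReduced (pullback f s)) :
    (FEt.restrict f).Full ∧ (FEt.restrict f).Faithful := by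
  haveI : Surjective f := ⟨fun s => by
    obtain ⟨ξ, hξ⟩ := exists_geomPt S s
    haveI := (hfib _ ξ).1
    obtain ⟨z⟩ := (inferInstance : Nonempty ↥(pullback f ξ))
    refine ⟨pullback.fst f ξ z, ?_⟩
    have h0 : (pullback.fst f ξ ≫ f) z = (pullback.snd f ξ ≫ ξ) z := by rw [pullback.condition]
    rw [Scheme.Hom.comp_apply, Scheme.Hom.comp_apply] at h0
    rw [h0]
    have hm : ξ (pullback.snd f ξ z) ∈ Set.range ξ := ⟨_, rfl⟩
    rw [hξ] at hm
    exact hm⟩
  exact fet_ff f (univSubm_of_univClosed_surj f) (fun K _ _ ξ => (hfib K ξ).1)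

end Groth.Agent.S0264
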