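import Groth.Statements.S1187
import Mathlib
import Groth.Agent.H26.Galois

set_option linter.style.haveILetI false

set_option autoImplicit false
universe u v w
open CategoryTheory PreGaloisCategory
open Pi1

namespace Groth.Agent.S1187

/-- Let H : C ⥤ C' be an exact functor between Galois categories and F' a fibre functor on C' such that
F' ∘ H is a fibre functor on C; write h : π_1(C', F') → π_1(C, F' ∘ H) for the induced homomorphism
of fundamental groups. Then h is surjective if and only if H is fully faithful. -/
theorem result {C C' : Type u} [Category.{v} C] [Category.{v} C'] [GaloisCategory C] [GaloisCategory C']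
    (H : C ⥤ C') [Limits.PreservesFiniteLimits H] [Limits.PreservesFiniteColimits H]
    (F' : C' ⥤ FintypeCat.{w}) [FiberFunctor F'] [FiberFunctor (H ⋙ F')] :
    Function.Surjective (Pi1X.autWhisker H F') ↔ (H.Full ∧ H.Faithful) := by
  constructor
  · intro hsurj
    have hfaith : H.Faithful := Functor.Faithful.of_comp H F'
    refine ⟨⟨?_⟩, hfaith⟩
    intro X Y g
    let φ : (functorToAction (H ⋙ F')).obj X ⟶ (functorToAction (H ⋙ F')).obj Y :=
      { hom := F'.map g
        comm := fun τ => by
          obtain ⟨σ, rfl⟩ := hsurj τ
          apply FintypeCat.hom_ext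
          intro (w : F'.obj (H.obj X))
          show F'.map g (σ • w) = σ • F'.map g w
          exact (mulAction_naturality F' σ g w).symm }
    refine ⟨(functorToAction (H ⋙ F')).preimage φ, ?_⟩
    apply F'.map_injective
    have h2 : (H ⋙ F').map ((functorToAction (H ⋙ F')).preimage φ) = φ.hom := by
      rw [← functorToAction_map, Functor.map_preimage]
    exact h2
  · rintro ⟨hfull, hfaith⟩
    letI : ∀ X : C, MulAction (Aut F') ((H ⋙ F').obj X) := fun X =>
      inferInstanceAs (MulAction (Aut F') (F'.obj (H.obj X)))
    haveI : IsNaturalSMul (H ⋙ F') (Aut F') :=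
      ⟨fun g {X Y} f x => (mulAction_naturality F' g (H.map f) x).symm⟩
    haveI : ∀ X : C, ContinuousSMul (Aut F') ((H ⋙ F').obj X) := fun X =>
      continuousSMul_aut_fiber F' (H.obj X)
    have hs := toAut_surjective_of_isPretransitive (H ⋙ F') (Aut F') (by
      intro X hX
      exact ⟨fun x y => Groth.Agent.H26.Galois.exists_smul_eq_of_full F' H X x y⟩)
    intro τ
    obtain ⟨σ, hσ⟩ := hs τ
    refine ⟨σ, ?_⟩
    rw [← hσ]
    apply Iso.ext
    apply NatTrans.ext
    funext X
    apply FintypeCat.hom_ext
    intro y
    rfl

end Groth.Agent.S1187
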