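import Groth.Statements.S0267
import Mathlib
import Groth.Agent.H26.Galois
import Groth.Agent.S1187

set_option linter.style.haveILetI false

set_option autoImplicit false
universe u v
open Pi1

namespace Groth.Agent.S0267

open CategoryTheory CategoryTheory.Limits in
/-- For an exact functor H between Galois categories, H is fully faithful exactly when it carries
connected objects to connected objects (both are equivalent to surjectivity of the induced map on
fundamental groups). -/
theorem result {C : Type u} [Category.{v} C]
    [GaloisCategory C] {D : Type u} [Category.{v} D] [GaloisCategory D]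
    (H : C ⥤ D) [PreservesFiniteLimits H] [PreservesFiniteColimits H] :
    (H.Full ∧ H.Faithful) ↔
      ∀ X : C, PreGaloisCategory.IsConnected X → PreGaloisCategory.IsConnected (H.obj X) := by
  let F' : D ⥤ FintypeCat.{v} := PreGaloisCategory.GaloisCategory.getFiberFunctor D
  constructor
  · rintro ⟨hfull, hfaith⟩ X hX
    haveI : PreGaloisCategory.FiberFunctor (H ⋙ F') :=
      Groth.Agent.H26.Galois.fiberFunctorComp F' H
    obtain ⟨x⟩ := PreGaloisCategory.nonempty_fiber_of_isConnected (H ⋙ F') X
    exact Groth.Agent.H26.Galois.isConnected_of_transitive F' (H.obj X) x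
      (fun y => Groth.Agent.H26.Galois.exists_smul_eq_of_full F' H X x y)
  · intro hconn
    haveI : H.ReflectsIsomorphisms :=
      Groth.Agent.H26.Galois.reflectsIsomorphisms_of_preserves_connected F'
        (PreGaloisCategory.GaloisCategory.getFiberFunctor C) H hconn
    haveI : PreGaloisCategory.FiberFunctor (H ⋙ F') :=
      Groth.Agent.H26.Galois.fiberFunctorComp F' H
    apply (Groth.Agent.S1187.result H F').mp
    intro τ
    obtain ⟨σ, hσ⟩ := Groth.Agent.H26.Galois.exists_whisker_eq F' H (by
      intro X hX x y
      haveI := hconn X inferInstance
      exact MulAction.exists_smul_eq (Aut F') x y) τ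
    exact ⟨σ, hσ⟩

end Groth.Agent.S0267
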