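import Mathlib
import Groth.Statements.S0268
import Groth.Agent.Lib.Helper9.GeomConn
import Groth.Agent.S0264
-- import your own Groth.Agent.* helpers here

set_option autoImplicit false
universe u
open Pi1

namespace Groth.Agent.S0268

open AlgebraicGeometry CategoryTheory CategoryTheory.Limits
open Groth.Agent.Helper9.GeomConn


open AlgebraicGeometry CategoryTheory CategoryTheory.Limits in
/-- Functor form of the surjectivity of pi_1(X) -> pi_1(Spec k): Let X be quasi-compact and
quasi-separated over a field k with X_{kbar} connected. Then the functor pulling back finite etale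
k-schemes to X is full and faithful. -/
theorem result (k : Type u) [Field k] {X : Scheme.{u}} (f : X ⟶ Spec (CommRingCat.of k)) [CompactSpace X]
    [QuasiSeparatedSpace X]
    [ConnectedSpace ↥(pullback f (Spec.map (CommRingCat.ofHom (algebraMap k (AlgebraicClosure k)))))] :
    (FEt.restrict f).Full ∧ (FEt.restrict f).Faithful := by
  haveI : Nonempty X := by
    obtain ⟨z⟩ := (inferInstance : Nonempty ↥(pullback f
      (Spec.map (CommRingCat.ofHom (algebraMap k (AlgebraicClosure k))))))
    exact ⟨(pullback.fst f
      (Spec.map (CommRingCat.ofHom (algebraMap k (AlgebraicClosure k))))).base z⟩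
  haveI : Surjective f := ⟨fun s => by
    obtain ⟨x⟩ := ‹Nonempty X›
    exact ⟨x, Subsingleton.elim _ _⟩⟩
  haveI : QuasiCompact f := (quasiCompact_iff_compactSpace f).mpr inferInstance
  have hf : SGA1.UnivSubmersive f := by
    intro X' Y' i₁ i₂ f' hpb
    haveI : Flat f' := MorphismProperty.of_isPullback hpb.flip inferInstance
    haveI : Surjective f' := MorphismProperty.of_isPullback hpb.flip inferInstance
    haveI : QuasiCompact f' := MorphismProperty.of_isPullback hpb.flip inferInstance
    exact Flat.isQuotientMap_of_surjective f'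
  refine Groth.Agent.S0264.fet_ff f hf ?_
  intro K' _ _ ξ
  obtain ⟨φ, rfl⟩ := Spec.map_surjective ξ
  algebraize [φ.hom]
  obtain ⟨ι⟩ : Nonempty (AlgebraicClosure k →ₐ[k] K') := ⟨IsAlgClosed.lift⟩
  have hξ : Spec.map φ = Spec.map (CommRingCat.ofHom ι.toRingHom) ≫
      Spec.map (CommRingCat.ofHom (algebraMap k (AlgebraicClosure k))) := by
    rw [← Spec.map_comp]
    congr 1
    ext x
    exact (ι.commutes x).symm
  rw [hξ]
  haveI := geomConn_spec (ι.toRingHom)
  haveI hc : ConnectedSpace ↥(pullback (pullback.snd f
      (Spec.map (CommRingCat.ofHom (algebraMap k (AlgebraicClosure k)))))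
      (Spec.map (CommRingCat.ofHom ι.toRingHom))) := inferInstance
  exact ((pullbackLeftPullbackSndIso f
    (Spec.map (CommRingCat.ofHom (algebraMap k (AlgebraicClosure k))))
    (Spec.map (CommRingCat.ofHom ι.toRingHom))).hom.homeomorph.connectedSpace_iff).mp hc

end Groth.Agent.S0268
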