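import Mathlib
import Groth.Statements.S0283
import Groth.Agent.S0076
-- import your own Groth.Agent.* helpers here

set_option autoImplicit false
universe u
open Pi1

namespace Groth.Agent.S0283


open AlgebraicGeometry CategoryTheory CategoryTheory.Limits in
/-- Let f : X → Y be a morphism of schemes which is integral, universally injective and surjective (that
is, a universal homeomorphism). Then base change along f, from finite étale covers of Y to finite
étale covers of X, is a full and faithful functor. -/
theorem result {X Y : Scheme.{u}} (f : X ⟶ Y) [IsIntegralHom f] [UniversallyInjective f] [Surjective f] :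
    (FEt.restrict f).Full ∧ (FEt.restrict f).Faithful := by
  constructor
  · refine ⟨fun {A B} ψ => ?_⟩
    haveI : Etale B.hom := B.prop.2
    have hw : ψ.left ≫ pullback.snd B.hom f = pullback.snd A.hom f := MorphismProperty.Over.w ψ
    obtain ⟨φl, hφ1, hφ2⟩ := Groth.Agent.S0076.surj_core f A.hom B.hom ψ.left hw
    refine ⟨MorphismProperty.Over.homMk φl hφ1 trivial, ?_⟩
    apply MorphismProperty.Over.Hom.ext
    apply pullback.hom_ext
    · have e1 : ((FEt.restrict f).map (MorphismProperty.Over.homMk φl hφ1 trivial)).left ≫
          pullback.fst B.hom f = pullback.fst A.hom f ≫ φl := pullback.lift_fst _ _ _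
      exact e1.trans hφ2
    · have e2 : ((FEt.restrict f).map (MorphismProperty.Over.homMk φl hφ1 trivial)).left ≫
          pullback.snd B.hom f = pullback.snd A.hom f := pullback.lift_snd _ _ _
      exact e2.trans hw.symm
  · refine ⟨fun {A B} g₁ g₂ h => ?_⟩
    haveI : Etale B.hom := B.prop.2
    have h' := congrArg (fun t => t.left ≫ pullback.fst B.hom f) h
    have e1 : ((FEt.restrict f).map g₁).left ≫ pullback.fst B.hom f =
        pullback.fst A.hom f ≫ g₁.left := pullback.lift_fst _ _ _
    have e2 : ((FEt.restrict f).map g₂).left ≫ pullback.fst B.hom f =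
        pullback.fst A.hom f ≫ g₂.left := pullback.lift_fst _ _ _
    haveI : Surjective (pullback.fst A.hom f) := MorphismProperty.pullback_fst _ _ inferInstance
    apply MorphismProperty.Over.Hom.ext
    apply Groth.Agent.S0076.eq_of_surj_precomp B.hom (pullback.fst A.hom f) g₁.left g₂.left
      (by rw [MorphismProperty.Over.w g₁, MorphismProperty.Over.w g₂])
    exact e1.symm.trans (h'.trans e2)

end Groth.Agent.S0283
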