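import Groth.Statements.S0294
import Mathlib

set_option autoImplicit false
universe u
open Pi1

namespace Groth.Agent.S0294

section Helpers
open AlgebraicGeometry CategoryTheory Limits

set_option backward.isDefEq.respectTransparency false in
theorem main0294 {X : Scheme.{u}} {Ω : Type u} [Field Ω] (ξ : Spec (CommRingCat.of Ω) ⟶ X)
    {Y : Scheme.{u}} (g : Y ⟶ X) [IsFinite g] :
    Finite {s : Spec (CommRingCat.of Ω) ⟶ Y // s ≫ g = ξ} := by
  haveI : IsAffine (pullback g ξ) := isAffine_of_isAffineHom (pullback.snd g ξ)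
  let ψ : CommRingCat.of Ω ⟶ Γ(pullback g ξ, ⊤) :=
    (Scheme.ΓSpecIso (CommRingCat.of Ω)).inv ≫ (pullback.snd g ξ).appTop
  letI : Algebra Ω Γ(pullback g ξ, ⊤) := ψ.hom.toAlgebra
  haveI : Module.Finite Ω Γ(pullback g ξ, ⊤) := by
    have h1 : (pullback.snd g ξ).appTop.hom.Finite := Scheme.Hom.finite_appTop _
    have h2 : ψ.hom.Finite := by
      have : ψ.hom = (pullback.snd g ξ).appTop.hom.comp
          (Scheme.ΓSpecIso (CommRingCat.of Ω)).inv.hom := rfl
      rw [this]
      refine h1.comp (RingHom.Finite.of_surjective _ ?_)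
      intro x
      refine ⟨(Scheme.ΓSpecIso (CommRingCat.of Ω)).hom.hom x, ?_⟩
      rw [← CommRingCat.comp_apply, Iso.hom_inv_id]; rfl
    exact h2
  let t : {s : Spec (CommRingCat.of Ω) ⟶ Y // s ≫ g = ξ} →
      (Spec (CommRingCat.of Ω) ⟶ pullback g ξ) :=
    fun s => pullback.lift s.1 (𝟙 _) (by rw [s.2, Category.id_comp])
  have ht1 : ∀ s, t s ≫ pullback.fst g ξ = s.1 := fun s => pullback.lift_fst _ _ _
  have ht2 : ∀ s, t s ≫ pullback.snd g ξ = 𝟙 _ := fun s => pullback.lift_snd _ _ _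
  let F : {s : Spec (CommRingCat.of Ω) ⟶ Y // s ≫ g = ξ} → (Γ(pullback g ξ, ⊤) →ₐ[Ω] Ω) :=
    fun s =>
    { toRingHom := ((t s).appTop ≫ (Scheme.ΓSpecIso (CommRingCat.of Ω)).hom).hom
      commutes' := fun r => by
        show ((t s).appTop ≫ (Scheme.ΓSpecIso (CommRingCat.of Ω)).hom).hom (ψ.hom r) = r
        have e1 : (pullback.snd g ξ).appTop ≫ (t s).appTop = 𝟙 _ := by
          rw [← Scheme.Hom.comp_appTop, ht2]; rfl
        have e2 : ψ ≫ (t s).appTop ≫ (Scheme.ΓSpecIso (CommRingCat.of Ω)).hom = 𝟙 _ := by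
          simp only [ψ, Category.assoc]
          rw [reassoc_of% e1]
          simp
        exact congr($(e2).hom r) }
  refine Finite.of_injective F ?_
  intro s s' h
  have h1 : (t s).appTop ≫ (Scheme.ΓSpecIso (CommRingCat.of Ω)).hom =
      (t s').appTop ≫ (Scheme.ΓSpecIso (CommRingCat.of Ω)).hom :=
    CommRingCat.hom_ext (RingHom.ext fun x => AlgHom.congr_fun h x)
  have h2 : (t s).appTop = (t s').appTop := by
    rwa [cancel_mono] at h1
  have h3 : t s = t s' := ext_of_isAffine h2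
  apply Subtype.ext
  rw [← ht1 s, ← ht1 s', h3]

end Helpers

open AlgebraicGeometry CategoryTheory CategoryTheory.Limits in
/-- For a finite étale cover Y of a scheme X and a point ξ : Spec Ω → X with values in a field Ω, the
fibre of Y over ξ (the set of Ω-valued points of Y lying over ξ) is finite. -/
theorem result {X : Scheme.{u}} {Ω : Type u} [Field Ω] (ξ : Spec (CommRingCat.of Ω) ⟶ X) (Y : FEt.Cat X) :
    Finite (FEt.fiberObj ξ Y) := by
  haveI : IsFinite Y.hom := Y.prop.1
  exact main0294 ξ Y.hom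

end Groth.Agent.S0294
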