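import Groth.Statements.S0299
import Groth.Agent.Lib.Helper7.InjHull

set_option autoImplicit false
universe u v
open InjHull

namespace Groth.Agent.S0299

/-- Every module over a commutative ring has an injective hull, i.e. an essential injection into an
injective module. -/
theorem result (R : Type u) [CommRing R] (M : Type u) [AddCommGroup M] [Module R M] : ∃ (E : Type u) (_ : AddCommGroup E) (_ : Module R E) (f : M →ₗ[R] E), InjHull.IsInjectiveHull f := by
  classical
  obtain ⟨⟨J, hJ, f, hf⟩⟩ := CategoryTheory.EnoughInjectives.presentation (ModuleCat.of R M)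
  haveI : CategoryTheory.Injective (ModuleCat.of R J) := hJ
  have hinjJ : Module.Injective R J := Module.injective_module_of_injective_object R J
  have hφ : Function.Injective f.hom := (ModuleCat.mono_iff_injective f).mp hf
  obtain ⟨E', C, hess, hcompl⟩ :=
    Groth.Agent.Helper7.IH.exists_summand_ess hinjJ (LinearMap.range f.hom)
  refine ⟨E', inferInstance, inferInstance,
    f.hom.codRestrict E' (fun m => hess.1 ⟨m, rfl⟩), ⟨?_, ?_⟩⟩
  · rw [Groth.Agent.Helper7.IH.isEssentialInj_iff]
    refine ⟨fun a b hab => hφ (congrArg Subtype.val hab), fun x hx => ?_⟩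
    have hx0 : (x : J) ≠ 0 := fun h => hx (Subtype.ext h)
    obtain ⟨r, hr, hr0⟩ := hess.2 (x : J) x.2 hx0
    refine ⟨r, ?_, fun h => hr0 (congrArg Subtype.val h)⟩
    obtain ⟨m, hm⟩ := hr
    exact ⟨m, Subtype.ext hm⟩
  · exact Groth.Agent.Helper7.IH.injective_of_isCompl hinjJ hcompl

end Groth.Agent.S0299
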