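import Groth.Statements.S0304
import Groth.Agent.Lib.Helper7.InjHull
-- import your own Groth.Agent.* helpers here

set_option autoImplicit false
universe u v
open InjHull

namespace Groth.Agent.S0304

/-- Let R be a commutative ring and E an indecomposable injective R-module. Then any two nonzero
submodules of E have nonzero intersection, and the set of elements r ∈ R such that r·x = 0 for some
nonzero x ∈ E is a prime ideal of R. -/
theorem result (R : Type u) [CommRing R] (E : Type u) [AddCommGroup E] [Module R E] (hE : InjHull.IsIndecomposable R E) (hinj : Module.Injective R E) : (∀ N N' : Submodule R E, N ≠ ⊥ → N' ≠ ⊥ → N ⊓ N' ≠ ⊥) ∧ ∃ p : Ideal R, p.IsPrime ∧ (p : Set R) = {r : R | ∃ x : E, x ≠ 0 ∧ r • x = 0} := by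
  open Groth.Agent.Helper7.IH in
  have hess : ∀ N : Submodule R E, N ≠ ⊥ → Ess N ⊤ := by
    intro N hN
    obtain ⟨E', C, hE', hcompl⟩ := exists_summand_ess hinj N
    rcases hE.2 E' C hcompl with h | h
    · exfalso; apply hN; rw [eq_bot_iff, ← h]; exact hE'.1
    · have : E' = ⊤ := by
        have := hcompl.sup_eq_top
        rwa [h, sup_bot_eq] at this
      rwa [this] at hE'
  have hmeet : ∀ N N' : Submodule R E, N ≠ ⊥ → N' ≠ ⊥ → N ⊓ N' ≠ ⊥ := by
    intro N N' hN hN'
    exact (hess N' hN').inf_ne_bot N le_top hN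
  refine ⟨hmeet, ?_⟩
  have := hE.1
  let p : Ideal R :=
    { carrier := {r : R | ∃ x : E, x ≠ 0 ∧ r • x = 0}
      zero_mem' := by
        obtain ⟨x, hx⟩ := exists_ne (0 : E)
        exact ⟨x, hx, zero_smul R x⟩
      add_mem' := by
        rintro r s ⟨x, hx, hrx⟩ ⟨y, hy, hsy⟩
        have h1 : (R ∙ x) ≠ ⊥ := fun h0 => hx ((Submodule.span_singleton_eq_bot).1 h0)
        have h2 : (R ∙ y) ≠ ⊥ := fun h0 => hy ((Submodule.span_singleton_eq_bot).1 h0)
        obtain ⟨z, hz, hz0⟩ := (Submodule.ne_bot_iff _).1 (hmeet _ _ h1 h2)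
        obtain ⟨a, ha⟩ := Submodule.mem_span_singleton.1 hz.1
        obtain ⟨b, hb⟩ := Submodule.mem_span_singleton.1 hz.2
        refine ⟨z, hz0, ?_⟩
        rw [add_smul]
        nth_rewrite 1 [← ha]
        rw [← hb, smul_comm r a x, smul_comm s b y, hrx, hsy, smul_zero, smul_zero, add_zero]
      smul_mem' := by
        rintro c r ⟨x, hx, hrx⟩
        exact ⟨x, hx, by rw [smul_eq_mul, mul_smul, hrx, smul_zero]⟩ }
  refine ⟨p, ?_, rfl⟩
  refine ⟨?_, ?_⟩
  · rw [Ideal.ne_top_iff_one]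
    rintro ⟨x, hx, h1x⟩
    rw [one_smul] at h1x
    exact hx h1x
  · rintro a b ⟨x, hx, habx⟩
    by_cases hbx : b • x = 0
    · exact Or.inr ⟨x, hx, hbx⟩
    · exact Or.inl ⟨b • x, hbx, by rw [← mul_smul]; exact habx⟩

end Groth.Agent.S0304
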