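import Groth.Statements.S0315
import Groth.Agent.Lib.Helper7.Melkersson
-- import your own Groth.Agent.* helpers here

set_option autoImplicit false
universe u v
open Matlis

namespace Groth.Agent.S0315

open IsLocalRing in
theorem powerTorsion_of_isArtinian (R : Type u) [CommRing R] [IsLocalRing R] [IsNoetherianRing R]
    (M : Type u) [AddCommGroup M] [Module R M] [IsArtinian R M] :
    LocCoh.IsPowerTorsion (maximalIdeal R) M := by
  intro x
  let P : ℕ →o (Submodule R M)ᵒᵈ :=
    ⟨fun n => OrderDual.toDual ((maximalIdeal R) ^ n • (R ∙ x)), fun i j hij =>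
      OrderDual.toDual_le_toDual.2 (Submodule.smul_mono_left (Ideal.pow_le_pow_right hij))⟩
  obtain ⟨n, hn⟩ := IsArtinian.monotone_stabilizes P
  have h1 : (maximalIdeal R) ^ n • (R ∙ x) = (maximalIdeal R) ^ (n + 1) • (R ∙ x) :=
    hn (n + 1) (Nat.le_succ n)
  have hfg : ((maximalIdeal R) ^ n • (R ∙ x)).FG := by
    have : IsNoetherian R (R ∙ x) := isNoetherian_of_fg_of_noetherian _ (Submodule.fg_span_singleton x)
    exact isNoetherian_submodule.1 this _ Submodule.smul_le_right
  have hbot : (maximalIdeal R) ^ n • (R ∙ x) = ⊥ := by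
    apply Submodule.eq_bot_of_le_smul_of_le_jacobson_bot (maximalIdeal R) _ hfg
    · conv_lhs => rw [h1, pow_succ', mul_smul]
    · exact maximalIdeal_le_jacobson _
  refine ⟨n, fun a ha => ?_⟩
  have : a • x ∈ (maximalIdeal R) ^ n • (R ∙ x) :=
    Submodule.smul_mem_smul ha (Submodule.mem_span_singleton_self x)
  rw [hbot, Submodule.mem_bot] at this
  exact this


/-- Over a Noetherian local ring a module has the descending chain condition exactly when it is killed
elementwise by powers of the maximal ideal and its socle is finite-dimensional over the residue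
field. -/
theorem result (R : Type u) [CommRing R] [IsLocalRing R] [IsNoetherianRing R] (M : Type u) [AddCommGroup M] [Module R M] : IsArtinian R M ↔ (LocCoh.IsPowerTorsion (IsLocalRing.maximalIdeal R) M ∧ Module.Finite (R ⧸ IsLocalRing.maximalIdeal R) ↥(LocCoh.torsionBy (IsLocalRing.maximalIdeal R) M)) := by
  let _ : Field (R ⧸ IsLocalRing.maximalIdeal R) := Ideal.Quotient.field _
  constructor
  · intro hM
    refine ⟨powerTorsion_of_isArtinian R M, ?_⟩
    have h1 : IsArtinian R ↥(LocCoh.torsionBy (IsLocalRing.maximalIdeal R) M) := inferInstance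
    have h2 : IsArtinian (R ⧸ IsLocalRing.maximalIdeal R)
        ↥(LocCoh.torsionBy (IsLocalRing.maximalIdeal R) M) := isArtinian_of_tower R h1
    exact (IsSemisimpleModule.finite_tfae.out 2 0).1 h2
  · rintro ⟨htors, hfin⟩
    apply Groth.Agent.Helper7.Melk.isArtinian_of_powerTorsion (IsLocalRing.maximalIdeal R)
      ((isNoetherianRing_iff_ideal_fg R).1 inferInstance _) htors
    have h2 : IsArtinian (R ⧸ IsLocalRing.maximalIdeal R)
        ↥(LocCoh.torsionBy (IsLocalRing.maximalIdeal R) M) := inferInstance
    exact isArtinian_of_surjective_algebraMap (S := R) (R := R ⧸ IsLocalRing.maximalIdeal R)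
      Ideal.Quotient.mk_surjective

end Groth.Agent.S0315
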