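import Groth.Statements.S0328
import Groth.Agent.H13.LCNonVan
import Groth.Agent.H13.LCRad

set_option autoImplicit false
universe u v
open LocCoh

namespace Groth.Agent.S0328

/-- In a Noetherian local ring, if a prime p and a proper ideal I together have radical the maximal
ideal and dim R/p = d ≥ 1, then local cohomology with support in I does not vanish in all degrees ≥
d. -/
theorem result (R : Type u) [CommRing R] [IsLocalRing R] [IsNoetherianRing R] (I : Ideal R) (hI : I ≠ ⊤) (p : Ideal R) [p.IsPrime] (hpI : (p ⊔ I).radical = IsLocalRing.maximalIdeal R) (d : ℕ) (hd : ringKrullDim (R ⧸ p) = d) (hd1 : 1 ≤ d) : ¬ LocCoh.CdLE R I (d - 1) := by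
  intro hcd
  have h1 : Subsingleton (LocCoh.H I d (R ⧸ p)) := hcd (R ⧸ p) d (by omega)
  have hpt : LocCoh.IsPowerTorsion p (R ⧸ p) := by
    intro x
    refine ⟨1, fun a ha => ?_⟩
    rw [pow_one] at ha
    obtain ⟨y, rfl⟩ := Ideal.Quotient.mk_surjective x
    rw [← Ideal.Quotient.mk_eq_mk, ← Submodule.Quotient.mk_smul, Ideal.Quotient.mk_eq_mk,
      Ideal.Quotient.eq_zero_iff_mem, smul_eq_mul]
    exact Ideal.mul_mem_right _ _ ha
  have h2 := Groth.Agent.H13.LC.subsingleton_sup_of_isPowerTorsion I p d (R ⧸ p) hpt h1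
  have hrad : (I ⊔ p).radical = (IsLocalRing.maximalIdeal R).radical := by
    rw [sup_comm, hpI, Ideal.radical_eq_iff.mpr (Ideal.IsPrime.isRadical inferInstance)]
  have h3 := (Groth.Agent.H13.LC.subsingleton_iff_of_radical_eq _ _ hrad d (R ⧸ p)).mp h2
  have h4 := Groth.Agent.H13.LC.nontrivial_top (R ⧸ p) d
    ((Module.supportDim_quotient_eq_ringKrullDim p).trans hd)
  exact not_subsingleton _ h3

end Groth.Agent.S0328
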