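import Groth.Statements.S0329
import Groth.Agent.H13.LCFaltings

set_option autoImplicit false
set_option linter.style.haveILetI false
universe u v
open LocCoh

namespace Groth.Agent.S0329

/-- Part (1): ⇔(2) with T = V(I) (Faltings): for a finite module M over a Noetherian ring, the local
cohomology modules H^i_I(M) for i ≤ n are all finitely generated exactly when some ideal J with I
contained in the radical of J kills all of them. -/
theorem result (R : Type u) [CommRing R] [IsNoetherianRing R] (I : Ideal R) (M : Type u) [AddCommGroup M] [Module R M] [Module.Finite R M] (n : ℕ) : (∀ i : ℕ, i ≤ n → Module.Finite R (LocCoh.H I i M)) ↔ ∃ J : Ideal R, I ≤ J.radical ∧ ∀ i : ℕ, i ≤ n → ∀ a ∈ J, ∀ x : LocCoh.H I i M, a • x = 0 := by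
  constructor
  · intro hfin
    have key : ∀ m ≤ n, ∃ K : ℕ, ∀ i ≤ m, ∀ a ∈ I ^ K, ∀ x : LocCoh.H I i M, a • x = 0 := by
      intro m
      induction m with
      | zero =>
        intro _
        haveI := hfin 0 (Nat.zero_le n)
        obtain ⟨k, hk⟩ := Groth.Agent.H13.LC.exists_pow_kills_of_finite I (LocCoh.H I 0 M)
          (Groth.Agent.H13.LC.isPowerTorsion I 0 _)
        refine ⟨k, fun i hi => ?_⟩
        obtain rfl : i = 0 := by omega
        exact hk
      | succ m ih =>
        intro hm
        obtain ⟨K, hK⟩ := ih (by omega)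
        haveI := hfin (m + 1) hm
        obtain ⟨k, hk⟩ := Groth.Agent.H13.LC.exists_pow_kills_of_finite I (LocCoh.H I (m + 1) M)
          (Groth.Agent.H13.LC.isPowerTorsion I (m + 1) _)
        refine ⟨max K k, fun i hi a ha x => ?_⟩
        rcases Nat.lt_or_ge i (m + 1) with h1 | h1
        · exact hK i (by omega) a (Ideal.pow_le_pow_right (le_max_left K k) ha) x
        · obtain rfl : i = m + 1 := by omega
          exact hk a (Ideal.pow_le_pow_right (le_max_right K k) ha) x
    obtain ⟨K, hK⟩ := key n le_rfl
    refine ⟨I ^ K, ?_, hK⟩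
    intro a ha
    exact ⟨K, Ideal.pow_mem_pow ha K⟩
  · rintro ⟨J, hJ, hkill⟩
    obtain ⟨k, hk⟩ := Ideal.exists_pow_le_of_le_radical_of_fg hJ (IsNoetherian.noetherian I)
    exact Groth.Agent.H13.LC.finite_of_kills I n M inferInstance k
      (fun i hi a ha x => hkill i hi a (hk ha) x)

end Groth.Agent.S0329
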