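import Groth.Statements.S0335
import Groth.Agent.H29.Hartshorne

set_option autoImplicit false
universe u v
open LocCoh

namespace Groth.Agent.S0335

/-- For the ring itself; Hartshorne's connectedness: if a Noetherian local ring has depth at least 2
then its punctured spectrum is connected. -/
theorem result (R : Type u) [CommRing R] [IsLocalRing R] [IsNoetherianRing R] (h : 2 ≤ LocCoh.depth R R) : IsConnected {x : PrimeSpectrum R | x.asIdeal ≠ IsLocalRing.maximalIdeal R} := by
  have h0 : LocCoh.depth R R ≠ 0 := by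
    intro h0
    rw [h0] at h
    exact absurd h (by simp)
  obtain ⟨z, hzm, hzreg⟩ := Groth.Agent.H29.exists_isSMulRegular_mem_of_depth_ne_zero R R h0
    (IsLocalRing.maximalIdeal R)
    (fun P hP hle => ((IsLocalRing.maximalIdeal.isMaximal R).eq_of_le hP.ne_top hle).symm)
  obtain ⟨p, hp, hpm⟩ := Ideal.exists_minimalPrimes_le (I := ⊥) (J := IsLocalRing.maximalIdeal R)
    bot_le
  have hpprime : p.IsPrime := hp.1.1
  have hzp : z ∉ p := by
    intro hz
    have hz' : z ∈ nonZeroDivisors R := by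
      rw [mem_nonZeroDivisors_iff_right]
      intro w hw
      exact hzreg (by simpa [mul_comm] using hw)
    exact Set.disjoint_left.mp (Ideal.disjoint_nonZeroDivisors_of_mem_minimalPrimes hp) hz hz'
  have hpne : p ≠ IsLocalRing.maximalIdeal R := fun e => hzp (e ▸ hzm)
  refine ⟨⟨⟨p, hpprime⟩, hpne⟩, ?_⟩
  rw [isPreconnected_closed_iff]
  intro t t' ht ht' hcover hne hne'
  obtain ⟨a, rfl⟩ := (PrimeSpectrum.isClosed_iff_zeroLocus_ideal t).mp ht
  obtain ⟨b, rfl⟩ := (PrimeSpectrum.isClosed_iff_zeroLocus_ideal t').mp ht'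
  by_contra hcon
  rw [Set.not_nonempty_iff_eq_empty] at hcon
  have hprim : ∀ P : Ideal R, P.IsPrime → a ⊔ b ≤ P → P = IsLocalRing.maximalIdeal R := by
    intro P hP hle
    by_contra hPm
    have hmem : (⟨P, hP⟩ : PrimeSpectrum R) ∈
        ({x : PrimeSpectrum R | x.asIdeal ≠ IsLocalRing.maximalIdeal R} ∩
          (PrimeSpectrum.zeroLocus (a : Set R) ∩ PrimeSpectrum.zeroLocus (b : Set R))) := by
      refine ⟨hPm, ?_, ?_⟩
      · rw [PrimeSpectrum.mem_zeroLocus, SetLike.coe_subset_coe]
        exact le_sup_left.trans hle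
      · rw [PrimeSpectrum.mem_zeroLocus, SetLike.coe_subset_coe]
        exact le_sup_right.trans hle
    rw [hcon] at hmem
    exact hmem
  have hmulP : ∀ P : Ideal R, P.IsPrime → P ≠ IsLocalRing.maximalIdeal R → a * b ≤ P := by
    intro P hP hPm
    have hPS : (⟨P, hP⟩ : PrimeSpectrum R) ∈
        {x : PrimeSpectrum R | x.asIdeal ≠ IsLocalRing.maximalIdeal R} := hPm
    rcases hcover hPS with h1 | h1
    · rw [PrimeSpectrum.mem_zeroLocus, SetLike.coe_subset_coe] at h1
      exact Ideal.mul_le_left.trans h1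
    · rw [PrimeSpectrum.mem_zeroLocus, SetLike.coe_subset_coe] at h1
      exact Ideal.mul_le_right.trans h1
  have hab : a * b ≤ nilradical R := by
    rw [nilradical_eq_sInf]
    refine le_sInf (fun P hP => ?_)
    have hP' : P.IsPrime := hP
    by_cases hPm : P = IsLocalRing.maximalIdeal R
    · rw [hPm]
      exact (hmulP p hpprime hpne).trans hpm
    · exact hmulP P hP' hPm
  rcases Groth.Agent.H29.le_nilradical_or_le_nilradical R h a b hab hprim with h1 | h1
  · obtain ⟨Q, hQS, hQb⟩ := hne'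
    have hmem : Q ∈ ({x : PrimeSpectrum R | x.asIdeal ≠ IsLocalRing.maximalIdeal R} ∩
          (PrimeSpectrum.zeroLocus (a : Set R) ∩ PrimeSpectrum.zeroLocus (b : Set R))) := by
      refine ⟨hQS, ?_, hQb⟩
      rw [PrimeSpectrum.mem_zeroLocus, SetLike.coe_subset_coe]
      exact h1.trans (nilradical_le_prime _)
    rw [hcon] at hmem
    exact hmem
  · obtain ⟨Q, hQS, hQa⟩ := hne
    have hmem : Q ∈ ({x : PrimeSpectrum R | x.asIdeal ≠ IsLocalRing.maximalIdeal R} ∩
          (PrimeSpectrum.zeroLocus (a : Set R) ∩ PrimeSpectrum.zeroLocus (b : Set R))) := by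
      refine ⟨hQS, hQa, ?_⟩
      rw [PrimeSpectrum.mem_zeroLocus, SetLike.coe_subset_coe]
      exact h1.trans (nilradical_le_prime _)
    rw [hcon] at hmem
    exact hmem

end Groth.Agent.S0335
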