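import Mathlib
import Groth.Statements.S0337
import Groth.Agent.Lib.Helper9.FrobFree
-- import your own Groth.Agent.* helpers here

set_option autoImplicit false
universe u v
open CategoryTheory
open LocCoh

namespace Groth.Agent.S0337


/-- Over a Noetherian local ring of prime characteristic p, a finite module isomorphic to its own base
change along Frobenius is free. -/
theorem result (p : ℕ) [Fact p.Prime] (R : Type u) [CommRing R] [IsLocalRing R] [IsNoetherianRing R] [CharP R p] (M : Type u) [AddCommGroup M] [Module R M] [Module.Finite R M] (h : Nonempty ((ModuleCat.extendScalars (frobenius R p)).obj (ModuleCat.of R M) ≅ ModuleCat.of R M)) : Module.Free R M := by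
  classical
  obtain ⟨iso⟩ := h
  haveI : Module.FinitePresentation R M := Module.finitePresentation_of_finite R M
  let f : R →+* R := frobenius R p
  let S' : ModuleCat R := (ModuleCat.restrictScalars f).obj (ModuleCat.of R R)
  let N : ModuleCat R := (ModuleCat.extendScalars f).obj (ModuleCat.of R M)
  let ℓ : FrobAlg.Twist p R ≃ₗ[R] S' :=
    { toFun := fun t => ((FrobAlg.toTwist p R).symm t : R)
      invFun := fun s => FrobAlg.toTwist p R (s : R)
      map_add' := fun a b => rfl
      map_smul' := fun r t => rfl
      left_inv := fun t => rfl
      right_inv := fun s => rfl }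
  let c : TensorProduct R (FrobAlg.Twist p R) M ≃ₗ[R] TensorProduct R S' M :=
    TensorProduct.congr ℓ (LinearEquiv.refl R M)
  let g : N →ₗ[R] M := iso.hom.hom
  let c' : TensorProduct R (FrobAlg.Twist p R) M →+ N := c.toLinearMap.toAddMonoidHom
  let ge : TensorProduct R (FrobAlg.Twist p R) M →+ M := g.toAddMonoidHom.comp c'
  have hge : ∀ (t : FrobAlg.Twist p R) (z : TensorProduct R (FrobAlg.Twist p R) M),
      ge (t • z) = ((FrobAlg.toTwist p R).symm t : R) • ge z := by
    intro t z
    induction z using TensorProduct.induction_on with
    | zero => rw [smul_zero, map_zero, smul_zero]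
    | tmul t' m =>
      rw [TensorProduct.smul_tmul', smul_eq_mul]
      show g (c (TensorProduct.tmul R (t * t') m)) = _ • g (c (TensorProduct.tmul R t' m))
      rw [TensorProduct.congr_tmul, TensorProduct.congr_tmul, ← map_smul]
      rfl
    | add a b ha hb => rw [smul_add, map_add, ha, hb, map_add, smul_add]
  let e : (TensorProduct R (FrobAlg.Twist p R) M)
      →ₛₗ[((FrobAlg.toTwist p R).symm : FrobAlg.Twist p R →+* R)] M :=
    { toFun := ge, map_add' := map_add ge, map_smul' := hge }
  have he : Function.Bijective e := by
    show Function.Bijective (fun z => iso.toLinearEquiv (c z))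
    exact iso.toLinearEquiv.bijective.comp c.bijective
  exact Groth.Agent.Helper9.FrobFree.free_of_frob p e he

end Groth.Agent.S0337
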