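import Groth.Statements.S0340
import Groth.Agent.H29.Bass

set_option autoImplicit false
universe u v
open CategoryTheory
open Goren

namespace Groth.Agent.S0340

/-- A Noetherian local ring is Gorenstein exactly when Ext^i(κ, A) vanishes for all large i. -/
theorem result (A : Type u) [CommRing A] [IsLocalRing A] [IsNoetherianRing A] : LocCoh.IsGorensteinLocalRing A ↔ ∃ N : ℕ, ∀ i : ℕ, N ≤ i → Subsingleton (Abelian.Ext (ModuleCat.of A (IsLocalRing.ResidueField A)) (ModuleCat.of A A) i) := by
  constructor
  · intro hG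
    obtain ⟨n, hn⟩ := hG.exists_hasInjectiveDimensionLT
    exact ⟨n, fun i hi => HasInjectiveDimensionLT.subsingleton (ModuleCat.of A A) n i hi _⟩
  · rintro ⟨N₀, hN⟩
    exact { exists_hasInjectiveDimensionLT := ⟨N₀ + 1,
      Groth.Agent.H29.hasInjectiveDimensionLT_of_residueField A A N₀ (fun i hi => hN i hi.le)⟩ }

end Groth.Agent.S0340
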