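import Groth.Statements.S0346
import Groth.Agent.H28.GrpShear

set_option autoImplicit false
universe u v
open CategoryTheory MonoidalCategory CartesianMonoidalCategory MonObj GrpObj AlgebraicGeometry
open GrpSch

namespace Groth.Agent.S0346

/-- A group scheme over any base scheme is separated over the base exactly when its unit section is a
closed immersion, and quasi-separated exactly when the unit section is quasi-compact. -/
theorem result (S : Scheme.{u}) (G : Over S) [GrpObj G] : (IsSeparated G.hom ↔ IsClosedImmersion η[G].left) ∧ (QuasiSeparated G.hom ↔ QuasiCompact η[G].left) := by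
  have sq1 := (Groth.Agent.H28.GrpShear.isPullback_diag_unit G).map (Over.forget S)
  have sq2 := (Groth.Agent.H28.GrpShear.isPullback_section η[G]).map (Over.forget S)
  simp only [Over.forget_map] at sq1 sq2
  have hdiag : (lift (𝟙 G) (𝟙 G) : G ⟶ G ⊗ G).left = Limits.pullback.diagonal G.hom := rfl
  rw [hdiag] at sq1 sq2
  refine ⟨⟨fun h => ?_, fun h => ⟨?_⟩⟩, ⟨fun h => ?_, fun h => ⟨?_⟩⟩⟩
  · exact MorphismProperty.of_isPullback (P := @IsClosedImmersion) sq2.flip h.isClosedImmersion_diagonal
  · exact MorphismProperty.of_isPullback (P := @IsClosedImmersion) sq1.flip h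
  · exact MorphismProperty.of_isPullback (P := @QuasiCompact) sq2.flip h.quasiCompact_diagonal
  · exact MorphismProperty.of_isPullback (P := @QuasiCompact) sq1.flip h


end Groth.Agent.S0346
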