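import Groth.Statements.S0349
import Groth.Agent.H28.GrpDense
import Mathlib.AlgebraicGeometry.PullbackCarrier

set_option autoImplicit false
universe u v
open CategoryTheory MonoidalCategory CartesianMonoidalCategory MonObj GrpObj AlgebraicGeometry
open GrpSch

namespace Groth.Agent.S0349

/-- An irreducible group scheme over a field is quasi-compact. -/
theorem result (K : Type u) [Field K] (G : Over (Spec (CommRingCat.of K))) [GrpObj G] [IrreducibleSpace G.left] : CompactSpace G.left := by
  obtain ⟨x⟩ : Nonempty G.left := inferInstance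
  obtain ⟨_, ⟨U, hU, rfl⟩, hxU, -⟩ :=
    G.left.isBasis_affineOpens.exists_subset_of_mem_open (Set.mem_univ x) isOpen_univ
  have hUd : Dense (U : Set G.left) := U.isOpen.dense ⟨x, hxU⟩
  have key := Groth.Agent.H28.GrpDense.mul_image_dense K G U U U.isOpen hUd hUd
  have hcomp : IsCompact ((fst G G).left ⁻¹' (U : Set G.left) ∩
      (snd G G).left ⁻¹' (U : Set G.left)) := by
    have haff : IsAffine (Scheme.Opens.toScheme (X := G.left) U) := hU
    have e : (fst G G).left ⁻¹' (U : Set G.left) ∩ (snd G G).left ⁻¹' (U : Set G.left) =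
        Set.range (Limits.pullback.map ((Scheme.Opens.ι (X := G.left) U) ≫ G.hom) ((Scheme.Opens.ι (X := G.left) U) ≫ G.hom) G.hom G.hom (Scheme.Opens.ι (X := G.left) U) (Scheme.Opens.ι (X := G.left) U) (𝟙 _)
          (by simp) (by simp)) := by
      rw [Scheme.Pullback.range_map, Scheme.Opens.range_ι]
      rfl
    rw [e]
    exact isCompact_range (Scheme.Hom.continuous _)
  constructor
  rw [← key]
  exact hcomp.image μ[G].left.continuous

end Groth.Agent.S0349
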