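import Groth.Statements.S0351
import Groth.Agent.H28.GrpCoset
import Mathlib.AlgebraicGeometry.Morphisms.UniversallyOpen

set_option autoImplicit false
universe u v
open CategoryTheory MonoidalCategory CartesianMonoidalCategory MonObj GrpObj AlgebraicGeometry
open GrpSch

namespace Groth.Agent.S0351

/-- A homomorphism of group schemes over a field which is an immersion is a closed immersion. -/
theorem result (K : Type u) [Field K] (H G : Over (Spec (CommRingCat.of K))) [GrpObj H] [GrpObj G] (i : H ⟶ G) [IsMonHom i] [IsImmersion i.left] : IsClosedImmersion i.left := by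
  refine IsClosedImmersion.of_isPreimmersion _ ?_
  obtain ⟨O, Z, hO, hZ, hR⟩ := IsImmersion.isLocallyClosed_range (f := i.left)
  rw [← closure_subset_iff_isClosed]
  intro x hx
  let T : Over (Spec (CommRingCat.of K)) := Over.mk (G.left.fromSpecResidueField x ≫ G.hom)
  let t : T ⟶ G := Over.homMk (G.left.fromSpecResidueField x) rfl
  have ht : ∀ z : T.left, t.left z = x := fun z => Scheme.fromSpecResidueField_apply x z
  have hx'c : lift (𝟙 T) t ≫ ((snd T G)⁻¹ * (fst T G ≫ t)) = (toUnit T ≫ η[H]) ≫ i := by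
    rw [MonObj.comp_mul, GrpObj.comp_inv, lift_snd, lift_fst_assoc, Category.id_comp,
      inv_mul_cancel, Category.assoc, IsMonHom.one_hom, Hom.one_def]
  obtain ⟨pt⟩ : Nonempty T.left := by
    show Nonempty (Spec (G.left.residueField x))
    infer_instance
  have hopen : IsOpenMap (snd T G).left := by
    have : UniversallyOpen (snd T G).left := by
      rw [Over.snd_left]
      infer_instance
    exact (snd T G).left.isOpenMap
  have hopenH : IsOpenMap (snd H G).left := by
    have : UniversallyOpen (snd H G).left := by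
      rw [Over.snd_left]
      infer_instance
    exact (snd H G).left.isOpenMap
  have hx'cl : (lift (𝟙 T) t).left pt ∈ closure ((snd T G).left ⁻¹' Set.range i.left) := by
    rw [← hopen.preimage_closure_eq_closure_preimage (snd T G).left.continuous]
    show (snd T G).left ((lift (𝟙 T) t).left pt) ∈ closure _
    rw [← Scheme.Hom.comp_apply, ← Over.comp_left, lift_snd, ht pt]
    exact hx
  have hcO : IsOpen (((snd T G)⁻¹ * (fst T G ≫ t)).left ⁻¹' O) :=
    hO.preimage ((snd T G)⁻¹ * (fst T G ≫ t)).left.continuous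
  have hx'O : (lift (𝟙 T) t).left pt ∈ ((snd T G)⁻¹ * (fst T G ≫ t)).left ⁻¹' O := by
    have h0 : ((snd T G)⁻¹ * (fst T G ≫ t)).left ((lift (𝟙 T) t).left pt) ∈ Set.range i.left := by
      refine ⟨(toUnit T ≫ η[H]).left pt, ?_⟩
      rw [← Scheme.Hom.comp_apply, ← Scheme.Hom.comp_apply, ← Over.comp_left, ← Over.comp_left,
        hx'c]
    rw [hR] at h0
    exact h0.1
  obtain ⟨y, hyO, hyR⟩ := mem_closure_iff.mp hx'cl _ hcO hx'O
  -- the twisted multiplication `(h, g) ↦ i(h)⁻¹ g`
  have claim1 : ∀ v : (H ⊗ G).left, (snd H G).left v ∈ Set.range i.left →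
      ((fst H G ≫ i)⁻¹ * snd H G).left v ∈ Set.range i.left := by
    rintro v ⟨h, hh⟩
    have sq : IsPullback (H ◁ i).left (snd H H).left (snd H G).left i.left :=
      (Groth.Agent.H28.CartPB.isPullback_whiskerLeft H i).map (Over.forget _)
    obtain ⟨v', hv'1, hv'2⟩ :=
      Groth.Agent.H28.CartPB.exists_preimage_of_isPullback sq v h hh.symm
    have e : (H ◁ i) ≫ ((fst H G ≫ i)⁻¹ * snd H G) = ((fst H H)⁻¹ * snd H H) ≫ i := by
      rw [MonObj.comp_mul, GrpObj.comp_inv, whiskerLeft_fst_assoc, whiskerLeft_snd, MonObj.mul_comp,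
        GrpObj.inv_comp]
    refine ⟨((fst H H)⁻¹ * snd H H).left v', ?_⟩
    rw [← Scheme.Hom.comp_apply, ← Over.comp_left, ← e, Over.comp_left, Scheme.Hom.comp_apply, hv'1]
  have claim2 : ∀ v : (H ⊗ G).left, (snd H G).left v ∈ closure (Set.range i.left) →
      ((fst H G ≫ i)⁻¹ * snd H G).left v ∈ closure (Set.range i.left) := by
    intro v hv
    have hv' : v ∈ closure ((snd H G).left ⁻¹' Set.range i.left) := by
      rw [← hopenH.preimage_closure_eq_closure_preimage (snd H G).left.continuous]
      exact hv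
    have h3 := image_closure_subset_closure_image
      ((fst H G ≫ i)⁻¹ * snd H G).left.continuous (Set.mem_image_of_mem _ hv')
    refine closure_mono ?_ h3
    rintro _ ⟨v₀, hv₀, rfl⟩
    exact claim1 v₀ hv₀
  have hcy : ((snd T G)⁻¹ * (fst T G ≫ t)).left y ∈ closure (Set.range i.left) := by
    have sqT : IsPullback (T ◁ i).left (snd T H).left (snd T G).left i.left :=
      (Groth.Agent.H28.CartPB.isPullback_whiskerLeft T i).map (Over.forget _)
    obtain ⟨h₁, hh₁⟩ := hyR
    obtain ⟨w, hw1, hw2⟩ :=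
      Groth.Agent.H28.CartPB.exists_preimage_of_isPullback sqT y h₁ hh₁.symm
    have eρ : lift (snd T H) (fst T H ≫ t) ≫ ((fst H G ≫ i)⁻¹ * snd H G) =
        (T ◁ i) ≫ ((snd T G)⁻¹ * (fst T G ≫ t)) := by
      rw [MonObj.comp_mul, GrpObj.comp_inv, lift_fst_assoc, lift_snd, MonObj.comp_mul,
        GrpObj.comp_inv, whiskerLeft_snd, whiskerLeft_fst_assoc]
    have hρ : (snd H G).left ((lift (snd T H) (fst T H ≫ t)).left w) = x := by
      rw [← Scheme.Hom.comp_apply, ← Over.comp_left, lift_snd, Over.comp_left,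
        Scheme.Hom.comp_apply]
      exact ht _
    have h4 : ((snd T G)⁻¹ * (fst T G ≫ t)).left y =
        ((fst H G ≫ i)⁻¹ * snd H G).left ((lift (snd T H) (fst T H ≫ t)).left w) := by
      rw [← hw1, ← Scheme.Hom.comp_apply, ← Scheme.Hom.comp_apply, ← Over.comp_left,
        ← Over.comp_left, eρ]
    rw [h4]
    exact claim2 _ (by rw [hρ]; exact hx)
  have hRZ : Set.range i.left ⊆ Z := by
    rw [hR]; exact Set.inter_subset_right
  have hcyR : ((snd T G)⁻¹ * (fst T G ≫ t)).left y ∈ Set.range i.left := by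
    rw [hR]
    exact ⟨hyO, closure_minimal hRZ hZ hcy⟩
  have hfin := Groth.Agent.H28.GrpCoset.mem_range_of_translate H G i T t y hyR hcyR
  rwa [ht] at hfin

end Groth.Agent.S0351
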