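import Groth.Statements.S0352
import Groth.Agent.H28.CartPB
import Mathlib.AlgebraicGeometry.Morphisms.UniversallyOpen

set_option autoImplicit false
universe u v
open CategoryTheory MonoidalCategory CartesianMonoidalCategory MonObj GrpObj AlgebraicGeometry
open GrpSch

namespace Groth.Agent.S0352

/-- If the image of a homomorphism of group schemes over a field is open, it is also closed. -/
theorem result (K : Type u) [Field K] (H G : Over (Spec (CommRingCat.of K))) [GrpObj H] [GrpObj G] (ψ : H ⟶ G) [IsMonHom ψ] (h : IsOpen (Set.range ψ.left)) : IsClosed (Set.range ψ.left) := by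
  rw [← closure_subset_iff_isClosed]
  intro x hx
  let T : Over (Spec (CommRingCat.of K)) := Over.mk (G.left.fromSpecResidueField x ≫ G.hom)
  let t : T ⟶ G := Over.homMk (G.left.fromSpecResidueField x) rfl
  have ht : ∀ z : T.left, t.left z = x := fun z => Scheme.fromSpecResidueField_apply x z
  let c : T ⊗ G ⟶ G := (snd T G)⁻¹ * (fst T G ≫ t)
  let x' : T ⟶ T ⊗ G := lift (𝟙 T) t
  have hx'c : x' ≫ c = (toUnit T ≫ η[H]) ≫ ψ := by
    show lift (𝟙 T) t ≫ ((snd T G)⁻¹ * (fst T G ≫ t)) = _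
    rw [MonObj.comp_mul, GrpObj.comp_inv, lift_snd, lift_fst_assoc, Category.id_comp,
      inv_mul_cancel, Category.assoc, IsMonHom.one_hom, Hom.one_def]
  obtain ⟨pt⟩ : Nonempty T.left := by
    show Nonempty (Spec (G.left.residueField x))
    infer_instance
  have hopen : IsOpenMap (snd T G).left := by
    have : UniversallyOpen (snd T G).left := by
      rw [Over.snd_left]
      infer_instance
    exact (snd T G).left.isOpenMap
  have hN : IsOpen (c.left ⁻¹' Set.range ψ.left) := h.preimage c.left.continuous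
  have hxN : x'.left pt ∈ c.left ⁻¹' Set.range ψ.left := by
    show c.left (x'.left pt) ∈ Set.range ψ.left
    refine ⟨(toUnit T ≫ η[H]).left pt, ?_⟩
    rw [← Scheme.Hom.comp_apply, ← Scheme.Hom.comp_apply, ← Over.comp_left, ← Over.comp_left, hx'c]
  have hxO : x ∈ (snd T G).left '' (c.left ⁻¹' Set.range ψ.left) := by
    refine ⟨x'.left pt, hxN, ?_⟩
    rw [← Scheme.Hom.comp_apply, ← Over.comp_left, lift_snd]
    exact ht pt
  obtain ⟨_, ⟨y, hyN, rfl⟩, ⟨h₁, hh₁⟩⟩ := mem_closure_iff.mp hx _ (hopen _ hN) hxO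
  obtain ⟨h₂, hh₂⟩ := hyN
  have sq₁ : IsPullback (Limits.pullback.fst (snd T G) ψ).left (Limits.pullback.snd (snd T G) ψ).left
      (snd T G).left ψ.left := (IsPullback.of_hasPullback (snd T G) ψ).map (Over.forget _)
  obtain ⟨p₁, hp₁y, hp₁h⟩ := Groth.Agent.H28.CartPB.exists_preimage_of_isPullback sq₁ y h₁ hh₁.symm
  have sq₂ : IsPullback (Limits.pullback.fst (Limits.pullback.fst (snd T G) ψ ≫ c) ψ).left
      (Limits.pullback.snd (Limits.pullback.fst (snd T G) ψ ≫ c) ψ).left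
      (Limits.pullback.fst (snd T G) ψ ≫ c).left ψ.left :=
    (IsPullback.of_hasPullback (Limits.pullback.fst (snd T G) ψ ≫ c) ψ).map (Over.forget _)
  obtain ⟨p₂, hp₂, hp₂h⟩ := Groth.Agent.H28.CartPB.exists_preimage_of_isPullback sq₂ p₁ h₂
    (by rw [Over.comp_left, Scheme.Hom.comp_apply, hp₁y, hh₂])
  have key : ∀ {Q : Over (Spec (CommRingCat.of K))} (q : Q ⟶ T ⊗ G) (u₁ u₂ : Q ⟶ H),
      q ≫ snd T G = u₁ ≫ ψ → q ≫ c = u₂ ≫ ψ → (q ≫ fst T G) ≫ t = (u₁ * u₂) ≫ ψ := by
    intro Q q u₁ u₂ e₁ e₂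
    rw [MonObj.mul_comp, ← e₁, ← e₂]
    show _ = _ * (q ≫ ((snd T G)⁻¹ * (fst T G ≫ t)))
    rw [MonObj.comp_mul, GrpObj.comp_inv, mul_inv_cancel_left, Category.assoc]
  have e₁ : (Limits.pullback.fst (Limits.pullback.fst (snd T G) ψ ≫ c) ψ ≫
      Limits.pullback.fst (snd T G) ψ) ≫ snd T G =
      (Limits.pullback.fst (Limits.pullback.fst (snd T G) ψ ≫ c) ψ ≫
        Limits.pullback.snd (snd T G) ψ) ≫ ψ := by
    rw [Category.assoc, Category.assoc, Limits.pullback.condition]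
  have e₂ : (Limits.pullback.fst (Limits.pullback.fst (snd T G) ψ ≫ c) ψ ≫
      Limits.pullback.fst (snd T G) ψ) ≫ c =
      Limits.pullback.snd (Limits.pullback.fst (snd T G) ψ ≫ c) ψ ≫ ψ := by
    rw [Category.assoc, Limits.pullback.condition]
  have e₃ : ((Limits.pullback.fst (Limits.pullback.fst (snd T G) ψ ≫ c) ψ ≫
      Limits.pullback.fst (snd T G) ψ) ≫ fst T G) ≫ t =
      ((Limits.pullback.fst (Limits.pullback.fst (snd T G) ψ ≫ c) ψ ≫
        Limits.pullback.snd (snd T G) ψ) *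
        Limits.pullback.snd (Limits.pullback.fst (snd T G) ψ ≫ c) ψ) ≫ ψ := by
    exact key _ _ _ e₁ e₂
  refine ⟨((Limits.pullback.fst (Limits.pullback.fst (snd T G) ψ ≫ c) ψ ≫
        Limits.pullback.snd (snd T G) ψ) *
        Limits.pullback.snd (Limits.pullback.fst (snd T G) ψ ≫ c) ψ).left p₂, ?_⟩
  rw [← Scheme.Hom.comp_apply, ← Over.comp_left, ← e₃, Over.comp_left, Scheme.Hom.comp_apply]
  exact ht _

end Groth.Agent.S0352
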