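import Groth.Statements.S0358
import Mathlib
import Groth.Agent.Lib.Helper8.RegLift
import Groth.Agent.H29.DepthFinite

set_option autoImplicit false
universe u v
open LocCoh

namespace Groth.Agent.S0358

/-- For a flat local homomorphism R → S of Noetherian local rings whose closed fibre S/m_R S is
Cohen–Macaulay, and a proper ideal I of S, the I-depth of S is at least dim(S/m_R S) − dim(S/(m_R S
+ I)); stated additively. -/
theorem result (R : Type u) [CommRing R] [IsLocalRing R] [IsNoetherianRing R] (S : Type u) [CommRing S] [IsLocalRing S] [IsNoetherianRing S] [Algebra R S] [IsLocalHom (algebraMap R S)] [Module.Flat R S] (hCM : LocCoh.IsCohenMacaulayLocalRing (S ⧸ (IsLocalRing.maximalIdeal R).map (algebraMap R S))) (I : Ideal S) (hI : I ≠ ⊤) : ringKrullDim (S ⧸ (IsLocalRing.maximalIdeal R).map (algebraMap R S)) ≤ ringKrullDim (S ⧸ ((IsLocalRing.maximalIdeal R).map (algebraMap R S) ⊔ I)) + ((LocCoh.idealDepth I S : ℕ∞) : WithBot ℕ∞) := by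
  classical
  haveI hloc : IsLocalRing (S ⧸ (IsLocalRing.maximalIdeal R).map (algebraMap R S)) :=
    hCM.toIsLocalRing
  have hJle : (IsLocalRing.maximalIdeal R).map (algebraMap R S) ≤ IsLocalRing.maximalIdeal S :=
    IsLocalRing.map_maximalIdeal_le (algebraMap R S)
  have hIle : I ≤ IsLocalRing.maximalIdeal S := IsLocalRing.le_maximalIdeal hI
  -- the image of `I` in the closed fibre is proper
  have hIbar : I.map (algebraMap S (S ⧸ (IsLocalRing.maximalIdeal R).map (algebraMap R S))) ≠ ⊤ := by
    intro htop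
    have h1 : (1 : S ⧸ (IsLocalRing.maximalIdeal R).map (algebraMap R S)) ∈
        I.map (algebraMap S (S ⧸ (IsLocalRing.maximalIdeal R).map (algebraMap R S))) := by
      rw [htop]
      exact Submodule.mem_top
    rw [Ideal.Quotient.algebraMap_eq, Ideal.mem_map_iff_of_surjective _ Ideal.Quotient.mk_surjective] at h1
    obtain ⟨i, hi, hi1⟩ := h1
    have h2 : i - 1 ∈ (IsLocalRing.maximalIdeal R).map (algebraMap R S) := by
      rw [← Ideal.Quotient.eq]
      exact hi1
    have h3 : (1 : S) ∈ IsLocalRing.maximalIdeal S := by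
      have := (IsLocalRing.maximalIdeal S).sub_mem (hIle hi) (hJle h2)
      rwa [sub_sub_cancel] at this
    exact (IsLocalRing.maximalIdeal.isMaximal S).ne_top ((Ideal.eq_top_iff_one _).mpr h3)
  have hM : LocCoh.IsCohenMacaulayModule (S ⧸ (IsLocalRing.maximalIdeal R).map (algebraMap R S))
      (S ⧸ (IsLocalRing.maximalIdeal R).map (algebraMap R S)) := hCM.supportDim_eq_depth
  have h1 := Groth.Agent.H29.supportDim_eq_add_idealDepth_of_CM
    (S ⧸ (IsLocalRing.maximalIdeal R).map (algebraMap R S))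
    (I.map (algebraMap S (S ⧸ (IsLocalRing.maximalIdeal R).map (algebraMap R S)))) hIbar
    (S ⧸ (IsLocalRing.maximalIdeal R).map (algebraMap R S)) hM
  have hsm : (I.map (algebraMap S (S ⧸ (IsLocalRing.maximalIdeal R).map (algebraMap R S)))) •
      (⊤ : Submodule (S ⧸ (IsLocalRing.maximalIdeal R).map (algebraMap R S))
        (S ⧸ (IsLocalRing.maximalIdeal R).map (algebraMap R S))) =
      I.map (algebraMap S (S ⧸ (IsLocalRing.maximalIdeal R).map (algebraMap R S))) := by
    rw [smul_eq_mul, Ideal.mul_top]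
  rw [hsm, Module.supportDim_self_eq_ringKrullDim, Module.supportDim_quotient_eq_ringKrullDim] at h1
  have h2 : ringKrullDim ((S ⧸ (IsLocalRing.maximalIdeal R).map (algebraMap R S)) ⧸
      I.map (algebraMap S (S ⧸ (IsLocalRing.maximalIdeal R).map (algebraMap R S)))) =
      ringKrullDim (S ⧸ ((IsLocalRing.maximalIdeal R).map (algebraMap R S) ⊔ I)) :=
    ringKrullDim_eq_of_ringEquiv
      (DoubleQuot.quotQuotEquivQuotSup ((IsLocalRing.maximalIdeal R).map (algebraMap R S)) I)
  have h3 := Groth.Agent.H29.idealDepth_eq_idealDepth_map S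
    (S ⧸ (IsLocalRing.maximalIdeal R).map (algebraMap R S)) I
    (S ⧸ (IsLocalRing.maximalIdeal R).map (algebraMap R S))
  rw [h2, ← h3] at h1
  rw [h1]
  -- compare depths of `S / m S` and `S` as `S`-modules
  have hIS : I • (⊤ : Submodule S S) ≠ ⊤ := by
    rw [smul_eq_mul, Ideal.mul_top]
    exact hI
  have hISbar : I • (⊤ : Submodule S (S ⧸ (IsLocalRing.maximalIdeal R).map (algebraMap R S))) ≠ ⊤ := by
    intro htop
    rw [Groth.Agent.H29.smul_top_eq_top_iff_map S
      (S ⧸ (IsLocalRing.maximalIdeal R).map (algebraMap R S)), hsm] at htop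
    exact hIbar htop
  have h5 : LocCoh.idealDepth I (S ⧸ (IsLocalRing.maximalIdeal R).map (algebraMap R S)) ≤
      LocCoh.idealDepth I S := by
    rw [← ENat.forall_natCast_le_iff_le]
    intro n hn
    obtain ⟨rs, hlen, hreg, hmem⟩ := (Groth.Agent.H29.le_idealDepth_iff I _ hISbar n).mp hn
    refine (Groth.Agent.H29.le_idealDepth_iff I S hIS n).mpr ⟨rs, hlen, ?_, hmem⟩
    have hJ : ((IsLocalRing.maximalIdeal R).map (algebraMap R S)) • (⊤ : Submodule S S) =
        (IsLocalRing.maximalIdeal R).map (algebraMap R S) := by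
      rw [smul_eq_mul, Ideal.mul_top]
    have e : (S ⧸ ((IsLocalRing.maximalIdeal R).map (algebraMap R S)) • (⊤ : Submodule S S)) ≃ₗ[S]
        (S ⧸ (IsLocalRing.maximalIdeal R).map (algebraMap R S)) := Submodule.quotEquivOfEq _ _ hJ
    exact Groth.Agent.Helper8.RegLift.isWeaklyRegular_of_isWeaklyRegular_quotient (R := R) rs S
      ((e.isWeaklyRegular_congr rs).mpr hreg)
  exact add_le_add_right (WithBot.coe_le_coe.mpr h5) _

end Groth.Agent.S0358
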