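import Groth.Statements.S1742
import Groth.Agent.H29.DepthLocal
import Groth.Agent.H29.DepthLib

set_option autoImplicit false
universe u
open LocCoh

namespace Groth.Agent.S1742

open Groth.Agent.H29 RingTheory.Sequence

/-- one element of `S` kills a f.g. submodule all of whose elements are `S`-torsion -/
theorem exists_kill (A : Type u) [CommRing A] (M : Type u) [AddCommGroup M] [Module A M]
    (S : Submonoid A) (N : Submodule A M) (hN : N.FG)
    (h : ∀ n ∈ N, ∃ t ∈ S, t • n = 0) : ∃ t ∈ S, ∀ n ∈ N, t • n = 0 := by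
  classical
  obtain ⟨s, hs⟩ := hN
  have hch : ∀ m ∈ s, ∃ t ∈ S, t • m = 0 := fun m hm => h m (hs ▸ Submodule.subset_span hm)
  choose! t htS htm using hch
  refine ⟨∏ m ∈ s, t m, Submonoid.prod_mem S (fun m hm => htS m hm), ?_⟩
  intro n hn
  rw [← hs] at hn
  have hle : Submodule.span A (s : Set M) ≤ Submodule.torsionBy A M (∏ m ∈ s, t m) := by
    rw [Submodule.span_le]
    intro m hm
    rw [SetLike.mem_coe, Submodule.mem_torsionBy_iff]
    obtain ⟨c, hc⟩ := Finset.dvd_prod_of_mem t hm
    rw [hc, mul_comm, mul_smul, htm m hm, smul_zero]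
  exact (Submodule.mem_torsionBy_iff _ _).mp (hle hn)

theorem exists_regular_spread (A : Type u) [CommRing A] [IsNoetherianRing A] (M : Type u)
    [AddCommGroup M] [Module A M] [Module.Finite A M] (p : Ideal A) [p.IsPrime] (x : A)
    (hreg : IsSMulRegular (LocalizedModule p.primeCompl M)
      (algebraMap A (Localization.AtPrime p) x)) :
    ∃ h : A, h ∉ p ∧ ∀ (q : Ideal A) [q.IsPrime], h ∉ q →
      IsSMulRegular (LocalizedModule q.primeCompl M) (algebraMap A (Localization.AtPrime q) x) := by
  have hKfg : (Submodule.torsionBy A M x).FG := IsNoetherian.noetherian _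
  have hK : ∀ k ∈ Submodule.torsionBy A M x, ∃ t ∈ p.primeCompl, t • k = 0 := by
    intro k hk
    rw [Submodule.mem_torsionBy_iff] at hk
    have h0 : algebraMap A (Localization.AtPrime p) x •
        (LocalizedModule.mk k 1 : LocalizedModule p.primeCompl M) =
        algebraMap A (Localization.AtPrime p) x • 0 := by
      rw [smul_zero, algebraMap_smul, LocalizedModule.smul'_mk, hk, LocalizedModule.zero_mk]
    have h1 := hreg h0
    rw [← LocalizedModule.zero_mk 1, LocalizedModule.mk_eq] at h1
    obtain ⟨u, hu⟩ := h1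
    simp only [smul_zero, one_smul] at hu
    exact ⟨u.1, u.2, hu⟩
  obtain ⟨h, hhS, hh⟩ := exists_kill A M p.primeCompl _ hKfg hK
  refine ⟨h, hhS, fun q _ hq => ?_⟩
  rw [isSMulRegular_iff_right_eq_zero_of_smul]
  intro z hz
  induction z using LocalizedModule.induction_on with
  | h m s =>
    rw [algebraMap_smul, LocalizedModule.smul'_mk, ← LocalizedModule.zero_mk 1,
      LocalizedModule.mk_eq] at hz
    obtain ⟨u, hu⟩ := hz
    simp only [smul_zero, one_smul] at hu
    have hum : (u : A) • m ∈ Submodule.torsionBy A M x := by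
      rw [Submodule.mem_torsionBy_iff, smul_comm]
      exact hu
    have hkill := hh _ hum
    rw [← LocalizedModule.zero_mk 1, LocalizedModule.mk_eq]
    refine ⟨⟨h * u, q.primeCompl.mul_mem hq u.2⟩, ?_⟩
    simp only [smul_zero, one_smul]
    show (h * (u : A)) • m = 0
    rw [mul_smul]
    exact hkill

noncomputable def quotIso (A : Type u) [CommRing A] (M : Type u) [AddCommGroup M] [Module A M]
    (q : Ideal A) [q.IsPrime] (x : A) :
    QuotSMulTop (algebraMap A (Localization.AtPrime q) x) (LocalizedModule q.primeCompl M)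
      ≃ₗ[Localization.AtPrime q] LocalizedModule q.primeCompl (QuotSMulTop x M) :=
  (QuotSMulTop.congr (algebraMap A (Localization.AtPrime q) x)
    (IsLocalizedModule.isBaseChange q.primeCompl (Localization.AtPrime q)
      (LocalizedModule.mkLinearMap q.primeCompl M)).equiv.symm).trans
    ((QuotSMulTop.algebraMapTensorEquivTensorQuotSMulTop x M (Localization.AtPrime q)).trans
      (IsLocalizedModule.isBaseChange q.primeCompl (Localization.AtPrime q)
        (LocalizedModule.mkLinearMap q.primeCompl (QuotSMulTop x M))).equiv)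

theorem claim (A : Type u) [CommRing A] [IsNoetherianRing A] (I : Ideal A) (p : Ideal A)
    [p.IsPrime] (e : ℕ) :
    ∀ (M : Type u) [AddCommGroup M] [Module A M] [Module.Finite A M],
      (I.map (algebraMap A (Localization.AtPrime p))) •
        (⊤ : Submodule (Localization.AtPrime p) (LocalizedModule p.primeCompl M)) ≠ ⊤ →
      (e : ℕ∞) ≤ LocCoh.idealDepth (I.map (algebraMap A (Localization.AtPrime p)))
        (LocalizedModule p.primeCompl M) →
      ∃ h : A, h ∉ p ∧ ∀ (q : Ideal A) [q.IsPrime], h ∉ q → p ≤ q →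
        (e : ℕ∞) ≤ LocCoh.idealDepth (I.map (algebraMap A (Localization.AtPrime q)))
          (LocalizedModule q.primeCompl M) := by
  induction e with
  | zero =>
    intro M _ _ _ _ _
    exact ⟨1, p.primeCompl.one_mem, fun q _ _ _ => by simp⟩
  | succ e ih =>
    intro M _ _ _ hIM hdepth
    obtain ⟨y, hyI, hyreg⟩ := exists_isSMulRegular_mem_of_one_le_idealDepth
      (LocalizedModule p.primeCompl M) _ hIM
      (le_trans (by exact_mod_cast Nat.succ_le_succ (Nat.zero_le e)) hdepth)
    obtain ⟨⟨a', s⟩, has⟩ := (IsLocalization.mem_map_algebraMap_iff p.primeCompl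
      (Localization.AtPrime p)).mp hyI
    have has' : y * algebraMap A (Localization.AtPrime p) (s : A) =
        algebraMap A (Localization.AtPrime p) (a' : A) := has
    have hxreg : IsSMulRegular (LocalizedModule p.primeCompl M)
        (algebraMap A (Localization.AtPrime p) (a' : A)) := by
      rw [← has']
      exact hyreg.mul (IsUnit.isSMulRegular _ (IsLocalization.map_units _ s))
    have hxmem : algebraMap A (Localization.AtPrime p) (a' : A) ∈
        I.map (algebraMap A (Localization.AtPrime p)) := Ideal.mem_map_of_mem _ a'.2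
    have h1 := idealDepth_quotSMulTop_add_one _ (LocalizedModule p.primeCompl M) hIM _ hxmem hxreg
    have h2 : (e : ℕ∞) ≤ LocCoh.idealDepth (I.map (algebraMap A (Localization.AtPrime p)))
        (QuotSMulTop (algebraMap A (Localization.AtPrime p) (a' : A))
          (LocalizedModule p.primeCompl M)) := by
      rw [← h1, Nat.cast_succ] at hdepth
      exact (ENat.add_le_add_iff_right ENat.one_ne_top).mp hdepth
    have h3 : (e : ℕ∞) ≤ LocCoh.idealDepth (I.map (algebraMap A (Localization.AtPrime p)))
        (LocalizedModule p.primeCompl (QuotSMulTop (a' : A) M)) := by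
      rw [← idealDepth_congr _ (quotIso A M p (a' : A))]
      exact h2
    have hIM' : (I.map (algebraMap A (Localization.AtPrime p))) •
        (⊤ : Submodule (Localization.AtPrime p)
          (LocalizedModule p.primeCompl (QuotSMulTop (a' : A) M))) ≠ ⊤ := by
      intro htop
      exact smul_top_quotSMulTop_ne_top _ _ hIM _ hxmem
        (smul_top_eq_top_of_surjective _ (quotIso A M p (a' : A)).symm.toLinearMap
          (quotIso A M p (a' : A)).symm.surjective htop)
    obtain ⟨h₂, hh₂, H₂⟩ := ih (QuotSMulTop (a' : A) M) hIM' h3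
    obtain ⟨h₁, hh₁, H₁⟩ := exists_regular_spread A M p (a' : A) hxreg
    refine ⟨h₁ * h₂, fun hmem => (‹p.IsPrime›.mem_or_mem hmem).elim hh₁ hh₂,
      fun q _ hq hpq => ?_⟩
    have hq₁ : h₁ ∉ q := fun hm => hq (q.mul_mem_right _ hm)
    have hq₂ : h₂ ∉ q := fun hm => hq (q.mul_mem_left _ hm)
    have hregq := H₁ q hq₁
    have hdq := H₂ q hq₂ hpq
    by_cases hIq : (I.map (algebraMap A (Localization.AtPrime q))) •
        (⊤ : Submodule (Localization.AtPrime q) (LocalizedModule q.primeCompl M)) = ⊤
    · rw [idealDepth_eq_top_of_smul_top_eq_top _ _ hIq]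
      exact le_top
    · have hxmemq : algebraMap A (Localization.AtPrime q) (a' : A) ∈
          I.map (algebraMap A (Localization.AtPrime q)) := Ideal.mem_map_of_mem _ a'.2
      refine le_idealDepth_of_le_quotSMulTop _ _ hIq _ hxmemq hregq e ?_
      rw [idealDepth_congr _ (quotIso A M q (a' : A))]
      exact hdq

/-- Let A be a Noetherian ring, I an ideal, M a finite A-module and p a prime containing I such that the
IA_p-depth of M_p is a finite number e. Then there is an open subset U of Spec A meeting V(p) such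
that the IA_q-depth of M_q is at least e for every q in U ∩ V(p). -/
theorem result (A : Type u) [CommRing A] [IsNoetherianRing A] (I : Ideal A) (M : Type u) [AddCommGroup M] [Module A M] [Module.Finite A M] (p : PrimeSpectrum A) (hp : I ≤ p.asIdeal) (e : ℕ) (he : LocCoh.idealDepth (I.map (algebraMap A (Localization.AtPrime p.asIdeal))) (LocalizedModule p.asIdeal.primeCompl M) = e) : ∃ U : Set (PrimeSpectrum A), IsOpen U ∧ (U ∩ PrimeSpectrum.zeroLocus (p.asIdeal : Set A)).Nonempty ∧ ∀ q : PrimeSpectrum A, q ∈ U → p ≤ q → (e : ℕ∞) ≤ LocCoh.idealDepth (I.map (algebraMap A (Localization.AtPrime q.asIdeal))) (LocalizedModule q.asIdeal.primeCompl M) := by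
  have hIM : (I.map (algebraMap A (Localization.AtPrime p.asIdeal))) •
      (⊤ : Submodule (Localization.AtPrime p.asIdeal)
        (LocalizedModule p.asIdeal.primeCompl M)) ≠ ⊤ := by
    intro htop
    rw [Groth.Agent.H29.idealDepth_eq_top_of_smul_top_eq_top _ _ htop] at he
    exact absurd he (ENat.top_ne_coe e)
  obtain ⟨h, hh, H⟩ := claim A I p.asIdeal e M hIM (le_of_eq he.symm)
  refine ⟨(PrimeSpectrum.basicOpen h : Set (PrimeSpectrum A)), (PrimeSpectrum.basicOpen h).2,
    ⟨p, hh, ?_⟩, fun q hq hpq => H q.asIdeal hq hpq⟩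
  exact (PrimeSpectrum.mem_zeroLocus _ _).mpr (le_refl _)

end Groth.Agent.S1742
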