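import Groth.Statements.S0359
import Groth.Agent.S1742
import Groth.Agent.H29.DepthMore
import Groth.Agent.H29.Depth
import Groth.Agent.H29.DepthFlat

set_option autoImplicit false
universe u v
open LocCoh

namespace Groth.Agent.S0359

open Groth.Agent.H29 RingTheory.Sequence IsLocalRing Groth.Agent.S1742

theorem mem_ass_iff_depth (A : Type u) [CommRing A] [IsNoetherianRing A] (M : Type u)
    [AddCommGroup M] [Module A M] [Module.Finite A M] (P : Ideal A) [P.IsPrime] :
    P ∈ associatedPrimes A M ↔
      LocCoh.depth (Localization.AtPrime P) (LocalizedModule P.primeCompl M) = 0 := by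
  rw [Groth.Agent.H29.depth_eq_zero_iff_mem_ass]
  have h := Module.associatedPrimes.preimage_comap_associatedPrimes_eq_associatedPrimes_of_isLocalizedModule
    P.primeCompl (Localization.AtPrime P) (LocalizedModule.mkLinearMap P.primeCompl M)
  have h2 : maximalIdeal (Localization.AtPrime P) ∈
      (Ideal.comap (algebraMap A (Localization.AtPrime P))) ⁻¹' (associatedPrimes A M) ↔
      maximalIdeal (Localization.AtPrime P) ∈
        associatedPrimes (Localization.AtPrime P) (LocalizedModule P.primeCompl M) := by
    rw [h]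
  rw [← h2, Set.mem_preimage, ← Ideal.under_def, Localization.AtPrime.under_maximalIdeal]

theorem claim2 (A : Type u) [CommRing A] [IsNoetherianRing A] (p : Ideal A) [p.IsPrime] (e : ℕ) :
    ∀ (M : Type u) [AddCommGroup M] [Module A M] [Module.Finite A M],
      LocCoh.depth (Localization.AtPrime p) (LocalizedModule p.primeCompl M) = e →
      ∃ h : A, h ∉ p ∧ {q : PrimeSpectrum A | p ≤ q.asIdeal ∧ h ∉ q.asIdeal ∧
        LocCoh.depth (Localization.AtPrime q.asIdeal)
          (LocalizedModule q.asIdeal.primeCompl M) ≤ e}.Finite := by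
  induction e with
  | zero =>
    intro M _ _ _ _
    refine ⟨1, p.primeCompl.one_mem, ?_⟩
    refine ((associatedPrimes.finite A M).preimage
      (f := fun q : PrimeSpectrum A => q.asIdeal)
      (fun a _ b _ hab => PrimeSpectrum.ext hab)).subset ?_
    rintro q ⟨-, -, hq⟩
    have hq0 : LocCoh.depth (Localization.AtPrime q.asIdeal)
        (LocalizedModule q.asIdeal.primeCompl M) = 0 := by
      rw [Nat.cast_zero] at hq
      exact le_antisymm hq zero_le
    exact (mem_ass_iff_depth A M q.asIdeal).mpr hq0
  | succ e ih =>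
    intro M _ _ _ hdepth
    have hdepth' : LocCoh.idealDepth (maximalIdeal (Localization.AtPrime p))
        (LocalizedModule p.primeCompl M) = ((e + 1 : ℕ) : ℕ∞) := hdepth
    have hIM : maximalIdeal (Localization.AtPrime p) •
        (⊤ : Submodule (Localization.AtPrime p) (LocalizedModule p.primeCompl M)) ≠ ⊤ := by
      intro htop
      rw [idealDepth_eq_top_of_smul_top_eq_top _ _ htop] at hdepth'
      exact absurd hdepth' (ENat.top_ne_coe _)
    obtain ⟨y, hyI, hyreg⟩ := exists_isSMulRegular_mem_of_one_le_idealDepth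
      (LocalizedModule p.primeCompl M) _ hIM
      (by rw [hdepth']; exact_mod_cast Nat.succ_le_succ (Nat.zero_le e))
    rw [← Localization.AtPrime.map_eq_maximalIdeal] at hyI
    obtain ⟨⟨a', s⟩, has⟩ := (IsLocalization.mem_map_algebraMap_iff p.primeCompl
      (Localization.AtPrime p)).mp hyI
    have has' : y * algebraMap A (Localization.AtPrime p) (s : A) =
        algebraMap A (Localization.AtPrime p) (a' : A) := has
    have hxreg : IsSMulRegular (LocalizedModule p.primeCompl M)
        (algebraMap A (Localization.AtPrime p) (a' : A)) := by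
      rw [← has']
      exact hyreg.mul (IsUnit.isSMulRegular _ (IsLocalization.map_units _ s))
    have hxmem : algebraMap A (Localization.AtPrime p) (a' : A) ∈
        maximalIdeal (Localization.AtPrime p) :=
      (IsLocalization.AtPrime.to_map_mem_maximal_iff _ p _).mpr a'.2
    have h1 := idealDepth_quotSMulTop_add_one _ (LocalizedModule p.primeCompl M) hIM _ hxmem hxreg
    have h3 : LocCoh.depth (Localization.AtPrime p)
        (LocalizedModule p.primeCompl (QuotSMulTop (a' : A) M)) = e := by
      show LocCoh.idealDepth _ _ = _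
      rw [← idealDepth_congr _ (quotIso A M p (a' : A))]
      rw [hdepth', Nat.cast_succ] at h1
      exact le_antisymm ((ENat.add_le_add_iff_right ENat.one_ne_top).mp h1.le)
        ((ENat.add_le_add_iff_right ENat.one_ne_top).mp h1.ge)
    obtain ⟨h₂, hh₂, H₂⟩ := ih (QuotSMulTop (a' : A) M) h3
    obtain ⟨h₁, hh₁, H₁⟩ := exists_regular_spread A M p (a' : A) hxreg
    refine ⟨h₁ * h₂, fun hmem => (‹p.IsPrime›.mem_or_mem hmem).elim hh₁ hh₂, H₂.subset ?_⟩
    rintro q ⟨hpq, hq, hdq⟩
    have hq₁ : h₁ ∉ q.asIdeal := fun hm => hq (q.asIdeal.mul_mem_right _ hm)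
    have hq₂ : h₂ ∉ q.asIdeal := fun hm => hq (q.asIdeal.mul_mem_left _ hm)
    refine ⟨hpq, hq₂, ?_⟩
    have hregq := H₁ q.asIdeal hq₁
    have hdq' : LocCoh.idealDepth (maximalIdeal (Localization.AtPrime q.asIdeal))
        (LocalizedModule q.asIdeal.primeCompl M) ≤ ((e + 1 : ℕ) : ℕ∞) := hdq
    have hIq : maximalIdeal (Localization.AtPrime q.asIdeal) •
        (⊤ : Submodule (Localization.AtPrime q.asIdeal)
          (LocalizedModule q.asIdeal.primeCompl M)) ≠ ⊤ := by
      intro htop
      rw [idealDepth_eq_top_of_smul_top_eq_top _ _ htop] at hdq'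
      exact absurd (top_le_iff.mp hdq') (ENat.coe_ne_top _)
    have hxmemq : algebraMap A (Localization.AtPrime q.asIdeal) (a' : A) ∈
        maximalIdeal (Localization.AtPrime q.asIdeal) :=
      (IsLocalization.AtPrime.to_map_mem_maximal_iff _ q.asIdeal _).mpr (hpq a'.2)
    have h1q := idealDepth_quotSMulTop_add_one _ (LocalizedModule q.asIdeal.primeCompl M) hIq _
      hxmemq hregq
    show LocCoh.idealDepth _ _ ≤ _
    rw [← idealDepth_congr _ (quotIso A M q.asIdeal (a' : A))]
    rw [← h1q, Nat.cast_succ] at hdq'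
    exact (ENat.add_le_add_iff_right ENat.one_ne_top).mp hdq'

/-- For a finite module M over a Noetherian ring and a prime p with depth(M_p) = e finite, there is a
basic open neighbourhood of p in V(p) on which the depth of the localizations of M is at least e,
and it exceeds e at all but finitely many of those primes. -/
theorem result (R : Type u) [CommRing R] [IsNoetherianRing R] (M : Type u) [AddCommGroup M] [Module R M] [Module.Finite R M] (p : Ideal R) [p.IsPrime] (e : ℕ) (he : LocCoh.depth (Localization.AtPrime p) (LocalizedModule p.primeCompl M) = e) : ∃ f : R, f ∉ p ∧ (∀ (q : Ideal R) [q.IsPrime], p ≤ q → f ∉ q → (e : ℕ∞) ≤ LocCoh.depth (Localization.AtPrime q) (LocalizedModule q.primeCompl M)) ∧ {q : PrimeSpectrum R | p ≤ q.asIdeal ∧ f ∉ q.asIdeal ∧ LocCoh.depth (Localization.AtPrime q.asIdeal) (LocalizedModule q.asIdeal.primeCompl M) = e}.Finite := by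
  have he' : LocCoh.idealDepth (maximalIdeal (Localization.AtPrime p))
      (LocalizedModule p.primeCompl M) = e := he
  have hmapp : p.map (algebraMap R (Localization.AtPrime p)) =
      maximalIdeal (Localization.AtPrime p) := Localization.AtPrime.map_eq_maximalIdeal
  have hIM : (p.map (algebraMap R (Localization.AtPrime p))) •
      (⊤ : Submodule (Localization.AtPrime p) (LocalizedModule p.primeCompl M)) ≠ ⊤ := by
    rw [hmapp]
    intro htop
    rw [idealDepth_eq_top_of_smul_top_eq_top _ _ htop] at he'
    exact absurd he' (ENat.top_ne_coe e)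
  obtain ⟨h, hh, H⟩ := Groth.Agent.S1742.claim R p p e M hIM (by rw [hmapp]; exact he'.ge)
  obtain ⟨h', hh', H'⟩ := claim2 R p e M he
  refine ⟨h * h', fun hmem => (‹p.IsPrime›.mem_or_mem hmem).elim hh hh', ?_, ?_⟩
  · intro q _ hpq hq
    have hq₁ : h ∉ q := fun hm => hq (q.mul_mem_right _ hm)
    have h1 := H q hq₁ hpq
    refine h1.trans ?_
    show _ ≤ LocCoh.idealDepth (maximalIdeal (Localization.AtPrime q)) _
    by_cases hJ : maximalIdeal (Localization.AtPrime q) •
        (⊤ : Submodule (Localization.AtPrime q) (LocalizedModule q.primeCompl M)) = ⊤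
    · rw [idealDepth_eq_top_of_smul_top_eq_top _ _ hJ]
      exact le_top
    · refine idealDepth_mono ?_ _ hJ
      rw [← Localization.AtPrime.map_eq_maximalIdeal]
      exact Ideal.map_mono hpq
  · refine H'.subset ?_
    rintro q ⟨hpq, hq, hdq⟩
    exact ⟨hpq, fun hm => hq (q.asIdeal.mul_mem_left _ hm), hdq.le⟩

end Groth.Agent.S0359
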