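import Groth.Statements.S0380
import Groth.Agent.H13.LCFlatBC
import Groth.Agent.H13.LCLocal

set_option autoImplicit false
universe u v
open LocCoh

namespace Groth.Agent.S0380

/-- Local cohomology with support in I vanishes above degree d on all modules exactly when, for every
prime p, local cohomology over A_p with support in I A_p vanishes above degree d on all A_p-modules. -/
theorem result (R : Type u) [CommRing R] [IsNoetherianRing R] (I : Ideal R) (d : ℕ) : LocCoh.CdLE R I d ↔ ∀ (p : Ideal R) [p.IsPrime], LocCoh.CdLE (Localization.AtPrime p) (I.map (algebraMap R (Localization.AtPrime p))) d := by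
  constructor
  · intro h p _
    exact Groth.Agent.H13.LC.cdLE_map (Localization.AtPrime p) I d h
  · intro h M _ _ i hi
    apply Module.subsingleton_of_localization_maximal (R := R) (M := LocCoh.H I i M)
      (fun P _ => LocalizedModule P.primeCompl (LocCoh.H I i M))
      (fun P _ => LocalizedModule.mkLinearMap P.primeCompl (LocCoh.H I i M))
    intro P hP
    obtain ⟨e⟩ := Groth.Agent.H13.LC.exists_baseChange_equiv (Localization.AtPrime P) I i M
    have h1 : Subsingleton (LocCoh.H (I.map (algebraMap R (Localization.AtPrime P))) i
        (TensorProduct R (Localization.AtPrime P) M)) :=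
      h P (TensorProduct R (Localization.AtPrime P) M) i hi
    have h2 : Subsingleton (TensorProduct R (Localization.AtPrime P) (LocCoh.H I i M)) :=
      e.injective.subsingleton
    exact (LocalizedModule.equivTensorProduct P.primeCompl (LocCoh.H I i M)).injective.subsingleton

end Groth.Agent.S0380
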