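import Groth.Statements.S0392
import Mathlib
import Groth.Agent.Lib.Helper8.LocalCrit

set_option autoImplicit false
universe u
open FlatMor

namespace Groth.Agent.S0392

open TensorProduct in
/-- Fibrewise criterion of flatness, Noetherian local form: for local homomorphisms R → S → S' of
Noetherian local rings and a nonzero finite S'-module M that is flat over R and whose reduction
modulo the maximal ideal of R is flat over the corresponding fibre ring of S, the ring S is flat
over R and M is flat over S. -/
theorem result {R S S' M : Type u} [CommRing R] [CommRing S] [CommRing S'] [IsLocalRing R] [IsLocalRing S] [IsLocalRing S']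
    [IsNoetherianRing R] [IsNoetherianRing S] [IsNoetherianRing S'] [Algebra R S] [Algebra S S'] [Algebra R S'] [IsScalarTower R S S']
    [IsLocalHom (algebraMap R S)] [IsLocalHom (algebraMap S S')]
    [AddCommGroup M] [Module S' M] [Module S M] [Module R M] [IsScalarTower S S' M] [IsScalarTower R S M]
    [Module.Finite S' M] [Nontrivial M] [Module.Flat R M]
    (h : Module.Flat (S ⧸ ((IsLocalRing.maximalIdeal R).map (algebraMap R S))) ((S ⧸ ((IsLocalRing.maximalIdeal R).map (algebraMap R S))) ⊗[S] M)) :
    Module.Flat R S ∧ Module.Flat S M := by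
  have hS'jac : Ideal.jacobson (⊥ : Ideal S') = IsLocalRing.maximalIdeal S' :=
    IsLocalRing.jacobson_eq_maximalIdeal ⊥ bot_ne_top
  have hflatSM : Module.Flat S M := by
    refine Groth.Agent.Helper8.LocalCrit.flat_of_rTensor_injective_of_flat_quotient (R := S)
      (S := S') (M := M) ((IsLocalRing.maximalIdeal R).map (algebraMap R S)) ?_ ?_ h
    · rw [hS'jac]
      exact (Ideal.map_mono (IsLocalRing.map_maximalIdeal_le (algebraMap R S))).trans
        (IsLocalRing.map_maximalIdeal_le (algebraMap S S'))
    · exact Groth.Agent.Helper8.LocalCrit.rTensor_map_injective_of_flat (IsLocalRing.maximalIdeal R)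
  refine ⟨?_, hflatSM⟩
  haveI : Module.FaithfullyFlat S M := by
    refine ⟨fun m' hm' htop => ?_⟩
    rw [IsLocalRing.eq_maximalIdeal hm'] at htop
    have h1 : (((IsLocalRing.maximalIdeal S).map (algebraMap S S')) •
        (⊤ : Submodule S' M)).restrictScalars S =
        IsLocalRing.maximalIdeal S • (⊤ : Submodule S M) := by
      rw [Ideal.smul_restrictScalars, Submodule.restrictScalars_top]
    rw [htop] at h1
    have h2 : ((IsLocalRing.maximalIdeal S).map (algebraMap S S')) • (⊤ : Submodule S' M) = ⊤ :=
      (Submodule.restrictScalars_eq_top_iff S S' M).mp h1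
    have h3 : (⊤ : Submodule S' M) ≤ IsLocalRing.maximalIdeal S' • (⊤ : Submodule S' M) := by
      rw [← h2]
      exact Submodule.smul_mono (IsLocalRing.map_maximalIdeal_le (algebraMap S S'))
        (le_top.trans (le_of_eq h2.symm))
    have h4 := Submodule.eq_bot_of_le_smul_of_le_jacobson_bot (IsLocalRing.maximalIdeal S')
      (⊤ : Submodule S' M) Module.Finite.fg_top h3 (le_of_eq hS'jac.symm)
    exact top_ne_bot h4
  exact Groth.Agent.Helper8.LocalCrit.flat_of_faithfullyFlat_module (R := R) (S := S) (M := M)

end Groth.Agent.S0392
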