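import Groth.Statements.S0394
import Mathlib
import Groth.Agent.Lib.Helper8.FlatLocal

set_option autoImplicit false
universe u
open FlatMor

namespace Groth.Agent.S0394

open TensorProduct in
/-- For a local homomorphism R → S of Noetherian local rings and a nonzero finite S-module M flat over R
whose fibre M/mM is free over S/mS (m the maximal ideal of R), M is free over S and S is flat over
R. -/
theorem result {R S M : Type u} [CommRing R] [CommRing S] [IsLocalRing R] [IsLocalRing S] [IsNoetherianRing R] [IsNoetherianRing S] [Algebra R S] [IsLocalHom (algebraMap R S)]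
    [AddCommGroup M] [Module R M] [Module S M] [IsScalarTower R S M] [Module.Finite S M] [Nontrivial M] [Module.Flat R M]
    (h : Module.Free (S ⧸ ((IsLocalRing.maximalIdeal R).map (algebraMap R S))) ((S ⧸ ((IsLocalRing.maximalIdeal R).map (algebraMap R S))) ⊗[S] M)) :
    Module.Free S M ∧ Module.Flat R S := by
  classical
  set I : Ideal S := (IsLocalRing.maximalIdeal R).map (algebraMap R S) with hI
  have hIle : I ≤ IsLocalRing.maximalIdeal S := IsLocalRing.map_maximalIdeal_le (algebraMap R S)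
  have hIne : I ≠ ⊤ := fun h' => (IsLocalRing.maximalIdeal.isMaximal S).ne_top
    (top_le_iff.mp (h' ▸ hIle))
  haveI : Nontrivial (S ⧸ I) := Ideal.Quotient.nontrivial_iff.mpr hIne
  let b := Module.Free.chooseBasis (S ⧸ I) ((S ⧸ I) ⊗[S] M)
  haveI : Fintype (Module.Free.ChooseBasisIndex (S ⧸ I) ((S ⧸ I) ⊗[S] M)) :=
    Module.Free.ChooseBasisIndex.fintype _ _
  have hm : ∀ i, ∃ x : M, b i = (1 : S ⧸ I) ⊗ₜ[S] x := fun i =>
    Groth.Agent.Helper8.FlatLocal.exists_one_tmul_eq I (b i)
  choose m hm using hm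
  let u : (Module.Free.ChooseBasisIndex (S ⧸ I) ((S ⧸ I) ⊗[S] M) → S) →ₗ[S] M :=
    Fintype.linearCombination S m
  -- key computation
  have hcomp : ∀ n : Module.Free.ChooseBasisIndex (S ⧸ I) ((S ⧸ I) ⊗[S] M) → S,
      (1 : S ⧸ I) ⊗ₜ[S] (u n) = ∑ i, (Ideal.Quotient.mk I (n i)) • b i := by
    intro n
    change (1 : S ⧸ I) ⊗ₜ[S] (∑ i, n i • m i) = _
    rw [TensorProduct.tmul_sum]
    refine Finset.sum_congr rfl (fun i _ => ?_)
    rw [hm i, TensorProduct.smul_tmul', ← TensorProduct.smul_tmul, smul_eq_mul, mul_one,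
      Algebra.smul_def, mul_one]
    rfl
  have hsmulR : ∀ {X : Type u} [AddCommGroup X] [Module R X] [Module S X] [IsScalarTower R S X]
      (x : X), x ∈ IsLocalRing.maximalIdeal R • (⊤ : Submodule R X) ↔
        x ∈ I • (⊤ : Submodule S X) := by
    intro X _ _ _ _ x
    have h1 : (I • (⊤ : Submodule S X)).restrictScalars R =
        IsLocalRing.maximalIdeal R • (⊤ : Submodule R X) := by
      rw [hI, Ideal.smul_restrictScalars, Submodule.restrictScalars_top]
    rw [← h1]
    exact Iff.rfl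
  have H : ∀ n : Module.Free.ChooseBasisIndex (S ⧸ I) ((S ⧸ I) ⊗[S] M) → S,
      (u.restrictScalars R) n ∈ IsLocalRing.maximalIdeal R • (⊤ : Submodule R M) →
      n ∈ IsLocalRing.maximalIdeal R • (⊤ : Submodule R
        (Module.Free.ChooseBasisIndex (S ⧸ I) ((S ⧸ I) ⊗[S] M) → S)) := by
    intro n hn
    rw [hsmulR] at hn ⊢
    rw [LinearMap.restrictScalars_apply,
      ← Groth.Agent.Helper8.FlatLocal.one_tmul_eq_zero_iff, hcomp] at hn
    have h2 := Fintype.linearIndependent_iff.mp b.linearIndependent _ hn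
    have h3 : ∀ i, n i ∈ I := fun i => Ideal.Quotient.eq_zero_iff_mem.mp (h2 i)
    rw [pi_eq_sum_univ n]
    refine Submodule.sum_mem _ (fun i _ => ?_)
    exact Submodule.smul_mem_smul (h3 i) Submodule.mem_top
  obtain ⟨hinj, -⟩ := Groth.Agent.Helper8.FlatLocal.injective_and_flat_quotient_of_mem
    (S := S) (u.restrictScalars R) H
  have hinj' : Function.Injective u := hinj
  have hsurj : Function.Surjective u := by
    rw [← LinearMap.range_eq_top, eq_top_iff]
    apply Submodule.le_of_le_smul_of_le_jacobson_bot (I := I) Module.Finite.fg_top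
    · rw [IsLocalRing.jacobson_eq_maximalIdeal ⊥ bot_ne_top]
      exact hIle
    · intro x _
      have hs : ∀ i, ∃ s : S, Ideal.Quotient.mk I s = b.repr ((1 : S ⧸ I) ⊗ₜ[S] x) i :=
        fun i => Ideal.Quotient.mk_surjective _
      choose s hs using hs
      have h1 : (1 : S ⧸ I) ⊗ₜ[S] (x - u s) = 0 := by
        rw [TensorProduct.tmul_sub, hcomp, sub_eq_zero]
        simp only [hs]
        exact (b.sum_repr _).symm
      rw [Groth.Agent.Helper8.FlatLocal.one_tmul_eq_zero_iff] at h1
      have h2 : x = u s + (x - u s) := by abel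
      rw [h2]
      exact Submodule.add_mem _ (Submodule.mem_sup_left ⟨s, rfl⟩) (Submodule.mem_sup_right h1)
  let e : (Module.Free.ChooseBasisIndex (S ⧸ I) ((S ⧸ I) ⊗[S] M) → S) ≃ₗ[S] M :=
    LinearEquiv.ofBijective u ⟨hinj', hsurj⟩
  refine ⟨Module.Free.of_equiv e, ?_⟩
  haveI : Nonempty (Module.Free.ChooseBasisIndex (S ⧸ I) ((S ⧸ I) ⊗[S] M)) := by
    by_contra hne
    rw [not_nonempty_iff] at hne
    haveI : Subsingleton M := e.symm.injective.subsingleton
    exact not_subsingleton M ‹_›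
  obtain ⟨i₀⟩ := this
  haveI : Module.Flat R (Module.Free.ChooseBasisIndex (S ⧸ I) ((S ⧸ I) ⊗[S] M) → S) :=
    Module.Flat.of_linearEquiv (e.restrictScalars R)
  refine Module.Flat.of_retract (M := Module.Free.ChooseBasisIndex (S ⧸ I) ((S ⧸ I) ⊗[S] M) → S)
    ((LinearMap.single S (fun _ => S) i₀).restrictScalars R)
    ((LinearMap.proj i₀ : (Module.Free.ChooseBasisIndex (S ⧸ I) ((S ⧸ I) ⊗[S] M) → S) →ₗ[S] S).restrictScalars R) ?_
  ext x
  simp

end Groth.Agent.S0394
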