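import Groth.Statements.S0395
import Mathlib
import Groth.Agent.Lib.Helper8.FlatLocal

set_option autoImplicit false
universe u
open FlatMor

namespace Groth.Agent.S0395

open TensorProduct nonZeroDivisors in
/-- For a flat local homomorphism R → S of Noetherian local rings and an element f of S that is regular
on the fibre ring S/mS, the quotient of S by f is again R-flat and f is regular on S. -/
theorem result {R S : Type u} [CommRing R] [CommRing S] [IsLocalRing R] [IsLocalRing S] [IsNoetherianRing R] [IsNoetherianRing S] [Algebra R S] [IsLocalHom (algebraMap R S)] [Module.Flat R S]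
    (f : S) (hf : Ideal.Quotient.mk ((IsLocalRing.maximalIdeal R).map (algebraMap R S)) f ∈ nonZeroDivisors (S ⧸ ((IsLocalRing.maximalIdeal R).map (algebraMap R S)))) :
    Module.Flat R (S ⧸ Ideal.span {f}) ∧ f ∈ nonZeroDivisors S := by
  classical
  let u : S →ₗ[R] S := LinearMap.mulLeft R f
  have hmap : ∀ s : S, s ∈ IsLocalRing.maximalIdeal R • (⊤ : Submodule R S) ↔
      s ∈ (IsLocalRing.maximalIdeal R).map (algebraMap R S) := by
    intro s
    rw [Ideal.smul_top_eq_map]
    exact Iff.rfl
  have hinj : Function.Injective (LinearMap.lTensor (IsLocalRing.ResidueField R) u) := by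
    rw [injective_iff_map_eq_zero]
    intro z hz
    obtain ⟨s, rfl⟩ := Groth.Agent.Helper8.FlatLocal.exists_one_tmul_eq
      (IsLocalRing.maximalIdeal R) z
    have h1 : ((1 : R ⧸ IsLocalRing.maximalIdeal R) ⊗ₜ[R] (f * s) : (R ⧸ IsLocalRing.maximalIdeal R) ⊗[R] S) = 0 := hz
    rw [Groth.Agent.Helper8.FlatLocal.one_tmul_eq_zero_iff, hmap] at h1
    have h2 : Ideal.Quotient.mk ((IsLocalRing.maximalIdeal R).map (algebraMap R S)) s *
        Ideal.Quotient.mk ((IsLocalRing.maximalIdeal R).map (algebraMap R S)) f = 0 := by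
      rw [← map_mul, mul_comm, Ideal.Quotient.eq_zero_iff_mem]
      exact h1
    have h3 := (mem_nonZeroDivisors_iff_right.mp hf) _ h2
    rw [Ideal.Quotient.eq_zero_iff_mem, ← hmap] at h3
    exact (Groth.Agent.Helper8.FlatLocal.one_tmul_eq_zero_iff
      (IsLocalRing.maximalIdeal R) s).mpr h3
  obtain ⟨h1, h2⟩ := Groth.Agent.Helper8.FlatLocal.injective_and_flat_quotient (S := S) u hinj
  constructor
  · have hrange : LinearMap.range u = (Ideal.span {f}).restrictScalars R := by
      ext x
      rw [LinearMap.mem_range, Submodule.restrictScalars_mem, Ideal.mem_span_singleton']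
      constructor
      · rintro ⟨s, hs⟩
        exact ⟨s, by rw [← hs, mul_comm]; rfl⟩
      · rintro ⟨a, ha⟩
        exact ⟨a, by rw [← ha, mul_comm]; rfl⟩
    let e : (S ⧸ LinearMap.range u) ≃ₗ[R] (S ⧸ Ideal.span {f}) :=
      (Submodule.quotEquivOfEq _ _ hrange).trans
        (Submodule.Quotient.restrictScalarsEquiv R (Ideal.span {f}))
    exact Module.Flat.of_linearEquiv e.symm
  · rw [mem_nonZeroDivisors_iff_right]
    intro x hx
    apply h1
    rw [map_zero]
    change f * x = 0
    rw [mul_comm]
    exact hx

end Groth.Agent.S0395
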