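import Groth.Statements.S0397
import Groth.Agent.Lib.Helper8.Nakayama

set_option autoImplicit false
universe u
open FlatMor
open TensorProduct

namespace Groth.Agent.S0397

/-- Over a local ring whose maximal ideal is nilpotent, every flat module (not necessarily finitely
generated) is free. -/
theorem result {R M : Type u} [CommRing R] [IsLocalRing R] (hR : IsNilpotent (IsLocalRing.maximalIdeal R))
    [AddCommGroup M] [Module R M] [Module.Flat R M] : Module.Free R M := by
  classical
  let B := Module.Free.chooseBasis (IsLocalRing.ResidueField R) (IsLocalRing.ResidueField R ⊗[R] M)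
  have hsurj : Function.Surjective (TensorProduct.mk R (IsLocalRing.ResidueField R) M 1) :=
    TensorProduct.mk_surjective R M (IsLocalRing.ResidueField R) IsLocalRing.residue_surjective
  choose v hv using fun i => hsurj (B i)
  have hcomp : (TensorProduct.mk R (IsLocalRing.ResidueField R) M 1 ∘ v) = B := funext hv
  have hli : LinearIndependent R v := Module.IsLocalRing.linearIndependent_of_flat v (by
    rw [hcomp]; exact B.linearIndependent)
  have hspan : Submodule.span R (Set.range v) = ⊤ := by
    apply Groth.Agent.Helper8.eq_top_of_sup_smul_top_eq_top_of_isNilpotent _ hR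
    rw [eq_top_iff]
    intro m _
    -- the image of the span is everything
    have hmap : Submodule.map (TensorProduct.mk R (IsLocalRing.ResidueField R) M 1)
        (Submodule.span R (Set.range v)) = ⊤ := by
      rw [Submodule.map_span, ← Set.range_comp, hcomp,
        ← Submodule.restrictScalars_span R (IsLocalRing.ResidueField R)
          IsLocalRing.residue_surjective, B.span_eq]
      rfl
    have hm : TensorProduct.mk R (IsLocalRing.ResidueField R) M 1 m ∈
        Submodule.map (TensorProduct.mk R (IsLocalRing.ResidueField R) M 1)
        (Submodule.span R (Set.range v)) := by rw [hmap]; trivial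
    obtain ⟨n, hn, hnm⟩ := hm
    have hker : m - n ∈ LinearMap.ker (TensorProduct.mk R (IsLocalRing.ResidueField R) M 1) := by
      rw [LinearMap.mem_ker, map_sub, hnm, sub_self]
    have hker' : m - n ∈ LinearMap.ker (TensorProduct.mk R (R ⧸ IsLocalRing.maximalIdeal R) M 1) :=
      hker
    rw [LinearMap.ker_tensorProductMk] at hker'
    have : m = n + (m - n) := by abel
    rw [this]
    exact Submodule.add_mem_sup hn hker'
  exact Module.Free.of_basis (Module.Basis.mk hli hspan.ge)

end Groth.Agent.S0397
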