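import Mathlib
import Groth.Statements.S0401

set_option autoImplicit false
universe u
open FlatMor

namespace Groth.Agent.S0401

theorem result {R S : Type u} [CommRing R] [CommRing S] [Algebra R S] [Algebra.FiniteType R S] (q : Ideal S) [q.IsPrime] [Algebra.QuasiFiniteAt R q] :
    ringKrullDim (Localization.AtPrime q) ≤ ringKrullDim (Localization.AtPrime (q.under R)) := by
  have H := Algebra.ZariskisMainProperty.of_finiteType (R := R) q
  obtain ⟨r, hrq, hr, hH⟩ := Algebra.zariskisMainProperty_iff.1 H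
  rw [IsLocalization.AtPrime.ringKrullDim_eq_height q,
    IsLocalization.AtPrime.ringKrullDim_eq_height (q.under R)]
  let Q : PrimeSpectrum S := ⟨q, inferInstance⟩
  let P : PrimeSpectrum R := ⟨q.under R, inferInstance⟩
  change ((Q.asIdeal.height : ℕ∞) : WithBot ℕ∞) ≤ P.asIdeal.height
  rw [PrimeSpectrum.height_eq_orderHeight, PrimeSpectrum.height_eq_orderHeight,
    Order.height_eq_krullDim_Iic, Order.height_eq_krullDim_Iic]
  let φ : Set.Iic Q → Set.Iic P := fun 𝔞 =>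
    ⟨PrimeSpectrum.comap (algebraMap R S) 𝔞.1, by
      have h1 : 𝔞.1 ≤ Q := 𝔞.2
      rw [Set.mem_Iic, ← PrimeSpectrum.asIdeal_le_asIdeal]
      exact Ideal.comap_mono ((PrimeSpectrum.asIdeal_le_asIdeal _ _).2 h1)⟩
  apply Order.krullDim_le_of_strictMono φ
  intro 𝔞 𝔟 hab
  have hab' : 𝔞.1.asIdeal < 𝔟.1.asIdeal := (PrimeSpectrum.asIdeal_lt_asIdeal _ _).2 hab
  have hbQ : 𝔟.1.asIdeal ≤ q := (PrimeSpectrum.asIdeal_le_asIdeal _ _).2 𝔟.2
  obtain ⟨x, hxb, hxa⟩ := Set.exists_of_ssubset hab'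
  obtain ⟨m, hm⟩ := hH x
  have hrb : r ∉ 𝔟.1.asIdeal := fun h => hrq (hbQ h)
  have hra : r ∉ 𝔞.1.asIdeal := fun h => hrb (hab'.le h)
  have hmem : r ^ m * x ∈ (𝔟.1.asIdeal : Set S) \ 𝔞.1.asIdeal := by
    refine ⟨Ideal.mul_mem_left _ _ hxb, ?_⟩
    intro h
    rcases 𝔞.1.isPrime.mem_or_mem h with h | h
    · exact hra (𝔞.1.isPrime.mem_of_pow_mem _ h)
    · exact hxa h
  have := Ideal.comap_lt_comap_of_integral_mem_sdiff hab'.le hmem hm
  change (φ 𝔞).1 < (φ 𝔟).1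
  rw [← PrimeSpectrum.asIdeal_lt_asIdeal]
  exact this

end Groth.Agent.S0401
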