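import Groth.Statements.S0408
import Groth.Agent.Lib.Helper18.EtLoc7

set_option autoImplicit false
universe u
open FlatMor

namespace Groth.Agent.S0408

open AlgebraicGeometry CategoryTheory Limits in
/-- Étale localization of a quasi-finite point (one-point case): for f separated and locally of finite
type and x isolated in its fibre, after base change along an étale morphism g with a point u over
f(x) having the same residue field, the base change splits off an open and closed piece V, finite
over the base, whose fibre over u is a single point v lying over x with the same residue field as x,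
and no other point over u lies over x. -/
theorem result {X S : Scheme.{u}} (f : X ⟶ S) [LocallyOfFiniteType f] [IsSeparated f] (x : X) (hx : f.QuasiFiniteAt x) :
    ∃ (U : Scheme.{u}) (g : U ⟶ S) (u : U), Etale g ∧ g u = f x ∧ Function.Surjective (g.residueFieldMap u) ∧
      ∃ (V : (pullback f g).Opens) (v : ↑(pullback f g)), IsClopen (V : Set ↑(pullback f g)) ∧
        IsFinite (V.ι ≫ pullback.snd f g) ∧ v ∈ V ∧ pullback.fst f g v = x ∧ pullback.snd f g v = u ∧
        Function.Surjective ((pullback.fst f g).residueFieldMap v) ∧
        (∀ w : ↑(pullback f g), pullback.snd f g w = u → (w ∈ V ∨ pullback.fst f g w = x) → w = v) := by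
  obtain ⟨U, g, u, hnb, V, v, hvV, hfin, hsv, huq, hfv, hbij⟩ :=
    Groth.Agent.Helper18.EtLoc.qf_core f x hx
  refine ⟨U, g, u, hnb.etale, hnb.base_eq, hnb.residue_bijective.surjective, V, v, ⟨?_, V.2⟩,
    hfin, hvV, hfv, hsv, hbij.surjective, ?_⟩
  · haveI := hfin
    haveI : IsFinite V.ι := IsFinite.of_comp _ (pullback.snd f g)
    have := V.ι.isClosedMap.isClosed_range
    rwa [Scheme.Opens.range_ι] at this
  · intro w hw hor
    rcases hor with h | h
    · exact huq w h hw
    · refine Groth.Agent.Helper18.EtLoc.eq_of_fst_snd_eq f g w v (h.trans hfv.symm)
        (hw.trans hsv.symm) ?_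
      have : ∀ z, z = u → Function.Bijective (g.residueFieldMap z).hom := by
        rintro z rfl; exact hnb.residue_bijective
      exact this _ hsv

end Groth.Agent.S0408
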