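import Groth.Statements.S0411
import Mathlib

set_option autoImplicit false
universe u
open FlatMor

namespace Groth.Agent.S0411

open AlgebraicGeometry CategoryTheory Limits

lemma aux1 (Z : Scheme.{u}) [IsAffine Z] (W : Z.Opens) (P : Finset Z) (hP : ∀ z ∈ P, z ∈ W) :
    ∃ b : Γ(Z, ⊤), Z.basicOpen b ≤ W ∧ ∀ z ∈ P, z ∈ Z.basicOpen b := by
  classical
  rcases P.eq_empty_or_nonempty with rfl | ⟨z₀, hz₀⟩
  · exact ⟨0, by simp, by simp⟩
  let q : Z → PrimeSpectrum Γ(Z, ⊤) := fun z => Z.toSpecΓ z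
  have hmem : ∀ (b : Γ(Z, ⊤)) (z : Z), z ∈ Z.basicOpen b ↔ b ∉ (q z).asIdeal := fun b z => by
    rw [← Scheme.toSpecΓ_preimage_basicOpen]
    exact Iff.rfl
  have hqinj : Function.Injective q := Z.toSpecΓ.isOpenEmbedding.injective
  have hopen : IsOpen (q '' (W : Set Z)) := Z.toSpecΓ.isOpenEmbedding.isOpenMap _ W.isOpen
  obtain ⟨s, hs⟩ := (PrimeSpectrum.isOpen_iff _).mp hopen
  have hW' : ∀ z : Z, q z ∈ q '' (W : Set Z) ↔ z ∈ W := fun z => hqinj.mem_set_image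
  have hI : ∀ z : Z, z ∈ W → ¬ (Ideal.span s ≤ (q z).asIdeal) := fun z hz hle => by
    have h1 : q z ∈ (q '' (W : Set Z))ᶜ := by
      rw [hs]
      exact (PrimeSpectrum.mem_zeroLocus (q z) s).mpr (Ideal.span_le.mp hle)
    exact h1 ((hW' z).mpr hz)
  have hsub : ∀ b ∈ Ideal.span s, Z.basicOpen b ≤ W := fun b hb z hz => by
    by_contra hzW
    have h1 : q z ∈ (q '' (W : Set Z))ᶜ := fun h => hzW ((hW' z).mp h)
    rw [hs] at h1
    have h2 : Ideal.span s ≤ (q z).asIdeal :=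
      Ideal.span_le.mpr ((PrimeSpectrum.mem_zeroLocus (q z) s).mp h1)
    exact ((hmem b z).mp hz) (h2 hb)
  by_contra hcon
  have hcov : ((Ideal.span s : Ideal Γ(Z, ⊤)) : Set Γ(Z, ⊤)) ⊆
      ⋃ z ∈ (↑P : Set Z), ((q z).asIdeal : Set Γ(Z, ⊤)) := by
    intro b hb
    by_contra hb'
    apply hcon
    refine ⟨b, hsub b hb, fun z hz => (hmem b z).mpr fun hbz => hb' ?_⟩
    exact Set.mem_biUnion (Finset.mem_coe.mpr hz) hbz
  obtain ⟨z, hz, hle⟩ := (Ideal.subset_union_prime (f := fun z => (q z).asIdeal) z₀ z₀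
    (fun z _ _ _ => (q z).isPrime)).mp hcov
  exact hI z (hP z hz) hle


open AlgebraicGeometry CategoryTheory Limits in
/-- For a separated, locally quasi-finite morphism (locally of finite type with discrete fibres) to an
affine scheme, every finite set of points of the source lies in an affine open. -/
theorem result {X Y : Scheme.{u}} (f : X ⟶ Y) [IsAffine Y] [IsSeparated f] [LocallyQuasiFinite f] [LocallyOfFiniteType f] (T : Finset ↑X) :
    ∃ U : X.Opens, IsAffineOpen U ∧ ∀ x ∈ T, x ∈ U := by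
  classical
  have hcov : ∀ x : X, ∃ U : X.Opens, IsAffineOpen U ∧ x ∈ U := fun x => by
    obtain ⟨_, ⟨U, hU, rfl⟩, hxU, -⟩ :=
      X.isBasis_affineOpens.exists_subset_of_mem_open (Set.mem_univ x) isOpen_univ
    exact ⟨U, hU, hxU⟩
  choose A hA hxA using hcov
  obtain ⟨X₀, hX₀⟩ : ∃ X₀ : X.Opens, (X₀ : Set X) = ⋃ x ∈ T, (A x : Set X) :=
    ⟨⟨⋃ x ∈ T, (A x : Set X), isOpen_biUnion fun x _ => (A x).isOpen⟩, rfl⟩
  have hX₀c : IsCompact (X₀ : Set X) := by
    rw [hX₀]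
    exact T.isCompact_biUnion fun x _ => (hA x).isCompact
  have hTX₀ : ∀ x ∈ T, x ∈ X₀ := fun x hx => by
    show x ∈ (X₀ : Set X)
    rw [hX₀]
    exact Set.mem_biUnion (Finset.mem_coe.mpr hx) (hxA x)
  haveI : CompactSpace (X₀ : Scheme.{u}) := isCompact_iff_compactSpace.mp hX₀c
  obtain ⟨f₀, hf₀⟩ : ∃ f₀ : (X₀ : Scheme.{u}) ⟶ Y, f₀ = X₀.ι ≫ f := ⟨_, rfl⟩
  haveI : IsSeparated f₀ := hf₀ ▸ inferInstance
  haveI : LocallyQuasiFinite f₀ := hf₀ ▸ inferInstance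
  haveI : LocallyOfFiniteType f₀ := hf₀ ▸ inferInstance
  haveI : QuasiCompact f₀ := inferInstance
  haveI : IsAffine f₀.normalization := isAffine_of_isAffineHom f₀.fromNormalization
  haveI : IsOpenImmersion f₀.toNormalization := inferInstance
  have hpt : ∀ x : {x // x ∈ T}, ∃ p : (X₀ : Scheme.{u}), X₀.ι p = x.1 := fun x => by
    have h : x.1 ∈ Set.range X₀.ι := by
      rw [Scheme.Opens.range_ι]
      exact hTX₀ x.1 x.2
    exact h
  choose pt hpt using hpt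
  obtain ⟨b, hbW, hbP⟩ := aux1 f₀.normalization f₀.toNormalization.opensRange
    (T.attach.image (fun x => f₀.toNormalization (pt x))) (by
      intro z hz
      obtain ⟨x, -, rfl⟩ := Finset.mem_image.mp hz
      exact ⟨_, rfl⟩)
  have hD : IsAffineOpen (f₀.normalization.basicOpen b) := (isAffineOpen_top _).basicOpen b
  have hV₀ : IsAffineOpen (f₀.toNormalization ⁻¹ᵁ f₀.normalization.basicOpen b) :=
    hD.preimage_of_isOpenImmersion _ hbW
  refine ⟨X₀.ι ''ᵁ (f₀.toNormalization ⁻¹ᵁ f₀.normalization.basicOpen b),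
    hV₀.image_of_isOpenImmersion X₀.ι, fun x hx => ?_⟩
  refine ⟨pt ⟨x, hx⟩, ?_, hpt ⟨x, hx⟩⟩
  exact hbP _ (Finset.mem_image.mpr ⟨⟨x, hx⟩, Finset.mem_attach _ _, rfl⟩)

end Groth.Agent.S0411
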