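import Mathlib
import Groth.Statements.S0416

set_option autoImplicit false
universe u
open FlatMor

namespace Groth.Agent.S0416

open AlgebraicGeometry CategoryTheory Limits

theorem isHomeomorph_of_comp_left {α β γ : Type*} [TopologicalSpace α] [TopologicalSpace β]
    [TopologicalSpace γ] {p : α → β} {q : β → γ} (hqp : IsHomeomorph (q ∘ p)) (hq : IsHomeomorph q) :
    IsHomeomorph p := by
  have : p = (hq.homeomorph q).symm ∘ (q ∘ p) := by
    funext x
    simp only [Function.comp_apply]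
    exact ((hq.homeomorph q).symm_apply_apply (p x)).symm
  rw [this]
  exact (hq.homeomorph q).symm.isHomeomorph.comp hqp

theorem isHomeomorph_of_comp_right {α β γ : Type*} [TopologicalSpace α] [TopologicalSpace β]
    [TopologicalSpace γ] {p : α → β} {q : β → γ} (hqp : IsHomeomorph (q ∘ p)) (hp : IsHomeomorph p) :
    IsHomeomorph q := by
  have : q = (q ∘ p) ∘ (hp.homeomorph p).symm := by
    funext x
    simp only [Function.comp_apply]
    congr 1
    exact ((hp.homeomorph p).apply_symm_apply x).symm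
  rw [this]
  exact hqp.comp (hp.homeomorph p).symm.isHomeomorph

theorem comp_coe {X Y Z : Scheme.{u}} (f : X ⟶ Y) (g : Y ⟶ Z) :
    (⇑(f ≫ g) : X → Z) = ⇑g ∘ ⇑f := by
  funext x
  simp

theorem part1 {X Y Z : Scheme.{u}} (g : X ⟶ Y) (h : Y ⟶ Z)
    (hgh : FlatMor.IsUnivHomeo (g ≫ h)) (hg : FlatMor.IsUnivHomeo g) : FlatMor.IsUnivHomeo h := by
  intro Y' Z' i₁ i₂ h' sq
  have sq1 : IsPullback (pullback.snd g i₁) (pullback.fst g i₁) i₁ g :=
    (IsPullback.of_hasPullback g i₁).flip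
  have sq2 := sq1.paste_horiz sq
  have h1 : IsHomeomorph ⇑(pullback.snd g i₁) := hg _ _ _ sq1
  have h2 : IsHomeomorph ⇑(pullback.snd g i₁ ≫ h') := hgh _ _ _ sq2
  rw [comp_coe] at h2
  exact isHomeomorph_of_comp_right h2 h1

theorem part2 {X Y Z : Scheme.{u}} (g : X ⟶ Y) (h : Y ⟶ Z)
    (hgh : FlatMor.IsUnivHomeo (g ≫ h)) (hh : FlatMor.IsUnivHomeo h) : FlatMor.IsUnivHomeo g := by
  intro X' T i₁ i₂ g' sq
  -- Y' = pullback of h along i₂ ≫ h
  let a : pullback h (i₂ ≫ h) ⟶ Y := pullback.fst h (i₂ ≫ h)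
  let h' : pullback h (i₂ ≫ h) ⟶ T := pullback.snd h (i₂ ≫ h)
  have sqh : IsPullback h' a (i₂ ≫ h) h := (IsPullback.of_hasPullback h (i₂ ≫ h)).flip
  have hh' : IsHomeomorph ⇑h' := hh _ _ _ sqh
  let σ : T ⟶ pullback h (i₂ ≫ h) := pullback.lift i₂ (𝟙 T) (by simp)
  have hσa : σ ≫ a = i₂ := pullback.lift_fst _ _ _
  have hσh : σ ≫ h' = 𝟙 T := pullback.lift_snd _ _ _
  -- X'' = pullback of g along a
  let b : pullback g a ⟶ X := pullback.fst g a
  let g'' : pullback g a ⟶ pullback h (i₂ ≫ h) := pullback.snd g a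
  have sqg : IsPullback g'' b a g := (IsPullback.of_hasPullback g a).flip
  have sqgh := sqg.paste_horiz sqh
  have hg''h' : IsHomeomorph ⇑(g'' ≫ h') := hgh _ _ _ sqgh
  rw [comp_coe] at hg''h'
  have hg'' : IsHomeomorph ⇑g'' := isHomeomorph_of_comp_left hg''h' hh'
  -- τ : X' → X''
  let τ : X' ⟶ pullback g a := pullback.lift i₁ (g' ≫ σ) (by
    rw [Category.assoc, hσa]; exact sq.w.symm)
  have hτb : τ ≫ b = i₁ := pullback.lift_fst _ _ _
  have hτg : τ ≫ g'' = g' ≫ σ := pullback.lift_snd _ _ _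
  have sqtop : IsPullback g' τ σ g'' := by
    refine IsPullback.of_bot ?_ hτg.symm sqg
    rw [hτb, hσa]
    exact sq
  -- σ is a homeomorphism and an immersion
  have hσ_homeo : IsHomeomorph ⇑σ := by
    have : IsHomeomorph (⇑h' ∘ ⇑σ) := by
      rw [← comp_coe, hσh]
      exact IsHomeomorph.id
    exact isHomeomorph_of_comp_left this hh'
  have hσ_imm : IsImmersion σ := by
    have : IsImmersion (σ ≫ h') := by rw [hσh]; infer_instance
    exact IsImmersion.of_comp σ h'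
  have hσ_surj : Surjective σ := ⟨hσ_homeo.surjective⟩
  have hτ_imm : IsImmersion τ := MorphismProperty.of_isPullback sqtop hσ_imm
  have hτ_surj : Surjective τ := MorphismProperty.of_isPullback sqtop hσ_surj
  have hτ_homeo : IsHomeomorph ⇑τ :=
    isHomeomorph_iff_isEmbedding_surjective.2 ⟨τ.isEmbedding, hτ_surj.surj⟩
  -- conclude
  have h3 : IsHomeomorph (⇑σ ∘ ⇑g') := by
    rw [← comp_coe, ← hτg, comp_coe]
    exact hg''.comp hτ_homeo
  exact isHomeomorph_of_comp_left h3 hσ_homeo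

theorem result {X Y Z : Scheme.{u}} (g : X ⟶ Y) (h : Y ⟶ Z) :
    (FlatMor.IsUnivHomeo (g ≫ h) → FlatMor.IsUnivHomeo g → FlatMor.IsUnivHomeo h) ∧
    (FlatMor.IsUnivHomeo (g ≫ h) → FlatMor.IsUnivHomeo h → FlatMor.IsUnivHomeo g) :=
  ⟨part1 g h, part2 g h⟩

end Groth.Agent.S0416
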