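import Mathlib
import Groth.Statements.S0421
import Groth.Agent.Lib.Helper9.DVRFib
-- import your own Groth.Agent.* helpers here

set_option autoImplicit false
universe u
open FlatMor

namespace Groth.Agent.S0421


theorem isOpen_generic {R : Type u} [CommRing R] [IsDomain R] [IsDiscreteValuationRing R] :
    IsOpen ({(⟨⊥, Ideal.isPrime_bot⟩ : PrimeSpectrum R)} : Set (PrimeSpectrum R)) := by
  have hcompl : ({(⟨⊥, Ideal.isPrime_bot⟩ : PrimeSpectrum R)} : Set (PrimeSpectrum R))ᶜ =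
      {IsLocalRing.closedPoint R} := by
    ext p
    simp only [Set.mem_compl_iff, Set.mem_singleton_iff]
    constructor
    · intro hp
      have hp0 : p.asIdeal ≠ ⊥ := fun h => hp (PrimeSpectrum.ext h)
      have hmax : p.asIdeal.IsMaximal := p.isPrime.isMaximal hp0
      exact PrimeSpectrum.ext (IsLocalRing.eq_maximalIdeal hmax)
    · rintro rfl h
      have : IsLocalRing.maximalIdeal R = ⊥ := congrArg PrimeSpectrum.asIdeal h
      exact IsDiscreteValuationRing.not_a_field R this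
  rw [← isClosed_compl_iff, hcompl, PrimeSpectrum.isClosed_singleton_iff_isMaximal]
  exact IsLocalRing.maximalIdeal.isMaximal R

open AlgebraicGeometry CategoryTheory Limits in
/-- For a flat morphism from a connected scheme to the spectrum of a discrete valuation ring with
reduced closed fibre, the generic fibre is connected. -/
theorem result {R : Type u} [CommRing R] [IsDomain R] [IsDiscreteValuationRing R] {X : Scheme.{u}}
    (f : X ⟶ Spec (CommRingCat.of R)) [Flat f] [ConnectedSpace ↑X]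
    (hred : IsReduced (f.fiber (IsLocalRing.closedPoint R))) :
    ConnectedSpace ↑(f.fiber (⟨⊥, Ideal.isPrime_bot⟩ : PrimeSpectrum R)) := by
  suffices h : _root_.IsConnected (f ⁻¹' {(⟨⊥, Ideal.isPrime_bot⟩ : PrimeSpectrum R)}) by
    haveI : ConnectedSpace (f ⁻¹' {(⟨⊥, Ideal.isPrime_bot⟩ : PrimeSpectrum R)}) :=
      isConnected_iff_connectedSpace.mp h
    exact (f.fiberHomeo _).symm.surjective.connectedSpace (f.fiberHomeo _).symm.continuous
  have hE_open : IsOpen (f ⁻¹' {(⟨⊥, Ideal.isPrime_bot⟩ : PrimeSpectrum R)}) :=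
    isOpen_generic.preimage f.continuous
  have hg := Flat.generalizingMap f
  have hgen : ∀ x : X, ∃ x' : X, f x' = (⟨⊥, Ideal.isPrime_bot⟩ : PrimeSpectrum R) ∧ x' ⤳ x := by
    intro x
    obtain ⟨x', h1, h2⟩ := hg (a := x) (b := (⟨⊥, Ideal.isPrime_bot⟩ : PrimeSpectrum R))
      ((PrimeSpectrum.le_iff_specializes (⟨⊥, Ideal.isPrime_bot⟩ : PrimeSpectrum R) (f x)).mp
        (show (⊥ : Ideal R) ≤ _ from bot_le))
    exact ⟨x', h2, h1⟩
  refine ⟨?_, ?_⟩
  · obtain ⟨x⟩ := (inferInstance : Nonempty X)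
    obtain ⟨x', h1, -⟩ := hgen x
    exact ⟨x', h1⟩
  · intro u v hu hv huv hnu hnv
    by_contra hemp
    rw [Set.not_nonempty_iff_eq_empty] at hemp
    have hUo : IsOpen (f ⁻¹' {(⟨⊥, Ideal.isPrime_bot⟩ : PrimeSpectrum R)} ∩ u) := hE_open.inter hu
    have hVo : IsOpen (f ⁻¹' {(⟨⊥, Ideal.isPrime_bot⟩ : PrimeSpectrum R)} ∩ v) := hE_open.inter hv
    have hdisj : Disjoint (f ⁻¹' {(⟨⊥, Ideal.isPrime_bot⟩ : PrimeSpectrum R)} ∩ u)
        (f ⁻¹' {(⟨⊥, Ideal.isPrime_bot⟩ : PrimeSpectrum R)} ∩ v) := by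
      rw [Set.disjoint_left]
      rintro y ⟨hy1, hy2⟩ ⟨-, hy3⟩
      have : y ∈ f ⁻¹' {(⟨⊥, Ideal.isPrime_bot⟩ : PrimeSpectrum R)} ∩ (u ∩ v) := ⟨hy1, hy2, hy3⟩
      rw [hemp] at this
      exact this
    have hcovE : (f ⁻¹' {(⟨⊥, Ideal.isPrime_bot⟩ : PrimeSpectrum R)} ∩ u) ∪
        (f ⁻¹' {(⟨⊥, Ideal.isPrime_bot⟩ : PrimeSpectrum R)} ∩ v) =
        f ⁻¹' {(⟨⊥, Ideal.isPrime_bot⟩ : PrimeSpectrum R)} := by
      rw [← Set.inter_union_distrib_left]
      exact Set.inter_eq_left.mpr huv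
    have hcl : (Set.univ : Set X) ⊆
        closure (f ⁻¹' {(⟨⊥, Ideal.isPrime_bot⟩ : PrimeSpectrum R)} ∩ u) ∪
        closure (f ⁻¹' {(⟨⊥, Ideal.isPrime_bot⟩ : PrimeSpectrum R)} ∩ v) := by
      intro x _
      obtain ⟨x', h1, h2⟩ := hgen x
      have hx'E : x' ∈ f ⁻¹' {(⟨⊥, Ideal.isPrime_bot⟩ : PrimeSpectrum R)} := h1
      rw [← hcovE] at hx'E
      rcases hx'E with h | h
      · exact Or.inl (h2.mem_closed isClosed_closure (subset_closure h))
      · exact Or.inr (h2.mem_closed isClosed_closure (subset_closure h))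
    obtain ⟨x, -, hxU, hxV⟩ := isPreconnected_closed_iff.mp isPreconnected_univ _ _
      isClosed_closure isClosed_closure hcl
      (by obtain ⟨y, hy⟩ := hnu; exact ⟨y, trivial, subset_closure hy⟩)
      (by obtain ⟨y, hy⟩ := hnv; exact ⟨y, trivial, subset_closure hy⟩)
    obtain ⟨_, ⟨W, hW, rfl⟩, hxW, -⟩ := X.isBasis_affineOpens.exists_subset_of_mem_open
      (Set.mem_univ x) isOpen_univ
    obtain ⟨ψ, hψ⟩ := Spec.map_surjective (hW.fromSpec ≫ f)
    letI : Algebra R Γ(X, W) := ψ.hom.toAlgebra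
    haveI : Flat (Spec.map ψ) := by rw [hψ]; infer_instance
    have hflat : ψ.hom.Flat := (HasRingHomProperty.Spec_iff (P := @Flat)).mp inferInstance
    haveI : Module.Flat R Γ(X, W) := hflat
    obtain ⟨ϖ, hϖ⟩ := IsDiscreteValuationRing.exists_irreducible R
    have hmax : IsLocalRing.maximalIdeal R = Ideal.span {ϖ} := hϖ.maximalIdeal_eq
    have hπ : algebraMap R Γ(X, W) ϖ ∈ nonZeroDivisors Γ(X, W) := by
      have hreg : IsSMulRegular Γ(X, W) ϖ :=
        Module.Flat.isSMulRegular_of_nonZeroDivisors (mem_nonZeroDivisors_of_ne_zero hϖ.ne_zero)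
      rw [mem_nonZeroDivisors_iff_right]
      intro a ha
      apply hreg
      change ϖ • a = ϖ • (0 : Γ(X, W))
      rw [smul_zero, Algebra.smul_def, mul_comm]
      exact ha
    have hrad := Groth.Agent.Helper9.DVRFib.fiber_radical f hred Γ(X, W) hW.fromSpec hψ.symm
    rw [hmax, Ideal.map_span, Set.image_singleton] at hrad
    have hfs : ∀ P : PrimeSpectrum Γ(X, W),
        (hW.fromSpec P ∈ f ⁻¹' {(⟨⊥, Ideal.isPrime_bot⟩ : PrimeSpectrum R)}) ↔
        P ∈ (PrimeSpectrum.basicOpen (algebraMap R Γ(X, W) ϖ) : Set (PrimeSpectrum Γ(X, W))) := by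
      intro P
      have h1 : f (hW.fromSpec P) = (Spec.map ψ) P := by rw [hψ]; rfl
      change f (hW.fromSpec P) = _ ↔ _
      rw [h1]
      constructor
      · intro h hmem
        have h2 : ϖ ∈ ((Spec.map ψ) P).asIdeal := hmem
        rw [h] at h2
        exact hϖ.ne_zero h2
      · intro h
        apply PrimeSpectrum.ext
        by_contra hne
        have hq : ((Spec.map ψ) P).asIdeal.IsMaximal := ((Spec.map ψ) P).isPrime.isMaximal hne
        have h3 := IsLocalRing.eq_maximalIdeal hq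
        apply h
        show ϖ ∈ ((Spec.map ψ) P).asIdeal
        rw [h3, hmax]
        exact Ideal.mem_span_singleton_self ϖ
    have hcovA : hW.fromSpec ⁻¹' (f ⁻¹' {(⟨⊥, Ideal.isPrime_bot⟩ : PrimeSpectrum R)} ∩ u) ∪
        hW.fromSpec ⁻¹' (f ⁻¹' {(⟨⊥, Ideal.isPrime_bot⟩ : PrimeSpectrum R)} ∩ v) =
        (PrimeSpectrum.basicOpen (algebraMap R Γ(X, W) ϖ) : Set (PrimeSpectrum Γ(X, W))) := by
      rw [← Set.preimage_union, hcovE]
      ext P
      exact hfs P
    have hp : hW.fromSpec (hW.primeIdealOf ⟨x, hxW⟩) = x := hW.fromSpec_primeIdealOf ⟨x, hxW⟩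
    have hpU : hW.primeIdealOf ⟨x, hxW⟩ ∈
        closure (hW.fromSpec ⁻¹' (f ⁻¹' {(⟨⊥, Ideal.isPrime_bot⟩ : PrimeSpectrum R)} ∩ u)) := by
      have h0 : hW.fromSpec (hW.primeIdealOf ⟨x, hxW⟩) ∈
          closure (f ⁻¹' {(⟨⊥, Ideal.isPrime_bot⟩ : PrimeSpectrum R)} ∩ u) := by
        rw [hp]; exact hxU
      rw [← hW.fromSpec.isOpenEmbedding.isOpenMap.preimage_closure_eq_closure_preimage
        hW.fromSpec.continuous]
      exact h0
    have hpV : hW.primeIdealOf ⟨x, hxW⟩ ∈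
        closure (hW.fromSpec ⁻¹' (f ⁻¹' {(⟨⊥, Ideal.isPrime_bot⟩ : PrimeSpectrum R)} ∩ v)) := by
      have h0 : hW.fromSpec (hW.primeIdealOf ⟨x, hxW⟩) ∈
          closure (f ⁻¹' {(⟨⊥, Ideal.isPrime_bot⟩ : PrimeSpectrum R)} ∩ v) := by
        rw [hp]; exact hxV
      rw [← hW.fromSpec.isOpenEmbedding.isOpenMap.preimage_closure_eq_closure_preimage
        hW.fromSpec.continuous]
      exact h0
    exact Set.disjoint_left.mp (Groth.Agent.Helper9.DVRFib.clopen_lemma _ hπ hrad _ _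
      (hUo.preimage hW.fromSpec.continuous) (hVo.preimage hW.fromSpec.continuous)
      (hdisj.preimage _) hcovA) hpU hpV

end Groth.Agent.S0421
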