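import Mathlib
import Groth.Statements.S0423

set_option autoImplicit false
universe u
open FlatMor

namespace Groth.Agent.S0423

open AlgebraicGeometry CategoryTheory Limits TensorProduct

/-- If `T → S` is a flat surjective ring hom then its kernel is idempotent. -/
theorem ker_idempotent_of_flat_of_surjective {T S : Type u} [CommRing T] [CommRing S]
    (F : T →+* S) (hF : Function.Surjective F) (hflat : F.Flat) :
    RingHom.ker F * RingHom.ker F = RingHom.ker F := by
  algebraize [F]
  let e : (T ⧸ RingHom.ker (Algebra.ofId T S)) ≃ₐ[T] S :=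
    Ideal.quotientKerAlgEquivOfSurjective (f := Algebra.ofId T S) hF
  have h2 : Module.Flat T (T ⧸ RingHom.ker (Algebra.ofId T S)) :=
    Module.Flat.of_linearEquiv e.toLinearEquiv
  have h3 : IsIdempotentElem (RingHom.ker (Algebra.ofId T S)) :=
    Ideal.isIdempotentElem_of_pure _
  exact h3

set_option backward.isDefEq.respectTransparency.types false in
theorem result {X Y : Scheme.{u}} (f : X ⟶ Y) [WeaklyEtale f] : FormallyUnramified f := by
  wlog hY : ∃ R, Y = Spec R
  · rw [IsZariskiLocalAtTarget.iff_of_openCover (P := @FormallyUnramified) Y.affineCover]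
    intro i
    exact this (pullback.snd f (Y.affineCover.f i)) ⟨_, rfl⟩
  obtain ⟨R, rfl⟩ := hY
  wlog hX : ∃ S, X = Spec S generalizing X
  · rw [IsZariskiLocalAtSource.iff_of_openCover (P := @FormallyUnramified) X.affineCover]
    intro i
    exact this (X.affineCover.f i ≫ f) ⟨_, rfl⟩
  obtain ⟨S, rfl⟩ := hX
  obtain ⟨φ, rfl : Spec.map φ = f⟩ := Spec.homEquiv.symm.surjective f
  rw [HasRingHomProperty.Spec_iff (P := @FormallyUnramified)]
  algebraize [φ.hom]
  let F := (Algebra.TensorProduct.lmul' R (S := S)).toRingHom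
  have hF : Function.Surjective F := fun x ↦ ⟨.mk _ _ _ x 1, by simp [F]⟩
  have hdiag : Flat (pullback.diagonal (Spec.map φ)) := WeaklyEtale.flat_diagonal
  have : Flat (Spec.map (CommRingCat.ofHom F)) := by
    rwa [← MorphismProperty.cancel_right_of_respectsIso (P := @Flat) _
      (pullbackSpecIso R S S).inv, ← AlgebraicGeometry.diagonal_SpecMap R S]
  have hFflat : F.Flat := (HasRingHomProperty.Spec_iff (P := @Flat)).1 this
  have hidem := ker_idempotent_of_flat_of_surjective F hF hFflat
  refine ⟨subsingleton_of_forall_eq 0 fun x ↦ ?_⟩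
  obtain ⟨⟨x, hx⟩, rfl⟩ := Ideal.toCotangent_surjective _ x
  refine (Ideal.toCotangent_eq_zero _ _).mpr ?_
  rw [pow_two, Subtype.coe_mk]
  change x ∈ RingHom.ker F * RingHom.ker F
  rw [hidem]
  exact hx

end Groth.Agent.S0423
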