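import Mathlib
import Groth.Statements.S0425
-- import your own Groth.Agent.* helpers here

set_option autoImplicit false
universe u
open FlatMor

namespace Groth.Agent.S0425

open CategoryTheory.Limits

open AlgebraicGeometry CategoryTheory Limits in
/-- A weakly étale universal homeomorphism is an isomorphism. -/
theorem result {X Y : Scheme.{u}} (f : X ⟶ Y) [WeaklyEtale f] (h : FlatMor.IsUnivHomeo f) : IsIso f := by
  have hhomeo : IsHomeomorph f :=
    MorphismProperty.universally_le (P := topologically (fun f => IsHomeomorph f)) _ h
  have huinj : UniversallyInjective f := by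
    rw [universallyInjective_eq]
    intro X' Y' i₁ i₂ f' sq
    have : IsHomeomorph f' := h i₁ i₂ f' sq
    exact this.injective
  have hΔs : Surjective (pullback.diagonal f) := (UniversallyInjective.iff_diagonal f).mp huinj
  have hΔh : IsHomeomorph (pullback.diagonal f) := by
    rw [isHomeomorph_iff_isEmbedding_surjective]
    exact ⟨(pullback.diagonal f).isEmbedding, (pullback.diagonal f).surjective⟩
  have hΔq : QuasiCompact (pullback.diagonal f) :=
    ⟨fun U _ hc => hΔh.homeomorph.isCompact_preimage.mpr hc⟩
  have hΔi : IsIso (pullback.diagonal f) := Flat.isIso_of_surjective_of_mono _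
  have hmono : Mono f := (pullback.isIso_diagonal_iff f).mp hΔi
  have hq : QuasiCompact f := ⟨fun U _ hc => hhomeo.homeomorph.isCompact_preimage.mpr hc⟩
  have hs : Surjective f := ⟨hhomeo.surjective⟩
  exact Flat.isIso_of_surjective_of_mono f

end Groth.Agent.S0425
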