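import Mathlib
import Groth.Statements.S0426
-- import your own Groth.Agent.* helpers here

set_option autoImplicit false
universe u
open FlatMor

namespace Groth.Agent.S0426

open TensorProduct

theorem isIdempotentElem_of_flat_quotient {R : Type*} [CommRing R] (I : Ideal R)
    [Module.Flat R (R ⧸ I)] : IsIdempotentElem I := by
  apply le_antisymm Ideal.mul_le_right
  intro a ha
  have hinj := Module.Flat.rTensor_preserves_injective_linearMap (M := R ⧸ I) I.subtype
    I.injective_subtype
  have h0 : (⟨a, ha⟩ : I) ⊗ₜ[R] (1 : R ⧸ I) = 0 := by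
    apply hinj
    rw [LinearMap.rTensor_tmul, map_zero]
    show a ⊗ₜ[R] (1 : R ⧸ I) = 0
    have h1 : a ⊗ₜ[R] (1 : R ⧸ I) = (1 : R) ⊗ₜ[R] (a • (1 : R ⧸ I)) := by
      rw [TensorProduct.tmul_smul, TensorProduct.smul_tmul', smul_eq_mul, mul_one]
    have h2 : a • (1 : R ⧸ I) = 0 := by
      rw [Algebra.smul_def, mul_one]
      exact Ideal.Quotient.eq_zero_iff_mem.mpr ha
    rw [h1, h2, TensorProduct.tmul_zero]
  have h1 := congrArg (TensorProduct.tensorQuotEquivQuotSMul I I) h0
  rw [map_zero, ← map_one (Ideal.Quotient.mk I), TensorProduct.tensorQuotEquivQuotSMul_tmul_mk,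
    one_smul, Submodule.Quotient.mk_eq_zero] at h1
  have h2 : I.subtype ⟨a, ha⟩ ∈ Submodule.map I.subtype (I • (⊤ : Submodule R I)) :=
    Submodule.mem_map_of_mem h1
  rw [Submodule.map_smul'', Submodule.map_subtype_top] at h2
  simpa using h2

theorem isIdempotentElem_ker_algebraMap {A S : Type*} [CommRing A] [CommRing S] [Algebra A S]
    [Module.Flat A S] (hs : Function.Surjective (algebraMap A S)) :
    IsIdempotentElem (RingHom.ker (algebraMap A S)) := by
  have e : (A ⧸ RingHom.ker (algebraMap A S)) ≃ₗ[A] S :=
    (Ideal.quotientKerAlgEquivOfSurjective (f := Algebra.ofId A S) hs).toLinearEquiv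
  have : Module.Flat A (A ⧸ RingHom.ker (algebraMap A S)) := Module.Flat.of_linearEquiv e
  exact isIdempotentElem_of_flat_quotient _

theorem isIdempotentElem_ker_of_flat {A S : Type*} [CommRing A] [CommRing S] (φ : A →+* S)
    (hs : Function.Surjective φ) (h : φ.Flat) : IsIdempotentElem (RingHom.ker φ) := by
  algebraize [φ]
  exact isIdempotentElem_ker_algebraMap hs

theorem flat_of_comp_of_field {R S T : Type*} [CommRing R] [Field S] [CommRing T] [Nontrivial T]
    (φ : R →+* S) (ι : S →+* T) (h : (ι.comp φ).Flat) : φ.Flat := by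
  algebraize [φ, ι, ι.comp φ]
  obtain ⟨r, hr⟩ := LinearMap.exists_leftInverse_of_injective (Algebra.linearMap S T)
    (LinearMap.ker_eq_bot.mpr (algebraMap S T).injective)
  exact Module.Flat.of_retract ((Algebra.linearMap S T).restrictScalars R) (r.restrictScalars R)
    (by ext y; exact LinearMap.congr_fun hr y)


/-- A field extension L/K such that L is weakly étale over K (equivalently the multiplication map of L
⊗_K L is flat) is algebraic and separable. -/
theorem result {K L : Type u} [Field K] [Field L] [Algebra K L] [Algebra.WeaklyEtale K L] : Algebra.IsSeparable K L := by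
  constructor
  intro x
  let L' : IntermediateField K L := IntermediateField.adjoin K {x}
  have hfg : Algebra.EssFiniteType K L' :=
    IntermediateField.essFiniteType_iff.mpr ⟨{x}, by simp [L']⟩
  have hflatL : (Algebra.TensorProduct.lmul' K (S := L)).Flat :=
    Algebra.WeaklyEtale.flat_lmul' K L
  let ι : L' →ₐ[K] L := L'.val
  have hι : ι.Flat := RingHom.Flat.of_isField (Field.toIsField L') _
  have hmap : (Algebra.TensorProduct.map ι ι).Flat := RingHom.Flat.tensorProductMap hι hι
  have hcomp : ((Algebra.TensorProduct.lmul' K (S := L)).toRingHom.comp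
      (Algebra.TensorProduct.map ι ι).toRingHom).Flat := RingHom.Flat.comp hmap hflatL
  have heq : (Algebra.TensorProduct.lmul' K (S := L)).toRingHom.comp
      (Algebra.TensorProduct.map ι ι).toRingHom =
      ι.toRingHom.comp (Algebra.TensorProduct.lmul' K (S := L')).toRingHom := by
    apply RingHom.ext
    intro t
    induction t using TensorProduct.induction_on with
    | zero => simp
    | tmul a b => simp
    | add a b ha hb => rw [map_add, map_add, ha, hb]
  rw [heq] at hcomp
  have hφ : (Algebra.TensorProduct.lmul' K (S := L')).toRingHom.Flat :=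
    flat_of_comp_of_field _ _ hcomp
  have hI : IsIdempotentElem (KaehlerDifferential.ideal K L') := by
    have hs : Function.Surjective (Algebra.TensorProduct.lmul' K (S := L')).toRingHom := by
      intro a
      exact ⟨a ⊗ₜ 1, by simp⟩
    exact isIdempotentElem_ker_of_flat _ hs hφ
  have : Algebra.FormallyUnramified K L' := ⟨(Ideal.cotangent_subsingleton_iff _).mpr hI⟩
  have hsep : Algebra.IsSeparable K L' := Algebra.FormallyUnramified.isSeparable K L'
  have hx : IsSeparable K (⟨x, IntermediateField.mem_adjoin_simple_self K x⟩ : L') :=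
    Algebra.IsSeparable.isSeparable K _
  unfold IsSeparable at hx ⊢
  rw [IntermediateField.minpoly_eq] at hx
  exact hx

end Groth.Agent.S0426
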