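import Mathlib
import Groth.Statements.S0436
import Groth.Agent.Lib.Helper9.DVRFib
-- import your own Groth.Agent.* helpers here

set_option autoImplicit false
universe u
open FlatMor

namespace Groth.Agent.S0436


open AlgebraicGeometry CategoryTheory Limits
theorem stepA {R : Type u} [CommRing R] [IsDomain R] [IsDiscreteValuationRing R] {X : Scheme.{u}}
    (f : X ⟶ Spec (CommRingCat.of R)) [LocallyOfFiniteType f] [Flat f]
    (hred : IsReduced (f.fiber (IsLocalRing.closedPoint R))) (x : X)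
    (hx : f x = IsLocalRing.closedPoint R) :
    ∃ U : X.Opens, x ∈ U ∧ IsReduced (U : Scheme.{u}) := by
  obtain ⟨_, ⟨W, hW, rfl⟩, hxW, -⟩ := X.isBasis_affineOpens.exists_subset_of_mem_open
    (Set.mem_univ x) isOpen_univ
  obtain ⟨ψ, hψ⟩ := Spec.map_surjective (hW.fromSpec ≫ f)
  letI : Algebra R Γ(X, W) := ψ.hom.toAlgebra
  haveI : Flat (Spec.map ψ) := by rw [hψ]; infer_instance
  have hflat : ψ.hom.Flat := (HasRingHomProperty.Spec_iff (P := @Flat)).mp inferInstance
  haveI : Module.Flat R Γ(X, W) := hflat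
  obtain ⟨ϖ, hϖ⟩ := IsDiscreteValuationRing.exists_irreducible R
  have hmax : IsLocalRing.maximalIdeal R = Ideal.span {ϖ} := hϖ.maximalIdeal_eq
  have hπ : algebraMap R Γ(X, W) ϖ ∈ nonZeroDivisors Γ(X, W) := by
    have hreg : IsSMulRegular Γ(X, W) ϖ :=
      Module.Flat.isSMulRegular_of_nonZeroDivisors (mem_nonZeroDivisors_of_ne_zero hϖ.ne_zero)
    rw [mem_nonZeroDivisors_iff_right]
    intro a ha
    apply hreg
    change ϖ • a = ϖ • (0 : Γ(X, W))
    rw [smul_zero, Algebra.smul_def, mul_comm]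
    exact ha
  have hrad := Groth.Agent.Helper9.DVRFib.fiber_radical f hred Γ(X, W) hW.fromSpec hψ.symm
  rw [hmax, Ideal.map_span, Set.image_singleton] at hrad
  haveI : IsLocallyNoetherian X := LocallyOfFiniteType.isLocallyNoetherian f
  haveI : IsNoetherianRing Γ(X, W) := IsLocallyNoetherian.component_noetherian ⟨W, hW⟩
  obtain ⟨r, hr1, hr2⟩ := Groth.Agent.Helper9.DVRFib.exists_kill_nilradical _ hπ hrad
  have hp : hW.fromSpec (hW.primeIdealOf ⟨x, hxW⟩) = x := hW.fromSpec_primeIdealOf ⟨x, hxW⟩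
  refine ⟨X.basicOpen r, ?_, ?_⟩
  · have hπP : algebraMap R Γ(X, W) ϖ ∈ (hW.primeIdealOf ⟨x, hxW⟩).asIdeal := by
      have h1 : f (hW.fromSpec (hW.primeIdealOf ⟨x, hxW⟩)) =
          (Spec.map ψ) (hW.primeIdealOf ⟨x, hxW⟩) := by rw [hψ]; rfl
      rw [hp, hx] at h1
      show ϖ ∈ ((Spec.map ψ) (hW.primeIdealOf ⟨x, hxW⟩)).asIdeal
      rw [← h1]
      show ϖ ∈ IsLocalRing.maximalIdeal R
      rw [hmax]
      exact Ideal.mem_span_singleton_self ϖ
    have hrP : r ∉ (hW.primeIdealOf ⟨x, hxW⟩).asIdeal := by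
      intro h
      apply (hW.primeIdealOf ⟨x, hxW⟩).isPrime.ne_top
      rw [Ideal.eq_top_iff_one]
      have h2 : r - 1 ∈ (hW.primeIdealOf ⟨x, hxW⟩).asIdeal :=
        ((Ideal.span_singleton_le_iff_mem _).mpr hπP) hr1
      have h3 := (hW.primeIdealOf ⟨x, hxW⟩).asIdeal.sub_mem h h2
      simpa using h3
    have h' : hW.primeIdealOf ⟨x, hxW⟩ ∈ hW.fromSpec ⁻¹ᵁ X.basicOpen r := by
      rw [hW.fromSpec_preimage_basicOpen]
      exact hrP
    rw [← hp]
    exact h'
  · have hB : IsAffineOpen (X.basicOpen r) := hW.basicOpen r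
    haveI : IsLocalization.Away r Γ(X, X.basicOpen r) := hW.isLocalization_basicOpen r
    haveI : _root_.IsReduced Γ(X, X.basicOpen r) := Groth.Agent.Helper9.DVRFib.isReduced_away r hr2 _
    haveI : IsReduced (Spec Γ(X, X.basicOpen r)) := (affine_isReduced_iff _).mpr inferInstance
    exact isReduced_of_isOpenImmersion hB.isoSpec.hom

open AlgebraicGeometry CategoryTheory Limits in
/-- For a proper flat morphism to the spectrum of a discrete valuation ring whose special fibre is
reduced, both the total space and the generic fibre are reduced. (The published statement is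
stronger: instead of flatness it only needs every irreducible component of the total space to
dominate the base.) -/
theorem result {R : Type u} [CommRing R] [IsDomain R] [IsDiscreteValuationRing R] {X : Scheme.{u}}
    (f : X ⟶ Spec (CommRingCat.of R)) [IsProper f] [Flat f]
    (hred : IsReduced (f.fiber (IsLocalRing.closedPoint R))) :
    IsReduced X ∧ IsReduced (f.fiber (⟨⊥, Ideal.isPrime_bot⟩ : PrimeSpectrum R)) := by
  have hX : IsReduced X := by
    have hall : ∀ x : X, ∃ U : X.Opens, x ∈ U ∧ IsReduced (U : Scheme.{u}) := by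
      by_contra hcon
      push Not at hcon
      obtain ⟨z, hz⟩ := hcon
      have hZc : IsClosed {x : X | ¬ ∃ U : X.Opens, x ∈ U ∧ IsReduced (U : Scheme.{u})} := by
        rw [← isOpen_compl_iff, isOpen_iff_forall_mem_open]
        intro y hy
        obtain ⟨U, hyU, hU⟩ := not_not.mp hy
        exact ⟨U, fun w hw => not_not.mpr ⟨U, hw, hU⟩, U.isOpen, hyU⟩
      have hfZ := f.isClosedMap _ hZc
      have hz' : z ∈ {x : X | ¬ ∃ U : X.Opens, x ∈ U ∧ IsReduced (U : Scheme.{u})} := by
        rintro ⟨U, hzU, hU⟩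
        exact hz U hzU hU
      have hzη : f z = (⟨⊥, Ideal.isPrime_bot⟩ : PrimeSpectrum R) := by
        rcases Groth.Agent.Helper9.DVRFib.eq_or_eq_of_dvr (f z) with h | h
        · exact h
        · exact absurd (stepA f hred z h) hz'
      have hsp : (⟨⊥, Ideal.isPrime_bot⟩ : PrimeSpectrum R) ⤳ IsLocalRing.closedPoint R :=
        (PrimeSpectrum.le_iff_specializes _ _).mp (show (⊥ : Ideal R) ≤ _ from bot_le)
      obtain ⟨w, hw, hws⟩ := hsp.mem_closed hfZ ⟨z, hz', hzη⟩
      exact hw (stepA f hred w hws)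
    haveI : ∀ x : X, _root_.IsReduced (X.presheaf.stalk x) := by
      intro x
      obtain ⟨U, hxU, hU⟩ := hall x
      haveI := hU
      exact isReduced_of_injective (U.stalkIso ⟨x, hxU⟩).inv.hom
        (ConcreteCategory.bijective_of_isIso (U.stalkIso ⟨x, hxU⟩).inv).1
    exact isReduced_of_isReduced_stalk X
  refine ⟨hX, ?_⟩
  haveI := Groth.Agent.Helper9.DVRFib.isOpenImmersion_fromSpecResidueField_generic R
  haveI : IsOpenImmersion (f.fiberι (⟨⊥, Ideal.isPrime_bot⟩ : PrimeSpectrum R)) := by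
    unfold Scheme.Hom.fiberι
    exact MorphismProperty.pullback_fst (P := @IsOpenImmersion) _ _ this
  exact isReduced_of_isOpenImmersion (f.fiberι (⟨⊥, Ideal.isPrime_bot⟩ : PrimeSpectrum R))

end Groth.Agent.S0436
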