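import Mathlib
import Groth.Statements.S0443
-- import your own Groth.Agent.* helpers here

set_option autoImplicit false
universe u
open FlatMor

namespace Groth.Agent.S0443

lemma alg {A B : Type u} [CommRing A] [CommRing B] (f : A →+* B) (hf : f.Finite) (q : Ideal B)
    [q.IsPrime] (hq : ∀ Q : Ideal B, Q.IsPrime → Q.comap f = q.comap f → Q = q) :
    (Localization.localRingHom (q.comap f) q f rfl).Finite := by
  algebraize [f]
  haveI : q.LiesOver (q.comap f) := ⟨rfl⟩
  have hq' : (q.comap f).primesOver B = {q} := by
    ext Q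
    simp only [Ideal.primesOver, Set.mem_ofPred_eq, Set.mem_singleton_iff]
    constructor
    · rintro ⟨h1, h2⟩
      exact hq Q h1 h2.over.symm
    · rintro rfl
      exact ⟨inferInstance, inferInstance⟩
  letI := Localization.AtPrime.algebraOfLiesOver (q.comap f) q
  exact Localization.finite_of_primesOver_eq_singleton hq'

set_option backward.isDefEq.respectTransparency false in

open AlgebraicGeometry CategoryTheory Limits in
/-- For a finite morphism π : X → Y and a point x of X that is the only point of its fibre, the induced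
homomorphism of local rings O_{Y,π(x)} → O_{X,x} is finite. (The published lemma has further parts,
not stated here.) -/
theorem result {X Y : Scheme.{u}} (π : X ⟶ Y) [IsFinite π] (x : X) (hx : ∀ x' : ↑X, π x' = π x → x' = x) :
    (π.stalkMap x).hom.Finite := by
  have hQ' : RingHom.RespectsIso @RingHom.Finite := RingHom.finite_respectsIso
  wlog hY : IsAffine Y generalizing X Y
  · obtain ⟨U, hU, hfx, _⟩ := TopologicalSpace.Opens.isBasis_iff_nbhd.mp Y.isBasis_affineOpens
      (TopologicalSpace.Opens.mem_top <| π x)
    have key := this (π ∣_ U) ⟨x, hfx⟩ ?_ hU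
    · rwa [hQ'.arrow_mk_iso_iff (morphismRestrictStalkMap π U ⟨x, hfx⟩)] at key
    · intro x' h
      apply Subtype.ext
      apply hx
      have h2 := congrArg Subtype.val h
      rwa [morphismRestrict_base_coe, morphismRestrict_base_coe] at h2
  have hX : IsAffine X := isAffine_of_isAffineHom π
  wlog hXY : ∃ R S, Y = Spec R ∧ X = Spec S generalizing X Y
  · have key := this (X.isoSpec.inv ≫ π ≫ Y.isoSpec.hom) (X.isoSpec.hom x) ?_ inferInstance
      inferInstance ⟨Γ(Y, ⊤), Γ(X, ⊤), rfl, rfl⟩
    · rw [Scheme.Hom.stalkMap_comp, Scheme.Hom.stalkMap_comp, CommRingCat.hom_comp,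
        hQ'.cancel_right_isIso, CommRingCat.hom_comp, hQ'.cancel_left_isIso] at key
      have heq : (X.isoSpec.inv (X.isoSpec.hom x)) = x := by simp
      rwa [hQ'.arrow_mk_iso_iff (π.arrowStalkMapIsoOfEq heq)] at key
    · intro x' h
      have h2 : π (X.isoSpec.inv x') = π x := by
        have h3 := congrArg Y.isoSpec.inv h
        simpa using h3
      have h4 := hx _ h2
      rw [← h4]
      simp
  obtain ⟨R, S, rfl, rfl⟩ := hXY
  obtain ⟨φ, rfl⟩ := Spec.map_surjective π
  rw [hQ'.arrow_mk_iso_iff (Scheme.arrowStalkMapSpecIso φ _)]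
  have hfin : φ.hom.Finite := (IsFinite.SpecMap_iff φ).mp inferInstance
  refine alg φ.hom hfin x.asIdeal ?_
  intro Q hQ hcomap
  have := hx ⟨Q, hQ⟩ (PrimeSpectrum.ext hcomap)
  exact congrArg PrimeSpectrum.asIdeal this

end Groth.Agent.S0443
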