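import Mathlib
import Groth.Statements.S0445

set_option autoImplicit false
universe u
open FlatMor

namespace Groth.Agent.S0445

open AlgebraicGeometry CategoryTheory Limits

theorem result {X Y S : Scheme.{u}} (p : Y ⟶ S) [FormallyUnramified p] [LocallyOfFiniteType p] (f g : X ⟶ Y) (hfg : f ≫ p = g ≫ p)
    (x : X) (h1 : f x = g x) (h2 : f.residueFieldMap x = (Y.residueFieldCongr h1).hom ≫ g.residueFieldMap x) :
    ∃ U : X.Opens, x ∈ U ∧ U.ι ≫ f = U.ι ≫ g := by
  let h : X ⟶ pullback p p := pullback.lift f g hfg
  let Δ : Y ⟶ pullback p p := pullback.diagonal p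
  have hΔ : IsOpenImmersion Δ := inferInstance
  -- the two composites from Spec κ(x) agree
  have hkey : X.fromSpecResidueField x ≫ f = X.fromSpecResidueField x ≫ g := by
    rw [← Scheme.Hom.SpecMap_residueFieldMap_fromSpecResidueField,
      ← Scheme.Hom.SpecMap_residueFieldMap_fromSpecResidueField, h2, Spec.map_comp, Category.assoc,
      Scheme.residueFieldCongr_fromSpecResidueField]
  have hkey2 : X.fromSpecResidueField x ≫ h = (X.fromSpecResidueField x ≫ f) ≫ Δ := by
    apply pullback.hom_ext
    · simp only [h, Δ, Category.assoc, pullback.diagonal_fst, Category.comp_id]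
      rw [pullback.lift_fst]
    · simp only [h, Δ, Category.assoc, pullback.diagonal_snd, Category.comp_id]
      rw [pullback.lift_snd, hkey]
  let U : X.Opens := h ⁻¹ᵁ Δ.opensRange
  have hxU : x ∈ U := by
    obtain ⟨pt⟩ : Nonempty (Spec (X.residueField x)) := inferInstance
    have hpt : X.fromSpecResidueField x pt = x := Scheme.fromSpecResidueField_apply x pt
    change h x ∈ Set.range Δ
    rw [← hpt]
    refine ⟨(X.fromSpecResidueField x ≫ f) pt, ?_⟩
    have := congrArg (fun φ : Spec (X.residueField x) ⟶ pullback p p => φ pt) hkey2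
    simpa using this.symm
  refine ⟨U, hxU, ?_⟩
  have hrange : Set.range (U.ι ≫ h) ⊆ Set.range Δ := by
    rintro _ ⟨u, rfl⟩
    have : (U.ι u) ∈ U := u.2
    exact this
  let k : (U : Scheme) ⟶ Y := IsOpenImmersion.lift Δ (U.ι ≫ h) hrange
  have hk : k ≫ Δ = U.ι ≫ h := IsOpenImmersion.lift_fac _ _ _
  have e1 : U.ι ≫ f = k := by
    have := congrArg (· ≫ pullback.fst p p) hk
    simp only [h, Δ, Category.assoc, pullback.diagonal_fst, Category.comp_id] at this
    rw [pullback.lift_fst] at this
    exact this.symm
  have e2 : U.ι ≫ g = k := by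
    have := congrArg (· ≫ pullback.snd p p) hk
    simp only [h, Δ, Category.assoc, pullback.diagonal_snd, Category.comp_id] at this
    rw [pullback.lift_snd] at this
    exact this.symm
  rw [e1, e2]

end Groth.Agent.S0445
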