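import Mathlib
import Groth.Statements.S0448
-- import your own Groth.Agent.* helpers here

set_option autoImplicit false
universe u
open FlatMor

namespace Groth.Agent.S0448

open TensorProduct IsLocalRing Module

variable {R : Type*} [CommRing R] [IsLocalRing R]

/-- Key claim: a family in a flat module, independent modulo the maximal ideal, is "universally
independent". -/
theorem eq_zero_of_sum_tmul_eq_zero {N : Type*} [AddCommGroup N] [Module R N] [Module.Flat R N]
    {Q : Type*} [AddCommGroup Q] [Module R Q] {ι : Type*} [DecidableEq ι] (s : Finset ι) :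
    ∀ (v : ι → N),
      LinearIndependent (ResidueField R) (TensorProduct.mk R (ResidueField R) N 1 ∘ v) →
      ∀ (q : ι → Q), ∑ i ∈ s, q i ⊗ₜ[R] v i = 0 → ∀ i ∈ s, q i = 0 := by
  induction s using Finset.induction with
  | empty => intro v _ q _ i hi; exact absurd hi (Finset.notMem_empty _)
  | insert n s hn ih =>
    intro v hv q hq i hi
    have hq0 := hq
    rw [← Finset.sum_coe_sort] at hq
    have hinj : Function.Injective (LinearMap.rTensor N
        (Submodule.span R (Set.range fun i : ↥(insert n s) => q i)).subtype) :=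
      Module.Flat.rTensor_preserves_injective_linearMap _ (Submodule.injective_subtype _)
    obtain ⟨l, a, y, hay, hfa⟩ :=
      vanishesTrivially_of_sum_tmul_eq_zero_of_rTensor_injective R hinj hq
    have hvn : v n ∉ maximalIdeal R • (⊤ : Submodule R N) := by
      simpa only [← LinearMap.ker_tensorProductMk] using! hv.ne_zero n
    set n' : ↥(insert n s) := ⟨n, Finset.mem_insert_self ..⟩ with n'_def
    obtain ⟨j, hj⟩ : ∃ j, IsUnit (a n' j) := by
      contrapose! hvn
      rw [show v n = _ from hay n']
      exact sum_mem fun _ _ ↦ Submodule.smul_mem_smul (hvn _) ⟨⟩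
    let a' (i : ι) : R := if hi : i ∈ insert n s then a ⟨i, hi⟩ j else 0
    have a_eq (i : ↥(insert n s)) : a i j = a' i.1 := by simp_rw [a', dif_pos i.2]
    have hsum : a' n • q n + ∑ i ∈ s, a' i • q i = 0 := by
      have := hfa j
      simp_rw [a_eq] at this
      rw [Finset.sum_coe_sort _ (fun i ↦ a' i • q i), Finset.sum_insert hn] at this
      exact this
    have ha'n : a' n = a n' j := by simp [a', n'_def]
    have hqn : q n = -((hj.unit⁻¹ : Rˣ) : R) • ∑ i ∈ s, a' i • q i := by
      have h1 : a' n • q n = -∑ i ∈ s, a' i • q i := eq_neg_of_add_eq_zero_left hsum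
      have h2 : q n = ((hj.unit⁻¹ : Rˣ) : R) • (a' n • q n) := by
        rw [smul_smul, ha'n, IsUnit.val_inv_mul, one_smul]
      rw [h2, h1, smul_neg, neg_smul]
    let c (i : ι) : R := -(if i = n then 0 else a' i) * ((hj.unit⁻¹ : Rˣ) : R)
    have hv' : LinearIndependent (ResidueField R)
        (TensorProduct.mk R (ResidueField R) N 1 ∘ (v + (c · • v n))) := by
      convert! (linearIndependent_add_smul_iff (c := Ideal.Quotient.mk _ ∘ c) (i := n) ?_).mpr hv
      · ext; simp [tmul_add]; rfl
      simp_rw [Function.comp_def, c, if_pos, neg_zero, zero_mul, map_zero]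
    have key : ∑ i ∈ s, q i ⊗ₜ[R] (v + (c · • v n)) i = 0 := by
      rw [Finset.sum_insert hn] at hq0
      simp only [Pi.add_apply, tmul_add, Finset.sum_add_distrib]
      rw [add_comm, ← hq0]
      congr 1
      rw [hqn, Finset.smul_sum, sum_tmul]
      refine Finset.sum_congr rfl fun i hi => ?_
      have hin : i ≠ n := ne_of_mem_of_not_mem hi hn
      simp only [c, if_neg hin]
      rw [tmul_smul, smul_smul, smul_tmul']
      congr 1
      ring_nf
    have ih' := ih (v + (c · • v n)) hv' q key
    rcases Finset.mem_insert.mp hi with rfl | hi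
    · rw [hqn, Finset.sum_eq_zero (fun i hi => by rw [ih' i hi, smul_zero]), smul_zero]
    · exact ih' i hi


/-- A product of flat modules is flat. -/
theorem flat_prod {R : Type*} [CommRing R] (N₁ N₂ : Type*) [AddCommGroup N₁] [Module R N₁]
    [AddCommGroup N₂] [Module R N₂] [Module.Flat R N₁] [Module.Flat R N₂] :
    Module.Flat R (N₁ × N₂) := by
  rw [Module.Flat.iff_rTensor_preserves_injective_linearMap]
  intro A B _ _ _ _ f hf
  rw [injective_iff_map_eq_zero]
  intro x hx
  have h1 : (LinearMap.lTensor A (LinearMap.fst R N₁ N₂)) x = 0 := by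
    apply Module.Flat.rTensor_preserves_injective_linearMap (M := N₁) f hf
    rw [map_zero, ← LinearMap.comp_apply, LinearMap.rTensor_comp_lTensor,
      ← LinearMap.lTensor_comp_rTensor, LinearMap.comp_apply, hx, map_zero]
  have h2 : (LinearMap.lTensor A (LinearMap.snd R N₁ N₂)) x = 0 := by
    apply Module.Flat.rTensor_preserves_injective_linearMap (M := N₂) f hf
    rw [map_zero, ← LinearMap.comp_apply, LinearMap.rTensor_comp_lTensor,
      ← LinearMap.lTensor_comp_rTensor, LinearMap.comp_apply, hx, map_zero]
  have hid : LinearMap.inl R N₁ N₂ ∘ₗ LinearMap.fst R N₁ N₂ +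
      LinearMap.inr R N₁ N₂ ∘ₗ LinearMap.snd R N₁ N₂ = LinearMap.id := by
    ext <;> simp
  have hx' : x = (LinearMap.lTensor A (LinearMap.id : N₁ × N₂ →ₗ[R] N₁ × N₂)) x := by simp
  rw [hx', ← hid, LinearMap.lTensor_add, LinearMap.add_apply, LinearMap.lTensor_comp,
    LinearMap.lTensor_comp, LinearMap.comp_apply, LinearMap.comp_apply, h1, h2, map_zero,
    map_zero, add_zero]

/-- The free case. -/
theorem lTensor_injective_of_basis {F N : Type*} [AddCommGroup F] [Module R F] [AddCommGroup N]
    [Module R N] [Module.Flat R N] {ι : Type*} (b : Basis ι R F) (u : F →ₗ[R] N)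
    (h : Function.Injective (LinearMap.lTensor (ResidueField R) u))
    (Q : Type*) [AddCommGroup Q] [Module R Q] : Function.Injective (LinearMap.lTensor Q u) := by
  classical
  have hv : LinearIndependent (ResidueField R)
      (TensorProduct.mk R (ResidueField R) N 1 ∘ (u ∘ b)) := by
    have hb : LinearIndependent (ResidueField R) (b.baseChange (ResidueField R)) :=
      (b.baseChange (ResidueField R)).linearIndependent
    have hker : LinearMap.ker (u.baseChange (ResidueField R)) = ⊥ := by
      rw [LinearMap.ker_eq_bot, LinearMap.baseChange_eq_ltensor]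
      exact h
    have := hb.map' (u.baseChange (ResidueField R)) hker
    have hfun : (TensorProduct.mk R (ResidueField R) N 1 ∘ (u ∘ b)) =
        (u.baseChange (ResidueField R)) ∘ (b.baseChange (ResidueField R)) := by
      funext i
      simp [Basis.baseChange_apply]
    rw [hfun]
    exact this
  rw [injective_iff_map_eq_zero]
  intro x hx
  set q := TensorProduct.equivFinsuppOfBasisRight b x with hq
  have hxq : x = q.sum fun i m => m ⊗ₜ[R] b i := by
    rw [← TensorProduct.equivFinsuppOfBasisRight_symm_apply, hq, LinearEquiv.symm_apply_apply]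
  have hsum : ∑ i ∈ q.support, q i ⊗ₜ[R] (u ∘ b) i = 0 := by
    rw [← hx, hxq, Finsupp.sum, map_sum]
    refine Finset.sum_congr rfl fun i _ => ?_
    rw [LinearMap.lTensor_tmul]; rfl
  have hzero := eq_zero_of_sum_tmul_eq_zero q.support (u ∘ b) hv q hsum
  have hq0 : q = 0 := by
    ext i
    by_cases hi : i ∈ q.support
    · exact hzero i hi
    · simpa using hi
  rw [hxq, hq0, Finsupp.sum_zero_index]

/-- Over a local ring, a linear map from a projective module to a flat module which is injective modulo
the maximal ideal is universally injective (injective after tensoring with any module). -/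
theorem result {R M N : Type u} [CommRing R] [IsLocalRing R] [AddCommGroup M] [Module R M] [Module.Projective R M]
    [AddCommGroup N] [Module R N] [Module.Flat R N] (u : M →ₗ[R] N)
    (h : Function.Injective (LinearMap.lTensor (IsLocalRing.ResidueField R) u)) :
    ∀ (Q : Type u) [AddCommGroup Q] [Module R Q], Function.Injective (LinearMap.rTensor Q u) := by
  intro Q _ _
  rw [← LinearMap.lTensor_inj_iff_rTensor_inj]
  obtain ⟨s, hs⟩ := Module.projective_def'.mp (inferInstance : Module.Projective R M)
  set r : (M →₀ R) →ₗ[R] M := Finsupp.linearCombination R (id : M → M) with hr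
  let u' : (M →₀ R) →ₗ[R] N × (M →₀ R) := (u ∘ₗ r).prod (LinearMap.id - s ∘ₗ r)
  have hflat : Module.Flat R (N × (M →₀ R)) := flat_prod N (M →₀ R)
  have hfst : LinearMap.fst R N (M →₀ R) ∘ₗ u' = u ∘ₗ r := LinearMap.fst_prod _ _
  have hsnd : LinearMap.snd R N (M →₀ R) ∘ₗ u' = LinearMap.id - s ∘ₗ r := LinearMap.snd_prod _ _
  have hu'inj : Function.Injective (LinearMap.lTensor (IsLocalRing.ResidueField R) u') := by
    rw [injective_iff_map_eq_zero]
    intro x hx
    have h1 : (LinearMap.lTensor (IsLocalRing.ResidueField R) r) x = 0 := by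
      apply h
      rw [map_zero, ← LinearMap.comp_apply, ← LinearMap.lTensor_comp, ← hfst,
        LinearMap.lTensor_comp, LinearMap.comp_apply, hx, map_zero]
    have h2 : (LinearMap.lTensor (IsLocalRing.ResidueField R) (LinearMap.id - s ∘ₗ r)) x = 0 := by
      rw [← hsnd, LinearMap.lTensor_comp, LinearMap.comp_apply, hx, map_zero]
    rw [LinearMap.lTensor_sub, LinearMap.sub_apply, LinearMap.lTensor_id, LinearMap.id_apply,
      LinearMap.lTensor_comp, LinearMap.comp_apply, h1, map_zero, sub_zero] at h2
    exact h2
  have hu' := lTensor_injective_of_basis (Finsupp.basisSingleOne (R := R) (ι := M)) u' hu'inj Q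
  have hfac : u' ∘ₗ s = LinearMap.inl R N (M →₀ R) ∘ₗ u := by
    apply LinearMap.ext
    intro m
    have hrs : r (s m) = m := congrArg (fun g => g m) hs
    simp [u', hrs]
  have hs_inj : Function.Injective (LinearMap.lTensor Q s) := by
    apply Function.LeftInverse.injective (g := LinearMap.lTensor Q r)
    intro x
    rw [← LinearMap.comp_apply, ← LinearMap.lTensor_comp, hs, LinearMap.lTensor_id,
      LinearMap.id_apply]
  have hcomp : Function.Injective (LinearMap.lTensor Q (LinearMap.inl R N (M →₀ R) ∘ₗ u)) := by
    rw [← hfac, LinearMap.lTensor_comp]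
    exact hu'.comp hs_inj
  rw [LinearMap.lTensor_comp] at hcomp
  exact Function.Injective.of_comp hcomp

end Groth.Agent.S0448
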