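import Groth.Statements.S0885
import Mathlib

set_option autoImplicit false
universe u
open CategoryTheory
open CohTop

namespace Groth.Agent.S0885

section helpers
open CategoryTheory CategoryTheory.Limits TopologicalSpace Opposite AlgebraicTopology Simplicial

section contraction
universe v' u'
variable {A : Type u'} [Category.{v'} A] [Preadditive A] [HasZeroObject A]

theorem objd (Y : CosimplicialObject A) (n : ℕ) :
    (AlternatingCofaceMapComplex.obj Y).d n (n + 1) = AlternatingCofaceMapComplex.objD Y n :=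
  CochainComplex.of_d (fun n => Y.obj ⦋n⦌) (AlternatingCofaceMapComplex.objD Y) n

variable (Y : CosimplicialObject A) (Z : A)
    (ε : Z ⟶ Y.obj ⦋0⦌) (s' : Y.obj ⦋0⦌ ⟶ Z) (s : ∀ n : ℕ, Y.obj ⦋n + 1⦌ ⟶ Y.obj ⦋n⦌)

theorem objD_zero_comp (hc : ∀ n : ℕ, Y.δ (0 : Fin (n + 2)) ≫ s n = 𝟙 _)
    (hd : Y.δ (1 : Fin 2) ≫ s 0 = s' ≫ ε) :
    AlternatingCofaceMapComplex.objD Y 0 ≫ s 0 = 𝟙 _ - s' ≫ ε := by
  simp only [AlternatingCofaceMapComplex.objD, Preadditive.sum_comp, Preadditive.zsmul_comp]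
  rw [Fin.sum_univ_two]
  simp only [Fin.val_zero, pow_zero, one_smul, Fin.val_one, pow_one, neg_smul, hc, hd]
  abel

theorem objD_succ_comp (hc : ∀ n : ℕ, Y.δ (0 : Fin (n + 2)) ≫ s n = 𝟙 _)
    (he : ∀ (n : ℕ) (k : Fin (n + 2)), Y.δ k.succ ≫ s (n + 1) = s n ≫ Y.δ k) (p : ℕ) :
    AlternatingCofaceMapComplex.objD Y (p + 1) ≫ s (p + 1) =
      𝟙 _ - s p ≫ AlternatingCofaceMapComplex.objD Y p := by
  simp only [AlternatingCofaceMapComplex.objD, Preadditive.sum_comp, Preadditive.comp_sum,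
    Preadditive.zsmul_comp, Preadditive.comp_zsmul]
  rw [Fin.sum_univ_succ]
  simp only [Fin.val_zero, pow_zero, one_smul, hc, Fin.val_succ, he, pow_succ]
  rw [sub_eq_add_neg, ← Finset.sum_neg_distrib]
  congr 1
  refine Finset.sum_congr rfl (fun k _ => ?_)
  rw [mul_neg_one, neg_smul]

theorem eps_d (hb : ε ≫ Y.δ (0 : Fin 2) = ε ≫ Y.δ (1 : Fin 2)) :
    ε ≫ (AlternatingCofaceMapComplex.obj Y).d 0 1 = 0 := by
  have h : ε ≫ AlternatingCofaceMapComplex.objD Y 0 = 0 := by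
    simp only [AlternatingCofaceMapComplex.objD]
    rw [Fin.sum_univ_two]
    simp only [Fin.val_zero, pow_zero, one_smul, Fin.val_one, pow_one, neg_smul,
      Preadditive.comp_add, Preadditive.comp_neg, hb]
    abel
  rw [objd]
  exact h

noncomputable def homot (g : AlternatingCofaceMapComplex.obj Y ⟶ AlternatingCofaceMapComplex.obj Y)
    (hg0 : g.f 0 = s' ≫ ε) (hg : ∀ p : ℕ, g.f (p + 1) = 0)
    (hc : ∀ n : ℕ, Y.δ (0 : Fin (n + 2)) ≫ s n = 𝟙 _)
    (hd : Y.δ (1 : Fin 2) ≫ s 0 = s' ≫ ε)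
    (he : ∀ (n : ℕ) (k : Fin (n + 2)), Y.δ k.succ ≫ s (n + 1) = s n ≫ Y.δ k) :
    Homotopy (𝟙 (AlternatingCofaceMapComplex.obj Y)) g where
  hom i j := if h : j + 1 = i then
      eqToHom (by subst h; rfl : (AlternatingCofaceMapComplex.obj Y).X i =
        (AlternatingCofaceMapComplex.obj Y).X (j + 1)) ≫
      (show (AlternatingCofaceMapComplex.obj Y).X (j + 1) ⟶
        (AlternatingCofaceMapComplex.obj Y).X j from s j)
    else 0
  zero i j hij := dif_neg hij
  comm i := by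
    cases i with
    | zero =>
      rw [Homotopy.dNext_cochainComplex, Homotopy.prevD_zero_cochainComplex, dif_pos rfl, hg0,
        eqToHom_refl, Category.id_comp, add_zero, objd]
      exact (show 𝟙 (Y.obj ⦋0⦌) = AlternatingCofaceMapComplex.objD Y 0 ≫ s 0 + s' ≫ ε by
        rw [objD_zero_comp Y Z ε s' s hc hd]; abel)
    | succ p =>
      rw [Homotopy.dNext_cochainComplex, Homotopy.prevD_succ_cochainComplex, dif_pos rfl,
        dif_pos rfl, hg p, eqToHom_refl, eqToHom_refl, Category.id_comp, Category.id_comp,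
        add_zero, objd, objd]
      exact (show 𝟙 (Y.obj ⦋p + 1⦌) = AlternatingCofaceMapComplex.objD Y (p + 1) ≫ s (p + 1) +
          s p ≫ AlternatingCofaceMapComplex.objD Y p by
        rw [objD_succ_comp Y s hc he p]; abel)

noncomputable def contractionHomotopyEquiv
    (ha : ε ≫ s' = 𝟙 Z)
    (hb : ε ≫ Y.δ (0 : Fin 2) = ε ≫ Y.δ (1 : Fin 2))
    (hc : ∀ n : ℕ, Y.δ (0 : Fin (n + 2)) ≫ s n = 𝟙 _)
    (hd : Y.δ (1 : Fin 2) ≫ s 0 = s' ≫ ε)
    (he : ∀ (n : ℕ) (k : Fin (n + 2)), Y.δ k.succ ≫ s (n + 1) = s n ≫ Y.δ k) :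
    HomotopyEquiv ((CochainComplex.single₀ A).obj Z) (AlternatingCofaceMapComplex.obj Y) where
  hom := (CochainComplex.fromSingle₀Equiv (AlternatingCofaceMapComplex.obj Y) Z).symm
    ⟨ε, eps_d Y Z ε hb⟩
  inv := (CochainComplex.toSingle₀Equiv (AlternatingCofaceMapComplex.obj Y) Z).symm s'
  homotopyHomInvId := Homotopy.ofEq (by
    apply HomologicalComplex.from_single_hom_ext
    first | (simp [ha]; done) | (simp; exact ha))
  homotopyInvHomId := (homot Y Z ε s' s _ (by first | (simp; done) | (simp; rfl)) (fun p => by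
    rw [HomologicalComplex.comp_f]
    have hz : ((CochainComplex.toSingle₀Equiv (AlternatingCofaceMapComplex.obj Y) Z).symm s').f
        (p + 1) = 0 :=
      (HomologicalComplex.isZero_single_obj_X (ComplexShape.up ℕ) 0 Z (p + 1)
        (by omega)).eq_of_tgt _ _
    rw [hz, zero_comp]) hc hd he).symm

end contraction

section cech
variable {X : TopCat.{u}} (F : (Opens X)ᵒᵖ ⥤ AddCommGrpCat.{u}) {ι : Type u} (U : ι → Opens X)

noncomputable abbrev P (n : ℕ) (x : Fin (n + 1) → ι) : Opens X := ∏ᶜ (U ∘ x)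

noncomputable def Yc : CosimplicialObject AddCommGrpCat.{u} :=
  (FormalCoproduct.cosimplicialObjectFunctor (FormalCoproduct.mk _ U).cech).obj F

noncomputable def pr (n : ℕ) (x : Fin (n + 1) → ι) :
    (Yc F U).obj ⦋n⦌ ⟶ F.obj (op (P U n x)) :=
  Pi.π (fun x : Fin (n + 1) → ι => F.obj (op (P U n x))) x

noncomputable def lift {n : ℕ} {Z : AddCommGrpCat.{u}}
    (p : ∀ x : Fin (n + 1) → ι, Z ⟶ F.obj (op (P U n x))) : Z ⟶ (Yc F U).obj ⦋n⦌ :=
  Pi.lift p

theorem lift_pr {n : ℕ} {Z : AddCommGrpCat.{u}}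
    (p : ∀ x : Fin (n + 1) → ι, Z ⟶ F.obj (op (P U n x))) (x : Fin (n + 1) → ι) :
    lift F U p ≫ pr F U n x = p x :=
  Pi.lift_π p x

theorem pr_ext {n : ℕ} {Z : AddCommGrpCat.{u}} (f g : Z ⟶ (Yc F U).obj ⦋n⦌)
    (h : ∀ x, f ≫ pr F U n x = g ≫ pr F U n x) : f = g :=
  Pi.hom_ext (f := fun x : Fin (n + 1) → ι => F.obj (op (P U n x))) f g h

theorem pi_le {n : ℕ} (x : Fin (n + 1) → ι) (k : Fin (n + 1)) : P U n x ≤ U (x k) :=
  leOfHom (Pi.π (U ∘ x) k)

theorem le_pi {n : ℕ} (x : Fin (n + 1) → ι) (T : Opens X) (h : ∀ k, T ≤ U (x k)) :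
    T ≤ P U n x :=
  leOfHom (Pi.lift (fun k => homOfLE (h k)))

theorem M_ext {n : ℕ} (R : Opens X) (a b : Fin (n + 1) → ι) (h : a = b) (u : R ⟶ P U n a)
    (v : R ⟶ P U n b) :
    pr F U n a ≫ F.map u.op = pr F U n b ≫ F.map v.op := by
  subst h
  rw [Subsingleton.elim u v]

theorem map_le {n m : ℕ} (θ : ⦋n⦌ ⟶ ⦋m⦌) (y : Fin (m + 1) → ι) :
    P U m y ≤ P U n (y ∘ θ.toOrderHom) :=
  le_pi U _ _ (fun a => pi_le U y (θ.toOrderHom a))

theorem Ymap_pr {n m : ℕ} (θ : ⦋n⦌ ⟶ ⦋m⦌) (y : Fin (m + 1) → ι) :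
    (Yc F U).map θ ≫ pr F U m y =
      pr F U n (y ∘ θ.toOrderHom) ≫ F.map (homOfLE (map_le U θ y)).op := by
  change Pi.lift _ ≫ Pi.π _ y = _
  rw [Pi.lift_π]
  exact M_ext F U _ _ _ rfl _ _

variable (i : ι) (hi : U i = iSup U)

theorem toW_le {n : ℕ} (x : Fin (n + 1) → ι) : P U n x ≤ iSup U :=
  (pi_le U x 0).trans (le_iSup U (x 0))

include hi in
theorem σ_le {n : ℕ} (x : Fin (n + 1) → ι) : P U n x ≤ P U (n + 1) (Fin.cons i x) :=
  le_pi U _ _ (fun k => by
    refine Fin.cases ?_ (fun j => ?_) k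
    · rw [Fin.cons_zero, hi]
      exact toW_le U x
    · rw [Fin.cons_succ]
      exact pi_le U x j)

include hi in
theorem b0_le : iSup U ≤ P U 0 (fun _ => i) := le_pi U _ _ (fun _ => hi.ge)

noncomputable def sMap (n : ℕ) : (Yc F U).obj ⦋n + 1⦌ ⟶ (Yc F U).obj ⦋n⦌ :=
  lift F U (fun x : Fin (n + 1) → ι =>
    pr F U (n + 1) (Fin.cons i x) ≫ F.map (homOfLE (σ_le U i hi x)).op)

noncomputable def epsMap : F.obj (op (iSup U)) ⟶ (Yc F U).obj ⦋0⦌ :=
  lift F U (fun x : Fin (0 + 1) → ι => F.map (homOfLE (toW_le U x)).op)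

noncomputable def sPrime : (Yc F U).obj ⦋0⦌ ⟶ F.obj (op (iSup U)) :=
  pr F U 0 (fun _ => i) ≫ F.map (homOfLE (b0_le U i hi)).op

theorem rel_a : epsMap F U ≫ sPrime F U i hi = 𝟙 _ := by
  unfold epsMap sPrime
  rw [← Category.assoc, lift_pr, ← F.map_comp, ← op_comp]
  rw [Subsingleton.elim (homOfLE (b0_le U i hi) ≫ homOfLE (toW_le U fun _ => i)) (𝟙 (iSup U))]
  rw [op_id, F.map_id]

theorem rel_b : epsMap F U ≫ (Yc F U).δ (0 : Fin 2) = epsMap F U ≫ (Yc F U).δ (1 : Fin 2) := by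
  refine pr_ext F U _ _ (fun y => ?_)
  simp only [CosimplicialObject.δ]
  rw [Category.assoc, Category.assoc, Ymap_pr, Ymap_pr]
  unfold epsMap
  rw [← Category.assoc, ← Category.assoc, lift_pr, lift_pr, ← F.map_comp, ← F.map_comp,
    ← op_comp, ← op_comp]
  exact congrArg (fun t => F.map (Quiver.Hom.op t)) (Subsingleton.elim _ _)

theorem rel_c (n : ℕ) : (Yc F U).δ (0 : Fin (n + 2)) ≫ sMap F U i hi n = 𝟙 _ := by
  refine pr_ext F U _ _ (fun x => ?_)
  unfold sMap
  simp only [CosimplicialObject.δ]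
  rw [Category.assoc, lift_pr, Category.id_comp, ← Category.assoc, Ymap_pr, Category.assoc,
    ← F.map_comp, ← op_comp]
  have h : (Fin.cons i x : Fin (n + 1 + 1) → ι) ∘ (SimplexCategory.δ (0 : Fin (n + 2))).toOrderHom
      = x := by
    funext j
    show (Fin.cons i x : Fin (n + 1 + 1) → ι) (Fin.succAbove 0 j) = x j
    rw [Fin.zero_succAbove, Fin.cons_succ]
  exact (M_ext F U _ _ x h _ (𝟙 _)).trans (by rw [op_id, F.map_id, Category.comp_id])

theorem rel_d : (Yc F U).δ (1 : Fin 2) ≫ sMap F U i hi 0 = sPrime F U i hi ≫ epsMap F U := by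
  refine pr_ext F U _ _ (fun x => ?_)
  unfold sMap sPrime epsMap
  simp only [CosimplicialObject.δ]
  rw [Category.assoc, lift_pr, ← Category.assoc, Ymap_pr, Category.assoc, ← F.map_comp, ← op_comp,
    Category.assoc, Category.assoc, lift_pr, ← F.map_comp, ← op_comp]
  have h : (Fin.cons i x : Fin (0 + 1 + 1) → ι) ∘ (SimplexCategory.δ (1 : Fin 2)).toOrderHom
      = fun _ => i := by
    refine funext (fun (j : Fin 1) => ?_)
    obtain rfl : j = 0 := Subsingleton.elim _ _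
    show (Fin.cons i x : Fin 2 → ι) (Fin.succAbove (1 : Fin 2) (0 : Fin 1)) = i
    rw [show Fin.succAbove (1 : Fin 2) (0 : Fin 1) = 0 by decide, Fin.cons_zero]
  exact M_ext F U _ _ _ h _ _

theorem rel_e (n : ℕ) (k : Fin (n + 2)) :
    (Yc F U).δ k.succ ≫ sMap F U i hi (n + 1) = sMap F U i hi n ≫ (Yc F U).δ k := by
  refine pr_ext F U _ _ (fun y => ?_)
  unfold sMap
  simp only [CosimplicialObject.δ]
  rw [Category.assoc, lift_pr, ← Category.assoc, Ymap_pr, Category.assoc, ← F.map_comp, ← op_comp,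
    Category.assoc, Ymap_pr, ← Category.assoc, lift_pr, Category.assoc, ← F.map_comp, ← op_comp]
  have h : (Fin.cons i y : Fin (n + 1 + 1 + 1) → ι) ∘ (SimplexCategory.δ k.succ).toOrderHom
      = Fin.cons i (y ∘ (SimplexCategory.δ k).toOrderHom) := by
    refine funext (fun (j : Fin (n + 1 + 1)) => ?_)
    refine Fin.cases ?_ (fun j' => ?_) j
    · show (Fin.cons i y : Fin (n + 1 + 1 + 1) → ι) (Fin.succAbove k.succ 0) = _
      rw [Fin.succ_succAbove_zero, Fin.cons_zero, Fin.cons_zero]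
    · show (Fin.cons i y : Fin (n + 1 + 1 + 1) → ι) (Fin.succAbove k.succ j'.succ) = _
      rw [Fin.succ_succAbove_succ, Fin.cons_succ, Fin.cons_succ]
      rfl
  exact M_ext F U _ _ _ h _ _

include hi in
theorem main : Nonempty (HomotopyEquiv
    ((CochainComplex.single₀ AddCommGrpCat.{u}).obj (F.obj (op (iSup U))))
    ((cechComplexFunctor U).obj F)) :=
  ⟨contractionHomotopyEquiv (Yc F U) (F.obj (op (iSup U))) (epsMap F U) (sPrime F U i hi)
    (sMap F U i hi) (rel_a F U i hi) (rel_b F U) (rel_c F U i hi) (rel_d F U i hi)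
    (rel_e F U i hi)⟩

end cech

end helpers

open TopologicalSpace Opposite CategoryTheory.Limits in
/-- Let F be a presheaf of abelian groups on a topological space X and (U_i)_{i ∈ ι} a family of open
subsets with union U such that U_i = U for some index i. Then the Čech complex of F with respect to
the family (formed with all ordered tuples of indices) is homotopy equivalent to the complex
consisting of F(U) placed in degree 0. (The published statement phrases this as contractibility of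
the extended Čech complex; stated here as a homotopy equivalence with F(U) in degree zero.) -/
theorem result {X : TopCat.{u}} (F : (Opens X)ᵒᵖ ⥤ AddCommGrpCat.{u})
    {ι : Type u} (U : ι → Opens X) (i : ι) (hi : U i = iSup U) :
    Nonempty (HomotopyEquiv ((CochainComplex.single₀ AddCommGrpCat.{u}).obj (F.obj (op (iSup U))))
      ((cechComplexFunctor U).obj F)) := by
  exact Groth.Agent.S0885.main F U i hi

end Groth.Agent.S0885
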