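import Groth.Statements.S0466
import Mathlib
import Groth.Agent.S0885

set_option autoImplicit false
universe u
open CategoryTheory
open CohTop

namespace Groth.Agent.S0466

section helpers

open CategoryTheory CategoryTheory.Limits TopologicalSpace Opposite AlgebraicTopology Simplicial
open Groth.Agent.S0885

variable {X : TopCat.{u}}

theorem comp_hom_apply {A B C : AddCommGrpCat.{u}} (f : A ⟶ B) (g : B ⟶ C) (x : A) :
    (f ≫ g).hom x = g.hom (f.hom x) := rfl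

theorem hom_congr_apply {A B : AddCommGrpCat.{u}} {f g : A ⟶ B} (h : f = g) (x : A) :
    f.hom x = g.hom x := by rw [h]

theorem res_res (A : (Opens X)ᵒᵖ ⥤ AddCommGrpCat.{u}) {U1 U2 U3 : Opens X} (f : U1 ⟶ U2)
    (g : U2 ⟶ U3) (h : U1 ⟶ U3) (z : A.obj (op U3)) :
    (A.map f.op).hom ((A.map g.op).hom z) = (A.map h.op).hom z := by
  rw [Subsingleton.elim h (f ≫ g), op_comp, A.map_comp]
  rfl

theorem nat_res {A B : (Opens X)ᵒᵖ ⥤ AddCommGrpCat.{u}} (α : A ⟶ B) {U1 U2 : Opens X}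
    (f : U1 ⟶ U2) (z : A.obj (op U2)) :
    (α.app (op U1)).hom ((A.map f.op).hom z) = (B.map f.op).hom ((α.app (op U2)).hom z) :=
  hom_congr_apply (α.naturality f.op) z

/-! ### sections of a short exact sequence of sheaves -/

theorem sec_inj (S : ShortComplex (CohTop.Ab X)) (hS : S.ShortExact) (V : Opens X) :
    Function.Injective (S.f.hom.app (op V)).hom := by
  haveI := hS.mono_f
  haveI : Mono S.f.hom := (inferInstance : Mono ((sheafToPresheaf _ _).map S.f))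
  haveI : Mono (S.f.hom.app (op V)) := (NatTrans.mono_iff_mono_app S.f.hom).mp inferInstance (op V)
  exact (AddCommGrpCat.mono_iff_injective _).mp inferInstance

theorem sec_zero (S : ShortComplex (CohTop.Ab X)) (V : Opens X) (z : S.X₁.obj.obj (op V)) :
    (S.g.hom.app (op V)).hom ((S.f.hom.app (op V)).hom z) = 0 := by
  have h := congrArg (fun φ : S.X₁ ⟶ S.X₃ => (φ.hom.app (op V)).hom z) S.zero
  exact h

theorem sec_exact (S : ShortComplex (CohTop.Ab X)) (hS : S.ShortExact) (V : Opens X)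
    (z : S.X₂.obj.obj (op V)) (hz : (S.g.hom.app (op V)).hom z = 0) :
    ∃ c : S.X₁.obj.obj (op V), (S.f.hom.app (op V)).hom c = z :=
  TopCat.Sheaf.sections_exact_of_left_exact hS.1 hS.2 z hz

/-! ### Čech cochains -/

section cech

variable {κ : Type u} (W : κ → Opens X)

noncomputable abbrev KK (A : (Opens X)ᵒᵖ ⥤ AddCommGrpCat.{u}) :
    CochainComplex AddCommGrpCat.{u} ℕ :=
  (cechComplexFunctor W).obj A

theorem cochain_ext (A : (Opens X)ᵒᵖ ⥤ AddCommGrpCat.{u}) (n : ℕ) (c c' : (Yc A W).obj ⦋n⦌)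
    (h : ∀ x, (pr A W n x).hom c = (pr A W n x).hom c') : c = c' := by
  apply (Concrete.productEquiv (fun x : Fin (n + 1) → κ => A.obj (op (P W n x)))).injective
  funext x
  rw [Concrete.productEquiv_apply_apply, Concrete.productEquiv_apply_apply]
  exact h x

theorem cochain_mk (A : (Opens X)ᵒᵖ ⥤ AddCommGrpCat.{u}) (n : ℕ)
    (a : ∀ x : Fin (n + 1) → κ, A.obj (op (P W n x))) :
    ∃ c : (Yc A W).obj ⦋n⦌, ∀ x, (pr A W n x).hom c = a x :=
  ⟨(Concrete.productEquiv (fun x : Fin (n + 1) → κ => A.obj (op (P W n x)))).symm a,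
    fun x => Concrete.productEquiv_symm_apply_π _ a x⟩

noncomputable def cmap {A B : (Opens X)ᵒᵖ ⥤ AddCommGrpCat.{u}} (α : A ⟶ B) (n : ℕ) :
    (Yc A W).obj ⦋n⦌ ⟶ (Yc B W).obj ⦋n⦌ :=
  ((cechComplexFunctor W).map α).f n

theorem cmap_pr {A B : (Opens X)ᵒᵖ ⥤ AddCommGrpCat.{u}} (α : A ⟶ B) (n : ℕ)
    (x : Fin (n + 1) → κ) :
    cmap W α n ≫ pr B W n x = pr A W n x ≫ α.app (op (P W n x)) := by
  exact Limits.Pi.map_π (fun x : Fin (n + 1) → κ => α.app (op (P W n x))) x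

theorem cmap_pr_apply {A B : (Opens X)ᵒᵖ ⥤ AddCommGrpCat.{u}} (α : A ⟶ B) (n : ℕ)
    (x : Fin (n + 1) → κ) (c : (Yc A W).obj ⦋n⦌) :
    (pr B W n x).hom ((cmap W α n).hom c) = (α.app (op (P W n x))).hom ((pr A W n x).hom c) :=
  hom_congr_apply (cmap_pr W α n x) c

noncomputable def dK (A : (Opens X)ᵒᵖ ⥤ AddCommGrpCat.{u}) (n : ℕ) :
    (Yc A W).obj ⦋n⦌ ⟶ (Yc A W).obj ⦋n + 1⦌ :=
  (KK W A).d n (n + 1)

theorem cmap_d {A B : (Opens X)ᵒᵖ ⥤ AddCommGrpCat.{u}} (α : A ⟶ B) (n : ℕ)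
    (c : (Yc A W).obj ⦋n⦌) :
    (dK W B n).hom ((cmap W α n).hom c) = (cmap W α (n + 1)).hom ((dK W A n).hom c) :=
  hom_congr_apply (((cechComplexFunctor W).map α).comm n (n + 1)) c

theorem dK_dK (A : (Opens X)ᵒᵖ ⥤ AddCommGrpCat.{u}) (n : ℕ) (c : (Yc A W).obj ⦋n⦌) :
    (dK W A (n + 1)).hom ((dK W A n).hom c) = 0 :=
  hom_congr_apply ((KK W A).d_comp_d n (n + 1) (n + 1 + 1)) c

theorem cmap_inj {A B : (Opens X)ᵒᵖ ⥤ AddCommGrpCat.{u}} (α : A ⟶ B)
    (hα : ∀ V : Opens X, Function.Injective (α.app (op V)).hom) (n : ℕ) :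
    Function.Injective (cmap W α n).hom := by
  intro c c' h
  apply cochain_ext W A n
  intro x
  apply hα (P W n x)
  exact ((cmap_pr_apply W α n x c).symm.trans (congrArg (pr B W n x).hom h)).trans
    (cmap_pr_apply W α n x c')

theorem d0_eq (Y : CosimplicialObject AddCommGrpCat.{u}) :
    (AlternatingCofaceMapComplex.obj Y).d 0 1 = Y.δ (0 : Fin 2) - Y.δ (1 : Fin 2) := by
  rw [objd]
  simp only [AlternatingCofaceMapComplex.objD]
  rw [Fin.sum_univ_two]
  simp only [Fin.val_zero, pow_zero, one_smul, Fin.val_one, pow_one, neg_smul]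
  abel

theorem d0_pr (A : (Opens X)ᵒᵖ ⥤ AddCommGrpCat.{u}) (x : Fin (0 + 1 + 1) → κ) :
    dK W A 0 ≫ pr A W (0 + 1) x =
      pr A W 0 (x ∘ (SimplexCategory.δ (0 : Fin (0 + 2))).toOrderHom) ≫
          A.map (homOfLE (map_le W (SimplexCategory.δ (0 : Fin (0 + 2))) x)).op -
        pr A W 0 (x ∘ (SimplexCategory.δ (1 : Fin (0 + 2))).toOrderHom) ≫
          A.map (homOfLE (map_le W (SimplexCategory.δ (1 : Fin (0 + 2))) x)).op := by
  have h0 : dK W A 0 = (Yc A W).δ (0 : Fin (0 + 2)) - (Yc A W).δ (1 : Fin (0 + 2)) :=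
    d0_eq (Yc A W)
  have h1 : ((Yc A W).δ (0 : Fin (0 + 2)) - (Yc A W).δ (1 : Fin (0 + 2))) ≫ pr A W (0 + 1) x =
      (Yc A W).δ (0 : Fin (0 + 2)) ≫ pr A W (0 + 1) x -
        (Yc A W).δ (1 : Fin (0 + 2)) ≫ pr A W (0 + 1) x :=
    Preadditive.sub_comp _ _ _
  have h2 : (Yc A W).δ (0 : Fin (0 + 2)) ≫ pr A W (0 + 1) x = _ :=
    Ymap_pr A W (SimplexCategory.δ (0 : Fin (0 + 2))) x
  have h3 : (Yc A W).δ (1 : Fin (0 + 2)) ≫ pr A W (0 + 1) x = _ :=
    Ymap_pr A W (SimplexCategory.δ (1 : Fin (0 + 2))) x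
  rw [h0, h1, h2, h3]

theorem eps_pr (A : (Opens X)ᵒᵖ ⥤ AddCommGrpCat.{u}) (y : Fin (0 + 1) → κ) :
    epsMap A W ≫ pr A W 0 y = A.map (homOfLE (toW_le W y)).op := by
  unfold epsMap
  exact lift_pr A W _ y

theorem eps_pr_apply (A : (Opens X)ᵒᵖ ⥤ AddCommGrpCat.{u}) (y : Fin (0 + 1) → κ)
    (z : A.obj (op (iSup W))) :
    (pr A W 0 y).hom ((epsMap A W).hom z) = (A.map (homOfLE (toW_le W y)).op).hom z :=
  hom_congr_apply (eps_pr W A y) z

theorem eps_nat {A B : (Opens X)ᵒᵖ ⥤ AddCommGrpCat.{u}} (α : A ⟶ B) :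
    epsMap A W ≫ cmap W α 0 = α.app (op (iSup W)) ≫ epsMap B W := by
  refine pr_ext B W _ _ (fun y => ?_)
  rw [Category.assoc, cmap_pr, ← Category.assoc, eps_pr, Category.assoc, eps_pr]
  exact α.naturality _

theorem eps_nat_apply {A B : (Opens X)ᵒᵖ ⥤ AddCommGrpCat.{u}} (α : A ⟶ B)
    (z : A.obj (op (iSup W))) :
    (cmap W α 0).hom ((epsMap A W).hom z) = (epsMap B W).hom ((α.app (op (iSup W))).hom z) :=
  hom_congr_apply (eps_nat W α) z

theorem eps_dK (A : (Opens X)ᵒᵖ ⥤ AddCommGrpCat.{u}) (z : A.obj (op (iSup W))) :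
    (dK W A 0).hom ((epsMap A W).hom z) = 0 :=
  hom_congr_apply (eps_d (Yc A W) _ (epsMap A W) (rel_b A W)) z

theorem hcover0 : iSup W ≤ ⨆ y : Fin (0 + 1) → κ, P W 0 y :=
  iSup_le (fun k => le_trans (le_pi W (fun _ : Fin (0 + 1) => k) (W k) (fun _ => le_rfl))
    (le_iSup (fun y : Fin (0 + 1) → κ => P W 0 y) (fun _ => k)))

theorem eps_inj (G : CohTop.Ab X) : Function.Injective (epsMap G.obj W).hom := by
  intro s s' h
  apply TopCat.Sheaf.eq_of_locally_eq' G (fun y : Fin (0 + 1) → κ => P W 0 y) (iSup W)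
    (fun y => homOfLE (toW_le W y)) (hcover0 W) s s'
  intro y
  exact ((eps_pr_apply W G.obj y s).symm.trans (congrArg (pr G.obj W 0 y).hom h)).trans
    (eps_pr_apply W G.obj y s')

theorem glue (G : CohTop.Ab X) (t : (Yc G.obj W).obj ⦋0⦌)
    (ht : (dK W G.obj 0).hom t = 0) :
    ∃ τ : G.obj.obj (op (iSup W)), (epsMap G.obj W).hom τ = t := by
  have hcompat : TopCat.Presheaf.IsCompatible G.obj (fun y : Fin (0 + 1) → κ => P W 0 y)
      (fun y => (pr G.obj W 0 y).hom t) := by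
    intro y y'
    obtain ⟨x, hx⟩ : ∃ x : Fin (0 + 1 + 1) → κ, x = Fin.cons (y 0) y' := ⟨_, rfl⟩
    have h0 : x ∘ (SimplexCategory.δ (0 : Fin (0 + 2))).toOrderHom = y' := by
      funext j
      rw [hx]
      show (Fin.cons (y 0) y' : Fin (0 + 1 + 1) → κ) (Fin.succAbove 0 j) = y' j
      rw [Fin.zero_succAbove, Fin.cons_succ]
    have h1 : x ∘ (SimplexCategory.δ (1 : Fin (0 + 2))).toOrderHom = y := by
      refine funext (fun (j : Fin 1) => ?_)
      obtain rfl : j = 0 := Subsingleton.elim _ _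
      rw [hx]
      show (Fin.cons (y 0) y' : Fin (0 + 1 + 1) → κ) (Fin.succAbove (1 : Fin 2) (0 : Fin 1)) = y 0
      rw [show Fin.succAbove (1 : Fin 2) (0 : Fin 1) = 0 by decide, Fin.cons_zero]
    have l0 : P W (0 + 1) x ≤ P W 0 y' := by
      rw [← h0]
      exact map_le W _ x
    have l1 : P W (0 + 1) x ≤ P W 0 y := by
      rw [← h1]
      exact map_le W _ x
    have hd := hom_congr_apply (d0_pr W G.obj x) t
    have hd0 : (dK W G.obj 0 ≫ pr G.obj W (0 + 1) x).hom t = 0 :=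
      (congrArg (pr G.obj W (0 + 1) x).hom ht).trans (map_zero _)
    have e0 := M_ext G.obj W (P W (0 + 1) x) _ _ h0
      (homOfLE (map_le W (SimplexCategory.δ (0 : Fin (0 + 2))) x)) (homOfLE l0)
    have e1 := M_ext G.obj W (P W (0 + 1) x) _ _ h1
      (homOfLE (map_le W (SimplexCategory.δ (1 : Fin (0 + 2))) x)) (homOfLE l1)
    rw [e0, e1, hd0] at hd
    have hE : (G.obj.map (homOfLE l1).op).hom ((pr G.obj W 0 y).hom t) =
        (G.obj.map (homOfLE l0).op).hom ((pr G.obj W 0 y').hom t) := by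
      have hd' : (0 : G.obj.obj (op (P W (0 + 1) x))) =
          (G.obj.map (homOfLE l0).op).hom ((pr G.obj W 0 y').hom t) -
            (G.obj.map (homOfLE l1).op).hom ((pr G.obj W 0 y).hom t) := hd
      exact (sub_eq_zero.mp hd'.symm).symm
    have m : P W 0 y ⊓ P W 0 y' ≤ P W (0 + 1) x := by
      apply le_pi W x
      intro k
      rw [hx]
      refine Fin.cases ?_ (fun j => ?_) k
      · rw [Fin.cons_zero]
        exact inf_le_left.trans (pi_le W y 0)
      · rw [Fin.cons_succ]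
        exact inf_le_right.trans (pi_le W y' j)
    have r1 := res_res G.obj (homOfLE m) (homOfLE l1) (Opens.infLELeft (P W 0 y) (P W 0 y'))
      ((pr G.obj W 0 y).hom t)
    have r0 := res_res G.obj (homOfLE m) (homOfLE l0) (Opens.infLERight (P W 0 y) (P W 0 y'))
      ((pr G.obj W 0 y').hom t)
    exact (r1.symm.trans (congrArg (G.obj.map (homOfLE m).op).hom hE)).trans r0
  obtain ⟨τ, hτ, -⟩ := TopCat.Sheaf.existsUnique_gluing' G (fun y : Fin (0 + 1) → κ => P W 0 y)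
    (iSup W) (fun y => homOfLE (toW_le W y)) (hcover0 W) (fun y => (pr G.obj W 0 y).hom t) hcompat
  refine ⟨τ, cochain_ext W G.obj 0 _ _ (fun y => ?_)⟩
  exact (eps_pr_apply W G.obj y τ).trans (hτ y)

theorem core (S : ShortComplex (CohTop.Ab X)) (hS : S.ShortExact)
    (hH1 : IsZero (CohTop.cechH S.X₁.obj W 1))
    (U : Opens X) (hWU : iSup W = U) (hle : ∀ k, W k ≤ U)
    (s : S.X₃.obj.obj (op U)) (tk : ∀ k, S.X₂.obj.obj (op (W k)))
    (htk : ∀ k, (S.g.hom.app (op (W k))).hom (tk k) =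
      (S.X₃.obj.map (homOfLE (hle k)).op).hom s) :
    ∃ τ : S.X₂.obj.obj (op U), (S.g.hom.app (op U)).hom τ = s := by
  subst hWU
  obtain ⟨t0, ht0⟩ := cochain_mk W S.X₂.obj 0
    (fun y => (S.X₂.obj.map (homOfLE (pi_le W y 0)).op).hom (tk (y 0)))
  have h1 : (cmap W S.g.hom 0).hom t0 = (epsMap S.X₃.obj W).hom s := by
    apply cochain_ext W S.X₃.obj 0
    intro y
    rw [cmap_pr_apply, ht0, eps_pr_apply, nat_res, htk]
    exact res_res S.X₃.obj _ _ _ s
  have h2 : (cmap W S.g.hom (0 + 1)).hom ((dK W S.X₂.obj 0).hom t0) = 0 := by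
    have e := cmap_d W S.g.hom 0 t0
    have e' : (dK W S.X₃.obj 0).hom ((cmap W S.g.hom 0).hom t0) = 0 :=
      (congrArg (dK W S.X₃.obj 0).hom h1).trans (eps_dK W S.X₃.obj s)
    exact e.symm.trans e'
  have h3 : ∀ x : Fin (0 + 1 + 1) → κ, ∃ c : S.X₁.obj.obj (op (P W (0 + 1) x)),
      (S.f.hom.app (op (P W (0 + 1) x))).hom c =
        (pr S.X₂.obj W (0 + 1) x).hom ((dK W S.X₂.obj 0).hom t0) := by
    intro x
    apply sec_exact S hS
    have e := cmap_pr_apply W S.g.hom (0 + 1) x ((dK W S.X₂.obj 0).hom t0)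
    exact e.symm.trans ((congrArg (pr S.X₃.obj W (0 + 1) x).hom h2).trans (map_zero _))
  choose c hc using h3
  obtain ⟨cc, hcc⟩ := cochain_mk W S.X₁.obj (0 + 1) c
  have h4 : (cmap W S.f.hom (0 + 1)).hom cc = (dK W S.X₂.obj 0).hom t0 := by
    apply cochain_ext W S.X₂.obj (0 + 1)
    intro x
    exact (cmap_pr_apply W S.f.hom (0 + 1) x cc).trans
      ((congrArg (S.f.hom.app (op (P W (0 + 1) x))).hom (hcc x)).trans (hc x))
  have h5 : (dK W S.X₁.obj (0 + 1)).hom cc = 0 := by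
    apply cmap_inj W S.f.hom (sec_inj S hS) (0 + 1 + 1)
    have e := cmap_d W S.f.hom (0 + 1) cc
    have e2 : (dK W S.X₂.obj (0 + 1)).hom ((cmap W S.f.hom (0 + 1)).hom cc) = 0 :=
      (congrArg (dK W S.X₂.obj (0 + 1)).hom h4).trans (dK_dK W S.X₂.obj 0 t0)
    exact (e.symm.trans e2).trans (map_zero _).symm
  have hex : ((KK W S.X₁.obj).sc' 0 1 2).Exact :=
    ((KK W S.X₁.obj).exactAt_iff' 0 1 2 (by simp) (by simp)).mp
      ((HomologicalComplex.exactAt_iff_isZero_homology _ _).mpr hH1)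
  obtain ⟨b, hb⟩ := (ShortComplex.ab_exact_iff _).mp hex cc h5
  have hb' : (dK W S.X₁.obj 0).hom b = cc := hb
  have h6 : (dK W S.X₂.obj 0).hom (t0 - (cmap W S.f.hom 0).hom b) = 0 := by
    have e := cmap_d W S.f.hom 0 b
    have e3 : (dK W S.X₂.obj 0).hom ((cmap W S.f.hom 0).hom b) = (dK W S.X₂.obj 0).hom t0 :=
      e.trans ((congrArg (cmap W S.f.hom (0 + 1)).hom hb').trans h4)
    exact (map_sub _ _ _).trans (sub_eq_zero.mpr e3.symm)
  obtain ⟨τ, hτ⟩ := glue W S.X₂ _ h6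
  have h7 : (cmap W S.g.hom 0).hom ((cmap W S.f.hom 0).hom b) = 0 := by
    apply cochain_ext W S.X₃.obj 0
    intro y
    exact ((cmap_pr_apply W S.g.hom 0 y _).trans
      ((congrArg (S.g.hom.app (op (P W 0 y))).hom (cmap_pr_apply W S.f.hom 0 y b)).trans
        (sec_zero S _ _))).trans (map_zero _).symm
  refine ⟨τ, eps_inj W S.X₃ ?_⟩
  have e8 : (cmap W S.g.hom 0).hom (t0 - (cmap W S.f.hom 0).hom b) = (epsMap S.X₃.obj W).hom s :=
    (map_sub _ _ _).trans (by rw [h1, h7, sub_zero])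
  exact ((eps_nat_apply W S.g.hom τ).symm.trans (congrArg (cmap W S.g.hom 0).hom hτ)).trans e8

end cech

theorem main (S : ShortComplex (CohTop.Ab X)) (hS : S.ShortExact) (U : Opens X)
    (h : ∀ (ι : Type u) (V : ι → Opens X), iSup V = U →
      ∃ (κ : Type u) (W : κ → Opens X) (r : κ → ι), iSup W = U ∧ (∀ k, W k ≤ V (r k)) ∧
        CategoryTheory.Limits.IsZero (CohTop.cechH S.X₁.obj W 1)) :
    Function.Surjective (S.g.hom.app (op U)) := by
  intro s
  have hls := (TopCat.Sheaf.isLocallySurjective_iff_epi S.g).mpr hS.epi_g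
  have hloc : ∀ x : U, ∃ (V : Opens X) (hVU : V ≤ U), x.1 ∈ V ∧ ∃ t : S.X₂.obj.obj (op V),
      (S.g.hom.app (op V)).hom t = (S.X₃.obj.map (homOfLE hVU).op).hom s := by
    intro x
    obtain ⟨V, hVU, ⟨t, ht⟩, hxV⟩ :=
      (TopCat.Presheaf.isLocallySurjective_iff S.g.hom).mp hls U s x.1 x.2
    exact ⟨V, hVU, hxV, t, ht⟩
  choose V hVU hxV t ht using hloc
  have hV : iSup V = U :=
    le_antisymm (iSup_le hVU) (fun y hy => Opens.mem_iSup.mpr ⟨⟨y, hy⟩, hxV ⟨y, hy⟩⟩)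
  obtain ⟨κ, W, r, hW, hWV, hH1⟩ := h _ V hV
  obtain ⟨τ, hτ⟩ := core W S hS hH1 U hW (fun k => (hWV k).trans (hVU (r k))) s
    (fun k => (S.X₂.obj.map (homOfLE (hWV k)).op).hom (t (r k)))
    (fun k => by
      rw [nat_res, ht]
      exact res_res S.X₃.obj _ _ _ s)
  exact ⟨τ, hτ⟩

end helpers

open TopologicalSpace Opposite in
/-- Consider a short exact sequence of abelian sheaves with kernel F, middle term G and quotient H, and
an open U. If every open covering of U admits a refinement on which the first Cech cohomology of F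
vanishes, then sections of G over U map onto sections of H over U. -/
theorem result {X : TopCat.{u}}
    (S : CategoryTheory.ShortComplex (CohTop.Ab X)) (hS : S.ShortExact) (U : Opens X)
    (h : ∀ (ι : Type u) (V : ι → Opens X), iSup V = U →
      ∃ (κ : Type u) (W : κ → Opens X) (r : κ → ι), iSup W = U ∧ (∀ k, W k ≤ V (r k)) ∧
        CategoryTheory.Limits.IsZero (CohTop.cechH S.X₁.obj W 1)) :
    Function.Surjective (S.g.hom.app (op U)) := by
  exact Groth.Agent.S0466.main S hS U h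

end Groth.Agent.S0466
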