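import Groth.Statements.S0859
import Mathlib
import Groth.Prelude.Def_CechEdge
import Groth.Agent.S0885

set_option autoImplicit false
universe u
open CategoryTheory
open CohSite

namespace Groth.Agent.S0859

section helpers

open CategoryTheory CategoryTheory.Limits Opposite AlgebraicTopology Simplicial

theorem comp_hom_apply {A B C : AddCommGrpCat.{u}} (f : A ⟶ B) (g : B ⟶ C) (x : A) :
    (f ≫ g).hom x = g.hom (f.hom x) := rfl

theorem hom_congr_apply {A B : AddCommGrpCat.{u}} {f g : A ⟶ B} (h : f = g) (x : A) :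
    f.hom x = g.hom x := by rw [h]

theorem res_comp {D : Type u} [Category.{u} D] (Q : Dᵒᵖ ⥤ AddCommGrpCat.{u}) {A B E : D}
    (f : A ⟶ B) (g : B ⟶ E) (z : Q.obj (op E)) :
    (Q.map f.op).hom ((Q.map g.op).hom z) = (Q.map (f ≫ g).op).hom z := by
  rw [op_comp, Q.map_comp]
  rfl

theorem nat_res {D : Type u} [Category.{u} D] {A B : Dᵒᵖ ⥤ AddCommGrpCat.{u}} (α : A ⟶ B)
    {V W : D} (f : V ⟶ W) (z : A.obj (op W)) :
    (α.app (op V)).hom ((A.map f.op).hom z) = (B.map f.op).hom ((α.app (op W)).hom z) :=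
  hom_congr_apply (α.naturality f.op) z

theorem d0_eq (Y : CosimplicialObject AddCommGrpCat.{u}) :
    (AlternatingCofaceMapComplex.obj Y).d 0 1 = Y.δ (0 : Fin 2) - Y.δ (1 : Fin 2) := by
  rw [Groth.Agent.S0885.objd]
  simp only [AlternatingCofaceMapComplex.objD]
  rw [Fin.sum_univ_two]
  simp only [Fin.val_zero, pow_zero, one_smul, Fin.val_one, pow_one, neg_smul]
  abel

section gen

variable {D : Type u} [Category.{u} D] [HasFiniteProducts D] {ι : Type u} (Y : ι → D)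
  (Q : Dᵒᵖ ⥤ AddCommGrpCat.{u})

noncomputable abbrev PD (n : ℕ) (x : Fin (n + 1) → ι) : D := ∏ᶜ (Y ∘ x)

noncomputable def Yc : CosimplicialObject AddCommGrpCat.{u} :=
  (FormalCoproduct.cosimplicialObjectFunctor (FormalCoproduct.mk _ Y).cech).obj Q

noncomputable def pr (n : ℕ) (x : Fin (n + 1) → ι) :
    (Yc Y Q).obj ⦋n⦌ ⟶ Q.obj (op (PD Y n x)) :=
  Limits.Pi.π (fun x : Fin (n + 1) → ι => Q.obj (op (PD Y n x))) x

theorem pr_ext {n : ℕ} {Z : AddCommGrpCat.{u}} (f g : Z ⟶ (Yc Y Q).obj ⦋n⦌)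
    (h : ∀ x, f ≫ pr Y Q n x = g ≫ pr Y Q n x) : f = g :=
  Limits.Pi.hom_ext (f := fun x : Fin (n + 1) → ι => Q.obj (op (PD Y n x))) f g h

theorem cochain_ext (n : ℕ) (c c' : (Yc Y Q).obj ⦋n⦌)
    (h : ∀ x, (pr Y Q n x).hom c = (pr Y Q n x).hom c') : c = c' := by
  apply (Concrete.productEquiv (fun x : Fin (n + 1) → ι => Q.obj (op (PD Y n x)))).injective
  funext x
  rw [Concrete.productEquiv_apply_apply, Concrete.productEquiv_apply_apply]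
  exact h x

theorem cochain_mk (n : ℕ) (a : ∀ x : Fin (n + 1) → ι, Q.obj (op (PD Y n x))) :
    ∃ c : (Yc Y Q).obj ⦋n⦌, ∀ x, (pr Y Q n x).hom c = a x :=
  ⟨(Concrete.productEquiv (fun x : Fin (n + 1) → ι => Q.obj (op (PD Y n x)))).symm a,
    fun x => Concrete.productEquiv_symm_apply_π _ a x⟩

noncomputable def tr {n m : ℕ} (θ : ⦋n⦌ ⟶ ⦋m⦌) (y : Fin (m + 1) → ι) :
    PD Y m y ⟶ PD Y n (y ∘ θ.toOrderHom) :=
  Limits.Pi.lift (fun a => Limits.Pi.π (Y ∘ y) (θ.toOrderHom a))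

theorem tr_π {n m : ℕ} (θ : ⦋n⦌ ⟶ ⦋m⦌) (y : Fin (m + 1) → ι) (a : Fin (n + 1)) :
    tr Y θ y ≫ Limits.Pi.π (Y ∘ (y ∘ θ.toOrderHom)) a = Limits.Pi.π (Y ∘ y) (θ.toOrderHom a) :=
  Limits.Pi.lift_π _ a

theorem Ymap_pr {n m : ℕ} (θ : ⦋n⦌ ⟶ ⦋m⦌) (y : Fin (m + 1) → ι) :
    (Yc Y Q).map θ ≫ pr Y Q m y =
      pr Y Q n (y ∘ θ.toOrderHom) ≫ Q.map (tr Y θ y).op := by
  have h := Limits.Pi.lift_π (fun y : Fin (m + 1) → ι =>
    Limits.Pi.π (fun x : Fin (n + 1) → ι => Q.obj (op (PD Y n x))) (y ∘ θ.toOrderHom) ≫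
      Q.map (tr Y θ y).op) y
  exact h

noncomputable abbrev KK : CochainComplex AddCommGrpCat.{u} ℕ := (cechComplexFunctor Y).obj Q

noncomputable def dK (n : ℕ) : (Yc Y Q).obj ⦋n⦌ ⟶ (Yc Y Q).obj ⦋n + 1⦌ :=
  (KK Y Q).d n (n + 1)

theorem dK_dK (n : ℕ) (c : (Yc Y Q).obj ⦋n⦌) :
    (dK Y Q (n + 1)).hom ((dK Y Q n).hom c) = 0 :=
  hom_congr_apply ((KK Y Q).d_comp_d n (n + 1) (n + 1 + 1)) c

theorem d0_pr (x : Fin (0 + 1 + 1) → ι) :
    dK Y Q 0 ≫ pr Y Q (0 + 1) x =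
      pr Y Q 0 (x ∘ (SimplexCategory.δ (0 : Fin (0 + 2))).toOrderHom) ≫
          Q.map (tr Y (SimplexCategory.δ (0 : Fin (0 + 2))) x).op -
        pr Y Q 0 (x ∘ (SimplexCategory.δ (1 : Fin (0 + 2))).toOrderHom) ≫
          Q.map (tr Y (SimplexCategory.δ (1 : Fin (0 + 2))) x).op := by
  have h0 : dK Y Q 0 = (Yc Y Q).δ (0 : Fin (0 + 2)) - (Yc Y Q).δ (1 : Fin (0 + 2)) :=
    d0_eq (Yc Y Q)
  have h1 : ((Yc Y Q).δ (0 : Fin (0 + 2)) - (Yc Y Q).δ (1 : Fin (0 + 2))) ≫ pr Y Q (0 + 1) x =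
      (Yc Y Q).δ (0 : Fin (0 + 2)) ≫ pr Y Q (0 + 1) x -
        (Yc Y Q).δ (1 : Fin (0 + 2)) ≫ pr Y Q (0 + 1) x :=
    Preadditive.sub_comp _ _ _
  have h2 : (Yc Y Q).δ (0 : Fin (0 + 2)) ≫ pr Y Q (0 + 1) x = _ :=
    Ymap_pr Y Q (SimplexCategory.δ (0 : Fin (0 + 2))) x
  have h3 : (Yc Y Q).δ (1 : Fin (0 + 2)) ≫ pr Y Q (0 + 1) x = _ :=
    Ymap_pr Y Q (SimplexCategory.δ (1 : Fin (0 + 2))) x
  rw [h0, h1, h2, h3]

theorem G1 (x : Fin (0 + 1 + 1) → ι) (t : (Yc Y Q).obj ⦋0⦌) (ht : (dK Y Q 0).hom t = 0) :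
    (Q.map (tr Y (SimplexCategory.δ (0 : Fin (0 + 2))) x).op).hom
        ((pr Y Q 0 (x ∘ (SimplexCategory.δ (0 : Fin (0 + 2))).toOrderHom)).hom t) =
      (Q.map (tr Y (SimplexCategory.δ (1 : Fin (0 + 2))) x).op).hom
        ((pr Y Q 0 (x ∘ (SimplexCategory.δ (1 : Fin (0 + 2))).toOrderHom)).hom t) := by
  have hd := hom_congr_apply (d0_pr Y Q x) t
  have hd0 : (dK Y Q 0 ≫ pr Y Q (0 + 1) x).hom t = 0 :=
    (congrArg (pr Y Q (0 + 1) x).hom ht).trans (map_zero _)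
  rw [hd0] at hd
  have hd' : (0 : Q.obj (op (PD Y (0 + 1) x))) =
      (Q.map (tr Y (SimplexCategory.δ (0 : Fin (0 + 2))) x).op).hom
          ((pr Y Q 0 (x ∘ (SimplexCategory.δ (0 : Fin (0 + 2))).toOrderHom)).hom t) -
        (Q.map (tr Y (SimplexCategory.δ (1 : Fin (0 + 2))) x).op).hom
          ((pr Y Q 0 (x ∘ (SimplexCategory.δ (1 : Fin (0 + 2))).toOrderHom)).hom t) := hd
  exact sub_eq_zero.mp hd'.symm

theorem lemH (a b : Fin (0 + 1) → ι) (h : a = b) {Z : D} (f : Z ⟶ PD Y 0 a) (g : Z ⟶ PD Y 0 b)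
    (hfg : ∀ k, f ≫ Limits.Pi.π (Y ∘ a) k =
      g ≫ Limits.Pi.π (Y ∘ b) k ≫ eqToHom (congrArg Y (congrFun h k).symm))
    (t : (Yc Y Q).obj ⦋0⦌) :
    (Q.map f.op).hom ((pr Y Q 0 a).hom t) = (Q.map g.op).hom ((pr Y Q 0 b).hom t) := by
  subst h
  have e : f = g := by
    apply Limits.Pi.hom_ext
    intro k
    have hk := hfg k
    simp only [eqToHom_refl, Category.comp_id] at hk
    exact hk
  rw [e]

noncomputable def mc (y y' : Fin (0 + 1) → ι) {Z : D} (ai : Z ⟶ PD Y 0 y) (aj : Z ⟶ PD Y 0 y') :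
    ∀ k : Fin (0 + 1 + 1), Z ⟶ (Y ∘ ![y 0, y' 0]) k := fun k =>
  match k with
  | 0 => ai ≫ Limits.Pi.π (Y ∘ y) 0
  | 1 => aj ≫ Limits.Pi.π (Y ∘ y') 0

theorem G2 (t : (Yc Y Q).obj ⦋0⦌) (ht : (dK Y Q 0).hom t = 0) (y y' : Fin (0 + 1) → ι) {Z : D}
    (ai : Z ⟶ PD Y 0 y) (aj : Z ⟶ PD Y 0 y') :
    (Q.map ai.op).hom ((pr Y Q 0 y).hom t) = (Q.map aj.op).hom ((pr Y Q 0 y').hom t) := by
  obtain ⟨x, hx⟩ : ∃ x : Fin (0 + 1 + 1) → ι, x = ![y 0, y' 0] := ⟨_, rfl⟩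
  subst hx
  let m : Z ⟶ PD Y (0 + 1) ![y 0, y' 0] := Limits.Pi.lift (mc Y y y' ai aj)
  have h1 : ![y 0, y' 0] ∘ (SimplexCategory.δ (1 : Fin (0 + 2))).toOrderHom = y := by
    refine funext (fun (k : Fin 1) => ?_)
    obtain rfl : k = 0 := Subsingleton.elim _ _
    rfl
  have h0 : ![y 0, y' 0] ∘ (SimplexCategory.δ (0 : Fin (0 + 2))).toOrderHom = y' := by
    refine funext (fun (k : Fin 1) => ?_)
    obtain rfl : k = 0 := Subsingleton.elim _ _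
    rfl
  have hm1 : m ≫ Limits.Pi.π (Y ∘ ![y 0, y' 0]) 0 = ai ≫ Limits.Pi.π (Y ∘ y) 0 :=
    Limits.Pi.lift_π (mc Y y y' ai aj) 0
  have hm0 : m ≫ Limits.Pi.π (Y ∘ ![y 0, y' 0]) 1 = aj ≫ Limits.Pi.π (Y ∘ y') 0 :=
    Limits.Pi.lift_π (mc Y y y' ai aj) 1
  have e1 := lemH Y Q _ _ h1 (m ≫ tr Y (SimplexCategory.δ (1 : Fin (0 + 2))) ![y 0, y' 0]) ai
    (fun (k : Fin 1) => by
      obtain rfl : k = 0 := Subsingleton.elim _ _
      rw [Category.assoc, tr_π]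
      exact hm1.trans ((Category.comp_id _).symm.trans (Category.assoc _ _ _))) t
  have e0 := lemH Y Q _ _ h0 (m ≫ tr Y (SimplexCategory.δ (0 : Fin (0 + 2))) ![y 0, y' 0]) aj
    (fun (k : Fin 1) => by
      obtain rfl : k = 0 := Subsingleton.elim _ _
      rw [Category.assoc, tr_π]
      exact hm0.trans ((Category.comp_id _).symm.trans (Category.assoc _ _ _))) t
  exact e1.symm.trans (((res_comp Q m _ _).symm.trans
    ((congrArg (Q.map m.op).hom (G1 Y Q ![y 0, y' 0] t ht).symm).trans (res_comp Q m _ _))).trans e0)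

noncomputable def cmap {Q₁ Q₂ : Dᵒᵖ ⥤ AddCommGrpCat.{u}} (α : Q₁ ⟶ Q₂) (n : ℕ) :
    (Yc Y Q₁).obj ⦋n⦌ ⟶ (Yc Y Q₂).obj ⦋n⦌ :=
  ((cechComplexFunctor Y).map α).f n

theorem cmap_pr {Q₁ Q₂ : Dᵒᵖ ⥤ AddCommGrpCat.{u}} (α : Q₁ ⟶ Q₂) (n : ℕ)
    (x : Fin (n + 1) → ι) :
    cmap Y α n ≫ pr Y Q₂ n x = pr Y Q₁ n x ≫ α.app (op (PD Y n x)) :=
  Limits.Pi.map_π (fun x : Fin (n + 1) → ι => α.app (op (PD Y n x))) x

theorem cmap_pr_apply {Q₁ Q₂ : Dᵒᵖ ⥤ AddCommGrpCat.{u}} (α : Q₁ ⟶ Q₂) (n : ℕ)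
    (x : Fin (n + 1) → ι) (c : (Yc Y Q₁).obj ⦋n⦌) :
    (pr Y Q₂ n x).hom ((cmap Y α n).hom c) = (α.app (op (PD Y n x))).hom ((pr Y Q₁ n x).hom c) :=
  hom_congr_apply (cmap_pr Y α n x) c

theorem cmap_d {Q₁ Q₂ : Dᵒᵖ ⥤ AddCommGrpCat.{u}} (α : Q₁ ⟶ Q₂) (n : ℕ)
    (c : (Yc Y Q₁).obj ⦋n⦌) :
    (dK Y Q₂ n).hom ((cmap Y α n).hom c) = (cmap Y α (n + 1)).hom ((dK Y Q₁ n).hom c) :=
  hom_congr_apply (((cechComplexFunctor Y).map α).comm n (n + 1)) c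

theorem cmap_inj {Q₁ Q₂ : Dᵒᵖ ⥤ AddCommGrpCat.{u}} (α : Q₁ ⟶ Q₂)
    (hα : ∀ V : D, Function.Injective (α.app (op V)).hom) (n : ℕ) :
    Function.Injective (cmap Y α n).hom := by
  intro c c' h
  apply cochain_ext Y Q₁ n
  intro x
  apply hα (PD Y n x)
  exact ((cmap_pr_apply Y α n x c).symm.trans (congrArg (pr Y Q₂ n x).hom h)).trans
    (cmap_pr_apply Y α n x c')

end gen

section site

variable {C : Type u} [SmallCategory C] [HasPullbacks C] {J : GrothendieckTopology C} {U : C}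
  {ι : Type u} (Y : ι → Over U)

noncomputable abbrev Qf (P : Cᵒᵖ ⥤ AddCommGrpCat.{u}) : (Over U)ᵒᵖ ⥤ AddCommGrpCat.{u} :=
  (Over.forget U).op ⋙ P

noncomputable abbrev wh {A B : Cᵒᵖ ⥤ AddCommGrpCat.{u}} (α : A ⟶ B) :
    Qf (U := U) A ⟶ Qf (U := U) B :=
  Functor.whiskerLeft (Over.forget U).op α

noncomputable def eps (P : Cᵒᵖ ⥤ AddCommGrpCat.{u}) :
    P.obj (op U) ⟶ (Yc Y (Qf P)).obj ⦋0⦌ :=
  CechEdge.toCech₀ P Y

theorem eps_pr (P : Cᵒᵖ ⥤ AddCommGrpCat.{u}) (y : Fin (0 + 1) → ι) :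
    eps Y P ≫ pr Y (Qf P) 0 y = P.map (PD Y 0 y).hom.op :=
  Limits.Pi.lift_π _ y

theorem eps_pr_apply (P : Cᵒᵖ ⥤ AddCommGrpCat.{u}) (y : Fin (0 + 1) → ι) (z : P.obj (op U)) :
    (pr Y (Qf P) 0 y).hom ((eps Y P).hom z) = (P.map (PD Y 0 y).hom.op).hom z :=
  hom_congr_apply (eps_pr Y P y) z

theorem eps_dK (P : Cᵒᵖ ⥤ AddCommGrpCat.{u}) (z : P.obj (op U)) :
    (dK Y (Qf P) 0).hom ((eps Y P).hom z) = 0 :=
  hom_congr_apply (CechEdge.toCech₀_d P Y) z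

theorem cmapS_pr_apply {A B : Cᵒᵖ ⥤ AddCommGrpCat.{u}} (α : A ⟶ B) (n : ℕ)
    (x : Fin (n + 1) → ι) (c : (Yc Y (Qf A)).obj ⦋n⦌) :
    (pr Y (Qf B) n x).hom ((cmap Y (wh α) n).hom c) =
      (α.app (op (PD Y n x).left)).hom ((pr Y (Qf A) n x).hom c) :=
  cmap_pr_apply Y (wh α) n x c

theorem eps_nat {A B : Cᵒᵖ ⥤ AddCommGrpCat.{u}} (α : A ⟶ B) :
    eps Y A ≫ cmap Y (wh α) 0 = α.app (op U) ≫ eps Y B := by
  refine pr_ext Y (Qf B) _ _ (fun y => ?_)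
  rw [Category.assoc, cmap_pr, ← Category.assoc, eps_pr, Category.assoc, eps_pr]
  exact α.naturality _

theorem eps_nat_apply {A B : Cᵒᵖ ⥤ AddCommGrpCat.{u}} (α : A ⟶ B) (z : A.obj (op U)) :
    (cmap Y (wh α) 0).hom ((eps Y A).hom z) = (eps Y B).hom ((α.app (op U)).hom z) :=
  hom_congr_apply (eps_nat Y α) z

theorem sheafFor (G : Sheaf J AddCommGrpCat.{u}) {I : Type u} (Xs : I → C) (π : ∀ i, Xs i ⟶ U)
    (hc : Sieve.ofArrows Xs π ∈ J U)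
    (x : ∀ i, G.obj.obj (op (Xs i)))
    (hx : ∀ (i j : I) (Z : C) (gi : Z ⟶ Xs i) (gj : Z ⟶ Xs j), gi ≫ π i = gj ≫ π j →
      (G.obj.map gi.op).hom (x i) = (G.obj.map gj.op).hom (x j)) :
    ∃! t : G.obj.obj (op U), ∀ i, (G.obj.map (π i).op).hom t = x i := by
  have h1 : Presheaf.IsSheaf J (G.obj ⋙ forget AddCommGrpCat.{u}) :=
    (Presheaf.isSheaf_iff_isSheaf_forget J G.obj (forget AddCommGrpCat.{u})).mp G.property
  have h2 : Presieve.IsSheaf J (G.obj ⋙ forget AddCommGrpCat.{u}) :=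
    (isSheaf_iff_isSheaf_of_type J _).mp h1
  have h3 := h2 (Sieve.ofArrows Xs π) hc
  have h4 : Presieve.IsSheafFor (G.obj ⋙ forget AddCommGrpCat.{u}) (Presieve.ofArrows Xs π) :=
    (Presieve.isSheafFor_iff_generate _).mpr h3
  exact (Presieve.isSheafFor_arrows_iff _ π).mp h4 x hx

theorem hcov0 (hY : Sieve.ofArrows (fun i => (Y i).left) (fun i => (Y i).hom) ∈ J U) :
    Sieve.ofArrows (fun y : Fin (0 + 1) → ι => (PD Y 0 y).left) (fun y => (PD Y 0 y).hom) ∈ J U := by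
  refine J.superset_covering ?_ hY
  intro V g hg
  obtain ⟨i, a, rfl⟩ := (Sieve.mem_ofArrows_iff _ _ _).mp hg
  let l : Y i ⟶ PD Y 0 (fun _ => i) := Limits.Pi.lift (fun _ => 𝟙 (Y i))
  have hw : l.left ≫ (PD Y 0 (fun _ => i)).hom = (Y i).hom := Over.w l
  rw [← hw, ← Category.assoc]
  exact Sieve.downward_closed _ (Sieve.ofArrows_mk
    (fun y : Fin (0 + 1) → ι => (PD Y 0 y).left) (fun y => (PD Y 0 y).hom) (fun _ => i))
    (a ≫ l.left)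

theorem glue (G : Sheaf J AddCommGrpCat.{u})
    (hY : Sieve.ofArrows (fun i => (Y i).left) (fun i => (Y i).hom) ∈ J U)
    (t : (Yc Y (Qf G.obj)).obj ⦋0⦌) (ht : (dK Y (Qf G.obj) 0).hom t = 0) :
    ∃ τ : G.obj.obj (op U), (eps Y G.obj).hom τ = t := by
  obtain ⟨τ, hτ, -⟩ := sheafFor G (fun y : Fin (0 + 1) → ι => (PD Y 0 y).left)
    (fun y => (PD Y 0 y).hom) (hcov0 Y hY) (fun y => (pr Y (Qf G.obj) 0 y).hom t)
    (fun y y' Z gi gj hg => by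
      have h := G2 Y (Qf G.obj) t ht y y' (Z := Over.mk (gi ≫ (PD Y 0 y).hom))
        (Over.homMk gi rfl) (Over.homMk gj hg.symm)
      exact h)
  refine ⟨τ, cochain_ext Y (Qf G.obj) 0 _ _ (fun y => ?_)⟩
  exact (eps_pr_apply Y G.obj y τ).trans (hτ y)

theorem eps_inj (G : Sheaf J AddCommGrpCat.{u})
    (hY : Sieve.ofArrows (fun i => (Y i).left) (fun i => (Y i).hom) ∈ J U) :
    Function.Injective (eps Y G.obj).hom := by
  intro s s' h
  have e : ∀ (V W : C) (f : V ⟶ W) (g : W ⟶ U),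
      (G.obj.map f.op).hom ((G.obj.map g.op).hom s) = (G.obj.map (f ≫ g).op).hom s :=
    fun V W f g => res_comp G.obj f g s
  obtain ⟨τ, -, huniq⟩ := sheafFor G (fun y : Fin (0 + 1) → ι => (PD Y 0 y).left)
    (fun y => (PD Y 0 y).hom) (hcov0 Y hY) (fun y => (G.obj.map (PD Y 0 y).hom.op).hom s)
    (fun y y' Z gi gj hg => by rw [e, e, hg])
  have h1 : s = τ := huniq s (fun y => rfl)
  have h2 : s' = τ := huniq s' (fun y => by
    have h3 := congrArg (pr Y (Qf G.obj) 0 y).hom h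
    exact ((eps_pr_apply Y G.obj y s').symm.trans h3.symm).trans (eps_pr_apply Y G.obj y s))
  exact h1.trans h2.symm

theorem sec3 (S : ShortComplex (Sheaf J AddCommGrpCat.{u})) (hS : S.ShortExact) (V : C) :
    Function.Injective (S.f.hom.app (op V)).hom ∧
      ∀ z : S.X₂.obj.obj (op V), (S.g.hom.app (op V)).hom z = 0 →
        ∃ c : S.X₁.obj.obj (op V), (S.f.hom.app (op V)).hom c = z := by
  obtain ⟨hex, hmono⟩ := ((Functor.preservesFiniteLimits_tfae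
    (sheafToPresheaf J AddCommGrpCat.{u})).out 1 3 rfl rfl).mpr inferInstance S
      ⟨hS.exact, hS.mono_f⟩
  have h2 : ((S.map (sheafToPresheaf J AddCommGrpCat.{u})).map
      ((evaluation Cᵒᵖ AddCommGrpCat.{u}).obj (op V))).Exact :=
    ((Functor.exact_tfae ((evaluation Cᵒᵖ AddCommGrpCat.{u}).obj (op V))).out 1 3 rfl rfl).mpr
      ⟨inferInstance, inferInstance⟩ _ hex
  constructor
  · haveI : Mono (S.f.hom.app (op V)) :=
      (NatTrans.mono_iff_mono_app ((sheafToPresheaf J AddCommGrpCat.{u}).map S.f)).mp hmono (op V)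
    exact (AddCommGrpCat.mono_iff_injective _).mp inferInstance
  · intro z hz
    exact (ShortComplex.ab_exact_iff _).mp h2 z hz

theorem sec_zero (S : ShortComplex (Sheaf J AddCommGrpCat.{u})) (V : C)
    (z : S.X₁.obj.obj (op V)) :
    (S.g.hom.app (op V)).hom ((S.f.hom.app (op V)).hom z) = 0 := by
  have h := congrArg (fun φ : S.X₁ ⟶ S.X₃ => (φ.hom.app (op V)).hom z) S.zero
  exact h

theorem core (S : ShortComplex (Sheaf J AddCommGrpCat.{u})) (hS : S.ShortExact)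
    (hY : Sieve.ofArrows (fun i => (Y i).left) (fun i => (Y i).hom) ∈ J U)
    (hH1 : IsZero (CohCx.cechH S.X₁.obj Y 1))
    (s : S.X₃.obj.obj (op U)) (tk : ∀ i, S.X₂.obj.obj (op (Y i).left))
    (htk : ∀ i, (S.g.hom.app (op (Y i).left)).hom (tk i) = (S.X₃.obj.map (Y i).hom.op).hom s) :
    ∃ τ : S.X₂.obj.obj (op U), (S.g.hom.app (op U)).hom τ = s := by
  obtain ⟨t0, ht0⟩ := cochain_mk Y (Qf S.X₂.obj) 0
    (fun y => (S.X₂.obj.map (Limits.Pi.π (Y ∘ y) 0).left.op).hom (tk (y 0)))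
  have h1 : (cmap Y (wh S.g.hom) 0).hom t0 = (eps Y S.X₃.obj).hom s := by
    apply cochain_ext Y (Qf S.X₃.obj) 0
    intro y
    have hw : (Limits.Pi.π (Y ∘ y) 0).left ≫ (Y (y 0)).hom = (PD Y 0 y).hom :=
      Over.w (Limits.Pi.π (Y ∘ y) 0)
    have e1 := cmapS_pr_apply Y S.g.hom 0 y t0
    have e2 : (S.g.hom.app (op (PD Y 0 y).left)).hom ((pr Y (Qf S.X₂.obj) 0 y).hom t0) =
        (S.X₃.obj.map (PD Y 0 y).hom.op).hom s :=
      (congrArg (S.g.hom.app (op (PD Y 0 y).left)).hom (ht0 y)).trans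
        ((nat_res S.g.hom (Limits.Pi.π (Y ∘ y) 0).left (tk (y 0))).trans
          ((congrArg (S.X₃.obj.map (Limits.Pi.π (Y ∘ y) 0).left.op).hom (htk (y 0))).trans
            ((res_comp S.X₃.obj (Limits.Pi.π (Y ∘ y) 0).left (Y (y 0)).hom s).trans
              (by rw [hw]))))
    exact (e1.trans e2).trans (eps_pr_apply Y S.X₃.obj y s).symm
  have h2 : (cmap Y (wh S.g.hom) (0 + 1)).hom ((dK Y (Qf S.X₂.obj) 0).hom t0) = 0 := by
    have e := cmap_d Y (wh S.g.hom) 0 t0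
    have e' : (dK Y (Qf S.X₃.obj) 0).hom ((cmap Y (wh S.g.hom) 0).hom t0) = 0 :=
      (congrArg (dK Y (Qf S.X₃.obj) 0).hom h1).trans (eps_dK Y S.X₃.obj s)
    exact e.symm.trans e'
  have h3 : ∀ x : Fin (0 + 1 + 1) → ι, ∃ c : S.X₁.obj.obj (op (PD Y (0 + 1) x).left),
      (S.f.hom.app (op (PD Y (0 + 1) x).left)).hom c =
        (pr Y (Qf S.X₂.obj) (0 + 1) x).hom ((dK Y (Qf S.X₂.obj) 0).hom t0) := by
    intro x
    apply (sec3 S hS _).2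
    have e := cmapS_pr_apply Y S.g.hom (0 + 1) x ((dK Y (Qf S.X₂.obj) 0).hom t0)
    exact e.symm.trans ((congrArg (pr Y (Qf S.X₃.obj) (0 + 1) x).hom h2).trans (map_zero _))
  choose c hc using h3
  obtain ⟨cc, hcc⟩ := cochain_mk Y (Qf S.X₁.obj) (0 + 1) c
  have h4 : (cmap Y (wh S.f.hom) (0 + 1)).hom cc = (dK Y (Qf S.X₂.obj) 0).hom t0 := by
    apply cochain_ext Y (Qf S.X₂.obj) (0 + 1)
    intro x
    exact (cmapS_pr_apply Y S.f.hom (0 + 1) x cc).trans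
      ((congrArg (S.f.hom.app (op (PD Y (0 + 1) x).left)).hom (hcc x)).trans (hc x))
  have h5 : (dK Y (Qf S.X₁.obj) (0 + 1)).hom cc = 0 := by
    apply cmap_inj Y (wh S.f.hom) (fun V => (sec3 S hS V.left).1) (0 + 1 + 1)
    have e := cmap_d Y (wh S.f.hom) (0 + 1) cc
    have e2 : (dK Y (Qf S.X₂.obj) (0 + 1)).hom ((cmap Y (wh S.f.hom) (0 + 1)).hom cc) = 0 :=
      (congrArg (dK Y (Qf S.X₂.obj) (0 + 1)).hom h4).trans (dK_dK Y (Qf S.X₂.obj) 0 t0)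
    exact (e.symm.trans e2).trans (map_zero _).symm
  have hex : ((KK Y (Qf S.X₁.obj)).sc' 0 1 2).Exact :=
    ((KK Y (Qf S.X₁.obj)).exactAt_iff' 0 1 2 (by simp) (by simp)).mp
      ((HomologicalComplex.exactAt_iff_isZero_homology _ _).mpr hH1)
  obtain ⟨b, hb⟩ := (ShortComplex.ab_exact_iff _).mp hex cc h5
  have hb' : (dK Y (Qf S.X₁.obj) 0).hom b = cc := hb
  have h6 : (dK Y (Qf S.X₂.obj) 0).hom (t0 - (cmap Y (wh S.f.hom) 0).hom b) = 0 := by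
    have e := cmap_d Y (wh S.f.hom) 0 b
    have e3 : (dK Y (Qf S.X₂.obj) 0).hom ((cmap Y (wh S.f.hom) 0).hom b) =
        (dK Y (Qf S.X₂.obj) 0).hom t0 :=
      e.trans ((congrArg (cmap Y (wh S.f.hom) (0 + 1)).hom hb').trans h4)
    exact (map_sub _ _ _).trans (sub_eq_zero.mpr e3.symm)
  obtain ⟨τ, hτ⟩ := glue Y S.X₂ hY _ h6
  have h7 : (cmap Y (wh S.g.hom) 0).hom ((cmap Y (wh S.f.hom) 0).hom b) = 0 := by
    apply cochain_ext Y (Qf S.X₃.obj) 0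
    intro y
    exact ((cmapS_pr_apply Y S.g.hom 0 y _).trans
      ((congrArg (S.g.hom.app (op (PD Y 0 y).left)).hom (cmapS_pr_apply Y S.f.hom 0 y b)).trans
        (sec_zero S _ _))).trans (map_zero _).symm
  refine ⟨τ, eps_inj Y S.X₃ hY ?_⟩
  have e8 : (cmap Y (wh S.g.hom) 0).hom (t0 - (cmap Y (wh S.f.hom) 0).hom b) =
      (eps Y S.X₃.obj).hom s :=
    (map_sub _ _ _).trans (by rw [h1, h7, sub_zero])
  exact ((eps_nat_apply Y S.g.hom τ).symm.trans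
    (congrArg (cmap Y (wh S.g.hom) 0).hom hτ)).trans e8

end site

theorem main {C : Type u} [SmallCategory C] [HasPullbacks C]
    {J : GrothendieckTopology C} (S : ShortComplex (Sheaf J AddCommGrpCat.{u})) (hS : S.ShortExact)
    (U : C)
    (h : ∀ T ∈ J U, ∃ (ι : Type u) (Y : ι → Over U), (∀ i, T.arrows (Y i).hom) ∧
      Sieve.ofArrows (fun i => (Y i).left) (fun i => (Y i).hom) ∈ J U ∧
      IsZero (CohCx.cechH S.X₁.obj Y 1)) :
    Function.Surjective (S.g.hom.app (op U)) := by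
  intro s
  haveI : Presheaf.IsLocallySurjective J S.g.hom :=
    (Sheaf.isLocallySurjective_iff_epi' AddCommGrpCat.{u} S.g).mpr hS.epi_g
  obtain ⟨ι, Y, hYT, hY, hH1⟩ := h _ (Presheaf.imageSieve_mem J S.g.hom (U := op U) s)
  have hYT' : ∀ i, ∃ t : S.X₂.obj.obj (op (Y i).left),
      (S.g.hom.app (op (Y i).left)).hom t = (S.X₃.obj.map (Y i).hom.op).hom s := fun i => hYT i
  choose tk htk using hYT'
  obtain ⟨τ, hτ⟩ := core Y S hS hY hH1 s tk htk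
  exact ⟨τ, hτ⟩

end helpers

open Opposite CategoryTheory.Limits in
/-- Consider abelian sheaves F ⊂ G with quotient H on a site with fibre products, and an object U. If
every covering sieve of U can be refined by a covering family with respect to which the first Cech
cohomology group of F vanishes, then G(U) -> H(U) is surjective. -/
theorem result {C : Type u} [SmallCategory C] [HasPullbacks C]
    {J : GrothendieckTopology C} (S : ShortComplex (Sheaf J AddCommGrpCat.{u})) (hS : S.ShortExact)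
    (U : C)
    (h : ∀ T ∈ J U, ∃ (ι : Type u) (Y : ι → Over U), (∀ i, T.arrows (Y i).hom) ∧
      Sieve.ofArrows (fun i => (Y i).left) (fun i => (Y i).hom) ∈ J U ∧
      IsZero (CohCx.cechH S.X₁.obj Y 1)) :
    Function.Surjective (S.g.hom.app (op U)) := by
  exact Groth.Agent.S0859.main S hS U h

end Groth.Agent.S0859
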