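import Groth.Statements.S0858
import Mathlib
import Groth.Prelude.Def_CohCx
import Groth.Agent.S0859

set_option autoImplicit false
universe u
open CategoryTheory
open CohSite

namespace Groth.Agent.S0858

section helpers

open CategoryTheory CategoryTheory.Limits Opposite AlgebraicTopology Simplicial
open Groth.Agent.S0859 (hom_congr_apply comp_hom_apply Yc pr PD Qf wh dK KK cochain_ext cochain_mk
  tr tr_π Ymap_pr cmap cmap_d cmapS_pr_apply pr_ext)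

section coind

variable {C : Type u} [SmallCategory C]

/-- the coinduced presheaf: `W ↦ ∏_{f : V → W} I(V)` -/
def Gp (I : Cᵒᵖ ⥤ AddCommGrpCat.{u}) : Cᵒᵖ ⥤ AddCommGrpCat.{u} where
  obj W := AddCommGrpCat.of (∀ (V : C) (_ : V ⟶ W.unop), I.obj (op V))
  map {W W'} h := AddCommGrpCat.ofHom
    { toFun := fun φ V f => φ V (f ≫ h.unop)
      map_zero' := rfl
      map_add' := fun _ _ => rfl }
  map_id W := by
    ext φ V f
    show φ V (f ≫ 𝟙 _) = φ V f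
    rw [Category.comp_id]
  map_comp {W W' W''} h h' := by
    ext φ V f
    show φ V (f ≫ (h'.unop ≫ h.unop)) = φ V ((f ≫ h'.unop) ≫ h.unop)
    rw [Category.assoc]

def evH (I : Cᵒᵖ ⥤ AddCommGrpCat.{u}) (W0 V : C) (f : V ⟶ W0) :
    (Gp I).obj (op W0) →+ I.obj (op V) where
  toFun φ := φ V f
  map_zero' := rfl
  map_add' _ _ := rfl

def toG (I : Cᵒᵖ ⥤ AddCommGrpCat.{u}) (W0 : C) {Z : AddCommGrpCat.{u}}
    (ψ : ∀ (V : C) (_ : V ⟶ W0), Z →+ I.obj (op V)) : Z ⟶ (Gp I).obj (op W0) :=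
  AddCommGrpCat.ofHom
    { toFun := fun z V f => ψ V f z
      map_zero' := by funext V f; exact map_zero _
      map_add' := fun a b => by funext V f; exact map_add _ a b }

theorem evH_toG (I : Cᵒᵖ ⥤ AddCommGrpCat.{u}) (W0 : C) {Z : AddCommGrpCat.{u}}
    (ψ : ∀ (V : C) (_ : V ⟶ W0), Z →+ I.obj (op V)) (V : C) (f : V ⟶ W0) (z : Z) :
    evH I W0 V f ((toG I W0 ψ).hom z) = ψ V f z := rfl

theorem G_ext (I : Cᵒᵖ ⥤ AddCommGrpCat.{u}) (W0 : C) (φ φ' : (Gp I).obj (op W0))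
    (h : ∀ V f, evH I W0 V f φ = evH I W0 V f φ') : φ = φ' :=
  funext (fun V => funext (fun f => h V f))

theorem evH_map (I : Cᵒᵖ ⥤ AddCommGrpCat.{u}) {W0 W1 : C} (t : W1 ⟶ W0) (V : C) (f : V ⟶ W1)
    (φ : (Gp I).obj (op W0)) :
    evH I W1 V f (((Gp I).map t.op).hom φ) = evH I W0 V (f ≫ t) φ := rfl

def etaG (I : Cᵒᵖ ⥤ AddCommGrpCat.{u}) : I ⟶ Gp I where
  app W := AddCommGrpCat.ofHom
    { toFun := fun s V f => (I.map f.op).hom s
      map_zero' := by funext V f; exact map_zero _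
      map_add' := fun a b => by funext V f; exact map_add _ a b }
  naturality {W W'} h := by
    ext s
    refine funext (fun V => funext (fun f => ?_))
    show (I.map f.op).hom ((I.map h).hom s) = (I.map (f ≫ h.unop).op).hom s
    rw [op_comp, I.map_comp]
    rfl

theorem etaG_inj (I : Cᵒᵖ ⥤ AddCommGrpCat.{u}) (W : Cᵒᵖ) :
    Function.Injective ((etaG I).app W).hom := by
  intro s s' h
  have h1 : (I.map (𝟙 W.unop).op).hom s = (I.map (𝟙 W.unop).op).hom s' :=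
    congrFun (congrFun h W.unop) (𝟙 _)
  have e : ∀ t : I.obj W, (I.map (𝟙 W.unop).op).hom t = t :=
    fun t => hom_congr_apply (I.map_id W) t
  exact (e s).symm.trans (h1.trans (e s'))

instance etaG_mono (I : Cᵒᵖ ⥤ AddCommGrpCat.{u}) : Mono (etaG I) := by
  haveI : ∀ W, Mono ((etaG I).app W) :=
    fun W => (AddCommGrpCat.mono_iff_injective _).mpr (etaG_inj I W)
  exact NatTrans.mono_of_mono_app _

theorem exists_retr {J : GrothendieckTopology C} (I : Sheaf J AddCommGrpCat.{u}) [Injective I] :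
    ∃ r : Gp I.obj ⟶ I.obj, etaG I.obj ≫ r = 𝟙 I.obj := by
  haveI : Injective ((sheafToPresheaf J AddCommGrpCat.{u}).obj I) :=
    Injective.injective_of_adjoint (sheafificationAdjunction J AddCommGrpCat.{u}) I
  haveI : Injective I.obj := ‹Injective ((sheafToPresheaf J AddCommGrpCat.{u}).obj I)›
  exact ⟨Injective.factorThru (𝟙 I.obj) (etaG I.obj), Injective.comp_factorThru _ _⟩

end coind


section site

variable {C : Type u} [SmallCategory C] [HasPullbacks C] {U : C} {ι : Type u} (Y : ι → Over U)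
  (I : Cᵒᵖ ⥤ AddCommGrpCat.{u})

/-- evaluation functional on Cech cochains of the coinduced presheaf -/
noncomputable def E (n : ℕ) (a : Fin (n + 1) → ι) (W : Over U) (φ : W ⟶ PD Y n a) :
    (Yc Y (Qf (Gp I))).obj ⦋n⦌ →+ I.obj (op W.left) :=
  (evH I (PD Y n a).left W.left φ.left).comp (pr Y (Qf (Gp I)) n a).hom

theorem E_congr (n : ℕ) (a b : Fin (n + 1) → ι) (h : ∀ k, a k = b k) (W : Over U)
    (φ : W ⟶ PD Y n a) (ψ : W ⟶ PD Y n b)
    (hφ : ∀ k, φ ≫ Limits.Pi.π (Y ∘ a) k ≫ eqToHom (congrArg Y (h k)) = ψ ≫ Limits.Pi.π (Y ∘ b) k)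
    (c : (Yc Y (Qf (Gp I))).obj ⦋n⦌) : E Y I n a W φ c = E Y I n b W ψ c := by
  obtain rfl : a = b := funext h
  have e : φ = ψ := by
    apply Limits.Pi.hom_ext
    intro k
    have hk := hφ k
    simp only [eqToHom_refl, Category.comp_id] at hk
    exact hk
  rw [e]

theorem E_map {n m : ℕ} (θ : ⦋n⦌ ⟶ ⦋m⦌) (y : Fin (m + 1) → ι) (W : Over U) (φ : W ⟶ PD Y m y)
    (c : (Yc Y (Qf (Gp I))).obj ⦋n⦌) :
    E Y I m y W φ (((Yc Y (Qf (Gp I))).map θ).hom c) =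
      E Y I n (y ∘ θ.toOrderHom) W (φ ≫ tr Y θ y) c := by
  have h := hom_congr_apply (Ymap_pr Y (Qf (Gp I)) θ y) c
  exact congrArg (fun z => evH I (PD Y m y).left W.left φ.left z) h

theorem tr_pi_eq {n m : ℕ} (θ : ⦋n⦌ ⟶ ⦋m⦌) (y : Fin (m + 1) → ι) (W : Over U)
    (F : W ⟶ PD Y m y) (κ : Fin (n + 1)) (κ' : Fin (m + 1)) (e : θ.toOrderHom κ = κ')
    (p : Y (y (θ.toOrderHom κ)) = Y (y κ')) :
    (F ≫ tr Y θ y) ≫ Limits.Pi.π (Y ∘ (y ∘ θ.toOrderHom)) κ ≫ eqToHom p =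
      F ≫ Limits.Pi.π (Y ∘ y) κ' := by
  subst e
  rw [eqToHom_refl, Category.comp_id, Category.assoc, tr_π]

noncomputable def sel (W : Over U) (h : Nonempty (Σ i : ι, W ⟶ Y i)) : Σ i : ι, W ⟶ Y i :=
  Classical.choice h

noncomputable def liftP (n : ℕ) (x : Fin (n + 1) → ι) (W : Over U) (i0 : ι) (f0 : W ⟶ Y i0)
    (φ : W ⟶ PD Y n x) : W ⟶ PD Y (n + 1) (Fin.cons i0 x) :=
  Limits.Pi.lift (fun k =>
    Fin.cases (motive := fun k => W ⟶ (Y ∘ (Fin.cons i0 x : Fin (n + 1 + 1) → ι)) k) f0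
      (fun j => φ ≫ Limits.Pi.π (Y ∘ x) j) k)

theorem liftP_zero (n : ℕ) (x : Fin (n + 1) → ι) (W : Over U) (i0 : ι) (f0 : W ⟶ Y i0)
    (φ : W ⟶ PD Y n x) :
    liftP Y n x W i0 f0 φ ≫ Limits.Pi.π (Y ∘ (Fin.cons i0 x : Fin (n + 1 + 1) → ι)) 0 = f0 :=
  Limits.Pi.lift_π _ 0

theorem liftP_succ (n : ℕ) (x : Fin (n + 1) → ι) (W : Over U) (i0 : ι) (f0 : W ⟶ Y i0)
    (φ : W ⟶ PD Y n x) (j : Fin (n + 1)) :
    liftP Y n x W i0 f0 φ ≫ Limits.Pi.π (Y ∘ (Fin.cons i0 x : Fin (n + 1 + 1) → ι)) j.succ =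
      φ ≫ Limits.Pi.π (Y ∘ x) j :=
  (Limits.Pi.lift_π _ j.succ).trans (Fin.cases_succ j)

theorem A' (n : ℕ) (x : Fin (n + 1) → ι) (W : Over U) (i0 : ι) (f0 : W ⟶ Y i0)
    (φ : W ⟶ PD Y n x) (z : (Yc Y (Qf (Gp I))).obj ⦋n⦌) :
    E Y I (n + 1) (Fin.cons i0 x) W (liftP Y n x W i0 f0 φ)
        (((Yc Y (Qf (Gp I))).map (SimplexCategory.δ (0 : Fin (n + 2)))).hom z) =
      E Y I n x W φ z := by
  refine (E_map Y I (SimplexCategory.δ (0 : Fin (n + 2))) (Fin.cons i0 x) W _ z).trans ?_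
  refine E_congr Y I n _ _ (fun κ => rfl) W _ _ (fun κ => ?_) z
  exact (tr_pi_eq Y (SimplexCategory.δ (0 : Fin (n + 2))) (Fin.cons i0 x) W _ κ κ.succ rfl _).trans
    (liftP_succ Y n x W i0 f0 φ κ)

theorem B' (n : ℕ) (k : Fin (n + 2)) (x : Fin (n + 1 + 1) → ι) (W : Over U) (i0 : ι)
    (f0 : W ⟶ Y i0) (φ : W ⟶ PD Y (n + 1) x) (z : (Yc Y (Qf (Gp I))).obj ⦋n + 1⦌) :
    E Y I (n + 1 + 1) (Fin.cons i0 x) W (liftP Y (n + 1) x W i0 f0 φ)
        (((Yc Y (Qf (Gp I))).map (SimplexCategory.δ k.succ)).hom z) =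
      E Y I (n + 1) (Fin.cons i0 (x ∘ (SimplexCategory.δ k).toOrderHom)) W
        (liftP Y n (x ∘ (SimplexCategory.δ k).toOrderHom) W i0 f0
          (φ ≫ tr Y (SimplexCategory.δ k) x)) z := by
  refine (E_map Y I (SimplexCategory.δ k.succ) (Fin.cons i0 x) W _ z).trans ?_
  have h : ∀ κ : Fin (n + 1 + 1),
      ((Fin.cons i0 x : Fin (n + 1 + 1 + 1) → ι) ∘ (SimplexCategory.δ k.succ).toOrderHom) κ =
        (Fin.cons i0 (x ∘ (SimplexCategory.δ k).toOrderHom) : Fin (n + 1 + 1) → ι) κ := by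
    intro κ
    induction κ using Fin.cases with
    | zero =>
      show (Fin.cons i0 x : Fin (n + 1 + 1 + 1) → ι) (k.succ.succAbove 0) = i0
      rw [Fin.succ_succAbove_zero]
      rfl
    | succ j =>
      show (Fin.cons i0 x : Fin (n + 1 + 1 + 1) → ι) (k.succ.succAbove j.succ) = x (k.succAbove j)
      rw [Fin.succ_succAbove_succ]
      rfl
  refine E_congr Y I (n + 1) _ _ h W _ _ (fun κ => ?_) z
  induction κ using Fin.cases with
  | zero =>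
    exact (tr_pi_eq Y (SimplexCategory.δ k.succ) (Fin.cons i0 x) W _ 0 0
      (Fin.succ_succAbove_zero k) _).trans
        ((liftP_zero Y (n + 1) x W i0 f0 φ).trans (liftP_zero Y n _ W i0 f0 _).symm)
  | succ j =>
    refine (tr_pi_eq Y (SimplexCategory.δ k.succ) (Fin.cons i0 x) W _ j.succ (k.succAbove j).succ
      (Fin.succ_succAbove_succ k j) _).trans ?_
    refine (liftP_succ Y (n + 1) x W i0 f0 φ (k.succAbove j)).trans ?_
    refine Eq.trans ?_ (liftP_succ Y n (x ∘ (SimplexCategory.δ k).toOrderHom) W i0 f0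
      (φ ≫ tr Y (SimplexCategory.δ k) x) j).symm
    rw [Category.assoc, tr_π]
    rfl

end site

section site2

variable {C : Type u} [SmallCategory C] [HasPullbacks C] {U : C} {ι : Type u} (Y : ι → Over U)
  (I : Cᵒᵖ ⥤ AddCommGrpCat.{u})

noncomputable def Hc' (n : ℕ) (x : Fin (n + 1) → ι) (W : Over U) (s : Σ i : ι, W ⟶ Y i)
    (φ : W ⟶ PD Y n x) : (Yc Y (Qf (Gp I))).obj ⦋n + 1⦌ →+ I.obj (op W.left) :=
  E Y I (n + 1) (Fin.cons s.1 x) W (liftP Y n x W s.1 s.2 φ)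

noncomputable def Hc (n : ℕ) (x : Fin (n + 1) → ι) (W : Over U) (φ : W ⟶ PD Y n x) :
    (Yc Y (Qf (Gp I))).obj ⦋n + 1⦌ →+ I.obj (op W.left) :=
  Hc' Y I n x W (sel Y W ⟨⟨x 0, φ ≫ Limits.Pi.π (Y ∘ x) 0⟩⟩) φ

theorem Hc_inv (n : ℕ) (x : Fin (n + 1) → ι) (V : C) (g g' : V ⟶ U) (e : g = g')
    (φ : Over.mk g ⟶ PD Y n x) (φ' : Over.mk g' ⟶ PD Y n x) (hl : φ.left = φ'.left)
    (c : (Yc Y (Qf (Gp I))).obj ⦋n + 1⦌) :
    Hc Y I n x (Over.mk g) φ c = Hc Y I n x (Over.mk g') φ' c := by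
  subst e
  have e2 : φ = φ' := Over.OverMorphism.ext hl
  rw [e2]

noncomputable def liftY (Q : (Over U)ᵒᵖ ⥤ AddCommGrpCat.{u}) {n : ℕ} {Z : AddCommGrpCat.{u}}
    (p : ∀ x : Fin (n + 1) → ι, Z ⟶ Q.obj (op (PD Y n x))) : Z ⟶ (Yc Y Q).obj ⦋n⦌ :=
  Limits.Pi.lift p

theorem liftY_pr (Q : (Over U)ᵒᵖ ⥤ AddCommGrpCat.{u}) {n : ℕ} {Z : AddCommGrpCat.{u}}
    (p : ∀ x : Fin (n + 1) → ι, Z ⟶ Q.obj (op (PD Y n x))) (x : Fin (n + 1) → ι) :
    liftY Y Q p ≫ pr Y Q n x = p x :=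
  Limits.Pi.lift_π p x

noncomputable def sN (n : ℕ) :
    (Yc Y (Qf (Gp I))).obj ⦋n + 1⦌ ⟶ (Yc Y (Qf (Gp I))).obj ⦋n⦌ :=
  liftY Y (Qf (Gp I)) (fun x => toG I (PD Y n x).left
    (fun V f => Hc Y I n x (Over.mk (f ≫ (PD Y n x).hom)) (Over.homMk f rfl)))

theorem sN_apply (n : ℕ) (c : (Yc Y (Qf (Gp I))).obj ⦋n + 1⦌) (x : Fin (n + 1) → ι) (V : C)
    (f : V ⟶ (PD Y n x).left) :
    evH I (PD Y n x).left V f ((pr Y (Qf (Gp I)) n x).hom ((sN Y I n).hom c)) =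
      Hc Y I n x (Over.mk (f ≫ (PD Y n x).hom)) (Over.homMk f rfl) c := by
  have h := hom_congr_apply (liftY_pr Y (Qf (Gp I)) (fun x => toG I (PD Y n x).left
    (fun V f => Hc Y I n x (Over.mk (f ≫ (PD Y n x).hom)) (Over.homMk f rfl))) x) c
  exact congrArg (fun z => evH I (PD Y n x).left V f z) h

theorem mor_ext {n : ℕ} {Z : AddCommGrpCat.{u}} (a b : Z ⟶ (Yc Y (Qf (Gp I))).obj ⦋n⦌)
    (h : ∀ (z : Z) (x : Fin (n + 1) → ι) (V : C) (f : V ⟶ (PD Y n x).left),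
      evH I (PD Y n x).left V f ((pr Y (Qf (Gp I)) n x).hom (a.hom z)) =
        evH I (PD Y n x).left V f ((pr Y (Qf (Gp I)) n x).hom (b.hom z))) : a = b := by
  apply AddCommGrpCat.hom_ext
  apply AddMonoidHom.ext
  intro z
  apply cochain_ext Y (Qf (Gp I)) n
  intro x
  exact G_ext I (PD Y n x).left _ _ (fun V f => h z x V f)

theorem sN_hc (n : ℕ) :
    (Yc Y (Qf (Gp I))).δ (0 : Fin (n + 2)) ≫ sN Y I n = 𝟙 _ := by
  apply mor_ext Y I
  intro z x V f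
  let W : Over U := Over.mk (f ≫ (PD Y n x).hom)
  let f' : W ⟶ PD Y n x := Over.homMk f rfl
  let s := sel Y W ⟨⟨x 0, f' ≫ Limits.Pi.π (Y ∘ x) 0⟩⟩
  have h1 := sN_apply Y I n (((Yc Y (Qf (Gp I))).δ (0 : Fin (n + 2))).hom z) x V f
  have h2 := A' Y I n x W s.1 s.2 f' z
  exact h1.trans h2

theorem sN_he (n : ℕ) (k : Fin (n + 2)) :
    (Yc Y (Qf (Gp I))).δ k.succ ≫ sN Y I (n + 1) = sN Y I n ≫ (Yc Y (Qf (Gp I))).δ k := by
  apply mor_ext Y I
  intro z x V f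
  let W : Over U := Over.mk (f ≫ (PD Y (n + 1) x).hom)
  let f' : W ⟶ PD Y (n + 1) x := Over.homMk f rfl
  let s := sel Y W ⟨⟨x 0, f' ≫ Limits.Pi.π (Y ∘ x) 0⟩⟩
  have L1 := sN_apply Y I (n + 1) (((Yc Y (Qf (Gp I))).δ k.succ).hom z) x V f
  have L2 := B' Y I n k x W s.1 s.2 f' z
  have R1 := E_map Y I (SimplexCategory.δ k) x W f' ((sN Y I n).hom z)
  have R2 := sN_apply Y I n z (x ∘ (SimplexCategory.δ k).toOrderHom) V
    (f' ≫ tr Y (SimplexCategory.δ k) x).left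
  have R3 := Hc_inv Y I n (x ∘ (SimplexCategory.δ k).toOrderHom) V
    ((f' ≫ tr Y (SimplexCategory.δ k) x).left ≫
      (PD Y n (x ∘ (SimplexCategory.δ k).toOrderHom)).hom)
    (f ≫ (PD Y (n + 1) x).hom) (Over.w (f' ≫ tr Y (SimplexCategory.δ k) x))
    (Over.homMk (f' ≫ tr Y (SimplexCategory.δ k) x).left rfl)
    (f' ≫ tr Y (SimplexCategory.δ k) x) rfl z
  exact (L1.trans L2).trans ((R1.trans (R2.trans R3)).symm)

theorem G_exact (p : ℕ) (c' : (Yc Y (Qf (Gp I))).obj ⦋p + 1⦌)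
    (hc' : (dK Y (Qf (Gp I)) (p + 1)).hom c' = 0) :
    ∃ b', (dK Y (Qf (Gp I)) p).hom b' = c' := by
  have hd : ∀ n, dK Y (Qf (Gp I)) n = AlternatingCofaceMapComplex.objD (Yc Y (Qf (Gp I))) n :=
    fun n => Groth.Agent.S0885.objd (Yc Y (Qf (Gp I))) n
  have key := Groth.Agent.S0885.objD_succ_comp (Yc Y (Qf (Gp I))) (sN Y I) (sN_hc Y I)
    (sN_he Y I) p
  rw [← hd (p + 1), ← hd p] at key
  have k1 : (sN Y I (p + 1)).hom ((dK Y (Qf (Gp I)) (p + 1)).hom c') =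
      c' - (dK Y (Qf (Gp I)) p).hom ((sN Y I p).hom c') := hom_congr_apply key c'
  refine ⟨(sN Y I p).hom c', ?_⟩
  have k2 : (sN Y I (p + 1)).hom ((dK Y (Qf (Gp I)) (p + 1)).hom c') = 0 :=
    (congrArg (sN Y I (p + 1)).hom hc').trans (map_zero _)
  exact (sub_eq_zero.mp (k1.symm.trans k2)).symm

theorem retr_apply {A B : Cᵒᵖ ⥤ AddCommGrpCat.{u}} (η : A ⟶ B) (r : B ⟶ A) (hr : η ≫ r = 𝟙 A)
    (n : ℕ) (c : (Yc Y (Qf A)).obj ⦋n⦌) :
    (cmap Y (wh r) n).hom ((cmap Y (wh η) n).hom c) = c := by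
  apply cochain_ext Y (Qf A) n
  intro x
  have e : ∀ z : A.obj (op (PD Y n x).left),
      (r.app (op (PD Y n x).left)).hom ((η.app (op (PD Y n x).left)).hom z) = z :=
    fun z => hom_congr_apply (congrArg (fun t => t.app (op (PD Y n x).left)) hr) z
  exact (cmapS_pr_apply Y r n x _).trans
    ((congrArg (r.app (op (PD Y n x).left)).hom (cmapS_pr_apply Y η n x c)).trans (e _))

end site2

theorem main {C : Type u} [SmallCategory C] [HasPullbacks C]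
    (J : GrothendieckTopology C) (I : Sheaf J AddCommGrpCat.{u}) [Injective I]
    {U : C} {ι : Type u} (Y : ι → Over U) (p : ℕ) :
    IsZero (CohCx.cechH I.obj Y (p + 1)) := by
  obtain ⟨r, hr⟩ := exists_retr I
  have hex : ∀ c : (Yc Y (Qf I.obj)).obj ⦋p + 1⦌, (dK Y (Qf I.obj) (p + 1)).hom c = 0 →
      ∃ b, (dK Y (Qf I.obj) p).hom b = c := by
    intro c hc
    have h1 : (dK Y (Qf (Gp I.obj)) (p + 1)).hom ((cmap Y (wh (etaG I.obj)) (p + 1)).hom c) = 0 :=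
      (cmap_d Y (wh (etaG I.obj)) (p + 1) c).trans
        ((congrArg (cmap Y (wh (etaG I.obj)) (p + 1 + 1)).hom hc).trans (map_zero _))
    obtain ⟨b', hb'⟩ := G_exact Y I.obj p _ h1
    refine ⟨(cmap Y (wh r) p).hom b', ?_⟩
    exact (cmap_d Y (wh r) p b').trans
      ((congrArg (cmap Y (wh r) (p + 1)).hom hb').trans
        (retr_apply Y (etaG I.obj) r hr (p + 1) c))
  have hexact : ((KK Y (Qf I.obj)).sc' p (p + 1) (p + 1 + 1)).Exact :=
    (ShortComplex.ab_exact_iff _).mpr (fun c hc => hex c hc)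
  exact (HomologicalComplex.exactAt_iff_isZero_homology _ _).mp
    (((KK Y (Qf I.obj)).exactAt_iff' p (p + 1) (p + 1 + 1) (by simp) (by simp)).mpr hexact)

end helpers

open CategoryTheory.Limits in
/-- On a site with fibre products, for a covering family Y_i -> U and an injective abelian sheaf I, the
Cech cohomology groups of I with respect to the family vanish in all positive degrees. -/
theorem result {C : Type u} [SmallCategory C] [HasPullbacks C]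
    (J : GrothendieckTopology C) (I : Sheaf J AddCommGrpCat.{u}) [Injective I]
    {U : C} {ι : Type u} (Y : ι → Over U)
    (hY : Sieve.ofArrows (fun i => (Y i).left) (fun i => (Y i).hom) ∈ J U) (p : ℕ) :
    IsZero (CohCx.cechH I.obj Y (p + 1)) := by
  exact Groth.Agent.S0858.main J I Y p

end Groth.Agent.S0858
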