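import Groth.Statements.S0455
import Mathlib
import Groth.Agent.S0858
import Groth.Agent.S0466
import Groth.Agent.S0454

set_option autoImplicit false
universe u
open CategoryTheory
open CohTop

namespace Groth.Agent.S0455

section helpers

section genD

open CategoryTheory CategoryTheory.Limits Opposite AlgebraicTopology Simplicial
open Groth.Agent.S0859 (hom_congr_apply Yc pr PD dK KK cochain_ext tr tr_π Ymap_pr cmap cmap_d
  cmap_pr_apply)
open Groth.Agent.S0858 (Gp evH toG evH_toG G_ext evH_map etaG)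

variable {D : Type u} [SmallCategory D] [HasFiniteProducts D] {ι : Type u} (Y : ι → D)
  (I : Dᵒᵖ ⥤ AddCommGrpCat.{u})

noncomputable def E (n : ℕ) (a : Fin (n + 1) → ι) (W : D) (φ : W ⟶ PD Y n a) :
    (Yc Y (Gp I)).obj ⦋n⦌ →+ I.obj (op W) :=
  (evH I (PD Y n a) W φ).comp (pr Y (Gp I) n a).hom

theorem E_congr (n : ℕ) (a b : Fin (n + 1) → ι) (h : ∀ k, a k = b k) (W : D)
    (φ : W ⟶ PD Y n a) (ψ : W ⟶ PD Y n b)
    (hφ : ∀ k, φ ≫ Limits.Pi.π (Y ∘ a) k ≫ eqToHom (congrArg Y (h k)) = ψ ≫ Limits.Pi.π (Y ∘ b) k)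
    (c : (Yc Y (Gp I)).obj ⦋n⦌) : E Y I n a W φ c = E Y I n b W ψ c := by
  obtain rfl : a = b := funext h
  have e : φ = ψ := by
    apply Limits.Pi.hom_ext
    intro k
    have hk := hφ k
    simp only [eqToHom_refl, Category.comp_id] at hk
    exact hk
  rw [e]

theorem E_map {n m : ℕ} (θ : ⦋n⦌ ⟶ ⦋m⦌) (y : Fin (m + 1) → ι) (W : D) (φ : W ⟶ PD Y m y)
    (c : (Yc Y (Gp I)).obj ⦋n⦌) :
    E Y I m y W φ (((Yc Y (Gp I)).map θ).hom c) =
      E Y I n (y ∘ θ.toOrderHom) W (φ ≫ tr Y θ y) c := by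
  have h := hom_congr_apply (Ymap_pr Y (Gp I) θ y) c
  exact congrArg (fun z => evH I (PD Y m y) W φ z) h

theorem tr_pi_eq {n m : ℕ} (θ : ⦋n⦌ ⟶ ⦋m⦌) (y : Fin (m + 1) → ι) (W : D)
    (F : W ⟶ PD Y m y) (κ : Fin (n + 1)) (κ' : Fin (m + 1)) (e : θ.toOrderHom κ = κ')
    (p : Y (y (θ.toOrderHom κ)) = Y (y κ')) :
    (F ≫ tr Y θ y) ≫ Limits.Pi.π (Y ∘ (y ∘ θ.toOrderHom)) κ ≫ eqToHom p =
      F ≫ Limits.Pi.π (Y ∘ y) κ' := by
  subst e
  rw [eqToHom_refl, Category.comp_id, Category.assoc, tr_π]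

noncomputable def sel (W : D) (h : Nonempty (Σ i : ι, W ⟶ Y i)) : Σ i : ι, W ⟶ Y i :=
  Classical.choice h

noncomputable def liftP (n : ℕ) (x : Fin (n + 1) → ι) (W : D) (i0 : ι) (f0 : W ⟶ Y i0)
    (φ : W ⟶ PD Y n x) : W ⟶ PD Y (n + 1) (Fin.cons i0 x) :=
  Limits.Pi.lift (fun k =>
    Fin.cases (motive := fun k => W ⟶ (Y ∘ (Fin.cons i0 x : Fin (n + 1 + 1) → ι)) k) f0
      (fun j => φ ≫ Limits.Pi.π (Y ∘ x) j) k)

theorem liftP_zero (n : ℕ) (x : Fin (n + 1) → ι) (W : D) (i0 : ι) (f0 : W ⟶ Y i0)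
    (φ : W ⟶ PD Y n x) :
    liftP Y n x W i0 f0 φ ≫ Limits.Pi.π (Y ∘ (Fin.cons i0 x : Fin (n + 1 + 1) → ι)) 0 = f0 :=
  Limits.Pi.lift_π _ 0

theorem liftP_succ (n : ℕ) (x : Fin (n + 1) → ι) (W : D) (i0 : ι) (f0 : W ⟶ Y i0)
    (φ : W ⟶ PD Y n x) (j : Fin (n + 1)) :
    liftP Y n x W i0 f0 φ ≫ Limits.Pi.π (Y ∘ (Fin.cons i0 x : Fin (n + 1 + 1) → ι)) j.succ =
      φ ≫ Limits.Pi.π (Y ∘ x) j :=
  (Limits.Pi.lift_π _ j.succ).trans (Fin.cases_succ j)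

theorem A' (n : ℕ) (x : Fin (n + 1) → ι) (W : D) (i0 : ι) (f0 : W ⟶ Y i0)
    (φ : W ⟶ PD Y n x) (z : (Yc Y (Gp I)).obj ⦋n⦌) :
    E Y I (n + 1) (Fin.cons i0 x) W (liftP Y n x W i0 f0 φ)
        (((Yc Y (Gp I)).map (SimplexCategory.δ (0 : Fin (n + 2)))).hom z) =
      E Y I n x W φ z := by
  refine (E_map Y I (SimplexCategory.δ (0 : Fin (n + 2))) (Fin.cons i0 x) W _ z).trans ?_
  refine E_congr Y I n _ _ (fun κ => rfl) W _ _ (fun κ => ?_) z
  exact (tr_pi_eq Y (SimplexCategory.δ (0 : Fin (n + 2))) (Fin.cons i0 x) W _ κ κ.succ rfl _).trans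
    (liftP_succ Y n x W i0 f0 φ κ)

theorem B' (n : ℕ) (k : Fin (n + 2)) (x : Fin (n + 1 + 1) → ι) (W : D) (i0 : ι)
    (f0 : W ⟶ Y i0) (φ : W ⟶ PD Y (n + 1) x) (z : (Yc Y (Gp I)).obj ⦋n + 1⦌) :
    E Y I (n + 1 + 1) (Fin.cons i0 x) W (liftP Y (n + 1) x W i0 f0 φ)
        (((Yc Y (Gp I)).map (SimplexCategory.δ k.succ)).hom z) =
      E Y I (n + 1) (Fin.cons i0 (x ∘ (SimplexCategory.δ k).toOrderHom)) W
        (liftP Y n (x ∘ (SimplexCategory.δ k).toOrderHom) W i0 f0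
          (φ ≫ tr Y (SimplexCategory.δ k) x)) z := by
  refine (E_map Y I (SimplexCategory.δ k.succ) (Fin.cons i0 x) W _ z).trans ?_
  have h : ∀ κ : Fin (n + 1 + 1),
      ((Fin.cons i0 x : Fin (n + 1 + 1 + 1) → ι) ∘ (SimplexCategory.δ k.succ).toOrderHom) κ =
        (Fin.cons i0 (x ∘ (SimplexCategory.δ k).toOrderHom) : Fin (n + 1 + 1) → ι) κ := by
    intro κ
    induction κ using Fin.cases with
    | zero =>
      show (Fin.cons i0 x : Fin (n + 1 + 1 + 1) → ι) (k.succ.succAbove 0) = i0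
      rw [Fin.succ_succAbove_zero]
      rfl
    | succ j =>
      show (Fin.cons i0 x : Fin (n + 1 + 1 + 1) → ι) (k.succ.succAbove j.succ) = x (k.succAbove j)
      rw [Fin.succ_succAbove_succ]
      rfl
  refine E_congr Y I (n + 1) _ _ h W _ _ (fun κ => ?_) z
  induction κ using Fin.cases with
  | zero =>
    exact (tr_pi_eq Y (SimplexCategory.δ k.succ) (Fin.cons i0 x) W _ 0 0
      (Fin.succ_succAbove_zero k) _).trans
        ((liftP_zero Y (n + 1) x W i0 f0 φ).trans (liftP_zero Y n _ W i0 f0 _).symm)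
  | succ j =>
    refine (tr_pi_eq Y (SimplexCategory.δ k.succ) (Fin.cons i0 x) W _ j.succ (k.succAbove j).succ
      (Fin.succ_succAbove_succ k j) _).trans ?_
    refine (liftP_succ Y (n + 1) x W i0 f0 φ (k.succAbove j)).trans ?_
    refine Eq.trans ?_ (liftP_succ Y n (x ∘ (SimplexCategory.δ k).toOrderHom) W i0 f0
      (φ ≫ tr Y (SimplexCategory.δ k) x) j).symm
    rw [Category.assoc, tr_π]
    rfl

noncomputable def Hc (n : ℕ) (x : Fin (n + 1) → ι) (W : D) (φ : W ⟶ PD Y n x) :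
    (Yc Y (Gp I)).obj ⦋n + 1⦌ →+ I.obj (op W) :=
  E Y I (n + 1) (Fin.cons (sel Y W ⟨⟨x 0, φ ≫ Limits.Pi.π (Y ∘ x) 0⟩⟩).1 x) W
    (liftP Y n x W (sel Y W ⟨⟨x 0, φ ≫ Limits.Pi.π (Y ∘ x) 0⟩⟩).1
      (sel Y W ⟨⟨x 0, φ ≫ Limits.Pi.π (Y ∘ x) 0⟩⟩).2 φ)

noncomputable def liftY (Q : Dᵒᵖ ⥤ AddCommGrpCat.{u}) {n : ℕ} {Z : AddCommGrpCat.{u}}
    (p : ∀ x : Fin (n + 1) → ι, Z ⟶ Q.obj (op (PD Y n x))) : Z ⟶ (Yc Y Q).obj ⦋n⦌ :=
  Limits.Pi.lift p

theorem liftY_pr (Q : Dᵒᵖ ⥤ AddCommGrpCat.{u}) {n : ℕ} {Z : AddCommGrpCat.{u}}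
    (p : ∀ x : Fin (n + 1) → ι, Z ⟶ Q.obj (op (PD Y n x))) (x : Fin (n + 1) → ι) :
    liftY Y Q p ≫ pr Y Q n x = p x :=
  Limits.Pi.lift_π p x

noncomputable def sN (n : ℕ) : (Yc Y (Gp I)).obj ⦋n + 1⦌ ⟶ (Yc Y (Gp I)).obj ⦋n⦌ :=
  liftY Y (Gp I) (fun x => toG I (PD Y n x) (fun V f => Hc Y I n x V f))

theorem sN_apply (n : ℕ) (c : (Yc Y (Gp I)).obj ⦋n + 1⦌) (x : Fin (n + 1) → ι) (V : D)
    (f : V ⟶ PD Y n x) :
    evH I (PD Y n x) V f ((pr Y (Gp I) n x).hom ((sN Y I n).hom c)) = Hc Y I n x V f c := by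
  have h := hom_congr_apply (liftY_pr Y (Gp I)
    (fun x => toG I (PD Y n x) (fun V f => Hc Y I n x V f)) x) c
  exact congrArg (fun z => evH I (PD Y n x) V f z) h

theorem mor_ext {n : ℕ} {Z : AddCommGrpCat.{u}} (a b : Z ⟶ (Yc Y (Gp I)).obj ⦋n⦌)
    (h : ∀ (z : Z) (x : Fin (n + 1) → ι) (V : D) (f : V ⟶ PD Y n x),
      evH I (PD Y n x) V f ((pr Y (Gp I) n x).hom (a.hom z)) =
        evH I (PD Y n x) V f ((pr Y (Gp I) n x).hom (b.hom z))) : a = b := by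
  apply AddCommGrpCat.hom_ext
  apply AddMonoidHom.ext
  intro z
  apply cochain_ext Y (Gp I) n
  intro x
  exact G_ext I (PD Y n x) _ _ (fun V f => h z x V f)

theorem sN_hc (n : ℕ) : (Yc Y (Gp I)).δ (0 : Fin (n + 2)) ≫ sN Y I n = 𝟙 _ := by
  apply mor_ext Y I
  intro z x V f
  have h1 := sN_apply Y I n (((Yc Y (Gp I)).δ (0 : Fin (n + 2))).hom z) x V f
  have h2 := A' Y I n x V (sel Y V ⟨⟨x 0, f ≫ Limits.Pi.π (Y ∘ x) 0⟩⟩).1
    (sel Y V ⟨⟨x 0, f ≫ Limits.Pi.π (Y ∘ x) 0⟩⟩).2 f z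
  exact h1.trans h2

theorem sN_he (n : ℕ) (k : Fin (n + 2)) :
    (Yc Y (Gp I)).δ k.succ ≫ sN Y I (n + 1) = sN Y I n ≫ (Yc Y (Gp I)).δ k := by
  apply mor_ext Y I
  intro z x V f
  have L1 := sN_apply Y I (n + 1) (((Yc Y (Gp I)).δ k.succ).hom z) x V f
  have L2 := B' Y I n k x V (sel Y V ⟨⟨x 0, f ≫ Limits.Pi.π (Y ∘ x) 0⟩⟩).1
    (sel Y V ⟨⟨x 0, f ≫ Limits.Pi.π (Y ∘ x) 0⟩⟩).2 f z
  have R1 := E_map Y I (SimplexCategory.δ k) x V f ((sN Y I n).hom z)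
  have R2 := sN_apply Y I n z (x ∘ (SimplexCategory.δ k).toOrderHom) V
    (f ≫ tr Y (SimplexCategory.δ k) x)
  exact (L1.trans L2).trans ((R1.trans R2).symm)

theorem G_exact (p : ℕ) (c' : (Yc Y (Gp I)).obj ⦋p + 1⦌)
    (hc' : (dK Y (Gp I) (p + 1)).hom c' = 0) :
    ∃ b', (dK Y (Gp I) p).hom b' = c' := by
  have hd : ∀ n, dK Y (Gp I) n = AlternatingCofaceMapComplex.objD (Yc Y (Gp I)) n :=
    fun n => Groth.Agent.S0885.objd (Yc Y (Gp I)) n
  have key := Groth.Agent.S0885.objD_succ_comp (Yc Y (Gp I)) (sN Y I) (sN_hc Y I)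
    (sN_he Y I) p
  rw [← hd (p + 1), ← hd p] at key
  have k1 : (sN Y I (p + 1)).hom ((dK Y (Gp I) (p + 1)).hom c') =
      c' - (dK Y (Gp I) p).hom ((sN Y I p).hom c') := hom_congr_apply key c'
  refine ⟨(sN Y I p).hom c', ?_⟩
  have k2 : (sN Y I (p + 1)).hom ((dK Y (Gp I) (p + 1)).hom c') = 0 :=
    (congrArg (sN Y I (p + 1)).hom hc').trans (map_zero _)
  exact (sub_eq_zero.mp (k1.symm.trans k2)).symm

theorem retr_apply {A B : Dᵒᵖ ⥤ AddCommGrpCat.{u}} (η : A ⟶ B) (r : B ⟶ A) (hr : η ≫ r = 𝟙 A)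
    (n : ℕ) (c : (Yc Y A).obj ⦋n⦌) :
    (cmap Y r n).hom ((cmap Y η n).hom c) = c := by
  apply cochain_ext Y A n
  intro x
  have e : ∀ z : A.obj (op (PD Y n x)),
      (r.app (op (PD Y n x))).hom ((η.app (op (PD Y n x))).hom z) = z :=
    fun z => hom_congr_apply (congrArg (fun t => t.app (op (PD Y n x))) hr) z
  exact (cmap_pr_apply Y r n x _).trans
    ((congrArg (r.app (op (PD Y n x))).hom (cmap_pr_apply Y η n x c)).trans (e _))

theorem acyc_gen (r : Gp I ⟶ I) (hr : etaG I ≫ r = 𝟙 I) (p : ℕ) (c : (Yc Y I).obj ⦋p + 1⦌)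
    (hc : (dK Y I (p + 1)).hom c = 0) : ∃ b : (Yc Y I).obj ⦋p⦌, (dK Y I p).hom b = c := by
  have h1 : (dK Y (Gp I) (p + 1)).hom ((cmap Y (etaG I) (p + 1)).hom c) = 0 :=
    (cmap_d Y (etaG I) (p + 1) c).trans
      ((congrArg (cmap Y (etaG I) (p + 1 + 1)).hom hc).trans (map_zero _))
  obtain ⟨b', hb'⟩ := G_exact Y I p _ h1
  refine ⟨(cmap Y r p).hom b', ?_⟩
  exact (cmap_d Y r p b').trans
    ((congrArg (cmap Y r (p + 1)).hom hb').trans (retr_apply Y (etaG I) r hr (p + 1) c))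

end genD

section top

open CategoryTheory CategoryTheory.Limits TopologicalSpace Opposite AlgebraicTopology Simplicial
open Groth.Agent.S0885 (Yc pr P epsMap)
open Groth.Agent.S0466 (hom_congr_apply cochain_ext cochain_mk cmap cmap_pr_apply dK cmap_d dK_dK
  cmap_inj eps_nat_apply eps_dK glue sec_inj sec_zero sec_exact)

variable {X : TopCat.{u}} {κ : Type u} (W : κ → Opens X)

theorem inj_exact (J : CohTop.Ab X) [Injective J] (p : ℕ) (c : (Yc J.obj W).obj ⦋p + 1⦌)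
    (hc : (dK W J.obj (p + 1)).hom c = 0) :
    ∃ b : (Yc J.obj W).obj ⦋p⦌, (dK W J.obj p).hom b = c := by
  obtain ⟨r, hr⟩ := Groth.Agent.S0858.exists_retr J
  exact acyc_gen W J.obj r hr p c hc

theorem lift_cochain (S : ShortComplex (CohTop.Ab X)) (hS : S.ShortExact)
    [TopCat.Sheaf.IsFlasque S.X₁] (n : ℕ) (q : (Yc S.X₃.obj W).obj ⦋n⦌) :
    ∃ b : (Yc S.X₂.obj W).obj ⦋n⦌, (cmap W S.g.hom n).hom b = q := by
  have hs : ∀ x : Fin (n + 1) → κ, ∃ t : S.X₂.obj.obj (op (P W n x)),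
      (S.g.hom.app (op (P W n x))).hom t = (pr S.X₃.obj W n x).hom q := fun x =>
    (AddCommGrpCat.epi_iff_surjective _).mp
      (TopCat.Sheaf.IsFlasque.epi_of_shortExact (U := P W n x) hS) _
  choose t ht using hs
  obtain ⟨b, hb⟩ := cochain_mk W S.X₂.obj n t
  refine ⟨b, cochain_ext W S.X₃.obj n _ _ (fun x => ?_)⟩
  exact (cmap_pr_apply W S.g.hom n x b).trans
    ((congrArg (S.g.hom.app (op (P W n x))).hom (hb x)).trans (ht x))

theorem ker_cochain (S : ShortComplex (CohTop.Ab X)) (hS : S.ShortExact) (n : ℕ)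
    (b : (Yc S.X₂.obj W).obj ⦋n⦌) (hb : (cmap W S.g.hom n).hom b = 0) :
    ∃ a : (Yc S.X₁.obj W).obj ⦋n⦌, (cmap W S.f.hom n).hom a = b := by
  have hs : ∀ x : Fin (n + 1) → κ, ∃ a0 : S.X₁.obj.obj (op (P W n x)),
      (S.f.hom.app (op (P W n x))).hom a0 = (pr S.X₂.obj W n x).hom b := fun x => by
    apply sec_exact S hS
    exact (cmap_pr_apply W S.g.hom n x b).symm.trans
      ((congrArg (pr S.X₃.obj W n x).hom hb).trans (map_zero _))
  choose a0 ha0 using hs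
  obtain ⟨a, ha⟩ := cochain_mk W S.X₁.obj n a0
  refine ⟨a, cochain_ext W S.X₂.obj n _ _ (fun x => ?_)⟩
  exact (cmap_pr_apply W S.f.hom n x a).trans
    ((congrArg (S.f.hom.app (op (P W n x))).hom (ha x)).trans (ha0 x))

theorem gf_zero (S : ShortComplex (CohTop.Ab X)) (n : ℕ) (c : (Yc S.X₁.obj W).obj ⦋n⦌) :
    (cmap W S.g.hom n).hom ((cmap W S.f.hom n).hom c) = 0 := by
  apply cochain_ext W S.X₃.obj n
  intro x
  exact ((cmap_pr_apply W S.g.hom n x _).trans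
    ((congrArg (S.g.hom.app (op (P W n x))).hom (cmap_pr_apply W S.f.hom n x c)).trans
      (sec_zero S _ _))).trans (map_zero _).symm

theorem step (S : ShortComplex (CohTop.Ab X)) (hS : S.ShortExact)
    [TopCat.Sheaf.IsFlasque S.X₁] [Injective S.X₂] (p : ℕ)
    (hfind : ∀ q : (Yc S.X₃.obj W).obj ⦋p⦌, (dK W S.X₃.obj p).hom q = 0 →
      ∃ e : (Yc S.X₂.obj W).obj ⦋p⦌, (dK W S.X₂.obj p).hom e = 0 ∧ (cmap W S.g.hom p).hom e = q)
    (c : (Yc S.X₁.obj W).obj ⦋p + 1⦌) (hc : (dK W S.X₁.obj (p + 1)).hom c = 0) :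
    ∃ a : (Yc S.X₁.obj W).obj ⦋p⦌, (dK W S.X₁.obj p).hom a = c := by
  have h1 : (dK W S.X₂.obj (p + 1)).hom ((cmap W S.f.hom (p + 1)).hom c) = 0 :=
    (cmap_d W S.f.hom (p + 1) c).trans
      ((congrArg (cmap W S.f.hom (p + 1 + 1)).hom hc).trans (map_zero _))
  obtain ⟨b, hb⟩ := inj_exact W S.X₂ p _ h1
  have h2 : (dK W S.X₃.obj p).hom ((cmap W S.g.hom p).hom b) = 0 :=
    (cmap_d W S.g.hom p b).trans
      ((congrArg (cmap W S.g.hom (p + 1)).hom hb).trans (gf_zero W S (p + 1) c))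
  obtain ⟨e, he1, he2⟩ := hfind _ h2
  have h3 : (cmap W S.g.hom p).hom (b - e) = 0 :=
    (map_sub _ _ _).trans (sub_eq_zero.mpr he2.symm)
  obtain ⟨a, ha⟩ := ker_cochain W S hS p (b - e) h3
  refine ⟨a, cmap_inj W S.f.hom (fun V => sec_inj S hS V) (p + 1) ?_⟩
  have h4 : (cmap W S.f.hom (p + 1)).hom ((dK W S.X₁.obj p).hom a) =
      (dK W S.X₂.obj p).hom (b - e) :=
    (cmap_d W S.f.hom p a).symm.trans (congrArg (dK W S.X₂.obj p).hom ha)
  have h5 : (dK W S.X₂.obj p).hom (b - e) = (cmap W S.f.hom (p + 1)).hom c :=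
    (map_sub _ _ _).trans ((congrArg₂ (· - ·) hb he1).trans (sub_zero _))
  exact h4.trans h5

noncomputable def sesOf (F : CohTop.Ab X) : ShortComplex (CohTop.Ab X) :=
  ShortComplex.mk (Injective.ι F) (cokernel.π (Injective.ι F)) (cokernel.condition _)

theorem sesOf_shortExact (F : CohTop.Ab X) : (sesOf F).ShortExact := by
  haveI : Mono (sesOf F).f := (inferInstance : Mono (Injective.ι F))
  haveI : Epi (sesOf F).g := (inferInstance : Epi (cokernel.π (Injective.ι F)))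
  exact ShortComplex.ShortExact.mk (ShortComplex.exact_cokernel (Injective.ι F))

theorem flasque_exact (p : ℕ) : ∀ (F : CohTop.Ab X), TopCat.Sheaf.IsFlasque F →
    ∀ (c : (Yc F.obj W).obj ⦋p + 1⦌), (dK W F.obj (p + 1)).hom c = 0 →
      ∃ a : (Yc F.obj W).obj ⦋p⦌, (dK W F.obj p).hom a = c := by
  induction p with
  | zero =>
    intro F hF c hc
    haveI : TopCat.Sheaf.IsFlasque (sesOf F).X₁ := hF
    haveI : Injective (sesOf F).X₂ := (inferInstance : Injective (Injective.under F))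
    refine step W (sesOf F) (sesOf_shortExact F) 0 (fun q hq => ?_) c hc
    obtain ⟨τ, hτ⟩ := glue W (sesOf F).X₃ q hq
    obtain ⟨t, ht⟩ := (AddCommGrpCat.epi_iff_surjective _).mp
      (TopCat.Sheaf.IsFlasque.epi_of_shortExact (U := iSup W) (sesOf_shortExact F)) τ
    refine ⟨(epsMap (sesOf F).X₂.obj W).hom t, eps_dK W (sesOf F).X₂.obj t, ?_⟩
    exact (eps_nat_apply W (sesOf F).g.hom t).trans
      ((congrArg (epsMap (sesOf F).X₃.obj W).hom ht).trans hτ)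
  | succ p' ih =>
    intro F hF c hc
    haveI : TopCat.Sheaf.IsFlasque (sesOf F).X₁ := hF
    haveI : Injective (sesOf F).X₂ := (inferInstance : Injective (Injective.under F))
    haveI : TopCat.Sheaf.IsFlasque (sesOf F).X₂ := Groth.Agent.S0454.result (sesOf F).X₂
    have hQ : TopCat.Sheaf.IsFlasque (sesOf F).X₃ :=
      TopCat.Sheaf.IsFlasque.of_shortExact_of_isFlasque₁₂ (sesOf_shortExact F)
    refine step W (sesOf F) (sesOf_shortExact F) (p' + 1) (fun q hq => ?_) c hc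
    obtain ⟨q', hq'⟩ := ih (sesOf F).X₃ hQ q hq
    obtain ⟨b', hb'⟩ := lift_cochain W (sesOf F) (sesOf_shortExact F) p' q'
    refine ⟨(dK W (sesOf F).X₂.obj p').hom b', dK_dK W (sesOf F).X₂.obj p' b', ?_⟩
    exact (cmap_d W (sesOf F).g.hom p' b').symm.trans
      ((congrArg (dK W (sesOf F).X₃.obj p').hom hb').trans hq')

end top

theorem main {X : TopCat.{u}} (F : CohTop.Ab X) [TopCat.Sheaf.IsFlasque F]
    {ι : Type u} (U : ι → TopologicalSpace.Opens X) (p : ℕ) :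
    Limits.IsZero (CohTop.cechH F.obj U (p + 1)) := by
  have hexact : ((Groth.Agent.S0466.KK U F.obj).sc' p (p + 1) (p + 1 + 1)).Exact :=
    (ShortComplex.ab_exact_iff _).mpr (fun c hc => flasque_exact U p F ‹_› c hc)
  exact (HomologicalComplex.exactAt_iff_isZero_homology _ _).mp
    (((Groth.Agent.S0466.KK U F.obj).exactAt_iff' p (p + 1) (p + 1 + 1) (by simp) (by simp)).mpr
      hexact)

end helpers

open TopologicalSpace CategoryTheory.Limits in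
/-- If F is a flasque abelian sheaf on X, then for any family of opens the Cech cohomology groups of F
in positive degree are zero. -/
theorem result {X : TopCat.{u}} (F : CohTop.Ab X) [TopCat.Sheaf.IsFlasque F]
    {ι : Type u} (U : ι → Opens X) (p : ℕ) : IsZero (CohTop.cechH F.obj U (p + 1)) := by
  exact Groth.Agent.S0455.main F U p

end Groth.Agent.S0455
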