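import Groth.Statements.S0456
import Groth.Agent.H10.DerRes
import Groth.Agent.H10.CohTopB
import Mathlib

set_option autoImplicit false
universe u
open CategoryTheory
open CohTop

namespace Groth.Agent.S0456

open CategoryTheory.Limits in
/-- For a continuous map f and a flasque abelian sheaf F on the source, R^(q+1) f_* F = 0. -/
theorem result {X Y : TopCat.{u}} (f : X ⟶ Y) (F : CohTop.Ab X)
    [TopCat.Sheaf.IsFlasque F] (q : ℕ) : IsZero ((CohTop.Rpush f (q + 1)).obj F) := by
  have hpl : PreservesLimits (CohTop.push f) :=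
    (TopCat.Sheaf.pullbackPushforwardAdjunction AddCommGrpCat.{u} f).rightAdjoint_preservesLimits
  have hfl : PreservesFiniteLimits (CohTop.push f) := inferInstance
  refine Groth.Agent.H10.DerRes.isZero_rightDerived_of_class (CohTop.push f)
    (Groth.Agent.H10.CohTopB.flasque X)
    (fun I hI => by have := hI; exact Groth.Agent.H10.CohTopB.isFlasque_of_injective I)
    Groth.Agent.H10.CohTopB.flasque_cok ?_ F ‹_› q
  intro S hS h1
  have : TopCat.Sheaf.IsFlasque S.X₁ := h1
  refine (TopCat.Sheaf.isLocallySurjective_iff_epi _).mp ?_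
  refine Presheaf.isLocallySurjective_of_surjective _ _ (fun V => ?_)
  have hepi : Epi (S.g.1.app (Opposite.op ((TopologicalSpace.Opens.map f).obj V.unop))) :=
    TopCat.Sheaf.IsFlasque.epi_of_shortExact hS
  exact (AddCommGrpCat.epi_iff_surjective _).mp hepi

end Groth.Agent.S0456
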