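import Groth.Statements.S0465
import Mathlib
import Groth.Agent.S0455
import Groth.Agent.H10.Acyc
import Groth.Agent.H10.CohTopB

set_option autoImplicit false
universe u
open CategoryTheory
open CohTop

namespace Groth.Agent.S0465

section helpers

open CategoryTheory CategoryTheory.Limits TopologicalSpace Opposite AlgebraicTopology Simplicial
open Groth.Agent.S0885 (Yc pr P epsMap)
open Groth.Agent.S0466 (hom_congr_apply cochain_ext cochain_mk cmap cmap_pr_apply dK cmap_d dK_dK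
  cmap_inj sec_inj sec_zero sec_exact)
open Groth.Agent.S0455 (ker_cochain gf_zero inj_exact)
open Groth.Agent.H10.CohTopB (freeFunctor secEquiv secEquiv_comp)

variable {X : TopCat.{u}}

/-- Cech-acyclic sheaves -/
def PA (X : TopCat.{u}) : ObjectProperty (CohTop.Ab X) := fun F =>
  ∀ (ι : Type u) (U : ι → Opens X) (p : ℕ), IsZero (CohTop.cechH F.obj U (p + 1))

theorem elem_of_PA (F : CohTop.Ab X) (hF : PA X F) {κ : Type u} (W : κ → Opens X) (p : ℕ)
    (c : (Yc F.obj W).obj ⦋p + 1⦌) (hc : (dK W F.obj (p + 1)).hom c = 0) :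
    ∃ a : (Yc F.obj W).obj ⦋p⦌, (dK W F.obj p).hom a = c := by
  have hex : ((Groth.Agent.S0466.KK W F.obj).sc' p (p + 1) (p + 1 + 1)).Exact :=
    ((Groth.Agent.S0466.KK W F.obj).exactAt_iff' p (p + 1) (p + 1 + 1) (by simp) (by simp)).mp
      ((HomologicalComplex.exactAt_iff_isZero_homology _ _).mpr (hF κ W p))
  exact (ShortComplex.ab_exact_iff _).mp hex c hc

theorem PA_of_elem (F : CohTop.Ab X)
    (h : ∀ (κ : Type u) (W : κ → Opens X) (p : ℕ) (c : (Yc F.obj W).obj ⦋p + 1⦌),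
      (dK W F.obj (p + 1)).hom c = 0 → ∃ a : (Yc F.obj W).obj ⦋p⦌, (dK W F.obj p).hom a = c) :
    PA X F := by
  intro κ W p
  have hexact : ((Groth.Agent.S0466.KK W F.obj).sc' p (p + 1) (p + 1 + 1)).Exact :=
    (ShortComplex.ab_exact_iff _).mpr (fun c hc => h κ W p c hc)
  exact (HomologicalComplex.exactAt_iff_isZero_homology _ _).mp
    (((Groth.Agent.S0466.KK W F.obj).exactAt_iff' p (p + 1) (p + 1 + 1) (by simp) (by simp)).mpr
      hexact)

theorem surj_of_PA (S : ShortComplex (CohTop.Ab X)) (hS : S.ShortExact) (h1 : PA X S.X₁)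
    (V : Opens X) : Function.Surjective (S.g.hom.app (op V)).hom := by
  have h := Groth.Agent.S0466.main S hS V (fun ι V' hV' => ⟨ι, V', id, hV', fun k => le_rfl,
    h1 ι V' 0⟩)
  exact h

theorem lift_cochain' (S : ShortComplex (CohTop.Ab X))
    (hsurj : ∀ V : Opens X, Function.Surjective (S.g.hom.app (op V)).hom)
    {κ : Type u} (W : κ → Opens X) (n : ℕ) (q : (Yc S.X₃.obj W).obj ⦋n⦌) :
    ∃ b : (Yc S.X₂.obj W).obj ⦋n⦌, (cmap W S.g.hom n).hom b = q := by
  have hs : ∀ x : Fin (n + 1) → κ, ∃ t : S.X₂.obj.obj (op (P W n x)),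
      (S.g.hom.app (op (P W n x))).hom t = (pr S.X₃.obj W n x).hom q := fun x => hsurj _ _
  choose t ht using hs
  obtain ⟨b, hb⟩ := cochain_mk W S.X₂.obj n t
  refine ⟨b, cochain_ext W S.X₃.obj n _ _ (fun x => ?_)⟩
  exact (cmap_pr_apply W S.g.hom n x b).trans
    ((congrArg (S.g.hom.app (op (P W n x))).hom (hb x)).trans (ht x))

theorem hcok (S : ShortComplex (CohTop.Ab X)) (hS : S.ShortExact) (h1 : PA X S.X₁)
    (h2 : PA X S.X₂) : PA X S.X₃ := by
  apply PA_of_elem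
  intro κ W p q hq
  obtain ⟨b, hb⟩ := lift_cochain' S (surj_of_PA S hS h1) W (p + 1) q
  have e1 : (cmap W S.g.hom (p + 1 + 1)).hom ((dK W S.X₂.obj (p + 1)).hom b) = 0 :=
    (cmap_d W S.g.hom (p + 1) b).symm.trans ((congrArg (dK W S.X₃.obj (p + 1)).hom hb).trans hq)
  obtain ⟨a, ha⟩ := ker_cochain W S hS (p + 1 + 1) _ e1
  have e2 : (dK W S.X₁.obj (p + 1 + 1)).hom a = 0 := by
    apply cmap_inj W S.f.hom (fun V => sec_inj S hS V) (p + 1 + 1 + 1)
    have e3 : (cmap W S.f.hom (p + 1 + 1 + 1)).hom ((dK W S.X₁.obj (p + 1 + 1)).hom a) = 0 :=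
      (cmap_d W S.f.hom (p + 1 + 1) a).symm.trans
        ((congrArg (dK W S.X₂.obj (p + 1 + 1)).hom ha).trans (dK_dK W S.X₂.obj (p + 1) b))
    exact e3.trans (map_zero _).symm
  obtain ⟨a', ha'⟩ := elem_of_PA S.X₁ h1 W (p + 1) a e2
  have e4 : (dK W S.X₂.obj (p + 1)).hom (b - (cmap W S.f.hom (p + 1)).hom a') = 0 := by
    have e5 : (dK W S.X₂.obj (p + 1)).hom ((cmap W S.f.hom (p + 1)).hom a') =
        (dK W S.X₂.obj (p + 1)).hom b :=
      (cmap_d W S.f.hom (p + 1) a').trans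
        ((congrArg (cmap W S.f.hom (p + 1 + 1)).hom ha').trans ha)
    exact (map_sub _ _ _).trans (sub_eq_zero.mpr e5.symm)
  obtain ⟨b'', hb''⟩ := elem_of_PA S.X₂ h2 W p _ e4
  refine ⟨(cmap W S.g.hom p).hom b'', ?_⟩
  have e6 : (dK W S.X₃.obj p).hom ((cmap W S.g.hom p).hom b'') =
      (cmap W S.g.hom (p + 1)).hom (b - (cmap W S.f.hom (p + 1)).hom a') :=
    (cmap_d W S.g.hom p b'').trans (congrArg (cmap W S.g.hom (p + 1)).hom hb'')
  have e7 : (cmap W S.g.hom (p + 1)).hom (b - (cmap W S.f.hom (p + 1)).hom a') = q :=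
    (map_sub _ _ _).trans
      ((congrArg₂ (· - ·) hb (gf_zero W S (p + 1) a')).trans (sub_zero _))
  exact e6.trans e7

theorem hlift (U : Opens X) (S : ShortComplex (CohTop.Ab X)) (hS : S.ShortExact)
    (h1 : PA X S.X₁) (φ : (freeFunctor X).obj U ⟶ S.X₃) :
    ∃ ψ : (freeFunctor X).obj U ⟶ S.X₂, ψ ≫ S.g = φ := by
  obtain ⟨t, ht⟩ := surj_of_PA S hS h1 U (secEquiv U S.X₃ φ)
  refine ⟨(secEquiv U S.X₂).symm t, ?_⟩
  apply (secEquiv U S.X₃).injective
  rw [secEquiv_comp, Equiv.apply_symm_apply]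
  exact ht

theorem hinj (I : CohTop.Ab X) (hI : Injective I) : PA X I := by
  haveI := hI
  exact PA_of_elem I (fun κ W p c hc => inj_exact W I p c hc)

theorem main (F : CohTop.Ab X)
    (h : ∀ (ι : Type u) (U : ι → Opens X) (p : ℕ), IsZero (CohTop.cechH F.obj U (p + 1)))
    (U : Opens X) (p : ℕ) : Subsingleton (CohTop.HU F (p + 1) U) := by
  have key : ∀ a : CohTop.HU F (p + 1) U, a = 0 := fun a =>
    Groth.Agent.H10.Acyc.ext_eq_zero_of_class (PA X) ((freeFunctor X).obj U) hinj hcok (hlift U)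
      p F h a
  exact ⟨fun a b => (key a).trans (key b).symm⟩

end helpers

open TopologicalSpace in
/-- If for every family of opens of X the Cech cohomology of F in positive degrees vanishes, then
H^(p+1)(U, F) = 0 for every open U. -/
theorem result {X : TopCat.{u}} (F : CohTop.Ab X)
    (h : ∀ (ι : Type u) (U : ι → Opens X) (p : ℕ), CategoryTheory.Limits.IsZero (CohTop.cechH F.obj U (p + 1)))
    (U : Opens X) (p : ℕ) : Subsingleton (CohTop.HU F (p + 1) U) := by
  exact Groth.Agent.S0465.main F h U p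

end Groth.Agent.S0465
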