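import Groth.Statements.S0493
import Mathlib
import Groth.Agent.S0465

set_option autoImplicit false
universe u
open CohTop

namespace Groth.Agent.S0493

section helpers

open CategoryTheory CategoryTheory.Limits TopologicalSpace Opposite AlgebraicTopology Simplicial
open Groth.Agent.S0885 (Yc pr P epsMap pi_le le_pi)
open Groth.Agent.S0466 (hom_congr_apply cochain_ext cochain_mk cmap cmap_pr_apply dK cmap_d dK_dK
  cmap_inj sec_inj sec_zero sec_exact)
open Groth.Agent.S0455 (ker_cochain gf_zero inj_exact)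
open Groth.Agent.H10.CohTopB (freeFunctor secEquiv secEquiv_comp)

variable {X : TopCat.{u}}

/-- sheaves that are Cech-acyclic for all families in `Cov` -/
def PB (X : TopCat.{u}) (Cov : ∀ (ι : Type u), (ι → Opens X) → Prop) :
    ObjectProperty (CohTop.Ab X) := fun F =>
  ∀ (ι : Type u) (V : ι → Opens X), Cov ι V → ∀ p : ℕ, IsZero (CohTop.cechH F.obj V (p + 1))

theorem elem_of_PB (Cov : ∀ (ι : Type u), (ι → Opens X) → Prop) (F : CohTop.Ab X)
    (hF : PB X Cov F) {κ : Type u} (W : κ → Opens X) (hW : Cov κ W) (p : ℕ)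
    (c : (Yc F.obj W).obj ⦋p + 1⦌) (hc : (dK W F.obj (p + 1)).hom c = 0) :
    ∃ a : (Yc F.obj W).obj ⦋p⦌, (dK W F.obj p).hom a = c := by
  have hex : ((Groth.Agent.S0466.KK W F.obj).sc' p (p + 1) (p + 1 + 1)).Exact :=
    ((Groth.Agent.S0466.KK W F.obj).exactAt_iff' p (p + 1) (p + 1 + 1) (by simp) (by simp)).mp
      ((HomologicalComplex.exactAt_iff_isZero_homology _ _).mpr (hF κ W hW p))
  exact (ShortComplex.ab_exact_iff _).mp hex c hc

theorem PB_of_elem (Cov : ∀ (ι : Type u), (ι → Opens X) → Prop) (F : CohTop.Ab X)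
    (h : ∀ (κ : Type u) (W : κ → Opens X), Cov κ W → ∀ (p : ℕ) (c : (Yc F.obj W).obj ⦋p + 1⦌),
      (dK W F.obj (p + 1)).hom c = 0 → ∃ a : (Yc F.obj W).obj ⦋p⦌, (dK W F.obj p).hom a = c) :
    PB X Cov F := by
  intro κ W hW p
  have hexact : ((Groth.Agent.S0466.KK W F.obj).sc' p (p + 1) (p + 1 + 1)).Exact :=
    (ShortComplex.ab_exact_iff _).mpr (fun c hc => h κ W hW p c hc)
  exact (HomologicalComplex.exactAt_iff_isZero_homology _ _).mp
    (((Groth.Agent.S0466.KK W F.obj).exactAt_iff' p (p + 1) (p + 1 + 1) (by simp) (by simp)).mpr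
      hexact)

theorem P_eq {κ : Type u} (W : κ → Opens X) (n : ℕ) (x : Fin (n + 1) → κ) :
    P W n x = iInf fun k => W (x k) :=
  le_antisymm (le_iInf (fun k => pi_le W x k)) (le_pi W x _ (fun k => iInf_le _ k))

theorem surj_of_PB (B : Set (Opens X)) (Cov : ∀ (ι : Type u), (ι → Opens X) → Prop)
    (h2 : ∀ U ∈ B, ∀ (κ : Type u) (W : κ → Opens X), iSup W = U →
      ∃ (ι : Type u) (V : ι → Opens X), Cov ι V ∧ iSup V = U ∧ ∀ i, ∃ k, V i ≤ W k)
    (S : ShortComplex (CohTop.Ab X)) (hS : S.ShortExact) (h1' : PB X Cov S.X₁)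
    (V : Opens X) (hV : V ∈ B) : Function.Surjective (S.g.hom.app (op V)).hom := by
  have h := Groth.Agent.S0466.main S hS V (fun ι V' hV' => by
    obtain ⟨κ, W, hW, hWU, hr⟩ := h2 V hV ι V' hV'
    choose r hr' using hr
    exact ⟨κ, W, r, hWU, hr', h1' κ W hW 0⟩)
  exact h

theorem lift_cochain'' (S : ShortComplex (CohTop.Ab X))
    {κ : Type u} (W : κ → Opens X) (n : ℕ)
    (hsurj : ∀ x : Fin (n + 1) → κ, Function.Surjective (S.g.hom.app (op (P W n x))).hom)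
    (q : (Yc S.X₃.obj W).obj ⦋n⦌) :
    ∃ b : (Yc S.X₂.obj W).obj ⦋n⦌, (cmap W S.g.hom n).hom b = q := by
  have hs : ∀ x : Fin (n + 1) → κ, ∃ t : S.X₂.obj.obj (op (P W n x)),
      (S.g.hom.app (op (P W n x))).hom t = (pr S.X₃.obj W n x).hom q := fun x => hsurj x _
  choose t ht using hs
  obtain ⟨b, hb⟩ := cochain_mk W S.X₂.obj n t
  refine ⟨b, cochain_ext W S.X₃.obj n _ _ (fun x => ?_)⟩
  exact (cmap_pr_apply W S.g.hom n x b).trans
    ((congrArg (S.g.hom.app (op (P W n x))).hom (hb x)).trans (ht x))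

theorem hcok (B : Set (Opens X)) (Cov : ∀ (ι : Type u), (ι → Opens X) → Prop)
    (h1 : ∀ (ι : Type u) (V : ι → Opens X), Cov ι V →
      iSup V ∈ B ∧ ∀ (p : ℕ) (a : Fin (p + 1) → ι), (iInf fun k => V (a k)) ∈ B)
    (h2 : ∀ U ∈ B, ∀ (κ : Type u) (W : κ → Opens X), iSup W = U →
      ∃ (ι : Type u) (V : ι → Opens X), Cov ι V ∧ iSup V = U ∧ ∀ i, ∃ k, V i ≤ W k)
    (S : ShortComplex (CohTop.Ab X)) (hS : S.ShortExact) (h1' : PB X Cov S.X₁)
    (h2' : PB X Cov S.X₂) : PB X Cov S.X₃ := by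
  apply PB_of_elem
  intro κ W hW p q hq
  have hsurj : ∀ x : Fin (p + 1 + 1) → κ,
      Function.Surjective (S.g.hom.app (op (P W (p + 1) x))).hom := fun x =>
    surj_of_PB B Cov h2 S hS h1' (P W (p + 1) x)
      ((P_eq W (p + 1) x).symm ▸ (h1 κ W hW).2 (p + 1) x)
  obtain ⟨b, hb⟩ := lift_cochain'' S W (p + 1) hsurj q
  have e1 : (cmap W S.g.hom (p + 1 + 1)).hom ((dK W S.X₂.obj (p + 1)).hom b) = 0 :=
    (cmap_d W S.g.hom (p + 1) b).symm.trans ((congrArg (dK W S.X₃.obj (p + 1)).hom hb).trans hq)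
  obtain ⟨a, ha⟩ := ker_cochain W S hS (p + 1 + 1) _ e1
  have e2 : (dK W S.X₁.obj (p + 1 + 1)).hom a = 0 := by
    apply cmap_inj W S.f.hom (fun V => sec_inj S hS V) (p + 1 + 1 + 1)
    have e3 : (cmap W S.f.hom (p + 1 + 1 + 1)).hom ((dK W S.X₁.obj (p + 1 + 1)).hom a) = 0 :=
      (cmap_d W S.f.hom (p + 1 + 1) a).symm.trans
        ((congrArg (dK W S.X₂.obj (p + 1 + 1)).hom ha).trans (dK_dK W S.X₂.obj (p + 1) b))
    exact e3.trans (map_zero _).symm
  obtain ⟨a', ha'⟩ := elem_of_PB Cov S.X₁ h1' W hW (p + 1) a e2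
  have e4 : (dK W S.X₂.obj (p + 1)).hom (b - (cmap W S.f.hom (p + 1)).hom a') = 0 := by
    have e5 : (dK W S.X₂.obj (p + 1)).hom ((cmap W S.f.hom (p + 1)).hom a') =
        (dK W S.X₂.obj (p + 1)).hom b :=
      (cmap_d W S.f.hom (p + 1) a').trans
        ((congrArg (cmap W S.f.hom (p + 1 + 1)).hom ha').trans ha)
    exact (map_sub _ _ _).trans (sub_eq_zero.mpr e5.symm)
  obtain ⟨b'', hb''⟩ := elem_of_PB Cov S.X₂ h2' W hW p _ e4
  refine ⟨(cmap W S.g.hom p).hom b'', ?_⟩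
  have e6 : (dK W S.X₃.obj p).hom ((cmap W S.g.hom p).hom b'') =
      (cmap W S.g.hom (p + 1)).hom (b - (cmap W S.f.hom (p + 1)).hom a') :=
    (cmap_d W S.g.hom p b'').trans (congrArg (cmap W S.g.hom (p + 1)).hom hb'')
  have e7 : (cmap W S.g.hom (p + 1)).hom (b - (cmap W S.f.hom (p + 1)).hom a') = q :=
    (map_sub _ _ _).trans
      ((congrArg₂ (· - ·) hb (gf_zero W S (p + 1) a')).trans (sub_zero _))
  exact e6.trans e7

theorem hlift (B : Set (Opens X)) (Cov : ∀ (ι : Type u), (ι → Opens X) → Prop)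
    (h2 : ∀ U ∈ B, ∀ (κ : Type u) (W : κ → Opens X), iSup W = U →
      ∃ (ι : Type u) (V : ι → Opens X), Cov ι V ∧ iSup V = U ∧ ∀ i, ∃ k, V i ≤ W k)
    (U : Opens X) (hU : U ∈ B) (S : ShortComplex (CohTop.Ab X)) (hS : S.ShortExact)
    (h1' : PB X Cov S.X₁) (φ : (freeFunctor X).obj U ⟶ S.X₃) :
    ∃ ψ : (freeFunctor X).obj U ⟶ S.X₂, ψ ≫ S.g = φ := by
  obtain ⟨t, ht⟩ := surj_of_PB B Cov h2 S hS h1' U hU (secEquiv U S.X₃ φ)
  refine ⟨(secEquiv U S.X₂).symm t, ?_⟩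
  apply (secEquiv U S.X₃).injective
  rw [secEquiv_comp, Equiv.apply_symm_apply]
  exact ht

theorem main (F : CohTop.Ab X)
    (B : Set (Opens X)) (Cov : ∀ (ι : Type u), (ι → Opens X) → Prop)
    (h1 : ∀ (ι : Type u) (V : ι → Opens X), Cov ι V →
      iSup V ∈ B ∧ ∀ (p : ℕ) (a : Fin (p + 1) → ι), (iInf fun k => V (a k)) ∈ B)
    (h2 : ∀ U ∈ B, ∀ (κ : Type u) (W : κ → Opens X), iSup W = U →
      ∃ (ι : Type u) (V : ι → Opens X), Cov ι V ∧ iSup V = U ∧ ∀ i, ∃ k, V i ≤ W k)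
    (h3 : ∀ (ι : Type u) (V : ι → Opens X), Cov ι V → ∀ p : ℕ,
      IsZero (CohTop.cechH F.obj V (p + 1)))
    (U : Opens X) (hU : U ∈ B) (p : ℕ) : Subsingleton (CohTop.HU F (p + 1) U) := by
  have key : ∀ a : CohTop.HU F (p + 1) U, a = 0 := fun a =>
    Groth.Agent.H10.Acyc.ext_eq_zero_of_class (PB X Cov) ((freeFunctor X).obj U)
      (fun I hI ι V _ p => Groth.Agent.S0465.hinj I hI ι V p)
      (hcok B Cov h1 h2) (hlift B Cov h2 U hU) p F h3 a
  exact ⟨fun a b => (key a).trans (key b).symm⟩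

end helpers

open TopologicalSpace CategoryTheory.Limits in
/-- Let B be a basis of opens of X and Cov a class of families of opens such that (1) every family in
Cov has its union, its members and all finite intersections of members in B, (2) for U in B every
open covering of U is refined by a family in Cov with union U, and (3) the Cech cohomology of F in
positive degrees vanishes for every family in Cov. Then H^(p+1)(U, F) = 0 for every U in B. -/
theorem result {X : TopCat.{u}} (F : CohTop.Ab X)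
    (B : Set (Opens X)) (hB : Opens.IsBasis B) (Cov : ∀ (ι : Type u), (ι → Opens X) → Prop)
    (h1 : ∀ (ι : Type u) (V : ι → Opens X), Cov ι V →
      iSup V ∈ B ∧ ∀ (p : ℕ) (a : Fin (p + 1) → ι), (iInf fun k => V (a k)) ∈ B)
    (h2 : ∀ U ∈ B, ∀ (κ : Type u) (W : κ → Opens X), iSup W = U →
      ∃ (ι : Type u) (V : ι → Opens X), Cov ι V ∧ iSup V = U ∧ ∀ i, ∃ k, V i ≤ W k)
    (h3 : ∀ (ι : Type u) (V : ι → Opens X), Cov ι V → ∀ p : ℕ, IsZero (CohTop.cechH F.obj V (p + 1)))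
    (U : Opens X) (hU : U ∈ B) (p : ℕ) : Subsingleton (CohTop.HU F (p + 1) U) := by
  exact Groth.Agent.S0493.main F B Cov h1 h2 h3 U hU p

end Groth.Agent.S0493
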