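import Groth.Statements.S0861
import Mathlib
import Groth.Agent.S0858
import Groth.Agent.H10.Acyc
import Groth.Agent.H10.CohSiteA

set_option autoImplicit false
universe u
open CategoryTheory
open CohSite

namespace Groth.Agent.S0861

section helpers

open CategoryTheory CategoryTheory.Limits Opposite AlgebraicTopology Simplicial
open Groth.Agent.S0859 (hom_congr_apply PD Yc pr cochain_ext cochain_mk KK dK dK_dK cmap
  cmap_pr_apply cmap_d cmap_inj Qf wh cmapS_pr_apply sec3 sec_zero)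
open Groth.Agent.H10.CohSiteA (freeFunctor secEquiv secEquiv_comp)

variable {C : Type u} [SmallCategory C] [HasPullbacks C] {J : GrothendieckTopology C}

/-- sheaves that are Cech-acyclic for all families in `Cov` -/
def PB (J : GrothendieckTopology C) (Cov : ∀ (U : C) (ι : Type u), (ι → Over U) → Prop) :
    ObjectProperty (Sheaf J AddCommGrpCat.{u}) := fun F =>
  ∀ (U : C) (ι : Type u) (Y : ι → Over U), Cov U ι Y → ∀ p : ℕ,
    IsZero (CohCx.cechH F.obj Y (p + 1))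

theorem elem_of_PB (Cov : ∀ (U : C) (ι : Type u), (ι → Over U) → Prop)
    (F : Sheaf J AddCommGrpCat.{u}) (hF : PB J Cov F) {U : C} {ι : Type u} (Y : ι → Over U)
    (hY : Cov U ι Y) (p : ℕ)
    (c : (Yc Y (Qf F.obj)).obj ⦋p + 1⦌) (hc : (dK Y (Qf F.obj) (p + 1)).hom c = 0) :
    ∃ a : (Yc Y (Qf F.obj)).obj ⦋p⦌, (dK Y (Qf F.obj) p).hom a = c := by
  have hex : ((KK Y (Qf F.obj)).sc' p (p + 1) (p + 1 + 1)).Exact :=
    ((KK Y (Qf F.obj)).exactAt_iff' p (p + 1) (p + 1 + 1) (by simp) (by simp)).mp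
      ((HomologicalComplex.exactAt_iff_isZero_homology _ _).mpr (hF U ι Y hY p))
  exact (ShortComplex.ab_exact_iff _).mp hex c hc

theorem PB_of_elem (Cov : ∀ (U : C) (ι : Type u), (ι → Over U) → Prop)
    (F : Sheaf J AddCommGrpCat.{u})
    (h : ∀ (U : C) (ι : Type u) (Y : ι → Over U), Cov U ι Y → ∀ (p : ℕ)
      (c : (Yc Y (Qf F.obj)).obj ⦋p + 1⦌),
      (dK Y (Qf F.obj) (p + 1)).hom c = 0 →
        ∃ a : (Yc Y (Qf F.obj)).obj ⦋p⦌, (dK Y (Qf F.obj) p).hom a = c) :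
    PB J Cov F := by
  intro U ι Y hY p
  have hexact : ((KK Y (Qf F.obj)).sc' p (p + 1) (p + 1 + 1)).Exact :=
    (ShortComplex.ab_exact_iff _).mpr (fun c hc => h U ι Y hY p c hc)
  exact (HomologicalComplex.exactAt_iff_isZero_homology _ _).mp
    (((KK Y (Qf F.obj)).exactAt_iff' p (p + 1) (p + 1 + 1) (by simp) (by simp)).mpr hexact)

theorem ker_cochain {U : C} {ι : Type u} (Y : ι → Over U)
    (S : ShortComplex (Sheaf J AddCommGrpCat.{u})) (hS : S.ShortExact) (n : ℕ)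
    (b : (Yc Y (Qf S.X₂.obj)).obj ⦋n⦌) (hb : (cmap Y (wh S.g.hom) n).hom b = 0) :
    ∃ a : (Yc Y (Qf S.X₁.obj)).obj ⦋n⦌, (cmap Y (wh S.f.hom) n).hom a = b := by
  have h3 : ∀ x : Fin (n + 1) → ι, ∃ c : S.X₁.obj.obj (op (PD Y n x).left),
      (S.f.hom.app (op (PD Y n x).left)).hom c = (pr Y (Qf S.X₂.obj) n x).hom b := by
    intro x
    apply (sec3 S hS _).2
    have e := cmapS_pr_apply Y S.g.hom n x b
    exact e.symm.trans ((congrArg (pr Y (Qf S.X₃.obj) n x).hom hb).trans (map_zero _))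
  choose c hc using h3
  obtain ⟨cc, hcc⟩ := cochain_mk Y (Qf S.X₁.obj) n c
  refine ⟨cc, cochain_ext Y (Qf S.X₂.obj) n _ _ (fun x => ?_)⟩
  exact (cmapS_pr_apply Y S.f.hom n x cc).trans
    ((congrArg (S.f.hom.app (op (PD Y n x).left)).hom (hcc x)).trans (hc x))

theorem gf_zero {U : C} {ι : Type u} (Y : ι → Over U)
    (S : ShortComplex (Sheaf J AddCommGrpCat.{u})) (n : ℕ)
    (a : (Yc Y (Qf S.X₁.obj)).obj ⦋n⦌) :
    (cmap Y (wh S.g.hom) n).hom ((cmap Y (wh S.f.hom) n).hom a) = 0 := by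
  apply cochain_ext Y (Qf S.X₃.obj) n
  intro y
  exact ((cmapS_pr_apply Y S.g.hom n y _).trans
    ((congrArg (S.g.hom.app (op (PD Y n y).left)).hom (cmapS_pr_apply Y S.f.hom n y a)).trans
      (sec_zero S _ _))).trans (map_zero _).symm

theorem surj_of_PB (B : Set C) (Cov : ∀ (U : C) (ι : Type u), (ι → Over U) → Prop)
    (h1 : ∀ (U : C) (ι : Type u) (Y : ι → Over U), Cov U ι Y → U ∈ B ∧
      Sieve.ofArrows (fun i => (Y i).left) (fun i => (Y i).hom) ∈ J U ∧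
      ∀ (p : ℕ) (a : Fin (p + 1) → ι), (∏ᶜ fun k => Y (a k)).left ∈ B)
    (h2 : ∀ U ∈ B, ∀ T ∈ J U, ∃ (ι : Type u) (Y : ι → Over U), Cov U ι Y ∧
      ∀ i, T.arrows (Y i).hom)
    (S : ShortComplex (Sheaf J AddCommGrpCat.{u})) (hS : S.ShortExact) (h1' : PB J Cov S.X₁)
    (V : C) (hV : V ∈ B) : Function.Surjective (S.g.hom.app (op V)).hom := by
  have h := Groth.Agent.S0859.main S hS V (fun T hT => by
    obtain ⟨ι, Y, hY, hYT⟩ := h2 V hV T hT
    exact ⟨ι, Y, hYT, (h1 V ι Y hY).2.1, h1' V ι Y hY 0⟩)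
  exact h

theorem lift_cochain'' (S : ShortComplex (Sheaf J AddCommGrpCat.{u}))
    {U : C} {ι : Type u} (Y : ι → Over U) (n : ℕ)
    (hsurj : ∀ x : Fin (n + 1) → ι,
      Function.Surjective (S.g.hom.app (op (PD Y n x).left)).hom)
    (q : (Yc Y (Qf S.X₃.obj)).obj ⦋n⦌) :
    ∃ b : (Yc Y (Qf S.X₂.obj)).obj ⦋n⦌, (cmap Y (wh S.g.hom) n).hom b = q := by
  have hs : ∀ x : Fin (n + 1) → ι, ∃ t : S.X₂.obj.obj (op (PD Y n x).left),
      (S.g.hom.app (op (PD Y n x).left)).hom t = (pr Y (Qf S.X₃.obj) n x).hom q :=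
    fun x => hsurj x _
  choose t ht using hs
  obtain ⟨b, hb⟩ := cochain_mk Y (Qf S.X₂.obj) n t
  refine ⟨b, cochain_ext Y (Qf S.X₃.obj) n _ _ (fun x => ?_)⟩
  exact (cmapS_pr_apply Y S.g.hom n x b).trans
    ((congrArg (S.g.hom.app (op (PD Y n x).left)).hom (hb x)).trans (ht x))

theorem hcok (B : Set C) (Cov : ∀ (U : C) (ι : Type u), (ι → Over U) → Prop)
    (h1 : ∀ (U : C) (ι : Type u) (Y : ι → Over U), Cov U ι Y → U ∈ B ∧
      Sieve.ofArrows (fun i => (Y i).left) (fun i => (Y i).hom) ∈ J U ∧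
      ∀ (p : ℕ) (a : Fin (p + 1) → ι), (∏ᶜ fun k => Y (a k)).left ∈ B)
    (h2 : ∀ U ∈ B, ∀ T ∈ J U, ∃ (ι : Type u) (Y : ι → Over U), Cov U ι Y ∧
      ∀ i, T.arrows (Y i).hom)
    (S : ShortComplex (Sheaf J AddCommGrpCat.{u})) (hS : S.ShortExact) (h1' : PB J Cov S.X₁)
    (h2' : PB J Cov S.X₂) : PB J Cov S.X₃ := by
  apply PB_of_elem
  intro U ι Y hY p q hq
  have hsurj : ∀ x : Fin (p + 1 + 1) → ι,
      Function.Surjective (S.g.hom.app (op (PD Y (p + 1) x).left)).hom := fun x =>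
    surj_of_PB B Cov h1 h2 S hS h1' (PD Y (p + 1) x).left ((h1 U ι Y hY).2.2 (p + 1) x)
  obtain ⟨b, hb⟩ := lift_cochain'' S Y (p + 1) hsurj q
  have e1 : (cmap Y (wh S.g.hom) (p + 1 + 1)).hom ((dK Y (Qf S.X₂.obj) (p + 1)).hom b) = 0 :=
    (cmap_d Y (wh S.g.hom) (p + 1) b).symm.trans
      ((congrArg (dK Y (Qf S.X₃.obj) (p + 1)).hom hb).trans hq)
  obtain ⟨a, ha⟩ := ker_cochain Y S hS (p + 1 + 1) _ e1
  have e2 : (dK Y (Qf S.X₁.obj) (p + 1 + 1)).hom a = 0 := by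
    apply cmap_inj Y (wh S.f.hom) (fun V => (sec3 S hS V.left).1) (p + 1 + 1 + 1)
    have e3 : (cmap Y (wh S.f.hom) (p + 1 + 1 + 1)).hom
        ((dK Y (Qf S.X₁.obj) (p + 1 + 1)).hom a) = 0 :=
      (cmap_d Y (wh S.f.hom) (p + 1 + 1) a).symm.trans
        ((congrArg (dK Y (Qf S.X₂.obj) (p + 1 + 1)).hom ha).trans
          (dK_dK Y (Qf S.X₂.obj) (p + 1) b))
    exact e3.trans (map_zero _).symm
  obtain ⟨a', ha'⟩ := elem_of_PB Cov S.X₁ h1' Y hY (p + 1) a e2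
  have e4 : (dK Y (Qf S.X₂.obj) (p + 1)).hom (b - (cmap Y (wh S.f.hom) (p + 1)).hom a') = 0 := by
    have e5 : (dK Y (Qf S.X₂.obj) (p + 1)).hom ((cmap Y (wh S.f.hom) (p + 1)).hom a') =
        (dK Y (Qf S.X₂.obj) (p + 1)).hom b :=
      (cmap_d Y (wh S.f.hom) (p + 1) a').trans
        ((congrArg (cmap Y (wh S.f.hom) (p + 1 + 1)).hom ha').trans ha)
    exact (map_sub _ _ _).trans (sub_eq_zero.mpr e5.symm)
  obtain ⟨b'', hb''⟩ := elem_of_PB Cov S.X₂ h2' Y hY p _ e4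
  refine ⟨(cmap Y (wh S.g.hom) p).hom b'', ?_⟩
  have e6 : (dK Y (Qf S.X₃.obj) p).hom ((cmap Y (wh S.g.hom) p).hom b'') =
      (cmap Y (wh S.g.hom) (p + 1)).hom (b - (cmap Y (wh S.f.hom) (p + 1)).hom a') :=
    (cmap_d Y (wh S.g.hom) p b'').trans (congrArg (cmap Y (wh S.g.hom) (p + 1)).hom hb'')
  have e7 : (cmap Y (wh S.g.hom) (p + 1)).hom (b - (cmap Y (wh S.f.hom) (p + 1)).hom a') = q :=
    (map_sub _ _ _).trans
      ((congrArg₂ (· - ·) hb (gf_zero Y S (p + 1) a')).trans (sub_zero _))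
  exact e6.trans e7

theorem hlift (B : Set C) (Cov : ∀ (U : C) (ι : Type u), (ι → Over U) → Prop)
    (h1 : ∀ (U : C) (ι : Type u) (Y : ι → Over U), Cov U ι Y → U ∈ B ∧
      Sieve.ofArrows (fun i => (Y i).left) (fun i => (Y i).hom) ∈ J U ∧
      ∀ (p : ℕ) (a : Fin (p + 1) → ι), (∏ᶜ fun k => Y (a k)).left ∈ B)
    (h2 : ∀ U ∈ B, ∀ T ∈ J U, ∃ (ι : Type u) (Y : ι → Over U), Cov U ι Y ∧
      ∀ i, T.arrows (Y i).hom)
    (U : C) (hU : U ∈ B) (S : ShortComplex (Sheaf J AddCommGrpCat.{u})) (hS : S.ShortExact)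
    (h1' : PB J Cov S.X₁) (φ : (freeFunctor J).obj U ⟶ S.X₃) :
    ∃ ψ : (freeFunctor J).obj U ⟶ S.X₂, ψ ≫ S.g = φ := by
  obtain ⟨t, ht⟩ := surj_of_PB B Cov h1 h2 S hS h1' U hU (secEquiv J U S.X₃ φ)
  refine ⟨(secEquiv J U S.X₂).symm t, ?_⟩
  apply (secEquiv J U S.X₃).injective
  rw [secEquiv_comp, Equiv.apply_symm_apply]
  exact ht

theorem main (J : GrothendieckTopology C) (B : Set C)
    (Cov : ∀ (U : C) (ι : Type u), (ι → Over U) → Prop)
    (h1 : ∀ (U : C) (ι : Type u) (Y : ι → Over U), Cov U ι Y → U ∈ B ∧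
      Sieve.ofArrows (fun i => (Y i).left) (fun i => (Y i).hom) ∈ J U ∧
      ∀ (p : ℕ) (a : Fin (p + 1) → ι), (∏ᶜ fun k => Y (a k)).left ∈ B)
    (h2 : ∀ U ∈ B, ∀ T ∈ J U, ∃ (ι : Type u) (Y : ι → Over U), Cov U ι Y ∧
      ∀ i, T.arrows (Y i).hom)
    (F : Sheaf J AddCommGrpCat.{u})
    (h3 : ∀ (U : C) (ι : Type u) (Y : ι → Over U), Cov U ι Y → ∀ p : ℕ,
      IsZero (CohCx.cechH F.obj Y (p + 1)))
    (U : C) (hU : U ∈ B) (p : ℕ) : Subsingleton (CohSite.HU F (p + 1) U) := by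
  have key : ∀ a : Abelian.Ext.{u} ((freeFunctor J).obj U) F (p + 1), a = 0 := fun a =>
    Groth.Agent.H10.Acyc.ext_eq_zero_of_class (PB J Cov) ((freeFunctor J).obj U)
      (fun I hI U ι Y _ p => by haveI := hI; exact Groth.Agent.S0858.main J I Y p)
      (hcok B Cov h1 h2) (hlift B Cov h1 h2 U hU) p F h3 a
  exact ⟨fun a b => (key a).trans (key b).symm⟩

end helpers

open CategoryTheory.Limits in
/-- Let C be a site with fibre products, B a class of objects and Cov a class of covering families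
(indexed families of objects over a member of B). Assume: (1) for a family in Cov over U, U and all
iterated fibre products U_{i_0} x_U ... x_U U_{i_p} lie in B; (2) every covering sieve of a member
of B contains a family from Cov; (3) the abelian sheaf F has vanishing Cech cohomology in positive
degrees for every family in Cov. Then H^p(U, F) = 0 for all p > 0 and U in B. -/
theorem result {C : Type u} [SmallCategory C] [HasPullbacks C]
    (J : GrothendieckTopology C) (B : Set C) (Cov : ∀ (U : C) (ι : Type u), (ι → Over U) → Prop)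
    (h1 : ∀ (U : C) (ι : Type u) (Y : ι → Over U), Cov U ι Y → U ∈ B ∧
      Sieve.ofArrows (fun i => (Y i).left) (fun i => (Y i).hom) ∈ J U ∧
      ∀ (p : ℕ) (a : Fin (p + 1) → ι), (∏ᶜ fun k => Y (a k)).left ∈ B)
    (h2 : ∀ U ∈ B, ∀ T ∈ J U, ∃ (ι : Type u) (Y : ι → Over U), Cov U ι Y ∧ ∀ i, T.arrows (Y i).hom)
    (F : Sheaf J AddCommGrpCat.{u})
    (h3 : ∀ (U : C) (ι : Type u) (Y : ι → Over U), Cov U ι Y → ∀ p : ℕ, IsZero (CohCx.cechH F.obj Y (p + 1)))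
    (U : C) (hU : U ∈ B) (p : ℕ) : Subsingleton (CohSite.HU F (p + 1) U) := by
  exact Groth.Agent.S0861.main J B Cov h1 h2 F h3 U hU p

end Groth.Agent.S0861
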