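import Groth.Statements.S16021
import Mathlib
import Groth.Prelude.Def_CechEdge
import Groth.Agent.S0859

set_option autoImplicit false
universe u
open CategoryTheory CategoryTheory.Limits Opposite
open CechEdge

namespace Groth.Agent.S16021

section helpers

open CategoryTheory CategoryTheory.Limits Opposite AlgebraicTopology Simplicial
open Groth.Agent.S0859 (hom_congr_apply comp_hom_apply res_comp Yc pr PD Qf dK KK eps eps_pr_apply
  eps_dK cochain_ext cochain_mk d0_pr tr glue eps_inj)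

variable {C : Type u} [SmallCategory C] [HasPullbacks C] {J : GrothendieckTopology C} {U : C}
  {ι : Type u} (Y : ι → Over U) (P : Cᵒᵖ ⥤ AddCommGrpCat.{u})

theorem toCech_bij_iff :
    Function.Bijective (CechEdge.toCech Y P) ↔ Function.Bijective (CechEdge.toCycles P Y).hom := by
  have hπ : Function.Bijective ((CechEdge.cx P Y).homologyπ 0).hom :=
    ConcreteCategory.bijective_of_isIso ((CechEdge.cx P Y).homologyπ 0)
  show Function.Bijective (((CechEdge.cx P Y).homologyπ 0).hom ∘ (CechEdge.toCycles P Y).hom) ↔ _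
  exact Function.Bijective.of_comp_iff' hπ _

theorem exists_cycle0 (t : (Yc Y (Qf P)).obj ⦋0⦌) (ht : (dK Y (Qf P) 0).hom t = 0) :
    ∃ z : (CechEdge.cx P Y).cycles 0, ((CechEdge.cx P Y).iCycles 0).hom z = t := by
  have hex : (ShortComplex.mk ((CechEdge.cx P Y).iCycles 0) ((CechEdge.cx P Y).d 0 1)
      ((CechEdge.cx P Y).iCycles_d 0 1)).Exact :=
    ShortComplex.exact_of_f_is_kernel _ ((CechEdge.cx P Y).cyclesIsKernel 0 1 (by simp))
  exact (ShortComplex.ab_exact_iff _).mp hex t ht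

theorem toCycles_bij_iff :
    Function.Bijective (CechEdge.toCycles P Y).hom ↔
      (Function.Injective (eps Y P).hom ∧
        ∀ t : (Yc Y (Qf P)).obj ⦋0⦌, (dK Y (Qf P) 0).hom t = 0 → ∃ τ, (eps Y P).hom τ = t) := by
  have hi : Function.Injective ((CechEdge.cx P Y).iCycles 0).hom :=
    (AddCommGrpCat.mono_iff_injective _).mp inferInstance
  have he : ∀ s, (eps Y P).hom s =
      ((CechEdge.cx P Y).iCycles 0).hom ((CechEdge.toCycles P Y).hom s) :=
    fun s => (hom_congr_apply (CechEdge.toCycles_i P Y) s).symm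
  have hd : ∀ z, (dK Y (Qf P) 0).hom (((CechEdge.cx P Y).iCycles 0).hom z) = 0 :=
    fun z => hom_congr_apply ((CechEdge.cx P Y).iCycles_d 0 1) z
  constructor
  · intro hb
    refine ⟨fun s s' h => hb.1 (hi (((he s).symm.trans h).trans (he s'))), fun t ht => ?_⟩
    obtain ⟨z, hz⟩ := exists_cycle0 Y P t ht
    obtain ⟨τ, hτ⟩ := hb.2 z
    exact ⟨τ, (he τ).trans ((congrArg ((CechEdge.cx P Y).iCycles 0).hom hτ).trans hz)⟩
  · intro h
    refine ⟨fun s s' h' => h.1 ((he s).trans
      ((congrArg ((CechEdge.cx P Y).iCycles 0).hom h').trans (he s').symm)), fun z => ?_⟩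
    obtain ⟨τ, hτ⟩ := h.2 _ (hd z)
    exact ⟨τ, hi ((he τ).symm.trans hτ)⟩

theorem bij_of_sheaf (G : Sheaf J AddCommGrpCat.{u})
    (hY : Sieve.ofArrows (fun i => (Y i).left) (fun i => (Y i).hom) ∈ J U) :
    Function.Bijective (CechEdge.toCech Y G.obj) :=
  (toCech_bij_iff Y G.obj).mpr ((toCycles_bij_iff Y G.obj).mpr
    ⟨eps_inj Y G hY, fun t ht => glue Y G hY t ht⟩)

theorem key (hinj : Function.Injective (eps Y P).hom)
    (hsurj : ∀ t : (Yc Y (Qf P)).obj ⦋0⦌, (dK Y (Qf P) 0).hom t = 0 → ∃ τ, (eps Y P).hom τ = t)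
    (x : ∀ i, P.obj (op (Y i).left))
    (hx : ∀ (i j : ι) (Z : C) (gi : Z ⟶ (Y i).left) (gj : Z ⟶ (Y j).left),
      gi ≫ (Y i).hom = gj ≫ (Y j).hom → (P.map gi.op).hom (x i) = (P.map gj.op).hom (x j)) :
    ∃! t : P.obj (op U), ∀ i, (P.map (Y i).hom.op).hom t = x i := by
  obtain ⟨t0, ht0⟩ := cochain_mk Y (Qf P) 0
    (fun y => (P.map (Limits.Pi.π (Y ∘ y) 0).left.op).hom (x (y 0)))
  have hpre : ∀ (y : Fin (0 + 1) → ι) (t : P.obj (op U)),
      (∀ i, (P.map (Y i).hom.op).hom t = x i) →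
      (pr Y (Qf P) 0 y).hom ((eps Y P).hom t) = (pr Y (Qf P) 0 y).hom t0 := by
    intro y t htx
    have hw : (Limits.Pi.π (Y ∘ y) 0).left ≫ (Y (y 0)).hom = (PD Y 0 y).hom :=
      Over.w (Limits.Pi.π (Y ∘ y) 0)
    have e1 : (P.map (PD Y 0 y).hom.op).hom t =
        (P.map (Limits.Pi.π (Y ∘ y) 0).left.op).hom ((P.map (Y (y 0)).hom.op).hom t) :=
      ((res_comp P (Limits.Pi.π (Y ∘ y) 0).left (Y (y 0)).hom t).trans (by rw [hw])).symm
    exact (eps_pr_apply Y P y t).trans (e1.trans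
      ((congrArg (P.map (Limits.Pi.π (Y ∘ y) 0).left.op).hom (htx (y 0))).trans (ht0 y).symm))
  have hd : (dK Y (Qf P) 0).hom t0 = 0 := by
    apply cochain_ext Y (Qf P) (0 + 1)
    intro x'
    have e := hom_congr_apply (d0_pr Y (Qf P) x') t0
    have e' : (pr Y (Qf P) (0 + 1) x').hom ((dK Y (Qf P) 0).hom t0) =
        (P.map (tr Y (SimplexCategory.δ (0 : Fin (0 + 2))) x').left.op).hom
            ((pr Y (Qf P) 0 (x' ∘ (SimplexCategory.δ (0 : Fin (0 + 2))).toOrderHom)).hom t0) -
          (P.map (tr Y (SimplexCategory.δ (1 : Fin (0 + 2))) x').left.op).hom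
            ((pr Y (Qf P) 0 (x' ∘ (SimplexCategory.δ (1 : Fin (0 + 2))).toOrderHom)).hom t0) := e
    have a : ∀ (j : Fin (0 + 2)),
        (P.map (tr Y (SimplexCategory.δ j) x').left.op).hom
            ((pr Y (Qf P) 0 (x' ∘ (SimplexCategory.δ j).toOrderHom)).hom t0) =
          (P.map ((tr Y (SimplexCategory.δ j) x').left ≫
            (Limits.Pi.π (Y ∘ (x' ∘ (SimplexCategory.δ j).toOrderHom)) 0).left).op).hom
              (x ((x' ∘ (SimplexCategory.δ j).toOrderHom) 0)) := fun j =>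
      (congrArg (P.map (tr Y (SimplexCategory.δ j) x').left.op).hom (ht0 _)).trans
        (res_comp P _ _ _)
    have hw : ∀ (j : Fin (0 + 2)),
        ((tr Y (SimplexCategory.δ j) x').left ≫
            (Limits.Pi.π (Y ∘ (x' ∘ (SimplexCategory.δ j).toOrderHom)) 0).left) ≫
          (Y ((x' ∘ (SimplexCategory.δ j).toOrderHom) 0)).hom = (PD Y (0 + 1) x').hom := fun j =>
      Over.w (tr Y (SimplexCategory.δ j) x' ≫
        Limits.Pi.π (Y ∘ (x' ∘ (SimplexCategory.δ j).toOrderHom)) 0)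
    have hh := hx _ _ _ _ _ ((hw 0).trans (hw 1).symm)
    exact (e'.trans (sub_eq_zero.mpr ((a 0).trans (hh.trans (a 1).symm)))).trans (map_zero _).symm
  obtain ⟨τ, hτ⟩ := hsurj t0 hd
  have hτx : ∀ i, (P.map (Y i).hom.op).hom τ = x i := by
    intro i
    let y : Fin (0 + 1) → ι := fun _ => i
    let l : Y i ⟶ PD Y 0 y := Limits.Pi.lift (fun _ => 𝟙 (Y i))
    have hw : l.left ≫ (PD Y 0 y).hom = (Y i).hom := Over.w l
    have h0 : l ≫ Limits.Pi.π (Y ∘ y) 0 = 𝟙 (Y i) :=
      Limits.Pi.lift_π (fun _ : Fin (0 + 1) => 𝟙 (Y i)) 0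
    have hl : l.left ≫ (Limits.Pi.π (Y ∘ y) 0).left = 𝟙 (Y i).left :=
      congrArg CommaMorphism.left h0
    have e1 : (P.map (Y i).hom.op).hom τ =
        (P.map l.left.op).hom ((P.map (PD Y 0 y).hom.op).hom τ) :=
      ((res_comp P l.left (PD Y 0 y).hom τ).trans (by rw [hw])).symm
    have e2 : (P.map (PD Y 0 y).hom.op).hom τ = (pr Y (Qf P) 0 y).hom t0 :=
      (eps_pr_apply Y P y τ).symm.trans (congrArg (pr Y (Qf P) 0 y).hom hτ)
    have e3 : (P.map l.left.op).hom ((P.map (Limits.Pi.π (Y ∘ y) 0).left.op).hom (x i)) = x i :=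
      (res_comp P l.left (Limits.Pi.π (Y ∘ y) 0).left (x i)).trans (by
        rw [hl, op_id]
        exact hom_congr_apply (P.map_id _) (x i))
    exact e1.trans ((congrArg (P.map l.left.op).hom (e2.trans (ht0 y))).trans e3)
  refine ⟨τ, hτx, fun t' ht' => hinj ?_⟩
  apply cochain_ext Y (Qf P) 0
  intro y
  exact (hpre y t' ht').trans (hpre y τ hτx).symm

theorem sheaf_of_bij (J : GrothendieckTopology C) (P : Cᵒᵖ ⥤ AddCommGrpCat.{u})
    (H : ∀ (U : C) (ι : Type u) (Y : ι → Over U),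
      Sieve.ofArrows (fun i => (Y i).left) (fun i => (Y i).hom) ∈ J U →
        Function.Bijective (CechEdge.toCech Y P)) : Presheaf.IsSheaf J P := by
  rw [Presheaf.isSheaf_iff_isSheaf_forget J P (forget AddCommGrpCat.{u}),
    isSheaf_iff_isSheaf_of_type]
  intro U S hS
  let I : Type u := Σ V : C, {f : V ⟶ U // S.arrows f}
  let Y : I → Over U := fun i => Over.mk i.2.1
  have hle : S ≤ Sieve.ofArrows (fun i => (Y i).left) (fun i => (Y i).hom) := by
    intro V f hf
    exact Sieve.ofArrows_mk (fun i => (Y i).left) (fun i => (Y i).hom) (⟨V, f, hf⟩ : I)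
  have hge : Sieve.ofArrows (fun i => (Y i).left) (fun i => (Y i).hom) ≤ S := by
    intro V f hf
    obtain ⟨i, a, rfl⟩ := (Sieve.mem_ofArrows_iff _ _ _).mp hf
    exact S.downward_closed i.2.2 a
  have hcov : Sieve.ofArrows (fun i => (Y i).left) (fun i => (Y i).hom) ∈ J U :=
    J.superset_covering hle hS
  obtain ⟨hinj, hsurj⟩ := (toCycles_bij_iff Y P).mp ((toCech_bij_iff Y P).mp (H U I Y hcov))
  have h1 : Presieve.IsSheafFor (P ⋙ forget AddCommGrpCat.{u})
      (Presieve.ofArrows (fun i => (Y i).left) (fun i => (Y i).hom)) := by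
    refine (Presieve.isSheafFor_arrows_iff _ (fun i => (Y i).hom)).mpr ?_
    intro x hx
    exact key Y P hinj hsurj x hx
  have h2 := (Presieve.isSheafFor_iff_generate _).mp h1
  have heq : Sieve.ofArrows (fun i => (Y i).left) (fun i => (Y i).hom) = S := le_antisymm hge hle
  rw [← heq]
  exact h2

theorem main (J : GrothendieckTopology C) (P : Cᵒᵖ ⥤ AddCommGrpCat.{u}) :
    Presheaf.IsSheaf J P ↔ ∀ (U : C) (ι : Type u) (Y : ι → Over U),
      Sieve.ofArrows (fun i => (Y i).left) (fun i => (Y i).hom) ∈ J U →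
        Function.Bijective (CechEdge.toCech Y P) :=
  ⟨fun hP U ι Y hY => bij_of_sheaf Y ⟨P, hP⟩ hY, sheaf_of_bij J P⟩

end helpers

/-- On a small site with fibre products, with coverings given as indexed families of objects over their
target, an abelian presheaf is a sheaf if and only if, for every object U and every family of
objects over U whose generated sieve is covering, the canonical map from the sections over U to the
degree-0 Cech cohomology with respect to the family is bijective. -/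
theorem result {C : Type u} [SmallCategory C] [HasPullbacks C]
    (J : GrothendieckTopology C) (P : Cᵒᵖ ⥤ AddCommGrpCat.{u}) :
    Presheaf.IsSheaf J P ↔ ∀ (U : C) (ι : Type u) (Y : ι → Over U),
      Sieve.ofArrows (fun i => (Y i).left) (fun i => (Y i).hom) ∈ J U →
        Function.Bijective (CechEdge.toCech Y P) := by
  exact Groth.Agent.S16021.main J P

end Groth.Agent.S16021
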