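import Groth.Statements.S0941
import Mathlib
import Groth.Agent.S0861
import Groth.Agent.S16021
import Groth.Agent.H10.AcycSeq
import Groth.Agent.H10.CohSiteA

set_option autoImplicit false
universe u
open CategoryTheory
open CohSite

namespace Groth.Agent.S0941

section helpers

open CategoryTheory CategoryTheory.Limits Opposite AlgebraicTopology Simplicial
  CategoryTheory.Abelian
open Groth.Agent.S0859 (hom_congr_apply PD Yc pr KK dK cmap cmap_inj Qf wh eps eps_nat eps_inj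
  eps_dK glue sec3)
open Groth.Agent.H10.CohSiteA (freeFunctor secEquiv secEquiv_comp secAddEquiv)
open Groth.Agent.H10.Acyc (postcomp_extClass_bijective postcomp_extClass_surjective)

section H0

variable (K : CochainComplex AddCommGrpCat.{u} ℕ) {A : AddCommGrpCat.{u}} (ε : A ⟶ K.X 0)
  (hε : ε ≫ K.d 0 1 = 0)

noncomputable def toCyc : A ⟶ K.cycles 0 := K.liftCycles ε 1 (by simp) hε

noncomputable def toH0 : A →+ K.homology 0 := (toCyc K ε hε ≫ K.homologyπ 0).hom

theorem toH0_bij (hinj : Function.Injective ε.hom)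
    (hsurj : ∀ t : K.X 0, (K.d 0 1).hom t = 0 → ∃ τ, ε.hom τ = t) :
    Function.Bijective (toH0 K ε hε) := by
  have hπ : Function.Bijective (K.homologyπ 0).hom :=
    ConcreteCategory.bijective_of_isIso (K.homologyπ 0)
  have hi : Function.Injective (K.iCycles 0).hom :=
    (AddCommGrpCat.mono_iff_injective _).mp inferInstance
  have he : ∀ s, ε.hom s = (K.iCycles 0).hom ((toCyc K ε hε).hom s) :=
    fun s => (hom_congr_apply (K.liftCycles_i ε 1 (by simp) hε) s).symm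
  have hc : Function.Bijective (toCyc K ε hε).hom := by
    refine ⟨fun s s' h' => hinj ((he s).trans
      ((congrArg (K.iCycles 0).hom h').trans (he s').symm)), fun z => ?_⟩
    have hd : (K.d 0 1).hom ((K.iCycles 0).hom z) = 0 := hom_congr_apply (K.iCycles_d 0 1) z
    obtain ⟨τ, hτ⟩ := hsurj _ hd
    exact ⟨τ, hi ((he τ).symm.trans hτ)⟩
  show Function.Bijective ((K.homologyπ 0).hom ∘ (toCyc K ε hε).hom)
  exact hπ.comp hc

end H0

theorem toCyc_nat {K L : CochainComplex AddCommGrpCat.{u} ℕ} (φ : K ⟶ L)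
    {A B : AddCommGrpCat.{u}} (εK : A ⟶ K.X 0) (hK : εK ≫ K.d 0 1 = 0)
    (εL : B ⟶ L.X 0) (hL : εL ≫ L.d 0 1 = 0) (a : A ⟶ B) (h : εK ≫ φ.f 0 = a ≫ εL) :
    toCyc K εK hK ≫ HomologicalComplex.cyclesMap φ 0 = a ≫ toCyc L εL hL := by
  rw [← cancel_mono (L.iCycles 0)]
  simp only [toCyc, Category.assoc, HomologicalComplex.cyclesMap_i,
    HomologicalComplex.liftCycles_i, HomologicalComplex.liftCycles_i_assoc]
  exact h

theorem toH0_nat {K L : CochainComplex AddCommGrpCat.{u} ℕ} (φ : K ⟶ L)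
    {A B : AddCommGrpCat.{u}} (εK : A ⟶ K.X 0) (hK : εK ≫ K.d 0 1 = 0)
    (εL : B ⟶ L.X 0) (hL : εL ≫ L.d 0 1 = 0) (a : A ⟶ B) (h : εK ≫ φ.f 0 = a ≫ εL) (x : A) :
    (HomologicalComplex.homologyMap φ 0).hom (toH0 K εK hK x) = toH0 L εL hL (a.hom x) := by
  have e : (toCyc K εK hK ≫ K.homologyπ 0) ≫ HomologicalComplex.homologyMap φ 0 =
      a ≫ (toCyc L εL hL ≫ L.homologyπ 0) := by
    rw [Category.assoc, HomologicalComplex.homologyπ_naturality, ← Category.assoc,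
      toCyc_nat φ εK hK εL hL a h, Category.assoc]
  exact hom_congr_apply e x

section abs

variable {A : Type (u + 1)} [Category.{u} A] [Abelian A] [HasExt.{u} A]

theorem lift_of_ext1 (G : A) (S : ShortComplex A) (hS : S.ShortExact)
    (h : ∀ x : Ext.{u} G S.X₁ 1, x = 0) (φ : G ⟶ S.X₃) : ∃ ψ : G ⟶ S.X₂, ψ ≫ S.g = φ := by
  obtain ⟨x₂, hx₂⟩ := Ext.covariant_sequence_exact₃ G hS (Ext.mk₀ φ) rfl (h _)
  refine ⟨Ext.homEquiv₀ x₂, ?_⟩
  apply (Ext.mk₀_bijective G S.X₃).1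
  rw [← Ext.mk₀_comp_mk₀, Ext.mk₀_homEquiv₀_apply]
  exact hx₂

theorem ext_vanish_coker (G : A) (S : ShortComplex A) (hS : S.ShortExact) (hI : Injective S.X₂)
    (q : ℕ) (h : ∀ x : Ext.{u} G S.X₁ (q + 1 + 1), x = 0) (x : Ext.{u} G S.X₃ (q + 1)) :
    x = 0 := by
  haveI := hI
  obtain ⟨x₂, hx₂⟩ := Ext.covariant_sequence_exact₃ G hS x rfl (h _)
  rw [← hx₂, Ext.eq_zero_of_injective x₂, Ext.zero_comp]

theorem E1_abs (Kf : A ⥤ CochainComplex AddCommGrpCat.{u} ℕ) (G : A)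
    (S : ShortComplex A) (hS : S.ShortExact) (hI : Injective S.X₂)
    (hz : Kf.map S.f ≫ Kf.map S.g = 0) (hK : (ShortComplex.mk _ _ hz).ShortExact)
    (h3 : IsZero ((Kf.obj S.X₂).homology 1))
    {Γ₂ Γ₃ : Type u} [AddCommGroup Γ₃] (γ : Γ₂ → Γ₃)
    (t₂ : Γ₂ → (Kf.obj S.X₂).homology 0) (t₃ : Γ₃ →+ (Kf.obj S.X₃).homology 0)
    (ht₂ : Function.Surjective t₂) (ht₃ : Function.Bijective t₃)
    (hnat : ∀ x, (HomologicalComplex.homologyMap (Kf.map S.g) 0).hom (t₂ x) = t₃ (γ x))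
    (σ₂ : (G ⟶ S.X₂) ≃ Γ₂) (σ₃ : (G ⟶ S.X₃) ≃+ Γ₃)
    (hσ : ∀ φ : G ⟶ S.X₂, σ₃ (φ ≫ S.g) = γ (σ₂ φ)) :
    Nonempty ((Kf.obj S.X₁).homology 1 ≃+ Ext.{u} G S.X₁ 1) := by
  haveI := hI
  let δ0 : (Kf.obj S.X₃).homology 0 →+ (Kf.obj S.X₁).homology 1 := (hK.δ 0 1 rfl).hom
  let φ : Γ₃ →+ (Kf.obj S.X₁).homology 1 := δ0.comp t₃
  let pc : Ext.{u} G S.X₃ 0 →+ Ext.{u} G S.X₁ 1 := hS.extClass.postcomp G (rfl : 0 + 1 = 1)
  let m0 : Γ₃ →+ Ext.{u} G S.X₃ 0 :=
    (Ext.addEquiv₀.symm.toAddMonoidHom).comp σ₃.symm.toAddMonoidHom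
  let ψ : Γ₃ →+ Ext.{u} G S.X₁ 1 := pc.comp m0
  have hδs : Function.Surjective δ0 :=
    (AddCommGrpCat.epi_iff_surjective _).mp (hK.epi_δ 0 1 rfl h3)
  have hφ : Function.Surjective φ := hδs.comp ht₃.2
  have hpc : Function.Surjective pc :=
    postcomp_extClass_surjective G S hS (fun x => Ext.eq_zero_of_injective x)
  have hm0s : Function.Surjective m0 :=
    Ext.addEquiv₀.symm.surjective.comp σ₃.symm.surjective
  have hψ : Function.Surjective ψ := hpc.comp hm0s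
  have hkφ : ∀ z, φ z = 0 ↔ ∃ s, γ s = z := by
    intro z
    constructor
    · intro h
      obtain ⟨x₂, hx₂⟩ := (ShortComplex.ab_exact_iff _).mp (hK.homology_exact₃ 0 1 rfl) (t₃ z) h
      obtain ⟨s, rfl⟩ := ht₂ x₂
      exact ⟨s, ht₃.1 ((hnat s).symm.trans hx₂)⟩
    · rintro ⟨s, rfl⟩
      have e := hom_congr_apply (hK.comp_δ 0 1 rfl) (t₂ s)
      show δ0 (t₃ (γ s)) = 0
      rw [← hnat s]
      exact e
  have hkψ : ∀ z, ψ z = 0 ↔ ∃ s, γ s = z := by
    intro z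
    constructor
    · intro h
      obtain ⟨x₂, hx₂⟩ := Ext.covariant_sequence_exact₃ G hS (Ext.mk₀ (σ₃.symm z)) rfl h
      refine ⟨σ₂ (Ext.homEquiv₀ x₂), ?_⟩
      rw [← hσ]
      have e : Ext.homEquiv₀ x₂ ≫ S.g = σ₃.symm z := by
        apply (Ext.mk₀_bijective G S.X₃).1
        rw [← Ext.mk₀_comp_mk₀, Ext.mk₀_homEquiv₀_apply]
        exact hx₂
      rw [e, AddEquiv.apply_symm_apply]
    · rintro ⟨s, rfl⟩
      show (Ext.mk₀ (σ₃.symm (γ s))).comp hS.extClass (rfl : 0 + 1 = 1) = 0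
      have e : σ₃.symm (γ s) = σ₂.symm s ≫ S.g := by
        apply σ₃.injective
        rw [AddEquiv.apply_symm_apply, hσ, Equiv.apply_symm_apply]
      rw [e, ← Ext.mk₀_comp_mk₀, Ext.comp_assoc _ _ _ (zero_add 0) (zero_add 1) (by lia),
        hS.comp_extClass, Ext.comp_zero]
  have hker : φ.ker = ψ.ker := by
    ext z
    rw [AddMonoidHom.mem_ker, AddMonoidHom.mem_ker, hkφ, hkψ]
  exact ⟨(QuotientAddGroup.quotientKerEquivOfSurjective φ hφ).symm.trans
    ((QuotientAddGroup.quotientAddEquivOfEq hker).trans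
      (QuotientAddGroup.quotientKerEquivOfSurjective ψ hψ))⟩

theorem shift [EnoughInjectives A] (Kf : A ⥤ CochainComplex AddCommGrpCat.{u} ℕ) (G : A)
    (Q : A → Prop)
    (H1 : ∀ S : ShortComplex A, S.ShortExact → Q S.X₁ →
      ∃ hz : Kf.map S.f ≫ Kf.map S.g = 0, (ShortComplex.mk _ _ hz).ShortExact)
    (H2 : ∀ S : ShortComplex A, S.ShortExact → Q S.X₁ → Injective S.X₂ → Q S.X₃)
    (H3 : ∀ I : A, Injective I → ∀ n : ℕ, IsZero ((Kf.obj I).homology (n + 1)))
    (E0 : ∀ F : A, Q F → Nonempty ((Kf.obj F).homology 0 ≃+ Ext.{u} G F 0))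
    (E1 : ∀ (S : ShortComplex A), S.ShortExact → Q S.X₁ → Injective S.X₂ →
      ∀ (hz : Kf.map S.f ≫ Kf.map S.g = 0), (ShortComplex.mk _ _ hz).ShortExact →
        Nonempty ((Kf.obj S.X₁).homology 1 ≃+ Ext.{u} G S.X₁ 1)) :
    ∀ (n : ℕ) (F : A), Q F → Nonempty ((Kf.obj F).homology n ≃+ Ext.{u} G F n) := by
  have all : ∀ (m : ℕ) (F : A), Q F →
      Nonempty ((Kf.obj F).homology (m + 1) ≃+ Ext.{u} G F (m + 1)) := by
    intro m
    induction m with
    | zero =>
      intro F hF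
      let S : ShortComplex A := ShortComplex.mk _ _ (cokernel.condition (Injective.ι F))
      have hS : S.ShortExact :=
        { exact := ShortComplex.exact_of_g_is_cokernel _ (cokernelIsCokernel S.f) }
      have hI : Injective S.X₂ := (inferInstance : Injective (Injective.under F))
      obtain ⟨hz, hK⟩ := H1 S hS hF
      exact E1 S hS hF hI hz hK
    | succ m ih =>
      intro F hF
      let S : ShortComplex A := ShortComplex.mk _ _ (cokernel.condition (Injective.ι F))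
      have hS : S.ShortExact :=
        { exact := ShortComplex.exact_of_g_is_cokernel _ (cokernelIsCokernel S.f) }
      have hI : Injective S.X₂ := (inferInstance : Injective (Injective.under F))
      obtain ⟨hz, hK⟩ := H1 S hS hF
      obtain ⟨a₂⟩ := ih S.X₃ (H2 S hS hF hI)
      have e1 := hK.δIso (m + 1) (m + 1 + 1) rfl (H3 S.X₂ hI m) (H3 S.X₂ hI (m + 1))
      haveI := hI
      exact ⟨e1.symm.addCommGroupIsoToAddEquiv.trans (a₂.trans (AddEquiv.ofBijective _
        (postcomp_extClass_bijective G S hS (fun n x => Ext.eq_zero_of_injective x) m)))⟩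
  intro n F hF
  cases n with
  | zero => exact E0 F hF
  | succ m => exact all m F hF

end abs

section site

variable {C : Type u} [SmallCategory C] [HasPullbacks C] {J : GrothendieckTopology C} {U : C}
  {ι : Type u} (Y : ι → Over U)

noncomputable abbrev Kf (J : GrothendieckTopology C) {U : C} {ι : Type u} (Y : ι → Over U) :
    Sheaf J AddCommGrpCat.{u} ⥤ CochainComplex AddCommGrpCat.{u} ℕ :=
  sheafToPresheaf J AddCommGrpCat.{u} ⋙ CechEdge.cxFunctor Y

theorem Kzero (S : ShortComplex (Sheaf J AddCommGrpCat.{u})) :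
    (Kf J Y).map S.f ≫ (Kf J Y).map S.g = 0 := by
  apply HomologicalComplex.hom_ext
  intro n
  apply AddCommGrpCat.hom_ext
  apply AddMonoidHom.ext
  intro a
  exact Groth.Agent.S0861.gf_zero Y S n a

theorem H1s (S : ShortComplex (Sheaf J AddCommGrpCat.{u})) (hS : S.ShortExact)
    (hQ : ∀ (n : ℕ) (x : Fin (n + 1) → ι),
      Function.Surjective (S.g.hom.app (op (PD Y n x).left)).hom) :
    (ShortComplex.mk _ _ (Kzero Y S)).ShortExact := by
  apply HomologicalComplex.shortExact_of_degreewise_shortExact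
  intro n
  exact
    { exact := (ShortComplex.ab_exact_iff _).mpr
        (fun b hb => Groth.Agent.S0861.ker_cochain Y S hS n b hb)
      mono_f := (AddCommGrpCat.mono_iff_injective _).mpr
        (cmap_inj Y (wh S.f.hom) (fun V => (sec3 S hS V.left).1) n)
      epi_g := (AddCommGrpCat.epi_iff_surjective _).mpr
        (fun q => Groth.Agent.S0861.lift_cochain'' S Y n (hQ n) q) }

theorem surj_of_ext1 (S : ShortComplex (Sheaf J AddCommGrpCat.{u})) (hS : S.ShortExact) (W : C)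
    (h : ∀ e : Ext.{u} ((freeFunctor J).obj W) S.X₁ 1, e = 0) :
    Function.Surjective (S.g.hom.app (op W)).hom := by
  intro t
  obtain ⟨ψ, hψ⟩ := lift_of_ext1 ((freeFunctor J).obj W) S hS h ((secEquiv J W S.X₃).symm t)
  refine ⟨secEquiv J W S.X₂ ψ, ?_⟩
  have e := secEquiv_comp J W ψ S.g
  rw [hψ, Equiv.apply_symm_apply] at e
  exact e.symm

/-- the acyclicity hypothesis -/
def Qs (J : GrothendieckTopology C) {U : C} {ι : Type u} (Y : ι → Over U)
    (F : Sheaf J AddCommGrpCat.{u}) : Prop :=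
  ∀ (n : ℕ) (x : Fin (n + 1) → ι) (q : ℕ)
    (e : Ext.{u} ((freeFunctor J).obj (PD Y n x).left) F (q + 1)), e = 0

theorem eps_d (P : Cᵒᵖ ⥤ AddCommGrpCat.{u}) :
    eps Y P ≫ (KK Y (Qf P)).d 0 1 = 0 := CechEdge.toCech₀_d P Y

theorem main (J : GrothendieckTopology C) (F : Sheaf J AddCommGrpCat.{u}) {U : C} {ι : Type u}
    (Y : ι → Over U)
    (hY : Sieve.ofArrows (fun i => (Y i).left) (fun i => (Y i).hom) ∈ J U)
    (h : ∀ (p : ℕ) (a : Fin (p + 1) → ι) (q : ℕ),
      Subsingleton (CohSite.HU F (q + 1) (∏ᶜ fun k => Y (a k)).left))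
    (p : ℕ) : Nonempty (CohCx.cechH F.obj Y p ≃+ CohSite.HU F p U) := by
  have hbij : ∀ G : Sheaf J AddCommGrpCat.{u},
      Function.Bijective (toH0 (KK Y (Qf G.obj)) (eps Y G.obj) (eps_d Y G.obj)) := fun G =>
    toH0_bij _ _ _ (eps_inj Y G hY) (fun t ht => glue Y G hY t ht)
  refine shift (Kf J Y) ((freeFunctor J).obj U) (Qs J Y) ?_ ?_ ?_ ?_ ?_ p F
    (fun n x q e => @Subsingleton.elim _ (h n x q) e 0)
  · intro S hS hQ
    exact ⟨Kzero Y S, H1s Y S hS (fun n x => surj_of_ext1 S hS _ (hQ n x 0))⟩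
  · intro S hS hQ hI n x q e
    exact ext_vanish_coker _ S hS hI q (hQ n x (q + 1)) e
  · intro I hI n
    haveI := hI
    exact Groth.Agent.S0858.main J I Y n
  · intro G _
    exact ⟨(AddEquiv.ofBijective _ (hbij G)).symm.trans
      ((secAddEquiv J U G).symm.trans Ext.addEquiv₀.symm)⟩
  · intro S hS hQ hI hz hK
    haveI := hI
    exact E1_abs (Kf J Y) ((freeFunctor J).obj U) S hS hI hz hK
      (Groth.Agent.S0858.main J S.X₂ Y 0)
      (fun s => (S.g.hom.app (op U)).hom s)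
      (fun s => toH0 (KK Y (Qf S.X₂.obj)) (eps Y S.X₂.obj) (eps_d Y S.X₂.obj) s)
      (toH0 (KK Y (Qf S.X₃.obj)) (eps Y S.X₃.obj) (eps_d Y S.X₃.obj))
      (hbij S.X₂).2 (hbij S.X₃)
      (fun s => toH0_nat ((Kf J Y).map S.g) (eps Y S.X₂.obj) (eps_d Y S.X₂.obj)
        (eps Y S.X₃.obj) (eps_d Y S.X₃.obj) (S.g.hom.app (op U)) (eps_nat Y S.g.hom) s)
      (secEquiv J U S.X₂) (secAddEquiv J U S.X₃)
      (fun φ => secEquiv_comp J U φ S.g)

end site

end helpers

open CategoryTheory.Limits in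
/-- Let C be a site with fibre products, {Y_i -> U} a covering family and F an abelian sheaf with
H^q(Y_{i_0} x_U ... x_U Y_{i_p}, F) = 0 for all q > 0 and all finite tuples of indices. Then for
every p the p-th Cech cohomology group of F with respect to the covering is isomorphic to H^p(U, F). -/
theorem result {C : Type u} [SmallCategory C] [HasPullbacks C]
    (J : GrothendieckTopology C) (F : Sheaf J AddCommGrpCat.{u}) {U : C} {ι : Type u} (Y : ι → Over U)
    (hY : Sieve.ofArrows (fun i => (Y i).left) (fun i => (Y i).hom) ∈ J U)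
    (h : ∀ (p : ℕ) (a : Fin (p + 1) → ι) (q : ℕ),
      Subsingleton (CohSite.HU F (q + 1) (∏ᶜ fun k => Y (a k)).left))
    (p : ℕ) : Nonempty (CohCx.cechH F.obj Y p ≃+ CohSite.HU F p U) := by
  exact Groth.Agent.S0941.main J F Y hY h p

end Groth.Agent.S0941
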