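import Groth.Statements.S0464
import Mathlib
import Groth.Agent.S0941
import Groth.Agent.S0493

set_option autoImplicit false
universe u
open CategoryTheory
open CohTop

namespace Groth.Agent.S0464

section helpers

open CategoryTheory CategoryTheory.Limits TopologicalSpace Opposite AlgebraicTopology Simplicial
  CategoryTheory.Abelian
open Groth.Agent.S0885 (Yc pr P epsMap)
open Groth.Agent.S0466 (hom_congr_apply cmap cmap_inj dK sec_inj eps_nat eps_dK eps_inj glue)
open Groth.Agent.S0455 (ker_cochain gf_zero)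
open Groth.Agent.S0493 (lift_cochain'' P_eq)
open Groth.Agent.S0941 (toH0 toH0_bij toH0_nat lift_of_ext1 ext_vanish_coker E1_abs shift)
open Groth.Agent.H10.CohSiteA (freeFunctor secEquiv secEquiv_comp secAddEquiv)

variable {X : TopCat.{u}} {κ : Type u} (W : κ → Opens X)

noncomputable abbrev KfT {X : TopCat.{u}} {κ : Type u} (W : κ → Opens X) :
    CohTop.Ab X ⥤ CochainComplex AddCommGrpCat.{u} ℕ :=
  sheafToPresheaf (Opens.grothendieckTopology X) AddCommGrpCat.{u} ⋙ cechComplexFunctor W

theorem KzeroT (S : ShortComplex (CohTop.Ab X)) :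
    (KfT W).map S.f ≫ (KfT W).map S.g = 0 := by
  apply HomologicalComplex.hom_ext
  intro n
  apply AddCommGrpCat.hom_ext
  apply AddMonoidHom.ext
  intro a
  exact gf_zero W S n a

theorem H1t (S : ShortComplex (CohTop.Ab X)) (hS : S.ShortExact)
    (hQ : ∀ (n : ℕ) (x : Fin (n + 1) → κ),
      Function.Surjective (S.g.hom.app (op (P W n x))).hom) :
    (ShortComplex.mk _ _ (KzeroT W S)).ShortExact := by
  apply HomologicalComplex.shortExact_of_degreewise_shortExact
  intro n
  exact
    { exact := (ShortComplex.ab_exact_iff _).mpr (fun b hb => ker_cochain W S hS n b hb)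
      mono_f := (AddCommGrpCat.mono_iff_injective _).mpr
        (cmap_inj W S.f.hom (fun V => sec_inj S hS V) n)
      epi_g := (AddCommGrpCat.epi_iff_surjective _).mpr
        (fun q => lift_cochain'' S W n (hQ n) q) }

/-- the acyclicity hypothesis -/
def Qt {X : TopCat.{u}} {κ : Type u} (W : κ → Opens X) (F : CohTop.Ab X) : Prop :=
  ∀ (n : ℕ) (x : Fin (n + 1) → κ) (q : ℕ)
    (e : Ext.{u} ((freeFunctor (Opens.grothendieckTopology X)).obj (P W n x)) F (q + 1)), e = 0

theorem eps_d (A : (Opens X)ᵒᵖ ⥤ AddCommGrpCat.{u}) :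
    epsMap A W ≫ (Groth.Agent.S0466.KK W A).d 0 1 = 0 := by
  apply AddCommGrpCat.hom_ext
  apply AddMonoidHom.ext
  intro z
  exact eps_dK W A z

theorem main (F : CohTop.Ab X) {ι : Type u} (U : ι → Opens X)
    (h : ∀ (p : ℕ) (a : Fin (p + 1) → ι) (q : ℕ),
      Subsingleton (CohTop.HU F (q + 1) (iInf fun k => U (a k))))
    (p : ℕ) : Nonempty (CohTop.cechH F.obj U p ≃+ CohTop.HU F p (iSup U)) := by
  have hh : ∀ (n : ℕ) (x : Fin (n + 1) → ι) (q : ℕ),
      Subsingleton (CohTop.HU F (q + 1) (P U n x)) := fun n x q => by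
    rw [P_eq U n x]
    exact h n x q
  have hbij : ∀ G : CohTop.Ab X,
      Function.Bijective (toH0 (Groth.Agent.S0466.KK U G.obj) (epsMap G.obj U)
        (eps_d U G.obj)) := fun G =>
    toH0_bij _ _ _ (eps_inj U G) (fun t ht => glue U G t ht)
  refine shift (KfT U) ((freeFunctor (Opens.grothendieckTopology X)).obj (iSup U)) (Qt U)
    ?_ ?_ ?_ ?_ ?_ p F (fun n x q e => @Subsingleton.elim _ (hh n x q) e 0)
  · intro S hS hQ
    exact ⟨KzeroT U S, H1t U S hS (fun n x =>
      Groth.Agent.S0941.surj_of_ext1 S hS _ (hQ n x 0))⟩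
  · intro S hS hQ hI n x q e
    exact ext_vanish_coker _ S hS hI q (hQ n x (q + 1)) e
  · intro I hI n
    exact Groth.Agent.S0465.hinj I hI ι U n
  · intro G _
    exact ⟨(AddEquiv.ofBijective _ (hbij G)).symm.trans
      ((secAddEquiv (Opens.grothendieckTopology X) (iSup U) G).symm.trans Ext.addEquiv₀.symm)⟩
  · intro S hS hQ hI hz hK
    exact E1_abs (KfT U) ((freeFunctor (Opens.grothendieckTopology X)).obj (iSup U)) S hS hI hz hK
      (Groth.Agent.S0465.hinj S.X₂ hI ι U 0)
      (fun s => (S.g.hom.app (op (iSup U))).hom s)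
      (fun s => toH0 (Groth.Agent.S0466.KK U S.X₂.obj) (epsMap S.X₂.obj U) (eps_d U S.X₂.obj) s)
      (toH0 (Groth.Agent.S0466.KK U S.X₃.obj) (epsMap S.X₃.obj U) (eps_d U S.X₃.obj))
      (hbij S.X₂).2 (hbij S.X₃)
      (fun s => toH0_nat ((KfT U).map S.g) (epsMap S.X₂.obj U) (eps_d U S.X₂.obj)
        (epsMap S.X₃.obj U) (eps_d U S.X₃.obj) (S.g.hom.app (op (iSup U)))
        (eps_nat U S.g.hom) s)
      (secEquiv (Opens.grothendieckTopology X) (iSup U) S.X₂)
      (secAddEquiv (Opens.grothendieckTopology X) (iSup U) S.X₃)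
      (fun φ => secEquiv_comp (Opens.grothendieckTopology X) (iSup U) φ S.g)

end helpers

open TopologicalSpace in
/-- Let U_i be a family of opens with union U. If H^(q+1)(U_{i_0} ∩ … ∩ U_{i_p}, F) = 0 for all q and
all finite tuples of indices, then the p-th Cech cohomology of F for this family is isomorphic to
H^p(U, F). -/
theorem result {X : TopCat.{u}} (F : CohTop.Ab X) {ι : Type u}
    (U : ι → Opens X)
    (h : ∀ (p : ℕ) (a : Fin (p + 1) → ι) (q : ℕ), Subsingleton (CohTop.HU F (q + 1) (iInf fun k => U (a k))))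
    (p : ℕ) : Nonempty (CohTop.cechH F.obj U p ≃+ CohTop.HU F p (iSup U)) := by
  exact Groth.Agent.S0464.main F U h p

end Groth.Agent.S0464
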