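import Groth.Statements.S0480
import Mathlib

set_option autoImplicit false
universe v u
open CategoryTheory
open CohDer

namespace Groth.Agent.S0480

open CategoryTheory.Limits in
/-- In an abelian category, if the product of a family of K-injective cochain complexes exists (it is
then the termwise product), it is again K-injective. -/
theorem result {A : Type u} [Category.{v} A] [Abelian A] {T : Type v} (I : T → CochainComplex A ℤ)
    [HasProduct I] (h : ∀ t, (I t).IsKInjective) : (∏ᶜ I).IsKInjective := by
  refine ⟨fun {K} f hK => ?_⟩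
  have ht : ∀ t, ∃ α : CochainComplex.HomComplex.Cochain K (I t) (-1),
      CochainComplex.HomComplex.δ (-1) 0 α =
        CochainComplex.HomComplex.Cochain.ofHom (𝟙 K ≫ (f ≫ Pi.π I t)) := by
    intro t
    haveI := h t
    obtain ⟨z, hz⟩ := CochainComplex.HomComplex.Cochain.equivHomotopy _ _
      (CochainComplex.IsKInjective.homotopyZero (f ≫ Pi.π I t) hK)
    refine ⟨z, ?_⟩
    rw [Category.id_comp, hz]
    simp
  choose α hα using ht
  let g : CochainComplex.mappingCone (𝟙 K) ⟶ ∏ᶜ I :=
    Pi.lift (fun t => CochainComplex.mappingCone.desc (𝟙 K) (α t) (f ≫ Pi.π I t) (hα t))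
  have hg : CochainComplex.mappingCone.inr (𝟙 K) ≫ g = f := by
    apply Pi.hom_ext
    intro t
    rw [Category.assoc, Pi.lift_π, CochainComplex.mappingCone.inr_desc]
  refine ⟨(CochainComplex.HomComplex.Cochain.equivHomotopy f 0).symm
    ⟨(CochainComplex.mappingCone.inl (𝟙 K)).comp
      (CochainComplex.HomComplex.Cochain.ofHom g) (add_zero _), ?_⟩⟩
  rw [CochainComplex.HomComplex.δ_comp_ofHom, CochainComplex.mappingCone.δ_inl, Category.id_comp,
    ← CochainComplex.HomComplex.Cochain.ofHom_comp, hg]
  simp

end Groth.Agent.S0480
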