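import Groth.Statements.S0481
import Mathlib

set_option autoImplicit false
universe v u
open CategoryTheory
open CohDer

namespace Groth.Agent.S0481

open CategoryTheory.Limits in
/-- Let u : A ⥤ B be right adjoint to an exact additive functor w : B ⥤ A between abelian categories.
Then u applied termwise sends K-injective complexes to K-injective complexes. -/
theorem result {A : Type u} [Category.{v} A] [Abelian A]
    {B : Type u} [Category.{v} B] [Abelian B] (u : A ⥤ B) (w : B ⥤ A) (adj : w ⊣ u)
    [u.Additive] [w.Additive] [PreservesFiniteLimits w] [PreservesFiniteColimits w]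
    (I : CochainComplex A ℤ) (h : I.IsKInjective) :
    CochainComplex.IsKInjective ((u.mapHomologicalComplex (ComplexShape.up ℤ)).obj I) := by
  classical
  haveI : w.PreservesHomology := inferInstance
  refine ⟨fun {K} f hK => ?_⟩
  let fn : ∀ n : ℤ, K.X n ⟶ u.obj (I.X n) := fun n => f.f n
  have hfn : ∀ i j : ℤ, fn i ≫ u.map (I.d i j) = K.d i j ≫ fn j := fun i j => f.comm i j
  -- the transposed chain map
  let ft : (w.mapHomologicalComplex (ComplexShape.up ℤ)).obj K ⟶ I :=
    { f := fun n => w.map (fn n) ≫ adj.counit.app (I.X n)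
      comm' := by
        intro i j _
        show (w.map (fn i) ≫ adj.counit.app (I.X i)) ≫ I.d i j =
          w.map (K.d i j) ≫ (w.map (fn j) ≫ adj.counit.app (I.X j))
        calc (w.map (fn i) ≫ adj.counit.app (I.X i)) ≫ I.d i j
            = w.map (fn i) ≫ (adj.counit.app (I.X i) ≫ I.d i j) := Category.assoc _ _ _
          _ = w.map (fn i) ≫ (w.map (u.map (I.d i j)) ≫ adj.counit.app (I.X j)) :=
              congrArg (fun t => w.map (fn i) ≫ t) (adj.counit_naturality (I.d i j)).symm
          _ = w.map (fn i ≫ u.map (I.d i j)) ≫ adj.counit.app (I.X j) := by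
              rw [w.map_comp, Category.assoc]
          _ = w.map (K.d i j ≫ fn j) ≫ adj.counit.app (I.X j) := by rw [hfn]
          _ = w.map (K.d i j) ≫ (w.map (fn j) ≫ adj.counit.app (I.X j)) := by
              rw [w.map_comp, Category.assoc] }
  have hWK : ((w.mapHomologicalComplex (ComplexShape.up ℤ)).obj K).Acyclic := by
    intro i
    exact (hK i).map w
  obtain ⟨ho⟩ := h.nonempty_homotopy_zero ft hWK
  -- the unit chain map
  let η : K ⟶ (u.mapHomologicalComplex (ComplexShape.up ℤ)).obj
      ((w.mapHomologicalComplex (ComplexShape.up ℤ)).obj K) :=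
    { f := fun n => adj.unit.app (K.X n)
      comm' := by
        intro i j _
        exact adj.unit_naturality (K.d i j) }
  have hf : f = η ≫ (u.mapHomologicalComplex (ComplexShape.up ℤ)).map ft := by
    ext n
    show fn n = adj.unit.app (K.X n) ≫ u.map (w.map (fn n) ≫ adj.counit.app (I.X n))
    calc fn n = fn n ≫ 𝟙 _ := (Category.comp_id _).symm
      _ = fn n ≫ (adj.unit.app (u.obj (I.X n)) ≫ u.map (adj.counit.app (I.X n))) := by
          rw [adj.right_triangle_components]
      _ = (fn n ≫ adj.unit.app (u.obj (I.X n))) ≫ u.map (adj.counit.app (I.X n)) :=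
          (Category.assoc _ _ _).symm
      _ = (adj.unit.app (K.X n) ≫ u.map (w.map (fn n))) ≫ u.map (adj.counit.app (I.X n)) :=
          congrArg (fun t => t ≫ u.map (adj.counit.app (I.X n))) (adj.unit_naturality (fn n)).symm
      _ = adj.unit.app (K.X n) ≫ u.map (w.map (fn n) ≫ adj.counit.app (I.X n)) := by
          rw [u.map_comp, Category.assoc]
  have h0 : η ≫ (u.mapHomologicalComplex (ComplexShape.up ℤ)).map
      (0 : (w.mapHomologicalComplex (ComplexShape.up ℤ)).obj K ⟶ I) = 0 := by
    rw [Functor.map_zero, Limits.comp_zero]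
  exact ⟨(Homotopy.ofEq hf).trans (((u.mapHomotopy ho).compLeft η).trans (Homotopy.ofEq h0))⟩

end Groth.Agent.S0481
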