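import Groth.Statements.S0942
import Mathlib

set_option autoImplicit false
universe u
open CategoryTheory
open CohSite

namespace Groth.Agent.S0942


section helpers
open CategoryTheory CategoryTheory.Limits Opposite

namespace JShriek

variable {C : Type u} [SmallCategory C] (U : C)

/-- the discrete final functor -/
def iota (V : C) : Discrete (V ⟶ U) ⥤ CostructuredArrow (Over.forget U).op (op V) :=
  Discrete.functor (fun φ => CostructuredArrow.mk (S := (Over.forget U).op) (Y := op (Over.mk φ))
    (𝟙 (op V)))

lemma left_eq (V : C) (d : CostructuredArrow (Over.forget U).op (op V)) (φ : V ⟶ U)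
    (f : d ⟶ (iota U V).obj ⟨φ⟩) : f.left.unop.left = d.hom.unop := by
  have h := CostructuredArrow.w f
  have h2 : ((Over.forget U).op.map f.left) = d.hom := by
    rw [← h]
    exact (Category.comp_id _).symm
  rw [← h2]
  rfl

instance iota_final (V : C) : (iota U V).Final := by
  constructor
  intro d
  let f₀ : d ⟶ (iota U V).obj ⟨d.hom.unop ≫ d.left.unop.hom⟩ :=
    CostructuredArrow.homMk
      (Over.homMk d.hom.unop rfl : Over.mk (d.hom.unop ≫ d.left.unop.hom) ⟶ d.left.unop).op
      (by
        apply Quiver.Hom.unop_inj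
        simp [iota])
  haveI : Nonempty (StructuredArrow d (iota U V)) := ⟨StructuredArrow.mk f₀⟩
  have key : ∀ x : StructuredArrow d (iota U V), Nonempty (x ⟶ StructuredArrow.mk f₀) := by
    intro x
    obtain ⟨xl, ⟨φ⟩, f⟩ := x
    have hl := left_eq U V d φ f
    have hφ : φ = d.hom.unop ≫ d.left.unop.hom := by
      rw [← hl]
      exact (Over.w f.left.unop).symm
    subst hφ
    have hf : f ≫ (iota U V).map (𝟙 (Discrete.mk (d.hom.unop ≫ d.left.unop.hom))) = f := by
      rw [CategoryTheory.Functor.map_id]; exact Category.comp_id _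
    refine ⟨StructuredArrow.homMk (𝟙 _) ?_⟩
    refine hf.trans ?_
    apply CostructuredArrow.hom_ext
    apply Quiver.Hom.unop_inj
    apply Over.OverMorphism.ext
    exact hl
  apply zigzag_isConnected
  intro j₁ j₂
  exact (Zigzag.of_hom (key j₁).some).trans (Zigzag.of_inv (key j₂).some)

instance lan_preservesFiniteLimits :
    PreservesFiniteLimits ((Over.forget U).op.lan :
      ((Over U)ᵒᵖ ⥤ AddCommGrpCat.{u}) ⥤ (Cᵒᵖ ⥤ AddCommGrpCat.{u})) := by
  constructor
  intro K _ _
  apply preservesLimitsOfShape_of_evaluation _ K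
  intro V
  induction V using Opposite.rec with
  | op V =>
  have e : (Functor.whiskeringLeft _ _ AddCommGrpCat.{u}).obj
        (CostructuredArrow.proj (Over.forget U).op (op V)) ⋙ colim ≅
      (Functor.whiskeringLeft _ _ AddCommGrpCat.{u}).obj
        (CostructuredArrow.proj (Over.forget U).op (op V)) ⋙
        ((Functor.whiskeringLeft _ _ AddCommGrpCat.{u}).obj (iota U V) ⋙ colim) :=
    Functor.isoWhiskerLeft _ (Functor.Final.colimIso (iota U V)).symm
  haveI : PreservesFiniteLimits (colim : (Discrete (V ⟶ U) ⥤ AddCommGrpCat.{u}) ⥤ _) :=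
    inferInstance
  haveI h1 : PreservesLimitsOfShape K ((Functor.whiskeringLeft _ _ AddCommGrpCat.{u}).obj
        (CostructuredArrow.proj (Over.forget U).op (op V)) ⋙
        ((Functor.whiskeringLeft _ _ AddCommGrpCat.{u}).obj (iota U V) ⋙ colim)) := inferInstance
  haveI h2 : PreservesLimitsOfShape K ((Functor.whiskeringLeft _ _ AddCommGrpCat.{u}).obj
        (CostructuredArrow.proj (Over.forget U).op (op V)) ⋙ colim) :=
    preservesLimitsOfShape_of_natIso e.symm
  exact preservesLimitsOfShape_of_natIso (lanEvaluationIsoColim _ _ _).symm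


end JShriek

namespace KInj

universe v₁ v₂ u₁ u₂

variable {𝒜 : Type u₁} [Category.{v₁} 𝒜] [Abelian 𝒜] {ℬ : Type u₂} [Category.{v₂} ℬ] [Abelian ℬ]

lemma exactAt_map {ι : Type*} {c : ComplexShape ι} (L : ℬ ⥤ 𝒜) [L.Additive] [L.PreservesHomology]
    (K : HomologicalComplex ℬ c) (i : ι) (h : K.ExactAt i) :
    ((L.mapHomologicalComplex c).obj K).ExactAt i := by
  rw [HomologicalComplex.exactAt_iff] at h ⊢
  exact h.map L

lemma aux1 (L : ℬ ⥤ 𝒜) (R : 𝒜 ⥤ ℬ) (adj : L ⊣ R) {X Y : ℬ} {A B : 𝒜} (g : X ⟶ R.obj A)
    (g' : Y ⟶ R.obj B) (d : X ⟶ Y) (δ : A ⟶ B) (h : g ≫ R.map δ = d ≫ g') :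
    (adj.homEquiv X A).symm g ≫ δ = L.map d ≫ (adj.homEquiv Y B).symm g' := by
  rw [← adj.homEquiv_naturality_right_symm, h, adj.homEquiv_naturality_left_symm]

lemma aux2 (L : ℬ ⥤ 𝒜) (R : 𝒜 ⥤ ℬ) (adj : L ⊣ R) {X : ℬ} {A : 𝒜} (g : X ⟶ R.obj A) :
    g = adj.unit.app X ≫ R.map ((adj.homEquiv X A).symm g) :=
  ((adj.homEquiv X A).apply_symm_apply g).symm.trans (Adjunction.homEquiv_unit _ _ _ _)

theorem isKInjective_map_of_adj (L : ℬ ⥤ 𝒜) (R : 𝒜 ⥤ ℬ) (adj : L ⊣ R) [R.Additive]
    [PreservesFiniteLimits L]
    (I : CochainComplex 𝒜 ℤ) [I.IsKInjective] :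
    CochainComplex.IsKInjective ((R.mapHomologicalComplex (ComplexShape.up ℤ)).obj I) := by
  haveI : L.Additive := adj.left_adjoint_additive
  haveI : PreservesColimits L := adj.leftAdjoint_preservesColimits
  haveI : L.PreservesHomology := inferInstance
  constructor
  intro K f hK
  let f' : (L.mapHomologicalComplex _).obj K ⟶ I :=
    { f := fun n => (adj.homEquiv (K.X n) (I.X n)).symm (f.f n)
      comm' := fun i j _ => aux1 L R adj (f.f i) (f.f j) (K.d i j) (I.d i j) (f.comm i j) }
  have hLK : ((L.mapHomologicalComplex _).obj K).Acyclic := fun i => exactAt_map L K i (hK i)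
  obtain ⟨h'⟩ := CochainComplex.IsKInjective.nonempty_homotopy_zero f' hLK
  let u : K ⟶ (R.mapHomologicalComplex _).obj ((L.mapHomologicalComplex _).obj K) :=
    { f := fun n => adj.unit.app (K.X n)
      comm' := fun i j _ => (adj.unit.naturality (K.d i j)).symm }
  have hf : f = u ≫ (R.mapHomologicalComplex _).map f' := by
    ext n
    exact aux2 L R adj (f.f n)
  refine ⟨(Homotopy.ofEq hf).trans (((R.mapHomotopy h').compLeft u).trans (Homotopy.ofEq ?_))⟩
  simp

end KInj

namespace JShriek

variable {C : Type u} [SmallCategory C] (U : C) (J : GrothendieckTopology C)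

instance pullback_preservesFiniteLimits :
    PreservesFiniteLimits (Functor.sheafPullbackConstruction.sheafPullback (Over.forget U)
      AddCommGrpCat.{u} (J.over U) J) := by
  unfold Functor.sheafPullbackConstruction.sheafPullback
  have : PreservesFiniteLimits ((Over.forget U).op.lan ⋙ presheafToSheaf J AddCommGrpCat.{u}) :=
    comp_preservesFiniteLimits _ _
  apply comp_preservesFiniteLimits

theorem main (I : CochainComplex (Sheaf J AddCommGrpCat.{u}) ℤ) (hI : I.IsKInjective) :
    CochainComplex.IsKInjective ((((Over.forget U).sheafPushforwardContinuous AddCommGrpCat.{u}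
      (J.over U) J).mapHomologicalComplex (ComplexShape.up ℤ)).obj I) := by
  haveI := hI
  have adj := Functor.sheafPullbackConstruction.sheafAdjunctionContinuous (Over.forget U)
      AddCommGrpCat.{u} (J.over U) J
  haveI : PreservesLimits ((Over.forget U).sheafPushforwardContinuous AddCommGrpCat.{u}
      (J.over U) J) := adj.rightAdjoint_preservesLimits
  haveI : ((Over.forget U).sheafPushforwardContinuous AddCommGrpCat.{u}
      (J.over U) J).Additive := Functor.additive_of_preserves_binary_products _
  exact KInj.isKInjective_map_of_adj _ _ adj I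

end JShriek


end helpers

/-- Let U be an object of a site and I a K-injective complex of abelian sheaves. Then the restriction of
I to the site of objects over U (precomposition with the forgetful functor from the over category)
is a K-injective complex. -/
theorem result {C : Type u} [SmallCategory C] (J : GrothendieckTopology C) (U : C)
    (I : CochainComplex (Sheaf J AddCommGrpCat.{u}) ℤ) (hI : I.IsKInjective) :
    CochainComplex.IsKInjective ((((Over.forget U).sheafPushforwardContinuous AddCommGrpCat.{u} (J.over U) J).mapHomologicalComplex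
      (ComplexShape.up ℤ)).obj I) := by
  exact Groth.Agent.S0942.JShriek.main U J I hI

end Groth.Agent.S0942
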