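import Groth.Statements.S0482
import Mathlib
import Groth.Prelude.Def_FreeSh
import Groth.Agent.S0942

set_option autoImplicit false
universe u
open CategoryTheory
open CohSite

namespace Groth.Agent.S0482

section helpers
open CategoryTheory CategoryTheory.Limits Opposite Abelian

section ExtAdj
universe w₁ w₂ v₁ v₂ u₁ u₂
variable {C : Type u₁} [Category.{v₁} C] [Abelian C] {D : Type u₂} [Category.{v₂} D] [Abelian D]
variable {L : C ⥤ D} {R : D ⥤ C} (adj : L ⊣ R)
  [L.Additive] [R.Additive] [PreservesFiniteLimits L] [PreservesFiniteColimits L]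
  [PreservesFiniteLimits R] [PreservesFiniteColimits R]
  [HasExt.{w₁} C] [HasExt.{w₂} D]

noncomputable def Φ (A : C) (B : D) (n : ℕ) : Ext.{w₂} (L.obj A) B n →+ Ext.{w₁} A (R.obj B) n :=
  ((Ext.mk₀ (adj.unit.app A)).precomp (R.obj B) (zero_add n)).comp (R.mapExtAddHom (L.obj A) B n)

lemma Φ_apply (A : C) (B : D) (n : ℕ) (e : Ext.{w₂} (L.obj A) B n) :
    Φ adj A B n e = (Ext.mk₀ (adj.unit.app A)).comp (e.mapExactFunctor R) (zero_add n) := rfl

attribute [local instance] Ext.subsingleton_of_injective in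
theorem Φ_bijective [EnoughInjectives D] (A : C) (B : D) (n : ℕ) :
    Function.Bijective (Φ adj A B n) := by
  induction n generalizing B with
  | zero =>
    have key : ∀ f : L.obj A ⟶ B, Φ adj A B 0 (Ext.mk₀ f) = Ext.mk₀ (adj.homEquiv A B f) := by
      intro f
      rw [Φ_apply, Ext.mapExactFunctor_mk₀, Ext.mk₀_comp_mk₀, Adjunction.homEquiv_unit]
    constructor
    · intro x y hxy
      obtain ⟨f, rfl⟩ := (Ext.mk₀_bijective _ _).2 x
      obtain ⟨g, rfl⟩ := (Ext.mk₀_bijective _ _).2 y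
      rw [key, key] at hxy
      rw [(adj.homEquiv A B).injective ((Ext.mk₀_bijective _ _).1 hxy)]
    · intro y
      obtain ⟨g, rfl⟩ := (Ext.mk₀_bijective _ _).2 y
      exact ⟨Ext.mk₀ ((adj.homEquiv A B).symm g), by rw [key, Equiv.apply_symm_apply]⟩
  | succ n hn =>
    let I : InjectivePresentation B := Classical.arbitrary _
    let S := ShortComplex.mk _ _ (cokernel.condition I.f)
    have hS : S.ShortExact := { exact := ShortComplex.exact_cokernel I.f }
    haveI : Injective S.X₂ := I.injective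
    haveI : Injective (S.map R).X₂ := adj.map_injective _ I.injective
    have hc₁ : ((Ext.mk₀ (S.map R).g).postcomp A (add_zero n)).comp (Φ adj A S.X₂ n) =
        (Φ adj A S.X₃ n).comp ((Ext.mk₀ S.g).postcomp (L.obj A) (add_zero n)) := by
      ext e
      show ((Ext.mk₀ (adj.unit.app A)).comp (e.mapExactFunctor R) (zero_add n)).comp
          (Ext.mk₀ (R.map S.g)) (add_zero n) =
        (Ext.mk₀ (adj.unit.app A)).comp ((e.comp (Ext.mk₀ S.g) (add_zero n)).mapExactFunctor R)
          (zero_add n)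
      rw [Ext.mapExactFunctor_comp, Ext.mapExactFunctor_mk₀]
      exact Ext.comp_assoc_of_third_deg_zero _ _ _ _
    have hc₂ : ((hS.map R).extClass.postcomp A (rfl : n + 1 = n + 1)).comp (Φ adj A S.X₃ n) =
        (Φ adj A S.X₁ (n + 1)).comp (hS.extClass.postcomp (L.obj A) (rfl : n + 1 = n + 1)) := by
      ext e
      show ((Ext.mk₀ (adj.unit.app A)).comp (e.mapExactFunctor R) (zero_add n)).comp
          (hS.map R).extClass rfl =
        (Ext.mk₀ (adj.unit.app A)).comp ((e.comp hS.extClass rfl).mapExactFunctor R)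
          (zero_add (n + 1))
      rw [Ext.mapExactFunctor_comp, Ext.mapExactFunctor_extClass]
      exact Ext.comp_assoc _ _ _ (zero_add n) rfl (by omega)
    exact AddMonoidHom.bijective_of_surjective_of_bijective_of_right_exact _ _ _ _
      (Φ adj A S.X₂ n) (Φ adj A S.X₃ n) (Φ adj A S.X₁ (n + 1))
      hc₁ hc₂
      ((ShortComplex.ab_exact_iff_function_exact _).mp
        (Ext.covariant_sequence_exact₃' (L.obj A) hS n (n + 1) rfl))
      ((ShortComplex.ab_exact_iff_function_exact _).mp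
        (Ext.covariant_sequence_exact₃' A (hS.map R) n (n + 1) rfl))
      (hn _).surjective (hn _)
      (fun x₁ ↦ Ext.covariant_sequence_exact₁ _ hS x₁ (by subsingleton) rfl)
      (fun y₁ ↦ Ext.covariant_sequence_exact₁ _ (hS.map R) y₁ (by subsingleton) rfl)

/-- transport along an iso in the first variable -/
lemma nonempty_addEquiv_of_iso {X X' : C} (i : X ≅ X') (Y : C) (n : ℕ) :
    Nonempty (Ext.{w₁} X Y n ≃+ Ext.{w₁} X' Y n) := by
  refine ⟨AddMonoidHom.toAddEquiv ((Ext.mk₀ i.inv).precomp Y (zero_add n))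
    ((Ext.mk₀ i.hom).precomp Y (zero_add n)) ?_ ?_⟩
  · ext e
    show (Ext.mk₀ i.hom).comp ((Ext.mk₀ i.inv).comp e (zero_add n)) (zero_add n) = e
    rw [Ext.mk₀_comp_mk₀_assoc, Iso.hom_inv_id, Ext.mk₀_id_comp]
  · ext e
    show (Ext.mk₀ i.inv).comp ((Ext.mk₀ i.hom).comp e (zero_add n)) (zero_add n) = e
    rw [Ext.mk₀_comp_mk₀_assoc, Iso.inv_hom_id, Ext.mk₀_id_comp]

end ExtAdj


section Yoneda
universe t v₀ u₀
variable {𝒜 : Type u₀} [Category.{v₀} 𝒜]

lemma iso_of_corep {X Y : 𝒜} (T : 𝒜 → Type t) (Tm : ∀ {G G' : 𝒜}, (G ⟶ G') → T G → T G')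
    (a : ∀ G, (X ⟶ G) ≃ T G) (b : ∀ G, (Y ⟶ G) ≃ T G)
    (ha : ∀ {G G' : 𝒜} (φ : X ⟶ G) (ψ : G ⟶ G'), a G' (φ ≫ ψ) = Tm ψ (a G φ))
    (hb : ∀ {G G' : 𝒜} (φ : Y ⟶ G) (ψ : G ⟶ G'), b G' (φ ≫ ψ) = Tm ψ (b G φ)) :
    Nonempty (X ≅ Y) := by
  refine ⟨⟨(a Y).symm (b Y (𝟙 Y)), (b X).symm (a X (𝟙 X)), ?_, ?_⟩⟩
  · apply (a X).injective
    rw [ha, Equiv.apply_symm_apply, ← hb, Category.id_comp, Equiv.apply_symm_apply]
  · apply (b Y).injective
    rw [hb, Equiv.apply_symm_apply, ← ha, Category.id_comp, Equiv.apply_symm_apply]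

end Yoneda

section HomZ

noncomputable def homZEquiv (A : AddCommGrpCat.{u}) :
    (AddCommGrpCat.of (ULift.{u} ℤ) ⟶ A) ≃ A where
  toFun φ := φ.hom ⟨1⟩
  invFun a := AddCommGrpCat.ofHom (((zmultiplesHom A) a).comp AddEquiv.ulift.toAddMonoidHom)
  left_inv φ := by
    apply AddCommGrpCat.hom_ext
    ext ⟨n⟩
    show n • φ.hom ⟨1⟩ = φ.hom ⟨n⟩
    rw [← map_zsmul]
    congr 1
    ext
    simp
  right_inv a := by
    show (1 : ℤ) • a = a
    simp

end HomZ

section Site
variable {C : Type u} [SmallCategory C] (J : GrothendieckTopology C) (U : C)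

noncomputable abbrev jL : Sheaf (J.over U) AddCommGrpCat.{u} ⥤ Sheaf J AddCommGrpCat.{u} :=
  Functor.sheafPullbackConstruction.sheafPullback (Over.forget U) AddCommGrpCat.{u} (J.over U) J

noncomputable abbrev jR : Sheaf J AddCommGrpCat.{u} ⥤ Sheaf (J.over U) AddCommGrpCat.{u} :=
  (Over.forget U).sheafPushforwardContinuous AddCommGrpCat.{u} (J.over U) J

noncomputable abbrev jAdj : jL J U ⊣ jR J U :=
  Functor.sheafPullbackConstruction.sheafAdjunctionContinuous (Over.forget U)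
    AddCommGrpCat.{u} (J.over U) J

noncomputable abbrev Zc : Sheaf (J.over U) AddCommGrpCat.{u} :=
  (constantSheaf (J.over U) AddCommGrpCat.{u}).obj (AddCommGrpCat.of (ULift.{u} ℤ))

noncomputable abbrev cAdj := constantSheafAdj (J.over U) AddCommGrpCat.{u} (Over.mkIdTerminal (X := U))

noncomputable def aEquiv (G : Sheaf J AddCommGrpCat.{u}) :
    ((jL J U).obj (Zc J U) ⟶ G) ≃ G.obj.obj (op U) :=
  ((jAdj J U).homEquiv (Zc J U) G).trans
    (((cAdj J U).homEquiv (AddCommGrpCat.of (ULift.{u} ℤ)) ((jR J U).obj G)).trans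
      (homZEquiv (G.obj.obj (op U))))

lemma aEquiv_nat {G G' : Sheaf J AddCommGrpCat.{u}} (φ : (jL J U).obj (Zc J U) ⟶ G) (ψ : G ⟶ G') :
    aEquiv J U G' (φ ≫ ψ) = (ψ.hom.app (op U)).hom (aEquiv J U G φ) := by
  show homZEquiv _ ((cAdj J U).homEquiv _ _ ((jAdj J U).homEquiv _ _ (φ ≫ ψ))) = _
  rw [Adjunction.homEquiv_naturality_right, Adjunction.homEquiv_naturality_right]
  rfl

lemma iso_jL_Zc : Nonempty ((jL J U).obj (Zc J U) ≅ CohCx.freeSheaf J U) :=
  iso_of_corep (fun G : Sheaf J AddCommGrpCat.{u} => G.obj.obj (op U))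
    (fun ψ => (ψ.hom.app (op U)).hom)
    (aEquiv J U) (fun G => (CohFree.homEquivSect J U G).toEquiv)
    (fun φ ψ => aEquiv_nat J U φ ψ) (fun φ ψ => rfl)

theorem main (F : Sheaf J AddCommGrpCat.{u}) (n : ℕ) :
    Nonempty (CohSite.HU F n U ≃+ Sheaf.H.{u} (F.over U) n) := by
  obtain ⟨i⟩ := iso_jL_Zc J U
  haveI : (jL J U).Additive := (jAdj J U).left_adjoint_additive
  haveI : (jR J U).Additive := (jAdj J U).right_adjoint_additive
  haveI : PreservesColimits (jL J U) := (jAdj J U).leftAdjoint_preservesColimits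
  haveI : PreservesLimits (jR J U) := (jAdj J U).rightAdjoint_preservesLimits
  haveI : PreservesColimits (jR J U) :=
    ((Over.forget U).sheafAdjunctionCocontinuous AddCommGrpCat.{u} (J.over U) J).leftAdjoint_preservesColimits
  obtain ⟨e1⟩ := nonempty_addEquiv_of_iso.{u} i.symm F n
  let e2 := AddEquiv.ofBijective (Φ.{u, u} (jAdj J U) (Zc J U) F n) (Φ_bijective (jAdj J U) _ _ _)
  exact ⟨e1.trans e2⟩

end Site


end helpers

/-- For a sheaf of abelian groups F on a small site and an object U, H^n(U, F) (Ext out of the free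
abelian sheaf on U) is isomorphic to the cohomology of the restriction of F to the site of objects
over U (existence of a group isomorphism). -/
theorem result {C : Type u} [SmallCategory C] (J : GrothendieckTopology C)
    (F : Sheaf J AddCommGrpCat.{u}) (U : C) (n : ℕ) :
    Nonempty (CohSite.HU F n U ≃+ Sheaf.H.{u} (F.over U) n) := by
  exact Groth.Agent.S0482.main J U F n

end Groth.Agent.S0482
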