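import Groth.Statements.S0488
import Mathlib
import Groth.Agent.S0942

set_option autoImplicit false
universe u
open CohTop

namespace Groth.Agent.S0488


section helpers
open CategoryTheory CategoryTheory.Limits Opposite TopologicalSpace

theorem main' {X : TopCat.{u}} (U : Opens X) (I : CochainComplex (CohTop.Ab X) ℤ)
    (h : I.IsKInjective) :
    CochainComplex.IsKInjective
      (((CohTop.restrFunctor U).mapHomologicalComplex (ComplexShape.up ℤ)).obj I) := by
  haveI := h
  let E := U.sheafEquivOver (A := AddCommGrpCat.{u})
  have adj₁ := Functor.sheafPullbackConstruction.sheafAdjunctionContinuous (Over.forget U)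
    AddCommGrpCat.{u} ((Opens.grothendieckTopology X).over U) (Opens.grothendieckTopology X)
  have adj₂ : E.inverse ⊣ E.functor := E.symm.toAdjunction
  have adj := adj₂.comp adj₁
  have adj' := adj.ofNatIsoRight (Opens.overPullbackSheafEquivOver (A := AddCommGrpCat.{u}) U)
  haveI : PreservesFiniteLimits (E.inverse ⋙
      Functor.sheafPullbackConstruction.sheafPullback (Over.forget U)
        AddCommGrpCat.{u} ((Opens.grothendieckTopology X).over U)
        (Opens.grothendieckTopology X)) :=
    comp_preservesFiniteLimits _ _
  exact Groth.Agent.S0942.KInj.isKInjective_map_of_adj _ _ adj' I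

end helpers

open TopologicalSpace in
/-- For an open U of X, restriction to U sends K-injective complexes of abelian sheaves on X to
K-injective complexes on U. -/
theorem result {X : TopCat.{u}} (U : Opens X) (I : CochainComplex (CohTop.Ab X) ℤ)
    (h : I.IsKInjective) :
    CochainComplex.IsKInjective (((CohTop.restrFunctor U).mapHomologicalComplex (ComplexShape.up ℤ)).obj I) := by
  exact Groth.Agent.S0488.main' U I h

end Groth.Agent.S0488
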