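import Groth.Statements.S0489
import Mathlib.Algebra.Homology.HomotopyCategory.HomComplexShift
import Mathlib.Algebra.Homology.HomologicalComplexLimits

set_option autoImplicit false
universe v u
open CategoryTheory
open CohDer

namespace Groth.Agent.S0489

section helpers
open CategoryTheory.Limits Opposite CochainComplex HomComplex

variable {A : Type u} [Category.{v} A] [Abelian A]

lemma lemA {K J : CochainComplex A ℤ} [J.IsKInjective] (hK : K.Acyclic) (g : K ⟶ J) :
    ∃ β : Cochain K J (-1), δ (-1) 0 β = Cochain.ofHom g := by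
  obtain ⟨ho⟩ := IsKInjective.nonempty_homotopy_zero g hK
  refine ⟨(Cochain.equivHomotopy g 0 ho).1, ?_⟩
  have := (Cochain.equivHomotopy g 0 ho).2
  simpa using this.symm

lemma lemB {K J : CochainComplex A ℤ} [J.IsKInjective] (hK : K.Acyclic)
    (γ : Cochain K J (-1)) (hγ : δ (-1) 0 γ = 0) :
    ∃ ε : Cochain K J (-2), δ (-2) (-1) ε = γ := by
  let γc : Cocycle K J (-1) := Cocycle.mk γ 0 (by simp) hγ
  let g : K ⟶ J⟦(-1 : ℤ)⟧ := Cocycle.equivHomShift.symm γc
  have hg : (Cochain.ofHom g).rightUnshift (-1) (zero_add (-1)) = γ := by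
    have := congrArg Subtype.val (Cocycle.equivHomShift.apply_symm_apply γc)
    rw [Cocycle.equivHomShift_apply] at this
    exact this
  obtain ⟨β', hβ'⟩ := lemA hK g
  refine ⟨-(β'.rightUnshift (-2) (by simp)), ?_⟩
  rw [δ_neg, Cochain.δ_rightUnshift β' (-2) (by simp) (-1) 0 (by simp), hβ', hg]
  simp

lemma lemC {K J' J : CochainComplex A ℤ} (t : J' ⟶ J) (s : ∀ q, J.X q ⟶ J'.X q)
    (hs : ∀ q, s q ≫ t.f q = 𝟙 _) {n : ℤ} (ε : Cochain K J n) :
    ∃ ε' : Cochain K J' n, ε'.comp (Cochain.ofHom t) (add_zero n) = ε := by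
  refine ⟨Cochain.mk (fun p q hpq => ε.v p q hpq ≫ s q), ?_⟩
  ext p q hpq
  simp [hs]

lemma step {K J' J : CochainComplex A ℤ} [J'.IsKInjective] [J.IsKInjective] (hK : K.Acyclic)
    (t : J' ⟶ J) (hsplit : ∀ q, IsSplitEpi (t.f q)) (g' : K ⟶ J') (g : K ⟶ J) (hg : g' ≫ t = g)
    (α : Cochain K J (-1)) (hα : δ (-1) 0 α = Cochain.ofHom g) :
    ∃ α' : Cochain K J' (-1), δ (-1) 0 α' = Cochain.ofHom g' ∧
      α'.comp (Cochain.ofHom t) (add_zero _) = α := by
  obtain ⟨β, hβ⟩ := lemA hK g'
  have hγ : δ (-1) 0 (β.comp (Cochain.ofHom t) (add_zero _) - α) = 0 := by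
    rw [δ_sub, δ_comp_ofHom, hβ, hα, ← hg, Cochain.ofHom_comp, sub_self]
  obtain ⟨ε, hε⟩ := lemB hK _ hγ
  obtain ⟨ε', hε'⟩ := lemC t (fun q => @section_ _ _ _ _ (t.f q) (hsplit q))
    (fun q => @IsSplitEpi.id _ _ _ _ (t.f q) (hsplit q)) ε
  refine ⟨β - δ (-2) (-1) ε', ?_, ?_⟩
  · rw [δ_sub, δ_δ, sub_zero, hβ]
  · rw [Cochain.sub_comp, ← δ_comp_ofHom, hε', hε]; abel

lemma main {K L : CochainComplex A ℤ} (hK : K.Acyclic) (f : K ⟶ L)
    (J : ℕ → CochainComplex A ℤ) (hJ : ∀ n, (J n).IsKInjective)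
    (t : ∀ n, J (n+1) ⟶ J n) (ht : ∀ n q, IsSplitEpi ((t n).f q))
    (π : ∀ n, L ⟶ J n) (hπ : ∀ n, π (n+1) ≫ t n = π n) :
    ∃ a : ∀ n, Cochain K (J n) (-1), (∀ n, δ (-1) 0 (a n) = Cochain.ofHom (f ≫ π n)) ∧
      ∀ n, (a (n+1)).comp (Cochain.ofHom (t n)) (add_zero _) = a n := by
  let S : ℕ → Type _ := fun n =>
    {α : Cochain K (J n) (-1) // δ (-1) 0 α = Cochain.ofHom (f ≫ π n)}
  have hstep : ∀ n (a : S n), ∃ a' : S (n+1),
      a'.1.comp (Cochain.ofHom (t n)) (add_zero _) = a.1 := by
    intro n a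
    have := hJ n
    have := hJ (n+1)
    obtain ⟨α', h1', h2'⟩ := step hK (t n) (ht n) (f ≫ π (n+1)) (f ≫ π n)
      (by rw [Category.assoc, hπ]) a.1 a.2
    exact ⟨⟨α', h1'⟩, h2'⟩
  have h0 : Nonempty (S 0) := by
    have := hJ 0
    obtain ⟨β, hβ⟩ := lemA hK (f ≫ π 0)
    exact ⟨⟨β, hβ⟩⟩
  let seq : ∀ n, S n := fun n => Nat.rec h0.some (fun n a => (hstep n a).choose) n
  exact ⟨fun n => (seq n).1, fun n => (seq n).2, fun n => (hstep n (seq n)).choose_spec⟩

end helpers

open CategoryTheory.Limits Opposite in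
/-- Let … → I_3 → I_2 → I_1 be an inverse system of K-injective cochain complexes in an abelian category
with sequential limits, such that each transition map is a split epimorphism in each degree. Then
the (termwise) limit complex is K-injective. -/
theorem result {A : Type u} [Category.{v} A] [Abelian A] [HasLimitsOfShape ℕᵒᵖ A]
    (I : ℕᵒᵖ ⥤ CochainComplex A ℤ) (h1 : ∀ n : ℕ, (I.obj (op n)).IsKInjective)
    (h2 : ∀ (n : ℕ) (m : ℤ), IsSplitEpi ((I.map (homOfLE (Nat.le_succ n)).op).f m)) :
    (limit I).IsKInjective := by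
  refine ⟨fun {K} f hK => ?_⟩
  obtain ⟨a, ha1, ha2⟩ := main hK f (fun n => I.obj (op n)) h1
    (fun n => I.map (homOfLE (Nat.le_succ n)).op) h2 (fun n => limit.π I (op n))
    (fun n => limit.w I _)
  have compat : ∀ (n m : ℕ) (h : n ≤ m),
      (a m).comp (CochainComplex.HomComplex.Cochain.ofHom (I.map (homOfLE h).op)) (add_zero _)
        = a n := by
    intro n m h
    induction m, h using Nat.le_induction with
    | base =>
      have : (homOfLE (le_refl n)).op = 𝟙 (op n) := Subsingleton.elim _ _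
      rw [this, I.map_id]
      exact CochainComplex.HomComplex.Cochain.comp_id _
    | succ m h ih =>
      have : (homOfLE (h.trans (Nat.le_succ m))).op
          = (homOfLE (Nat.le_succ m)).op ≫ (homOfLE h).op := Subsingleton.elim _ _
      rw [this, I.map_comp, CochainComplex.HomComplex.Cochain.ofHom_comp,
        ← CochainComplex.HomComplex.Cochain.comp_assoc_of_second_is_zero_cochain]
      rw [ha2 m, ih]
  have key : ∀ (p q : ℤ) (hpq : p + (-1) = q), ∃ φ : K.X p ⟶ (limit I).X q,
      ∀ n, φ ≫ (limit.π I (op n)).f q = (a n).v p q hpq := by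
    intro p q hpq
    let c : Cone (I ⋙ HomologicalComplex.eval A (ComplexShape.up ℤ) q) :=
      { pt := K.X p
        π := { app := fun j => (a j.unop).v p q hpq
               naturality := by
                 intro j j' φ
                 have hle : j'.unop ≤ j.unop := leOfHom φ.unop
                 have hφ : φ = (homOfLE hle).op := Subsingleton.elim _ _
                 have := CochainComplex.HomComplex.Cochain.congr_v (compat _ _ hle) p q hpq
                 simp only [CochainComplex.HomComplex.Cochain.comp_zero_cochain_v,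
                   CochainComplex.HomComplex.Cochain.ofHom_v] at this
                 dsimp
                 rw [Category.id_comp, hφ]
                 exact this.symm } }
    let hl := isLimitOfPreserves (HomologicalComplex.eval A (ComplexShape.up ℤ) q)
      (limit.isLimit I)
    exact ⟨hl.lift c, fun n => hl.fac c (op n)⟩
  choose φ hφ using key
  let α : CochainComplex.HomComplex.Cochain K (limit I) (-1) :=
    CochainComplex.HomComplex.Cochain.mk φ
  have hα : ∀ n, α.comp (CochainComplex.HomComplex.Cochain.ofHom (limit.π I (op n)))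
      (add_zero _) = a n := by
    intro n
    ext p q hpq
    simp [α, hφ]
  have jm : ∀ {m : ℤ} (z₁ z₂ : CochainComplex.HomComplex.Cochain K (limit I) m),
      (∀ n, z₁.comp (CochainComplex.HomComplex.Cochain.ofHom (limit.π I (op n))) (add_zero m)
        = z₂.comp (CochainComplex.HomComplex.Cochain.ofHom (limit.π I (op n))) (add_zero m)) →
      z₁ = z₂ := by
    intro m z₁ z₂ h
    ext p q hpq
    apply (isLimitOfPreserves (HomologicalComplex.eval A (ComplexShape.up ℤ) q)
      (limit.isLimit I)).hom_ext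
    intro j
    have := CochainComplex.HomComplex.Cochain.congr_v (h j.unop) p q hpq
    simp at this
    simp
    exact this
  have hδ : CochainComplex.HomComplex.δ (-1) 0 α
      = CochainComplex.HomComplex.Cochain.ofHom f := by
    apply jm
    intro n
    rw [← CochainComplex.HomComplex.δ_comp_ofHom, hα, ha1,
      CochainComplex.HomComplex.Cochain.ofHom_comp]
  exact ⟨(CochainComplex.HomComplex.Cochain.equivHomotopy f 0).symm ⟨α, by simp [hδ]⟩⟩

end Groth.Agent.S0489
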