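import Groth.Statements.S0490
import Mathlib

set_option autoImplicit false
universe v u
open CategoryTheory
open CohDer

namespace Groth.Agent.S0490

section aux
open CategoryTheory.Limits CategoryTheory.Pretriangulated

variable {D : Type u} [Category.{v} D] [Preadditive D] [HasZeroObject D] [HasShift D ℤ]
    [∀ n : ℤ, (shiftFunctor D n).Additive] [Pretriangulated D]

theorem bijective_of_rightOrthogonal (P : ObjectProperty D) [P.IsStableUnderShift ℤ]
    (T : Triangle D) (hT : T ∈ distinguishedTriangles)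
    (hB : P.rightOrthogonal T.obj₃) (A : D) (hA : P A) :
    Function.Bijective (fun u : A ⟶ T.obj₁ => u ≫ T.mor₁) := by
  constructor
  · intro u₁ u₂ h
    dsimp only at h
    have h0 : (u₁ - u₂) ≫ T.mor₁ = 0 := by rw [Preadditive.sub_comp, h, sub_self]
    have h1 : (shiftFunctor D (1:ℤ)).map (u₁ - u₂) ≫ (shiftFunctor D (1:ℤ)).map T.mor₁ = 0 := by
      rw [← CategoryTheory.Functor.map_comp, h0, CategoryTheory.Functor.map_zero]
    obtain ⟨g, hg⟩ := Triangle.coyoneda_exact₁ T hT _ h1
    have hA1 : P ((shiftFunctor D (1:ℤ)).obj A) := P.le_shift 1 _ hA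
    have hg0 : g = 0 := hB g hA1
    rw [hg0, zero_comp] at hg
    have h2 : (shiftFunctor D (1:ℤ)).map (u₁ - u₂) = (shiftFunctor D (1:ℤ)).map 0 := by
      rw [hg, CategoryTheory.Functor.map_zero]
    exact sub_eq_zero.mp ((shiftFunctor D (1:ℤ)).map_injective h2)
  · intro v
    have h0 : v ≫ T.mor₂ = 0 := hB _ hA
    obtain ⟨g, hg⟩ := Triangle.coyoneda_exact₂ T hT v h0
    exact ⟨g, hg.symm⟩

theorem rightOrthogonal_of_bijective (P : ObjectProperty D) [P.IsStableUnderShift ℤ]
    (T : Triangle D) (hT : T ∈ distinguishedTriangles)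
    (h : ∀ A : D, P A → Function.Bijective (fun u : A ⟶ T.obj₁ => u ≫ T.mor₁)) :
    P.rightOrthogonal T.obj₃ := by
  intro Y f hY
  have hY' : P ((shiftFunctor D (-1:ℤ)).obj Y) := P.le_shift (-1) _ hY
  let i := shiftNegShift Y (1:ℤ)
  obtain ⟨w, hw⟩ := (shiftFunctor D (1:ℤ)).map_surjective (i.hom ≫ f ≫ T.mor₃)
  have h1 : (shiftFunctor D (1:ℤ)).map (w ≫ T.mor₁) = (shiftFunctor D (1:ℤ)).map 0 := by
    rw [CategoryTheory.Functor.map_comp, hw, Category.assoc, Category.assoc,
      comp_distTriang_mor_zero₃₁ _ hT, comp_zero, comp_zero, CategoryTheory.Functor.map_zero]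
  have h2 : w ≫ T.mor₁ = 0 := (shiftFunctor D (1:ℤ)).map_injective h1
  have hw0 : w = 0 := by
    apply (h _ hY').1
    dsimp only
    rw [h2, zero_comp]
  have h3 : f ≫ T.mor₃ = 0 := by
    have : i.hom ≫ f ≫ T.mor₃ = 0 := by rw [← hw, hw0, CategoryTheory.Functor.map_zero]
    exact (cancel_epi i.hom).1 (by rw [this, comp_zero])
  obtain ⟨g, hg⟩ := Triangle.coyoneda_exact₃ T hT f h3
  obtain ⟨g', hg'⟩ := (h Y hY).2 g
  dsimp only at hg'
  rw [hg, ← hg', Category.assoc, comp_distTriang_mor_zero₁₂ _ hT, comp_zero]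

end aux


open CategoryTheory.Pretriangulated in
/-- Let A be a full triangulated subcategory of a pretriangulated category D (an object property
containing zero, stable under shifts and closed under extensions). The inclusion A → D is a left
adjoint (i.e. has a right adjoint) if and only if every object X of D fits in a distinguished
triangle A → X → B → A[1] with A in the subcategory and B right orthogonal to it. (The source's
further conclusions about saturation are not asserted.) -/
theorem result {D : Type u} [Category.{v} D] [Preadditive D] [Limits.HasZeroObject D] [HasShift D ℤ]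
    [∀ n : ℤ, (shiftFunctor D n).Additive] [Pretriangulated D]
    (P : ObjectProperty D) [P.IsTriangulated] :
    P.ι.IsLeftAdjoint ↔ ∀ X : D, ∃ (A B : D) (f : A ⟶ X) (g : X ⟶ B) (h : B ⟶ (shiftFunctor D (1 : ℤ)).obj A),
      Triangle.mk f g h ∈ distinguishedTriangles ∧ P A ∧ P.rightOrthogonal B := by
  constructor
  · intro hL X
    let R := P.ι.rightAdjoint
    let adj : P.ι ⊣ R := Adjunction.ofIsLeftAdjoint P.ι
    obtain ⟨B, g, h, hT⟩ := Pretriangulated.distinguished_cocone_triangle (adj.counit.app X)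
    refine ⟨(R.obj X).obj, B, adj.counit.app X, g, h, hT, (R.obj X).property, ?_⟩
    apply rightOrthogonal_of_bijective P (Pretriangulated.Triangle.mk (adj.counit.app X) g h) hT
    intro A' hA'
    let Y : P.FullSubcategory := ⟨A', hA'⟩
    constructor
    · intro u₁ u₂ hu
      dsimp only [Pretriangulated.Triangle.mk_obj₁, Pretriangulated.Triangle.mk_mor₁] at hu u₁ u₂
      obtain ⟨v₁, hv₁⟩ := P.ι.map_surjective (X := Y) (Y := R.obj X) u₁
      obtain ⟨v₂, hv₂⟩ := P.ι.map_surjective (X := Y) (Y := R.obj X) u₂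
      have hv : v₁ = v₂ := by
        apply (adj.homEquiv Y X).symm.injective
        rw [Adjunction.homEquiv_counit, Adjunction.homEquiv_counit, hv₁, hv₂]
        exact hu
      rw [← hv₁, ← hv₂, hv]
    · intro (v : P.ι.obj Y ⟶ X)
      refine ⟨P.ι.map ((adj.homEquiv Y X) v), ?_⟩
      show P.ι.map ((adj.homEquiv Y X) v) ≫ adj.counit.app X = v
      have h5 := adj.homEquiv_counit (X := Y) (Y := X) (g := adj.homEquiv Y X v)
      rw [Equiv.symm_apply_apply] at h5
      exact h5.symm
  · intro hex
    choose A B f g h hT hA hB using hex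
    let φ : ∀ (Y : P.FullSubcategory) (X : D),
        (Y ⟶ (⟨A X, hA X⟩ : P.FullSubcategory)) ≃ (P.ι.obj Y ⟶ X) :=
      fun Y X => Equiv.ofBijective (fun u => P.ι.map u ≫ f X) (by
        have h1 := bijective_of_rightOrthogonal P
          (Pretriangulated.Triangle.mk (f X) (g X) (h X)) (hT X) (hB X) Y.obj Y.property
        have h2 : Function.Bijective
            (fun u : Y ⟶ (⟨A X, hA X⟩ : P.FullSubcategory) => P.ι.map u) :=
          P.fullyFaithfulι.map_bijective _ _
        exact h1.comp h2)
    let e : ∀ (Y : P.FullSubcategory) (X : D),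
        (P.ι.obj Y ⟶ X) ≃ (Y ⟶ (⟨A X, hA X⟩ : P.FullSubcategory)) := fun Y X => (φ Y X).symm
    have he : ∀ (Y' Y : P.FullSubcategory) (X : D) (k : Y' ⟶ Y) (u : P.ι.obj Y ⟶ X),
        e Y' X (P.ι.map k ≫ u) = k ≫ e Y X u := by
      intro Y' Y X k u
      apply (φ Y' X).injective
      show φ Y' X ((φ Y' X).symm (P.ι.map k ≫ u)) = φ Y' X (k ≫ (φ Y X).symm u)
      rw [Equiv.apply_symm_apply]
      show P.ι.map k ≫ u = P.ι.map (k ≫ (φ Y X).symm u) ≫ f X
      rw [CategoryTheory.Functor.map_comp, Category.assoc]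
      congr 1
      exact ((φ Y X).apply_symm_apply u).symm
    exact (Adjunction.adjunctionOfEquivRight e he).isLeftAdjoint

end Groth.Agent.S0490
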