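import Groth.Statements.S0495
import Mathlib

set_option autoImplicit false
universe u
open Hensel

namespace Groth.Agent.S0495

/-- A local ring whose Krull dimension is zero is henselian. -/
theorem result (R : Type u) [CommRing R] [IsLocalRing R]
    (h : ringKrullDim R = 0) : HenselianLocalRing R := by
  have hdim : Ring.KrullDimLE 0 R := (Ring.krullDimLE_iff).mpr (by rw [h]; rfl)
  constructor
  intro f hf a₀ h₁ h₂
  have hnil : IsNilpotent (Polynomial.aeval a₀ f) := by
    rw [Ring.KrullDimLE.isNilpotent_iff_mem_maximalIdeal]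
    simpa [Polynomial.aeval_def] using h₁
  have hunit : IsUnit (Polynomial.aeval a₀ (Polynomial.derivative f)) := by
    simpa [Polynomial.aeval_def] using h₂
  obtain ⟨r, ⟨hr1, hr2⟩, -⟩ := Polynomial.existsUnique_nilpotent_sub_and_aeval_eq_zero hnil hunit
  refine ⟨r, ?_, ?_⟩
  · simpa [Polynomial.IsRoot, Polynomial.aeval_def] using hr2
  · rw [← neg_sub, Ideal.neg_mem_iff]
    exact Ring.KrullDimLE.isNilpotent_iff_mem_maximalIdeal.mp hr1

end Groth.Agent.S0495
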