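import Groth.Statements.S0496
import Mathlib
-- import your own Groth.Agent.* helpers here

set_option autoImplicit false
universe u
open Hensel

namespace Groth.Agent.S0496


open Polynomial IsLocalRing in
lemma mk_mem_smul_top {R : Type u} [CommRing R] [IsLocalRing R] (f q : R[X])
    (hq : q.map (residue R) = 0) :
    AdjoinRoot.mk f q ∈ (maximalIdeal R) • (⊤ : Submodule R (AdjoinRoot f)) := by
  have hsum : AdjoinRoot.mk f q
      = ∑ i ∈ Finset.range (q.natDegree + 1), AdjoinRoot.mk f (monomial i (q.coeff i)) := by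
    conv_lhs => rw [q.as_sum_range]
    rw [map_sum]
  rw [hsum]
  refine Submodule.sum_mem _ fun i _ => ?_
  have hc : q.coeff i ∈ maximalIdeal R := by
    have h1 := congrArg (fun p => p.coeff i) hq
    simp only [coeff_map, coeff_zero] at h1
    exact (residue_eq_zero_iff _).mp h1
  have h2 : AdjoinRoot.mk f (monomial i (q.coeff i))
      = (q.coeff i) • (AdjoinRoot.root f) ^ i := by
    rw [← C_mul_X_pow_eq_monomial, map_mul, map_pow, AdjoinRoot.mk_C, AdjoinRoot.mk_X,
      Algebra.smul_def, AdjoinRoot.algebraMap_eq]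
  rw [h2]
  exact Submodule.smul_mem_smul hc Submodule.mem_top

lemma smul_top_mul {R : Type u} [CommRing R] {B : Type u} [CommRing B] [Algebra R B]
    (I : Ideal R) {x : B} (hx : x ∈ I • (⊤ : Submodule R B)) (b : B) :
    x * b ∈ I • (⊤ : Submodule R B) := by
  refine Submodule.smul_induction_on hx (fun r hr n _ => ?_) (fun x y hx hy => ?_)
  · rw [smul_mul_assoc]
    exact Submodule.smul_mem_smul hr Submodule.mem_top
  · rw [add_mul]
    exact Submodule.add_mem _ hx hy

/-- If every factorization of the reduction of a monic polynomial into two coprime factors over the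
residue field lifts to a factorization over the local ring, then the local ring is henselian. -/
theorem result (R : Type u) [CommRing R] [IsLocalRing R]
    (h : ∀ f : Polynomial R, f.Monic →
      ∀ g₀ h₀ : Polynomial (IsLocalRing.ResidueField R), IsCoprime g₀ h₀ →
      Polynomial.map (IsLocalRing.residue R) f = g₀ * h₀ →
      ∃ g h : Polynomial R, f = g * h ∧ Polynomial.map (IsLocalRing.residue R) g = g₀ ∧
        Polynomial.map (IsLocalRing.residue R) h = h₀) :
    HenselianLocalRing R := by
  have hlift := h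
  clear h
  refine { is_henselian := fun f hf a₀ h₁ h₂ => ?_ }
  classical
  have hroot : (f.map (IsLocalRing.residue R)).IsRoot (IsLocalRing.residue R a₀) := by
    rw [Polynomial.IsRoot.def, Polynomial.eval_map_apply]
    exact (IsLocalRing.residue_eq_zero_iff _).mpr h₁
  obtain ⟨h₀, hh₀⟩ := Polynomial.dvd_iff_isRoot.mpr hroot
  have hder : (f.map (IsLocalRing.residue R)).derivative.eval (IsLocalRing.residue R a₀) ≠ 0 := by
    rw [Polynomial.derivative_map, Polynomial.eval_map_apply]
    exact (IsLocalRing.residue_ne_zero_iff_isUnit _).mpr h₂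
  have hh₀ne : h₀.eval (IsLocalRing.residue R a₀) ≠ 0 := by
    intro h0
    apply hder
    rw [hh₀, Polynomial.derivative_mul]
    simp [h0]
  have hcop : IsCoprime (Polynomial.X - Polynomial.C (IsLocalRing.residue R a₀)) h₀ := by
    rw [(Polynomial.irreducible_X_sub_C _).coprime_iff_not_dvd]
    intro hd
    exact hh₀ne (Polynomial.dvd_iff_isRoot.mp hd)
  obtain ⟨g, q, hfgq, hg, hq⟩ := hlift f hf _ h₀ hcop hh₀
  haveI : Module.Finite R (AdjoinRoot f) := hf.finite_adjoinRoot
  have hgq : AdjoinRoot.mk f g * AdjoinRoot.mk f q = 0 := by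
    rw [← map_mul, ← hfgq, AdjoinRoot.mk_self]
  have hJac : IsLocalRing.maximalIdeal R ≤ Ideal.jacobson ⊥ :=
    (IsLocalRing.jacobson_eq_maximalIdeal ⊥ bot_ne_top).ge
  -- Bezout in B
  obtain ⟨u, v, huv1⟩ : ∃ u v : AdjoinRoot f,
      u * AdjoinRoot.mk f g + v * AdjoinRoot.mk f q = 1 := by
    obtain ⟨ub, vb, huv⟩ := hcop
    obtain ⟨u₀, rfl⟩ := Polynomial.map_surjective _ IsLocalRing.residue_surjective ub
    obtain ⟨v₀, rfl⟩ := Polynomial.map_surjective _ IsLocalRing.residue_surjective vb
    have hδ : (u₀ * g + v₀ * q - 1).map (IsLocalRing.residue R) = 0 := by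
      rw [Polynomial.map_sub, Polynomial.map_add, Polynomial.map_mul, Polynomial.map_mul, hg, hq,
        huv, Polynomial.map_one, sub_self]
    have hδM := mk_mem_smul_top f _ hδ
    have htop : (⊤ : Submodule R (AdjoinRoot f))
        ≤ (Ideal.span {AdjoinRoot.mk f g, AdjoinRoot.mk f q}).restrictScalars R := by
      apply Submodule.le_of_le_smul_of_le_jacobson_bot Module.Finite.fg_top hJac
      intro b _
      have hb : b = b * (AdjoinRoot.mk f u₀ * AdjoinRoot.mk f g
          + AdjoinRoot.mk f v₀ * AdjoinRoot.mk f q)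
          - AdjoinRoot.mk f (u₀ * g + v₀ * q - 1) * b := by
        simp only [map_sub, map_add, map_mul, map_one]; ring
      rw [hb]
      refine Submodule.sub_mem _ (Submodule.mem_sup_left ?_) (Submodule.mem_sup_right ?_)
      · rw [Submodule.restrictScalars_mem]
        refine Ideal.mul_mem_left _ _ (Ideal.add_mem _ (Ideal.mul_mem_left _ _ ?_)
          (Ideal.mul_mem_left _ _ ?_))
        · exact Ideal.subset_span (by simp)
        · exact Ideal.subset_span (by simp)
      · exact smul_top_mul _ hδM b
    have h1J : (1 : AdjoinRoot f) ∈ Ideal.span {AdjoinRoot.mk f g, AdjoinRoot.mk f q} :=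
      (Submodule.restrictScalars_mem R _ _).mp (htop Submodule.mem_top)
    exact Ideal.mem_span_pair.mp h1J
  -- the idempotent
  obtain ⟨e, he_def⟩ : ∃ e : AdjoinRoot f, e = v * AdjoinRoot.mk f q := ⟨_, rfl⟩
  have h1e : 1 - e = u * AdjoinRoot.mk f g := by rw [← huv1, he_def]; ring
  have he : e * e = e := by
    linear_combination (-e) * h1e + (-(v * u)) * hgq + (-(u * AdjoinRoot.mk f g)) * he_def
  -- e * D ∈ m B
  have hD : e * AdjoinRoot.mk f (Polynomial.X - Polynomial.C a₀)
      ∈ (IsLocalRing.maximalIdeal R) • (⊤ : Submodule R (AdjoinRoot f)) := by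
    have h3 : (q * (Polynomial.X - Polynomial.C a₀) - f).map (IsLocalRing.residue R) = 0 := by
      rw [Polynomial.map_sub, Polynomial.map_mul, hq, hh₀, Polynomial.map_sub, Polynomial.map_X,
        Polynomial.map_C]
      ring
    have h4 := mk_mem_smul_top f _ h3
    rw [map_sub, AdjoinRoot.mk_self, sub_zero, map_mul] at h4
    have h5 := smul_top_mul _ h4 v
    have h6 : e * AdjoinRoot.mk f (Polynomial.X - Polynomial.C a₀)
        = AdjoinRoot.mk f q * AdjoinRoot.mk f (Polynomial.X - Polynomial.C a₀) * v := by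
      rw [he_def]; ring
    rw [h6]
    exact h5
  -- the map to the residue field
  have hφ0 : f.eval₂ (IsLocalRing.residue R) (IsLocalRing.residue R a₀) = 0 := by
    rw [← Polynomial.eval_map]; exact hroot
  have hφg : AdjoinRoot.lift (IsLocalRing.residue R) (IsLocalRing.residue R a₀) hφ0
      (AdjoinRoot.mk f g) = 0 := by
    rw [AdjoinRoot.lift_mk, ← Polynomial.eval_map, hg]
    simp
  have hφe : AdjoinRoot.lift (IsLocalRing.residue R) (IsLocalRing.residue R a₀) hφ0 e = 1 := by
    have h7 : e = 1 - u * AdjoinRoot.mk f g := by rw [← h1e]; ring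
    rw [h7, map_sub, map_one, map_mul, hφg, mul_zero, sub_zero]
  -- Nakayama: e B = R e
  have hemul : ∀ x ∈ (IsLocalRing.maximalIdeal R) • (⊤ : Submodule R (AdjoinRoot f)),
      e * x ∈ (IsLocalRing.maximalIdeal R) • LinearMap.range (LinearMap.mulLeft R e) := by
    intro x hx
    refine Submodule.smul_induction_on hx (fun r hr n _ => ?_) (fun x y hx hy => ?_)
    · rw [mul_smul_comm]
      exact Submodule.smul_mem_smul hr ⟨n, rfl⟩
    · rw [mul_add]
      exact Submodule.add_mem _ hx hy
  have hNfg : (LinearMap.range (LinearMap.mulLeft R e)).FG := by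
    rw [LinearMap.range_eq_map]
    exact Module.Finite.fg_top.map _
  have hNle : LinearMap.range (LinearMap.mulLeft R e) ≤ Submodule.span R {e} := by
    apply Submodule.le_of_le_smul_of_le_jacobson_bot hNfg hJac
    rintro _ ⟨b, rfl⟩
    rw [LinearMap.mulLeft_apply]
    obtain ⟨p, rfl⟩ := AdjoinRoot.mk_surjective b
    have hp := Polynomial.modByMonic_add_div p (Polynomial.X - Polynomial.C a₀)
    rw [Polynomial.modByMonic_X_sub_C_eq_C_eval] at hp
    have h8 : e * AdjoinRoot.mk f p = (p.eval a₀) • e
        + e * (e * AdjoinRoot.mk f (Polynomial.X - Polynomial.C a₀)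
          * AdjoinRoot.mk f (p /ₘ (Polynomial.X - Polynomial.C a₀))) := by
      conv_lhs => rw [← hp]
      rw [map_add, map_mul, AdjoinRoot.mk_C, Algebra.smul_def, AdjoinRoot.algebraMap_eq]
      linear_combination (-(AdjoinRoot.mk f (Polynomial.X - Polynomial.C a₀)
        * AdjoinRoot.mk f (p /ₘ (Polynomial.X - Polynomial.C a₀)))) * he
    rw [h8]
    refine Submodule.add_mem _ (Submodule.mem_sup_left
      (Submodule.smul_mem _ _ (Submodule.mem_span_singleton_self e))) (Submodule.mem_sup_right ?_)
    exact hemul _ (smul_top_mul _ hD _)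
  obtain ⟨a, ha⟩ := Submodule.mem_span_singleton.mp
    (hNle ⟨AdjoinRoot.root f, rfl⟩)
  rw [LinearMap.mulLeft_apply] at ha
  -- polynomials act on e through a
  have hpow : ∀ n : ℕ, AdjoinRoot.root f ^ n * e = a ^ n • e := by
    intro n
    induction n with
    | zero => simp
    | succ n ih =>
      calc AdjoinRoot.root f ^ (n + 1) * e
          = AdjoinRoot.root f ^ n * (e * AdjoinRoot.root f) := by ring
        _ = AdjoinRoot.root f ^ n * (a • e) := by rw [ha]
        _ = a • (AdjoinRoot.root f ^ n * e) := by rw [mul_smul_comm]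
        _ = a ^ (n + 1) • e := by rw [ih, smul_smul, pow_succ, mul_comm]
  have hmk : ∀ p : Polynomial R, AdjoinRoot.mk f p * e = p.eval a • e := by
    intro p
    induction p using Polynomial.induction_on' with
    | add p q hp hq => rw [map_add, add_mul, hp, hq, Polynomial.eval_add, add_smul]
    | monomial n c =>
      rw [← Polynomial.C_mul_X_pow_eq_monomial, map_mul, map_pow, AdjoinRoot.mk_C, AdjoinRoot.mk_X,
        mul_assoc, hpow, Polynomial.eval_mul, Polynomial.eval_C, Polynomial.eval_pow,
        Polynomial.eval_X, ← smul_smul, Algebra.smul_def c, AdjoinRoot.algebraMap_eq]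
  have hfa : f.eval a • e = 0 := by
    rw [← hmk f, AdjoinRoot.mk_self, zero_mul]
  -- a coordinate of e is a unit
  obtain ⟨i, hi⟩ : ∃ i, (AdjoinRoot.powerBasis' hf).basis.repr e i ∉ IsLocalRing.maximalIdeal R := by
    by_contra hall
    push_neg at hall
    have h9 : AdjoinRoot.lift (IsLocalRing.residue R) (IsLocalRing.residue R a₀) hφ0 e = 0 := by
      rw [← (AdjoinRoot.powerBasis' hf).basis.sum_repr e, map_sum]
      refine Finset.sum_eq_zero fun i _ => ?_
      rw [Algebra.smul_def, map_mul, AdjoinRoot.algebraMap_eq, AdjoinRoot.lift_of,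
        (IsLocalRing.residue_eq_zero_iff _).mpr (hall i), zero_mul]
    rw [hφe] at h9
    exact one_ne_zero h9
  have hu : IsUnit ((AdjoinRoot.powerBasis' hf).basis.repr e i) :=
    IsLocalRing.notMem_maximalIdeal.mp hi
  have hfa0 : f.eval a = 0 := by
    have h10 := congrArg (fun x => (AdjoinRoot.powerBasis' hf).basis.repr x i) hfa
    simp only [map_smul, Finsupp.smul_apply, smul_eq_mul, map_zero, Finsupp.zero_apply] at h10
    exact hu.mul_left_eq_zero.mp h10
  refine ⟨a, hfa0, ?_⟩
  have h11 := congrArg (AdjoinRoot.lift (IsLocalRing.residue R) (IsLocalRing.residue R a₀) hφ0) ha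
  rw [Algebra.smul_def, map_mul, map_mul, AdjoinRoot.algebraMap_eq, AdjoinRoot.lift_of, hφe,
    AdjoinRoot.lift_root, mul_one, one_mul] at h11
  rw [← IsLocalRing.residue_eq_zero_iff, map_sub, h11, sub_self]

end Groth.Agent.S0496
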