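import Groth.Statements.S0498
import Mathlib

set_option autoImplicit false
universe u
open Hensel

namespace Groth.Agent.S0498

open Polynomial in
theorem hensel_aux (R : Type u) [CommRing R] [HenselianLocalRing R] (g : Polynomial R)
    (h0 : g.coeff 0 ∈ IsLocalRing.maximalIdeal R) (h1 : IsUnit (g.coeff 1)) :
    ∃ x ∈ IsLocalRing.maximalIdeal R, g.eval x = 0 := by
  have hn : 1 ≤ g.natDegree := Polynomial.le_natDegree_of_ne_zero h1.ne_zero
  obtain ⟨m, hm⟩ : ∃ m, g.natDegree = m + 1 := ⟨g.natDegree - 1, by omega⟩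
  obtain ⟨c, hc⟩ : ∃ c : ℕ → R, c = fun i => g.coeff i := ⟨_, rfl⟩
  have hc0 : c 0 ∈ IsLocalRing.maximalIdeal R := by rw [hc]; exact h0
  have hc1 : IsUnit (c 1) := by rw [hc]; exact h1
  obtain ⟨s, hs⟩ : ∃ s : Polynomial R, s = ∑ i ∈ Finset.range m,
      Polynomial.C (c (i+2) * c 0 ^ i) * Polynomial.X ^ (m - 1 - i) := ⟨_, rfl⟩
  obtain ⟨q, hq⟩ : ∃ q : Polynomial R, q = Polynomial.X ^ (m+1) +
      (Polynomial.C (c 1) * Polynomial.X ^ m + Polynomial.C (c 0) * s) := ⟨_, rfl⟩
  have hqm : q.Monic := by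
    rw [hq]
    apply Polynomial.monic_X_pow_add
    rw [Polynomial.degree_lt_iff_coeff_zero]
    intro j hj
    have hj' : m + 1 ≤ j := by exact_mod_cast hj
    rw [hs]
    simp only [Polynomial.coeff_add, Polynomial.coeff_C_mul, Polynomial.coeff_X_pow,
      Polynomial.finsetSum_coeff, mul_ite, mul_one, mul_zero]
    rw [if_neg (by omega), Finset.sum_eq_zero (fun i hi => if_neg (by omega))]
    simp
  obtain ⟨w₀, hw₀⟩ : ∃ w₀ : R, w₀ = - c 1 := ⟨_, rfl⟩
  have hw₀u : IsUnit w₀ := by rw [hw₀]; exact hc1.neg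
  have e0 : q.eval w₀ ∈ IsLocalRing.maximalIdeal R := by
    have : q.eval w₀ = c 0 * s.eval w₀ := by
      rw [hq]
      simp only [Polynomial.eval_add, Polynomial.eval_mul, Polynomial.eval_pow, Polynomial.eval_X,
        Polynomial.eval_C]
      rw [hw₀]
      ring
    rw [this]
    exact Ideal.mul_mem_right _ _ hc0
  have e1 : IsUnit (q.derivative.eval w₀) := by
    have : q.derivative.eval w₀ = w₀ ^ m + c 0 * s.derivative.eval w₀ := by
      rw [hq]
      simp only [Polynomial.derivative_add, Polynomial.derivative_mul, Polynomial.derivative_X_pow,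
        Polynomial.derivative_C, Polynomial.eval_add, Polynomial.eval_mul, Polynomial.eval_pow,
        Polynomial.eval_X, Polynomial.eval_C, Polynomial.eval_natCast, zero_mul, zero_add]
      rcases Nat.eq_zero_or_pos m with rfl | hmpos
      · simp
      · obtain ⟨m', rfl⟩ : ∃ m', m = m' + 1 := ⟨m - 1, by omega⟩
        rw [hw₀]
        simp only [Nat.add_sub_cancel]
        push_cast
        ring
    rw [this, ← IsLocalRing.notMem_maximalIdeal]
    intro hmem
    have h2 : w₀ ^ m ∈ IsLocalRing.maximalIdeal R := by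
      have := Ideal.sub_mem _ hmem (Ideal.mul_mem_right (s.derivative.eval w₀) _ hc0)
      simpa using this
    exact (IsLocalRing.notMem_maximalIdeal.mpr (hw₀u.pow m)) h2
  obtain ⟨w, hw, hww₀⟩ := HenselianLocalRing.is_henselian q hqm w₀ e0 e1
  have hwu : IsUnit w := by
    rw [← IsLocalRing.notMem_maximalIdeal]
    intro hmem
    have : w₀ ∈ IsLocalRing.maximalIdeal R := by
      have := Ideal.sub_mem _ hmem hww₀
      simpa using this
    exact (IsLocalRing.notMem_maximalIdeal.mpr hw₀u) this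
  obtain ⟨v, hv⟩ := hwu.exists_right_inv
  have hvw : ∀ k j : ℕ, v ^ (k + j) * w ^ j = v ^ k := by
    intro k j
    rw [pow_add, mul_assoc, ← mul_pow, mul_comm v w, hv, one_pow, mul_one]
  refine ⟨c 0 * v, Ideal.mul_mem_right _ _ hc0, ?_⟩
  have hroot : q.eval w = 0 := hw
  rw [hq, hs] at hroot
  simp only [Polynomial.eval_add, Polynomial.eval_mul, Polynomial.eval_pow, Polynomial.eval_X,
    Polynomial.eval_C, Polynomial.eval_finsetSum] at hroot
  rw [Polynomial.eval_eq_sum_range, hm, Finset.sum_range_succ', Finset.sum_range_succ']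
  have hcg : ∀ i, g.coeff i = c i := fun i => by rw [hc]
  simp only [hcg]
  have key : ∑ i ∈ Finset.range m, c (i + 1 + 1) * (c 0 * v) ^ (i + 1 + 1) + c (0 + 1) * (c 0 * v) ^ (0 + 1)
      + c 0 * (c 0 * v) ^ 0 = c 0 * v ^ (m + 1) * (w ^ (m + 1) + (c 1 * w ^ m + c 0 *
        ∑ i ∈ Finset.range m, c (i + 2) * c 0 ^ i * w ^ (m - 1 - i))) := by
    have t1 : c 0 * v ^ (m + 1) * w ^ (m + 1) = c 0 := by
      have := hvw 0 (m+1)
      rw [zero_add, pow_zero] at this
      rw [mul_assoc, this, mul_one]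
    have t2 : c 0 * v ^ (m + 1) * (c 1 * w ^ m) = c 1 * (c 0 * v) := by
      have := hvw 1 m
      rw [add_comm 1 m, pow_one] at this
      calc c 0 * v ^ (m + 1) * (c 1 * w ^ m) = c 1 * c 0 * (v ^ (m + 1) * w ^ m) := by ring
        _ = c 1 * (c 0 * v) := by rw [this]; ring
    have t3 : c 0 * v ^ (m + 1) * (c 0 * ∑ i ∈ Finset.range m, c (i + 2) * c 0 ^ i * w ^ (m - 1 - i))
        = ∑ i ∈ Finset.range m, c (i + 1 + 1) * (c 0 * v) ^ (i + 1 + 1) := by
      rw [Finset.mul_sum, Finset.mul_sum]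
      refine Finset.sum_congr rfl fun i hi => ?_
      have hi' : i < m := Finset.mem_range.mp hi
      have := hvw (i + 2) (m - 1 - i)
      rw [show i + 2 + (m - 1 - i) = m + 1 by omega] at this
      calc c 0 * v ^ (m + 1) * (c 0 * (c (i + 2) * c 0 ^ i * w ^ (m - 1 - i)))
          = c (i + 2) * c 0 ^ (i + 2) * (v ^ (m + 1) * w ^ (m - 1 - i)) := by ring
        _ = c (i + 1 + 1) * (c 0 * v) ^ (i + 1 + 1) := by rw [this]; ring
    rw [mul_add, mul_add, t1, t2, t3]
    ring
  rw [key, hroot, mul_zero]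


/-- Over a henselian local ring, a simple root in the residue field of the reduction of an arbitrary
polynomial (monic or not) lifts to a root in the ring. -/
theorem result (R : Type u) [CommRing R] [HenselianLocalRing R]
    (f : Polynomial R) (a₀ : IsLocalRing.ResidueField R)
    (h₁ : Polynomial.eval₂ (IsLocalRing.residue R) a₀ f = 0)
    (h₂ : Polynomial.eval₂ (IsLocalRing.residue R) a₀ (Polynomial.derivative f) ≠ 0) :
    ∃ a : R, Polynomial.IsRoot f a ∧ IsLocalRing.residue R a = a₀ := by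
  obtain ⟨a₁, rfl⟩ := IsLocalRing.residue_surjective a₀
  rw [Polynomial.eval₂_at_apply] at h₁ h₂
  have hg0 : (Polynomial.taylor a₁ f).coeff 0 ∈ IsLocalRing.maximalIdeal R := by
    rw [Polynomial.taylor_coeff_zero]
    exact (IsLocalRing.residue_eq_zero_iff _).mp h₁
  have hg1 : IsUnit ((Polynomial.taylor a₁ f).coeff 1) := by
    rw [Polynomial.taylor_coeff_one, ← IsLocalRing.notMem_maximalIdeal]
    intro hmem
    exact h₂ ((IsLocalRing.residue_eq_zero_iff _).mpr hmem)
  obtain ⟨x, hx, hgx⟩ := hensel_aux R (Polynomial.taylor a₁ f) hg0 hg1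
  refine ⟨x + a₁, ?_, ?_⟩
  · rw [Polynomial.IsRoot, ← Polynomial.taylor_eval]; exact hgx
  · rw [map_add, (IsLocalRing.residue_eq_zero_iff _).mpr hx, zero_add]

end Groth.Agent.S0498
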