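import Groth.Statements.S0500
import Mathlib
import Groth.Agent.Lib.Lead.HenselIdem
-- import your own Groth.Agent.* helpers here

set_option autoImplicit false
universe u
open Hensel

namespace Groth.Agent.S0500

/-- If every algebra over a local ring that is finitely generated as a module is ring-isomorphic to a
finite product of local rings, then the local ring is henselian. -/
theorem result (R : Type u) [CommRing R] [IsLocalRing R]
    (h : ∀ (S : Type u) [CommRing S] [Algebra R S], Module.Finite R S →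
      ∃ (ι : Type u) (_ : Fintype ι) (A : ι → Type u) (_ : ∀ i, CommRing (A i)),
        (∀ i, IsLocalRing (A i)) ∧ Nonempty (S ≃+* (∀ i, A i))) :
    HenselianLocalRing R := by
  have hlift := h
  clear h
  refine { is_henselian := fun f hf a₀ h₁ h₂ => ?_ }
  classical
  have hroot : (f.map (IsLocalRing.residue R)).IsRoot (IsLocalRing.residue R a₀) := by
    rw [Polynomial.IsRoot.def, Polynomial.eval_map_apply]
    exact (IsLocalRing.residue_eq_zero_iff _).mpr h₁
  obtain ⟨h₀, hh₀⟩ := Polynomial.dvd_iff_isRoot.mpr hroot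
  have hder : (f.map (IsLocalRing.residue R)).derivative.eval (IsLocalRing.residue R a₀) ≠ 0 := by
    rw [Polynomial.derivative_map, Polynomial.eval_map_apply]
    exact (IsLocalRing.residue_ne_zero_iff_isUnit _).mpr h₂
  have hh₀ne : h₀.eval (IsLocalRing.residue R a₀) ≠ 0 := by
    intro h0
    apply hder
    rw [hh₀, Polynomial.derivative_mul]
    simp [h0]
  have hcop : IsCoprime (Polynomial.X - Polynomial.C (IsLocalRing.residue R a₀)) h₀ := by
    rw [(Polynomial.irreducible_X_sub_C _).coprime_iff_not_dvd]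
    intro hd
    exact hh₀ne (Polynomial.dvd_iff_isRoot.mp hd)
  have hφ0 : f.eval₂ (IsLocalRing.residue R) (IsLocalRing.residue R a₀) = 0 := by
    rw [← Polynomial.eval_map]; exact hroot
  obtain ⟨ub, vb, huv⟩ := hcop
  obtain ⟨u₀, rfl⟩ := Polynomial.map_surjective _ IsLocalRing.residue_surjective ub
  obtain ⟨v₀, rfl⟩ := Polynomial.map_surjective _ IsLocalRing.residue_surjective vb
  obtain ⟨q₀, rfl⟩ := Polynomial.map_surjective _ IsLocalRing.residue_surjective h₀
  haveI : Module.Finite R (AdjoinRoot f) := hf.finite_adjoinRoot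
  obtain ⟨ι, hι, A, hA, hloc, ⟨σ⟩⟩ := hlift (AdjoinRoot f) inferInstance
  -- the approximate idempotent
  have hb : AdjoinRoot.mk f (v₀ * q₀) * AdjoinRoot.mk f (v₀ * q₀) - AdjoinRoot.mk f (v₀ * q₀)
      ∈ IsLocalRing.maximalIdeal R • (⊤ : Submodule R (AdjoinRoot f)) := by
    have h3 : ((v₀ * q₀) * (v₀ * q₀) - v₀ * q₀ + u₀ * v₀ * f).map (IsLocalRing.residue R) = 0 := by
      simp only [Polynomial.map_add, Polynomial.map_sub, Polynomial.map_mul, hh₀]
      linear_combination (v₀.map (IsLocalRing.residue R) * q₀.map (IsLocalRing.residue R)) * huv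
    have h4 := Groth.Agent.Lib.Lead.HenselIdem.mk_mem_smul_top f _ h3
    rw [map_add, map_sub, map_mul, map_mul _ (u₀ * v₀) f, AdjoinRoot.mk_self, mul_zero,
      add_zero] at h4
    exact h4
  have hbD : AdjoinRoot.mk f (v₀ * q₀) * AdjoinRoot.mk f (Polynomial.X - Polynomial.C a₀)
      ∈ IsLocalRing.maximalIdeal R • (⊤ : Submodule R (AdjoinRoot f)) := by
    have h3 : ((v₀ * q₀) * (Polynomial.X - Polynomial.C a₀) - v₀ * f).map
        (IsLocalRing.residue R) = 0 := by
      simp only [Polynomial.map_sub, Polynomial.map_mul, hh₀, Polynomial.map_X, Polynomial.map_C]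
      ring
    have h4 := Groth.Agent.Lib.Lead.HenselIdem.mk_mem_smul_top f _ h3
    rw [map_sub, map_mul, map_mul _ v₀ f, AdjoinRoot.mk_self, mul_zero, sub_zero] at h4
    exact h4
  have hφb : AdjoinRoot.lift (IsLocalRing.residue R) (IsLocalRing.residue R a₀) hφ0
      (AdjoinRoot.mk f (v₀ * q₀)) = 1 := by
    rw [AdjoinRoot.lift_mk, ← Polynomial.eval_map]
    have h5 := congrArg (Polynomial.eval (IsLocalRing.residue R a₀)) huv
    simp only [Polynomial.eval_add, Polynomial.eval_mul, Polynomial.eval_sub, Polynomial.eval_X,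
      Polynomial.eval_C, sub_self, mul_zero, zero_add, Polynomial.eval_one] at h5
    rw [Polynomial.map_mul, Polynomial.eval_mul]
    exact h5
  obtain ⟨e, he, heb⟩ := Groth.Agent.Lib.Lead.HenselIdem.exists_idempotent_of_pi
    (IsLocalRing.maximalIdeal R) A σ _ hb
  have hD : e * AdjoinRoot.mk f (Polynomial.X - Polynomial.C a₀)
      ∈ IsLocalRing.maximalIdeal R • (⊤ : Submodule R (AdjoinRoot f)) := by
    have h6 : e * AdjoinRoot.mk f (Polynomial.X - Polynomial.C a₀)
        = (e - AdjoinRoot.mk f (v₀ * q₀)) * AdjoinRoot.mk f (Polynomial.X - Polynomial.C a₀)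
          + AdjoinRoot.mk f (v₀ * q₀) * AdjoinRoot.mk f (Polynomial.X - Polynomial.C a₀) := by
      ring
    rw [h6]
    exact Submodule.add_mem _ (Groth.Agent.Lib.Lead.HenselIdem.smul_top_mul _ heb _) hbD
  have hφe : AdjoinRoot.lift (IsLocalRing.residue R) (IsLocalRing.residue R a₀) hφ0 e = 1 := by
    have h7 : e = (e - AdjoinRoot.mk f (v₀ * q₀)) + AdjoinRoot.mk f (v₀ * q₀) := by ring
    rw [h7, map_add, Groth.Agent.Lib.Lead.HenselIdem.lift_smul_top_eq_zero f _ hφ0 heb, hφb,
      zero_add]
  exact Groth.Agent.Lib.Lead.HenselIdem.root_of_idempotent f hf a₀ hφ0 e he hD hφe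

end Groth.Agent.S0500
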