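import Mathlib
import Groth.Agent.H11.HCRegular
import Groth.Agent.S0507
import Groth.Agent.S0508
import Groth.Agent.S0509
import Groth.Agent.S0511
import Groth.Agent.S0512
import Groth.Statements.S0513

set_option autoImplicit false
universe u
open Hensel

namespace Groth.Agent.S0513

/-- A Noetherian local ring is regular exactly when its henselization is a regular local ring. -/
theorem result (R : Type u) [CommRing R] [IsLocalRing R] (S : Type u) [CommRing S] [IsLocalRing S]
    [Algebra R S] [IsLocalHom (algebraMap R S)] [Hensel.IsHenselization R S] [IsNoetherianRing R] :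
    IsRegularLocalRing R ↔ IsRegularLocalRing S := by
  have hm := Groth.Agent.S0507.result R S
  have hres := Groth.Agent.S0508.result R S
  haveI : Module.FaithfullyFlat R S := Groth.Agent.S0509.result R S
  haveI : IsNoetherianRing S := (Groth.Agent.S0511.result R S).1 inferInstance
  have hdim := Groth.Agent.S0512.result R S
  have hk : ∀ s : S, ∃ r : R, s - algebraMap R S r ∈ IsLocalRing.maximalIdeal S := by
    intro s
    obtain ⟨x, hx⟩ := hres.2 (IsLocalRing.residue S s)
    obtain ⟨r, rfl⟩ := IsLocalRing.residue_surjective x
    refine ⟨r, ?_⟩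
    rw [← IsLocalRing.residue_eq_zero_iff, map_sub, ← hx, IsLocalRing.ResidueField.map_residue,
      sub_self]
  have h1 : (IsLocalRing.maximalIdeal S).spanFinrank ≤ (IsLocalRing.maximalIdeal R).spanFinrank := by
    rw [← hm]
    exact Ideal.spanFinrank_map_le_of_fg _ (IsLocalRing.maximalIdeal R).fg_of_isNoetherianRing
  have h2 := Groth.Agent.H11.HC.spanFinrank_maximalIdeal_le hm hk
  have h3 : (IsLocalRing.maximalIdeal S).spanFinrank = (IsLocalRing.maximalIdeal R).spanFinrank :=
    le_antisymm h1 h2
  rw [isRegularLocalRing_iff, isRegularLocalRing_iff, h3, hdim]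

end Groth.Agent.S0513
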