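import Mathlib
import Groth.Agent.H11.HCUnique
import Groth.Agent.H11.HCNormal
import Groth.Statements.S0515

set_option autoImplicit false
universe u
open Hensel

namespace Groth.Agent.S0515

/-- A local ring is an integrally closed domain exactly when its henselization is. -/
theorem result (R : Type u) [CommRing R] [IsLocalRing R] (S : Type u) [CommRing S] [IsLocalRing S]
    [Algebra R S] [IsLocalHom (algebraMap R S)] [Hensel.IsHenselization R S] :
    (IsDomain R ∧ IsIntegrallyClosed R) ↔ (IsDomain S ∧ IsIntegrallyClosed S) := by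
  obtain ⟨e⟩ := Groth.Agent.H11.HC.nonempty_algEquiv_hens R S
  haveI : Module.Flat R (Groth.Agent.H11.HC.Hens R) := Groth.Agent.H11.HC.flat_lim
  haveI : Module.Flat R S := Module.Flat.of_linearEquiv e.toLinearEquiv
  haveI : Module.FaithfullyFlat R S := Module.FaithfullyFlat.of_flat_of_isLocalHom
  constructor
  · rintro ⟨hd, hic⟩
    obtain ⟨h1, h2⟩ := Groth.Agent.H11.HC.normal_lim (R := R) (K := IsLocalRing.ResidueField R)
    haveI : IsDomain (Groth.Agent.H11.HC.Hens R) := h1
    haveI : IsIntegrallyClosed (Groth.Agent.H11.HC.Hens R) := h2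
    haveI hS : IsDomain S := e.toRingEquiv.injective.isDomain e.toRingEquiv.toRingHom
    exact ⟨hS, IsIntegrallyClosed.of_equiv e.symm.toRingEquiv⟩
  · rintro ⟨hd, hic⟩
    exact Groth.Agent.H11.EtNorm.normal_of_faithfullyFlat R S

end Groth.Agent.S0515
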