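import Mathlib
import Groth.Agent.H11.HensStrictLift
import Groth.Statements.S0517

set_option autoImplicit false
universe u
open Hensel

namespace Groth.Agent.S0517

/-- Given strictly henselian local rings `R` and `S`, a local ring map `φ` between them, and a square
system of `n` polynomial equations in `n` unknowns over `R` whose quotient algebra is étale over
`R`, applying `φ` coordinatewise matches the solutions of the system in `Rⁿ` bijectively with the
solutions of the transported system in `Sⁿ`. -/
theorem result (R : Type u) [CommRing R]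
    [HenselianLocalRing R] [IsSepClosed (IsLocalRing.ResidueField R)] (S : Type u) [CommRing S]
    [HenselianLocalRing S] [IsSepClosed (IsLocalRing.ResidueField S)] (φ : R →+* S) [IsLocalHom φ] (n : ℕ)
    (P : Fin n → MvPolynomial (Fin n) R)
    [Algebra.Etale R (MvPolynomial (Fin n) R ⧸ Ideal.span (Set.range P))] :
    Set.BijOn (fun r : Fin n → R => φ ∘ r)
      {r : Fin n → R | ∀ i, MvPolynomial.eval r (P i) = 0}
      {s : Fin n → S | ∀ i, MvPolynomial.eval s (MvPolynomial.map φ (P i)) = 0} := by

    classical
    letI : Algebra R S := φ.toAlgebra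
    haveI : IsLocalHom (algebraMap R S) := ‹IsLocalHom φ›
    have hbij := Groth.Agent.H11.HensEt.algHom_comp_bijective R S
      (MvPolynomial (Fin n) R ⧸ Ideal.span (Set.range P))
    -- solutions give algebra maps
    have hlift : ∀ (T : Type u) [CommRing T] [Algebra R T] (t : Fin n → T),
        (∀ i, MvPolynomial.aeval t (P i) = 0) →
        ∃ ρ : (MvPolynomial (Fin n) R ⧸ Ideal.span (Set.range P)) →ₐ[R] T,
          ∀ p, ρ (Ideal.Quotient.mk _ p) = MvPolynomial.aeval t p := by
      intro T _ _ t ht
      refine ⟨Ideal.Quotient.liftₐ _ (MvPolynomial.aeval t) ?_, fun p => rfl⟩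
      intro p hp
      have hle : Ideal.span (Set.range P) ≤ RingHom.ker (MvPolynomial.aeval t : MvPolynomial (Fin n) R →ₐ[R] T) := by
        rw [Ideal.span_le]
        rintro _ ⟨i, rfl⟩
        exact ht i
      exact hle hp
    have hof : ∀ (T : Type u) [CommRing T] [Algebra R T]
        (ρ : (MvPolynomial (Fin n) R ⧸ Ideal.span (Set.range P)) →ₐ[R] T) (p : MvPolynomial (Fin n) R),
        ρ (Ideal.Quotient.mk _ p) =
          MvPolynomial.aeval (fun i => ρ (Ideal.Quotient.mk _ (MvPolynomial.X i))) p := by
      intro T _ _ ρ p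
      have := MvPolynomial.aeval_unique (ρ.comp (Ideal.Quotient.mkₐ R (Ideal.span (Set.range P))))
      exact AlgHom.congr_fun this p
    have hevalS : ∀ (s : Fin n → S) (p : MvPolynomial (Fin n) R),
        MvPolynomial.eval s (MvPolynomial.map φ p) = MvPolynomial.aeval s p := by
      intro s p
      rw [MvPolynomial.eval_map, MvPolynomial.aeval_def]
      rfl
    have hevalR : ∀ (r : Fin n → R) (p : MvPolynomial (Fin n) R),
        MvPolynomial.eval r p = MvPolynomial.aeval r p := by
      intro r p
      rw [MvPolynomial.aeval_def]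
      rfl
    refine ⟨?_, ?_, ?_⟩
    · intro r hr i
      have hr' : ∀ i, MvPolynomial.eval r (P i) = 0 := hr
      show MvPolynomial.eval (φ ∘ r) (MvPolynomial.map φ (P i)) = 0
      rw [MvPolynomial.eval_map]
      have h1 := MvPolynomial.eval₂_comp_left φ (RingHom.id R) r (P i)
      rw [RingHom.comp_id] at h1
      rw [← h1]
      have : MvPolynomial.eval₂ (RingHom.id R) r (P i) = MvPolynomial.eval r (P i) := rfl
      rw [this, hr' i, map_zero]
    · intro r₁ hr₁ r₂ hr₂ h
      have hr₁' : ∀ i, MvPolynomial.aeval r₁ (P i) = 0 := fun i => by rw [← hevalR]; exact hr₁ i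
      have hr₂' : ∀ i, MvPolynomial.aeval r₂ (P i) = 0 := fun i => by rw [← hevalR]; exact hr₂ i
      obtain ⟨ρ₁, hρ₁⟩ := hlift R r₁ hr₁'
      obtain ⟨ρ₂, hρ₂⟩ := hlift R r₂ hr₂'
      have heq : (Algebra.ofId R S).comp ρ₁ = (Algebra.ofId R S).comp ρ₂ := by
        apply Ideal.Quotient.algHom_ext
        apply MvPolynomial.algHom_ext
        intro i
        simp only [AlgHom.comp_apply, Ideal.Quotient.mkₐ_eq_mk, hρ₁, hρ₂, MvPolynomial.aeval_X,
          Algebra.ofId_apply]
        exact congrFun h i
      have := hbij.1 heq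
      funext i
      have h2 := AlgHom.congr_fun this (Ideal.Quotient.mk _ (MvPolynomial.X i))
      rw [hρ₁, hρ₂, MvPolynomial.aeval_X, MvPolynomial.aeval_X] at h2
      exact h2
    · intro s hs
      have hs' : ∀ i, MvPolynomial.aeval s (P i) = 0 := fun i => by rw [← hevalS]; exact hs i
      obtain ⟨σ, hσ⟩ := hlift S s hs'
      obtain ⟨ρ, hρ⟩ := hbij.2 σ
      refine ⟨fun i => ρ (Ideal.Quotient.mk _ (MvPolynomial.X i)), ?_, ?_⟩
      · intro i
        show MvPolynomial.eval _ (P i) = 0
        rw [hevalR, ← hof R ρ (P i)]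
        have : Ideal.Quotient.mk (Ideal.span (Set.range P)) (P i) = 0 :=
          Ideal.Quotient.eq_zero_iff_mem.2 (Ideal.subset_span ⟨i, rfl⟩)
        rw [this, map_zero]
      · funext i
        have h2 := AlgHom.congr_fun hρ (Ideal.Quotient.mk _ (MvPolynomial.X i))
        simp only [AlgHom.comp_apply, Algebra.ofId_apply] at h2
        rw [hσ, MvPolynomial.aeval_X] at h2
        exact h2

end Groth.Agent.S0517
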