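import Mathlib
import Groth.Agent.H11.HensFEt
import Groth.Statements.S0518

set_option autoImplicit false
universe u
open Hensel

namespace Groth.Agent.S0518

/-- Over a henselian local ring `R` with residue field `κ`, every finite étale `κ`-algebra is the base
change of some finite étale `R`-algebra. -/
theorem result (R : Type u) [CommRing R]
    [HenselianLocalRing R] (A : Type u) [CommRing A] [Algebra (IsLocalRing.ResidueField R) A]
    [Module.Finite (IsLocalRing.ResidueField R) A] [Algebra.Etale (IsLocalRing.ResidueField R) A] :
    ∃ (S : Type u) (_ : CommRing S) (_ : Algebra R S), Module.Finite R S ∧ Algebra.Etale R S ∧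
      Nonempty (TensorProduct R (IsLocalRing.ResidueField R) S ≃ₐ[IsLocalRing.ResidueField R] A) := by

    classical
    obtain ⟨I, hI, Ai, hfield, halg, e, H⟩ :=
      (Algebra.Etale.iff_exists_algEquiv_prod (IsLocalRing.ResidueField R) A).1 inferInstance
    haveI := Fintype.ofFinite I
    have hex : ∀ i, ∃ (S : Type u) (_ : CommRing S) (_ : Algebra R S), Module.Finite R S ∧
        Algebra.Etale R S ∧
        Nonempty (TensorProduct R (IsLocalRing.ResidueField R) S ≃ₐ[IsLocalRing.ResidueField R]
          Ai i) := fun i => by
      haveI := (H i).1
      haveI := (H i).2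
      exact Groth.Agent.H11.HensEt.exists_lift_field R (Ai i)
    choose S hS1 hS2 hfin het hiso using hex
    refine ⟨∀ i, S i, inferInstance, inferInstance, inferInstance, inferInstance, ⟨?_⟩⟩
    exact ((Algebra.TensorProduct.piRight R (IsLocalRing.ResidueField R)
      (IsLocalRing.ResidueField R) S).trans
      (AlgEquiv.piCongrRight (fun i => (hiso i).some))).trans e.symm

end Groth.Agent.S0518
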