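import Mathlib
import Groth.Agent.H11.HensLift
import Groth.Statements.S0519

set_option autoImplicit false
universe u
open Hensel

namespace Groth.Agent.S0519

/-- Over a henselian local ring `R` with residue field `κ`, base change to `κ` gives a bijection between
`R`-algebra maps of two finite étale `R`-algebras and `κ`-algebra maps of their base changes. -/
theorem result (R : Type u) [CommRing R]
    [HenselianLocalRing R] (S₁ S₂ : Type u) [CommRing S₁] [CommRing S₂] [Algebra R S₁]
    [Algebra R S₂] [Module.Finite R S₁] [Algebra.Etale R S₁] [Module.Finite R S₂]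
    [Algebra.Etale R S₂] :
    Function.Bijective (fun φ : S₁ →ₐ[R] S₂ =>
      Algebra.TensorProduct.map (AlgHom.id (IsLocalRing.ResidueField R) (IsLocalRing.ResidueField R)) φ) := by

    haveI : Algebra.IsIntegral R S₂ := inferInstance
    constructor
    · intro φ ψ h
      apply Groth.Agent.H11.HensEt.algHom_eq_of_sub_mem_jacobson
      intro a
      apply Groth.Agent.H11.HensEt.map_maximalIdeal_le_jacobson R S₂
      apply (Groth.Agent.H11.HensEt.one_tmul_eq_of_sub_mem (IsLocalRing.maximalIdeal R) (φ a) (ψ a)).1
      have := congrArg (fun g => g ((1 : IsLocalRing.ResidueField R) ⊗ₜ[R] a)) h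
      simp only [Algebra.TensorProduct.map_tmul, AlgHom.coe_id, id_eq] at this
      exact this
    · intro χ
      obtain ⟨f, hf⟩ := Groth.Agent.H11.HensEt.exists_algHom_lift_tensor R S₂ S₁
        ((χ.restrictScalars R).comp Algebra.TensorProduct.includeRight)
      refine ⟨f, ?_⟩
      apply Algebra.TensorProduct.ext
      · ext
      · ext a
        simp only [AlgHom.comp_apply, AlgHom.restrictScalars_apply,
          Algebra.TensorProduct.includeRight_apply, Algebra.TensorProduct.map_tmul, AlgHom.coe_id,
          id_eq]
        exact hf a

end Groth.Agent.S0519
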