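import Groth.Statements.S0520
import Mathlib
import Groth.Agent.Lib.Helper26.HensPair2
import Groth.Agent.S2042

set_option autoImplicit false
universe u
open Hensel

namespace Groth.Agent.S0520

open Polynomial in
/-- A ring `A` is Henselian at an ideal `I` in Mathlib's sense (simple roots lift) exactly when `I` lies
in the Jacobson radical and every factorization of the reduction of a monic polynomial into two
comaximal monic factors over `A/I` lifts to a factorization into monic polynomials over `A`. -/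
theorem result (A : Type u) [CommRing A] (I : Ideal A) :
    HenselianRing A I ↔ (I ≤ Ideal.jacobson ⊥ ∧
      ∀ f : Polynomial A, f.Monic → ∀ g₀ h₀ : Polynomial (A ⧸ I), g₀.Monic → h₀.Monic →
        IsCoprime g₀ h₀ → Polynomial.map (Ideal.Quotient.mk I) f = g₀ * h₀ →
        ∃ g h : Polynomial A, g.Monic ∧ h.Monic ∧ f = g * h ∧
          Polynomial.map (Ideal.Quotient.mk I) g = g₀ ∧ Polynomial.map (Ideal.Quotient.mk I) h = h₀) := by
  constructor
  · intro hH
    refine ⟨hH.jac, ?_⟩
    intro f hf g₀ h₀ hg₀ hh₀ hcop hfgh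
    obtain ⟨A', _, _, hA', hbij, g', h', hg', hh', hfac, hg'm, hh'm⟩ :=
      Groth.Agent.S2042.result I f hf g₀ h₀ hg₀ hh₀ hcop hfgh
    have := hA'
    obtain ⟨τ, hτ⟩ := Groth.Agent.Helper26.HensPair.exists_retraction' I hH hbij
    have hinj : Function.Injective
        (Polynomial.map (algebraMap (A ⧸ I) (A' ⧸ I.map (algebraMap A A')))) :=
      Polynomial.map_injective _ hbij.injective
    refine ⟨g'.map (τ : A' →+* A), h'.map (τ : A' →+* A), hg'.map _, hh'.map _, ?_, ?_, ?_⟩
    · have := congrArg (Polynomial.map (τ : A' →+* A)) hfac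
      rw [Polynomial.map_map, Polynomial.map_mul, τ.comp_algebraMap] at this
      rw [← this]
      simp
    · apply hinj
      rw [Polynomial.map_map, Polynomial.map_map, hτ, hg'm]
    · apply hinj
      rw [Polynomial.map_map, Polynomial.map_map, hτ, hh'm]
  · rintro ⟨hjac, hlift⟩
    refine ⟨hjac, ?_⟩
    intro f hf a₀ ha₀ hu
    rcases subsingleton_or_nontrivial (A ⧸ I) with hsub | hnt
    · have hI : I = ⊤ := Ideal.Quotient.subsingleton_iff.mp hsub
      have h1 : (1 : A) ∈ Ideal.jacobson ⊥ := hjac (hI ▸ Submodule.mem_top)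
      have h0 : IsUnit ((1 : A) * (-1) + 1) := Ideal.mem_jacobson_bot.mp h1 (-1)
      have : Subsingleton A := by
        rw [show (1 : A) * (-1) + 1 = 0 by ring] at h0
        exact subsingleton_of_zero_eq_one (isUnit_zero_iff.mp h0)
      exact ⟨a₀, Subsingleton.elim _ _, by simp⟩
    · obtain ⟨ā, hā⟩ : ∃ x, x = Ideal.Quotient.mk I a₀ := ⟨_, rfl⟩
      have hev : ∀ p : A[X],
          (p.map (Ideal.Quotient.mk I)).eval ā = Ideal.Quotient.mk I (p.eval a₀) := by
        intro p; rw [hā, Polynomial.eval_map, Polynomial.eval₂_at_apply]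
      obtain ⟨fbar, hfbar⟩ : ∃ x, x = f.map (Ideal.Quotient.mk I) := ⟨_, rfl⟩
      have hroot : fbar.IsRoot ā := by
        show fbar.eval ā = 0
        rw [hfbar, hev]; exact Ideal.Quotient.eq_zero_iff_mem.mpr ha₀
      obtain ⟨q₀, hq₀def⟩ : ∃ q, q = fbar /ₘ (X - C ā) := ⟨_, rfl⟩
      have hfac : fbar = (X - C ā) * q₀ := by
        rw [hq₀def]; exact (Polynomial.mul_divByMonic_eq_iff_isRoot.mpr hroot).symm
      have hq₀ : q₀.Monic := by
        refine (Polynomial.monic_X_sub_C ā).of_mul_monic_left ?_
        rw [← hfac, hfbar]; exact hf.map _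
      have hder : q₀.eval ā = Ideal.Quotient.mk I (f.derivative.eval a₀) := by
        rw [← hev, ← Polynomial.derivative_map, ← hfbar, hfac, derivative_mul]
        simp
      have hq₀u : IsUnit (q₀.eval ā) := hder ▸ hu
      obtain ⟨r, hr⟩ := Polynomial.X_sub_C_dvd_sub_C_eval (a := ā) (p := q₀)
      obtain ⟨v, hv⟩ := hq₀u.exists_left_inv
      have hcop : IsCoprime (X - C ā) q₀ := by
        refine ⟨- C v * r, C v, ?_⟩
        have : C v * C (q₀.eval ā) = 1 := by rw [← C_mul, hv, C_1]
        linear_combination this + C v * hr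
      obtain ⟨g, h, hg, hh, hfgh, hgm, hhm⟩ :=
        hlift f hf (X - C ā) q₀ (monic_X_sub_C ā) hq₀ hcop (by rw [← hfbar]; exact hfac)
      have hdeg : g.natDegree = 1 := by
        rw [← hg.natDegree_map (Ideal.Quotient.mk I), hgm, natDegree_X_sub_C]
      have hgeq : g = X + C (g.coeff 0) := hg.eq_X_add_C hdeg
      have hc0 : Ideal.Quotient.mk I (g.coeff 0) = - ā := by
        have := congrArg (fun p => p.coeff 0) hgm
        simpa [Polynomial.coeff_map] using this
      refine ⟨- g.coeff 0, ?_, ?_⟩
      · show f.eval (- g.coeff 0) = 0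
        rw [hfgh, eval_mul]
        have : g.eval (- g.coeff 0) = 0 := by
          calc g.eval (-g.coeff 0) = (X + C (g.coeff 0)).eval (-g.coeff 0) := by rw [← hgeq]
            _ = 0 := by simp
        rw [this, zero_mul]
      · rw [← Ideal.Quotient.eq, map_neg, hc0, neg_neg, hā]

end Groth.Agent.S0520
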