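import Mathlib
import Groth.Statements.S0529
import Groth.Agent.H11.HensSup

set_option autoImplicit false
universe u
open Hensel

namespace Groth.Agent.S0529

open Groth.Agent.H11 in
/-- A product of rings, with the product ideal, is Henselian exactly when every factor is Henselian at
its ideal. -/
theorem result (J : Type u) (A : J → Type u) [∀ j, CommRing (A j)]
    (I : ∀ j, Ideal (A j)) :
    HenselianRing (∀ j, A j) (⨅ j, Ideal.comap (Pi.evalRingHom A j) (I j)) ↔
      ∀ j, HenselianRing (A j) (I j) := by
  classical
  have hmem : ∀ x : (∀ j, A j),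
      x ∈ (⨅ j, Ideal.comap (Pi.evalRingHom A j) (I j)) ↔ ∀ j, x j ∈ I j := by
    intro x; simp [Ideal.mem_iInf, Ideal.mem_comap]
  constructor
  · intro h j
    have hsurj : Function.Surjective (Pi.evalRingHom A j) := fun x =>
      ⟨Pi.single j x, by simp⟩
    have h1 := hens_map_of_surjective (Pi.evalRingHom A j) hsurj _ h
    have h2 : Ideal.map (Pi.evalRingHom A j) (⨅ j, Ideal.comap (Pi.evalRingHom A j) (I j))
        = I j := by
      apply le_antisymm
      · exact Ideal.map_le_iff_le_comap.2 (iInf_le _ j)
      · intro x hx
        have : Pi.single j x ∈ (⨅ j, Ideal.comap (Pi.evalRingHom A j) (I j)) := by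
          rw [hmem]
          intro k
          by_cases hk : k = j
          · subst hk; simpa using hx
          · rw [Pi.single_eq_of_ne hk]; exact (I k).zero_mem
        have h3 := Ideal.mem_map_of_mem (Pi.evalRingHom A j) this
        simpa using h3
    rw [h2] at h1
    exact h1
  · intro h
    refine ⟨?_, ?_⟩
    · intro x hx
      rw [Ideal.mem_jacobson_bot]
      intro y
      rw [Pi.isUnit_iff]
      intro j
      have := (Ideal.mem_jacobson_bot.1 ((h j).jac ((hmem x).1 hx j))) (y j)
      simpa using this
    · intro f hf a₀ h₁ h₂
      rw [isUnit_mk_iff] at h₂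
      obtain ⟨b, hb⟩ := h₂
      have key : ∀ j, ∃ a : A j, (f.map (Pi.evalRingHom A j)).IsRoot a ∧ a - a₀ j ∈ I j := by
        intro j
        have e1 : (f.map (Pi.evalRingHom A j)).eval (a₀ j) = (f.eval a₀) j :=
          Polynomial.eval_map_apply (f := Pi.evalRingHom A j) a₀
        have e2 : (f.map (Pi.evalRingHom A j)).derivative.eval (a₀ j)
            = (f.derivative.eval a₀) j := by
          rw [Polynomial.derivative_map]
          exact Polynomial.eval_map_apply (f := Pi.evalRingHom A j) a₀
        apply (h j).is_henselian _ (hf.map _) (a₀ j)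
        · rw [e1]; exact (hmem _).1 h₁ j
        · rw [e2, isUnit_mk_iff]
          refine ⟨b j, ?_⟩
          have := (hmem _).1 hb j
          simpa using this
      choose a ha haa using key
      refine ⟨a, ?_, ?_⟩
      · rw [Polynomial.IsRoot.def]
        funext j
        have e1 : (f.map (Pi.evalRingHom A j)).eval (a j) = (f.eval a) j :=
          Polynomial.eval_map_apply (f := Pi.evalRingHom A j) a
        rw [← e1]
        exact ha j
      · rw [hmem]
        intro j
        exact haa j

end Groth.Agent.S0529
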