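import Groth.Statements.S0530
import Mathlib
import Groth.Agent.H11.HensGabber
import Groth.Agent.H11.HensQuot

set_option autoImplicit false
universe u
open Hensel

namespace Groth.Agent.S0530

open Polynomial in
/-- Idempotents of `A/(p+I)` are trivial when `A` is Henselian along `I` and `p` is prime. -/
private lemma idem_trivial (A : Type u) [CommRing A] (I : Ideal A) [hI : HenselianRing A I]
    (p : Ideal A) [p.IsPrime] (a : A) (ha : a * a - a ∈ p ⊔ I) :
    a ∈ p ⊔ I ∨ 1 - a ∈ p ⊔ I := by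
  have hH : HenselianRing (A ⧸ p) (I.map (Ideal.Quotient.mk p)) :=
    Groth.Agent.H11.hens_map_of_surjective (Ideal.Quotient.mk p) Ideal.Quotient.mk_surjective I hI
  have hmem : ∀ x : A, x ∈ p ⊔ I → Ideal.Quotient.mk p x ∈ I.map (Ideal.Quotient.mk p) := by
    intro x hx
    obtain ⟨y, hy, z, hz, rfl⟩ := Submodule.mem_sup.mp hx
    rw [map_add, Ideal.Quotient.eq_zero_iff_mem.mpr hy, zero_add]
    exact Ideal.mem_map_of_mem _ hz
  have hmem' : ∀ x : A, Ideal.Quotient.mk p x ∈ I.map (Ideal.Quotient.mk p) → x ∈ p ⊔ I := by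
    intro x hx
    rw [Ideal.mem_map_iff_of_surjective _ Ideal.Quotient.mk_surjective] at hx
    obtain ⟨j, hj, hjx⟩ := hx
    have : x - j ∈ p := by
      rw [← Ideal.Quotient.eq_zero_iff_mem, map_sub, hjx, sub_self]
    have hx : x = (x - j) + j := by ring
    rw [hx]
    exact Submodule.add_mem_sup this hj
  obtain ⟨b, hb⟩ : ∃ b : A ⧸ p, b = Ideal.Quotient.mk p a := ⟨_, rfl⟩
  have h1 : (X ^ 2 - X : (A ⧸ p)[X]).eval b ∈ I.map (Ideal.Quotient.mk p) := by
    have : (X ^ 2 - X : (A ⧸ p)[X]).eval b = Ideal.Quotient.mk p (a * a - a) := by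
      simp [hb, pow_two]
    rw [this]
    exact hmem _ ha
  have h2 : IsUnit (Ideal.Quotient.mk (I.map (Ideal.Quotient.mk p))
      ((derivative (X ^ 2 - X : (A ⧸ p)[X])).eval b)) := by
    have hd : (derivative (X ^ 2 - X : (A ⧸ p)[X])).eval b = 2 * b - 1 := by
      rw [derivative_sub, derivative_X_pow, derivative_X, eval_sub, eval_mul, eval_C, eval_pow,
        eval_X, eval_one]
      norm_num
    rw [hd]
    apply IsUnit.of_mul_eq_one (Ideal.Quotient.mk (I.map (Ideal.Quotient.mk p)) (2 * b - 1))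
    rw [← map_mul, ← map_one (Ideal.Quotient.mk (I.map (Ideal.Quotient.mk p))),
      Ideal.Quotient.eq]
    have : (2 * b - 1) * (2 * b - 1) - 1 = 4 * (X ^ 2 - X : (A ⧸ p)[X]).eval b := by
      simp
      ring
    rw [this]
    exact Ideal.mul_mem_left _ _ h1
  have hmonic : (X ^ 2 - X : (A ⧸ p)[X]).Monic := by
    apply monic_X_pow_sub
    simp
  obtain ⟨e, he, heb⟩ := hH.is_henselian _ hmonic b h1 h2
  have he' : e * (e - 1) = 0 := by
    have : (X ^ 2 - X : (A ⧸ p)[X]).eval e = 0 := he
    simp at this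
    rw [← this]
    ring
  rcases mul_eq_zero.mp he' with h0 | h1'
  · left
    apply hmem'
    rw [← hb]
    rw [h0, zero_sub] at heb
    simpa using (Ideal.neg_mem_iff _).mp heb
  · right
    apply hmem'
    rw [map_sub, map_one, ← hb]
    have : e = 1 := by
      rw [← sub_eq_zero, h1']
    rwa [this] at heb

/-- If `A` is Henselian at `I` and `p` is a prime ideal of `A`, then the spectrum of `A/(p + I)` is
connected. -/
theorem result (A : Type u) [CommRing A] (I : Ideal A) [HenselianRing A I]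
    (p : Ideal A) [p.IsPrime] : ConnectedSpace (PrimeSpectrum (A ⧸ p ⊔ I)) := by
  rw [connectedSpace_iff_clopen]
  constructor
  · -- nonempty
    obtain ⟨m, hm, hpm⟩ := Ideal.exists_le_maximal p (Ideal.IsPrime.ne_top inferInstance)
    have hIm : I ≤ m := by
      refine (HenselianRing.jac (R := A) (I := I)).trans ?_
      exact sInf_le ⟨bot_le, hm⟩
    have hne : p ⊔ I ≠ ⊤ := by
      intro h
      exact hm.ne_top (top_le_iff.mp (h ▸ sup_le hpm hIm))
    have : Nontrivial (A ⧸ p ⊔ I) := Ideal.Quotient.nontrivial_iff.mpr hne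
    infer_instance
  · intro s hs
    obtain ⟨e, he, rfl⟩ := PrimeSpectrum.isClopen_iff.mp hs
    obtain ⟨a, rfl⟩ := Ideal.Quotient.mk_surjective e
    have ha : a * a - a ∈ p ⊔ I := by
      rw [← Ideal.Quotient.eq_zero_iff_mem, map_sub, map_mul]
      rw [he.eq, sub_self]
    rcases idem_trivial A I p a ha with h | h
    · left
      rw [Ideal.Quotient.eq_zero_iff_mem.mpr h]
      simp
    · right
      have : Ideal.Quotient.mk (p ⊔ I) a = 1 := by
        rw [← sub_eq_zero, ← neg_eq_zero, neg_sub, ← map_one (Ideal.Quotient.mk (p ⊔ I)), ← map_sub]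
        exact Ideal.Quotient.eq_zero_iff_mem.mpr h
      rw [this]
      simp

end Groth.Agent.S0530
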