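import Groth.Statements.S0534
import Mathlib
import Groth.Agent.Lib.Helper26.IdemMatrix
import Groth.Agent.Lib.Helper26.HensPair2

set_option autoImplicit false
universe u
open Hensel

namespace Groth.Agent.S0534

/-- If `R` is Henselian at `I`, every finitely generated projective `R/I`-module is the base change of a
finitely generated projective `R`-module. -/
theorem result (R : Type u) [CommRing R] (I : Ideal R)
    [HenselianRing R I] (Q : Type u) [AddCommGroup Q] [Module (R ⧸ I) Q] [Module.Finite (R ⧸ I) Q]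
    [Module.Projective (R ⧸ I) Q] :
    ∃ (P : Type u) (_ : AddCommGroup P) (_ : Module R P), Module.Finite R P ∧ Module.Projective R P ∧
      Nonempty (TensorProduct R (R ⧸ I) P ≃ₗ[R ⧸ I] Q) := by
  classical
  have hH : HenselianRing R I := inferInstance
  obtain ⟨n, ε, hε, ⟨eQ⟩⟩ := Groth.Agent.Helper26.IdemMatrix.exists_equiv_Im (R := R ⧸ I) Q
  obtain ⟨A', _, _, hA', hbij, e', he'idem, he'map⟩ :=
    Groth.Agent.Helper26.IdemMatrix.exists_idem_matrix_lift I ε hε
  have := hA'
  obtain ⟨τ, hτ⟩ := Groth.Agent.Helper26.HensPair.exists_retraction' I hH hbij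
  obtain ⟨E, hEdef⟩ : ∃ E : Matrix (Fin n) (Fin n) R, E = e'.map (τ : A' →+* R) := ⟨_, rfl⟩
  have hEidem : IsIdempotentElem E := by
    rw [hEdef]; exact he'idem.map (τ : A' →+* R).mapMatrix
  have hEmap : E.map (algebraMap R (R ⧸ I)) = ε := by
    have hinj : Function.Injective (algebraMap (R ⧸ I) (A' ⧸ I.map (algebraMap R A'))) :=
      hbij.injective
    ext i j
    apply hinj
    have h1 := congrFun (congrFun he'map i) j
    have h2 := RingHom.congr_fun hτ (e' i j)
    simp only [Matrix.map_apply] at h1 ⊢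
    rw [hEdef]
    exact h2.trans h1
  refine ⟨Groth.Agent.Helper26.IdemMatrix.Im E, inferInstance, inferInstance, inferInstance,
    Groth.Agent.Helper26.IdemMatrix.projective_Im hEidem, ?_⟩
  obtain ⟨b⟩ := Groth.Agent.Helper26.IdemMatrix.baseChange_range_equiv E hEidem ε hEmap.symm
  exact ⟨b.trans eQ.symm⟩

end Groth.Agent.S0534
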