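import Mathlib
import Groth.Statements.S0535

set_option autoImplicit false
universe u
open Hensel

namespace Groth.Agent.S0535

open TensorProduct

theorem bijective_of_sub_id_mem {R : Type u} [CommRing R] {P : Type u} [AddCommGroup P]
    [Module R P] [Module.Finite R P] (I : Ideal R) (hjac : I ≤ Ideal.jacobson ⊥)
    (θ : P →ₗ[R] P) (h : ∀ x, θ x - x ∈ I • (⊤ : Submodule R P)) : Function.Bijective θ := by
  apply OrzechProperty.bijective_of_surjective_endomorphism
  rw [← LinearMap.range_eq_top, eq_top_iff]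
  apply Submodule.le_of_le_smul_of_le_jacobson_bot Module.Finite.fg_top hjac
  intro x _
  have : x = θ x + -(θ x - x) := by abel
  rw [this]
  exact Submodule.add_mem_sup (LinearMap.mem_range_self θ x) (Submodule.neg_mem _ (h x))

theorem mk_one_surjective {R : Type u} [CommRing R] (I : Ideal R) (P : Type u) [AddCommGroup P]
    [Module R P] : Function.Surjective ((TensorProduct.mk R (R ⧸ I) P) 1) := by
  intro z
  obtain ⟨x, hx⟩ := Submodule.Quotient.mk_surjective _ (quotTensorEquivQuotSMul P I z)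
  refine ⟨x, ?_⟩
  apply (quotTensorEquivQuotSMul P I).injective
  rw [← hx]
  exact quotTensorEquivQuotSMul_mk_one_tmul (M := P) I x

theorem mem_of_mk_one_eq {R : Type u} [CommRing R] (I : Ideal R) (P : Type u) [AddCommGroup P]
    [Module R P] (x y : P) (h : (1 : R ⧸ I) ⊗ₜ[R] x = (1 : R ⧸ I) ⊗ₜ[R] y) :
    x - y ∈ I • (⊤ : Submodule R P) := by
  have := congrArg (quotTensorEquivQuotSMul P I) h
  rw [quotTensorEquivQuotSMul_mk_one_tmul, quotTensorEquivQuotSMul_mk_one_tmul] at this
  exact (Submodule.Quotient.eq _).1 this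

/-- If `R` is Henselian at `I` and two finitely generated projective `R`-modules become isomorphic after
base change to `R/I`, then they are isomorphic. -/
theorem result (R : Type u) [CommRing R] (I : Ideal R)
    [HenselianRing R I] (P₁ P₂ : Type u) [AddCommGroup P₁] [Module R P₁] [AddCommGroup P₂]
    [Module R P₂] [Module.Finite R P₁] [Module.Projective R P₁] [Module.Finite R P₂]
    [Module.Projective R P₂]
    (e : TensorProduct R (R ⧸ I) P₁ ≃ₗ[R ⧸ I] TensorProduct R (R ⧸ I) P₂) :
    Nonempty (P₁ ≃ₗ[R] P₂) := by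
  have hjac : I ≤ Ideal.jacobson ⊥ := HenselianRing.jac
  obtain ⟨φ, hφ⟩ := Module.projective_lifting_property ((TensorProduct.mk R (R ⧸ I) P₂) 1)
    ((e.toLinearMap.restrictScalars R) ∘ₗ ((TensorProduct.mk R (R ⧸ I) P₁) 1))
    (mk_one_surjective I P₂)
  obtain ⟨ψ, hψ⟩ := Module.projective_lifting_property ((TensorProduct.mk R (R ⧸ I) P₁) 1)
    ((e.symm.toLinearMap.restrictScalars R) ∘ₗ ((TensorProduct.mk R (R ⧸ I) P₂) 1))
    (mk_one_surjective I P₁)
  have hφ' : ∀ x, (1 : R ⧸ I) ⊗ₜ[R] φ x = e ((1 : R ⧸ I) ⊗ₜ[R] x) := fun x =>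
    LinearMap.congr_fun hφ x
  have hψ' : ∀ y, (1 : R ⧸ I) ⊗ₜ[R] ψ y = e.symm ((1 : R ⧸ I) ⊗ₜ[R] y) := fun y =>
    LinearMap.congr_fun hψ y
  have h1 : Function.Bijective (ψ ∘ₗ φ) := by
    apply bijective_of_sub_id_mem I hjac
    intro x
    apply mem_of_mk_one_eq
    rw [LinearMap.comp_apply, hψ', hφ', e.symm_apply_apply]
  have h2 : Function.Bijective (φ ∘ₗ ψ) := by
    apply bijective_of_sub_id_mem I hjac
    intro y
    apply mem_of_mk_one_eq
    rw [LinearMap.comp_apply, hφ', hψ', e.apply_symm_apply]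
  have hinj : Function.Injective φ := by
    have := h1.1
    rw [LinearMap.coe_comp] at this
    exact Function.Injective.of_comp this
  have hsurj : Function.Surjective φ := by
    have := h2.2
    rw [LinearMap.coe_comp] at this
    exact Function.Surjective.of_comp this
  exact ⟨LinearEquiv.ofBijective φ ⟨hinj, hsurj⟩⟩

end Groth.Agent.S0535
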