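import Mathlib
import Groth.Agent.H11.HCStrictUnique
import Groth.Agent.H11.HCStrictNoeth
import Groth.Statements.S0540

set_option autoImplicit false
universe u
open Hensel

namespace Groth.Agent.S0540

/-- A local ring is Noetherian exactly when its strict henselization is Noetherian. -/
theorem result (R : Type u) [CommRing R] [IsLocalRing R] (S : Type u) [CommRing S] [IsLocalRing S]
    [Algebra R S] [IsLocalHom (algebraMap R S)] [Hensel.IsStrictHenselization R S] :
    IsNoetherianRing R ↔ IsNoetherianRing S := by
  obtain ⟨e⟩ := Groth.Agent.H11.HC.nonempty_algEquiv_shens R S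
  haveI : Module.Flat R (Groth.Agent.H11.HC.SHens R) := Groth.Agent.H11.HC.flat_lim
  haveI : Module.Flat R S := Module.Flat.of_linearEquiv e.toLinearEquiv
  haveI : Module.FaithfullyFlat R S := Module.FaithfullyFlat.of_flat_of_isLocalHom
  constructor
  · intro hR
    haveI : IsNoetherianRing (Groth.Agent.H11.HC.SHens R) :=
      Groth.Agent.H11.HC.isNoetherianRing_lim
    exact isNoetherianRing_of_ringEquiv (Groth.Agent.H11.HC.SHens R) e.symm.toRingEquiv
  · intro hS
    exact Groth.Agent.H11.HC.isNoetherianRing_of_faithfullyFlat R S

end Groth.Agent.S0540
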