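import Groth.Statements.S0542
import Mathlib
import Groth.Agent.Lib.Helper8.CompleteNoeth

set_option autoImplicit false
universe u
open CAlg

namespace Groth.Agent.S0542

/-- If `I` is a finitely generated ideal of a ring `R` and `R/I` is Noetherian, then the `I`-adic
completion of `R` is a Noetherian ring. (The source also states completeness of the completion along
the extended ideal, which Mathlib already has; only Noetherianity is stated here.) -/
theorem result (R : Type u) [CommRing R] (I : Ideal R)
    (hI : I.FG) [IsNoetherianRing (R ⧸ I)] : IsNoetherianRing (AdicCompletion I R) := by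
  classical
  obtain ⟨d, a, ha⟩ := Submodule.fg_iff_exists_fin_generating_family.mp hI
  haveI : IsAdicComplete (I.map (algebraMap R (AdicCompletion I R))) (AdicCompletion I R) :=
    AdicCompletion.isAdicComplete_self I hI
  haveI : IsNoetherianRing (AdicCompletion I R ⧸ I.map (algebraMap R (AdicCompletion I R))) := by
    let e1 := RingHom.quotientKerEquivOfSurjective
      (f := (AdicCompletion.evalOneₐ I).toRingHom) (AdicCompletion.evalOneₐ_surjective I)
    let e2 := Ideal.quotEquivOfEq (AdicCompletion.ker_evalOneₐ_eq_map I hI)
    exact isNoetherianRing_of_ringEquiv (R ⧸ I) (e1.symm.trans e2)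
  have hspan : I.map (algebraMap R (AdicCompletion I R)) =
      Ideal.span (Set.range fun i => algebraMap R (AdicCompletion I R) (a i)) := by
    have : I = Ideal.span (Set.range a) := ha.symm
    rw [this, Ideal.map_span]
    congr 1
    ext y
    simp
  refine Groth.Agent.Helper8.CompleteNoeth.isNoetherianRing
    (I.map (algebraMap R (AdicCompletion I R)))
    (fun i => algebraMap R (AdicCompletion I R) (a i)) ?_ ?_
  · intro i
    rw [hspan]
    exact Ideal.subset_span ⟨i, rfl⟩
  · rw [← hspan]
    exact le_sup_left

end Groth.Agent.S0542
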