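import Mathlib
import Groth.Statements.S0544
import Groth.Agent.H11.AdicPi

set_option autoImplicit false
universe u
open CAlg

namespace Groth.Agent.S0544

/-- Let `R` be complete with respect to an ideal `I` and `M` an `R`-module which is `I`-adically
separated and such that `M/IM` is finitely generated. Then `M` is a finitely generated `R`-module. -/
theorem result (R : Type u) [CommRing R]
    (I : Ideal R) [IsAdicComplete I R] (M : Type u) [AddCommGroup M] [Module R M] [IsHausdorff I M]
    (h : Module.Finite R (M ⧸ (I • ⊤ : Submodule R M))) : Module.Finite R M := by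
  obtain ⟨r, g, hg⟩ := Module.Finite.exists_fin' R (M ⧸ (I • ⊤ : Submodule R M))
  obtain ⟨f, hf⟩ := Module.projective_lifting_property (Submodule.mkQ (I • ⊤ : Submodule R M)) g
    (Submodule.mkQ_surjective _)
  have hs : Function.Surjective (Submodule.mkQ (I • ⊤ : Submodule R M) ∘ₗ f) := by
    rw [hf]; exact hg
  haveI := Groth.Agent.H11.isPrecomplete_pi R I r
  have hsurj := surjective_of_mkQ_comp_surjective hs
  exact Module.Finite.of_surjective f hsurj

end Groth.Agent.S0544
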