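import Mathlib
import Groth.Statements.S0546

set_option autoImplicit false
universe u
open CAlg

namespace Groth.Agent.S0546

open AdicCompletion Submodule

theorem pow_le {A : Type u} [CommRing A] (I J : Ideal A) (hIJ : I ≤ J) (M : Type u)
    [AddCommGroup M] [Module A M] (n : ℕ) :
    (I ^ n • ⊤ : Submodule A M) ≤ J ^ n • ⊤ :=
  Submodule.smul_mono (Ideal.pow_right_mono hIJ n) le_rfl

/-- comparison map between completions -/
noncomputable def cmp {A : Type u} [CommRing A] (I J : Ideal A) (hIJ : I ≤ J) (M : Type u)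
    [AddCommGroup M] [Module A M] : AdicCompletion I M →ₗ[A] AdicCompletion J M :=
  AdicCompletion.lift J
    (fun n => (Submodule.factor (pow_le I J hIJ M n)) ∘ₗ AdicCompletion.eval I M n) (by
      intro m n hle
      refine LinearMap.ext fun x => ?_
      simp only [LinearMap.comp_apply, eval_apply]
      rw [← x.2 hle]
      obtain ⟨a, ha⟩ := Submodule.Quotient.mk_surjective _ (x.val n)
      rw [← ha]
      rfl)

theorem cmp_of {A : Type u} [CommRing A] (I J : Ideal A) (hIJ : I ≤ J) (M : Type u)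
    [AddCommGroup M] [Module A M] (m : M) : cmp I J hIJ M (of I M m) = of J M m := by
  apply AdicCompletion.ext
  intro n
  rfl

/-- If `I ≤ J` are ideals with `I` finitely generated and `M` is `J`-adically complete, then `M` is
`I`-adically complete. -/
theorem result (A : Type u) [CommRing A] (I J : Ideal A) (hIJ : I ≤ J)
    (hI : I.FG) (M : Type u) [AddCommGroup M] [Module A M] [IsAdicComplete J M] :
    IsAdicComplete I M := by
  have hH : IsHausdorff I M :=
    ⟨fun x hx => IsHausdorff.haus' (I := J) x fun n => (hx n).mono (pow_le I J hIJ M n)⟩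
  refine { toIsHausdorff := hH, toIsPrecomplete := ?_ }
  rw [← AdicCompletion.of_surjective_iff]
  obtain ⟨e, he⟩ : ∃ e : M ≃ₗ[A] AdicCompletion J M, ∀ m, e m = of J M m :=
    ⟨LinearEquiv.ofBijective (AdicCompletion.of J M) (AdicCompletion.of_bijective J M),
      fun m => rfl⟩
  obtain ⟨ρ, hρ⟩ : ∃ ρ : AdicCompletion I M →ₗ[A] M, ∀ m, ρ (of I M m) = m := by
    refine ⟨e.symm.toLinearMap ∘ₗ cmp I J hIJ M, fun m => ?_⟩
    rw [LinearMap.comp_apply, cmp_of, ← he]
    exact e.symm_apply_apply m
  obtain ⟨π, hπ⟩ : ∃ π : AdicCompletion I M →ₗ[A] AdicCompletion I M,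
      ∀ y, π y = y - of I M (ρ y) :=
    ⟨LinearMap.id - (of I M) ∘ₗ ρ, fun y => rfl⟩
  have hπof : ∀ m, π (of I M m) = 0 := by
    intro m; rw [hπ, hρ, sub_self]
  have key : ∀ n : ℕ, LinearMap.range π ≤ (I ^ n • ⊤ : Submodule A (AdicCompletion I M)) := by
    intro n
    induction n with
    | zero => simp
    | succ n ih =>
      rintro _ ⟨y, rfl⟩
      obtain ⟨m, hm⟩ := Submodule.Quotient.mk_surjective _ (eval I M 1 y)
      have h1 : y - of I M m ∈ (I ^ 1 • ⊤ : Submodule A (AdicCompletion I M)) := by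
        rw [AdicCompletion.pow_smul_top_eq_ker_eval hI, LinearMap.mem_ker, map_sub, eval_of, ← hm]
        simp
      have h2 : π y = π (y - of I M m) := by rw [map_sub, hπof, sub_zero]
      rw [h2]
      have h3 := Submodule.mem_map_of_mem (f := π) h1
      rw [Submodule.map_smul'', Submodule.map_top] at h3
      have h4 : (I ^ 1 • LinearMap.range π) ≤ (I ^ (n + 1) • ⊤ : Submodule A (AdicCompletion I M)) := by
        calc I ^ 1 • LinearMap.range π ≤ I ^ 1 • (I ^ n • ⊤ : Submodule A (AdicCompletion I M)) :=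
              Submodule.smul_mono le_rfl ih
          _ = I ^ (n + 1) • ⊤ := by rw [← Submodule.mul_smul, ← pow_add, add_comm]
      exact h4 h3
  intro y
  refine ⟨ρ y, ?_⟩
  have h0 : π y = 0 :=
    IsHausdorff.haus' (I := I) (π y) fun n => SModEq.zero.2 (key n ⟨y, rfl⟩)
  rw [hπ, sub_eq_zero] at h0
  exact h0.symm

end Groth.Agent.S0546
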