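import Groth.Statements.S0549
import Mathlib
import Groth.Agent.S19474
import Groth.Agent.H29.RegLocal2

set_option autoImplicit false
set_option linter.style.haveILetI false
universe u
open CAlg

namespace Groth.Agent.S0549


open IsLocalRing in
/-- A Noetherian local ring is a DVR iff it is regular of dimension one. -/
theorem dvr_iff (B : Type u) [CommRing B] [IsLocalRing B] [IsNoetherianRing B] :
    (∃ _ : IsDomain B, IsDiscreteValuationRing B) ↔
      (IsRegularLocalRing B ∧ ringKrullDim B = 1) := by
  constructor
  · rintro ⟨hdom, hdvr⟩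
    have hnf : ¬ IsField B := IsDiscreteValuationRing.not_isField B
    have hdim : ringKrullDim B = 1 := IsPrincipalIdealRing.ringKrullDim_eq_one B hnf
    have hfin : Module.finrank (ResidueField B) (CotangentSpace B) = 1 :=
      ((IsDiscreteValuationRing.TFAE B hnf).out 0 5).mp hdvr
    refine ⟨(IsRegularLocalRing.iff_finrank_cotangentSpace B).mpr ?_, hdim⟩
    rw [hfin, hdim]; rfl
  · rintro ⟨hreg, hdim⟩
    haveI : IsDomain B := Groth.Agent.H29.isDomain_of_isRegularLocalRing B
    have hnf : ¬ IsField B := by
      intro hf
      rw [ringKrullDim_eq_zero_of_isField hf] at hdim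
      exact zero_ne_one hdim
    have h1 := (IsRegularLocalRing.iff_finrank_cotangentSpace B).mp hreg
    rw [hdim] at h1
    have hfin : Module.finrank (ResidueField B) (CotangentSpace B) = 1 := by
      exact_mod_cast h1
    exact ⟨inferInstance, ((IsDiscreteValuationRing.TFAE B hnf).out 0 5).mpr hfin⟩

/-- A Noetherian local ring is a discrete valuation ring exactly when its completion at the maximal
ideal is a discrete valuation ring. -/
theorem result (A : Type u) [CommRing A] [IsLocalRing A]
    [IsNoetherianRing A] :
    (∃ _ : IsDomain A, IsDiscreteValuationRing A) ↔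
      ∃ _ : IsDomain (AdicCompletion (IsLocalRing.maximalIdeal A) A),
        IsDiscreteValuationRing (AdicCompletion (IsLocalRing.maximalIdeal A) A) := by
  haveI : IsNoetherianRing (AdicCompletion (IsLocalRing.maximalIdeal A) A) :=
    Groth.Agent.S19474.isNoetherianRing_adicCompletion A _
  obtain ⟨hdim, hreg⟩ :=
    Groth.Agent.S19474.result A (IsLocalRing.maximalIdeal A) Ideal.IsPrime.ne_top'
  rw [dvr_iff A, dvr_iff (AdicCompletion (IsLocalRing.maximalIdeal A) A), hdim, hreg]

end Groth.Agent.S0549
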