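import Groth.Statements.S0552
import Mathlib
import Groth.Agent.Lib.Helper8.CatOrder

set_option autoImplicit false
universe u
open CAlg

namespace Groth.Agent.S0552

/-- A ring is catenary exactly when its localization at every maximal ideal is catenary. -/
theorem result (R : Type u) [CommRing R] :
    CAlg.IsCatenary R ↔ ∀ (m : Ideal R) [m.IsMaximal], CAlg.IsCatenary (Localization.AtPrime m) := by
  constructor
  · intro h m _
    exact Groth.Agent.Helper8.CatOrder.isCatenary_localization m.primeCompl _ h
  · intro h
    rw [Groth.Agent.Helper8.CatOrder.isCatenary_iff]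
    apply Groth.Agent.Helper8.CatOrder.cat_of_cover
    intro q
    obtain ⟨m, hm, hqm⟩ := Ideal.exists_le_maximal q.asIdeal q.2.ne_top
    haveI := hm
    refine ⟨fun p => Disjoint (m.primeCompl : Set R) p.asIdeal,
      fun a b hab hb => hb.mono_right hab, ?_,
      Groth.Agent.Helper8.CatOrder.cat_disjoint_of_isCatenary_localization m.primeCompl
        (Localization.AtPrime m) (h m)⟩
    change Disjoint (m.primeCompl : Set R) q.asIdeal
    rw [Set.disjoint_left]
    intro x hx hxq
    exact hx (hqm hxq)

end Groth.Agent.S0552
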