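import Groth.Statements.S0553
import Mathlib
import Groth.Agent.Lib.Helper8.CatOrder

set_option autoImplicit false
universe u
open CAlg

namespace Groth.Agent.S0553

attribute [local instance] MvPolynomial.algebraMvPolynomial in
theorem isCatenary_mvPolynomial_localization {R : Type u} [CommRing R] (M : Submonoid R)
    (R' : Type u) [CommRing R'] [Algebra R R'] [IsLocalization M R'] (n : ℕ)
    (h : CAlg.IsCatenary (MvPolynomial (Fin n) R)) : CAlg.IsCatenary (MvPolynomial (Fin n) R') :=
  Groth.Agent.Helper8.CatOrder.isCatenary_localization (M.map (MvPolynomial.C (σ := Fin n))) _ h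

/-- A Noetherian ring is universally catenary exactly when its localization at every maximal ideal is
universally catenary. -/
theorem result (R : Type u) [CommRing R]
    [IsNoetherianRing R] :
    CAlg.IsUniversallyCatenary R ↔
      ∀ (m : Ideal R) [m.IsMaximal], CAlg.IsUniversallyCatenary (Localization.AtPrime m) := by
  constructor
  · intro h m _
    refine ⟨IsLocalization.isNoetherianRing m.primeCompl _ inferInstance, fun T _ _ hT => ?_⟩
    obtain ⟨n, f, hf⟩ := (Algebra.FiniteType.iff_quotient_mvPolynomial'').1 hT
    have hP : CAlg.IsCatenary (MvPolynomial (Fin n) R) := h.2 _ inferInstance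
    have hP' := isCatenary_mvPolynomial_localization m.primeCompl (Localization.AtPrime m) n hP
    exact Groth.Agent.Helper8.CatOrder.isCatenary_of_surjective f.toRingHom hf hP'
  · intro h
    refine ⟨inferInstance, fun S _ _ hS => ?_⟩
    rw [Groth.Agent.Helper8.CatOrder.isCatenary_iff]
    apply Groth.Agent.Helper8.CatOrder.cat_of_cover
    intro q
    have hp : (q.asIdeal.comap (algebraMap R S)) ≠ ⊤ := (Ideal.IsPrime.comap _).ne_top
    obtain ⟨m, hm, hqm⟩ := Ideal.exists_le_maximal _ hp
    haveI := hm
    have hfin : (algebraMap R S).FiniteType := RingHom.finiteType_algebraMap.2 hS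
    haveI hloc : IsLocalization (Submonoid.map (algebraMap R S) m.primeCompl)
        (Localization (Algebra.algebraMapSubmonoid S m.primeCompl)) :=
      (inferInstance : IsLocalization (Algebra.algebraMapSubmonoid S m.primeCompl)
        (Localization (Algebra.algebraMapSubmonoid S m.primeCompl)))
    have hfin' : Algebra.FiniteType (Localization.AtPrime m)
        (Localization (Algebra.algebraMapSubmonoid S m.primeCompl)) :=
      RingHom.finiteType_localizationPreserves (algebraMap R S) m.primeCompl
        (Localization.AtPrime m) (Localization (Algebra.algebraMapSubmonoid S m.primeCompl)) hfin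
    have hcat : CAlg.IsCatenary (Localization (Algebra.algebraMapSubmonoid S m.primeCompl)) :=
      (h m).2 _ hfin'
    refine ⟨fun p => Disjoint ((Algebra.algebraMapSubmonoid S m.primeCompl : Submonoid S) : Set S)
        p.asIdeal, fun a b hab hb => hb.mono_right hab, ?_,
      Groth.Agent.Helper8.CatOrder.cat_disjoint_of_isCatenary_localization
        (Algebra.algebraMapSubmonoid S m.primeCompl)
        (Localization (Algebra.algebraMapSubmonoid S m.primeCompl)) hcat⟩
    change Disjoint ((Algebra.algebraMapSubmonoid S m.primeCompl : Submonoid S) : Set S) q.asIdeal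
    rw [Set.disjoint_left]
    rintro x ⟨r, hr, rfl⟩ hxq
    exact hr (hqm hxq)

end Groth.Agent.S0553
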