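import Groth.Statements.S0561
import Groth.Agent.H29.RegParam

set_option autoImplicit false
universe u
open CAlg

namespace Groth.Agent.S0561

/-- Let `R` be a regular local ring of dimension `d` and `I` an ideal with `R/I` a regular local ring.
Then there are elements `x₁, …, x_d` generating the maximal ideal such that `I` is generated by `x₁,
…, x_c` for some `c ≤ d`. -/
theorem result (R : Type u) [CommRing R]
    [IsRegularLocalRing R] (d : ℕ) (hd : ringKrullDim R = d) (I : Ideal R)
    [IsRegularLocalRing (R ⧸ I)] :
    ∃ (x : Fin d → R) (c : ℕ) (hc : c ≤ d), Ideal.span (Set.range x) = IsLocalRing.maximalIdeal R ∧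
      I = Ideal.span (Set.range (fun i : Fin c => x (Fin.castLE hc i))) := by
  open Groth.Agent.H29 in
  obtain ⟨c, x', hli, hI⟩ := exists_linearIndependent_generators R I
  obtain ⟨s, y, hcs, hspan⟩ := exists_extension_generators R x' hli
  have h3 := IsRegularLocalRing.spanFinrank_maximalIdeal (R := R)
  rw [hd] at h3
  have hcs' : c + s = d := by rw [hcs]; exact withBot_natCast_inj h3
  subst hcs'
  have hset : Set.range (Fin.append (fun i => (x' i : R)) (fun j => (y j : R))) =
      Set.range (fun i => (x' i : R)) ∪ Set.range (fun j => (y j : R)) := by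
    ext a
    constructor
    · rintro ⟨i, rfl⟩
      refine Fin.addCases (fun i => ?_) (fun j => ?_) i
      · rw [Fin.append_left]
        exact Or.inl ⟨i, rfl⟩
      · rw [Fin.append_right]
        exact Or.inr ⟨j, rfl⟩
    · rintro (⟨i, rfl⟩ | ⟨j, rfl⟩)
      · exact ⟨Fin.castAdd s i, Fin.append_left _ _ i⟩
      · exact ⟨Fin.natAdd c j, Fin.append_right _ _ j⟩
  refine ⟨Fin.append (fun i => (x' i : R)) (fun j => (y j : R)), c, Nat.le_add_right c s, ?_, ?_⟩
  · rw [hset]
    exact hspan
  · rw [hI]
    congr 2
    funext i
    exact (Fin.append_left (fun i => (x' i : R)) (fun j => (y j : R)) i).symm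

end Groth.Agent.S0561
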