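import Mathlib
import Groth.Statements.S0571
import Groth.Agent.Lib.Helper9.LocFinN1
-- import your own Groth.Agent.* helpers here

set_option autoImplicit false
universe u
open CAlg

namespace Groth.Agent.S0571


/-- A Noetherian domain `R` is N-1 exactly when (a) `R_f` is integrally closed for some nonzero `f`, and
(b) the localization of `R` at every maximal ideal is N-1. -/
theorem result (R : Type u) [CommRing R] [IsDomain R]
    [IsNoetherianRing R] :
    CAlg.IsN1 R ↔ ((∃ f : R, f ≠ 0 ∧ IsIntegrallyClosed (Localization.Away f)) ∧
      ∀ (m : Ideal R) [m.IsMaximal], CAlg.IsN1 (Localization.AtPrime m)) := by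
  classical
  constructor
  · intro h
    refine ⟨Groth.Agent.Helper9.LocFinN1.exists_isIntegrallyClosed_away h, fun m _ => ?_⟩
    exact Groth.Agent.Helper9.LocFinN1.isN1_localization m.primeCompl
      (Ideal.primeCompl_le_nonZeroDivisors m) h
  · rintro ⟨⟨f, hf0, hic⟩, hloc⟩
    have hinj : Function.Injective (algebraMap R (FractionRing R)) :=
      IsFractionRing.injective R (FractionRing R)
    have hf : ∀ x : integralClosure R (FractionRing R), f • x = 0 → x = 0 := by
      intro x hx
      have h1 : (algebraMap R (FractionRing R) f) * (x : FractionRing R) = 0 := by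
        have := congrArg (fun z : integralClosure R (FractionRing R) => (z : FractionRing R)) hx
        simpa [Algebra.smul_def] using this
      rcases mul_eq_zero.mp h1 with h2 | h2
      · exact absurd (hinj (h2.trans (map_zero _).symm)) hf0
      · exact Subtype.ext h2
    show Module.Finite R (integralClosure R (FractionRing R))
    rw [Module.finite_def]
    refine Groth.Agent.Helper9.LocFin.fg_top_of_local (f := f) hf
      (Submodule.span R {(1 : integralClosure R (FractionRing R))})
      (Submodule.fg_span_singleton _) ?_ ?_
    · intro x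
      obtain ⟨k, a, hka⟩ := Groth.Agent.Helper9.LocFinN1.exists_pow_smul_eq f hf0 hic x
      refine ⟨k, ?_⟩
      rw [hka, Algebra.algebraMap_eq_smul_one]
      exact Submodule.smul_mem _ _ (Submodule.mem_span_singleton_self _)
    · intro p hp
      obtain ⟨m, hm, hpm⟩ := Ideal.exists_le_maximal p hp.ne_top
      obtain ⟨D, hD, hD2⟩ := Groth.Agent.Helper9.LocFinN1.exists_fg_of_isN1 m.primeCompl
        (Ideal.primeCompl_le_nonZeroDivisors m) (hloc m)
      exact ⟨D, hD, fun x => by
        obtain ⟨s, hs, hsx⟩ := hD2 x
        exact ⟨s, fun hsp => hs (hpm hsp), hsx⟩⟩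

end Groth.Agent.S0571
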