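import Mathlib
import Groth.Statements.S0572
-- import your own Groth.Agent.* helpers here

set_option autoImplicit false
universe u
open CAlg

namespace Groth.Agent.S0572

/-- `r` is a denominator of `x`. -/
def Den {R : Type u} [CommRing R] (x : FractionRing R) (r : R) : Prop :=
  ∃ b : R, algebraMap R (FractionRing R) r * x = algebraMap R (FractionRing R) b

theorem ic_iff {R : Type u} [CommRing R] [IsDomain R] (M : Submonoid R)
    (hM : M ≤ nonZeroDivisors R) (S : Type u) [CommRing S] [Algebra R S] [IsLocalization M S] :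
    IsIntegrallyClosed S ↔ ∀ x : FractionRing R, IsIntegral R x → ∃ m ∈ M, Den x m := by
  let K := FractionRing R
  haveI : IsDomain S := IsLocalization.isDomain_of_le_nonZeroDivisors S hM
  have hg : ∀ m : M, IsUnit (algebraMap R K m) := fun m =>
    IsLocalization.map_units K (⟨m.1, hM m.2⟩ : nonZeroDivisors R)
  let ψ : S →+* K := IsLocalization.lift hg
  letI : Algebra S K := ψ.toAlgebra
  haveI : IsScalarTower R S K :=
    IsScalarTower.of_algebraMap_eq (fun r => (IsLocalization.lift_eq hg r).symm)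
  haveI : IsFractionRing S K := IsFractionRing.isFractionRing_of_isDomain_of_isLocalization M S K
  rw [isIntegrallyClosed_iff K]
  constructor
  · intro h x hx
    obtain ⟨s, hs⟩ := h (hx.tower_top (A := S))
    obtain ⟨⟨b, m⟩, hbm⟩ := IsLocalization.surj M s
    dsimp only at hbm
    refine ⟨m.1, m.2, b, ?_⟩
    have h1 := congrArg (algebraMap S K) hbm
    rw [map_mul, hs, ← IsScalarTower.algebraMap_apply, ← IsScalarTower.algebraMap_apply] at h1
    rw [mul_comm]; exact h1
  · intro h x hx
    obtain ⟨m, hm⟩ := IsIntegral.exists_multiple_integral_of_isLocalization M x hx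
    obtain ⟨m', hm', b, hb⟩ := h _ hm
    obtain ⟨y, hyd⟩ : ∃ y : M, (y : R) = m' * m := ⟨⟨m', hm'⟩ * m, rfl⟩
    refine ⟨IsLocalization.mk' S b y, ?_⟩
    have hy : IsUnit (algebraMap R K (y : R)) := hg y
    have h1 : algebraMap S K (IsLocalization.mk' S b y) * algebraMap R K (y : R) =
        algebraMap R K b := by
      rw [IsScalarTower.algebraMap_apply R S K (y : R), ← map_mul, IsLocalization.mk'_spec,
        ← IsScalarTower.algebraMap_apply]
    have h2 : x * algebraMap R K (y : R) = algebraMap R K b := by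
      rw [← hb, hyd, Submonoid.smul_def, Algebra.smul_def, map_mul]
      ring
    exact hy.mul_left_injective (h1.trans h2.symm)

theorem key {R : Type u} [CommRing R] [IsDomain R] [IsNoetherianRing R] (f : R) (hf : f ≠ 0)
    (hn : ∀ x : FractionRing R, IsIntegral R x → ∃ n : ℕ, Den x (f ^ n))
    (p : Ideal R) [hp : p.IsPrime] (x : FractionRing R) (hx : IsIntegral R x)
    (hxp : ∀ r, Den x r → r ∈ p) :
    ∃ q ∈ associatedPrimes R (R ⧸ Ideal.span {f}), q ≤ p ∧
      ∃ z : FractionRing R, IsIntegral R z ∧ ∀ r, Den z r → r ∈ q := by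
  classical
  let K := FractionRing R
  have hfK : algebraMap R K f ≠ 0 := fun h =>
    hf (IsFractionRing.injective R K (by rw [h, map_zero]))
  let P : ℕ → Prop := fun n => ∃ r, r ∉ p ∧ Den (algebraMap R K (f ^ n) * x) r
  obtain ⟨N, b, hb⟩ := hn x hx
  have hPN : P N := ⟨1, fun h => hp.ne_top ((Ideal.eq_top_iff_one p).mpr h), b, by
    rw [map_one, one_mul]; exact hb⟩
  have hP0 : ¬ P 0 := by
    rintro ⟨r, hr, hd⟩
    rw [pow_zero, map_one, one_mul] at hd
    exact hr (hxp r hd)
  have hn0 : Nat.find ⟨N, hPN⟩ ≠ 0 := fun h => hP0 (h ▸ Nat.find_spec ⟨N, hPN⟩)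
  obtain ⟨k, hk⟩ := Nat.exists_eq_succ_of_ne_zero hn0
  have hPk : ¬ P k := Nat.find_min ⟨N, hPN⟩ (by rw [hk]; exact Nat.lt_succ_self k)
  have hPk1 : P (k + 1) := by
    have := Nat.find_spec ⟨N, hPN⟩
    rw [hk] at this
    exact this
  obtain ⟨s, hsp, a, ha⟩ := hPk1
  let y : K := algebraMap R K (f ^ k) * x
  have hy : IsIntegral R y := IsIntegral.mul isIntegral_algebraMap hx
  have hyp : ∀ r, Den y r → r ∈ p := fun r hr => by
    by_contra hrp
    exact hPk ⟨r, hrp, hr⟩
  let z : K := algebraMap R K s * y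
  have hz : IsIntegral R z := IsIntegral.mul isIntegral_algebraMap hy
  have hfz : algebraMap R K f * z = algebraMap R K a := by
    rw [← ha, pow_succ, map_mul]
    show algebraMap R K f * (algebraMap R K s * (algebraMap R K (f ^ k) * x)) = _
    ring
  have hzp : ∀ r, Den z r → r ∈ p := by
    rintro r ⟨c, hc⟩
    have h1 : Den y (r * s) := ⟨c, by rw [map_mul, mul_assoc]; exact hc⟩
    exact (hp.mem_or_mem (hyp _ h1)).resolve_right hsp
  let abar : R ⧸ Ideal.span {f} := Ideal.Quotient.mk _ a
  let I : Ideal R := (Submodule.span R ({abar} : Set (R ⧸ Ideal.span {f}))).annihilator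
  have hI : ∀ r, r ∈ I ↔ Den z r := by
    intro r
    rw [Submodule.mem_annihilator_span_singleton]
    show r • (Ideal.Quotient.mk (Ideal.span {f}) a) = 0 ↔ _
    rw [Algebra.smul_def, Ideal.Quotient.algebraMap_eq, ← map_mul, Ideal.Quotient.eq_zero_iff_mem,
      Ideal.mem_span_singleton']
    constructor
    · rintro ⟨c, hc⟩
      refine ⟨c, ?_⟩
      apply mul_left_cancel₀ hfK
      calc algebraMap R K f * (algebraMap R K r * z)
          = algebraMap R K r * (algebraMap R K f * z) := by ring
        _ = algebraMap R K (r * a) := by rw [hfz, map_mul]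
        _ = algebraMap R K (c * f) := by rw [hc]
        _ = algebraMap R K f * algebraMap R K c := by rw [map_mul]; ring
    · rintro ⟨c, hc⟩
      refine ⟨c, ?_⟩
      apply IsFractionRing.injective R K
      calc algebraMap R K (c * f) = algebraMap R K f * algebraMap R K c := by rw [map_mul]; ring
        _ = algebraMap R K f * (algebraMap R K r * z) := by rw [hc]
        _ = algebraMap R K r * (algebraMap R K f * z) := by ring
        _ = algebraMap R K (r * a) := by rw [hfz, map_mul]
  have hIp : I ≤ p := fun r hr => hzp r ((hI r).mp hr)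
  obtain ⟨q, hq, hqp⟩ := Ideal.exists_minimalPrimes_le hIp
  have hq1 : q ∈ associatedPrimes R
      ↥(Submodule.span R ({abar} : Set (R ⧸ Ideal.span {f}))) :=
    Module.associatedPrimes.minimalPrimes_annihilator_subset_associatedPrimes R _ hq
  have hq2 : q ∈ associatedPrimes R (R ⧸ Ideal.span {f}) :=
    associatedPrimes.subset_of_injective
      (f := (Submodule.span R ({abar} : Set (R ⧸ Ideal.span {f}))).subtype)
      (Submodule.subtype_injective _) hq1
  exact ⟨q, hq2, hqp, z, hz, fun r hr => hq.1.2 ((hI r).mpr hr)⟩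


/-- Let `R` be a Noetherian domain such that `R_f` is integrally closed for some nonzero `f`. Then the
set of primes `p` with `R_p` integrally closed is open in `Spec R`. -/
theorem result (R : Type u) [CommRing R] [IsDomain R] [IsNoetherianRing R] (f : R)
    (hf : f ≠ 0) (hn : IsIntegrallyClosed (Localization.Away f)) :
    IsOpen {p : PrimeSpectrum R | IsIntegrallyClosed (Localization.AtPrime p.asIdeal)} := by
  classical
  let K := FractionRing R
  have hn' : ∀ x : K, IsIntegral R x → ∃ n : ℕ, Den x (f ^ n) := by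
    intro x hx
    obtain ⟨m, ⟨n, rfl⟩, hd⟩ := (ic_iff (Submonoid.powers f)
      (powers_le_nonZeroDivisors_of_noZeroDivisors hf) (Localization.Away f)).mp hn x hx
    exact ⟨n, hd⟩
  have hU : ∀ p : PrimeSpectrum R, IsIntegrallyClosed (Localization.AtPrime p.asIdeal) ↔
      ∀ x : K, IsIntegral R x → ∃ m, m ∉ p.asIdeal ∧ Den x m := by
    intro p
    rw [ic_iff p.asIdeal.primeCompl p.asIdeal.primeCompl_le_nonZeroDivisors
      (Localization.AtPrime p.asIdeal)]
    exact Iff.rfl
  let E : Set (Ideal R) := {q | q ∈ associatedPrimes R (R ⧸ Ideal.span {f}) ∧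
    ∃ z : K, IsIntegral R z ∧ ∀ r, Den z r → r ∈ q}
  have hE : E.Finite :=
    (associatedPrimes.finite R (R ⧸ Ideal.span {f})).subset (fun q hq => hq.1)
  have hcompl : {p : PrimeSpectrum R | IsIntegrallyClosed (Localization.AtPrime p.asIdeal)}ᶜ =
      ⋃ q ∈ E, PrimeSpectrum.zeroLocus (q : Set R) := by
    ext p
    rw [Set.mem_compl_iff]
    show ¬ IsIntegrallyClosed (Localization.AtPrime p.asIdeal) ↔ _
    rw [hU p]
    simp only [Set.mem_iUnion, PrimeSpectrum.mem_zeroLocus, SetLike.coe_subset_coe]
    constructor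
    · intro hnot
      push Not at hnot
      obtain ⟨x, hx, hxp⟩ := hnot
      obtain ⟨q, hq, hqp, z, hz, hzq⟩ := key f hf hn' p.asIdeal x hx
        (fun r hr => by by_contra h; exact hxp r h hr)
      exact ⟨q, ⟨hq, z, hz, hzq⟩, hqp⟩
    · rintro ⟨q, ⟨hq, z, hz, hzq⟩, hqp⟩ hall
      obtain ⟨m, hm, hd⟩ := hall z hz
      exact hm (hqp (hzq m hd))
  rw [← isClosed_compl_iff, hcompl]
  exact hE.isClosed_biUnion (fun q _ => PrimeSpectrum.isClosed_zeroLocus _)

end Groth.Agent.S0572
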