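import Groth.Statements.S0574
import Mathlib

set_option autoImplicit false
universe u
open CAlg

namespace Groth.Agent.S0574

/-- For Noetherian domains of characteristic zero the conditions N-1 and N-2 coincide. -/
theorem result (R : Type u) [CommRing R] [IsDomain R] [IsNoetherianRing R]
    [CharZero R] : CAlg.IsN1 R ↔ CAlg.IsN2 R := by
  constructor
  · intro h1 L _ _ _ _ hfd
    -- notation
    have h1' : Module.Finite R (integralClosure R (FractionRing R)) := h1
    have hNoeth : IsNoetherianRing (integralClosure R (FractionRing R)) :=
      isNoetherian_of_tower R (isNoetherian_of_isNoetherianRing_of_finite R _)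
    have hIC : IsIntegrallyClosed (integralClosure R (FractionRing R)) :=
      integralClosure.isIntegrallyClosedOfFiniteExtension (FractionRing R)
    have hFr : IsFractionRing (integralClosure R (FractionRing R)) (FractionRing R) :=
      IsIntegralClosure.isFractionRing_of_finite_extension R (FractionRing R) (FractionRing R) _
    have hsep : Algebra.IsSeparable (FractionRing R) L := inferInstance
    have hfin := IsIntegralClosure.finite (integralClosure R (FractionRing R)) (FractionRing R) L
      (integralClosure (integralClosure R (FractionRing R)) L)
    have hfinR : Module.Finite R (integralClosure (integralClosure R (FractionRing R)) L) :=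
      Module.Finite.trans (integralClosure R (FractionRing R)) _
    have hmem : ∀ y : integralClosure (integralClosure R (FractionRing R)) L,
        y.1 ∈ integralClosure R L := by
      intro y
      exact isIntegral_trans (A := integralClosure R (FractionRing R)) y.1 y.2
    let φ : integralClosure (integralClosure R (FractionRing R)) L →ₗ[R] integralClosure R L :=
      { toFun := fun y => ⟨y.1, hmem y⟩
        map_add' := fun a b => rfl
        map_smul' := fun r a => rfl }
    refine Module.Finite.of_surjective φ ?_
    rintro ⟨x, hx⟩
    exact ⟨⟨x, IsIntegral.tower_top hx⟩, rfl⟩
  · intro h2
    exact h2 (FractionRing R) inferInstance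

end Groth.Agent.S0574
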