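import Groth.Statements.S0579
import Mathlib

set_option autoImplicit false
set_option linter.style.haveILetI false
universe u
open CAlg

namespace Groth.Agent.S0579

/-- A local ring which is complete with respect to its maximal ideal and whose residue field has
characteristic zero admits a coefficient field: there is a ring homomorphism from the residue field
to the ring which is a section of the residue map. -/
theorem result (R : Type u) [CommRing R] [IsLocalRing R]
    [IsAdicComplete (IsLocalRing.maximalIdeal R) R] [CharZero (IsLocalRing.ResidueField R)] :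
    ∃ s : IsLocalRing.ResidueField R →+* R, (IsLocalRing.residue R).comp s = RingHom.id _ := by
  classical
  -- `R` is a `ℚ`-algebra
  have hunit : ∀ y : nonZeroDivisors ℤ, IsUnit (Int.castRingHom R (y : ℤ)) := by
    intro y
    rw [← IsLocalRing.notMem_maximalIdeal, ← IsLocalRing.residue_eq_zero_iff, eq_intCast,
      map_intCast, Int.cast_eq_zero]
    exact nonZeroDivisors.ne_zero y.2
  letI : Algebra ℚ R := (IsLocalization.lift (M := nonZeroDivisors ℤ) (S := ℚ) hunit).toAlgebra
  -- the residue field is formally smooth over `ℚ`
  obtain ⟨B, hB⟩ := exists_isTranscendenceBasis ℚ (IsLocalRing.ResidueField R)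
  haveI : Algebra.IsAlgebraic (IntermediateField.adjoin ℚ (Set.range ((↑) : B → IsLocalRing.ResidueField R)))
      (IsLocalRing.ResidueField R) := hB.isAlgebraic_field
  haveI : Algebra.IsSeparable (IntermediateField.adjoin ℚ (Set.range ((↑) : B → IsLocalRing.ResidueField R)))
      (IsLocalRing.ResidueField R) := inferInstance
  haveI : Algebra.FormallySmooth ℚ (IsLocalRing.ResidueField R) :=
    .of_algebraicIndependent_of_isSeparable hB.1
  let f₀ : IsLocalRing.ResidueField R →+* R ⧸ IsLocalRing.maximalIdeal R := RingHom.id _
  let f : IsLocalRing.ResidueField R →ₐ[ℚ] R ⧸ IsLocalRing.maximalIdeal R := f₀.toRatAlgHom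
  obtain ⟨g, hg⟩ := Algebra.FormallySmooth.exists_mkₐ_comp_eq_of_isAdicComplete
    (I := IsLocalRing.maximalIdeal R) f
  refine ⟨g.toRingHom, ?_⟩
  ext x
  have := congr($hg x)
  exact this

end Groth.Agent.S0579
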