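import Groth.Statements.S0584
import Mathlib
import Groth.Agent.Lib.Helper12.MLProj
import Groth.Agent.Lib.Helper12.KapLocal2

set_option autoImplicit false
universe u
open scoped Classical
open CAlg

namespace Groth.Agent.S0584

/-- Projectivity of a module is equivalent to the conjunction of three conditions — flatness, the
Mittag-Leffler property, and being an internal direct sum of countably generated submodules. -/
theorem result (R : Type u) [CommRing R] (M : Type u)
    [AddCommGroup M] [Module R M] :
    Module.Projective R M ↔ (Module.Flat R M ∧ CAlg.IsMittagLeffler R M ∧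
      ∃ (ι : Type u) (N : ι → Submodule R M), DirectSum.IsInternal N ∧
        ∀ i, CAlg.IsCountablyGenerated R (N i)) := by
  constructor
  · intro hproj
    refine ⟨inferInstance, ?_, ?_⟩
    · intro ι Q _ _
      exact Groth.Agent.Helper12.MLProj.ml_of_projective ι Q
    obtain ⟨M', e, 𝒞, h1, h2, h3⟩ :=
      Groth.Agent.Helper12.KapLocal.exists_decomp_of_projective R M
    refine ⟨↥𝒞, fun k => Submodule.orderIsoMapComap e.symm ((k.1).comap M'.subtype), ?_, ?_⟩
    · have hind := h1.map_orderIso (Submodule.orderIsoMapComap e.symm)
      have hsup : (⨆ k : ↥𝒞, Submodule.orderIsoMapComap e.symm ((k.1).comap M'.subtype)) = ⊤ := by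
        rw [← OrderIso.map_iSup, h2, OrderIso.map_top]
      convert (DirectSum.isInternal_submodule_iff_iSupIndep_and_iSup_eq_top
        (fun k : ↥𝒞 => Submodule.orderIsoMapComap e.symm ((k.1).comap M'.subtype))).mpr
        ⟨hind, hsup⟩
      all_goals first | rfl | exact Subsingleton.elim _ _
    · intro k
      exact Groth.Agent.Helper12.MLProj.cg_of_equiv
        (e.symm.submoduleMap ((k.1).comap M'.subtype)) (h3 k)
  · rintro ⟨hflat, hML, ι, N, hN, hcg⟩
    have hind := hN.submodule_iSupIndep
    have htop := hN.submodule_iSup_eq_top
    have hproj : ∀ i, Module.Projective R (N i) := by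
      intro i
      have hc : IsCompl (N i) (⨆ (j : ι) (_ : j ≠ i), N j) := by
        refine ⟨hind i, ?_⟩
        rw [codisjoint_iff, ← iSup_split_single N i, htop]
      have hri : (Submodule.projectionOnto (N i) _ hc) ∘ₗ (N i).subtype = LinearMap.id := by
        ext z; simp
      haveI : Module.Flat R (N i) := Module.Flat.of_retract (N i).subtype _ hri
      obtain ⟨s, hs, hspan⟩ := hcg i
      exact Groth.Agent.Helper12.MLProj.projective_of_flat_ml_countable
        (fun ι' Q _ _ =>
          Groth.Agent.Helper12.MLProj.ml_of_retract hML (N i).subtype _ hri ι' Q) s hs hspan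
    haveI := hproj
    exact Module.Projective.of_equiv' (LinearEquiv.ofBijective (DirectSum.coeLinearMap N) hN)

end Groth.Agent.S0584
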