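import Groth.Statements.S0587
import Mathlib

set_option autoImplicit false
universe u
open CAlg

namespace Groth.Agent.S0587

open TensorProduct in
/-- with a fixed finite generating family, every tensor is a sum of `s j ⊗ q j`. -/
private theorem exists_eq_sum_tmul {R : Type*} [CommRing R] {M : Type*} [AddCommGroup M] [Module R M]
    {n : ℕ} (s : Fin n → M) (hs : Submodule.span R (Set.range s) = ⊤)
    (Q : Type*) [AddCommGroup Q] [Module R Q] (t : M ⊗[R] Q) :
    ∃ q : Fin n → Q, t = ∑ j, s j ⊗ₜ[R] q j := by
  induction t using TensorProduct.induction_on with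
  | zero => exact ⟨0, by simp⟩
  | tmul m q =>
    have hm : m ∈ Submodule.span R (Set.range s) := by rw [hs]; trivial
    obtain ⟨c, rfl⟩ := (Submodule.mem_span_range_iff_exists_fun R).mp hm
    refine ⟨fun j => c j • q, ?_⟩
    rw [TensorProduct.sum_tmul]
    refine Finset.sum_congr rfl fun j _ => ?_
    rw [TensorProduct.smul_tmul]
  | add x y hx hy =>
    obtain ⟨qx, rfl⟩ := hx
    obtain ⟨qy, rfl⟩ := hy
    refine ⟨qx + qy, ?_⟩
    simp [TensorProduct.tmul_add, Finset.sum_add_distrib]

open TensorProduct in
/-- A module `M` is finitely generated exactly when for every family of modules `(Qᵢ)` the natural map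
from `M ⊗ ∏ Qᵢ` to `∏ (M ⊗ Qᵢ)` is surjective. -/
theorem result (R : Type u) [CommRing R] (M : Type u)
    [AddCommGroup M] [Module R M] :
    Module.Finite R M ↔ ∀ (ι : Type u) (Q : ι → Type u) [∀ i, AddCommGroup (Q i)]
      [∀ i, Module R (Q i)], Function.Surjective (TensorProduct.piRightHom R R M Q) := by
  constructor
  · intro hfin ι Q _ _ y
    obtain ⟨n, s, hs⟩ := Module.Finite.exists_fin (R := R) (M := M)
    choose q hq using fun i => exists_eq_sum_tmul s hs (Q i) (y i)
    refine ⟨∑ j, s j ⊗ₜ[R] (fun i => q i j), ?_⟩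
    ext i
    rw [map_sum, Finset.sum_apply, hq i]
    rfl
  · intro h
    obtain ⟨x, hx⟩ := h M (fun _ => R) (fun m => m ⊗ₜ[R] (1 : R))
    obtain ⟨S, rfl⟩ := TensorProduct.exists_finset x
    classical
    refine ⟨⟨S.image Prod.fst, ?_⟩⟩
    rw [eq_top_iff]
    intro m _
    have hm := congrFun hx m
    rw [map_sum, Finset.sum_apply] at hm
    have hm' := congrArg (TensorProduct.rid R M) hm
    rw [map_sum] at hm'
    simp only [TensorProduct.piRightHom_tmul, TensorProduct.rid_tmul, one_smul] at hm'
    rw [← hm']
    refine Submodule.sum_mem _ fun i hi => ?_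
    apply Submodule.smul_mem
    apply Submodule.subset_span
    exact Finset.mem_coe.mpr (Finset.mem_image_of_mem _ hi)

end Groth.Agent.S0587
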