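import Groth.Statements.S0589
import Mathlib
import Groth.Agent.Lib.Helper12.HensFit2

set_option autoImplicit false
universe u
open scoped Classical
open CAlg

namespace Groth.Agent.S0589

/-- Over a henselian local ring, a countably generated Mittag-Leffler module is an internal direct sum
of finitely presented submodules. -/
theorem result (R : Type u) [CommRing R]
    [HenselianLocalRing R] (M : Type u) [AddCommGroup M] [Module R M] (hc : CAlg.IsCountablyGenerated R M)
    (hML : CAlg.IsMittagLeffler R M) :
    ∃ (ι : Type u) (N : ι → Submodule R M), DirectSum.IsInternal N ∧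
      ∀ i, Module.FinitePresentation R (N i) := by
  classical
  obtain ⟨s, hs, hspan⟩ := hc
  obtain ⟨g, hg⟩ := (hs.insert 0).exists_eq_range (Set.insert_nonempty 0 s)
  have hgspan : Submodule.span R (Set.range g) = ⊤ := by
    rw [← hg, eq_top_iff, ← hspan]; exact Submodule.span_mono (Set.subset_insert 0 s)
  obtain ⟨A, C, N, hA0, hAC, hA, hNC, hdis, hgA, hfp⟩ :=
    Groth.Agent.Helper12.HensFit.exists_chain (R := R) (M := M)
      (fun N => Module.FinitePresentation R N)
      (fun A C hAC x => Groth.Agent.Helper12.HensFit.step hML ⟨s, hs, hspan⟩ A C hAC x) g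
  have hind : iSupIndep N := Groth.Agent.Helper12.HensFit.indep_of_chain A C N hAC hA hNC hdis
  have hAle : ∀ k, A k ≤ ⨆ j, N j := by
    intro k
    induction k with
    | zero => rw [hA0]; exact bot_le
    | succ k ih => rw [hA]; exact sup_le ih (le_iSup N k)
  have htop : ⨆ j, N j = ⊤ := by
    rw [eq_top_iff, ← hgspan, Submodule.span_le]
    rintro _ ⟨k, rfl⟩
    exact hAle (k + 1) (hgA k)
  refine ⟨ULift.{u} ℕ, fun i => N i.down, ?_, fun i => hfp i.down⟩
  have hind' : iSupIndep (fun i : ULift.{u} ℕ => N i.down) := hind.comp ULift.down_injective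
  have htop' : (⨆ i : ULift.{u} ℕ, N i.down) = ⊤ := by
    rw [← htop]; exact ULift.down_surjective.iSup_comp N
  convert (DirectSum.isInternal_submodule_iff_iSupIndep_and_iSup_eq_top
    (fun i : ULift.{u} ℕ => N i.down)).mpr ⟨hind', htop'⟩
  all_goals first | rfl | exact Subsingleton.elim _ _

end Groth.Agent.S0589
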