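import Groth.Statements.S2076
import Mathlib

set_option autoImplicit false
universe u
open CategoryTheory AlgebraicGeometry
open Lim

namespace Groth.Agent.S2076

theorem ft_gen {A B : Type u} [CommRing A] [CommRing B] (f : A →+* B) (hf : f.FiniteType) :
    ∃ G : Finset B, ∀ R : Subring B, (∀ a, f a ∈ R) → (∀ b ∈ G, b ∈ R) → ∀ b, b ∈ R := by
  letI := f.toAlgebra
  obtain ⟨G, hG⟩ := (hf : Algebra.FiniteType A B).out
  refine ⟨G, fun R hR hGR b => ?_⟩
  let R' : Subalgebra A B := { R.toSubsemiring with algebraMap_mem' := fun a => hR a }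
  have hle : Algebra.adjoin A (G : Set B) ≤ R' :=
    Algebra.adjoin_le (fun b hb => hGR b (by exact_mod_cast hb))
  rw [hG] at hle
  exact hle Algebra.mem_top

set_option backward.defeqAttrib.useBackward true in
set_option backward.isDefEq.respectTransparency false in
open AlgebraicGeometry CategoryTheory Limits in
theorem ci_affine {J : Type u} [SmallCategory J] [IsCofiltered J] (E : J ⥤ Scheme.{u})
    (cE : Cone E) (hcE : IsLimit cE) [∀ j, IsAffine (E.obj j)] [IsAffine cE.pt]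
    {Y : Scheme.{u}} (h : Y ⟶ cE.pt) [IsClosedImmersion h] (j₀ : J)
    [LocallyOfFiniteType (h ≫ cE.π.app j₀)] :
    ∃ j : J, ∀ (k : J) (_ : k ⟶ j), IsClosedImmersion (h ≫ cE.π.app k) := by
  classical
  haveI : IsAffine Y := isAffine_of_isAffineHom h
  have hsurj : Function.Surjective h.appTop :=
    (IsClosedImmersion.isAffine_surjective_of_isAffine h).2
  have hft : RingHom.FiniteType (h ≫ cE.π.app j₀).appTop.hom :=
    (HasRingHomProperty.iff_of_isAffine (P := @LocallyOfFiniteType)).mp inferInstance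
  have hrep : ∀ b : Γ(Y, ⊤), ∃ (j : J) (t : Γ(E.obj j, ⊤)),
      (h ≫ cE.π.app j).appTop t = b := by
    intro b
    obtain ⟨a, rfl⟩ := hsurj b
    obtain ⟨j, t, rfl⟩ := exists_appTop_π_eq_of_isAffine_of_isLimit E cE hcE a
    exact ⟨j, t, by rw [Scheme.Hom.comp_appTop]; rfl⟩
  have hmono : ∀ {k j : J} (φ : k ⟶ j) (t : Γ(E.obj j, ⊤)),
      (h ≫ cE.π.app j).appTop t = (h ≫ cE.π.app k).appTop ((E.map φ).appTop t) := by
    intro k j φ t
    have e : h ≫ cE.π.app j = (h ≫ cE.π.app k) ≫ E.map φ := by rw [Category.assoc, cE.w φ]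
    have e2 : (h ≫ cE.π.app j).appTop = (E.map φ).appTop ≫ (h ≫ cE.π.app k).appTop := by
      rw [e, Scheme.Hom.comp_appTop]
    rw [e2]; rfl
  have hfin : ∀ G : Finset Γ(Y, ⊤), ∃ j : J, Nonempty (j ⟶ j₀) ∧
      ∀ b ∈ G, ∃ t, (h ≫ cE.π.app j).appTop t = b := by
    intro G
    induction G using Finset.induction_on with
    | empty => exact ⟨j₀, ⟨𝟙 _⟩, by simp⟩
    | insert b G hb ih =>
      obtain ⟨j, ⟨φ₀⟩, hj⟩ := ih
      obtain ⟨jb, tb, htb⟩ := hrep b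
      refine ⟨IsCofiltered.min j jb, ⟨IsCofiltered.minToLeft j jb ≫ φ₀⟩, ?_⟩
      intro b' hb'
      rcases Finset.mem_insert.mp hb' with rfl | hb'
      · exact ⟨_, (hmono (IsCofiltered.minToRight j jb) tb).symm.trans htb⟩
      · obtain ⟨t, ht⟩ := hj b' hb'
        exact ⟨_, (hmono (IsCofiltered.minToLeft j jb) t).symm.trans ht⟩
  obtain ⟨G, hG⟩ := ft_gen _ hft
  obtain ⟨j, ⟨φ₀⟩, hj⟩ := hfin G
  refine ⟨j, fun k φ => ?_⟩
  apply IsClosedImmersion.of_surjective_of_isAffine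
  intro b
  have hb := hG ((h ≫ cE.π.app k).appTop.hom.range) ?_ ?_ b
  · exact RingHom.mem_range.mp hb
  · intro a
    exact RingHom.mem_range.mpr ⟨(E.map (φ ≫ φ₀)).appTop a, (hmono (φ ≫ φ₀) a).symm⟩
  · intro b hb
    obtain ⟨t, ht⟩ := hj b hb
    exact RingHom.mem_range.mpr ⟨(E.map φ).appTop t, (hmono φ t).symm.trans ht⟩

set_option backward.defeqAttrib.useBackward true in
set_option backward.isDefEq.respectTransparency false in
open AlgebraicGeometry CategoryTheory Limits in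
theorem perU {I : Type u} [SmallCategory I] [IsCofiltered I]
    (D : I ⥤ Scheme.{u}) (c : Limits.Cone D) (hc : Limits.IsLimit c)
    [hD : ∀ {i j : I} (f : i ⟶ j), IsAffineHom (D.map f)] (i₀ : I)
    {Y : Scheme.{u}} (h : Y ⟶ c.pt) [IsClosedImmersion h]
    [LocallyOfFiniteType (h ≫ c.π.app i₀)] (U : (D.obj i₀).Opens) (hU : IsAffineOpen U) :
    ∃ j : Over i₀, ∀ (k : Over i₀) (_ : k ⟶ j),
      IsClosedImmersion ((h ≫ c.π.app k.left) ∣_ (D.map k.hom ⁻¹ᵁ U)) := by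
  haveI : IsAffineHom (c.π.app i₀) := isAffineHom_π_app D c hc i₀
  haveI : ∀ j : Over i₀, IsAffine ((opensDiagram D i₀ U).obj j) := fun j =>
    (hU.preimage (D.map j.hom) : IsAffineOpen (D.map j.hom ⁻¹ᵁ U))
  haveI : IsAffine (opensCone D c i₀ U).pt :=
    (hU.preimage (c.π.app i₀) : IsAffineOpen (c.π.app i₀ ⁻¹ᵁ U))
  have e : ∀ j : Over i₀, ((h ∣_ (c.π.app i₀ ⁻¹ᵁ U)) ≫ (opensCone D c i₀ U).π.app j) ≫
      (D.map j.hom ⁻¹ᵁ U).ι = (h ⁻¹ᵁ (c.π.app i₀ ⁻¹ᵁ U)).ι ≫ h ≫ c.π.app j.left := by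
    intro j
    rw [opensCone_π_app, Category.assoc, Scheme.Hom.resLE_comp_ι, ← Category.assoc,
      morphismRestrict_ι, Category.assoc]
  haveI : LocallyOfFiniteType (((h ∣_ (c.π.app i₀ ⁻¹ᵁ U)) ≫
      (opensCone D c i₀ U).π.app (Over.mk (𝟙 i₀))) ≫
      (D.map (Over.mk (𝟙 i₀)).hom ⁻¹ᵁ U).ι) := by
    rw [e]
    show LocallyOfFiniteType ((h ⁻¹ᵁ (c.π.app i₀ ⁻¹ᵁ U)).ι ≫ h ≫ c.π.app i₀)
    infer_instance
  haveI : LocallyOfFiniteType ((h ∣_ (c.π.app i₀ ⁻¹ᵁ U)) ≫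
      (opensCone D c i₀ U).π.app (Over.mk (𝟙 i₀))) :=
    locallyOfFiniteType_of_comp _ (D.map (Over.mk (𝟙 i₀)).hom ⁻¹ᵁ U).ι
  obtain ⟨j, hj⟩ := ci_affine (opensDiagram D i₀ U) (opensCone D c i₀ U)
    (isLimitOpensCone D c hc i₀ U) (h ∣_ (c.π.app i₀ ⁻¹ᵁ U)) (Over.mk (𝟙 i₀))
  refine ⟨j, fun k φ => ?_⟩
  haveI := hj k φ
  have hW : (h ≫ c.π.app k.left) ⁻¹ᵁ (D.map k.hom ⁻¹ᵁ U) = h ⁻¹ᵁ (c.π.app i₀ ⁻¹ᵁ U) := by
    rw [Scheme.Hom.comp_preimage, ← Scheme.Hom.comp_preimage (c.π.app k.left), c.w]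
  have hfac : (h ≫ c.π.app k.left) ∣_ (D.map k.hom ⁻¹ᵁ U) =
      (Y.isoOfEq hW).hom ≫ ((h ∣_ (c.π.app i₀ ⁻¹ᵁ U)) ≫ (opensCone D c i₀ U).π.app k) := by
    rw [← cancel_mono (D.map k.hom ⁻¹ᵁ U).ι, morphismRestrict_ι, Category.assoc, e,
      Scheme.isoOfEq_hom_ι_assoc]
  rw [hfac]
  infer_instance

set_option backward.defeqAttrib.useBackward true in
set_option backward.isDefEq.respectTransparency false in
open AlgebraicGeometry CategoryTheory Limits in
theorem main' {I : Type u} [SmallCategory I] [IsCofiltered I]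
    (D : I ⥤ Scheme.{u}) (c : Limits.Cone D) (hc : Limits.IsLimit c)
    [hD : ∀ {i j : I} (f : i ⟶ j), IsAffineHom (D.map f)] (i₀ : I) [CompactSpace (D.obj i₀)]
    {Y : Scheme.{u}} (h : Y ⟶ c.pt) [IsClosedImmersion h]
    [LocallyOfFiniteType (h ≫ c.π.app i₀)] :
    ∃ i : I, IsClosedImmersion (h ≫ c.π.app i) := by
  classical
  let 𝒰 := (D.obj i₀).affineCover.finiteSubcover
  have hUa : ∀ a : 𝒰.I₀, IsAffineOpen (𝒰.f a).opensRange := fun a =>
    isAffineOpen_opensRange (𝒰.f a)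
  choose j hj using fun a : 𝒰.I₀ => perU D c hc i₀ h (𝒰.f a).opensRange (hUa a)
  obtain ⟨k, hk⟩ := IsCofiltered.inf_objs_exists (Finset.univ.image j)
  refine ⟨k.left, ?_⟩
  apply IsZariskiLocalAtTarget.of_iSup_eq_top (P := @IsClosedImmersion)
    (fun a : 𝒰.I₀ => D.map k.hom ⁻¹ᵁ (𝒰.f a).opensRange) ?_ ?_
  · rw [← Scheme.Hom.preimage_iSup, 𝒰.iSup_opensRange, Scheme.Hom.preimage_top]
  · intro a
    obtain ⟨φ⟩ := hk (Finset.mem_image_of_mem j (Finset.mem_univ a))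
    exact hj a k φ

/-- Let `X = lim X_i` be a cofiltered limit of quasi-compact schemes over `S` with affine transition
morphisms and `h : Y → X` a closed immersion with `Y → S` locally of finite type. Then `Y → X_i` is
a closed immersion for some `i`. -/
theorem result {I : Type u} [SmallCategory I] [IsCofiltered I] (S : Scheme.{u})
    (D : I ⥤ Over S) (c : Limits.Cone D) (hc : Limits.IsLimit c)
    [∀ (i j : I) (f : i ⟶ j), IsAffineHom (D.map f).left] [∀ i, CompactSpace (D.obj i).left]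
    {Y : Scheme.{u}} (h : Y ⟶ c.pt.left) [IsClosedImmersion h] [LocallyOfFiniteType (h ≫ c.pt.hom)] :
    ∃ i : I, IsClosedImmersion (h ≫ (c.π.app i).left) := by
  classical
  obtain ⟨i₀⟩ : Nonempty I := IsCofiltered.nonempty
  haveI hD' : ∀ {i j : I} (f : i ⟶ j), IsAffineHom ((D ⋙ Over.forget S).map f) := fun f => by
    show IsAffineHom (D.map f).left
    infer_instance
  haveI : CompactSpace ((D ⋙ Over.forget S).obj i₀) := by
    show CompactSpace (D.obj i₀).left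
    infer_instance
  have e : h ≫ c.pt.hom = (h ≫ (c.π.app i₀).left) ≫ (D.obj i₀).hom := by
    rw [Category.assoc, Over.w (c.π.app i₀)]
    rfl
  haveI : LocallyOfFiniteType ((h ≫ (c.π.app i₀).left) ≫ (D.obj i₀).hom) := by
    rw [← e]; infer_instance
  haveI : LocallyOfFiniteType (h ≫ (c.π.app i₀).left) :=
    locallyOfFiniteType_of_comp _ (D.obj i₀).hom
  exact @main' I _ _ (D ⋙ Over.forget S) ((Over.forget S).mapCone c)
    (Limits.isLimitOfPreserves (Over.forget S) hc) hD' i₀ ‹_› Y h ‹IsClosedImmersion h›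
    ‹LocallyOfFiniteType (h ≫ (c.π.app i₀).left)›

end Groth.Agent.S2076
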