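import Groth.Statements.S9200
import Mathlib

set_option autoImplicit false
universe u
open CategoryTheory AlgebraicGeometry
open Lim

namespace Groth.Agent.S9200

set_option backward.defeqAttrib.useBackward true in
set_option backward.isDefEq.respectTransparency false in
open AlgebraicGeometry CategoryTheory Limits in
theorem main {I : Type u} [SmallCategory I] [IsCofiltered I] (S : Scheme.{u}) [CompactSpace S]
    [QuasiSeparatedSpace S]
    (D : I ⥤ Scheme.{u}) (t : ∀ i, D.obj i ⟶ S)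
    (hnat : ∀ {i j : I} (a : i ⟶ j), D.map a ≫ t j = t i) (c : Limits.Cone D)
    (hc : Limits.IsLimit c)
    [hD : ∀ (i j : I) (a : i ⟶ j), IsAffineHom (D.map a)]
    [∀ i, CompactSpace (D.obj i)] [∀ i, QuasiSeparatedSpace (D.obj i)] (i₀ : I)
    [hX : IsAffineHom (c.π.app i₀ ≫ t i₀)] :
    ∃ i₁ : I, ∀ (i : I) (_ : i ⟶ i₁), IsAffineHom (t i) := by
  classical
  haveI hD' : ∀ {i j : I} (a : i ⟶ j), IsAffineHom (D.map a) := fun a => hD _ _ a
  have step : ∀ W : S.Opens, IsAffineOpen W → ∃ (j : I), IsAffineOpen (t j ⁻¹ᵁ W) := by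
    intro W hW
    have hUc : IsCompact ((t i₀ ⁻¹ᵁ W : (D.obj i₀).Opens) : Set (D.obj i₀)) :=
      (t i₀).isCompact_preimage hW.isCompact
    have (j : Over i₀) : CompactSpace ((opensDiagram D i₀ (t i₀ ⁻¹ᵁ W)).obj j) :=
      isCompact_iff_compactSpace.mp
        (QuasiCompact.isCompact_preimage _ (t i₀ ⁻¹ᵁ W).2 hUc)
    have (j : Over i₀) : QuasiSeparatedSpace ((opensDiagram D i₀ (t i₀ ⁻¹ᵁ W)).obj j) :=
      (isQuasiSeparated_iff_quasiSeparatedSpace _ (D.map _ ⁻¹ᵁ _).2).mp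
        (.of_quasiSeparatedSpace _)
    have : IsAffine (opensCone D c i₀ (t i₀ ⁻¹ᵁ W)).pt := by
      show IsAffineOpen (c.π.app i₀ ⁻¹ᵁ (t i₀ ⁻¹ᵁ W))
      rw [← Scheme.Hom.comp_preimage]
      exact hW.preimage (c.π.app i₀ ≫ t i₀)
    obtain ⟨j, hj⟩ := Scheme.exists_isAffine_of_isLimit _ _
      (isLimitOpensCone D c hc i₀ (t i₀ ⁻¹ᵁ W))
    refine ⟨j.left, ?_⟩
    have e : t j.left ⁻¹ᵁ W = D.map j.hom ⁻¹ᵁ (t i₀ ⁻¹ᵁ W) := by
      rw [← Scheme.Hom.comp_preimage, hnat]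
    rw [e]
    exact hj
  have hcov : ∀ x : S, ∃ W : S.Opens, x ∈ W ∧ IsAffineOpen W := by
    intro x
    obtain ⟨_, ⟨W, hW, rfl⟩, hxW, -⟩ := S.isBasis_affineOpens.exists_subset_of_mem_open
      (Set.mem_univ x) isOpen_univ
    exact ⟨W, hxW, hW⟩
  choose W hxW hW using hcov
  choose j hj using fun x => step (W x) (hW x)
  obtain ⟨σ, hσ⟩ := CompactSpace.elim_nhds_subcover (fun x => ((W x : S.Opens) : Set S))
    (fun x => (W x).2.mem_nhds (hxW x))
  obtain ⟨i₁, hi₁⟩ := IsCofiltered.inf_objs_exists (σ.image j)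
  refine ⟨i₁, fun i a => ?_⟩
  apply isAffineHom_of_forall_exists_isAffineOpen
  intro y
  have hy : y ∈ ⋃ x ∈ σ, ((W x : S.Opens) : Set S) := by rw [hσ]; trivial
  obtain ⟨x, hxσ, hyx⟩ := Set.mem_iUnion₂.mp hy
  obtain ⟨b⟩ := hi₁ (Finset.mem_image_of_mem j hxσ)
  refine ⟨W x, hyx, hW x, ?_⟩
  have e : t i ⁻¹ᵁ W x = D.map (a ≫ b) ⁻¹ᵁ (t (j x) ⁻¹ᵁ W x) := by
    rw [← Scheme.Hom.comp_preimage, hnat]
  rw [e]
  exact (hj x).preimage (D.map (a ≫ b))

/-- Let S be a scheme and X = lim X_i a cofiltered limit of S-schemes X_i (a diagram with a compatible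
family of structure maps to S) with affine transition morphisms, every X_i quasi-compact and
quasi-separated; the structure map X → S is the composite X → X_{i₀} → S for any index i₀. Assume S
is quasi-compact and quasi-separated. If X → S is affine, then X_i → S is affine for all i beyond
some index i₁. -/
theorem result {I : Type u} [SmallCategory I] [IsCofiltered I] (S : Scheme.{u}) [CompactSpace S] [QuasiSeparatedSpace S]
    (D : I ⥤ Scheme.{u}) (t : D ⟶ (Functor.const I).obj S) (c : Limits.Cone D) (hc : Limits.IsLimit c)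
    [∀ (i j : I) (a : i ⟶ j), IsAffineHom (D.map a)]
    [∀ i, CompactSpace (D.obj i)] [∀ i, QuasiSeparatedSpace (D.obj i)] (i₀ : I)
    [IsAffineHom (c.π.app i₀ ≫ t.app i₀)] :
    ∃ i₁ : I, ∀ (i : I) (_ : i ⟶ i₁), IsAffineHom (t.app i) := by
  exact main S D (fun i => t.app i) (fun a => by have := t.naturality a; simpa using this) c hc i₀

end Groth.Agent.S9200
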