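import Groth.Statements.S0594
import Mathlib
import Groth.Agent.S2076
import Groth.Agent.S9200

set_option autoImplicit false
universe u
open CategoryTheory AlgebraicGeometry
open Lim

namespace Groth.Agent.S0594

set_option backward.defeqAttrib.useBackward true in
set_option backward.isDefEq.respectTransparency false in
open AlgebraicGeometry CategoryTheory Limits in
theorem ci_affine' {J : Type u} [SmallCategory J] [IsCofiltered J] (E : J ⥤ Scheme.{u})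
    (cE : Cone E) (hcE : IsLimit cE) [∀ j, IsAffine (E.obj j)]
    {T : Scheme.{u}} [IsAffine T] (s : ∀ j, E.obj j ⟶ T)
    (hs : ∀ {k j : J} (φ : k ⟶ j), E.map φ ≫ s j = s k)
    (hsurjE : ∀ {k j : J} (φ : k ⟶ j), Function.Surjective (E.map φ).appTop)
    (j₀ : J) [LocallyOfFiniteType (s j₀)]
    (hlim : Function.Surjective (cE.π.app j₀ ≫ s j₀).appTop) :
    ∃ j : J, ∀ (k : J) (_ : k ⟶ j), IsClosedImmersion (s k) := by
  classical
  have hft : RingHom.FiniteType (s j₀).appTop.hom :=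
    (HasRingHomProperty.iff_of_isAffine (P := @LocallyOfFiniteType)).mp inferInstance
  have hσ : ∀ {k j : J} (φ : k ⟶ j) (a : Γ(T, ⊤)),
      (E.map φ).appTop ((s j).appTop a) = (s k).appTop a := by
    intro k j φ a
    have e2 : (s k).appTop = (s j).appTop ≫ (E.map φ).appTop := by
      rw [← hs φ, Scheme.Hom.comp_appTop]
    rw [e2]; rfl
  have hcomp : ∀ {l k j : J} (ψ : l ⟶ k) (φ : k ⟶ j) (b : Γ(E.obj j, ⊤)),
      (E.map (ψ ≫ φ)).appTop b = (E.map ψ).appTop ((E.map φ).appTop b) := by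
    intro l k j ψ φ b
    have e2 : (E.map (ψ ≫ φ)).appTop = (E.map φ).appTop ≫ (E.map ψ).appTop := by
      rw [E.map_comp, Scheme.Hom.comp_appTop]
    rw [e2]; rfl
  have hrep : ∀ b : Γ(E.obj j₀, ⊤), ∃ (j : J) (φ : j ⟶ j₀) (a : Γ(T, ⊤)),
      (E.map φ).appTop b = (s j).appTop a := by
    intro b
    obtain ⟨a, ha⟩ := hlim ((cE.π.app j₀).appTop b)
    have e2 : (cE.π.app j₀ ≫ s j₀).appTop = (s j₀).appTop ≫ (cE.π.app j₀).appTop := by
      rw [Scheme.Hom.comp_appTop]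
    have ha' : (cE.π.app j₀).appTop ((s j₀).appTop a) = (cE.π.app j₀).appTop b := by
      rw [← ha, e2]; rfl
    have hz : (cE.π.app j₀).appTop (b - (s j₀).appTop a) = 0 := by
      rw [map_sub, ha', sub_self]
    obtain ⟨j, φ, hj⟩ := exists_appTop_map_eq_zero_of_isAffine_of_isLimit E cE hcE j₀ _ hz
    refine ⟨j, φ, a, ?_⟩
    rw [map_sub, sub_eq_zero] at hj
    rw [hj, hσ φ a]
  have hfin : ∀ G : Finset Γ(E.obj j₀, ⊤), ∃ (j : J) (φ : j ⟶ j₀),
      ∀ b ∈ G, ∃ a : Γ(T, ⊤), (E.map φ).appTop b = (s j).appTop a := by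
    intro G
    induction G using Finset.induction_on with
    | empty => exact ⟨j₀, 𝟙 _, by simp⟩
    | insert b G hb ih =>
      obtain ⟨j, φ, hj⟩ := ih
      obtain ⟨jb, φb, ab, hab⟩ := hrep b
      obtain ⟨k, ψ, ψb, hk⟩ := IsCofiltered.cospan φ φb
      refine ⟨k, ψ ≫ φ, ?_⟩
      intro b' hb'
      rcases Finset.mem_insert.mp hb' with rfl | hb'
      · refine ⟨ab, ?_⟩
        rw [hk, hcomp ψb φb, hab, hσ ψb ab]
      · obtain ⟨a, ha⟩ := hj b' hb'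
        exact ⟨a, by rw [hcomp ψ φ, ha, hσ ψ a]⟩
  obtain ⟨G, hG⟩ := Groth.Agent.S2076.ft_gen _ hft
  obtain ⟨j, φ, hj⟩ := hfin G
  refine ⟨j, fun k ψ => ?_⟩
  apply IsClosedImmersion.of_surjective_of_isAffine
  intro b'
  obtain ⟨b'', rfl⟩ := hsurjE (ψ ≫ φ) b'
  have hb := hG (((s k).appTop.hom.range).comap (E.map (ψ ≫ φ)).appTop.hom) ?_ ?_ b''
  · exact RingHom.mem_range.mp (Subring.mem_comap.mp hb)
  · intro a
    exact Subring.mem_comap.mpr (RingHom.mem_range.mpr ⟨a, (hσ (ψ ≫ φ) a).symm⟩)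
  · intro b hb
    obtain ⟨a, ha⟩ := hj b hb
    refine Subring.mem_comap.mpr (RingHom.mem_range.mpr ⟨a, ?_⟩)
    exact ((hcomp ψ φ b).trans ((congrArg _ ha).trans (hσ ψ a))).symm

set_option backward.defeqAttrib.useBackward true in
set_option backward.isDefEq.respectTransparency false in
open AlgebraicGeometry CategoryTheory Limits in
theorem perW {I : Type u} [SmallCategory I] [IsCofiltered I] (S : Scheme.{u})
    (D : I ⥤ Scheme.{u}) (t : ∀ i, D.obj i ⟶ S)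
    (hnat : ∀ {i j : I} (a : i ⟶ j), D.map a ≫ t j = t i) (c : Limits.Cone D)
    (hc : Limits.IsLimit c) [hD : ∀ {i j : I} (f : i ⟶ j), IsClosedImmersion (D.map f)]
    [∀ i, LocallyOfFiniteType (t i)] (i₁ : I) [IsAffineHom (t i₁)]
    [IsClosedImmersion (c.π.app i₁ ≫ t i₁)] (W : S.Opens) (hW : IsAffineOpen W) :
    ∃ j : Over i₁, ∀ (k : Over i₁) (_ : k ⟶ j), IsClosedImmersion (t k.left ∣_ W) := by
  haveI hD' : ∀ {i j : I} (f : i ⟶ j), IsAffineHom (D.map f) := fun f => inferInstance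
  have hU : IsAffineOpen (t i₁ ⁻¹ᵁ W) := hW.preimage (t i₁)
  haveI : ∀ j : Over i₁, IsAffine ((opensDiagram D i₁ (t i₁ ⁻¹ᵁ W)).obj j) := fun j =>
    (hU.preimage (D.map j.hom) : IsAffineOpen (D.map j.hom ⁻¹ᵁ (t i₁ ⁻¹ᵁ W)))
  haveI : IsAffine (W : Scheme.{u}) := hW
  have hle : ∀ j : Over i₁, D.map j.hom ⁻¹ᵁ (t i₁ ⁻¹ᵁ W) = t j.left ⁻¹ᵁ W := by
    intro j
    rw [← Scheme.Hom.comp_preimage, hnat]
  let s : ∀ j : Over i₁, (opensDiagram D i₁ (t i₁ ⁻¹ᵁ W)).obj j ⟶ (W : Scheme.{u}) := fun j =>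
    (t j.left).resLE W (D.map j.hom ⁻¹ᵁ (t i₁ ⁻¹ᵁ W)) (hle j).le
  have hsι : ∀ j : Over i₁, s j ≫ W.ι = (D.map j.hom ⁻¹ᵁ (t i₁ ⁻¹ᵁ W)).ι ≫ t j.left := fun j =>
    Scheme.Hom.resLE_comp_ι _ _
  have hEι : ∀ {k j : Over i₁} (φ : k ⟶ j), (opensDiagram D i₁ (t i₁ ⁻¹ᵁ W)).map φ ≫
      (D.map j.hom ⁻¹ᵁ (t i₁ ⁻¹ᵁ W)).ι = (D.map k.hom ⁻¹ᵁ (t i₁ ⁻¹ᵁ W)).ι ≫ D.map φ.left := by
    intro k j φ
    rw [opensDiagram_map]
    exact Scheme.Hom.resLE_comp_ι _ _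
  have hs : ∀ {k j : Over i₁} (φ : k ⟶ j),
      (opensDiagram D i₁ (t i₁ ⁻¹ᵁ W)).map φ ≫ s j = s k := by
    intro k j φ
    rw [← cancel_mono W.ι, Category.assoc, hsι, ← Category.assoc, hEι, Category.assoc, hnat,
      hsι]
  have hsurjE : ∀ {k j : Over i₁} (φ : k ⟶ j),
      Function.Surjective ((opensDiagram D i₁ (t i₁ ⁻¹ᵁ W)).map φ).appTop := by
    intro k j φ
    have hpre : D.map φ.left ⁻¹ᵁ (D.map j.hom ⁻¹ᵁ (t i₁ ⁻¹ᵁ W)) =
        D.map k.hom ⁻¹ᵁ (t i₁ ⁻¹ᵁ W) := by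
      rw [← Scheme.Hom.comp_preimage, ← D.map_comp, Over.w φ]
    have hfac : (opensDiagram D i₁ (t i₁ ⁻¹ᵁ W)).map φ =
        ((D.obj k.left).isoOfEq hpre).inv ≫
          (D.map φ.left ∣_ (D.map j.hom ⁻¹ᵁ (t i₁ ⁻¹ᵁ W))) := by
      rw [← cancel_mono (D.map j.hom ⁻¹ᵁ (t i₁ ⁻¹ᵁ W)).ι, hEι, Category.assoc,
        morphismRestrict_ι, Scheme.isoOfEq_inv_ι_assoc]
    haveI : IsClosedImmersion ((opensDiagram D i₁ (t i₁ ⁻¹ᵁ W)).map φ) := by
      rw [hfac]; infer_instance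
    exact (IsClosedImmersion.isAffine_surjective_of_isAffine _).2
  haveI : LocallyOfFiniteType (s (Over.mk (𝟙 i₁)) ≫ W.ι) := by
    rw [hsι]
    show LocallyOfFiniteType ((D.map (𝟙 i₁) ⁻¹ᵁ (t i₁ ⁻¹ᵁ W)).ι ≫ t i₁)
    infer_instance
  haveI : LocallyOfFiniteType (s (Over.mk (𝟙 i₁))) := locallyOfFiniteType_of_comp _ W.ι
  have hlim : Function.Surjective ((opensCone D c i₁ (t i₁ ⁻¹ᵁ W)).π.app (Over.mk (𝟙 i₁)) ≫
      s (Over.mk (𝟙 i₁))).appTop := by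
    have hpre : (c.π.app i₁ ≫ t i₁) ⁻¹ᵁ W = c.π.app i₁ ⁻¹ᵁ (t i₁ ⁻¹ᵁ W) :=
      Scheme.Hom.comp_preimage _ _ _
    have hfac : (opensCone D c i₁ (t i₁ ⁻¹ᵁ W)).π.app (Over.mk (𝟙 i₁)) ≫
        s (Over.mk (𝟙 i₁)) = (c.pt.isoOfEq hpre).inv ≫ ((c.π.app i₁ ≫ t i₁) ∣_ W) := by
      rw [← cancel_mono W.ι, Category.assoc, hsι, opensCone_π_app, ← Category.assoc,
        Scheme.Hom.resLE_comp_ι, Category.assoc, Category.assoc, morphismRestrict_ι,
        Scheme.isoOfEq_inv_ι_assoc]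
      rfl
    haveI : IsClosedImmersion ((opensCone D c i₁ (t i₁ ⁻¹ᵁ W)).π.app (Over.mk (𝟙 i₁)) ≫
        s (Over.mk (𝟙 i₁))) := by
      rw [hfac]; infer_instance
    exact (IsClosedImmersion.isAffine_surjective_of_isAffine _).2
  obtain ⟨j, hj⟩ := ci_affine' (opensDiagram D i₁ (t i₁ ⁻¹ᵁ W)) (opensCone D c i₁ (t i₁ ⁻¹ᵁ W))
    (isLimitOpensCone D c hc i₁ (t i₁ ⁻¹ᵁ W)) s hs hsurjE (Over.mk (𝟙 i₁)) hlim
  refine ⟨j, fun k φ => ?_⟩
  haveI := hj k φ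
  have hfac : t k.left ∣_ W = ((D.obj k.left).isoOfEq (hle k)).inv ≫ s k := by
    rw [← cancel_mono W.ι, morphismRestrict_ι, Category.assoc, hsι, Scheme.isoOfEq_inv_ι_assoc]
  rw [hfac]
  infer_instance

set_option backward.defeqAttrib.useBackward true in
set_option backward.isDefEq.respectTransparency false in
open AlgebraicGeometry CategoryTheory Limits in
theorem main {I : Type u} [SmallCategory I] [IsCofiltered I] (S : Scheme.{u}) [CompactSpace S]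
    [QuasiSeparatedSpace S]
    (D : I ⥤ Scheme.{u}) (t : ∀ i, D.obj i ⟶ S)
    (hnat : ∀ {i j : I} (a : i ⟶ j), D.map a ≫ t j = t i) (c : Limits.Cone D)
    (hc : Limits.IsLimit c) [hD : ∀ (i j : I) (f : i ⟶ j), IsClosedImmersion (D.map f)]
    [∀ i, CompactSpace (D.obj i)] [∀ i, QuasiSeparatedSpace (D.obj i)]
    [∀ i, LocallyOfFiniteType (t i)] (i₀ : I) [IsClosedImmersion (c.π.app i₀ ≫ t i₀)] :
    ∃ i : I, IsClosedImmersion (t i) := by
  classical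
  haveI hD' : ∀ {i j : I} (f : i ⟶ j), IsClosedImmersion (D.map f) := fun f => hD _ _ f
  haveI hD'' : ∀ (i j : I) (f : i ⟶ j), IsAffineHom (D.map f) := fun i j f => inferInstance
  obtain ⟨i₁', hi₁'⟩ := Groth.Agent.S9200.main S D t hnat c hc i₀
  -- go below both i₀ and i₁'
  obtain ⟨i₁, a, b, -⟩ : ∃ (i₁ : I) (a : i₁ ⟶ i₀) (b : i₁ ⟶ i₁'), True :=
    ⟨IsCofiltered.min i₀ i₁', IsCofiltered.minToLeft _ _, IsCofiltered.minToRight _ _, trivial⟩
  haveI : IsAffineHom (t i₁) := hi₁' i₁ b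
  have hlimeq : c.π.app i₁ ≫ t i₁ = c.π.app i₀ ≫ t i₀ := by
    rw [← c.w a, Category.assoc, hnat]
  haveI : IsClosedImmersion (c.π.app i₁ ≫ t i₁) := by rw [hlimeq]; infer_instance
  let 𝒰 := S.affineCover.finiteSubcover
  have hWa : ∀ a : 𝒰.I₀, IsAffineOpen (𝒰.f a).opensRange := fun a =>
    isAffineOpen_opensRange (𝒰.f a)
  choose j hj using fun a : 𝒰.I₀ => perW S D t hnat c hc i₁ (𝒰.f a).opensRange (hWa a)
  obtain ⟨k, hk⟩ := IsCofiltered.inf_objs_exists (Finset.univ.image j)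
  refine ⟨k.left, ?_⟩
  apply IsZariskiLocalAtTarget.of_iSup_eq_top (P := @IsClosedImmersion)
    (fun a : 𝒰.I₀ => (𝒰.f a).opensRange) 𝒰.iSup_opensRange ?_
  intro a
  obtain ⟨φ⟩ := hk (Finset.mem_image_of_mem j (Finset.mem_univ a))
  exact hj a k φ

/-- Over a quasi-compact quasi-separated base `S`, let `X` be the limit of a cofiltered system of
quasi-compact quasi-separated `S`-schemes, locally of finite type over `S`, whose transition
morphisms are closed immersions. If `X → S` is a closed immersion then so is `Xᵢ → S` for some index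
`i`. -/
theorem result {I : Type u} [SmallCategory I] [IsCofiltered I]
    (S : Scheme.{u}) [CompactSpace S] [QuasiSeparatedSpace S]
    (D : I ⥤ Scheme.{u}) (t : D ⟶ (Functor.const I).obj S) (c : Limits.Cone D)
    (hc : Limits.IsLimit c) [∀ (i j : I) (f : i ⟶ j), IsClosedImmersion (D.map f)]
    [∀ i, CompactSpace (D.obj i)] [∀ i, QuasiSeparatedSpace (D.obj i)]
    [∀ i, LocallyOfFiniteType (t.app i)] (i₀ : I) [IsClosedImmersion (c.π.app i₀ ≫ t.app i₀)] :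
    ∃ i : I, IsClosedImmersion (t.app i) := by
  refine main S D (fun i => t.app i) (fun {i j} a => ?_) c hc i₀
  have := t.naturality a
  simp only [Functor.const_obj_obj, Functor.const_obj_map, Category.comp_id] at this
  exact this

end Groth.Agent.S0594
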