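import Groth.Statements.S0602
import Groth.Agent.H29.ReducedR0S1

set_option autoImplicit false
universe u
open CAlg

namespace Groth.Agent.S0602

/-- A Noetherian ring is reduced exactly when it satisfies the conditions R₀ and S₁. -/
theorem result (R : Type u) [CommRing R] [IsNoetherianRing R] :
    IsReduced R ↔ (LocCoh.HasRk 0 R ∧ LocCoh.HasSk 1 R R) := by
  constructor
  · intro h
    exact ⟨Groth.Agent.H29.hasRk_zero_of_isReduced R, Groth.Agent.H29.hasSk_one_of_isReduced R⟩
  · rintro ⟨h0, h1⟩
    exact Groth.Agent.H29.isReduced_of_hasRk_zero_of_hasSk_one R h0 h1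

end Groth.Agent.S0602
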