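import Groth.Statements.S0623
import Groth.Prelude.Def_EtShriek2
import Groth.Agent.S0101
import Groth.Agent.H10.ShriekEx
import Mathlib

set_option autoImplicit false
open CategoryTheory CategoryTheory.Limits AlgebraicGeometry Opposite
universe u
open EtCore

namespace Groth.Agent.S0623

set_option backward.isDefEq.respectTransparency.types false in
/-- `compEtale j` is continuous for every etale `j` (not only monomorphisms). -/
theorem jCont {U X : Scheme.{u}} (j : U ⟶ X) [hj : AlgebraicGeometry.Etale j] : EtShriek.JCont j := by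
  refine Functor.isContinuous_of_coverPreserving ?_ (EtShriek.coverPreserving_compEtale j)
  constructor
  intro ℱ Z T x hx Y₁ Y₂ W f₁ f₂ g₁ g₂ hg₁ hg₂ e
  have e1 : f₁.left ≫ Y₁.hom ≫ j = W.hom := MorphismProperty.Over.w f₁
  have hW : EtCoh.etaleMP ((f₁.left ≫ Y₁.hom) ≫ j) := by
    rw [Category.assoc, e1]; exact W.prop
  let W' : U.Etale := MorphismProperty.Over.mk ⊤ (f₁.left ≫ Y₁.hom)
    (EtCoh.etaleMP.of_postcomp (W' := EtCoh.etaleMP) (f₁.left ≫ Y₁.hom) j hj hW)
  let i : (EtShriek.compEtale j).obj W' ≅ W :=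
    MorphismProperty.Over.isoMk (Iso.refl _)
      ((Category.id_comp W.hom).trans (e1.symm.trans (Category.assoc _ _ _).symm))
  let f₁' : W' ⟶ Y₁ := MorphismProperty.Over.homMk f₁.left rfl
  have hZ : f₁.left ≫ g₁.left = f₂.left ≫ g₂.left := congrArg (fun k => k.left) e
  have w1 : g₁.left ≫ Z.hom = Y₁.hom := MorphismProperty.Over.w g₁
  have w2 : g₂.left ≫ Z.hom = Y₂.hom := MorphismProperty.Over.w g₂
  have hw : f₂.left ≫ Y₂.hom = f₁.left ≫ Y₁.hom := by
    rw [← w1, ← w2]
    exact (Category.assoc _ _ _).symm.trans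
      ((congrArg (fun m => m ≫ Z.hom) hZ.symm).trans (Category.assoc _ _ _))
  let f₂' : W' ⟶ Y₂ := MorphismProperty.Over.homMk f₂.left hw
  have hc : f₁' ≫ g₁ = f₂' ≫ g₂ := MorphismProperty.Over.Hom.ext hZ
  have key := hx f₁' f₂' hg₁ hg₂ hc
  have h1 : i.inv ≫ (EtShriek.compEtale j).map f₁' = f₁ :=
    MorphismProperty.Over.Hom.ext (Category.id_comp _)
  have h2 : i.inv ≫ (EtShriek.compEtale j).map f₂' = f₂ :=
    MorphismProperty.Over.Hom.ext (Category.id_comp _)
  have s1 : ℱ.obj.map f₁.op (x g₁ hg₁) =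
      ℱ.obj.map i.inv.op (ℱ.obj.map ((EtShriek.compEtale j).map f₁').op (x g₁ hg₁)) := by
    rw [← Functor.map_comp_apply, ← op_comp, h1]
  have s2 : ℱ.obj.map f₂.op (x g₂ hg₂) =
      ℱ.obj.map i.inv.op (ℱ.obj.map ((EtShriek.compEtale j).map f₂').op (x g₂ hg₂)) := by
    rw [← Functor.map_comp_apply, ← op_comp, h2]
  rw [s1, s2]
  exact congrArg _ key

set_option backward.isDefEq.respectTransparency.types false in
/-- Restriction along an etale morphism preserves injective abelian sheaves. -/
theorem pull_injective {U X : Scheme.{u}} (j : U ⟶ X) [hj' : AlgebraicGeometry.Etale j]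
    (J : EtCoh.Ab X) [Injective J] : Injective ((EtCoh.pull j).obj J) := by
  have hj : EtCoh.etaleMP j := hj'
  haveI : EtShriek.JCont j := jCont j
  let adjS : EtShriek.compEtale j ⊣ EtCoh.bc j :=
    MorphismProperty.Over.mapPullbackAdj EtCoh.etaleMP ⊤ j hj trivial
  let adjR : EtShriek.restrAlong j ⊣ EtCoh.push j :=
    adjS.sheafPushforwardContinuous (E := AddCommGrpCat.{u + 1}) U.smallEtaleTopology
      X.smallEtaleTopology
  let e : EtCoh.pull j ≅ EtShriek.restrAlong j := (EtCoh.pullPushAdj j).leftAdjointUniq adjR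
  have hex : PreservesFiniteLimits (EtShriek.extZero j) := by
    haveI : AB4OfSize.{u} AddCommGrpCat.{u + 1} := AB4OfSize_shrink.{u, u + 1} _
    exact Groth.Agent.H10.ShriekEx.sheafPullback_preservesFiniteLimits.{u} (EtShriek.compEtale j)
      AddCommGrpCat.{u + 1} _ _
      (fun V => Groth.Agent.H10.ShriekEx.liftsMPOverMap EtCoh.etaleMP.{u} (j := j) ‹_› V)
  have : Injective ((EtShriek.restrAlong j).obj J) :=
    Injective.injective_of_adjoint (EtShriek.extZeroAdj j) J
  exact Injective.of_iso (e.app J).symm this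

/-- Pushforward preserves injective abelian sheaves. -/
theorem push_injective {X Y : Scheme.{u}} (f : X ⟶ Y) (I : EtCoh.Ab X) [Injective I] :
    Injective ((EtCoh.push f).obj I) := by
  haveI : PreservesFiniteLimits (EtCoh.pull f) := Groth.Agent.S0101.result f
  exact Injective.injective_of_adjoint (EtCoh.pullPushAdj f) I

/-- Etale cohomology of an injective sheaf vanishes in positive degrees. -/
theorem H_subsingleton_of_injective {X : Scheme.{u}} (J : EtCoh.Ab X) [Injective J] (q : ℕ)
    (hq : 1 ≤ q) : Subsingleton (EtCoh.H X J q) := by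
  obtain ⟨n, rfl⟩ : ∃ n, q = n + 1 := ⟨q - 1, by omega⟩
  refine ⟨fun a b => ?_⟩
  exact (CategoryTheory.Abelian.Ext.eq_zero_of_injective a).trans
    (CategoryTheory.Abelian.Ext.eq_zero_of_injective b).symm

/-- For a morphism f : X -> Y and an injective abelian sheaf I on the small etale site of X, the
pushforward f_* I is acyclic: its etale cohomology over any scheme V etale over Y (computed after
pulling back to V) vanishes in positive degrees, and for any g : Y -> Z the higher direct images R^q
g_* (f_* I) vanish for q > 0. Part (1) on Cech cohomology is not included. -/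
theorem result {X Y Z : Scheme.{u}} (f : X ⟶ Y) (g : Y ⟶ Z) (I : EtCoh.Ab X)
    [Injective I] (q : ℕ) (hq : 1 ≤ q) :
    (∀ V : Y.Etale, Subsingleton (EtCoh.H V.left ((EtCoh.pull V.hom).obj ((EtCoh.push f).obj I)) q)) ∧
    IsZero ((EtCoh.Rpush g q).obj ((EtCoh.push f).obj I)) := by
  haveI hJ : Injective ((EtCoh.push f).obj I) := push_injective f I
  refine ⟨fun V => ?_, ?_⟩
  · haveI : AlgebraicGeometry.Etale V.hom := V.prop
    haveI : Injective ((EtCoh.pull V.hom).obj ((EtCoh.push f).obj I)) := pull_injective V.hom _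
    exact H_subsingleton_of_injective _ q hq
  · obtain ⟨n, rfl⟩ : ∃ n, q = n + 1 := ⟨q - 1, by omega⟩
    exact Functor.isZero_rightDerived_obj_injective_succ _ n _

end Groth.Agent.S0623
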