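import Groth.Statements.S0625
import Groth.Agent.Lib.Helper18.GabberSplit

set_option autoImplicit false
open CategoryTheory CategoryTheory.Limits AlgebraicGeometry Opposite
universe u
open EtCore

namespace Groth.Agent.S0625

/-- Let X be an affine integral normal scheme whose function field is separably closed and Z -> X a
closed immersion. Every surjective finite etale morphism V -> Z has a section. -/
theorem result {V Z X : Scheme.{u}} [IsAffine X] [IsIntegral X]
    (hN : ∀ x : X, IsIntegrallyClosed (X.presheaf.stalk x)) [IsSepClosed X.functionField]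
    (i : Z ⟶ X) [IsClosedImmersion i] (φ : V ⟶ Z) [AlgebraicGeometry.Etale φ] [IsFinite φ] [Surjective φ] :
    ∃ s : Z ⟶ V, s ≫ φ = 𝟙 Z := by
  obtain ⟨hZ, -⟩ := IsClosedImmersion.isAffine_surjective_of_isAffine i
  haveI := hZ
  haveI : IsAffine V := isAffine_of_isAffineHom φ
  obtain ⟨J, hJ, P, hdisj, hcov, hoi⟩ :=
    Groth.Agent.Helper18.GabberSplit.exists_finite_disjoint_cover hN i φ
  haveI := hJ
  refine Groth.Agent.Helper18.GabberSplit.exists_section_of_cover φ P hoi ?_ ?_
  · intro j
    apply φ.isClosedMap
    have : (P j : Set V) = (⋃ k ∈ {k : J | k ≠ j}, (P k : Set V))ᶜ := by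
      ext v
      simp only [Set.mem_compl_iff, Set.mem_iUnion, Set.mem_setOf_eq, not_exists]
      constructor
      · intro hv k hk hvk
        exact (hdisj k j hk).le_bot ⟨hvk, hv⟩
      · intro hv
        obtain ⟨k, hk⟩ := hcov v
        by_cases hkj : k = j
        · rw [← hkj]; exact hk
        · exact (hv k hkj hk).elim
    rw [this]
    exact (isOpen_biUnion (fun k _ => (P k).2)).isClosed_compl
  · intro z
    obtain ⟨v, rfl⟩ := φ.surjective z
    obtain ⟨j, hj⟩ := hcov v
    exact ⟨j, v, hj, rfl⟩

end Groth.Agent.S0625
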