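import Groth.Statements.S0632
import Groth.Agent.Lib.Helper18.GabberSplit

set_option autoImplicit false
open CategoryTheory CategoryTheory.Limits AlgebraicGeometry Opposite
universe u
open EtCore

namespace Groth.Agent.S0632

/-- Let X -> Y be a closed immersion and U_i -> X (i in ι) a jointly surjective family of etale
morphisms. Then one can find a jointly surjective family of etale Y-schemes V_j each of which either
has empty preimage over X or, after base change to X, maps into one of the U_i over X. -/
theorem result {X Y : Scheme.{u}} (f : X ⟶ Y) [IsClosedImmersion f]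
    {ι : Type u} (U : ι → X.Etale) (hU : EtCoh.Covers U) :
    ∃ (κ : Type u) (V : κ → Y.Etale), EtCoh.Covers V ∧
      ∀ j, IsEmpty ↥(pullback (V j).hom f) ∨
        ∃ (i : ι) (h : pullback (V j).hom f ⟶ (U i).left), h ≫ (U i).hom = pullback.snd (V j).hom f := by
  choose T v hv h hh1 hh2 hh3 using
    fun p : (Σ i, (U i).left) => Groth.Agent.Helper18.GabberSplit.exists_local_lift f (U p.1).hom p.2
  let W : Y.Opens := ⟨(Set.range f)ᶜ, f.isClosedEmbedding.isClosed_range.isOpen_compl⟩
  refine ⟨Option (Σ i, (U i).left), fun o => match o with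
    | none => MorphismProperty.Over.mk ⊤ W.ι inferInstance
    | some p => MorphismProperty.Over.mk ⊤ (v p) (hv p), ?_, ?_⟩
  · intro y
    by_cases hy : y ∈ Set.range f
    · obtain ⟨x', rfl⟩ := hy
      obtain ⟨i, x, hx⟩ := hU x'
      obtain ⟨z, hz⟩ := hh3 ⟨i, x⟩
      refine ⟨some ⟨i, x⟩, pullback.fst (v ⟨i, x⟩) f z, ?_⟩
      change (v ⟨i, x⟩) (pullback.fst (v ⟨i, x⟩) f z) = f x'
      rw [← Scheme.Hom.comp_apply, pullback.condition, Scheme.Hom.comp_apply, ← hh1 ⟨i, x⟩,
        Scheme.Hom.comp_apply, hz]
      exact congrArg f hx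
    · exact ⟨none, ⟨y, hy⟩, rfl⟩
  · intro o
    cases o with
    | none =>
      left
      constructor
      intro z
      have h1 : W.ι (pullback.fst W.ι f z) = f (pullback.snd W.ι f z) := by
        rw [← Scheme.Hom.comp_apply, pullback.condition, Scheme.Hom.comp_apply]
      exact (pullback.fst W.ι f z).2 ⟨_, h1.symm⟩
    | some p =>
      right
      exact ⟨p.1, h p, hh1 p⟩

end Groth.Agent.S0632
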