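import Groth.Statements.S0633
import Groth.Agent.Lib.Helper18.GabberSplit

set_option autoImplicit false
open CategoryTheory CategoryTheory.Limits AlgebraicGeometry Opposite
universe u
open EtCore

namespace Groth.Agent.S0633

/-- Let X -> Y be a closed immersion and U -> X etale. Then there exist etale morphisms V_i -> Y and
X-morphisms V_i x_Y X -> U which are open immersions whose images cover U. -/
theorem result {X Y : Scheme.{u}} (f : X ⟶ Y) [IsClosedImmersion f]
    (U : X.Etale) :
    ∃ (κ : Type u) (V : κ → Y.Etale) (h : ∀ j, pullback (V j).hom f ⟶ U.left),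
      (∀ j, h j ≫ U.hom = pullback.snd (V j).hom f) ∧ (∀ j, IsOpenImmersion (h j)) ∧
      ∀ x : U.left, ∃ (j : κ) (y : ↥(pullback (V j).hom f)), (h j).base y = x := by
  choose T v hv h hh1 hh2 hh3 using
    fun x : U.left => Groth.Agent.Helper18.GabberSplit.exists_local_lift f U.hom x
  refine ⟨U.left, fun x => MorphismProperty.Over.mk ⊤ (v x) (hv x), fun x => h x, fun x => hh1 x,
    fun x => hh2 x, fun x => ?_⟩
  obtain ⟨y, hy⟩ := hh3 x
  exact ⟨x, y, hy⟩

end Groth.Agent.S0633
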