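import Groth.Statements.S0643

set_option autoImplicit false
universe u
open EtCore

namespace Groth.Agent.S0643

open Polynomial in
/-- Let A be a ring, assumed nonzero here (the published statement does not say so; over the zero ring
no polynomial has positive degree in Lean's sense), and a, b elements generating the unit ideal such
that some positive power of a is congruent to 1 modulo b. Then there is a monic polynomial P of
positive degree over A such that in B = A[y]/(P) the element a - b y is a unit. -/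
theorem result (A : Type u) [CommRing A] [Nontrivial A] (a b : A) (hab : IsCoprime a b)
    (hroot : ∃ n : ℕ, 0 < n ∧ a ^ n - 1 ∈ Ideal.span ({b} : Set A)) :
    ∃ P : A[X], P.Monic ∧ 0 < P.natDegree ∧
      IsUnit (algebraMap A (AdjoinRoot P) a - algebraMap A (AdjoinRoot P) b * AdjoinRoot.root P) := by
  obtain ⟨n, hn, hmem⟩ := hroot
  obtain ⟨m, rfl⟩ : ∃ m, n = m + 1 := ⟨n - 1, by omega⟩
  rw [Ideal.mem_span_singleton'] at hmem
  obtain ⟨c, hc⟩ := hmem
  -- u * a^m + v * b^m = 1
  obtain ⟨u, v, huv⟩ := (hab.pow (m := m) (n := m))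
  -- P = X^(m+1) - (C (c*u) * X^m + C (c*v))
  set q : A[X] := C (c * u) * X ^ m + C (c * v) with hq
  have hqdeg : q.degree < ((m + 1 : ℕ) : WithBot ℕ) := by
    have : q.degree ≤ (m : ℕ) := by
      rw [hq]
      refine (Polynomial.degree_add_le _ _).trans (max_le ?_ ?_)
      · exact (Polynomial.degree_C_mul_X_pow_le _ _)
      · exact (Polynomial.degree_C_le).trans (by exact_mod_cast Nat.zero_le m)
    exact lt_of_le_of_lt this (by exact_mod_cast Nat.lt_succ_self m)
  have hmonic : (X ^ (m + 1) - q).Monic := Polynomial.monic_X_pow_sub hqdeg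
  have hnat : (X ^ (m + 1) - q).natDegree = m + 1 := by
    have h1 : (X ^ (m + 1) - q).degree = (X ^ (m+1) : A[X]).degree := by
      apply Polynomial.degree_sub_eq_left_of_degree_lt
      rw [Polynomial.degree_X_pow]
      exact hqdeg
    rw [Polynomial.degree_X_pow] at h1
    exact Polynomial.natDegree_eq_of_degree_eq_some h1
  refine ⟨X ^ (m + 1) - q, hmonic, by omega, ?_⟩
  set P := X ^ (m + 1) - q with hP
  set α := algebraMap A (AdjoinRoot P) a with hα
  set β := algebraMap A (AdjoinRoot P) b with hβ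
  set r := AdjoinRoot.root P with hr
  set z := β * r with hz
  have hroot : r ^ (m + 1) = algebraMap A (AdjoinRoot P) (c * u) * r ^ m
      + algebraMap A (AdjoinRoot P) (c * v) := by
    have h0 : AdjoinRoot.mk P P = 0 := AdjoinRoot.mk_self
    rw [hP, map_sub, sub_eq_zero] at h0
    simpa [hq, AdjoinRoot.algebraMap_eq] using h0
  have h1 : (α - z) ∣ α ^ (m + 1) - z ^ (m + 1) := sub_dvd_pow_sub_pow _ _ _
  have h2 : (α - z) ∣ α ^ m - z ^ m := sub_dvd_pow_sub_pow _ _ _
  have key : (1 : AdjoinRoot P) = (α ^ (m + 1) - z ^ (m + 1))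
      - β * algebraMap A (AdjoinRoot P) (c * u) * (α ^ m - z ^ m) := by
    have e1 : α ^ (m + 1) = 1 + algebraMap A (AdjoinRoot P) c * β := by
      rw [← sub_eq_iff_eq_add']
      rw [hα, hβ, ← map_pow, ← map_one (algebraMap A (AdjoinRoot P)), ← map_sub, ← map_mul, hc]
    have e2 : algebraMap A (AdjoinRoot P) u * α ^ m + algebraMap A (AdjoinRoot P) v * β ^ m = 1 := by
      rw [hα, hβ, ← map_pow, ← map_pow, ← map_mul, ← map_mul, ← map_add, huv, map_one]
    have e3 : z ^ (m + 1) = β ^ (m + 1) * (algebraMap A (AdjoinRoot P) (c * u) * r ^ m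
      + algebraMap A (AdjoinRoot P) (c * v)) := by
      rw [hz, mul_pow, hroot]
    rw [e3, e1]
    simp only [map_mul, hz, mul_pow]
    set C' := algebraMap A (AdjoinRoot P) c
    set U := algebraMap A (AdjoinRoot P) u
    set V := algebraMap A (AdjoinRoot P) v
    have e4 : V * β ^ m = 1 - U * α ^ m := by rw [← e2]; ring
    have : β ^ (m + 1) * (C' * V) = β * C' * (1 - U * α ^ m) := by rw [← e4]; ring
    calc (1 : AdjoinRoot P) = 1 + C' * β - β * C' * (1 - U * α ^ m) - β * (C' * U) * α ^ m := by ring
      _ = _ := by rw [← this]; ring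
  exact isUnit_of_dvd_one (key ▸ dvd_sub h1 (Dvd.dvd.mul_left h2 _))

end Groth.Agent.S0643
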