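import Groth.Statements.S0644
import Mathlib

set_option autoImplicit false
open CategoryTheory CategoryTheory.Limits AlgebraicGeometry Opposite
universe u
open EtCore

namespace Groth.Agent.S0644

set_option backward.isDefEq.respectTransparency.types false in
/-- Let F be a sheaf of sets on the small etale site of S which is a subsheaf of the final sheaf, i.e.
every set of sections has at most one element. Then there is exactly one open W of S such that F is
isomorphic to the sheaf represented by W (viewed as a scheme etale over S). -/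
theorem result (S : Scheme.{u}) (F : Sheaf S.smallEtaleTopology (Type u))
    (hF : ∀ U : S.Etale, Subsingleton (F.obj.obj (op U))) :
    ∃! W : S.Opens, Nonempty (F.obj ≅ yoneda.obj (Scheme.Etale.mk W.ι)) := by
  have eS : S.smallEtaleTopology =
      (S.smallPretopology (P := @Etale) (Q := @Etale)).toGrothendieck :=
    Scheme.smallGrothendieckTopology_eq_toGrothendieck_smallPretopology S le_rfl
  let Wset : Set ↥S := ⋃ (U : S.Etale) (_ : Nonempty (F.obj.obj (op U))), Set.range U.hom
  have hWopen : IsOpen Wset := by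
    refine isOpen_iUnion fun U => isOpen_iUnion fun _ => ?_
    exact U.hom.isOpenMap.isOpen_range
  let W : S.Opens := ⟨Wset, hWopen⟩
  let Wo : S.Etale := Scheme.Etale.mk W.ι
  have hoi : IsOpenImmersion W.ι := inferInstance
  have key : ∀ U : S.Etale, Nonempty (F.obj.obj (op U)) ↔ Nonempty (U ⟶ Wo) := by
    intro U
    constructor
    · rintro ⟨x⟩
      have hr : Set.range U.hom ⊆ Set.range W.ι := by
        rw [Scheme.Opens.range_ι]
        intro s hs
        exact Set.mem_iUnion.2 ⟨U, Set.mem_iUnion.2 ⟨⟨x⟩, hs⟩⟩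
      let uh : U.left ⟶ S := U.hom
      exact ⟨MorphismProperty.Over.homMk (@IsOpenImmersion.lift _ _ _ W.ι uh hoi hr)
        (@IsOpenImmersion.lift_fac _ _ _ W.ι uh hoi hr)⟩
    · rintro ⟨k⟩
      let T : Sieve U :=
        { arrows := fun Z _ => Nonempty (F.obj.obj (op Z))
          downward_closed := by
            intro Z Z' g hg m
            obtain ⟨x⟩ := hg
            exact ⟨F.obj.map m.op x⟩ }
      have hT : T ∈ S.smallEtaleTopology U := by
        rw [eS]
        refine (Scheme.mem_toGrothendieck_smallPretopology U T).2 ?_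
        intro p
        have hk : k.left ≫ W.ι = U.hom := Over.w k.hom
        have hp : U.hom p ∈ Wset := by
          have : U.hom p ∈ Set.range W.ι :=
            ⟨k.left p, congrArg (fun m : U.left ⟶ S => m p) hk⟩
          rwa [Scheme.Opens.range_ι] at this
        obtain ⟨U', hU'⟩ := Set.mem_iUnion.1 hp
        obtain ⟨⟨x'⟩, p', hp'⟩ := Set.mem_iUnion.1 hU'
        let Z : S.Etale := Scheme.Etale.mk (pullback.fst U.hom U'.hom ≫ U.hom)
        let k1 : Z ⟶ U := MorphismProperty.Over.homMk (pullback.fst U.hom U'.hom) rfl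
        let k2 : Z ⟶ U' := MorphismProperty.Over.homMk (pullback.snd U.hom U'.hom)
          pullback.condition.symm
        obtain ⟨z, hz1, hz2⟩ := Scheme.Pullback.exists_preimage_pullback
          (f := U.hom) (g := U'.hom) p p' hp'.symm
        exact ⟨Z, k1, z, ⟨F.obj.map k2.op x'⟩, inferInstanceAs (Etale k1.left), hz1⟩
      have hsh := ((isSheaf_iff_isSheaf_of_type _ _).1 F.property) T hT
      let x : Presieve.FamilyOfElements F.obj T.arrows := fun Z g hg => Classical.choice hg
      have hx : x.Compatible := by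
        intro Y₁ Y₂ Z g₁ g₂ f₁ f₂ h₁ h₂ _
        exact @Subsingleton.elim _ (hF Z) _ _
      exact ⟨hsh.amalgamate x hx⟩
  have hsubW : ∀ U : S.Etale, Subsingleton (U ⟶ Wo) := by
    intro U
    constructor
    intro a b
    apply MorphismProperty.Over.Hom.ext
    have ha : a.left ≫ W.ι = U.hom := Over.w a.hom
    have hb : b.left ≫ W.ι = U.hom := Over.w b.hom
    exact (cancel_mono W.ι).1 (ha.trans hb.symm)
  let e : F.obj ≅ yoneda.obj Wo := NatIso.ofComponents (fun U' =>
    { hom := TypeCat.ofHom (fun x => Classical.choice ((key U'.unop).1 ⟨x⟩))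
      inv := TypeCat.ofHom (fun k => Classical.choice ((key U'.unop).2 ⟨k⟩))
      hom_inv_id := by
        apply ConcreteCategory.hom_ext
        intro x
        exact @Subsingleton.elim _ (hF U'.unop) _ _
      inv_hom_id := by
        apply ConcreteCategory.hom_ext
        intro k
        exact @Subsingleton.elim _ (hsubW U'.unop) _ _ })
    (by
      intro U' U'' m
      apply ConcreteCategory.hom_ext
      intro x
      exact @Subsingleton.elim _ (hsubW U''.unop) _ _)
  have le_of_hom : ∀ (W₁ W₂ : S.Opens),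
      ((Scheme.Etale.mk W₁.ι : S.Etale) ⟶ Scheme.Etale.mk W₂.ι) → W₁ ≤ W₂ := by
    intro W₁ W₂ k
    have hk : k.left ≫ W₂.ι = W₁.ι := Over.w k.hom
    intro s hs
    have h1 : s ∈ Set.range W₁.ι := by rw [Scheme.Opens.range_ι]; exact hs
    obtain ⟨t, rfl⟩ := h1
    have h2 : W₁.ι t ∈ Set.range W₂.ι :=
      ⟨k.left t, congrArg (fun m : (W₁ : Scheme.{u}) ⟶ S => m t) hk⟩
    rwa [Scheme.Opens.range_ι] at h2
  refine ⟨W, ⟨e⟩, ?_⟩
  rintro W' ⟨e'⟩
  let W'o : S.Etale := Scheme.Etale.mk W'.ι
  have h1 : Wo ⟶ W'o := (e'.hom.app (op Wo)) ((e.inv.app (op Wo)) (𝟙 Wo))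
  have h2 : W'o ⟶ Wo := (e.hom.app (op W'o)) ((e'.inv.app (op W'o)) (𝟙 W'o))
  exact le_antisymm (le_of_hom _ _ h2) (le_of_hom _ _ h1)

end Groth.Agent.S0644
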