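import Groth.Statements.S0649
import Groth.Agent.H10.BCIso
import Mathlib
import Mathlib

set_option autoImplicit false
open CategoryTheory CategoryTheory.Limits AlgebraicGeometry Opposite
universe u
open EtCore

namespace Groth.Agent.S0649

/-- Extension by zero commutes with pullback, for abelian sheaves. Let f : Y → X be a morphism of
schemes and j : V → X étale, and let V' = Y ×_X V with projections j' : V' → Y and f' : V' → V. Then
the functors j'_! ∘ f'^(-1) and f^(-1) ∘ j_! from abelian sheaves on V_ét to abelian sheaves on Y_ét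
are isomorphic. Only the existence of an isomorphism of functors is asserted; the published
statement gives the canonical one. (Continuity of the composition functor of étale sites, which
always holds, is carried as an instance hypothesis.) -/
theorem result {V' V Y X : Scheme.{u}} (j : V ⟶ X) [AlgebraicGeometry.Etale j] [EtShriek.JCont j]
    (f : Y ⟶ X) (j' : V' ⟶ Y) [AlgebraicGeometry.Etale j'] [EtShriek.JCont j'] (f' : V' ⟶ V)
    (h : IsPullback j' f' f j) :
    Nonempty (EtCoh.pull f' ⋙ EtShriek.extZero j' ≅ EtShriek.extZero j ⋙ EtCoh.pull f) := by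
  let k1 : EtShriek.compEtale j ⋙ Scheme.Etale.forget X ≅ Scheme.Etale.forget V ⋙ Over.map j :=
    NatIso.ofComponents (fun W => Over.isoMk (Iso.refl _) (by simp)) (by
      intro W W' g
      ext
      simp
      rfl)
  let k2 : EtShriek.compEtale j' ⋙ Scheme.Etale.forget Y ≅ Scheme.Etale.forget V' ⋙ Over.map j' :=
    NatIso.ofComponents (fun W => Over.isoMk (Iso.refl _) (by simp)) (by
      intro W W' g
      ext
      simp
      rfl)
  let e1 : EtCoh.bc f' ⋙ Scheme.Etale.forget V' ≅ Scheme.Etale.forget V ⋙ Over.pullback f' :=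
    MorphismProperty.Over.pullbackCompForgetIso (P := EtCoh.etaleMP) (Q := ⊤) f'
  let e2 : EtCoh.bc f ⋙ Scheme.Etale.forget Y ≅ Scheme.Etale.forget X ⋙ Over.pullback f :=
    MorphismProperty.Over.pullbackCompForgetIso (P := EtCoh.etaleMP) (Q := ⊤) f
  let E : (EtCoh.bc f' ⋙ EtShriek.compEtale j') ⋙ Scheme.Etale.forget Y ≅
      (EtShriek.compEtale j ⋙ EtCoh.bc f) ⋙ Scheme.Etale.forget Y :=
    Functor.associator _ _ _ ≪≫ Functor.isoWhiskerLeft _ k2 ≪≫
      (Functor.associator _ _ _).symm ≪≫ Functor.isoWhiskerRight e1 _ ≪≫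
      Functor.associator _ _ _ ≪≫
      Functor.isoWhiskerLeft _ (Groth.Agent.H10.BCIso.bcIso h) ≪≫
      (Functor.associator _ _ _).symm ≪≫ Functor.isoWhiskerRight k1.symm _ ≪≫
      Functor.associator _ _ _ ≪≫ Functor.isoWhiskerLeft _ e2.symm ≪≫
      (Functor.associator _ _ _).symm
  let e : EtCoh.bc f' ⋙ EtShriek.compEtale j' ≅ EtShriek.compEtale j ⋙ EtCoh.bc f :=
    Functor.fullyFaithfulCancelRight (Scheme.Etale.forget Y) E
  haveI : (EtShriek.compEtale j ⋙ EtCoh.bc f).IsContinuous V.smallEtaleTopology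
      Y.smallEtaleTopology := Functor.isContinuous_comp _ _ _ X.smallEtaleTopology _
  let adjL : EtCoh.pull f' ⋙ EtShriek.extZero j' ⊣ EtShriek.restrAlong j' ⋙ EtCoh.push f' :=
    (EtCoh.pullPushAdj f').comp (EtShriek.extZeroAdj j')
  let adjR : EtShriek.extZero j ⋙ EtCoh.pull f ⊣ EtCoh.push f ⋙ EtShriek.restrAlong j :=
    (EtShriek.extZeroAdj j).comp (EtCoh.pullPushAdj f)
  let iR : EtShriek.restrAlong j' ⋙ EtCoh.push f' ≅ EtCoh.push f ⋙ EtShriek.restrAlong j :=
    Functor.sheafPushforwardContinuousComp' (F := EtCoh.bc f') (G := EtShriek.compEtale j') e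
      AddCommGrpCat.{u + 1} V.smallEtaleTopology V'.smallEtaleTopology Y.smallEtaleTopology ≪≫
    (Functor.sheafPushforwardContinuousComp' (F := EtShriek.compEtale j) (G := EtCoh.bc f)
      (Iso.refl _) AddCommGrpCat.{u + 1} V.smallEtaleTopology X.smallEtaleTopology
      Y.smallEtaleTopology).symm
  exact ⟨(adjL.ofNatIsoRight iR).leftAdjointUniq adjR⟩

end Groth.Agent.S0649
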