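import Groth.Statements.S0658
import Mathlib

set_option autoImplicit false
open CategoryTheory CategoryTheory.Limits AlgebraicGeometry Opposite
universe u
open EtCore

namespace Groth.Agent.S0658

section Helpers
open AlgebraicGeometry CategoryTheory Limits TopologicalSpace

theorem etale_of_finite_separable {k K : Type u} [Field k] [Field K] (f : k →+* K)
    (hfin : letI := f.toAlgebra; FiniteDimensional k K)
    (hsep : letI := f.toAlgebra; Algebra.IsSeparable k K) : f.Etale := by
  letI := f.toAlgebra
  haveI := hfin
  haveI := hsep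
  show (algebraMap k K).Etale
  rw [RingHom.etale_algebraMap]
  haveI : Algebra.FormallyEtale k K := Algebra.FormallyEtale.of_isSeparable k K
  haveI : Algebra.FinitePresentation k K :=
    Algebra.FinitePresentation.of_finiteType.mp inferInstance
  exact {}

theorem etale_SpecMap_of_finite_separable (k K : Type u) [Field k] [Field K] [Algebra k K]
    [FiniteDimensional k K] [Algebra.IsSeparable k K] :
    Etale (Spec.map (CommRingCat.ofHom (algebraMap k K))) := by
  rw [HasRingHomProperty.Spec_iff (P := @Etale)]
  show (algebraMap k K).Etale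
  rw [RingHom.etale_algebraMap]
  haveI : Algebra.FormallyEtale k K := Algebra.FormallyEtale.of_isSeparable k K
  haveI : Algebra.FinitePresentation k K :=
    Algebra.FinitePresentation.of_finiteType.mp inferInstance
  exact {}

theorem finite_residueFieldMap {X Y : Scheme.{u}} (f : X ⟶ Y) [FormallyUnramified f]
    [LocallyOfFiniteType f] (x : X) :
    letI : Algebra (Y.residueField (f.base x)) (X.residueField x) :=
      (f.residueFieldMap x).hom.toAlgebra
    Module.Finite (Y.residueField (f.base x)) (X.residueField x) := by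
  algebraize [(f.stalkMap x).hom]
  have : IsLocalHom (algebraMap (Y.presheaf.stalk (f x)) (X.presheaf.stalk x)) :=
    inferInstanceAs <| IsLocalHom (f.stalkMap x).hom
  have : Algebra.EssFiniteType (Y.presheaf.stalk (f x)) (X.presheaf.stalk x) := by
    rw [← RingHom.essFiniteType_algebraMap, RingHom.algebraMap_toAlgebra]
    exact LocallyOfFiniteType.stalkMap f x
  have : Algebra.FormallyUnramified (Y.presheaf.stalk (f x)) (X.presheaf.stalk x) := by
    rw [← RingHom.formallyUnramified_algebraMap, RingHom.algebraMap_toAlgebra]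
    exact FormallyUnramified.stalkMap f x
  have key : (f.residueFieldMap x).hom.toAlgebra =
      (inferInstance : Algebra (IsLocalRing.ResidueField (Y.presheaf.stalk (f x)))
        (IsLocalRing.ResidueField (X.presheaf.stalk x))) := by
    refine Algebra.algebra_ext _ _ fun x ↦ ?_
    obtain ⟨x, rfl⟩ := IsLocalRing.residue_surjective x
    rfl
  show @Module.Finite (Y.residueField (f.base x)) (X.residueField x) _ _
    (@Algebra.toModule _ _ _ _ (f.residueFieldMap x).hom.toAlgebra)
  rw [key]
  exact (inferInstance : Module.Finite (IsLocalRing.ResidueField (Y.presheaf.stalk (f x)))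
    (IsLocalRing.ResidueField (X.presheaf.stalk x)))

noncomputable def ψ0658 (k : Type u) [Field k] (U : Scheme.{u})
    (φ : U ⟶ Spec (CommRingCat.of k)) (x : U) : CommRingCat.of k ⟶ U.residueField x :=
  Spec.preimage (U.fromSpecResidueField x ≫ φ)

theorem SpecMap_ψ0658 (k : Type u) [Field k] (U : Scheme.{u})
    (φ : U ⟶ Spec (CommRingCat.of k)) (x : U) :
    Spec.map (ψ0658 k U φ x) = U.fromSpecResidueField x ≫ φ := Spec.map_preimage _

noncomputable def θ0658 (k : Type u) [Field k] (p : Spec (CommRingCat.of k)) :
    CommRingCat.of k ⟶ (Spec (CommRingCat.of k)).residueField p :=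
  CommRingCat.ofHom (algebraMap (CommRingCat.of k) p.asIdeal.ResidueField) ≫
    (Scheme.Spec.residueFieldIso (CommRingCat.of k) p).inv

theorem ψ_eq (k : Type u) [Field k] (U : Scheme.{u})
    (φ : U ⟶ Spec (CommRingCat.of k)) (x : U) :
    ψ0658 k U φ x = θ0658 k (φ.base x) ≫ φ.residueFieldMap x := by
  apply Spec.map_injective
  rw [SpecMap_ψ0658, Spec.map_comp, θ0658, Spec.map_comp,
    Scheme.Spec.map_residueFieldIso_inv_eq_fromSpecResidueField,
    Scheme.Hom.SpecMap_residueFieldMap_fromSpecResidueField]

theorem θ_surjective (k : Type u) [Field k] (p : Spec (CommRingCat.of k)) :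
    Function.Surjective (θ0658 k p).hom := by
  haveI : p.asIdeal.IsMaximal := by
    simpa [p.asIdeal.eq_bot_of_prime] using Ideal.bot_isMaximal (K := k)
  have h1 : Function.Surjective (algebraMap (CommRingCat.of k) p.asIdeal.ResidueField) :=
    p.asIdeal.algebraMap_residueField_surjective
  have h2 : Function.Bijective (Scheme.Spec.residueFieldIso (CommRingCat.of k) p).inv.hom :=
    ConcreteCategory.bijective_of_isIso _
  intro z
  obtain ⟨w, hw⟩ := h2.surjective z
  obtain ⟨a, ha⟩ := h1 w
  refine ⟨a, ?_⟩
  rw [θ0658, CommRingCat.hom_comp, RingHom.comp_apply]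
  rw [← hw, ← ha]
  rfl

theorem finite_sep_ψ (k : Type u) [Field k] (U : Scheme.{u})
    (φ : U ⟶ Spec (CommRingCat.of k)) [Etale φ] (x : U) :
    letI : Algebra k (U.residueField x) := (ψ0658 k U φ x).hom.toAlgebra
    FiniteDimensional k (U.residueField x) ∧ Algebra.IsSeparable k (U.residueField x) := by
  letI a3 : Algebra k (U.residueField x) := (ψ0658 k U φ x).hom.toAlgebra
  letI a1 : Algebra k ((Spec (CommRingCat.of k)).residueField (φ.base x)) :=
    (θ0658 k (φ.base x)).hom.toAlgebra
  letI a2 : Algebra ((Spec (CommRingCat.of k)).residueField (φ.base x)) (U.residueField x) :=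
    (φ.residueFieldMap x).hom.toAlgebra
  haveI : IsScalarTower k ((Spec (CommRingCat.of k)).residueField (φ.base x))
      (U.residueField x) :=
    IsScalarTower.of_algebraMap_eq' (by
      show (ψ0658 k U φ x).hom = (φ.residueFieldMap x).hom.comp (θ0658 k (φ.base x)).hom
      rw [ψ_eq]; rfl)
  have hsurj : Function.Surjective
      (algebraMap k ((Spec (CommRingCat.of k)).residueField (φ.base x))) :=
    θ_surjective k (φ.base x)
  haveI : Module.Finite k ((Spec (CommRingCat.of k)).residueField (φ.base x)) :=
    Module.Finite.of_surjective (Algebra.linearMap k _) hsurj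
  haveI : Module.Finite ((Spec (CommRingCat.of k)).residueField (φ.base x))
      (U.residueField x) := finite_residueFieldMap φ x
  haveI : Module.Finite k (U.residueField x) :=
    Module.Finite.trans ((Spec (CommRingCat.of k)).residueField (φ.base x)) (U.residueField x)
  haveI : Algebra.FormallyUnramified k ((Spec (CommRingCat.of k)).residueField (φ.base x)) :=
    Algebra.FormallyUnramified.of_surjective (Algebra.ofId k _) hsurj
  haveI : Algebra.IsSeparable ((Spec (CommRingCat.of k)).residueField (φ.base x))
      (U.residueField x) := inferInstance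
  haveI : Algebra.FormallyUnramified ((Spec (CommRingCat.of k)).residueField (φ.base x))
      (U.residueField x) := Algebra.FormallyUnramified.of_isSeparable _ _
  haveI : Algebra.FormallyUnramified k (U.residueField x) :=
    Algebra.FormallyUnramified.comp k ((Spec (CommRingCat.of k)).residueField (φ.base x))
      (U.residueField x)
  exact ⟨inferInstance, Algebra.FormallyUnramified.isSeparable k (U.residueField x)⟩

theorem isOpenImmersion_fromSpecResidueField (k : Type u) [Field k] (U : Scheme.{u})
    (φ : U ⟶ Spec (CommRingCat.of k)) [Etale φ] (x : U) :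
    IsOpenImmersion (U.fromSpecResidueField x) := by
  haveI : Etale (U.fromSpecResidueField x ≫ φ) := by
    rw [← SpecMap_ψ0658, HasRingHomProperty.Spec_iff (P := @Etale)]
    exact etale_of_finite_separable (k := k) (K := U.residueField x) (ψ0658 k U φ x).hom
      (finite_sep_ψ k U φ x).1 (finite_sep_ψ k U φ x).2
  haveI : Etale (U.fromSpecResidueField x) := Etale.of_comp _ φ
  exact IsOpenImmersion.of_flat_of_mono _

set_option backward.isDefEq.respectTransparency false in
theorem fwd0658 (k : Type u) [Field k] (U : Scheme.{u}) (φ : U ⟶ Spec (CommRingCat.of k))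
    [Etale φ] :
    ∃ (ι : Type u) (K : ι → Type u) (_ : ∀ i, Field (K i)) (_ : ∀ i, Algebra k (K i))
        (_ : ∀ i, FiniteDimensional k (K i)) (_ : ∀ i, Algebra.IsSeparable k (K i))
        (e : (∐ fun i => Spec (CommRingCat.of (K i))) ≅ U),
        ∀ i, Sigma.ι (fun i => Spec (CommRingCat.of (K i))) i ≫ e.hom ≫ φ =
          Spec.map (CommRingCat.ofHom (algebraMap k (K i))) := by
  refine ⟨U, fun x => U.residueField x, fun x => inferInstance,
    fun x => (ψ0658 k U φ x).hom.toAlgebra, fun x => (finite_sep_ψ k U φ x).1,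
    fun x => (finite_sep_ψ k U φ x).2, ?_⟩
  let f : ∀ x : U, Spec (CommRingCat.of (U.residueField x)) ⟶ U :=
    fun x => U.fromSpecResidueField x
  haveI : ∀ x, IsOpenImmersion (f x) := fun x => isOpenImmersion_fromSpecResidueField k U φ x
  have hr : ∀ x : U, ((f x).opensRange : Set U) = {x} :=
    fun x => Scheme.range_fromSpecResidueField x
  have hcov : ⨆ x, (f x).opensRange = ⊤ := by
    rw [eq_top_iff]
    intro x _
    rw [Opens.mem_iSup]
    refine ⟨x, ?_⟩
    show x ∈ ((f x).opensRange : Set U)
    rw [hr x]; rfl
  have hdisj : Pairwise (Function.onFun Disjoint (fun x => (f x).opensRange)) := by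
    intro x y hxy
    show Disjoint (f x).opensRange (f y).opensRange
    rw [disjoint_iff]
    apply Opens.ext
    rw [Opens.coe_inf, hr x, hr y, Opens.coe_bot]
    exact Set.singleton_inter_eq_empty.mpr (by simpa using hxy)
  obtain ⟨hc⟩ := nonempty_isColimit_cofanMk_of f hcov hdisj
  haveI : IsIso (Sigma.desc f) :=
    (Cofan.nonempty_isColimit_iff_isIso_sigmaDesc (Cofan.mk U f)).mp ⟨hc⟩
  refine ⟨asIso (Sigma.desc f), fun x => ?_⟩
  rw [asIso_hom, ← Category.assoc, Sigma.ι_desc]
  exact (SpecMap_ψ0658 k U φ x).symm

theorem bwd0658 (k : Type u) [Field k] (U : Scheme.{u}) (φ : U ⟶ Spec (CommRingCat.of k))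
    (ι : Type u) (K : ι → Type u) [∀ i, Field (K i)] [∀ i, Algebra k (K i)]
    [∀ i, FiniteDimensional k (K i)] [∀ i, Algebra.IsSeparable k (K i)]
    (e : (∐ fun i => Spec (CommRingCat.of (K i))) ≅ U)
    (h : ∀ i, Sigma.ι (fun i => Spec (CommRingCat.of (K i))) i ≫ e.hom ≫ φ =
          Spec.map (CommRingCat.ofHom (algebraMap k (K i)))) : Etale φ := by
  have h1 : Etale (e.hom ≫ φ) := by
    have h3 : e.hom ≫ φ =
        Sigma.desc (fun i => Spec.map (CommRingCat.ofHom (algebraMap k (K i)))) := by
      apply Sigma.hom_ext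
      intro i
      rw [h i, Sigma.ι_desc]
    rw [h3]
    exact IsZariskiLocalAtSource.sigmaDesc
      (fun i => etale_SpecMap_of_finite_separable k (K i))
  have h2 : φ = e.inv ≫ (e.hom ≫ φ) := by simp
  rw [h2]
  infer_instance

end Helpers

/-- Let k be a field and φ : U → Spec k a morphism of schemes. Then φ is étale if and only if U is
isomorphic over k to a disjoint union ∐ Spec K_i with each K_i a finite separable field extension of
k. -/
theorem result (k : Type u) [Field k] (U : Scheme.{u}) (φ : U ⟶ Spec (CommRingCat.of k)) :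
    AlgebraicGeometry.Etale φ ↔
      ∃ (ι : Type u) (K : ι → Type u) (_ : ∀ i, Field (K i)) (_ : ∀ i, Algebra k (K i))
        (_ : ∀ i, FiniteDimensional k (K i)) (_ : ∀ i, Algebra.IsSeparable k (K i))
        (e : (∐ fun i => Spec (CommRingCat.of (K i))) ≅ U),
        ∀ i, Sigma.ι (fun i => Spec (CommRingCat.of (K i))) i ≫ e.hom ≫ φ =
          Spec.map (CommRingCat.ofHom (algebraMap k (K i))) := by
  constructor
  · intro h
    exact fwd0658 k U φ
  · rintro ⟨ι, K, hF, hA, hfin, hsep, e, h⟩
    exact bwd0658 k U φ ι K e h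

end Groth.Agent.S0658
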