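import Groth.Statements.S14626
import Mathlib

set_option autoImplicit false
open CategoryTheory CategoryTheory.Limits AlgebraicGeometry
universe u
open EtBase

namespace Groth.Agent.S14626

section helpers

universe w v₁ u₁ v₂ u₂

open CategoryTheory CategoryTheory.Limits Opposite AlgebraicTopology Simplicial

section gen

variable {D : Type u₁} [Category.{v₁} D] [HasFiniteProducts D] {ι : Type w} (Y : ι → D)
  (Q : Dᵒᵖ ⥤ AddCommGrpCat.{w})

noncomputable abbrev PD (n : ℕ) (x : Fin (n + 1) → ι) : D := ∏ᶜ (Y ∘ x)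

noncomputable def Yc : CosimplicialObject AddCommGrpCat.{w} :=
  (FormalCoproduct.cosimplicialObjectFunctor (FormalCoproduct.mk _ Y).cech).obj Q

noncomputable def pr (n : ℕ) (x : Fin (n + 1) → ι) :
    (Yc Y Q).obj ⦋n⦌ ⟶ Q.obj (op (PD Y n x)) :=
  Limits.Pi.π (fun x : Fin (n + 1) → ι => Q.obj (op (PD Y n x))) x

theorem pr_ext {n : ℕ} {Z : AddCommGrpCat.{w}} (f g : Z ⟶ (Yc Y Q).obj ⦋n⦌)
    (h : ∀ x, f ≫ pr Y Q n x = g ≫ pr Y Q n x) : f = g :=
  Limits.Pi.hom_ext (f := fun x : Fin (n + 1) → ι => Q.obj (op (PD Y n x))) f g h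

noncomputable def tr {n m : ℕ} (θ : ⦋n⦌ ⟶ ⦋m⦌) (y : Fin (m + 1) → ι) :
    PD Y m y ⟶ PD Y n (y ∘ θ.toOrderHom) :=
  Limits.Pi.lift (fun a => Limits.Pi.π (Y ∘ y) (θ.toOrderHom a))

theorem tr_π {n m : ℕ} (θ : ⦋n⦌ ⟶ ⦋m⦌) (y : Fin (m + 1) → ι) (a : Fin (n + 1)) :
    tr Y θ y ≫ Limits.Pi.π (Y ∘ (y ∘ θ.toOrderHom)) a = Limits.Pi.π (Y ∘ y) (θ.toOrderHom a) :=
  Limits.Pi.lift_π _ a

theorem Ymap_pr {n m : ℕ} (θ : ⦋n⦌ ⟶ ⦋m⦌) (y : Fin (m + 1) → ι) :
    (Yc Y Q).map θ ≫ pr Y Q m y =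
      pr Y Q n (y ∘ θ.toOrderHom) ≫ Q.map (tr Y θ y).op := by
  have h := Limits.Pi.lift_π (fun y : Fin (m + 1) → ι =>
    Limits.Pi.π (fun x : Fin (n + 1) → ι => Q.obj (op (PD Y n x))) (y ∘ θ.toOrderHom) ≫
      Q.map (tr Y θ y).op) y
  exact h

end gen

section cmp

variable {C : Type u₁} [Category.{v₁} C] {D : Type u₂} [Category.{v₂} D] (u : C ⥤ D)
  {U : C} [HasFiniteProducts (Over U)] [HasFiniteProducts (Over (u.obj U))]
  [PreservesFiniteProducts (Over.post u (X := U))]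
  {ι : Type w} (Y : ι → Over U) (N : Dᵒᵖ ⥤ AddCommGrpCat.{w})

abbrev uY : ι → Over (u.obj U) := fun i => (Over.post u).obj (Y i)

noncomputable abbrev Qf {C' : Type u₁} [Category.{v₁} C'] {U' : C'}
    (P : C'ᵒᵖ ⥤ AddCommGrpCat.{w}) : (Over U')ᵒᵖ ⥤ AddCommGrpCat.{w} :=
  (Over.forget U').op ⋙ P

noncomputable def cx (n : ℕ) (x : Fin (n + 1) → ι) :
    (Over.post u).obj (PD Y n x) ⟶ PD (uY u Y) n x :=
  piComparison (Over.post u) (Y ∘ x)

theorem cx_π (n : ℕ) (x : Fin (n + 1) → ι) (k : Fin (n + 1)) :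
    cx u Y n x ≫ Limits.Pi.π (uY u Y ∘ x) k = (Over.post u).map (Limits.Pi.π (Y ∘ x) k) :=
  piComparison_comp_π (Over.post u) (Y ∘ x) k

instance cx_iso (n : ℕ) (x : Fin (n + 1) → ι) : IsIso (cx u Y n x) := by
  haveI : PreservesLimit (Discrete.functor (Y ∘ x)) (Over.post u (X := U)) := inferInstance
  exact (inferInstance : IsIso (piComparison (Over.post u) (Y ∘ x)))

theorem cx_tr {n m : ℕ} (θ : ⦋n⦌ ⟶ ⦋m⦌) (y : Fin (m + 1) → ι) :
    (Over.post u).map (tr Y θ y) ≫ cx u Y n (y ∘ θ.toOrderHom) =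
      cx u Y m y ≫ tr (uY u Y) θ y := by
  apply Limits.Pi.hom_ext
  intro a
  have e1 : ((Over.post u).map (tr Y θ y) ≫ cx u Y n (y ∘ θ.toOrderHom)) ≫
      Limits.Pi.π (uY u Y ∘ (y ∘ θ.toOrderHom)) a =
      (Over.post u).map (Limits.Pi.π (Y ∘ y) (θ.toOrderHom a)) := by
    rw [Category.assoc, cx_π, ← Functor.map_comp, tr_π]
  have e2 : (cx u Y m y ≫ tr (uY u Y) θ y) ≫
      Limits.Pi.π (uY u Y ∘ (y ∘ θ.toOrderHom)) a =
      (Over.post u).map (Limits.Pi.π (Y ∘ y) (θ.toOrderHom a)) := by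
    rw [Category.assoc, tr_π, cx_π]
  exact e1.trans e2.symm

noncomputable def PhiN (n : ℕ) :
    (Yc (uY u Y) (Qf N)).obj ⦋n⦌ ⟶ (Yc Y (Qf (u.op ⋙ N))).obj ⦋n⦌ :=
  Limits.Pi.map (f := fun x : Fin (n + 1) → ι => (Qf N).obj (op (PD (uY u Y) n x)))
    (g := fun x : Fin (n + 1) → ι => (Qf (u.op ⋙ N)).obj (op (PD Y n x)))
    (fun x => N.map (cx u Y n x).left.op)

theorem PhiN_pr (n : ℕ) (x : Fin (n + 1) → ι) :
    PhiN u Y N n ≫ pr Y (Qf (u.op ⋙ N)) n x =
      pr (uY u Y) (Qf N) n x ≫ N.map (cx u Y n x).left.op :=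
  Limits.Pi.map_π _ x

instance PhiN_iso (n : ℕ) : IsIso (PhiN u Y N n) := by
  haveI : ∀ x : Fin (n + 1) → ι, IsIso (N.map (cx u Y n x).left.op) := fun x => by
    haveI : IsIso (cx u Y n x).left :=
      (inferInstance : IsIso ((Over.forget _).map (cx u Y n x)))
    infer_instance
  exact @Limits.Pi.map_isIso (Fin (n + 1) → ι) AddCommGrpCat.{w} _
    (fun x => (Qf N).obj (op (PD (uY u Y) n x)))
    (fun x => (Qf (u.op ⋙ N)).obj (op (PD Y n x))) _
    (fun x => N.map (cx u Y n x).left.op) (fun x => this x)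

theorem Phi_nat {n m : ℕ} (θ : ⦋n⦌ ⟶ ⦋m⦌) :
    (Yc (uY u Y) (Qf N)).map θ ≫ PhiN u Y N m =
      PhiN u Y N n ≫ (Yc Y (Qf (u.op ⋙ N))).map θ := by
  apply pr_ext Y (Qf (u.op ⋙ N))
  intro y
  have e1 : ((Yc (uY u Y) (Qf N)).map θ ≫ PhiN u Y N m) ≫ pr Y (Qf (u.op ⋙ N)) m y =
      pr (uY u Y) (Qf N) n (y ∘ θ.toOrderHom) ≫
        ((Qf N).map (tr (uY u Y) θ y).op ≫ N.map (cx u Y m y).left.op) :=
    (Category.assoc _ _ _).trans
      ((congrArg (fun t => (Yc (uY u Y) (Qf N)).map θ ≫ t) (PhiN_pr u Y N m y)).trans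
        ((Category.assoc _ _ _).symm.trans
          ((congrArg (fun t => t ≫ N.map (cx u Y m y).left.op)
            (Ymap_pr (uY u Y) (Qf N) θ y)).trans (Category.assoc _ _ _))))
  have e2 : (PhiN u Y N n ≫ (Yc Y (Qf (u.op ⋙ N))).map θ) ≫ pr Y (Qf (u.op ⋙ N)) m y =
      pr (uY u Y) (Qf N) n (y ∘ θ.toOrderHom) ≫
        (N.map (cx u Y n (y ∘ θ.toOrderHom)).left.op ≫
          (Qf (u.op ⋙ N)).map (tr Y θ y).op) :=
    (Category.assoc _ _ _).trans
      ((congrArg (fun t => PhiN u Y N n ≫ t) (Ymap_pr Y (Qf (u.op ⋙ N)) θ y)).trans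
        ((Category.assoc _ _ _).symm.trans
          ((congrArg (fun t => t ≫ (Qf (u.op ⋙ N)).map (tr Y θ y).op)
            (PhiN_pr u Y N n (y ∘ θ.toOrderHom))).trans (Category.assoc _ _ _))))
  have e3 : (Qf N).map (tr (uY u Y) θ y).op ≫ N.map (cx u Y m y).left.op =
      N.map (cx u Y n (y ∘ θ.toOrderHom)).left.op ≫ (Qf (u.op ⋙ N)).map (tr Y θ y).op := by
    have h := congrArg (fun a => N.map a.left.op) (cx_tr u Y θ y)
    have h1 : N.map ((Over.post u).map (tr Y θ y) ≫ cx u Y n (y ∘ θ.toOrderHom)).left.op =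
        N.map (cx u Y n (y ∘ θ.toOrderHom)).left.op ≫ (Qf (u.op ⋙ N)).map (tr Y θ y).op := by
      rw [Over.comp_left, op_comp, Functor.map_comp]
      rfl
    have h2 : N.map (cx u Y m y ≫ tr (uY u Y) θ y).left.op =
        (Qf N).map (tr (uY u Y) θ y).op ≫ N.map (cx u Y m y).left.op := by
      rw [Over.comp_left, op_comp, Functor.map_comp]
      rfl
    exact h2.symm.trans (h.symm.trans h1)
  exact e1.trans ((congrArg (fun t => pr (uY u Y) (Qf N) n (y ∘ θ.toOrderHom) ≫ t) e3).trans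
    e2.symm)

noncomputable def PhiC : Yc (uY u Y) (Qf N) ⟶ Yc Y (Qf (u.op ⋙ N)) where
  app Δ := PhiN u Y N Δ.len
  naturality Δ Δ' f := Phi_nat u Y N (n := Δ.len) (m := Δ'.len) f

theorem cech_iso (p : ℕ) (h : IsZero (EtCech.cechH (uY u Y) N p)) :
    IsZero (EtCech.cechH Y (u.op ⋙ N) p) := by
  haveI : ∀ Δ, IsIso ((PhiC u Y N).app Δ) := fun Δ =>
    (inferInstance : IsIso (PhiN u Y N Δ.len))
  haveI : IsIso (PhiC u Y N) := NatIso.isIso_of_isIso_app _
  let e := asIso ((AlgebraicTopology.alternatingCofaceMapComplex AddCommGrpCat.{w}).map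
    (PhiC u Y N))
  let eh := (HomologicalComplex.homologyFunctor AddCommGrpCat.{w} _ p).mapIso e
  exact IsZero.of_iso h eh.symm

end cmp

section et

theorem post_terminal {C : Type u₁} [Category.{v₁} C] {D : Type u₂} [Category.{v₂} D]
    (u : C ⥤ D) (U : C) :
    PreservesLimit (Functor.empty.{0} (Over U)) (Over.post u (X := U)) := by
  refine preservesLimit_of_preserves_limit_cone (Over.mkIdTerminal (X := U)) ?_
  exact (isLimitMapConeEmptyConeEquiv (Over.post u (X := U)) (Over.mk (𝟙 U))).symm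
    (IsTerminal.ofIso (Over.mkIdTerminal (X := u.obj U))
      (Over.isoMk (Iso.refl _) ((Category.id_comp _).trans (u.map_id U))))

theorem post_finprod {C : Type u₁} [Category.{v₁} C] {D : Type u₂} [Category.{v₂} D]
    [HasPullbacks C] (u : C ⥤ D) [PreservesLimitsOfShape WalkingCospan u] (U : C)
    [HasFiniteProducts (Over U)] :
    PreservesFiniteProducts (Over.post u (X := U)) := by
  haveI : PreservesLimitsOfShape (WidePullbackShape WalkingPair) u :=
    ‹PreservesLimitsOfShape WalkingCospan u›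
  haveI : PreservesLimitsOfShape (Discrete WalkingPair) (Over.post u (X := U)) := inferInstance
  haveI := post_terminal u U
  haveI : PreservesLimitsOfShape (Discrete.{0} PEmpty) (Over.post u (X := U)) :=
    preservesLimitsOfShape_pempty_of_preservesTerminal _
  exact PreservesFiniteProducts.of_preserves_binary_and_terminal _

set_option backward.isDefEq.respectTransparency.types false in
theorem main {X Y : Scheme.{u}} (f : X ⟶ Y)
    [∀ U : X.Etale, HasFiniteProducts (Over U)] [∀ V : Y.Etale, HasFiniteProducts (Over V)]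
    (F : EtCoh.Ab X)
    (hF : ∀ (U : X.Etale) (ι : Type (u + 1)) (Uf : ι → Over U),
      (∀ x : ↥(U.left), ∃ (i : ι) (y : ↥((Uf i).left.left)), (Uf i).hom.left.base y = x) →
      ∀ p : ℕ, 0 < p → IsZero (EtCech.cechH Uf F.obj p))
    (V : Y.Etale) (ι : Type (u + 1)) (Vf : ι → Over V)
    (hV : ∀ x : ↥(V.left), ∃ (i : ι) (y : ↥((Vf i).left.left)), (Vf i).hom.left.base y = x)
    (p : ℕ) (hp : 0 < p) :
    IsZero (EtCech.cechH Vf ((EtCoh.push f).obj F).obj p) := by
  haveI := post_finprod (EtCoh.bc f) V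
  have h1 : IsZero (EtCech.cechH (uY (EtCoh.bc f) Vf) F.obj p) := by
    refine hF ((EtCoh.bc f).obj V) ι (uY (EtCoh.bc f) Vf) ?_ p hp
    intro x'
    obtain ⟨i, v, hv⟩ := hV ((pullback.fst V.hom f : ((EtCoh.bc f).obj V).left ⟶ V.left).base x')
    have sq := EtCoh.isPullback_bc_map f (Vf i).hom
    obtain ⟨z, hz1, -⟩ := Scheme.Pullback.exists_preimage_pullback
      (f := (pullback.fst V.hom f : ((EtCoh.bc f).obj V).left ⟶ V.left))
      (g := (Vf i).hom.left) x' v hv.symm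
    refine ⟨i, sq.isoPullback.inv z, ?_⟩
    rw [← hz1]
    change ((EtCoh.bc f).map (Vf i).hom).left (sq.isoPullback.inv z) = _
    have e := sq.isoPullback_inv_fst
    have e2 : (sq.isoPullback.inv ≫ ((EtCoh.bc f).map (Vf i).hom).left) z =
        (pullback.fst (pullback.fst V.hom f) (Vf i).hom.left) z := by rw [e]; exact rfl
    exact e2
  exact cech_iso (EtCoh.bc f) Vf F.obj p h1

end et

end helpers

/-- For the direct image along a morphism of schemes on small étale sites; take a morphism of schemes f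
: X → Y and an abelian étale sheaf F on X which is flasque in the Čech sense, i.e. for every étale U
over X and every jointly surjective family of étale U-schemes the Čech cohomology groups of F in
positive degrees vanish. Then the direct image f_*F is flasque in the same sense on Y. The finite
products of the over categories (the fibre products entering the Čech complexes) are carried as
instance hypotheses. -/
theorem result {X Y : Scheme.{u}} (f : X ⟶ Y)
    [∀ U : X.Etale, HasFiniteProducts (Over U)] [∀ V : Y.Etale, HasFiniteProducts (Over V)]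
    (F : EtCoh.Ab X)
    (hF : ∀ (U : X.Etale) (ι : Type (u + 1)) (Uf : ι → Over U),
      (∀ x : ↥(U.left), ∃ (i : ι) (y : ↥((Uf i).left.left)), (Uf i).hom.left.base y = x) →
      ∀ p : ℕ, 0 < p → IsZero (EtCech.cechH Uf F.obj p))
    (V : Y.Etale) (ι : Type (u + 1)) (Vf : ι → Over V)
    (hV : ∀ x : ↥(V.left), ∃ (i : ι) (y : ↥((Vf i).left.left)), (Vf i).hom.left.base y = x)
    (p : ℕ) (hp : 0 < p) :
    IsZero (EtCech.cechH Vf ((EtCoh.push f).obj F).obj p) := by
  exact Groth.Agent.S14626.main f F hF V ι Vf hV p hp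

end Groth.Agent.S14626
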