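import Groth.Statements.S0733
import Mathlib
-- import your own Groth.Agent.* helpers here

set_option autoImplicit false
open CategoryTheory CategoryTheory.Limits AlgebraicGeometry Opposite Topology
universe u
open scoped TensorProduct
open ProEtW

namespace Groth.Agent.S0733

/-- If A -> B is ind-etale (a filtered colimit of etale A-algebras) and A -> A' is any ring map, then A'
-> A' (x)_A B is ind-etale. -/
theorem result (A B A' : Type u) [CommRing A] [CommRing B] [CommRing A']
    [Algebra A B] [Algebra A A'] (h : EtPBC.IsIndEtale A B) :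
    EtPBC.IsIndEtale A' (A' ⊗[A] B) := by
  obtain ⟨J, hJ, hF, D, c, hc, het, ⟨e⟩⟩ := h
  let f : CommRingCat.of A ⟶ CommRingCat.of A' := CommRingCat.ofHom (algebraMap A A')
  let F : CategoryTheory.Under (CommRingCat.of A) ⥤ CategoryTheory.Under (CommRingCat.of A') :=
    CategoryTheory.Under.pushout f
  haveI : CategoryTheory.Limits.PreservesColimitsOfSize.{u, u} F :=
    (CategoryTheory.Under.mapPushoutAdj f).leftAdjoint_preservesColimits
  refine ⟨J, hJ, hF, D ⋙ F, F.mapCocone c, CategoryTheory.Limits.isColimitOfPreserves F hc, ?_,
    ⟨F.mapIso e ≪≫ ?_⟩⟩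
  · intro j
    haveI hst : (RingHom.toMorphismProperty RingHom.Etale).IsStableUnderCobaseChange :=
      RingHom.isStableUnderCobaseChange_toMorphismProperty_iff.mpr
        RingHom.Etale.isStableUnderBaseChange
    have h1 : (RingHom.toMorphismProperty RingHom.Etale) (D.obj j).hom := het j
    exact CategoryTheory.MorphismProperty.pushout_inr (P := RingHom.toMorphismProperty RingHom.Etale) (D.obj j).hom f h1
  · refine CategoryTheory.Under.isoMk
      ((CommRingCat.isPushout_tensorProduct A A' B).flip.isoPushout.symm) ?_
    show CategoryTheory.Limits.pushout.inr _ _ ≫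
      (CommRingCat.isPushout_tensorProduct A A' B).flip.isoPushout.inv = _
    rw [CategoryTheory.IsPushout.inr_isoPushout_inv]
    ext x
    simp

end Groth.Agent.S0733
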