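import Mathlib
import Groth.Agent.H11.IndEtaleElim
import Groth.Statements.S0735

set_option autoImplicit false
open CategoryTheory CategoryTheory.Limits AlgebraicGeometry Opposite Topology
universe u
open ProEtW

namespace Groth.Agent.S0735

/-- If A -> B and A -> C are ind-etale and C is a B-algebra compatibly with A, then C is ind-etale over
B. -/
theorem result (A B C : Type u) [CommRing A] [CommRing B]
    [CommRing C] [Algebra A B] [Algebra B C] [Algebra A C] [IsScalarTower A B C]
    (hB : EtPBC.IsIndEtale A B) (hC : EtPBC.IsIndEtale A C) : EtPBC.IsIndEtale B C := by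

    classical
    have HB := Groth.Agent.H11.IndEt.factor_of_isIndEtale hB
    have HC := Groth.Agent.H11.IndEt.factor_of_isIndEtale hC
    apply Groth.Agent.H11.IndEt.isIndEtale_of_factor
    intro P _ _ _ φ
    let Pres := Algebra.Presentation.ofFinitePresentation B P
    have hfin : Pres.coeffs.Finite := Pres.finite_coeffs
    haveI : Finite ↥Pres.coeffs := hfin.to_subtype
    -- an étale `A`-algebra containing the coefficients
    obtain ⟨E, _, _, hE, α, β, hαβ⟩ := HB (MvPolynomial (↥Pres.coeffs) A)
      (MvPolynomial.aeval (fun c => (c : B)))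
    have hcoef : Pres.coeffs ⊆ Set.range β := by
      intro c hc
      refine ⟨α (MvPolynomial.X ⟨c, hc⟩), ?_⟩
      have := DFunLike.congr_fun hαβ (MvPolynomial.X ⟨c, hc⟩)
      simpa using this
    letI algEB : Algebra E B := β.toRingHom.toAlgebra
    haveI : IsScalarTower A E B := IsScalarTower.of_algebraMap_eq (fun a => (β.commutes a).symm)
    letI algEP : Algebra E P := ((algebraMap B P).comp (algebraMap E B)).toAlgebra
    haveI : IsScalarTower E B P := IsScalarTower.of_algebraMap_eq (fun _ => rfl)
    haveI : Pres.HasCoeffs E := ⟨hcoef⟩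
    let P₀ := Pres.ModelOfHasCoeffs E
    haveI : Algebra.FinitePresentation A P₀ := Algebra.FinitePresentation.trans A E P₀
    let eq : TensorProduct E B P₀ ≃ₐ[B] P := Pres.tensorModelOfHasCoeffsEquiv E
    let ι : P₀ →+* P := (eq : TensorProduct E B P₀ →+* P).comp
      (Algebra.TensorProduct.includeRight : P₀ →ₐ[E] TensorProduct E B P₀).toRingHom
    have hι : ∀ e : E, ι (algebraMap E P₀ e) = algebraMap B P (β e) := by
      intro e
      have h1 : ((1 : B) ⊗ₜ[E] (algebraMap E P₀ e) : TensorProduct E B P₀) =
          (β e) • (1 : TensorProduct E B P₀) := by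
        rw [Algebra.TensorProduct.one_def, TensorProduct.smul_tmul', smul_eq_mul, mul_one,
          Algebra.algebraMap_eq_smul_one (A := P₀), ← TensorProduct.smul_tmul, Algebra.smul_def,
          mul_one]
        rfl
      show eq ((1 : B) ⊗ₜ[E] (algebraMap E P₀ e)) = _
      rw [h1, map_smul, map_one, Algebra.smul_def, mul_one]
    letI algEC : Algebra E C := ((algebraMap B C).comp (algebraMap E B)).toAlgebra
    haveI : IsScalarTower E B C := IsScalarTower.of_algebraMap_eq (fun _ => rfl)
    let ψ : P₀ →ₐ[A] C :=
      { φ.toRingHom.comp ι with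
        commutes' := fun a => by
          show φ (ι (algebraMap A P₀ a)) = _
          rw [IsScalarTower.algebraMap_apply A E P₀, hι, AlgHom.commutes,
            IsScalarTower.algebraMap_apply A B C]
          congr 1
          exact β.commutes a }
    obtain ⟨F, _, _, hF, α₀, γ, hγ⟩ := HC P₀ ψ
    letI algEF : Algebra E F := (α₀.toRingHom.comp (algebraMap E P₀)).toAlgebra
    haveI : IsScalarTower A E F := IsScalarTower.of_algebraMap_eq (fun a => by
      show algebraMap A F a = α₀ (algebraMap E P₀ (algebraMap A E a))
      rw [← IsScalarTower.algebraMap_apply A E P₀, AlgHom.commutes])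
    haveI : Algebra.Etale E F := Algebra.Etale.of_restrictScalars A E F
    let γE : F →ₐ[E] C :=
      { γ.toRingHom with
        commutes' := fun e => by
          show γ (α₀ (algebraMap E P₀ e)) = algebraMap B C (β e)
          have h1 : γ (α₀ (algebraMap E P₀ e)) = ψ (algebraMap E P₀ e) :=
            DFunLike.congr_fun hγ _
          rw [h1]
          show φ (ι (algebraMap E P₀ e)) = _
          rw [hι, AlgHom.commutes] }
    let α₀E : P₀ →ₐ[E] F := { α₀.toRingHom with commutes' := fun e => rfl }
    let β' : TensorProduct E B F →ₐ[B] C :=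
      Algebra.TensorProduct.lift (Algebra.ofId B C) γE (fun _ _ => Commute.all _ _)
    let M : TensorProduct E B P₀ →ₐ[B] TensorProduct E B F :=
      Algebra.TensorProduct.map (AlgHom.id B B) α₀E
    refine ⟨TensorProduct E B F, inferInstance, inferInstance, inferInstance,
      M.comp (eq.symm : P →ₐ[B] TensorProduct E B P₀), β', ?_⟩
    have key : β'.comp M = φ.comp (eq : TensorProduct E B P₀ →ₐ[B] P) := by
      apply Algebra.TensorProduct.ext'
      intro b p
      show β' (M (b ⊗ₜ[E] p)) = φ (eq (b ⊗ₜ[E] p))
      have h1 : M (b ⊗ₜ[E] p) = b ⊗ₜ[E] α₀ p := rfl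
      have h2 : β' (b ⊗ₜ[E] α₀ p) = algebraMap B C b * γ (α₀ p) := rfl
      have h3 : γ (α₀ p) = φ (ι p) := DFunLike.congr_fun hγ p
      have h4 : b ⊗ₜ[E] p = b • ((1 : B) ⊗ₜ[E] p) := by
        rw [TensorProduct.smul_tmul', smul_eq_mul, mul_one]
      rw [h1, h2, h3, h4, map_smul, map_smul, Algebra.smul_def]
      rfl
    ext x
    show β' (M (eq.symm x)) = φ x
    have := DFunLike.congr_fun key (eq.symm x)
    rw [AlgHom.comp_apply, AlgHom.comp_apply] at this
    rw [this]
    show φ (eq (eq.symm x)) = φ x
    rw [AlgEquiv.apply_symm_apply]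

end Groth.Agent.S0735
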