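import Mathlib
import Groth.Agent.H11.IndEtaleTrans
import Groth.Agent.S0733
import Groth.Agent.S0735
import Groth.Statements.S0734

set_option autoImplicit false
open CategoryTheory CategoryTheory.Limits AlgebraicGeometry Opposite Topology
universe u
open ProEtW

namespace Groth.Agent.S0734

/-- A composite of two ind-etale ring maps is ind-etale. -/
theorem result (A B C : Type u) [CommRing A] [CommRing B] [CommRing C] [Algebra A B]
    [Algebra B C] [Algebra A C] [IsScalarTower A B C] (hAB : EtPBC.IsIndEtale A B)
    (hBC : EtPBC.IsIndEtale B C) : EtPBC.IsIndEtale A C := by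

    have HAB := Groth.Agent.H11.IndEt.factor_of_isIndEtale hAB
    have HBC := Groth.Agent.H11.IndEt.factor_of_isIndEtale hBC
    apply Groth.Agent.H11.IndEt.isIndEtale_of_factor
    intro P _ _ _ φ
    let ψ : TensorProduct A B P →ₐ[B] C :=
      Algebra.TensorProduct.lift (Algebra.ofId B C) φ (fun _ _ => Commute.all _ _)
    obtain ⟨F, _, _, hF, α, β, hαβ⟩ := HBC (TensorProduct A B P) ψ
    letI algAF : Algebra A F := ((algebraMap B F).comp (algebraMap A B)).toAlgebra
    haveI : IsScalarTower A B F := IsScalarTower.of_algebraMap_eq (fun _ => rfl)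
    -- descent of `F`
    obtain ⟨E, _, _, hE, algEB, hT, G₀, _, _, hG₀, ⟨e⟩⟩ :=
      Groth.Agent.H11.IndEt.exists_etale_descent HAB F
    have hEB : EtPBC.IsIndEtale E B := Groth.Agent.S0735.result A E B
      (Groth.Agent.H11.IndEt.isIndEtale_of_factor (Groth.Agent.H11.IndEt.factor_of_etale A E)) hAB
    have hG : EtPBC.IsIndEtale G₀ (TensorProduct E G₀ B) := Groth.Agent.S0733.result E B G₀ hEB
    letI algAG : Algebra A G₀ := ((algebraMap E G₀).comp (algebraMap A E)).toAlgebra
    haveI : IsScalarTower A E G₀ := IsScalarTower.of_algebraMap_eq (fun _ => rfl)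
    haveI : Algebra.Etale A G₀ := Algebra.Etale.comp A E G₀
    have HG : Groth.Agent.H11.IndEt.Factor A (TensorProduct E G₀ B) :=
      (Groth.Agent.H11.IndEt.factor_of_isIndEtale hG).of_etale
    -- transport to `F`
    let ρ : (TensorProduct E G₀ B) ≃+* F :=
      ((Algebra.TensorProduct.comm E G₀ B).toRingEquiv).trans e.symm.toRingEquiv
    have hρ : ∀ a : A, ρ (algebraMap A (TensorProduct E G₀ B) a) = algebraMap A F a := by
      intro a
      show e.symm ((Algebra.TensorProduct.comm E G₀ B)
        (TensorProduct.tmul E (algebraMap E G₀ (algebraMap A E a)) (1 : B))) = algebraMap B F (algebraMap A B a)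
      rw [Algebra.TensorProduct.comm_tmul]
      have h1 : (TensorProduct.tmul E (1 : B) (algebraMap E G₀ (algebraMap A E a)) : TensorProduct E B G₀) =
          algebraMap B (TensorProduct E B G₀) (algebraMap A B a) := by
        rw [Algebra.TensorProduct.algebraMap_apply, Algebra.algebraMap_eq_smul_one (A := G₀),
          ← TensorProduct.smul_tmul, Algebra.smul_def, mul_one, ← IsScalarTower.algebraMap_apply]
        rfl
      rw [h1, AlgEquiv.commutes]
    let ρA : (TensorProduct E G₀ B) ≃ₐ[A] F := AlgEquiv.ofRingEquiv (f := ρ) hρ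
    obtain ⟨H', _, _, hH', α', β', h'⟩ := HG P
      ((ρA.symm : F →ₐ[A] TensorProduct E G₀ B).comp
        ((α.restrictScalars A).comp Algebra.TensorProduct.includeRight))
    refine ⟨H', inferInstance, inferInstance, hH', α',
      (β.restrictScalars A).comp ((ρA : TensorProduct E G₀ B →ₐ[A] F).comp β'), ?_⟩
    ext p
    show β (ρA (β' (α' p))) = φ p
    have h2 : β' (α' p) = ρA.symm (α (TensorProduct.tmul A (1 : B) p)) := DFunLike.congr_fun h' p
    rw [h2, AlgEquiv.apply_symm_apply]
    have h3 := DFunLike.congr_fun hαβ (TensorProduct.tmul A (1 : B) p)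
    rw [AlgHom.comp_apply] at h3
    rw [h3]
    show (Algebra.TensorProduct.lift (Algebra.ofId B C) φ (fun _ _ => Commute.all _ _))
      (TensorProduct.tmul A (1 : B) p) = φ p
    rw [Algebra.TensorProduct.lift_tmul, map_one, one_mul]

end Groth.Agent.S0734
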