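import Groth.Statements.S0738
import Groth.Agent.H15.WLocal

set_option autoImplicit false
open Topology
universe u
open ProEtW

namespace Groth.Agent.S0738

/-- A closed subset of a w-local spectral space is w-local (with the subspace topology). -/
theorem result (X : Type u) [TopologicalSpace X] (hX : ProEtW.IsWLocal X)
    (Y : Set X) (hY : IsClosed Y) : ProEtW.IsWLocal ↥Y := by
  exact Groth.Agent.H15.WLocal.wlocal_closed X hX Y hY

end Groth.Agent.S0738
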