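import Mathlib
import Groth.Agent.H11.WeaklyEtaleSch
import Groth.Agent.S12237
import Groth.Agent.S0736
import Groth.Statements.S0754

set_option autoImplicit false
open CategoryTheory CategoryTheory.Limits AlgebraicGeometry Opposite
universe u
open ProEtS

namespace Groth.Agent.S0754

/-- For a point x of a scheme X and a strict henselization R of the local ring of X at x, the canonical
morphism Spec R -> X is weakly etale, so that Spec R is an object of the small pro-etale site of X. -/
theorem result (X : Scheme.{u}) (x : ↥X) (R : Type u) [CommRing R]
    [IsLocalRing R] [Algebra (X.presheaf.stalk x) R] [IsLocalHom (algebraMap (X.presheaf.stalk x) R)]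
    [Hensel.IsStrictHenselization (X.presheaf.stalk x) R] :
    WeaklyEtale (Hens2.specOf X x R) := by

    have hind : EtPBC.IsIndEtale (X.presheaf.stalk x) R := Groth.Agent.S12237.result _ R
    haveI : Algebra.WeaklyEtale (X.presheaf.stalk x) R := Groth.Agent.S0736.result _ R hind
    haveI := Groth.Agent.H11.WESch.weaklyEtale_specMap (X.presheaf.stalk x) R
    haveI := Groth.Agent.H11.WESch.weaklyEtale_fromSpecStalk X x
    show WeaklyEtale (Spec.map (CommRingCat.ofHom (algebraMap (X.presheaf.stalk x) R)) ≫
      X.fromSpecStalk x)
    infer_instance

end Groth.Agent.S0754
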