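import Mathlib
import Groth.Statements.S0781
import Groth.Agent.S0076
-- import your own Groth.Agent.* helpers here

set_option autoImplicit false
open CategoryTheory CategoryTheory.Limits AlgebraicGeometry Opposite
universe u
open Desc

namespace Groth.Agent.S0781

open Groth.Agent.S0076


/-- If p : X → S is a surjective morphism of schemes, then for schemes U₁, U₂ étale over S, two
S-morphisms U₁ → U₂ whose base changes to X agree, as morphisms of canonical descent data relative
to p, are equal; that is, the canonical-descent-datum functor is faithful on schemes étale over S.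
(Descent data are taken in functor-of-points form, equivalent by the Yoneda lemma to an isomorphism
over X ×_S X satisfying the cocycle condition.) -/
theorem result {X S : Scheme.{u}} (p : X ⟶ S) [Surjective p] (U₁ U₂ : Over S)
    [Etale U₁.hom] [Etale U₂.hom] : Function.Injective ((Desc.toDD p).map : (U₁ ⟶ U₂) → _) := by
  intro f g hfg
  have h1 : ((toDD p).map f).hom.left ≫ pullback.snd p U₂.hom =
      ((toDD p).map g).hom.left ≫ pullback.snd p U₂.hom := by rw [hfg]
  have m1 : ((toDD p).map f).hom.left ≫ pullback.snd p U₂.hom =
      pullback.snd p U₁.hom ≫ f.left := pullback.lift_snd _ _ _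
  have m2 : ((toDD p).map g).hom.left ≫ pullback.snd p U₂.hom =
      pullback.snd p U₁.hom ≫ g.left := pullback.lift_snd _ _ _
  haveI : Surjective (pullback.snd p U₁.hom) := MorphismProperty.pullback_snd _ _ inferInstance
  haveI : IsOpenImmersion (pullback.diagonal U₂.hom) := inferInstance
  apply Over.OverMorphism.ext
  exact eq_of_surj_precomp U₂.hom (pullback.snd p U₁.hom) f.left g.left
    (by rw [Over.w f, Over.w g]) (m1.symm.trans (h1.trans m2))

end Groth.Agent.S0781
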