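import Mathlib
import Groth.Statements.S0782
import Groth.Agent.S0076
-- import your own Groth.Agent.* helpers here

set_option autoImplicit false
open CategoryTheory CategoryTheory.Limits AlgebraicGeometry Opposite
universe u
open Desc

namespace Groth.Agent.S0782

open Groth.Agent.S5128 Groth.Agent.Helper9.QuotGeom Groth.Agent.S0076

theorem desc_core' {S S' X Y : Scheme.{u}} (g : S' ⟶ S)
    (p : X ⟶ S) (q : Y ⟶ S) [Etale q]
    (hsurj : Function.Surjective (pullback.fst p g))
    (hquot : ∀ (W' : Scheme.{u}) (u : W' ⟶ pullback p q) (v : W' ⟶ S'),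
      IsPullback u v (pullback.fst p q ≫ p) g → Topology.IsQuotientMap u)
    (ψ : pullback p g ⟶ pullback q g) (hψ : ψ ≫ pullback.snd q g = pullback.snd p g)
    (hcoc : ∀ {T : Scheme.{u}} (c₁ c₂ : T ⟶ pullback p g),
      c₁ ≫ pullback.fst p g = c₂ ≫ pullback.fst p g →
      c₁ ≫ ψ ≫ pullback.fst q g = c₂ ≫ ψ ≫ pullback.fst q g) :
    ∃ φ : X ⟶ Y, φ ≫ q = p ∧ pullback.fst p g ≫ φ = ψ ≫ pullback.fst q g := by
  haveI : Surjective (pullback.fst p g) := ⟨hsurj⟩
  haveI : Etale (pullback.snd q g) := MorphismProperty.pullback_snd _ _ inferInstance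
  haveI : Etale (pullback.fst p q) := MorphismProperty.pullback_fst _ _ inferInstance
  have hu : (pullback.fst (pullback.snd p g) (pullback.snd q g) ≫ pullback.fst p g) ≫ p =
      (pullback.snd (pullback.snd p g) (pullback.snd q g) ≫ pullback.fst q g) ≫ q := by
    rw [Category.assoc, Category.assoc, pullback.condition, pullback.condition (f := q),
      ← Category.assoc, ← Category.assoc, pullback.condition]
  obtain ⟨u, hu1, hu2⟩ : ∃ u : pullback (pullback.snd p g) (pullback.snd q g) ⟶ pullback p q,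
      u ≫ pullback.fst p q =
        pullback.fst (pullback.snd p g) (pullback.snd q g) ≫ pullback.fst p g ∧
      u ≫ pullback.snd p q =
        pullback.snd (pullback.snd p g) (pullback.snd q g) ≫ pullback.fst q g :=
    ⟨pullback.lift _ _ hu, pullback.lift_fst _ _ _, pullback.lift_snd _ _ _⟩
  have hsq : IsPullback u (pullback.fst (pullback.snd p g) (pullback.snd q g))
      (pullback.fst p q) (pullback.fst p g) := by
    have s1 : IsPullback (pullback.snd (pullback.snd p g) (pullback.snd q g))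
        (pullback.fst (pullback.snd p g) (pullback.snd q g)) (pullback.snd q g)
        (pullback.snd p g) := (IsPullback.of_hasPullback _ _).flip
    have s2 : IsPullback (pullback.fst q g) (pullback.snd q g) q g :=
      IsPullback.of_hasPullback _ _
    have s3 := s1.paste_horiz s2
    have s4 : IsPullback (u ≫ pullback.snd p q)
        (pullback.fst (pullback.snd p g) (pullback.snd q g)) q (pullback.fst p g ≫ p) := by
      rw [hu2, pullback.condition]; exact s3
    exact IsPullback.of_right s4 hu1 (IsPullback.of_hasPullback p q).flip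
  have huq : Topology.IsQuotientMap u :=
    hquot _ _ _ (hsq.paste_vert (IsPullback.of_hasPullback p g))
  obtain ⟨γ, hγ1, hγ2⟩ : ∃ γ : pullback p g ⟶ pullback (pullback.snd p g) (pullback.snd q g),
      γ ≫ pullback.fst (pullback.snd p g) (pullback.snd q g) = 𝟙 _ ∧
      γ ≫ pullback.snd (pullback.snd p g) (pullback.snd q g) = ψ :=
    ⟨pullback.lift (𝟙 _) ψ (by rw [Category.id_comp, hψ]), pullback.lift_fst _ _ _,
      pullback.lift_snd _ _ _⟩
  haveI : IsOpenImmersion γ := graph_isOpenImmersion _ _ γ hγ1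
  have hγu1 : γ ≫ u ≫ pullback.fst p q = pullback.fst p g := by
    rw [hu1, ← Category.assoc, hγ1, Category.id_comp]
  have hγu2 : γ ≫ u ≫ pullback.snd p q = ψ ≫ pullback.fst q g := by
    rw [hu2, ← Category.assoc, hγ2]
  have hsat : u ⁻¹' (u '' Set.range γ) = Set.range γ := by
    apply Set.Subset.antisymm _ (Set.subset_preimage_image _ _)
    rintro w ⟨_, ⟨x', rfl⟩, hx'⟩
    obtain ⟨z, hz1, hz2⟩ := Scheme.Pullback.exists_preimage_pullback (f := u) (g := u) w (γ x')
      hx'.symm
    have hzT : z ∈ pullback.snd u u ⁻¹ᵁ γ.opensRange := ⟨x', hz2.symm⟩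
    have hr2 : Set.range ((pullback.snd u u ⁻¹ᵁ γ.opensRange).ι ≫ pullback.snd u u) ⊆
        Set.range γ := by
      rintro _ ⟨t, rfl⟩
      have ht : ((pullback.snd u u ⁻¹ᵁ γ.opensRange).ι t) ∈
          pullback.snd u u ⁻¹ᵁ γ.opensRange := t.2
      rw [Scheme.Hom.comp_apply]
      exact ht
    obtain ⟨c, hc⟩ : ∃ c, c ≫ γ = (pullback.snd u u ⁻¹ᵁ γ.opensRange).ι ≫ pullback.snd u u :=
      ⟨IsOpenImmersion.lift γ _ hr2, IsOpenImmersion.lift_fac _ _ _⟩
    have hcc : c = ((pullback.snd u u ⁻¹ᵁ γ.opensRange).ι ≫ pullback.snd u u) ≫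
        pullback.fst (pullback.snd p g) (pullback.snd q g) := by
      rw [← hc, Category.assoc, hγ1, Category.comp_id]
    obtain ⟨a₁, ha₁⟩ : ∃ a₁, a₁ = (pullback.snd u u ⁻¹ᵁ γ.opensRange).ι ≫ pullback.fst u u := ⟨_, rfl⟩
    have hau : a₁ ≫ u = (c ≫ γ) ≫ u := by
      rw [ha₁, hc, Category.assoc, Category.assoc, pullback.condition]
    have hpr : (a₁ ≫ pullback.fst (pullback.snd p g) (pullback.snd q g)) ≫ pullback.fst p g =
        c ≫ pullback.fst p g := by
      rw [Category.assoc, ← hu1, ← Category.assoc, hau, Category.assoc, Category.assoc, hγu1]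
    have hY : a₁ ≫ pullback.snd (pullback.snd p g) (pullback.snd q g) ≫ pullback.fst q g =
        c ≫ ψ ≫ pullback.fst q g := by
      rw [← hu2, ← Category.assoc, hau, Category.assoc, Category.assoc, hγu2]
    have key : a₁ = (a₁ ≫ pullback.fst (pullback.snd p g) (pullback.snd q g)) ≫ γ := by
      apply pullback.hom_ext
      · rw [Category.assoc, hγ1, Category.comp_id]
      · rw [Category.assoc, hγ2]
        apply pullback.hom_ext
        · rw [Category.assoc, hY, Category.assoc]
          exact (hcoc _ _ hpr).symm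
        · rw [Category.assoc, Category.assoc, hψ, ← pullback.condition, Category.assoc]
    have h0 : a₁ ⟨z, hzT⟩ =
        ((a₁ ≫ pullback.fst (pullback.snd p g) (pullback.snd q g)) ≫ γ) ⟨z, hzT⟩ := by
      rw [← key]
    rw [Scheme.Hom.comp_apply] at h0
    have hw : a₁ ⟨z, hzT⟩ = w := by
      rw [ha₁, Scheme.Hom.comp_apply]
      exact hz1
    rw [hw] at h0
    exact ⟨_, h0.symm⟩
  have hopen : IsOpen (u '' Set.range γ) := by
    rw [← huq.isOpen_preimage, hsat]
    exact γ.isOpenEmbedding.isOpen_range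
  obtain ⟨Γ, hΓ⟩ : ∃ Γ : (pullback p q).Opens, (Γ : Set ↥(pullback p q)) = u '' Set.range γ :=
    ⟨⟨u '' Set.range γ, hopen⟩, rfl⟩
  have hrγ : Set.range (γ ≫ u) ⊆ Set.range Γ.ι := by
    rw [Scheme.Opens.range_ι, hΓ]
    rintro _ ⟨y', rfl⟩
    exact ⟨γ y', ⟨y', rfl⟩, (Scheme.Hom.comp_apply _ _ _).symm⟩
  obtain ⟨r, hr⟩ : ∃ r, r ≫ Γ.ι = γ ≫ u :=
    ⟨IsOpenImmersion.lift Γ.ι _ hrγ, IsOpenImmersion.lift_fac _ _ _⟩
  obtain ⟨m, hm⟩ : ∃ m, m = Γ.ι ≫ pullback.fst p q := ⟨_, rfl⟩
  have hrm : r ≫ m = pullback.fst p g := by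
    rw [hm, ← Category.assoc, hr, Category.assoc, hγu1]
  haveI : Surjective r := ⟨by
    intro z
    have hz : Γ.ι z ∈ u '' Set.range γ := by rw [← hΓ]; exact z.2
    obtain ⟨_, ⟨y', rfl⟩, hy'⟩ := hz
    refine ⟨y', ?_⟩
    apply Γ.ι.injective
    have h0 : (r ≫ Γ.ι) y' = (γ ≫ u) y' := by rw [hr]
    rw [Scheme.Hom.comp_apply, Scheme.Hom.comp_apply] at h0
    rw [h0]
    exact hy'⟩
  haveI : Surjective m := ⟨by
    intro y
    obtain ⟨y', rfl⟩ := (pullback.fst p g).surjective y
    refine ⟨r y', ?_⟩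
    have h0 : (r ≫ m) y' = pullback.fst p g y' := by rw [hrm]
    rw [Scheme.Hom.comp_apply] at h0
    exact h0⟩
  haveI : UniversallyInjective m := by
    apply universallyInjective_of_points r m
    intro L _ b₁ b₂ hb
    rw [hrm] at hb
    rw [← cancel_mono Γ.ι, Category.assoc, Category.assoc, hr]
    apply pullback.hom_ext
    · rw [Category.assoc, Category.assoc, hγu1, Category.assoc, Category.assoc, hγu1]
      exact hb
    · rw [Category.assoc, Category.assoc, hγu2, Category.assoc, Category.assoc, hγu2]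
      exact hcoc _ _ hb
  haveI : Etale m := by rw [hm]; infer_instance
  haveI : IsIso m := isIso_of_etale_univInj_surj m
  refine ⟨inv m ≫ Γ.ι ≫ pullback.snd p q, ?_, ?_⟩
  · rw [Category.assoc, Category.assoc, ← pullback.condition, ← Category.assoc Γ.ι, ← hm,
      IsIso.inv_hom_id_assoc]
  · have h1 : pullback.fst p g ≫ inv m = r := by
      rw [← hrm, Category.assoc, IsIso.hom_inv_id, Category.comp_id]
    rw [← Category.assoc, h1, ← Category.assoc, hr, Category.assoc, hγu2]




/-- Let p : X ⟶ S be a morphism such that for every scheme U étale over S the projection X ×_S U ⟶ U is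
a quotient map of topological spaces (submersive; U = S is allowed). Then for U₁, U₂ étale over S,
every morphism between their canonical descent data relative to p comes from an S-morphism U₁ ⟶ U₂:
the canonical-descent-datum functor is full on schemes étale over S (injectivity of this assignment
is a companion statement). (Descent data are taken in functor-of-points form, equivalent by the
Yoneda lemma to the usual form of an isomorphism over X ×_S X satisfying the cocycle condition.) -/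
theorem result {X S : Scheme.{u}} (p : X ⟶ S)
    (hp : ∀ U : Over S, Etale U.hom → Topology.IsQuotientMap (pullback.snd p U.hom).base) (U₁ U₂ : Over S)
    [Etale U₁.hom] [Etale U₂.hom] : Function.Surjective ((Desc.toDD p).map : (U₁ ⟶ U₂) → _) := by
  intro a
  obtain ⟨α, hα⟩ : ∃ α : pullback p U₁.hom ⟶ pullback p U₂.hom, α = a.hom.left := ⟨a.hom.left, rfl⟩
  have hαf : α ≫ pullback.fst p U₂.hom = pullback.fst p U₁.hom := by
    rw [hα]; exact Over.w a.hom
  obtain ⟨ψ, hψdef⟩ : ∃ ψ : pullback U₁.hom p ⟶ pullback U₂.hom p,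
      ψ = (pullbackSymmetry U₁.hom p).hom ≫ α ≫ (pullbackSymmetry p U₂.hom).hom :=
    ⟨_, rfl⟩
  have hψ1 : ψ ≫ pullback.fst U₂.hom p =
      (pullbackSymmetry U₁.hom p).hom ≫ α ≫ pullback.snd p U₂.hom := by
    rw [hψdef, Category.assoc, Category.assoc, pullbackSymmetry_hom_comp_fst]
  have hψ2 : ψ ≫ pullback.snd U₂.hom p = pullback.snd U₁.hom p := by
    rw [hψdef, Category.assoc, Category.assoc, pullbackSymmetry_hom_comp_snd, hαf,
      pullbackSymmetry_hom_comp_fst]
  have hcoc : ∀ {T : Scheme.{u}} (c₁ c₂ : T ⟶ pullback U₁.hom p),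
      c₁ ≫ pullback.fst U₁.hom p = c₂ ≫ pullback.fst U₁.hom p →
      c₁ ≫ ψ ≫ pullback.fst U₂.hom p = c₂ ≫ ψ ≫ pullback.fst U₂.hom p := by
    intro T c₁ c₂ hc
    rw [hψ1]
    have hx : (c₁ ≫ pullback.snd U₁.hom p) ≫ p = (c₂ ≫ pullback.snd U₁.hom p) ≫ p := by
      rw [Category.assoc, Category.assoc, ← pullback.condition, ← Category.assoc, hc,
        Category.assoc]
    have hv : (c₁ ≫ (pullbackSymmetry U₁.hom p).hom) ≫ pullback.fst p U₁.hom =
        c₁ ≫ pullback.snd U₁.hom p := by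
      rw [Category.assoc, pullbackSymmetry_hom_comp_fst]
    have hw2 : ((c₁ ≫ (pullbackSymmetry U₁.hom p).hom) ≫ α) ≫ pullback.fst p U₂.hom =
        c₁ ≫ pullback.snd U₁.hom p := by
      rw [Category.assoc, hαf, hv]
    have e1 : ((canMap p U₂ (c₁ ≫ pullback.snd U₁.hom p) (c₂ ≫ pullback.snd U₁.hom p) hx
        ⟨(c₁ ≫ (pullbackSymmetry U₁.hom p).hom) ≫ α, hw2⟩).1) ≫ pullback.snd p U₂.hom =
        ((c₁ ≫ (pullbackSymmetry U₁.hom p).hom) ≫ α) ≫ pullback.snd p U₂.hom :=
      pullback.lift_snd _ _ _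
    have e2 : (canMap p U₁ (c₁ ≫ pullback.snd U₁.hom p) (c₂ ≫ pullback.snd U₁.hom p) hx
        ⟨c₁ ≫ (pullbackSymmetry U₁.hom p).hom, hv⟩).1 =
        c₂ ≫ (pullbackSymmetry U₁.hom p).hom := by
      apply pullback.hom_ext
      · rw [canMap_val, pullback.lift_fst, Category.assoc, pullbackSymmetry_hom_comp_fst]
      · rw [canMap_val, pullback.lift_snd, Category.assoc, Category.assoc,
          pullbackSymmetry_hom_comp_snd, hc]
    have e3 : (canMap p U₂ (c₁ ≫ pullback.snd U₁.hom p) (c₂ ≫ pullback.snd U₁.hom p) hx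
        ⟨(c₁ ≫ (pullbackSymmetry U₁.hom p).hom) ≫ α, hw2⟩).1 =
        (canMap p U₁ (c₁ ≫ pullback.snd U₁.hom p) (c₂ ≫ pullback.snd U₁.hom p) hx
        ⟨c₁ ≫ (pullbackSymmetry U₁.hom p).hom, hv⟩).1 ≫ α := by
      subst hα
      exact a.comm (c₁ ≫ pullback.snd U₁.hom p) (c₂ ≫ pullback.snd U₁.hom p) hx
        ⟨c₁ ≫ (pullbackSymmetry U₁.hom p).hom, hv⟩
        ⟨(c₁ ≫ (pullbackSymmetry U₁.hom p).hom) ≫ a.hom.left, hw2⟩ rfl
    have key := e1
    rw [e3, e2] at key
    simp only [Category.assoc] at key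
    exact key.symm
  have hsurj : Function.Surjective (pullback.fst U₁.hom p) := by
    have hq := (hp U₁ inferInstance).surjective
    intro y
    obtain ⟨z, hz⟩ := hq y
    refine ⟨(pullbackSymmetry p U₁.hom).hom z, ?_⟩
    rw [← Scheme.Hom.comp_apply, pullbackSymmetry_hom_comp_fst]
    exact hz
  have hquot : ∀ (W' : Scheme.{u}) (u : W' ⟶ pullback U₁.hom U₂.hom) (v : W' ⟶ X),
      IsPullback u v (pullback.fst U₁.hom U₂.hom ≫ U₁.hom) p → Topology.IsQuotientMap u := by
    intro W' u v hpb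
    haveI : Etale (pullback.fst U₁.hom U₂.hom) := MorphismProperty.pullback_fst _ _ inferInstance
    have hq := hp (Over.mk (pullback.fst U₁.hom U₂.hom ≫ U₁.hom))
      (by show Etale (pullback.fst U₁.hom U₂.hom ≫ U₁.hom); infer_instance)
    have he : u = hpb.flip.isoPullback.hom ≫
        pullback.snd p (pullback.fst U₁.hom U₂.hom ≫ U₁.hom) :=
      (hpb.flip.isoPullback_hom_snd).symm
    rw [he]
    exact hq.comp hpb.flip.isoPullback.hom.homeomorph.isQuotientMap
  obtain ⟨φ, hφ1, hφ2⟩ := desc_core' p U₁.hom U₂.hom hsurj hquot ψ hψ2 hcoc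
  subst hα
  refine ⟨Over.homMk φ hφ1, ?_⟩
  apply SchDD.hom_ext
  apply Over.OverMorphism.ext
  have hss : (pullbackSymmetry p U₁.hom).hom ≫ (pullbackSymmetry U₁.hom p).hom = 𝟙 _ := by
    apply pullback.hom_ext
    · rw [Category.assoc, pullbackSymmetry_hom_comp_fst, pullbackSymmetry_hom_comp_snd,
        Category.id_comp]
    · rw [Category.assoc, pullbackSymmetry_hom_comp_snd, pullbackSymmetry_hom_comp_fst,
        Category.id_comp]
  apply pullback.hom_ext
  · have m1 : ((toDD p).map (Over.homMk φ hφ1 : U₁ ⟶ U₂)).hom.left ≫ pullback.fst p U₂.hom =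
        pullback.fst p U₁.hom ≫ 𝟙 X := pullback.lift_fst _ _ _
    exact m1.trans ((Category.comp_id _).trans hαf.symm)
  · have m2 : ((toDD p).map (Over.homMk φ hφ1 : U₁ ⟶ U₂)).hom.left ≫ pullback.snd p U₂.hom =
        pullback.snd p U₁.hom ≫ φ := pullback.lift_snd _ _ _
    refine m2.trans ?_
    have h3 : (pullbackSymmetry p U₁.hom).hom ≫ (pullback.fst U₁.hom p ≫ φ) =
        (pullbackSymmetry p U₁.hom).hom ≫ (ψ ≫ pullback.fst U₂.hom p) := by rw [hφ2]
    rw [hψ1, ← Category.assoc, pullbackSymmetry_hom_comp_fst, ← Category.assoc, hss,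
      Category.id_comp] at h3
    exact h3

end Groth.Agent.S0782
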