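import Mathlib
import Groth.Agent.H11.SplitFiniteSch
import Groth.Statements.S0784

set_option autoImplicit false
open CategoryTheory CategoryTheory.Limits AlgebraicGeometry Opposite
universe u
open Desc

namespace Groth.Agent.S0784

/-- Let (A, I) be a henselian pair and g : U ⟶ Spec A quasi-compact, separated and etale such that the
base change of U to Spec(A/I) is finite over Spec(A/I). Then U is the disjoint union of an open and
closed subscheme finite over Spec A and an open and closed subscheme with no points lying over V(I). -/
theorem result (A : Type u) [CommRing A] (I : Ideal A) [HenselianRing A I]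
    {U : Scheme.{u}} (g : U ⟶ Spec (CommRingCat.of A)) [QuasiCompact g] [IsSeparated g] [Etale g]
    (hfin : IsFinite (pullback.snd g (Spec.map (CommRingCat.ofHom (Ideal.Quotient.mk I))))) :
    ∃ W : U.Opens, IsClosed (W : Set U) ∧ IsFinite (W.ι ≫ g) ∧
      ∀ u : U, u ∉ W → ¬ I ≤ (g.base u : PrimeSpectrum A).asIdeal := by

  classical
  haveI : LocallyQuasiFinite g := Groth.Agent.H11.SplitSch.locallyQuasiFinite_of_etale g
  haveI : IsAffine g.normalization := isAffine_of_isAffineHom g.fromNormalization
  let C : CommRingCat.{u} := Γ(g.normalization, ⊤)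
  let iso := g.normalization.isoSpec
  let j : U ⟶ Spec C := g.toNormalization ≫ iso.hom
  let φ : CommRingCat.of A ⟶ C := Spec.preimage (iso.inv ≫ g.fromNormalization)
  have hφmap : Spec.map φ = iso.inv ≫ g.fromNormalization := Spec.map_preimage _
  have hg : j ≫ Spec.map φ = g := by
    rw [hφmap]
    simp only [j, Category.assoc, Iso.hom_inv_id_assoc]
    exact g.toNormalization_fromNormalization
  have hφ : φ.hom.IsIntegral := by
    rw [← IsIntegralHom.SpecMap_iff, hφmap]
    infer_instance
  haveI : IsOpenImmersion j := inferInstance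
  haveI : LocallyOfFiniteType (j ≫ Spec.map φ) := by rw [hg]; infer_instance
  have hfin' : IsFinite (pullback.snd (j ≫ Spec.map φ)
      (Spec.map (CommRingCat.ofHom (Ideal.Quotient.mk I)))) := by
    rw [hg]; exact hfin
  obtain ⟨W, hW1, hW2, hW3⟩ :=
    Groth.Agent.H11.SplitSch.split_of_openImmersion A I C φ hφ j hfin'
  rw [hg] at hW2 hW3
  exact ⟨W, hW1, hW2, hW3⟩

end Groth.Agent.S0784
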