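import Groth.Statements.S0785
import Mathlib
import Groth.Agent.H29.DepthFlat
import Groth.Agent.H29.DepthLib

set_option autoImplicit false
universe u
open Desc

namespace Groth.Agent.S0785

/-- Let A → B be a local homomorphism of Noetherian local rings which is etale in the sense that B is
the localization at a prime of an etale A-algebra. Then A and B have the same depth. -/
theorem result (A B : Type u) [CommRing A] [CommRing B] [IsLocalRing A] [IsLocalRing B]
    [IsNoetherianRing A] [IsNoetherianRing B] [Algebra A B] [IsLocalHom (algebraMap A B)]
    (E : Type u) [CommRing E] [Algebra A E] [Algebra.Etale A E] (P : Ideal E) [P.IsPrime]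
    [Algebra E B] [IsScalarTower A E B] [IsLocalization.AtPrime B P] :
    LocCoh.depth A A = LocCoh.depth B B := by
  open Groth.Agent.H29 IsLocalRing in
  haveI : Algebra.FormallyUnramified E B := Algebra.FormallyUnramified.of_isLocalization P.primeCompl
  haveI : Algebra.FormallyUnramified A B := Algebra.FormallyUnramified.comp A E B
  haveI : Algebra.EssFiniteType E B := Algebra.EssFiniteType.of_isLocalization B P.primeCompl
  haveI : Algebra.EssFiniteType A B := Algebra.EssFiniteType.comp A E B
  haveI : Module.Flat E B := IsLocalization.flat B P.primeCompl
  haveI : Module.Flat A B := Module.Flat.trans A E B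
  haveI : Module.FaithfullyFlat A B := Module.FaithfullyFlat.of_flat_of_isLocalHom
  have h1 := idealDepth_tensor_eq A B (maximalIdeal A) A
  rw [Algebra.FormallyUnramified.map_maximalIdeal] at h1
  have h2 : LocCoh.idealDepth (maximalIdeal B) (TensorProduct A B A) =
      LocCoh.idealDepth (maximalIdeal B) B :=
    idealDepth_congr (maximalIdeal B) (TensorProduct.AlgebraTensorModule.rid A B B)
  show LocCoh.idealDepth (maximalIdeal A) A = LocCoh.idealDepth (maximalIdeal B) B
  rw [← h1, h2]

end Groth.Agent.S0785
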