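import Groth.Statements.S0787
import Mathlib
import Groth.Agent.Lib.Helper24.ProperOver

set_option autoImplicit false
universe u
open Coherent

namespace Groth.Agent.S0787

open CategoryTheory AlgebraicGeometry in
/-- Let f : X → S be locally of finite type and Z ⊆ X a closed subset. Then Z with its reduced induced
structure is proper over S if and only if some closed subscheme of X with underlying set Z is proper
over S, if and only if every closed subscheme of X with underlying set Z is proper over S. -/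
theorem result {X S : Scheme.{u}} (f : X ⟶ S) [LocallyOfFiniteType f]
    (Z : Set X) (hZ : IsClosed Z) :
    (ClSub.IsProperOver f Z ↔ ∃ (T : Scheme.{u}) (i : T ⟶ X), IsClosedImmersion i ∧
        Set.range ⇑i = Z ∧ IsProper (i ≫ f)) ∧
    (ClSub.IsProperOver f Z ↔ ∀ (T : Scheme.{u}) (i : T ⟶ X), IsClosedImmersion i →
        Set.range ⇑i = Z → IsProper (i ≫ f)) := by
  have key1 : (∃ (T : Scheme.{u}) (i : T ⟶ X), IsClosedImmersion i ∧ Set.range ⇑i = Z ∧
      IsProper (i ≫ f)) → ClSub.IsProperOver f Z := by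
    rintro ⟨T, i, hi, hr, hp⟩
    haveI := hi
    haveI := hp
    exact ⟨hZ, Groth.Agent.Helper24.ProperOver.proper_red_of_closedImm f i ⟨Z, hZ⟩ hr⟩
  have key2 : ClSub.IsProperOver f Z → ∀ (T : Scheme.{u}) (i : T ⟶ X), IsClosedImmersion i →
      Set.range ⇑i = Z → IsProper (i ≫ f) := by
    rintro ⟨hZ', hp⟩ T i hi hr
    haveI := hi
    haveI := hp
    exact Groth.Agent.Helper24.ProperOver.proper_closedImm_of_red f i ⟨Z, hZ'⟩ hr
  have hself : Set.range ⇑(Scheme.IdealSheafData.vanishingIdeal ⟨Z, hZ⟩).subschemeι = Z := by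
    rw [Scheme.IdealSheafData.range_subschemeι, Scheme.IdealSheafData.coe_support_vanishingIdeal]
    rfl
  refine ⟨⟨fun h => ?_, key1⟩, ⟨key2, fun h => ?_⟩⟩
  · obtain ⟨hZ', hp⟩ := h
    exact ⟨_, (Scheme.IdealSheafData.vanishingIdeal ⟨Z, hZ'⟩).subschemeι, inferInstance, hself, hp⟩
  · exact ⟨hZ, h _ _ inferInstance hself⟩

end Groth.Agent.S0787
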