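import Groth.Statements.S0790
import Mathlib
import Groth.Agent.Lib.Helper24.ProperOver

set_option autoImplicit false
universe u
open Coherent

namespace Groth.Agent.S0790

open CategoryTheory AlgebraicGeometry in
/-- Let X and Y be schemes locally of finite type over S and f : X → Y a proper morphism over S. If Z ⊆
Y is closed and proper over S, its preimage in X is again closed and proper over S. -/
theorem result {X Y S : Scheme.{u}} (p : X ⟶ S) (q : Y ⟶ S)
    [LocallyOfFiniteType p] [LocallyOfFiniteType q] (f : X ⟶ Y) [IsProper f] (w : f ≫ q = p)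
    (Z : Set Y) (hZ : ClSub.IsProperOver q Z) : ClSub.IsProperOver p (⇑f ⁻¹' Z) := by
  obtain ⟨hZc, hq⟩ := hZ
  haveI := hq
  set I := Scheme.IdealSheafData.vanishingIdeal (⟨Z, hZc⟩ : TopologicalSpace.Closeds Y) with hI
  have hcl : IsClosed (⇑f ⁻¹' Z) := hZc.preimage f.continuous
  have hr : Set.range ⇑(Limits.pullback.snd I.subschemeι f) =
      ((⟨⇑f ⁻¹' Z, hcl⟩ : TopologicalSpace.Closeds X) : Set X) := by
    rw [Scheme.Pullback.range_snd, I.range_subschemeι, hI,
      Scheme.IdealSheafData.coe_support_vanishingIdeal]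
    rfl
  haveI : IsProper (Limits.pullback.snd I.subschemeι f ≫ p) := by
    have h1 : Limits.pullback.snd I.subschemeι f ≫ p = Limits.pullback.fst I.subschemeι f ≫ (I.subschemeι ≫ q) := by
      rw [← w, ← Category.assoc, ← Limits.pullback.condition, Category.assoc]
    rw [h1]
    infer_instance
  exact ⟨hcl, Groth.Agent.Helper24.ProperOver.proper_red_of_closedImm p
    (Limits.pullback.snd I.subschemeι f) ⟨_, hcl⟩ hr⟩

end Groth.Agent.S0790
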