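import Groth.Statements.S0791
import Mathlib
import Groth.Agent.Lib.Helper24.ProperOver2

set_option autoImplicit false
universe u
open Coherent

namespace Groth.Agent.S0791

open CategoryTheory AlgebraicGeometry in
/-- Let f : X → S be locally of finite type. A finite union of closed subsets of X that are proper over
S is again proper over S. -/
theorem result {X S : Scheme.{u}} (f : X ⟶ S) [LocallyOfFiniteType f]
    (ι : Type) [Finite ι] (Z : ι → Set X) (hZ : ∀ i, ClSub.IsProperOver f (Z i)) :
    ClSub.IsProperOver f (Set.iUnion Z) := by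
  have key : ∀ (α : Type) [Finite α] (Z : α → Set X), (∀ i, ClSub.IsProperOver f (Z i)) →
      ClSub.IsProperOver f (Set.iUnion Z) := by
    intro α _
    refine Finite.induction_empty_option (P := fun α => ∀ (Z : α → Set X),
      (∀ i, ClSub.IsProperOver f (Z i)) → ClSub.IsProperOver f (Set.iUnion Z)) ?_ ?_ ?_ α
    · intro α β e hα Z hZ
      have h1 := hα (fun a => Z (e a)) (fun a => hZ (e a))
      have h2 : (Set.iUnion fun a => Z (e a)) = Set.iUnion Z := e.surjective.iUnion_comp Z
      rwa [h2] at h1
    · intro Z _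
      have hE : Set.iUnion Z = ∅ := Set.iUnion_of_empty Z
      have hcl : IsClosed (Set.iUnion Z) := by rw [hE]; exact isClosed_empty
      exact ⟨hcl, Groth.Agent.Helper24.ProperOver.proper_empty f ⟨_, hcl⟩ hE⟩
    · intro α _ hα Z hZ
      obtain ⟨hA, hpA⟩ := hZ none
      obtain ⟨hB, hpB⟩ := hα (fun a => Z (some a)) (fun a => hZ (some a))
      have hU : Set.iUnion Z = Z none ∪ ⋃ a, Z (some a) := Set.iUnion_option Z
      have hcl : IsClosed (Set.iUnion Z) := by rw [hU]; exact hA.union hB
      haveI := hpA
      haveI := hpB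
      exact ⟨hcl, Groth.Agent.Helper24.ProperOver.proper_union f ⟨_, hA⟩ ⟨_, hB⟩ ⟨_, hcl⟩ hU⟩
  exact key ι Z hZ

end Groth.Agent.S0791
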