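import Groth.Statements.S0793
import Mathlib
import Groth.Agent.Lib.Helper24.ProperOver

set_option autoImplicit false
universe u
open Coherent

namespace Groth.Agent.S0793

open CategoryTheory AlgebraicGeometry in
/-- Consider a cartesian square with X' = X ×_S S', projections g' : X' → X and f' : X' → S', where f :
X → S is locally of finite type. If Z ⊆ X is closed and proper over S, then its preimage under g' is
closed in X' and proper over S'. -/
theorem result {X S X' S' : Scheme.{u}} (f : X ⟶ S) [LocallyOfFiniteType f]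
    (g : S' ⟶ S) (g' : X' ⟶ X) (f' : X' ⟶ S') (sq : IsPullback g' f' f g)
    (Z : Set X) (hZ : ClSub.IsProperOver f Z) : ClSub.IsProperOver f' (⇑g' ⁻¹' Z) := by
  obtain ⟨hZc, hp⟩ := hZ
  haveI := hp
  set I := Scheme.IdealSheafData.vanishingIdeal (⟨Z, hZc⟩ : TopologicalSpace.Closeds X) with hI
  have hcl : IsClosed (⇑g' ⁻¹' Z) := hZc.preimage g'.continuous
  have hr : Set.range ⇑(Limits.pullback.snd I.subschemeι g') =
      ((⟨⇑g' ⁻¹' Z, hcl⟩ : TopologicalSpace.Closeds X') : Set X') := by
    rw [Scheme.Pullback.range_snd, I.range_subschemeι, hI,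
      Scheme.IdealSheafData.coe_support_vanishingIdeal]
    rfl
  have hpb : IsPullback (Limits.pullback.snd I.subschemeι g' ≫ f') (Limits.pullback.fst I.subschemeι g') g
      (I.subschemeι ≫ f) :=
    (IsPullback.of_hasPullback I.subschemeι g').flip.paste_horiz sq.flip
  haveI : IsProper (Limits.pullback.snd I.subschemeι g' ≫ f') :=
    MorphismProperty.of_isPullback (P := @IsProper) hpb.flip hp
  exact ⟨hcl, Groth.Agent.Helper24.ProperOver.proper_red_of_closedImm f'
    (Limits.pullback.snd I.subschemeι g') ⟨_, hcl⟩ hr⟩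

end Groth.Agent.S0793
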