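import Groth.Statements.S0796
import Mathlib
import Groth.Agent.Lead.EpiStalk
import Groth.Agent.S0020
import Groth.Agent.Lib.Helper24.ProperOver2

set_option autoImplicit false
universe u
open Coherent

namespace Groth.Agent.S0796

section Helpers
open CategoryTheory CategoryTheory.Limits AlgebraicGeometry TopologicalSpace
open Groth.Agent.Lead.QCoh Groth.Agent.Lead.EpiStalk Groth.Agent.Helper24.ProperOver

lemma supp_eq0796 {X : Scheme.{u}} (E : ShortComplex X.Modules) (hE : E.ShortExact) :
    CohB1.support E.X₂ = CohB1.support E.X₁ ∪ CohB1.support E.X₃ := by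
  haveI := hE.mono_f
  haveI := hE.epi_g
  ext x
  simp only [CohB1.support, Set.mem_setOf_eq, Set.mem_union]
  constructor
  · intro h2
    by_contra hcon
    rw [not_or, not_not, not_not] at hcon
    obtain ⟨h1, h3⟩ := hcon
    apply h2
    have hz : ∀ t : E.X₂.presheaf.stalk x, t = 0 := by
      intro t
      have ht : stalkMap E.g x t = 0 := Subsingleton.elim _ _
      obtain ⟨s, rfl⟩ := stalk_exact E hE x t ht
      have hs : s = 0 := Subsingleton.elim _ _
      rw [hs, map_zero]
    exact ⟨fun a b => (hz a).trans (hz b).symm⟩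
  · rintro (h1 | h3) h2
    · exact h1 ((stalkMap_injective_of_mono E.f x).subsingleton)
    · exact h3 ((stalkMap_surjective_of_epi E.g x).subsingleton)

lemma proper_mono0796 {X S : Scheme.{u}} (f : X ⟶ S) (A C : Closeds X) (hA : A ≤ C)
    [IsProper ((Scheme.IdealSheafData.vanishingIdeal C).subschemeι ≫ f)] :
    IsProper ((Scheme.IdealSheafData.vanishingIdeal A).subschemeι ≫ f) := by
  obtain ⟨ℓ₁, e₁⟩ : ∃ ℓ₁ : (Scheme.IdealSheafData.vanishingIdeal A).subscheme ⟶
      (Scheme.IdealSheafData.vanishingIdeal C).subscheme,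
      ℓ₁ ≫ (Scheme.IdealSheafData.vanishingIdeal C).subschemeι =
        (Scheme.IdealSheafData.vanishingIdeal A).subschemeι :=
    ⟨Scheme.IdealSheafData.inclusion (Scheme.IdealSheafData.vanishingIdeal_antimono hA),
      Scheme.IdealSheafData.inclusion_subschemeι _⟩
  haveI : IsClosedImmersion (ℓ₁ ≫ (Scheme.IdealSheafData.vanishingIdeal C).subschemeι) := by
    rw [e₁]; infer_instance
  haveI : IsClosedImmersion ℓ₁ :=
    IsClosedImmersion.of_comp ℓ₁ (Scheme.IdealSheafData.vanishingIdeal C).subschemeι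
  rw [← e₁, Category.assoc]
  infer_instance

end Helpers

open CategoryTheory AlgebraicGeometry in
/-- Part (2), through the usual criterion for Serre subcategories. Let S be locally Noetherian and f : X
→ S locally of finite type. For a short exact sequence 0 → F₁ → F₂ → F₃ → 0 of coherent O_X-modules,
the support of F₂ is proper over S if and only if the supports of F₁ and F₃ are. -/
theorem result {X S : Scheme.{u}} (f : X ⟶ S) [LocallyOfFiniteType f]
    [IsLocallyNoetherian S] (E : ShortComplex X.Modules) (hE : E.ShortExact)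
    (h₁ : Coh.IsCoh E.X₁) (h₂ : Coh.IsCoh E.X₂) (h₃ : Coh.IsCoh E.X₃) :
    ClSub.IsProperOver f (CohB1.support E.X₂) ↔
      ClSub.IsProperOver f (CohB1.support E.X₁) ∧ ClSub.IsProperOver f (CohB1.support E.X₃) := by
  have hsupp := supp_eq0796 E hE
  have hc1 : IsClosed (CohB1.support E.X₁) := Groth.Agent.S0020.result X E.X₁ h₁.2
  have hc2 : IsClosed (CohB1.support E.X₂) := Groth.Agent.S0020.result X E.X₂ h₂.2
  have hc3 : IsClosed (CohB1.support E.X₃) := Groth.Agent.S0020.result X E.X₃ h₃.2
  constructor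
  · rintro ⟨h, hp⟩
    haveI := hp
    refine ⟨⟨hc1, ?_⟩, ⟨hc3, ?_⟩⟩
    · refine proper_mono0796 f ⟨_, hc1⟩ ⟨_, h⟩ ?_
      rw [← SetLike.coe_subset_coe]
      show CohB1.support E.X₁ ⊆ CohB1.support E.X₂
      rw [hsupp]; exact Set.subset_union_left
    · refine proper_mono0796 f ⟨_, hc3⟩ ⟨_, h⟩ ?_
      rw [← SetLike.coe_subset_coe]
      show CohB1.support E.X₃ ⊆ CohB1.support E.X₂
      rw [hsupp]; exact Set.subset_union_right
  · rintro ⟨⟨ha, hpa⟩, ⟨hb, hpb⟩⟩
    haveI := hpa
    haveI := hpb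
    refine ⟨hc2, ?_⟩
    exact Groth.Agent.Helper24.ProperOver.proper_union f ⟨_, ha⟩ ⟨_, hb⟩ ⟨_, hc2⟩ hsupp

end Groth.Agent.S0796
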