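import Groth.Statements.S0797
import Mathlib
-- import your own Groth.Agent.* helpers here

set_option autoImplicit false
universe u
open Formal2

namespace Groth.Agent.S0797


theorem exists_seq : ∀ (n : ℕ) {M : ℕ → Type u} (f : ∀ n, M (n + 1) → M n)
    (_ : ∀ n, Function.Surjective (f n)) (x : M n),
    ∃ z : ∀ j, M j, (∀ j, f j (z (j + 1)) = z j) ∧ z n = x := by
  intro n
  induction n with
  | zero =>
    intro M f hf x
    refine ⟨fun j => Nat.rec (motive := fun j => M j) x (fun j zj => Function.surjInv (hf j) zj) j,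
      fun j => ?_, rfl⟩
    exact Function.surjInv_eq (hf j) _
  | succ n ih =>
    intro M f hf x
    obtain ⟨z', hz', hx⟩ := ih (M := fun j => M (j + 1)) (fun j => f (j + 1)) (fun j => hf (j + 1)) x
    refine ⟨fun j => match j with
      | 0 => f 0 (z' 0)
      | j + 1 => z' j, fun j => ?_, hx⟩
    cases j with
    | zero => rfl
    | succ j => exact hz' j

/-- The module-theoretic heart, over a base that is already complete (so that the completion of A is A).
Let A be Noetherian and I-adically complete, and let (M_n, f_n : M_{n+1} → M_n) be an inverse system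
of finite A-modules with M_n annihilated by I^(n+1) and f_n surjective with kernel I^(n+1) M_{n+1}
(indices shifted by one). Then the A-module of compatible sequences is finitely generated, each
projection to M_n is surjective, and its kernel is I^(n+1) times the module of compatible sequences. -/
theorem result (A : Type u) [CommRing A] [IsNoetherianRing A] (I : Ideal A)
    [IsAdicComplete I A] (M : ℕ → Type u) [∀ n, AddCommGroup (M n)] [∀ n, Module A (M n)]
    [∀ n, Module.Finite A (M n)] (f : ∀ n, M (n + 1) →ₗ[A] M n) (hf : ∀ n, Function.Surjective (f n))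
    (hk : ∀ n, I ^ (n + 1) • (⊤ : Submodule A (M n)) = ⊥)
    (hker : ∀ n, LinearMap.ker (f n) = I ^ (n + 1) • (⊤ : Submodule A (M (n + 1))))
    (L : Submodule A (∀ n, M n)) (hL : ∀ x : ∀ n, M n, x ∈ L ↔ ∀ n, f n (x (n + 1)) = x n) :
    Module.Finite A L ∧ ∀ n, Function.Surjective ((LinearMap.proj n).comp L.subtype : L →ₗ[A] M n) ∧
      LinearMap.ker ((LinearMap.proj n).comp L.subtype : L →ₗ[A] M n) = I ^ (n + 1) • (⊤ : Submodule A L) := by
  classical
  -- annihilation
  have hkill : ∀ (n : ℕ) (a : A), a ∈ I ^ (n + 1) → ∀ w : M n, a • w = 0 := by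
    intro n a ha w
    have : a • w ∈ I ^ (n + 1) • (⊤ : Submodule A (M n)) := Submodule.smul_mem_smul ha trivial
    rw [hk n] at this
    exact (Submodule.mem_bot A).1 this
  have hkill' : ∀ (j N : ℕ) (a : A), j < N → a ∈ I ^ N → ∀ w : M j, a • w = 0 :=
    fun j N a hjN ha w => hkill j a (Ideal.pow_le_pow_right (Nat.succ_le_of_lt hjN) ha) w
  -- surjectivity of projections
  have hsurj : ∀ n (x : M n), ∃ z : ∀ j, M j, z ∈ L ∧ z n = x := by
    intro n x
    obtain ⟨z, hz, hx⟩ := exists_seq n (fun j => ⇑(f j)) hf x
    exact ⟨z, (hL z).2 hz, hx⟩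
  -- generators
  obtain ⟨k, x, hx⟩ := Module.Finite.exists_fin (R := A) (M := M 0)
  choose y hyL hy0 using fun i => hsurj 0 (x i)
  have hcompat : ∀ i j, f j (y i (j + 1)) = y i j := fun i j => (hL (y i)).1 (hyL i) j
  have hgen : ∀ n, Submodule.span A (Set.range fun i => y i n) = ⊤ := by
    intro n
    induction n with
    | zero =>
      rw [← hx]; congr 1; ext w; simp [hy0]
    | succ n ih =>
      rw [eq_top_iff]
      apply Submodule.le_of_le_smul_of_le_jacobson_bot (I := I ^ (n + 1))
        (Module.Finite.fg_top) ((Ideal.pow_le_self (Nat.succ_ne_zero n)).trans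
          (IsAdicComplete.le_jacobson_bot I))
      intro w _
      have hw : f n w ∈ Submodule.span A (Set.range fun i => y i n) := by rw [ih]; trivial
      have hmap : Submodule.span A (Set.range fun i => y i n) =
          (Submodule.span A (Set.range fun i => y i (n + 1))).map (f n) := by
        rw [Submodule.map_span, ← Set.range_comp]
        congr 2
        ext i
        exact (hcompat i n).symm
      rw [hmap] at hw
      obtain ⟨g, hg, hgw⟩ := hw
      have hker' : w - g ∈ LinearMap.ker (f n) := by
        rw [LinearMap.mem_ker, map_sub, hgw, sub_self]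
      rw [hker n] at hker'
      have : w = g + (w - g) := by abel
      rw [this]
      exact Submodule.add_mem_sup hg hker'
  have hmemker : ∀ (N : ℕ) (w : ∀ n, M n), w ∈ L → (∀ j < N, w j = 0) →
      w N ∈ I ^ N • (⊤ : Submodule A (M N)) := by
    intro N w hw hw0
    cases N with
    | zero => rw [pow_zero, Ideal.one_eq_top, Submodule.top_smul]; trivial
    | succ N' =>
      rw [← hker N', LinearMap.mem_ker, (hL w).1 hw N']
      exact hw0 N' (Nat.lt_succ_self N')
  -- the approximation lemma
  have key : ∀ (n₀ : ℕ) (z : ∀ n, M n), z ∈ L → (∀ j < n₀, z j = 0) →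
      ∃ b : Fin k → A, (∀ i, b i ∈ I ^ n₀) ∧ z = ∑ i, b i • y i := by
    intro n₀ z hz hz0
    let P : ℕ → (Fin k → A) → Prop := fun m b =>
      (∀ i, b i ∈ I ^ n₀) ∧ ∀ j < n₀ + m, z j = ∑ i, b i • y i j
    have step : ∀ (m : ℕ) (b : Fin k → A), P m b →
        ∃ b' : Fin k → A, P (m + 1) b' ∧ ∀ i, b' i - b i ∈ I ^ (n₀ + m) := by
      rintro m b ⟨hb1, hb2⟩
      have hz'L : z - ∑ i, b i • y i ∈ L :=
        L.sub_mem hz (L.sum_mem fun i _ => L.smul_mem _ (hyL i))
      have hz'0 : ∀ j < n₀ + m, (z - ∑ i, b i • y i) j = 0 := fun j hj => by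
        simp only [Pi.sub_apply, Finset.sum_apply, Pi.smul_apply]
        rw [hb2 j hj, sub_self]
      have hw := hmemker (n₀ + m) _ hz'L hz'0
      rw [← hgen (n₀ + m), Submodule.mem_ideal_smul_span_iff_exists_sum] at hw
      obtain ⟨a, ha, hsum⟩ := hw
      rw [Finsupp.sum_fintype a (fun i c => c • y i (n₀ + m)) (fun i => zero_smul _ _)] at hsum
      simp only [Pi.sub_apply, Finset.sum_apply, Pi.smul_apply] at hsum
      refine ⟨fun i => b i + a i, ⟨fun i => Ideal.add_mem _ (hb1 i)
        (Ideal.pow_le_pow_right (Nat.le_add_right n₀ m) (ha i)), ?_⟩, fun i => ?_⟩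
      · intro j hj
        rcases Nat.lt_succ_iff_lt_or_eq.1 (by rwa [← Nat.add_assoc] at hj) with hj' | hj'
        · rw [hb2 j hj']
          refine Finset.sum_congr rfl fun i _ => ?_
          rw [add_smul, hkill' j (n₀ + m) (a i) hj' (ha i), add_zero]
        · subst hj'
          simp only [add_smul, Finset.sum_add_distrib]
          rw [hsum]; abel
      · rw [add_sub_cancel_left]; exact ha i
    have hP0 : P 0 (fun _ => 0) :=
      ⟨fun i => Ideal.zero_mem _, fun j hj => by
        rw [hz0 j (by simpa using hj)]; simp⟩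
    let seq : (m : ℕ) → {b : Fin k → A // P m b} := fun m =>
      Nat.rec (motive := fun m => {b : Fin k → A // P m b}) ⟨fun _ => 0, hP0⟩
        (fun m b => ⟨Classical.choose (step m b.1 b.2),
          (Classical.choose_spec (step m b.1 b.2)).1⟩) m
    have hseq : ∀ m i, (seq (m + 1)).1 i - (seq m).1 i ∈ I ^ (n₀ + m) := fun m i =>
      (Classical.choose_spec (step m (seq m).1 (seq m).2)).2 i
    have hcauchy : ∀ i m n, m ≤ n → (seq n).1 i - (seq m).1 i ∈ I ^ m := by
      intro i m n hmn
      induction n, hmn using Nat.le_induction with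
      | base => rw [sub_self]; exact Ideal.zero_mem _
      | succ n hmn ih =>
        have : (seq (n + 1)).1 i - (seq m).1 i =
            ((seq (n + 1)).1 i - (seq n).1 i) + ((seq n).1 i - (seq m).1 i) := by ring
        rw [this]
        exact Ideal.add_mem _ (Ideal.pow_le_pow_right (by omega) (hseq n i)) ih
    have hlim : ∀ i, ∃ β : A, ∀ n, (seq n).1 i - β ∈ I ^ n := by
      intro i
      obtain ⟨β, hβ⟩ := IsPrecomplete.prec' (I := I) (M := A) (fun n => (seq n).1 i) (by
        intro m n hmn
        rw [SModEq.sub_mem, smul_eq_mul, Ideal.mul_top]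
        have := hcauchy i m n hmn
        rw [← neg_sub] at this
        exact (Ideal.neg_mem_iff _).1 this)
      refine ⟨β, fun n => ?_⟩
      have := hβ n
      rwa [SModEq.sub_mem, smul_eq_mul, Ideal.mul_top] at this
    choose β hβ using hlim
    refine ⟨β, fun i => ?_, ?_⟩
    · have h1 := hβ i n₀
      have h2 := (seq n₀).2.1 i
      have : β i = (seq n₀).1 i - ((seq n₀).1 i - β i) := by ring
      rw [this]; exact Ideal.sub_mem _ h2 h1
    · funext j
      rw [(seq (j + 1)).2.2 j (by omega)]
      simp only [Finset.sum_apply, Pi.smul_apply]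
      refine Finset.sum_congr rfl fun i _ => ?_
      have h1 := hkill j _ (hβ i (j + 1)) (y i j)
      rw [sub_smul, sub_eq_zero] at h1
      exact h1
  refine ⟨?_, fun n => ⟨?_, ?_⟩⟩
  · rw [Module.Finite.iff_fg]
    have hspan : Submodule.span A (Set.range y) = L := by
      apply le_antisymm
      · rw [Submodule.span_le]; rintro _ ⟨i, rfl⟩; exact hyL i
      · intro z hz
        obtain ⟨b, -, rfl⟩ := key 0 z hz (fun j hj => absurd hj (Nat.not_lt_zero j))
        exact Submodule.sum_mem _ fun i _ =>
          Submodule.smul_mem _ _ (Submodule.subset_span (Set.mem_range_self i))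
    rw [← hspan]
    exact Submodule.fg_span (Set.finite_range y)
  · intro w
    obtain ⟨z, hz, hzw⟩ := hsurj n w
    exact ⟨⟨z, hz⟩, hzw⟩
  · apply le_antisymm
    · intro z hz
      have hzn : z.1 n = 0 := hz
      have hdown : ∀ d j, j + d = n → z.1 j = 0 := by
        intro d
        induction d with
        | zero => intro j hj; rw [Nat.add_zero] at hj; rw [hj]; exact hzn
        | succ d ih =>
          intro j hj
          rw [← (hL z.1).1 z.2 j, ih (j + 1) (by omega), map_zero]
      obtain ⟨b, hb, hzb⟩ := key (n + 1) z.1 z.2 (fun j hj =>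
        hdown (n - j) j (by omega))
      have : z = ∑ i, b i • (⟨y i, hyL i⟩ : L) := by
        apply Subtype.ext
        rw [hzb]
        simp
      rw [this]
      exact Submodule.sum_mem _ fun i _ => Submodule.smul_mem_smul (hb i) trivial
    · rw [Submodule.smul_le]
      intro r hr z _
      show (r • z).1 n = 0
      exact hkill n r hr (z.1 n)

end Groth.Agent.S0797
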