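import Groth.Statements.S0854
import Groth.Prelude.Def_CohCx
import Groth.Agent.H10.TopRestr
import Groth.Agent.H10.TopBC
import Mathlib

set_option autoImplicit false
universe u
open CategoryTheory
open CohTop

namespace Groth.Agent.S0854

open TopologicalSpace in
/-- For abelian sheaves, one degree at a time: for a continuous map f : X -> Y, an abelian sheaf F on X,
an open V of Y and g : f^{-1}(V) -> V the restriction of f, the restriction of R^p f_* F to V is
isomorphic to R^p g_* (F|_{f^{-1} V}). -/
theorem result {X Y : TopCat.{u}} (f : X ⟶ Y) (F : CohTop.Ab X)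
    (V : Opens Y) (p : ℕ) :
    Nonempty (CohTop.restr ((CohTop.Rpush f p).obj F) V ≅
      (CohTop.Rpush (TopCat.ofHom ⟨(V : Set Y).restrictPreimage f, f.hom.continuous.restrictPreimage⟩ :
          TopCat.of ((Opens.map f).obj V) ⟶ TopCat.of V) p).obj
        (CohTop.restr F ((Opens.map f).obj V))) := by
  have HX : Topology.IsOpenEmbedding (TopCat.Hom.hom (CohCx.incl ((Opens.map f).obj V))) :=
    ((Opens.map f).obj V).isOpenEmbedding
  have HY : Topology.IsOpenEmbedding (TopCat.Hom.hom (CohCx.incl V)) := V.isOpenEmbedding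
  have hcX := HX.functor_isContinuous
  have hcY := HY.functor_isContinuous
  let g : TopCat.of ((Opens.map f).obj V) ⟶ TopCat.of V :=
    TopCat.ofHom ⟨(V : Set Y).restrictPreimage f, f.hom.continuous.restrictPreimage⟩
  have hobj : ∀ W : Opens (TopCat.of V),
      (HY.isOpenMap.functor ⋙ Opens.map f).obj W = (Opens.map g ⋙ HX.isOpenMap.functor).obj W := by
    intro W
    ext x
    constructor
    · rintro ⟨w, hw, hwx⟩
      have hxV : f x ∈ V := by rw [← hwx]; exact w.2
      exact ⟨⟨x, hxV⟩, (by
        show g ⟨x, hxV⟩ ∈ W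
        have : g ⟨x, hxV⟩ = w := Subtype.ext hwx.symm
        rw [this]; exact hw), rfl⟩
    · rintro ⟨x', hx', rfl⟩
      exact ⟨g x', hx', rfl⟩
  let e : HY.isOpenMap.functor ⋙ Opens.map f ≅ Opens.map g ⋙ HX.isOpenMap.functor :=
    NatIso.ofComponents (fun W => eqToIso (hobj W)) (fun _ => Subsingleton.elim _ _)
  exact @Groth.Agent.H10.TopBC.baseChange_open X Y (TopCat.of ((Opens.map f).obj V)) (TopCat.of V)
    f g (CohCx.incl ((Opens.map f).obj V)) (CohCx.incl V) HX HY hcX hcY e
    (inferInstanceAs (Limits.PreservesFiniteLimits (CohTop.restrFunctor ((Opens.map f).obj V))))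
    (inferInstanceAs (Limits.PreservesFiniteColimits (CohTop.restrFunctor ((Opens.map f).obj V))))
    (fun I hI => Groth.Agent.H10.TopRestr.restr_injective ((Opens.map f).obj V) I)
    (inferInstanceAs (Limits.PreservesFiniteLimits (CohTop.restrFunctor V)))
    (inferInstanceAs (Limits.PreservesFiniteColimits (CohTop.restrFunctor V))) F p

end Groth.Agent.S0854
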