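import Groth.Statements.S0856
import Mathlib
set_option linter.style.haveILetI false

set_option autoImplicit false
universe u
open CategoryTheory
open CohSite

namespace Groth.Agent.S0856

open Opposite in
/-- Let (C, O) be a ringed site, a : U' -> U a monomorphism of C and I an injective sheaf of O-modules.
Then the restriction map I(U) -> I(U') is surjective. -/
theorem result {C : Type u} [SmallCategory C]
    {J : GrothendieckTopology C} (O : Sheaf J RingCat.{u}) (I : SheafOfModules.{u} O) [Injective I]
    {U U' : C} (a : U' ⟶ U) [Mono a] : Function.Surjective (I.val.map a.op) := by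
  intro x'
  let α : O.obj ⟶ O.obj := 𝟙 _
  let adj := PresheafOfModules.sheafificationAdjunction.{u} α
  let G : PresheafOfModules.{u} O.obj :=
    (SheafOfModules.forget O ⋙ PresheafOfModules.restrictScalars α).obj I
  let F : Cᵒᵖ ⥤ Type u := G.presheaf ⋙ forget _
  let φ' : yoneda.obj U' ⟶ F := yonedaEquiv.symm (show F.obj (op U') from x')
  let ψ' : PresheafOfModules.freeObj (yoneda.obj U') ⟶ G := PresheafOfModules.freeHomEquiv.symm φ'
  let m : PresheafOfModules.freeObj (R := O.obj) (yoneda.obj U') ⟶
      PresheafOfModules.freeObj (R := O.obj) (yoneda.obj U) :=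
    (PresheafOfModules.free O.obj).map (yoneda.map a)
  haveI hm : Mono m := PresheafOfModules.mono_of_injective (fun X => by
    show Function.Injective (Finsupp.mapDomain _)
    apply Finsupp.mapDomain_injective
    intro g h e
    exact (cancel_mono a).mp e)
  let sm := (PresheafOfModules.sheafification.{u} α).map m
  haveI : Mono sm := (PresheafOfModules.sheafification.{u} α).map_mono m
  let χ := Injective.factorThru ((adj.homEquiv _ I).symm ψ') sm
  have hχ : sm ≫ χ = (adj.homEquiv _ I).symm ψ' := Injective.comp_factorThru _ _
  have h1 : m ≫ adj.homEquiv _ I χ = ψ' := by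
    rw [← Adjunction.homEquiv_naturality_left, hχ, Equiv.apply_symm_apply]
  let φ : yoneda.obj U ⟶ F := PresheafOfModules.freeHomEquiv (adj.homEquiv _ I χ)
  have h2 : yoneda.map a ≫ φ = φ' := by
    have h := (PresheafOfModules.freeAdjunction O.obj).homEquiv_naturality_left (yoneda.map a)
      (adj.homEquiv _ I χ)
    rw [PresheafOfModules.freeAdjunction_homEquiv, PresheafOfModules.freeAdjunction_homEquiv] at h
    have h' : PresheafOfModules.freeHomEquiv (m ≫ adj.homEquiv _ I χ) = yoneda.map a ≫ φ := h
    rw [← h', h1]
    exact Equiv.apply_symm_apply _ _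
  refine ⟨yonedaEquiv φ, ?_⟩
  have h3 := yonedaEquiv_naturality φ a
  rw [h2, Equiv.apply_symm_apply] at h3
  exact h3

end Groth.Agent.S0856
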