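import Groth.Statements.S0860
import Mathlib
import Groth.Agent.S0861

set_option autoImplicit false
universe u
open CategoryTheory
open CohSite

namespace Groth.Agent.S0860

section helpers

open CategoryTheory CategoryTheory.Limits Opposite AlgebraicTopology Simplicial
open Groth.Agent.S0859 (hom_congr_apply PD Yc pr pr_ext KK Qf tr tr_π Ymap_pr)

variable {C D : Type u} [SmallCategory C] [SmallCategory D] [HasPullbacks C] [HasPullbacks D]
  (u : C ⥤ D) [PreservesLimitsOfShape WalkingCospan u]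

theorem post_terminal (U : C) :
    PreservesLimit (Functor.empty.{0} (Over U)) (Over.post u (X := U)) := by
  refine preservesLimit_of_preserves_limit_cone (Over.mkIdTerminal (X := U)) ?_
  exact (isLimitMapConeEmptyConeEquiv (Over.post u (X := U)) (Over.mk (𝟙 U))).symm
    (IsTerminal.ofIso (Over.mkIdTerminal (X := u.obj U))
      (Over.isoMk (Iso.refl _) ((Category.id_comp _).trans (u.map_id U))))

theorem post_finprod (U : C) : PreservesFiniteProducts (Over.post u (X := U)) := by
  haveI : PreservesLimitsOfShape (WidePullbackShape WalkingPair) u :=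
    ‹PreservesLimitsOfShape WalkingCospan u›
  haveI : PreservesLimitsOfShape (Discrete WalkingPair) (Over.post u (X := U)) := inferInstance
  haveI := post_terminal u U
  haveI : PreservesLimitsOfShape (Discrete.{0} PEmpty) (Over.post u (X := U)) :=
    preservesLimitsOfShape_pempty_of_preservesTerminal _
  exact PreservesFiniteProducts.of_preserves_binary_and_terminal _

variable {U : C} {ι : Type u} (Y : ι → Over U)

/-- the image family -/
abbrev uY : ι → Over (u.obj U) := fun i => (Over.post u).obj (Y i)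

/-- comparison map -/
noncomputable def cx (n : ℕ) (x : Fin (n + 1) → ι) :
    (Over.post u).obj (PD Y n x) ⟶ PD (uY u Y) n x :=
  piComparison (Over.post u) (Y ∘ x)

theorem cx_π (n : ℕ) (x : Fin (n + 1) → ι) (k : Fin (n + 1)) :
    cx u Y n x ≫ Limits.Pi.π (uY u Y ∘ x) k = (Over.post u).map (Limits.Pi.π (Y ∘ x) k) :=
  piComparison_comp_π (Over.post u) (Y ∘ x) k

instance cx_iso (n : ℕ) (x : Fin (n + 1) → ι) : IsIso (cx u Y n x) := by
  haveI := post_finprod u U
  haveI : PreservesLimit (Discrete.functor (Y ∘ x)) (Over.post u (X := U)) := inferInstance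
  exact (inferInstance : IsIso (piComparison (Over.post u) (Y ∘ x)))

theorem cx_tr {n m : ℕ} (θ : ⦋n⦌ ⟶ ⦋m⦌) (y : Fin (m + 1) → ι) :
    (Over.post u).map (tr Y θ y) ≫ cx u Y n (y ∘ θ.toOrderHom) =
      cx u Y m y ≫ tr (uY u Y) θ y := by
  apply Limits.Pi.hom_ext
  intro a
  have e1 : ((Over.post u).map (tr Y θ y) ≫ cx u Y n (y ∘ θ.toOrderHom)) ≫
      Limits.Pi.π (uY u Y ∘ (y ∘ θ.toOrderHom)) a =
      (Over.post u).map (Limits.Pi.π (Y ∘ y) (θ.toOrderHom a)) := by
    rw [Category.assoc, cx_π, ← Functor.map_comp, tr_π]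
  have e2 : (cx u Y m y ≫ tr (uY u Y) θ y) ≫
      Limits.Pi.π (uY u Y ∘ (y ∘ θ.toOrderHom)) a =
      (Over.post u).map (Limits.Pi.π (Y ∘ y) (θ.toOrderHom a)) := by
    rw [Category.assoc, tr_π, cx_π]
  exact e1.trans e2.symm

variable (N : Dᵒᵖ ⥤ AddCommGrpCat.{u})

/-- the comparison of Cech cochains -/
noncomputable def PhiN (n : ℕ) :
    (Yc (uY u Y) (Qf N)).obj ⦋n⦌ ⟶ (Yc Y (Qf (u.op ⋙ N))).obj ⦋n⦌ :=
  Limits.Pi.map (f := fun x : Fin (n + 1) → ι => (Qf N).obj (op (PD (uY u Y) n x)))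
    (g := fun x : Fin (n + 1) → ι => (Qf (u.op ⋙ N)).obj (op (PD Y n x)))
    (fun x => N.map (cx u Y n x).left.op)

theorem PhiN_pr (n : ℕ) (x : Fin (n + 1) → ι) :
    PhiN u Y N n ≫ pr Y (Qf (u.op ⋙ N)) n x =
      pr (uY u Y) (Qf N) n x ≫ N.map (cx u Y n x).left.op :=
  Limits.Pi.map_π _ x

instance PhiN_iso (n : ℕ) : IsIso (PhiN u Y N n) := by
  haveI : ∀ x : Fin (n + 1) → ι, IsIso (N.map (cx u Y n x).left.op) := fun x => by
    haveI : IsIso (cx u Y n x).left :=
      (inferInstance : IsIso ((Over.forget _).map (cx u Y n x)))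
    infer_instance
  exact @Limits.Pi.map_isIso (Fin (n + 1) → ι) AddCommGrpCat.{u} _
    (fun x => (Qf N).obj (op (PD (uY u Y) n x)))
    (fun x => (Qf (u.op ⋙ N)).obj (op (PD Y n x))) _
    (fun x => N.map (cx u Y n x).left.op) (fun x => this x)

theorem Phi_nat {n m : ℕ} (θ : ⦋n⦌ ⟶ ⦋m⦌) :
    (Yc (uY u Y) (Qf N)).map θ ≫ PhiN u Y N m =
      PhiN u Y N n ≫ (Yc Y (Qf (u.op ⋙ N))).map θ := by
  apply pr_ext Y (Qf (u.op ⋙ N))
  intro y
  have e1 : ((Yc (uY u Y) (Qf N)).map θ ≫ PhiN u Y N m) ≫ pr Y (Qf (u.op ⋙ N)) m y =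
      pr (uY u Y) (Qf N) n (y ∘ θ.toOrderHom) ≫
        ((Qf N).map (tr (uY u Y) θ y).op ≫ N.map (cx u Y m y).left.op) :=
    (Category.assoc _ _ _).trans
      ((congrArg (fun t => (Yc (uY u Y) (Qf N)).map θ ≫ t) (PhiN_pr u Y N m y)).trans
        ((Category.assoc _ _ _).symm.trans
          ((congrArg (fun t => t ≫ N.map (cx u Y m y).left.op)
            (Ymap_pr (uY u Y) (Qf N) θ y)).trans (Category.assoc _ _ _))))
  have e2 : (PhiN u Y N n ≫ (Yc Y (Qf (u.op ⋙ N))).map θ) ≫ pr Y (Qf (u.op ⋙ N)) m y =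
      pr (uY u Y) (Qf N) n (y ∘ θ.toOrderHom) ≫
        (N.map (cx u Y n (y ∘ θ.toOrderHom)).left.op ≫
          (Qf (u.op ⋙ N)).map (tr Y θ y).op) :=
    (Category.assoc _ _ _).trans
      ((congrArg (fun t => PhiN u Y N n ≫ t) (Ymap_pr Y (Qf (u.op ⋙ N)) θ y)).trans
        ((Category.assoc _ _ _).symm.trans
          ((congrArg (fun t => t ≫ (Qf (u.op ⋙ N)).map (tr Y θ y).op)
            (PhiN_pr u Y N n (y ∘ θ.toOrderHom))).trans (Category.assoc _ _ _))))
  have e3 : (Qf N).map (tr (uY u Y) θ y).op ≫ N.map (cx u Y m y).left.op =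
      N.map (cx u Y n (y ∘ θ.toOrderHom)).left.op ≫ (Qf (u.op ⋙ N)).map (tr Y θ y).op := by
    have h := congrArg (fun a => N.map a.left.op) (cx_tr u Y θ y)
    have h1 : N.map ((Over.post u).map (tr Y θ y) ≫ cx u Y n (y ∘ θ.toOrderHom)).left.op =
        N.map (cx u Y n (y ∘ θ.toOrderHom)).left.op ≫ (Qf (u.op ⋙ N)).map (tr Y θ y).op := by
      rw [Over.comp_left, op_comp, Functor.map_comp]
      rfl
    have h2 : N.map (cx u Y m y ≫ tr (uY u Y) θ y).left.op =
        (Qf N).map (tr (uY u Y) θ y).op ≫ N.map (cx u Y m y).left.op := by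
      rw [Over.comp_left, op_comp, Functor.map_comp]
      rfl
    exact h2.symm.trans (h.symm.trans h1)
  exact e1.trans ((congrArg (fun t => pr (uY u Y) (Qf N) n (y ∘ θ.toOrderHom) ≫ t) e3).trans
    e2.symm)

/-- the comparison as a map of cosimplicial objects -/
noncomputable def PhiC : Yc (uY u Y) (Qf N) ⟶ Yc Y (Qf (u.op ⋙ N)) where
  app Δ := PhiN u Y N Δ.len
  naturality Δ Δ' f := Phi_nat u Y N (n := Δ.len) (m := Δ'.len) f

theorem cech_iso (p : ℕ) (h : IsZero (CohCx.cechH N (uY u Y) p)) :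
    IsZero (CohCx.cechH (u.op ⋙ N) Y p) := by
  haveI : ∀ Δ, IsIso ((PhiC u Y N).app Δ) := fun Δ =>
    (inferInstance : IsIso (PhiN u Y N Δ.len))
  haveI : IsIso (PhiC u Y N) := NatIso.isIso_of_isIso_app _
  let e := asIso ((AlgebraicTopology.alternatingCofaceMapComplex AddCommGrpCat.{u}).map
    (PhiC u Y N))
  let eh := (HomologicalComplex.homologyFunctor AddCommGrpCat.{u} _ p).mapIso e
  exact IsZero.of_iso h eh.symm

theorem main (J : GrothendieckTopology C) (K : GrothendieckTopology D) (u : C ⥤ D)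
    [PreservesLimitsOfShape WalkingCospan u] [u.IsContinuous J K]
    (I : Sheaf K AddCommGrpCat.{u}) [Injective I] (U : C) (p : ℕ) :
    Subsingleton (CohSite.HU ((CohSite.push K J u).obj I) (p + 1) U) := by
  refine Groth.Agent.S0861.main J Set.univ
    (fun U ι Y => Sieve.ofArrows (fun i => (Y i).left) (fun i => (Y i).hom) ∈ J U)
    ?_ ?_ _ ?_ U (Set.mem_univ _) p
  · intro U ι Y h
    exact ⟨Set.mem_univ _, h, fun _ _ => Set.mem_univ _⟩
  · intro U _ T hT
    refine ⟨(Σ V : C, {f : V ⟶ U // T f}), fun i => Over.mk i.2.1, ?_, fun i => i.2.2⟩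
    refine J.superset_covering ?_ hT
    intro V f hf
    exact (Sieve.mem_ofArrows_iff _ _ f).mpr ⟨⟨V, f, hf⟩, 𝟙 V, (Category.id_comp f).symm⟩
  · intro U ι Y hY p
    exact cech_iso u Y I.obj (p + 1) (Groth.Agent.S0858.main K I (uY u Y) p)

end helpers

open CategoryTheory.Limits in
/-- Let u : C -> D be a functor between sites with fibre products which sends coverings to coverings,
commutes with fibre products, and is continuous and cocontinuous, and let I be an injective abelian
sheaf on D. Then the sheaf V ↦ I(u(V)) on C (which is the pullback of I along the morphism of topoi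
attached to u) has H^p(U, -) = 0 for all p > 0 and all objects U of C. -/
theorem result {C D : Type u} [SmallCategory C]
    [SmallCategory D] [HasPullbacks C] [HasPullbacks D]
    (J : GrothendieckTopology C) (K : GrothendieckTopology D) (u : C ⥤ D)
    (hu : CoverPreserving J K u) [PreservesLimitsOfShape WalkingCospan u]
    [u.IsContinuous J K] [u.IsCocontinuous J K]
    (I : Sheaf K AddCommGrpCat.{u}) [Injective I] (U : C) (p : ℕ) :
    Subsingleton (CohSite.HU ((CohSite.push K J u).obj I) (p + 1) U) := by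
  exact Groth.Agent.S0860.main J K u I U p

end Groth.Agent.S0860
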