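import Groth.Statements.S0864
import Groth.Agent.H10.CohSiteC
import Mathlib

set_option autoImplicit false
universe u
open CategoryTheory
open CohSite

namespace Groth.Agent.S0864

/-- A totally acyclic abelian sheaf F on a site satisfies H^p(U, F) = 0 for every object U and every p >
0. -/
theorem result {C : Type u} [SmallCategory C] {J : GrothendieckTopology C}
    (F : Sheaf J AddCommGrpCat.{u}) (hF : CohCx.IsTotallyAcyclic F) (U : C) (p : ℕ) :
    Subsingleton (CohSite.HU F (p + 1) U) := by
  have h := hF ((presheafToSheaf J (Type u)).obj (yoneda.obj U)) p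
  obtain ⟨e⟩ := Groth.Agent.H10.CohSiteA.nonempty_freeOfSheafify_iso J U
  have key : ∀ z : Abelian.Ext.{u} ((Groth.Agent.H10.CohSiteA.freeFunctor J).obj U) F (p + 1),
      z = (Abelian.Ext.mk₀ e.inv).comp ((Abelian.Ext.mk₀ e.hom).comp z (zero_add _))
        (zero_add _) := by
    intro z
    rw [Abelian.Ext.mk₀_comp_mk₀_assoc, e.inv_hom_id, Abelian.Ext.mk₀_id_comp]
  refine ⟨fun x y => ?_⟩
  have hx := key x
  have hy := key y
  have hxy : (Abelian.Ext.mk₀ e.hom).comp x (zero_add (p + 1)) =
      (Abelian.Ext.mk₀ e.hom).comp y (zero_add (p + 1)) := h.elim _ _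
  exact hx.trans ((congrArg (fun w => (Abelian.Ext.mk₀ e.inv).comp w (zero_add (p + 1))) hxy).trans
    hy.symm)

end Groth.Agent.S0864
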