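import Groth.Statements.S0871
import Groth.Agent.H10.TopRestrD
import Mathlib

set_option autoImplicit false
universe u
open CategoryTheory
open CohTop

namespace Groth.Agent.S0871

open TopologicalSpace CategoryTheory.Limits in
/-- For an object K of the derived category of abelian sheaves on X and an open U, H^p(U, K) is
isomorphic to H^p(U, K|_U), where K|_U is the image of K under the functor on derived categories
induced by the (exact) restriction to U. Exactness of restriction is assumed through instance
arguments (true, but not recorded by Mathlib in this generality). -/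
theorem result {X : TopCat.{u}} (U : Opens X)
    [HasDerivedCategory.{u} (CohTop.Ab X)] [HasDerivedCategory.{u} (CohTop.Ab (TopCat.of U))]
    [PreservesFiniteLimits (CohTop.restrFunctor U)] [PreservesFiniteColimits (CohTop.restrFunctor U)]
    (K : DerivedCategory (CohTop.Ab X)) (p : ℤ) :
    Nonempty (CohCx.HDU K p U ≃+ CohCx.HDU ((CohTop.restrFunctor U).mapDerivedCategory.obj K) p ⊤) := by
  have H : Topology.IsOpenEmbedding (TopCat.Hom.hom (CohCx.incl U)) := U.isOpenEmbedding
  have hc := H.functor_isContinuous
  have htop : H.isOpenMap.functor.obj ⊤ = U := U.isOpenEmbedding_obj_top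
  have key := @Groth.Agent.H10.TopRestrD.HDU_restr X (TopCat.of U) (CohCx.incl U) H hc _ _
    ‹PreservesFiniteLimits (CohTop.restrFunctor U)› ‹PreservesFiniteColimits (CohTop.restrFunctor U)›
    K p ⊤
  rw [htop] at key
  exact key

end Groth.Agent.S0871
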