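import Groth.Statements.S0886
import Groth.Agent.H10.ExtAdj
import Groth.Agent.H10.FlatLan
import Mathlib

set_option autoImplicit false
universe u
open CategoryTheory
open CohSite

namespace Groth.Agent.S0886

open CategoryTheory.Limits in
/-- Let u : C → D be a functor between sites which is cocontinuous, continuous (it sends coverings to
coverings and commutes with fibre products, which exist in C), fully faithful, and sends a final
object of C to a final object of D. For an abelian sheaf F on D let g^{-1}F be the sheaf U ↦ F(u(U))
on C. Then H^p(C, g^{-1}F) ≅ H^p(D, F) for all p. This is the comparison of global cohomology; the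
comparison object by object holds under weaker hypotheses and is a separate statement. -/
theorem result {C D : Type u} [SmallCategory C] [SmallCategory D]
    (J : GrothendieckTopology C) (K : GrothendieckTopology D) (u : C ⥤ D)
    [u.IsCocontinuous J K] [u.IsContinuous J K] (hu : CoverPreserving J K u) [u.Full] [u.Faithful]
    [HasPullbacks C] [PreservesLimitsOfShape WalkingCospan u]
    [HasTerminal C] [PreservesLimit (Functor.empty.{0} C) u]
    (F : Sheaf K AddCommGrpCat.{u}) (p : ℕ) :
    Nonempty (Sheaf.H ((CohSite.push K J u).obj F) p ≃+ Sheaf.H F p) := by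
  haveI : HasFiniteLimits C := hasFiniteLimits_of_hasTerminal_and_pullbacks
  haveI : PreservesLimitsOfShape (Discrete PEmpty.{1}) u :=
    preservesLimitsOfShape_pempty_of_preservesTerminal u
  haveI : PreservesFiniteLimits u := preservesFiniteLimits_of_preservesTerminal_and_pullbacks u
  haveI : RepresentablyFlat u := flat_of_preservesFiniteLimits u
  let L := u.sheafPullback AddCommGrpCat.{u} J K
  let adj : L ⊣ CohSite.push K J u := u.sheafAdjunctionContinuous AddCommGrpCat.{u} J K
  have hex : ∀ V : Dᵒᵖ,
      HasExactColimitsOfShape (CostructuredArrow u.op V) AddCommGrpCat.{u} := by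
    intro V
    haveI : IsFiltered (CostructuredArrow u.op V) :=
      IsFiltered.of_equivalence (structuredArrowOpEquivalence u (Opposite.unop V))
    exact AB5OfSize.ofShape _
  have hL : PreservesFiniteLimits L :=
    Groth.Agent.H10.FlatLan.sheafPullback_preservesFiniteLimits_of_flat u AddCommGrpCat.{u} J K
  have aL : L.Additive := adj.left_adjoint_additive
  have cL : PreservesFiniteColimits L :=
    have : PreservesColimitsOfSize.{0, 0} L := adj.leftAdjoint_preservesColimits
    PreservesColimitsOfSize.preservesFiniteColimits _
  have hR : PreservesFiniteLimits (CohSite.push K J u) :=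
    have : PreservesLimitsOfSize.{0, 0} (CohSite.push K J u) := adj.rightAdjoint_preservesLimits
    PreservesLimitsOfSize.preservesFiniteLimits _
  have cR : PreservesFiniteColimits (CohSite.push K J u) :=
    have : PreservesColimitsOfSize.{0, 0} (CohSite.push K J u) :=
      (u.sheafAdjunctionCocontinuous AddCommGrpCat.{u} J K).leftAdjoint_preservesColimits
    PreservesColimitsOfSize.preservesFiniteColimits _
  obtain ⟨i⟩ := Groth.Agent.H10.ExtAdj.nonempty_pullback_constantSheaf_iso u
    AddCommGrpCat.{u} J K terminalIsTerminal
    (IsTerminal.isTerminalObj u _ terminalIsTerminal) (AddCommGrpCat.of (ULift ℤ))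
  obtain ⟨e⟩ := Groth.Agent.H10.ExtAdj.nonempty_ext_addEquiv'.{u, u} adj _ _ i F p
  exact ⟨e.symm⟩

end Groth.Agent.S0886
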