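import Groth.Statements.S0898
import Mathlib

set_option autoImplicit false
universe u
open CategoryTheory
open Hyper

namespace Groth.Agent.S0898

open CategoryTheory.Limits

section
variable {C : Type u} [SmallCategory C] (J : GrothendieckTopology C)

theorem comp_cov {K L M : FormalCoproduct.{u} C} (f : K ⟶ L) (g : L ⟶ M)
    (hf : Hyper.IsSRCovering J f) (hg : Hyper.IsSRCovering J g) :
    Hyper.IsSRCovering J (f ≫ g) := by
  intro j
  refine J.transitive (hg j) _ ?_
  intro Y h hh
  rw [Sieve.mem_ofArrows_iff] at hh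
  obtain ⟨⟨l, hl⟩, u, rfl⟩ := hh
  subst hl
  refine J.superset_covering ?_ (J.pullback_stable u (hf l))
  intro Z v hv
  rw [Sieve.pullback_apply, Sieve.mem_ofArrows_iff] at hv
  obtain ⟨⟨i, hi⟩, w, hw⟩ := hv
  subst hi
  rw [Sieve.pullback_apply, Sieve.mem_ofArrows_iff]
  refine ⟨⟨i, rfl⟩, w, ?_⟩
  simp only [eqToHom_refl, Category.comp_id] at hw ⊢
  rw [← Category.assoc, hw]
  simp

theorem iso_cov {K L : FormalCoproduct.{u} C} (e : K ≅ L) :
    Hyper.IsSRCovering J e.hom := by
  intro j
  apply J.covering_of_eq_top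
  rw [← Sieve.id_mem_iff_eq_top]
  obtain ⟨h₁, h₂⟩ := (FormalCoproduct.hom_ext_iff (e.inv ≫ e.hom) (𝟙 L)).mp e.inv_hom_id
  have hj : e.hom.f (e.inv.f j) = j := congrFun h₁ j
  have h3 := h₂ j
  rw [Sieve.mem_ofArrows_iff]
  refine ⟨⟨e.inv.f j, hj⟩, e.inv.φ j, ?_⟩
  simpa using h3.symm

theorem bc_explicit [HasPullbacks C] {K L L' : FormalCoproduct.{u} C} (f : K ⟶ L) (g : L' ⟶ L)
    (hf : Hyper.IsSRCovering J f) :
    Hyper.IsSRCovering J
      (FormalCoproduct.pullbackCone g f (fun _ ↦ pullback.cone _ _)).fst := by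
  intro j'
  refine J.superset_covering ?_ (J.pullback_stable (g.φ j') (hf (g.f j')))
  intro Z v hv
  rw [Sieve.pullback_apply, Sieve.mem_ofArrows_iff] at hv
  obtain ⟨⟨i, hi⟩, w, hw⟩ := hv
  rw [Sieve.mem_ofArrows_iff]
  refine ⟨⟨⟨(j', i), hi.symm⟩, rfl⟩,
    pullback.lift v w ?_, ?_⟩
  · rw [← Category.assoc, hw]
    simp
  · simp only [FormalCoproduct.pullbackCone_fst_f, FormalCoproduct.pullbackCone_fst_φ,
      PullbackCone.fst_limit_cone, eqToHom_refl, Category.comp_id]
    exact (pullback.lift_fst _ _ _).symm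

theorem bc_cov [HasPullbacks C] {K L L' : FormalCoproduct.{u} C} (f : K ⟶ L) (g : L' ⟶ L)
    (hf : Hyper.IsSRCovering J f) [HasPullback g f] :
    Hyper.IsSRCovering J (pullback.fst g f) := by
  have hlim := FormalCoproduct.isLimitPullbackCone g f (fun _ ↦ pullback.cone _ _)
    (fun _ ↦ pullback.isLimit _ _)
  let e := (pullback.isLimit g f).conePointUniqueUpToIso hlim
  have he : pullback.fst g f = e.hom ≫
      (FormalCoproduct.pullbackCone g f (fun _ ↦ pullback.cone _ _)).fst := by
    have := (pullback.isLimit g f).conePointUniqueUpToIso_hom_comp hlim WalkingCospan.left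
    exact this.symm
  rw [he]
  exact comp_cov J _ _ (iso_cov J e) (bc_explicit J f g hf)

end

open CategoryTheory.Limits in
/-- Parts (1) and (2), about covering morphisms between semi-representable objects (formal coproducts)
of a site: (1) the composite of two covering morphisms is a covering, and (2) for a site with fibre
products, the base change of a covering K -> L along any L' -> L (which exists) is a covering L' x_L
K -> L'. -/
theorem result {C : Type u} [SmallCategory C] (J : GrothendieckTopology C) :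
    (∀ {K L M : FormalCoproduct.{u} C} (f : K ⟶ L) (g : L ⟶ M),
      Hyper.IsSRCovering J f → Hyper.IsSRCovering J g → Hyper.IsSRCovering J (f ≫ g)) ∧
    (∀ [HasPullbacks C] {K L L' : FormalCoproduct.{u} C} (f : K ⟶ L) (g : L' ⟶ L),
      Hyper.IsSRCovering J f → HasPullback g f ∧ ∀ [HasPullback g f], Hyper.IsSRCovering J (pullback.fst g f)) := by
  refine ⟨fun {K L M} f g hf hg => comp_cov J f g hf hg, ?_⟩
  intro _ K L L' f g hf
  refine ⟨inferInstance, ?_⟩
  intro _
  exact bc_cov J f g hf

end Groth.Agent.S0898
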