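import Groth.Statements.S0901
import Mathlib
import Groth.Agent.S0455
import Groth.Agent.S0859

set_option autoImplicit false
universe u
open CategoryTheory
open CohTop

namespace Groth.Agent.S0901

section helpers

open CategoryTheory CategoryTheory.Limits Opposite AlgebraicTopology Simplicial TopologicalSpace
open Groth.Agent.S0859 (hom_congr_apply PD Yc pr pr_ext KK tr tr_π Ymap_pr)

section cmp

variable {D' D : Type u} [Category.{u} D'] [Category.{u} D] [HasFiniteProducts D']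
  [HasFiniteProducts D] (φ : D' ⥤ D) {ι : Type u} (Y' : ι → D') (Y : ι → D)
  (c : ∀ (n : ℕ) (x : Fin (n + 1) → ι), φ.obj (PD Y' n x) ≅ PD Y n x)
  (hthin : ∀ a b : D, Subsingleton (a ⟶ b))
  (P : Dᵒᵖ ⥤ AddCommGrpCat.{u})

noncomputable def PhiN (n : ℕ) :
    (Yc Y P).obj ⦋n⦌ ⟶ (Yc Y' (φ.op ⋙ P)).obj ⦋n⦌ :=
  Limits.Pi.map (f := fun x : Fin (n + 1) → ι => P.obj (op (PD Y n x)))
    (g := fun x : Fin (n + 1) → ι => (φ.op ⋙ P).obj (op (PD Y' n x)))
    (fun x => P.map (c n x).hom.op)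

theorem PhiN_pr (n : ℕ) (x : Fin (n + 1) → ι) :
    PhiN φ Y' Y c P n ≫ pr Y' (φ.op ⋙ P) n x = pr Y P n x ≫ P.map (c n x).hom.op :=
  Limits.Pi.map_π _ x

instance PhiN_iso (n : ℕ) : IsIso (PhiN φ Y' Y c P n) := by
  haveI : ∀ x : Fin (n + 1) → ι, IsIso (P.map (c n x).hom.op) := fun x => inferInstance
  exact @Limits.Pi.map_isIso (Fin (n + 1) → ι) AddCommGrpCat.{u} _
    (fun x => P.obj (op (PD Y n x)))
    (fun x => (φ.op ⋙ P).obj (op (PD Y' n x))) _
    (fun x => P.map (c n x).hom.op) (fun x => this x)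

include hthin in
theorem Phi_nat {n m : ℕ} (θ : ⦋n⦌ ⟶ ⦋m⦌) :
    (Yc Y P).map θ ≫ PhiN φ Y' Y c P m =
      PhiN φ Y' Y c P n ≫ (Yc Y' (φ.op ⋙ P)).map θ := by
  apply pr_ext Y' (φ.op ⋙ P)
  intro y
  have e1 : ((Yc Y P).map θ ≫ PhiN φ Y' Y c P m) ≫ pr Y' (φ.op ⋙ P) m y =
      pr Y P n (y ∘ θ.toOrderHom) ≫ (P.map (tr Y θ y).op ≫ P.map (c m y).hom.op) :=
    (Category.assoc _ _ _).trans
      ((congrArg (fun t => (Yc Y P).map θ ≫ t) (PhiN_pr φ Y' Y c P m y)).trans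
        ((Category.assoc _ _ _).symm.trans
          ((congrArg (fun t => t ≫ P.map (c m y).hom.op) (Ymap_pr Y P θ y)).trans
            (Category.assoc _ _ _))))
  have e2 : (PhiN φ Y' Y c P n ≫ (Yc Y' (φ.op ⋙ P)).map θ) ≫ pr Y' (φ.op ⋙ P) m y =
      pr Y P n (y ∘ θ.toOrderHom) ≫
        (P.map (c n (y ∘ θ.toOrderHom)).hom.op ≫ (φ.op ⋙ P).map (tr Y' θ y).op) :=
    (Category.assoc _ _ _).trans
      ((congrArg (fun t => PhiN φ Y' Y c P n ≫ t) (Ymap_pr Y' (φ.op ⋙ P) θ y)).trans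
        ((Category.assoc _ _ _).symm.trans
          ((congrArg (fun t => t ≫ (φ.op ⋙ P).map (tr Y' θ y).op)
            (PhiN_pr φ Y' Y c P n (y ∘ θ.toOrderHom))).trans (Category.assoc _ _ _))))
  have e3 : P.map (tr Y θ y).op ≫ P.map (c m y).hom.op =
      P.map (c n (y ∘ θ.toOrderHom)).hom.op ≫ (φ.op ⋙ P).map (tr Y' θ y).op := by
    have h1 : P.map (tr Y θ y).op ≫ P.map (c m y).hom.op =
        P.map ((c m y).hom ≫ tr Y θ y).op := by
      rw [op_comp, Functor.map_comp]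
    have h2 : P.map (c n (y ∘ θ.toOrderHom)).hom.op ≫ (φ.op ⋙ P).map (tr Y' θ y).op =
        P.map (φ.map (tr Y' θ y) ≫ (c n (y ∘ θ.toOrderHom)).hom).op := by
      rw [op_comp, Functor.map_comp]
      rfl
    rw [h1, h2]
    exact congrArg (fun t => P.map t.op) ((hthin _ _).elim _ _)
  exact e1.trans ((congrArg (fun t => pr Y P n (y ∘ θ.toOrderHom) ≫ t) e3).trans e2.symm)

include c hthin in
noncomputable def PhiC : Yc Y P ⟶ Yc Y' (φ.op ⋙ P) where
  app Δ := PhiN φ Y' Y c P Δ.len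
  naturality Δ Δ' f := Phi_nat φ Y' Y c hthin P (n := Δ.len) (m := Δ'.len) f

include c hthin in
theorem cech_iso (p : ℕ) (h : IsZero ((KK Y' (φ.op ⋙ P)).homology p)) :
    IsZero ((KK Y P).homology p) := by
  haveI : ∀ Δ, IsIso ((PhiC φ Y' Y c hthin P).app Δ) := fun Δ =>
    (inferInstance : IsIso (PhiN φ Y' Y c P Δ.len))
  haveI : IsIso (PhiC φ Y' Y c hthin P) := NatIso.isIso_of_isIso_app _
  let e := asIso ((AlgebraicTopology.alternatingCofaceMapComplex AddCommGrpCat.{u}).map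
    (PhiC φ Y' Y c hthin P))
  let eh := (HomologicalComplex.homologyFunctor AddCommGrpCat.{u} _ p).mapIso e
  exact IsZero.of_iso h eh

end cmp

section top

theorem map_cont {Y Z : TopCat.{u}} (f : Y ⟶ Z) :
    (Opens.map f).IsContinuous (Opens.grothendieckTopology Z) (Opens.grothendieckTopology Y) :=
  inferInstance

variable {X : TopCat.{u}} {ι : Type u} (U : ι → Opens X)

/-- the coarse topology generated by the `U i` -/
@[reducible] def tauU : TopologicalSpace X :=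
  TopologicalSpace.generateFrom (Set.range fun i => ((U i : Opens X) : Set X))

abbrev XU : TopCat.{u} := @TopCat.of X (tauU U)

theorem cont_id : @Continuous X X _ (tauU U) id :=
  continuous_generateFrom_iff.2 (by rintro _ ⟨i, rfl⟩; exact (U i).isOpen)

noncomputable def piU : X ⟶ XU U :=
  @TopCat.ofHom X X _ (tauU U) (@ContinuousMap.mk X X _ (tauU U) id (cont_id U))

def UU (i : ι) : Opens (XU U) :=
  ⟨((U i : Opens X) : Set X), TopologicalSpace.isOpen_generateFrom_of_mem ⟨i, rfl⟩⟩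

abbrev inclW : TopCat.of (iSup U : Opens X) ⟶ X :=
  TopCat.ofHom ⟨Subtype.val, continuous_subtype_val⟩

theorem hW : Topology.IsOpenEmbedding (TopCat.Hom.hom (inclW U)) :=
  (iSup U : Opens X).isOpenEmbedding

noncomputable abbrev phiU : Opens (XU U) ⥤ Opens X :=
  Opens.map (piU U) ⋙ Opens.map (inclW U) ⋙ (hW U).isOpenMap.functor

theorem mem_phi {V : Opens (XU U)} {y : X} :
    y ∈ (phiU U).obj V ↔ (∃ i, y ∈ U i) ∧ y ∈ V.1 := by
  constructor
  · rintro ⟨⟨z, hz⟩, hzV, rfl⟩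
    exact ⟨Opens.mem_iSup.1 hz, hzV⟩
  · rintro ⟨h1, h2⟩
    exact ⟨⟨y, Opens.mem_iSup.2 h1⟩, h2, rfl⟩

abbrev IsB' (V : Set X) : Prop :=
  ∃ (κ : Type u) (a : κ → Σ p : ℕ, Fin (p + 1) → ι),
    V = ⋃ k, ⋂ j, ((U ((a k).2 j) : Opens X) : Set X)

theorem mem_of_eq {V : Set X} {κ : Type u} {a : κ → Σ p : ℕ, Fin (p + 1) → ι}
    (e : V = ⋃ k, ⋂ j, ((U ((a k).2 j) : Opens X) : Set X)) (y : X) :
    y ∈ V ↔ ∃ k, ∀ j, y ∈ U ((a k).2 j) := by
  rw [e]
  constructor
  · intro hy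
    obtain ⟨k, hk⟩ := Set.mem_iUnion.1 hy
    exact ⟨k, fun j => Set.mem_iInter.1 hk j⟩
  · rintro ⟨k, hk⟩
    exact Set.mem_iUnion.2 ⟨k, Set.mem_iInter.2 hk⟩

theorem isB'_of_mem {V : Set X} (κ : Type u) (a : κ → Σ p : ℕ, Fin (p + 1) → ι)
    (hm : ∀ y, y ∈ V ↔ ∃ k, ∀ j, y ∈ U ((a k).2 j)) : IsB' U V := by
  refine ⟨κ, a, Set.ext fun y => (hm y).trans ?_⟩
  constructor
  · rintro ⟨k, hk⟩
    exact Set.mem_iUnion.2 ⟨k, Set.mem_iInter.2 hk⟩
  · intro hy
    obtain ⟨k, hk⟩ := Set.mem_iUnion.1 hy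
    exact ⟨k, fun j => Set.mem_iInter.1 hk j⟩

theorem gen_isB (V : Set X)
    (hV : TopologicalSpace.GenerateOpen (Set.range fun i => ((U i : Opens X) : Set X)) V) :
    IsB' U (V ∩ {y | ∃ i, y ∈ U i}) := by
  induction hV with
  | basic s hs =>
    obtain ⟨i, rfl⟩ := hs
    refine isB'_of_mem U PUnit.{u + 1} (fun _ => ⟨0, fun _ => i⟩) (fun y => ?_)
    constructor
    · intro hy
      exact ⟨PUnit.unit, fun _ => hy.1⟩
    · rintro ⟨_, hk⟩
      exact ⟨hk 0, ⟨i, hk 0⟩⟩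
  | univ =>
    refine isB'_of_mem U ι (fun i => ⟨0, fun _ => i⟩) (fun y => ?_)
    constructor
    · intro hy
      obtain ⟨i, hi⟩ := hy.2
      exact ⟨i, fun _ => hi⟩
    · rintro ⟨i, hi⟩
      exact ⟨trivial, ⟨i, hi 0⟩⟩
  | inter s t _ _ ihs iht =>
    obtain ⟨κ, a, ea⟩ := ihs
    obtain ⟨l, b, eb⟩ := iht
    refine isB'_of_mem U (κ × l)
      (fun kl => ⟨(a kl.1).1 + 1 + (b kl.2).1,
        (Fin.append (m := (a kl.1).1 + 1) (n := (b kl.2).1 + 1) (a kl.1).2 (b kl.2).2 :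
          Fin ((a kl.1).1 + 1 + ((b kl.2).1 + 1)) → ι)⟩) (fun y => ?_)
    constructor
    · intro hy
      obtain ⟨k, hk⟩ := (mem_of_eq U ea y).1 ⟨hy.1.1, hy.2⟩
      obtain ⟨k', hk'⟩ := (mem_of_eq U eb y).1 ⟨hy.1.2, hy.2⟩
      have key : ∀ j : Fin ((a k).1 + 1 + ((b k').1 + 1)),
          y ∈ U (Fin.append (a k).2 (b k').2 j) :=
        Fin.addCases (motive := fun j => y ∈ U (Fin.append (a k).2 (b k').2 j))
          (fun j => by simpa only [Fin.append_left] using hk j)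
          (fun j => by simpa only [Fin.append_right] using hk' j)
      exact ⟨(k, k'), key⟩
    · rintro ⟨⟨k, k'⟩, hkk⟩
      have hkk' : ∀ j : Fin ((a k).1 + 1 + ((b k').1 + 1)),
          y ∈ U (Fin.append (a k).2 (b k').2 j) := hkk
      have h1 : y ∈ s ∩ {y | ∃ i, y ∈ U i} := (mem_of_eq U ea y).2 ⟨k, fun j => by
        have := hkk' (Fin.castAdd _ j)
        rwa [Fin.append_left] at this⟩
      have h2 : y ∈ t ∩ {y | ∃ i, y ∈ U i} := (mem_of_eq U eb y).2 ⟨k', fun j => by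
        have := hkk' (Fin.natAdd _ j)
        rwa [Fin.append_right] at this⟩
      exact ⟨⟨h1.1, h2.1⟩, h1.2⟩
  | sUnion S _ ih =>
    choose κ a ea using ih
    refine isB'_of_mem U (Σ s : S, κ s.1 s.2) (fun sk => a sk.1.1 sk.1.2 sk.2) (fun y => ?_)
    constructor
    · intro hy
      obtain ⟨s, hs, hys⟩ := hy.1
      obtain ⟨k, hk⟩ := (mem_of_eq U (ea s hs) y).1 ⟨hys, hy.2⟩
      exact ⟨⟨⟨s, hs⟩, k⟩, hk⟩
    · rintro ⟨⟨⟨s, hs⟩, k⟩, hk⟩
      have h1 := (mem_of_eq U (ea s hs) y).2 ⟨k, hk⟩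
      exact ⟨⟨s, hs, h1.1⟩, h1.2⟩

theorem isBO (V : Opens (XU U)) :
    ∃ (κ : Type u) (a : κ → Σ p : ℕ, Fin (p + 1) → ι),
      (phiU U).obj V = ⨆ k, ⨅ j, U ((a k).2 j) := by
  have hg : TopologicalSpace.GenerateOpen (Set.range fun i => ((U i : Opens X) : Set X)) V.1 :=
    V.2
  obtain ⟨κ, a, e⟩ := gen_isB U V.1 hg
  refine ⟨κ, a, Opens.ext ?_⟩
  have e1 : (((phiU U).obj V : Opens X) : Set X) = V.1 ∩ {y | ∃ i, y ∈ U i} := by
    ext y
    exact (mem_phi U).trans ⟨fun h => Set.mem_inter h.2 h.1, fun h => ⟨h.2, h.1⟩⟩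
  have e2 : ((⨆ k, ⨅ j, U ((a k).2 j) : Opens X) : Set X) =
      ⋃ k, ⋂ j, ((U ((a k).2 j) : Opens X) : Set X) := by
    rw [Opens.coe_iSup]
    simp only [Opens.coe_iInf]
  exact e1.trans (e.trans e2.symm)

theorem phi_le (i : ι) : (phiU U).obj (UU U i) ≤ U i :=
  SetLike.coe_subset_coe.1 (fun y hy => ((mem_phi U).1 hy).2)

theorem phi_leW (V : Opens (XU U)) : (phiU U).obj V ≤ iSup U :=
  SetLike.coe_subset_coe.1 (fun y hy => Opens.mem_iSup.2 ((mem_phi U).1 hy).1)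

noncomputable def cmpHom (n : ℕ) (x : Fin (n + 1) → ι) :
    (phiU U).obj (PD (UU U) n x) ⟶ PD U n x :=
  Limits.Pi.lift (fun k => (phiU U).map (Limits.Pi.π (UU U ∘ x) k) ≫ homOfLE (phi_le U (x k)))

theorem cmp_le (n : ℕ) (x : Fin (n + 1) → ι) : PD U n x ≤ (phiU U).obj (PD (UU U) n x) := by
  refine SetLike.coe_subset_coe.1 (fun y hy => ?_)
  have hyk : ∀ k, y ∈ U (x k) := fun k => (leOfHom (Limits.Pi.π (U ∘ x) k)) hy
  let A' : Opens (XU U) := ⟨⋂ k, ((U (x k) : Opens X) : Set X),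
    isOpen_iInter_of_finite (fun k => (UU U (x k)).2)⟩
  have hA' : A' ≤ PD (UU U) n x :=
    leOfHom (Limits.Pi.lift (fun k => homOfLE (SetLike.coe_subset_coe.1 (Set.iInter_subset _ k))))
  have hyA : y ∈ A' := Set.mem_iInter.2 hyk
  exact (mem_phi U).2 ⟨⟨x 0, hyk 0⟩, hA' hyA⟩

noncomputable def cmpIso (n : ℕ) (x : Fin (n + 1) → ι) :
    (phiU U).obj (PD (UU U) n x) ≅ PD U n x where
  hom := cmpHom U n x
  inv := homOfLE (cmp_le U n x)
  hom_inv_id := Subsingleton.elim _ _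
  inv_hom_id := Subsingleton.elim _ _

variable (F : CohTop.Ab X)

noncomputable def G : CohTop.Ab (XU U) :=
  ⟨(phiU U).op ⋙ F.obj, by
    haveI h3 : ((hW U).isOpenMap.functor).IsContinuous
        (Opens.grothendieckTopology (TopCat.of (iSup U : Opens X)))
        (Opens.grothendieckTopology X) := (hW U).functor_isContinuous
    haveI h2 := map_cont (inclW U)
    haveI h1 := map_cont (piU U)
    haveI h23 := Functor.isContinuous_comp (Opens.map (inclW U)) (hW U).isOpenMap.functor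
      (Opens.grothendieckTopology X) (Opens.grothendieckTopology (TopCat.of (iSup U : Opens X)))
      (Opens.grothendieckTopology X)
    haveI h123 := Functor.isContinuous_comp (Opens.map (piU U))
      (Opens.map (inclW U) ⋙ (hW U).isOpenMap.functor)
      (Opens.grothendieckTopology (XU U)) (Opens.grothendieckTopology X)
      (Opens.grothendieckTopology X)
    exact Functor.op_comp_isSheaf (phiU U) _ _ F⟩

theorem G_flasque
    (h : ∀ (κ : Type u) (a : κ → Σ p : ℕ, Fin (p + 1) → ι),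
      Function.Surjective (F.obj.map (homOfLE
        (iSup_le fun k => (iInf_le _ ⟨0, Nat.succ_pos _⟩).trans (le_iSup U ((a k).2 ⟨0, Nat.succ_pos _⟩)) :
          (⨆ k, ⨅ j, U ((a k).2 j)) ≤ iSup U)).op)) :
    TopCat.Sheaf.IsFlasque (G U F) := by
  have surj : ∀ (V : Opens X) (hV : ∃ (κ : Type u) (a : κ → Σ p : ℕ, Fin (p + 1) → ι),
      V = ⨆ k, ⨅ j, U ((a k).2 j)) (hle : V ≤ iSup U),
      Function.Surjective (F.obj.map (homOfLE hle).op) := by
    intro V hV hle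
    obtain ⟨κ, a, rfl⟩ := hV
    exact h κ a
  constructor
  intro V₁ V₂ i
  refine (AddCommGrpCat.epi_iff_surjective _).mpr (fun s => ?_)
  obtain ⟨t, ht⟩ := surj _ (isBO U V₂.unop) (phi_leW U V₂.unop) s
  refine ⟨(F.obj.map (homOfLE (phi_leW U V₁.unop)).op) t, ?_⟩
  have e : F.obj.map (homOfLE (phi_leW U V₁.unop)).op ≫ (G U F).obj.map i =
      F.obj.map (homOfLE (phi_leW U V₂.unop)).op := by
    change F.obj.map (homOfLE (phi_leW U V₁.unop)).op ≫ F.obj.map ((phiU U).map i.unop).op = _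
    rw [← F.obj.map_comp, ← op_comp]
    exact congrArg (fun t : (phiU U).obj V₂.unop ⟶ iSup U => F.obj.map t.op)
      (Subsingleton.elim _ _)
  exact (hom_congr_apply e t).trans ht

theorem main
    (h : ∀ (κ : Type u) (a : κ → Σ p : ℕ, Fin (p + 1) → ι),
      Function.Surjective (F.obj.map (homOfLE
        (iSup_le fun k => (iInf_le _ ⟨0, Nat.succ_pos _⟩).trans (le_iSup U ((a k).2 ⟨0, Nat.succ_pos _⟩)) :
          (⨆ k, ⨅ j, U ((a k).2 j)) ≤ iSup U)).op)) (p : ℕ) :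
    IsZero (CohTop.cechH F.obj U (p + 1)) := by
  haveI : TopCat.Sheaf.IsFlasque (G U F) := G_flasque U F h
  have hz : IsZero (CohTop.cechH (G U F).obj (UU U) (p + 1)) :=
    Groth.Agent.S0455.main (G U F) (UU U) p
  exact cech_iso (phiU U) (UU U) U (cmpIso U) (fun _ _ => inferInstance) F.obj (p + 1) hz

end top

end helpers

open TopologicalSpace Opposite CategoryTheory.Limits in
/-- Let F be an abelian sheaf on X and U_i a family of opens with union U. Assume that for every union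
U' of opens of the form U_{i_0} ∩ ... ∩ U_{i_p} the restriction map F(U) -> F(U') is surjective.
Then the Cech cohomology of F with respect to the family vanishes in all positive degrees. -/
theorem result {X : TopCat.{u}} (F : CohTop.Ab X)
    {ι : Type u} (U : ι → Opens X)
    (h : ∀ (κ : Type u) (a : κ → Σ p : ℕ, Fin (p + 1) → ι),
      Function.Surjective (F.obj.map (homOfLE
        (iSup_le fun k => (iInf_le _ ⟨0, Nat.succ_pos _⟩).trans (le_iSup U ((a k).2 ⟨0, Nat.succ_pos _⟩)) :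
          (⨆ k, ⨅ j, U ((a k).2 j)) ≤ iSup U)).op)) (p : ℕ) :
    IsZero (CohTop.cechH F.obj U (p + 1)) := by
  exact Groth.Agent.S0901.main U F h p

end Groth.Agent.S0901
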