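import Groth.Statements.S0904
import Mathlib

set_option autoImplicit false
universe u
open CategoryTheory
open CohTop

namespace Groth.Agent.S0904

set_option synthInstance.maxHeartbeats 100000 in
open CategoryTheory TopologicalSpace in
theorem pull_pfl {X Y : TopCat.{u}} (f : X ⟶ Y) :
    Limits.PreservesFiniteLimits (CohTop.pull f) := by
  unfold CohTop.pull TopCat.Sheaf.pullback
  haveI : Limits.PreservesFiniteLimits ((Opens.map f).op.lan : (_ ⥤ _ ⥤ AddCommGrpCat.{u})) := by
    infer_instance
  exact CategoryTheory.Functor.sheafPullbackConstruction.preservesFiniteLimits _ _ _ _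

/-- Abelian sheaves, for which every continuous map is flat: for a continuous map f : X -> Y and an
injective abelian sheaf I on X, the direct image f_* I is an injective abelian sheaf on Y. -/
theorem result {X Y : TopCat.{u}} (f : X ⟶ Y) (I : CohTop.Ab X) [Injective I] :
    Injective ((CohTop.push f).obj I) := by
  haveI : Limits.PreservesFiniteLimits (CohTop.pull f) := Groth.Agent.S0904.pull_pfl f
  have hm : (CohTop.pull f).PreservesMonomorphisms :=
    CategoryTheory.preservesMonomorphisms_of_preservesLimitsOfShape _
  exact @Injective.injective_of_adjoint _ _ _ _ (CohTop.pull f) (CohTop.push f) hm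
    (TopCat.Sheaf.pullbackPushforwardAdjunction _ f) I ‹_›

end Groth.Agent.S0904
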