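import Groth.Statements.S0905
import Groth.Agent.H10.CohSiteC
import Mathlib

set_option autoImplicit false
universe u
open CategoryTheory
open CohSite

namespace Groth.Agent.S0905

open Opposite CategoryTheory.Limits in
/-- Parts (1) and (2), for a weakly contractible object U of a site (one over which every epimorphism of
sheaves of sets is surjective on sections): (1) the functor F ↦ F(U) from abelian sheaves to abelian
groups preserves finite colimits (it is exact, finite limits being automatic), and (2) H^p(U, F) = 0
for every abelian sheaf F and every p > 0. (Part (3) about torsors is not included.) -/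
theorem result {C : Type u} [SmallCategory C] (J : GrothendieckTopology C)
    (U : C) (hU : CohSite.IsWeaklyContractible J U) :
    PreservesFiniteColimits (sheafToPresheaf J AddCommGrpCat.{u} ⋙ (evaluation Cᵒᵖ AddCommGrpCat.{u}).obj (op U)) ∧
    ∀ (F : Sheaf J AddCommGrpCat.{u}) (p : ℕ), Subsingleton (CohSite.HU F (p + 1) U) := by
  constructor
  · have hpl : PreservesLimits (sheafToPresheaf J AddCommGrpCat.{u}) :=
      (sheafificationAdjunction J AddCommGrpCat.{u}).rightAdjoint_preservesLimits
    have hfl : PreservesFiniteLimits (sheafToPresheaf J AddCommGrpCat.{u}) := inferInstance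
    have hfl2 : PreservesFiniteLimits (sheafToPresheaf J AddCommGrpCat.{u} ⋙
        (evaluation Cᵒᵖ AddCommGrpCat.{u}).obj (op U)) := inferInstance
    have h0 := ((Functor.preservesFiniteLimits_tfae (sheafToPresheaf J AddCommGrpCat.{u} ⋙
        (evaluation Cᵒᵖ AddCommGrpCat.{u}).obj (op U))).out 3 0).mp hfl2
    refine ((Functor.preservesFiniteColimits_tfae (sheafToPresheaf J AddCommGrpCat.{u} ⋙
        (evaluation Cᵒᵖ AddCommGrpCat.{u}).obj (op U))).out 0 3).mp ?_
    intro S hS
    refine ⟨(h0 S hS).1, ?_⟩
    have := hS.epi_g
    exact (AddCommGrpCat.epi_iff_surjective _).mpr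
      (Groth.Agent.H10.CohSiteA.surj_of_wc J U hU S.g)
  · intro F p
    have hP := Groth.Agent.H10.CohSiteA.projective_free_of_wc J U hU
    refine ⟨fun x y => ?_⟩
    have hx : ∀ z : Abelian.Ext.{u} ((Groth.Agent.H10.CohSiteA.freeFunctor J).obj U) F (p + 1),
        z = 0 := fun z => Abelian.Ext.eq_zero_of_projective z
    exact (hx x).trans (hx y).symm

end Groth.Agent.S0905
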