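import Groth.Statements.S6161
import Mathlib

set_option autoImplicit false
universe u
open CategoryTheory
open CohSite

namespace Groth.Agent.S6161

section helpers

open CategoryTheory CategoryTheory.Limits Opposite Simplicial AlgebraicTopology

variable {C : Type u} [SmallCategory C] {J : GrothendieckTopology C} {K' K : Sheaf J (Type u)}
  (f : K' ⟶ K)

noncomputable abbrev Xl : SimplicialObject (Sheaf J (Type u)) := (Arrow.mk f).cechNerve

noncomputable abbrev EU (U : Cᵒᵖ) : Sheaf J (Type u) ⥤ Type u :=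
  sheafToPresheaf J (Type u) ⋙ (evaluation Cᵒᵖ (Type u)).obj U

abbrev Dg (n : ℕ) : WidePullbackShape (Fin (n + 1)) ⥤ Sheaf J (Type u) :=
  WidePullbackShape.wideCospan K (fun _ : Fin (n + 1) => K') (fun _ => f)

noncomputable def hlim (n : ℕ) (U : Cᵒᵖ) : IsLimit ((EU U).mapCone (limit.cone (Dg f n))) := by
  haveI : PreservesLimitsOfSize.{0, 0} (sheafToPresheaf J (Type u)) :=
    (sheafificationAdjunction J (Type u)).rightAdjoint_preservesLimits
  exact isLimitOfPreserves (EU U) (limit.isLimit (Dg f n))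

abbrev Xn (n : ℕ) (U : Cᵒᵖ) : Type u := ((Xl f).obj (op ⦋n⦌)).obj.obj U

noncomputable def pU (n : ℕ) (U : Cᵒᵖ) (i : Fin (n + 1)) (a : Xn f n U) : K'.obj.obj U :=
  ((limit.π (Dg f n) (some i)).hom.app U) a

noncomputable def bU (n : ℕ) (U : Cᵒᵖ) (a : Xn f n U) : K.obj.obj U :=
  ((limit.π (Dg f n) none).hom.app U) a

theorem compat (n : ℕ) (U : Cᵒᵖ) (i : Fin (n + 1)) (a : Xn f n U) :
    f.hom.app U (pU f n U i a) = bU f n U a := by
  have h := limit.w (Dg f n) (WidePullbackShape.Hom.term i)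
  have h2 := congrArg (fun φ => φ.hom.app U) h
  exact ConcreteCategory.congr_hom h2 a

theorem ext_elt (n : ℕ) (U : Cᵒᵖ) (a a' : Xn f n U) (hp : ∀ i, pU f n U i a = pU f n U i a')
    (hb : bU f n U a = bU f n U a') : a = a' := by
  apply (Types.isLimitEquivSections (hlim f n U)).injective
  apply Subtype.ext
  funext j
  cases j with
  | none => exact hb
  | some i => exact hp i

noncomputable def mkElt (n : ℕ) (U : Cᵒᵖ) (b : K.obj.obj U) (x : Fin (n + 1) → K'.obj.obj U)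
    (h : ∀ i, f.hom.app U (x i) = b) : Xn f n U :=
  (Types.isLimitEquivSections (hlim f n U)).symm
    ⟨fun j => Option.rec (motive := fun j => ((Dg f n) ⋙ EU U).obj j) b (fun i => x i) j, by
      intro j j' g
      change WidePullbackShape.Hom j j' at g
      cases g with
      | id =>
        have e : (Dg f n ⋙ EU U).map (𝟙 j) = 𝟙 _ := CategoryTheory.Functor.map_id _ _
        exact ConcreteCategory.congr_hom e _
      | term i => exact h i⟩

theorem pU_mk (n : ℕ) (U : Cᵒᵖ) (b : K.obj.obj U) (x : Fin (n + 1) → K'.obj.obj U)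
    (h : ∀ i, f.hom.app U (x i) = b) (i : Fin (n + 1)) :
    pU f n U i (mkElt f n U b x h) = x i :=
  Types.isLimitEquivSections_symm_apply (hlim f n U) _ (some i)

theorem bU_mk (n : ℕ) (U : Cᵒᵖ) (b : K.obj.obj U) (x : Fin (n + 1) → K'.obj.obj U)
    (h : ∀ i, f.hom.app U (x i) = b) :
    bU f n U (mkElt f n U b x h) = b :=
  Types.isLimitEquivSections_symm_apply (hlim f n U) _ none

/-- action of simplicial maps on projections -/
theorem pU_map {n m : ℕ} (θ : ⦋m⦌ ⟶ ⦋n⦌) (U : Cᵒᵖ) (i : Fin (m + 1)) (a : Xn f n U) :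
    pU f m U i (((Xl f).map θ.op).hom.app U a) = pU f n U (θ.toOrderHom i) a := by
  have h : (Xl f).map θ.op ≫ limit.π (Dg f m) (some i) = limit.π (Dg f n) (some (θ.toOrderHom i)) :=
    WidePullback.lift_π _ _ _ _ _
  have h2 := congrArg (fun φ => φ.hom.app U) h
  exact ConcreteCategory.congr_hom h2 a

theorem bU_map {n m : ℕ} (θ : ⦋m⦌ ⟶ ⦋n⦌) (U : Cᵒᵖ) (a : Xn f n U) :
    bU f m U (((Xl f).map θ.op).hom.app U a) = bU f n U a := by
  have h : (Xl f).map θ.op ≫ limit.π (Dg f m) none = limit.π (Dg f n) none :=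
    WidePullback.lift_base _ _ _ _
  have h2 := congrArg (fun φ => φ.hom.app U) h
  exact ConcreteCategory.congr_hom h2 a

/-! ### Stage 2: local contracting homotopy on sections -/

noncomputable def sec (U : Cᵒᵖ) (b : K.obj.obj U) (h : ∃ x : K'.obj.obj U, f.hom.app U x = b) :
    K'.obj.obj U := Classical.choose h

theorem sec_spec (U : Cᵒᵖ) (b : K.obj.obj U) (h : ∃ x : K'.obj.obj U, f.hom.app U x = b) :
    f.hom.app U (sec f U b h) = b := Classical.choose_spec h

theorem sec_congr (U : Cᵒᵖ) {b b' : K.obj.obj U} (hb : b = b')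
    (h : ∃ x : K'.obj.obj U, f.hom.app U x = b) (h' : ∃ x : K'.obj.obj U, f.hom.app U x = b') :
    sec f U b h = sec f U b' h' := by
  subst hb; rfl

theorem hsec (n : ℕ) (U : Cᵒᵖ) (a : Xn f n U) :
    ∃ x : K'.obj.obj U, f.hom.app U x = bU f n U a :=
  ⟨pU f n U 0 a, compat f n U 0 a⟩

noncomputable def sgx (n : ℕ) (U : Cᵒᵖ) (a : Xn f n U) : Fin (n + 1 + 1) → K'.obj.obj U :=
  @Fin.cons (n + 1) (fun _ => K'.obj.obj U) (sec f U (bU f n U a) (hsec f n U a))
    (fun i => pU f n U i a)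

theorem sgx_zero (n : ℕ) (U : Cᵒᵖ) (a : Xn f n U) :
    sgx f n U a 0 = sec f U (bU f n U a) (hsec f n U a) := Fin.cons_zero _ _

theorem sgx_succ (n : ℕ) (U : Cᵒᵖ) (a : Xn f n U) (i : Fin (n + 1)) :
    sgx f n U a i.succ = pU f n U i a := Fin.cons_succ _ _ _

noncomputable def sg (n : ℕ) (U : Cᵒᵖ) (a : Xn f n U) : Xn f (n + 1) U :=
  mkElt f (n + 1) U (bU f n U a) (sgx f n U a) (by
    intro i
    induction i using Fin.cases with
    | zero => rw [sgx_zero]; exact sec_spec f U _ _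
    | succ j => rw [sgx_succ]; exact compat f n U j a)

theorem pU_sg_zero (n : ℕ) (U : Cᵒᵖ) (a : Xn f n U) :
    pU f (n + 1) U 0 (sg f n U a) = sec f U (bU f n U a) (hsec f n U a) :=
  (pU_mk f (n + 1) U _ _ _ 0).trans (sgx_zero f n U a)

theorem pU_sg_succ (n : ℕ) (U : Cᵒᵖ) (a : Xn f n U) (i : Fin (n + 1)) :
    pU f (n + 1) U i.succ (sg f n U a) = pU f n U i a :=
  (pU_mk f (n + 1) U _ _ _ i.succ).trans (sgx_succ f n U a i)

theorem bU_sg (n : ℕ) (U : Cᵒᵖ) (a : Xn f n U) : bU f (n + 1) U (sg f n U a) = bU f n U a :=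
  bU_mk f (n + 1) U _ _ _

theorem δ_apply {n : ℕ} (i : Fin (n + 2)) (j : Fin (n + 1)) :
    (SimplexCategory.δ i).toOrderHom j = i.succAbove j := rfl

theorem sg_d0 (n : ℕ) (U : Cᵒᵖ) (a : Xn f n U) :
    ((Xl f).map (SimplexCategory.δ (0 : Fin (n + 2))).op).hom.app U (sg f n U a) = a := by
  apply ext_elt
  · intro i
    rw [pU_map, δ_apply, Fin.zero_succAbove]
    exact pU_sg_succ f n U a i
  · rw [bU_map]; exact bU_sg f n U a

theorem sg_dsucc (n : ℕ) (U : Cᵒᵖ) (i : Fin (n + 2)) (a : Xn f (n + 1) U) :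
    ((Xl f).map (SimplexCategory.δ i.succ).op).hom.app U (sg f (n + 1) U a) =
      sg f n U (((Xl f).map (SimplexCategory.δ i).op).hom.app U a) := by
  apply ext_elt
  · intro j
    rw [pU_map, δ_apply]
    induction j using Fin.cases with
    | zero =>
      rw [Fin.succ_succAbove_zero, pU_sg_zero, pU_sg_zero]
      exact sec_congr f U (bU_map f _ U a).symm _ _
    | succ j =>
      rw [Fin.succ_succAbove_succ, pU_sg_succ, pU_sg_succ, pU_map, δ_apply]
  · rw [bU_map, bU_sg, bU_sg, bU_map]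

noncomputable def mk0 (U : Cᵒᵖ) (x : K'.obj.obj U) : Xn f 0 U :=
  mkElt f 0 U (f.hom.app U x) (fun _ => x) (fun _ => rfl)

theorem pU_mk0 (U : Cᵒᵖ) (x : K'.obj.obj U) (j : Fin (0 + 1)) : pU f 0 U j (mk0 f U x) = x :=
  pU_mk f 0 U _ _ _ j

theorem bU_mk0 (U : Cᵒᵖ) (x : K'.obj.obj U) : bU f 0 U (mk0 f U x) = f.hom.app U x :=
  bU_mk f 0 U _ _ _

theorem sg_d1_zero (U : Cᵒᵖ) (a : Xn f 0 U) :
    ((Xl f).map (SimplexCategory.δ (1 : Fin 2)).op).hom.app U (sg f 0 U a) =
      mk0 f U (sec f U (bU f 0 U a) (hsec f 0 U a)) := by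
  apply ext_elt
  · intro j
    have hj : j = 0 := Fin.fin_one_eq_zero j
    subst hj
    rw [pU_map, δ_apply]
    have e1 : (1 : Fin 2).succAbove (0 : Fin 1) = 0 := by decide
    rw [e1, pU_sg_zero, pU_mk0]
  · rw [bU_map, bU_sg, bU_mk0, sec_spec]

open Classical in
noncomputable def rho (U : Cᵒᵖ) (hne : Nonempty (Xn f 0 U)) (b : K.obj.obj U) : Xn f 0 U :=
  if h : ∃ x : K'.obj.obj U, f.hom.app U x = b then mk0 f U (sec f U b h) else Classical.choice hne

open Classical in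
theorem rho_spec (U : Cᵒᵖ) (hne : Nonempty (Xn f 0 U)) (a : Xn f 0 U) :
    rho f U hne (bU f 0 U a) = mk0 f U (sec f U (bU f 0 U a) (hsec f 0 U a)) :=
  dif_pos (hsec f 0 U a)

noncomputable def bs : (Xl f).obj (op ⦋0⦌) ⟶ K :=
  (Arrow.mk f).augmentedCechNerve.hom.app (op ⦋0⦌)

theorem sg_d0' (n : ℕ) (U : Cᵒᵖ) :
    (↾(sg f n U) : Xn f n U ⟶ Xn f (n + 1) U) ≫
      ((Xl f).map (SimplexCategory.δ (0 : Fin (n + 2))).op).hom.app U = 𝟙 _ := by
  apply ConcreteCategory.hom_ext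
  intro a
  exact sg_d0 f n U a

theorem sg_dsucc' (n : ℕ) (U : Cᵒᵖ) (i : Fin (n + 2)) :
    (↾(sg f (n + 1) U) : Xn f (n + 1) U ⟶ Xn f (n + 1 + 1) U) ≫
      ((Xl f).map (SimplexCategory.δ i.succ).op).hom.app U =
    ((Xl f).map (SimplexCategory.δ i).op).hom.app U ≫
      (↾(sg f n U) : Xn f n U ⟶ Xn f (n + 1) U) := by
  apply ConcreteCategory.hom_ext
  intro a
  exact sg_dsucc f n U i a

theorem sg_d1' (U : Cᵒᵖ) (hne : Nonempty (Xn f 0 U)) :
    (↾(sg f 0 U) : Xn f 0 U ⟶ Xn f (0 + 1) U) ≫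
      ((Xl f).map (SimplexCategory.δ (1 : Fin (0 + 2))).op).hom.app U =
    (bs f).hom.app U ≫ (↾(rho f U hne) : K.obj.obj U ⟶ Xn f 0 U) := by
  apply ConcreteCategory.hom_ext
  intro a
  exact (sg_d1_zero f U a).trans (rho_spec f U hne a).symm

/-! ### Stage 3: abelian level -/

theorem lemA {D : Type*} [Category D] [Preadditive D] (Z : SimplicialObject D)
    (s : ∀ n : ℕ, Z _⦋n⦌ ⟶ Z _⦋n + 1⦌)
    (h0 : ∀ n, s n ≫ Z.δ 0 = 𝟙 _)
    (hs : ∀ (n : ℕ) (i : Fin (n + 2)), s (n + 1) ≫ Z.δ i.succ = Z.δ i ≫ s n) (n : ℕ) :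
    s (n + 1) ≫ AlternatingFaceMapComplex.objD Z (n + 1) +
      AlternatingFaceMapComplex.objD Z n ≫ s n = 𝟙 _ := by
  have key : ∀ i : Fin (n + 2), ((-1 : ℤ) ^ (i.succ : ℕ)) • (Z.δ i ≫ s n) +
      ((-1 : ℤ) ^ (i : ℕ)) • (Z.δ i ≫ s n) = 0 := by
    intro i
    rw [Fin.val_succ, pow_succ, mul_neg_one, neg_smul, neg_add_cancel]
  simp only [AlternatingFaceMapComplex.objD]
  rw [Fin.sum_univ_succ (fun i : Fin (n + 1 + 2) => (-1 : ℤ) ^ (i : ℕ) • Z.δ i),
    Preadditive.comp_add, Preadditive.comp_sum, Preadditive.sum_comp]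
  simp only [Preadditive.comp_zsmul, Preadditive.zsmul_comp, hs, h0, Fin.val_zero, pow_zero,
    one_zsmul]
  rw [add_assoc, ← Finset.sum_add_distrib, Finset.sum_eq_zero (fun i _ => key i), add_zero]

theorem map_objD {D E : Type*} [Category D] [Category E] [Preadditive D] [Preadditive E]
    (F : D ⥤ E) [F.Additive] (X : SimplicialObject D) (n : ℕ) :
    F.map (AlternatingFaceMapComplex.objD X n) =
      AlternatingFaceMapComplex.objD (((SimplicialObject.whiskering _ _).obj F).obj X) n := by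
  simp only [AlternatingFaceMapComplex.objD, CategoryTheory.Functor.map_sum,
    CategoryTheory.Functor.map_zsmul]
  rfl

theorem ab_exact_of_homotopy (S : ShortComplex AddCommGrpCat.{u}) (s : S.X₂ ⟶ S.X₁)
    (t : S.X₃ ⟶ S.X₂) (h : s ≫ S.f + S.g ≫ t = 𝟙 _) : S.Exact := by
  rw [ShortComplex.ab_exact_iff]
  intro x hx
  refine ⟨s x, ?_⟩
  have h2 : S.f (s x) + t (S.g x) = x := ConcreteCategory.congr_hom h x
  rw [hx, map_zero, add_zero] at h2
  exact h2

theorem exact_of_objectwise (S : ShortComplex (Cᵒᵖ ⥤ AddCommGrpCat.{u}))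
    (h : ∀ U : Cᵒᵖ, (S.map ((evaluation Cᵒᵖ AddCommGrpCat.{u}).obj U)).Exact) : S.Exact := by
  rw [ShortComplex.exact_iff_isZero_homology, Functor.isZero_iff]
  intro U
  have h1 := (ShortComplex.exact_iff_isZero_homology _).1 (h U)
  exact IsZero.of_iso h1 (S.mapHomologyIso ((evaluation Cᵒᵖ AddCommGrpCat.{u}).obj U)).symm

theorem exact_of_eq {D : Type*} [Category D] [Limits.HasZeroMorphisms D] {A B E : D}
    {f₁ f₂ : A ⟶ B} {g₁ g₂ : B ⟶ E}
    (z₁ : f₁ ≫ g₁ = 0) (z₂ : f₂ ≫ g₂ = 0) (hf : f₁ = f₂) (hg : g₁ = g₂)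
    (h : (ShortComplex.mk f₁ g₁ z₁).Exact) : (ShortComplex.mk f₂ g₂ z₂).Exact := by
  subst hf hg; exact h

variable (J) in
noncomputable abbrev PF : Sheaf J (Type u) ⥤ (Cᵒᵖ ⥤ AddCommGrpCat.{u}) :=
  sheafToPresheaf J (Type u) ⋙
    (Functor.whiskeringRight Cᵒᵖ (Type u) AddCommGrpCat.{u}).obj AddCommGrpCat.free.{u}

noncomputable def XP : SimplicialObject (Cᵒᵖ ⥤ AddCommGrpCat.{u}) :=
  ((SimplicialObject.whiskering _ _).obj (PF J)).obj (Xl f)

noncomputable def ZU (U : Cᵒᵖ) : SimplicialObject AddCommGrpCat.{u} :=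
  ((SimplicialObject.whiskering _ _).obj ((evaluation Cᵒᵖ AddCommGrpCat.{u}).obj U)).obj (XP f)

noncomputable def SU (n : ℕ) (U : Cᵒᵖ) : (ZU f U) _⦋n⦌ ⟶ (ZU f U) _⦋n + 1⦌ :=
  AddCommGrpCat.free.map (↾(sg f n U))

noncomputable def EU0 (U : Cᵒᵖ) : (ZU f U) _⦋0⦌ ⟶ AddCommGrpCat.free.obj (K.obj.obj U) :=
  AddCommGrpCat.free.map ((bs f).hom.app U)

noncomputable def RU (U : Cᵒᵖ) (hne : Nonempty (Xn f 0 U)) :
    AddCommGrpCat.free.obj (K.obj.obj U) ⟶ (ZU f U) _⦋0⦌ :=
  AddCommGrpCat.free.map (↾(rho f U hne))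

theorem SU_d0 (n : ℕ) (U : Cᵒᵖ) : SU f n U ≫ (ZU f U).δ 0 = 𝟙 _ := by
  show AddCommGrpCat.free.map (↾(sg f n U)) ≫ AddCommGrpCat.free.map
    (((Xl f).map (SimplexCategory.δ (0 : Fin (n + 2))).op).hom.app U) =
      𝟙 (AddCommGrpCat.free.obj (Xn f n U))
  rw [← CategoryTheory.Functor.map_comp, sg_d0', CategoryTheory.Functor.map_id]

theorem SU_dsucc (n : ℕ) (U : Cᵒᵖ) (i : Fin (n + 2)) :
    SU f (n + 1) U ≫ (ZU f U).δ i.succ = (ZU f U).δ i ≫ SU f n U := by
  show AddCommGrpCat.free.map (↾(sg f (n + 1) U)) ≫ AddCommGrpCat.free.map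
      (((Xl f).map (SimplexCategory.δ i.succ).op).hom.app U) =
    AddCommGrpCat.free.map (((Xl f).map (SimplexCategory.δ i).op).hom.app U) ≫
      AddCommGrpCat.free.map (↾(sg f n U))
  rw [← CategoryTheory.Functor.map_comp, ← CategoryTheory.Functor.map_comp, sg_dsucc']

theorem SU_d1 (U : Cᵒᵖ) (hne : Nonempty (Xn f 0 U)) :
    SU f 0 U ≫ (ZU f U).δ (1 : Fin (0 + 2)) = EU0 f U ≫ RU f U hne := by
  show AddCommGrpCat.free.map (↾(sg f 0 U)) ≫ AddCommGrpCat.free.map
      (((Xl f).map (SimplexCategory.δ (1 : Fin (0 + 2))).op).hom.app U) =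
    AddCommGrpCat.free.map ((bs f).hom.app U) ≫ AddCommGrpCat.free.map (↾(rho f U hne))
  rw [← CategoryTheory.Functor.map_comp, ← CategoryTheory.Functor.map_comp, sg_d1']

theorem S0_homotopy (U : Cᵒᵖ) (hne : Nonempty (Xn f 0 U)) :
    SU f 0 U ≫ AlternatingFaceMapComplex.objD (ZU f U) 0 + EU0 f U ≫ RU f U hne = 𝟙 _ := by
  have h0 : SU f 0 U ≫ (ZU f U).δ (0 : Fin (0 + 2)) = 𝟙 _ := SU_d0 f 0 U
  have h1 := SU_d1 f U hne
  rw [AlternatingFaceMapComplex.objD, Fin.sum_univ_two, Preadditive.comp_add,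
    Preadditive.comp_zsmul, Preadditive.comp_zsmul, h0, h1]
  simp

theorem S0P_zero : AlternatingFaceMapComplex.objD (XP f) 0 ≫ (PF J).map (bs f) = 0 := by
  have hδ : ∀ i : Fin (0 + 2), (XP f).δ i ≫ (PF J).map (bs f) =
      (PF J).map ((Arrow.mk f).augmentedCechNerve.hom.app (op ⦋1⦌)) := by
    intro i
    have hn : (Xl f).map (SimplexCategory.δ i).op ≫ bs f =
        (Arrow.mk f).augmentedCechNerve.hom.app (op ⦋1⦌) :=
      ((Arrow.mk f).augmentedCechNerve.hom.naturality (SimplexCategory.δ i).op).trans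
        (Category.comp_id _)
    show (PF J).map ((Xl f).map (SimplexCategory.δ i).op) ≫ (PF J).map (bs f) = _
    rw [← CategoryTheory.Functor.map_comp, hn]
    rfl
  rw [AlternatingFaceMapComplex.objD, Preadditive.sum_comp]
  simp only [Preadditive.zsmul_comp, hδ]
  simp [Fin.sum_univ_two]

noncomputable def S0P : ShortComplex (Cᵒᵖ ⥤ AddCommGrpCat.{u}) :=
  ShortComplex.mk (AlternatingFaceMapComplex.objD (XP f) 0) ((PF J).map (bs f)) (S0P_zero f)

noncomputable def SP (n : ℕ) : ShortComplex (Cᵒᵖ ⥤ AddCommGrpCat.{u}) :=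
  ShortComplex.mk (AlternatingFaceMapComplex.objD (XP f) (n + 1))
    (AlternatingFaceMapComplex.objD (XP f) n) (AlternatingFaceMapComplex.d_squared (XP f) n)

theorem SP_exact (n : ℕ) : (SP f n).Exact := by
  apply exact_of_objectwise
  intro U
  refine ab_exact_of_homotopy _ (SU f (n + 1) U) (SU f n U) ?_
  have e1 : ((SP f n).map ((evaluation Cᵒᵖ AddCommGrpCat.{u}).obj U)).f =
      AlternatingFaceMapComplex.objD (ZU f U) (n + 1) :=
    map_objD ((evaluation Cᵒᵖ AddCommGrpCat.{u}).obj U) (XP f) (n + 1)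
  have e2 : ((SP f n).map ((evaluation Cᵒᵖ AddCommGrpCat.{u}).obj U)).g =
      AlternatingFaceMapComplex.objD (ZU f U) n :=
    map_objD ((evaluation Cᵒᵖ AddCommGrpCat.{u}).obj U) (XP f) n
  rw [e1, e2]
  exact lemA (ZU f U) (fun k => SU f k U) (fun k => SU_d0 f k U) (fun k i => SU_dsucc f k U i) n

theorem S0P_exact : (S0P f).Exact := by
  apply exact_of_objectwise
  intro U
  by_cases hne : Nonempty (Xn f 0 U)
  · refine ab_exact_of_homotopy _ (SU f 0 U) (RU f U hne) ?_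
    have e1 : ((S0P f).map ((evaluation Cᵒᵖ AddCommGrpCat.{u}).obj U)).f =
        AlternatingFaceMapComplex.objD (ZU f U) 0 :=
      map_objD ((evaluation Cᵒᵖ AddCommGrpCat.{u}).obj U) (XP f) 0
    rw [e1]
    exact S0_homotopy f U hne
  · rw [ShortComplex.ab_exact_iff]
    intro x _
    haveI : IsEmpty (Xn f 0 U) := not_nonempty_iff.1 hne
    exact ⟨0, Subsingleton.elim (α := FreeAbelianGroup (Xn f 0 U)) _ _⟩

theorem bs_epi [Epi f] : Epi (bs f) := by
  have h : WidePullback.lift (f : K' ⟶ K) (fun _ => 𝟙 K') (fun _ => Category.id_comp _) ≫ bs f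
      = f := WidePullback.lift_base _ _ _ _
  exact epi_of_epi_fac h

/-! ### Stage 4: assembly -/

noncomputable abbrev YS : SimplicialObject.Augmented (Sheaf J AddCommGrpCat.{u}) :=
  ((SimplicialObject.Augmented.whiskering _ _).obj
    (Sheaf.composeAndSheafify J AddCommGrpCat.free.{u})).obj (Arrow.mk f).augmentedCechNerve

theorem dK (n : ℕ) :
    (presheafToSheaf J AddCommGrpCat.{u}).map (AlternatingFaceMapComplex.objD (XP f) n) =
      ((alternatingFaceMapComplex (Sheaf J AddCommGrpCat.{u})).obj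
        (SimplicialObject.Augmented.drop.obj (YS f))).d (n + 1) n :=
  ((alternatingFaceMapComplex_obj_d _ n).trans
    (map_objD (presheafToSheaf J AddCommGrpCat.{u}) (XP f) n).symm).symm

theorem main [Epi f] :
    QuasiIso ((AlternatingFaceMapComplex.ε (C := Sheaf J AddCommGrpCat.{u})).app (YS f)) := by
  refine ⟨fun n => ?_⟩
  cases n with
  | zero =>
    have e2 : (presheafToSheaf J AddCommGrpCat.{u}).map ((PF J).map (bs f)) =
        ((AlternatingFaceMapComplex.ε (C := Sheaf J AddCommGrpCat.{u})).app (YS f)).f 0 :=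
      ((AlternatingFaceMapComplex.ε_app_f_zero (YS f)).trans (Category.comp_id _)).symm
    rw [ChainComplex.quasiIsoAt₀_iff, ShortComplex.quasiIso_iff_of_zeros']
    · constructor
      · exact exact_of_eq _ _ (dK f 0) e2
          ((S0P_exact f).map (presheafToSheaf J AddCommGrpCat.{u}))
      · haveI := bs_epi f
        have h3 : Epi ((Sheaf.composeAndSheafify J AddCommGrpCat.free.{u}).map (bs f)) :=
          inferInstance
        have h4 : Epi ((presheafToSheaf J AddCommGrpCat.{u}).map ((PF J).map (bs f))) := h3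
        rw [e2] at h4
        exact h4
    · exact HomologicalComplex.shape ((SimplicialObject.Augmented.drop ⋙
        alternatingFaceMapComplex (Sheaf J AddCommGrpCat.{u})).obj (YS f)) 0 0 (by simp)
    · rfl
    · rfl
  | succ n =>
    rw [quasiIsoAt_iff_exactAt' (hL := ChainComplex.exactAt_succ_single_obj ..),
      HomologicalComplex.exactAt_iff' _ (n + 2) (n + 1) n (by simp) (by simp)]
    exact exact_of_eq _ _ (dK f (n + 1)) (dK f n)
      ((SP_exact f n).map (presheafToSheaf J AddCommGrpCat.{u}))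

end helpers

open CategoryTheory.Limits in
/-- Case A = Z; topos of sheaves of sets on a small site: for an epimorphism K' -> K of sheaves of sets,
the chain complex of free abelian sheaves ... -> Z[K' x_K K'] -> Z[K'] (alternating sums of the face
maps of the Cech nerve), augmented to Z[K], is a resolution of Z[K]: the augmentation is a
quasi-isomorphism to Z[K] placed in degree 0. (An epimorphic family (U_i -> X) is replaced here by
the single epimorphism from its coproduct, which gives the same complex.) -/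
theorem result {C : Type u} [SmallCategory C] (J : GrothendieckTopology C)
    {K' K : Sheaf J (Type u)} (f : K' ⟶ K) [Epi f] :
    QuasiIso ((AlgebraicTopology.AlternatingFaceMapComplex.ε (C := Sheaf J AddCommGrpCat.{u})).app
      (((SimplicialObject.Augmented.whiskering _ _).obj (Sheaf.composeAndSheafify J AddCommGrpCat.free.{u})).obj
        (Arrow.mk f).augmentedCechNerve)) := by
  exact Groth.Agent.S6161.main f

end Groth.Agent.S6161
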