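import Groth.Statements.S6151
import Mathlib
import Groth.Agent.S6161

set_option autoImplicit false
universe u
open CategoryTheory
open CohSite

namespace Groth.Agent.S6151

section helpers

open CategoryTheory CategoryTheory.Limits Opposite Simplicial AlgebraicTopology Abelian

universe w v' a'

section abstract

variable {A : Type a'} [Category.{v'} A] [Abelian A] [HasExt.{w} A]

theorem kerlift_facts {P₂ P₁ P₀ Q : A} (d₂ : P₂ ⟶ P₁) (d₁ : P₁ ⟶ P₀) (π : P₀ ⟶ Q)
    (h21 : d₂ ≫ d₁ = 0) (ex₁ : (ShortComplex.mk d₂ d₁ h21).Exact)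
    (h10 : d₁ ≫ π = 0) (ex₀ : (ShortComplex.mk d₁ π h10).Exact) :
    Epi (kernel.lift π d₁ h10) ∧ ∃ (z : d₂ ≫ kernel.lift π d₁ h10 = 0),
      (ShortComplex.mk d₂ (kernel.lift π d₁ h10) z).Exact := by
  refine ⟨(ShortComplex.exact_iff_epi_kernel_lift _).1 ex₀, ?_⟩
  have z : d₂ ≫ kernel.lift π d₁ h10 = 0 := by
    rw [← cancel_mono (kernel.ι π), Category.assoc, kernel.lift_ι, h21, zero_comp]
  refine ⟨z, ?_⟩
  let α : ShortComplex.mk d₂ (kernel.lift π d₁ h10) z ⟶ ShortComplex.mk d₂ d₁ h21 :=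
    { τ₁ := 𝟙 _, τ₂ := 𝟙 _, τ₃ := kernel.ι π
      comm₁₂ := by simp
      comm₂₃ := by simp }
  haveI : Epi α.τ₁ := by dsimp [α]; infer_instance
  haveI : IsIso α.τ₂ := by dsimp [α]; infer_instance
  haveI : Mono α.τ₃ := by dsimp [α]; infer_instance
  exact (ShortComplex.exact_iff_of_epi_of_isIso_of_mono α).2 ex₁

theorem ses {P₀ Q : A} (π : P₀ ⟶ Q) [Epi π] :
    (ShortComplex.mk (kernel.ι π) π (kernel.condition π)).ShortExact :=
  ShortComplex.ShortExact.mk' (ShortComplex.exact_of_f_is_kernel _ (kernelIsKernel π))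
    (by dsimp; infer_instance) (by dsimp; infer_instance)

theorem van_ker (F : A) {P₀ Q : A} (π : P₀ ⟶ Q) [Epi π]
    (hP : ∀ q : ℕ, Subsingleton (Ext P₀ F (q + 1)))
    (hQ : ∀ q : ℕ, Subsingleton (Ext Q F (q + 1))) (q : ℕ) :
    Subsingleton (Ext (kernel π) F (q + 1)) := by
  have hT := ses π
  refine subsingleton_of_forall_eq 0 (fun x₁ => ?_)
  haveI := hQ (q + 1)
  haveI := hP q
  obtain ⟨x₂, hx₂⟩ := Ext.contravariant_sequence_exact₁ hT F x₁ (n₁ := q + 1 + 1) (by omega)
    (Subsingleton.elim _ _)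
  rw [← hx₂, Subsingleton.elim x₂ 0, Ext.comp_zero]

theorem hom_ext_of_van (F : A) {P₀ Q : A} (π : P₀ ⟶ Q) [Epi π] (hQ : Subsingleton (Ext Q F 1))
    (φ' : kernel π ⟶ F) : ∃ ψ : P₀ ⟶ F, kernel.ι π ≫ ψ = φ' := by
  have hT := ses π
  obtain ⟨x₂, hx₂⟩ := Ext.contravariant_sequence_exact₁ hT F (Ext.mk₀ φ') (n₁ := 1) (by omega)
    (Subsingleton.elim _ _)
  obtain ⟨ψ, rfl⟩ := (Ext.mk₀_bijective P₀ F).2 x₂
  refine ⟨ψ, (Ext.mk₀_bijective _ _).1 ?_⟩
  rw [← Ext.mk₀_comp_mk₀]
  exact hx₂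

structure Stage (F : A) (X : ℕ → A) (d : ∀ n, X (n + 1) ⟶ X n) (n : ℕ) where
  Q : A
  π : X n ⟶ Q
  epi : Epi π
  zero : d n ≫ π = 0
  exact : (ShortComplex.mk (d n) π zero).Exact
  van : ∀ q : ℕ, Subsingleton (Ext Q F (q + 1))

theorem stage_succ (F : A) (X : ℕ → A) (d : ∀ n, X (n + 1) ⟶ X n)
    (hd : ∀ n, d (n + 1) ≫ d n = 0)
    (hex : ∀ n, (ShortComplex.mk (d (n + 1)) (d n) (hd n)).Exact)
    (hX : ∀ n q, Subsingleton (Ext (X n) F (q + 1))) (n : ℕ) (s : Stage F X d n) :
    Nonempty (Stage F X d (n + 1)) := by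
  haveI := s.epi
  obtain ⟨hepi, z, hexact⟩ := kerlift_facts (d (n + 1)) (d n) s.π (hd n) (hex n) s.zero s.exact
  exact ⟨{ Q := kernel s.π, π := kernel.lift s.π (d n) s.zero, epi := hepi, zero := z,
           exact := hexact, van := van_ker F s.π (hX n) s.van }⟩

theorem claim (F : A) (X : ℕ → A) (d : ∀ n, X (n + 1) ⟶ X n)
    (hd : ∀ n, d (n + 1) ≫ d n = 0)
    (hex : ∀ n, (ShortComplex.mk (d (n + 1)) (d n) (hd n)).Exact)
    (n : ℕ) (s : Stage F X d n) (φ : X (n + 1) ⟶ F) (hφ : d (n + 1) ≫ φ = 0) :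
    ∃ ψ : X n ⟶ F, d n ≫ ψ = φ := by
  haveI := s.epi
  obtain ⟨hepi, z, hexact⟩ := kerlift_facts (d (n + 1)) (d n) s.π (hd n) (hex n) s.zero s.exact
  haveI : Epi (ShortComplex.mk (d (n + 1)) (kernel.lift s.π (d n) s.zero) z).g := hepi
  obtain ⟨φ', hφ'⟩ := hexact.desc' φ hφ
  obtain ⟨ψ, hψ⟩ := hom_ext_of_van F s.π (s.van 0) φ'
  refine ⟨ψ, ?_⟩
  have e : d n = kernel.lift s.π (d n) s.zero ≫ kernel.ι s.π := (kernel.lift_ι _ _ _).symm
  rw [e, Category.assoc, hψ]
  exact hφ'

end abstract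

variable {C : Type u} [SmallCategory C] {J : GrothendieckTopology C}
  (F : Sheaf J AddCommGrpCat.{u}) {K' K : Sheaf J (Type u)} (f : K' ⟶ K)

noncomputable abbrev XS : SimplicialObject (Sheaf J AddCommGrpCat.{u}) :=
  ((SimplicialObject.whiskering _ _).obj (presheafToSheaf J AddCommGrpCat.{u})).obj (S6161.XP f)

theorem hexS (n : ℕ) :
    (ShortComplex.mk (AlternatingFaceMapComplex.objD (XS f) (n + 1))
      (AlternatingFaceMapComplex.objD (XS f) n)
      (AlternatingFaceMapComplex.d_squared (XS f) n)).Exact :=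
  S6161.exact_of_eq _ _
    (S6161.map_objD (presheafToSheaf J AddCommGrpCat.{u}) (S6161.XP f) (n + 1))
    (S6161.map_objD (presheafToSheaf J AddCommGrpCat.{u}) (S6161.XP f) n)
    ((S6161.SP_exact f n).map (presheafToSheaf J AddCommGrpCat.{u}))

theorem stage0 [Epi f] (hF : CohCx.IsTotallyAcyclic F) :
    Nonempty (Stage F (fun n => (XS f) _⦋n⦌)
      (fun n => AlternatingFaceMapComplex.objD (XS f) n) 0) := by
  have hS0 := (S6161.S0P_exact f).map (presheafToSheaf J AddCommGrpCat.{u})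
  have e : ((S6161.S0P f).map (presheafToSheaf J AddCommGrpCat.{u})).f =
      AlternatingFaceMapComplex.objD (XS f) 0 :=
    S6161.map_objD (presheafToSheaf J AddCommGrpCat.{u}) (S6161.XP f) 0
  have z : AlternatingFaceMapComplex.objD (XS f) 0 ≫
      (presheafToSheaf J AddCommGrpCat.{u}).map ((S6161.PF J).map (S6161.bs f)) = 0 := by
    have h := ((S6161.S0P f).map (presheafToSheaf J AddCommGrpCat.{u})).zero
    rw [e] at h
    exact h
  have hex0 : (ShortComplex.mk (AlternatingFaceMapComplex.objD (XS f) 0)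
      ((presheafToSheaf J AddCommGrpCat.{u}).map ((S6161.PF J).map (S6161.bs f))) z).Exact :=
    S6161.exact_of_eq _ _ e rfl hS0
  haveI := S6161.bs_epi f
  have h3 : Epi ((Sheaf.composeAndSheafify J AddCommGrpCat.free.{u}).map (S6161.bs f)) :=
    inferInstance
  exact ⟨{ Q := (presheafToSheaf J AddCommGrpCat.{u}).obj ((S6161.PF J).obj K)
           π := (presheafToSheaf J AddCommGrpCat.{u}).map ((S6161.PF J).map (S6161.bs f))
           epi := h3
           zero := z
           exact := hex0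
           van := fun q => hF K q }⟩

theorem cech_d (n : ℕ) : (CohCx.cechNerveCx F f).d n (n + 1) =
    (preadditiveYoneda.obj F).map (AlternatingFaceMapComplex.objD (XS f) n).op := by
  have h1 : (CohCx.cechNerveCx F f).d n (n + 1) =
      AlternatingCofaceMapComplex.objD
        ((Arrow.mk f).cechNerve.rightOp ⋙ CohCx.HK0Functor J F) n :=
    CochainComplex.of_d
      (fun n => ((Arrow.mk f).cechNerve.rightOp ⋙ CohCx.HK0Functor J F).obj ⦋n⦌)
      (AlternatingCofaceMapComplex.objD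
        ((Arrow.mk f).cechNerve.rightOp ⋙ CohCx.HK0Functor J F)) n
  rw [h1]
  simp only [AlternatingCofaceMapComplex.objD, AlternatingFaceMapComplex.objD, op_sum, op_zsmul,
    CategoryTheory.Functor.map_sum, CategoryTheory.Functor.map_zsmul]
  rfl

theorem main [Epi f] (hF : CohCx.IsTotallyAcyclic F) (q : ℕ) :
    IsZero ((CohCx.cechNerveCx F f).homology (q + 1)) := by
  have hst : ∀ n, Nonempty (Stage F (fun n => (XS f) _⦋n⦌)
      (fun n => AlternatingFaceMapComplex.objD (XS f) n) n) := by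
    intro n
    induction n with
    | zero => exact stage0 F f hF
    | succ n ih =>
      obtain ⟨s⟩ := ih
      exact stage_succ F _ _ (fun n => AlternatingFaceMapComplex.d_squared (XS f) n) (hexS f)
        (fun n q => hF ((S6161.Xl f).obj (op ⦋n⦌)) q) n s
  obtain ⟨s⟩ := hst q
  have hex : ∀ c : (XS f) _⦋q + 1⦌ ⟶ F,
      AlternatingFaceMapComplex.objD (XS f) (q + 1) ≫ c = 0 →
      ∃ b : (XS f) _⦋q⦌ ⟶ F, AlternatingFaceMapComplex.objD (XS f) q ≫ b = c :=
    fun c hc => claim F _ _ (fun n => AlternatingFaceMapComplex.d_squared (XS f) n) (hexS f)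
      q s c hc
  have hexact : ((CohCx.cechNerveCx F f).sc' q (q + 1) (q + 1 + 1)).Exact := by
    rw [ShortComplex.ab_exact_iff]
    intro c hc
    have e1 := cech_d F f (q + 1)
    have e0 := cech_d F f q
    obtain ⟨b, hb⟩ := hex c (by
      have h : ((CohCx.cechNerveCx F f).d (q + 1) (q + 1 + 1)) c = 0 := hc
      rw [e1] at h
      exact h)
    refine ⟨b, ?_⟩
    show ((CohCx.cechNerveCx F f).d q (q + 1)) b = c
    rw [e0]
    exact hb
  exact (HomologicalComplex.exactAt_iff_isZero_homology _ _).mp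
    (((CohCx.cechNerveCx F f).exactAt_iff' q (q + 1) (q + 1 + 1) (by simp) (by simp)).mpr hexact)

end helpers

open CategoryTheory.Limits in
/-- Abelian sheaves on the topos of sheaves of sets on a small site: if F is flasque (totally acyclic:
H^q(K, F) = 0 for all sheaves of sets K and q > 0), then for every epimorphism of sheaves of sets K'
-> K the Cech cohomology groups H^q(K'/K, F), computed from the complex H^0(K', F) -> H^0(K' x_K K',
F) -> ..., vanish for all q > 0. (An epimorphic family (X_i -> X) is replaced here by the single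
epimorphism from its coproduct, which has the same Cech complex.) -/
theorem result {C : Type u} [SmallCategory C] {J : GrothendieckTopology C}
    (F : Sheaf J AddCommGrpCat.{u}) (hF : CohCx.IsTotallyAcyclic F) {K' K : Sheaf J (Type u)} (f : K' ⟶ K) [Epi f]
    (q : ℕ) : IsZero ((CohCx.cechNerveCx F f).homology (q + 1)) := by
  exact Groth.Agent.S6151.main F f hF q

end Groth.Agent.S6151
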