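import Groth.Statements.S12106
import Mathlib
import Groth.Agent.S6161
import Groth.Agent.S6151

set_option autoImplicit false
universe u
open CategoryTheory
open CohSite

namespace Groth.Agent.S12106

section helpers

open CategoryTheory CategoryTheory.Limits Opposite Simplicial AlgebraicTopology Abelian

universe w v' a'

section abstract

variable {A : Type a'} [Category.{v'} A] [Abelian A] [HasExt.{w} A]

theorem efface [EnoughInjectives A] (p : ℕ) : ∀ (F X : A) (x : Ext X F (p + 1)),
    ∃ (E : A) (π : E ⟶ X), Epi π ∧ (Ext.mk₀ π).comp x (zero_add (p + 1)) = 0 := by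
  induction p with
  | zero =>
    intro F X x
    have hT : (ShortComplex.mk (Injective.ι F) (cokernel.π (Injective.ι F))
        (cokernel.condition (Injective.ι F))).ShortExact :=
      ShortComplex.ShortExact.mk'
        (ShortComplex.exact_of_g_is_cokernel _ (cokernelIsCokernel (Injective.ι F)))
        (by dsimp; infer_instance) (by dsimp; infer_instance)
    obtain ⟨y, hy⟩ := Ext.covariant_sequence_exact₁ X hT x
      (Ext.eq_zero_of_injective (I := Injective.under F) _) (n₀ := 0) (by omega)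
    obtain ⟨g, rfl⟩ := (Ext.mk₀_bijective X _).2 y
    refine ⟨pullback g (cokernel.π (Injective.ι F)), pullback.fst g (cokernel.π (Injective.ι F)),
      inferInstance, ?_⟩
    rw [← hy]
    have e1 : (Ext.mk₀ (pullback.fst g (cokernel.π (Injective.ι F)))).comp
        ((Ext.mk₀ g).comp hT.extClass (zero_add 1)) (zero_add 1)
        = (Ext.mk₀ (pullback.fst g (cokernel.π (Injective.ι F)) ≫ g)).comp hT.extClass
          (zero_add 1) := Ext.mk₀_comp_mk₀_assoc _ _ _
    have e2 : (Ext.mk₀ (pullback.snd g (cokernel.π (Injective.ι F)) ≫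
        cokernel.π (Injective.ι F))).comp hT.extClass (zero_add 1) = 0 := by
      rw [← Ext.mk₀_comp_mk₀_assoc, hT.comp_extClass, Ext.comp_zero]
    rw [pullback.condition] at e1
    exact e1.trans e2
  | succ p ih =>
    intro F X x
    have hT : (ShortComplex.mk (Injective.ι F) (cokernel.π (Injective.ι F))
        (cokernel.condition (Injective.ι F))).ShortExact :=
      ShortComplex.ShortExact.mk'
        (ShortComplex.exact_of_g_is_cokernel _ (cokernelIsCokernel (Injective.ι F)))
        (by dsimp; infer_instance) (by dsimp; infer_instance)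
    obtain ⟨y, hy⟩ := Ext.covariant_sequence_exact₁ X hT x
      (Ext.eq_zero_of_injective (I := Injective.under F) _) (n₀ := p + 1) (by omega)
    obtain ⟨E, π, hπ, h0⟩ := ih _ X y
    refine ⟨E, π, hπ, ?_⟩
    rw [← hy]
    have h3 := Ext.comp_assoc (Ext.mk₀ π) y hT.extClass (zero_add (p + 1))
      (rfl : p + 1 + 1 = p + 1 + 1) (by omega : 0 + (p + 1) + 1 = p + 1 + 1)
    rw [h0, Ext.zero_comp] at h3
    exact h3.symm

structure StageL (X : ℕ → A) (d : ∀ n, X (n + 1) ⟶ X n) (n : ℕ) where
  Q : A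
  π : X n ⟶ Q
  epi : Epi π
  zero : d n ≫ π = 0
  exact : (ShortComplex.mk (d n) π zero).Exact

noncomputable def StageL.next {X : ℕ → A} {d : ∀ n, X (n + 1) ⟶ X n}
    (hd : ∀ n, d (n + 1) ≫ d n = 0)
    (hex : ∀ n, (ShortComplex.mk (d (n + 1)) (d n) (hd n)).Exact) {n : ℕ} (s : StageL X d n) :
    StageL X d (n + 1) where
  Q := kernel s.π
  π := kernel.lift s.π (d n) s.zero
  epi := (S6151.kerlift_facts (d (n + 1)) (d n) s.π (hd n) (hex n) s.zero s.exact).1
  zero := (S6151.kerlift_facts (d (n + 1)) (d n) s.π (hd n) (hex n) s.zero s.exact).2.choose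
  exact := (S6151.kerlift_facts (d (n + 1)) (d n) s.π (hd n) (hex n) s.zero s.exact).2.choose_spec

theorem Pk (F : A) (X : ℕ → A) (d : ∀ n, X (n + 1) ⟶ X n)
    (hd : ∀ n, d (n + 1) ≫ d n = 0)
    (hex : ∀ n, (ShortComplex.mk (d (n + 1)) (d n) (hd n)).Exact)
    (hC : ∀ (n : ℕ) (φ : X (n + 1) ⟶ F), d (n + 1) ≫ φ = 0 → ∃ ψ : X n ⟶ F, d n ≫ ψ = φ)
    (k : ℕ) : (∀ m j, j < k → Subsingleton (Ext (X m) F (j + 1))) →
    ∀ (n : ℕ) (s : StageL X d n) (y : Ext s.Q F (k + 1)),
      (Ext.mk₀ s.π).comp y (zero_add (k + 1)) = 0 → y = 0 := by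
  induction k with
  | zero =>
    intro _ n s y h0
    haveI := s.epi
    have hT := S6151.ses s.π
    obtain ⟨y', hy'⟩ := Ext.contravariant_sequence_exact₃ hT F y h0 (n₀ := 0) (by omega)
    obtain ⟨φ', rfl⟩ := (Ext.mk₀_bijective _ _).2 y'
    let s' := s.next hd hex
    haveI := s'.epi
    have hz : d (n + 1) ≫ (s'.π ≫ φ') = 0 := by rw [← Category.assoc, s'.zero, zero_comp]
    obtain ⟨ψ, hψ⟩ := hC n (s'.π ≫ φ') hz
    have e : d n = s'.π ≫ kernel.ι s.π := (kernel.lift_ι _ _ _).symm
    haveI : Epi (kernel.lift s.π (d n) s.zero) := s'.epi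
    have hφ' : kernel.ι s.π ≫ ψ = φ' := by
      apply (cancel_epi (kernel.lift s.π (d n) s.zero)).1
      rw [← Category.assoc, kernel.lift_ι]
      exact hψ
    rw [← hy', ← hφ', ← Ext.mk₀_comp_mk₀]
    have h3 := Ext.comp_assoc hT.extClass (Ext.mk₀ (kernel.ι s.π)) (Ext.mk₀ ψ) (add_zero 1)
      (zero_add 0) (by omega : 1 + 0 + 0 = 1)
    rw [hT.extClass_comp, Ext.zero_comp] at h3
    exact h3.symm
  | succ k ih =>
    intro hX n s y h0
    haveI := s.epi
    have hT := S6151.ses s.π
    obtain ⟨y', hy'⟩ := Ext.contravariant_sequence_exact₃ hT F y h0 (n₀ := k + 1) (by omega)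
    let s' := s.next hd hex
    haveI := hX (n + 1) k (Nat.lt_succ_self k)
    have hy0 : y' = 0 := ih (fun m j hj => hX m j (Nat.lt_succ_of_lt hj)) (n + 1) s' y'
      (Subsingleton.elim _ _)
    rw [← hy', hy0, Ext.comp_zero]

end abstract

variable {C : Type u} [SmallCategory C] {J : GrothendieckTopology C}
  (F : Sheaf J AddCommGrpCat.{u})

theorem cech_lift {K' K : Sheaf J (Type u)} (f : K' ⟶ K) (q : ℕ)
    (hq : IsZero ((CohCx.cechNerveCx F f).homology (q + 1)))
    (φ : (S6151.XS f) _⦋q + 1⦌ ⟶ F)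
    (hφ : AlternatingFaceMapComplex.objD (S6151.XS f) (q + 1) ≫ φ = 0) :
    ∃ ψ : (S6151.XS f) _⦋q⦌ ⟶ F, AlternatingFaceMapComplex.objD (S6151.XS f) q ≫ ψ = φ := by
  have hex : ((CohCx.cechNerveCx F f).sc' q (q + 1) (q + 1 + 1)).Exact :=
    ((CohCx.cechNerveCx F f).exactAt_iff' q (q + 1) (q + 1 + 1) (by simp) (by simp)).mp
      ((HomologicalComplex.exactAt_iff_isZero_homology _ _).mpr hq)
  rw [ShortComplex.ab_exact_iff] at hex
  have e1 := S6151.cech_d F f (q + 1)
  have e0 := S6151.cech_d F f q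
  obtain ⟨b, hb⟩ := hex φ (by
    show ((CohCx.cechNerveCx F f).d (q + 1) (q + 1 + 1)) φ = 0
    rw [e1]; exact hφ)
  refine ⟨b, ?_⟩
  have hb' : ((CohCx.cechNerveCx F f).d q (q + 1)) b = φ := hb
  rw [e0] at hb'
  exact hb'

noncomputable def stage0 {K' K : Sheaf J (Type u)} (f : K' ⟶ K) [Epi f] :
    StageL (fun n => (S6151.XS f) _⦋n⦌)
      (fun n => AlternatingFaceMapComplex.objD (S6151.XS f) n) 0 := by
  have hS0 := (S6161.S0P_exact f).map (presheafToSheaf J AddCommGrpCat.{u})
  have e : ((S6161.S0P f).map (presheafToSheaf J AddCommGrpCat.{u})).f =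
      AlternatingFaceMapComplex.objD (S6151.XS f) 0 :=
    S6161.map_objD (presheafToSheaf J AddCommGrpCat.{u}) (S6161.XP f) 0
  have z : AlternatingFaceMapComplex.objD (S6151.XS f) 0 ≫
      (presheafToSheaf J AddCommGrpCat.{u}).map ((S6161.PF J).map (S6161.bs f)) = 0 := by
    have h := ((S6161.S0P f).map (presheafToSheaf J AddCommGrpCat.{u})).zero
    rw [e] at h
    exact h
  have hex0 : (ShortComplex.mk (AlternatingFaceMapComplex.objD (S6151.XS f) 0)
      ((presheafToSheaf J AddCommGrpCat.{u}).map ((S6161.PF J).map (S6161.bs f))) z).Exact :=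
    S6161.exact_of_eq _ _ e rfl hS0
  haveI := S6161.bs_epi f
  have h3 : Epi ((Sheaf.composeAndSheafify J AddCommGrpCat.free.{u}).map (S6161.bs f)) :=
    inferInstance
  exact { Q := (presheafToSheaf J AddCommGrpCat.{u}).obj ((S6161.PF J).obj K)
          π := (presheafToSheaf J AddCommGrpCat.{u}).map ((S6161.PF J).map (S6161.bs f))
          epi := h3
          zero := z
          exact := hex0 }

theorem stage0_π {K' K : Sheaf J (Type u)} (f : K' ⟶ K) [Epi f] :
    ∃ g : (S6161.Xl f).obj (op ⦋0⦌) ⟶ K', (stage0 f).π =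
      (Sheaf.composeAndSheafify J AddCommGrpCat.free.{u}).map g ≫
        (Sheaf.composeAndSheafify J AddCommGrpCat.free.{u}).map f := by
  refine ⟨WidePullback.π (fun _ : Fin (0 + 1) => (Arrow.mk f).hom) 0, ?_⟩
  rw [← CategoryTheory.Functor.map_comp]
  have : WidePullback.π (fun _ : Fin (0 + 1) => (Arrow.mk f).hom) 0 ≫ f = S6161.bs f :=
    WidePullback.π_arrow _ _
  rw [this]
  rfl

theorem main
    (h : ∀ (K' K : Sheaf J (Type u)) (f : K' ⟶ K), Epi f →
      ∀ q : ℕ, IsZero ((CohCx.cechNerveCx F f).homology (q + 1))) :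
    CohCx.IsTotallyAcyclic F := by
  have key : ∀ p : ℕ, ∀ K : Sheaf J (Type u), Subsingleton (CohCx.HK K F (p + 1)) := by
    intro p
    induction p using Nat.strong_induction_on with
    | _ p IH =>
      intro K
      refine subsingleton_of_forall_eq 0 (fun x => ?_)
      let Φ := Sheaf.composeAndSheafify J AddCommGrpCat.free.{u}
      let G := sheafCompose J (forget AddCommGrpCat.{u})
      let adj : Φ ⊣ G := Sheaf.adjunction J AddCommGrpCat.adj.{u}
      have hx : ∃ x' : Ext (Φ.obj K) F (p + 1), x' = x := ⟨x, rfl⟩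
      obtain ⟨x', hx'⟩ := hx
      obtain ⟨E, π, hπ, h0⟩ := efface p F (Φ.obj K) x'
      haveI := hπ
      haveI : Sheaf.IsLocallySurjective π := (Sheaf.isLocallySurjective_iff_epi' AddCommGrpCat.{u} π).2 hπ
      haveI : Epi (G.map π) := inferInstance
      let xt : Ext (Φ.obj (G.obj (Φ.obj K))) F (p + 1) :=
        (Ext.mk₀ (adj.counit.app (Φ.obj K))).comp x' (zero_add _)
      have hft : (Ext.mk₀ (Φ.map (G.map π))).comp xt (zero_add _) = 0 := by
        have e1 : (Ext.mk₀ (Φ.map (G.map π))).comp xt (zero_add _) =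
            (Ext.mk₀ (Φ.map (G.map π) ≫ adj.counit.app (Φ.obj K))).comp x' (zero_add _) :=
          Ext.mk₀_comp_mk₀_assoc _ _ _
        have e2 : Φ.map (G.map π) ≫ adj.counit.app (Φ.obj K) = adj.counit.app E ≫ π :=
          adj.counit.naturality π
        rw [e1, e2, ← Ext.mk₀_comp_mk₀_assoc, h0, Ext.comp_zero]
      have hxt : xt = 0 := by
        obtain ⟨g, hg⟩ := stage0_π (G.map π)
        refine Pk F (fun n => (S6151.XS (G.map π)) _⦋n⦌)
          (fun n => AlternatingFaceMapComplex.objD (S6151.XS (G.map π)) n)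
          (fun n => AlternatingFaceMapComplex.d_squared (S6151.XS (G.map π)) n)
          (S6151.hexS (G.map π))
          (fun n φ hφ => cech_lift F (G.map π) n (h _ _ (G.map π) inferInstance n) φ hφ)
          p (fun m j hj => IH j hj ((S6161.Xl (G.map π)).obj (op ⦋m⦌))) 0 (stage0 (G.map π)) xt ?_
        have e3 : (Ext.mk₀ (Φ.map g ≫ Φ.map (G.map π))).comp xt (zero_add _) =
            (Ext.mk₀ (Φ.map g)).comp ((Ext.mk₀ (Φ.map (G.map π))).comp xt (zero_add _))
              (zero_add _) := (Ext.mk₀_comp_mk₀_assoc _ _ _).symm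
        have e4 := congrArg (fun m => (Ext.mk₀ m).comp xt (zero_add (p + 1))) hg
        exact e4.trans (e3.trans (by rw [hft, Ext.comp_zero]; rfl))
      have tri : Φ.map (adj.unit.app K) ≫ adj.counit.app (Φ.obj K) = 𝟙 _ :=
        adj.left_triangle_components K
      have e5 : (Ext.mk₀ (Φ.map (adj.unit.app K))).comp xt (zero_add _) = x' := by
        have e6 : (Ext.mk₀ (Φ.map (adj.unit.app K))).comp xt (zero_add _) =
            (Ext.mk₀ (Φ.map (adj.unit.app K) ≫ adj.counit.app (Φ.obj K))).comp x'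
              (zero_add _) := Ext.mk₀_comp_mk₀_assoc _ _ _
        rw [e6, tri]
        exact Ext.mk₀_id_comp x'
      rw [← hx', ← e5, hxt, Ext.comp_zero]
  exact fun K p => key p K

end helpers

open CategoryTheory.Limits in
/-- In the topos of sheaves of sets on a small site, let F be an abelian sheaf such that for every
epimorphism of sheaves of sets K' ⟶ K the Čech cohomology groups H^q(K'/K, F), computed from the
complex H^0(K', F) → H^0(K' ×_K K', F) → ⋯, vanish for all q > 0. Then F is flasque (totally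
acyclic: H^q(K, F) = 0 for every sheaf of sets K and every q > 0). (An epimorphic family (X_i → X)
is replaced here by the single epimorphism from its coproduct, which has the same Čech complex; no
vanishing of H^q(U, F) on the objects of the site is assumed, it follows.) -/
theorem result {C : Type u} [SmallCategory C] {J : GrothendieckTopology C}
    (F : Sheaf J AddCommGrpCat.{u})
    (h : ∀ (K' K : Sheaf J (Type u)) (f : K' ⟶ K), Epi f →
      ∀ q : ℕ, IsZero ((CohCx.cechNerveCx F f).homology (q + 1))) :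
    CohCx.IsTotallyAcyclic F := by
  exact Groth.Agent.S12106.main F h

end Groth.Agent.S12106
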