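import Groth.Statements.S0917
import Mathlib

set_option autoImplicit false
universe v u
open CategoryTheory
open CohDer

namespace Groth.Agent.S0917

section Helpers
open CategoryTheory Limits CochainComplex HomComplex

variable {A : Type u} [Category.{v} A] [Abelian A]

theorem quasiIso_inr {P M : CochainComplex A ℤ} (φ : P ⟶ M) (hP : ∀ n, P.ExactAt n) :
    QuasiIso (mappingCone.inr φ) := by
  rw [quasiIso_iff]
  intro n
  rw [quasiIsoAt_iff_isIso_homologyMap]
  have hmono : Mono (HomologicalComplex.homologyMap (mappingCone.inr φ) n) := by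
    rw [HomologicalComplex.mono_homologyMap_iff_up_to_refinements (mappingCone.inr φ) (n - 1) n (n + 1)
      (by simp) (by simp)]
    intro T x hx y₁ hxy
    obtain ⟨p, hp⟩ : ∃ p, p = y₁ ≫ (mappingCone.fst φ).1.v (n - 1) n (by omega) := ⟨_, rfl⟩
    obtain ⟨m₁, hm₁⟩ : ∃ m₁, m₁ = y₁ ≫ (mappingCone.snd φ).v (n - 1) (n - 1) (add_zero _) := ⟨_, rfl⟩
    have h1 : p ≫ P.d n (n + 1) = 0 := by
      have := congrArg (· ≫ (mappingCone.fst φ).1.v n (n + 1) rfl) hxy
      simp only [Category.assoc, mappingCone.inr_f_fst_v, comp_zero,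
        mappingCone.d_fst_v φ (n - 1) n (n + 1) (by omega) rfl] at this
      simpa [hp] using this.symm
    have h2 : x = p ≫ φ.f n + m₁ ≫ M.d (n - 1) n := by
      have := congrArg (· ≫ (mappingCone.snd φ).v n n (add_zero n)) hxy
      simp only [Category.assoc, mappingCone.inr_f_snd_v, Category.comp_id,
        mappingCone.d_snd_v φ (n - 1) n (by omega)] at this
      simpa [hp, hm₁] using this
    obtain ⟨T', π, hπ, p', hp'⟩ :=
      (HomologicalComplex.exactAt_iff_exact_up_to_refinements P (n - 1) n (n + 1) (by simp)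
        (by simp)).1 (hP n) p h1
    refine ⟨T', π, hπ, p' ≫ φ.f (n - 1) + π ≫ m₁, ?_⟩
    rw [h2, Preadditive.comp_add, reassoc_of% hp', Preadditive.add_comp, Category.assoc,
      Category.assoc, φ.comm]
  have hepi : Epi (HomologicalComplex.homologyMap (mappingCone.inr φ) n) := by
    rw [HomologicalComplex.epi_homologyMap_iff_up_to_refinements (mappingCone.inr φ) (n - 1) n (n + 1)
      (by simp) (by simp)]
    intro T y hy
    obtain ⟨p, hp⟩ : ∃ p, p = y ≫ (mappingCone.fst φ).1.v n (n + 1) rfl := ⟨_, rfl⟩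
    obtain ⟨m, hm⟩ : ∃ m, m = y ≫ (mappingCone.snd φ).v n n (add_zero _) := ⟨_, rfl⟩
    have h1 : p ≫ P.d (n + 1) (n + 1 + 1) = 0 := by
      have := congrArg (· ≫ (mappingCone.fst φ).1.v (n + 1) (n + 1 + 1) rfl) hy
      simp only [Category.assoc, zero_comp,
        mappingCone.d_fst_v φ n (n + 1) (n + 1 + 1) rfl rfl] at this
      simpa [hp] using this
    have h2 : p ≫ φ.f (n + 1) + m ≫ M.d n (n + 1) = 0 := by
      have := congrArg (· ≫ (mappingCone.snd φ).v (n + 1) (n + 1) (add_zero _)) hy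
      simp only [Category.assoc, zero_comp, mappingCone.d_snd_v φ n (n + 1) rfl] at this
      simpa [hp, hm] using this
    obtain ⟨T', π, hπ, p', hp'⟩ :=
      (HomologicalComplex.exactAt_iff_exact_up_to_refinements P n (n + 1) (n + 1 + 1) (by simp)
        (by simp)).1 (hP (n + 1)) p h1
    refine ⟨T', π, hπ, π ≫ m + p' ≫ φ.f n, ?_, -(p' ≫ (mappingCone.inl φ).v n (n - 1) (by omega)), ?_⟩
    · rw [Preadditive.add_comp, Category.assoc, Category.assoc, φ.comm, ← reassoc_of% hp',
        ← Preadditive.comp_add, add_comm (m ≫ M.d n (n + 1)), h2, comp_zero]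
    · have hid := mappingCone.id_X φ n (n + 1) rfl
      rw [Preadditive.neg_comp, Category.assoc,
        mappingCone.inl_v_d φ n (n - 1) (n + 1) (by omega) (by omega)]
      calc π ≫ y = π ≫ y ≫ 𝟙 _ := by rw [Category.comp_id]
        _ = π ≫ p ≫ (mappingCone.inl φ).v (n + 1) n (by omega) +
              π ≫ m ≫ (mappingCone.inr φ).f n := by
            rw [← hid]; simp [hp, hm]
        _ = _ := by
            rw [reassoc_of% hp']
            simp only [Preadditive.add_comp, Preadditive.comp_sub, Category.assoc]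
            abel
  exact isIso_of_mono_of_epi _


theorem exact_of_eval {D : Type v} [Category.{v} D] (S' : ShortComplex (D ⥤ A))
    (h : ∀ j, (S'.map ((evaluation D A).obj j)).Exact) : S'.Exact := by
  rw [ShortComplex.exact_iff_isZero_homology, Functor.isZero_iff]
  intro j
  have := h j
  rw [ShortComplex.exact_iff_isZero_homology] at this
  exact this.of_iso (S'.mapHomologyIso ((evaluation D A).obj j)).symm

theorem sigma_exact {J : Type v} [HasColimitsOfShape (Discrete J) A]
    [HasExactColimitsOfShape (Discrete J) A] (S : J → ShortComplex A) (h : ∀ j, (S j).Exact) :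
    (ShortComplex.mk (Limits.Sigma.map fun j ↦ (S j).f) (Limits.Sigma.map fun j ↦ (S j).g)
      (by rw [Limits.Sigma.map_comp_map]; ext j; simp)).Exact := by
  let S' : ShortComplex (Discrete J ⥤ A) :=
    ShortComplex.mk (X₁ := Discrete.functor fun j ↦ (S j).X₁)
      (X₂ := Discrete.functor fun j ↦ (S j).X₂) (X₃ := Discrete.functor fun j ↦ (S j).X₃)
      (Discrete.natTrans fun j ↦ (S j.as).f) (Discrete.natTrans fun j ↦ (S j.as).g)
      (by ext j; simp)
  have hS' : S'.Exact := exact_of_eval S' (fun j ↦ h j.as)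
  have := hS'.map (colim (J := Discrete J) (C := A))
  exact this


variable [HasCoproducts.{v} A] {ι : Type v} (K : ι → CochainComplex A ℤ)

abbrev Idx (M : CochainComplex A ℤ) : Type v := Σ i : ι, (K i ⟶ M)

noncomputable abbrev Pcx (M : CochainComplex A ℤ) : CochainComplex A ℤ where
  X n := ∐ fun x : Idx K M ↦ (K x.1).X n
  d i j := Limits.Sigma.map fun x : Idx K M ↦ (K x.1).d i j
  shape i j h := by
    ext x
    simp [(K x.1).shape i j h]
  d_comp_d' i j k _ _ := by
    ext x
    simp

noncomputable def φmap (M : CochainComplex A ℤ) : Pcx K M ⟶ M where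
  f n := Sigma.desc fun x : Idx K M ↦ x.2.f n
  comm' i j _ := by
    ext x
    simp

noncomputable def Pmap {M M' : CochainComplex A ℤ} (g : M ⟶ M') : Pcx K M ⟶ Pcx K M' where
  f n := Sigma.desc fun x : Idx K M ↦
    Sigma.ι (fun y : Idx K M' ↦ (K y.1).X n) ⟨x.1, x.2 ≫ g⟩
  comm' i j _ := by
    ext x
    simp

theorem Pmap_id (M : CochainComplex A ℤ) : Pmap K (𝟙 M) = 𝟙 _ := by
  ext n x
  obtain ⟨i, w⟩ := x
  simp only [Pmap, colimit.ι_desc, Cofan.mk_pt, Cofan.mk_ι_app, HomologicalComplex.id_f,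
    Category.comp_id]
  rw [Category.comp_id]

theorem Pmap_comp {M M' M'' : CochainComplex A ℤ} (f : M ⟶ M') (g : M' ⟶ M'') :
    Pmap K (f ≫ g) = Pmap K f ≫ Pmap K g := by
  ext n x
  obtain ⟨i, w⟩ := x
  simp only [Pmap, colimit.ι_desc, Cofan.mk_pt, Cofan.mk_ι_app, HomologicalComplex.comp_f,
    colimit.ι_desc_assoc]
  rw [Category.assoc]

theorem φmap_nat {M M' : CochainComplex A ℤ} (g : M ⟶ M') :
    φmap K M ≫ g = Pmap K g ≫ φmap K M' := by
  ext n x
  simp [φmap, Pmap]

theorem Pcx_exact [∀ J : Type v, HasExactColimitsOfShape (Discrete J) A]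
    (hK : ∀ i (n : ℤ), (K i).ExactAt n) (M : CochainComplex A ℤ) (n : ℤ) :
    (Pcx K M).ExactAt n := by
  rw [HomologicalComplex.exactAt_iff' _ (n - 1) n (n + 1) (by simp) (by simp)]
  have := sigma_exact (fun x : Idx K M ↦ (K x.1).sc' (n - 1) n (n + 1))
    (fun x ↦ (HomologicalComplex.exactAt_iff' _ (n - 1) n (n + 1) (by simp) (by simp)).1 (hK x.1 n))
  exact this

omit [HasCoproducts A] in
theorem cone_map_congr {K₁ L₁ K₂ L₂ : CochainComplex A ℤ} (φ₁ : K₁ ⟶ L₁) (φ₂ : K₂ ⟶ L₂)
    {a a' : K₁ ⟶ K₂} {b b' : L₁ ⟶ L₂} (ha : a = a') (hb : b = b')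
    (comm : φ₁ ≫ b = a ≫ φ₂) :
    mappingCone.map φ₁ φ₂ a b comm =
      mappingCone.map φ₁ φ₂ a' b' (by rw [← ha, ← hb]; exact comm) := by
  subst ha hb; rfl

noncomputable def Nfun : CochainComplex A ℤ ⥤ CochainComplex A ℤ where
  obj M := mappingCone (φmap K M)
  map {M M'} g := mappingCone.map (φmap K M) (φmap K M') (Pmap K g) g (φmap_nat K g)
  map_id M := by
    rw [cone_map_congr _ _ (Pmap_id K M) rfl, mappingCone.map_id]
  map_comp {M M' M''} f g := by
    rw [cone_map_congr _ _ (Pmap_comp K f g) rfl,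
      mappingCone.map_comp _ _ _ _ _ (φmap_nat K f) _ _ (φmap_nat K g)]

noncomputable def jnat : 𝟭 (CochainComplex A ℤ) ⟶ Nfun K where
  app M := mappingCone.inr (φmap K M)
  naturality {M M'} g := by
    simp [Nfun, mappingCone.map]


noncomputable def σmap {M : CochainComplex A ℤ} (x : Idx K M) : K x.1 ⟶ Pcx K M where
  f n := Sigma.ι (fun y : Idx K M ↦ (K y.1).X n) x
  comm' i j _ := by simp

theorem σmap_φmap {M : CochainComplex A ℤ} (x : Idx K M) : σmap K x ≫ φmap K M = x.2 := by
  ext n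
  simp [σmap, φmap]

end Helpers

/-- In a Grothendieck abelian category A, given a small family (K_i) of acyclic cochain complexes, there
are an endofunctor N of the category of cochain complexes and a natural transformation j from the
identity to N such that for every complex M: each component of j_M is a monomorphism, j_M is a
quasi-isomorphism, and for every i and every morphism w : K_i -> M the composite w ≫ j_M is
homotopic to zero. -/
theorem result {A : Type u} [Category.{v} A] [Abelian A]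
    [IsGrothendieckAbelian.{v} A] {ι : Type v} (K : ι → CochainComplex A ℤ)
    (hK : ∀ i (n : ℤ), Limits.IsZero ((K i).homology n)) :
    ∃ (N : CochainComplex A ℤ ⥤ CochainComplex A ℤ) (j : 𝟭 _ ⟶ N),
      ∀ M : CochainComplex A ℤ, (∀ n : ℤ, Mono ((j.app M).f n)) ∧ QuasiIso (j.app M) ∧
        ∀ (i : ι) (w : K i ⟶ M), Nonempty (Homotopy (w ≫ j.app M) 0) := by
  haveI : Limits.HasCoproducts.{v} A := inferInstance
  haveI : ∀ J : Type v, HasExactColimitsOfShape (Discrete J) A := fun J ↦ inferInstance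
  have hK' : ∀ i n, (K i).ExactAt n := fun i n ↦
    (HomologicalComplex.exactAt_iff_isZero_homology _ _).2 (hK i n)
  refine ⟨Groth.Agent.S0917.Nfun K, Groth.Agent.S0917.jnat K, fun M ↦ ⟨fun n ↦ ?_,
    Groth.Agent.S0917.quasiIso_inr _ (Groth.Agent.S0917.Pcx_exact K hK' M), fun i w ↦ ?_⟩⟩
  · haveI : Mono (𝟙 (M.X n)) := ⟨fun _ _ h ↦ by simpa using h⟩
    exact mono_of_mono_fac
      (CochainComplex.mappingCone.inr_f_snd_v (Groth.Agent.S0917.φmap K M) n)
  · have hw := Groth.Agent.S0917.σmap_φmap K (M := M) ⟨i, w⟩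
    have h0 := HomologicalComplex.homotopyCofiber.inrCompHomotopy (Groth.Agent.S0917.φmap K M)
      (fun j ↦ ⟨j - 1, by simp⟩)
    refine ⟨(Homotopy.ofEq ?_).trans
      ((h0.compLeft (Groth.Agent.S0917.σmap K (M := M) ⟨i, w⟩)).trans (Homotopy.ofEq Limits.comp_zero))⟩
    show w ≫ CochainComplex.mappingCone.inr (Groth.Agent.S0917.φmap K M) = _
    rw [← Category.assoc, hw]
    rfl

end Groth.Agent.S0917
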