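import Groth.Statements.S0928
import Mathlib

set_option autoImplicit false
universe u
open CategoryTheory
open CohDer

namespace Groth.Agent.S0928

open CategoryTheory Limits MorphismProperty ZeroObject in
theorem functorial_inj.{w', v', u'} {𝒜 : Type u'} [Category.{v'} 𝒜] [Abelian 𝒜] [IsGrothendieckAbelian.{w'} 𝒜] :
    ∃ (J : 𝒜 ⥤ 𝒜) (j : 𝟭 _ ⟶ J), ∀ F : 𝒜, Injective (J.obj F) ∧ Mono (j.app F) := by
  let data := functorialFactorizationData (monomorphisms 𝒜) (monomorphisms 𝒜).rlp
  let toArrow : 𝒜 ⥤ Arrow 𝒜 :=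
    { obj := fun X ↦ Arrow.mk (0 : X ⟶ 0)
      map := fun {X Y} f ↦ Arrow.homMk f (𝟙 0) (by simp)
      map_id := fun X ↦ by ext <;> simp
      map_comp := fun f g ↦ by ext <;> simp }
  refine ⟨toArrow ⋙ data.Z,
    { app := fun X ↦ data.i.app (toArrow.obj X)
      naturality := fun X Y f ↦ by
        exact data.i.naturality (toArrow.map f) }, fun F ↦ ⟨?_, ?_⟩⟩
  · have hp := data.hp (toArrow.obj F)
    rw [injective_iff_rlp_monomorphisms_zero]
    have h0 : data.p.app (toArrow.obj F) = 0 := (isZero_zero 𝒜).eq_of_tgt _ _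
    rw [h0] at hp
    exact hp
  · exact data.hi (toArrow.obj F)

/-- On a small category C the category of presheaves of abelian groups has functorial injective
embeddings: there are an endofunctor J of the presheaf category and a natural transformation from
the identity to J with each component a monomorphism into an injective presheaf. -/
theorem result {C : Type u} [SmallCategory C] :
    ∃ (J : (Cᵒᵖ ⥤ AddCommGrpCat.{u}) ⥤ (Cᵒᵖ ⥤ AddCommGrpCat.{u})) (j : 𝟭 _ ⟶ J),
      ∀ F : Cᵒᵖ ⥤ AddCommGrpCat.{u}, Injective (J.obj F) ∧ Mono (j.app F) := by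
  haveI : IsGrothendieckAbelian.{u} (Cᵒᵖ ⥤ AddCommGrpCat.{u}) :=
    IsGrothendieckAbelian.of_equivalence (sheafBotEquivalence AddCommGrpCat.{u})
  exact Groth.Agent.S0928.functorial_inj

end Groth.Agent.S0928
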