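import Groth.Statements.S0918
import Mathlib
import Groth.Agent.S0928

set_option autoImplicit false
universe v u
open CategoryTheory
open CohDer

namespace Groth.Agent.S0918

section Helpers
open CategoryTheory Limits CochainComplex HomComplex

variable {A : Type u} [Category.{v} A] [Abelian A]

/-- epi part of the cocone lemma, stated in the cone with free indices -/
theorem cone_epi_part (S : ShortComplex (CochainComplex A ℤ)) (hS : S.ShortExact)
    (o p q r : ℤ) (hop : o + 1 = p) (hpq : p + 1 = q) (hqr : q + 1 = r)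
    (q' : ℤ) (hpq' : p + 1 = q')
    {T : A} (y : T ⟶ (mappingCone S.g).X p) (hy : y ≫ (mappingCone S.g).d p q' = 0) :
    ∃ (T' : A) (π : T' ⟶ T) (_ : Epi π) (x : T' ⟶ S.X₁.X q) (_ : x ≫ S.X₁.d q r = 0)
      (z : T' ⟶ (mappingCone S.g).X o),
      π ≫ y = x ≫ S.f.f q ≫ (mappingCone.inl S.g).v q p (by omega) +
        z ≫ (mappingCone S.g).d o p := by
  obtain rfl : q = q' := by omega
  have hSq := (HomologicalComplex.shortExact_iff_degreewise_shortExact S).1 hS
  have : Epi (S.g.f p) := (hSq p).epi_g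
  have : Mono (S.f.f r) := (hSq r).mono_f
  have : Mono (S.f.f q) := (hSq q).mono_f
  haveI : Mono (S.map (HomologicalComplex.eval A (ComplexShape.up ℤ) q)).f := (hSq q).mono_f
  obtain ⟨c, hc⟩ : ∃ c, c = y ≫ (mappingCone.fst S.g).1.v p q hpq := ⟨_, rfl⟩
  obtain ⟨w, hw⟩ : ∃ w, w = y ≫ (mappingCone.snd S.g).v p p (add_zero p) := ⟨_, rfl⟩
  have h1 : c ≫ S.X₂.d q r = 0 := by
    have := congrArg (· ≫ (mappingCone.fst S.g).1.v q r hqr) hy
    simp only [Category.assoc, zero_comp, mappingCone.d_fst_v S.g p q r hpq hqr] at this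
    simpa [hc] using this
  have h2 : c ≫ S.g.f q + w ≫ S.X₃.d p q = 0 := by
    have := congrArg (· ≫ (mappingCone.snd S.g).v q q (add_zero q)) hy
    simp only [Category.assoc, zero_comp, mappingCone.d_snd_v S.g p q hpq] at this
    simpa [hc, hw] using this
  obtain ⟨T₁, π₁, hπ₁, ct, hct⟩ := surjective_up_to_refinements_of_epi (S.g.f p) w
  have h3 : (π₁ ≫ c + ct ≫ S.X₂.d p q) ≫ S.g.f q = 0 := by
    rw [Preadditive.add_comp, Category.assoc, Category.assoc, ← S.g.comm, ← reassoc_of% hct,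
      ← Preadditive.comp_add, h2, comp_zero]
  obtain ⟨x, hx⟩ : ∃ x : T₁ ⟶ S.X₁.X q, x ≫ S.f.f q = π₁ ≫ c + ct ≫ S.X₂.d p q :=
    ⟨(hSq q).exact.lift _ h3, (hSq q).exact.lift_f _ h3⟩
  refine ⟨T₁, π₁, hπ₁, x, ?_, ct ≫ (mappingCone.inl S.g).v p o (by omega), ?_⟩
  · rw [← cancel_mono (S.f.f r), Category.assoc, ← S.f.comm, reassoc_of% hx, zero_comp,
      Preadditive.add_comp, Category.assoc, Category.assoc, h1, comp_zero,
      HomologicalComplex.d_comp_d, comp_zero, add_zero]
  · rw [reassoc_of% hx, Category.assoc, mappingCone.inl_v_d S.g p o q (by omega) (by omega)]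
    have hid := mappingCone.id_X S.g p q hpq
    calc π₁ ≫ y = π₁ ≫ y ≫ 𝟙 _ := by rw [Category.comp_id]
      _ = π₁ ≫ c ≫ (mappingCone.inl S.g).v q p (by omega) +
            π₁ ≫ w ≫ (mappingCone.inr S.g).f p := by
          rw [← hid]; simp [hc, hw]
      _ = _ := by
          rw [reassoc_of% hct]
          simp only [Preadditive.add_comp, Preadditive.comp_sub, Category.assoc]
          abel


theorem cone_mono_part (S : ShortComplex (CochainComplex A ℤ)) (hS : S.ShortExact)
    (o p q r : ℤ) (hop : o + 1 = p) (hpq : p + 1 = q) (hqr : q + 1 = r)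
    {T : A} (x : T ⟶ S.X₁.X q) (hx : x ≫ S.X₁.d q r = 0)
    (y₁ : T ⟶ (mappingCone S.g).X o)
    (h : x ≫ S.f.f q ≫ (mappingCone.inl S.g).v q p (by omega) =
      y₁ ≫ (mappingCone S.g).d o p) :
    ∃ (T' : A) (π : T' ⟶ T) (_ : Epi π) (x₁ : T' ⟶ S.X₁.X p),
      π ≫ x = x₁ ≫ S.X₁.d p q := by
  have hSq := (HomologicalComplex.shortExact_iff_degreewise_shortExact S).1 hS
  have : Epi (S.g.f o) := (hSq o).epi_g
  have : Mono (S.f.f q) := (hSq q).mono_f
  haveI : Mono (S.map (HomologicalComplex.eval A (ComplexShape.up ℤ) p)).f := (hSq p).mono_f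
  obtain ⟨c, hc⟩ : ∃ c, c = y₁ ≫ (mappingCone.fst S.g).1.v o p hop := ⟨_, rfl⟩
  obtain ⟨w, hw⟩ : ∃ w, w = y₁ ≫ (mappingCone.snd S.g).v o o (add_zero o) := ⟨_, rfl⟩
  have hA : x ≫ S.f.f q = - c ≫ S.X₂.d p q := by
    have := congrArg (· ≫ (mappingCone.fst S.g).1.v p q hpq) h
    simp only [Category.assoc, mappingCone.d_fst_v S.g o p q hop hpq,
      mappingCone.inl_v_fst_v, Category.comp_id] at this
    simpa [hc] using this
  have hB : c ≫ S.g.f p + w ≫ S.X₃.d o p = 0 := by
    have := congrArg (· ≫ (mappingCone.snd S.g).v p p (add_zero p)) h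
    simp only [Category.assoc, mappingCone.d_snd_v S.g o p hop,
      mappingCone.inl_v_snd_v, comp_zero] at this
    simpa [hc, hw] using this.symm
  obtain ⟨T₁, π₁, hπ₁, ct, hct⟩ := surjective_up_to_refinements_of_epi (S.g.f o) w
  have h3 : (π₁ ≫ c + ct ≫ S.X₂.d o p) ≫ S.g.f p = 0 := by
    rw [Preadditive.add_comp, Category.assoc, Category.assoc, ← S.g.comm, ← reassoc_of% hct,
      ← Preadditive.comp_add, hB, comp_zero]
  obtain ⟨x₁, hx₁⟩ : ∃ x₁ : T₁ ⟶ S.X₁.X p, x₁ ≫ S.f.f p = π₁ ≫ c + ct ≫ S.X₂.d o p :=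
    ⟨(hSq p).exact.lift _ h3, (hSq p).exact.lift_f _ h3⟩
  refine ⟨T₁, π₁, hπ₁, -x₁, ?_⟩
  rw [← cancel_mono (S.f.f q), Category.assoc, hA]
  simp only [Preadditive.neg_comp, Preadditive.comp_neg, Category.assoc]
  rw [← S.f.comm, reassoc_of% hx₁, Preadditive.add_comp, Category.assoc, Category.assoc,
    HomologicalComplex.d_comp_d, comp_zero, add_zero]


/-- shift back by one -/
noncomputable abbrev shiftBack (K : CochainComplex A ℤ) : CochainComplex A ℤ where
  X n := K.X (n - 1)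
  d i j := - K.d (i - 1) (j - 1)
  shape i j h := by
    have : ¬ (ComplexShape.up ℤ).Rel (i - 1) (j - 1) := by
      simp only [ComplexShape.up_Rel] at h ⊢; omega
    rw [K.shape _ _ this, neg_zero]
  d_comp_d' i j k _ _ := by simp

noncomputable def shiftBackMap {K L : CochainComplex A ℤ} (f : K ⟶ L) :
    shiftBack K ⟶ shiftBack L where
  f n := f.f (n - 1)
  comm' i j _ := by simp [shiftBack]

theorem jmap_comm (S : ShortComplex (CochainComplex A ℤ)) (i j a b : ℤ) (hij : i + 1 = j)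
    (ha : a + 1 = i) (hb : b + 1 = j) :
    (S.f.f i ≫ (mappingCone.inl S.g).v i a (by omega)) ≫ (-(mappingCone S.g).d a b) =
      S.X₁.d i j ≫ S.f.f j ≫ (mappingCone.inl S.g).v j b (by omega) := by
  obtain rfl : b = i := by omega
  rw [Preadditive.comp_neg, Category.assoc, mappingCone.inl_v_d S.g b a j (by omega) (by omega),
    Preadditive.comp_sub, ← HomologicalComplex.comp_f_assoc, S.zero]
  simp

noncomputable def jmap (S : ShortComplex (CochainComplex A ℤ)) :
    S.X₁ ⟶ shiftBack (mappingCone S.g) where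
  f n := S.f.f n ≫ (mappingCone.inl S.g).v n (n - 1) (by omega)
  comm' i j hij := jmap_comm S i j (i - 1) (j - 1) hij (by omega) (by omega)

theorem jmap_f (S : ShortComplex (CochainComplex A ℤ)) (n : ℤ) :
    (jmap S).f n = S.f.f n ≫ (mappingCone.inl S.g).v n (n - 1) (by omega) := rfl

theorem shiftBackMap_f {K L : CochainComplex A ℤ} (f : K ⟶ L) (n : ℤ) :
    (shiftBackMap f).f n = f.f (n - 1) := rfl

theorem quasiIso_jmap (S : ShortComplex (CochainComplex A ℤ)) (hS : S.ShortExact) :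
    QuasiIso (jmap S) := by
  rw [quasiIso_iff]
  intro n
  rw [quasiIsoAt_iff_isIso_homologyMap]
  have hmono : Mono (HomologicalComplex.homologyMap (jmap S) n) := by
    rw [HomologicalComplex.mono_homologyMap_iff_up_to_refinements (jmap S) (n - 1) n (n + 1)
      (by simp) (by simp)]
    intro T x hx y₁ hxy
    refine cone_mono_part S hS (n - 1 - 1) (n - 1) n (n + 1) (by omega) (by omega) rfl x hx
      (-y₁) ?_
    rw [Preadditive.neg_comp, ← Preadditive.comp_neg]
    exact hxy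
  have hepi : Epi (HomologicalComplex.homologyMap (jmap S) n) := by
    rw [HomologicalComplex.epi_homologyMap_iff_up_to_refinements (jmap S) (n - 1) n (n + 1)
      (by simp) (by simp)]
    intro T y hy
    have hy' : y ≫ (mappingCone S.g).d (n - 1) (n + 1 - 1) = 0 := by
      have : y ≫ (-(mappingCone S.g).d (n - 1) (n + 1 - 1)) = 0 := hy
      rwa [Preadditive.comp_neg, neg_eq_zero] at this
    obtain ⟨T', π, hπ, x, hx, z, hz⟩ := cone_epi_part S hS (n - 1 - 1) (n - 1) n
      (n + 1) (by omega) (by omega) rfl (n + 1 - 1) (by omega) y hy'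
    refine ⟨T', π, hπ, x, hx, -z, ?_⟩
    rw [hz]
    have : (-z) ≫ (shiftBack (mappingCone S.g)).d (n - 1) n =
        z ≫ (mappingCone S.g).d (n - 1 - 1) (n - 1) := by
      show (-z) ≫ (-(mappingCone S.g).d (n - 1 - 1) (n - 1)) = _
      rw [Preadditive.neg_comp, Preadditive.comp_neg, neg_neg]
    rw [this]
    rfl
  exact isIso_of_mono_of_epi _


variable (J : A ⥤ A) (ι : 𝟭 A ⟶ J)

noncomputable abbrev Ccx (M : CochainComplex A ℤ) : CochainComplex A ℤ where
  X n := J.obj (M.X n) ⊞ J.obj (M.X (n + 1))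
  d i j := if h : i + 1 = j then biprod.snd ≫ J.map ((M.XIsoOfEq h).hom) ≫ biprod.inl else 0
  shape i j h := dif_neg h
  d_comp_d' i j k hij hjk := by
    obtain rfl : i + 1 = j := hij
    obtain rfl : i + 1 + 1 = k := hjk
    simp

noncomputable def Cmap {M M' : CochainComplex A ℤ} (f : M ⟶ M') : Ccx J M ⟶ Ccx J M' where
  f n := biprod.map (J.map (f.f n)) (J.map (f.f (n + 1)))
  comm' := by
    rintro i j (rfl : i + 1 = j)
    simp

theorem Cmap_id (M : CochainComplex A ℤ) : Cmap J (𝟙 M) = 𝟙 _ := by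
  ext n
  all_goals simp [Cmap]

theorem Cmap_comp {M M' M'' : CochainComplex A ℤ} (f : M ⟶ M') (g : M' ⟶ M'') :
    Cmap J (f ≫ g) = Cmap J f ≫ Cmap J g := by
  ext n
  all_goals simp [Cmap]

noncomputable def αmap (M : CochainComplex A ℤ) : M ⟶ Ccx J M where
  f n := biprod.lift (ι.app (M.X n)) (M.d n (n + 1) ≫ ι.app (M.X (n + 1)))
  comm' := by
    rintro i j (rfl : i + 1 = j)
    apply biprod.hom_ext <;> simp

theorem αmap_nat {M M' : CochainComplex A ℤ} (f : M ⟶ M') :
    αmap J ι M ≫ Cmap J f = f ≫ αmap J ι M' := by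
  ext n
  · simpa [αmap, Cmap] using (ι.naturality (f.f n)).symm
  · have := (ι.naturality (f.f (n + 1))).symm
    simp only [Functor.id_obj, Functor.id_map] at this
    simp [αmap, Cmap, this]

noncomputable abbrev Sseq (M : CochainComplex A ℤ) : ShortComplex (CochainComplex A ℤ) :=
  ShortComplex.mk (αmap J ι M) (cokernel.π (αmap J ι M)) (cokernel.condition _)

theorem Sseq_shortExact (hι : ∀ X, Mono (ι.app X)) (M : CochainComplex A ℤ) :
    (Sseq J ι M).ShortExact := by
  haveI : ∀ n, Mono ((αmap J ι M).f n) := fun n ↦ by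
    haveI := hι (M.X n)
    have : (αmap J ι M).f n ≫ biprod.fst = ι.app (M.X n) := by simp [αmap]
    exact mono_of_mono_fac this
  haveI : Mono (αmap J ι M) := HomologicalComplex.mono_of_mono_f _ inferInstance
  exact
    { exact := ShortComplex.exact_of_g_is_cokernel _ (cokernelIsCokernel _)
      mono_f := by dsimp [Sseq]; infer_instance
      epi_g := by dsimp [Sseq]; infer_instance }

noncomputable def Qmap {M M' : CochainComplex A ℤ} (f : M ⟶ M') :
    cokernel (αmap J ι M) ⟶ cokernel (αmap J ι M') :=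
  cokernel.map _ _ f (Cmap J f) (αmap_nat J ι f)

theorem Qmap_id (M : CochainComplex A ℤ) : Qmap J ι (𝟙 M) = 𝟙 _ := by
  apply coequalizer.hom_ext
  simp [Qmap, Cmap_id]

theorem Qmap_comp {M M' M'' : CochainComplex A ℤ} (f : M ⟶ M') (g : M' ⟶ M'') :
    Qmap J ι (f ≫ g) = Qmap J ι f ≫ Qmap J ι g := by
  apply coequalizer.hom_ext
  simp [Qmap, Cmap_comp]

theorem π_Qmap {M M' : CochainComplex A ℤ} (f : M ⟶ M') :
    (Sseq J ι M).g ≫ Qmap J ι f = Cmap J f ≫ (Sseq J ι M').g := by
  simp [Sseq, Qmap]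

theorem cone_map_congr {K₁ L₁ K₂ L₂ : CochainComplex A ℤ} (φ₁ : K₁ ⟶ L₁) (φ₂ : K₂ ⟶ L₂)
    {a a' : K₁ ⟶ K₂} {b b' : L₁ ⟶ L₂} (ha : a = a') (hb : b = b')
    (comm : φ₁ ≫ b = a ≫ φ₂) :
    mappingCone.map φ₁ φ₂ a b comm =
      mappingCone.map φ₁ φ₂ a' b' (by rw [← ha, ← hb]; exact comm) := by
  subst ha hb; rfl

noncomputable def Nfun : CochainComplex A ℤ ⥤ CochainComplex A ℤ where
  obj M := shiftBack (mappingCone (Sseq J ι M).g)
  map {M M'} f := shiftBackMap (mappingCone.map (Sseq J ι M).g (Sseq J ι M').g (Cmap J f)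
    (Qmap J ι f) (π_Qmap J ι f))
  map_id M := by
    rw [cone_map_congr _ _ (Cmap_id J M) (Qmap_id J ι M), mappingCone.map_id]
    rfl
  map_comp {M M' M''} f g := by
    rw [cone_map_congr _ _ (Cmap_comp J f g) (Qmap_comp J ι f g),
      mappingCone.map_comp _ _ _ _ _ (π_Qmap J ι f) _ _ (π_Qmap J ι g)]
    rfl

noncomputable def jnat : 𝟭 (CochainComplex A ℤ) ⟶ Nfun J ι where
  app M := jmap (Sseq J ι M)
  naturality {M M'} f := by
    ext n
    have h1 := congrArg (fun φ ↦ φ.f n) (αmap_nat J ι f)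
    simp only [HomologicalComplex.comp_f] at h1
    simp only [Functor.id_obj, Functor.id_map, HomologicalComplex.comp_f, jmap_f, Nfun,
      shiftBackMap_f, Category.assoc, mappingCone.map, mappingCone.inl_v_desc_f,
      Cochain.zero_cochain_comp_v, Cochain.ofHom_v]
    rw [← reassoc_of% h1]


end Helpers

/-- Let A be a Grothendieck abelian category. There are an endofunctor N of the category of cochain
complexes and a natural transformation j from the identity to N such that for every complex M: j_M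
is a termwise monomorphism and a quasi-isomorphism, and for every n the map M^n -> N(M)^n factors
through a monomorphism I -> N(M)^n from an injective object I. -/
theorem result {A : Type u} [Category.{v} A] [Abelian A]
    [IsGrothendieckAbelian.{v} A] :
    ∃ (N : CochainComplex A ℤ ⥤ CochainComplex A ℤ) (j : 𝟭 _ ⟶ N),
      ∀ M : CochainComplex A ℤ, (∀ n : ℤ, Mono ((j.app M).f n)) ∧ QuasiIso (j.app M) ∧
        ∀ n : ℤ, ∃ (I : A) (_ : Injective I) (a : M.X n ⟶ I) (b : I ⟶ (N.obj M).X n),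
          Mono b ∧ a ≫ b = (j.app M).f n := by
  obtain ⟨J, ι, hJ⟩ := Groth.Agent.S0928.functorial_inj (𝒜 := A)
  have hι : ∀ X, Mono (ι.app X) := fun X ↦ (hJ X).2
  refine ⟨Groth.Agent.S0918.Nfun J ι, Groth.Agent.S0918.jnat J ι, fun M ↦ ⟨fun n ↦ ?_, ?_, fun n ↦ ?_⟩⟩
  · haveI := hι (M.X n)
    have h1 : (Groth.Agent.S0918.αmap J ι M).f n ≫ Limits.biprod.fst = ι.app (M.X n) := by
      simp [Groth.Agent.S0918.αmap]
    haveI : Mono ((Groth.Agent.S0918.αmap J ι M).f n) := mono_of_mono_fac h1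
    have h2 : (Groth.Agent.S0918.jmap (Groth.Agent.S0918.Sseq J ι M)).f n ≫
        (CochainComplex.mappingCone.fst (Groth.Agent.S0918.Sseq J ι M).g).1.v (n - 1) n (by omega) =
        (Groth.Agent.S0918.αmap J ι M).f n := by
      simp [Groth.Agent.S0918.jmap_f]
    exact mono_of_mono_fac h2
  · exact Groth.Agent.S0918.quasiIso_jmap _ (Groth.Agent.S0918.Sseq_shortExact J ι hι M)
  · have h2 : ((Limits.biprod.lift (𝟙 _) (J.map (M.d n (n + 1))) :
            J.obj (M.X n) ⟶ (Groth.Agent.S0918.Ccx J M).X n) ≫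
          (CochainComplex.mappingCone.inl (Groth.Agent.S0918.Sseq J ι M).g).v n (n - 1) (by omega)) ≫
          ((CochainComplex.mappingCone.fst (Groth.Agent.S0918.Sseq J ι M).g).1.v (n - 1) n (by omega) ≫
            Limits.biprod.fst) = 𝟙 _ := by
      simp
    have h3 : ι.app (M.X n) ≫ (Limits.biprod.lift (𝟙 _) (J.map (M.d n (n + 1))) :
          J.obj (M.X n) ⟶ (Groth.Agent.S0918.Ccx J M).X n) = (Groth.Agent.S0918.αmap J ι M).f n := by
      have := (ι.naturality (M.d n (n + 1))).symm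
      simp only [Functor.id_obj, Functor.id_map] at this
      apply Limits.biprod.hom_ext <;> simp [Groth.Agent.S0918.αmap, this]
    have h4 : ι.app (M.X n) ≫ ((Limits.biprod.lift (𝟙 _) (J.map (M.d n (n + 1))) :
            J.obj (M.X n) ⟶ (Groth.Agent.S0918.Ccx J M).X n) ≫
          (CochainComplex.mappingCone.inl (Groth.Agent.S0918.Sseq J ι M).g).v n (n - 1) (by omega)) =
        (Groth.Agent.S0918.jmap (Groth.Agent.S0918.Sseq J ι M)).f n := by
      rw [Groth.Agent.S0918.jmap_f, ← Category.assoc, h3]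
    exact ⟨J.obj (M.X n), (hJ _).1, ι.app (M.X n), _, mono_of_mono_fac h2, h4⟩

end Groth.Agent.S0918
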