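import Groth.Statements.S0919
import Mathlib

set_option autoImplicit false
universe v u
open CategoryTheory
open CohDer

namespace Groth.Agent.S0919

open CategoryTheory.Limits in
/-- Let A be a Grothendieck abelian category and F a contravariant functor from A to sets (a functor on
the opposite category). Then F is representable if and only if F turns all small colimits of A into
limits, i.e. preserves small limits as a functor on the opposite category. -/
theorem result {A : Type u} [Category.{v} A] [Abelian A]
    [IsGrothendieckAbelian.{v} A] (F : Aᵒᵖ ⥤ Type v) :
    F.IsRepresentable ↔ PreservesLimitsOfSize.{v, v} F := by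
  constructor
  · intro h
    exact preservesLimits_of_natIso F.reprW
  · intro h
    have hsep : (ObjectProperty.singleton (separator A)).op.IsCoseparating :=
      (ObjectProperty.isCoseparating_op_iff _).2 (isSeparator_separator A)
    haveI : F.IsRightAdjoint := isRightAdjoint_of_preservesLimits_of_isCoseparating hsep F
    let L := F.leftAdjoint
    let adj : L ⊣ F := Adjunction.ofIsRightAdjoint F
    refine ⟨(L.obj PUnit).unop, ⟨?_⟩⟩
    exact {
      homEquiv := fun {Y} =>
        { toFun := fun f => adj.homEquiv PUnit (Opposite.op Y) f.op PUnit.unit
          invFun := fun x => ((adj.homEquiv PUnit (Opposite.op Y)).symm (TypeCat.ofHom fun _ => x)).unop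
          left_inv := fun f => by
            have : (TypeCat.ofHom fun _ : PUnit => adj.homEquiv PUnit (Opposite.op Y) f.op PUnit.unit) = adj.homEquiv PUnit (Opposite.op Y) f.op := by
              ext x; cases x; rfl
            simp only [this, Equiv.symm_apply_apply]; rfl
          right_inv := fun x => by
            simp }
      homEquiv_comp := fun {Y Y'} f g => by
        simp only [Equiv.coe_fn_mk]
        rw [op_comp, adj.homEquiv_naturality_right]
        rfl }

end Groth.Agent.S0919
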