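import Groth.Statements.S0925
import Groth.Agent.H10.ClosedAdj
import Groth.Prelude.Def_LocCohZ
import Mathlib

set_option autoImplicit false
universe u
open CategoryTheory
open CohTop

namespace Groth.Agent.S0925

open TopologicalSpace in
/-- For an open U of X with closed complement Z and an injective abelian sheaf I on X, the sheaf H_Z(I),
the sheaf on Z of sections of I supported in Z (pullback to Z of the kernel of I -> j_* j^{-1} I, j
: U -> X), is an injective abelian sheaf on Z. -/
theorem result {X : TopCat.{u}} (U : Opens X) (I : CohTop.Ab X) [Injective I] :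
    Injective (CohCx.HZ U I) := by
  have H : Topology.IsOpenEmbedding (TopCat.Hom.hom (CohCx.incl U)) := U.isOpenEmbedding
  have hc := H.functor_isContinuous
  let adj : CohTop.pull (CohCx.incl U) ⊣ CohTop.push (CohCx.incl U) :=
    TopCat.Sheaf.pullbackPushforwardAdjunction AddCommGrpCat.{u} (CohCx.incl U)
  let ι : LocCohZ.sectSuppF U ⟶ 𝟭 (CohTop.Ab X) :=
    { app := fun G => CategoryTheory.Limits.kernel.ι (adj.unit.app G)
      naturality := fun G G' f => CategoryTheory.Limits.kernel.lift_ι _ _ _ }
  have w : ∀ G : CohTop.Ab X, ι.app G ≫ adj.unit.app G = 0 :=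
    fun G => CategoryTheory.Limits.kernel.condition _
  have hΓ : ∀ G : CohTop.Ab X, CategoryTheory.Limits.IsLimit (CategoryTheory.Limits.KernelFork.ofι (ι.app G) (w G)) :=
    fun G => CategoryTheory.Limits.kernelIsKernel _
  have hi : Topology.IsInducing (TopCat.Hom.hom (CohCx.inclCompl U)) :=
    Topology.IsInducing.subtypeVal
  have hrange : Set.range (TopCat.Hom.hom (CohCx.inclCompl U)) = (U : Set X)ᶜ :=
    Subtype.range_val
  have hrangej : Set.range (TopCat.Hom.hom (CohCx.incl U)) = (U : Set X) :=
    Subtype.range_val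
  have hr : IsClosed (Set.range (TopCat.Hom.hom (CohCx.inclCompl U))) := by
    rw [hrange]
    exact U.isOpen.isClosed_compl
  have hdisj : ∀ z : TopCat.of ((U : Set X)ᶜ : Set X),
      (TopCat.Hom.hom (CohCx.inclCompl U)) z ∉ Set.range (TopCat.Hom.hom (CohCx.incl U)) := by
    intro z hz
    rw [hrangej] at hz
    exact z.2 hz
  have hcov : ∀ x : X, x ∈ Set.range (TopCat.Hom.hom (CohCx.inclCompl U)) ∨
      x ∈ Set.range (TopCat.Hom.hom (CohCx.incl U)) := by
    intro x
    rw [hrange, hrangej]
    by_cases hx : x ∈ (U : Set X)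
    · exact Or.inr hx
    · exact Or.inl hx
  obtain ⟨adjZ⟩ := @Groth.Agent.H10.ClosedAdj.nonempty_adjunction X (TopCat.of U)
    (TopCat.of ((U : Set X)ᶜ : Set X)) (CohCx.incl U) H hc (CohCx.inclCompl U) hi hr hdisj hcov
    (LocCohZ.sectSuppF U) ι w hΓ
  have hpm : (CohTop.push (CohCx.inclCompl U)).PreservesMonomorphisms :=
    Functor.preservesMonomorphisms_of_adjunction
      (TopCat.Sheaf.pullbackPushforwardAdjunction AddCommGrpCat.{u} (CohCx.inclCompl U))
  exact Injective.injective_of_adjoint adjZ I

end Groth.Agent.S0925
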