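import Groth.Statements.S0926
import Groth.Agent.H10.CohTopH
import Mathlib

set_option autoImplicit false
universe u
open CategoryTheory
open CohTop

namespace Groth.Agent.S0926

open TopologicalSpace CategoryTheory.Limits in
/-- Let X be an irreducible topological space and H an abelian subsheaf of the constant sheaf Z (given
by a monomorphism ι). Then there are a nonempty open U and an integer d such that over U the
subsheaf H coincides with the image of multiplication by d on the constant sheaf: the images of ι|_U
and of (d · id)|_U agree as subobjects of the constant sheaf on U. -/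
theorem result {X : TopCat.{u}} [IrreducibleSpace X]
    (H : CohTop.Ab X) (ι : H ⟶ CohTop.const X (ULift.{u} ℤ)) [Mono ι] :
    ∃ (U : Opens X) (d : ℤ), U ≠ ⊥ ∧
      imageSubobject ((CohTop.restrFunctor U).map ι) =
        imageSubobject ((CohTop.restrFunctor U).map (d • 𝟙 (CohTop.const X (ULift.{u} ℤ)))) := by
  obtain ⟨U, d, hUne, hA, hB⟩ := Groth.Agent.H10.CohTopB.subsheaf_const_aux H ι
  refine ⟨U, d, ?_, ?_⟩
  · intro hbot
    subst hbot
    simp at hUne
  · have : Mono ((CohTop.restrFunctor U).map ι) := inferInstance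
    refine Groth.Agent.H10.CohTopB.imageSubobject_eq_of_sections _ _ ?_ ?_
    · intro W z
      obtain ⟨h, hh⟩ := hA ((Groth.Agent.H10.CohTopB.jF U).obj W.unop)
        (Groth.Agent.H10.CohTopB.jF_le U W.unop) z
      refine ⟨h, ?_⟩
      show ι.hom.app (Opposite.op ((Groth.Agent.H10.CohTopB.jF U).obj W.unop)) h =
        (d • 𝟙 (CohTop.const X (ULift.{u} ℤ))).hom.app
          (Opposite.op ((Groth.Agent.H10.CohTopB.jF U).obj W.unop)) z
      rw [Groth.Agent.H10.CohTopB.zsmul_id_app]
      exact hh
    · intro W h
      obtain ⟨z, hz⟩ := hB ((Groth.Agent.H10.CohTopB.jF U).obj W.unop)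
        (Groth.Agent.H10.CohTopB.jF_le U W.unop) h
      refine ⟨z, ?_⟩
      show ι.hom.app (Opposite.op ((Groth.Agent.H10.CohTopB.jF U).obj W.unop)) h =
        (d • 𝟙 (CohTop.const X (ULift.{u} ℤ))).hom.app
          (Opposite.op ((Groth.Agent.H10.CohTopB.jF U).obj W.unop)) z
      rw [Groth.Agent.H10.CohTopB.zsmul_id_app]
      exact hz

end Groth.Agent.S0926
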