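import Groth.Statements.S0929
import Mathlib
import Mathlib

set_option autoImplicit false
universe u
open CategoryTheory
open CohDer

namespace Groth.Agent.S0929

open CategoryTheory.Limits ZeroObject in
/-- For a presheaf of rings O on a small category C, the category of presheaves of O-modules has
functorial injective embeddings (an endofunctor J with a natural transformation from the identity
whose components are monomorphisms into injective objects). -/
theorem result {C : Type u} [SmallCategory C]
    (O : Cᵒᵖ ⥤ RingCat.{u}) :
    ∃ (J : PresheafOfModules.{u} O ⥤ PresheafOfModules.{u} O) (j : 𝟭 _ ⟶ J),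
      ∀ F : PresheafOfModules.{u} O, Injective (J.obj F) ∧ Mono (j.app F) := by
  haveI : IsGrothendieckAbelian.{u} (PresheafOfModules.{u} O) :=
    { ab5OfSize := ⟨fun K _ _ =>
        CategoryTheory.HasExactColimitsOfShape.domain_of_functor K (PresheafOfModules.toPresheaf O)⟩
      hasSeparator := ⟨⟨_, (PresheafOfModules.freeYoneda.isSeparating O).isSeparator_coproduct⟩⟩ }
  let data := MorphismProperty.functorialFactorizationData
    (MorphismProperty.monomorphisms (PresheafOfModules.{u} O))
    (MorphismProperty.monomorphisms (PresheafOfModules.{u} O)).rlp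
  let Z0 : PresheafOfModules.{u} O ⥤ Arrow (PresheafOfModules.{u} O) :=
    { obj := fun X => Arrow.mk (0 : X ⟶ 0)
      map := fun f => Arrow.homMk f (𝟙 (0 : PresheafOfModules.{u} O)) (by simp)
      map_id := fun X => by
        apply Arrow.hom_ext
        · rfl
        · rfl
      map_comp := fun f g => by
        apply Arrow.hom_ext
        · rfl
        · simp }
  let j : 𝟭 (PresheafOfModules.{u} O) ⟶ Z0 ⋙ data.Z :=
    { app := fun X => data.i.app (Z0.obj X)
      naturality := fun X Y f => data.i.naturality (Z0.map f) }
  refine ⟨Z0 ⋙ data.Z, j, fun F => ⟨?_, ?_⟩⟩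
  · have hp := data.hp (Arrow.mk (0 : F ⟶ 0))
    have h0 : data.p.app (Arrow.mk (0 : F ⟶ 0)) = 0 := (Limits.isZero_zero _).eq_of_tgt _ _
    rw [h0] at hp
    exact (injective_iff_rlp_monomorphisms_zero _).mpr hp
  · exact (MorphismProperty.monomorphisms.iff _).mp (data.hi (Arrow.mk (0 : F ⟶ 0)))

end Groth.Agent.S0929
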