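import Groth.Statements.S0930
import Groth.Agent.S12541

set_option autoImplicit false
universe u
open CategoryTheory
attribute [local instance] HasDerivedCategory.standard
open CohTop

namespace Groth.Agent.S0930

universe v₁ v₂ v₃ u₁ u₂ u₃

lemma aux {C : Type u₁} [Category.{v₁} C] {D : Type u₂} [Category.{v₂} D] {H : Type u₃} [Category.{v₃} H]
    {F F' : C ⥤ H} {L : C ⥤ D} (W : MorphismProperty C) [L.IsLocalization W] (RF RF' : D ⥤ H)
    (α : F ⟶ L ⋙ RF) (α' : F' ⟶ L ⋙ RF') (h : RF.IsRightDerivedFunctor α W)
    (h' : RF'.IsRightDerivedFunctor α' W) (τ : F ≅ F') : Nonempty (RF ≅ RF') :=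
  ⟨Functor.rightDerivedNatIso RF RF' α α' W τ⟩

open CategoryTheory.Limits in
lemma pfl_pull {X Y : TopCat.{u}} (f : X ⟶ Y) : PreservesFiniteLimits (CohTop.pull f) := by
  exact Functor.SmallCategories.instPreservesFiniteLimitsSheafSheafPullbackOfRepresentablyFlat
    (TopologicalSpace.Opens.map f) AddCommGrpCat.{u} (Opens.grothendieckTopology Y)
    (Opens.grothendieckTopology X)

open CategoryTheory.Limits in
lemma pfl_push {X Y : TopCat.{u}} (f : X ⟶ Y) : PreservesFiniteLimits (CohTop.push f) := by
  have adj : CohTop.pull f ⊣ CohTop.push f :=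
    TopCat.Sheaf.pullbackPushforwardAdjunction AddCommGrpCat.{u} f
  have : PreservesLimits (CohTop.push f) := adj.rightAdjoint_preservesLimits
  infer_instance

lemma injective_push {X Y : TopCat.{u}} (f : X ⟶ Y) (I : CohTop.Ab X) [Injective I] :
    Injective ((CohTop.push f).obj I) := by
  have adj : CohTop.pull f ⊣ CohTop.push f :=
    TopCat.Sheaf.pullbackPushforwardAdjunction AddCommGrpCat.{u} f
  have := pfl_pull f
  have : (CohTop.pull f).PreservesMonomorphisms := inferInstance
  exact Injective.injective_of_adjoint adj I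


/-- For continuous maps f : X -> Y and g : Y -> Z, the composite of the right derived functors Rf_* :
D^+(X) -> D^+(Y) and Rg_* : D^+(Y) -> D^+(Z) is isomorphic to R(g ∘ f)_* (existence of an
isomorphism of functors between bounded below derived categories). -/
theorem result {X Y Z : TopCat.{u}} (f : X ⟶ Y) (g : Y ⟶ Z) :
    Nonempty ((CohTop.push f).rightDerivedFunctorPlus ⋙ (CohTop.push g).rightDerivedFunctorPlus ≅
      (CohTop.push (f ≫ g)).rightDerivedFunctorPlus) := by
  have := pfl_push f
  have := pfl_push g
  have hFG : ∀ I : CohTop.Ab X, Injective I →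
      IsIso ((CohTop.push g).rightDerivedFunctorPlusUnit.app
        ((HomotopyCategory.Plus.singleFunctor (CohTop.Ab Y) 0).obj ((CohTop.push f).obj I))) := by
    intro I hI
    have : Injective ((CohTop.push f).obj I) := injective_push f I
    have : ∀ n, Injective ((Groth.Agent.H23.DerPlus.sgl ((CohTop.push f).obj I)).obj.X n) :=
      fun n => by
        change Injective (((HomologicalComplex.single _ (ComplexShape.up ℤ) 0).obj _).X n)
        infer_instance
    change IsIso ((CohTop.push g).rightDerivedFunctorPlusUnit.app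
      ((HomotopyCategory.Plus.quotient _).obj
        (Groth.Agent.H23.DerPlus.sgl ((CohTop.push f).obj I))))
    infer_instance
  let e : CohTop.push f ⋙ CohTop.push g ≅ CohTop.push (f ≫ g) := Iso.refl _
  let τ : (CohTop.push f ⋙ CohTop.push g).mapHomotopyCategoryPlus ⋙ DerivedCategory.Plus.Qh ≅
      (CohTop.push (f ≫ g)).mapHomotopyCategoryPlus ⋙ DerivedCategory.Plus.Qh :=
    Functor.isoWhiskerRight ((Functor.mapHomotopyCategoryPlusCompIso (Iso.refl _)).symm ≪≫
      Functor.mapHomotopyCategoryPlusCompIso e) _
  exact aux (HomotopyCategory.Plus.quasiIso _) _ _ _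
    (CohTop.push (f ≫ g)).rightDerivedFunctorPlusUnit
    (Groth.Agent.S12541.result (CohTop.push f) (CohTop.push g) hFG) inferInstance τ

end Groth.Agent.S0930
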