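import Groth.Statements.S16023
import Mathlib
import Groth.Agent.S0861
import Groth.Agent.S16021

set_option autoImplicit false
universe u
open CategoryTheory CategoryTheory.Limits Opposite
open CechEdge

namespace Groth.Agent.S16023

section helpers

open CategoryTheory CategoryTheory.Limits Opposite AlgebraicTopology Simplicial
  CategoryTheory.Abelian
open Groth.Agent.S0859 (hom_congr_apply PD Yc pr cochain_ext cochain_mk KK dK cmap cmap_inj Qf wh
  cmapS_pr_apply sec3)

variable {C : Type u} [SmallCategory C] [HasPullbacks C] {J : GrothendieckTopology C} {U : C}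
  {ι : Type u} (Y : ι → Over U)

theorem psh_sec (T : ShortComplex (Cᵒᵖ ⥤ AddCommGrpCat.{u})) (hT : T.ShortExact) (V : Cᵒᵖ) :
    Function.Injective (T.f.app V).hom ∧
    (∀ z : T.X₂.obj V, (T.g.app V).hom z = 0 → ∃ c : T.X₁.obj V, (T.f.app V).hom c = z) ∧
    Function.Surjective (T.g.app V).hom := by
  have h := hT.map_of_exact ((evaluation Cᵒᵖ AddCommGrpCat.{u}).obj V)
  exact ⟨(AddCommGrpCat.mono_iff_injective _).mp h.mono_f,
    (ShortComplex.ab_exact_iff _).mp h.exact, (AddCommGrpCat.epi_iff_surjective _).mp h.epi_g⟩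

theorem ker_cochain_gen {A B D : Cᵒᵖ ⥤ AddCommGrpCat.{u}} (α : A ⟶ B) (β : B ⟶ D)
    (hex : ∀ (V : Cᵒᵖ) (z : B.obj V), (β.app V).hom z = 0 → ∃ c : A.obj V, (α.app V).hom c = z)
    (n : ℕ) (b : (Yc Y (Qf B)).obj ⦋n⦌) (hb : (cmap Y (wh β) n).hom b = 0) :
    ∃ a : (Yc Y (Qf A)).obj ⦋n⦌, (cmap Y (wh α) n).hom a = b := by
  have h3 : ∀ x : Fin (n + 1) → ι, ∃ c : A.obj (op (PD Y n x).left),
      (α.app (op (PD Y n x).left)).hom c = (pr Y (Qf B) n x).hom b := by
    intro x
    apply hex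
    have e := cmapS_pr_apply Y β n x b
    exact e.symm.trans ((congrArg (pr Y (Qf D) n x).hom hb).trans (map_zero _))
  choose c hc using h3
  obtain ⟨cc, hcc⟩ := cochain_mk Y (Qf A) n c
  refine ⟨cc, cochain_ext Y (Qf B) n _ _ (fun x => ?_)⟩
  exact (cmapS_pr_apply Y α n x cc).trans
    ((congrArg (α.app (op (PD Y n x).left)).hom (hcc x)).trans (hc x))

theorem lift_cochain_gen {B D : Cᵒᵖ ⥤ AddCommGrpCat.{u}} (β : B ⟶ D)
    (hsurj : ∀ V : Cᵒᵖ, Function.Surjective (β.app V).hom) (n : ℕ)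
    (q : (Yc Y (Qf D)).obj ⦋n⦌) :
    ∃ b : (Yc Y (Qf B)).obj ⦋n⦌, (cmap Y (wh β) n).hom b = q := by
  have hs : ∀ x : Fin (n + 1) → ι, ∃ t : B.obj (op (PD Y n x).left),
      (β.app (op (PD Y n x).left)).hom t = (pr Y (Qf D) n x).hom q := fun x => hsurj _ _
  choose t ht using hs
  obtain ⟨b, hb⟩ := cochain_mk Y (Qf B) n t
  refine ⟨b, cochain_ext Y (Qf D) n _ _ (fun x => ?_)⟩
  exact (cmapS_pr_apply Y β n x b).trans
    ((congrArg (β.app (op (PD Y n x).left)).hom (hb x)).trans (ht x))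

theorem cechSES (T : ShortComplex (Cᵒᵖ ⥤ AddCommGrpCat.{u})) (hT : T.ShortExact) :
    (T.map (CechEdge.cxFunctor Y)).ShortExact := by
  apply HomologicalComplex.shortExact_of_degreewise_shortExact
  intro n
  exact
    { exact := (ShortComplex.ab_exact_iff _).mpr
        (fun b hb => ker_cochain_gen Y T.f T.g (fun V => (psh_sec T hT V).2.1) n b hb)
      mono_f := (AddCommGrpCat.mono_iff_injective _).mpr
        (cmap_inj Y (wh T.f) (fun V => (psh_sec T hT (op V.left)).1) n)
      epi_g := (AddCommGrpCat.epi_iff_surjective _).mpr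
        (fun q => lift_cochain_gen Y T.g (fun V => (psh_sec T hT V).2.2) n q) }

theorem H0map_inj {K L : CochainComplex AddCommGrpCat.{u} ℕ} (φ : K ⟶ L)
    (h : Function.Injective (φ.f 0).hom) :
    Function.Injective (HomologicalComplex.homologyMap φ 0).hom := by
  have hπK : Function.Bijective (K.homologyπ 0).hom :=
    ConcreteCategory.bijective_of_isIso (K.homologyπ 0)
  have hπL : Function.Bijective (L.homologyπ 0).hom :=
    ConcreteCategory.bijective_of_isIso (L.homologyπ 0)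
  have hiK : Function.Injective (K.iCycles 0).hom :=
    (AddCommGrpCat.mono_iff_injective _).mp inferInstance
  intro x x' hx
  obtain ⟨z, rfl⟩ := hπK.2 x
  obtain ⟨z', rfl⟩ := hπK.2 x'
  have e1 : ∀ w, (HomologicalComplex.homologyMap φ 0).hom ((K.homologyπ 0).hom w) =
      (L.homologyπ 0).hom ((HomologicalComplex.cyclesMap φ 0).hom w) :=
    fun w => hom_congr_apply (HomologicalComplex.homologyπ_naturality φ 0) w
  have e2 : (HomologicalComplex.cyclesMap φ 0).hom z = (HomologicalComplex.cyclesMap φ 0).hom z' :=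
    hπL.1 (((e1 z).symm.trans hx).trans (e1 z'))
  have e3 : ∀ w, (L.iCycles 0).hom ((HomologicalComplex.cyclesMap φ 0).hom w) =
      (φ.f 0).hom ((K.iCycles 0).hom w) :=
    fun w => hom_congr_apply (HomologicalComplex.cyclesMap_i φ 0) w
  have e4 : (K.iCycles 0).hom z = (K.iCycles 0).hom z' :=
    h (((e3 z).symm.trans (congrArg (L.iCycles 0).hom e2)).trans (e3 z'))
  exact congrArg (K.homologyπ 0).hom (hiK e4)

omit [HasPullbacks C] in
theorem HUmap_inj {F G : Sheaf J AddCommGrpCat.{u}} (ψ : F ⟶ G) [IsIso ψ] (p : ℕ) (U : C) :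
    Function.Injective (CechEdge.HUmap ψ p U) := by
  intro x x' h
  have key : ∀ t : Ext.{u} (CohCx.freeSheaf J U) F p,
      (t.comp (Ext.mk₀ ψ) (add_zero p)).comp (Ext.mk₀ (inv ψ)) (add_zero p) = t := by
    intro t
    rw [Ext.comp_assoc _ _ _ (add_zero p) (add_zero 0) (by lia), Ext.mk₀_comp_mk₀,
      IsIso.hom_inv_id, Ext.comp_mk₀_id]
  have h' : (x : Ext.{u} (CohCx.freeSheaf J U) F p).comp (Ext.mk₀ ψ) (add_zero p) =
      (x' : Ext.{u} (CohCx.freeSheaf J U) F p).comp (Ext.mk₀ ψ) (add_zero p) := h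
  exact (key x).symm.trans
    ((congrArg (fun t => t.comp (Ext.mk₀ (inv ψ)) (add_zero p)) h').trans (key x'))

theorem e1_inj (J : GrothendieckTopology C) {U : C} {ι : Type u} (Y : ι → Over U)
    (e : ∀ (P : Cᵒᵖ ⥤ AddCommGrpCat.{u}) (p : ℕ),
      CohCx.cechH P Y p →+ CohSite.HU (CechEdge.shf J P) p U)
    (he : CechEdge.IsEdge J Y e) (F : Sheaf J AddCommGrpCat.{u}) :
    Function.Injective (e F.obj 1) := by
  rw [injective_iff_map_eq_zero]
  intro x hx
  let S : ShortComplex (Sheaf J AddCommGrpCat.{u}) :=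
    ShortComplex.mk _ _ (cokernel.condition (Injective.ι F))
  have hS : S.ShortExact :=
    { exact := ShortComplex.exact_of_g_is_cokernel _ (cokernelIsCokernel S.f) }
  haveI hI : Injective S.X₂ := (inferInstance : Injective (Injective.under F))
  haveI hmono : Mono S.f.hom :=
    (inferInstance : Mono ((sheafToPresheaf J AddCommGrpCat.{u}).map S.f))
  let T : ShortComplex (Cᵒᵖ ⥤ AddCommGrpCat.{u}) :=
    ShortComplex.mk S.f.hom (cokernel.π S.f.hom) (cokernel.condition _)
  have hT : T.ShortExact :=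
    { exact := ShortComplex.exact_of_g_is_cokernel _ (cokernelIsCokernel T.f) }
  have hC := cechSES Y T hT
  have hI1 : IsZero (CohCx.cechH S.X₂.obj Y 1) := Groth.Agent.S0858.main J S.X₂ Y 0
  have hx1 : (HomologicalComplex.homologyMap ((T.map (CechEdge.cxFunctor Y)).f) 1).hom x = 0 :=
    hom_congr_apply
      (hI1.eq_of_tgt (HomologicalComplex.homologyMap ((T.map (CechEdge.cxFunctor Y)).f) 1) 0) x
  obtain ⟨y, hy'⟩ : ∃ y : CohCx.cechH T.X₃ Y 0, (hC.δ 0 1 rfl).hom y = x :=
    (ShortComplex.ab_exact_iff _).mp (hC.homology_exact₁ 0 1 rfl) x hx1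
  have hd := he.delta T hT hC 0 y
  have hx' : CechEdge.extδ (hT.map_of_exact (presheafToSheaf J AddCommGrpCat.{u})) U 0
      (e T.X₃ 0 y) = 0 :=
    hd.symm.trans ((congrArg (e T.X₁ (0 + 1)) hy').trans hx)
  obtain ⟨w, hw⟩ := Ext.covariant_sequence_exact₃ (CohCx.freeSheaf J U)
    (hT.map_of_exact (presheafToSheaf J AddCommGrpCat.{u})) (e T.X₃ 0 y) rfl hx'
  haveI : IsIso (toSheafify J S.X₂.obj) := isIso_toSheafify J S.X₂.property
  have hηb : Function.Bijective ((toSheafify J S.X₂.obj).app (op U)).hom :=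
    ConcreteCategory.bijective_of_isIso ((toSheafify J S.X₂.obj).app (op U))
  obtain ⟨s', hs'⟩ := hηb.2 ((CechEdge.sectH0 J U (CechEdge.shf J S.X₂.obj)).symm w)
  have hz := he.zero S.X₂.obj s'
  have hw2 : e S.X₂.obj 0 (CechEdge.toCech Y S.X₂.obj s') = w := by
    rw [hz, hs', AddEquiv.apply_symm_apply]
  have hn := he.natural S.X₂.obj T.X₃ T.g 0 (CechEdge.toCech Y S.X₂.obj s')
  have hy2 : e T.X₃ 0 (CechEdge.cechHMap Y T.g 0 (CechEdge.toCech Y S.X₂.obj s')) = e T.X₃ 0 y :=
    hn.trans ((congrArg (CechEdge.HUmap (CechEdge.shfMap J T.g) 0 U) hw2).trans hw)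
  have hyd : e T.X₃ 0 (y - CechEdge.cechHMap Y T.g 0 (CechEdge.toCech Y S.X₂.obj s')) = 0 :=
    (map_sub _ _ _).trans (sub_eq_zero.mpr hy2.symm)
  have hzero : S.f.hom ≫ S.g.hom = 0 := congrArg (fun φ : S.X₁ ⟶ S.X₃ => φ.hom) S.zero
  let m : T.X₃ ⟶ S.X₃.obj := cokernel.desc S.f.hom S.g.hom hzero
  have hπm : cokernel.π S.f.hom ≫ m = S.g.hom := cokernel.π_desc _ _ _
  have hm : ∀ V : C, Function.Injective (m.app (op V)).hom := by
    intro V
    rw [injective_iff_map_eq_zero]
    intro t ht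
    obtain ⟨b, rfl⟩ := (psh_sec T hT (op V)).2.2 t
    have e1 : (S.g.hom.app (op V)).hom b = 0 :=
      (hom_congr_apply (congrArg (fun φ => φ.app (op V)) hπm) b).symm.trans ht
    obtain ⟨a, ha⟩ := (sec3 S hS V).2 b e1
    rw [← ha]
    exact hom_congr_apply (congrArg (fun φ => φ.app (op V)) T.zero) a
  have hn2 := he.natural T.X₃ S.X₃.obj m 0
    (y - CechEdge.cechHMap Y T.g 0 (CechEdge.toCech Y S.X₂.obj s'))
  have h0 : e S.X₃.obj 0 (CechEdge.cechHMap Y m 0
      (y - CechEdge.cechHMap Y T.g 0 (CechEdge.toCech Y S.X₂.obj s'))) = 0 :=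
    hn2.trans ((congrArg (CechEdge.HUmap (CechEdge.shfMap J m) 0 U) hyd).trans (map_zero _))
  obtain ⟨z, hz'⟩ := (Groth.Agent.S16021.bij_of_sheaf Y S.X₃ he.cover).2
    (CechEdge.cechHMap Y m 0 (y - CechEdge.cechHMap Y T.g 0 (CechEdge.toCech Y S.X₂.obj s')))
  have hz0 := he.zero S.X₃.obj z
  have h1 : CechEdge.sectH0 J U (CechEdge.shf J S.X₃.obj)
      (((toSheafify J S.X₃.obj).app (op U)).hom z) = 0 :=
    hz0.symm.trans ((congrArg (e S.X₃.obj 0) hz').trans h0)
  have h2 : ((toSheafify J S.X₃.obj).app (op U)).hom z = 0 :=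
    (AddEquiv.map_eq_zero_iff _).mp h1
  haveI : IsIso (toSheafify J S.X₃.obj) := isIso_toSheafify J S.X₃.property
  have hηb3 : Function.Bijective ((toSheafify J S.X₃.obj).app (op U)).hom :=
    ConcreteCategory.bijective_of_isIso ((toSheafify J S.X₃.obj).app (op U))
  have h3 : z = 0 := hηb3.1 (h2.trans (map_zero _).symm)
  have h4 : CechEdge.cechHMap Y m 0
      (y - CechEdge.cechHMap Y T.g 0 (CechEdge.toCech Y S.X₂.obj s')) = 0 := by
    rw [← hz', h3, map_zero]
  have h5 : y - CechEdge.cechHMap Y T.g 0 (CechEdge.toCech Y S.X₂.obj s') = 0 :=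
    H0map_inj ((CechEdge.cxFunctor Y).map m) (cmap_inj Y (wh m) (fun V => hm V.left) 0)
      (h4.trans (map_zero _).symm)
  have hy3 : y = CechEdge.cechHMap Y T.g 0 (CechEdge.toCech Y S.X₂.obj s') := sub_eq_zero.mp h5
  have h6 := hom_congr_apply (hC.comp_δ 0 1 rfl) (CechEdge.toCech Y S.X₂.obj s')
  rw [← hy', hy3]
  exact h6

theorem main (J : GrothendieckTopology C) {U : C} {ι : Type u} (Y : ι → Over U)
    (e : ∀ (P : Cᵒᵖ ⥤ AddCommGrpCat.{u}) (p : ℕ),
      CohCx.cechH P Y p →+ CohSite.HU (CechEdge.shf J P) p U)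
    (he : CechEdge.IsEdge J Y e) (F : Sheaf J AddCommGrpCat.{u}) :
    Function.Injective (CechEdge.edgeSh e F 1) := by
  have hcounit : Function.Injective
      (CechEdge.HUmap ((sheafificationAdjunction J AddCommGrpCat.{u}).counit.app F) 1 U) :=
    HUmap_inj _ 1 U
  have h := e1_inj J Y e he F
  show Function.Injective
    (⇑(CechEdge.HUmap ((sheafificationAdjunction J AddCommGrpCat.{u}).counit.app F) 1 U) ∘
      ⇑(e F.obj 1))
  exact hcounit.comp h

end helpers

/-- On a small site with fibre products, for a family of objects over U carrying an edge family (in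
particular it covers U) and an abelian sheaf F, the comparison map from the degree-1 Cech cohomology
of F with respect to the family to H^1(U, F) is injective. -/
theorem result {C : Type u} [SmallCategory C] [HasPullbacks C]
    (J : GrothendieckTopology C) {U : C} {ι : Type u} (Y : ι → Over U)
    (e : ∀ (P : Cᵒᵖ ⥤ AddCommGrpCat.{u}) (p : ℕ), CohCx.cechH P Y p →+ CohSite.HU (CechEdge.shf J P) p U)
    (he : CechEdge.IsEdge J Y e) (F : Sheaf J AddCommGrpCat.{u}) :
    Function.Injective (CechEdge.edgeSh e F 1) := by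
  exact Groth.Agent.S16023.main J Y e he F

end Groth.Agent.S16023
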