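import Groth.Statements.S16020
import Mathlib
import Groth.Agent.S16023
import Groth.Agent.S16021

set_option autoImplicit false
universe u
open CategoryTheory CategoryTheory.Limits Opposite
open CechEdge

namespace Groth.Agent.S16020

section helpers

open CategoryTheory CategoryTheory.Limits Opposite AlgebraicTopology Simplicial
  CategoryTheory.Abelian
open Groth.Agent.S0859 (hom_congr_apply Yc KK dK Qf)
open Groth.Agent.S0858 (Gp etaG G_exact)
open Groth.Agent.S16023 (cechSES HUmap_inj)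

variable {C : Type u} [SmallCategory C] [HasPullbacks C] {J : GrothendieckTopology C} {U : C}
  {ι : Type u} (Y : ι → Over U)

theorem Gp_acyc (P : Cᵒᵖ ⥤ AddCommGrpCat.{u}) (p : ℕ) :
    IsZero (CohCx.cechH (Gp P) Y (p + 1)) := by
  have hexact : ((KK Y (Qf (Gp P))).sc' p (p + 1) (p + 1 + 1)).Exact :=
    (ShortComplex.ab_exact_iff _).mpr (fun c hc => G_exact Y P p c hc)
  exact (HomologicalComplex.exactAt_iff_isZero_homology _ _).mp
    (((KK Y (Qf (Gp P))).exactAt_iff' p (p + 1) (p + 1 + 1) (by simp) (by simp)).mpr hexact)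

theorem uniq0 (J : GrothendieckTopology C) {U : C} {ι : Type u} (Y : ι → Over U)
    (e e' : ∀ (P : Cᵒᵖ ⥤ AddCommGrpCat.{u}) (p : ℕ),
      CohCx.cechH P Y p →+ CohSite.HU (CechEdge.shf J P) p U)
    (he : CechEdge.IsEdge J Y e) (he' : CechEdge.IsEdge J Y e')
    (P : Cᵒᵖ ⥤ AddCommGrpCat.{u}) (x : CohCx.cechH P Y 0) : e P 0 x = e' P 0 x := by
  let Q : Sheaf J AddCommGrpCat.{u} := CechEdge.shf J P
  let η : P ⟶ Q.obj := toSheafify J P
  haveI : IsIso (CechEdge.shfMap J η) := (J.W_iff η).mp (J.W_toSheafify P)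
  have hinj := HUmap_inj (CechEdge.shfMap J η) 0 U
  apply hinj
  have h1 := he.natural P Q.obj η 0 x
  have h2 := he'.natural P Q.obj η 0 x
  obtain ⟨s, hs⟩ := (Groth.Agent.S16021.bij_of_sheaf Y Q he.cover).2 (CechEdge.cechHMap Y η 0 x)
  have h3 : e Q.obj 0 (CechEdge.cechHMap Y η 0 x) = e' Q.obj 0 (CechEdge.cechHMap Y η 0 x) := by
    rw [← hs]
    exact (he.zero Q.obj s).trans (he'.zero Q.obj s).symm
  exact h1.symm.trans (h3.trans h2)

theorem uniq_succ (J : GrothendieckTopology C) {U : C} {ι : Type u} (Y : ι → Over U)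
    (e e' : ∀ (P : Cᵒᵖ ⥤ AddCommGrpCat.{u}) (p : ℕ),
      CohCx.cechH P Y p →+ CohSite.HU (CechEdge.shf J P) p U)
    (he : CechEdge.IsEdge J Y e) (he' : CechEdge.IsEdge J Y e') (p : ℕ)
    (ih : ∀ (P : Cᵒᵖ ⥤ AddCommGrpCat.{u}) (y : CohCx.cechH P Y p), e P p y = e' P p y)
    (P : Cᵒᵖ ⥤ AddCommGrpCat.{u}) (x : CohCx.cechH P Y (p + 1)) :
    e P (p + 1) x = e' P (p + 1) x := by
  let T : ShortComplex (Cᵒᵖ ⥤ AddCommGrpCat.{u}) :=
    ShortComplex.mk (etaG P) (cokernel.π (etaG P)) (cokernel.condition _)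
  have hT : T.ShortExact :=
    { exact := ShortComplex.exact_of_g_is_cokernel _ (cokernelIsCokernel T.f) }
  have hC := cechSES Y T hT
  have hG : IsZero (CohCx.cechH (Gp P) Y (p + 1)) := Gp_acyc Y P p
  have hx1 : (HomologicalComplex.homologyMap ((T.map (CechEdge.cxFunctor Y)).f) (p + 1)).hom x
      = 0 :=
    hom_congr_apply (hG.eq_of_tgt
      (HomologicalComplex.homologyMap ((T.map (CechEdge.cxFunctor Y)).f) (p + 1)) 0) x
  obtain ⟨y, hy⟩ : ∃ y : CohCx.cechH T.X₃ Y p, (hC.δ p (p + 1) rfl).hom y = x :=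
    (ShortComplex.ab_exact_iff _).mp (hC.homology_exact₁ p (p + 1) rfl) x hx1
  have hd := he.delta T hT hC p y
  have hd' := he'.delta T hT hC p y
  have e1 : e P (p + 1) x = e P (p + 1) ((hC.δ p (p + 1) rfl).hom y) :=
    (congrArg (e P (p + 1)) hy).symm
  have e2 : e' P (p + 1) ((hC.δ p (p + 1) rfl).hom y) = e' P (p + 1) x :=
    congrArg (e' P (p + 1)) hy
  exact e1.trans ((hd.trans ((congrArg (CechEdge.extδ
    (hT.map_of_exact (presheafToSheaf J AddCommGrpCat.{u})) U p) (ih T.X₃ y)).trans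
      hd'.symm)).trans e2)

theorem main (J : GrothendieckTopology C) {U : C} {ι : Type u} (Y : ι → Over U)
    (e e' : ∀ (P : Cᵒᵖ ⥤ AddCommGrpCat.{u}) (p : ℕ),
      CohCx.cechH P Y p →+ CohSite.HU (CechEdge.shf J P) p U)
    (he : CechEdge.IsEdge J Y e) (he' : CechEdge.IsEdge J Y e') : e = e' := by
  have all : ∀ (p : ℕ) (P : Cᵒᵖ ⥤ AddCommGrpCat.{u}) (x : CohCx.cechH P Y p),
      e P p x = e' P p x := by
    intro p
    induction p with
    | zero => intro P x; exact uniq0 J Y e e' he he' P x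
    | succ p ih => intro P x; exact uniq_succ J Y e e' he he' p ih P x
  funext P p
  exact AddMonoidHom.ext (fun x => all p P x)

end helpers

/-- On a small site with fibre products, two edge families for the same family of objects over U
coincide; the degree-0 condition, naturality in the presheaf and compatibility with connecting
homomorphisms determine the comparison maps in every degree. -/
theorem result {C : Type u} [SmallCategory C] [HasPullbacks C]
    (J : GrothendieckTopology C) {U : C} {ι : Type u} (Y : ι → Over U)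
    (e e' : ∀ (P : Cᵒᵖ ⥤ AddCommGrpCat.{u}) (p : ℕ), CohCx.cechH P Y p →+ CohSite.HU (CechEdge.shf J P) p U)
    (he : CechEdge.IsEdge J Y e) (he' : CechEdge.IsEdge J Y e') : e = e' := by
  exact Groth.Agent.S16020.main J Y e e' he he'

end Groth.Agent.S16020
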