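import Groth.Statements.S16019
import Mathlib
import Groth.Agent.S16020
import Groth.Agent.S0941

set_option autoImplicit false
universe u
open CategoryTheory CategoryTheory.Limits Opposite
open CechEdge

namespace Groth.Agent.S16019

section helpers

open CategoryTheory CategoryTheory.Limits Opposite AlgebraicTopology Simplicial
  CategoryTheory.Abelian
open Groth.Agent.S0859 (hom_congr_apply eps eps_nat)
open Groth.Agent.S0858 (Gp etaG)
open Groth.Agent.S0941 (toH0 toH0_nat)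
open Groth.Agent.S16020 (Gp_acyc)
open Groth.Agent.S16023 (cechSES)

variable {C : Type u} [SmallCategory C]

def GpMap {P Q : Cᵒᵖ ⥤ AddCommGrpCat.{u}} (φ : P ⟶ Q) : Gp P ⟶ Gp Q where
  app W := AddCommGrpCat.ofHom
    { toFun := fun s V f => (φ.app (op V)).hom (s V f)
      map_zero' := by funext V f; exact map_zero _
      map_add' := fun a b => by funext V f; exact map_add _ _ _ }
  naturality {W W'} h := by
    apply AddCommGrpCat.hom_ext
    apply AddMonoidHom.ext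
    intro s
    rfl

theorem etaG_nat {P Q : Cᵒᵖ ⥤ AddCommGrpCat.{u}} (φ : P ⟶ Q) :
    etaG P ≫ GpMap φ = φ ≫ etaG Q := by
  apply NatTrans.ext
  funext W
  apply AddCommGrpCat.hom_ext
  apply AddMonoidHom.ext
  intro s
  refine funext (fun V => funext (fun f => ?_))
  exact hom_congr_apply (φ.naturality f.op) s

noncomputable abbrev TT (P : Cᵒᵖ ⥤ AddCommGrpCat.{u}) :
    ShortComplex (Cᵒᵖ ⥤ AddCommGrpCat.{u}) :=
  ShortComplex.mk (etaG P) (cokernel.π (etaG P)) (cokernel.condition _)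

theorem hTT (P : Cᵒᵖ ⥤ AddCommGrpCat.{u}) : (TT P).ShortExact :=
  { exact := ShortComplex.exact_of_g_is_cokernel _ (cokernelIsCokernel (etaG P))
    mono_f := (inferInstance : Mono (etaG P))
    epi_g := (inferInstance : Epi (cokernel.π (etaG P))) }

noncomputable def TTmap {P Q : Cᵒᵖ ⥤ AddCommGrpCat.{u}} (φ : P ⟶ Q) : TT P ⟶ TT Q where
  τ₁ := φ
  τ₂ := GpMap φ
  τ₃ := cokernel.map (etaG P) (etaG Q) φ (GpMap φ) (etaG_nat φ)
  comm₁₂ := (etaG_nat φ).symm
  comm₂₃ := (cokernel.π_desc _ _ _).symm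

variable [HasPullbacks C] (J : GrothendieckTopology C) {U : C} {ι : Type u} (Y : ι → Over U)

theorem cechHMap_comp {P Q R : Cᵒᵖ ⥤ AddCommGrpCat.{u}} (a : P ⟶ Q) (b : Q ⟶ R) (p : ℕ)
    (x : CohCx.cechH P Y p) :
    CechEdge.cechHMap Y (a ≫ b) p x = CechEdge.cechHMap Y b p (CechEdge.cechHMap Y a p x) := by
  have h : HomologicalComplex.homologyMap ((CechEdge.cxFunctor Y).map (a ≫ b)) p =
      HomologicalComplex.homologyMap ((CechEdge.cxFunctor Y).map a) p ≫
        HomologicalComplex.homologyMap ((CechEdge.cxFunctor Y).map b) p := by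
    rw [Functor.map_comp, HomologicalComplex.homologyMap_comp]
  exact hom_congr_apply h x

theorem cechHMap_id (P : Cᵒᵖ ⥤ AddCommGrpCat.{u}) (p : ℕ) (x : CohCx.cechH P Y p) :
    CechEdge.cechHMap Y (𝟙 P) p x = x := by
  have h : HomologicalComplex.homologyMap ((CechEdge.cxFunctor Y).map (𝟙 P)) p = 𝟙 _ :=
    (congrArg (fun ψ => HomologicalComplex.homologyMap ψ p) ((CechEdge.cxFunctor Y).map_id P)).trans
      (HomologicalComplex.homologyMap_id _ p)
  exact hom_congr_apply h x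

theorem toCech_nat {P Q : Cᵒᵖ ⥤ AddCommGrpCat.{u}} (φ : P ⟶ Q) (s : P.obj (op U)) :
    CechEdge.cechHMap Y φ 0 (CechEdge.toCech Y P s) =
      CechEdge.toCech Y Q ((φ.app (op U)).hom s) :=
  toH0_nat ((CechEdge.cxFunctor Y).map φ) (eps Y P) (CechEdge.toCech₀_d P Y) (eps Y Q)
    (CechEdge.toCech₀_d Q Y) (φ.app (op U)) (eps_nat Y φ) s

theorem dC_nat {S₁ S₂ : ShortComplex (Cᵒᵖ ⥤ AddCommGrpCat.{u})} (Φ : S₁ ⟶ S₂)
    (h₁ : (S₁.map (CechEdge.cxFunctor Y)).ShortExact)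
    (h₂ : (S₂.map (CechEdge.cxFunctor Y)).ShortExact) (p : ℕ) (x : CohCx.cechH S₁.X₃ Y p) :
    CechEdge.cechHMap Y Φ.τ₁ (p + 1) ((h₁.δ p (p + 1) rfl).hom x) =
      (h₂.δ p (p + 1) rfl).hom (CechEdge.cechHMap Y Φ.τ₃ p x) :=
  hom_congr_apply (HomologicalComplex.HomologySequence.δ_naturality
    ((CechEdge.cxFunctor Y).mapShortComplex.map Φ) h₁ h₂ p (p + 1) rfl) x

omit [HasPullbacks C] in
theorem extδ_nat {S₁ S₂ : ShortComplex (Cᵒᵖ ⥤ AddCommGrpCat.{u})} (Φ : S₁ ⟶ S₂)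
    (h₁ : S₁.ShortExact) (h₂ : S₂.ShortExact) (U : C) (p : ℕ)
    (u' : CohSite.HU (CechEdge.shf J S₁.X₃) p U) :
    CechEdge.extδ (h₂.map_of_exact (presheafToSheaf J AddCommGrpCat.{u})) U p
        (CechEdge.HUmap (CechEdge.shfMap J Φ.τ₃) p U u') =
      CechEdge.HUmap (CechEdge.shfMap J Φ.τ₁) (p + 1) U
        (CechEdge.extδ (h₁.map_of_exact (presheafToSheaf J AddCommGrpCat.{u})) U p u') := by
  have hn := ShortComplex.ShortExact.extClass_naturality
    (h₁.map_of_exact (presheafToSheaf J AddCommGrpCat.{u}))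
    (h₂.map_of_exact (presheafToSheaf J AddCommGrpCat.{u}))
    ((presheafToSheaf J AddCommGrpCat.{u}).mapShortComplex.map Φ)
  exact (Ext.comp_assoc (u' : Ext.{u} (CohCx.freeSheaf J U) (CechEdge.shf J S₁.X₃) p)
      (Ext.mk₀ (CechEdge.shfMap J Φ.τ₃)) _ (add_zero p) (zero_add 1) (by lia)).trans
    ((congrArg (fun t => Ext.comp
      (u' : Ext.{u} (CohCx.freeSheaf J U) (CechEdge.shf J S₁.X₃) p) t (rfl : p + 1 = p + 1))
        hn.symm).trans
      (Ext.comp_assoc (u' : Ext.{u} (CohCx.freeSheaf J U) (CechEdge.shf J S₁.X₃) p) _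
        (Ext.mk₀ (CechEdge.shfMap J Φ.τ₁)) rfl (add_zero 1) (by lia)).symm)

omit [HasPullbacks C] in
theorem extδ_comp_g (S : ShortComplex (Cᵒᵖ ⥤ AddCommGrpCat.{u})) (hS : S.ShortExact) (U : C)
    (p : ℕ) (w : CohSite.HU (CechEdge.shf J S.X₂) p U) :
    CechEdge.extδ (hS.map_of_exact (presheafToSheaf J AddCommGrpCat.{u})) U p
      (CechEdge.HUmap (CechEdge.shfMap J S.g) p U w) = 0 := by
  have h := (hS.map_of_exact (presheafToSheaf J AddCommGrpCat.{u})).comp_extClass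
  exact (Ext.comp_assoc (w : Ext.{u} (CohCx.freeSheaf J U) (CechEdge.shf J S.X₂) p)
      (Ext.mk₀ (CechEdge.shfMap J S.g)) _ (add_zero p) (zero_add 1) (by lia)).trans
    ((congrArg (fun t => Ext.comp
      (w : Ext.{u} (CohCx.freeSheaf J U) (CechEdge.shf J S.X₂) p) t (rfl : p + 1 = p + 1)) h).trans
      (Ext.comp_zero _ _ _ _ _))

omit [HasPullbacks C] in
theorem HUmap_id (P : Cᵒᵖ ⥤ AddCommGrpCat.{u}) (U : C) (p : ℕ)
    (v : CohSite.HU (CechEdge.shf J P) p U) :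
    CechEdge.HUmap (CechEdge.shfMap J (𝟙 P)) p U v = v := by
  have h : CechEdge.shfMap J (𝟙 P) = 𝟙 _ := (presheafToSheaf J AddCommGrpCat.{u}).map_id P
  rw [h]
  exact Ext.comp_mk₀_id (v : Ext.{u} (CohCx.freeSheaf J U) (CechEdge.shf J P) p)

omit [HasPullbacks C] in
theorem sectH0_nat {F G : Sheaf J AddCommGrpCat.{u}} (ψ : F ⟶ G) (U : C)
    (s : F.obj.obj (op U)) :
    CechEdge.HUmap ψ 0 U (CechEdge.sectH0 J U F s) =
      CechEdge.sectH0 J U G ((ψ.hom.app (op U)).hom s) := by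
  have e1 : (CohFree.homEquivSect J U F).symm s ≫ ψ =
      (CohFree.homEquivSect J U G).symm ((ψ.hom.app (op U)).hom s) := by
    apply (CohFree.homEquivSect J U G).injective
    rw [AddEquiv.apply_symm_apply]
    have e2 : CohFree.homEquivSect J U G ((CohFree.homEquivSect J U F).symm s ≫ ψ) =
        (ψ.hom.app (op U)).hom
          (CohFree.homEquivSect J U F ((CohFree.homEquivSect J U F).symm s)) := rfl
    rw [e2, AddEquiv.apply_symm_apply]
  have e3 : (Ext.mk₀ ((CohFree.homEquivSect J U F).symm s)).comp (Ext.mk₀ ψ) (add_zero 0) =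
      Ext.mk₀ ((CohFree.homEquivSect J U G).symm ((ψ.hom.app (op U)).hom s)) := by
    rw [Ext.mk₀_comp_mk₀, e1]
  exact e3

/-- the Cech connecting map of the canonical sequence `P → Gp P → Gp P / P` -/
noncomputable def dC (P : Cᵒᵖ ⥤ AddCommGrpCat.{u}) (p : ℕ) :
    CohCx.cechH (TT P).X₃ Y p →+ CohCx.cechH P Y (p + 1) :=
  ((cechSES Y (TT P) (hTT P)).δ p (p + 1) rfl).hom

theorem dC_surj (P : Cᵒᵖ ⥤ AddCommGrpCat.{u}) (p : ℕ) : Function.Surjective (dC Y P p) := by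
  intro x
  have hG : IsZero (CohCx.cechH (Gp P) Y (p + 1)) := Gp_acyc Y P p
  have hx1 : (HomologicalComplex.homologyMap (((TT P).map (CechEdge.cxFunctor Y)).f)
      (p + 1)).hom x = 0 :=
    hom_congr_apply (hG.eq_of_tgt
      (HomologicalComplex.homologyMap (((TT P).map (CechEdge.cxFunctor Y)).f) (p + 1)) 0) x
  exact (ShortComplex.ab_exact_iff _).mp
    ((cechSES Y (TT P) (hTT P)).homology_exact₁ p (p + 1) rfl) x hx1

theorem ker_of_ses (S : ShortComplex (Cᵒᵖ ⥤ AddCommGrpCat.{u}))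
    (hC : (S.map (CechEdge.cxFunctor Y)).ShortExact) (p : ℕ)
    (y : CohCx.cechH S.X₃ Y p) (h : (hC.δ p (p + 1) rfl).hom y = 0) :
    ∃ z : CohCx.cechH S.X₂ Y p, CechEdge.cechHMap Y S.g p z = y :=
  (ShortComplex.ab_exact_iff _).mp (hC.homology_exact₃ p (p + 1) rfl) y h

/-- the Ext connecting map of the sheafified canonical sequence -/
noncomputable def dE (U : C) (P : Cᵒᵖ ⥤ AddCommGrpCat.{u}) (p : ℕ) :
    CohSite.HU (CechEdge.shf J (TT P).X₃) p U →+ CohSite.HU (CechEdge.shf J P) (p + 1) U :=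
  CechEdge.extδ ((hTT P).map_of_exact (presheafToSheaf J AddCommGrpCat.{u})) U p

open Classical in
/-- one step of the recursive construction -/
noncomputable def stepE (p : ℕ)
    (a : ∀ P : Cᵒᵖ ⥤ AddCommGrpCat.{u}, CohCx.cechH P Y p →+ CohSite.HU (CechEdge.shf J P) p U)
    (P : Cᵒᵖ ⥤ AddCommGrpCat.{u}) :
    CohCx.cechH P Y (p + 1) →+ CohSite.HU (CechEdge.shf J P) (p + 1) U :=
  if h : (dC Y P p).ker ≤ ((dE J U P p).comp (a (TT P).X₃)).ker then
    (QuotientAddGroup.lift (dC Y P p).ker ((dE J U P p).comp (a (TT P).X₃)) h).comp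
      (QuotientAddGroup.quotientKerEquivOfSurjective (dC Y P p)
        (dC_surj Y P p)).symm.toAddMonoidHom
  else 0

theorem stepE_dC (p : ℕ)
    (a : ∀ P : Cᵒᵖ ⥤ AddCommGrpCat.{u}, CohCx.cechH P Y p →+ CohSite.HU (CechEdge.shf J P) p U)
    (P : Cᵒᵖ ⥤ AddCommGrpCat.{u})
    (h : (dC Y P p).ker ≤ ((dE J U P p).comp (a (TT P).X₃)).ker)
    (y : CohCx.cechH (TT P).X₃ Y p) :
    stepE J Y p a P (dC Y P p y) = dE J U P p (a (TT P).X₃ y) := by
  unfold stepE
  rw [dif_pos h]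
  have e1 : (QuotientAddGroup.quotientKerEquivOfSurjective (dC Y P p) (dC_surj Y P p)).symm
      (dC Y P p y) = QuotientAddGroup.mk y := (AddEquiv.symm_apply_eq _).mpr rfl
  show QuotientAddGroup.lift (dC Y P p).ker ((dE J U P p).comp (a (TT P).X₃)) h
    ((QuotientAddGroup.quotientKerEquivOfSurjective (dC Y P p) (dC_surj Y P p)).symm
      (dC Y P p y)) = _
  rw [e1]
  rfl

/-- naturality of a family in a fixed degree -/
def IsNat (p : ℕ)
    (a : ∀ P : Cᵒᵖ ⥤ AddCommGrpCat.{u}, CohCx.cechH P Y p →+ CohSite.HU (CechEdge.shf J P) p U) :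
    Prop :=
  ∀ (P Q : Cᵒᵖ ⥤ AddCommGrpCat.{u}) (φ : P ⟶ Q) (x : CohCx.cechH P Y p),
    a Q (CechEdge.cechHMap Y φ p x) = CechEdge.HUmap (CechEdge.shfMap J φ) p U (a P x)

theorem cond_of_nat (p : ℕ)
    (a : ∀ P : Cᵒᵖ ⥤ AddCommGrpCat.{u}, CohCx.cechH P Y p →+ CohSite.HU (CechEdge.shf J P) p U)
    (hN : IsNat J Y p a) (P : Cᵒᵖ ⥤ AddCommGrpCat.{u}) :
    (dC Y P p).ker ≤ ((dE J U P p).comp (a (TT P).X₃)).ker := by
  intro y hy
  obtain ⟨z, rfl⟩ := ker_of_ses Y (TT P) (cechSES Y (TT P) (hTT P)) p y (AddMonoidHom.mem_ker.mp hy)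
  rw [AddMonoidHom.mem_ker]
  show dE J U P p (a (TT P).X₃ (CechEdge.cechHMap Y (TT P).g p z)) = 0
  rw [hN _ _ (TT P).g z]
  exact extδ_comp_g J (TT P) (hTT P) U p _

theorem nat_step (p : ℕ)
    (a : ∀ P : Cᵒᵖ ⥤ AddCommGrpCat.{u}, CohCx.cechH P Y p →+ CohSite.HU (CechEdge.shf J P) p U)
    (hN : IsNat J Y p a) : IsNat J Y (p + 1) (stepE J Y p a) := by
  intro P Q φ x
  obtain ⟨y, rfl⟩ := dC_surj Y P p x
  have h1 : CechEdge.cechHMap Y φ (p + 1) (dC Y P p y) =
      dC Y Q p (CechEdge.cechHMap Y (TTmap φ).τ₃ p y) :=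
    dC_nat Y (TTmap φ) (cechSES Y (TT P) (hTT P)) (cechSES Y (TT Q) (hTT Q)) p y
  rw [h1, stepE_dC J Y p a Q (cond_of_nat J Y p a hN Q), stepE_dC J Y p a P
    (cond_of_nat J Y p a hN P), hN _ _ (TTmap φ).τ₃ y]
  exact extδ_nat J (TTmap φ) (hTT P) (hTT Q) U p _

/-- the degree zero map -/
noncomputable def e0
    (hY : Sieve.ofArrows (fun i => (Y i).left) (fun i => (Y i).hom) ∈ J U)
    (P : Cᵒᵖ ⥤ AddCommGrpCat.{u}) :
    CohCx.cechH P Y 0 →+ CohSite.HU (CechEdge.shf J P) 0 U :=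
  ((CechEdge.sectH0 J U (CechEdge.shf J P)).toAddMonoidHom.comp
    (AddEquiv.ofBijective (CechEdge.toCech Y (CechEdge.shf J P).obj)
      (Groth.Agent.S16021.bij_of_sheaf Y (CechEdge.shf J P) hY)).symm.toAddMonoidHom).comp
    (CechEdge.cechHMap Y (toSheafify J P) 0)

theorem e0_apply
    (hY : Sieve.ofArrows (fun i => (Y i).left) (fun i => (Y i).hom) ∈ J U)
    (P : Cᵒᵖ ⥤ AddCommGrpCat.{u}) (x : CohCx.cechH P Y 0) (s : (CechEdge.shf J P).obj.obj (op U))
    (hs : CechEdge.toCech Y (CechEdge.shf J P).obj s = CechEdge.cechHMap Y (toSheafify J P) 0 x) :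
    e0 J Y hY P x = CechEdge.sectH0 J U (CechEdge.shf J P) s := by
  show CechEdge.sectH0 J U (CechEdge.shf J P)
    ((AddEquiv.ofBijective (CechEdge.toCech Y (CechEdge.shf J P).obj)
      (Groth.Agent.S16021.bij_of_sheaf Y (CechEdge.shf J P) hY)).symm
        (CechEdge.cechHMap Y (toSheafify J P) 0 x)) = _
  congr 1
  exact (AddEquiv.symm_apply_eq _).mpr hs.symm

theorem e0_zero
    (hY : Sieve.ofArrows (fun i => (Y i).left) (fun i => (Y i).hom) ∈ J U)
    (P : Cᵒᵖ ⥤ AddCommGrpCat.{u}) (s : P.obj (op U)) :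
    e0 J Y hY P (CechEdge.toCech Y P s) =
      CechEdge.sectH0 J U (CechEdge.shf J P) (((toSheafify J P).app (op U)).hom s) :=
  e0_apply J Y hY P _ _ (toCech_nat Y (toSheafify J P) s).symm

theorem e0_nat
    (hY : Sieve.ofArrows (fun i => (Y i).left) (fun i => (Y i).hom) ∈ J U) :
    IsNat J Y 0 (e0 J Y hY) := by
  intro P Q φ x
  obtain ⟨s, hs⟩ := (Groth.Agent.S16021.bij_of_sheaf Y (CechEdge.shf J P) hY).2
    (CechEdge.cechHMap Y (toSheafify J P) 0 x)
  rw [e0_apply J Y hY P x s hs, sectH0_nat J (CechEdge.shfMap J φ) U s]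
  apply e0_apply J Y hY Q
  have hnat : φ ≫ toSheafify J Q = toSheafify J P ≫ (CechEdge.shfMap J φ).hom :=
    toSheafify_naturality J φ
  rw [← toCech_nat Y (CechEdge.shfMap J φ).hom s, hs, ← cechHMap_comp, ← cechHMap_comp, hnat]

/-- the edge family -/
noncomputable def E (hY : Sieve.ofArrows (fun i => (Y i).left) (fun i => (Y i).hom) ∈ J U)
    (p : ℕ) : ∀ (P : Cᵒᵖ ⥤ AddCommGrpCat.{u}),
      CohCx.cechH P Y p →+ CohSite.HU (CechEdge.shf J P) p U :=
  Nat.rec (motive := fun p => ∀ (P : Cᵒᵖ ⥤ AddCommGrpCat.{u}),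
      CohCx.cechH P Y p →+ CohSite.HU (CechEdge.shf J P) p U)
    (e0 J Y hY) (fun p a => stepE J Y p a) p

theorem E_succ (hY : Sieve.ofArrows (fun i => (Y i).left) (fun i => (Y i).hom) ∈ J U) (p : ℕ) :
    E J Y hY (p + 1) = stepE J Y p (E J Y hY p) := rfl

theorem E_nat (hY : Sieve.ofArrows (fun i => (Y i).left) (fun i => (Y i).hom) ∈ J U)
    (p : ℕ) : IsNat J Y p (E J Y hY p) := by
  induction p with
  | zero => exact e0_nat J Y hY
  | succ p ih => exact nat_step J Y p (E J Y hY p) ih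

theorem E_delta (hY : Sieve.ofArrows (fun i => (Y i).left) (fun i => (Y i).hom) ∈ J U)
    (S : ShortComplex (Cᵒᵖ ⥤ AddCommGrpCat.{u})) (hS : S.ShortExact)
    (hC : (S.map (CechEdge.cxFunctor Y)).ShortExact) (p : ℕ) (x : CohCx.cechH S.X₃ Y p) :
    E J Y hY (p + 1) S.X₁ ((hC.δ p (p + 1) rfl).hom x) =
      CechEdge.extδ (hS.map_of_exact (presheafToSheaf J AddCommGrpCat.{u})) U p
        (E J Y hY p S.X₃ x) := by
  have hN := E_nat J Y hY p
  haveI := hS.mono_f
  haveI := hS.epi_g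
  -- the auxiliary sequence `S'`
  let j : S.X₁ ⟶ Gp S.X₂ := S.f ≫ etaG S.X₂
  let S' : ShortComplex (Cᵒᵖ ⥤ AddCommGrpCat.{u}) :=
    ShortComplex.mk j (cokernel.π j) (cokernel.condition _)
  have hS' : S'.ShortExact :=
    { exact := ShortComplex.exact_of_g_is_cokernel _ (cokernelIsCokernel j)
      mono_f := (inferInstance : Mono (S.f ≫ etaG S.X₂))
      epi_g := (inferInstance : Epi (cokernel.π j)) }
  have hC' := cechSES Y S' hS'
  have hk0 : S.f ≫ (etaG S.X₂ ≫ cokernel.π j) = 0 := by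
    rw [← Category.assoc]
    exact cokernel.condition j
  let h : S.X₃ ⟶ cokernel j := hS.exact.desc (etaG S.X₂ ≫ cokernel.π j) hk0
  have hgh : S.g ≫ h = etaG S.X₂ ≫ cokernel.π j := hS.exact.g_desc _ _
  let α : S ⟶ S' :=
    { τ₁ := 𝟙 S.X₁
      τ₂ := etaG S.X₂
      τ₃ := h
      comm₁₂ := Category.id_comp j
      comm₂₃ := hgh.symm }
  have hw : etaG S.X₁ ≫ GpMap S.f = 𝟙 S.X₁ ≫ j := (etaG_nat S.f).trans (Category.id_comp j).symm
  let k : (TT S.X₁).X₃ ⟶ cokernel j := cokernel.map (etaG S.X₁) j (𝟙 S.X₁) (GpMap S.f) hw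
  let β : TT S.X₁ ⟶ S' :=
    { τ₁ := 𝟙 S.X₁
      τ₂ := GpMap S.f
      τ₃ := k
      comm₁₂ := hw.symm
      comm₂₃ := (cokernel.π_desc _ _ _).symm }
  -- Cech side
  have c1 : (hC.δ p (p + 1) rfl).hom x = (hC'.δ p (p + 1) rfl).hom (CechEdge.cechHMap Y h p x) :=
    (cechHMap_id Y S.X₁ (p + 1) _).symm.trans (dC_nat Y α hC hC' p x)
  obtain ⟨y, hy⟩ := dC_surj Y S.X₁ p ((hC'.δ p (p + 1) rfl).hom (CechEdge.cechHMap Y h p x))
  have c2 : dC Y S.X₁ p y = (hC'.δ p (p + 1) rfl).hom (CechEdge.cechHMap Y k p y) :=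
    (cechHMap_id Y S.X₁ (p + 1) _).symm.trans
      (dC_nat Y β (cechSES Y (TT S.X₁) (hTT S.X₁)) hC' p y)
  have c3 : (hC'.δ p (p + 1) rfl).hom
      (CechEdge.cechHMap Y h p x - CechEdge.cechHMap Y k p y) = 0 :=
    (map_sub _ _ _).trans (sub_eq_zero.mpr (hy.symm.trans c2))
  obtain ⟨v, hv⟩ := ker_of_ses Y S' hC' p _ c3
  have c4 : CechEdge.cechHMap Y h p x =
      CechEdge.cechHMap Y k p y + CechEdge.cechHMap Y S'.g p v := by
    rw [hv]; abel
  -- Ext side
  have d1 : ∀ u' : CohSite.HU (CechEdge.shf J S.X₃) p U,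
      CechEdge.extδ (hS.map_of_exact (presheafToSheaf J AddCommGrpCat.{u})) U p u' =
      CechEdge.extδ (hS'.map_of_exact (presheafToSheaf J AddCommGrpCat.{u})) U p
        (CechEdge.HUmap (CechEdge.shfMap J h) p U u') := fun u' =>
    ((extδ_nat J α hS hS' U p u').trans (HUmap_id J S.X₁ U (p + 1) _)).symm
  have d2 : ∀ u' : CohSite.HU (CechEdge.shf J (TT S.X₁).X₃) p U,
      dE J U S.X₁ p u' =
      CechEdge.extδ (hS'.map_of_exact (presheafToSheaf J AddCommGrpCat.{u})) U p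
        (CechEdge.HUmap (CechEdge.shfMap J k) p U u') := fun u' =>
    ((extδ_nat J β (hTT S.X₁) hS' U p u').trans (HUmap_id J S.X₁ U (p + 1) _)).symm
  -- assemble
  have l1 : E J Y hY (p + 1) S.X₁ ((hC.δ p (p + 1) rfl).hom x) =
      dE J U S.X₁ p (E J Y hY p (TT S.X₁).X₃ y) := by
    rw [c1, ← hy, E_succ J Y hY p]
    exact stepE_dC J Y p (E J Y hY p) S.X₁ (cond_of_nat J Y p _ hN S.X₁) y
  have r1 : CechEdge.extδ (hS.map_of_exact (presheafToSheaf J AddCommGrpCat.{u})) U p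
      (E J Y hY p S.X₃ x) =
      CechEdge.extδ (hS'.map_of_exact (presheafToSheaf J AddCommGrpCat.{u})) U p
        (E J Y hY p S'.X₃ (CechEdge.cechHMap Y h p x)) := by
    rw [d1, ← hN _ _ h x]
  have r2 : CechEdge.extδ (hS'.map_of_exact (presheafToSheaf J AddCommGrpCat.{u})) U p
      (E J Y hY p S'.X₃ (CechEdge.cechHMap Y S'.g p v)) = 0 := by
    rw [hN _ _ S'.g v]
    exact extδ_comp_g J S' hS' U p _
  have l2 : dE J U S.X₁ p (E J Y hY p (TT S.X₁).X₃ y) =
      CechEdge.extδ (hS'.map_of_exact (presheafToSheaf J AddCommGrpCat.{u})) U p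
        (E J Y hY p S'.X₃ (CechEdge.cechHMap Y k p y)) := by
    rw [d2, ← hN _ _ k y]
  have r3 : CechEdge.extδ (hS'.map_of_exact (presheafToSheaf J AddCommGrpCat.{u})) U p
        (E J Y hY p S'.X₃ (CechEdge.cechHMap Y h p x)) =
      CechEdge.extδ (hS'.map_of_exact (presheafToSheaf J AddCommGrpCat.{u})) U p
        (E J Y hY p S'.X₃ (CechEdge.cechHMap Y k p y)) := by
    have e4 : E J Y hY p S'.X₃ (CechEdge.cechHMap Y h p x) =
        E J Y hY p S'.X₃ (CechEdge.cechHMap Y k p y) +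
          E J Y hY p S'.X₃ (CechEdge.cechHMap Y S'.g p v) := by rw [c4, map_add]
    have e5 := (CechEdge.extδ (hS'.map_of_exact (presheafToSheaf J AddCommGrpCat.{u})) U p).map_add
      (E J Y hY p S'.X₃ (CechEdge.cechHMap Y k p y))
      (E J Y hY p S'.X₃ (CechEdge.cechHMap Y S'.g p v))
    exact (congrArg (fun t => CechEdge.extδ
      (hS'.map_of_exact (presheafToSheaf J AddCommGrpCat.{u})) U p t) e4).trans
      (e5.trans ((congrArg (fun t => CechEdge.extδ
        (hS'.map_of_exact (presheafToSheaf J AddCommGrpCat.{u})) U p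
          (E J Y hY p S'.X₃ (CechEdge.cechHMap Y k p y)) + t) r2).trans (add_zero _)))
  exact l1.trans (l2.trans (r3.symm.trans r1.symm))

theorem main (J : GrothendieckTopology C) {U : C} {ι : Type u} (Y : ι → Over U)
    (hY : Sieve.ofArrows (fun i => (Y i).left) (fun i => (Y i).hom) ∈ J U) :
    ∃ e : ∀ (P : Cᵒᵖ ⥤ AddCommGrpCat.{u}) (p : ℕ),
      CohCx.cechH P Y p →+ CohSite.HU (CechEdge.shf J P) p U, CechEdge.IsEdge J Y e :=
  ⟨fun P p => E J Y hY p P,
    { cover := hY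
      zero := fun P s => e0_zero J Y hY P s
      natural := fun P Q φ p x => E_nat J Y hY p P Q φ x
      delta := fun S hS hC p x => E_delta J Y hY S hS hC p x }⟩

end helpers

/-- On a small site with fibre products, for a covering family of an object U there is an edge family,
that is, additive maps from the Cech cohomology of every abelian presheaf with respect to the family
to the cohomology over U of its associated sheaf, given in degree 0 by restriction followed by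
sheafification, natural in the presheaf, and commuting with the connecting homomorphisms attached to
every short exact sequence of abelian presheaves and to its sheafification. -/
theorem result {C : Type u} [SmallCategory C] [HasPullbacks C]
    (J : GrothendieckTopology C) {U : C} {ι : Type u} (Y : ι → Over U)
    (hY : Sieve.ofArrows (fun i => (Y i).left) (fun i => (Y i).hom) ∈ J U) :
    ∃ e : ∀ (P : Cᵒᵖ ⥤ AddCommGrpCat.{u}) (p : ℕ), CohCx.cechH P Y p →+ CohSite.HU (CechEdge.shf J P) p U,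
      CechEdge.IsEdge J Y e := by
  exact Groth.Agent.S16019.main J Y hY

end Groth.Agent.S16019
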