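import Groth.Statements.S0937
import Mathlib
import Groth.Agent.S0861
import Groth.Agent.S16019
import Groth.Agent.H10.AcycSeq

set_option autoImplicit false
universe u
open CategoryTheory
open CohSite

namespace Groth.Agent.S0937

section helpers

open CategoryTheory CategoryTheory.Limits Opposite AlgebraicTopology Simplicial
  CategoryTheory.Abelian
open Groth.Agent.S0859 (hom_congr_apply comp_hom_apply Yc pr PD Qf wh dK KK cochain_ext
  cochain_mk tr tr_π Ymap_pr cmap cmap_d cmapS_pr_apply pr_ext)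
open Groth.Agent.S0858 (Gp evH toG evH_toG G_ext evH_map etaG exists_retr liftY liftY_pr)
open Groth.Agent.S16019 (cechHMap_comp cechHMap_id)
open Groth.Agent.H10.Acyc (ext_addEquiv_seq)
open Groth.Agent.H10.CohSiteA (freeFunctor secEquiv secEquiv_comp secAddEquiv)

theorem addEquiv₀_mk₀ {A : Type (u + 1)} [Category.{u} A] [Abelian A] [HasExt.{u} A] {X Y : A}
    (ψ : X ⟶ Y) : Ext.addEquiv₀ (Ext.mk₀ ψ) = ψ :=
  (Ext.mk₀_bijective X Y).1 (Ext.mk₀_addEquiv₀_apply _)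

theorem addEquiv₀_symm {A : Type (u + 1)} [Category.{u} A] [Abelian A] [HasExt.{u} A] {X Y : A}
    (ψ : X ⟶ Y) : Ext.addEquiv₀.symm ψ = Ext.mk₀ ψ :=
  (AddEquiv.symm_apply_eq _).mpr (addEquiv₀_mk₀ ψ).symm

section tw

variable {C D : Type u} [SmallCategory C] [SmallCategory D] [HasPullbacks C]
  (u : C ⥤ D) [PreservesLimitsOfShape WalkingCospan u]

theorem post_terminal (U : C) :
    PreservesLimit (Functor.empty.{0} (Over U)) (Over.post u (X := U)) := by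
  refine preservesLimit_of_preserves_limit_cone (Over.mkIdTerminal (X := U)) ?_
  exact (isLimitMapConeEmptyConeEquiv (Over.post u (X := U)) (Over.mk (𝟙 U))).symm
    (IsTerminal.ofIso (Over.mkIdTerminal (X := u.obj U))
      (Over.isoMk (Iso.refl _) ((Category.id_comp _).trans (u.map_id U))))

theorem post_finprod (U : C) : PreservesFiniteProducts (Over.post u (X := U)) := by
  haveI : PreservesLimitsOfShape (WidePullbackShape WalkingPair) u :=
    ‹PreservesLimitsOfShape WalkingCospan u›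
  haveI : PreservesLimitsOfShape (Discrete WalkingPair) (Over.post u (X := U)) := inferInstance
  haveI := post_terminal u U
  haveI : PreservesLimitsOfShape (Discrete.{0} PEmpty) (Over.post u (X := U)) :=
    preservesLimitsOfShape_pempty_of_preservesTerminal _
  exact PreservesFiniteProducts.of_preserves_binary_and_terminal _

variable {U : C} {ι : Type u} (Y : ι → Over U) (N : Dᵒᵖ ⥤ AddCommGrpCat.{u})

abbrev Pu : Over U ⥤ Over (u.obj U) := Over.post u (X := U)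

/-- the mapped product cone is a limit -/
noncomputable def isLim (n : ℕ) (a : Fin (n + 1) → ι) :
    IsLimit ((Pu u).mapCone (Fan.mk (PD Y n a) (Limits.Pi.π (Y ∘ a)))) := by
  haveI := post_finprod u U
  haveI : PreservesLimit (Discrete.functor (Y ∘ a)) (Pu u (U := U)) := inferInstance
  exact isLimitOfPreserves (Pu u) (productIsProduct (Y ∘ a))

theorem hom_ext_u {n : ℕ} {a : Fin (n + 1) → ι} {W : Over (u.obj U)}
    (φ ψ : W ⟶ (Pu u).obj (PD Y n a))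
    (h : ∀ k, φ ≫ (Pu u).map (Limits.Pi.π (Y ∘ a) k) =
      ψ ≫ (Pu u).map (Limits.Pi.π (Y ∘ a) k)) : φ = ψ :=
  (isLim u Y n a).hom_ext (fun j => h j.as)

noncomputable def lift_u {n : ℕ} {a : Fin (n + 1) → ι} {W : Over (u.obj U)}
    (p : ∀ k, W ⟶ (Pu u).obj ((Y ∘ a) k)) : W ⟶ (Pu u).obj (PD Y n a) :=
  (isLim u Y n a).lift
    { pt := W
      π := Discrete.natTrans (fun j => p j.as) }

theorem lift_u_π {n : ℕ} {a : Fin (n + 1) → ι} {W : Over (u.obj U)}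
    (p : ∀ k, W ⟶ (Pu u).obj ((Y ∘ a) k)) (k : Fin (n + 1)) :
    lift_u u Y p ≫ (Pu u).map (Limits.Pi.π (Y ∘ a) k) = p k :=
  (isLim u Y n a).fac _ ⟨k⟩

/-- evaluation functional on Cech cochains of the twisted coinduced presheaf -/
noncomputable def E (n : ℕ) (a : Fin (n + 1) → ι) (W : Over (u.obj U))
    (φ : W ⟶ (Pu u).obj (PD Y n a)) :
    (Yc Y (Qf (u.op ⋙ Gp N))).obj ⦋n⦌ →+ N.obj (op W.left) :=
  (evH N (u.obj (PD Y n a).left) W.left φ.left).comp (pr Y (Qf (u.op ⋙ Gp N)) n a).hom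

theorem E_congr (n : ℕ) (a b : Fin (n + 1) → ι) (h : ∀ k, a k = b k) (W : Over (u.obj U))
    (φ : W ⟶ (Pu u).obj (PD Y n a)) (ψ : W ⟶ (Pu u).obj (PD Y n b))
    (hφ : ∀ k, φ ≫ (Pu u).map (Limits.Pi.π (Y ∘ a) k ≫ eqToHom (congrArg Y (h k))) =
      ψ ≫ (Pu u).map (Limits.Pi.π (Y ∘ b) k))
    (c : (Yc Y (Qf (u.op ⋙ Gp N))).obj ⦋n⦌) : E u Y N n a W φ c = E u Y N n b W ψ c := by
  obtain rfl : a = b := funext h
  have e : φ = ψ := by
    apply hom_ext_u u Y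
    intro k
    have hk := hφ k
    simp only [eqToHom_refl, Category.comp_id] at hk
    exact hk
  rw [e]

theorem E_map {n m : ℕ} (θ : ⦋n⦌ ⟶ ⦋m⦌) (y : Fin (m + 1) → ι) (W : Over (u.obj U))
    (φ : W ⟶ (Pu u).obj (PD Y m y)) (c : (Yc Y (Qf (u.op ⋙ Gp N))).obj ⦋n⦌) :
    E u Y N m y W φ (((Yc Y (Qf (u.op ⋙ Gp N))).map θ).hom c) =
      E u Y N n (y ∘ θ.toOrderHom) W (φ ≫ (Pu u).map (tr Y θ y)) c := by
  have h := hom_congr_apply (Ymap_pr Y (Qf (u.op ⋙ Gp N)) θ y) c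
  exact congrArg (fun z => evH N (u.obj (PD Y m y).left) W.left φ.left z) h

theorem tr_pi_eq {n m : ℕ} (θ : ⦋n⦌ ⟶ ⦋m⦌) (y : Fin (m + 1) → ι) (W : Over (u.obj U))
    (F : W ⟶ (Pu u).obj (PD Y m y)) (κ : Fin (n + 1)) (κ' : Fin (m + 1))
    (e : θ.toOrderHom κ = κ') (p : Y (y (θ.toOrderHom κ)) = Y (y κ')) :
    (F ≫ (Pu u).map (tr Y θ y)) ≫
        (Pu u).map (Limits.Pi.π (Y ∘ (y ∘ θ.toOrderHom)) κ ≫ eqToHom p) =
      F ≫ (Pu u).map (Limits.Pi.π (Y ∘ y) κ') := by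
  subst e
  rw [eqToHom_refl, Category.comp_id, Category.assoc, ← Functor.map_comp, tr_π]

noncomputable def sel (W : Over (u.obj U)) (h : Nonempty (Σ i : ι, W ⟶ (Pu u).obj (Y i))) :
    Σ i : ι, W ⟶ (Pu u).obj (Y i) :=
  Classical.choice h

noncomputable def liftP (n : ℕ) (x : Fin (n + 1) → ι) (W : Over (u.obj U)) (i0 : ι)
    (f0 : W ⟶ (Pu u).obj (Y i0)) (φ : W ⟶ (Pu u).obj (PD Y n x)) :
    W ⟶ (Pu u).obj (PD Y (n + 1) (Fin.cons i0 x)) :=
  lift_u u Y (fun k =>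
    Fin.cases (motive := fun k => W ⟶ (Pu u).obj ((Y ∘ (Fin.cons i0 x : Fin (n + 1 + 1) → ι)) k))
      f0 (fun j => φ ≫ (Pu u).map (Limits.Pi.π (Y ∘ x) j)) k)

theorem liftP_zero (n : ℕ) (x : Fin (n + 1) → ι) (W : Over (u.obj U)) (i0 : ι)
    (f0 : W ⟶ (Pu u).obj (Y i0)) (φ : W ⟶ (Pu u).obj (PD Y n x)) :
    liftP u Y n x W i0 f0 φ ≫
      (Pu u).map (Limits.Pi.π (Y ∘ (Fin.cons i0 x : Fin (n + 1 + 1) → ι)) 0) = f0 :=
  lift_u_π u Y _ 0

theorem liftP_succ (n : ℕ) (x : Fin (n + 1) → ι) (W : Over (u.obj U)) (i0 : ι)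
    (f0 : W ⟶ (Pu u).obj (Y i0)) (φ : W ⟶ (Pu u).obj (PD Y n x)) (j : Fin (n + 1)) :
    liftP u Y n x W i0 f0 φ ≫
      (Pu u).map (Limits.Pi.π (Y ∘ (Fin.cons i0 x : Fin (n + 1 + 1) → ι)) j.succ) =
      φ ≫ (Pu u).map (Limits.Pi.π (Y ∘ x) j) :=
  (lift_u_π u Y _ j.succ).trans (Fin.cases_succ j)

theorem A' (n : ℕ) (x : Fin (n + 1) → ι) (W : Over (u.obj U)) (i0 : ι)
    (f0 : W ⟶ (Pu u).obj (Y i0)) (φ : W ⟶ (Pu u).obj (PD Y n x))
    (z : (Yc Y (Qf (u.op ⋙ Gp N))).obj ⦋n⦌) :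
    E u Y N (n + 1) (Fin.cons i0 x) W (liftP u Y n x W i0 f0 φ)
        (((Yc Y (Qf (u.op ⋙ Gp N))).map (SimplexCategory.δ (0 : Fin (n + 2)))).hom z) =
      E u Y N n x W φ z := by
  refine (E_map u Y N (SimplexCategory.δ (0 : Fin (n + 2))) (Fin.cons i0 x) W _ z).trans ?_
  refine E_congr u Y N n _ _ (fun κ => rfl) W _ _ (fun κ => ?_) z
  exact (tr_pi_eq u Y (SimplexCategory.δ (0 : Fin (n + 2))) (Fin.cons i0 x) W _ κ κ.succ
    rfl _).trans (liftP_succ u Y n x W i0 f0 φ κ)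

theorem B' (n : ℕ) (k : Fin (n + 2)) (x : Fin (n + 1 + 1) → ι) (W : Over (u.obj U)) (i0 : ι)
    (f0 : W ⟶ (Pu u).obj (Y i0)) (φ : W ⟶ (Pu u).obj (PD Y (n + 1) x))
    (z : (Yc Y (Qf (u.op ⋙ Gp N))).obj ⦋n + 1⦌) :
    E u Y N (n + 1 + 1) (Fin.cons i0 x) W (liftP u Y (n + 1) x W i0 f0 φ)
        (((Yc Y (Qf (u.op ⋙ Gp N))).map (SimplexCategory.δ k.succ)).hom z) =
      E u Y N (n + 1) (Fin.cons i0 (x ∘ (SimplexCategory.δ k).toOrderHom)) W
        (liftP u Y n (x ∘ (SimplexCategory.δ k).toOrderHom) W i0 f0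
          (φ ≫ (Pu u).map (tr Y (SimplexCategory.δ k) x))) z := by
  refine (E_map u Y N (SimplexCategory.δ k.succ) (Fin.cons i0 x) W _ z).trans ?_
  have h : ∀ κ : Fin (n + 1 + 1),
      ((Fin.cons i0 x : Fin (n + 1 + 1 + 1) → ι) ∘ (SimplexCategory.δ k.succ).toOrderHom) κ =
        (Fin.cons i0 (x ∘ (SimplexCategory.δ k).toOrderHom) : Fin (n + 1 + 1) → ι) κ := by
    intro κ
    induction κ using Fin.cases with
    | zero =>
      show (Fin.cons i0 x : Fin (n + 1 + 1 + 1) → ι) (k.succ.succAbove 0) = i0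
      rw [Fin.succ_succAbove_zero]
      rfl
    | succ j =>
      show (Fin.cons i0 x : Fin (n + 1 + 1 + 1) → ι) (k.succ.succAbove j.succ) = x (k.succAbove j)
      rw [Fin.succ_succAbove_succ]
      rfl
  refine E_congr u Y N (n + 1) _ _ h W _ _ (fun κ => ?_) z
  induction κ using Fin.cases with
  | zero =>
    exact (tr_pi_eq u Y (SimplexCategory.δ k.succ) (Fin.cons i0 x) W _ 0 0
      (Fin.succ_succAbove_zero k) _).trans
        ((liftP_zero u Y (n + 1) x W i0 f0 φ).trans (liftP_zero u Y n _ W i0 f0 _).symm)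
  | succ j =>
    refine (tr_pi_eq u Y (SimplexCategory.δ k.succ) (Fin.cons i0 x) W _ j.succ
      (k.succAbove j).succ (Fin.succ_succAbove_succ k j) _).trans ?_
    refine (liftP_succ u Y (n + 1) x W i0 f0 φ (k.succAbove j)).trans ?_
    refine Eq.trans ?_ (liftP_succ u Y n (x ∘ (SimplexCategory.δ k).toOrderHom) W i0 f0
      (φ ≫ (Pu u).map (tr Y (SimplexCategory.δ k) x)) j).symm
    rw [Category.assoc, ← Functor.map_comp, tr_π]
    rfl

noncomputable def Hc' (n : ℕ) (x : Fin (n + 1) → ι) (W : Over (u.obj U))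
    (s : Σ i : ι, W ⟶ (Pu u).obj (Y i)) (φ : W ⟶ (Pu u).obj (PD Y n x)) :
    (Yc Y (Qf (u.op ⋙ Gp N))).obj ⦋n + 1⦌ →+ N.obj (op W.left) :=
  E u Y N (n + 1) (Fin.cons s.1 x) W (liftP u Y n x W s.1 s.2 φ)

noncomputable def Hc (n : ℕ) (x : Fin (n + 1) → ι) (W : Over (u.obj U))
    (φ : W ⟶ (Pu u).obj (PD Y n x)) :
    (Yc Y (Qf (u.op ⋙ Gp N))).obj ⦋n + 1⦌ →+ N.obj (op W.left) :=
  Hc' u Y N n x W (sel u Y W ⟨⟨x 0, φ ≫ (Pu u).map (Limits.Pi.π (Y ∘ x) 0)⟩⟩) φ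

theorem Hc_inv (n : ℕ) (x : Fin (n + 1) → ι) (V : D) (g g' : V ⟶ u.obj U) (e : g = g')
    (φ : Over.mk g ⟶ (Pu u).obj (PD Y n x)) (φ' : Over.mk g' ⟶ (Pu u).obj (PD Y n x))
    (hl : φ.left = φ'.left) (c : (Yc Y (Qf (u.op ⋙ Gp N))).obj ⦋n + 1⦌) :
    Hc u Y N n x (Over.mk g) φ c = Hc u Y N n x (Over.mk g') φ' c := by
  subst e
  have e2 : φ = φ' := Over.OverMorphism.ext hl
  rw [e2]

noncomputable def sN (n : ℕ) :
    (Yc Y (Qf (u.op ⋙ Gp N))).obj ⦋n + 1⦌ ⟶ (Yc Y (Qf (u.op ⋙ Gp N))).obj ⦋n⦌ :=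
  liftY Y (Qf (u.op ⋙ Gp N)) (fun x => toG N (u.obj (PD Y n x).left)
    (fun V f => Hc u Y N n x (Over.mk (f ≫ ((Pu u).obj (PD Y n x)).hom)) (Over.homMk f rfl)))

theorem sN_apply (n : ℕ) (c : (Yc Y (Qf (u.op ⋙ Gp N))).obj ⦋n + 1⦌) (x : Fin (n + 1) → ι)
    (V : D) (f : V ⟶ u.obj (PD Y n x).left) :
    evH N (u.obj (PD Y n x).left) V f
        ((pr Y (Qf (u.op ⋙ Gp N)) n x).hom ((sN u Y N n).hom c)) =
      Hc u Y N n x (Over.mk (f ≫ ((Pu u).obj (PD Y n x)).hom)) (Over.homMk f rfl) c := by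
  have h := hom_congr_apply (liftY_pr Y (Qf (u.op ⋙ Gp N)) (fun x =>
    toG N (u.obj (PD Y n x).left)
      (fun V f => Hc u Y N n x (Over.mk (f ≫ ((Pu u).obj (PD Y n x)).hom))
        (Over.homMk f rfl))) x) c
  exact congrArg (fun z => evH N (u.obj (PD Y n x).left) V f z) h

theorem mor_ext {n : ℕ} {Z : AddCommGrpCat.{u}}
    (a b : Z ⟶ (Yc Y (Qf (u.op ⋙ Gp N))).obj ⦋n⦌)
    (h : ∀ (z : Z) (x : Fin (n + 1) → ι) (V : D) (f : V ⟶ u.obj (PD Y n x).left),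
      evH N (u.obj (PD Y n x).left) V f ((pr Y (Qf (u.op ⋙ Gp N)) n x).hom (a.hom z)) =
        evH N (u.obj (PD Y n x).left) V f ((pr Y (Qf (u.op ⋙ Gp N)) n x).hom (b.hom z))) :
    a = b := by
  apply AddCommGrpCat.hom_ext
  apply AddMonoidHom.ext
  intro z
  apply cochain_ext Y (Qf (u.op ⋙ Gp N)) n
  intro x
  exact G_ext N (u.obj (PD Y n x).left) _ _ (fun V f => h z x V f)

theorem sN_hc (n : ℕ) :
    (Yc Y (Qf (u.op ⋙ Gp N))).δ (0 : Fin (n + 2)) ≫ sN u Y N n = 𝟙 _ := by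
  apply mor_ext u Y N
  intro z x V f
  let W : Over (u.obj U) := Over.mk (f ≫ ((Pu u).obj (PD Y n x)).hom)
  let f' : W ⟶ (Pu u).obj (PD Y n x) := Over.homMk f rfl
  let s := sel u Y W ⟨⟨x 0, f' ≫ (Pu u).map (Limits.Pi.π (Y ∘ x) 0)⟩⟩
  have h1 := sN_apply u Y N n (((Yc Y (Qf (u.op ⋙ Gp N))).δ (0 : Fin (n + 2))).hom z) x V f
  have h2 := A' u Y N n x W s.1 s.2 f' z
  exact h1.trans h2

theorem sN_he (n : ℕ) (k : Fin (n + 2)) :
    (Yc Y (Qf (u.op ⋙ Gp N))).δ k.succ ≫ sN u Y N (n + 1) =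
      sN u Y N n ≫ (Yc Y (Qf (u.op ⋙ Gp N))).δ k := by
  apply mor_ext u Y N
  intro z x V f
  let W : Over (u.obj U) := Over.mk (f ≫ ((Pu u).obj (PD Y (n + 1) x)).hom)
  let f' : W ⟶ (Pu u).obj (PD Y (n + 1) x) := Over.homMk f rfl
  let s := sel u Y W ⟨⟨x 0, f' ≫ (Pu u).map (Limits.Pi.π (Y ∘ x) 0)⟩⟩
  have L1 := sN_apply u Y N (n + 1) (((Yc Y (Qf (u.op ⋙ Gp N))).δ k.succ).hom z) x V f
  have L2 := B' u Y N n k x W s.1 s.2 f' z
  have R1 := E_map u Y N (SimplexCategory.δ k) x W f' ((sN u Y N n).hom z)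
  have R2 := sN_apply u Y N n z (x ∘ (SimplexCategory.δ k).toOrderHom) V
    (f' ≫ (Pu u).map (tr Y (SimplexCategory.δ k) x)).left
  have R3 := Hc_inv u Y N n (x ∘ (SimplexCategory.δ k).toOrderHom) V
    ((f' ≫ (Pu u).map (tr Y (SimplexCategory.δ k) x)).left ≫
      ((Pu u).obj (PD Y n (x ∘ (SimplexCategory.δ k).toOrderHom))).hom)
    (f ≫ ((Pu u).obj (PD Y (n + 1) x)).hom)
    (Over.w (f' ≫ (Pu u).map (tr Y (SimplexCategory.δ k) x)))
    (Over.homMk (f' ≫ (Pu u).map (tr Y (SimplexCategory.δ k) x)).left rfl)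
    (f' ≫ (Pu u).map (tr Y (SimplexCategory.δ k) x)) rfl z
  exact (L1.trans L2).trans ((R1.trans (R2.trans R3)).symm)

theorem G_exact (p : ℕ) (c' : (Yc Y (Qf (u.op ⋙ Gp N))).obj ⦋p + 1⦌)
    (hc' : (dK Y (Qf (u.op ⋙ Gp N)) (p + 1)).hom c' = 0) :
    ∃ b', (dK Y (Qf (u.op ⋙ Gp N)) p).hom b' = c' := by
  have hd : ∀ n, dK Y (Qf (u.op ⋙ Gp N)) n =
      AlternatingCofaceMapComplex.objD (Yc Y (Qf (u.op ⋙ Gp N))) n :=
    fun n => Groth.Agent.S0885.objd (Yc Y (Qf (u.op ⋙ Gp N))) n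
  have key := Groth.Agent.S0885.objD_succ_comp (Yc Y (Qf (u.op ⋙ Gp N))) (sN u Y N)
    (sN_hc u Y N) (sN_he u Y N) p
  rw [← hd (p + 1), ← hd p] at key
  have k1 : (sN u Y N (p + 1)).hom ((dK Y (Qf (u.op ⋙ Gp N)) (p + 1)).hom c') =
      c' - (dK Y (Qf (u.op ⋙ Gp N)) p).hom ((sN u Y N p).hom c') := hom_congr_apply key c'
  refine ⟨(sN u Y N p).hom c', ?_⟩
  have k2 : (sN u Y N (p + 1)).hom ((dK Y (Qf (u.op ⋙ Gp N)) (p + 1)).hom c') = 0 :=
    (congrArg (sN u Y N (p + 1)).hom hc').trans (map_zero _)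
  exact (sub_eq_zero.mp (k1.symm.trans k2)).symm

theorem GpU_acyc (p : ℕ) : IsZero (CohCx.cechH (u.op ⋙ Gp N) Y (p + 1)) := by
  have hexact : ((KK Y (Qf (u.op ⋙ Gp N))).sc' p (p + 1) (p + 1 + 1)).Exact :=
    (ShortComplex.ab_exact_iff _).mpr (fun c hc => G_exact u Y N p c hc)
  exact (HomologicalComplex.exactAt_iff_isZero_homology _ _).mp
    (((KK Y (Qf (u.op ⋙ Gp N))).exactAt_iff' p (p + 1) (p + 1 + 1) (by simp) (by simp)).mpr
      hexact)

theorem inj_acyc (K : GrothendieckTopology D) (I : Sheaf K AddCommGrpCat.{u}) [Injective I]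
    (p : ℕ) : IsZero (CohCx.cechH (u.op ⋙ I.obj) Y (p + 1)) := by
  obtain ⟨r, hr⟩ := exists_retr I
  let η' : u.op ⋙ I.obj ⟶ u.op ⋙ Gp I.obj := Functor.whiskerLeft u.op (etaG I.obj)
  let r' : u.op ⋙ Gp I.obj ⟶ u.op ⋙ I.obj := Functor.whiskerLeft u.op r
  have hr' : η' ≫ r' = 𝟙 _ :=
    NatTrans.ext (funext fun W => congrArg (fun t => t.app (u.op.obj W)) hr)
  have hG := GpU_acyc u Y I.obj p
  have hall : ∀ x : CohCx.cechH (u.op ⋙ I.obj) Y (p + 1), x = 0 := by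
    intro x
    have h1 : CechEdge.cechHMap Y η' (p + 1) x = 0 :=
      hom_congr_apply (hG.eq_of_tgt (HomologicalComplex.homologyMap
        ((CechEdge.cxFunctor Y).map η') (p + 1)) 0) x
    have h2 := cechHMap_comp Y η' r' (p + 1) x
    rw [hr', cechHMap_id, h1, map_zero] at h2
    exact h2
  haveI : Subsingleton (CohCx.cechH (u.op ⋙ I.obj) Y (p + 1)) :=
    ⟨fun a b => (hall a).trans (hall b).symm⟩
  exact AddCommGrpCat.isZero_of_subsingleton _

end tw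

variable {C D : Type u} [SmallCategory C] [SmallCategory D] [HasPullbacks C]

theorem acyc (J : GrothendieckTopology C) (K : GrothendieckTopology D) (u : C ⥤ D)
    [PreservesLimitsOfShape WalkingCospan u] [u.IsContinuous J K]
    (I : Sheaf K AddCommGrpCat.{u}) [Injective I] (U : C) (p : ℕ) :
    Subsingleton (CohSite.HU ((CohSite.push K J u).obj I) (p + 1) U) := by
  refine Groth.Agent.S0861.main J Set.univ
    (fun U ι Y => Sieve.ofArrows (fun i => (Y i).left) (fun i => (Y i).hom) ∈ J U)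
    ?_ ?_ _ ?_ U (Set.mem_univ _) p
  · intro U ι Y h
    exact ⟨Set.mem_univ _, h, fun _ _ => Set.mem_univ _⟩
  · intro U _ T hT
    refine ⟨(Σ V : C, {f : V ⟶ U // T f}), fun i => Over.mk i.2.1, ?_, fun i => i.2.2⟩
    refine J.superset_covering ?_ hT
    intro V f hf
    exact (Sieve.mem_ofArrows_iff _ _ f).mpr ⟨⟨V, f, hf⟩, 𝟙 V, (Category.id_comp f).symm⟩
  · intro U ι Y hY p
    exact inj_acyc u Y K I p

theorem main (J : GrothendieckTopology C) (K : GrothendieckTopology D) (u : C ⥤ D)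
    [u.IsContinuous J K] [PreservesLimitsOfShape WalkingCospan u] [u.IsCocontinuous J K]
    (F : Sheaf K AddCommGrpCat.{u}) (U : C) (p : ℕ) :
    Nonempty (CohSite.HU ((CohSite.push K J u).obj F) p U ≃+ CohSite.HU F p (u.obj U)) := by
  haveI : PreservesColimits (CohSite.push K J u) :=
    (u.sheafAdjunctionCocontinuous AddCommGrpCat.{u} J K).leftAdjoint_preservesColimits
  haveI : PreservesFiniteColimits (CohSite.push K J u) := inferInstance
  haveI : PreservesFiniteLimits (CohSite.push K J u) := inferInstance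
  let σ : ∀ F₀ : Sheaf K AddCommGrpCat.{u}, ((freeFunctor K).obj (u.obj U) ⟶ F₀) ≃+
      ((freeFunctor J).obj U ⟶ (CohSite.push K J u).obj F₀) := fun F₀ =>
    (secAddEquiv K (u.obj U) F₀).trans (secAddEquiv J U ((CohSite.push K J u).obj F₀)).symm
  have hσ : ∀ {F₀ F₁ : Sheaf K AddCommGrpCat.{u}} (g : F₀ ⟶ F₁)
      (φ : (freeFunctor K).obj (u.obj U) ⟶ F₀),
      σ F₁ (φ ≫ g) = σ F₀ φ ≫ (CohSite.push K J u).map g := by
    intro F₀ F₁ g φ
    apply (secAddEquiv J U ((CohSite.push K J u).obj F₁)).injective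
    have e1 : secAddEquiv J U ((CohSite.push K J u).obj F₁) (σ F₁ (φ ≫ g)) =
        secEquiv K (u.obj U) F₁ (φ ≫ g) := AddEquiv.apply_symm_apply _ _
    have e2 : secEquiv J U ((CohSite.push K J u).obj F₀) (σ F₀ φ) =
        secEquiv K (u.obj U) F₀ φ :=
      AddEquiv.apply_symm_apply (secAddEquiv J U ((CohSite.push K J u).obj F₀)) _
    have e3 := secEquiv_comp J U (σ F₀ φ) ((CohSite.push K J u).map g)
    have e4 := secEquiv_comp K (u.obj U) φ g
    rw [e2] at e3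
    exact e1.trans (e4.trans e3.symm)
  let e : ∀ F₀ : Sheaf K AddCommGrpCat.{u}, Ext.{u} ((freeFunctor K).obj (u.obj U)) F₀ 0 ≃+
      Ext.{u} ((freeFunctor J).obj U) ((CohSite.push K J u).obj F₀) 0 := fun F₀ =>
    Ext.addEquiv₀.trans ((σ F₀).trans Ext.addEquiv₀.symm)
  have he0 : ∀ (F₀ : Sheaf K AddCommGrpCat.{u}) (φ : (freeFunctor K).obj (u.obj U) ⟶ F₀),
      e F₀ (Ext.mk₀ φ) = Ext.mk₀ (σ F₀ φ) := by
    intro F₀ φ
    show Ext.addEquiv₀.symm (σ F₀ (Ext.addEquiv₀ (Ext.mk₀ φ))) = _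
    rw [addEquiv₀_mk₀, addEquiv₀_symm]
  obtain ⟨a⟩ := ext_addEquiv_seq (CohSite.push K J u) (fun _ => True)
    ((freeFunctor K).obj (u.obj U)) ((freeFunctor J).obj U)
    (fun F₀ _ => by
      have hS : (ShortComplex.mk (Injective.ι F₀) (cokernel.π (Injective.ι F₀))
          (cokernel.condition _)).ShortExact :=
        { exact := ShortComplex.exact_of_g_is_cokernel _ (cokernelIsCokernel _) }
      exact ⟨Injective.under F₀, cokernel (Injective.ι F₀), Injective.ι F₀, cokernel.π _,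
        cokernel.condition _, hS, hS.map_of_exact (CohSite.push K J u),
        fun n x => Ext.eq_zero_of_injective x,
        fun n x => @Subsingleton.elim _
          (acyc J K u (Injective.under F₀) U n) x 0, trivial⟩)
    e
    (fun {F₀ F₁} g x => by
      obtain ⟨φ, rfl⟩ := (Ext.mk₀_bijective _ _).2 x
      rw [Ext.mk₀_comp_mk₀, he0, he0, Ext.mk₀_comp_mk₀, hσ])
    p F trivial
  exact ⟨a.symm⟩

end helpers

/-- Part (1), for a single abelian sheaf: let u : C -> D be a functor between sites which is continuous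
(preserving coverings and commuting with fibre products, which exist in C) and cocontinuous, F an
abelian sheaf on D and U an object of C. Then H^p(U, g^{-1}F) ≅ H^p(u(U), F) for all p, where
g^{-1}F is the sheaf V ↦ F(u(V)). -/
theorem result {C D : Type u} [SmallCategory C] [SmallCategory D]
    [Limits.HasPullbacks C] (J : GrothendieckTopology C) (K : GrothendieckTopology D) (u : C ⥤ D)
    [u.IsContinuous J K] (hu : CoverPreserving J K u) [Limits.PreservesLimitsOfShape Limits.WalkingCospan u]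
    [u.IsCocontinuous J K]
    (F : Sheaf K AddCommGrpCat.{u}) (U : C) (p : ℕ) :
    Nonempty (CohSite.HU ((CohSite.push K J u).obj F) p U ≃+ CohSite.HU F p (u.obj U)) := by
  exact Groth.Agent.S0937.main J K u F U p

end Groth.Agent.S0937
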