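import Groth.Statements.S0943
import Mathlib

set_option autoImplicit false
universe u
open CategoryTheory
open CohSite

namespace Groth.Agent.S0943

section General

open CategoryTheory.Limits CategoryTheory.Pretriangulated

universe v' u'

variable {T : Type u'} [Category.{v'} T] [Preadditive T] [HasZeroObject T] [HasShift T ℤ]
  [∀ n : ℤ, (shiftFunctor T n).Additive] [Pretriangulated T]
  (K : ℕ → T) [HasProduct K] (F : T)

noncomputable abbrev G' : T ⥤ AddCommGrpCat.{v'} := preadditiveCoyoneda.obj (Opposite.op F)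

lemma exists_lift (j : ℤ) (x : ∀ n, F ⟶ (shiftFunctor T j).obj (K n)) :
    ∃ X : F ⟶ (shiftFunctor T j).obj (∏ᶜ K),
      ∀ n, X ≫ (shiftFunctor T j).map (Pi.π K n) = x n := by
  have hl := isLimitOfPreserves (shiftFunctor T j) (productIsProduct K)
  let c : Cone (Discrete.functor K ⋙ shiftFunctor T j) :=
    { pt := F, π := Discrete.natTrans (fun d => x d.as) }
  exact ⟨hl.lift c, fun n => hl.fac c ⟨n⟩⟩

lemma hom_ext_shift (j : ℤ) {X X' : F ⟶ (shiftFunctor T j).obj (∏ᶜ K)}
    (h : ∀ n, X ≫ (shiftFunctor T j).map (Pi.π K n) = X' ≫ (shiftFunctor T j).map (Pi.π K n)) :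
    X = X' := by
  have hl := isLimitOfPreserves (shiftFunctor T j) (productIsProduct K)
  exact hl.hom_ext (fun d => h d.as)

theorem general (t : ∀ n, K (n + 1) ⟶ K n) (L : T) (a : ∀ n, L ⟶ K n)
    (hL : CohCx.IsRlimVia K t L a) (m : ℤ) :
    (∀ x : ∀ n, F ⟶ (shiftFunctor T m).obj (K n),
      (∀ n, x (n + 1) ≫ (shiftFunctor T m).map (t n) = x n) →
      ∃ y : F ⟶ (shiftFunctor T m).obj L, ∀ n, y ≫ (shiftFunctor T m).map (a n) = x n) ∧
    (CohCx.LimOneIsZero (fun n => F ⟶ (shiftFunctor T (m - 1)).obj (K n))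
        (fun n => Preadditive.rightComp _ ((shiftFunctor T (m - 1)).map (t n))) →
      ∀ y : F ⟶ (shiftFunctor T m).obj L, (∀ n, y ≫ (shiftFunctor T m).map (a n) = 0) → y = 0) := by
  obtain ⟨c, hT⟩ := hL
  set g : ∏ᶜ K ⟶ ∏ᶜ K := Pi.lift fun n => Pi.π K n - Pi.π K (n + 1) ≫ t n with hg
  have hgπ : ∀ n, g ≫ Pi.π K n = Pi.π K n - Pi.π K (n + 1) ≫ t n := fun n => Pi.lift_π _ n
  have haπ : ∀ n, Pi.lift a ≫ Pi.π K n = a n := fun n => Pi.lift_π _ n
  let Tr : Triangle T := Triangle.mk (Pi.lift a) g c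
  have key : ∀ (j : ℤ) (X : F ⟶ (shiftFunctor T j).obj (∏ᶜ K)) (n : ℕ),
      (X ≫ (shiftFunctor T j).map g) ≫ (shiftFunctor T j).map (Pi.π K n) =
        X ≫ (shiftFunctor T j).map (Pi.π K n) -
          (X ≫ (shiftFunctor T j).map (Pi.π K (n + 1))) ≫ (shiftFunctor T j).map (t n) := by
    intro j X n
    rw [Category.assoc, ← Functor.map_comp, hgπ n, Functor.map_sub, Functor.map_comp,
      Preadditive.comp_sub, Category.assoc]
  constructor
  · intro x hx
    obtain ⟨X, hX⟩ := exists_lift K F m x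
    have hXg : X ≫ (shiftFunctor T m).map g = 0 := by
      apply hom_ext_shift K F m
      intro n
      rw [key m X n, hX n, hX (n + 1), hx n, sub_self, zero_comp]
    obtain ⟨y, hy'⟩ : ∃ y : F ⟶ (shiftFunctor T m).obj L,
        y ≫ (shiftFunctor T m).map (Pi.lift a) = X :=
      (ShortComplex.ab_exact_iff _).1 ((G' F).homologySequence_exact₂ Tr hT m) X hXg
    refine ⟨y, fun n => ?_⟩
    rw [← haπ n, Functor.map_comp, ← Category.assoc, hy', hX n]
  · intro hlim y hy
    have hy0 : y ≫ (shiftFunctor T m).map (Pi.lift a) = 0 := by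
      apply hom_ext_shift K F m
      intro n
      rw [Category.assoc, ← Functor.map_comp, haπ n, hy n, zero_comp]
    obtain ⟨z, hz⟩ : ∃ z : F ⟶ (shiftFunctor T (m - 1)).obj (∏ᶜ K),
        (ConcreteCategory.hom ((G' F).homologySequenceδ Tr (m - 1) m (by omega))) z = y :=
      (ShortComplex.ab_exact_iff _).1
        ((G' F).homologySequence_exact₁ Tr hT (m - 1) m (by omega)) y hy0
    obtain ⟨w, hw⟩ := hlim (fun n => z ≫ (shiftFunctor T (m - 1)).map (Pi.π K n))
    have hw' : ∀ n, w n - w (n + 1) ≫ (shiftFunctor T (m - 1)).map (t n) =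
        z ≫ (shiftFunctor T (m - 1)).map (Pi.π K n) := fun n => congrFun hw n
    obtain ⟨W, hW⟩ := exists_lift K F (m - 1) w
    have hzW : W ≫ (shiftFunctor T (m - 1)).map g = z := by
      apply hom_ext_shift K F (m - 1)
      intro n
      rw [key (m - 1) W n, hW n, hW (n + 1), hw' n]
    have h0 := ConcreteCategory.congr_hom
      ((G' F).comp_homologySequenceδ Tr hT (m - 1) m (by omega)) W
    rw [ConcreteCategory.comp_apply] at h0
    have h1 : (((G' F).shift (m - 1)).map Tr.mor₂) W = z := hzW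
    rw [h1, hz] at h0
    exact h0.trans rfl

end General


open CategoryTheory.Limits in
/-- Abelian sheaves; the short exact sequence 0 -> R^1 lim H^{m-1}(U, K_n) -> H^m(U, R lim K_n) -> lim
H^m(U, K_n) -> 0 rendered by two consequences: let (K_n) be an inverse system in the derived
category of abelian sheaves on a site with a derived limit L through maps a_n : L -> K_n, U an
object and m an integer. Then every compatible family of classes in the H^m(U, K_n) lifts to H^m(U,
L), and if the system H^{m-1}(U, K_n) has vanishing R^1 lim the lift is unique (a class with zero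
images is zero). -/
theorem result {C : Type u} [SmallCategory C] {J : GrothendieckTopology C}
    [HasDerivedCategory.{u} (Sheaf J AddCommGrpCat.{u})]
    (K : ℕ → DerivedCategory (Sheaf J AddCommGrpCat.{u})) (t : ∀ n, K (n + 1) ⟶ K n) [HasProduct K]
    (L : DerivedCategory (Sheaf J AddCommGrpCat.{u})) (a : ∀ n, L ⟶ K n) (hL : CohCx.IsRlimVia K t L a)
    (U : C) (m : ℤ) :
    (∀ x : ∀ n, CohCx.HDU (K n) m U,
      (∀ n, x (n + 1) ≫ (shiftFunctor _ m).map (t n) = x n) →
      ∃ y : CohCx.HDU L m U, ∀ n, y ≫ (shiftFunctor _ m).map (a n) = x n) ∧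
    (CohCx.LimOneIsZero (fun n => CohCx.HDU (K n) (m - 1) U)
        (fun n => Preadditive.rightComp _ ((shiftFunctor _ (m - 1)).map (t n))) →
      ∀ y : CohCx.HDU L m U, (∀ n, y ≫ (shiftFunctor _ m).map (a n) = 0) → y = 0) := by
  exact general K _ t L a hL m

end Groth.Agent.S0943
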