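import Groth.Statements.S11149
import Mathlib

set_option autoImplicit false
universe w w' v v' u u'
open CategoryTheory CategoryTheory.Limits
open CohDer

namespace Groth.Agent.S11149

section helpers
open CategoryTheory CategoryTheory.Limits Pretriangulated DerivedCategory

variable {A : Type u} [Category.{v} A] [Abelian A] [HasDerivedCategory.{w} A]
    {B : Type u'} [Category.{v'} B] [Abelian B] [HasDerivedCategory.{w'} B]

local notation "tA" =>
  (DerivedCategory.TStructure.t : CategoryTheory.Triangulated.TStructure (DerivedCategory A))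

theorem isIso_homology_mor₁ (T : Triangle (DerivedCategory A)) (hT : T ∈ distTriang _) (n m : ℤ)
    (hm : m + 1 = n)
    (h0 : IsZero ((homologyFunctor A n).obj T.obj₃))
    (h1 : IsZero ((homologyFunctor A m).obj T.obj₃)) :
    IsIso ((homologyFunctor A n).map T.mor₁) := by
  haveI : Epi ((homologyFunctor A n).map T.mor₁) :=
    (HomologySequence.epi_homologyMap_mor₁_iff T hT n).2 (h0.eq_of_tgt _ _)
  haveI : Mono ((homologyFunctor A n).map T.mor₁) :=
    (HomologySequence.mono_homologyMap_mor₁_iff T hT m n hm).2 (h1.eq_of_src _ _)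
  exact isIso_of_mono_of_epi _

theorem isIso_homology_mor₂ (T : Triangle (DerivedCategory A)) (hT : T ∈ distTriang _) (n m : ℤ)
    (hm : n + 1 = m)
    (h0 : IsZero ((homologyFunctor A n).obj T.obj₁))
    (h1 : IsZero ((homologyFunctor A m).obj T.obj₁)) :
    IsIso ((homologyFunctor A n).map T.mor₂) := by
  haveI : Mono ((homologyFunctor A n).map T.mor₂) :=
    (HomologySequence.mono_homologyMap_mor₂_iff T hT n).2 (h0.eq_of_src _ _)
  haveI : Epi ((homologyFunctor A n).map T.mor₂) :=
    (HomologySequence.epi_homologyMap_mor₂_iff T hT n m hm).2 (h1.eq_of_tgt _ _)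
  exact isIso_of_mono_of_epi _

theorem isIso_app_of_iso {C D : Type*} [Category C] [Category D] {F G : C ⥤ D} (η : F ⟶ G)
    {X Y : C} (e : X ≅ Y) (h : IsIso (η.app Y)) : IsIso (η.app X) := by
  have : η.app X = F.map e.hom ≫ η.app Y ≫ G.map e.inv := by
    rw [← Category.assoc, η.naturality, Category.assoc, ← G.map_comp, e.hom_inv_id, G.map_id,
      Category.comp_id]
  rw [this]
  infer_instance

theorem isIso_app_obj₂ (F G : DerivedCategory A ⥤ DerivedCategory B) [F.CommShift ℤ]
    [G.CommShift ℤ] [F.IsTriangulated] [G.IsTriangulated] (η : F ⟶ G) [NatTrans.CommShift η ℤ]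
    (T : Triangle (DerivedCategory A)) (hT : T ∈ distTriang _)
    (h₁ : IsIso (η.app T.obj₁)) (h₃ : IsIso (η.app T.obj₃)) : IsIso (η.app T.obj₂) := by
  let φ : F.mapTriangle.obj T ⟶ G.mapTriangle.obj T :=
    Triangle.homMk _ _ (η.app T.obj₁) (η.app T.obj₂) (η.app T.obj₃)
      (η.naturality T.mor₁)
      (η.naturality T.mor₂)
      (by
        show (F.map T.mor₃ ≫ (F.commShiftIso (1 : ℤ)).hom.app T.obj₁) ≫
          (η.app T.obj₁)⟦(1 : ℤ)⟧' =
          η.app T.obj₃ ≫ G.map T.mor₃ ≫ (G.commShiftIso (1 : ℤ)).hom.app T.obj₁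
        rw [Category.assoc, NatTrans.shift_app_comm η (1 : ℤ) T.obj₁, NatTrans.naturality_assoc])
  exact isIso₂_of_isIso₁₃ φ (F.map_distinguished T hT) (G.map_distinguished T hT) h₁ h₃

theorem isIso_app_single (F G : DerivedCategory A ⥤ DerivedCategory B) [F.CommShift ℤ]
    [G.CommShift ℤ] (η : F ⟶ G) [NatTrans.CommShift η ℤ] (P : ObjectProperty A)
    (hη : ∀ X : A, P X → IsIso (η.app ((DerivedCategory.singleFunctor A 0).obj X)))
    (M : A) (hM : P M) (n : ℤ) :
    IsIso (η.app ((DerivedCategory.singleFunctor A n).obj M)) := by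
  haveI := hη M hM
  have e : ((DerivedCategory.singleFunctor A 0).obj M)⟦-n⟧ ≅
      (DerivedCategory.singleFunctor A n).obj M :=
    ((DerivedCategory.singleFunctors A).shiftIso (-n) n 0 (by omega)).app M
  refine isIso_app_of_iso η e.symm ?_
  rw [NatTrans.app_shift η (-n)]
  infer_instance

theorem truncLT_prop (P : ObjectProperty A) [P.IsClosedUnderIsomorphisms]
    (hP0 : ∀ Z : A, IsZero Z → P Z) (X : DerivedCategory A) (m : ℤ)
    (hX : ∀ i : ℤ, P ((homologyFunctor A i).obj X)) (i : ℤ) :
    P ((homologyFunctor A i).obj (((tA).truncLT m).obj X)) := by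
  have hT := (tA).triangleLTGE_distinguished m X
  by_cases hi : i < m
  · haveI : IsIso ((homologyFunctor A i).map (((tA).truncLTι m).app X)) :=
      isIso_homology_mor₁ _ hT i (i - 1) (by omega)
        (isZero_of_isGE (((tA).truncGE m).obj X) m i hi)
        (isZero_of_isGE (((tA).truncGE m).obj X) m (i - 1) (by omega))
    exact P.prop_of_iso (asIso ((homologyFunctor A i).map (((tA).truncLTι m).app X))).symm (hX i)
  · exact hP0 _ (isZero_of_isLE (((tA).truncLT m).obj X) (m - 1) i (by omega))

theorem isIso_app_truncGE (P : ObjectProperty A) [P.IsClosedUnderIsomorphisms]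
    (F G : DerivedCategory A ⥤ DerivedCategory B) [F.CommShift ℤ]
    [G.CommShift ℤ] (η : F ⟶ G) [NatTrans.CommShift η ℤ]
    (hη : ∀ X : A, P X → IsIso (η.app ((DerivedCategory.singleFunctor A 0).obj X)))
    (X : DerivedCategory A) (b : ℤ) [X.IsLE b] (hXb : P ((homologyFunctor A b).obj X)) :
    IsIso (η.app (((tA).truncGE b).obj X)) := by
  have hT := (tA).triangleLTGE_distinguished b X
  obtain ⟨M, ⟨e⟩⟩ := exists_iso_singleFunctor_obj_of_isGE_of_isLE (((tA).truncGE b).obj X) b
  have hM : P M := by
    haveI : IsIso ((homologyFunctor A b).map (((tA).truncGEπ b).app X)) :=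
      isIso_homology_mor₂ _ hT b (b + 1) rfl
        (isZero_of_isLE (((tA).truncLT b).obj X) (b - 1) b (by omega))
        (isZero_of_isLE (((tA).truncLT b).obj X) (b - 1) (b + 1) (by omega))
    exact P.prop_of_iso (asIso ((homologyFunctor A b).map (((tA).truncGEπ b).app X)) ≪≫
      (homologyFunctor A b).mapIso e ≪≫ (singleFunctorCompHomologyFunctorIso A b).app M) hXb
  exact isIso_app_of_iso η e (isIso_app_single F G η P hη M hM b)

theorem main_bounded (P : ObjectProperty A) [P.IsClosedUnderIsomorphisms]
    (F G : DerivedCategory A ⥤ DerivedCategory B) [F.CommShift ℤ] [G.CommShift ℤ]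
    [F.IsTriangulated] [G.IsTriangulated] (η : F ⟶ G) [NatTrans.CommShift η ℤ]
    (hη : ∀ X : A, P X → IsIso (η.app ((DerivedCategory.singleFunctor A 0).obj X)))
    (hP0 : ∀ Z : A, IsZero Z → P Z) :
    ∀ (n : ℕ) (X : DerivedCategory A) (a b : ℤ), b < a + n → X.IsGE a → X.IsLE b →
      (∀ i : ℤ, P ((homologyFunctor A i).obj X)) → IsIso (η.app X) := by
  intro n
  induction n with
  | zero =>
    intro X a b hab hGE hLE _
    have hab' : b < a := by simpa using hab
    have hX0 : IsZero X := (tA).isZero X b a hab'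
    have h1 : IsZero (F.obj X) := F.map_isZero hX0
    have h2 : IsZero (G.obj X) := G.map_isZero hX0
    exact ⟨⟨0, h1.eq_of_src _ _, h2.eq_of_src _ _⟩⟩
  | succ n ih =>
    intro X a b hab hGE hLE hX
    have hT := (tA).triangleLTGE_distinguished b X
    have h₁ : IsIso (η.app (((tA).truncLT b).obj X)) :=
      ih (((tA).truncLT b).obj X) a (b - 1) (by push_cast at hab; omega) inferInstance inferInstance
        (truncLT_prop P hP0 X b hX)
    have h₃ : IsIso (η.app (((tA).truncGE b).obj X)) := isIso_app_truncGE P F G η hη X b (hX b)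
    exact isIso_app_obj₂ F G η _ hT h₁ h₃

end helpers

/-- Fix abelian categories A and B, A' a class of objects of A closed under isomorphisms, F and G
triangulated functors from D(A) to D(B) and η : F ⟶ G a morphism of triangulated functors. If η_X is
an isomorphism for every object X of A' placed in degree 0, then η_X is an isomorphism for every
object X of D(A) with bounded cohomology whose cohomology objects all lie in A'. (Stated for
functors defined on all of D(A); A' is any class of objects closed under isomorphisms.) -/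
theorem result {A : Type u} [Category.{v} A] [Abelian A] [HasDerivedCategory.{w} A]
    {B : Type u'} [Category.{v'} B] [Abelian B] [HasDerivedCategory.{w'} B]
    (P : ObjectProperty A) [P.IsClosedUnderIsomorphisms]
    (F G : DerivedCategory A ⥤ DerivedCategory B) [F.CommShift ℤ] [G.CommShift ℤ]
    [F.IsTriangulated] [G.IsTriangulated] (η : F ⟶ G) [NatTrans.CommShift η ℤ]
    (hη : ∀ X : A, P X → IsIso (η.app ((DerivedCategory.singleFunctor A 0).obj X)))
    (X : DerivedCategory A) (a b : ℤ) [X.IsGE a] [X.IsLE b]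
    (hX : ∀ i : ℤ, P ((DerivedCategory.homologyFunctor A i).obj X)) :
    IsIso (η.app X) := by
  have hP0 : ∀ Z : A, IsZero Z → P Z := fun Z hZ =>
    P.prop_of_iso ((DerivedCategory.isZero_of_isLE X b (b + 1) (by omega)).iso hZ) (hX (b + 1))
  exact main_bounded P F G η hη hP0 (b - a + 1).toNat X a b (by omega) inferInstance
    inferInstance hX

end Groth.Agent.S11149
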