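import Groth.Statements.S0973
import Mathlib
import Groth.Agent.S11149

set_option autoImplicit false
universe w v u
open CategoryTheory CategoryTheory.Limits
open CohDer

namespace Groth.Agent.S0973

section helpers
open CategoryTheory CategoryTheory.Limits Pretriangulated DerivedCategory

variable {A : Type u} [Category.{v} A] [Abelian A] [HasDerivedCategory.{w} A]

local notation "tA" =>
  (DerivedCategory.TStructure.t : CategoryTheory.Triangulated.TStructure (DerivedCategory A))

theorem hom_eq_zero_of_shift {C : Type*} [Category C] [Preadditive C] [HasShift C ℤ]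
    [∀ n : ℤ, (shiftFunctor C n).Additive]
    {X Y X' Y' : C} (i : ℤ) (α : X ≅ X'⟦i⟧) (β : Y'⟦i⟧ ≅ Y) (h : ∀ f : X ⟶ Y, f = 0)
    (g : X' ⟶ Y') : g = 0 := by
  apply (shiftFunctor C i).map_injective
  rw [Functor.map_zero]
  have h1 := h (α.hom ≫ g⟦i⟧' ≫ β.hom)
  have h2 : g⟦i⟧' = α.inv ≫ (α.hom ≫ g⟦i⟧' ≫ β.hom) ≫ β.inv := by
    simp only [Category.assoc, Iso.hom_inv_id, Category.comp_id, Iso.inv_hom_id_assoc]
  rw [h2, h1, zero_comp, comp_zero]

theorem single_hom_zero (M N : A) (i j p q : ℤ) (h1 : i + q = j - 1) (h2 : p + q = 0)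
    (h : ∀ f : (singleFunctor A 0).obj M ⟶ ((singleFunctor A 0).obj N)⟦p⟧, f = 0)
    (g : (singleFunctor A i).obj M ⟶ ((singleFunctor A j).obj N)⟦(1 : ℤ)⟧) : g = 0 := by
  have α : (singleFunctor A 0).obj M ≅ ((singleFunctor A i).obj M)⟦i⟧ :=
    (((singleFunctors A).shiftIso i 0 i (by omega)).app M).symm
  have β : (((singleFunctor A j).obj N)⟦(1 : ℤ)⟧)⟦i⟧ ≅ ((singleFunctor A 0).obj N)⟦p⟧ :=
    (shiftFunctor (DerivedCategory A) i).mapIso
        (((singleFunctors A).shiftIso 1 (j - 1) j (by omega)).app N) ≪≫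
      ((singleFunctors A).shiftIso i q (j - 1) h1).app N ≪≫
      (((singleFunctors A).shiftIso p q 0 h2).app N).symm
  exact hom_eq_zero_of_shift i α β h g

theorem hom_shift_zero (E : DerivedCategory A) :
    ∀ (n : ℕ) (L : DerivedCategory A) (a b : ℤ), b < a + n → L.IsGE a → L.IsLE b →
      (∀ (j : ℤ) (g : E ⟶
        ((singleFunctor A j).obj ((homologyFunctor A j).obj L))⟦(1 : ℤ)⟧), g = 0) →
      ∀ f : E ⟶ L⟦(1 : ℤ)⟧, f = 0 := by
  intro n
  induction n with
  | zero =>
    intro L a b hab hGE hLE _ f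
    have hab' : b < a := by simpa using hab
    have hL0 : IsZero L := (tA).isZero L b a hab'
    exact ((shiftFunctor (DerivedCategory A) (1 : ℤ)).map_isZero hL0).eq_of_tgt _ _
  | succ n ih =>
    intro L a b hab hGE hLE hL f
    have hT := (tA).triangleLTGE_distinguished b L
    have h₃ : ∀ g : E ⟶ (((tA).truncGE b).obj L)⟦(1 : ℤ)⟧, g = 0 := by
      intro g
      obtain ⟨M, ⟨e⟩⟩ := exists_iso_singleFunctor_obj_of_isGE_of_isLE (((tA).truncGE b).obj L) b
      haveI : IsIso ((homologyFunctor A b).map (((tA).truncGEπ b).app L)) :=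
        Groth.Agent.S11149.isIso_homology_mor₂ _ hT b (b + 1) rfl
          (isZero_of_isLE (((tA).truncLT b).obj L) (b - 1) b (by omega))
          (isZero_of_isLE (((tA).truncLT b).obj L) (b - 1) (b + 1) (by omega))
      have eM : (homologyFunctor A b).obj L ≅ M :=
        asIso ((homologyFunctor A b).map (((tA).truncGEπ b).app L)) ≪≫
          (homologyFunctor A b).mapIso e ≪≫ (singleFunctorCompHomologyFunctorIso A b).app M
      have e' : ((tA).truncGE b).obj L ≅
          (singleFunctor A b).obj ((homologyFunctor A b).obj L) :=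
        e ≪≫ (singleFunctor A b).mapIso eM.symm
      have h0 := hL b (g ≫ e'.hom⟦(1 : ℤ)⟧')
      have : g = (g ≫ e'.hom⟦(1 : ℤ)⟧') ≫ e'.inv⟦(1 : ℤ)⟧' := by
        rw [Category.assoc, ← Functor.map_comp, e'.hom_inv_id, CategoryTheory.Functor.map_id, Category.comp_id]
      rw [this, h0, zero_comp]
    have h₁ : ∀ g : E ⟶ (((tA).truncLT b).obj L)⟦(1 : ℤ)⟧, g = 0 := by
      apply ih (((tA).truncLT b).obj L) a (b - 1) (by push_cast at hab; omega) inferInstance
        inferInstance
      intro j g
      by_cases hj : j < b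
      · haveI : IsIso ((homologyFunctor A j).map (((tA).truncLTι b).app L)) :=
          Groth.Agent.S11149.isIso_homology_mor₁ _ hT j (j - 1) (by omega)
            (isZero_of_isGE (((tA).truncGE b).obj L) b j hj)
            (isZero_of_isGE (((tA).truncGE b).obj L) b (j - 1) (by omega))
        have ej : (singleFunctor A j).obj ((homologyFunctor A j).obj (((tA).truncLT b).obj L)) ≅
            (singleFunctor A j).obj ((homologyFunctor A j).obj L) :=
          (singleFunctor A j).mapIso
            (asIso ((homologyFunctor A j).map (((tA).truncLTι b).app L)))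
        have h0 := hL j (g ≫ ej.hom⟦(1 : ℤ)⟧')
        have : g = (g ≫ ej.hom⟦(1 : ℤ)⟧') ≫ ej.inv⟦(1 : ℤ)⟧' := by
          rw [Category.assoc, ← Functor.map_comp, ej.hom_inv_id, CategoryTheory.Functor.map_id,
            Category.comp_id]
        rw [this, h0, zero_comp]
      · have hz : IsZero ((homologyFunctor A j).obj (((tA).truncLT b).obj L)) :=
          isZero_of_isLE (((tA).truncLT b).obj L) (b - 1) j (by omega)
        have hz' : IsZero (((singleFunctor A j).obj
            ((homologyFunctor A j).obj (((tA).truncLT b).obj L)))⟦(1 : ℤ)⟧) :=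
          (shiftFunctor (DerivedCategory A) (1 : ℤ)).map_isZero
            ((singleFunctor A j).map_isZero hz)
        exact hz'.eq_of_tgt _ _
    have hf3 : f ≫ (((tA).truncGEπ b).app L)⟦(1 : ℤ)⟧' = 0 := h₃ _
    have hex : ∃ g : E ⟶ (((tA).truncLT b).obj L)⟦(1 : ℤ)⟧,
        f = g ≫ (-(((tA).truncLTι b).app L)⟦(1 : ℤ)⟧') :=
      Triangle.coyoneda_exact₁ _ (rot_of_distTriang _ hT) f hf3
    obtain ⟨g, hg⟩ := hex
    rw [hg, h₁ g, zero_comp]

theorem exists_section (K : DerivedCategory A) (a : ℤ) [K.IsGE a]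
    (hExt : ∀ (i j : ℤ) (p : ℕ), j < i → 2 ≤ p →
      ∀ f : (singleFunctor A 0).obj ((homologyFunctor A i).obj K) ⟶
        ((singleFunctor A 0).obj ((homologyFunctor A j).obj K))⟦(p : ℤ)⟧, f = 0) (i : ℤ) :
    ∃ ι : (singleFunctor A i).obj ((homologyFunctor A i).obj K) ⟶ K,
      IsIso ((homologyFunctor A i).map ι) := by
  have hT := (tA).triangleLTGE_distinguished i K
  have hT' := (tA).triangleLTGE_distinguished (i + 1) (((tA).truncGE i).obj K)
  haveI hπ : IsIso ((homologyFunctor A i).map (((tA).truncGEπ i).app K)) :=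
    Groth.Agent.S11149.isIso_homology_mor₂ _ hT i (i + 1) rfl
      (isZero_of_isLE (((tA).truncLT i).obj K) (i - 1) i (by omega))
      (isZero_of_isLE (((tA).truncLT i).obj K) (i - 1) (i + 1) (by omega))
  haveI hι' : IsIso ((homologyFunctor A i).map
      (((tA).truncLTι (i + 1)).app (((tA).truncGE i).obj K))) :=
    Groth.Agent.S11149.isIso_homology_mor₁ _ hT' i (i - 1) (by omega)
      (isZero_of_isGE (((tA).truncGE (i + 1)).obj (((tA).truncGE i).obj K)) (i + 1) i (by omega))
      (isZero_of_isGE (((tA).truncGE (i + 1)).obj (((tA).truncGE i).obj K)) (i + 1) (i - 1)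
        (by omega))
  obtain ⟨M, ⟨e⟩⟩ := exists_iso_singleFunctor_obj_of_isGE_of_isLE
    (((tA).truncLT (i + 1)).obj (((tA).truncGE i).obj K)) i
  have eM : (homologyFunctor A i).obj K ≅ M :=
    asIso ((homologyFunctor A i).map (((tA).truncGEπ i).app K)) ≪≫
      (asIso ((homologyFunctor A i).map
        (((tA).truncLTι (i + 1)).app (((tA).truncGE i).obj K)))).symm ≪≫
      (homologyFunctor A i).mapIso e ≪≫ (singleFunctorCompHomologyFunctorIso A i).app M
  let θ : (singleFunctor A i).obj ((homologyFunctor A i).obj K) ≅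
      ((tA).truncLT (i + 1)).obj (((tA).truncGE i).obj K) :=
    (singleFunctor A i).mapIso eM ≪≫ e.symm
  let u : (singleFunctor A i).obj ((homologyFunctor A i).obj K) ⟶ ((tA).truncGE i).obj K :=
    θ.hom ≫ ((tA).truncLTι (i + 1)).app (((tA).truncGE i).obj K)
  have hu : IsIso ((homologyFunctor A i).map u) := by
    show IsIso ((homologyFunctor A i).map
      (θ.hom ≫ ((tA).truncLTι (i + 1)).app (((tA).truncGE i).obj K)))
    rw [Functor.map_comp]
    infer_instance
  have hδ : ∀ g : (singleFunctor A i).obj ((homologyFunctor A i).obj K) ⟶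
      (((tA).truncLT i).obj K)⟦(1 : ℤ)⟧, g = 0 := by
    apply hom_shift_zero _ (i - 1 - a + 1).toNat (((tA).truncLT i).obj K) a (i - 1) (by omega)
      inferInstance inferInstance
    intro j g
    by_cases hj : j < i
    · haveI : IsIso ((homologyFunctor A j).map (((tA).truncLTι i).app K)) :=
        Groth.Agent.S11149.isIso_homology_mor₁ _ hT j (j - 1) (by omega)
          (isZero_of_isGE (((tA).truncGE i).obj K) i j hj)
          (isZero_of_isGE (((tA).truncGE i).obj K) i (j - 1) (by omega))
      have ej : (singleFunctor A j).obj ((homologyFunctor A j).obj (((tA).truncLT i).obj K)) ≅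
          (singleFunctor A j).obj ((homologyFunctor A j).obj K) :=
        (singleFunctor A j).mapIso (asIso ((homologyFunctor A j).map (((tA).truncLTι i).app K)))
      have h0 : g ≫ ej.hom⟦(1 : ℤ)⟧' = 0 :=
        single_hom_zero _ _ i j ((i - j + 1).toNat : ℤ) (j - 1 - i) (by omega) (by omega)
          (hExt i j (i - j + 1).toNat hj (by omega)) _
      have : g = (g ≫ ej.hom⟦(1 : ℤ)⟧') ≫ ej.inv⟦(1 : ℤ)⟧' := by
        rw [Category.assoc, ← Functor.map_comp, ej.hom_inv_id, CategoryTheory.Functor.map_id, Category.comp_id]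
      rw [this, h0, zero_comp]
    · have hz : IsZero ((homologyFunctor A j).obj (((tA).truncLT i).obj K)) :=
        isZero_of_isLE (((tA).truncLT i).obj K) (i - 1) j (by omega)
      have hz' : IsZero (((singleFunctor A j).obj
          ((homologyFunctor A j).obj (((tA).truncLT i).obj K)))⟦(1 : ℤ)⟧) :=
        (shiftFunctor (DerivedCategory A) (1 : ℤ)).map_isZero
          ((singleFunctor A j).map_isZero hz)
      exact hz'.eq_of_tgt _ _
  have hex : ∃ ι : (singleFunctor A i).obj ((homologyFunctor A i).obj K) ⟶ K,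
      u = ι ≫ ((tA).truncGEπ i).app K :=
    Triangle.coyoneda_exact₃ _ hT u (hδ _)
  obtain ⟨ι, hι⟩ := hex
  refine ⟨ι, ?_⟩
  have h1 : (homologyFunctor A i).map ι ≫ (homologyFunctor A i).map (((tA).truncGEπ i).app K) =
      (homologyFunctor A i).map u := by
    rw [← Functor.map_comp]
    congr 1
    exact hι.symm
  have h2 : (homologyFunctor A i).map ι = (homologyFunctor A i).map u ≫
      inv ((homologyFunctor A i).map (((tA).truncGEπ i).app K)) := by
    rw [← h1, Category.assoc, IsIso.hom_inv_id, Category.comp_id]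
  rw [h2]
  infer_instance

theorem isIso_desc {J : Type} [Fintype J] [DecidableEq J] (K : DerivedCategory A)
    (f : J → DerivedCategory A) [HasBiproduct f] (d : J → ℤ) (hd : Function.Injective d)
    (hfz : ∀ j n, n ≠ d j → IsZero ((homologyFunctor A n).obj (f j)))
    (g : ∀ j, f j ⟶ K) (hg : ∀ j, IsIso ((homologyFunctor A (d j)).map (g j)))
    (hK : ∀ n, (∀ j, d j ≠ n) → IsZero ((homologyFunctor A n).obj K)) :
    IsIso (biproduct.desc g) := by
  rw [DerivedCategory.isIso_iff]
  intro n
  have htotal : 𝟙 ((homologyFunctor A n).obj (⨁ f)) =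
      ∑ j, (homologyFunctor A n).map (biproduct.π f j) ≫
        (homologyFunctor A n).map (biproduct.ι f j) := by
    rw [← CategoryTheory.Functor.map_id, ← biproduct.total, Functor.map_sum]
    simp only [Functor.map_comp]
  by_cases hn : ∃ j, d j = n
  · obtain ⟨n', rfl⟩ := hn
    have hsum : 𝟙 ((homologyFunctor A (d n')).obj (⨁ f)) =
        (homologyFunctor A (d n')).map (biproduct.π f n') ≫
          (homologyFunctor A (d n')).map (biproduct.ι f n') := by
      rw [htotal]
      apply Finset.sum_eq_single n'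
      · intro j _ hj
        have hne : d n' ≠ d j := fun h => hj (hd h.symm)
        rw [(hfz j (d n') hne).eq_of_tgt
          ((homologyFunctor A (d n')).map (biproduct.π f j)) 0, zero_comp]
      · intro h
        exact absurd (Finset.mem_univ _) h
    haveI h1 : IsIso ((homologyFunctor A (d n')).map (biproduct.ι f n')) :=
      ⟨⟨(homologyFunctor A (d n')).map (biproduct.π f n'),
        by rw [← Functor.map_comp, biproduct.ι_π_self, CategoryTheory.Functor.map_id], hsum.symm⟩⟩
    haveI h2 : IsIso ((homologyFunctor A (d n')).map (biproduct.ι f n') ≫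
        (homologyFunctor A (d n')).map (biproduct.desc g)) := by
      rw [← Functor.map_comp, biproduct.ι_desc]
      exact hg n'
    exact IsIso.of_isIso_comp_left ((homologyFunctor A (d n')).map (biproduct.ι f n')) _
  · have hn' : ∀ j, d j ≠ n := fun j h => hn ⟨j, h⟩
    have hid : 𝟙 ((homologyFunctor A n).obj (⨁ f)) = 0 := by
      rw [htotal]
      apply Finset.sum_eq_zero
      intro j _
      rw [(hfz j n (fun h => hn' j h.symm)).eq_of_tgt
        ((homologyFunctor A n).map (biproduct.π f j)) 0, zero_comp]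
    have hz1 : IsZero ((homologyFunctor A n).obj (⨁ f)) := (IsZero.iff_id_eq_zero _).2 hid
    have hz2 := hK n hn'
    exact ⟨⟨0, hz1.eq_of_src _ _, hz2.eq_of_src _ _⟩⟩

end helpers

/-- Let K be an object of the derived category of an abelian category with cohomology concentrated in
degrees a, …, b. Suppose that for all i > j and p ≥ 2 every morphism H^i(K) ⟶ H^j(K)[p] in the
derived category (an element of Ext^p) vanishes. Then K splits: it is isomorphic to ⨁_{a ≤ i ≤ b}
Hⁱ(K)[-i]. -/
theorem result {A : Type u} [Category.{v} A] [Abelian A] [HasDerivedCategory.{w} A]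
    (K : DerivedCategory A) (a b : ℤ) [K.IsGE a] [K.IsLE b]
    (hExt : ∀ (i j : ℤ) (p : ℕ), j < i → 2 ≤ p →
      ∀ f : (DerivedCategory.singleFunctor A 0).obj ((DerivedCategory.homologyFunctor A i).obj K) ⟶
        ((DerivedCategory.singleFunctor A 0).obj ((DerivedCategory.homologyFunctor A j).obj K))⟦(p : ℤ)⟧, f = 0)
    [HasBiproduct (fun i : Finset.Icc a b => (DerivedCategory.singleFunctor A (i : ℤ)).obj ((DerivedCategory.homologyFunctor A (i : ℤ)).obj K))] :
    Nonempty (K ≅ ⨁ (fun i : Finset.Icc a b => (DerivedCategory.singleFunctor A (i : ℤ)).obj ((DerivedCategory.homologyFunctor A (i : ℤ)).obj K))) := by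
  classical
  choose ι hι using exists_section K a hExt
  haveI : IsIso (biproduct.desc (fun i : Finset.Icc a b => ι (i : ℤ))) :=
    isIso_desc K
      (fun i : Finset.Icc a b => (DerivedCategory.singleFunctor A (i : ℤ)).obj
        ((DerivedCategory.homologyFunctor A (i : ℤ)).obj K))
      (fun i : Finset.Icc a b => (i : ℤ)) Subtype.val_injective
      (fun j n hn => by
        rcases lt_or_gt_of_ne hn with h | h
        · exact DerivedCategory.isZero_of_isGE _ (j : ℤ) n h
        · exact DerivedCategory.isZero_of_isLE _ (j : ℤ) n h)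
      (fun i => ι (i : ℤ)) (fun i => hι (i : ℤ))
      (fun n hn => by
        by_cases h1 : n < a
        · exact DerivedCategory.isZero_of_isGE K a n h1
        · by_cases h2 : b < n
          · exact DerivedCategory.isZero_of_isLE K b n h2
          · exact absurd rfl (hn ⟨n, Finset.mem_Icc.2 ⟨by omega, by omega⟩⟩))
  exact ⟨(asIso (biproduct.desc (fun i : Finset.Icc a b => ι (i : ℤ)))).symm⟩

end Groth.Agent.S0973
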