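import Groth.Statements.S0976
import Mathlib

set_option autoImplicit false
universe v u
open CategoryTheory
open CohDer

namespace Groth.Agent.S0976

open CategoryTheory.Pretriangulated in
/-- Let P be a triangulated subcategory of a triangulated category D (an object property containing
zero, stable under shifts, closed under extensions). Consider the class of objects X sitting in a
distinguished triangle A → X → B → A[1] with P A and B right orthogonal to P. This class is again
stable under shifts and closed under extensions, i.e. satisfies two-out-of-three in distinguished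
triangles. -/
theorem result {D : Type u} [Category.{v} D] [Preadditive D] [Limits.HasZeroObject D] [HasShift D ℤ]
    [∀ n : ℤ, (shiftFunctor D n).Additive] [Pretriangulated D] [IsTriangulated D]
    (P : ObjectProperty D) [P.IsTriangulated] :
    ObjectProperty.IsTriangulated (fun X : D => ∃ (A B : D) (f : A ⟶ X) (g : X ⟶ B) (h : B ⟶ (shiftFunctor D (1 : ℤ)).obj A),
      Triangle.mk f g h ∈ distinguishedTriangles ∧ P A ∧ P.rightOrthogonal B) := by
  classical
  have key : ObjectProperty.extensionProduct P.rightOrthogonal P ≤
      ObjectProperty.extensionProduct P P.rightOrthogonal := by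
    intro Z ⟨B, A, f, g, h, hT, hB, hA⟩
    have hB1 : P.rightOrthogonal ((shiftFunctor D (1 : ℤ)).obj B) :=
      P.rightOrthogonal.le_shift (1 : ℤ) _ hB
    have h0 : h = 0 := hB1 h hA
    obtain ⟨e, -, -⟩ := exists_iso_binaryBiproduct_of_distTriang _ hT h0
    have hBA : ObjectProperty.extensionProduct P P.rightOrthogonal (A ⊞ B) :=
      ⟨A, B, _, _, _, binaryBiproductTriangle_distinguished A B, hA, hB⟩
    exact (ObjectProperty.extensionProduct P P.rightOrthogonal).prop_of_iso
      ((Limits.biprod.braiding A B) ≪≫ e.symm) hBA
  have hcl : (ObjectProperty.extensionProduct P P.rightOrthogonal).IsTriangulatedClosed₂ := by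
    apply ObjectProperty.IsTriangulatedClosed₂.mk'
    intro T hT h₁ h₃
    have h2 : ObjectProperty.extensionProduct (ObjectProperty.extensionProduct P P.rightOrthogonal)
        (ObjectProperty.extensionProduct P P.rightOrthogonal) T.obj₂ :=
      ⟨_, _, _, _, _, hT, h₁, h₃⟩
    rw [ObjectProperty.extensionProduct_assoc] at h2
    rw [← ObjectProperty.extensionProduct_assoc P.rightOrthogonal P P.rightOrthogonal] at h2
    have h3 := ObjectProperty.monotone_extensionProduct_right P
      (ObjectProperty.monotone_extensionProduct_left P.rightOrthogonal key) _ h2
    rw [ObjectProperty.extensionProduct_assoc P P.rightOrthogonal P.rightOrthogonal,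
      ← ObjectProperty.extensionProduct_assoc] at h3
    have h4 : ObjectProperty.extensionProduct P.isoClosure P.rightOrthogonal T.obj₂ :=
      (ObjectProperty.monotone_extensionProduct_left _
        (ObjectProperty.extensionProduct_le_of_isTriangulatedClosed₂' le_rfl le_rfl)) _
        (ObjectProperty.monotone_extensionProduct_right _
          (ObjectProperty.extensionProduct_le_of_isTriangulatedClosed₂ le_rfl le_rfl) _ h3)
    rwa [ObjectProperty.extensionProduct_isoClosure_left] at h4
  have hz : (ObjectProperty.extensionProduct P P.rightOrthogonal).ContainsZero := by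
    obtain ⟨Z, hZ, hPZ⟩ := P.exists_prop_of_containsZero
    exact ⟨⟨Z, hZ, ObjectProperty.le_extensionProduct_left _ _ hPZ⟩⟩
  have hs : (ObjectProperty.extensionProduct P P.rightOrthogonal).IsStableUnderShift ℤ :=
    inferInstance
  exact ({ toContainsZero := hz, toIsStableUnderShift := hs, toIsTriangulatedClosed₂ := hcl } :
    (ObjectProperty.extensionProduct P P.rightOrthogonal).IsTriangulated)

end Groth.Agent.S0976
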