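import Groth.Statements.S0978
import Groth.Agent.H23.CompactGen

set_option autoImplicit false
universe v u
open CategoryTheory
open CohDer

namespace Groth.Agent.S0978

open CategoryTheory.Limits in
/-- Let D be a triangulated category with all small direct sums and E a compact object. Then E generates
D (an object admitting only zero maps from all shifts of E is zero) if and only if D is compactly
generated and every compact object lies in the triangulated envelope of E (objects reachable from E
by shifts, finite sums, direct summands and extensions). -/
theorem result {D : Type u} [Category.{v} D] [Preadditive D] [Limits.HasZeroObject D] [HasShift D ℤ]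
    [∀ n : ℤ, (shiftFunctor D n).Additive] [Pretriangulated D] [IsTriangulated D] [HasCoproducts.{v} D]
    [HasColimitsOfShape (Discrete ℕ) D]
    (E : D) (hE : CohDer.IsCompactObject E) :
    CohDer.Generates (fun _ : Unit => E) ↔
      (CohDer.IsCompactlyGenerated D ∧ ∀ X : D, CohDer.IsCompactObject X → ObjectProperty.triangEnvelope (fun Y : D => Y = E) X) := by
  constructor
  · intro hgen
    refine ⟨⟨PUnit.{v + 1}, fun _ => E, fun _ => hE,
      fun K hK => hgen K (fun _ n f => hK PUnit.unit n f)⟩, fun X hX => ?_⟩
    exact Groth.Agent.H23.CompactGen.compact_in_envelope E
      (Groth.Agent.H23.Compact.finFactor_of_compact hE)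
      (fun K hK => hgen K (fun _ n f => hK n f)) X
      (Groth.Agent.H23.Compact.finFactor_of_compact hX)
  · rintro ⟨hcg, henv⟩
    exact Groth.Agent.H23.CompactGen.generates_of_envelope E hcg henv

end Groth.Agent.S0978
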