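import Groth.Statements.S0982
import Mathlib

set_option autoImplicit false
universe w v u
open CategoryTheory CategoryTheory.Limits
open CohDer

namespace Groth.Agent.S0982


section helpers

open CategoryTheory.Limits

variable {A : Type u} [Category.{v} A] [Abelian A] [HasDerivedCategory.{w} A]

theorem eq_zero_of_conc {X Y : DerivedCategory A} (a : ℤ) [X.IsGE a] [X.IsLE a] [Y.IsGE a]
    [Y.IsLE a] (u : X ⟶ Y) (hu : (DerivedCategory.homologyFunctor A a).map u = 0) : u = 0 := by
  obtain ⟨x, ⟨eX⟩⟩ := DerivedCategory.exists_iso_singleFunctor_obj_of_isGE_of_isLE X a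
  obtain ⟨y, ⟨eY⟩⟩ := DerivedCategory.exists_iso_singleFunctor_obj_of_isGE_of_isLE Y a
  obtain ⟨f, hf⟩ := (DerivedCategory.singleFunctor A a).map_surjective (eX.inv ≫ u ≫ eY.hom)
  have hf0 : f = 0 := by
    have h1 : (DerivedCategory.homologyFunctor A a).map
        ((DerivedCategory.singleFunctor A a).map f) = 0 := by
      rw [hf, CategoryTheory.Functor.map_comp, CategoryTheory.Functor.map_comp, hu, zero_comp, comp_zero]
    have nat := (DerivedCategory.singleFunctorCompHomologyFunctorIso A a).hom.naturality f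
    have h2 : (DerivedCategory.singleFunctor A a ⋙ DerivedCategory.homologyFunctor A a).map f
        = 0 := h1
    rw [h2, zero_comp] at nat
    have h3 : (DerivedCategory.singleFunctorCompHomologyFunctorIso A a).hom.app x ≫ f =
        (DerivedCategory.singleFunctorCompHomologyFunctorIso A a).hom.app x ≫ 0 := by
      rw [comp_zero]; exact nat.symm
    exact (cancel_epi _).mp h3
  rw [hf0, CategoryTheory.Functor.map_zero] at hf
  rw [← cancel_epi eX.inv, ← cancel_mono eY.hom, Category.assoc, ← hf]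
  simp

theorem Q_map_eq_zero_of_conc {K L : CochainComplex A ℤ} (a : ℤ) [K.IsStrictlyGE a]
    [K.IsStrictlyLE a] [L.IsStrictlyGE a] [L.IsStrictlyLE a] (f : K ⟶ L)
    (hf : HomologicalComplex.homologyMap f a = 0) : DerivedCategory.Q.map f = 0 := by
  apply eq_zero_of_conc a
  have nat := DerivedCategory.homologyFunctorFactors_hom_naturality f a
  have hz : (DerivedCategory.homologyFunctor A a).map (DerivedCategory.Q.map f) ≫
      (DerivedCategory.homologyFunctorFactors A a).hom.app L = 0 := by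
    rw [nat, hf]
    exact comp_zero
  exact (cancel_mono ((DerivedCategory.homologyFunctorFactors A a).hom.app L)).mp
    (hz.trans zero_comp.symm)

theorem lift_aux {S : ShortComplex (CochainComplex A ℤ)} (hS : S.ShortExact)
    {T : CochainComplex A ℤ} (q : S.X₃ ⟶ T) [IsIso (DerivedCategory.Q.map q)]
    {X : DerivedCategory A} (ψ : X ⟶ DerivedCategory.Q.obj S.X₂)
    (hψ : ψ ≫ DerivedCategory.Q.map (S.g ≫ q) = 0) :
    ∃ ψ' : X ⟶ DerivedCategory.Q.obj S.X₁, ψ' ≫ DerivedCategory.Q.map S.f = ψ := by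
  have zero : ψ ≫ DerivedCategory.Q.map S.g = 0 := by
    rw [CategoryTheory.Functor.map_comp, ← Category.assoc] at hψ
    exact (cancel_mono (DerivedCategory.Q.map q)).mp (hψ.trans zero_comp.symm)
  obtain ⟨ψ', hψ'⟩ := CategoryTheory.Pretriangulated.Triangle.coyoneda_exact₂ _
    (DerivedCategory.triangleOfSES_distinguished hS) ψ zero
  exact ⟨ψ', hψ'.symm⟩

theorem lift_step {X : DerivedCategory A} {N M : CochainComplex A ℤ} (a b : ℤ) (hb : b + 1 = a)
    [N.IsStrictlyLE a] [M.IsStrictlyLE a] (h : N ⟶ M)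
    (H1 : HomologicalComplex.homologyMap h a = 0) (φ : X ⟶ DerivedCategory.Q.obj N) :
    ∃ ψ' : X ⟶ DerivedCategory.Q.obj (M.truncLE b),
      ψ' ≫ DerivedCategory.Q.map (M.ιTruncLE b) = φ ≫ DerivedCategory.Q.map h := by
  have H2 : HomologicalComplex.homologyMap (CochainComplex.truncGEMap h a) a = 0 := by
    haveI : IsIso (HomologicalComplex.homologyMap (N.πTruncGE a) a) :=
      (quasiIsoAt_iff_isIso_homologyMap _ _).mp inferInstance
    rw [← cancel_epi (HomologicalComplex.homologyMap (N.πTruncGE a) a),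
      ← HomologicalComplex.homologyMap_comp, CochainComplex.πTruncGE_naturality,
      HomologicalComplex.homologyMap_comp, H1, zero_comp, comp_zero]
  have H3 : DerivedCategory.Q.map (CochainComplex.truncGEMap h a) = 0 :=
    Q_map_eq_zero_of_conc a _ H2
  have hS := M.shortComplexTruncLE_shortExact b
  have e1 : (M.shortComplexTruncLE b).g ≫ M.shortComplexTruncLEX₃ToTruncGE b a hb =
      M.πTruncGE a := M.g_shortComplexTruncLEX₃ToTruncGE b a hb
  have e3 : DerivedCategory.Q.map h ≫ DerivedCategory.Q.map (M.πTruncGE a) = 0 := by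
    rw [← CategoryTheory.Functor.map_comp, ← CochainComplex.πTruncGE_naturality,
      CategoryTheory.Functor.map_comp, H3, comp_zero]
  have e5 : (φ ≫ DerivedCategory.Q.map h) ≫ DerivedCategory.Q.map (M.πTruncGE a) = 0 := by
    rw [Category.assoc, e3, comp_zero]
  exact lift_aux hS (M.shortComplexTruncLEX₃ToTruncGE b a hb) (φ ≫ DerivedCategory.Q.map h)
    ((congrArg (fun z => (φ ≫ DerivedCategory.Q.map h) ≫ DerivedCategory.Q.map z) e1).trans e5)

theorem main_ind (K : ℕ ⥤ CochainComplex A ℤ) (n : ℕ)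
    (h0 : ∀ i : ℤ, 0 < i → IsZero ((K.obj 0).homology i))
    (hz : ∀ j : ℕ, j < n →
      HomologicalComplex.homologyMap (K.map (homOfLE (Nat.le_succ j))) (-(j : ℤ)) = 0) :
    ∀ m : ℕ, m ≤ n → ∃ φ : DerivedCategory.Q.obj (K.obj 0) ⟶
        DerivedCategory.Q.obj ((K.obj m).truncLE (-(m : ℤ))),
      φ ≫ DerivedCategory.Q.map ((K.obj m).ιTruncLE (-(m : ℤ))) =
        DerivedCategory.Q.map (K.map (homOfLE (Nat.zero_le m))) := by
  intro m
  induction m with
  | zero =>
    intro _
    haveI : (K.obj 0).IsLE (-((0 : ℕ) : ℤ)) := by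
      rw [CochainComplex.isLE_iff]
      intro i hi
      rw [HomologicalComplex.exactAt_iff_isZero_homology]
      exact h0 i (by omega)
    haveI : IsIso (DerivedCategory.Q.map ((K.obj 0).ιTruncLE (-((0 : ℕ) : ℤ)))) := inferInstance
    refine ⟨inv (DerivedCategory.Q.map ((K.obj 0).ιTruncLE (-((0 : ℕ) : ℤ)))), ?_⟩
    have e : homOfLE (Nat.zero_le 0) = 𝟙 (0 : ℕ) := Subsingleton.elim _ _
    rw [e, K.map_id, CategoryTheory.Functor.map_id, IsIso.inv_hom_id]
  | succ m ih =>
    intro hm
    obtain ⟨φ, hφ⟩ := ih (Nat.le_of_succ_le hm)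
    have hg := hz m (Nat.lt_of_succ_le hm)
    have H1 : HomologicalComplex.homologyMap
        (CochainComplex.truncLEMap (K.map (homOfLE (Nat.le_succ m))) (-(m : ℤ))) (-(m : ℤ)) = 0 := by
      haveI : IsIso (HomologicalComplex.homologyMap
          ((K.obj (m + 1)).ιTruncLE (-(m : ℤ))) (-(m : ℤ))) :=
        (quasiIsoAt_iff_isIso_homologyMap _ _).mp inferInstance
      rw [← cancel_mono (HomologicalComplex.homologyMap
          ((K.obj (m + 1)).ιTruncLE (-(m : ℤ))) (-(m : ℤ))),
        ← HomologicalComplex.homologyMap_comp, CochainComplex.ιTruncLE_naturality,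
        HomologicalComplex.homologyMap_comp, hg, comp_zero, zero_comp]
    obtain ⟨ψ', hψ'⟩ := lift_step (-(m : ℤ)) (-((m + 1 : ℕ) : ℤ)) (by push_cast; ring)
      (CochainComplex.truncLEMap (K.map (homOfLE (Nat.le_succ m))) (-(m : ℤ))) H1 φ
    refine ⟨ψ' ≫ DerivedCategory.Q.map (CochainComplex.truncLEMap
      ((K.obj (m + 1)).ιTruncLE (-(m : ℤ))) (-((m + 1 : ℕ) : ℤ))), ?_⟩
    rw [Category.assoc, ← CategoryTheory.Functor.map_comp, CochainComplex.ιTruncLE_naturality,
      CategoryTheory.Functor.map_comp, ← Category.assoc, hψ', Category.assoc, ← CategoryTheory.Functor.map_comp,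
      CochainComplex.ιTruncLE_naturality, CategoryTheory.Functor.map_comp, ← Category.assoc, hφ,
      ← CategoryTheory.Functor.map_comp, ← CategoryTheory.Functor.map_comp, homOfLE_comp]

end helpers

/-- Let K : ℕ ⥤ CochainComplex A ℤ be a sequence of cochain maps K₀ → K₁ → K₂ → … in an abelian category
with Hⁱ(K₀) = 0 for i > 0 and such that for every j < n the map H⁻ʲ(Kⱼ) → H⁻ʲ(Kⱼ₊₁) is zero. Then in
the derived category the composite K₀ → Kₙ factors through the canonical truncation τ_{≤ -n}Kₙ → Kₙ. -/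
theorem result {A : Type u} [Category.{v} A] [Abelian A] [HasDerivedCategory.{w} A]
    (K : ℕ ⥤ CochainComplex A ℤ) (n : ℕ)
    (h0 : ∀ i : ℤ, 0 < i → IsZero ((K.obj 0).homology i))
    (hz : ∀ j : ℕ, j < n → HomologicalComplex.homologyMap (K.map (homOfLE (Nat.le_succ j))) (-(j : ℤ)) = 0) :
    ∃ φ : DerivedCategory.Q.obj (K.obj 0) ⟶ DerivedCategory.Q.obj ((K.obj n).truncLE (-(n : ℤ))),
      φ ≫ DerivedCategory.Q.map ((K.obj n).ιTruncLE (-(n : ℤ))) = DerivedCategory.Q.map (K.map (homOfLE (Nat.zero_le n))) := by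
  exact main_ind K n h0 hz n le_rfl

end Groth.Agent.S0982
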