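import Groth.Statements.S0983
import Mathlib

set_option autoImplicit false
universe v u
open CategoryTheory
open CohDer

namespace Groth.Agent.S0983

open CategoryTheory.Pretriangulated in
/-- In a triangulated category, a commutative square f ≫ v = u ≫ f' (with f : X ⟶ Y, f' : X' ⟶ Y', u : X
⟶ X', v : Y ⟶ Y') extends to a diagram with three distinguished rows (X, Y, Z), (X', Y', Z'), (X'',
Y'', Z'') and three distinguished columns (X, X', X''), (Y, Y', Y''), (Z, Z', Z''), in which all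
squares commute except the one formed by the third morphisms of the last row and last column, which
anticommutes; the fourth row and column are the shifts of the first ones. -/
theorem result {D : Type u} [Category.{v} D] [Preadditive D] [Limits.HasZeroObject D] [HasShift D ℤ]
    [∀ n : ℤ, (shiftFunctor D n).Additive] [Pretriangulated D] [IsTriangulated D]
    {X Y X' Y' : D} (f : X ⟶ Y) (f' : X' ⟶ Y') (u : X ⟶ X') (v : Y ⟶ Y') (comm : f ≫ v = u ≫ f') :
    ∃ (Z Z' X'' Y'' Z'' : D) (g : Y ⟶ Z) (h : Z ⟶ (shiftFunctor D (1 : ℤ)).obj X)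
      (g' : Y' ⟶ Z') (h' : Z' ⟶ (shiftFunctor D (1 : ℤ)).obj X')
      (f'' : X'' ⟶ Y'') (g'' : Y'' ⟶ Z'') (h'' : Z'' ⟶ (shiftFunctor D (1 : ℤ)).obj X'')
      (u' : X' ⟶ X'') (u'' : X'' ⟶ (shiftFunctor D (1 : ℤ)).obj X)
      (v' : Y' ⟶ Y'') (v'' : Y'' ⟶ (shiftFunctor D (1 : ℤ)).obj Y)
      (w : Z ⟶ Z') (w' : Z' ⟶ Z'') (w'' : Z'' ⟶ (shiftFunctor D (1 : ℤ)).obj Z),
      Triangle.mk f g h ∈ distinguishedTriangles ∧ Triangle.mk f' g' h' ∈ distinguishedTriangles ∧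
      Triangle.mk f'' g'' h'' ∈ distinguishedTriangles ∧
      Triangle.mk u u' u'' ∈ distinguishedTriangles ∧ Triangle.mk v v' v'' ∈ distinguishedTriangles ∧
      Triangle.mk w w' w'' ∈ distinguishedTriangles ∧
      g ≫ w = v ≫ g' ∧ h ≫ (shiftFunctor D (1 : ℤ)).map u = w ≫ h' ∧
      f' ≫ v' = u' ≫ f'' ∧ g' ≫ w' = v' ≫ g'' ∧ h' ≫ (shiftFunctor D (1 : ℤ)).map u' = w' ≫ h'' ∧
      f'' ≫ v'' = u'' ≫ (shiftFunctor D (1 : ℤ)).map f ∧ g'' ≫ w'' = v'' ≫ (shiftFunctor D (1 : ℤ)).map g ∧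
      h'' ≫ (shiftFunctor D (1 : ℤ)).map u'' = -(w'' ≫ (shiftFunctor D (1 : ℤ)).map h) := by
  obtain ⟨Z, g, h, H1⟩ := distinguished_cocone_triangle f
  obtain ⟨Z', g', h', H2⟩ := distinguished_cocone_triangle f'
  obtain ⟨X'', u', u'', H4⟩ := distinguished_cocone_triangle u
  obtain ⟨Y'', v', v'', H5⟩ := distinguished_cocone_triangle v
  obtain ⟨V, p, q, HV⟩ := distinguished_cocone_triangle (f ≫ v)
  obtain ⟨s₁, s₂, c1, c2, c3, c4, mem1⟩ :=
    Triangulated.someOctahedron (rfl : f ≫ v = f ≫ v) H1 H5 HV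
  obtain ⟨t₁, t₂, e1, e2, e3, e4, mem2⟩ :=
    Triangulated.someOctahedron comm.symm H4 H2 HV
  obtain ⟨Z'', g'', h'', H3⟩ := distinguished_cocone_triangle (t₁ ≫ s₂)
  have Hrot : Triangle.mk s₂ (v'' ≫ (shiftFunctor D (1 : ℤ)).map g)
      (-(shiftFunctor D (1 : ℤ)).map s₁) ∈ distinguishedTriangles := rot_of_distTriang _ mem1
  obtain ⟨m₁, m₃, d1, d2, d3, d4, mem3⟩ :=
    Triangulated.someOctahedron (rfl : t₁ ≫ s₂ = t₁ ≫ s₂) mem2 Hrot H3
  have H6 : Triangle.mk (s₁ ≫ t₂) m₁ m₃ ∈ distinguishedTriangles := by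
    rw [rotate_distinguished_triangle]
    have e : -(shiftFunctor D (1 : ℤ)).map (s₁ ≫ t₂) =
        (-(shiftFunctor D (1 : ℤ)).map s₁) ≫ (shiftFunctor D (1 : ℤ)).map t₂ := by
      rw [Functor.map_comp, Preadditive.neg_comp]
    show Triangle.mk m₁ m₃ (-(shiftFunctor D (1 : ℤ)).map (s₁ ≫ t₂)) ∈ distinguishedTriangles
    rw [e]
    exact mem3
  refine ⟨Z, Z', X'', Y'', Z'', g, h, g', h', t₁ ≫ s₂, g'', h'', u', u'', v', v'', s₁ ≫ t₂, m₁, m₃,
    H1, H2, H3, H4, H5, H6, ?_, ?_, ?_, ?_, ?_, ?_, ?_, ?_⟩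
  · rw [← Category.assoc, c1, Category.assoc, e3]
  · rw [← c2, Category.assoc, Category.assoc, e4]
  · rw [← c3, ← Category.assoc, ← e1, Category.assoc]
  · rw [← e3, Category.assoc, d1, ← Category.assoc, c3]
  · exact d2.symm
  · rw [Category.assoc, ← c4, ← Category.assoc, e2]
  · exact d3
  · rw [← e2, Functor.map_comp, ← Category.assoc, d4, Category.assoc, Preadditive.neg_comp,
      Preadditive.comp_neg, ← Functor.map_comp, c2]

end Groth.Agent.S0983
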