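import Groth.Statements.S0986
import Mathlib

set_option autoImplicit false
universe v u
open CategoryTheory CategoryTheory.Limits
open DerLim

namespace Groth.Agent.S0986

/-- Let A be an abelian category in which colimits of sequences ℕ ⥤ A exist and are exact, and F : ℕ ⥤ A
a sequence whose direct sum ⨁ Fₙ exists. Then the map 1 - shift on ⨁ Fₙ followed by the canonical
map ⨁ Fₙ → colim F is a short exact sequence 0 → ⨁ Fₙ → ⨁ Fₙ → colim F → 0. -/
theorem result {A : Type u} [Category.{v} A] [Abelian A]
    [HasColimitsOfShape ℕ A] [HasExactColimitsOfShape ℕ A] (F : ℕ ⥤ A) [HasCoproduct F.obj] :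
    ∃ w : (𝟙 (∐ F.obj) - DerLim.shiftMap F.obj (fun n => F.map (homOfLE (Nat.le_succ n)))) ≫
        Sigma.desc (fun n => colimit.ι F n) = 0,
      (ShortComplex.mk _ _ w).ShortExact := by
  classical
  let f : ∀ n, F.obj n ⟶ F.obj (n + 1) := fun n => F.map (homOfLE (Nat.le_succ n))
  let s : (∐ F.obj) ⟶ ∐ F.obj := DerLim.shiftMap F.obj f
  let π : (∐ F.obj) ⟶ colimit F := Sigma.desc (fun n => colimit.ι F n)
  have hs : ∀ n, Sigma.ι F.obj n ≫ s = f n ≫ Sigma.ι F.obj (n + 1) := fun n => by
    simp [s, DerLim.shiftMap]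
  have hπ : ∀ n, Sigma.ι F.obj n ≫ π = colimit.ι F n := fun n => by simp [π]
  have w : (𝟙 (∐ F.obj) - s) ≫ π = 0 := by
    apply Sigma.hom_ext
    intro n
    rw [comp_zero, Preadditive.sub_comp, Category.id_comp, Preadditive.comp_sub, hπ,
      ← Category.assoc, hs, Category.assoc, hπ]
    have := colimit.w F (homOfLE (Nat.le_succ n))
    rw [sub_eq_zero]
    exact this.symm
  refine ⟨w, ?_⟩
  haveI hepi : Epi π := by
    constructor
    intro Z g h hgh
    apply colimit.hom_ext
    intro n
    rw [← hπ, Category.assoc, Category.assoc, hgh]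
  have hcok : IsColimit (CokernelCofork.ofπ π w) := by
    refine CokernelCofork.IsColimit.ofπ' π w (fun {Z'} g' hg' => ?_)
    have key : ∀ n, f n ≫ Sigma.ι F.obj (n + 1) ≫ g' = Sigma.ι F.obj n ≫ g' := by
      intro n
      have h0 := congrArg (fun t => Sigma.ι F.obj n ≫ t) hg'
      simp only [comp_zero, Preadditive.sub_comp, Category.id_comp, Preadditive.comp_sub] at h0
      rw [← Category.assoc, hs, Category.assoc, sub_eq_zero] at h0
      exact h0.symm
    let c : Cocone F := ⟨Z', NatTrans.ofSequence (fun n => Sigma.ι F.obj n ≫ g') (by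
      intro n
      rw [Functor.const_obj_map]
      exact (key n).trans (Category.comp_id _).symm)⟩
    refine ⟨colimit.desc F c, ?_⟩
    apply Sigma.hom_ext
    intro n
    rw [← Category.assoc, hπ, colimit.ι_desc]
    rfl
  have hmono : Mono (𝟙 (∐ F.obj) - s) := by
    apply Preadditive.mono_of_kernel_zero
    let K := kernel (𝟙 (∐ F.obj) - s)
    let k : K ⟶ ∐ F.obj := kernel.ι (𝟙 (∐ F.obj) - s)
    change k = 0
    have hk : k ≫ s = k := by
      have h0 : k ≫ (𝟙 (∐ F.obj) - s) = 0 := kernel.condition (𝟙 (∐ F.obj) - s)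
      rw [Preadditive.comp_sub, Category.comp_id, sub_eq_zero] at h0
      exact h0.symm
    let q : ℕ → ((∐ F.obj) ⟶ ∐ F.obj) := fun N =>
      Sigma.desc (fun n => if n < N then 0 else Sigma.ι F.obj n)
    have hq : ∀ N n, Sigma.ι F.obj n ≫ q N = if n < N then 0 else Sigma.ι F.obj n :=
      fun N n => by simp [q]
    have hsq : ∀ N, s ≫ q (N + 1) = q N ≫ s := by
      intro N
      apply Sigma.hom_ext
      intro n
      rw [← Category.assoc, hs, Category.assoc, hq, ← Category.assoc, hq]
      by_cases h : n < N
      · rw [if_pos h, if_pos (by omega), comp_zero, zero_comp]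
      · rw [if_neg h, if_neg (by omega), hs]
    have hkq : ∀ N, k ≫ q N = k := by
      intro N
      induction N with
      | zero =>
        have h0 : q 0 = 𝟙 _ := by
          apply Sigma.hom_ext
          intro n
          rw [hq, if_neg (by omega), Category.comp_id]
        rw [h0, Category.comp_id]
      | succ N ih =>
        calc k ≫ q (N + 1) = (k ≫ s) ≫ q (N + 1) := by rw [hk]
          _ = k ≫ (s ≫ q (N + 1)) := Category.assoc _ _ _
          _ = k ≫ q N ≫ s := by rw [hsq]
          _ = (k ≫ q N) ≫ s := (Category.assoc _ _ _).symm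
          _ = k := by rw [ih, hk]
    let E : ℕ ⥤ A := Functor.ofSequence (X := fun _ => ∐ F.obj) (fun N => q (N + 1))
    let α : (Functor.const ℕ).obj K ⟶ E :=
      NatTrans.ofSequence (fun _ => k) (by
        intro N
        have h0 : E.map (homOfLE (Nat.le_add_right N 1)) = q (N + 1) :=
          Functor.ofSequence_map_homOfLE_succ _ N
        rw [Functor.const_obj_map, h0]
        exact (Category.id_comp k).trans (hkq (N + 1)).symm)
    haveI : ∀ N, Mono (α.app N) := fun N => by
      change Mono k
      infer_instance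
    haveI : Mono α := NatTrans.mono_of_mono_app α
    haveI : Mono ((colim (J := ℕ) (C := A)).map α) := inferInstance
    let cE : ℕ → ((∐ F.obj) ⟶ colimit E) := fun N => colimit.ι E N
    have hstep : ∀ N, cE N = q (N + 1) ≫ cE (N + 1) := by
      intro N
      have h0 := colimit.w E (homOfLE (Nat.le_add_right N 1))
      rw [Functor.ofSequence_map_homOfLE_succ] at h0
      exact h0.symm
    have hE : ∀ (d N n : ℕ), n = N + d → Sigma.ι F.obj n ≫ cE N = 0 := by
      intro d
      induction d with
      | zero =>
        intro N n hn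
        rw [hstep, ← Category.assoc, hq, if_pos (by omega), zero_comp]
      | succ d ih =>
        intro N n hn
        rw [hstep, ← Category.assoc, hq, if_neg (by omega)]
        exact ih (N + 1) n (by omega)
    have hE0 : cE 0 = 0 := by
      apply Sigma.hom_ext
      intro n
      rw [comp_zero]
      exact hE n 0 n (by omega)
    have h1 : colimit.ι ((Functor.const ℕ).obj K) 0 ≫ (colim (J := ℕ) (C := A)).map α =
        k ≫ cE 0 := colimit.ι_map α 0
    have h2 : colimit.ι ((Functor.const ℕ).obj K) 0 = 0 := by
      rw [← cancel_mono ((colim (J := ℕ) (C := A)).map α), h1, hE0, comp_zero, zero_comp]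
    have h3 : colimit.ι ((Functor.const ℕ).obj K) 0 ≫
        colimit.desc ((Functor.const ℕ).obj K) ⟨K, 𝟙 _⟩ = 𝟙 K := by
      rw [colimit.ι_desc]
      rfl
    have h4 : 𝟙 K = 0 := by rw [← h3, h2, zero_comp]
    calc k = 𝟙 K ≫ k := (Category.id_comp k).symm
      _ = 0 := by rw [h4, zero_comp]
  exact { exact := ShortComplex.exact_of_g_is_cokernel _ hcok
          mono_f := hmono
          epi_g := hepi }

end Groth.Agent.S0986
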