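import Groth.Statements.S0985
import Mathlib
import Groth.Agent.S0986

set_option autoImplicit false
universe w v u
open CategoryTheory CategoryTheory.Limits
open DerLim

namespace Groth.Agent.S0985

/-- Let A be an abelian category in which colimits of sequences ℕ ⥤ A exist and are exact, and let L : ℕ
⥤ CochainComplex A ℤ be a sequence of complexes. Then the image in the derived category of the
termwise colimit of L, with the canonical maps from the Lₙ, is a homotopy colimit of the images of
the Lₙ — assuming the termwise direct sum of the Lₙ exists and is preserved by the localization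
functor to D(A) (a known result, carried here as a hypothesis rather than proved), and that the
direct sum of the images exists in D(A). -/
theorem result {A : Type u} [Category.{v} A] [Abelian A] [HasDerivedCategory.{w} A]
    [HasColimitsOfShape ℕ A] [HasExactColimitsOfShape ℕ A]
    (L : ℕ ⥤ CochainComplex A ℤ) [HasCoproduct L.obj] [PreservesColimit (Discrete.functor L.obj) (DerivedCategory.Q (C := A))]
    [HasCoproduct (fun n => DerivedCategory.Q.obj (L.obj n))] :
    DerLim.IsHocolim (fun n => DerivedCategory.Q.obj (L.obj n)) (fun n => DerivedCategory.Q.map (L.map (homOfLE (Nat.le_succ n))))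
      (DerivedCategory.Q.obj (colimit L)) (fun n => DerivedCategory.Q.map (colimit.ι L n)) := by
  obtain ⟨w, hSE⟩ := Groth.Agent.S0986.result (A := CochainComplex A ℤ) L
  have hT := DerivedCategory.triangleOfSES_distinguished hSE
  let fC : ∀ n, L.obj n ⟶ L.obj (n + 1) := fun n => L.map (homOfLE (Nat.le_succ n))
  let sC : (∐ L.obj) ⟶ ∐ L.obj := DerLim.shiftMap L.obj fC
  let πC : (∐ L.obj) ⟶ colimit L := Sigma.desc (fun n => colimit.ι L n)
  let KD : ℕ → DerivedCategory A := fun n => DerivedCategory.Q.obj (L.obj n)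
  let sD : (∐ KD) ⟶ ∐ KD := DerLim.shiftMap KD (fun n => DerivedCategory.Q.map (fC n))
  let τ : (∐ KD) ≅ DerivedCategory.Q.obj (∐ L.obj) :=
    (PreservesCoproduct.iso DerivedCategory.Q L.obj).symm
  have hτ : ∀ n, Sigma.ι KD n ≫ τ.hom = DerivedCategory.Q.map (Sigma.ι L.obj n) :=
    fun n => ι_comp_sigmaComparison DerivedCategory.Q L.obj n
  have hsC : ∀ n, Sigma.ι L.obj n ≫ sC = fC n ≫ Sigma.ι L.obj (n + 1) := fun n => by
    simp [sC, DerLim.shiftMap]
  have hsD : ∀ n, Sigma.ι KD n ≫ sD = DerivedCategory.Q.map (fC n) ≫ Sigma.ι KD (n + 1) :=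
    fun n => by simp [sD, DerLim.shiftMap]
  have compat : (𝟙 (∐ KD) - sD) ≫ τ.hom = τ.hom ≫ DerivedCategory.Q.map (𝟙 (∐ L.obj) - sC) := by
    apply Sigma.hom_ext
    intro n
    have L1 : Sigma.ι KD n ≫ (𝟙 (∐ KD) - sD) ≫ τ.hom =
        DerivedCategory.Q.map (Sigma.ι L.obj n) -
          DerivedCategory.Q.map (fC n) ≫ DerivedCategory.Q.map (Sigma.ι L.obj (n + 1)) := by
      rw [Preadditive.sub_comp, Category.id_comp, Preadditive.comp_sub, hτ, ← Category.assoc,
        hsD, Category.assoc, hτ]
    have R1 : Sigma.ι KD n ≫ τ.hom ≫ DerivedCategory.Q.map (𝟙 (∐ L.obj) - sC) =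
        DerivedCategory.Q.map (Sigma.ι L.obj n) -
          DerivedCategory.Q.map (fC n) ≫ DerivedCategory.Q.map (Sigma.ι L.obj (n + 1)) := by
      rw [← Category.assoc, hτ, ← Functor.map_comp, Preadditive.comp_sub, Category.comp_id, hsC,
        Functor.map_sub, Functor.map_comp]
    exact L1.trans R1.symm
  have compat2 : Sigma.desc (fun n => DerivedCategory.Q.map (colimit.ι L n)) =
      τ.hom ≫ DerivedCategory.Q.map πC := by
    apply Sigma.hom_ext
    intro n
    have L2 : Sigma.ι KD n ≫ Sigma.desc (fun n => DerivedCategory.Q.map (colimit.ι L n)) =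
        DerivedCategory.Q.map (colimit.ι L n) := by simp
    have R2 : Sigma.ι KD n ≫ τ.hom ≫ DerivedCategory.Q.map πC =
        DerivedCategory.Q.map (colimit.ι L n) := by
      rw [← Category.assoc, hτ, ← Functor.map_comp]
      congr 1
      simp [πC]
    exact L2.trans R2.symm
  refine ⟨DerivedCategory.triangleOfSESδ hSE ≫
    (shiftFunctor (DerivedCategory A) (1 : ℤ)).map τ.inv, ?_⟩
  refine Pretriangulated.isomorphic_distinguished _ hT _
    (Pretriangulated.Triangle.isoMk _ _ τ τ (Iso.refl _) ?_ ?_ ?_)
  · exact compat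
  · exact (Category.comp_id _).trans compat2
  · have h3 : (DerivedCategory.triangleOfSESδ hSE ≫
        (shiftFunctor (DerivedCategory A) (1 : ℤ)).map τ.inv) ≫
        (shiftFunctor (DerivedCategory A) (1 : ℤ)).map τ.hom =
        DerivedCategory.triangleOfSESδ hSE := by
      rw [Category.assoc, ← Functor.map_comp, Iso.inv_hom_id, CategoryTheory.Functor.map_id, Category.comp_id]
    exact h3.trans (Category.id_comp _).symm

end Groth.Agent.S0985
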