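import Groth.Statements.S0989
import Mathlib

set_option autoImplicit false
universe w v u
open CategoryTheory CategoryTheory.Limits
open CohDer

namespace Groth.Agent.S0989

/-- Let P be a weak Serre class in an abelian category A: P is closed under isomorphisms, holds for a
zero object, and whenever X₀ → X₁ → X₂ → X₃ → X₄ is exact with P holding for X₀, X₁, X₃, X₄ it holds
for X₂. Then the class of objects of the derived category all of whose cohomology objects satisfy P
is a triangulated subcategory (contains zero, stable under shifts, closed under extensions) which is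
moreover closed under retracts (saturated). -/
theorem result {A : Type u} [Category.{v} A] [Abelian A] [HasDerivedCategory.{w} A]
    (P : ObjectProperty A) [P.IsClosedUnderIsomorphisms] (h0 : ∃ Z : A, IsZero Z ∧ P Z)
    (hP : ∀ S : ComposableArrows A 4, S.Exact → P (S.obj 0) → P (S.obj 1) → P (S.obj 3) → P (S.obj 4) → P (S.obj 2)) :
    ObjectProperty.IsTriangulated (fun X : DerivedCategory A => ∀ n : ℤ, P ((DerivedCategory.homologyFunctor A n).obj X)) ∧
    ObjectProperty.IsStableUnderRetracts (fun X : DerivedCategory A => ∀ n : ℤ, P ((DerivedCategory.homologyFunctor A n).obj X)) := by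
  classical
  have hPzero : ∀ W : A, IsZero W → P W := by
    obtain ⟨Z, hZ, hPZ⟩ := h0
    intro W hW
    exact P.prop_of_iso (hZ.iso hW) hPZ
  obtain ⟨Z0, hZ0⟩ := (HasZeroObject.zero : ∃ X : DerivedCategory A, IsZero X)
  refine ⟨?_, ?_⟩
  · refine
      { toContainsZero := ⟨⟨Z0, hZ0, fun n =>
          hPzero _ (Functor.map_isZero _ hZ0)⟩⟩
        toIsStableUnderShift := ⟨fun a => ⟨fun X hX n => ?_⟩⟩
        toIsTriangulatedClosed₂ := ⟨fun T hT h₁ h₃ =>
          ObjectProperty.le_isoClosure _ _ (fun n => ?_)⟩ }
    · have e := ((DerivedCategory.homologyFunctor A 0).shiftIso a n (a + n) rfl).app X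
      exact P.prop_of_iso e.symm (hX (a + n))
    · let F := DerivedCategory.homologyFunctor A 0
      let S : ComposableArrows A 4 := ComposableArrows.mk₄
        (F.homologySequenceδ T (n - 1) n (by omega))
        ((F.shift n).map T.mor₁) ((F.shift n).map T.mor₂)
        (F.homologySequenceδ T n (n + 1) rfl)
      have hS : S.Exact :=
        ComposableArrows.exact_of_δ₀
          (F.homologySequence_exact₁ T hT (n - 1) n (by omega)).exact_toComposableArrows
          (ComposableArrows.exact_of_δ₀
            (F.homologySequence_exact₂ T hT n).exact_toComposableArrows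
            (F.homologySequence_exact₃ T hT n (n + 1) rfl).exact_toComposableArrows)
      exact hP S hS (h₃ (n - 1)) (h₁ n) (h₃ n) (h₁ (n + 1))
  · refine ⟨fun {X Y} h hY n => ?_⟩
    let r := h.map (DerivedCategory.homologyFunctor A n)
    obtain ⟨Z, hZ, hPZ⟩ := h0
    let S : ComposableArrows A 4 :=
      ComposableArrows.mk₄ (𝟙 _ - r.r ≫ r.i) r.r (0 : _ ⟶ Z) (0 : Z ⟶ Z)
    have w₁ : (𝟙 _ - r.r ≫ r.i) ≫ r.r = 0 := by
      rw [Preadditive.sub_comp, Category.id_comp, Category.assoc, r.retract, Category.comp_id,
        sub_self]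
    have e₁ : (ShortComplex.mk _ _ w₁).Exact := by
      rw [ShortComplex.exact_iff_exact_up_to_refinements]
      intro A₀ x₂ hx₂
      refine ⟨A₀, 𝟙 _, inferInstance, x₂, ?_⟩
      dsimp at hx₂ ⊢
      rw [Category.id_comp, Preadditive.comp_sub, Category.comp_id, ← Category.assoc, hx₂,
        zero_comp, sub_zero]
    have w₂ : r.r ≫ (0 : _ ⟶ Z) = 0 := comp_zero
    haveI : IsSplitEpi r.r := IsSplitEpi.mk' ⟨r.i, r.retract⟩
    have e₂ : (ShortComplex.mk _ _ w₂).Exact := by
      rw [ShortComplex.exact_iff_epi _ rfl]
      dsimp; infer_instance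
    have w₃ : (0 : (DerivedCategory.homologyFunctor A n).obj X ⟶ Z) ≫ (0 : Z ⟶ Z) = 0 := comp_zero
    have e₃ : (ShortComplex.mk _ _ w₃).Exact := ShortComplex.exact_of_isZero_X₂ _ hZ
    have hS : S.Exact := ComposableArrows.exact_of_δ₀ e₁.exact_toComposableArrows
      (ComposableArrows.exact_of_δ₀ e₂.exact_toComposableArrows e₃.exact_toComposableArrows)
    exact hP S hS (hY n) (hY n) hPZ hPZ

end Groth.Agent.S0989
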