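import Groth.Statements.S0992
import Mathlib

set_option autoImplicit false
universe w
open CategoryTheory CategoryTheory.Limits Opposite
open CohDer

namespace Groth.Agent.S0992

section helpers

variable {I : Type w} [LinearOrder I] (K : Iᵒᵖ ⥤ CochainComplex AddCommGrpCat.{w} ℤ)

abbrev XX (β : I) (m : ℤ) : Type w := ((K.obj (op β)).X m : AddCommGrpCat.{w})

def rr {γ β : I} (h : γ ≤ β) (m : ℤ) : XX K β m →+ XX K γ m :=
  ((K.map (homOfLE h).op).f m).hom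

def dd (β : I) (i j : ℤ) : XX K β i →+ XX K β j := ((K.obj (op β)).d i j).hom

lemma rr_refl (β : I) (m : ℤ) (x : XX K β m) : rr K (le_refl β) m x = x := by
  have e : K.map (homOfLE (le_refl β)).op = 𝟙 _ := by
    rw [← K.map_id]; exact congrArg K.map (Quiver.Hom.unop_inj (Subsingleton.elim _ _))
  unfold rr
  rw [e]
  rfl

lemma rr_rr {γ γ' γ'' : I} (h₁ : γ ≤ γ') (h₂ : γ' ≤ γ'') (m : ℤ) (x : XX K γ'' m) :
    rr K h₁ m (rr K h₂ m x) = rr K (h₁.trans h₂) m x := by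
  have e : K.map (homOfLE (h₁.trans h₂)).op =
      K.map (homOfLE h₂).op ≫ K.map (homOfLE h₁).op := by
    rw [← K.map_comp]; exact congrArg K.map (Quiver.Hom.unop_inj (Subsingleton.elim _ _))
  unfold rr
  rw [e]
  rfl

lemma dd_rr {γ β : I} (h : γ ≤ β) (i j : ℤ) (x : XX K β i) :
    dd K γ i j (rr K h i x) = rr K h j (dd K β i j x) :=
  congrArg (fun g => g.hom x) ((K.map (homOfLE h).op).comm i j)

lemma dd_dd (β : I) (i j k : ℤ) (x : XX K β i) : dd K β j k (dd K β i j x) = 0 := by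
  have h := congrArg (fun g => g.hom x) ((K.obj (op β)).d_comp_d i j k)
  exact h

lemma dd_shape (β : I) (i j : ℤ) (h : i + 1 ≠ j) (x : XX K β i) : dd K β i j x = 0 := by
  unfold dd
  rw [(K.obj (op β)).shape i j h]
  rfl

lemma exact_elem (β : I) (hac : ∀ n, (K.obj (op β)).ExactAt n) (i j : ℤ) (hij : i + 1 = j)
    (x : XX K β j) (hx : ∀ k, dd K β j k x = 0) : ∃ y : XX K β i, dd K β i j y = x := by
  subst hij
  have h := hac (i + 1)
  rw [(K.obj (op β)).exactAt_iff' i (i + 1) (i + 1 + 1) (by simp) (by simp),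
    ShortComplex.ab_exact_iff] at h
  exact h x (hx (i + 1 + 1))

/-- compatibility of a family indexed by a subset -/
def Compat (S : Set I) (m : ℤ) (x : ∀ γ : S, XX K γ.1 m) : Prop :=
  ∀ (γ γ' : S) (h : γ.1 ≤ γ'.1), rr K h m (x γ') = x γ

def GG (S : Set I) : Prop :=
  ∀ (i j : ℤ), i + 1 = j → ∀ z : (∀ γ : S, XX K γ.1 j), Compat K S j z →
    (∀ γ k, dd K γ.1 j k (z γ) = 0) →
    ∃ y : (∀ γ : S, XX K γ.1 i), Compat K S i y ∧ ∀ γ, dd K γ.1 i j (y γ) = z γ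

lemma ext_step
    (hsurj : ∀ (β : I) (m : ℤ) (x : ∀ γ : Set.Iio β, XX K γ.1 m), Compat K (Set.Iio β) m x →
      ∃ y : XX K β m, ∀ γ : Set.Iio β, rr K (le_of_lt γ.2) m y = x γ)
    (hac : ∀ (β : I) (n : ℤ), (K.obj (op β)).ExactAt n)
    (β : I) (hG : GG K (Set.Iio β)) (i j : ℤ) (hij : i + 1 = j)
    (zβ : XX K β j) (hz : ∀ k, dd K β j k zβ = 0)
    (prev : ∀ γ : Set.Iio β, XX K γ.1 i) (hprev : Compat K (Set.Iio β) i prev)
    (hd : ∀ γ : Set.Iio β, dd K γ.1 i j (prev γ) = rr K (le_of_lt γ.2) j zβ) :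
    ∃ y : XX K β i, dd K β i j y = zβ ∧ ∀ γ : Set.Iio β, rr K (le_of_lt γ.2) i y = prev γ := by
  obtain ⟨y0, hy0⟩ := hsurj β i prev hprev
  obtain ⟨c, hc⟩ : ∃ c, c = zβ - dd K β i j y0 := ⟨_, rfl⟩
  have hc1 : ∀ k, dd K β j k c = 0 := by
    intro k; rw [hc, map_sub, hz k, dd_dd, sub_zero]
  have hc2 : ∀ γ : Set.Iio β, rr K (le_of_lt γ.2) j c = 0 := by
    intro γ; rw [hc, map_sub, ← dd_rr, hy0 γ, hd γ, sub_self]
  obtain ⟨u, hu⟩ := exact_elem K β (hac β) i j hij c hc1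
  have huu : Compat K (Set.Iio β) i (fun γ => rr K (le_of_lt γ.2) i u) :=
    fun γ γ' h => rr_rr K h (le_of_lt γ'.2) i u
  have huc : ∀ (γ : Set.Iio β) k, dd K γ.1 i k (rr K (le_of_lt γ.2) i u) = 0 := by
    intro γ k
    by_cases hk : i + 1 = k
    · have hkj : k = j := hk.symm.trans hij
      rw [hkj, dd_rr, hu, hc2 γ]
    · exact dd_shape K γ.1 i k hk _
  obtain ⟨t, ht, hdt⟩ := hG (i - 1) i (sub_add_cancel i 1) _ huu huc
  obtain ⟨t0, ht0⟩ := hsurj β (i - 1) t ht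
  refine ⟨y0 + u - dd K β (i - 1) i t0, ?_, ?_⟩
  · rw [map_sub, map_add, dd_dd, sub_zero, hu, hc]; abel
  · intro γ
    rw [map_sub, map_add, hy0 γ, ← dd_rr, ht0 γ, hdt γ]
    abel

lemma GG_of_lower [WellFoundedLT I]
    (hsurj : ∀ (β : I) (m : ℤ) (x : ∀ γ : Set.Iio β, XX K γ.1 m), Compat K (Set.Iio β) m x →
      ∃ y : XX K β m, ∀ γ : Set.Iio β, rr K (le_of_lt γ.2) m y = x γ)
    (hac : ∀ (β : I) (n : ℤ), (K.obj (op β)).ExactAt n)
    (S : Set I) (hS : ∀ β ∈ S, ∀ γ, γ ≤ β → γ ∈ S)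
    (hG : ∀ β ∈ S, GG K (Set.Iio β)) : GG K S := by
  intro i j hij z hz hcyc
  -- the property defining the next value
  let PP : ∀ β : I, (∀ γ, γ < β → XX K γ i) → XX K β i → Prop := fun β prev y =>
    (∀ hβ : β ∈ S, dd K β i j y = z ⟨β, hβ⟩) ∧ ∀ γ (hγ : γ < β), rr K hγ.le i y = prev γ hγ
  have ext : ∀ (β : I) (hβ : β ∈ S) (prev : ∀ γ, γ < β → XX K γ i),
      (∀ γ γ' (hγ : γ < β) (hγ' : γ' < β) (h : γ ≤ γ'), rr K h i (prev γ' hγ') = prev γ hγ) →
      (∀ γ (hγ : γ < β) (hγS : γ ∈ S), dd K γ i j (prev γ hγ) = z ⟨γ, hγS⟩) →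
      ∃ y : XX K β i, PP β prev y := by
    intro β hβ prev h1 h2
    obtain ⟨y, hy1, hy2⟩ := ext_step K hsurj hac β (hG β hβ) i j hij (z ⟨β, hβ⟩)
      (hcyc ⟨β, hβ⟩) (fun γ => prev γ.1 γ.2) (fun γ γ' h => h1 γ.1 γ'.1 γ.2 γ'.2 h)
      (fun γ => by
        rw [h2 γ.1 γ.2 (hS β hβ γ.1 (le_of_lt γ.2))]
        exact (hz ⟨γ.1, hS β hβ γ.1 (le_of_lt γ.2)⟩ ⟨β, hβ⟩ (le_of_lt γ.2)).symm)
    exact ⟨y, fun _ => hy1, fun γ hγ => hy2 ⟨γ, hγ⟩⟩
  let Fn : ∀ β : I, (∀ γ, γ < β → XX K γ i) → XX K β i := fun β prev =>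
    @Classical.epsilon _ ⟨0⟩ (PP β prev)
  let Y : ∀ β : I, XX K β i := WellFoundedLT.fix Fn
  have hY : ∀ β, Y β = Fn β (fun γ _ => Y γ) := fun β => WellFoundedLT.fix_eq Fn β
  have specY : ∀ β, (∃ y : XX K β i, PP β (fun γ _ => Y γ) y) →
      PP β (fun γ _ => Y γ) (Y β) := by
    intro β hex
    rw [hY β]
    exact Classical.epsilon_spec (p := PP β (fun γ _ => Y γ)) hex
  have good : ∀ β, β ∈ S → PP β (fun γ _ => Y γ) (Y β) := by
    intro β
    refine WellFoundedLT.induction (motive := fun β => β ∈ S → PP β (fun γ _ => Y γ) (Y β)) β ?_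
    intro β IH hβ
    apply specY
    apply ext β hβ
    · intro γ γ' hγ hγ' h
      rcases h.lt_or_eq with hlt | heq
      · exact (IH γ' hγ' (hS β hβ γ' hγ'.le)).2 γ hlt
      · subst heq
        exact rr_refl K γ i (Y γ)
    · intro γ hγ hγS
      exact (IH γ hγ hγS).1 hγS
  refine ⟨fun γ => Y γ.1, ?_, ?_⟩
  · intro γ γ' h
    rcases h.lt_or_eq with hlt | heq
    · exact (good γ'.1 γ'.2).2 γ.1 hlt
    · obtain ⟨γ, hγ⟩ := γ
      obtain ⟨γ', hγ'⟩ := γ'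
      simp only at heq
      subst heq
      exact rr_refl K γ i (Y γ)
  · intro γ
    exact (good γ.1 γ.2).1 γ.2

lemma GG_Iio [WellFoundedLT I]
    (hsurj : ∀ (β : I) (m : ℤ) (x : ∀ γ : Set.Iio β, XX K γ.1 m), Compat K (Set.Iio β) m x →
      ∃ y : XX K β m, ∀ γ : Set.Iio β, rr K (le_of_lt γ.2) m y = x γ)
    (hac : ∀ (β : I) (n : ℤ), (K.obj (op β)).ExactAt n) (β : I) : GG K (Set.Iio β) := by
  refine WellFoundedLT.induction (motive := fun β => GG K (Set.Iio β)) β ?_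
  intro β IH
  exact GG_of_lower K hsurj hac (Set.Iio β) (fun β' hβ' γ hγ => lt_of_le_of_lt hγ hβ')
    (fun β' hβ' => IH β' hβ')

lemma limit_elem (m : ℤ) :
    (∀ x x' : ((limit K).X m : AddCommGrpCat.{w}),
      (∀ β : I, ((limit.π K (op β)).f m).hom x = ((limit.π K (op β)).f m).hom x') → x = x') ∧
    (∀ y : (∀ β : I, XX K β m), (∀ γ γ' (h : γ ≤ γ'), rr K h m (y γ') = y γ) →
      ∃ x : ((limit K).X m : AddCommGrpCat.{w}),
        ∀ β, ((limit.π K (op β)).f m).hom x = y β) := by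
  let Φ := HomologicalComplex.eval AddCommGrpCat.{w} (ComplexShape.up ℤ) m ⋙
    forget AddCommGrpCat.{w}
  have hlim : IsLimit (Φ.mapCone (limit.cone K)) := isLimitOfPreserves Φ (limit.isLimit K)
  constructor
  · intro x x' h
    apply (Types.isLimitEquivSections hlim).injective
    apply Subtype.ext
    funext j
    exact h j.unop
  · intro y hy
    have hsec : (fun j : Iᵒᵖ => (y j.unop : (K ⋙ Φ).obj j)) ∈ (K ⋙ Φ).sections := by
      intro j j' f
      have e : f = (homOfLE (leOfHom f.unop)).op := Quiver.Hom.unop_inj (Subsingleton.elim _ _)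
      rw [e]
      exact hy j'.unop j.unop (leOfHom f.unop)
    refine ⟨(Types.isLimitEquivSections hlim).symm ⟨_, hsec⟩, fun β => ?_⟩
    exact Types.isLimitEquivSections_symm_apply hlim ⟨_, hsec⟩ (op β)

end helpers

/-- Let I be a well-ordered type and K : Iᵒᵖ ⥤ CochainComplex Ab an inverse system of acyclic complexes
of abelian groups such that for every β and every degree n, each family of elements of the Kⁿ_γ (γ <
β) compatible under the transition maps lifts to an element of Kⁿ_β (i.e. Kⁿ_β → lim_{γ<β} Kⁿ_γ is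
surjective). Then the limit complex lim K is acyclic. -/
theorem result {I : Type w} [LinearOrder I] [WellFoundedLT I]
    (K : Iᵒᵖ ⥤ CochainComplex AddCommGrpCat.{w} ℤ)
    (hac : ∀ (β : I) (n : ℤ), (K.obj (op β)).ExactAt n)
    (hsurj : ∀ (β : I) (n : ℤ) (x : ∀ γ : {γ : I // γ < β}, (K.obj (op γ.1)).X n),
      (∀ (γ γ' : {γ : I // γ < β}) (h : γ.1 ≤ γ'.1), ((K.map (homOfLE h).op).f n).hom (x γ') = x γ) →
      ∃ y : (K.obj (op β)).X n, ∀ γ : {γ : I // γ < β}, ((K.map (homOfLE γ.2.le).op).f n).hom y = x γ)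
    (n : ℤ) : (limit K).ExactAt n := by
  have hsurj' : ∀ (β : I) (m : ℤ) (x : ∀ γ : Set.Iio β, XX K γ.1 m), Compat K (Set.Iio β) m x →
      ∃ y : XX K β m, ∀ γ : Set.Iio β, rr K (le_of_lt γ.2) m y = x γ :=
    fun β m x hx => hsurj β m x hx
  have hGuniv : GG K Set.univ :=
    GG_of_lower K hsurj' hac Set.univ (fun _ _ _ _ => Set.mem_univ _)
      (fun β _ => GG_Iio K hsurj' hac β)
  rw [(limit K).exactAt_iff' (n - 1) n (n + 1) (by simp) (by simp), ShortComplex.ab_exact_iff]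
  intro x hx
  -- projections
  have hpd : ∀ (β : I) (j k : ℤ) (v : ((limit K).X j : AddCommGrpCat.{w})),
      dd K β j k (((limit.π K (op β)).f j).hom v) =
        ((limit.π K (op β)).f k).hom (((limit K).d j k).hom v) :=
    fun β j k v => congrArg (fun g => g.hom v) ((limit.π K (op β)).comm j k)
  have hpr : ∀ (γ γ' : I) (h : γ ≤ γ') (m : ℤ) (v : ((limit K).X m : AddCommGrpCat.{w})),
      rr K h m (((limit.π K (op γ')).f m).hom v) = ((limit.π K (op γ)).f m).hom v :=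
    fun γ γ' h m v => congrArg (fun g => (g.f m).hom v) (limit.w K (homOfLE h).op)
  have hdx : ∀ k, ((limit K).d n k).hom x = 0 := by
    intro k
    by_cases hk : n + 1 = k
    · subst hk
      exact hx
    · rw [(limit K).shape n k hk]
      rfl
  obtain ⟨y, hy, hdy⟩ := hGuniv (n - 1) n (sub_add_cancel n 1)
    (fun γ => ((limit.π K (op γ.1)).f n).hom x)
    (fun γ γ' h => hpr γ.1 γ'.1 h n x)
    (fun γ k => by rw [hpd, hdx k, map_zero])
  obtain ⟨w', hw'⟩ := (limit_elem K (n - 1)).2 (fun β => y ⟨β, Set.mem_univ β⟩)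
    (fun γ γ' h => hy ⟨γ, Set.mem_univ γ⟩ ⟨γ', Set.mem_univ γ'⟩ h)
  refine ⟨w', ?_⟩
  apply (limit_elem K n).1
  intro β
  show ((limit.π K (op β)).f n).hom (((limit K).d (n - 1) n).hom w') = _
  rw [← hpd, hw' β]
  exact hdy ⟨β, Set.mem_univ β⟩

end Groth.Agent.S0992
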