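import Groth.Statements.S10025
import Mathlib
import Groth.Agent.H26.RelLim2
set_option linter.style.haveILetI false

set_option autoImplicit false
universe u
open CategoryTheory CategoryTheory.Limits AlgebraicGeometry
open AlgSp

namespace Groth.Agent.S10025

section Aux
open Opposite H26RL

namespace H26RL25

variable {S : Scheme.{u}} {F G H : AlgSp.PSp S}

noncomputable abbrev EE (T : Over S) {I : Type u} [SmallCategory I] (D : I ⥤ Over T.left) (i : I) :
    Over i ⥤ Over S :=
  Over.forget i ⋙ (D ⋙ Over.map T.hom)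

noncomputable abbrev ee (T : Over S) {I : Type u} [SmallCategory I] (D : I ⥤ Over T.left) (c : Cone D)
    (i : I) : Cone (EE T D i) :=
  ((Over.map T.hom).mapCone c).whisker (Over.forget i)

noncomputable def eeIsLimit (T : Over S) {I : Type u} [SmallCategory I] [IsCofiltered I]
    (D : I ⥤ Over T.left) (c : Cone D) (i : I) (hc : IsLimit ((Over.forget T.left).mapCone c)) :
    IsLimit ((Over.forget S).mapCone (ee T D c i)) :=
  (Functor.Initial.isLimitWhiskerEquiv (Over.forget i) ((Over.forget T.left).mapCone c)).symm hc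

theorem main (a : F ⟶ G) (b : G ⟶ H) (ha : IsRelLimitPreserving a) (hb : IsRelLimitPreserving b) :
    IsRelLimitPreserving (a ≫ b) := by
  intro T z I _ _ D c hc hD hT
  have Hb := hb T z D c hc hD hT
  apply mk
  · intro x
    have hx2 : b.app _ (a.app _ x.1) = H.map (overHom T c.pt).op z := x.2
    let y0 : (fiberFun b T z).obj (op c.pt) := ⟨a.app _ x.1, hx2⟩
    obtain ⟨i, yi, hyi⟩ := surj b T z D c Hb y0
    have hyi1 : G.map ((Over.map T.hom).map (c.π.app i)).op yi.1 = a.app _ x.1 := congrArg Subtype.val hyi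
    have hyi2 : b.app _ yi.1 = H.map (overHom T (D.obj i)).op z := yi.2
    obtain ⟨jf, xj, hxj1, hxj2⟩ := term_surj a (EE T D i) (ee T D c i) Over.mkIdTerminal ha
      (eeIsLimit T D c i hc) (fun j => hD j.left) hT yi.1 x.1 hyi1.symm
    have hxj1' : a.app _ xj =
        G.map ((Over.map T.hom).map (D.map (Over.mkIdTerminal.from jf).left)).op yi.1 := hxj1
    have hxj2' : F.map ((Over.map T.hom).map (c.π.app jf.left)).op xj = x.1 := hxj2
    refine ⟨jf.left, ⟨xj, ?_⟩, Subtype.ext hxj2'⟩
    change b.app _ (a.app _ xj) = H.map (overHom T (D.obj jf.left)).op z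
    have hnat := NatTrans.naturality_apply b
      ((Over.map T.hom).map (D.map (Over.mkIdTerminal.from jf).left)).op yi.1
    have h3 : b.app _ (a.app _ xj) =
        H.map ((Over.map T.hom).map (D.map (Over.mkIdTerminal.from jf).left)).op (b.app _ yi.1) :=
      (congrArg (fun w => b.app _ w) hxj1').trans hnat
    exact h3.trans ((congrArg (fun w => H.map
      ((Over.map T.hom).map (D.map (Over.mkIdTerminal.from jf).left)).op w) hyi2).trans
      (res_res T z (D.map (Over.mkIdTerminal.from jf).left)))
  · intro i x x' hx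
    have hx1 : F.map ((Over.map T.hom).map (c.π.app i)).op x.1 =
        F.map ((Over.map T.hom).map (c.π.app i)).op x'.1 := congrArg Subtype.val hx
    have hx2 : b.app _ (a.app _ x.1) = H.map (overHom T (D.obj i)).op z := x.2
    have hx2' : b.app _ (a.app _ x'.1) = H.map (overHom T (D.obj i)).op z := x'.2
    let g1 : (fiberFun b T z).obj (op (D.obj i)) := ⟨a.app _ x.1, hx2⟩
    let g2 : (fiberFun b T z).obj (op (D.obj i)) := ⟨a.app _ x'.1, hx2'⟩
    have hg : (fiberFun b T z).map (c.π.app i).op g1 = (fiberFun b T z).map (c.π.app i).op g2 := by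
      apply Subtype.ext
      change G.map ((Over.map T.hom).map (c.π.app i)).op (a.app _ x.1) =
        G.map ((Over.map T.hom).map (c.π.app i)).op (a.app _ x'.1)
      rw [← NatTrans.naturality_apply, ← NatTrans.naturality_apply, hx1]
    obtain ⟨j, f, hf⟩ := inj b T z D c Hb i g1 g2 hg
    have hf1 : G.map ((Over.map T.hom).map (D.map f)).op (a.app _ x.1) =
        G.map ((Over.map T.hom).map (D.map f)).op (a.app _ x'.1) := congrArg Subtype.val hf
    obtain ⟨xj, hxj⟩ : ∃ w, w = F.map ((Over.map T.hom).map (D.map f)).op x.1 := ⟨_, rfl⟩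
    obtain ⟨xj', hxj'⟩ : ∃ w, w = F.map ((Over.map T.hom).map (D.map f)).op x'.1 := ⟨_, rfl⟩
    have haj : a.app _ xj' = a.app _ xj := by
      rw [hxj, hxj', NatTrans.naturality_apply, NatTrans.naturality_apply, hf1]
    have hid : ∀ w : G.obj (op ((Over.map T.hom).obj (D.obj j))),
        G.map ((EE T D j).map (Over.mkIdTerminal.from (Over.mk (𝟙 j)))).op w = w := by
      intro w
      rw [Over.mkIdTerminal.hom_ext (Over.mkIdTerminal.from (Over.mk (𝟙 j))) (𝟙 _), (EE T D j).map_id, op_id]
      exact FunctorToTypes.map_id_apply G w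
    have hres : F.map ((Over.map T.hom).map (c.π.app j)).op xj =
        F.map ((Over.map T.hom).map (c.π.app j)).op xj' := by
      rw [hxj, hxj', ← Functor.map_comp_apply, ← Functor.map_comp_apply, ← op_comp, ← Functor.map_comp,
        c.w f, hx1]
    obtain ⟨kf, g, hg'⟩ := term_inj a (EE T D j) (ee T D c j) Over.mkIdTerminal ha
      (eeIsLimit T D c j hc) (fun k => hD k.left) hT (a.app _ xj) (Over.mk (𝟙 j)) xj xj'
      (hid _).symm (haj.trans (hid _).symm) hres
    have hg'' : F.map ((Over.map T.hom).map (D.map g.left)).op xj =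
        F.map ((Over.map T.hom).map (D.map g.left)).op xj' := hg'
    refine ⟨kf.left, g.left ≫ f, Subtype.ext ?_⟩
    change F.map ((Over.map T.hom).map (D.map (g.left ≫ f))).op x.1 =
      F.map ((Over.map T.hom).map (D.map (g.left ≫ f))).op x'.1
    rw [D.map_comp, Functor.map_comp, op_comp, Functor.map_comp_apply, Functor.map_comp_apply, ← hxj,
      ← hxj', hg'']

end H26RL25

end Aux

/-- The composite of two relatively limit preserving transformations of presheaves of sets on schemes
over `S` is relatively limit preserving. -/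
theorem result (S : Scheme.{u}) {F G H : AlgSp.PSp S} (a : F ⟶ G) (b : G ⟶ H)
    (ha : AlgSp.IsRelLimitPreserving a) (hb : AlgSp.IsRelLimitPreserving b) :
    AlgSp.IsRelLimitPreserving (a ≫ b) := by
  exact H26RL25.main a b ha hb

end Groth.Agent.S10025
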