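import Groth.Statements.S10026
import Mathlib
import Groth.Agent.H26.RelLim
set_option linter.style.haveILetI false

set_option autoImplicit false
universe u
open CategoryTheory CategoryTheory.Limits AlgebraicGeometry
open AlgSp

namespace Groth.Agent.S10026

section Aux
open Opposite H26RL

namespace H26RL26

theorem main {S : Scheme.{u}} {F G H : AlgSp.PSp S} (a : F ⟶ G) (b : G ⟶ H)
    (hab : AlgSp.IsRelLimitPreserving (a ≫ b)) (hb : AlgSp.IsRelLimitPreserving b) :
    AlgSp.IsRelLimitPreserving a := by
  intro T y I _ _ D c hc hD hT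
  let z : H.obj (op T) := b.app _ y
  have Hab := hab T z D c hc hD hT
  have Hb := hb T z D c hc hD hT
  have key : ∀ (T' : Over T.left) (x : F.obj (op ((Over.map T.hom).obj T'))),
      a.app _ x = G.map (overHom T T').op y → (a ≫ b).app _ x = H.map (overHom T T').op z := by
    intro T' x hx
    change b.app _ (a.app _ x) = _
    rw [hx, NatTrans.naturality_apply]
  have keyb : ∀ (T' : Over T.left), b.app _ (G.map (overHom T T').op y) = H.map (overHom T T').op z := by
    intro T'
    exact NatTrans.naturality_apply b _ y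
  apply mk
  · intro x
    obtain ⟨i, xi, hxi⟩ := surj (a ≫ b) T z D c Hab ⟨x.1, key _ x.1 x.2⟩
    have hxi1 : F.map ((Over.map T.hom).map (c.π.app i)).op xi.1 = x.1 := congrArg Subtype.val hxi
    have hxi2 : b.app _ (a.app _ xi.1) = H.map (overHom T (D.obj i)).op z := xi.2
    let g1 : (fiberFun b T z).obj (op (D.obj i)) := ⟨a.app _ xi.1, hxi2⟩
    let g2 : (fiberFun b T z).obj (op (D.obj i)) := ⟨G.map (overHom T (D.obj i)).op y, keyb _⟩
    have hg : (fiberFun b T z).map (c.π.app i).op g1 = (fiberFun b T z).map (c.π.app i).op g2 := by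
      apply Subtype.ext
      change G.map ((Over.map T.hom).map (c.π.app i)).op (a.app _ xi.1) =
        G.map ((Over.map T.hom).map (c.π.app i)).op (G.map (overHom T (D.obj i)).op y)
      rw [← NatTrans.naturality_apply, hxi1, res_res]
      exact x.2
    obtain ⟨j, f, hf⟩ := inj b T z D c Hb i g1 g2 hg
    have hf1 : G.map ((Over.map T.hom).map (D.map f)).op (a.app _ xi.1) =
        G.map ((Over.map T.hom).map (D.map f)).op (G.map (overHom T (D.obj i)).op y) :=
      congrArg Subtype.val hf
    refine ⟨j, ⟨F.map ((Over.map T.hom).map (D.map f)).op xi.1, ?_⟩, ?_⟩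
    · change a.app _ (F.map ((Over.map T.hom).map (D.map f)).op xi.1) = G.map (overHom T (D.obj j)).op y
      rw [NatTrans.naturality_apply, hf1, res_res]
    · apply Subtype.ext
      change F.map ((Over.map T.hom).map (c.π.app j)).op (F.map ((Over.map T.hom).map (D.map f)).op xi.1) = x.1
      rw [← Functor.map_comp_apply, ← op_comp, ← Functor.map_comp, c.w f, hxi1]
  · intro i x x' hx
    have hx1 : F.map ((Over.map T.hom).map (c.π.app i)).op x.1 =
        F.map ((Over.map T.hom).map (c.π.app i)).op x'.1 := congrArg Subtype.val hx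
    obtain ⟨j, f, hf⟩ := inj (a ≫ b) T z D c Hab i ⟨x.1, key _ x.1 x.2⟩ ⟨x'.1, key _ x'.1 x'.2⟩
      (Subtype.ext hx1)
    have hf1 : F.map ((Over.map T.hom).map (D.map f)).op x.1 =
        F.map ((Over.map T.hom).map (D.map f)).op x'.1 := congrArg Subtype.val hf
    exact ⟨j, f, Subtype.ext hf1⟩

end H26RL26
end Aux

/-- Let `a : F ⟶ G`, `b : G ⟶ H` be transformations of presheaves of sets on schemes over `S`. If `a ≫
b` and `b` are relatively limit preserving, then so is `a`. -/
theorem result (S : Scheme.{u}) {F G H : AlgSp.PSp S} (a : F ⟶ G) (b : G ⟶ H)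
    (hab : AlgSp.IsRelLimitPreserving (a ≫ b)) (hb : AlgSp.IsRelLimitPreserving b) :
    AlgSp.IsRelLimitPreserving a := by
  exact H26RL26.main a b hab hb

end Groth.Agent.S10026
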