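import Groth.Statements.S10027
import Mathlib
import Groth.Agent.H26.RelLim
set_option linter.style.haveILetI false

set_option autoImplicit false
universe u
open CategoryTheory CategoryTheory.Limits AlgebraicGeometry
open AlgSp

namespace Groth.Agent.S10027

section Aux
open Opposite H26RL

namespace H26RL27

theorem main {S : Scheme.{u}} {E F G H P : AlgSp.PSp S}
    (a : F ⟶ G) (b : H ⟶ G) (c : G ⟶ E) (fst : P ⟶ F) (snd : P ⟶ H) (hP : IsPullback fst snd a b)
    (hc : AlgSp.IsRelLimitPreserving c) (hac : AlgSp.IsRelLimitPreserving (a ≫ c))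
    (hbc : AlgSp.IsRelLimitPreserving (b ≫ c)) :
    AlgSp.IsRelLimitPreserving (fst ≫ a ≫ c) := by
  intro T e I _ _ D cn hcn hD hT
  have Hc := hc T e D cn hcn hD hT
  have Hac := hac T e D cn hcn hD hT
  have Hbc := hbc T e D cn hcn hD hT
  have sqU : ∀ U : Over S, IsPullback (fst.app (op U)) (snd.app (op U)) (a.app (op U)) (b.app (op U)) :=
    fun U => hP.map ((evaluation _ _).obj (op U))
  have comm : ∀ (U : Over S) (p : P.obj (op U)), a.app _ (fst.app _ p) = b.app _ (snd.app _ p) := by
    intro U p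
    have := congrArg (fun φ : P ⟶ G => φ.app (op U) p) hP.w
    exact this
  apply mk
  · intro p
    have hx2 : (a ≫ c).app _ (fst.app _ p.1) = E.map (overHom T cn.pt).op e := p.2
    have hh2 : (b ≫ c).app _ (snd.app _ p.1) = E.map (overHom T cn.pt).op e := by
      change c.app _ (b.app _ (snd.app _ p.1)) = _
      rw [← comm]
      exact p.2
    obtain ⟨i₁, x₁, hx₁⟩ := surj (a ≫ c) T e D cn Hac ⟨fst.app _ p.1, hx2⟩
    obtain ⟨i₂, h₂, hh₂⟩ := surj (b ≫ c) T e D cn Hbc ⟨snd.app _ p.1, hh2⟩
    let i := IsCofiltered.min i₁ i₂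
    let f₁ : i ⟶ i₁ := IsCofiltered.minToLeft i₁ i₂
    let f₂ : i ⟶ i₂ := IsCofiltered.minToRight i₁ i₂
    obtain ⟨xi, hxi⟩ : ∃ xi : F.obj (op ((Over.map T.hom).obj (D.obj i))),
        xi = F.map ((Over.map T.hom).map (D.map f₁)).op x₁.1 := ⟨_, rfl⟩
    obtain ⟨hi, hhi⟩ : ∃ hi : H.obj (op ((Over.map T.hom).obj (D.obj i))),
        hi = H.map ((Over.map T.hom).map (D.map f₂)).op h₂.1 := ⟨_, rfl⟩
    have hxi_lim : F.map ((Over.map T.hom).map (cn.π.app i)).op xi = fst.app _ p.1 := by
      have h0 : F.map ((Over.map T.hom).map (cn.π.app i₁)).op x₁.1 = fst.app _ p.1 :=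
        congrArg Subtype.val hx₁
      rw [hxi, ← Functor.map_comp_apply, ← op_comp, ← Functor.map_comp, cn.w f₁, h0]
    have hhi_lim : H.map ((Over.map T.hom).map (cn.π.app i)).op hi = snd.app _ p.1 := by
      have h0 : H.map ((Over.map T.hom).map (cn.π.app i₂)).op h₂.1 = snd.app _ p.1 :=
        congrArg Subtype.val hh₂
      rw [hhi, ← Functor.map_comp_apply, ← op_comp, ← Functor.map_comp, cn.w f₂, h0]
    have hxi_e : c.app _ (a.app _ xi) = E.map (overHom T (D.obj i)).op e := by
      have h0 : c.app _ (a.app _ x₁.1) = E.map (overHom T (D.obj i₁)).op e := x₁.2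
      rw [hxi, NatTrans.naturality_apply, NatTrans.naturality_apply, h0, res_res]
    have hhi_e : c.app _ (b.app _ hi) = E.map (overHom T (D.obj i)).op e := by
      have h0 : c.app _ (b.app _ h₂.1) = E.map (overHom T (D.obj i₂)).op e := h₂.2
      rw [hhi, NatTrans.naturality_apply, NatTrans.naturality_apply, h0, res_res]
    let g1 : (fiberFun c T e).obj (op (D.obj i)) := ⟨a.app _ xi, hxi_e⟩
    let g2 : (fiberFun c T e).obj (op (D.obj i)) := ⟨b.app _ hi, hhi_e⟩
    have hg : (fiberFun c T e).map (cn.π.app i).op g1 = (fiberFun c T e).map (cn.π.app i).op g2 := by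
      apply Subtype.ext
      change G.map ((Over.map T.hom).map (cn.π.app i)).op (a.app _ xi) =
        G.map ((Over.map T.hom).map (cn.π.app i)).op (b.app _ hi)
      rw [← NatTrans.naturality_apply, ← NatTrans.naturality_apply, hxi_lim, hhi_lim]
      exact comm _ p.1
    obtain ⟨j, f, hf⟩ := inj c T e D cn Hc i g1 g2 hg
    have hf1 : G.map ((Over.map T.hom).map (D.map f)).op (a.app _ xi) =
        G.map ((Over.map T.hom).map (D.map f)).op (b.app _ hi) := congrArg Subtype.val hf
    have hab_j : a.app _ (F.map ((Over.map T.hom).map (D.map f)).op xi) =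
        b.app _ (H.map ((Over.map T.hom).map (D.map f)).op hi) := by
      rw [NatTrans.naturality_apply, NatTrans.naturality_apply, hf1]
    obtain ⟨pj, hpj1, hpj2⟩ :=
      Limits.Types.exists_of_isPullback (sqU ((Over.map T.hom).obj (D.obj j))) _ _ hab_j
    refine ⟨j, ⟨pj, ?_⟩, ?_⟩
    · change c.app _ (a.app _ (fst.app _ pj)) = E.map (overHom T (D.obj j)).op e
      rw [hpj1, NatTrans.naturality_apply, NatTrans.naturality_apply, hxi_e, res_res]
    · apply Subtype.ext
      change P.map ((Over.map T.hom).map (cn.π.app j)).op pj = p.1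
      apply Limits.Types.ext_of_isPullback (sqU _)
      · rw [NatTrans.naturality_apply, hpj1, ← Functor.map_comp_apply, ← op_comp, ← Functor.map_comp,
          cn.w f, hxi_lim]
        rfl
      · rw [NatTrans.naturality_apply, hpj2, ← Functor.map_comp_apply, ← op_comp, ← Functor.map_comp,
          cn.w f, hhi_lim]
        rfl
  · intro i p p' hp
    have hp1 : P.map ((Over.map T.hom).map (cn.π.app i)).op p.1 =
        P.map ((Over.map T.hom).map (cn.π.app i)).op p'.1 := congrArg Subtype.val hp
    have e2 : ∀ r : (fiberFun (fst ≫ a ≫ c) T e).obj (op (D.obj i)),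
        (a ≫ c).app _ (fst.app _ r.1) = E.map (overHom T (D.obj i)).op e := fun r => r.2
    have e3 : ∀ r : (fiberFun (fst ≫ a ≫ c) T e).obj (op (D.obj i)),
        c.app _ (b.app _ (snd.app _ r.1)) = E.map (overHom T (D.obj i)).op e := by
      intro r
      rw [← comm]
      exact r.2
    obtain ⟨j₁, f₁, hf₁⟩ := inj (a ≫ c) T e D cn Hac i ⟨fst.app _ p.1, e2 p⟩ ⟨fst.app _ p'.1, e2 p'⟩
      (Subtype.ext (by
        change F.map ((Over.map T.hom).map (cn.π.app i)).op (fst.app _ p.1) =
          F.map ((Over.map T.hom).map (cn.π.app i)).op (fst.app _ p'.1)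
        rw [← NatTrans.naturality_apply, ← NatTrans.naturality_apply, hp1]))
    have hf₁' : F.map ((Over.map T.hom).map (D.map f₁)).op (fst.app _ p.1) =
        F.map ((Over.map T.hom).map (D.map f₁)).op (fst.app _ p'.1) := congrArg Subtype.val hf₁
    have e3' : ∀ r : (fiberFun (fst ≫ a ≫ c) T e).obj (op (D.obj i)),
        (b ≫ c).app _ (H.map ((Over.map T.hom).map (D.map f₁)).op (snd.app _ r.1)) =
          E.map (overHom T (D.obj j₁)).op e := by
      intro r
      change c.app _ (b.app _ (H.map _ (snd.app _ r.1))) = _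
      rw [NatTrans.naturality_apply, NatTrans.naturality_apply, e3 r, res_res]
    obtain ⟨j₂, f₂, hf₂⟩ := inj (b ≫ c) T e D cn Hbc j₁ ⟨_, e3' p⟩ ⟨_, e3' p'⟩
      (Subtype.ext (by
        change H.map ((Over.map T.hom).map (cn.π.app j₁)).op
            (H.map ((Over.map T.hom).map (D.map f₁)).op (snd.app _ p.1)) =
          H.map ((Over.map T.hom).map (cn.π.app j₁)).op
            (H.map ((Over.map T.hom).map (D.map f₁)).op (snd.app _ p'.1))
        rw [← Functor.map_comp_apply, ← Functor.map_comp_apply, ← op_comp, ← Functor.map_comp, cn.w f₁,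
          ← NatTrans.naturality_apply, ← NatTrans.naturality_apply, hp1]))
    have hf₂' : H.map ((Over.map T.hom).map (D.map f₂)).op
          (H.map ((Over.map T.hom).map (D.map f₁)).op (snd.app _ p.1)) =
        H.map ((Over.map T.hom).map (D.map f₂)).op
          (H.map ((Over.map T.hom).map (D.map f₁)).op (snd.app _ p'.1)) := congrArg Subtype.val hf₂
    refine ⟨j₂, f₂ ≫ f₁, Subtype.ext ?_⟩
    change P.map ((Over.map T.hom).map (D.map (f₂ ≫ f₁))).op p.1 =
      P.map ((Over.map T.hom).map (D.map (f₂ ≫ f₁))).op p'.1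
    apply Limits.Types.ext_of_isPullback (sqU _)
    · rw [NatTrans.naturality_apply, NatTrans.naturality_apply, Functor.map_comp, Functor.map_comp,
        op_comp, Functor.map_comp_apply, Functor.map_comp_apply, hf₁']
    · rw [NatTrans.naturality_apply, NatTrans.naturality_apply, Functor.map_comp, Functor.map_comp,
        op_comp, Functor.map_comp_apply, Functor.map_comp_apply, hf₂']

end H26RL27
end Aux

/-- Let `a : F ⟶ G`, `b : H ⟶ G`, `c : G ⟶ E` be transformations of presheaves of sets on schemes over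
`S` and `P` a fibre product `F ×_G H`. If `c`, `a ≫ c` and `b ≫ c` are relatively limit preserving,
then so is `P ⟶ E`. -/
theorem result (S : Scheme.{u}) {E F G H P : AlgSp.PSp S}
    (a : F ⟶ G) (b : H ⟶ G) (c : G ⟶ E) (fst : P ⟶ F) (snd : P ⟶ H) (hP : IsPullback fst snd a b)
    (hc : AlgSp.IsRelLimitPreserving c) (hac : AlgSp.IsRelLimitPreserving (a ≫ c))
    (hbc : AlgSp.IsRelLimitPreserving (b ≫ c)) :
    AlgSp.IsRelLimitPreserving (fst ≫ a ≫ c) := by
  exact H26RL27.main a b c fst snd hP hc hac hbc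

end Groth.Agent.S10027
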