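import Groth.Statements.S10067
import Mathlib
import Groth.Agent.H26.RelLim2
set_option linter.style.haveILetI false

set_option autoImplicit false
universe u
open CategoryTheory CategoryTheory.Limits AlgebraicGeometry
open AlgSp

namespace Groth.Agent.S10067

section Aux
open Opposite H26RL

namespace H26RL67

section Colim

variable {S : Scheme.{u}} (F : AlgSp.PSp S) {G : AlgSp.PSp S} {I : Type u} [SmallCategory I] [IsCofiltered I]
  (D : I ⥤ Over S)

/-- the class of a section in the colimit -/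
noncomputable def cl (i : I) (x : F.obj (op (D.obj i))) : (colimit (D.op ⋙ F) : Type (u + 1)) :=
  colimit.ι (D.op ⋙ F) (op i) x

theorem cl_surj (ξ : (colimit (D.op ⋙ F) : Type (u + 1))) : ∃ i x, cl F D i x = ξ := by
  obtain ⟨j, x, h⟩ := Types.jointly_surjective' ξ
  exact ⟨j.unop, x, h⟩

theorem cl_map {i j : I} (f : j ⟶ i) (x : F.obj (op (D.obj i))) :
    cl F D j (F.map (D.map f).op x) = cl F D i x :=
  ConcreteCategory.congr_hom (colimit.w (D.op ⋙ F) f.op) x

theorem cl_eq_iff {i j : I} (x : F.obj (op (D.obj i))) (x' : F.obj (op (D.obj j))) :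
    cl F D i x = cl F D j x' ↔
      ∃ (k : I) (f : k ⟶ i) (g : k ⟶ j), F.map (D.map f).op x = F.map (D.map g).op x' := by
  refine (Types.FilteredColimit.colimit_eq_iff _).trans ?_
  constructor
  · rintro ⟨k, f, g, h⟩; exact ⟨k.unop, f.unop, g.unop, h⟩
  · rintro ⟨k, f, g, h⟩; exact ⟨op k, f.op, g.op, h⟩

theorem cl_eq_iff' {i : I} (x x' : F.obj (op (D.obj i))) :
    cl F D i x = cl F D i x' ↔ ∃ (k : I) (f : k ⟶ i), F.map (D.map f).op x = F.map (D.map f).op x' := by
  refine (Types.FilteredColimit.isColimit_eq_iff' (colimit.isColimit (D.op ⋙ F)) (i := op i) x x').trans ?_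
  constructor
  · rintro ⟨k, f, h⟩; exact ⟨k.unop, f.unop, h⟩
  · rintro ⟨k, f, h⟩; exact ⟨op k, f.op, h⟩

theorem t_cl (a : F ⟶ G) (i : I) (x : F.obj (op (D.obj i))) :
    colimMap (Functor.whiskerLeft D.op a) (cl F D i x) = cl G D i (a.app (op (D.obj i)) x) :=
  ConcreteCategory.congr_hom (ι_colimMap (Functor.whiskerLeft D.op a) (op i)) x

theorem l_cl (c : Cone D) (i : I) (x : F.obj (op (D.obj i))) :
    colimit.desc (D.op ⋙ F) (F.mapCocone c.op) (cl F D i x) = F.map (c.π.app i).op x :=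
  ConcreteCategory.congr_hom (colimit.ι_desc (F.mapCocone c.op) (op i)) x

noncomputable def wlim (c : Cone D) (m : I) (hc : IsLimit ((Over.forget S).mapCone c)) :
    IsLimit ((Over.forget S).mapCone (c.whisker (Over.forget m))) :=
  (Functor.Initial.isLimitWhiskerEquiv (Over.forget m) ((Over.forget S).mapCone c)).symm hc

theorem hid (m : I) (w : G.obj (op (D.obj m))) :
    G.map ((Over.forget m ⋙ D).map (Over.mkIdTerminal.from (Over.mk (𝟙 m)))).op w = w := by
  rw [Over.mkIdTerminal.hom_ext (Over.mkIdTerminal.from (Over.mk (𝟙 m))) (𝟙 _), (Over.forget m ⋙ D).map_id,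
    op_id]
  exact FunctorToTypes.map_id_apply G w

end Colim

variable {S : Scheme.{u}} {F G : AlgSp.PSp S}

theorem fwd (a : F ⟶ G) (ha : IsRelLimitPreserving a) {I : Type u} [SmallCategory I] [IsCofiltered I]
    (D : I ⥤ Over S) (c : Cone D) (hc : IsLimit ((Over.forget S).mapCone c))
    (hD : ∀ i, IsAffine (D.obj i).left) (hT : IsAffine c.pt.left) :
    IsPullback (colimMap (Functor.whiskerLeft D.op a)) (colimit.desc (D.op ⋙ F) (F.mapCocone c.op))
      (colimit.desc (D.op ⋙ G) (G.mapCocone c.op)) (a.app (Opposite.op c.pt)) := by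
  rw [Types.isPullback_iff]
  refine ⟨?_, ?_, ?_⟩
  · apply colimit.hom_ext
    intro j
    rw [ι_colimMap_assoc, colimit.ι_desc, colimit.ι_desc_assoc]
    exact (a.naturality (c.op.ι.app j)).symm
  · rintro ξ ξ' ⟨h1, h2⟩
    obtain ⟨i, x, rfl⟩ := cl_surj F D ξ
    obtain ⟨i', x', rfl⟩ := cl_surj F D ξ'
    obtain ⟨k, f, f', -⟩ : ∃ (k : I) (f : k ⟶ i) (f' : k ⟶ i'), True :=
      ⟨IsCofiltered.min i i', IsCofiltered.minToLeft i i', IsCofiltered.minToRight i i', trivial⟩
    rw [← cl_map F D f x, ← cl_map F D f' x'] at h1 h2 ⊢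
    obtain ⟨xk, hxk⟩ : ∃ w, w = F.map (D.map f).op x := ⟨_, rfl⟩
    obtain ⟨xk', hxk'⟩ : ∃ w, w = F.map (D.map f').op x' := ⟨_, rfl⟩
    rw [← hxk, ← hxk'] at h1 h2 ⊢
    rw [t_cl, t_cl] at h1
    rw [l_cl, l_cl] at h2
    obtain ⟨m, g, hm⟩ := (cl_eq_iff' G D _ _).mp h1
    obtain ⟨xm, hxm⟩ : ∃ w, w = F.map (D.map g).op xk := ⟨_, rfl⟩
    obtain ⟨xm', hxm'⟩ : ∃ w, w = F.map (D.map g).op xk' := ⟨_, rfl⟩
    have haxm : a.app (op (D.obj m)) xm' = a.app (op (D.obj m)) xm := by
      rw [hxm, hxm', NatTrans.naturality_apply, NatTrans.naturality_apply, hm]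
    have hres : F.map (c.π.app m).op xm = F.map (c.π.app m).op xm' := by
      rw [hxm, hxm', ← Functor.map_comp_apply, ← Functor.map_comp_apply, ← op_comp, c.w g, h2]
    obtain ⟨kf, g2, hg2⟩ := term_inj a (Over.forget m ⋙ D) (c.whisker (Over.forget m)) Over.mkIdTerminal ha
      (wlim D c m hc) (fun k => hD k.left) hT (a.app (op (D.obj m)) xm) (Over.mk (𝟙 m)) xm xm'
      (hid D m _).symm (haxm.trans (hid D m _).symm) hres
    obtain ⟨g3, hg3⟩ : ∃ g3 : kf.left ⟶ m, g3 = g2.left := ⟨_, rfl⟩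
    have hg2' : F.map (D.map g3).op xm = F.map (D.map g3).op xm' := by rw [hg3]; exact hg2
    rw [← cl_map F D g xk, ← cl_map F D g xk', ← hxm, ← hxm', ← cl_map F D g3 xm,
      ← cl_map F D g3 xm', hg2']
  · intro η x hηx
    obtain ⟨i, y, rfl⟩ := cl_surj G D η
    rw [l_cl G D c] at hηx
    obtain ⟨jf, xj, hxj1, hxj2⟩ := term_surj a (Over.forget i ⋙ D) (c.whisker (Over.forget i))
      Over.mkIdTerminal ha (wlim D c i hc) (fun k => hD k.left) hT y x hηx.symm
    obtain ⟨u3, hu3⟩ : ∃ u3 : jf.left ⟶ i, u3 = (Over.mkIdTerminal.from jf).left := ⟨_, rfl⟩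
    obtain ⟨w, hw1, hw2⟩ : ∃ w : F.obj (op (D.obj jf.left)),
        a.app (op (D.obj jf.left)) w = G.map (D.map u3).op y ∧
          F.map (c.π.app jf.left).op w = x := ⟨xj, by rw [hu3]; exact hxj1, hxj2⟩
    refine ⟨cl F D jf.left w, ?_, ?_⟩
    · rw [t_cl, hw1, cl_map]
    · rw [l_cl, hw2]

theorem bwd (a : F ⟶ G)
    (hsq : ∀ ⦃I : Type u⦄ [SmallCategory I] [IsCofiltered I] (D : I ⥤ Over S) (c : Cone D),
      IsLimit ((Over.forget S).mapCone c) → (∀ i, IsAffine (D.obj i).left) → IsAffine c.pt.left →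
        IsPullback (colimMap (Functor.whiskerLeft D.op a)) (colimit.desc (D.op ⋙ F) (F.mapCocone c.op))
          (colimit.desc (D.op ⋙ G) (G.mapCocone c.op)) (a.app (Opposite.op c.pt))) :
    IsRelLimitPreserving a := by
  intro T y I _ _ D c hc hD hT
  have sq := hsq (D ⋙ Over.map T.hom) ((Over.map T.hom).mapCone c) hc hD hT
  rw [Types.isPullback_iff] at sq
  obtain ⟨-, hinj, hex⟩ := sq
  apply mk
  · intro x
    have hx2 : a.app _ x.1 = G.map (overHom T c.pt).op y := x.2
    obtain ⟨i₀⟩ := IsCofiltered.nonempty (C := I)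
    have hr : colimit.desc ((D ⋙ Over.map T.hom).op ⋙ G) (G.mapCocone ((Over.map T.hom).mapCone c).op)
        (cl G (D ⋙ Over.map T.hom) i₀ (G.map (overHom T (D.obj i₀)).op y)) = a.app _ x.1 := by
      rw [l_cl]
      exact (res_res T y (c.π.app i₀)).trans hx2.symm
    obtain ⟨ξ, hξ1, hξ2⟩ := hex _ x.1 hr
    obtain ⟨i, xi, rfl⟩ := cl_surj F _ ξ
    rw [t_cl] at hξ1
    rw [l_cl] at hξ2
    obtain ⟨k, f, g, hk⟩ := (cl_eq_iff G _ _ _).mp hξ1
    refine ⟨k, ⟨F.map ((Over.map T.hom).map (D.map f)).op xi, ?_⟩, Subtype.ext ?_⟩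
    · have hn := NatTrans.naturality_apply a ((Over.map T.hom).map (D.map f)).op xi
      exact hn.trans (hk.trans (res_res T y (D.map g)))
    · change F.map ((Over.map T.hom).map (c.π.app k)).op (F.map ((Over.map T.hom).map (D.map f)).op xi) = x.1
      rw [← Functor.map_comp_apply, ← op_comp, ← Functor.map_comp, c.w f]
      exact hξ2
  · intro i x x' hx
    have hx1 : F.map ((Over.map T.hom).map (c.π.app i)).op x.1 =
        F.map ((Over.map T.hom).map (c.π.app i)).op x'.1 := congrArg Subtype.val hx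
    have h := hinj (cl F (D ⋙ Over.map T.hom) i x.1) (cl F (D ⋙ Over.map T.hom) i x'.1) ⟨?_, ?_⟩
    · obtain ⟨k, f, hk⟩ := (cl_eq_iff' F _ _ _).mp h
      exact ⟨k, f, Subtype.ext hk⟩
    · rw [t_cl, t_cl]
      congr 1
      exact x.2.trans x'.2.symm
    · rw [l_cl, l_cl]
      exact hx1

end H26RL67

end Aux

/-- A transformation `a : F ⟶ G` of presheaves of sets on schemes over `S` is relatively limit
preserving if and only if, for every directed limit `T = lim T_i` of affine schemes over `S` (with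
`T` affine), the square formed by `colim F(T_i) → F(T)`, `colim G(T_i) → G(T)` and the two maps
induced by `a` is cartesian in sets. -/
theorem result (S : Scheme.{u}) {F G : AlgSp.PSp S} (a : F ⟶ G) :
    AlgSp.IsRelLimitPreserving a ↔
      ∀ ⦃I : Type u⦄ [SmallCategory I] [IsCofiltered I] (D : I ⥤ Over S) (c : Cone D),
        IsLimit ((Over.forget S).mapCone c) → (∀ i, IsAffine (D.obj i).left) → IsAffine c.pt.left →
          IsPullback (colimMap (Functor.whiskerLeft D.op a)) (colimit.desc (D.op ⋙ F) (F.mapCocone c.op))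
            (colimit.desc (D.op ⋙ G) (G.mapCocone c.op)) (a.app (Opposite.op c.pt)) := by
  exact ⟨fun ha _ _ _ D c hc hD hT => H26RL67.fwd a ha D c hc hD hT, fun h => H26RL67.bwd a h⟩

end Groth.Agent.S10067
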