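import Groth.Statements.S10096
import Groth.Agent.H25.AlgSp9

set_option autoImplicit false
universe u
open CategoryTheory CategoryTheory.Limits AlgebraicGeometry
open AlgSp

namespace Groth.Agent.S10096

/-- Let `a : F ⟶ G` be a map of fppf sheaves of sets over `S` that is flat, surjective, locally of
finite presentation and representable by algebraic spaces (every base change `h_U ×_G F ⟶ h_U` to a
scheme is such a morphism of algebraic spaces). Then `a` is surjective as a map of sheaves (an
epimorphism of fppf sheaves). -/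
theorem result (S : Scheme.{u}) (F G : AlgSp.Sp S) (a : F ⟶ G)
    (ha : AlgSp.RepBySpWith (AlgSp.IsSurjectiveMor ⊓ AlgSp.LocP @Flat ⊓ AlgSp.LocP @LocallyOfFinitePresentation) a.hom) :
    Epi a := by
  open Groth.Agent.H25.AS in
  rw [repBySpWith_hom_iff] at ha
  have : Sheaf.IsLocallySurjective a := by
    refine ⟨fun {T} s => ?_⟩
    let g : (yon S).obj T ⟶ G := yE.symm s
    have sq := IsPullback.of_hasPullback a g
    obtain ⟨hA, ⟨hsurj, hflat⟩, hlfp⟩ := ha g _ _ sq
    obtain ⟨V, c, hce, hcs⟩ := hA.atlas
    obtain ⟨h, hh⟩ := (yon S).map_surjective (c ≫ pullback.snd a g)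
    have e1 : c ≫ pullback.snd a g = (yon S).map h ≫ 𝟙 _ := by rw [hh, Category.comp_id]
    have i1 : Flat h.left := hflat c (𝟙 _) h hce (repWith_id _ T) e1
    have i2 : LocallyOfFinitePresentation h.left := hlfp c (𝟙 _) h hce (repWith_id _ T) e1
    have i3 : Surjective h.left := by
      refine ⟨fun t => ?_⟩
      obtain ⟨x, hx⟩ := hsurj (Points.ofScheme T t)
      obtain ⟨y, rfl⟩ := isSurjectiveMor_of_repWith c hcs x
      obtain ⟨v, rfl⟩ := exists_ofScheme y
      refine ⟨v, ?_⟩
      apply ofScheme_injective T
      rw [← map_yon_map_ofScheme, hh, Points.map_comp]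
      exact hx
    apply mem_J_of_fppf h
    refine ⟨yE (c ≫ pullback.fst a g), ?_⟩
    have h1 := (J S).uliftYonedaEquiv_comp.{u+1} (c ≫ pullback.fst a g) a
    have h2 := (J S).uliftYonedaEquiv_naturality.{u+1} g h
    have w : (c ≫ pullback.fst a g) ≫ a = (yon S).map h ≫ g := by
      rw [Category.assoc, pullback.condition, ← Category.assoc, hh]
    rw [w] at h1
    have h3 : yE g = s := Equiv.apply_symm_apply _ _
    rw [h3] at h2
    exact h1.symm.trans h2.symm
  infer_instance

end Groth.Agent.S10096
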