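import Groth.Statements.S10113
import Mathlib

set_option autoImplicit false
universe u
open CategoryTheory CategoryTheory.Limits AlgebraicGeometry
open AlgSp

namespace Groth.Agent.S10113

/-- Let `s, t : R ⟶ U` be a pre-relation of algebraic spaces, `M` an algebraic space and `U ⟶ M` a
morphism which coequalizes `s, t`, is a surjection of sheaves, and for which `(t, s) : R ⟶ U ×_M U`
is a surjection of sheaves. Then the induced map `U/R ⟶ M` is an isomorphism: `M` represents the
quotient sheaf. -/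
theorem result (S : Scheme.{u}) (R U M : AlgSp.Sp S)
    (hR : AlgSp.IsAlgSpace R) (hU : AlgSp.IsAlgSpace U) (hM : AlgSp.IsAlgSpace M) (s t : R ⟶ U)
    (q : U ⟶ M) (w : s ≫ q = t ≫ q) [Epi q] [Epi (pullback.lift t s w.symm : R ⟶ pullback q q)] :
    IsIso (AlgSp.quotSpDesc q w) := by
  have : IsRegularEpi q := IsRegularEpiCategory.regularEpiOfEpi q
  have : EffectiveEpi q := inferInstance
  have hfs : pullback.fst q q ≫ AlgSp.quotSpπ s t = pullback.snd q q ≫ AlgSp.quotSpπ s t := by
    rw [← cancel_epi (pullback.lift t s w.symm : R ⟶ pullback q q)]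
    rw [pullback.lift_fst_assoc, pullback.lift_snd_assoc]
    exact (AlgSp.quotSp_condition s t).symm
  have hcond : ∀ {Z : AlgSp.Sp S} (g₁ g₂ : Z ⟶ U), g₁ ≫ q = g₂ ≫ q →
      g₁ ≫ AlgSp.quotSpπ s t = g₂ ≫ AlgSp.quotSpπ s t := by
    intro Z g₁ g₂ h
    have h1 : pullback.lift g₁ g₂ h ≫ pullback.fst q q = g₁ := pullback.lift_fst _ _ _
    have h2 : pullback.lift g₁ g₂ h ≫ pullback.snd q q = g₂ := pullback.lift_snd _ _ _
    rw [← h1, Category.assoc, hfs, ← Category.assoc, h2]
  refine ⟨EffectiveEpi.desc q (AlgSp.quotSpπ s t) hcond, ?_, ?_⟩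
  · apply Cofork.IsColimit.hom_ext (AlgSp.quotSpIsCoequalizer s t)
    simp only [Cofork.π_ofπ]
    rw [AlgSp.quotSpπ_desc_assoc, EffectiveEpi.fac]
    exact (Category.comp_id _).symm
  · rw [← cancel_epi q, ← Category.assoc, EffectiveEpi.fac, AlgSp.quotSpπ_desc, Category.comp_id]

end Groth.Agent.S10113
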