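import Groth.Statements.S10114
import Groth.Agent.H25.PreEqv
open Groth.Agent.H25 Groth.Agent.H25.AS

set_option autoImplicit false
universe u
open CategoryTheory CategoryTheory.Limits AlgebraicGeometry
open AlgSp

namespace Groth.Agent.S10114

/-- Let `s, t : R ⟶ U` be a pre-equivalence relation of algebraic spaces, `g : U' ⟶ U` a morphism of
algebraic spaces and `s', t' : R' ⟶ U'` the restriction of the pre-relation along `g` (so `R' = (U'
× U') ×_{U × U} R`). Then the induced map of quotient sheaves `U'/R' ⟶ U/R` is injective, and it is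
an isomorphism when `g` is a surjection of sheaves. -/
theorem result (S : Scheme.{u}) (R U R' U' : AlgSp.Sp S)
    (hR : AlgSp.IsAlgSpace R) (hU : AlgSp.IsAlgSpace U) (hR' : AlgSp.IsAlgSpace R') (hU' : AlgSp.IsAlgSpace U')
    (s t : R ⟶ U) (hpre : AlgSp.IsPreEqvRelSp s t) (g : U' ⟶ U) (s' t' : R' ⟶ U') (r : R' ⟶ R)
    (hsq : IsPullback (prod.lift t' s') r (prod.map g g) (prod.lift t s))
    (ψ : AlgSp.quotSp s' t' ⟶ AlgSp.quotSp s t) (hψ : AlgSp.quotSpπ s' t' ≫ ψ = g ≫ AlgSp.quotSpπ s t) :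
    Mono ψ ∧ (Epi g → IsIso ψ) := by

  have hlift : ∀ (T : Over S) (x y : (AlgSp.yon S).obj T ⟶ U') (ρ : (AlgSp.yon S).obj T ⟶ R),
      ρ ≫ t = x ≫ g → ρ ≫ s = y ≫ g →
      ∃ ρ' : (AlgSp.yon S).obj T ⟶ R', ρ' ≫ t' = x ∧ ρ' ≫ s' = y := by
    intro T x y ρ h1 h2
    obtain ⟨l, hl1, hl2⟩ := hsq.exists_lift (prod.lift x y) ρ (by
      rw [prod.lift_map, prod.comp_lift, h1, h2])
    refine ⟨l, ?_, ?_⟩
    · have h := congrArg (· ≫ prod.fst) hl1

      have e1 : prod.lift x y ≫ prod.fst = x := prod.lift_fst x y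
      have e2 : prod.lift t' s' ≫ prod.fst = t' := prod.lift_fst t' s'
      rw [Category.assoc, e1, e2] at h
      exact h
    · have h := congrArg (· ≫ prod.snd) hl1

      have e1 : prod.lift x y ≫ prod.snd = y := prod.lift_snd x y
      have e2 : prod.lift t' s' ≫ prod.snd = s' := prod.lift_snd t' s'
      rw [Category.assoc, e1, e2] at h
      exact h
  have hm := mono_quot_of_restrict s t hpre g s' t' hlift ψ hψ
  refine ⟨hm, fun hg => ?_⟩
  have hepi0 := epi_of_isColimit_cofork (AlgSp.quotSpIsCoequalizer s t)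
  have hepi : Epi (AlgSp.quotSpπ s t) := hepi0
  have h1 : Epi (AlgSp.quotSpπ s' t' ≫ ψ) := by
    rw [hψ]
    exact epi_comp _ _
  have h2 : Epi ψ := epi_of_epi (AlgSp.quotSpπ s' t') ψ
  exact isIso_of_mono_of_epi ψ


end Groth.Agent.S10114
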