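import Groth.Statements.S10115
import Groth.Agent.H25.PreEqv
open Groth.Agent.H25 Groth.Agent.H25.AS

set_option autoImplicit false
universe u
open CategoryTheory CategoryTheory.Limits AlgebraicGeometry
open AlgSp AlgSp.GroupoidSp

namespace Groth.Agent.S10115

/-- For a groupoid `(U, R, s, t, c)` in algebraic spaces over `B`, let `(U', R', s', t', c')` be its
restriction along a morphism `g : U' ⟶ U` over `B`. Then `U'/R' ⟶ U/R` is injective; if the
composite `h : U' ×_{g, U, t} R ⟶ R ⟶ U` of the projection with `s` is a surjection of fppf sheaves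
(for instance if `g` is), then it is bijective. -/
theorem result (S : Scheme.{u}) (B : AlgSp.Sp S) (hB : AlgSp.IsAlgSpace B)
    (G G' : AlgSp.GroupoidSp B) (hU : AlgSp.IsAlgSpace G.U) (hR : AlgSp.IsAlgSpace G.R)
    (hU' : AlgSp.IsAlgSpace G'.U) (hR' : AlgSp.IsAlgSpace G'.R) (φ : AlgSp.GroupoidSp.Hom G' G)
    (hφ : φ.IsRestriction) (ψ : G'.quot ⟶ G.quot) (hψ : G'.quotπ ≫ ψ = φ.fU ≫ G.quotπ) :
    Mono ψ ∧ (Epi (pullback.snd φ.fU G.t ≫ G.s) → IsIso ψ) := by

  have hpre : AlgSp.IsPreEqvRelSp G.s G.t := by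
    intro T
    refine ⟨fun a => ?_, fun {a b} hab => ?_, fun {a b c} hab hbc => ?_⟩
    · exact ⟨a ≫ G.e, by rw [Category.assoc, G.e_t, Category.comp_id],
        by rw [Category.assoc, G.e_s, Category.comp_id]⟩
    · obtain ⟨r, h1, h2⟩ := hab
      exact ⟨r ≫ G.i, by rw [Category.assoc, G.i_t, h2], by rw [Category.assoc, G.i_s, h1]⟩
    · obtain ⟨r₁, h1, h2⟩ := hab
      obtain ⟨r₂, h3, h4⟩ := hbc
      have h : r₁ ≫ G.s = r₂ ≫ G.t := h2.trans h3.symm
      exact ⟨pullback.lift r₁ r₂ h ≫ G.c, (G.comp_t r₁ r₂ h).trans h1, (G.comp_s r₁ r₂ h).trans h4⟩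
  have hlift : ∀ (T : Over S) (x y : (AlgSp.yon S).obj T ⟶ G'.U) (ρ : (AlgSp.yon S).obj T ⟶ G.R),
      ρ ≫ G.t = x ≫ φ.fU → ρ ≫ G.s = y ≫ φ.fU →
      ∃ ρ' : (AlgSp.yon S).obj T ⟶ G'.R, ρ' ≫ G'.t = x ∧ ρ' ≫ G'.s = y := by
    intro T x y ρ h1 h2
    have hxy : x ≫ G'.pU = y ≫ G'.pU := by
      rw [← φ.fU_over, ← Category.assoc, ← Category.assoc, ← h1, ← h2, Category.assoc,
        Category.assoc, G.t_over, G.s_over]
    obtain ⟨l, hl1, hl2⟩ := hφ.exists_lift ρ (pullback.lift x y hxy) (by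
      apply pullback.hom_ext
      · rw [Category.assoc, AlgSp.GroupoidSp.j_fst, h1]
        have e0 : φ.prodMap ≫ pullback.fst G.pU G.pU = pullback.fst G'.pU G'.pU ≫ φ.fU :=
          pullback.lift_fst _ _ _
        rw [Category.assoc, e0, ← Category.assoc, pullback.lift_fst]
      · rw [Category.assoc, AlgSp.GroupoidSp.j_snd, h2]
        have e0 : φ.prodMap ≫ pullback.snd G.pU G.pU = pullback.snd G'.pU G'.pU ≫ φ.fU :=
          pullback.lift_snd _ _ _
        rw [Category.assoc, e0, ← Category.assoc, pullback.lift_snd])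
    refine ⟨l, ?_, ?_⟩
    · rw [← AlgSp.GroupoidSp.j_fst, ← Category.assoc, hl2, pullback.lift_fst]
    · rw [← AlgSp.GroupoidSp.j_snd, ← Category.assoc, hl2, pullback.lift_snd]
  have hm : Mono ψ := mono_quot_of_restrict G.s G.t hpre φ.fU G'.s G'.t hlift ψ hψ
  refine ⟨hm, fun hg => ?_⟩
  have hepi0 := epi_of_isColimit_cofork (AlgSp.quotSpIsCoequalizer G.s G.t)
  have hepi : Epi (AlgSp.quotSpπ G.s G.t) := hepi0
  have e : (pullback.snd φ.fU G.t ≫ G.s) ≫ AlgSp.quotSpπ G.s G.t =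
      (pullback.fst φ.fU G.t ≫ G'.quotπ) ≫ ψ := by
    rw [Category.assoc, Category.assoc, hψ, AlgSp.quotSp_condition, ← Category.assoc,
      ← Category.assoc, pullback.condition]
    rfl
  have h0 : Epi ((pullback.snd φ.fU G.t ≫ G.s) ≫ AlgSp.quotSpπ G.s G.t) := epi_comp _ _
  have h1 : Epi ((pullback.fst φ.fU G.t ≫ G'.quotπ) ≫ ψ) := by
    rw [← e]
    exact h0
  have h2 : Epi ψ := epi_of_epi (pullback.fst φ.fU G.t ≫ G'.quotπ) ψ
  exact isIso_of_mono_of_epi ψ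


end Groth.Agent.S10115
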