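import Groth.Statements.S10116
import Groth.Agent.H25.AlgSp112
open Groth.Agent.H25 Groth.Agent.H25.AS
open CategoryTheory.MonoidalCategory CategoryTheory.CartesianMonoidalCategory CategoryTheory.MonObj

set_option autoImplicit false
universe u
open CategoryTheory CategoryTheory.Limits AlgebraicGeometry MonoidalCategory MonObj
open AlgSp

namespace Groth.Agent.S10116

/-- Let `G` be a group algebraic space over an algebraic space `B` with unit `e : B ⟶ G`. Then `G ⟶ B`
is separated if and only if `e` is a closed immersion, quasi-separated if and only if `e` is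
quasi-compact, and if `G ⟶ B` is locally separated then `e` is an immersion. (The published
statement makes the last part an equivalence as well; this row states only that a locally separated
`G ⟶ B` has `e` an immersion.) -/
theorem result (S : Scheme.{u}) (B : AlgSp.Sp S) (hB : AlgSp.IsAlgSpace B)
    (G : Over B) [GrpObj G] (hG : AlgSp.IsAlgSpace G.left) :
    (AlgSp.IsSeparatedMor G.hom ↔ AlgSp.RepWith @IsClosedImmersion (η[G]).left) ∧
      (AlgSp.IsQuasiSeparatedMor G.hom ↔ AlgSp.IsQuasiCompactMor (η[G]).left) ∧
      (AlgSp.IsLocallySeparatedMor G.hom → AlgSp.RepWith @IsImmersion (η[G]).left) := by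
  have hη : (η[G]).left ≫ G.hom = 𝟙 B := Over.w η[G]
  have sqA := isPullback_section_diagonal G.hom (η[G]).left hη
  have sqB := grp_isPullback_diagonal G
  have hrd : AlgSp.Representable (pullback.diagonal G.hom) :=
    representable_diagonal_of_diag hG.diag G.hom
  have hre : AlgSp.Representable (η[G]).left := MorphismProperty.of_isPullback sqA.flip hrd
  refine ⟨⟨fun h => repWith_fst_of_isPullback sqA h, fun h => repWith_fst_of_isPullback sqB h⟩,
    ⟨fun h => isQuasiCompactMor_of_repWith _ (repWith_fst_of_isPullback sqA h),
      fun h => repWith_fst_of_isPullback sqB ((repWith_quasiCompact_iff _ hre).mpr h)⟩,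
    fun h => repWith_fst_of_isPullback sqA h⟩


end Groth.Agent.S10116
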