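import Groth.Statements.S10117
import Mathlib

set_option autoImplicit false
universe u
open CategoryTheory CategoryTheory.Limits AlgebraicGeometry MonoidalCategory MonObj
open AlgSp AlgSp.GAction

namespace Groth.Agent.S10117

section Helpers
open CartesianMonoidalCategory

variable {S : Scheme.{u}}

theorem mono_of_yon {P Q : AlgSp.Sp S} (m : P ⟶ Q)
    (h : ∀ (T : Over S) (u v : (AlgSp.yon S).obj T ⟶ P), u ≫ m = v ≫ m → u = v) : Mono m := by
  have : Mono m.hom := by
    have : ∀ c, Mono (m.hom.app c) := by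
      intro c
      rw [mono_iff_injective]
      intro s t hst
      have h1 := h c.unop ((AlgSp.J S).uliftYonedaEquiv.symm s)
        ((AlgSp.J S).uliftYonedaEquiv.symm t) ?_
      · simpa using congrArg (AlgSp.J S).uliftYonedaEquiv h1
      · apply (AlgSp.J S).uliftYonedaEquiv.injective
        rw [GrothendieckTopology.uliftYonedaEquiv_comp, GrothendieckTopology.uliftYonedaEquiv_comp]
        simpa using hst
    exact NatTrans.mono_of_mono_app m.hom
  exact Sheaf.Hom.mono_of_presheaf_mono _ _ m

variable {B : AlgSp.Sp S} {G X : Over B} [GrpObj G]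

theorem lift_one_act (a : AlgSp.GAction G X) {T : Over B} (x : T ⟶ X) :
    lift (1 : T ⟶ G) x ≫ a.act = x := by
  rw [Hom.one_def, ← lift_whiskerRight_assoc (toUnit T) x η[G], a.one_act, leftUnitor_hom, lift_snd]

theorem lift_mul_act (a : AlgSp.GAction G X) {T : Over B} (g h : T ⟶ G) (x : T ⟶ X) :
    lift (g * h) x ≫ a.act = lift g (lift h x ≫ a.act) ≫ a.act := by
  rw [Hom.mul_def, ← lift_whiskerRight_assoc, a.mul_act, lift_lift_associator_hom_assoc,
    lift_whiskerLeft_assoc]

end Helpers

/-- If a group algebraic space `G` over `B` acts freely on an algebraic space `X` over `B`, then `G ×_B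
X ⟶ X ×_B X`, `(g, x) ↦ (g x, x)`, is a monomorphism. (The published statement is an equivalence;
this row states only the direction from free to monomorphism.) -/
theorem result (S : Scheme.{u}) (B : AlgSp.Sp S) (hB : AlgSp.IsAlgSpace B)
    (G X : Over B) [GrpObj G] (hG : AlgSp.IsAlgSpace G.left) (hX : AlgSp.IsAlgSpace X.left)
    (a : AlgSp.GAction G X) (ha : a.IsFree) :
    Mono (CartesianMonoidalCategory.lift a.act (CartesianMonoidalCategory.snd G X)).left := by
  apply mono_of_yon
  intro T u v huv
  obtain ⟨β, hβ⟩ : ∃ β : (AlgSp.yon S).obj T ⟶ B, β = u ≫ (G ⊗ X).hom := ⟨_, rfl⟩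
  have hv : v ≫ (G ⊗ X).hom = β := by
    have h1 := Over.w (CartesianMonoidalCategory.lift a.act (CartesianMonoidalCategory.snd G X))
    rw [hβ, ← h1, ← Category.assoc, ← huv, Category.assoc]
  obtain ⟨u', hu'⟩ : ∃ u' : Over.mk β ⟶ G ⊗ X, u'.left = u := ⟨Over.homMk u hβ.symm, rfl⟩
  obtain ⟨v', hv'⟩ : ∃ v' : Over.mk β ⟶ G ⊗ X, v'.left = v := ⟨Over.homMk v hv, rfl⟩
  have huv' : u' ≫ CartesianMonoidalCategory.lift a.act (CartesianMonoidalCategory.snd G X) =
      v' ≫ CartesianMonoidalCategory.lift a.act (CartesianMonoidalCategory.snd G X) := by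
    apply Over.OverMorphism.ext
    rw [Over.comp_left, Over.comp_left, hu', hv']
    exact huv
  have hx : u' ≫ CartesianMonoidalCategory.snd G X = v' ≫ CartesianMonoidalCategory.snd G X := by
    have := congrArg (· ≫ CartesianMonoidalCategory.snd X X) huv'
    simpa only [Category.assoc, CartesianMonoidalCategory.lift_snd] using this
  have hact : u' ≫ a.act = v' ≫ a.act := by
    have := congrArg (· ≫ CartesianMonoidalCategory.fst X X) huv'
    simpa only [Category.assoc, CartesianMonoidalCategory.lift_fst] using this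
  obtain ⟨g, hg⟩ : ∃ g, g = u' ≫ CartesianMonoidalCategory.fst G X := ⟨_, rfl⟩
  obtain ⟨g', hg'⟩ : ∃ g', g' = v' ≫ CartesianMonoidalCategory.fst G X := ⟨_, rfl⟩
  obtain ⟨x, hxx⟩ : ∃ x, x = u' ≫ CartesianMonoidalCategory.snd G X := ⟨_, rfl⟩
  have hu : u' = CartesianMonoidalCategory.lift g x := by
    apply CartesianMonoidalCategory.hom_ext
    · rw [CartesianMonoidalCategory.lift_fst, hg]
    · rw [CartesianMonoidalCategory.lift_snd, hxx]
  have hvv : v' = CartesianMonoidalCategory.lift g' x := by
    apply CartesianMonoidalCategory.hom_ext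
    · rw [CartesianMonoidalCategory.lift_fst, hg']
    · rw [CartesianMonoidalCategory.lift_snd, hxx, hx]
  rw [hu, hvv] at hact
  have hfree : CartesianMonoidalCategory.lift (g'⁻¹ * g) x ≫ a.act = x := by
    rw [lift_mul_act, hact, ← lift_mul_act, inv_mul_cancel, lift_one_act]
  have h1 := ha β (g'⁻¹ * g) x hfree
  have h2 : g'⁻¹ * g = 1 := by rw [h1, Hom.one_def]
  have h3 : g = g' := by
    have := congrArg (g' * ·) h2
    simpa only [mul_inv_cancel_left, _root_.mul_one] using this
  have h4 : u' = v' := by rw [hu, hvv, h3]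
  rw [← hu', ← hv', h4]

end Groth.Agent.S10117
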