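import Groth.Statements.S10121
import Groth.Agent.H25.AlgSp1

set_option autoImplicit false
universe u
open CategoryTheory CategoryTheory.Limits AlgebraicGeometry
open AlgSp

namespace Groth.Agent.S10121

/-- For a pre-equivalence relation `s, t : R ⟶ U` of algebraic spaces, the relation on points of `U`
given by `x ∼ y` when some point `r` of `R` has `t(r) = x` and `s(r) = y` is an equivalence relation
on `|U|`. -/
theorem result (S : Scheme.{u}) (R U : AlgSp.Sp S)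
    (hR : AlgSp.IsAlgSpace R) (hU : AlgSp.IsAlgSpace U) (s t : R ⟶ U) (h : AlgSp.IsPreEqvRelSp s t) :
    _root_.Equivalence (fun x y : AlgSp.Points U =>
      ∃ r : AlgSp.Points R, AlgSp.Points.map t r = x ∧ AlgSp.Points.map s r = y) := by
  refine ⟨?_, ?_, ?_⟩
  · intro x
    obtain ⟨K, _, str, m, rfl⟩ := Groth.Agent.H25.AS.exists_fpOf x
    obtain ⟨r, hr1, hr2⟩ := (h (Over.mk str)).refl m
    refine ⟨AlgSp.Points.mk (Groth.Agent.H25.AS.fpOf K str r), ?_, ?_⟩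
    · rw [Groth.Agent.H25.AS.map_fpOf, hr1]
    · rw [Groth.Agent.H25.AS.map_fpOf, hr2]
  · rintro x y ⟨r, rfl, rfl⟩
    obtain ⟨K, _, str, m, rfl⟩ := Groth.Agent.H25.AS.exists_fpOf r
    obtain ⟨r', hr1, hr2⟩ := (h (Over.mk str)).symm ⟨m, rfl, rfl⟩
    refine ⟨AlgSp.Points.mk (Groth.Agent.H25.AS.fpOf K str r'), ?_, ?_⟩
    · rw [Groth.Agent.H25.AS.map_fpOf, Groth.Agent.H25.AS.map_fpOf, hr1]
    · rw [Groth.Agent.H25.AS.map_fpOf, Groth.Agent.H25.AS.map_fpOf, hr2]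
  · rintro x y z ⟨r₁, rfl, rfl⟩ ⟨r₂, h2, rfl⟩
    obtain ⟨K₁, _, str₁, m₁, rfl⟩ := Groth.Agent.H25.AS.exists_fpOf r₁
    obtain ⟨K₂, _, str₂, m₂, rfl⟩ := Groth.Agent.H25.AS.exists_fpOf r₂
    rw [Groth.Agent.H25.AS.map_fpOf, Groth.Agent.H25.AS.map_fpOf,
      Groth.Agent.H25.AS.mk_fpOf_eq_iff] at h2
    obtain ⟨Ω, _, w, b, a, hab⟩ := h2
    have e1 : ∃ r : (AlgSp.yon S).obj (Over.mk w) ⟶ R,
        r ≫ t = ((AlgSp.yon S).map a ≫ m₁) ≫ t ∧ r ≫ s = ((AlgSp.yon S).map a ≫ m₁) ≫ s :=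
      ⟨_, rfl, rfl⟩
    have e2 : ∃ r : (AlgSp.yon S).obj (Over.mk w) ⟶ R,
        r ≫ t = ((AlgSp.yon S).map a ≫ m₁) ≫ s ∧ r ≫ s = ((AlgSp.yon S).map b ≫ m₂) ≫ s := by
      refine ⟨(AlgSp.yon S).map b ≫ m₂, ?_, rfl⟩
      rw [Category.assoc, Category.assoc, hab]
    obtain ⟨r', hr1, hr2⟩ := (h (Over.mk w)).trans e1 e2
    refine ⟨AlgSp.Points.mk (Groth.Agent.H25.AS.fpOf Ω w r'), ?_, ?_⟩
    · rw [Groth.Agent.H25.AS.map_fpOf, Groth.Agent.H25.AS.map_fpOf, hr1]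
      exact Groth.Agent.H25.AS.mk_fpOf_eq _ _ a (by rw [Category.assoc])
    · rw [Groth.Agent.H25.AS.map_fpOf, Groth.Agent.H25.AS.map_fpOf, hr2]
      exact Groth.Agent.H25.AS.mk_fpOf_eq _ _ b (by rw [Category.assoc])

end Groth.Agent.S10121
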