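import Groth.Statements.S10122
import Groth.Agent.H25.AlgSp113
open Groth.Agent.H25 Groth.Agent.H25.AS

set_option autoImplicit false
universe u
open CategoryTheory CategoryTheory.Limits AlgebraicGeometry
open AlgSp AlgSp.GroupoidSp

namespace Groth.Agent.S10122

/-- Let `(U, R, s, t, c)` be a groupoid in algebraic spaces over `B` with stabilizer `G ⟶ U` and unit
section `e : U ⟶ G`. Then (1) `j : R ⟶ U ×_B U` is separated iff `G ⟶ U` is separated iff `e` is a
closed immersion; (3) `j` is quasi-separated iff `G ⟶ U` is quasi-separated iff `e` is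
quasi-compact; (2) if `j` or `G ⟶ U` is locally separated then `e` is an immersion. The unit section
is written as any morphism `U ⟶ G` lifting the identity `e : U ⟶ R` of the groupoid. (The published
part (2) is a three-way equivalence; this row states only that `j` locally separated, or `G ⟶ U`
locally separated, implies that `e` is an immersion.) -/
theorem result (S : Scheme.{u}) (B : AlgSp.Sp S) (hB : AlgSp.IsAlgSpace B)
    (G : AlgSp.GroupoidSp B) (hU : AlgSp.IsAlgSpace G.U) (hR : AlgSp.IsAlgSpace G.R)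
    (eG : G.U ⟶ G.stabilizer) (heG : eG ≫ G.stabilizerι = G.e) :
    ((AlgSp.IsSeparatedMor G.j ↔ AlgSp.IsSeparatedMor G.stabilizerToU) ∧
        (AlgSp.IsSeparatedMor G.j ↔ AlgSp.RepWith @IsClosedImmersion eG)) ∧
      ((AlgSp.IsQuasiSeparatedMor G.j ↔ AlgSp.IsQuasiSeparatedMor G.stabilizerToU) ∧
        (AlgSp.IsQuasiSeparatedMor G.j ↔ AlgSp.IsQuasiCompactMor eG)) ∧
      ((AlgSp.IsLocallySeparatedMor G.j → AlgSp.RepWith @IsImmersion eG) ∧
        (AlgSp.IsLocallySeparatedMor G.stabilizerToU → AlgSp.RepWith @IsImmersion eG)) := by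
  have hu := gpd_unit_toU eG heG
  have sq0 : IsPullback G.stabilizerι G.stabilizerToU G.j G.diag :=
    IsPullback.of_hasPullback G.j G.diag
  have sqB := isPullback_section_diagonal G.stabilizerToU eG hu
  have sqC := gpd_isPullback_diagonal_j eG heG
  have A : ∀ (Q : MorphismProperty Scheme.{u}), AlgSp.RepWith Q (pullback.diagonal G.j) →
      AlgSp.RepWith Q (pullback.diagonal G.stabilizerToU) := fun Q h =>
    MorphismProperty.of_isPullback (P := (AlgSp.RepWith (S := S) Q).diagonal) sq0 h
  have Bq : ∀ (Q : MorphismProperty Scheme.{u}),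
      AlgSp.RepWith Q (pullback.diagonal G.stabilizerToU) → AlgSp.RepWith Q eG := fun Q h =>
    repWith_fst_of_isPullback sqB h
  have C : ∀ (Q : MorphismProperty Scheme.{u}), AlgSp.RepWith Q eG →
      AlgSp.RepWith Q (pullback.diagonal G.j) := fun Q h =>
    repWith_fst_of_isPullback sqC h
  have hrj : AlgSp.Representable (pullback.diagonal G.j) :=
    representable_diagonal_of_diag hR.diag G.j
  have hrt : AlgSp.Representable (pullback.diagonal G.stabilizerToU) :=
    MorphismProperty.of_isPullback (P := (AlgSp.Representable (S := S)).diagonal) sq0 hrj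
  have hre : AlgSp.Representable eG := MorphismProperty.of_isPullback sqB.flip hrt
  refine ⟨⟨⟨A _, fun h => C _ (Bq _ h)⟩, ⟨fun h => Bq _ (A _ h), C _⟩⟩,
    ⟨⟨A _, fun h => C _ (Bq _ h)⟩,
      ⟨fun h => isQuasiCompactMor_of_repWith _ (Bq _ (A _ h)),
        fun h => C _ ((repWith_quasiCompact_iff _ hre).mpr h)⟩⟩,
    ⟨fun h => Bq _ (A _ h), Bq _⟩⟩


end Groth.Agent.S10122
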