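import Groth.Statements.S10124
import Groth.Agent.H28.GrpdSpAlg

set_option autoImplicit false
universe u
open CategoryTheory CategoryTheory.Limits AlgebraicGeometry
open AlgSp AlgSp.GroupoidSp

namespace Groth.Agent.S10124


section Helpers

open Groth.Agent.H28.GrpdSpAlg

variable {S : Scheme.{u}} {B : AlgSp.Sp S} (G : AlgSp.GroupoidSp B) {Y : AlgSp.Sp S}

/-- the value of the translation `f ↦ f ∘ ρ⁻¹ ∘ ρ'` on the universal point of the fibre -/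
noncomputable def transVal (ρ ρ' : Y ⟶ G.R) : pullback (ρ ≫ G.s) G.s ⟶ G.R :=
  cmp G (cmp G (pullback.snd (ρ ≫ G.s) G.s) ((pullback.fst (ρ ≫ G.s) G.s ≫ ρ) ≫ G.i))
    (pullback.fst (ρ ≫ G.s) G.s ≫ ρ')

variable {G}

lemma aux1 (ρ : Y ⟶ G.R) : pullback.snd (ρ ≫ G.s) G.s ≫ G.s =
    ((pullback.fst (ρ ≫ G.s) G.s ≫ ρ) ≫ G.i) ≫ G.t := by
  rw [Category.assoc, G.i_t, Category.assoc, pullback.condition]

lemma aux2 (ρ ρ' : Y ⟶ G.R) (h : ρ ≫ G.t = ρ' ≫ G.t) :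
    cmp G (pullback.snd (ρ ≫ G.s) G.s) ((pullback.fst (ρ ≫ G.s) G.s ≫ ρ) ≫ G.i) ≫ G.s =
      (pullback.fst (ρ ≫ G.s) G.s ≫ ρ') ≫ G.t := by
  rw [cmp_s (aux1 ρ), Category.assoc, G.i_s, Category.assoc, h, Category.assoc]

theorem exists_trans (ρ ρ' : Y ⟶ G.R) (h : ρ ≫ G.t = ρ' ≫ G.t) :
    ∃ Φ : pullback (ρ ≫ G.s) G.s ⟶ pullback (ρ' ≫ G.s) G.s,
      Φ ≫ pullback.fst (ρ' ≫ G.s) G.s = pullback.fst (ρ ≫ G.s) G.s ∧
      Φ ≫ pullback.snd (ρ' ≫ G.s) G.s = transVal G ρ ρ' := by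
  have h3 : pullback.fst (ρ ≫ G.s) G.s ≫ ρ' ≫ G.s = transVal G ρ ρ' ≫ G.s := by
    unfold transVal
    rw [cmp_s (aux2 ρ ρ' h), Category.assoc]
  exact ⟨pullback.lift _ _ h3, pullback.lift_fst _ _ _, pullback.lift_snd _ _ _⟩

theorem trans_trans (ρ ρ' : Y ⟶ G.R) (h : ρ ≫ G.t = ρ' ≫ G.t)
    (Φ : pullback (ρ ≫ G.s) G.s ⟶ pullback (ρ' ≫ G.s) G.s)
    (hΦ1 : Φ ≫ pullback.fst (ρ' ≫ G.s) G.s = pullback.fst (ρ ≫ G.s) G.s)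
    (hΦ2 : Φ ≫ pullback.snd (ρ' ≫ G.s) G.s = transVal G ρ ρ')
    (Ψ : pullback (ρ' ≫ G.s) G.s ⟶ pullback (ρ ≫ G.s) G.s)
    (hΨ1 : Ψ ≫ pullback.fst (ρ ≫ G.s) G.s = pullback.fst (ρ' ≫ G.s) G.s)
    (hΨ2 : Ψ ≫ pullback.snd (ρ ≫ G.s) G.s = transVal G ρ' ρ) : Φ ≫ Ψ = 𝟙 _ := by
  apply pullback.hom_ext
  · rw [Category.assoc, hΨ1, hΦ1, Category.id_comp]
  · rw [Category.assoc, hΨ2, Category.id_comp]
    unfold transVal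
    rw [comp_cmp _ (aux2 ρ' ρ h.symm), comp_cmp _ (aux1 ρ'), hΦ2]
    simp only [← Category.assoc, hΦ1]
    unfold transVal
    rw [cmp_cmp_i (aux2 ρ ρ' h)]
    refine cmp_i_cmp ?_
    rw [Category.assoc, pullback.condition]

end Helpers

/-- Let `(U, R, s, t, c)` be a groupoid in algebraic spaces over `B`, `K` a field and `r, r' : Spec K ⟶
R` with `t ∘ r = t ∘ r'`; put `u = s ∘ r`, `u' = s ∘ r'`. Then the fibres `Spec K ×_{u, U, s} R` and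
`Spec K ×_{u', U, s} R` are isomorphic as spaces over `Spec K` (existence of an isomorphism over
`Spec K`). -/
theorem result (S : Scheme.{u}) (B : AlgSp.Sp S) (hB : AlgSp.IsAlgSpace B)
    (G : AlgSp.GroupoidSp B) (hU : AlgSp.IsAlgSpace G.U) (hR : AlgSp.IsAlgSpace G.R)
    (K : Type u) [Field K] (σ : Spec (CommRingCat.of K) ⟶ S)
    (r r' : (AlgSp.yon S).obj (Over.mk σ) ⟶ G.R) (h : r ≫ G.t = r' ≫ G.t) :
    Nonempty (Over.mk (pullback.fst (r ≫ G.s) G.s) ≅ Over.mk (pullback.fst (r' ≫ G.s) G.s)) := by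
  obtain ⟨Φ, hΦ1, hΦ2⟩ := exists_trans (G := G) r r' h
  obtain ⟨Ψ, hΨ1, hΨ2⟩ := exists_trans (G := G) r' r h.symm
  refine ⟨Over.isoMk ⟨Φ, Ψ, trans_trans r r' h Φ hΦ1 hΦ2 Ψ hΨ1 hΨ2,
    trans_trans r' r h.symm Ψ hΨ1 hΨ2 Φ hΦ1 hΦ2⟩ ?_⟩
  exact hΦ1

end Groth.Agent.S10124
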