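import Groth.Statements.S10132
import Groth.Agent.H25.AlgSp116
open Groth.Agent.H25 Groth.Agent.H25.AS

set_option autoImplicit false
universe u
open CategoryTheory CategoryTheory.Limits AlgebraicGeometry
open AlgSp AlgSp.GroupoidSp

namespace Groth.Agent.S10132

/-- Let `(U, R, s, t, c)` be a groupoid in algebraic spaces over `B` whose object space is `U = Spec k`,
let `k ⊂ k'` be a field extension and `(U', R', s', t', c')` the restriction along `Spec k' ⟶ Spec
k`. Then `s, t, s', t'`, `Spec k' ⟶ Spec k` and `R' ⟶ R` are surjective, flat and universally open,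
and `R' ⟶ R` is moreover affine. (The published statement lists every arrow of the restriction
diagram; this row omits the six arrows through `R ×_{s,U} U'` and `U' ×_{U,t} R`, each a base change
of `s`, `t` or `Spec k' ⟶ Spec k`.) -/
theorem result (S : Scheme.{u}) (B : AlgSp.Sp S) (hB : AlgSp.IsAlgSpace B)
    (G G' : AlgSp.GroupoidSp B) (hR : AlgSp.IsAlgSpace G.R) (hR' : AlgSp.IsAlgSpace G'.R)
    (k k' : Type u) [Field k] [Field k'] [Algebra k k'] (σ : Spec (CommRingCat.of k) ⟶ S)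
    (eU : G.U ≅ ((AlgSp.yon S).obj (Over.mk σ)))
    (eU' : G'.U ≅ ((AlgSp.yon S).obj (Over.mk (Spec.map (CommRingCat.ofHom (algebraMap k k')) ≫ σ))))
    (φ : AlgSp.GroupoidSp.Hom G' G) (hφ : φ.IsRestriction)
    (hfU : φ.fU = eU'.hom ≫ (AlgSp.yon S).map (Over.homMk (Spec.map (CommRingCat.ofHom (algebraMap k k'))) rfl :
      Over.mk (Spec.map (CommRingCat.ofHom (algebraMap k k')) ≫ σ) ⟶ Over.mk σ) ≫ eU.inv) :
    (∀ f ∈ [G.s, G.t], AlgSp.IsSurjectiveMor f ∧ AlgSp.LocP @Flat f ∧ AlgSp.IsUnivOpenMor f) ∧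
      (∀ f ∈ [G'.s, G'.t], AlgSp.IsSurjectiveMor f ∧ AlgSp.LocP @Flat f ∧ AlgSp.IsUnivOpenMor f) ∧
      (AlgSp.IsSurjectiveMor φ.fU ∧ AlgSp.LocP @Flat φ.fU ∧ AlgSp.IsUnivOpenMor φ.fU) ∧
      (AlgSp.IsSurjectiveMor φ.fR ∧ AlgSp.LocP @Flat φ.fR ∧ AlgSp.IsUnivOpenMor φ.fR ∧ AlgSp.IsAffineMor φ.fR) := by
  have hU : AlgSp.IsAlgSpace G.U := (IsAlgSpace.yon_obj (Over.mk σ)).of_iso eU.symm
  have hU' : AlgSp.IsAlgSpace G'.U := (IsAlgSpace.yon_obj _).of_iso eU'.symm
  have goodS : ∀ {k₀ : Type u} [Field k₀] (σ₀ : Spec (CommRingCat.of k₀) ⟶ S) {X U : AlgSp.Sp S}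
      (_ : AlgSp.IsAlgSpace X) (_ : U ≅ (AlgSp.yon S).obj (Over.mk σ₀)) (q : X ⟶ U) (e : U ⟶ X)
      (_ : e ≫ q = 𝟙 U), Good q := fun σ₀ _ _ hX e₀ q e he =>
    ⟨isSurjectiveMor_of_section q e he, flat_univOpen_of_field_iso σ₀ hX e₀ q⟩
  have h_s : Good G.s := goodS σ hR eU G.s G.e G.e_s
  have h_t : Good G.t := goodS σ hR eU G.t G.e G.e_t
  have h_s' : Good G'.s := goodS _ hR' eU' G'.s G'.e G'.e_s
  have h_t' : Good G'.t := goodS _ hR' eU' G'.t G'.e G'.e_t
  have hsurj : Surjective (Spec.map (CommRingCat.ofHom (algebraMap k k'))) := by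
    refine ⟨fun x => ?_⟩
    obtain ⟨y⟩ := (inferInstance : Nonempty ↥(Spec (CommRingCat.of k')))
    exact ⟨y, Subsingleton.elim _ _⟩
  have h_fU : Good φ.fU := by
    refine ⟨?_, flat_univOpen_of_field_iso σ hU' eU φ.fU⟩
    rw [hfU]
    refine isSurjectiveMor_comp _ _ (isSurjectiveMor_of_isIso _)
      (isSurjectiveMor_comp _ _ ?_ (isSurjectiveMor_of_isIso _))
    exact isSurjectiveMor_of_repWith _ ((AlgSp.repWith_yon_map_iff @Surjective _).2 hsurj)
  have a_fU : AlgSp.IsAffineMor φ.fU := by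
    rw [hfU]
    refine isAffineMor_comp _ _ (isAffineMor_of_isIso _)
      (isAffineMor_comp _ _ ?_ (isAffineMor_of_isIso _))
    exact isAffineMor_of_repWith _ ((AlgSp.repWith_yon_map_iff @IsAffineHom _).2
      (show IsAffineHom (Spec.map (CommRingCat.ofHom (algebraMap k k'))) from inferInstance))
  have sq1 := IsPullback.of_hasPullback G.s φ.fU
  have hQ : AlgSp.IsAlgSpace (pullback G.s φ.fU) := isAlgSpace_of_isPullback hU.diag hR hU' sq1
  have sq2 := restr_isPullback_s φ hφ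
  have g1 : Good (pullback.fst G.s φ.fU) := good_of_isPullback hU' hU hR sq1.flip h_fU
  have g2 := good_of_isPullback hU' hU hQ sq2.flip h_fU
  have g3 := good_comp hR' hQ hR _ _ g2 g1
  rw [pullback.lift_fst] at g3
  have a1 := isAffineMor_of_isPullback sq1.flip a_fU
  have a2 := isAffineMor_of_isPullback sq2.flip a_fU
  have a3 := isAffineMor_comp _ _ a2 a1
  rw [pullback.lift_fst] at a3
  refine ⟨?_, ?_, h_fU, g3.1, g3.2.1, g3.2.2, a3⟩
  · intro f hf
    simp only [List.mem_cons, List.not_mem_nil, or_false] at hf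
    rcases hf with rfl | rfl
    · exact h_s
    · exact h_t
  · intro f hf
    simp only [List.mem_cons, List.not_mem_nil, or_false] at hf
    rcases hf with rfl | rfl
    · exact h_s'
    · exact h_t'


end Groth.Agent.S10132
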