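import Groth.Statements.S10142
import Groth.Agent.H28.GrpdSpAlg

set_option autoImplicit false
universe u
open CategoryTheory CategoryTheory.Limits AlgebraicGeometry
open AlgSp AlgSp.GroupoidSp

namespace Groth.Agent.S10142

/-- For a groupoid in algebraic spaces `(U, R, s, t, c, e, i)` over `B`: the square with sides `c : R
×_{s,U,t} R ⟶ R`, `pr_1 : R ×_{s,U,t} R ⟶ R`, `s` and `s` is cartesian, and the morphism `R
×_{t,U,t} R ⟶ R ×_{s,U,t} R`, `(α, β) ↦ (α, i(α) ∘ β)`, is an isomorphism whose composite with `c`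
is the second projection `pr_1 : R ×_{t,U,t} R ⟶ R`. (The published statement also lists the square
formed by `pr_0`, `pr_1`, `s`, `t`, which is cartesian by definition of the fibre product.) -/
theorem result (S : Scheme.{u}) (B : AlgSp.Sp S) (hB : AlgSp.IsAlgSpace B)
    (G : AlgSp.GroupoidSp B) (hU : AlgSp.IsAlgSpace G.U) (hR : AlgSp.IsAlgSpace G.R) :
    IsPullback G.c (pullback.snd G.s G.t) G.s G.s ∧
      ∀ φ : pullback G.t G.t ⟶ pullback G.s G.t,
        φ ≫ pullback.fst G.s G.t = pullback.fst G.t G.t →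
        φ ≫ pullback.snd G.s G.t =
          pullback.lift (pullback.fst G.t G.t ≫ G.i) (pullback.snd G.t G.t)
            ((Category.assoc _ _ _).trans ((congrArg (pullback.fst G.t G.t ≫ ·) G.i_s).trans pullback.condition)) ≫ G.c →
        IsIso φ ∧ φ ≫ G.c = pullback.snd G.t G.t := by
  refine ⟨Groth.Agent.H28.GrpdSpAlg.isPullback_c G, ?_⟩
  intro φ h1 h2
  have hA : (pullback.fst G.t G.t ≫ G.i) ≫ G.s = pullback.snd G.t G.t ≫ G.t :=
    (Category.assoc _ _ _).trans ((congrArg (pullback.fst G.t G.t ≫ ·) G.i_s).trans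
      pullback.condition)
  have h2' : φ ≫ pullback.snd G.s G.t =
      Groth.Agent.H28.GrpdSpAlg.cmp G (pullback.fst G.t G.t ≫ G.i) (pullback.snd G.t G.t) := by
    rw [h2, Groth.Agent.H28.GrpdSpAlg.cmp_eq G _ _ hA]
  have hB : pullback.fst G.t G.t ≫ G.s = (pullback.fst G.t G.t ≫ G.i) ≫ G.t := by
    rw [Category.assoc, G.i_t]
  have hc : φ ≫ G.c = pullback.snd G.t G.t := by
    rw [Groth.Agent.H28.GrpdSpAlg.comp_c, h1, h2',
      ← Groth.Agent.H28.GrpdSpAlg.cmp_assoc hB hA, Groth.Agent.H28.GrpdSpAlg.cmp_i,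
      pullback.condition_assoc]
    exact Groth.Agent.H28.GrpdSpAlg.e_cmp _
  refine ⟨?_, hc⟩
  have hψ : pullback.fst G.s G.t ≫ G.t = G.c ≫ G.t := by
    rw [← Groth.Agent.H28.GrpdSpAlg.cmp_fst_snd,
      Groth.Agent.H28.GrpdSpAlg.cmp_t pullback.condition]
  refine ⟨⟨pullback.lift (pullback.fst G.s G.t) G.c hψ, ?_, ?_⟩⟩
  · apply pullback.hom_ext
    · rw [Category.assoc, pullback.lift_fst, h1, Category.id_comp]
    · rw [Category.assoc, pullback.lift_snd, hc, Category.id_comp]
  · apply pullback.hom_ext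
    · rw [Category.assoc, h1, pullback.lift_fst, Category.id_comp]
    · rw [Category.assoc, h2', Groth.Agent.H28.GrpdSpAlg.comp_cmp _ hA, ← Category.assoc,
        pullback.lift_fst, pullback.lift_snd, Category.id_comp,
        ← Groth.Agent.H28.GrpdSpAlg.cmp_fst_snd]
      have hC : (pullback.fst G.s G.t ≫ G.i) ≫ G.s = pullback.fst G.s G.t ≫ G.t := by
        rw [Category.assoc, G.i_s]
      rw [← Groth.Agent.H28.GrpdSpAlg.cmp_assoc hC pullback.condition,
        Groth.Agent.H28.GrpdSpAlg.i_cmp, pullback.condition_assoc]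
      exact Groth.Agent.H28.GrpdSpAlg.e_cmp _

end Groth.Agent.S10142
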