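import Groth.Statements.S10145
import Groth.Agent.H28.GrpdSpAlg

set_option autoImplicit false
universe u
open CategoryTheory CategoryTheory.Limits AlgebraicGeometry
open AlgSp AlgSp.GroupoidSp

namespace Groth.Agent.S10145

/-- Let `(U, R, s, t, c)` be a groupoid in algebraic spaces over `B` whose object space is `U = Spec k`,
and let `r : Spec k ⟶ R` be such that `s ∘ r` and `t ∘ r` are automorphisms of `Spec k`; write `a =
r ∘ (s ∘ r)⁻¹`, so that `s ∘ a = id` and `t ∘ a` is an automorphism. Then `R ⟶ R`, `f ↦ c(a ∘ t ∘ f,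
f)`, is an automorphism of `R` mapping `e` to `a` (the point `r`). -/
theorem result (S : Scheme.{u}) (B : AlgSp.Sp S) (hB : AlgSp.IsAlgSpace B)
    (G : AlgSp.GroupoidSp B) (hR : AlgSp.IsAlgSpace G.R) (k : Type u) [Field k]
    (σ : Spec (CommRingCat.of k) ⟶ S) (eU : G.U ≅ (AlgSp.yon S).obj (Over.mk σ))
    (a : G.U ⟶ G.R) (ha : a ≫ G.s = 𝟙 G.U) [IsIso (a ≫ G.t)] :
    IsIso (pullback.lift (G.t ≫ a) (𝟙 G.R) (((Category.assoc _ _ _).trans (congrArg (G.t ≫ ·) ha)).trans ((Category.comp_id _).trans (Category.id_comp _).symm)) ≫ G.c) ∧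
      G.e ≫ (pullback.lift (G.t ≫ a) (𝟙 G.R) (((Category.assoc _ _ _).trans (congrArg (G.t ≫ ·) ha)).trans ((Category.comp_id _).trans (Category.id_comp _).symm)) ≫ G.c) = a := by
  have h0 : (G.t ≫ a) ≫ G.s = 𝟙 G.R ≫ G.t := by
    rw [Category.assoc, ha, Category.comp_id, Category.id_comp]
  have hm : pullback.lift (G.t ≫ a) (𝟙 G.R) h0 ≫ G.c =
      Groth.Agent.H28.GrpdSpAlg.cmp G (G.t ≫ a) (𝟙 G.R) :=
    (Groth.Agent.H28.GrpdSpAlg.cmp_eq G _ _ h0).symm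
  rw [hm]
  constructor
  · obtain ⟨b, hb⟩ : ∃ b : G.R ⟶ G.R, b = G.t ≫ inv (a ≫ G.t) ≫ a := ⟨_, rfl⟩
    have hbt : b ≫ G.t = 𝟙 G.R ≫ G.t := by
      rw [hb, Category.assoc, Category.assoc, IsIso.inv_hom_id, Category.comp_id, Category.id_comp]
    have hcomp : (b ≫ G.i) ≫ G.s = 𝟙 G.R ≫ G.t := by rw [Category.assoc, G.i_s, hbt]
    refine ⟨⟨Groth.Agent.H28.GrpdSpAlg.cmp G (b ≫ G.i) (𝟙 G.R), ?_, ?_⟩⟩
    · rw [Groth.Agent.H28.GrpdSpAlg.comp_cmp _ hcomp, Category.comp_id]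
      have hmb : Groth.Agent.H28.GrpdSpAlg.cmp G (G.t ≫ a) (𝟙 G.R) ≫ b = G.t ≫ a := by
        rw [hb, ← Category.assoc, Groth.Agent.H28.GrpdSpAlg.cmp_t h0, Category.assoc,
          Category.assoc, ← Category.assoc a G.t, IsIso.hom_inv_id_assoc]
      rw [← Category.assoc, hmb]
      exact Groth.Agent.H28.GrpdSpAlg.i_cmp_cmp h0
    · have hmb : Groth.Agent.H28.GrpdSpAlg.cmp G (b ≫ G.i) (𝟙 G.R) ≫ G.t ≫ a = b := by
        rw [← Category.assoc, Groth.Agent.H28.GrpdSpAlg.cmp_t hcomp, Category.assoc,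
          Category.assoc, reassoc_of% G.i_t, hb]
        simp only [Category.assoc]
        rw [reassoc_of% ha]
      rw [Groth.Agent.H28.GrpdSpAlg.comp_cmp _ h0, Category.comp_id, hmb]
      exact Groth.Agent.H28.GrpdSpAlg.cmp_i_cmp' hbt
  · rw [Groth.Agent.H28.GrpdSpAlg.comp_cmp _ h0, Category.comp_id, ← Category.assoc, G.e_t,
      Category.id_comp]
    have h1 := Groth.Agent.H28.GrpdSpAlg.cmp_e (G := G) a
    rwa [← Category.assoc, ha, Category.id_comp] at h1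

end Groth.Agent.S10145
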