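import Groth.Statements.S10148
import Mathlib
import Groth.Agent.H29.Newton

set_option autoImplicit false
universe u
open LinTop

namespace Groth.Agent.S10148

/-- Let A be a weakly admissible topological ring (linearly topologized, Hausdorff and complete, having
a weak ideal of definition) and let I be a weak ideal of definition of A, that is, an open ideal
consisting of topologically nilpotent elements. Then (A, I) is a henselian pair. -/
theorem result
    (A : Type u) [CommRing A] [UniformSpace A] [IsUniformAddGroup A] [IsTopologicalRing A]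
    (hA : LinTop.IsWeaklyAdmissible A) (I : Ideal A) (hI : LinTop.IsWeakIdealOfDefinition A I) :
    HenselianRing A I := by
  obtain ⟨⟨hlin, -⟩, ht2, hcomp⟩ := hA
  obtain ⟨hIopen, hInil⟩ := hI
  have hna : NonarchimedeanAddGroup A := by
    refine ⟨fun U hU => ?_⟩
    obtain ⟨J, hJo, hJU⟩ := (IsLinearTopology.hasBasis_open_ideal (R := A)).mem_iff.mp hU
    exact ⟨⟨J.toAddSubgroup, hJo⟩, hJU⟩
  have hunit : ∀ x : A, IsTopologicallyNilpotent x → IsUnit (1 - x) := by
    intro x htend
    have hsum : Summable (fun n : ℕ => x ^ n) := by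
      apply NonarchimedeanAddGroup.summable_of_tendsto_cofinite_zero
      rw [Nat.cofinite_eq_atTop]
      exact htend
    have h1 : ∑' n : ℕ, x ^ n = 1 + x * ∑' n : ℕ, x ^ n := by
      conv_lhs => rw [hsum.tsum_eq_zero_add, pow_zero]
      rw [← hsum.tsum_mul_left x]
      simp only [pow_succ']
    refine isUnit_iff_exists_inv.mpr ⟨∑' n : ℕ, x ^ n, ?_⟩
    rw [sub_mul, one_mul]
    nth_rewrite 1 [h1]
    ring
  have hjac : I ≤ Ideal.jacobson ⊥ := by
    intro x hx
    rw [Ideal.mem_jacobson_bot]
    intro y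
    have h := hunit (-(x * y)) (hInil _ (I.neg_mem (I.mul_mem_right y hx)))
    have e : 1 - -(x * y) = x * y + 1 := by ring
    rwa [e] at h
  refine ⟨hjac, ?_⟩
  intro f _ a₀ h₁ h₂
  have hKI : Ideal.span {f.eval a₀} ≤ I := by
    rw [Ideal.span_le]
    exact Set.singleton_subset_iff.mpr h₁
  obtain ⟨c, hc0, hcK, hfc, hstep⟩ := Groth.Agent.H29.newton_seq I (Ideal.span {f.eval a₀}) hKI hjac f a₀
    (Ideal.subset_span rfl) h₂
  have hKtend : ∀ U ∈ nhds (0 : A), ∃ N : ℕ, ∀ n ≥ N,
      (((Ideal.span {f.eval a₀}) ^ n : Ideal A) : Set A) ⊆ U := by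
    intro U hU
    obtain ⟨J, hJo, hJU⟩ := (IsLinearTopology.hasBasis_open_ideal (R := A)).mem_iff.mp hU
    have hev := (hInil _ h₁).eventually_mem (hJo.mem_nhds J.zero_mem)
    obtain ⟨N, hN⟩ := Filter.eventually_atTop.mp hev
    refine ⟨N, fun n hn x hx => hJU ?_⟩
    rw [Ideal.span_singleton_pow, SetLike.mem_coe, Ideal.mem_span_singleton] at hx
    obtain ⟨y, rfl⟩ := hx
    exact J.mul_mem_right y (hN n hn)
  have htend_of : ∀ g : ℕ → A, (∀ n, g n ∈ (Ideal.span {f.eval a₀}) ^ (n + 1)) →
      Filter.Tendsto g Filter.atTop (nhds 0) := by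
    intro g hg
    rw [Filter.tendsto_def]
    intro U hU
    obtain ⟨N, hN⟩ := hKtend U hU
    rw [Filter.mem_atTop_sets]
    exact ⟨N, fun n hn => hN (n + 1) (by omega) (hg n)⟩
  have hd : Filter.Tendsto (fun n => c (n + 1) - c n) Filter.atTop (nhds 0) := htend_of _ hstep
  have hsum : Summable (fun n => c (n + 1) - c n) := by
    apply NonarchimedeanAddGroup.summable_of_tendsto_cofinite_zero
    rw [Nat.cofinite_eq_atTop]
    exact hd
  have hca : Filter.Tendsto c Filter.atTop (nhds (a₀ + ∑' n, (c (n + 1) - c n))) := by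
    have h := hsum.hasSum.tendsto_sum_nat
    simp only [Finset.sum_range_sub, hc0] at h
    have h2 := h.const_add a₀
    simpa using h2
  refine ⟨a₀ + ∑' n, (c (n + 1) - c n), ?_, ?_⟩
  · have h1 : Filter.Tendsto (fun n => f.eval (c n)) Filter.atTop
        (nhds (f.eval (a₀ + ∑' n, (c (n + 1) - c n)))) :=
      (f.continuous.tendsto _).comp hca
    have h2 : Filter.Tendsto (fun n => f.eval (c n)) Filter.atTop (nhds 0) := htend_of _ hfc
    exact tendsto_nhds_unique h1 h2
  · have hclosed : IsClosed (I : Set A) :=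
      AddSubgroup.isClosed_of_isOpen I.toAddSubgroup hIopen
    have h3 : Filter.Tendsto (fun n => c n - a₀) Filter.atTop
        (nhds (a₀ + ∑' n, (c (n + 1) - c n) - a₀)) := hca.sub_const a₀
    exact hclosed.mem_of_tendsto h3 (Filter.Eventually.of_forall fun n => hKI (hcK n))

end Groth.Agent.S10148
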