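import Groth.Statements.S10149
import Mathlib

set_option autoImplicit false
universe u v
open LinTop

namespace Groth.Agent.S10149

/-- In a linearly topologized ring B the ideal of topologically nilpotent elements is closed. Moreover,
if φ : A → B is a continuous homomorphism of linearly topologized rings and I is an ideal of A
consisting of topologically nilpotent elements, then every element of the closure of the ideal φ(I)B
is topologically nilpotent. -/
theorem result
    (A : Type u) [CommRing A] [TopologicalSpace A] [IsTopologicalRing A] [IsLinearTopology A A]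
    (B : Type v) [CommRing B] [TopologicalSpace B] [IsTopologicalRing B] [IsLinearTopology B B] :
    IsClosed ((topologicalNilradical B : Ideal B) : Set B) ∧
      ∀ (φ : A →+* B), Continuous φ → ∀ I : Ideal A, (∀ f ∈ I, IsTopologicallyNilpotent f) →
        ∀ g ∈ (I.map φ).closure, IsTopologicallyNilpotent g := by
  have hclosed : IsClosed ((topologicalNilradical B : Ideal B) : Set B) := by
    rw [← closure_subset_iff_isClosed]
    intro f hf
    show f ∈ topologicalNilradical B
    rw [IsTopologicallyNilpotent.mem_topologicalNilradical_iff]
    unfold IsTopologicallyNilpotent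
    rw [Filter.atTop_basis.tendsto_iff IsLinearTopology.hasBasis_open_ideal]
    intro J hJ
    have hopen : IsOpen ((fun x : B => x - f) ⁻¹' (J : Set B)) :=
      hJ.preimage (continuous_id.sub continuous_const)
    have hfmem : f ∈ (fun x : B => x - f) ⁻¹' (J : Set B) := by
      simp
    obtain ⟨g, hgJ, hgN⟩ := mem_closure_iff.mp hf _ hopen hfmem
    have hgN' : IsTopologicallyNilpotent g :=
      IsTopologicallyNilpotent.mem_topologicalNilradical_iff.mp hgN
    have hev := hgN'.eventually_mem (hJ.mem_nhds J.zero_mem)
    obtain ⟨N, hN⟩ := Filter.eventually_atTop.mp hev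
    refine ⟨N, trivial, fun n hn => ?_⟩
    have h1 : g ^ n ∈ J := hN n hn
    have h2 : g ^ n - f ^ n ∈ J := by
      obtain ⟨c, hc⟩ := sub_dvd_pow_sub_pow g f n
      rw [hc]
      exact J.mul_mem_right c hgJ
    have h3 : f ^ n = g ^ n - (g ^ n - f ^ n) := by ring
    show f ^ n ∈ J
    rw [h3]
    exact J.sub_mem h1 h2
  refine ⟨hclosed, ?_⟩
  intro φ hφ I hI g hg
  have hle : I.map φ ≤ topologicalNilradical B := by
    rw [Ideal.map_le_iff_le_comap]
    intro a ha
    rw [Ideal.mem_comap, IsTopologicallyNilpotent.mem_topologicalNilradical_iff]
    exact (hI a ha).map hφ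
  have hg' : g ∈ closure ((I.map φ : Ideal B) : Set B) := hg
  have hsub : closure ((I.map φ : Ideal B) : Set B) ⊆ ((topologicalNilradical B : Ideal B) : Set B) :=
    closure_minimal hle hclosed
  exact IsTopologicallyNilpotent.mem_topologicalNilradical_iff.mp (hsub hg')

end Groth.Agent.S10149
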