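import Groth.Statements.S10150
import Mathlib
import Groth.Agent.S10149

set_option autoImplicit false
universe u v
open LinTop

namespace Groth.Agent.S10150

/-- Let φ : A → B be a continuous ring homomorphism between weakly pre-admissible linearly topologized
rings. Then φ is taut if and only if, for each weak ideal of definition I of A, the closure of the
ideal generated by φ(I) is again a weak ideal of definition, now of B, and every neighbourhood of 0
in B contains one of these closures. (The published statement takes A and B weakly admissible, that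
is, moreover Hausdorff and complete; completeness plays no role and this row omits it.) -/
theorem result
    (A : Type u) [CommRing A] [TopologicalSpace A] [IsTopologicalRing A] [IsLinearTopology A A]
    (B : Type v) [CommRing B] [TopologicalSpace B] [IsTopologicalRing B] [IsLinearTopology B B]
    (hA : LinTop.IsWeaklyPreadmissible A) (hB : LinTop.IsWeaklyPreadmissible B)
    (φ : A →+* B) (hφ : Continuous φ) :
    LinTop.IsTaut φ ↔
      ((∀ I : Ideal A, LinTop.IsWeakIdealOfDefinition A I →
          LinTop.IsWeakIdealOfDefinition B (I.map φ).closure) ∧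
        ∀ U ∈ nhds (0 : B), ∃ I : Ideal A, LinTop.IsWeakIdealOfDefinition A I ∧
          ((I.map φ).closure : Set B) ⊆ U) := by
  obtain ⟨-, I₀, hI₀open, hI₀nil⟩ := hA
  have hinf : ∀ I : Ideal A, IsOpen (I : Set A) → LinTop.IsWeakIdealOfDefinition A (I ⊓ I₀) := by
    intro I hI
    refine ⟨?_, fun f hf => hI₀nil f hf.2⟩
    have : ((I ⊓ I₀ : Ideal A) : Set A) = (I : Set A) ∩ (I₀ : Set A) := rfl
    rw [this]
    exact hI.inter hI₀open
  have hmono : ∀ I J : Ideal A, I ≤ J →
      closure ((I.map φ : Ideal B) : Set B) ⊆ closure ((J.map φ : Ideal B) : Set B) :=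
    fun I J h => closure_mono (Ideal.map_mono h)
  constructor
  · rintro ⟨-, h2, h3⟩
    refine ⟨?_, ?_⟩
    · rintro I ⟨hIopen, hInil⟩
      refine ⟨h2 I hIopen, ?_⟩
      intro g hg
      exact (Groth.Agent.S10149.result A B).2 φ hφ I hInil g hg
    · intro U hU
      obtain ⟨I, hIopen, hIU⟩ := h3 U hU
      exact ⟨I ⊓ I₀, hinf I hIopen, (hmono _ _ inf_le_left).trans hIU⟩
  · rintro ⟨h1, h2⟩
    refine ⟨hφ, ?_, ?_⟩
    · intro I hIopen
      have hw := (h1 _ (hinf I hIopen)).1
      have hle : ((I ⊓ I₀).map φ).closure ≤ (I.map φ).closure := hmono _ _ inf_le_left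
      exact Ideal.isOpen_of_isOpen_subideal hle hw
    · intro U hU
      obtain ⟨I, hI, hIU⟩ := h2 U hU
      exact ⟨I, hI.1, hIU⟩

end Groth.Agent.S10150
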