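import Groth.Statements.S10151
import Groth.Agent.Helper1.LinTop

set_option autoImplicit false
universe u v w
open LinTop

namespace Groth.Agent.S10151

open Groth.Agent.Helper1.LinTopAux in
/-- Given linearly topologized rings A, B, C and continuous ring maps ψ : B → C and φ : A → B, tautness
of the composite A → C implies that ψ is taut. -/
theorem result
    (A : Type u) [CommRing A] [TopologicalSpace A] [IsTopologicalRing A] [IsLinearTopology A A]
    (B : Type v) [CommRing B] [TopologicalSpace B] [IsTopologicalRing B] [IsLinearTopology B B]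
    (C : Type w) [CommRing C] [TopologicalSpace C] [IsTopologicalRing C] [IsLinearTopology C C]
    (φ : A →+* B) (ψ : B →+* C) (hφ : Continuous φ) (hψ : Continuous ψ)
    (h : LinTop.IsTaut (ψ.comp φ)) : LinTop.IsTaut ψ := by
  obtain ⟨_, h2, _⟩ := h
  refine ⟨hψ, ?_, ?_⟩
  · intro J hJ
    -- the preimage of J in A is an open ideal
    have hopen : IsOpen ((J.comap φ : Ideal A) : Set A) := by
      have : ((J.comap φ : Ideal A) : Set A) = φ ⁻¹' (J : Set B) := rfl
      rw [this]
      exact hJ.preimage hφ
    have h3 := h2 _ hopen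
    rw [← Ideal.coe_closure] at h3
    refine isOpen_closure_of_le (U := ((J.comap φ).map (ψ.comp φ)).closure) ?_ h3
    rw [Ideal.coe_closure]
    apply _root_.closure_mono
    rw [← Ideal.map_map]
    exact Ideal.map_mono Ideal.map_comap_le
  · intro U hU
    obtain ⟨U', hU'open, hU'U⟩ := (IsLinearTopology.hasBasis_open_ideal (R := C)).mem_iff.mp hU
    have hpre : (ψ ⁻¹' (U' : Set C)) ∈ nhds (0 : B) := by
      apply hψ.continuousAt
      rw [map_zero]
      exact hU'open.mem_nhds (zero_mem U')
    obtain ⟨J, hJopen, hJ⟩ := (IsLinearTopology.hasBasis_open_ideal (R := B)).mem_iff.mp hpre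
    refine ⟨J, hJopen, ?_⟩
    have hle : J.map ψ ≤ U' := by
      rw [Ideal.map_le_iff_le_comap]
      intro x hx
      exact hJ hx
    calc closure ((J.map ψ : Ideal C) : Set C) ⊆ closure (U' : Set C) := _root_.closure_mono hle
      _ = U' := closure_open_ideal hU'open
      _ ⊆ U := hU'U

end Groth.Agent.S10151
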