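import Groth.Statements.S10152
import Groth.Agent.Helper1.LinTop

set_option autoImplicit false
universe u v
open LinTop

namespace Groth.Agent.S10152

open Groth.Agent.Helper1.LinTopAux in
/-- Let φ : A → B be a taut homomorphism of linearly topologized rings. If A has a countable fundamental
system of open ideals, then so does B (equivalently, the neighbourhood filters of 0 are countably
generated). -/
theorem result
    (A : Type u) [CommRing A] [TopologicalSpace A] [IsTopologicalRing A] [IsLinearTopology A A]
    (B : Type v) [CommRing B] [TopologicalSpace B] [IsTopologicalRing B] [IsLinearTopology B B]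
    (φ : A →+* B) (hφ : LinTop.IsTaut φ) (hA : (nhds (0 : A)).IsCountablyGenerated) :
    (nhds (0 : B)).IsCountablyGenerated := by
  obtain ⟨hcont, h2, h3⟩ := hφ
  obtain ⟨x, hx⟩ := (nhds (0 : A)).exists_antitone_basis
  -- for every n choose an open ideal inside `x n`
  have hch : ∀ n : ℕ, ∃ I : Ideal A, IsOpen (I : Set A) ∧ (I : Set A) ⊆ x n := fun n =>
    (IsLinearTopology.hasBasis_open_ideal (R := A)).mem_iff.mp (hx.toHasBasis.mem_of_mem trivial)
  choose I hIopen hIx using hch
  refine Filter.HasCountableBasis.isCountablyGenerated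
    (s := fun n : ℕ => closure ((I n).map φ : Set B)) (p := fun _ => True)
    ⟨⟨fun U => ?_⟩, Set.to_countable _⟩
  constructor
  · intro hU
    obtain ⟨J, hJopen, hJU⟩ := h3 U hU
    obtain ⟨n, _, hn⟩ := hx.toHasBasis.mem_iff.mp (hJopen.mem_nhds (zero_mem J))
    refine ⟨n, trivial, ?_⟩
    refine subset_trans ?_ hJU
    apply _root_.closure_mono
    apply Ideal.map_mono
    exact fun a ha => hn (hIx n ha)
  · rintro ⟨n, _, hn⟩
    refine Filter.mem_of_superset ?_ hn
    exact (h2 _ (hIopen n)).mem_nhds (subset_closure (zero_mem _))

end Groth.Agent.S10152
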