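import Groth.Statements.S10153
import Groth.Agent.Helper1.LinTop

set_option autoImplicit false
universe u v
open LinTop

namespace Groth.Agent.S10153

open Groth.Agent.Helper1.LinTopAux in
/-- Let φ : A → B be a taut homomorphism of linearly topologized rings. If A is weakly pre-admissible,
then B is weakly pre-admissible. -/
theorem result
    (A : Type u) [CommRing A] [TopologicalSpace A] [IsTopologicalRing A] [IsLinearTopology A A]
    (B : Type v) [CommRing B] [TopologicalSpace B] [IsTopologicalRing B] [IsLinearTopology B B]
    (φ : A →+* B) (hφ : LinTop.IsTaut φ) (hA : LinTop.IsWeaklyPreadmissible A) :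
    LinTop.IsWeaklyPreadmissible B := by
  obtain ⟨hcont, h2, h3⟩ := hφ
  obtain ⟨_, I, hIopen, hInil⟩ := hA
  refine ⟨inferInstance, (I.map φ).closure, ?_, ?_⟩
  · rw [Ideal.coe_closure]; exact h2 I hIopen
  · intro f hf
    apply isTopologicallyNilpotent_of_mem_closure
    have hf' : f ∈ closure ((I.map φ : Ideal B) : Set B) := hf
    refine _root_.closure_mono ?_ hf'
    -- `I.map φ ≤ topologicalNilradical B`
    have : I.map φ ≤ topologicalNilradical B := by
      rw [Ideal.map_le_iff_le_comap]
      intro a ha
      rw [Ideal.mem_comap, IsTopologicallyNilpotent.mem_topologicalNilradical_iff]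
      exact (hInil a ha).map hcont
    intro x hx
    exact IsTopologicallyNilpotent.mem_topologicalNilradical_iff.mp (this hx)

end Groth.Agent.S10153
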