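import Groth.Statements.S10154
import Groth.Agent.Helper1.LinTop

set_option autoImplicit false
universe u v
open LinTop

namespace Groth.Agent.S10154

open Groth.Agent.Helper1.LinTopAux in
/-- Let φ : A → B be a taut homomorphism of linearly topologized rings. If A is pre-admissible, then B
is pre-admissible. -/
theorem result
    (A : Type u) [CommRing A] [TopologicalSpace A] [IsTopologicalRing A] [IsLinearTopology A A]
    (B : Type v) [CommRing B] [TopologicalSpace B] [IsTopologicalRing B] [IsLinearTopology B B]
    (φ : A →+* B) (hφ : LinTop.IsTaut φ) (hA : LinTop.IsPreadmissible A) :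
    LinTop.IsPreadmissible B := by
  obtain ⟨hcont, h2, h3⟩ := hφ
  obtain ⟨_, I, hIopen, hIpow⟩ := hA
  refine ⟨inferInstance, (I.map φ).closure, ?_, ?_⟩
  · rw [Ideal.coe_closure]; exact h2 I hIopen
  · intro U hU
    obtain ⟨I', hI'open, hI'U⟩ := h3 U hU
    obtain ⟨n, hn, hnI'⟩ := hIpow I' (hI'open.mem_nhds (zero_mem I'))
    refine ⟨n, hn, ?_⟩
    refine subset_trans ?_ hI'U
    have h1 := closure_pow_le (I.map φ) n
    refine subset_trans h1 ?_
    rw [Ideal.coe_closure]
    apply _root_.closure_mono
    rw [← Ideal.map_pow]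
    exact Ideal.map_mono hnI'

end Groth.Agent.S10154
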