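import Groth.Statements.S10155
import Groth.Agent.Helper1.AdicDescent
import Groth.Agent.Helper1.LinTop

set_option autoImplicit false
universe u v
open LinTop

namespace Groth.Agent.S10155

open Filter Topology in
open Groth.Agent.Helper1.LinTopAux Groth.Agent.Helper1.AdicDescent in
/-- Let φ : A → B be a taut homomorphism of linearly topologized rings with dense image. Assume A is
Hausdorff and complete with a countable fundamental system of open ideals and B is Hausdorff. Then φ
is surjective and open, so that B is the quotient of A by the closed ideal ker φ with the quotient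
topology, and B is complete. -/
theorem result
    (A : Type u) [CommRing A] [UniformSpace A] [IsUniformAddGroup A] [IsTopologicalRing A]
    [IsLinearTopology A A] [T2Space A] [CompleteSpace A] (hA : (nhds (0 : A)).IsCountablyGenerated)
    (B : Type v) [CommRing B] [UniformSpace B] [IsUniformAddGroup B] [IsTopologicalRing B]
    [IsLinearTopology B B] [T2Space B]
    (φ : A →+* B) (hφ : LinTop.IsTaut φ) (hd : DenseRange φ) :
    Function.Surjective φ ∧ IsOpenQuotientMap φ ∧ CompleteSpace B := by
  classical
  obtain ⟨hcont, htopen, htbasis⟩ := hφ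
  obtain ⟨I, hIopen, hIbasis⟩ :=
    (IsLinearTopology.hasBasis_open_ideal (R := A)).exists_antitone_subbasis
  have hIanti : ∀ {m n : ℕ}, m ≤ n → I n ≤ I m := fun h x hx => hIbasis.antitone h hx
  have hIsmall : ∀ U ∈ nhds (0 : A), ∃ n, ((I n : Ideal A) : Set A) ⊆ U := fun U hU => by
    obtain ⟨n, -, hn⟩ := hIbasis.toHasBasis.mem_iff.mp hU
    exact ⟨n, hn⟩
  set W : ℕ → Ideal B := fun n => ((I n).map φ).closure with hW
  have hWopen : ∀ n, IsOpen ((W n : Ideal B) : Set B) := fun n => by
    rw [Ideal.coe_closure]; exact htopen _ (hIopen n)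
  have hWanti : ∀ {m n : ℕ}, m ≤ n → W n ≤ W m := by
    intro m n h x hx
    have hx' : x ∈ closure (((I n).map φ : Ideal B) : Set B) := by
      rw [← Ideal.coe_closure]; exact hx
    have := closure_mono (show (((I n).map φ : Ideal B) : Set B) ⊆
      (((I m).map φ : Ideal B) : Set B) from Ideal.map_mono (hIanti h)) hx'
    rw [← Ideal.coe_closure] at this
    exact this
  have hWsmall : ∀ U ∈ nhds (0 : B), ∃ n, ((W n : Ideal B) : Set B) ⊆ U := by
    intro U hU
    obtain ⟨K, hKopen, hK⟩ := htbasis U hU
    obtain ⟨n, hn⟩ := hIsmall K (hKopen.mem_nhds (Ideal.zero_mem _))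
    refine ⟨n, ?_⟩
    rw [Ideal.coe_closure]
    exact (closure_mono (Ideal.map_mono (show I n ≤ K from hn))).trans hK
  have hnaA : NonarchimedeanAddGroup A :=
    { is_nonarchimedean := fun U hU => by
        obtain ⟨n, hn⟩ := hIsmall U hU
        exact ⟨⟨(I n).toAddSubgroup, hIopen n⟩, hn⟩ }
  have dense_approx : ∀ (b : B) (n : ℕ), ∃ a : A, b - φ a ∈ W n := by
    intro b n
    have hopen : IsOpen {y : B | b - y ∈ W n} :=
      (hWopen n).preimage (continuous_const.sub continuous_id)
    obtain ⟨a, ha⟩ := hd.exists_mem_open hopen ⟨b, by simp⟩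
    exact ⟨a, ha⟩
  -- approximation step
  have step : ∀ (n : ℕ) (b : B), b ∈ W n → ∃ i ∈ I n, b - φ i ∈ W (n + 1) := by
    intro n b hb
    have h1 : b ∈ (I n).map φ ⊔ W (n + 1) :=
      closure_le_sup_of_isOpen _ _ (hWopen (n + 1)) (by rw [← Ideal.coe_closure]; exact hb)
    obtain ⟨c, hc, w, hw, rfl⟩ := Submodule.mem_sup.mp h1
    have h2 : ∃ i ∈ I n, c - φ i ∈ W (n + 1) := by
      refine Submodule.span_induction (p := fun c _ => ∃ i ∈ I n, c - φ i ∈ W (n + 1))
        ?_ ?_ ?_ ?_ hc
      · rintro _ ⟨i, hi, rfl⟩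
        exact ⟨i, hi, by rw [sub_self]; exact Ideal.zero_mem _⟩
      · exact ⟨0, Ideal.zero_mem _, by simp⟩
      · rintro x y _ _ ⟨i, hi, hx⟩ ⟨j, hj, hy⟩
        refine ⟨i + j, Ideal.add_mem _ hi hj, ?_⟩
        have : x + y - φ (i + j) = (x - φ i) + (y - φ j) := by rw [map_add]; ring
        rw [this]; exact Ideal.add_mem _ hx hy
      · rintro b' x _ ⟨i, hi, hx⟩
        obtain ⟨a, ha⟩ := dense_approx b' (n + 1)
        refine ⟨a * i, Ideal.mul_mem_left _ _ hi, ?_⟩
        have : b' • x - φ (a * i) = b' * (x - φ i) + (b' - φ a) * φ i := by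
          rw [smul_eq_mul, map_mul]; ring
        rw [this]
        exact Ideal.add_mem _ (Ideal.mul_mem_left _ _ hx) (Ideal.mul_mem_right _ _ ha)
    obtain ⟨i, hi, hci⟩ := h2
    refine ⟨i, hi, ?_⟩
    have : c + w - φ i = (c - φ i) + w := by ring
    rw [this]; exact Ideal.add_mem _ hci hw
  -- lifting
  have lift : ∀ (n : ℕ) (b : B), b ∈ W n → ∃ a ∈ I n, φ a = b := by
    intro n b hb
    let seq : ∀ k : ℕ, {y : B // y ∈ W (n + k)} := fun k =>
      Nat.rec (motive := fun k => {y : B // y ∈ W (n + k)}) ⟨b, hb⟩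
        (fun k y => ⟨y.1 - φ (Classical.choose (step (n + k) y.1 y.2)),
          (Classical.choose_spec (step (n + k) y.1 y.2)).2⟩) k
    let xs : ℕ → A := fun k => Classical.choose (step (n + k) (seq k).1 (seq k).2)
    have hxs : ∀ k, xs k ∈ I (n + k) := fun k =>
      (Classical.choose_spec (step (n + k) (seq k).1 (seq k).2)).1
    have hseq0 : (seq 0).1 = b := rfl
    have hseqS : ∀ k, (seq (k + 1)).1 = (seq k).1 - φ (xs k) := fun k => rfl
    have htel : ∀ K : ℕ, φ (∑ k ∈ Finset.range K, xs k) = b - (seq K).1 := by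
      intro K
      induction K with
      | zero => simp [hseq0]
      | succ K ih => rw [Finset.sum_range_succ, map_add, ih, hseqS]; abel
    have hxs0 : Tendsto xs atTop (𝓝 0) := by
      rw [tendsto_atTop']
      intro U hU
      obtain ⟨n₀, hn₀⟩ := hIsmall U hU
      exact ⟨n₀, fun k hk => hn₀ (hIanti (by omega : n₀ ≤ n + k) (hxs k))⟩
    have hsum : Summable xs :=
      NonarchimedeanAddGroup.summable_of_tendsto_cofinite_zero (by rwa [Nat.cofinite_eq_atTop])
    have h2 := hsum.hasSum.tendsto_sum_nat
    refine ⟨∑' k, xs k, ?_, ?_⟩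
    · apply (isClosed_of_isOpen (hIopen n)).mem_of_tendsto h2
      exact Filter.Eventually.of_forall
        (fun K => Ideal.sum_mem _ (fun k _ => hIanti (Nat.le_add_right n k) (hxs k)))
    · have h3 : Tendsto (fun K => φ (∑ k ∈ Finset.range K, xs k)) atTop (𝓝 (φ (∑' k, xs k))) :=
        (hcont.tendsto _).comp h2
      have h4 : Tendsto (fun K => φ (∑ k ∈ Finset.range K, xs k)) atTop (𝓝 b) := by
        have hy0 : Tendsto (fun K => (seq K).1) atTop (𝓝 0) := by
          rw [tendsto_atTop']
          intro U hU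
          obtain ⟨n₀, hn₀⟩ := hWsmall U hU
          exact ⟨n₀, fun k hk => hn₀ (hWanti (by omega : n₀ ≤ n + k) (seq k).2)⟩
        have : Tendsto (fun K => b - (seq K).1) atTop (𝓝 (b - 0)) := tendsto_const_nhds.sub hy0
        rw [sub_zero] at this
        exact this.congr (fun K => (htel K).symm)
      exact tendsto_nhds_unique h3 h4
  have hsurj : Function.Surjective φ := by
    intro b
    obtain ⟨a₀, ha₀⟩ := dense_approx b 0
    obtain ⟨a, -, ha⟩ := lift 0 _ ha₀
    exact ⟨a + a₀, by rw [map_add, ha]; ring⟩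
  have hopen : IsOpenMap φ := by
    rw [IsTopologicalAddGroup.isOpenMap_iff_nhds_zero]
    intro S hS
    rw [Filter.mem_map] at hS
    obtain ⟨n, hn⟩ := hIsmall _ hS
    refine Filter.mem_of_superset ((hWopen n).mem_nhds (Ideal.zero_mem _)) ?_
    intro b hb
    obtain ⟨a, ha, rfl⟩ := lift n b hb
    exact hn ha
  have hcomplete : CompleteSpace B := by
    have hcg : (nhds (0 : B)).IsCountablyGenerated := by
      have hb : (nhds (0 : B)).HasBasis (fun _ : ℕ => True) (fun n => ((W n : Ideal B) : Set B)) := by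
        rw [Filter.hasBasis_iff]
        intro t
        constructor
        · intro ht
          obtain ⟨n, hn⟩ := hWsmall t ht
          exact ⟨n, trivial, hn⟩
        · rintro ⟨n, -, hn⟩
          exact Filter.mem_of_superset ((hWopen n).mem_nhds (Ideal.zero_mem _)) hn
      exact hb.isCountablyGenerated
    have hucg : (uniformity B).IsCountablyGenerated := IsUniformAddGroup.uniformity_countably_generated
    apply UniformSpace.complete_of_convergent_controlled_sequences
      (fun N => {p : B × B | p.2 - p.1 ∈ W N})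
    · intro N
      rw [uniformity_eq_comap_nhds_zero B]
      exact Filter.preimage_mem_comap ((hWopen N).mem_nhds (Ideal.zero_mem _))
    · intro u hu
      have hdiff : ∀ k, u (k + 1) - u k ∈ W k := fun k => hu k k (k + 1) le_rfl (Nat.le_succ k)
      choose i hi1 hi2 using fun k => lift k _ (hdiff k)
      obtain ⟨a₀, ha₀⟩ := hsurj (u 0)
      let s : ℕ → A := fun n => a₀ + ∑ k ∈ Finset.range n, i k
      have hsS : ∀ n, s (n + 1) = s n + i n := by
        intro n
        simp only [s, Finset.sum_range_succ, add_assoc]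
      have hs : ∀ n, φ (s n) = u n := by
        intro n
        induction n with
        | zero => simp [s, ha₀]
        | succ n ih => rw [hsS, map_add, ih, hi2]; abel
      have hcs : CauchySeq s := by
        apply NonarchimedeanAddGroup.cauchySeq_of_tendsto_sub_nhds_zero
        have : (fun n => s (n + 1) - s n) = i := by
          funext n
          rw [hsS]; abel
        rw [this, tendsto_atTop']
        intro U hU
        obtain ⟨n₀, hn₀⟩ := hIsmall U hU
        exact ⟨n₀, fun k hk => hn₀ (hIanti hk (hi1 k))⟩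
      obtain ⟨a, ha⟩ := cauchySeq_tendsto_of_complete hcs
      refine ⟨φ a, ?_⟩
      have := (hcont.tendsto a).comp ha
      exact this.congr hs
  exact ⟨hsurj, ⟨hsurj, hcont, hopen⟩, hcomplete⟩

end Groth.Agent.S10155
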