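import Groth.Statements.S10156
import Groth.Agent.Helper1.LinTop

set_option autoImplicit false
universe u v w
open LinTop

namespace Groth.Agent.S10156

open Groth.Agent.Helper1.LinTopAux in
/-- Given pre-adic rings A, B, C and continuous ring maps ψ : B → C and φ : A → B, adicness of the
composite A → C implies that ψ is adic. -/
theorem result
    (A : Type u) [CommRing A] [TopologicalSpace A] [IsTopologicalRing A] (hA : LinTop.IsPreadic A)
    (B : Type v) [CommRing B] [TopologicalSpace B] [IsTopologicalRing B] (hB : LinTop.IsPreadic B)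
    (C : Type w) [CommRing C] [TopologicalSpace C] [IsTopologicalRing C] (hC : LinTop.IsPreadic C)
    (φ : A →+* B) (ψ : B →+* C) (hφ : Continuous φ) (hψ : Continuous ψ)
    (h : LinTop.IsAdicHom (ψ.comp φ)) : LinTop.IsAdicHom ψ := by
  obtain ⟨I, ⟨hIopen, hIpow⟩, hadic⟩ := h
  obtain ⟨K, hK⟩ := hB
  rw [isAdic_iff] at hadic hK
  have hKopen : IsOpen (K : Set B) := by simpa using hK.1 1
  refine ⟨K, ⟨hKopen, ?_⟩, ?_⟩
  · intro U hU
    obtain ⟨n, hn⟩ := hK.2 U hU
    refine ⟨n + 1, Nat.succ_pos n, subset_trans ?_ hn⟩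
    exact Ideal.pow_le_pow_right (Nat.le_succ n)
  · rw [isAdic_iff]
    constructor
    · intro k
      have hpre : (φ ⁻¹' (K : Set B)) ∈ nhds (0 : A) := by
        apply hφ.continuousAt
        rw [map_zero]
        exact hKopen.mem_nhds (zero_mem K)
      obtain ⟨n, hn, hnK⟩ := hIpow _ hpre
      have h1 : (I.map (ψ.comp φ)) ^ n ≤ K.map ψ := by
        rw [← Ideal.map_pow, ← Ideal.map_map]
        apply Ideal.map_mono
        rw [Ideal.map_le_iff_le_comap]
        exact fun x hx => hnK hx
      have h2 : (I.map (ψ.comp φ)) ^ (n * k) ≤ (K.map ψ) ^ k := by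
        rw [pow_mul]
        exact Ideal.pow_right_mono h1 k
      exact isOpen_of_le h2 (hadic.1 _)
    · intro U hU
      obtain ⟨m, hm⟩ := hadic.2 U hU
      have hLopen : IsOpen ((I.map (ψ.comp φ) : Ideal C) : Set C) := by simpa using hadic.1 1
      have hpre : (ψ ⁻¹' ((I.map (ψ.comp φ) : Ideal C) : Set C)) ∈ nhds (0 : B) := by
        apply hψ.continuousAt
        rw [map_zero]
        exact hLopen.mem_nhds (zero_mem _)
      obtain ⟨j, hj⟩ := hK.2 _ hpre
      have h1 : (K.map ψ) ^ j ≤ I.map (ψ.comp φ) := by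
        rw [← Ideal.map_pow, Ideal.map_le_iff_le_comap]
        exact fun x hx => hj hx
      refine ⟨j * m, subset_trans ?_ hm⟩
      rw [pow_mul]
      exact Ideal.pow_right_mono h1 m

end Groth.Agent.S10156
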