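import Groth.Statements.S10157
import Groth.Agent.Helper1.LinTop

set_option autoImplicit false
universe u v
open LinTop

namespace Groth.Agent.S10157

open Groth.Agent.Helper1.LinTopAux in
/-- A continuous adic homomorphism φ : A → B between pre-adic topological rings is taut. -/
theorem result
    (A : Type u) [CommRing A] [TopologicalSpace A] [IsTopologicalRing A] (hA : LinTop.IsPreadic A)
    (B : Type v) [CommRing B] [TopologicalSpace B] [IsTopologicalRing B] (hB : LinTop.IsPreadic B)
    (φ : A →+* B) (hφ : Continuous φ) (h : LinTop.IsAdicHom φ) : LinTop.IsTaut φ := by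
  obtain ⟨I, ⟨hIopen, hIpow⟩, hadic⟩ := h
  obtain ⟨K, hK⟩ := hA
  rw [isAdic_iff] at hadic hK
  -- powers of `I` are open in `A`
  have hIn : ∀ n : ℕ, IsOpen ((I ^ n : Ideal A) : Set A) := by
    intro n
    obtain ⟨m, hm⟩ := hK.2 I (hIopen.mem_nhds (zero_mem I))
    have : K ^ (m * n) ≤ I ^ n := by
      rw [pow_mul]
      exact Ideal.pow_right_mono hm n
    exact isOpen_of_le this (hK.1 _)
  refine ⟨hφ, ?_, ?_⟩
  · intro I' hI'
    obtain ⟨n, hn, hnI'⟩ := hIpow I' (hI'.mem_nhds (zero_mem I'))
    have hle : (I.map φ) ^ n ≤ I'.map φ := by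
      rw [← Ideal.map_pow]
      exact Ideal.map_mono hnI'
    have hopen : IsOpen ((I'.map φ : Ideal B) : Set B) := isOpen_of_le hle (hadic.1 n)
    rw [closure_open_ideal hopen]
    exact hopen
  · intro U hU
    obtain ⟨n, hn⟩ := hadic.2 U hU
    refine ⟨I ^ n, hIn n, ?_⟩
    rw [Ideal.map_pow, closure_open_ideal (hadic.1 n)]
    exact hn

end Groth.Agent.S10157
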