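import Groth.Statements.S10158
import Groth.Agent.Helper1.AdicComplete
import Groth.Agent.Helper1.LinTop

set_option autoImplicit false
universe u v
open LinTop

namespace Groth.Agent.S10158

/-- Let φ : A → B be a taut homomorphism of linearly topologized rings. Assume A is pre-adic with a
finitely generated ideal of definition I and B is Hausdorff and complete. Then the topology of B is
the φ(I)B-adic topology; in particular B is adic with a finitely generated ideal of definition and φ
is adic. -/
theorem result
    (A : Type u) [CommRing A] [TopologicalSpace A] [IsTopologicalRing A] (hA : LinTop.IsPreadic A)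
    (I : Ideal A) (hI : LinTop.IsIdealOfDefinition A I) (hfg : I.FG)
    (B : Type v) [CommRing B] [UniformSpace B] [IsUniformAddGroup B] [IsTopologicalRing B]
    [IsLinearTopology B B] [T2Space B] [CompleteSpace B]
    (φ : A →+* B) (hφ : LinTop.IsTaut φ) :
    IsAdic (I.map φ) := by
  obtain ⟨I', hI'⟩ := hA
  rw [isAdic_iff] at hI'
  obtain ⟨hIopen, hIbasis⟩ := hI
  obtain ⟨hcont, htopen, htbasis⟩ := hφ
  -- powers of I are open
  have hpow_open : ∀ n : ℕ, IsOpen ((I ^ n : Ideal A) : Set A) := by
    intro n
    obtain ⟨m, hm⟩ := hI'.2 (I : Set A) (hIopen.mem_nhds (Ideal.zero_mem _))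
    have hle : (I' ^ m) ^ n ≤ I ^ n := Ideal.pow_right_mono (fun x hx => hm hx) n
    rw [← pow_mul] at hle
    exact Groth.Agent.Helper1.LinTopAux.isOpen_of_le hle (hI'.1 (m * n))
  apply Groth.Agent.Helper1.AdicComplete.isAdic B (I.map φ) (hfg.map φ)
  · intro n
    rw [← Ideal.map_pow]
    exact htopen _ (hpow_open n)
  · intro U hU
    obtain ⟨K, hKopen, hK⟩ := htbasis U hU
    obtain ⟨n, -, hn⟩ := hIbasis (K : Set A) (hKopen.mem_nhds (Ideal.zero_mem _))
    refine ⟨n, ?_⟩
    rw [← Ideal.map_pow]
    refine (closure_mono ?_).trans hK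
    exact Ideal.map_mono (fun x hx => hn hx)

end Groth.Agent.S10158
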