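import Groth.Statements.S10165
import Groth.Agent.Helper1.LinTop

set_option autoImplicit false
universe u v
open LinTop

namespace Groth.Agent.S10165

open Groth.Agent.Helper1.LinTopAux in
/-- Let φ : A → B be a taut homomorphism of linearly topologized rings. If A is weakly pre-adic, then B
is weakly pre-adic. -/
theorem result
    (A : Type u) [CommRing A] [TopologicalSpace A] [IsTopologicalRing A] [IsLinearTopology A A]
    (B : Type v) [CommRing B] [TopologicalSpace B] [IsTopologicalRing B] [IsLinearTopology B B]
    (φ : A →+* B) (hφ : LinTop.IsTaut φ) (hA : LinTop.IsWeaklyPreadic A) :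
    LinTop.IsWeaklyPreadic B := by
  obtain ⟨hcont, h2, h3⟩ := hφ
  obtain ⟨_, I, hIopen, hIbasis⟩ := hA
  have key : ∀ n : ℕ, closure (((I.map φ) ^ n : Ideal B) : Set B) =
      closure (((I ^ n).closure.map φ : Ideal B) : Set B) := by
    intro n
    rw [closure_map_closure φ hcont, Ideal.map_pow]
  refine ⟨inferInstance, I.map φ, ?_, ?_⟩
  · intro n
    rw [key]
    apply h2
    rw [Ideal.coe_closure]
    exact hIopen n
  · intro U hU
    obtain ⟨I', hI'open, hI'U⟩ := h3 U hU
    obtain ⟨n, hn⟩ := hIbasis I' (hI'open.mem_nhds (zero_mem I'))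
    refine ⟨n, ?_⟩
    rw [key]
    refine subset_trans (_root_.closure_mono ?_) hI'U
    apply Ideal.map_mono
    exact hn

end Groth.Agent.S10165
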