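import Groth.Statements.S10159
import Groth.Agent.Helper1.LinTop
import Groth.Agent.S10165

set_option autoImplicit false
universe u
open LinTop

namespace Groth.Agent.S10159

open Groth.Agent.Helper1.LinTopAux

theorem taut_aux {A' : Type u} {A : Type u} [CommRing A'] [TopologicalSpace A'] [IsTopologicalRing A']
    [CommRing A] [TopologicalSpace A] [IsTopologicalRing A] (e : A' →+* A) (I' : Ideal A')
    (hI' : IsAdic I')
    (hIopen : ∀ n : ℕ, IsOpen (closure (((I'.map e) ^ n : Ideal A) : Set A)))
    (hbasis : ∀ U ∈ nhds (0 : A), ∃ n : ℕ, closure (((I'.map e) ^ n : Ideal A) : Set A) ⊆ U) :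
    LinTop.IsTaut e := by
  rw [isAdic_iff] at hI'
  refine ⟨?_, ?_, ?_⟩
  · apply continuous_of_continuousAt_zero e
    rw [ContinuousAt, map_zero]
    intro U hU
    obtain ⟨n, hn⟩ := hbasis U hU
    rw [Filter.mem_map]
    refine Filter.mem_of_superset ((hI'.1 n).mem_nhds (zero_mem _)) ?_
    intro x hx
    apply hn
    apply subset_closure
    rw [← Ideal.map_pow]
    exact Ideal.mem_map_of_mem e hx
  · intro J hJ
    obtain ⟨n, hn⟩ := hI'.2 J (hJ.mem_nhds (zero_mem J))
    have hle : (I'.map e) ^ n ≤ J.map e := by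
      rw [← Ideal.map_pow]; exact Ideal.map_mono hn
    exact isOpen_closure_of_le (U := ((I'.map e) ^ n).closure) (I := J.map e)
      (by rw [Ideal.coe_closure]; exact _root_.closure_mono hle)
      (by rw [Ideal.coe_closure]; exact hIopen n)
  · intro U hU
    obtain ⟨n, hn⟩ := hbasis U hU
    refine ⟨I' ^ n, hI'.1 n, ?_⟩
    rw [Ideal.map_pow]; exact hn

theorem one_to_two (A : Type u) [CommRing A] [τ : TopologicalSpace A] [IsTopologicalRing A]
    [IsLinearTopology A A] (h : LinTop.IsWeaklyPreadic A) :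
    ∃ (A' : Type u) (_ : CommRing A') (_ : TopologicalSpace A') (_ : IsTopologicalRing A')
        (φ : A' →+* A), LinTop.IsPreadic A' ∧ LinTop.IsTaut φ := by
  obtain ⟨_, I, hIopen, hIbasis⟩ := h
  refine ⟨A, inferInstance, I.adicTopology, I.nonarchimedean.toIsTopologicalRing, RingHom.id A,
    ⟨I, rfl⟩, ?_⟩
  refine @taut_aux A A _ I.adicTopology I.nonarchimedean.toIsTopologicalRing _ τ _ (RingHom.id A) I
    rfl ?_ ?_
  · intro n; rw [Ideal.map_id]; exact hIopen n
  · intro U hU; rw [Ideal.map_id]; exact hIbasis U hU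

theorem two_to_one (A : Type u) [CommRing A] [TopologicalSpace A] [IsTopologicalRing A]
    [IsLinearTopology A A]
    (h : ∃ (A' : Type u) (_ : CommRing A') (_ : TopologicalSpace A') (_ : IsTopologicalRing A')
        (φ : A' →+* A), LinTop.IsPreadic A' ∧ LinTop.IsTaut φ) : LinTop.IsWeaklyPreadic A := by
  obtain ⟨A', _, _, _, φ, ⟨K, hK⟩, hφ⟩ := h
  have hlin : IsLinearTopology A' A' := by
    have h1 := hK
    change _ = _ at h1
    rw [h1]
    exact K.isLinearTopology
  have hwp : LinTop.IsWeaklyPreadic A' := by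
    rw [isAdic_iff] at hK
    refine ⟨hlin, K, fun n => ?_, fun U hU => ?_⟩
    · rw [closure_open_ideal (hK.1 n)]; exact hK.1 n
    · obtain ⟨n, hn⟩ := hK.2 U hU
      exact ⟨n, by rw [closure_open_ideal (hK.1 n)]; exact hn⟩
  exact Groth.Agent.S10165.result A' A φ hφ hwp

theorem one_to_four (A : Type u) [CommRing A] [TopologicalSpace A] [IsTopologicalRing A]
    [IsLinearTopology A A] (h : LinTop.IsWeaklyPreadic A) :
    LinTop.IsPreadmissible A ∧ ∀ I : Ideal A, LinTop.IsIdealOfDefinition A I →
        ∀ n : ℕ, 0 < n → IsOpen (closure ((I ^ n : Ideal A) : Set A)) := by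
  obtain ⟨hlin, I, hIopen, hIbasis⟩ := h
  refine ⟨⟨hlin, I.closure, ?_, ?_⟩, ?_⟩
  · rw [Ideal.coe_closure]; simpa using hIopen 1
  · intro U hU
    obtain ⟨n, hn⟩ := hIbasis U hU
    refine ⟨n + 1, Nat.succ_pos n, ?_⟩
    refine subset_trans (closure_pow_le I (n + 1)) ?_
    rw [Ideal.coe_closure]
    refine subset_trans (_root_.closure_mono ?_) hn
    exact Ideal.pow_le_pow_right (Nat.le_succ n)
  · intro J ⟨hJopen, _⟩ n _
    obtain ⟨m, hm⟩ := hIbasis J (hJopen.mem_nhds (zero_mem J))
    have hle : I ^ m ≤ J := fun x hx => hm (subset_closure hx)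
    have hle2 : I ^ (m * n) ≤ J ^ n := by
      rw [pow_mul]; exact Ideal.pow_right_mono hle n
    exact isOpen_closure_of_le (U := (I ^ (m * n)).closure) (I := J ^ n)
      (by rw [Ideal.coe_closure]; exact _root_.closure_mono hle2)
      (by rw [Ideal.coe_closure]; exact hIopen _)

theorem three_to_one (A : Type u) [CommRing A] [TopologicalSpace A] [IsTopologicalRing A]
    [IsLinearTopology A A]
    (h : LinTop.IsPreadmissible A ∧ ∃ I : Ideal A, LinTop.IsIdealOfDefinition A I ∧
        ∀ n : ℕ, 0 < n → IsOpen (closure ((I ^ n : Ideal A) : Set A))) :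
    LinTop.IsWeaklyPreadic A := by
  obtain ⟨⟨hlin, _⟩, I, ⟨hIopen, hIpow⟩, hcl⟩ := h
  refine ⟨hlin, I, fun n => ?_, fun U hU => ?_⟩
  · rcases Nat.eq_zero_or_pos n with rfl | hn
    · simp
    · exact hcl n hn
  · obtain ⟨U', hU'open, hU'U⟩ := (IsLinearTopology.hasBasis_open_ideal (R := A)).mem_iff.mp hU
    obtain ⟨n, _, hn⟩ := hIpow U' (hU'open.mem_nhds (zero_mem U'))
    refine ⟨n, subset_trans ?_ hU'U⟩
    calc closure ((I ^ n : Ideal A) : Set A) ⊆ closure (U' : Set A) := _root_.closure_mono hn
      _ = U' := closure_open_ideal hU'open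

/-- For a ring A carrying a linear topology, the following four conditions are equivalent: (1) A is
weakly pre-adic; (2) there exist a pre-adic topological ring A' and a taut continuous ring
homomorphism A' → A (A' is taken in the universe of A, which suffices since A with an adic topology
serves); (3) A has an ideal of definition, and for at least one ideal of definition I every closure
cl(I^n) with n ≥ 1 is open; (4) A has an ideal of definition, and for each of its ideals of
definition I every closure cl(I^n) with n ≥ 1 is open. -/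
theorem result
    (A : Type u) [CommRing A] [TopologicalSpace A] [IsTopologicalRing A] [IsLinearTopology A A] :
    List.TFAE [LinTop.IsWeaklyPreadic A,
      ∃ (A' : Type u) (_ : CommRing A') (_ : TopologicalSpace A') (_ : IsTopologicalRing A')
        (φ : A' →+* A), LinTop.IsPreadic A' ∧ LinTop.IsTaut φ,
      LinTop.IsPreadmissible A ∧ ∃ I : Ideal A, LinTop.IsIdealOfDefinition A I ∧
        ∀ n : ℕ, 0 < n → IsOpen (closure ((I ^ n : Ideal A) : Set A)),
      LinTop.IsPreadmissible A ∧ ∀ I : Ideal A, LinTop.IsIdealOfDefinition A I →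
        ∀ n : ℕ, 0 < n → IsOpen (closure ((I ^ n : Ideal A) : Set A))] := by
  tfae_have 1 → 2 := one_to_two A
  tfae_have 2 → 1 := two_to_one A
  tfae_have 1 → 4 := one_to_four A
  tfae_have 4 → 3 := by
    rintro ⟨hpre, h⟩
    obtain ⟨I, hI⟩ := hpre.2
    exact ⟨hpre, I, hI, h I hI⟩
  tfae_have 3 → 1 := three_to_one A
  tfae_finish

end Groth.Agent.S10159
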