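import Groth.Statements.S10160
import Groth.Agent.Helper1.LinTop

set_option autoImplicit false
universe u
open LinTop

namespace Groth.Agent.S10160

open Groth.Agent.Helper1.LinTopAux in
/-- A weakly adic topological ring is admissible and has a countable fundamental system of open ideals. -/
theorem result
    (A : Type u) [CommRing A] [UniformSpace A] [IsUniformAddGroup A] [IsTopologicalRing A] (hA : LinTop.IsWeaklyAdic A) :
    LinTop.IsAdmissible A ∧ (nhds (0 : A)).IsCountablyGenerated := by
  obtain ⟨⟨hlin, I, hIopen, hIbasis⟩, hT2, hcomplete⟩ := hA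
  refine ⟨⟨⟨hlin, I.closure, ?_, ?_⟩, hT2, hcomplete⟩, ?_⟩
  · rw [Ideal.coe_closure]; simpa using hIopen 1
  · intro U hU
    obtain ⟨n, hn⟩ := hIbasis U hU
    refine ⟨n + 1, Nat.succ_pos n, ?_⟩
    refine subset_trans (closure_pow_le I (n + 1)) ?_
    rw [Ideal.coe_closure]
    refine subset_trans (_root_.closure_mono ?_) hn
    exact Ideal.pow_le_pow_right (Nat.le_succ n)
  · refine Filter.HasCountableBasis.isCountablyGenerated
      (s := fun n : ℕ => closure ((I ^ n : Ideal A) : Set A)) (p := fun _ => True)
      ⟨⟨fun U => ?_⟩, Set.to_countable _⟩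
    constructor
    · intro hU
      obtain ⟨n, hn⟩ := hIbasis U hU
      exact ⟨n, trivial, hn⟩
    · rintro ⟨n, _, hn⟩
      refine Filter.mem_of_superset ?_ hn
      exact (hIopen n).mem_nhds (subset_closure (zero_mem _))

end Groth.Agent.S10160
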