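import Groth.Statements.S10162
import Groth.Agent.Helper1.LinTop

set_option autoImplicit false
universe u
open LinTop

namespace Groth.Agent.S10162

open UniformSpace in
/-- The closure of the image of an ideal in the completion is stable under multiplication. -/
theorem mul_mem_closure_image
    {A : Type u} [CommRing A] [UniformSpace A] [IsUniformAddGroup A] [IsTopologicalRing A]
    (I : Ideal A) (b : Completion A) {x : Completion A}
    (hx : x ∈ closure ((↑) '' (I : Set A) : Set (Completion A))) :
    b * x ∈ closure ((↑) '' (I : Set A) : Set (Completion A)) := by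
  revert x
  induction b using Completion.induction_on with
  | hp =>
    have : {b : Completion A | ∀ ⦃x : Completion A⦄, x ∈ closure ((↑) '' (I : Set A) : Set (Completion A)) →
        b * x ∈ closure ((↑) '' (I : Set A) : Set (Completion A))} =
        ⋂ x ∈ closure ((↑) '' (I : Set A) : Set (Completion A)),
          {b : Completion A | b * x ∈ closure ((↑) '' (I : Set A) : Set (Completion A))} := by
      ext b; simp
    rw [this]
    refine isClosed_biInter fun x _ => ?_
    exact isClosed_closure.preimage (continuous_id.mul continuous_const)
  | ih a =>
    intro x hx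
    refine map_mem_closure (continuous_const.mul continuous_id) hx ?_
    rintro _ ⟨i, hi, rfl⟩
    refine ⟨a * i, I.mul_mem_left a hi, ?_⟩
    exact Completion.coe_mul a i

open UniformSpace in
theorem map_coe_le_closure_image
    {A : Type u} [CommRing A] [UniformSpace A] [IsUniformAddGroup A] [IsTopologicalRing A]
    (I : Ideal A) :
    ((I.map (Completion.coeRingHom : A →+* Completion A) : Ideal (Completion A)) : Set (Completion A)) ⊆
      closure ((↑) '' (I : Set A) : Set (Completion A)) := by
  intro x hx
  have hx' : x ∈ Ideal.span ((Completion.coeRingHom : A →+* Completion A) '' (I : Set A)) := hx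
  induction hx' using Submodule.span_induction with
  | mem y hy => exact subset_closure hy
  | zero => exact subset_closure ⟨0, I.zero_mem, Completion.coe_zero⟩
  | add y z _ _ hy hz =>
    refine map_mem_closure₂ continuous_add (hy ?_) (hz ?_) ?_
    · assumption
    · assumption
    · rintro _ ⟨i, hi, rfl⟩ _ ⟨j, hj, rfl⟩
      exact ⟨i + j, I.add_mem hi hj, Completion.coe_add i j⟩
  | smul b y _ hy =>
    exact mul_mem_closure_image I b (hy (by assumption))

open Groth.Agent.Helper1.LinTopAux UniformSpace in
/-- For a linearly topologized ring A, the canonical map from A to its (separated) completion is taut. -/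
theorem result
    (A : Type u) [CommRing A] [UniformSpace A] [IsUniformAddGroup A] [IsTopologicalRing A] [IsLinearTopology A A] :
    LinTop.IsTaut (UniformSpace.Completion.coeRingHom : A →+* UniformSpace.Completion A) := by
  refine ⟨Completion.continuous_coeRingHom, ?_, ?_⟩
  · intro I hI
    have h1 : closure ((↑) '' (I : Set A) : Set (Completion A)) ∈ nhds ((0 : A) : Completion A) :=
      Completion.isDenseInducing_coe.closure_image_mem_nhds (hI.mem_nhds (zero_mem I))
    rw [Completion.coe_zero] at h1
    have h2 : closure ((I.map (Completion.coeRingHom : A →+* Completion A) : Ideal (Completion A)) :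
        Set (Completion A)) ∈ nhds (0 : Completion A) := by
      refine Filter.mem_of_superset h1 (_root_.closure_mono ?_)
      rintro _ ⟨i, hi, rfl⟩
      exact Ideal.mem_map_of_mem _ hi
    rw [← Ideal.coe_closure] at h2 ⊢
    exact AddSubgroup.isOpen_of_mem_nhds
      (Submodule.toAddSubgroup (Ideal.closure (I.map (Completion.coeRingHom : A →+* Completion A)))) h2
  · intro U hU
    obtain ⟨V, hV, hVclosed, hVU⟩ := exists_mem_nhds_isClosed_subset hU
    have hpre : ((↑) ⁻¹' V : Set A) ∈ nhds (0 : A) := by
      apply (Completion.continuous_coe A).continuousAt
      rw [Completion.coe_zero]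
      exact hV
    obtain ⟨I, hIopen, hIV⟩ := (IsLinearTopology.hasBasis_open_ideal (R := A)).mem_iff.mp hpre
    refine ⟨I, hIopen, ?_⟩
    have h1 : closure ((↑) '' (I : Set A) : Set (Completion A)) ⊆ V := by
      rw [hVclosed.closure_subset_iff]
      rintro _ ⟨i, hi, rfl⟩
      exact hIV hi
    calc closure ((I.map (Completion.coeRingHom : A →+* Completion A) : Ideal (Completion A)) :
        Set (Completion A)) ⊆ closure (closure ((↑) '' (I : Set A) : Set (Completion A))) :=
          _root_.closure_mono (map_coe_le_closure_image I)
      _ = closure ((↑) '' (I : Set A) : Set (Completion A)) := closure_closure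
      _ ⊆ V := h1
      _ ⊆ U := hVU

end Groth.Agent.S10162
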