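import Groth.Statements.S10161
import Groth.Agent.Helper1.LinTop
import Groth.Agent.S10162
import Groth.Agent.S10165

set_option autoImplicit false
universe u
open LinTop

namespace Groth.Agent.S10161

open UniformSpace Groth.Agent.S10162 in
/-- The completion of a linearly topologized ring is linearly topologized. -/
theorem isLinearTopology_completion
    (A : Type u) [CommRing A] [UniformSpace A] [IsUniformAddGroup A] [IsTopologicalRing A]
    [IsLinearTopology A A] : IsLinearTopology (Completion A) (Completion A) := by
  -- the ideals `closure (coe '' I)`
  let T : Ideal A → Ideal (Completion A) := fun I =>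
    { carrier := closure ((↑) '' (I : Set A) : Set (Completion A))
      add_mem' := by
        intro y z hy hz
        refine map_mem_closure₂ continuous_add hy hz ?_
        rintro _ ⟨i, hi, rfl⟩ _ ⟨j, hj, rfl⟩
        exact ⟨i + j, I.add_mem hi hj, Completion.coe_add i j⟩
      zero_mem' := subset_closure ⟨0, I.zero_mem, Completion.coe_zero⟩
      smul_mem' := fun b x hx => mul_mem_closure_image I b hx }
  have hbasis : (nhds (0 : Completion A)).HasBasis (fun I : Ideal A => IsOpen (I : Set A))
      (fun I => ((T I : Ideal (Completion A)) : Set (Completion A))) := by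
    refine ⟨fun U => ⟨fun hU => ?_, ?_⟩⟩
    · obtain ⟨V, hV, hVclosed, hVU⟩ := exists_mem_nhds_isClosed_subset hU
      have hpre : ((↑) ⁻¹' V : Set A) ∈ nhds (0 : A) := by
        apply (Completion.continuous_coe A).continuousAt
        rw [Completion.coe_zero]
        exact hV
      obtain ⟨I, hIopen, hIV⟩ := (IsLinearTopology.hasBasis_open_ideal (R := A)).mem_iff.mp hpre
      refine ⟨I, hIopen, subset_trans ?_ hVU⟩
      show closure ((↑) '' (I : Set A) : Set (Completion A)) ⊆ V
      rw [hVclosed.closure_subset_iff]
      rintro _ ⟨i, hi, rfl⟩
      exact hIV hi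
    · rintro ⟨I, hI, hIU⟩
      refine Filter.mem_of_superset ?_ hIU
      have h1 : closure ((↑) '' (I : Set A) : Set (Completion A)) ∈ nhds ((0 : A) : Completion A) :=
        Completion.isDenseInducing_coe.closure_image_mem_nhds (hI.mem_nhds (zero_mem I))
      rw [Completion.coe_zero] at h1
      exact h1
  exact IsLinearTopology.mk_of_hasBasis (Completion A) hbasis

/-- The (separated) completion of a weakly pre-adic linearly topologized ring is weakly adic. -/
theorem result
    (A : Type u) [CommRing A] [UniformSpace A] [IsUniformAddGroup A] [IsTopologicalRing A] [IsLinearTopology A A] (hA : LinTop.IsWeaklyPreadic A) :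
    LinTop.IsWeaklyAdic (UniformSpace.Completion A) := by
  haveI := isLinearTopology_completion A
  exact ⟨Groth.Agent.S10165.result A (UniformSpace.Completion A) _ (Groth.Agent.S10162.result A) hA,
    inferInstance, inferInstance⟩

end Groth.Agent.S10161
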