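import Groth.Statements.S10164
import Groth.Agent.Helper1.AdicComplete
import Groth.Agent.Helper1.LinTop

set_option autoImplicit false
universe u
open LinTop

namespace Groth.Agent.S10164

open Groth.Agent.Helper1.LinTopAux in
/-- Let A be weakly adic and I an ideal of definition of A with I/I₂ finitely generated, where I₂
denotes the closure of I^2 (here: I maps onto a finitely generated ideal of A/I₂). Then A is adic,
and some finitely generated ideal of A is an ideal of definition. -/
theorem result
    (A : Type u) [CommRing A] [UniformSpace A] [IsUniformAddGroup A] [IsTopologicalRing A] (hA : LinTop.IsWeaklyAdic A)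
    (I : Ideal A) (hI : LinTop.IsIdealOfDefinition A I)
    (hfg : (I.map (Ideal.Quotient.mk ((I ^ 2).closure))).FG) :
    LinTop.IsAdicRing A ∧ ∃ J : Ideal A, LinTop.IsIdealOfDefinition A J ∧ J.FG := by
  classical
  obtain ⟨⟨hlin, I₀, hI₀open, hI₀basis⟩, hT2, hcomplete⟩ := hA
  obtain ⟨hIopen, hIbasis⟩ := hI
  -- closures of powers of I are open
  have hcl_open : ∀ n : ℕ, IsOpen (closure ((I ^ n : Ideal A) : Set A)) := by
    intro n
    obtain ⟨m, hm⟩ := hI₀basis (I : Set A) (hIopen.mem_nhds (Ideal.zero_mem _))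
    have hle : (I₀ ^ (m * n) : Ideal A) ≤ I ^ n := by
      rw [pow_mul]; exact Ideal.pow_right_mono (fun x hx => hm (subset_closure hx)) n
    have h2 : (((I₀ ^ (m * n)).closure : Ideal A) : Set A) ⊆ closure ((I ^ n : Ideal A) : Set A) := by
      rw [Ideal.coe_closure]
      exact closure_mono hle
    exact isOpen_closure_of_le h2 (by rw [Ideal.coe_closure]; exact hI₀open (m * n))
  have hcl_basis : ∀ U ∈ nhds (0 : A), ∃ n : ℕ, closure ((I ^ n : Ideal A) : Set A) ⊆ U := by
    intro U hU
    obtain ⟨U', hU'open, hU'⟩ := (IsLinearTopology.hasBasis_open_ideal (R := A)).mem_iff.mp hU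
    obtain ⟨n, -, hn⟩ := hIbasis (U' : Set A) (hU'open.mem_nhds (Ideal.zero_mem _))
    exact ⟨n, (closure_minimal hn (isClosed_of_isOpen hU'open)).trans hU'⟩
  -- choose generators
  set q := Ideal.Quotient.mk ((I ^ 2).closure) with hq
  have hqsurj : Function.Surjective q := Ideal.Quotient.mk_surjective
  obtain ⟨s, hs⟩ := hfg
  have hlift : ∀ y : s, ∃ x ∈ I, q x = (y : A ⧸ (I ^ 2).closure) := by
    intro y
    have : (y : A ⧸ (I ^ 2).closure) ∈ I.map q := by
      rw [← hs]; exact Ideal.subset_span y.2
    exact (Ideal.mem_map_iff_of_surjective q hqsurj).mp this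
  choose lift hl1 hl2 using hlift
  set J : Ideal A := Ideal.span (Set.range lift) with hJ
  have hJfg : J.FG := Submodule.fg_span (Set.finite_range lift)
  have hJI : J ≤ I := by
    rw [hJ, Ideal.span_le]
    rintro _ ⟨y, rfl⟩
    exact hl1 y
  -- I ≤ J ⊔ closure(I^2)
  have hI2 : I ≤ J ⊔ (I ^ 2).closure := by
    intro x hx
    have h1 : q x ∈ I.map q := Ideal.mem_map_of_mem q hx
    have h2 : I.map q ≤ J.map q := by
      rw [← hs, Ideal.span_le]
      intro y hy
      have : q (lift ⟨y, hy⟩) ∈ J.map q :=
        Ideal.mem_map_of_mem q (Ideal.subset_span (Set.mem_range_self _))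
      rw [hl2] at this
      exact this
    obtain ⟨j, hj, hjx⟩ := (Ideal.mem_map_iff_of_surjective q hqsurj).mp (h2 h1)
    have h3 : x - j ∈ (I ^ 2).closure := by
      rw [← Ideal.Quotient.eq_zero_iff_mem, map_sub, hjx, sub_self]
    have : x = j + (x - j) := by ring
    rw [this]
    exact Ideal.add_mem _ (Ideal.mem_sup_left hj) (Ideal.mem_sup_right h3)
  -- I ≤ J ⊔ closure (I^k) for all k ≥ 2
  have hIk : ∀ k : ℕ, I ≤ J ⊔ (I ^ (k + 2)).closure := by
    intro k
    induction k with
    | zero => exact hI2
    | succ k ih =>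
      have hopenK : IsOpen (((J ⊔ (I ^ (k + 1 + 2)).closure : Ideal A)) : Set A) :=
        isOpen_of_le le_sup_right (by rw [Ideal.coe_closure]; exact hcl_open _)
      have hsq : I ^ 2 ≤ J ⊔ (I ^ (k + 1 + 2)).closure := by
        rw [pow_two]
        calc I * I ≤ (J ⊔ (I ^ (k + 2)).closure) * I := Ideal.mul_mono_left ih
          _ = J * I ⊔ (I ^ (k + 2)).closure * I := Ideal.sup_mul _ _ _
          _ ≤ J ⊔ (I ^ (k + 1 + 2)).closure := by
            apply sup_le_sup Ideal.mul_le_left
            calc (I ^ (k + 2)).closure * I ≤ (I ^ (k + 2)).closure * I.closure :=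
                  Ideal.mul_mono_right (fun x hx => subset_closure hx)
              _ ≤ (I ^ (k + 2) * I).closure := closure_mul_le _ _
              _ = (I ^ (k + 1 + 2)).closure := by rw [← pow_succ]
      have hcl : (I ^ 2).closure ≤ J ⊔ (I ^ (k + 1 + 2)).closure := by
        intro x hx
        have hx' : x ∈ closure ((I ^ 2 : Ideal A) : Set A) := by
          rw [← Ideal.coe_closure]; exact hx
        exact closure_minimal hsq (isClosed_of_isOpen hopenK) hx'
      exact hI2.trans (sup_le le_sup_left hcl)
  -- I ≤ closure J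
  have hIJ : I ≤ J.closure := by
    intro x hx
    rw [← SetLike.mem_coe, Ideal.coe_closure, mem_closure_iff_nhds]
    intro t ht
    have h0 : {y : A | x - y ∈ t} ∈ nhds (0 : A) := by
      have hcont : Continuous (fun y : A => x - y) := continuous_const.sub continuous_id
      have : Filter.Tendsto (fun y : A => x - y) (nhds 0) (nhds (x - 0)) := hcont.tendsto 0
      rw [sub_zero] at this
      exact this ht
    obtain ⟨n, hn⟩ := hcl_basis _ h0
    have hx2 : x ∈ J ⊔ (I ^ (n + 2)).closure := hIk n hx
    obtain ⟨j, hj, c, hc, rfl⟩ := Submodule.mem_sup.mp hx2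
    refine ⟨j, ?_, hj⟩
    have hc' : c ∈ closure ((I ^ n : Ideal A) : Set A) := by
      have : c ∈ closure ((I ^ (n + 2) : Ideal A) : Set A) := by
        rw [← Ideal.coe_closure]; exact hc
      exact closure_mono (fun z hz => Ideal.pow_le_pow_right (Nat.le_add_right n 2) hz) this
    have := hn hc'
    simpa using this
  -- closures of powers agree
  have hcl_eq : ∀ n : ℕ, closure ((J ^ n : Ideal A) : Set A) = closure ((I ^ n : Ideal A) : Set A) := by
    intro n
    apply Set.Subset.antisymm
    · exact closure_mono (fun z hz => Ideal.pow_right_mono hJI n hz)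
    · have h1 : I ^ n ≤ (J ^ n).closure :=
        (Ideal.pow_right_mono hIJ n).trans (closure_pow_le J n)
      have : closure ((I ^ n : Ideal A) : Set A) ⊆ (((J ^ n).closure : Ideal A) : Set A) := by
        apply closure_minimal h1
        rw [Ideal.coe_closure]; exact isClosed_closure
      rw [Ideal.coe_closure] at this
      exact this
  have hJadic : IsAdic J := by
    apply Groth.Agent.Helper1.AdicComplete.isAdic A J hJfg
    · intro n; rw [hcl_eq]; exact hcl_open n
    · intro U hU
      obtain ⟨n, hn⟩ := hcl_basis U hU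
      exact ⟨n, by rw [hcl_eq]; exact hn⟩
  refine ⟨⟨⟨J, hJadic⟩, hT2, hcomplete⟩, J, ⟨?_, ?_⟩, hJfg⟩
  · have := (isAdic_iff.mp hJadic).1 1
    rwa [pow_one] at this
  · intro U hU
    obtain ⟨n, hn⟩ := (isAdic_iff.mp hJadic).2 U hU
    exact ⟨n + 1, Nat.succ_pos n, fun z hz => hn (Ideal.pow_le_pow_right (Nat.le_succ n) hz)⟩

end Groth.Agent.S10164
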