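import Groth.Statements.S10166
import Groth.Agent.Helper1.LinTop

set_option autoImplicit false
universe u v
open LinTop

namespace Groth.Agent.S10166

open Groth.Agent.Helper1.LinTopAux in
/-- Let φ : A → B be a taut homomorphism of linearly topologized rings such that for every open ideal I
of A, with J the closure of φ(I)B, the induced map A/I → B/J is faithfully flat. If B has a
countable fundamental system of open ideals, then so does A. -/
theorem result
    (A : Type u) [CommRing A] [TopologicalSpace A] [IsTopologicalRing A] [IsLinearTopology A A]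
    (B : Type v) [CommRing B] [TopologicalSpace B] [IsTopologicalRing B] [IsLinearTopology B B]
    (φ : A →+* B) (hφ : LinTop.IsTautFFlat φ) (hB : (nhds (0 : B)).IsCountablyGenerated) :
    (nhds (0 : A)).IsCountablyGenerated := by
  have hφ' := hφ
  obtain ⟨⟨hcont, h2, h3⟩, hff⟩ := hφ
  obtain ⟨x, hx⟩ := (nhds (0 : B)).exists_antitone_basis
  -- for every n choose an open ideal `I n` of `A` with closure of `φ(I n)B` inside `x n`
  have hch : ∀ n : ℕ, ∃ I : Ideal A, IsOpen (I : Set A) ∧
      closure ((I.map φ : Ideal B) : Set B) ⊆ x n := fun n =>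
    h3 _ (hx.toHasBasis.mem_of_mem trivial)
  choose I hIopen hIx using hch
  refine Filter.HasCountableBasis.isCountablyGenerated
    (s := fun n : ℕ => ((I n : Ideal A) : Set A)) (p := fun _ => True)
    ⟨⟨fun U => ?_⟩, Set.to_countable _⟩
  constructor
  · intro hU
    obtain ⟨J, hJopen, hJU⟩ := (IsLinearTopology.hasBasis_open_ideal (R := A)).mem_iff.mp hU
    obtain ⟨n, _, hn⟩ := hx.toHasBasis.mem_iff.mp
      ((h2 J hJopen).mem_nhds (subset_closure (zero_mem _)))
    refine ⟨n, trivial, subset_trans ?_ hJU⟩
    intro a ha
    apply mem_of_map_mem_closure φ hφ' hJopen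
    exact hn (hIx n (map_mem_closure_of_mem φ ha))
  · rintro ⟨n, _, hn⟩
    exact Filter.mem_of_superset ((hIopen n).mem_nhds (zero_mem _)) hn

end Groth.Agent.S10166
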