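import Groth.Statements.S10167
import Groth.Agent.Helper1.LinTop

set_option autoImplicit false
universe u v
open LinTop

namespace Groth.Agent.S10167

open Groth.Agent.Helper1.LinTopAux Filter in
/-- Let φ : A → B be a taut homomorphism of linearly topologized rings such that for every open ideal I
of A the induced ring map A/I → B/J, where J denotes the closure of φ(I)B, is faithfully flat. If B
has a weak ideal of definition (B is weakly pre-admissible), then so does A. -/
theorem result
    (A : Type u) [CommRing A] [TopologicalSpace A] [IsTopologicalRing A] [IsLinearTopology A A]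
    (B : Type v) [CommRing B] [TopologicalSpace B] [IsTopologicalRing B] [IsLinearTopology B B]
    (φ : A →+* B) (hφ : LinTop.IsTautFFlat φ) (hB : LinTop.IsWeaklyPreadmissible B) :
    LinTop.IsWeaklyPreadmissible A := by
  have hφ' := hφ
  obtain ⟨⟨hcont, h2, h3⟩, hff⟩ := hφ
  obtain ⟨_, J, hJopen, hJnil⟩ := hB
  refine ⟨inferInstance, J.comap φ, ?_, ?_⟩
  · exact hJopen.preimage hcont
  · intro a ha
    have hnil : IsTopologicallyNilpotent (φ a) := hJnil _ ha
    simp only [IsTopologicallyNilpotent,
      atTop_basis.tendsto_iff (IsLinearTopology.hasBasis_open_ideal (R := A)), true_and]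
    intro I' hI'
    have hmem : closure ((I'.map φ : Ideal B) : Set B) ∈ nhds (0 : B) :=
      (h2 I' hI').mem_nhds (subset_closure (zero_mem _))
    obtain ⟨N, hN⟩ := (atTop_basis.mem_iff).mp (hnil hmem)
    refine ⟨N, fun n hn => ?_⟩
    apply mem_of_map_mem_closure φ hφ' hI'
    have := hN.2 hn
    simpa [map_pow] using this

end Groth.Agent.S10167
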