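import Groth.Statements.S10168
import Groth.Agent.Helper1.LinTop

set_option autoImplicit false
universe u v
open LinTop

namespace Groth.Agent.S10168

open Groth.Agent.Helper1.LinTopAux Filter in
/-- Let φ : A → B be a taut homomorphism of linearly topologized rings such that for every open ideal I
of A, with J the closure of φ(I)B, the induced map A/I → B/J is faithfully flat. If B is
pre-admissible, then A is pre-admissible. -/
theorem result
    (A : Type u) [CommRing A] [TopologicalSpace A] [IsTopologicalRing A] [IsLinearTopology A A]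
    (B : Type v) [CommRing B] [TopologicalSpace B] [IsTopologicalRing B] [IsLinearTopology B B]
    (φ : A →+* B) (hφ : LinTop.IsTautFFlat φ) (hB : LinTop.IsPreadmissible B) :
    LinTop.IsPreadmissible A := by
  have hφ' := hφ
  obtain ⟨⟨hcont, h2, h3⟩, hff⟩ := hφ
  obtain ⟨_, J, hJopen, hJpow⟩ := hB
  refine ⟨inferInstance, J.comap φ, ⟨hJopen.preimage hcont, ?_⟩⟩
  intro U hU
  obtain ⟨I', hI'open, hI'U⟩ := (IsLinearTopology.hasBasis_open_ideal (R := A)).mem_iff.mp hU
  have hmem : closure ((I'.map φ : Ideal B) : Set B) ∈ nhds (0 : B) :=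
    (h2 I' hI'open).mem_nhds (subset_closure (zero_mem _))
  obtain ⟨n, hn, hnJ⟩ := hJpow _ hmem
  refine ⟨n, hn, subset_trans ?_ hI'U⟩
  intro a ha
  apply mem_of_map_mem_closure φ hφ' hI'open
  apply hnJ
  have h1 : (J.comap φ) ^ n ≤ (J ^ n).comap φ := Ideal.le_comap_pow φ n
  exact h1 ha

end Groth.Agent.S10168
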