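import Groth.Statements.S10169
import Groth.Agent.Helper1.AdicDescent
import Groth.Agent.Helper1.LinTop

set_option autoImplicit false
universe u v
open LinTop

namespace Groth.Agent.S10169

open Groth.Agent.Helper1.LinTopAux Groth.Agent.Helper1.AdicDescent in
/-- Let φ : A → B be a taut homomorphism of linearly topologized rings such that for every open ideal I
of A the induced ring map A/I → B/J, where J denotes the closure of φ(I)B, is faithfully flat. Weak
pre-adicness then descends: when B is weakly pre-adic, A is as well. -/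
theorem result
    (A : Type u) [CommRing A] [TopologicalSpace A] [IsTopologicalRing A] [IsLinearTopology A A]
    (B : Type v) [CommRing B] [TopologicalSpace B] [IsTopologicalRing B] [IsLinearTopology B B]
    (φ : A →+* B) (hφ : LinTop.IsTautFFlat φ) (hB : LinTop.IsWeaklyPreadic B) :
    LinTop.IsWeaklyPreadic A := by
  classical
  obtain ⟨-, J, hJopen, hJbasis⟩ := hB
  have hφ' := hφ
  obtain ⟨⟨hcont, htopen, htbasis⟩, hff⟩ := hφ'
  -- Step 1: an open ideal I with closure(IB) ⊆ closure(J)
  obtain ⟨I, hIopen, hI⟩ := htbasis (closure ((J ^ 1 : Ideal B) : Set B))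
    ((hJopen 1).mem_nhds (subset_closure (Ideal.zero_mem _)))
  rw [pow_one] at hI
  have hWopen := htopen I hIopen
  obtain ⟨m, hm⟩ := hJbasis _ (hWopen.mem_nhds (subset_closure (Ideal.zero_mem _)))
  -- key lemma (*)
  have hstar : ∀ (S K' : Ideal A), IsOpen (K' : Set A) →
      closure ((K'.map φ : Ideal B) : Set B) ⊆ closure ((S.map φ : Ideal B) : Set B) →
      K' ≤ S.closure := by
    intro S K' _ hK' k hk
    rw [← SetLike.mem_coe, Ideal.coe_closure]
    apply mem_closure_of_forall_mem_sup
    intro L hL
    apply mem_of_map_mem_closure φ hφ (isOpen_of_le le_sup_right hL)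
    exact closure_mono (Ideal.map_mono le_sup_left) (hK' (map_mem_closure_of_mem φ hk))
  -- J^m ≤ closure (IB) as ideals
  have hJm : J ^ m ≤ (I.map φ).closure := fun x hx => by
    rw [← SetLike.mem_coe, Ideal.coe_closure]; exact hm (subset_closure hx)
  have hIJ : I.map φ ≤ J.closure := fun x hx => by
    rw [← SetLike.mem_coe, Ideal.coe_closure]; exact hI (subset_closure hx)
  refine ⟨inferInstance, I, ?_, ?_⟩
  · intro n
    obtain ⟨K'', hK''open, hK''⟩ := htbasis (closure ((J ^ (m * n) : Ideal B) : Set B))
      ((hJopen (m * n)).mem_nhds (subset_closure (Ideal.zero_mem _)))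
    have h1 : closure ((K''.map φ : Ideal B) : Set B) ⊆ closure (((I ^ n).map φ : Ideal B) : Set B) := by
      refine hK''.trans ?_
      have : J ^ (m * n) ≤ ((I ^ n).map φ).closure := by
        rw [pow_mul, Ideal.map_pow]
        exact (Ideal.pow_right_mono hJm n).trans (closure_pow_le _ n)
      have h2 := closure_mono (show ((J ^ (m * n) : Ideal B) : Set B) ⊆ _ from this)
      rwa [Ideal.coe_closure, closure_closure] at h2
    have h2 : K'' ≤ (I ^ n).closure := hstar _ _ hK''open h1
    have h3 : ((K'' : Ideal A) : Set A) ⊆ closure ((I ^ n : Ideal A) : Set A) := by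
      intro x hx
      have := h2 hx
      rwa [← SetLike.mem_coe, Ideal.coe_closure] at this
    exact isOpen_closure_of_le h3 hK''open
  · intro U hU
    obtain ⟨L, hLopen, hL⟩ := (IsLinearTopology.hasBasis_open_ideal (R := A)).mem_iff.mp hU
    have hLB := htopen L hLopen
    obtain ⟨n, hn⟩ := hJbasis _ (hLB.mem_nhds (subset_closure (Ideal.zero_mem _)))
    refine ⟨n, (closure_minimal ?_ (isClosed_of_isOpen hLopen)).trans hL⟩
    intro x hx
    apply mem_of_map_mem_closure φ hφ hLopen
    apply hn
    have h1 : φ x ∈ (I ^ n).map φ := Ideal.mem_map_of_mem φ hx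
    rw [Ideal.map_pow] at h1
    have h2 : (I.map φ) ^ n ≤ (J ^ n).closure :=
      (Ideal.pow_right_mono hIJ n).trans (closure_pow_le J n)
    have h3 := h2 h1
    rwa [← SetLike.mem_coe, Ideal.coe_closure] at h3

end Groth.Agent.S10169
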