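import Groth.Statements.S10170
import Groth.Agent.Helper1.AdicDescent
import Groth.Agent.Helper1.LinTop
import Groth.Agent.S10164

set_option autoImplicit false
universe u v
open LinTop

namespace Groth.Agent.S10170

open Groth.Agent.Helper1.LinTopAux Groth.Agent.Helper1.AdicDescent in
/-- Let φ : A → B be a taut homomorphism of linearly topologized rings such that for every open ideal I
of A the induced ring map A/I → B/J, where J denotes the closure of φ(I)B, is faithfully flat.
Suppose A is Hausdorff and complete, and B is adic with some finitely generated ideal of definition.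
Then A is adic, and some finitely generated ideal of A is an ideal of definition. -/
theorem result
    (A : Type u) [CommRing A] [UniformSpace A] [IsUniformAddGroup A] [IsTopologicalRing A] [IsLinearTopology A A] [T2Space A] [CompleteSpace A]
    (B : Type v) [CommRing B] [UniformSpace B] [IsUniformAddGroup B] [IsTopologicalRing B] (hB : LinTop.IsAdicRing B)
    (hJ : ∃ J : Ideal B, LinTop.IsIdealOfDefinition B J ∧ J.FG)
    (φ : A →+* B) (hφ : LinTop.IsTautFFlat φ) :
    LinTop.IsAdicRing A ∧ ∃ I : Ideal A, LinTop.IsIdealOfDefinition A I ∧ I.FG := by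
  classical
  obtain ⟨⟨J'', hJ''⟩, hBT2, hBcomplete⟩ := hB
  obtain ⟨J, ⟨hJopen, hJbasis⟩, hJfg⟩ := hJ
  have hφ' := hφ
  obtain ⟨⟨hcont, htopen, htbasis⟩, hff⟩ := hφ'
  rw [isAdic_iff] at hJ''
  -- powers of J are open
  have hJpow_open : ∀ n : ℕ, IsOpen ((J ^ n : Ideal B) : Set B) := by
    intro n
    obtain ⟨m, hm⟩ := hJ''.2 (J : Set B) (hJopen.mem_nhds (Ideal.zero_mem _))
    have hle : (J'' ^ m) ^ n ≤ J ^ n := Ideal.pow_right_mono (fun x hx => hm hx) n
    rw [← pow_mul] at hle
    exact isOpen_of_le hle (hJ''.1 (m * n))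
  have hJbasis' : ∀ U ∈ nhds (0 : B), ∃ n : ℕ, ((J ^ n : Ideal B) : Set B) ⊆ U := by
    intro U hU
    obtain ⟨n, -, hn⟩ := hJbasis U hU
    exact ⟨n, hn⟩
  have hna : NonarchimedeanAddGroup B :=
    { is_nonarchimedean := by
        intro U hU
        obtain ⟨n, hn⟩ := hJbasis' U hU
        exact ⟨⟨(J ^ n).toAddSubgroup, hJpow_open n⟩, hn⟩ }
  have hJjac : J ≤ Ideal.jacobson ⊥ := le_jacobson J hJbasis'
  -- Step 1: an open ideal K with closure(KB) ⊆ J
  obtain ⟨K, hKopen, hK⟩ := htbasis (J : Set B) (hJopen.mem_nhds (Ideal.zero_mem _))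
  have hWopen := htopen K hKopen
  obtain ⟨m, -, hm⟩ := hJbasis _ (hWopen.mem_nhds (subset_closure (Ideal.zero_mem _)))
  -- Step 2: Nakayama
  have hNak : J ^ m ≤ K.map φ := by
    apply Submodule.le_of_le_smul_of_le_jacobson_bot (hJfg.pow (n := m)) hJjac
    intro c hc
    have h1 : c ∈ ((K.map φ ⊔ J ^ (m + 1) : Ideal B) : Set B) :=
      closure_le_sup_of_isOpen _ _ (hJpow_open (m + 1)) (hm hc)
    rw [smul_eq_mul, ← pow_succ']
    exact h1
  obtain ⟨K₀, hK₀fg, hK₀K, hK₀⟩ := exists_fg_le_map φ K (hJfg.pow (n := m)) hNak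
  have hW₀J : K₀.map φ ≤ J := fun x hx => hK (subset_closure (Ideal.map_mono hK₀K hx))
  -- key lemma (*)
  have hstar : ∀ (S K' : Ideal A), IsOpen (K' : Set A) →
      closure ((K'.map φ : Ideal B) : Set B) ⊆ ((S.map φ : Ideal B) : Set B) → K' ≤ S.closure := by
    intro S K' _ hK' k hk
    rw [← SetLike.mem_coe, Ideal.coe_closure]
    apply mem_closure_of_forall_mem_sup
    intro L hL
    apply mem_of_map_mem_closure φ hφ (isOpen_of_le le_sup_right hL)
    apply subset_closure
    exact Ideal.map_mono le_sup_left (hK' (map_mem_closure_of_mem φ hk))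
  set I' : Ideal A := K₀.closure with hI'
  have hK₀I' : K₀ ≤ I' := fun x hx => subset_closure hx
  -- (iv) closures of powers of I' are open
  have hcl_open : ∀ n : ℕ, IsOpen (closure ((I' ^ n : Ideal A) : Set A)) := by
    intro n
    obtain ⟨K'', hK''open, hK''⟩ := htbasis ((J ^ (m * n) : Ideal B) : Set B)
      ((hJpow_open (m * n)).mem_nhds (Ideal.zero_mem _))
    have h1 : closure ((K''.map φ : Ideal B) : Set B) ⊆ (((K₀ ^ n).map φ : Ideal B) : Set B) := by
      refine hK''.trans ?_
      rw [pow_mul, Ideal.map_pow]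
      exact fun x hx => Ideal.pow_right_mono hK₀ n hx
    have h2 : K'' ≤ (K₀ ^ n).closure := hstar _ _ hK''open h1
    have h3 : ((K'' : Ideal A) : Set A) ⊆ closure ((I' ^ n : Ideal A) : Set A) := by
      intro x hx
      have := h2 hx
      rw [← SetLike.mem_coe, Ideal.coe_closure] at this
      exact closure_mono (fun y hy => Ideal.pow_right_mono hK₀I' n hy) this
    exact isOpen_closure_of_le h3 hK''open
  -- (iii) I' is open
  have hI'open : IsOpen (I' : Set A) := by
    have := hcl_open 1
    rw [pow_one, hI', Ideal.coe_closure, closure_closure] at this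
    rw [hI', Ideal.coe_closure]
    exact this
  -- (v) φ(I') ⊆ J
  have hI'J : I'.map φ ≤ J := by
    rw [Ideal.map_le_iff_le_comap]
    intro x hx
    rw [Ideal.mem_comap]
    have hx' : x ∈ closure (K₀ : Set A) := by rw [← Ideal.coe_closure]; exact hx
    have h1 : φ x ∈ closure (φ '' (K₀ : Set A)) :=
      image_closure_subset_closure_image hcont ⟨x, hx', rfl⟩
    have h2 : closure (φ '' (K₀ : Set A)) ⊆ (J : Set B) := by
      apply closure_minimal _ (isClosed_of_isOpen hJopen)
      rintro _ ⟨a, ha, rfl⟩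
      exact hW₀J (Ideal.mem_map_of_mem φ ha)
    exact h2 h1
  -- (vi) basis
  have hpow_small : ∀ L : Ideal A, IsOpen (L : Set A) → ∃ n : ℕ, 0 < n ∧ I' ^ n ≤ L := by
    intro L hL
    have hLB := htopen L hL
    obtain ⟨n, hnpos, hn⟩ := hJbasis _ (hLB.mem_nhds (subset_closure (Ideal.zero_mem _)))
    refine ⟨n, hnpos, fun x hx => ?_⟩
    apply mem_of_map_mem_closure φ hφ hL
    apply hn
    have : φ x ∈ (I' ^ n).map φ := Ideal.mem_map_of_mem φ hx
    rw [Ideal.map_pow] at this
    exact Ideal.pow_right_mono hI'J n this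
  have hcl_basis : ∀ U ∈ nhds (0 : A), ∃ n : ℕ, closure ((I' ^ n : Ideal A) : Set A) ⊆ U := by
    intro U hU
    obtain ⟨L, hLopen, hL⟩ := (IsLinearTopology.hasBasis_open_ideal (R := A)).mem_iff.mp hU
    obtain ⟨n, -, hn⟩ := hpow_small L hLopen
    exact ⟨n, (closure_minimal hn (isClosed_of_isOpen hLopen)).trans hL⟩
  have hI'def : LinTop.IsIdealOfDefinition A I' := by
    refine ⟨hI'open, fun U hU => ?_⟩
    obtain ⟨L, hLopen, hL⟩ := (IsLinearTopology.hasBasis_open_ideal (R := A)).mem_iff.mp hU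
    obtain ⟨n, hnpos, hn⟩ := hpow_small L hLopen
    exact ⟨n, hnpos, (show ((I' ^ n : Ideal A) : Set A) ⊆ L from hn).trans hL⟩
  -- Step 6: finite generation mod closure of I'^2
  have hfg : (I'.map (Ideal.Quotient.mk ((I' ^ 2).closure))).FG := by
    have hopen2 : IsOpen (((I' ^ 2).closure : Ideal A) : Set A) := by
      rw [Ideal.coe_closure]; exact hcl_open 2
    have hle : I' ≤ K₀ ⊔ (I' ^ 2).closure := by
      intro x hx
      have hx' : x ∈ closure (K₀ : Set A) := by rw [← Ideal.coe_closure]; exact hx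
      exact closure_le_sup_of_isOpen K₀ _ hopen2 hx'
    have heq : I'.map (Ideal.Quotient.mk ((I' ^ 2).closure)) =
        K₀.map (Ideal.Quotient.mk ((I' ^ 2).closure)) := by
      apply le_antisymm
      · refine (Ideal.map_mono hle).trans ?_
        rw [Ideal.map_sup, Ideal.map_quotient_self, sup_bot_eq]
      · exact Ideal.map_mono hK₀I'
    rw [heq]
    exact hK₀fg.map _
  exact Groth.Agent.S10164.result A ⟨⟨inferInstance, I', hcl_open, hcl_basis⟩, inferInstance, inferInstance⟩
    I' hI'def hfg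

end Groth.Agent.S10170
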