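import Groth.Statements.S10173
import Groth.Agent.Helper1.AdicModule

set_option autoImplicit false
universe u v
open LinTop

namespace Groth.Agent.S10173

open Topology Filter UniformSpace in
open Groth.Agent.Helper1.AdicModule in
/-- Let R be a commutative ring, I a finitely generated ideal and M a topological R-module (additive
uniform structure, each scalar acting uniformly continuously) having an open submodule M' whose
topology is the I-adic one, i.e. the I^n M' are open in M and form a fundamental system of
neighbourhoods of 0. Then the separated completion M^ has an open submodule whose topology is I-adic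
in the same sense, and for every n ≥ 1 the map M → M^/I^n M^ is surjective with kernel I^n M,
identifying M^/I^n M^ with M/I^n M. -/
theorem result
    {R : Type u} [CommRing R] (I : Ideal R) (hI : I.FG)
    {M : Type v} [AddCommGroup M] [Module R M] [UniformSpace M] [IsUniformAddGroup M]
    [UniformContinuousConstSMul R M]
    (M' : Submodule R M) (hopen : ∀ n : ℕ, IsOpen ((I ^ n • M' : Submodule R M) : Set M))
    (hbasis : ∀ U ∈ nhds (0 : M), ∃ n : ℕ, ((I ^ n • M' : Submodule R M) : Set M) ⊆ U) :
    (∃ M'' : Submodule R (UniformSpace.Completion M),
        (∀ n : ℕ, IsOpen ((I ^ n • M'' : Submodule R (UniformSpace.Completion M)) :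
          Set (UniformSpace.Completion M))) ∧
        ∀ U ∈ nhds (0 : UniformSpace.Completion M), ∃ n : ℕ,
          ((I ^ n • M'' : Submodule R (UniformSpace.Completion M)) :
            Set (UniformSpace.Completion M)) ⊆ U) ∧
      ∀ n : ℕ, 0 < n →
        Function.Surjective ((QuotientAddGroup.mk' (I ^ n • ⊤ : Submodule R (UniformSpace.Completion M)).toAddSubgroup).comp
          (UniformSpace.Completion.toCompl : M →+ UniformSpace.Completion M)) ∧
        ((QuotientAddGroup.mk' (I ^ n • ⊤ : Submodule R (UniformSpace.Completion M)).toAddSubgroup).comp
          (UniformSpace.Completion.toCompl : M →+ UniformSpace.Completion M)).ker = (I ^ n • ⊤ : Submodule R M).toAddSubgroup := by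
  classical
  have hsm := fun n => smul_P_eq I M' hopen hbasis hI n
  refine ⟨⟨P I M' 0, fun n => by rw [hsm]; exact P_open I M' hopen n, fun U hU => ?_⟩, ?_⟩
  · obtain ⟨n, hn⟩ := P_small I M' hbasis hU
    exact ⟨n, by rw [hsm]; exact hn⟩
  · intro n _
    have hPle : P I M' n ≤ I ^ n • (⊤ : Submodule R (Completion M)) := by
      rw [← hsm]; exact Submodule.smul_mono le_rfl le_top
    have hdense : ∀ y : Completion M, ∃ m : M, y - (m : Completion M) ∈ P I M' n := by
      intro y
      have hnhds : {z : Completion M | y - z ∈ P I M' n} ∈ 𝓝 y := by
        have hc : Continuous (fun z : Completion M => y - z) := continuous_const.sub continuous_id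
        have : Tendsto (fun z : Completion M => y - z) (𝓝 y) (𝓝 (y - y)) := hc.tendsto y
        rw [sub_self] at this
        exact this (P_mem_nhds I M' hopen n)
      obtain ⟨_, hz, ⟨m, rfl⟩⟩ := mem_closure_iff_nhds.mp (Completion.denseRange_coe y) _ hnhds
      exact ⟨m, hz⟩
    constructor
    · intro z
      obtain ⟨y, rfl⟩ := QuotientAddGroup.mk'_surjective _ z
      obtain ⟨m, hm⟩ := hdense y
      refine ⟨m, ?_⟩
      rw [AddMonoidHom.comp_apply, QuotientAddGroup.mk'_apply, QuotientAddGroup.mk'_apply,
        QuotientAddGroup.eq]
      have : -(Completion.toCompl m) + y = y - (m : Completion M) := by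
        show -(m : Completion M) + y = _
        abel
      rw [this]
      exact hPle hm
    · ext m
      rw [AddMonoidHom.mem_ker, AddMonoidHom.comp_apply, QuotientAddGroup.mk'_apply,
        QuotientAddGroup.eq_zero_iff]
      show (m : Completion M) ∈ I ^ n • (⊤ : Submodule R (Completion M)) ↔
        m ∈ I ^ n • (⊤ : Submodule R M)
      constructor
      · intro hm
        have htop : (⊤ : Submodule R (Completion M)) ≤
            (⊤ : Submodule R M).map (ι (R := R)) ⊔ P I M' 0 := by
          intro y _
          obtain ⟨m₀, hm₀⟩ := hdense y
          have : y = ι (R := R) m₀ + (y - (m₀ : Completion M)) := by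
            rw [ι_apply]; abel
          rw [this]
          exact Submodule.add_mem _ (Submodule.mem_sup_left ⟨m₀, trivial, rfl⟩)
            (Submodule.mem_sup_right (P_anti I M' (Nat.zero_le n) hm₀))
        have h1 : I ^ n • (⊤ : Submodule R (Completion M)) ≤
            (I ^ n • (⊤ : Submodule R M)).map (ι (R := R)) ⊔ P I M' n := by
          refine (Submodule.smul_mono le_rfl htop).trans ?_
          rw [Submodule.smul_sup, hsm, Submodule.map_smul'']
        obtain ⟨_, ⟨m', hm', rfl⟩, p, hp, hsum⟩ := Submodule.mem_sup.mp (h1 hm)
        have hp' : ((m - m' : M) : Completion M) ∈ P I M' n := by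
          have : ((m - m' : M) : Completion M) = p := by
            rw [Completion.coe_sub, ← hsum, ι_apply]; abel
          rw [this]; exact hp
        rw [← SetLike.mem_coe, coe_P] at hp'
        have hind : IsInducing ((↑) : M → Completion M) :=
          (Completion.isUniformInducing_coe M).isInducing
        have h2 : m - m' ∈ closure ((I ^ n • M' : Submodule R M) : Set M) := by
          rw [hind.closure_eq_preimage_closure_image]
          exact hp'
        have hclosed : IsClosed ((I ^ n • M' : Submodule R M) : Set M) :=
          AddSubgroup.isClosed_of_isOpen (I ^ n • M' : Submodule R M).toAddSubgroup (hopen n)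
        rw [hclosed.closure_eq] at h2
        have h3 : m - m' ∈ I ^ n • (⊤ : Submodule R M) := Submodule.smul_mono le_rfl le_top h2
        have : m = m' + (m - m') := by abel
        rw [this]
        exact Submodule.add_mem _ hm' h3
      · intro hm
        have h1 : ι (R := R) m ∈ (I ^ n • (⊤ : Submodule R M)).map (ι (R := R)) := ⟨m, hm, rfl⟩
        rw [Submodule.map_smul''] at h1
        exact Submodule.smul_mono le_rfl le_top h1

end Groth.Agent.S10173
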