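import Groth.Statements.S10181
import Groth.Agent.H25.AlgSp17

set_option autoImplicit false
universe u
open CategoryTheory CategoryTheory.Limits AlgebraicGeometry Topology TopologicalSpace
open AlgSp

namespace Groth.Agent.S10181

/-- Let X be an algebraic space over a scheme S and a : h_U ⟶ X a representable etale map from a scheme
U over S whose underlying scheme is separated. Then a is (representable and) separated, and the
scheme R = U ×_X U representing the fibre product h_U ×_X h_U is separated. -/
theorem result {S : Scheme.{u}} (X : AlgSp.Space S) {U : Over S}
    (a : (AlgSp.yon S).obj U ⟶ X.obj) (ha : AlgSp.RepWith @Etale a) [U.left.IsSeparated] :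
    AlgSp.RepWith @IsSeparated a ∧
      ∀ (R : Over S) (s t : R ⟶ U), IsPullback ((AlgSp.yon S).map t) ((AlgSp.yon S).map s) a a →
        R.left.IsSeparated := by
  have hU : IsSeparated U.hom := inferInstance
  have h1 := Groth.Agent.H25.AS.repWith_isSeparated_of_isSeparated a ha.rep hU
  refine ⟨h1, fun R s t sq => ?_⟩
  have hs : IsSeparated s.left := h1.property a _ s sq
  constructor
  have e : terminal.from R.left = s.left ≫ terminal.from U.left := (terminal.comp_from _).symm
  rw [e]
  infer_instance


end Groth.Agent.S10181
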