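import Groth.Statements.S10182
import Groth.Agent.H25.AlgSp18

set_option autoImplicit false
universe u
open CategoryTheory CategoryTheory.Limits AlgebraicGeometry Topology TopologicalSpace
open AlgSp

namespace Groth.Agent.S10182

/-- Let X be an algebraic space over a scheme S, U a scheme over S whose underlying scheme is
quasi-separated, p : h_U ⟶ X representable etale and surjective, and R a scheme over S with h_R =
h_U ×_X h_U. If one of the two projections R ⟶ U is quasi-compact, then X is quasi-separated over S.
(The published statement concludes absolute quasi-separatedness, i.e. over the integers; this row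
concludes quasi-separatedness of the diagonal over S, which the same argument gives and which the
absolute notion implies.) -/
theorem result {S : Scheme.{u}} (X : AlgSp.Space S) {R U : Over S}
    (p : (AlgSp.yon S).obj U ⟶ X.obj) (hp : AlgSp.RepWith @Etale p) (hs : AlgSp.RepWith @Surjective p)
    [QuasiSeparatedSpace ↥U.left] (s t : R ⟶ U)
    (hR : IsPullback ((AlgSp.yon S).map t) ((AlgSp.yon S).map s) p p) [QuasiCompact t.left] :
    AlgSp.IsQuasiSeparatedSp X.obj := by
  refine Groth.Agent.H25.AS.isQuasiSeparatedSp_of_atlas X.property.diag p hp hs
    fun R' s' t' sq' => ?_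
  have ht' : QuasiCompact t'.left :=
    Groth.Agent.H25.AS.prop_fst_of_isPullback_yon @QuasiCompact hR sq' inferInstance
  have hU : QuasiSeparated U.hom := inferInstance
  have hpr : QuasiSeparated (prod.fst : U ⨯ U ⟶ U).left :=
    Groth.Agent.H25.AS.prop_prod_fst @QuasiSeparated U U hU
  have e : (prod.lift t' s').left ≫ (prod.fst : U ⨯ U ⟶ U).left = t'.left := by
    rw [← Over.comp_left, prod.lift_fst]
  have : QuasiCompact ((prod.lift t' s').left ≫ (prod.fst : U ⨯ U ⟶ U).left) := by
    rw [e]; exact ht'
  exact QuasiCompact.of_comp _ (prod.fst : U ⨯ U ⟶ U).left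


end Groth.Agent.S10182
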