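import Groth.Statements.S10183
import Groth.Agent.H25.AlgSp18

set_option autoImplicit false
universe u
open CategoryTheory CategoryTheory.Limits AlgebraicGeometry Topology TopologicalSpace
open AlgSp

namespace Groth.Agent.S10183

/-- Let X be an algebraic space over a scheme S, a : h_U ⟶ X a representable etale map from a scheme U
over S, and R a scheme over S with h_R = h_U ×_X h_U whose two projections s, t : R ⟶ U are
quasi-compact (for instance if a is quasi-compact). Then the maps |U| → |X| and |R| → |X| have
finite fibres. -/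
theorem result {S : Scheme.{u}} (X : AlgSp.Space S) {R U : Over S}
    (a : (AlgSp.yon S).obj U ⟶ X.obj) (ha : AlgSp.RepWith @Etale a) (s t : R ⟶ U)
    (hR : IsPullback ((AlgSp.yon S).map t) ((AlgSp.yon S).map s) a a)
    [QuasiCompact s.left] [QuasiCompact t.left] (x : AlgSp.Points X.obj) :
    (AlgSp.Points.ofPt a ⁻¹' {x}).Finite ∧
      (AlgSp.Points.ofPt ((AlgSp.yon S).map t ≫ a) ⁻¹' {x}).Finite := by
  have hse : Etale s.left := ha.property a _ s hR
  have hte : Etale t.left := ha.property a _ t hR.flip
  have hsq : LocallyQuasiFinite s.left := Groth.Agent.H25.AS.lqf_of_unramified s.left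
  have htq : LocallyQuasiFinite t.left := Groth.Agent.H25.AS.lqf_of_unramified t.left
  have h1 : (AlgSp.Points.ofPt a ⁻¹' {x}).Finite := by
    by_cases h : ∃ u₀, AlgSp.Points.ofPt a u₀ = x
    · obtain ⟨u₀, rfl⟩ := h
      refine Set.Finite.subset ((s.left.finite_preimage_singleton u₀).image t.left) ?_
      intro u hu
      obtain ⟨v, hv1, hv2⟩ := Groth.Agent.H25.AS.exists_point_of_isPullback' hR u₀ u
        (by rw [Set.mem_preimage, Set.mem_singleton_iff] at hu; exact hu.symm)
      exact ⟨v, hv1, hv2⟩
    · convert Set.finite_empty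
      ext u
      simp only [Set.mem_preimage, Set.mem_singleton_iff, Set.mem_empty_iff_false, iff_false]
      exact fun hu => h ⟨u, hu⟩
  refine ⟨h1, ?_⟩
  have e : AlgSp.Points.ofPt ((AlgSp.yon S).map t ≫ a) ⁻¹' {x} =
      t.left ⁻¹' (AlgSp.Points.ofPt a ⁻¹' {x}) := by
    ext r
    simp only [Set.mem_preimage, Set.mem_singleton_iff]
    rw [Groth.Agent.H25.AS.ofPt_map_comp]
  rw [e]
  exact h1.preimage' fun b _ => t.left.finite_preimage_singleton b


end Groth.Agent.S10183
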