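import Groth.Statements.S10184
import Groth.Agent.H25.AlgSp18

set_option autoImplicit false
universe u
open CategoryTheory CategoryTheory.Limits AlgebraicGeometry Topology TopologicalSpace
open AlgSp

namespace Groth.Agent.S10184

/-- Let X be an algebraic space over a scheme S such that for all affine schemes U, V over S mapping to
X, every scheme P over S representing h_U ×_X h_V is quasi-compact. Then X is quasi-separated over
S. (The published statement is about absolute quasi-separatedness, over the integers, which this
hypothesis also gives and which implies quasi-separatedness over S.) -/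
theorem result {S : Scheme.{u}} (X : AlgSp.Space S)
    (h : ∀ (U V P : Over S) (a : (AlgSp.yon S).obj U ⟶ X.obj) (b : (AlgSp.yon S).obj V ⟶ X.obj)
      (fst : P ⟶ U) (snd : P ⟶ V),
      IsAffine U.left → IsAffine V.left →
      IsPullback ((AlgSp.yon S).map fst) ((AlgSp.yon S).map snd) a b → CompactSpace ↥P.left) :
    AlgSp.IsQuasiSeparatedSp X.obj := by
  refine Groth.Agent.H25.AS.repWith_quasiCompact_of_isQuasiCompactMor _ X.property.diag
    (Groth.Agent.H25.AS.isQuasiCompactMor_of_affine _ ?_)
  intro Z hZ g P fst snd sq
  have hg : g = prod.lift (g ≫ prod.fst) (g ≫ prod.snd) := by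
    apply Limits.prod.hom_ext
    · rw [prod.lift_fst]
    · rw [prod.lift_snd]
  have hr := X.property.representable_from_yon (g ≫ prod.fst)
  have sqW := hr.isPullback' (g ≫ prod.snd)
  have hWc : CompactSpace (hr.pullback (g ≫ prod.snd)).left :=
    h Z Z _ (g ≫ prod.fst) (g ≫ prod.snd) _ _ hZ hZ sqW
  rw [hg] at sq
  obtain ⟨l, hl⟩ := Groth.Agent.H25.AS.isPullback_diag_of_prod_lift sqW sq
  have hZs : IsSeparated Z.hom := inferInstance
  have hd : AlgSp.RepWith @QuasiCompact (Limits.diag ((AlgSp.yon S).obj Z)) :=
    (AlgSp.repWith_diag_yon_iff @QuasiCompact Z).2 inferInstance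
  exact Groth.Agent.H25.AS.isQuasiCompactSp_of_repWith_quasiCompact l
    (Groth.Agent.H25.AS.repWith_fst_of_isPullback hl hd)
    ((Groth.Agent.H25.AS.isQuasiCompactSp_yon_iff _).2 hWc)


end Groth.Agent.S10184
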