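import Groth.Statements.S10188
import Groth.Agent.H25.AlgSp18

set_option autoImplicit false
universe u
open CategoryTheory CategoryTheory.Limits AlgebraicGeometry Topology TopologicalSpace
open AlgSp

namespace Groth.Agent.S10188

/-- Let P be a property of schemes that is local in the etale topology (for every scheme V and every
etale covering family of V, V has P if and only if all members have P), and let X be an algebraic
space over a scheme S. Then X has P etale locally (some surjective etale chart from a scheme with P)
if and only if every scheme admitting a representable etale map to X has P. -/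
theorem result {S : Scheme.{u}} (P : Scheme.{u} → Prop)
    (hP : ∀ (V : Scheme.{u}) (𝒰 : Scheme.Cover.{u} (Scheme.precoverage @Etale) V), P V ↔ ∀ i, P (𝒰.X i))
    (X : AlgSp.Space S) :
    AlgSp.EtaleLocally P X.obj ↔
      ∀ (U : Over S) (a : (AlgSp.yon S).obj U ⟶ X.obj), AlgSp.RepWith @Etale a → P U.left := by
  constructor
  · rintro ⟨W, p, hpe, hps, hPW⟩ U a hae
    have sq := hpe.rep.isPullback' a
    have h1 : Etale (hpe.rep.snd a).left := hpe.property_snd a
    have h2 : Surjective (hpe.rep.snd a).left := hps.property a _ _ sq
    have h3 : Etale (hpe.rep.fst' a).left := hae.property p _ _ sq.flip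
    -- the fibre product has `P`
    let 𝒰 : Scheme.Cover.{u} (Scheme.precoverage @Etale) W.left :=
      Scheme.Cover.mkOfCovers (ULift.{u} Bool)
        (fun i => if i.down then (hpe.rep.pullback a).left else W.left)
        (fun i => match i with
          | ⟨true⟩ => (hpe.rep.fst' a).left
          | ⟨false⟩ => 𝟙 W.left)
        (fun x => ⟨⟨false⟩, x, rfl⟩)
        (fun i => match i with
          | ⟨true⟩ => h3
          | ⟨false⟩ => (inferInstance : Etale (𝟙 W.left)))
    have hR : P (hpe.rep.pullback a).left := (hP W.left 𝒰).1 hPW ⟨true⟩
    let 𝒱 : Scheme.Cover.{u} (Scheme.precoverage @Etale) U.left :=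
      Scheme.Cover.mkOfCovers PUnit.{u+1} (fun _ => (hpe.rep.pullback a).left)
        (fun _ => (hpe.rep.snd a).left)
        (fun x => ⟨⟨⟩, h2.surj x⟩)
        (fun _ => h1)
    exact (hP U.left 𝒱).2 fun _ => hR
  · intro h
    obtain ⟨U, p, hpe, hps⟩ := X.property.atlas
    exact ⟨U, p, hpe, hps, h U p hpe⟩


end Groth.Agent.S10188
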