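import Groth.Statements.S10190
import Groth.Agent.H25.AlgSp92
open Groth.Agent.H25 Groth.Agent.H25.AS

set_option autoImplicit false
universe u
open CategoryTheory CategoryTheory.Limits AlgebraicGeometry Topology TopologicalSpace
open AlgSp

namespace Groth.Agent.S10190

/-- For an algebraic space X over a scheme S, the set of codimension 0 points of X (points x of |X| such
that, for some representable etale h_U ⟶ X from a scheme U and some point u of U mapping to x, the
local ring of U at u has dimension 0) is dense in |X|. -/
theorem result {S : Scheme.{u}} (X : AlgSp.Space S) :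
    Dense {x : AlgSp.Points X.obj |
      AlgSp.HasAt (fun U u => ringKrullDim ↥(U.presheaf.stalk u) = 0) X.obj x} := by

  rw [dense_iff_inter_open]
  intro N hN hNne
  obtain ⟨x, hx⟩ := hNne
  obtain ⟨U, a, hae, has⟩ := X.property.atlas
  obtain ⟨u, rfl⟩ := ofPt_surjective a has x
  obtain ⟨u', hu'u, hu'0⟩ := exists_generization_stalk_dim_zero u
  have hopen : IsOpen (AlgSp.Points.ofPt a ⁻¹' N) := hN.preimage (AlgSp.Points.continuous_ofPt a)
  have hu'N : u' ∈ AlgSp.Points.ofPt a ⁻¹' N := hu'u.mem_open hopen hx
  exact ⟨AlgSp.Points.ofPt a u', hu'N, U, a, u', hae, rfl, hu'0⟩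


end Groth.Agent.S10190
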