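import Groth.Statements.S10196
import Groth.Agent.H25.AlgSp46
open Groth.Agent.H25

set_option autoImplicit false
universe u
open CategoryTheory CategoryTheory.Limits AlgebraicGeometry Topology TopologicalSpace
open AlgSp

namespace Groth.Agent.S10196

/-- Let X be an algebraic space over a scheme S, a : h_U ⟶ X a representable etale map from a scheme U
over S, and X' ⟶ X the open subspace whose image in |X| is the (open) image of U. Then a factors
through a representable etale and surjective a' : h_U ⟶ X', and if R is a scheme over S with h_R =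
h_U ×_X h_U then also h_R = h_U ×_{X'} h_U and (U, R, a') is a presentation of X'. -/
theorem result {S : Scheme.{u}} {X X' : AlgSp.Space S} {U : Over S}
    (a : (AlgSp.yon S).obj U ⟶ X.obj) (ha : AlgSp.RepWith @Etale a)
    (j : X' ⟶ X) (hj : AlgSp.RepWith @IsOpenImmersion j.hom)
    (himage : Set.range (AlgSp.Points.map j.hom) = Set.range (AlgSp.Points.ofPt a)) :
    ∃ a' : (AlgSp.yon S).obj U ⟶ X'.obj, a' ≫ j.hom = a ∧ AlgSp.RepWith @Etale a' ∧ AlgSp.RepWith @Surjective a' ∧
      ∀ (R : Over S) (s t : R ⟶ U), IsPullback ((AlgSp.yon S).map t) ((AlgSp.yon S).map s) a a →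
        AlgSp.IsPresentation s t a' := by
  have hm := AS.mono_of_isOpenImmersion j.hom hj
  have hofPt : ∀ u : ↥U.left, AlgSp.Points.ofPt a u ∈ Set.range (AlgSp.Points.map j.hom) := by
    intro u; rw [himage]; exact ⟨u, rfl⟩
  obtain ⟨a', ha'⟩ := AS.exists_factor_of_range_subset j.hom hj a (by
    rintro _ ⟨x, rfl⟩
    obtain ⟨u, rfl⟩ := AS.exists_ofScheme x
    rw [AlgSp.Points.map_ofPt, Category.id_comp]
    exact hofPt u)
  have hae : AlgSp.RepWith @Etale a' :=
    AS.repWith_snd_of_isPullback (AS.isPullback_of_mono_factor a j.hom a' ha') ha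
  have has : AlgSp.RepWith @Surjective a' := by
    refine AS.repWith_surjective_of_isSurjectiveMor a' hae.rep ?_
    intro x
    have h1 : AlgSp.Points.map j.hom x ∈ Set.range (AlgSp.Points.ofPt a) := by
      rw [← himage]; exact ⟨x, rfl⟩
    obtain ⟨u, hu⟩ := h1
    refine ⟨AlgSp.Points.ofScheme U u, AS.injective_map_of_isOpenImmersion j.hom hj ?_⟩
    rw [← AlgSp.Points.map_comp, ha', AlgSp.Points.map_ofPt, Category.id_comp, hu]
  refine ⟨a', ha', hae, has, fun R s t sq => ?_⟩
  have sq' : IsPullback ((AlgSp.yon S).map t) ((AlgSp.yon S).map s) a' a' := by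
    apply AS.isPullback_of_comp_mono (m := j.hom)
    rw [ha']; exact sq
  exact ⟨AS.isEtaleEqvRel_of_isPullback s t a ha sq, hae, has, sq'⟩

end Groth.Agent.S10196
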