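import Groth.Statements.S10202
import Groth.Agent.H25.AlgSp43

set_option autoImplicit false
universe u
open CategoryTheory CategoryTheory.Limits AlgebraicGeometry Topology TopologicalSpace
open AlgSp

namespace Groth.Agent.S10202

/-- If X is a locally Noetherian algebraic space over a scheme S, then the space |X| is locally
Noetherian: every point of |X| has an open neighbourhood which is a Noetherian topological space in
the induced topology. -/
theorem result {S : Scheme.{u}} (X : AlgSp.Space S)
    (hX : AlgSp.IsLocNoethSp X.obj) (x : AlgSp.Points X.obj) :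
    ∃ W : Set (AlgSp.Points X.obj), IsOpen W ∧ x ∈ W ∧ NoetherianSpace ↥W := by
  obtain ⟨U, p, hpe, hps, hU⟩ := hX
  have h2 : IsLocallyNoetherian U.left := hU
  obtain ⟨u, rfl⟩ := Groth.Agent.H25.AS.ofPt_surjective p hps x
  obtain ⟨_, ⟨V, hV, rfl⟩, huV, -⟩ :=
    U.left.isBasis_affineOpens.exists_subset_of_mem_open (Set.mem_univ u) isOpen_univ
  have h3 : IsNoetherianRing Γ(U.left, V) :=
    IsLocallyNoetherian.component_noetherian (X := U.left) ⟨V, hV⟩
  have h4 : TopologicalSpace.NoetherianSpace ↥V := noetherianSpace_of_isAffineOpen V hV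
  refine ⟨Set.range (fun v : ↥V => Points.ofPt p v.1), ?_, ⟨⟨u, huV⟩, rfl⟩, ?_⟩
  · have e : Set.range (fun v : ↥V => Points.ofPt p v.1) = Points.ofPt p '' (V : Set ↥U.left) := by
      ext y
      constructor
      · rintro ⟨v, rfl⟩
        exact ⟨v.1, v.2, rfl⟩
      · rintro ⟨v, hv, rfl⟩
        exact ⟨⟨v, hv⟩, rfl⟩
    rw [e]
    exact Groth.Agent.H25.AS.isOpenMap_ofPt p hpe _ V.isOpen
  · exact TopologicalSpace.NoetherianSpace.range _
      ((Points.continuous_ofPt p).comp continuous_subtype_val)


end Groth.Agent.S10202
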