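import Groth.Statements.S10203
import Groth.Agent.H25.AlgSp43

set_option autoImplicit false
universe u
open CategoryTheory CategoryTheory.Limits AlgebraicGeometry Topology TopologicalSpace
open AlgSp

namespace Groth.Agent.S10203

/-- If X is a quasi-compact, locally Noetherian algebraic space over a scheme S, then |X| is a
Noetherian topological space. -/
theorem result {S : Scheme.{u}} (X : AlgSp.Space S)
    (hqc : AlgSp.IsQuasiCompactSp X.obj) (hX : AlgSp.IsLocNoethSp X.obj) :
    NoetherianSpace (AlgSp.Points X.obj) := by
  obtain ⟨U, p, hpe, hps, hU⟩ := hqc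
  have h1 : CompactSpace U.left := hU
  have h2 : IsLocallyNoetherian U.left := Groth.Agent.H25.AS.isLocallyNoetherian_of_chart hX p hpe
  have h3 : IsNoetherian U.left := {}
  have h4 : TopologicalSpace.NoetherianSpace U.left := inferInstance
  exact TopologicalSpace.noetherianSpace_of_surjective (Points.ofPt p) (Points.continuous_ofPt p)
    (Groth.Agent.H25.AS.ofPt_surjective p hps)


end Groth.Agent.S10203
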