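import Groth.Statements.S10210
import Groth.Agent.H25.AlgSp31

set_option autoImplicit false
universe u
open CategoryTheory CategoryTheory.Limits AlgebraicGeometry Topology TopologicalSpace
open AlgSp

namespace Groth.Agent.S10210

/-- Let X, Y, Z be algebraic spaces over a scheme S, g : X ⟶ Z and h : Y ⟶ Z etale morphisms and f : X ⟶
Y a morphism with f ≫ h = g. Then f is etale. -/
theorem result {S : Scheme.{u}} {X Y Z : AlgSp.Space S} (f : X ⟶ Y) (h : Y ⟶ Z) (g : X ⟶ Z)
    (w : f ≫ h = g) (hg : AlgSp.IsEtaleMor g.hom) (hh : AlgSp.IsEtaleMor h.hom) :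
    AlgSp.IsEtaleMor f.hom := by
  have hg' : LocP @Etale (f ≫ h).hom := by
    rw [w]
    exact Groth.Agent.H25.AS.locP_of_isEtaleMor (fun _ h => h) hg
  have hh' : LocP @Etale h.hom := Groth.Agent.H25.AS.locP_of_isEtaleMor (fun _ h => h) hh
  exact Groth.Agent.H25.AS.isEtaleMor_of_locP Y.property f.hom
    (Groth.Agent.H25.AS.locP_cancel Groth.Agent.H25.AS.etLoc_etale (fun a b hb hab => Groth.Agent.H25.AS.etLoc_etale.cancel a b hb hab)
      X.property Y.property Z.property f.hom h.hom hh' hg')


end Groth.Agent.S10210
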