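import Groth.Statements.S10212
import Groth.Agent.H25.AlgSp31

set_option autoImplicit false
universe u
open CategoryTheory CategoryTheory.Limits AlgebraicGeometry Topology TopologicalSpace
open AlgSp

namespace Groth.Agent.S10212

/-- Let X be an algebraic space over a scheme S, χ : U ⟶ U' a surjective etale morphism of schemes over
S and φ' : h_{U'} ⟶ X a map such that the composite h_χ ≫ φ' : h_U ⟶ X is (representable and) etale.
Then φ' is etale. -/
theorem result {S : Scheme.{u}} (X : AlgSp.Space S) {U U' : Over S}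
    (χ : U ⟶ U') [Etale χ.left] [Surjective χ.left] (φ' : (AlgSp.yon S).obj U' ⟶ X.obj)
    (h : AlgSp.RepWith @Etale ((AlgSp.yon S).map χ ≫ φ')) :
    AlgSp.RepWith @Etale φ' := by
  have h1 : LocP @Etale ((AlgSp.yon S).map χ ≫ φ') := Groth.Agent.H25.AS.locP_of_repWith (fun _ h => h) h
  have hχ : RepWith @Etale ((AlgSp.yon S).map χ) := (repWith_yon_map_iff _ _).2 inferInstance
  have hχs : RepWith @Surjective ((AlgSp.yon S).map χ) := (repWith_yon_map_iff _ _).2 inferInstance
  have h2 : LocP @Etale φ' := Groth.Agent.H25.AS.locP_of_comp_etale_surjective Groth.Agent.H25.AS.etLoc_etale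
    (IsAlgSpace.yon_obj U) (IsAlgSpace.yon_obj U') X.property ((AlgSp.yon S).map χ)
    (Groth.Agent.H25.AS.locP_of_repWith (fun _ h => h) hχ) (Groth.Agent.H25.AS.isSurjectiveMor_of_repWith _ hχs) φ' h1
  exact Groth.Agent.H25.AS.repWith_of_locP Groth.Agent.H25.AS.etLoc_etale X.property φ' (X.property.representable_from_yon φ') h2


end Groth.Agent.S10212
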