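import Groth.Statements.S10213
import Groth.Agent.H25.AlgSp108
open Groth.Agent.H25 Groth.Agent.H25.AS

set_option autoImplicit false
universe u
open CategoryTheory CategoryTheory.Limits AlgebraicGeometry Topology TopologicalSpace
open AlgSp

namespace Groth.Agent.S10213

/-- For an algebraic space X over a scheme S there is a surjective etale map h_U ⟶ X where U is a
disjoint union of affine schemes, each of which maps into an affine open of S. -/
theorem result {S : Scheme.{u}} (X : AlgSp.Space S) :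
    ∃ (ι : Type u) (V : ι → Scheme.{u}) (_ : ∀ i, IsAffine (V i)) (q : (∐ V) ⟶ S)
      (p : (AlgSp.yon S).obj (Over.mk q) ⟶ X.obj),
      AlgSp.RepWith @Etale p ∧ AlgSp.RepWith @Surjective p ∧
        ∀ i, ∃ W : S.Opens, IsAffineOpen W ∧ ∀ v : ↥(V i), (Sigma.ι V i ≫ q) v ∈ W := by
  obtain ⟨U, a, hae, has⟩ := X.property.atlas
  have hW : ∀ u : ↥U.left, ∃ W : S.Opens, IsAffineOpen W ∧ U.hom u ∈ W := fun u => by
    obtain ⟨W, hW, hu, -⟩ := exists_isAffineOpen_mem_and_subset (X := S) (x := U.hom u)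
      (U := ⊤) trivial
    exact ⟨W, hW, hu⟩
  choose W hWa hWu using hW
  have hV : ∀ u : ↥U.left, ∃ V : U.left.Opens, IsAffineOpen V ∧ u ∈ V ∧ V.1 ⊆ U.hom ⁻¹ᵁ (W u) :=
    fun u => exists_isAffineOpen_mem_and_subset (X := U.left) (x := u) (U := U.hom ⁻¹ᵁ (W u))
      (hWu u)
  choose V hVa hVu hVW using hV
  let σ : (∐ fun u : ↥U.left => ((V u : U.left.Opens) : Scheme.{u})) ⟶ U.left :=
    Sigma.desc fun u => (V u).ι
  have hσe : Etale σ := IsZariskiLocalAtSource.sigmaDesc (P := @Etale) (fun u => inferInstance)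
  have hσs : Surjective σ := by
    apply Surjective.sigmaDesc_of_union_range_eq_univ
    rw [Set.eq_univ_iff_forall]
    intro u
    rw [Set.mem_iUnion]
    exact ⟨u, ⟨⟨u, hVu u⟩, rfl⟩⟩
  let φ : Over.mk (σ ≫ U.hom) ⟶ U := Over.homMk σ rfl
  refine ⟨↥U.left, fun u => ((V u : U.left.Opens) : Scheme.{u}), fun u => hVa u, σ ≫ U.hom,
    (AlgSp.yon S).map φ ≫ a, ?_, ?_, ?_⟩
  · exact repWith_etale_comp ((AlgSp.repWith_yon_map_iff @Etale φ).2 hσe) hae
  · exact repWith_surjective_comp ((AlgSp.repWith_yon_map_iff @Surjective φ).2 hσs) has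
  · intro u
    refine ⟨W u, hWa u, fun v => ?_⟩
    have e : Sigma.ι (fun u : ↥U.left => ((V u : U.left.Opens) : Scheme.{u})) u ≫ σ ≫ U.hom =
        (V u).ι ≫ U.hom := by
      rw [← Category.assoc, Sigma.ι_desc]
    rw [e, Scheme.Hom.comp_apply]
    exact hVW u v.2


end Groth.Agent.S10213
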