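import Groth.Statements.S10214
import Groth.Agent.H25.AlgSp108
open Groth.Agent.H25 Groth.Agent.H25.AS

set_option autoImplicit false
universe u
open CategoryTheory CategoryTheory.Limits AlgebraicGeometry Topology TopologicalSpace
open AlgSp

namespace Groth.Agent.S10214

/-- Every algebraic space X over a scheme S has a Zariski covering by open subspaces X_i such that each
X_i has a surjective etale map from an affine scheme; moreover the affine schemes may be taken to
map into affine opens of S. -/
theorem result {S : Scheme.{u}} (X : AlgSp.Space S) :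
    ∃ (ι : Type u) (Xi : ι → AlgSp.Space S) (j : ∀ i, Xi i ⟶ X),
      AlgSp.IsZarCover (fun i => (Xi i).obj) (fun i => (j i).hom) ∧
        ∀ i, ∃ (U : Over S) (p : (AlgSp.yon S).obj U ⟶ (Xi i).obj), IsAffine U.left ∧
          AlgSp.RepWith @Etale p ∧ AlgSp.RepWith @Surjective p ∧
          ∃ W : S.Opens, IsAffineOpen W ∧ ∀ v : ↥U.left, U.hom v ∈ W := by
  obtain ⟨U, a, hae, has⟩ := X.property.atlas
  have hW : ∀ u : ↥U.left, ∃ W : S.Opens, IsAffineOpen W ∧ U.hom u ∈ W := fun u => by
    obtain ⟨W, hW, hu, -⟩ := exists_isAffineOpen_mem_and_subset (X := S) (x := U.hom u)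
      (U := ⊤) trivial
    exact ⟨W, hW, hu⟩
  choose W hWa hWu using hW
  have hV : ∀ u : ↥U.left, ∃ V : U.left.Opens, IsAffineOpen V ∧ u ∈ V ∧ V.1 ⊆ U.hom ⁻¹ᵁ (W u) :=
    fun u => exists_isAffineOpen_mem_and_subset (X := U.left) (x := u) (U := U.hom ⁻¹ᵁ (W u))
      (hWu u)
  choose V hVa hVu hVW using hV
  have hopen : ∀ u : ↥U.left, IsOpen (AlgSp.Points.ofPt a '' (V u : Set ↥U.left)) :=
    fun u => isOpenMap_ofPt a hae _ (V u).2
  refine ⟨↥U.left,
    fun u => ⟨openSp X.obj (AlgSp.Points.ofPt a '' (V u : Set ↥U.left)),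
      isAlgSpace_openSp X.property (hopen u)⟩,
    fun u => ObjectProperty.homMk (openSpι X.obj (AlgSp.Points.ofPt a '' (V u : Set ↥U.left))),
    ⟨fun u => repWith_isOpenImmersion_openSpι (hopen u), fun x => ?_⟩, fun u => ?_⟩
  · obtain ⟨u, rfl⟩ := ofPt_surjective a has x
    refine ⟨u, ?_⟩
    change AlgSp.Points.ofPt a u ∈ Set.range (AlgSp.Points.map (openSpι X.obj _))
    rw [range_map_openSpι (hopen u)]
    exact ⟨u, hVu u, rfl⟩
  · set T := openOver U (V u) with hT
    set g := (AlgSp.yon S).map (openIncl U (V u)) ≫ a with hg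
    have hge : AlgSp.RepWith @Etale g := repWith_etale_comp (repWith_etale_openIncl U (V u)) hae
    obtain ⟨top, sq⟩ := exists_isPullback_openSp (AlgSp.Points.ofPt a '' (V u : Set ↥U.left)) g
      (⊤ : T.left.Opens) (fun t => by
        constructor
        · intro _
          rw [hg, ofPt_map_comp]
          exact ⟨t.1, t.2, rfl⟩
        · intro _; trivial)
    have htope : AlgSp.RepWith @Etale top := repWith_fst_of_isPullback sq hge
    have htops : AlgSp.RepWith @Surjective top := by
      refine repWith_surjective_of_isSurjectiveMor top htope.rep ?_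
      intro x'
      have hx' : AlgSp.Points.map (openSpι X.obj (AlgSp.Points.ofPt a '' (V u : Set ↥U.left))) x' ∈
          AlgSp.Points.ofPt a '' (V u : Set ↥U.left) :=
        (range_map_openSpι (hopen u)).le ⟨x', rfl⟩
      obtain ⟨v, hv, hvx⟩ := hx'
      have e : AlgSp.Points.ofPt g (⟨v, hv⟩ : ↥(V u)) =
          AlgSp.Points.map (openSpι X.obj (AlgSp.Points.ofPt a '' (V u : Set ↥U.left))) x' := by
        rw [hg, ofPt_map_comp]; exact hvx
      obtain ⟨w, -, hw⟩ := exists_point_of_isPullback sq (⟨v, hv⟩ : ↥(V u)) x' e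
      exact ⟨AlgSp.Points.ofScheme _ w, (AlgSp.Points.ofPt_eq_map_ofScheme top w).symm.trans hw⟩
    refine ⟨openOver T ⊤, top, ?_, htope, htops, W u, hWa u, fun v => ?_⟩
    · haveI : IsAffine T.left := hVa u
      exact isAffineOpen_top T.left
    · exact hVW u (v.1 : ↥(V u)).2


end Groth.Agent.S10214
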