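import Groth.Statements.S10215
import Groth.Agent.H25.AlgSp60
open Groth.Agent.H25 Groth.Agent.H25.AS

set_option autoImplicit false
universe u
open CategoryTheory CategoryTheory.Limits AlgebraicGeometry Topology TopologicalSpace
open AlgSp

namespace Groth.Agent.S10215

/-- Let X be an algebraic space over a scheme S and p : Spec K ⟶ X, q : Spec L ⟶ X morphisms from
spectra of fields over S which determine the same point of |X|, with p a monomorphism. Then q
factors uniquely through p. -/
theorem result {S : Scheme.{u}} (X : AlgSp.Space S) (p q : AlgSp.FieldPt X.obj)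
    (h : AlgSp.Points.mk p = AlgSp.Points.mk q) [Mono p.toHom] :
    ∃! c : q.pt ⟶ p.pt, (AlgSp.yon S).map c ≫ p.toHom = q.toHom := by
  rw [AlgSp.Points.mk_eq_mk_iff] at h
  obtain ⟨Ω, _, w, a, b, hab⟩ := h
  have hab' : (AlgSp.yon S).map b ≫ q.toHom = (AlgSp.yon S).map a ≫ p.toHom := by
    apply (AlgSp.J S).uliftYonedaEquiv.injective
    rw [GrothendieckTopology.uliftYonedaEquiv_comp, GrothendieckTopology.uliftYonedaEquiv_comp]
    rw [GrothendieckTopology.uliftYonedaEquiv_uliftYoneda_map,
      GrothendieckTopology.uliftYonedaEquiv_uliftYoneda_map]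
    exact (q.toHom_app b).trans (hab.symm.trans (p.toHom_app a).symm)
  have sq := IsPullback.of_hasPullback q.toHom p.toHom
  have hZ : AlgSp.IsAlgSpace (pullback q.toHom p.toHom) :=
    AS.isAlgSpace_of_isPullback X.property.diag (AlgSp.IsAlgSpace.yon_obj _) (AlgSp.IsAlgSpace.yon_obj _) sq
  haveI : Mono (pullback.fst q.toHom p.toHom) := inferInstance
  let l : (AlgSp.yon S).obj (Over.mk w) ⟶ pullback q.toHom p.toHom :=
    pullback.lift ((AlgSp.yon S).map b) ((AlgSp.yon S).map a) hab'
  have hne : Nonempty (AlgSp.Points (pullback q.toHom p.toHom)) :=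
    ⟨AlgSp.Points.ofPt l (default : ↥(Spec (CommRingCat.of Ω)))⟩
  haveI : IsIso (pullback.fst q.toHom p.toHom) := AS.isIso_of_mono_to_field q.str hZ _ hne
  obtain ⟨c, hc⟩ := (AlgSp.yon S).map_surjective (inv (pullback.fst q.toHom p.toHom) ≫ pullback.snd q.toHom p.toHom)
  refine ⟨c, ?_, ?_⟩
  · show (AlgSp.yon S).map c ≫ p.toHom = q.toHom
    rw [hc, Category.assoc, ← pullback.condition, IsIso.inv_hom_id_assoc]
  · intro c' hc'
    apply (AlgSp.yon S).map_injective
    rw [← cancel_mono p.toHom]
    rw [hc, Category.assoc, ← pullback.condition, IsIso.inv_hom_id_assoc]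
    exact hc'


end Groth.Agent.S10215
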