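import Groth.Statements.S10219
import Groth.Agent.H25.StalkEt6
open Groth.Agent.H25 Groth.Agent.H25.AS

set_option autoImplicit false
universe u
open CategoryTheory CategoryTheory.Limits AlgebraicGeometry Topology TopologicalSpace
open AlgSp

namespace Groth.Agent.S10219

/-- For an algebraic space X over a scheme S and a geometric point x̄ of X, the stalk functors F ↦ F_x̄
on sheaves of sets and on abelian sheaves on the small etale site of X are exact (they preserve
finite limits and finite colimits). -/
theorem result {S : Scheme.{u}} (X : AlgSp.Space S) (p : AlgSp.FieldPt X.obj) (hp : p.IsGeometric) :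
    (PreservesFiniteLimits (AlgSp.stalkEtFunctor (Type (u + 1)) p) ∧
      PreservesFiniteColimits (AlgSp.stalkEtFunctor (Type (u + 1)) p)) ∧
    (PreservesFiniteLimits (AlgSp.stalkEtFunctor AddCommGrpCat.{u + 1} p) ∧
      PreservesFiniteColimits (AlgSp.stalkEtFunctor AddCommGrpCat.{u + 1} p)) := by

  have := isCofiltered_etNbhd X p hp
  have hT := stalkPsh_preservesFiniteLimits X p hp (Type (u+1))
  have hA := stalkPsh_preservesFiniteLimits X p hp AddCommGrpCat.{u+1}
  have cT := stalkPsh_preservesColimits p (Type (u+1))
  have cA := stalkPsh_preservesColimits p AddCommGrpCat.{u+1}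
  have fcT : PreservesFiniteColimits (AlgSp.stalkEtPshFunctor (Type (u+1)) p) :=
    PreservesColimitsOfSize.preservesFiniteColimits _
  have fcA : PreservesFiniteColimits (AlgSp.stalkEtPshFunctor AddCommGrpCat.{u+1} p) :=
    PreservesColimitsOfSize.preservesFiniteColimits _
  have pfc := pfcAb.{u}
  refine ⟨⟨?_, ?_⟩, ⟨?_, ?_⟩⟩
  · unfold AlgSp.stalkEtFunctor
    exact comp_preservesFiniteLimits _ _
  · refine stalk_preservesFiniteColimits p fun P => ?_
    rw [isIso_iff_bijective]
    exact pshT_bijective_of_locallyBijective X p hp (toSheafify _ P)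
  · unfold AlgSp.stalkEtFunctor
    exact comp_preservesFiniteLimits _ _
  · refine stalk_preservesFiniteColimits p fun P => ?_
    rw [← isIso_iff_of_reflects_iso _ (forget AddCommGrpCat.{u+1}), isIso_iff_bijective]
    exact pshA_bijective_of_locallyBijective X p hp (toSheafify _ P)


end Groth.Agent.S10219
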