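import Groth.Statements.S10220
import Groth.Agent.H25.StalkEt3
open Groth.Agent.H25 Groth.Agent.H25.AS

set_option autoImplicit false
universe u
open CategoryTheory CategoryTheory.Limits AlgebraicGeometry Topology TopologicalSpace
open AlgSp

namespace Groth.Agent.S10220

/-- Let X be an algebraic space over a scheme S and a : F ⟶ G a map of sheaves of sets on the small
etale site of X. Then a is injective (a monomorphism) if and only if the induced map on stalks F_x̄
→ G_x̄ is injective for every geometric point x̄ of X, and a is surjective (an epimorphism of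
sheaves) if and only if all these stalk maps are surjective. -/
theorem result {S : Scheme.{u}} (X : AlgSp.Space S) {F G : AlgSp.EtSh X.obj (Type (u + 1))} (a : F ⟶ G) :
    (Mono a ↔ ∀ p : AlgSp.FieldPt X.obj, p.IsGeometric →
        Function.Injective ((AlgSp.stalkEtFunctor (Type (u + 1)) p).map a)) ∧
    (Epi a ↔ ∀ p : AlgSp.FieldPt X.obj, p.IsGeometric →
        Function.Surjective ((AlgSp.stalkEtFunctor (Type (u + 1)) p).map a)) := by

  have natT : ∀ {A B : AlgSp.EtOver X.obj} (ψ : A ⟶ B) (t : F.obj.obj (Opposite.op B)),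
      a.hom.app (Opposite.op A) (F.obj.map ψ.op t) =
        G.obj.map ψ.op (a.hom.app (Opposite.op B) t) :=
    fun ψ t => NatTrans.naturality_apply a.hom ψ.op t
  -- covering family from geometric points
  have hfam : ∀ (U : AlgSp.EtOver X.obj) (R : Sieve U),
      (∀ u : ↥U.obj.left.left, ∃ (p : AlgSp.FieldPt X.obj) (_ : p.IsGeometric)
        (l : (AlgSp.FieldPt.liftsTo p).obj U) (N' : AlgSp.EtNbhd p)
        (m : N' ⟶ (⟨U, l⟩ : (AlgSp.FieldPt.liftsTo p).Elements)),
        l.1.left (IsLocalRing.closedPoint p.K) = u ∧ R m.val) → R ∈ AlgSp.etTop X.obj U := by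
    intro U R h
    choose p hp l N' m hl hm using h
    refine (AlgSp.etTop X.obj).superset_covering ?_
      (AlgSp.ofArrows_mem_etTop (fun u => (N' u).1) (fun u => (m u).val) fun u => ?_)
    · rw [Sieve.ofArrows, Sieve.generate_le_iff]
      rintro _ _ ⟨u⟩
      exact hm u
    · exact ⟨u, (N' u).2.1.left (IsLocalRing.closedPoint (p u).K),
        (nbhd_hom_pt (p u) (m u)).trans (hl u)⟩
  constructor
  · constructor
    · intro hmono p hp s₁ s₂ h
      have hinj : ∀ U : AlgSp.EtOver X.obj, Function.Injective (a.hom.app (Opposite.op U)) := by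
        intro U
        have h1 : Mono a.hom := inferInstance
        have h2 : Mono (a.hom.app (Opposite.op U)) := inferInstance
        exact (mono_iff_injective _).1 h2
      obtain ⟨N₁, σ₁, rfl⟩ := stalkEtT_exists_rep X p hp F s₁
      obtain ⟨N₂, σ₂, rfl⟩ := stalkEtT_exists_rep X p hp F s₂
      rw [stalkEt_map_ι_apply, stalkEt_map_ι_apply] at h
      obtain ⟨N', m₁, m₂, hm⟩ := (stalkEtT_eq_iff X p hp G N₁ N₂ _ _).1 h
      refine (stalkEtT_eq_iff X p hp F N₁ N₂ σ₁ σ₂).2 ⟨N', m₁, m₂, hinj _ ?_⟩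
      rw [natT, natT]
      exact hm
    · intro hall
      have hinj : ∀ U : (AlgSp.EtOver X.obj)ᵒᵖ, Mono (a.hom.app U) := by
        intro U
        rw [mono_iff_injective]
        intro σ₁ σ₂ h
        have hsep := ((isSheaf_iff_isSheaf_of_type _ _).1 F.property).isSeparated
        have hcov : Presheaf.equalizerSieve (F := F.obj) σ₁ σ₂ ∈ AlgSp.etTop X.obj U.unop := by
          refine hfam U.unop _ fun u => ?_
          obtain ⟨p, hp, l, hl, -⟩ := exists_geometric_through U.unop u
          have e : (AlgSp.stalkEtFunctor (Type (u + 1)) p).map a (AlgSp.stalkEtι p F ⟨U.unop, l⟩ σ₁) =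
              (AlgSp.stalkEtFunctor (Type (u + 1)) p).map a (AlgSp.stalkEtι p F ⟨U.unop, l⟩ σ₂) := by
            rw [stalkEt_map_ι_apply, stalkEt_map_ι_apply]
            exact congrArg _ h
          obtain ⟨N', m, hm⟩ := (stalkEtT_eq_iff' X p hp F ⟨U.unop, l⟩ σ₁ σ₂).1 (hall p hp e)
          exact ⟨p, hp, l, N', m, hl, hm⟩
        exact (hsep _ hcov).ext fun Y f hf => hf
      have : Mono a.hom := NatTrans.mono_of_mono_app a.hom
      exact Sheaf.Hom.mono_of_presheaf_mono _ _ a
  · constructor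
    · intro hepi p hp s
      have hls : Sheaf.IsLocallySurjective a := (Sheaf.isLocallySurjective_iff_epi a).2 hepi
      obtain ⟨N, τ, rfl⟩ := stalkEtT_exists_rep X p hp G s
      obtain ⟨U, l⟩ := N
      have hcov := Presheaf.imageSieve_mem (AlgSp.etTop X.obj) a.hom τ
      obtain ⟨V, φ, hφ, l', hl'⟩ := exists_liftsTo_of_covering p hp _ hcov l
      obtain ⟨t, ht⟩ := hφ
      refine ⟨AlgSp.stalkEtι p F ⟨V, l'⟩ t, ?_⟩
      rw [stalkEt_map_ι_apply]
      let NV : AlgSp.EtNbhd p := ⟨V, l'⟩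
      let NU : AlgSp.EtNbhd p := ⟨U, l⟩
      let mU : NV ⟶ NU := ⟨φ, hl'⟩
      refine (stalkEtT_eq_iff X p hp G NV NU _ τ).2 ⟨NV, 𝟙 _, mU, ?_⟩
      have e1 : (𝟙 NV : NV ⟶ NV).val = 𝟙 V := rfl
      rw [e1, op_id, Functor.map_id_apply]
      exact ht
    · intro hall
      refine (Sheaf.isLocallySurjective_iff_epi a).1 ⟨fun {U} τ => ?_⟩
      refine hfam U _ fun u => ?_
      obtain ⟨p, hp, l, hl, -⟩ := exists_geometric_through U u
      obtain ⟨t', ht'⟩ := hall p hp (AlgSp.stalkEtι p G ⟨U, l⟩ τ)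
      obtain ⟨N₁, t, rfl⟩ := stalkEtT_exists_rep X p hp F t'
      rw [stalkEt_map_ι_apply] at ht'
      obtain ⟨N₂, m₁, m₂, hm⟩ := (stalkEtT_eq_iff X p hp G N₁ ⟨U, l⟩ _ τ).1 ht'
      refine ⟨p, hp, l, N₂, m₂, hl, F.obj.map m₁.val.op t, ?_⟩
      rw [natT]
      exact hm


end Groth.Agent.S10220
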