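import Groth.Statements.S10221
import Groth.Agent.H25.StalkEt4
open Groth.Agent.H25 Groth.Agent.H25.AS

set_option autoImplicit false
universe u
open CategoryTheory CategoryTheory.Limits AlgebraicGeometry Topology TopologicalSpace
open AlgSp

namespace Groth.Agent.S10221

/-- Let X be an algebraic space over a scheme S. A short complex of abelian sheaves on the small etale
site of X (maps f, g with g ∘ f = 0) is exact if and only if it is exact on stalks at all geometric
points x̄ of X: every element of the middle stalk killed by g_x̄ is in the image of f_x̄. -/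
theorem result {S : Scheme.{u}} (X : AlgSp.Space S) (C : ShortComplex (AlgSp.AbEt X.obj)) :
    C.Exact ↔ ∀ p : AlgSp.FieldPt X.obj, p.IsGeometric →
      ∀ y : ↥((AlgSp.stalkEtFunctor AddCommGrpCat.{u + 1} p).obj C.X₂),
        ((AlgSp.stalkEtFunctor AddCommGrpCat.{u + 1} p).map C.g) y = 0 →
          ∃ x : ↥((AlgSp.stalkEtFunctor AddCommGrpCat.{u + 1} p).obj C.X₁),
            ((AlgSp.stalkEtFunctor AddCommGrpCat.{u + 1} p).map C.f) x = y := by

  constructor
  · intro hex p hp y hy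
    have hepi : Epi C.toCycles := (C.exact_iff_epi_toCycles).1 hex
    have hls : Sheaf.IsLocallySurjective C.toCycles :=
      (Sheaf.isLocallySurjective_iff_epi' AddCommGrpCat.{u+1} _).2 hepi
    obtain ⟨N, σ, rfl⟩ := stalkEt_exists_rep X p hp C.X₂ y
    have hy' : (AlgSp.stalkEtι p C.X₃ N).hom ((C.g.hom.app (Opposite.op N.1)).hom σ) = 0 := by
      rw [← stalkEtAb_map_ι_apply]
      exact hy
    obtain ⟨N', m, hm⟩ := (stalkEtι_eq_zero_iff X p hp C.X₃ N _).1 hy'
    have hσ' : (C.g.hom.app (Opposite.op N'.1)).hom ((C.X₂.obj.map m.val.op).hom σ) = 0 := by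
      rw [natAb]
      exact hm
    obtain ⟨z, hz⟩ := exists_cycles_section C N'.1 _ hσ'
    have hcov := Presheaf.imageSieve_mem (AlgSp.etTop X.obj) C.toCycles.hom z
    obtain ⟨V, φ, hφ, l', hl'⟩ := exists_liftsTo_of_covering p hp _ hcov N'.2
    obtain ⟨t, ht⟩ := hφ
    have ht' : (C.toCycles.hom.app (Opposite.op V)).hom t = (C.cycles.obj.map φ.op).hom z := ht
    refine ⟨(AlgSp.stalkEtι p C.X₁ ⟨V, l'⟩).hom t, ?_⟩
    have e0 := stalkEtAb_map_ι_apply p C.f ⟨V, l'⟩ t
    refine e0.trans ?_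
    let NV : AlgSp.EtNbhd p := ⟨V, l'⟩
    let mV : NV ⟶ N' := ⟨φ, hl'⟩
    refine (stalkEtAb_eq_iff X p hp C.X₂ NV N _ σ).2 ⟨NV, 𝟙 _, mV ≫ m, ?_⟩
    have e1 : (𝟙 NV : NV ⟶ NV).val = 𝟙 V := rfl
    have e2 : (mV ≫ m).val = φ ≫ m.val := rfl
    rw [e1, e2, mapcAb, ← hz, ← natAb C.iCycles φ z, ← ht']
    have e3 : (C.f.hom.app (Opposite.op V)).hom t =
        (C.iCycles.hom.app (Opposite.op V)).hom ((C.toCycles.hom.app (Opposite.op V)).hom t) :=
      congrArg (fun k => (k.hom.app (Opposite.op V)).hom t) C.toCycles_i.symm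
    rw [e3, op_id, CategoryTheory.Functor.map_id]
    rfl
  · intro hst
    rw [C.exact_iff_epi_toCycles]
    refine (Sheaf.isLocallySurjective_iff_epi' AddCommGrpCat.{u+1} _).1 ⟨fun {U} z => ?_⟩
    refine etTop_mem_of_geometric U _ fun u => ?_
    obtain ⟨p, hp, l, hl, -⟩ := exists_geometric_through U u
    have hgσ : (C.g.hom.app (Opposite.op U)).hom ((C.iCycles.hom.app (Opposite.op U)).hom z) = 0 :=
      congrArg (fun k => (k.hom.app (Opposite.op U)).hom z) C.iCycles_g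
    have hy : ((AlgSp.stalkEtFunctor AddCommGrpCat.{u + 1} p).map C.g).hom
        ((AlgSp.stalkEtι p C.X₂ ⟨U, l⟩).hom ((C.iCycles.hom.app (Opposite.op U)).hom z)) = 0 := by
      rw [stalkEtAb_map_ι_apply, hgσ]
      exact map_zero _
    obtain ⟨x, hx⟩ := hst p hp _ hy
    obtain ⟨N₁, t, rfl⟩ := stalkEt_exists_rep X p hp C.X₁ x
    have hx' := (stalkEtAb_map_ι_apply p C.f N₁ t).symm.trans hx
    obtain ⟨N₂, m₁, m₂, hm⟩ := (stalkEtAb_eq_iff X p hp C.X₂ N₁ ⟨U, l⟩ _ _).1 hx'
    refine ⟨p, hp, l, N₂, m₂, hl, (C.X₁.obj.map m₁.val.op).hom t, ?_⟩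
    apply injective_of_mono C.iCycles N₂.1
    have e3 : (C.f.hom.app (Opposite.op N₂.1)).hom ((C.X₁.obj.map m₁.val.op).hom t) =
        (C.iCycles.hom.app (Opposite.op N₂.1)).hom
          ((C.toCycles.hom.app (Opposite.op N₂.1)).hom ((C.X₁.obj.map m₁.val.op).hom t)) :=
      congrArg (fun k => (k.hom.app (Opposite.op N₂.1)).hom ((C.X₁.obj.map m₁.val.op).hom t))
        C.toCycles_i.symm
    refine e3.symm.trans ?_
    rw [natAb, hm, ← natAb]


end Groth.Agent.S10221
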