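import Groth.Statements.S10222
import Groth.Agent.H25.AlgSp117
open Groth.Agent.H25 Groth.Agent.H25.AS

set_option autoImplicit false
universe u
open CategoryTheory CategoryTheory.Limits AlgebraicGeometry Topology TopologicalSpace
open AlgSp

namespace Groth.Agent.S10222

/-- (1) if and only if (2): an algebraic space X over a scheme S is reduced if and only if at each x ∈
|X| the local ring of X is reduced, the latter meaning that for some scheme U, some representable
etale h_U ⟶ X and some point u of U mapping to x, the local ring of U at u is reduced. (The
assertions about global sections in the published statement are not part of this row.) -/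
theorem result {S : Scheme.{u}} (X : AlgSp.Space S) :
    AlgSp.IsReducedSp X.obj ↔
      ∀ x : AlgSp.Points X.obj, AlgSp.HasAt (fun U u => _root_.IsReduced ↥(U.presheaf.stalk u)) X.obj x := by
  constructor
  · rintro ⟨U, p, hpe, hps, hU⟩ x
    obtain ⟨u, rfl⟩ := ofPt_surjective p hps x
    haveI : IsReduced U.left := hU
    exact ⟨U, p, u, hpe, rfl, inferInstance⟩
  · intro h
    obtain ⟨U, p, hpe, hps⟩ := X.property.atlas
    refine ⟨U, p, hpe, hps, ?_⟩
    haveI : ∀ u : ↥U.left, _root_.IsReduced (U.left.presheaf.stalk u) := by
      intro u
      obtain ⟨V, b, v, hbe, hv, hred⟩ := h (AlgSp.Points.ofPt p u)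
      have sq := hbe.rep.isPullback' p
      have h2e : Etale (hbe.rep.snd p).left := hbe.property_snd p
      have h1e : Etale (hbe.rep.fst' p).left := hpe.property _ _ _ sq.flip
      obtain ⟨z, hz1, hz2⟩ := exists_point_of_isPullback' sq u v hv.symm
      have hredz : _root_.IsReduced
          ((hbe.rep.pullback p).left.presheaf.stalk z) := by
        refine isReduced_stalk_of_smooth (hbe.rep.fst' p).left z ?_
        have e : (hbe.rep.fst' p).left.base z = v := hz2
        rw [e]
        exact hred
      have := isReduced_stalk_of_flat_of_stalk (hbe.rep.snd p).left z hredz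
      have e : (hbe.rep.snd p).left.base z = u := hz1
      rwa [e] at this
    exact isReduced_of_isReduced_stalk U.left


end Groth.Agent.S10222
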