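import Groth.Statements.S10230
import Groth.Agent.H25.AlgSp119
import Groth.Prelude.Def_AlgSpEt
open Groth.Agent.H25 Groth.Agent.H25.AS

set_option autoImplicit false
universe u
open CategoryTheory CategoryTheory.Limits AlgebraicGeometry Topology TopologicalSpace
open AlgSp

namespace Groth.Agent.S10230

/-- Let X be an algebraic space over a scheme S and F a subsheaf of the final object of the small etale
topos of X, i.e. a sheaf of sets all of whose section sets have at most one element. Then there is a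
unique open W of |X| with F = h_W: for every U etale over X, F(U) is nonempty if and only if U ⟶ X
maps |U| into W. -/
theorem result {S : Scheme.{u}} (X : AlgSp.Space S)
    (F : AlgSp.EtSh X.obj (Type (u + 1))) (hF : ∀ E : AlgSp.EtOver X.obj, Subsingleton (F.obj.obj (Opposite.op E))) :
    ∃! W : Set (AlgSp.Points X.obj), IsOpen W ∧
      ∀ E : AlgSp.EtOver X.obj, Nonempty (F.obj.obj (Opposite.op E)) ↔ Set.range (AlgSp.Points.ofPt E.obj.hom) ⊆ W := by
  classical
  let W : Set (AlgSp.Points X.obj) := {x | ∃ E : AlgSp.EtOver X.obj,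
    Nonempty (F.obj.obj (Opposite.op E)) ∧ x ∈ Set.range (AlgSp.Points.ofPt E.obj.hom)}
  have hWopen : IsOpen W := by
    have : W = ⋃ (E : AlgSp.EtOver X.obj) (_ : Nonempty (F.obj.obj (Opposite.op E))),
        Set.range (AlgSp.Points.ofPt E.obj.hom) := by
      ext x
      simp only [W, Set.mem_setOf_eq, Set.mem_iUnion, exists_prop]
    rw [this]
    exact isOpen_iUnion fun E => isOpen_iUnion fun _ =>
      (isOpenMap_ofPt E.obj.hom E.property).isOpen_range
  -- the key direction
  have key : ∀ E : AlgSp.EtOver X.obj, Set.range (AlgSp.Points.ofPt E.obj.hom) ⊆ W →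
      Nonempty (F.obj.obj (Opposite.op E)) := by
    intro E hE
    have hch : ∀ e : ↥E.obj.left.left, ∃ (P : AlgSp.EtOver X.obj) (g : P ⟶ E),
        Nonempty (F.obj.obj (Opposite.op P)) ∧ e ∈ Set.range g.hom.left.left := by
      intro e
      obtain ⟨E', ⟨t⟩, e', he'⟩ := hE ⟨e, rfl⟩
      have sq := E'.property.rep.isPullback' E.obj.hom
      -- sq : IsPullback (yon fst') (yon snd) E'.hom E.hom
      have h2e : Etale (E'.property.rep.snd E.obj.hom).left := E'.property.property_snd E.obj.hom
      obtain ⟨z, hz1, hz2⟩ := exists_point_of_isPullback' sq e e' he'.symm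
      let P : AlgSp.EtOver X.obj := AlgSp.EtOver.mk
        ((AlgSp.yon S).map (E'.property.rep.snd E.obj.hom) ≫ E.obj.hom)
        (repWith_etale_comp ((AlgSp.repWith_yon_map_iff _ _).2 h2e) E.property)
      let g : P ⟶ E := AlgSp.EtOver.homMk (E'.property.rep.snd E.obj.hom) rfl
      let g' : P ⟶ E' := AlgSp.EtOver.homMk (E'.property.rep.fst' E.obj.hom) sq.w
      exact ⟨P, g, ⟨F.obj.map g'.op t⟩, ⟨z, hz1⟩⟩
    choose P g hP hg using hch
    have hS : Sieve.ofArrows P g ∈ AlgSp.etTop X.obj E :=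
      AlgSp.ofArrows_mem_etTop P g (fun x => ⟨x, hg x⟩)
    have hsh : Presieve.IsSheafFor F.obj (Sieve.ofArrows P g).arrows :=
      (isSheaf_iff_isSheaf_of_type _ _).mp F.cond _ hS
    let fam : Presieve.FamilyOfElements F.obj (Sieve.ofArrows P g).arrows := fun V k hk =>
      F.obj.map ((Sieve.mem_ofArrows_iff P g k).mp hk).choose_spec.choose.op
        (hP ((Sieve.mem_ofArrows_iff P g k).mp hk).choose).some
    have hcomp : fam.Compatible := by
      intro Y₁ Y₂ Z g₁ g₂ f₁ f₂ h₁ h₂ _
      haveI := hF Z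
      exact Subsingleton.elim _ _
    exact ⟨hsh.amalgamate fam hcomp⟩
  refine ⟨W, ⟨hWopen, fun E => ⟨?_, key E⟩⟩, ?_⟩
  · rintro hne x hx
    exact ⟨E, hne, hx⟩
  · rintro W' ⟨hW'open, hW'⟩
    ext x
    constructor
    · intro hx
      obtain ⟨U, p, hpe, hps⟩ := X.property.atlas
      obtain ⟨u, rfl⟩ := ofPt_surjective p hps x
      let V : U.left.Opens := ⟨AlgSp.Points.ofPt p ⁻¹' W', hW'open.preimage (AlgSp.Points.continuous_ofPt p)⟩
      let E : AlgSp.EtOver X.obj := AlgSp.EtOver.mk ((AlgSp.yon S).map (openIncl U V) ≫ p)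
        (repWith_etale_comp (repWith_etale_openIncl U V) hpe)
      have hE : Set.range (AlgSp.Points.ofPt E.obj.hom) ⊆ W' := by
        rintro _ ⟨v, rfl⟩
        have : AlgSp.Points.ofPt ((AlgSp.yon S).map (openIncl U V) ≫ p) v =
            AlgSp.Points.ofPt p ((openIncl U V).left v) := ofPt_map_comp _ _ _
        change AlgSp.Points.ofPt ((AlgSp.yon S).map (openIncl U V) ≫ p) v ∈ W'
        rw [this]
        exact v.2
      refine ⟨E, (hW' E).mpr hE, ⟨⟨u, hx⟩, ?_⟩⟩
      exact ofPt_map_comp (openIncl U V) p ⟨u, hx⟩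
    · rintro ⟨E, hne, hx⟩
      exact (hW' E).mp hne hx


end Groth.Agent.S10230
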