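import Groth.Statements.S10234
import Groth.Agent.H25.AlgSp119
import Groth.Prelude.Def_AlgSpEt
open Groth.Agent.H25 Groth.Agent.H25.AS

set_option autoImplicit false
universe u
open CategoryTheory CategoryTheory.Limits AlgebraicGeometry Topology TopologicalSpace
open AlgSp

namespace Groth.Agent.S10234

/-- Suppose f : X ⟶ Y is a morphism of algebraic spaces over a scheme S that is etale. Then the functor
j : X_etale ⟶ Y_etale, (U ⟶ X) ↦ (U ⟶ X ⟶ Y), is continuous and cocontinuous for the etale
topologies. (The identification of the associated morphism of topoi with f_small, and the resulting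
formula for inverse images, are not part of this row.) -/
theorem result {S : Scheme.{u}} {X Y : AlgSp.Space S} (f : X ⟶ Y)
    (hf : AlgSp.IsEtaleMor f.hom) :
    (AlgSp.EtOver.postcomp f.hom hf).IsContinuous (AlgSp.etTop X.obj) (AlgSp.etTop Y.obj) ∧
      (AlgSp.EtOver.postcomp f.hom hf).IsCocontinuous (AlgSp.etTop X.obj) (AlgSp.etTop Y.obj) := by

  let F := AlgSp.EtOver.postcomp f.hom hf
  -- preservation of pullbacks
  have hpres : ∀ {E₁ E₂ E₀ : AlgSp.EtOver X.obj} (g₁ : E₁ ⟶ E₀) (g₂ : E₂ ⟶ E₀),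
      PreservesLimit (cospan g₁ g₂) F := by
    intro E₁ E₂ E₀ g₁ g₂
    refine preservesLimit_of_preserves_limit_cone (AlgSp.EtOver.pullbackIsLimit g₁ g₂)
      ((isLimitMapConePullbackConeEquiv _ _).symm ?_)
    refine PullbackCone.IsLimit.mk _
      (fun s => AlgSp.EtOver.homMk (pullback.lift s.fst.hom.left s.snd.hom.left
        (congrArg (fun k => k.hom.left) s.condition)) ?_)
      (fun s => AlgSp.EtOver.hom_ext _ _ (pullback.lift_fst _ _ _))
      (fun s => AlgSp.EtOver.hom_ext _ _ (pullback.lift_snd _ _ _))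
      (fun s m h₁ h₂ => AlgSp.EtOver.hom_ext _ _ (pullback.hom_ext
        ((congrArg (fun k => k.hom.left) h₁).trans (pullback.lift_fst _ _ _).symm)
        ((congrArg (fun k => k.hom.left) h₂).trans (pullback.lift_snd _ _ _).symm)))
    change (AlgSp.yon S).map _ ≫ ((AlgSp.yon S).map _ ≫ E₁.obj.hom) ≫ f.hom = s.pt.obj.hom
    rw [Category.assoc, ← Category.assoc, ← CategoryTheory.Functor.map_comp]
    erw [pullback.lift_fst]
    exact AlgSp.EtOver.w s.fst
  have : PreservesLimitsOfShape WalkingCospan F :=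
    ⟨fun {K} => by
      have := hpres (K.map WalkingCospan.Hom.inl) (K.map WalkingCospan.Hom.inr)
      exact preservesLimit_of_iso_diagram _ (diagramIsoCospan K).symm⟩
  refine ⟨?_, ?_⟩
  · unfold AlgSp.etTop
    refine Functor.isContinuous_toGrothendieck_of_pullbacksPreservedBy F (AlgSp.etPre X.obj)
      (AlgSp.etPre Y.obj) (le_of_eq ?_)
    unfold AlgSp.etPre
    rw [← Precoverage.comap_comp]
    rfl
  · refine ⟨fun {E T} hT => ?_⟩
    have hT' : T ∈ (AlgSp.etPre Y.obj).toGrothendieck (F.obj E) := hT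
    rw [Precoverage.mem_toGrothendieck_iff_of_isStableUnderComposition] at hT'
    obtain ⟨R, hR, hRT⟩ := hT'
    obtain ⟨ι, Z, g, rfl⟩ := R.exists_eq_ofArrows
    rw [AlgSp.ofArrows_mem_etPre_iff] at hR
    -- build the family in EtOver X
    let Z' : ι → AlgSp.EtOver X.obj := fun i =>
      AlgSp.EtOver.mk ((AlgSp.yon S).map (g i).hom.left ≫ E.obj.hom)
        (repWith_etale_comp ((AlgSp.repWith_yon_map_iff _ _).2 (AlgSp.EtOver.etale_left (g i)))
          E.property)
    let g' : ∀ i, Z' i ⟶ E := fun i => AlgSp.EtOver.homMk (g i).hom.left rfl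
    have hcov : Sieve.ofArrows Z' g' ∈ AlgSp.etTop X.obj E :=
      AlgSp.ofArrows_mem_etTop Z' g' hR
    refine GrothendieckTopology.superset_covering _ ?_ hcov
    rw [Sieve.ofArrows, Sieve.generate_le_iff]
    rintro _ _ ⟨i⟩
    -- F.map (g' i) factors through g i
    let k : F.obj (Z' i) ⟶ Z i := AlgSp.EtOver.homMk (𝟙 _) (by
      change (AlgSp.yon S).map (𝟙 _) ≫ (Z i).obj.hom =
        ((AlgSp.yon S).map (g i).hom.left ≫ E.obj.hom) ≫ f.hom
      rw [CategoryTheory.Functor.map_id, Category.id_comp, Category.assoc]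
      exact (AlgSp.EtOver.w (g i)).symm)
    have hk : F.map (g' i) = k ≫ g i := AlgSp.EtOver.hom_ext _ _ (by
      change (g i).hom.left = 𝟙 _ ≫ (g i).hom.left
      rw [Category.id_comp])
    change T.arrows (F.map (g' i))
    rw [hk]
    exact T.downward_closed (hRT _ _ (Presieve.ofArrows.mk i)) k


end Groth.Agent.S10234
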