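import Groth.Statements.S10242
import Groth.Agent.H25.AlgSp118
import Groth.Prelude.Def_AlgSpOX3
open Groth.Agent.H25 Groth.Agent.H25.AS

set_option autoImplicit false
universe u
open CategoryTheory CategoryTheory.Limits AlgebraicGeometry Topology TopologicalSpace
open AlgSp

namespace Groth.Agent.S10242

/-- Let X be a reduced algebraic space over a scheme S. Then the ring of global sections of the
structure sheaf of X (on the small etale site) is reduced, and if a global section f satisfies X =
V(f), meaning that its restriction to every scheme U etale over X has empty non-vanishing locus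
D(f|_U), then f = 0. -/
theorem result {S : Scheme.{u}} (X : AlgSp.Space S) (hX : AlgSp.IsReducedSp X.obj) :
    _root_.IsReduced ↥(AlgSp.gsectEt (AlgSp.OEt X.obj)) ∧
      ∀ f : ↥(AlgSp.gsectEt (AlgSp.OEt X.obj)),
        (∀ E : AlgSp.EtOver X.obj,
            E.obj.left.left.basicOpen ((limit.π (AlgSp.OEt X.obj).obj (Opposite.op E)) f).down = ⊥) →
          f = 0 := by
  have hred : ∀ E : AlgSp.EtOver X.obj, IsReduced E.obj.left.left := fun E =>
    isReduced_of_chart hX E.obj.hom E.property
  have key : ∀ f : ↥(AlgSp.gsectEt (AlgSp.OEt X.obj)),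
      (∀ E : AlgSp.EtOver X.obj,
        ((limit.π (AlgSp.OEt X.obj).obj (Opposite.op E)) f).down = 0) → f = 0 := by
    intro f hf
    refine Concrete.limit_ext _ f 0 (fun j => ?_)
    have h0 := hf j.unop
    rw [map_zero]
    exact ULift.ext _ _ h0
  refine ⟨⟨fun x hx => ?_⟩, fun f hf => ?_⟩
  · refine key x (fun E => ?_)
    haveI : AlgebraicGeometry.IsReduced (Opposite.unop ((Over.forget S).op.obj
      ((AlgSp.EtOver.forget X.obj).op.obj (Opposite.op E)))) := hred E
    obtain ⟨n, hn⟩ := hx
    have h1 : ((limit.π (AlgSp.OEt X.obj).obj (Opposite.op E)) x) ^ n = 0 := by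
      rw [← map_pow, hn, map_zero]
    have h2 : (((limit.π (AlgSp.OEt X.obj).obj (Opposite.op E)) x).down) ^ n = 0 :=
      congrArg ULift.down h1
    exact (IsReduced.eq_zero _ ⟨n, h2⟩ : _)
  · refine key f (fun E => ?_)
    haveI : AlgebraicGeometry.IsReduced (Opposite.unop ((Over.forget S).op.obj
      ((AlgSp.EtOver.forget X.obj).op.obj (Opposite.op E)))) := hred E
    exact (basicOpen_eq_bot_iff _).mp (hf E)


end Groth.Agent.S10242
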