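import Groth.Statements.S10247
import Groth.Agent.H25.AlgSp119
import Groth.Prelude.Def_AlgSpOX
import Groth.Prelude.Def_ModSite
open Groth.Agent.H25 Groth.Agent.H25.AS

set_option autoImplicit false
universe u
open CategoryTheory CategoryTheory.Limits AlgebraicGeometry Topology TopologicalSpace
open AlgSp

namespace Groth.Agent.S10247

/-- Let X be an algebraic space over a scheme S. Together with its structure sheaf O_X, the small etale
site of X is a locally ringed site: for every scheme U etale over X and every global function f on U
there is a covering sieve of U in the small etale site along each of whose arrows f or 1 - f pulls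
back to a unit, and whenever 0 = 1 holds in the ring of global functions of U the empty sieve covers
U. -/
theorem result {S : Scheme.{u}} (X : AlgSp.Space S) :
    ModSite.IsLocallyRinged (AlgSp.etTop X.obj) (AlgSp.OEt X.obj) := by
  constructor
  · intro E f
    let U : Over S := E.obj.left
    let s : Γ(U.left, ⊤) := f.down
    let W : Bool → U.left.Opens := fun b =>
      if b then U.left.basicOpen s else U.left.basicOpen (1 - s)
    let Y : Bool → AlgSp.EtOver X.obj := fun b =>
      AlgSp.EtOver.mk ((AlgSp.yon S).map (openIncl U (W b)) ≫ E.obj.hom)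
        (repWith_etale_comp (repWith_etale_openIncl U (W b)) E.property)
    let g : ∀ b, Y b ⟶ E := fun b => AlgSp.EtOver.homMk (openIncl U (W b)) rfl
    refine ⟨Sieve.ofArrows Y g, AlgSp.ofArrows_mem_etTop Y g ?_, ?_⟩
    · intro x
      rcases mem_basicOpen_or U.left s x with hx | hx
      · exact ⟨true, ⟨⟨x, hx⟩, rfl⟩⟩
      · exact ⟨false, ⟨⟨x, hx⟩, rfl⟩⟩
    · intro V k hk
      rw [Sieve.mem_ofArrows_iff] at hk
      obtain ⟨b, a, rfl⟩ := hk
      have hcomp : ∀ t : (AlgSp.OEt X.obj).obj.obj (Opposite.op E),
          ((AlgSp.OEt X.obj).obj.map (a ≫ g b).op).hom t =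
            ((AlgSp.OEt X.obj).obj.map a.op).hom (((AlgSp.OEt X.obj).obj.map (g b).op).hom t) := by
        intro t
        rw [op_comp, Functor.map_comp]
        rfl
      cases b with
      | true =>
        left
        rw [hcomp]
        refine IsUnit.map _ ?_
        have h0 := isUnit_ι_appTop_basicOpen U.left s
        have h1 : ((AlgSp.OEt X.obj).obj.map (g true).op).hom f =
            ULift.up ((U.left.basicOpen s).ι.appTop.hom s) := rfl
        rw [h1]
        exact h0.map (ULift.ringEquiv.symm : _ ≃+* ULift.{u + 1} _)
      | false =>
        right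
        rw [hcomp]
        refine IsUnit.map _ ?_
        have h0 := isUnit_ι_appTop_basicOpen U.left (1 - s)
        have h1 : ((AlgSp.OEt X.obj).obj.map (g false).op).hom (1 - f) =
            ULift.up ((U.left.basicOpen (1 - s)).ι.appTop.hom (1 - s)) := rfl
        rw [h1]
        exact h0.map (ULift.ringEquiv.symm : _ ≃+* ULift.{u + 1} _)
  · intro E h01
    have hsub : Subsingleton Γ(E.obj.left.left, ⊤) := by
      have h' : (0 : Γ(E.obj.left.left, ⊤)) = 1 := congrArg ULift.down h01
      exact subsingleton_of_zero_eq_one h'
    haveI : IsEmpty ↥E.obj.left.left := by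
      by_contra hne
      rw [not_isEmpty_iff] at hne
      haveI := hne
      haveI : Nontrivial Γ(E.obj.left.left, ⊤) :=
        @Scheme.component_nontrivial E.obj.left.left ⊤ ⟨⟨hne.some, trivial⟩⟩
      exact not_subsingleton _ hsub
    have := AlgSp.ofArrows_mem_etTop (X := X.obj) (E := E) (ι := PEmpty.{1})
      (fun i => i.elim) (fun i => i.elim) (fun x => (IsEmpty.false x).elim)
    convert this using 1
    ext V k
    simp only [Sieve.bot_apply, Sieve.mem_ofArrows_iff]
    constructor
    · intro h; exact h.elim
    · rintro ⟨i, _⟩; exact i.elim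


end Groth.Agent.S10247
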