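import Groth.Statements.S10249
import Groth.Agent.H25.AlgSp99
open Groth.Agent.H25 Groth.Agent.H25.AS

set_option autoImplicit false
universe u
open CategoryTheory CategoryTheory.Limits AlgebraicGeometry Topology TopologicalSpace
open AlgSp

namespace Groth.Agent.S10249

/-- Let X and Y be algebraic spaces over a scheme S, f : X ⟶ Y an etale morphism and x ∈ |X| with image
y ∈ |Y|. Then (1) X at x and Y at y have the same dimension: for every d, some etale chart h_U ⟶ X
from a scheme U and some point u of U over x have local dimension d (of the topological space U at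
u) if and only if the same holds for Y at y; and (2) the local rings of X at x and of Y at y have
the same Krull dimension, in the same some-chart sense with the Krull dimension of the local ring of
U at u. -/
theorem result {S : Scheme.{u}} {X Y : AlgSp.Space S} (f : X ⟶ Y)
    (hf : AlgSp.IsEtaleMor f.hom) (x : AlgSp.Points X.obj) :
    (∀ d : WithBot ℕ∞,
        AlgSp.HasAt (fun U u => FlatMor.localDim ↥U u = d) X.obj x ↔
          AlgSp.HasAt (fun U u => FlatMor.localDim ↥U u = d) Y.obj (AlgSp.Points.map f.hom x)) ∧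
    (∀ d : WithBot ℕ∞,
        AlgSp.HasAt (fun U u => ringKrullDim ↥(U.presheaf.stalk u) = d) X.obj x ↔
          AlgSp.HasAt (fun U u => ringKrullDim ↥(U.presheaf.stalk u) = d) Y.obj (AlgSp.Points.map f.hom x)) := by

  obtain ⟨U, a, hae, has⟩ := X.property.atlas
  obtain ⟨u, hu⟩ := ofPt_surjective a has x
  have hcomp : AlgSp.Points.ofPt (a ≫ f.hom) u = AlgSp.Points.map f.hom x := by
    rw [← hu, AlgSp.Points.map_ofPt]
  refine ⟨fun d => ⟨?_, ?_⟩, fun d => ⟨?_, ?_⟩⟩
  · rintro ⟨U', a', u', ha', hu', hd⟩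
    exact ⟨U', a' ≫ f.hom, u', hf a' ha', by rw [← hu', AlgSp.Points.map_ofPt], hd⟩
  · rintro ⟨V, b, v, hb, hv, hd⟩
    refine ⟨U, a, u, hae, hu, ?_⟩
    exact (localDim_chart_indep (a ≫ f.hom) b (hf a hae) hb u v (hcomp.trans hv.symm)).trans hd
  · rintro ⟨U', a', u', ha', hu', hd⟩
    exact ⟨U', a' ≫ f.hom, u', hf a' ha', by rw [← hu', AlgSp.Points.map_ofPt], hd⟩
  · rintro ⟨V, b, v, hb, hv, hd⟩
    refine ⟨U, a, u, hae, hu, ?_⟩
    exact (stalk_dim_chart_indep (a ≫ f.hom) b (hf a hae) hb u v (hcomp.trans hv.symm)).trans hd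


end Groth.Agent.S10249
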