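import Groth.Statements.S10250
import Groth.Agent.H25.AlgSp91
open Groth.Agent.H25 Groth.Agent.H25.AS

set_option autoImplicit false
universe u
open CategoryTheory CategoryTheory.Limits AlgebraicGeometry Topology TopologicalSpace
open AlgSp

namespace Groth.Agent.S10250

/-- Let f : X ⟶ Y be an etale and surjective morphism of algebraic spaces over a scheme S. Then X and Y
have the same dimension (the dimension of an algebraic space being the supremum of the Krull
dimensions of the schemes etale over it). -/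
theorem result {S : Scheme.{u}} {X Y : AlgSp.Space S} (f : X ⟶ Y)
    (hf : AlgSp.IsEtaleMor f.hom) (hs : AlgSp.IsSurjectiveMor f.hom) :
    AlgSp.dim X.obj = AlgSp.dim Y.obj := by

  unfold AlgSp.dim
  apply le_antisymm
  · refine iSup_le fun U => iSup_le fun a => iSup_le fun hae => ?_
    refine le_iSup_of_le U (le_iSup_of_le (a ≫ f.hom) ?_)
    exact le_iSup (fun _ : AlgSp.RepWith @Etale (a ≫ f.hom) => topologicalKrullDim ↥U.left)
      (hf a hae)
  · refine iSup_le fun V => iSup_le fun b => iSup_le fun hbe => ?_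
    obtain ⟨U₀, a₀, ha₀e, ha₀s⟩ := X.property.atlas
    have hce : AlgSp.RepWith @Etale (a₀ ≫ f.hom) := hf a₀ ha₀e
    have hcs : AlgSp.RepWith @Surjective (a₀ ≫ f.hom) := by
      refine repWith_surjective_of_isSurjectiveMor _ hce.rep ?_
      intro y
      obtain ⟨x, rfl⟩ := hs y
      obtain ⟨z, rfl⟩ := isSurjectiveMor_of_repWith a₀ ha₀s x
      exact ⟨z, AlgSp.Points.map_comp a₀ f.hom z⟩
    have sq := hbe.rep.isPullback' (a₀ ≫ f.hom)
    have hsndE : Etale (hbe.rep.snd (a₀ ≫ f.hom)).left := hbe.property_snd (a₀ ≫ f.hom)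
    have hfstE : Etale (hbe.rep.fst' (a₀ ≫ f.hom)).left :=
      (repWith_yon_map_iff @Etale _).1 (repWith_fst_of_isPullback sq hce)
    have hfstS : Surjective (hbe.rep.fst' (a₀ ≫ f.hom)).left :=
      (repWith_yon_map_iff @Surjective _).1 (repWith_fst_of_isPullback sq hcs)
    have ha' : AlgSp.RepWith @Etale ((AlgSp.yon S).map (hbe.rep.snd (a₀ ≫ f.hom)) ≫ a₀) :=
      repWith_etale_comp ((repWith_yon_map_iff @Etale _).2 hsndE) ha₀e
    calc topologicalKrullDim ↥V.left
        ≤ topologicalKrullDim ↥(hbe.rep.pullback (a₀ ≫ f.hom)).left :=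
          topologicalKrullDim_le_of_etale_surjective (hbe.rep.fst' (a₀ ≫ f.hom)).left
      _ ≤ _ := by
          refine le_iSup_of_le _ (le_iSup_of_le
            ((AlgSp.yon S).map (hbe.rep.snd (a₀ ≫ f.hom)) ≫ a₀) ?_)
          exact le_iSup (fun _ : AlgSp.RepWith @Etale
            ((AlgSp.yon S).map (hbe.rep.snd (a₀ ≫ f.hom)) ≫ a₀) =>
              topologicalKrullDim ↥(hbe.rep.pullback (a₀ ≫ f.hom)).left) ha'


end Groth.Agent.S10250
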