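import Groth.Statements.S10254
import Groth.Agent.H25.StalkEt1
open Groth.Agent.H25 Groth.Agent.H25.AS

set_option autoImplicit false
universe u
open CategoryTheory CategoryTheory.Limits AlgebraicGeometry Topology TopologicalSpace
open AlgSp

namespace Groth.Agent.S10254

/-- On the small etale site with scheme objects: let X be an algebraic space over a scheme S, F an
abelian sheaf on the small etale site of X, U an object of that site and σ ∈ F(U). Then there is an
open subset W of U such that: for every morphism φ : V ⟶ U of the site, σ|_V = 0 if and only if φ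
maps V into W (in particular W is the largest open subscheme of U on which σ restricts to zero); and
for every geometric point x̄ of X and every lift ū of x̄ to U, the image of σ in the stalk F_x̄
through the etale neighbourhood (U, ū) vanishes if and only if the point of U under ū lies in W.
(The published statement is for abelian sheaves on the site of algebraic spaces etale over X; this
row is its restriction to the site of schemes etale over X, where V ranges over schemes.) -/
theorem result {S : Scheme.{u}} (X : AlgSp.Space S) (F : AlgSp.AbEt X.obj)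
    (U : AlgSp.EtOver X.obj) (σ : ↥(F.obj.obj (Opposite.op U))) :
    ∃ W : TopologicalSpace.Opens ↥U.obj.left.left,
      (∀ (V : AlgSp.EtOver X.obj) (φ : V ⟶ U),
          (F.obj.map φ.op).hom σ = 0 ↔ Set.range (fun v => φ.hom.left.left v) ⊆ (W : Set ↥U.obj.left.left)) ∧
      (∀ p : AlgSp.FieldPt X.obj, p.IsGeometric → ∀ l : (AlgSp.FieldPt.liftsTo p).obj U,
          (AlgSp.stalkEtι p F ⟨U, l⟩).hom σ = 0 ↔ l.1.left (IsLocalRing.closedPoint p.K) ∈ W) := by

  have mapc : ∀ {A B C : AlgSp.EtOver X.obj} (f : A ⟶ B) (g : B ⟶ C) (x : ↥(F.obj.obj (Opposite.op C))),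
      (F.obj.map (f ≫ g).op).hom x = (F.obj.map f.op).hom ((F.obj.map g.op).hom x) := by
    intro A B C f g x
    rw [op_comp, Functor.map_comp]
    rfl
  have hopen : ∀ {V : AlgSp.EtOver X.obj} (φ : V ⟶ U),
      IsOpen (Set.range (fun v => φ.hom.left.left v)) := by
    intro V φ
    have := AlgSp.EtOver.etale_left φ
    exact (φ.hom.left.left.isOpenMap).isOpen_range
  let W : TopologicalSpace.Opens ↥U.obj.left.left :=
    ⟨{u | ∃ (V : AlgSp.EtOver X.obj) (φ : V ⟶ U), (F.obj.map φ.op).hom σ = 0 ∧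
        u ∈ Set.range (fun v => φ.hom.left.left v)}, by
      rw [isOpen_iff_forall_mem_open]
      rintro u ⟨V, φ, hφ, hu⟩
      exact ⟨_, fun x hx => ⟨V, φ, hφ, hx⟩, hopen φ, hu⟩⟩
  have hW : ∀ u, u ∈ W ↔ ∃ (V : AlgSp.EtOver X.obj) (φ : V ⟶ U), (F.obj.map φ.op).hom σ = 0 ∧
      u ∈ Set.range (fun v => φ.hom.left.left v) := fun u => Iff.rfl
  refine ⟨W, fun V φ => ⟨fun h u hu => (hW u).2 ⟨V, φ, h, hu⟩, fun h => ?_⟩, fun p hp l => ?_⟩
  · -- gluing
    have hch : ∀ v : ↥V.obj.left.left, ∃ (V' : AlgSp.EtOver X.obj) (φ' : V' ⟶ U),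
        (F.obj.map φ'.op).hom σ = 0 ∧ ∃ v' : ↥V'.obj.left.left,
          φ'.hom.left.left v' = φ.hom.left.left v := by
      intro v
      obtain ⟨V', φ', h1, v', h2⟩ := (hW _).1 (h ⟨v, rfl⟩)
      exact ⟨V', φ', h1, v', h2⟩
    choose V' φ' hσ' v' hv' using hch
    have hcov : Sieve.ofArrows (fun v => AlgSp.EtOver.pullbackObj φ (φ' v))
        (fun v => AlgSp.EtOver.pullbackFst φ (φ' v)) ∈ AlgSp.etTop X.obj V := by
      refine AlgSp.ofArrows_mem_etTop _ _ fun v => ?_
      have sq := (AlgSp.EtOver.isPullback φ (φ' v)).map (AlgSp.EtOver.toScheme X.obj)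
      obtain ⟨z, hz1, hz2⟩ := exists_preimage_of_isPullback sq v (v' v) (hv' v).symm
      exact ⟨v, z, hz1⟩
    have hsep := Sheaf.isSeparated F
    refine hsep V _ hcov ((F.obj.map φ.op).hom σ) 0 fun Y f hf => ?_
    rw [Sieve.mem_ofArrows_iff] at hf
    obtain ⟨v, a, rfl⟩ := hf
    have e1 : (F.obj.map (a ≫ AlgSp.EtOver.pullbackFst φ (φ' v)).op).hom ((F.obj.map φ.op).hom σ) = 0 := by
      rw [← mapc, Category.assoc, AlgSp.EtOver.pullback_condition, ← Category.assoc, mapc, hσ' v]
      exact map_zero _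
    have e2 : (F.obj.map (a ≫ AlgSp.EtOver.pullbackFst φ (φ' v)).op).hom (0 : ↥(F.obj.obj (Opposite.op V))) = 0 :=
      map_zero _
    exact e1.trans e2.symm
  · constructor
    · intro h0
      obtain ⟨N', m, hm⟩ := (stalkEtι_eq_zero_iff X p hp F ⟨U, l⟩ σ).1 h0
      refine (hW _).2 ⟨N'.1, m.val, hm, N'.2.1.left (IsLocalRing.closedPoint p.K), ?_⟩
      exact congrArg (fun t => t.1.left (IsLocalRing.closedPoint p.K)) m.property
    · intro hmem
      obtain ⟨V, φ, hφ, v, hv⟩ := (hW _).1 hmem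
      obtain ⟨l', hl'⟩ := exists_liftsTo_of_mem_range p hp φ l v hv
      exact (stalkEtι_eq_zero_iff X p hp F ⟨U, l⟩ σ).2 ⟨⟨V, l'⟩, ⟨φ, hl'⟩, hφ⟩


end Groth.Agent.S10254
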