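import Groth.Statements.S10256
import Groth.Agent.H25.StalkEt1
open Groth.Agent.H25 Groth.Agent.H25.AS

set_option autoImplicit false
universe u
open CategoryTheory CategoryTheory.Limits AlgebraicGeometry Topology TopologicalSpace
open AlgSp

namespace Groth.Agent.S10256

/-- Let X be an algebraic space over a scheme S, F an abelian sheaf on the small etale site of X and x ∈
|X|. Then x lies in the support of F, in the sense that the stalk F_x̄ is nonzero for some geometric
point x̄ over x, if and only if x is the image of a point u of some U etale over X lying in the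
support of some section σ ∈ F(U), i.e. such that σ does not restrict to zero on any V ⟶ U whose
image contains u. (The published definition of the support allows any, equivalently some, geometric
point over x; this row uses the existential form and does not assert that the two readings agree.) -/
theorem result {S : Scheme.{u}} (X : AlgSp.Space S) (F : AlgSp.AbEt X.obj)
    (x : AlgSp.Points X.obj) :
    (∃ p : AlgSp.FieldPt X.obj, p.IsGeometric ∧ AlgSp.Points.mk p = x ∧ ¬ IsZero (AlgSp.stalkEt p F)) ↔
      ∃ (U : AlgSp.EtOver X.obj) (σ : ↥(F.obj.obj (Opposite.op U))) (u : ↥U.obj.left.left),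
        AlgSp.Points.ofPt U.obj.hom u = x ∧
          ∀ (V : AlgSp.EtOver X.obj) (φ : V ⟶ U), (F.obj.map φ.op).hom σ = 0 →
            u ∉ Set.range (fun v => φ.hom.left.left v) := by

  constructor
  · rintro ⟨p, hp, rfl, hnz⟩
    have hns : ¬ Subsingleton ↥(AlgSp.stalkEt p F) :=
      fun h => hnz (AddCommGrpCat.isZero_of_subsingleton _)
    rw [not_subsingleton_iff_nontrivial] at hns
    obtain ⟨s, hs⟩ := exists_ne (0 : ↥(AlgSp.stalkEt p F))
    obtain ⟨N, σ, hσ⟩ := stalkEt_exists_rep X p hp F s
    obtain ⟨U, l⟩ := N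
    refine ⟨U, σ, l.1.left (IsLocalRing.closedPoint p.K), ?_, ?_⟩
    · have e := ofPt_map_comp l.1 U.obj.hom (IsLocalRing.closedPoint p.K)
      rw [l.2, AlgSp.Points.ofPt_toHom] at e
      exact e.symm
    · intro V φ hφ hu
      obtain ⟨v, hv⟩ := hu
      obtain ⟨l', hl'⟩ := exists_liftsTo_of_mem_range p hp φ l v hv
      apply hs
      rw [← hσ]
      exact (stalkEtι_eq_zero_iff X p hp F ⟨U, l⟩ σ).2 ⟨⟨V, l'⟩, ⟨φ, hl'⟩, hφ⟩
  · rintro ⟨U, σ, u, hu, hprop⟩
    obtain ⟨p, hp, l, hl, hpx⟩ := exists_geometric_through U u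
    refine ⟨p, hp, hpx.trans hu, fun hz => ?_⟩
    have hss : Subsingleton ↥(AlgSp.stalkEt p F) := AddCommGrpCat.subsingleton_of_isZero hz
    have h0 : (AlgSp.stalkEtι p F ⟨U, l⟩).hom σ = 0 := Subsingleton.elim _ _
    obtain ⟨N', m, hm⟩ := (stalkEtι_eq_zero_iff X p hp F ⟨U, l⟩ σ).1 h0
    refine hprop N'.1 m.val hm ⟨N'.2.1.left (IsLocalRing.closedPoint p.K), ?_⟩
    have := congrArg (fun t => t.1.left (IsLocalRing.closedPoint p.K)) m.property
    rw [← hl]
    exact this


end Groth.Agent.S10256
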