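import Groth.Statements.S10257
import Groth.Agent.H25.StalkEt1
import Mathlib.Algebra.Category.Ring.FilteredColimits
open Groth.Agent.H25 Groth.Agent.H25.AS

set_option autoImplicit false
universe u
open CategoryTheory CategoryTheory.Limits AlgebraicGeometry Topology TopologicalSpace
open AlgSp

namespace Groth.Agent.S10257

/-- Let X be an algebraic space over a scheme S and O' a sheaf of commutative rings on the small etale
site of X. Then the support of O', the set of points x ∈ |X| such that the stalk O'_x̄ is not the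
zero ring for some geometric point x̄ over x, is closed in |X|. (The published definition of the
support allows any, equivalently some, geometric point over x; this row uses the existential form
and does not assert that the two readings agree.) -/
theorem result {S : Scheme.{u}} (X : AlgSp.Space S)
    (O' : AlgSp.EtSh X.obj CommRingCat.{u + 1}) :
    IsClosed {x : AlgSp.Points X.obj |
      ∃ p : AlgSp.FieldPt X.obj, p.IsGeometric ∧ AlgSp.Points.mk p = x ∧ Nontrivial ↥(AlgSp.stalkEt p O')} := by

  have pfcR : PreservesFilteredColimitsOfSize.{u, u+1} (forget CommRingCat.{u+1}) :=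
    preservesFilteredColimitsOfSize_shrink.{u+1, u+1, u, u+1} _
  rw [← isOpen_compl_iff, isOpen_iff_forall_mem_open]
  intro x hx
  obtain ⟨A, a, hae, has⟩ := X.property.atlas
  obtain ⟨a₀, ha₀⟩ := ofPt_surjective a has x
  obtain ⟨p, hp, l, hl, hpx⟩ := exists_geometric_through (AlgSp.EtOver.mk a hae) a₀
  have hpx' : AlgSp.Points.mk p = x := hpx.trans ha₀
  have hss : Subsingleton ↥(AlgSp.stalkEt p O') := by
    by_contra hns
    rw [not_subsingleton_iff_nontrivial] at hns
    exact hx ⟨p, hp, hpx', hns⟩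
  have := isCofiltered_etNbhd X p hp
  let N : AlgSp.EtNbhd p := ⟨AlgSp.EtOver.mk a hae, l⟩
  have h01 : (colimit.ι (AlgSp.stalkEtDiagram p O') (Opposite.op N))
      (1 : ↥(O'.obj.obj (Opposite.op N.1))) =
      (colimit.ι (AlgSp.stalkEtDiagram p O') (Opposite.op N))
      (0 : ↥(O'.obj.obj (Opposite.op N.1))) := Subsingleton.elim _ _
  obtain ⟨k, f, g, hfg⟩ := Concrete.colimit_exists_of_rep_eq (AlgSp.stalkEtDiagram p O') _ _ h01
  have h10 : (1 : ↥(O'.obj.obj (Opposite.op k.unop.1))) = 0 := by
    have e1 : ((AlgSp.stalkEtDiagram p O').map f) (1 : ↥(O'.obj.obj (Opposite.op N.1))) = 1 :=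
      map_one ((AlgSp.stalkEtDiagram p O').map f).hom
    have e2 : ((AlgSp.stalkEtDiagram p O').map g) (0 : ↥(O'.obj.obj (Opposite.op N.1))) = 0 :=
      map_zero ((AlgSp.stalkEtDiagram p O').map g).hom
    rw [e1, e2] at hfg
    exact hfg
  refine ⟨Set.range (AlgSp.Points.ofPt k.unop.1.obj.hom), ?_,
    (isOpenMap_ofPt k.unop.1.obj.hom k.unop.1.property).isOpen_range, ?_⟩
  · rintro _ ⟨v', rfl⟩ ⟨p', hp', hp'x, hnt⟩
    let UV : AlgSp.Space S := ⟨(AlgSp.yon S).obj k.unop.1.obj.left, AlgSp.IsAlgSpace.yon_obj _⟩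
    let φ : UV ⟶ X := ObjectProperty.homMk k.unop.1.obj.hom
    obtain ⟨ubar, h1, -⟩ := Groth.Agent.S10216.result φ
      (AlgSp.isEtaleMor_of_repWith _ k.unop.1.property) p' hp'
      (AlgSp.Points.ofScheme k.unop.1.obj.left v')
      ((AlgSp.Points.ofPt_eq_map_ofScheme k.unop.1.obj.hom v').symm.trans hp'x.symm)
    let l' : (AlgSp.FieldPt.liftsTo p').obj k.unop.1 := ⟨(AlgSp.yon S).preimage ubar, by
      rw [Functor.map_preimage]
      exact h1⟩
    have e : (1 : ↥(AlgSp.stalkEt p' O')) = 0 := by
      have e1 := map_one (AlgSp.stalkEtι p' O' ⟨k.unop.1, l'⟩).hom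
      have e2 := map_zero (AlgSp.stalkEtι p' O' ⟨k.unop.1, l'⟩).hom
      rw [← e1, ← e2]
      exact congrArg _ h10
    exact one_ne_zero e
  · have e := ofPt_map_comp k.unop.2.1 k.unop.1.obj.hom (IsLocalRing.closedPoint p.K)
    rw [k.unop.2.2, AlgSp.Points.ofPt_toHom] at e
    exact ⟨_, e.symm.trans hpx'⟩


end Groth.Agent.S10257
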