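import Groth.Statements.S10258
import Groth.Agent.H25.StalkEt2
open Groth.Agent.H25 Groth.Agent.H25.AS

set_option autoImplicit false
universe u
open CategoryTheory CategoryTheory.Limits AlgebraicGeometry Topology TopologicalSpace
open AlgSp

namespace Groth.Agent.S10258

/-- Let X be an algebraic space over a scheme S, a : F ⟶ G a morphism of abelian sheaves on the small
etale site of X and x ∈ |X|. If a is surjective (an epimorphism of sheaves) and x lies in the
support of G, i.e. G_x̄ ≠ 0 for some geometric point x̄ over x, then x lies in the support of F; if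
a is injective (a monomorphism) and x lies in the support of F, then x lies in the support of G.
(The published definition of the support allows any, equivalently some, geometric point over x; this
row uses the existential form and does not assert that the two readings agree.) -/
theorem result {S : Scheme.{u}} (X : AlgSp.Space S) {F G : AlgSp.AbEt X.obj}
    (a : F ⟶ G) (x : AlgSp.Points X.obj) :
    (Epi a → (∃ p : AlgSp.FieldPt X.obj, p.IsGeometric ∧ AlgSp.Points.mk p = x ∧ ¬ IsZero (AlgSp.stalkEt p G)) →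
        ∃ p : AlgSp.FieldPt X.obj, p.IsGeometric ∧ AlgSp.Points.mk p = x ∧ ¬ IsZero (AlgSp.stalkEt p F)) ∧
    (Mono a → (∃ p : AlgSp.FieldPt X.obj, p.IsGeometric ∧ AlgSp.Points.mk p = x ∧ ¬ IsZero (AlgSp.stalkEt p F)) →
        ∃ p : AlgSp.FieldPt X.obj, p.IsGeometric ∧ AlgSp.Points.mk p = x ∧ ¬ IsZero (AlgSp.stalkEt p G)) := by

  have nat : ∀ {A B : AlgSp.EtOver X.obj} (ψ : A ⟶ B) (t : ↥(F.obj.obj (Opposite.op B))),
      (a.hom.app (Opposite.op A)).hom ((F.obj.map ψ.op).hom t) =
        (G.obj.map ψ.op).hom ((a.hom.app (Opposite.op B)).hom t) := by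
    intro A B ψ t
    exact ConcreteCategory.congr_hom (a.hom.naturality ψ.op) t
  have mapc : ∀ {A B C : AlgSp.EtOver X.obj} (f : A ⟶ B) (g : B ⟶ C)
      (x : ↥(G.obj.obj (Opposite.op C))),
      (G.obj.map (f ≫ g).op).hom x = (G.obj.map f.op).hom ((G.obj.map g.op).hom x) := by
    intro A B C f g x
    rw [op_comp, Functor.map_comp]
    rfl
  constructor
  · rintro hepi ⟨p, hp, hpx, hnz⟩
    refine ⟨p, hp, hpx, fun hz => hnz ?_⟩
    have hls : Sheaf.IsLocallySurjective a :=
      (Sheaf.isLocallySurjective_iff_epi' AddCommGrpCat.{u+1} a).2 hepi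
    have hss : Subsingleton ↥(AlgSp.stalkEt p F) := AddCommGrpCat.subsingleton_of_isZero hz
    have hall : ∀ s : ↥(AlgSp.stalkEt p G), s = 0 := by
      intro s
      obtain ⟨N, τ, hτ⟩ := stalkEt_exists_rep X p hp G s
      obtain ⟨U, l⟩ := N
      have hcov := Presheaf.imageSieve_mem (AlgSp.etTop X.obj) a.hom τ
      obtain ⟨V, φ, hφ, l', hl'⟩ := exists_liftsTo_of_covering p hp _ hcov l
      obtain ⟨t, ht⟩ := hφ
      have h0 : (AlgSp.stalkEtι p F ⟨V, l'⟩).hom t = 0 := Subsingleton.elim _ _
      obtain ⟨N'', m, hm⟩ := (stalkEtι_eq_zero_iff X p hp F ⟨V, l'⟩ t).1 h0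
      rw [← hτ]
      let NV : AlgSp.EtNbhd p := ⟨V, l'⟩
      let NU : AlgSp.EtNbhd p := ⟨U, l⟩
      let mU : NV ⟶ NU := ⟨φ, hl'⟩
      refine (stalkEtι_eq_zero_iff X p hp G ⟨U, l⟩ τ).2 ⟨N'', m ≫ mU, ?_⟩
      have e1 : (m ≫ mU).val = m.val ≫ φ := rfl
      rw [e1, mapc]
      have ht' : (G.obj.map φ.op).hom τ = (a.hom.app (Opposite.op V)).hom t := ht.symm
      rw [ht', ← nat, hm]
      exact map_zero _
    have : Subsingleton ↥(AlgSp.stalkEt p G) := ⟨fun x y => (hall x).trans (hall y).symm⟩
    exact AddCommGrpCat.isZero_of_subsingleton _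
  · rintro hmono ⟨p, hp, hpx, hnz⟩
    refine ⟨p, hp, hpx, fun hz => hnz ?_⟩
    have hss : Subsingleton ↥(AlgSp.stalkEt p G) := AddCommGrpCat.subsingleton_of_isZero hz
    have hinj : ∀ U : AlgSp.EtOver X.obj, Function.Injective (a.hom.app (Opposite.op U)).hom := by
      intro U
      have h1 : Mono a.hom := inferInstance
      have h2 : Mono (a.hom.app (Opposite.op U)) := inferInstance
      exact (AddCommGrpCat.mono_iff_injective _).1 h2
    have hall : ∀ s : ↥(AlgSp.stalkEt p F), s = 0 := by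
      intro s
      obtain ⟨N, σ, hσ⟩ := stalkEt_exists_rep X p hp F s
      have h0 : (AlgSp.stalkEtι p G N).hom ((a.hom.app (Opposite.op N.1)).hom σ) = 0 :=
        Subsingleton.elim _ _
      obtain ⟨N', m, hm⟩ := (stalkEtι_eq_zero_iff X p hp G N _).1 h0
      rw [← hσ]
      refine (stalkEtι_eq_zero_iff X p hp F N σ).2 ⟨N', m, ?_⟩
      apply hinj
      rw [nat, hm]
      exact (map_zero _).symm
    have : Subsingleton ↥(AlgSp.stalkEt p F) := ⟨fun x y => (hall x).trans (hall y).symm⟩
    exact AddCommGrpCat.isZero_of_subsingleton _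


end Groth.Agent.S10258
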