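import Groth.Statements.S10265
import Groth.Agent.H25.AlgSp16
import Mathlib.AlgebraicGeometry.Morphisms.Smooth
import Mathlib.AlgebraicGeometry.Morphisms.FormallyUnramified

set_option autoImplicit false
universe u
open CategoryTheory CategoryTheory.Limits AlgebraicGeometry
open AlgSp

namespace Groth.Agent.S10265

/-- Whenever a morphism of algebraic spaces is etale, it is, etale locally on both source and target,
smooth, flat, unramified, locally quasi-finite, locally of finite type and locally of finite
presentation. -/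
theorem result {S : Scheme.{u}} {X Y : AlgSp.Space S} (f : X ⟶ Y) (hf : AlgSp.IsEtaleMor f.hom) :
    AlgSp.LocP (@LocallyQuasiFinite ⊓ @LocallyOfFiniteType) f.hom ∧ AlgSp.LocP @Smooth f.hom ∧
    AlgSp.LocP @Flat f.hom ∧ AlgSp.LocP @LocallyOfFinitePresentation f.hom ∧
    AlgSp.LocP @LocallyOfFiniteType f.hom ∧ AlgSp.LocP (@LocallyOfFiniteType ⊓ @FormallyUnramified) f.hom := by
  refine ⟨?_, ?_, ?_, ?_, ?_, ?_⟩
  · exact Groth.Agent.H25.AS.locP_of_isEtaleMor
      (fun g (hg : Etale g) =>
        ⟨Groth.Agent.H25.AS.lqf_of_unramified g, (inferInstance : LocallyOfFiniteType g)⟩) hf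
  · exact Groth.Agent.H25.AS.locP_of_isEtaleMor
      (fun g (hg : Etale g) => (inferInstance : Smooth g)) hf
  · exact Groth.Agent.H25.AS.locP_of_isEtaleMor
      (fun g (hg : Etale g) => (inferInstance : Flat g)) hf
  · exact Groth.Agent.H25.AS.locP_of_isEtaleMor
      (fun g (hg : Etale g) => (inferInstance : LocallyOfFinitePresentation g)) hf
  · exact Groth.Agent.H25.AS.locP_of_isEtaleMor
      (fun g (hg : Etale g) => (inferInstance : LocallyOfFiniteType g)) hf
  · exact Groth.Agent.H25.AS.locP_of_isEtaleMor
      (fun g (hg : Etale g) =>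
        ⟨(inferInstance : LocallyOfFiniteType g), (inferInstance : FormallyUnramified g)⟩) hf


end Groth.Agent.S10265
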