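import Groth.Statements.S10270
import Groth.Agent.H25.AlgSp69
open Groth.Agent.H25 Groth.Agent.H25.AS

set_option autoImplicit false
universe u
open CategoryTheory CategoryTheory.Limits AlgebraicGeometry
open AlgSp

namespace Groth.Agent.S10270

/-- A morphism of algebraic spaces is integral if and only if it is affine and universally closed. -/
theorem result {S : Scheme.{u}} {X Y : AlgSp.Space S} (f : X ⟶ Y) :
    AlgSp.IsIntegralMor f.hom ↔ (AlgSp.IsAffineMor f.hom ∧ AlgSp.IsUnivClosedMor f.hom) := by
  constructor
  · intro h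
    refine ⟨fun Z hZ g => ?_, ?_⟩
    · obtain ⟨W, i, fst, sq, hW, -⟩ := h hZ g
      exact ⟨W, i, fst, sq, hW⟩
    · apply AS.univSp_of_affine AS.descFam_isClosedMor
      intro Z hZ g P fst snd sq
      obtain ⟨W, i, fst', sq', hW, hint⟩ := h hZ g
      have he : snd = (sq.isoIsPullback _ _ sq').hom ≫ (AlgSp.yon S).map i :=
        (sq.isoIsPullback_hom_snd _ _ sq').symm
      have h1 : IsClosedMap (AlgSp.Points.map ((AlgSp.yon S).map i)) :=
        AS.isClosedMap_map_of_repWith _
          ((AlgSp.repWith_yon_map_iff _ _).2 (inferInstance : UniversallyClosed i.left))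
      let e := sq.isoIsPullback _ _ sq'
      let hm : AlgSp.Points P ≃ₜ AlgSp.Points ((AlgSp.yon S).obj W) :=
        { toFun := AlgSp.Points.map e.hom
          invFun := AlgSp.Points.map e.inv
          left_inv := fun x => by rw [← AlgSp.Points.map_comp, e.hom_inv_id, AlgSp.Points.map_id]
          right_inv := fun x => by rw [← AlgSp.Points.map_comp, e.inv_hom_id, AlgSp.Points.map_id]
          continuous_toFun := AlgSp.Points.continuous_map _
          continuous_invFun := AlgSp.Points.continuous_map _ }
      change IsClosedMap (AlgSp.Points.map snd)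
      have : AlgSp.Points.map snd = AlgSp.Points.map ((AlgSp.yon S).map i) ∘ hm := by
        funext x
        rw [he, AlgSp.Points.map_comp]
        rfl
      rw [this]
      exact h1.comp hm.isClosedMap
  · rintro ⟨ha, hc⟩ Z hZ g
    obtain ⟨W, i, fst, sq, hW⟩ := ha hZ g
    refine ⟨W, i, fst, sq, hW, ?_⟩
    have h1 : AlgSp.IsUnivClosedMor ((AlgSp.yon S).map i) := AS.univSp_of_isPullback sq hc
    have h2 : UniversallyClosed i.left := (AlgSp.repWith_yon_map_iff _ _).1
      ((AS.repWith_universallyClosed_iff _ (AlgSp.representable_of_yon _)).2 h1)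
    rw [IsIntegralHom.iff_universallyClosed_and_isAffineHom]
    exact ⟨h2, inferInstance⟩

end Groth.Agent.S10270
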