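import Groth.Statements.S10272
import Groth.Agent.H25.AlgSp28

set_option autoImplicit false
universe u
open CategoryTheory CategoryTheory.Limits AlgebraicGeometry
open AlgSp

namespace Groth.Agent.S10272

/-- If g is separated and the composite of f and g is finite (resp. integral) then f is finite (resp.
integral). -/
theorem result {S : Scheme.{u}} {X Y Z : AlgSp.Space S} (f : X ⟶ Y) (g : Y ⟶ Z)
    (hg : AlgSp.IsSeparatedMor g.hom) :
    (AlgSp.IsFiniteMor (f ≫ g).hom → AlgSp.IsFiniteMor f.hom) ∧
    (AlgSp.IsIntegralMor (f ≫ g).hom → AlgSp.IsIntegralMor f.hom) := by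
  constructor
  · intro h
    exact Groth.Agent.H25.AS.affine_base_change_cancel @IsFinite
      (fun r (_ : IsClosedImmersion r) => (inferInstance : IsFinite r)) f.hom g.hom hg h
  · intro h
    exact Groth.Agent.H25.AS.affine_base_change_cancel @IsIntegralHom
      (fun r (_ : IsClosedImmersion r) => (inferInstance : IsIntegralHom r)) f.hom g.hom hg h


end Groth.Agent.S10272
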