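import Groth.Statements.S10279
import Groth.Agent.H25.AlgSp12

set_option autoImplicit false
universe u
open CategoryTheory CategoryTheory.Limits AlgebraicGeometry
open AlgSp

namespace Groth.Agent.S10279

/-- The target of a surjective morphism over B from a space universally closed over B is universally
closed over B (hence proper over B as soon as it is also separated and of finite type over B, by
definition). -/
theorem result {S : Scheme.{u}} {X Y B : AlgSp.Space S} (f : X ⟶ Y) (p : X ⟶ B)
    (q : Y ⟶ B) (comm : f ≫ q = p) (hp : AlgSp.IsUnivClosedMor p.hom) (hf : AlgSp.IsSurjectiveMor f.hom) :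
    AlgSp.IsUnivClosedMor q.hom := by
  intro Z Z' hZ g fst snd sq
  have sqX := IsPullback.of_hasPullback f.hom fst
  have big := sqX.paste_vert sq
  have e : f.hom ≫ q.hom = p.hom := congrArg (fun m => m.hom) comm
  rw [e] at big
  have hcl : IsClosedMap (AlgSp.Points.map (pullback.snd f.hom fst ≫ snd)) := hp hZ g _ _ big
  have hsurj : Function.Surjective (AlgSp.Points.map (pullback.snd f.hom fst)) :=
    Groth.Agent.H25.AS.isSurjectiveMor_of_isPullback sqX hf
  intro C hC
  have e2 : AlgSp.Points.map snd '' C =
      AlgSp.Points.map (pullback.snd f.hom fst ≫ snd) ''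
        (AlgSp.Points.map (pullback.snd f.hom fst) ⁻¹' C) := by
    ext z
    constructor
    · rintro ⟨c, hc, rfl⟩
      obtain ⟨x, rfl⟩ := hsurj c
      exact ⟨x, hc, AlgSp.Points.map_comp _ _ _⟩
    · rintro ⟨x, hx, rfl⟩
      exact ⟨_, hx, (AlgSp.Points.map_comp _ _ _).symm⟩
  rw [e2]
  exact hcl _ (hC.preimage (AlgSp.Points.continuous_map _))


end Groth.Agent.S10279
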