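import Groth.Statements.S10292
import Groth.Agent.H25.AlgSp69
open Groth.Agent.H25 Groth.Agent.H25.AS

set_option autoImplicit false
universe u
open CategoryTheory CategoryTheory.Limits AlgebraicGeometry
open AlgSp

namespace Groth.Agent.S10292

/-- Along a flat morphism of algebraic spaces, a morphism from the spectrum of a valuation ring to the
target whose closed point is hit lifts to the source after an extension of valuation rings
(injective and local). -/
theorem result {S : Scheme.{u}} {X Y : AlgSp.Space S} (f : X ⟶ Y)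
    (hf : AlgSp.LocP @Flat f.hom) (A : Type u) [CommRing A] [IsDomain A] [ValuationRing A]
    (str : Spec (.of A) ⟶ S) (b : (AlgSp.yon S).obj (Over.mk str) ⟶ Y.obj)
    (hb : AlgSp.Points.ofPt b (IsLocalRing.closedPoint A) ∈ Set.range (AlgSp.Points.map f.hom)) :
    ∃ (A' : Type u) (_ : CommRing A') (_ : IsDomain A') (_ : ValuationRing A') (φ : A →+* A'),
      Function.Injective φ ∧ IsLocalHom φ ∧
      ∃ l : (AlgSp.yon S).obj (Over.mk (Spec.map (CommRingCat.ofHom φ) ≫ str)) ⟶ X.obj,
        l ≫ f.hom = (AlgSp.yon S).map (Over.homMk (Spec.map (CommRingCat.ofHom φ)) rfl :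
          Over.mk (Spec.map (CommRingCat.ofHom φ) ≫ str) ⟶ Over.mk str) ≫ b := by
  have pb := IsPullback.of_hasPullback f.hom b
  have hP : AlgSp.IsAlgSpace (pullback f.hom b) :=
    AS.isAlgSpace_of_isPullback Y.property.diag X.property (AlgSp.IsAlgSpace.yon_obj _) pb
  obtain ⟨x0, hx0⟩ := hb
  have hx0' : AlgSp.Points.map f.hom x0 = AlgSp.Points.map b
      (AlgSp.Points.ofScheme (Over.mk str) (IsLocalRing.closedPoint A)) := by
    rw [hx0, AlgSp.Points.ofPt_eq_map_ofScheme]
  obtain ⟨p, -, hp2⟩ := AS.exists_of_isPullback pb x0 _ hx0'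
  obtain ⟨U, a, hae, has⟩ := hP.atlas
  obtain ⟨u₀, hu₀⟩ := AS.ofPt_surjective a has p
  obtain ⟨h, hh⟩ := (AlgSp.yon S).map_surjective (a ≫ pullback.snd f.hom b)
  have hl : AlgSp.LocP @Flat (pullback.snd f.hom b) :=
    AS.locP_of_isPullback AS.etLoc_flat X.property Y.property
      (AlgSp.IsAlgSpace.yon_obj _) pb hf
  have hfl : Flat h.left :=
    hl a (𝟙 _) h hae (AlgSp.repWith_id _ _) (by rw [Category.comp_id, hh])
  have hcl : h.left u₀ = IsLocalRing.closedPoint A := by
    apply AS.ofScheme_injective (Over.mk str)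
    rw [← AS.map_yon_map_ofScheme, hh, ← AlgSp.Points.ofPt_eq_map_ofScheme, ← AlgSp.Points.map_ofPt,
      hu₀, hp2]
  -- the generic point
  have hgen : (⊥ : PrimeSpectrum A) ⤳ h.left u₀ := by
    rw [hcl]
    exact IsLocalRing.specializes_closedPoint _
  obtain ⟨u₁, hu₁, hu₁'⟩ := (Flat.generalizingMap h.left) hgen
  obtain ⟨A', b', hb', hb'cl⟩ := AS.exists_valuationRing_of_specializes (𝟙 U.left) u₁ u₀ hu₁
  rw [Category.comp_id] at hb'
  let φ' : CommRingCat.of A ⟶ CommRingCat.of A' := Spec.preimage (b' ≫ h.left)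
  have hφ' : Spec.map φ' = b' ≫ h.left := Spec.map_preimage _
  have hloc : IsLocalHom φ'.hom := by
    rw [IsLocalRing.isLocalHom_iff_comap_closedPoint]
    have : (Spec.map φ') (IsLocalRing.closedPoint A') = IsLocalRing.closedPoint A := by
      rw [hφ', Scheme.Hom.comp_apply, hb'cl, hcl]
    exact this
  have hinj : Function.Injective φ'.hom := by
    have h1 : Spec.map (φ' ≫ CommRingCat.ofHom (algebraMap A' (U.left.residueField u₁))) =
        U.left.fromSpecResidueField u₁ ≫ h.left := by
      rw [Spec.map_comp, hφ', ← Category.assoc, ← hb']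
    have h2 : (Spec.map (φ' ≫ CommRingCat.ofHom (algebraMap A' (U.left.residueField u₁))))
        (IsLocalRing.closedPoint (U.left.residueField u₁)) = (⊥ : PrimeSpectrum A) := by
      rw [h1, Scheme.Hom.comp_apply, Scheme.fromSpecResidueField_apply, hu₁']
    have h3 : Ideal.comap (φ' ≫ CommRingCat.ofHom (algebraMap A' (U.left.residueField u₁))).hom
        (IsLocalRing.closedPoint (U.left.residueField u₁)).asIdeal = ⊥ :=
      congrArg PrimeSpectrum.asIdeal h2
    have h4 : (IsLocalRing.closedPoint (U.left.residueField u₁)).asIdeal = ⊥ :=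
      IsLocalRing.maximalIdeal_eq_bot
    rw [h4] at h3
    have h5 : Function.Injective
        (φ' ≫ CommRingCat.ofHom (algebraMap A' (U.left.residueField u₁))).hom :=
      (RingHom.injective_iff_ker_eq_bot _).2 h3
    exact Function.Injective.of_comp (f := algebraMap A' (U.left.residueField u₁)) h5
  have hstr : h.left ≫ str = U.hom := Over.w h
  refine ⟨A', inferInstance, inferInstance, inferInstance, φ'.hom, hinj, hloc, ?_⟩
  let b'' : Over.mk (Spec.map (CommRingCat.ofHom φ'.hom) ≫ str) ⟶ U := Over.homMk b' (by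
    change b' ≫ U.hom = Spec.map φ' ≫ str
    rw [hφ', Category.assoc, hstr])
  refine ⟨(AlgSp.yon S).map b'' ≫ a ≫ pullback.fst f.hom b, ?_⟩
  rw [Category.assoc, Category.assoc, pb.w, ← Category.assoc a, ← hh, ← Category.assoc,
    ← CategoryTheory.Functor.map_comp]
  congr 2
  ext
  exact hφ'.symm

end Groth.Agent.S10292
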