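import Groth.Statements.S10301
import Groth.Agent.H25.AlgSp13

set_option autoImplicit false
universe u
open CategoryTheory CategoryTheory.Limits AlgebraicGeometry
open AlgSp

namespace Groth.Agent.S10301

/-- For a representable morphism of algebraic spaces, being a universal homeomorphism in the
representable sense agrees with inducing homeomorphisms on points after every base change. -/
theorem result {S : Scheme.{u}} {X Y : AlgSp.Space S} (f : X ⟶ Y)
    (hf : AlgSp.Representable f.hom) :
    AlgSp.RepWith FlatMor.IsUnivHomeo f.hom ↔ AlgSp.IsUnivHomeoMor f.hom := by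
  constructor
  · intro h Z Z' _ g fst snd sq
    have hs : AlgSp.RepWith FlatMor.IsUnivHomeo snd := MorphismProperty.of_isPullback sq h
    have h1 : AlgSp.RepWith @UniversallyOpen snd :=
      Groth.Agent.H25.AS.repWith_mono (fun _ _ g hg =>
        ⟨fun _ _ i₁ i₂ f' h => (hg i₁ i₂ f' h).isOpenMap⟩) hs
    have h2 : AlgSp.RepWith @UniversallyInjective snd :=
      Groth.Agent.H25.AS.repWith_mono (fun _ _ g hg =>
        ⟨fun _ _ i₁ i₂ f' h => (hg i₁ i₂ f' h).injective⟩) hs
    have h3 : AlgSp.RepWith @Surjective snd :=
      Groth.Agent.H25.AS.repWith_mono (fun _ _ g hg =>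
        ⟨(hg _ _ _ IsPullback.of_id_snd).surjective⟩) hs
    exact ⟨AlgSp.Points.continuous_map snd, Groth.Agent.H25.AS.isOpenMap_map_of_repWith snd h1,
      Groth.Agent.H25.AS.injective_map_of_repWith snd h2,
      Groth.Agent.H25.AS.isSurjectiveMor_of_repWith snd h3⟩
  · intro h
    exact Groth.Agent.H25.AS.repWith_universally_of_univSp f.hom hf (fun f => IsHomeomorph f)
      (fun _ _ f => IsHomeomorph (AlgSp.Points.map f))
      (fun {T T'} φ h => by
        rw [Groth.Agent.H25.AS.map_yon_map_conj φ]
        exact (AlgSp.Points.schemeHomeo T').symm.isHomeomorph.comp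
          (h.comp (AlgSp.Points.schemeHomeo T).isHomeomorph)) h


end Groth.Agent.S10301
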