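import Groth.Statements.S10302
import Groth.Agent.H25.AlgSp91
open Groth.Agent.H25 Groth.Agent.H25.AS

set_option autoImplicit false
universe u
open CategoryTheory CategoryTheory.Limits AlgebraicGeometry
open AlgSp

namespace Groth.Agent.S10302

/-- A flat morphism of algebraic spaces maps points of codimension 0 to points of codimension 0. -/
theorem result {S : Scheme.{u}} {X Y : AlgSp.Space S} (f : X ⟶ Y) (hf : AlgSp.LocP @Flat f.hom)
    (x : AlgSp.Points X.obj) (hx : AlgSp.HasAt (fun U u => ringKrullDim ↥(U.presheaf.stalk u) = 0) X.obj x) :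
    AlgSp.HasAt (fun U u => ringKrullDim ↥(U.presheaf.stalk u) = 0) Y.obj (AlgSp.Points.map f.hom x) := by

  obtain ⟨U₁, a₁, u₁, ha₁, hu₁, hd⟩ := hx
  obtain ⟨V, b, hbe, hbs⟩ := Y.property.atlas
  obtain ⟨v, hv⟩ := ofPt_surjective b hbs (AlgSp.Points.map f.hom x)
  obtain ⟨U, a, k, u, hae, hcomm, hux, hkv⟩ :=
    exists_chart_through X.property f.hom x b hbe v hv
  have hk : Flat k.left := hf a b k hae hbe hcomm
  have h1 := stalk_dim_le_of_flat k.left u
  rw [hkv, stalk_dim_chart_indep a a₁ hae ha₁ u u₁ (hux.trans hu₁.symm), hd] at h1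
  refine ⟨V, b, v, hbe, hv, le_antisymm h1 ?_⟩
  exact ringKrullDim_nonneg_of_nontrivial


end Groth.Agent.S10302
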