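import Groth.Statements.S10303
import Groth.Agent.H25.AlgSp93
open Groth.Agent.H25 Groth.Agent.H25.AS

set_option autoImplicit false
universe u
open CategoryTheory CategoryTheory.Limits AlgebraicGeometry
open AlgSp

namespace Groth.Agent.S10303

/-- If Y has an etale surjective chart whose quasi-compact opens have finitely many irreducible
components and f : X -> Y is flat and locally of finite type, then X has such a chart too. -/
theorem result {S : Scheme.{u}} {X Y : AlgSp.Space S} (f : X ⟶ Y)
    (hf : AlgSp.LocP @Flat f.hom) (hf' : AlgSp.LocP @LocallyOfFiniteType f.hom)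
    (hY : AlgSp.EtaleLocally (fun U => ∀ W : U.Opens, IsCompact (W : Set ↥U) → (irreducibleComponents ↥W).Finite) Y.obj) :
    AlgSp.EtaleLocally (fun U => ∀ W : U.Opens, IsCompact (W : Set ↥U) → (irreducibleComponents ↥W).Finite) X.obj := by

  obtain ⟨V, b, hbe, hbs, hPV⟩ := hY
  obtain ⟨U, u, h, hue, hus, hh⟩ := exists_chart_over X.property Y.property.diag f.hom b
  have sqV := IsPullback.of_hasPullback f.hom b
  have hae : AlgSp.RepWith @Etale (u ≫ pullback.fst f.hom b) :=
    repWith_etale_comp hue (repWith_fst_of_isPullback sqV hbe)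
  have comm : (u ≫ pullback.fst f.hom b) ≫ f.hom = (AlgSp.yon S).map h ≫ b := by
    rw [Category.assoc, sqV.w, ← Category.assoc, hh]
  refine ⟨U, u ≫ pullback.fst f.hom b, hae,
    repWith_surjective_comp hus (repWith_fst_of_isPullback sqV hbs), ?_⟩
  haveI : Flat h.left := hf _ b h hae hbe comm
  haveI : LocallyOfFiniteType h.left := hf' _ b h hae hbe comm
  exact lfic_of_flat_lft h.left hPV


end Groth.Agent.S10303
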