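import Groth.Statements.S10304
import Groth.Agent.H25.AlgSp94
open Groth.Agent.H25 Groth.Agent.H25.AS

set_option autoImplicit false
universe u
open CategoryTheory CategoryTheory.Limits AlgebraicGeometry
open AlgSp

namespace Groth.Agent.S10304

/-- Equivalent forms of the condition that the schemes etale over X have locally finitely many
irreducible components: one etale surjective chart, every etale chart, finiteness of codimension-0
points of quasi-compact spaces etale over X, finiteness of irreducible components of such spaces. -/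
theorem result {S : Scheme.{u}} (X : AlgSp.Space S) :
    (AlgSp.EtaleLocally (fun U => ∀ W : U.Opens, IsCompact (W : Set ↥U) → (irreducibleComponents ↥W).Finite) X.obj ↔
      ∀ (U : Over S) (a : (AlgSp.yon S).obj U ⟶ X.obj), AlgSp.RepWith @Etale a →
        ∀ W : U.left.Opens, IsCompact (W : Set ↥U.left) → (irreducibleComponents ↥W).Finite) ∧
    (AlgSp.EtaleLocally (fun U => ∀ W : U.Opens, IsCompact (W : Set ↥U) → (irreducibleComponents ↥W).Finite) X.obj ↔
      ∀ (Y : AlgSp.Space S) (g : Y ⟶ X), AlgSp.IsEtaleMor g.hom → AlgSp.IsQuasiCompactSp Y.obj →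
        {y : AlgSp.Points Y.obj |
          AlgSp.HasAt (fun U u => ringKrullDim ↥(U.presheaf.stalk u) = 0) Y.obj y}.Finite) ∧
    (AlgSp.EtaleLocally (fun U => ∀ W : U.Opens, IsCompact (W : Set ↥U) → (irreducibleComponents ↥W).Finite) X.obj ↔
      ∀ (Y : AlgSp.Space S) (g : Y ⟶ X), AlgSp.IsEtaleMor g.hom → AlgSp.IsQuasiCompactSp Y.obj →
        (irreducibleComponents (AlgSp.Points Y.obj)).Finite) := by

  have hfwd : AlgSp.EtaleLocally (fun U => ∀ W : U.Opens, IsCompact (W : Set ↥U) →
      (irreducibleComponents ↥W).Finite) X.obj →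
      ∀ (U : Over S) (a : (AlgSp.yon S).obj U ⟶ X.obj), AlgSp.RepWith @Etale a → LFIC U.left :=
    fun hE U a ha => lfic_chart_of_etaleLocally hE a ha
  refine ⟨⟨fun hE U a ha => hfwd hE U a ha, fun H => ?_⟩, ⟨fun hE Y g hg hqc => ?_, fun H => ?_⟩,
    ⟨fun hE Y g hg hqc => ?_, fun H => ?_⟩⟩
  · obtain ⟨U, a, hae, has⟩ := X.property.atlas
    exact ⟨U, a, hae, has, H U a hae⟩
  · obtain ⟨U, p, hpe, hps, hUc⟩ := hqc
    haveI : CompactSpace U.left := hUc
    exact finite_codimZero_of_chart p hpe hps (hfwd hE U (p ≫ g.hom) (hg p hpe))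
  · obtain ⟨U, a, hae, has⟩ := X.property.atlas
    refine ⟨U, a, hae, has, ?_⟩
    refine (lfic_iff _).2 fun W hW => ?_
    refine finite_genPts_of_codimZero_openOver U W ?_
    exact H ⟨(AlgSp.yon S).obj (openOver U W), AlgSp.IsAlgSpace.yon_obj _⟩
      (ObjectProperty.homMk ((AlgSp.yon S).map (openIncl U W) ≫ a))
      (isEtaleMor_openIncl_comp a hae W) (isQuasiCompactSp_openOver U W hW)
  · obtain ⟨U, p, hpe, hps, hUc⟩ := hqc
    haveI : CompactSpace U.left := hUc
    exact finite_irreducibleComponents_of_chart p hps (hfwd hE U (p ≫ g.hom) (hg p hpe))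
  · obtain ⟨U, a, hae, has⟩ := X.property.atlas
    refine ⟨U, a, hae, has, fun W hW => ?_⟩
    refine finite_irreducibleComponents_openOver U W ?_
    exact H ⟨(AlgSp.yon S).obj (openOver U W), AlgSp.IsAlgSpace.yon_obj _⟩
      (ObjectProperty.homMk ((AlgSp.yon S).map (openIncl U W) ≫ a))
      (isEtaleMor_openIncl_comp a hae W) (isQuasiCompactSp_openOver U W hW)


end Groth.Agent.S10304
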