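import Groth.Statements.S9699
import Groth.Agent.H29.SmoothGCI

set_option autoImplicit false
universe u
open CategoryTheory CategoryTheory.Limits AlgebraicGeometry
open Synt

namespace Groth.Agent.S9699


open TensorProduct

/-- A smooth ring map is syntomic. -/
theorem isSyntomic_of_smooth (A B : Type u) [CommRing A] [CommRing B] [Algebra A B]
    [Algebra.Smooth A B] : Synt.IsSyntomic A B := by
  refine ⟨inferInstance, inferInstance, fun p => ?_⟩
  haveI : Algebra.Smooth p.asIdeal.ResidueField (p.asIdeal.Fiber B) := inferInstance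
  exact Groth.Agent.H29.SmoothGCI.isLCIOver_of_smooth _ _

/-- A smooth morphism of schemes is syntomic (flat, locally of finite presentation, with local complete
intersection fibres, in the affine-local sense of Synt.IsSyntomicMor). -/
theorem result {X S : Scheme.{u}} (f : X ⟶ S) [Smooth f] :
    Synt.IsSyntomicMor f := by
  intro x
  obtain ⟨V, hV, U, hU, hxU, e, -⟩ := Smooth.exists_isStandardSmooth f x
  refine ⟨⟨U, hU⟩, ⟨V, hV⟩, e, hxU, ?_⟩
  have hsm := Smooth.smooth_appLE f hV hU e
  letI := (f.appLE V U e).hom.toAlgebra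
  haveI : Algebra.Smooth Γ(S, V) Γ(X, U) := hsm
  exact isSyntomic_of_smooth Γ(S, V) Γ(X, U)

end Groth.Agent.S9699
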