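import Groth.Statements.S10310
import Groth.Agent.H25.AlgSp87
open Groth.Agent.H25 Groth.Agent.H25.AS

set_option autoImplicit false
universe u
open CategoryTheory CategoryTheory.Limits AlgebraicGeometry
open AlgSp

namespace Groth.Agent.S10310

/-- A morphism locally of finite type is locally quasi-finite if and only if it has relative dimension 0
at every point. -/
theorem result {S : Scheme.{u}} {X Y : AlgSp.Space S} (f : X ⟶ Y)
    (hf : AlgSp.LocP @LocallyOfFiniteType f.hom) :
    AlgSp.LocP (@LocallyQuasiFinite ⊓ @LocallyOfFiniteType) f.hom ↔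
      ∀ x : AlgSp.Points X.obj, AlgSp.HasAtMor (fun _ _ h u => FlatMor.fibreDimAt h u = 0) f.hom x := by

  constructor
  · intro H x
    obtain ⟨U, V, a, b, h, hae, has, hbe, hbs, comm, -⟩ :=
      exists_chart_surjective X.property Y.property f.hom
    obtain ⟨u, hu⟩ := ofPt_surjective a has x
    have hh := H a b h hae hbe comm
    have h1 : LocallyQuasiFinite h.left := hh.1
    have h2 : LocallyOfFiniteType h.left := hh.2
    exact ⟨U, V, a, b, h, u, hae, hbe, comm, hu,
      (fibreDimAt_eq_zero_iff h.left u).2 (isolatedInFibre_of_lqf h.left u)⟩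
  · intro H U V a b h hae hbe comm
    have hlft : LocallyOfFiniteType h.left := hf a b h hae hbe comm
    refine ⟨?_, hlft⟩
    rw [← Scheme.Hom.quasiFiniteLocus_eq_top_iff]
    refine top_le_iff.1 fun u _ => ?_
    rw [Scheme.Hom.mem_quasiFiniteLocus, quasiFiniteAt_iff_isolatedInFibre]
    obtain ⟨U₁, V₁, a₁, b₁, h₁, u₁, ha₁, hb₁, c₁, hu₁, hd⟩ := H (AlgSp.Points.ofPt a u)
    have hlft₁ : LocallyOfFiniteType h₁.left := hf a₁ b₁ h₁ ha₁ hb₁ c₁
    have hiso : IsolatedInFibre h₁.left u₁ := (fibreDimAt_eq_zero_iff h₁.left u₁).1 hd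
    exact etLocAt_isolatedInFibre.of_hasAtMor f.hom _
      ⟨U₁, V₁, a₁, b₁, h₁, u₁, ha₁, hb₁, c₁, hu₁, hiso⟩ a b h hae hbe comm u rfl


end Groth.Agent.S10310
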