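import Groth.Statements.S10313
import Groth.Agent.H25.AlgSp89
open Groth.Agent.H25 Groth.Agent.H25.AS

set_option autoImplicit false
universe u
open CategoryTheory CategoryTheory.Limits AlgebraicGeometry
open AlgSp

namespace Groth.Agent.S10313

/-- For f locally of finite type there is an open subspace of X on which f is locally quasi-finite,
outside of which the relative dimension is at least 1, and whose formation commutes with base
change. -/
theorem result {S : Scheme.{u}} {X Y : AlgSp.Space S} (f : X ⟶ Y)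
    (hf : AlgSp.LocP @LocallyOfFiniteType f.hom) :
    ∃ (X' : AlgSp.Space S) (j : X' ⟶ X), AlgSp.RepWith @IsOpenImmersion j.hom ∧
      AlgSp.LocP (@LocallyQuasiFinite ⊓ @LocallyOfFiniteType) (j ≫ f).hom ∧
      (∀ x : AlgSp.Points X.obj, x ∉ Set.range (AlgSp.Points.map j.hom) →
        AlgSp.HasAtMor (fun _ _ h u => 1 ≤ FlatMor.fibreDimAt h u) f.hom x) ∧
      ∀ (Y'' X'' : AlgSp.Space S) (g : Y'' ⟶ Y) (b : X'' ⟶ X) (f'' : X'' ⟶ Y''),
        IsPullback b.hom f''.hom f.hom g.hom → ∀ x'' : AlgSp.Points X''.obj,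
          AlgSp.Points.map b.hom x'' ∈ Set.range (AlgSp.Points.map j.hom) ↔ AlgSp.HasAtMor (fun U _ h u => ∃ W : U.Opens, u ∈ W ∧ LocallyQuasiFinite (W.ι ≫ h) ∧ LocallyOfFiniteType (W.ι ≫ h)) f''.hom x'' := by

  have hE : EtLoc (@LocallyQuasiFinite ⊓ @LocallyOfFiniteType) :=
    etLoc_locallyQuasiFinite.inf etLoc_locallyOfFiniteType
  have hQ : PtEtLoc (NearP (@LocallyQuasiFinite ⊓ @LocallyOfFiniteType)) := ptEtLoc_near hE
  have hW : IsOpen {x : AlgSp.Points X.obj |
      AlgSp.HasAtMor (NearP (@LocallyQuasiFinite ⊓ @LocallyOfFiniteType)) f.hom x} :=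
    isOpen_hasAtMor_near _ f.hom
  have hj := repWith_isOpenImmersion_openSpι (X := X.obj) hW
  have hr := range_map_openSpι (X := X.obj) hW
  refine ⟨⟨openSp X.obj _, isAlgSpace_openSp X.property hW⟩,
    ObjectProperty.homMk (openSpι X.obj _), hj, ?_, ?_, ?_⟩
  · change AlgSp.LocP _ (openSpι X.obj _ ≫ f.hom)
    intro U V a b h hae hbe comm
    have ha' : AlgSp.RepWith @Etale (a ≫ openSpι X.obj _) :=
      repWith_etale_comp hae (repWith_mono le_etale_of_isOpenImmersion hj)
    have comm' : (a ≫ openSpι X.obj _) ≫ f.hom = (AlgSp.yon S).map h ≫ b := by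
      rw [Category.assoc]; exact comm
    have hlft : LocallyOfFiniteType h.left := hf _ b h ha' hbe comm'
    refine ⟨?_, hlft⟩
    rw [← Scheme.Hom.quasiFiniteLocus_eq_top_iff]
    refine top_le_iff.1 fun u _ => ?_
    rw [Scheme.Hom.mem_quasiFiniteLocus, quasiFiniteAt_iff_isolatedInFibre]
    have hxW : AlgSp.Points.ofPt (a ≫ openSpι X.obj _) u ∈ {x : AlgSp.Points X.obj |
        AlgSp.HasAtMor (NearP (@LocallyQuasiFinite ⊓ @LocallyOfFiniteType)) f.hom x} := by
      refine hr.subset ?_
      rw [← AlgSp.Points.map_ofPt]; exact ⟨_, rfl⟩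
    have := hasAtMor_all_of_some hQ f.hom _ hxW (a ≫ openSpι X.obj _) b h u ha' hbe comm' rfl
    exact isolatedInFibre_of_qfNear h.left u this
  · intro x hx
    change x ∉ Set.range (AlgSp.Points.map (openSpι X.obj _)) at hx
    rw [hr] at hx
    obtain ⟨U, V, a, b, h, hae, has, hbe, hbs, comm, -⟩ :=
      exists_chart_surjective X.property Y.property f.hom
    obtain ⟨u, hu⟩ := ofPt_surjective a has x
    have hlft : LocallyOfFiniteType h.left := hf a b h hae hbe comm
    refine ⟨U, V, a, b, h, u, hae, hbe, comm, hu, ?_⟩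
    apply withBot_enat_one_le_of_not_le_zero
    intro hle
    have h0 : FlatMor.fibreDimAt h.left u = 0 := le_antisymm hle (fibreDimAt_nonneg h.left u)
    have hiso := (fibreDimAt_eq_zero_iff h.left u).1 h0
    obtain ⟨W', hW', h3, h4⟩ := qfNear_of_isolatedInFibre h.left u hiso
    exact hx ⟨U, V, a, b, h, u, hae, hbe, comm, hu, W', hW', h3, h4⟩
  · intro Y'' X'' g b f'' sq x''
    change AlgSp.Points.map b.hom x'' ∈ Set.range (AlgSp.Points.map (openSpι X.obj _)) ↔ _
    rw [hr]
    exact (hasAtMor_baseChange_iff hQ (P₀ := @LocallyOfFiniteType)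
      (fun sq' hh u₁ => qfNear_baseChange_iff sq' hh u₁) X.property Y.property Y''.property sq hf
      x'').symm


end Groth.Agent.S10313
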