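import Groth.Statements.S10316
import Groth.Agent.H25.AlgSp85
open Groth.Agent.H25 Groth.Agent.H25.AS

set_option autoImplicit false
universe u
open CategoryTheory CategoryTheory.Limits AlgebraicGeometry
open AlgSp

namespace Groth.Agent.S10316

/-- For X -> Y locally quasi-finite and Y -> Z locally of finite type, the transcendence degree of x
over Z equals that of its image y over Z. -/
theorem result {S : Scheme.{u}} {X Y Z : AlgSp.Space S} (f : X ⟶ Y) (g : Y ⟶ Z)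
    (hf : AlgSp.LocP (@LocallyQuasiFinite ⊓ @LocallyOfFiniteType) f.hom) (hg : AlgSp.LocP @LocallyOfFiniteType g.hom)
    (x : AlgSp.Points X.obj) (r : Cardinal.{u}) :
    AlgSp.HasAtMor (fun _ _ h u => Dual3.resTrdeg h u = r) (f ≫ g).hom x ↔
      AlgSp.HasAtMor (fun _ _ h u => Dual3.resTrdeg h u = r) g.hom (AlgSp.Points.map f.hom x) := by

  have key : ∀ {V₂ W₂ : Over S} (b₂ : (AlgSp.yon S).obj V₂ ⟶ Y.obj)
      (c₂ : (AlgSp.yon S).obj W₂ ⟶ Z.obj) (k₂ : V₂ ⟶ W₂) (v₂ : ↥V₂.left),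
      AlgSp.RepWith @Etale b₂ → AlgSp.RepWith @Etale c₂ →
      b₂ ≫ g.hom = (AlgSp.yon S).map k₂ ≫ c₂ →
      AlgSp.Points.ofPt b₂ v₂ = AlgSp.Points.map f.hom x →
      ∃ (U : Over S) (a : (AlgSp.yon S).obj U ⟶ X.obj) (k : U ⟶ W₂) (u : ↥U.left),
        AlgSp.RepWith @Etale a ∧ a ≫ (f ≫ g).hom = (AlgSp.yon S).map k ≫ c₂ ∧
        AlgSp.Points.ofPt a u = x ∧
        Dual3.resTrdeg k.left u = Dual3.resTrdeg k₂.left v₂ := by
    intro V₂ W₂ b₂ c₂ k₂ v₂ hb₂ hc₂ d₂ hv₂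
    obtain ⟨U, a, k, u, hae, hcomm, hux, hkv⟩ :=
      exists_chart_through X.property f.hom x b₂ hb₂ v₂ hv₂
    have hk := hf a b₂ k hae hb₂ hcomm
    have hk1 : LocallyQuasiFinite k.left := hk.1
    have hk2 : LocallyOfFiniteType k.left := hk.2
    refine ⟨U, a, k ≫ k₂, u, hae, ?_, hux, ?_⟩
    · change a ≫ f.hom ≫ g.hom = _
      rw [← Category.assoc, hcomm, Category.assoc, d₂, Functor.map_comp, Category.assoc]
    · rw [Over.comp_left, resTrdeg_comp, hkv, resTrdeg_eq_zero_of_lqf k.left u, add_zero]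
  constructor
  · rintro ⟨U₁, W₁, a₁, c₁, k₁, u₁, ha₁, hc₁, d₁, hu₁, ht₁⟩
    have hw : AlgSp.Points.ofPt c₁ (k₁.left u₁) =
        AlgSp.Points.map g.hom (AlgSp.Points.map f.hom x) := by
      rw [← ofPt_map_comp, ← d₁, ← hu₁, ← AlgSp.Points.map_ofPt]
      exact AlgSp.Points.map_comp f.hom g.hom _
    obtain ⟨V, b, k, v, hbe, hcomm, hvy, hkw⟩ :=
      exists_chart_through Y.property g.hom (AlgSp.Points.map f.hom x) c₁ hc₁ (k₁.left u₁) hw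
    obtain ⟨U, a, k', u, hae, hcomm', hux, hk'⟩ := key b c₁ k v hbe hc₁ hcomm hvy
    refine ⟨V, W₁, b, c₁, k, v, hbe, hc₁, hcomm, hvy, ?_⟩
    change Dual3.resTrdeg k.left v = r
    rw [← hk', ← ht₁]
    exact resTrdeg_chart_indep (f ≫ g).hom a c₁ k' a₁ c₁ k₁ hae hc₁ ha₁ hc₁ hcomm' d₁ u u₁
      (hux.trans hu₁.symm)
  · rintro ⟨V₂, W₂, b₂, c₂, k₂, v₂, hb₂, hc₂, d₂, hv₂, ht₂⟩
    obtain ⟨U, a, k, u, hae, hcomm, hux, hk⟩ := key b₂ c₂ k₂ v₂ hb₂ hc₂ d₂ hv₂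
    exact ⟨U, W₂, a, c₂, k, u, hae, hc₂, hcomm, hux, hk.trans ht₂⟩


end Groth.Agent.S10316
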