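import Groth.Statements.S10318
import Groth.Agent.H25.AlgSp83
open Groth.Agent.H25 Groth.Agent.H25.AS

set_option autoImplicit false
universe u
open CategoryTheory CategoryTheory.Limits AlgebraicGeometry
open AlgSp

namespace Groth.Agent.S10318

/-- Over a Jacobson algebraic space, a finite type point of a space locally of finite type over it has
transcendence degree 0 over its image. -/
theorem result {S : Scheme.{u}} {X Y : AlgSp.Space S} (f : X ⟶ Y)
    (hf : AlgSp.LocP @LocallyOfFiniteType f.hom) (hY : AlgSp.EtaleLocally (fun U => JacobsonSpace ↥U) Y.obj)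
    (x : AlgSp.Points X.obj) (hx : AlgSp.HasAt (fun U u => IsClosed ({u} : Set ↥U)) X.obj x) :
    AlgSp.HasAtMor (fun _ _ h u => Dual3.resTrdeg h u = 0) f.hom x := by

  obtain ⟨U, a, u, hae, hux, hucl⟩ := hx
  obtain ⟨V, b, hbe, hbs⟩ := Y.property.atlas
  have sq := hbe.rep.isPullback' (a ≫ f.hom)
  have hsndE : Etale (hbe.rep.snd (a ≫ f.hom)).left := hbe.property_snd (a ≫ f.hom)
  have hsndS : Surjective (hbe.rep.snd (a ≫ f.hom)).left := hbs.property_snd (a ≫ f.hom)
  obtain ⟨p, hp⟩ := hsndS.surj u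
  have ha' : AlgSp.RepWith @Etale ((AlgSp.yon S).map (hbe.rep.snd (a ≫ f.hom)) ≫ a) :=
    repWith_etale_comp ((repWith_yon_map_iff @Etale _).2 hsndE) hae
  have comm : ((AlgSp.yon S).map (hbe.rep.snd (a ≫ f.hom)) ≫ a) ≫ f.hom =
      (AlgSp.yon S).map (hbe.rep.fst' (a ≫ f.hom)) ≫ b := by
    rw [Category.assoc]; exact sq.w.symm
  have hlft : LocallyOfFiniteType (hbe.rep.fst' (a ≫ f.hom)).left :=
    hf _ b _ ha' hbe comm
  have hpcl : IsClosed ({p} : Set ↥(hbe.rep.pullback (a ≫ f.hom)).left) :=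
    isClosed_singleton_of_etale_over_closed (hbe.rep.snd (a ≫ f.hom)).left p (hp ▸ hucl)
  refine ⟨_, V, _, b, hbe.rep.fst' (a ≫ f.hom), p, ha', hbe, comm, ?_, ?_⟩
  · rw [ofPt_map_comp, hp, hux]
  · exact resTrdeg_eq_zero_of_isClosed _ p hpcl


end Groth.Agent.S10318
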