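import Groth.Statements.S10319
import Groth.Agent.H25.AlgSp85
open Groth.Agent.H25 Groth.Agent.H25.AS

set_option autoImplicit false
universe u
open CategoryTheory CategoryTheory.Limits AlgebraicGeometry
open AlgSp

namespace Groth.Agent.S10319

/-- Transcendence degrees at a point add up along a composition of morphisms locally of finite type. -/
theorem result {S : Scheme.{u}} {X Y Z : AlgSp.Space S} (f : X ⟶ Y) (g : Y ⟶ Z)
    (hf : AlgSp.LocP @LocallyOfFiniteType f.hom) (hg : AlgSp.LocP @LocallyOfFiniteType g.hom)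
    (x : AlgSp.Points X.obj) (r₁ r₂ : Cardinal.{u})
    (h1 : AlgSp.HasAtMor (fun _ _ h u => Dual3.resTrdeg h u = r₁) f.hom x)
    (h2 : AlgSp.HasAtMor (fun _ _ h u => Dual3.resTrdeg h u = r₂) g.hom (AlgSp.Points.map f.hom x)) :
    AlgSp.HasAtMor (fun _ _ h u => Dual3.resTrdeg h u = r₁ + r₂) (f ≫ g).hom x := by

  obtain ⟨U₁, V₁, a₁, b₁, k₁, u₁, ha₁, hb₁, c₁, hu₁, ht₁⟩ := h1
  obtain ⟨V₂, W₂, b₂, c₂, k₂, v₂, hb₂, hc₂, d₂, hv₂, ht₂⟩ := h2
  obtain ⟨U, a, k, u, hae, hcomm, hux, hkv⟩ :=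
    exists_chart_through X.property f.hom x b₂ hb₂ v₂ hv₂
  have e : AlgSp.Points.ofPt a u = AlgSp.Points.ofPt a₁ u₁ := hux.trans hu₁.symm
  have hk : Dual3.resTrdeg k.left u = r₁ :=
    (resTrdeg_chart_indep f.hom a b₂ k a₁ b₁ k₁ hae hb₂ ha₁ hb₁ hcomm c₁ u u₁ e).trans ht₁
  refine ⟨U, W₂, a, c₂, k ≫ k₂, u, hae, hc₂, ?_, hux, ?_⟩
  · change a ≫ f.hom ≫ g.hom = _
    rw [← Category.assoc, hcomm, Category.assoc, d₂, Functor.map_comp, Category.assoc]
  · change Dual3.resTrdeg (k ≫ k₂).left u = r₁ + r₂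
    rw [Over.comp_left, resTrdeg_comp, hkv, ht₂, hk, add_comm]


end Groth.Agent.S10319
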