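import Groth.Statements.S1032
import Mathlib

set_option autoImplicit false
universe w v v' u u'
open CategoryTheory CategoryTheory.Limits
open CohDer

namespace Groth.Agent.S1032

section Helpers

variable {A : Type u} [Category.{v} A] [Abelian A] [HasDerivedCategory.{w} A]

noncomputable def lift (I : CochainComplex A ℤ) [I.IsKInjective]
    (Z : CostructuredArrow (DerivedCategory.Qh (C := A))
      (DerivedCategory.Qh.obj ((HomotopyCategory.quotient A (ComplexShape.up ℤ)).obj I))) :
    Z.left ⟶ (HomotopyCategory.quotient A (ComplexShape.up ℤ)).obj I :=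
  ((CochainComplex.IsKInjective.Qh_map_bijective Z.left I).surjective Z.hom).choose

lemma lift_spec (I : CochainComplex A ℤ) [I.IsKInjective]
    (Z : CostructuredArrow (DerivedCategory.Qh (C := A))
      (DerivedCategory.Qh.obj ((HomotopyCategory.quotient A (ComplexShape.up ℤ)).obj I))) :
    DerivedCategory.Qh.map (lift I Z) = Z.hom :=
  ((CochainComplex.IsKInjective.Qh_map_bijective Z.left I).surjective Z.hom).choose_spec

noncomputable def isTerminalMk (I : CochainComplex A ℤ) [I.IsKInjective] :
    IsTerminal (CostructuredArrow.mk (S := DerivedCategory.Qh (C := A))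
      (𝟙 (DerivedCategory.Qh.obj ((HomotopyCategory.quotient A (ComplexShape.up ℤ)).obj I)))) :=
  IsTerminal.ofUniqueHom
    (fun Z => CostructuredArrow.homMk (lift I Z) (by
      change DerivedCategory.Qh.map (lift I Z) ≫ 𝟙 _ = Z.hom
      rw [Category.comp_id, lift_spec]))
    (fun Z m => by
      apply CostructuredArrow.hom_ext
      apply (CochainComplex.IsKInjective.Qh_map_bijective Z.left I).injective
      have hm : DerivedCategory.Qh.map m.left ≫ 𝟙 _ = Z.hom := CostructuredArrow.w m
      rw [Category.comp_id] at hm
      change DerivedCategory.Qh.map m.left = DerivedCategory.Qh.map (lift I Z)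
      rw [hm, lift_spec])

end Helpers


/-- Let A be an abelian category in which every cochain complex admits a quasi-isomorphism to a
K-injective complex, and let F be an exact functor from the homotopy category K(A) to a
pretriangulated category. Then F has a right derived functor RF with respect to quasi-isomorphisms
(defined on D(A)), and the canonical map F(I) ⟶ RF(I) is an isomorphism for every K-injective
complex I. -/
theorem result {A : Type u} [Category.{v} A] [Abelian A] [HasDerivedCategory.{w} A]
    (hKinj : ∀ K : CochainComplex A ℤ, ∃ (I : CochainComplex A ℤ) (f : K ⟶ I), I.IsKInjective ∧ QuasiIso f)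
    {D' : Type u'} [Category.{v'} D'] [Preadditive D'] [Limits.HasZeroObject D'] [HasShift D' ℤ]
    [∀ n : ℤ, (shiftFunctor D' n).Additive] [Pretriangulated D']
    [IsTriangulated D']
    (F : HomotopyCategory A (ComplexShape.up ℤ) ⥤ D') [F.CommShift ℤ] [F.IsTriangulated] :
    F.HasRightDerivedFunctor (HomotopyCategory.quasiIso A (ComplexShape.up ℤ)) ∧
    ∀ [F.HasRightDerivedFunctor (HomotopyCategory.quasiIso A (ComplexShape.up ℤ))] (I : CochainComplex A ℤ), I.IsKInjective →
      IsIso ((F.totalRightDerivedUnit DerivedCategory.Qh (HomotopyCategory.quasiIso A (ComplexShape.up ℤ))).app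
        ((HomotopyCategory.quotient A (ComplexShape.up ℤ)).obj I)) := by
  have hpw : F.HasPointwiseRightDerivedFunctor (HomotopyCategory.quasiIso A (ComplexShape.up ℤ)) := by
    intro X
    obtain ⟨K, rfl⟩ := HomotopyCategory.quotient_obj_surjective X
    obtain ⟨I, f, hI, hf⟩ := hKinj K
    haveI := hI
    have hw : HomotopyCategory.quasiIso A (ComplexShape.up ℤ)
        ((HomotopyCategory.quotient A (ComplexShape.up ℤ)).map f) := by
      rw [HomotopyCategory.quotient_map_mem_quasiIso_iff, HomologicalComplex.mem_quasiIso_iff]
      exact hf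
    rw [F.hasPointwiseRightDerivedFunctorAt_iff_of_mem _ _ hw,
      F.hasPointwiseRightDerivedFunctorAt_iff DerivedCategory.Qh]
    exact HasColimit.mk ⟨_, Limits.colimitOfDiagramTerminal (isTerminalMk I) _⟩
  refine ⟨inferInstance, ?_⟩
  intro _ I hI
  haveI := hI
  have hE := Functor.isPointwiseLeftKanExtensionOfHasPointwiseRightDerivedFunctor
    (F.totalRightDerived DerivedCategory.Qh (HomotopyCategory.quasiIso A (ComplexShape.up ℤ)))
    (F.totalRightDerivedUnit DerivedCategory.Qh (HomotopyCategory.quasiIso A (ComplexShape.up ℤ)))
    (HomotopyCategory.quasiIso A (ComplexShape.up ℤ))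
  have h1 := (hE (DerivedCategory.Qh.obj
    ((HomotopyCategory.quotient A (ComplexShape.up ℤ)).obj I))).isIso_ι_app_of_isTerminal _
      (isTerminalMk I)
  dsimp [Functor.LeftExtension.coconeAt] at h1
  rw [CategoryTheory.Functor.map_id, Category.comp_id] at h1
  exact h1

end Groth.Agent.S1032
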