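import Groth.Statements.S9994
import Groth.Agent.H25.AlgSp60
open Groth.Agent.H25 Groth.Agent.H25.AS

set_option autoImplicit false
universe u
open CategoryTheory CategoryTheory.Limits AlgebraicGeometry
open AlgSp

namespace Groth.Agent.S9994

/-- A morphism f : X ⟶ Y of algebraic spaces has P etale locally on the source and target if and only if
it has P at every point of |X| in the neighbourhood sense (some chart diagram through the point
whose top arrow has P on an open neighbourhood of the chosen point). -/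
theorem result {S : Scheme.{u}} (P : MorphismProperty Scheme.{u})
    (hP : P = @LocallyOfFiniteType ∨ P = @LocallyOfFinitePresentation ∨ P = @Flat ∨ P = @Smooth ∨ P = @Etale ∨
      (∀ ⦃A B : Scheme.{u}⦄ (g : A ⟶ B), P g ↔ (LocallyQuasiFinite g ∧ LocallyOfFiniteType g)) ∨
      (∀ ⦃A B : Scheme.{u}⦄ (g : A ⟶ B), P g ↔ (LocallyOfFiniteType g ∧ FormallyUnramified g)))
    {X Y : AlgSp.Space S} (f : X ⟶ Y) :
    AlgSp.LocP P f.hom ↔
      ∀ x : AlgSp.Points X.obj, AlgSp.HasAtMor (fun U _ h u => ∃ W : U.Opens, u ∈ W ∧ P (W.ι ≫ h)) f.hom x := by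
  have hE : AS.EtLoc P := AS.etLoc_of_listed P hP
  haveI := hE.mult
  haveI := hE.zar
  constructor
  · intro hf x
    obtain ⟨V, b, hbe, hbs⟩ := Y.property.atlas
    obtain ⟨U, u, h, hue, hus, hh⟩ := AS.exists_chart_over X.property Y.property.diag f.hom b
    have sqfb := IsPullback.of_hasPullback f.hom b
    have hae : AlgSp.RepWith @Etale (u ≫ pullback.fst f.hom b) :=
      AS.repWith_etale_comp hue (AS.repWith_fst_of_isPullback sqfb hbe)
    have has : AlgSp.RepWith @Surjective (u ≫ pullback.fst f.hom b) :=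
      AS.repWith_surjective_comp hus (AS.repWith_fst_of_isPullback sqfb hbs)
    have comm : (u ≫ pullback.fst f.hom b) ≫ f.hom = (AlgSp.yon S).map h ≫ b := by
      rw [Category.assoc, sqfb.w, ← Category.assoc, hh]
    obtain ⟨u₀, hu₀⟩ := AS.ofPt_surjective _ has x
    refine ⟨U, V, u ≫ pullback.fst f.hom b, b, h, u₀, hae, hbe, comm, hu₀, ⊤, trivial, ?_⟩
    exact P.comp_mem _ _ (hE.etale_le _ inferInstance) (hf _ b h hae hbe comm)
  · intro hx U V a b h ha hb w
    have key : ∀ u : ↥U.left, ∃ W : U.left.Opens, u ∈ W ∧ P (W.ι ≫ h.left) := fun u =>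
      AS.hasAtMor_all_of_some (AS.ptEtLoc_near hE) f.hom _ (hx (AlgSp.Points.ofPt a u)) a b h u
        ha hb w rfl
    choose W hW hPW using key
    rw [IsZariskiLocalAtSource.iff_of_iSup_eq_top (P := P) W]
    · exact hPW
    · rw [eq_top_iff]
      intro u _
      exact TopologicalSpace.Opens.mem_iSup.2 ⟨u, hW u⟩


end Groth.Agent.S9994
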