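import Groth.Statements.S9993
import Groth.Agent.H25.AlgSp60
import Groth.Agent.S9994
open Groth.Agent.H25 Groth.Agent.H25.AS

set_option autoImplicit false
universe u
open CategoryTheory CategoryTheory.Limits AlgebraicGeometry
open AlgSp

namespace Groth.Agent.S9993

/-- A morphism f : X ⟶ Y of algebraic spaces has P at the point x in the neighbourhood sense (some chart
diagram through x whose top arrow has P on an open neighbourhood of the chosen point) if and only if
some open subspace X' of X through x has its restriction X' ⟶ Y in the class P etale locally on the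
source and target. -/
theorem result {S : Scheme.{u}} (P : MorphismProperty Scheme.{u})
    (hP : P = @LocallyOfFiniteType ∨ P = @LocallyOfFinitePresentation ∨ P = @Flat ∨ P = @Smooth ∨ P = @Etale ∨
      (∀ ⦃A B : Scheme.{u}⦄ (g : A ⟶ B), P g ↔ (LocallyQuasiFinite g ∧ LocallyOfFiniteType g)) ∨
      (∀ ⦃A B : Scheme.{u}⦄ (g : A ⟶ B), P g ↔ (LocallyOfFiniteType g ∧ FormallyUnramified g)))
    {X Y : AlgSp.Space S} (f : X ⟶ Y) (x : AlgSp.Points X.obj) :
    AlgSp.HasAtMor (fun U _ h u => ∃ W : U.Opens, u ∈ W ∧ P (W.ι ≫ h)) f.hom x ↔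
      ∃ (X' : AlgSp.Space S) (j : X' ⟶ X), AlgSp.RepWith @IsOpenImmersion j.hom ∧
        x ∈ Set.range (AlgSp.Points.map j.hom) ∧ AlgSp.LocP P (j ≫ f).hom := by
  have hE : AS.EtLoc P := AS.etLoc_of_listed P hP
  constructor
  · rintro ⟨U, V, a, b, h, u, ha, hb, w, hu, W, huW, hW⟩
    have hopen : IsOpen (AlgSp.Points.ofPt a '' (W : Set ↥U.left)) :=
      AS.isOpenMap_ofPt a ha _ W.isOpen
    have hj := AS.repWith_isOpenImmersion_openSpι (X := X.obj) hopen
    have hr := AS.range_map_openSpι (X := X.obj) hopen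
    haveI : Mono (AS.openSpι X.obj (AlgSp.Points.ofPt a '' (W : Set ↥U.left))) :=
      AS.mono_of_isOpenImmersion _ hj
    let a' : (AlgSp.yon S).obj (AS.openOver U W) ⟶ X.obj := (AlgSp.yon S).map (AS.openIncl U W) ≫ a
    have ha' : AlgSp.RepWith @Etale a' := AS.repWith_etale_comp (AS.repWith_etale_openIncl U W) ha
    have hsub : Set.range (AlgSp.Points.map a') ⊆
        Set.range (AlgSp.Points.map (AS.openSpι X.obj (AlgSp.Points.ofPt a '' (W : Set ↥U.left)))) := by
      rw [hr]
      rintro _ ⟨y, rfl⟩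
      obtain ⟨t, rfl⟩ := AS.exists_ofScheme y
      rw [← AlgSp.Points.ofPt_eq_map_ofScheme, AS.ofPt_map_comp]
      exact ⟨_, ((t : ↥(AS.openOver U W).left) : ↥W).2, rfl⟩
    obtain ⟨g, hg⟩ := AS.exists_factor_of_range_subset _ hj a' hsub
    have hge : AlgSp.RepWith @Etale g := AS.repWith_of_comp_mono (m := AS.openSpι X.obj _) (by rw [hg]; exact ha')
    have hgs : AlgSp.RepWith @Surjective g := by
      apply AS.repWith_surjective_of_isSurjectiveMor g hge.rep
      intro x'
      have hx' : AlgSp.Points.map (AS.openSpι X.obj _) x' ∈ AlgSp.Points.ofPt a '' (W : Set ↥U.left) :=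
        hr.subset ⟨x', rfl⟩
      obtain ⟨t, ht, hte⟩ := hx'
      refine ⟨AlgSp.Points.ofScheme _ (⟨t, ht⟩ : ↥W), ?_⟩
      apply AS.injective_map_of_isOpenImmersion _ hj
      rw [← hte, ← AlgSp.Points.map_comp, hg, ← AlgSp.Points.ofPt_eq_map_ofScheme, AS.ofPt_map_comp]
      rfl
    refine ⟨⟨AS.openSp X.obj _, AS.isAlgSpace_openSp X.property hopen⟩,
      ObjectProperty.homMk (AS.openSpι X.obj _), hj, ?_, ?_⟩
    · change x ∈ Set.range (AlgSp.Points.map (AS.openSpι X.obj _))
      rw [hr]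
      exact ⟨u, huW, hu⟩
    · change AlgSp.LocP P (AS.openSpι X.obj _ ≫ f.hom)
      refine AS.locP_of_chart hE _ g b (AS.openIncl U W ≫ h) hge hgs hb ?_ hW
      rw [← Category.assoc, hg, Functor.map_comp, Category.assoc, Category.assoc, w]
  · rintro ⟨X', j, hj, ⟨x', hx'⟩, hloc⟩
    obtain ⟨U, V, a, b, h, u, ha, hb, w, hu, hQ⟩ := (Groth.Agent.S9994.result P hP (j ≫ f)).1 hloc x'
    refine ⟨U, V, a ≫ j.hom, b, h, u,
      AS.repWith_etale_comp ha (AS.repWith_mono AS.le_etale_of_isOpenImmersion hj), hb, ?_, ?_, hQ⟩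
    · rw [Category.assoc]; exact w
    · rw [← AlgSp.Points.map_ofPt, hu, hx']


end Groth.Agent.S9993
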