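import Groth.Statements.S10329
import Groth.Agent.H25.AlgSp89
import Groth.Agent.S9993
open Groth.Agent.H25 Groth.Agent.H25.AS

set_option autoImplicit false
universe u
open CategoryTheory CategoryTheory.Limits AlgebraicGeometry
open AlgSp

namespace Groth.Agent.S10329

/-- If the fibre of a morphism locally of finite type has dimension 0 at a point, then the morphism is
locally quasi-finite on some open subspace containing the image of that point. -/
theorem result {S : Scheme.{u}} {X Y F : AlgSp.Space S} (f : X ⟶ Y)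
    (hf : AlgSp.LocP @LocallyOfFiniteType f.hom) (k : Type u) [Field k] (str : Spec (.of k) ⟶ S)
    (y : (AlgSp.yon S).obj (Over.mk str) ⟶ Y.obj) (p : F ⟶ X) (q : F.obj ⟶ (AlgSp.yon S).obj (Over.mk str))
    (sq : IsPullback p.hom q f.hom y) (z : AlgSp.Points F.obj)
    (hz : AlgSp.HasAt (fun U u => FlatMor.localDim ↥U u = 0) F.obj z) :
    ∃ (X' : AlgSp.Space S) (j : X' ⟶ X), AlgSp.RepWith @IsOpenImmersion j.hom ∧
      AlgSp.Points.map p.hom z ∈ Set.range (AlgSp.Points.map j.hom) ∧
      AlgSp.LocP (@LocallyQuasiFinite ⊓ @LocallyOfFiniteType) (j ≫ f).hom := by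

  have hE : EtLoc (@LocallyQuasiFinite ⊓ @LocallyOfFiniteType) :=
    etLoc_locallyQuasiFinite.inf etLoc_locallyOfFiniteType
  have hQ : PtEtLoc (NearP (@LocallyQuasiFinite ⊓ @LocallyOfFiniteType)) := ptEtLoc_near hE
  have hqlft : AlgSp.LocP @LocallyOfFiniteType q :=
    locP_of_isPullback etLoc_locallyOfFiniteType X.property Y.property (IsAlgSpace.yon_obj _) sq hf
  -- `q` is quasi-finite at `z`
  have h1 : AlgSp.HasAtMor (NearP (@LocallyQuasiFinite ⊓ @LocallyOfFiniteType)) q z := by
    obtain ⟨U, a, u, hae, hu, hdim⟩ := hz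
    obtain ⟨h, hh⟩ := (AlgSp.yon S).map_surjective (a ≫ q)
    have comm : a ≫ q = (AlgSp.yon S).map h ≫ 𝟙 _ := by rw [Category.comp_id, hh]
    have hlft : LocallyOfFiniteType h.left :=
      hqlft a (𝟙 _) h hae (AlgSp.repWith_id _ _) comm
    have hN0 : IsLocallyNoetherian (Over.mk str).left :=
      (inferInstance : IsLocallyNoetherian (Spec (CommRingCat.of k)))
    have hN : IsLocallyNoetherian U.left := LocallyOfFiniteType.isLocallyNoetherian h.left
    have hopen : IsOpen ({u} : Set ↥U.left) := isOpen_singleton_of_localDim_eq_zero u hdim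
    have hiso : IsolatedInFibre h.left u :=
      ⟨⟨{u}, hopen⟩, rfl, fun x' hx' _ => hx'⟩
    obtain ⟨W', hW', h3, h4⟩ := qfNear_of_isolatedInFibre h.left u hiso
    exact ⟨U, _, a, 𝟙 _, h, u, hae, AlgSp.repWith_id _ _, comm, hu, W', hW', h3, h4⟩
  have h2 : AlgSp.HasAtMor (NearP (@LocallyQuasiFinite ⊓ @LocallyOfFiniteType)) f.hom
      (AlgSp.Points.map p.hom z) :=
    (hasAtMor_baseChange_iff hQ (P₀ := @LocallyOfFiniteType)
      (fun sq' hh u₁ => qfNear_baseChange_iff sq' hh u₁) X.property Y.property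
      (IsAlgSpace.yon_obj _) sq hf z).1 h1
  exact (Groth.Agent.S9993.result (@LocallyQuasiFinite ⊓ @LocallyOfFiniteType)
    (Or.inr (Or.inr (Or.inr (Or.inr (Or.inr (Or.inl (fun _ _ _ => Iff.rfl))))))) f
    (AlgSp.Points.map p.hom z)).1 h2


end Groth.Agent.S10329
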