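import Groth.Statements.S1034
import Mathlib
import Groth.Agent.S0986

set_option autoImplicit false
universe v v' u u'
open CategoryTheory CategoryTheory.Limits
open DerLim

namespace Groth.Agent.S1034

section Abstract

universe v₂ u₂

variable {A : Type u₂} [Category.{v₂} A] [Abelian A] [HasColimitsOfShape ℕ A]
  [HasExactColimitsOfShape ℕ A]
  (G : ℕ ⥤ A) (S : A) (j : ∀ n, G.obj n ⟶ S) (hj : IsColimit (Cofan.mk S j)) (t : S ⟶ S)
  (ht : ∀ n, j n ≫ t = G.map (homOfLE (Nat.le_succ n)) ≫ j (n + 1))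

include hj ht in
lemma setup' : ∃ (S' : A) (σ : S' ≅ S) (d : S' ⟶ S') (π : S' ⟶ colimit G)
    (j' : ∀ n, G.obj n ⟶ S'),
    (∀ n, j' n ≫ σ.hom = j n) ∧ (∀ n, j' n ≫ π = colimit.ι G n) ∧
    (∀ {Z : A} (g h : S' ⟶ Z), (∀ n, j' n ≫ g = j' n ≫ h) → g = h) ∧
    σ.hom ≫ (𝟙 S - t) = d ≫ σ.hom ∧ ∃ w : d ≫ π = 0, (ShortComplex.mk d π w).ShortExact := by
  haveI : HasCoproduct G.obj := ⟨⟨⟨_, hj⟩⟩⟩
  obtain ⟨w, hSE⟩ := Groth.Agent.S0986.result G
  let σ : (∐ G.obj) ≅ S := IsColimit.coconePointUniqueUpToIso (colimit.isColimit _) hj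
  have hσ : ∀ n, Sigma.ι G.obj n ≫ σ.hom = j n := fun n =>
    IsColimit.comp_coconePointUniqueUpToIso_hom (colimit.isColimit _) hj ⟨n⟩
  have hsA : ∀ n, Sigma.ι G.obj n ≫
      DerLim.shiftMap G.obj (fun n => G.map (homOfLE (Nat.le_succ n))) =
      G.map (homOfLE (Nat.le_succ n)) ≫ Sigma.ι G.obj (n + 1) := fun n => by
    simp [DerLim.shiftMap]
  refine ⟨∐ G.obj, σ, _, _, Sigma.ι G.obj, hσ, fun n => ?_,
    fun g h hgh => Sigma.hom_ext _ _ hgh, ?_, w, hSE⟩
  · simp
  · apply Sigma.hom_ext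
    intro n
    have L1 : Sigma.ι G.obj n ≫ σ.hom ≫ (𝟙 S - t) =
        j n - G.map (homOfLE (Nat.le_succ n)) ≫ j (n + 1) := by
      rw [← Category.assoc, hσ, Preadditive.comp_sub, Category.comp_id, ht]
    have R1 : Sigma.ι G.obj n ≫ (𝟙 (∐ G.obj) -
        DerLim.shiftMap G.obj (fun n => G.map (homOfLE (Nat.le_succ n)))) ≫ σ.hom =
        j n - G.map (homOfLE (Nat.le_succ n)) ≫ j (n + 1) := by
      rw [Preadditive.sub_comp, Category.id_comp, Preadditive.comp_sub, hσ, ← Category.assoc,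
        hsA, Category.assoc, hσ]
    exact L1.trans R1.symm

include hj ht in
lemma mono_abs : Mono (𝟙 S - t) := by
  obtain ⟨S', σ, d, π, j', hσ, hπ, hext, compat, w, hSE⟩ := setup' G S j hj t ht
  have h0 : 𝟙 S - t = σ.inv ≫ d ≫ σ.hom := by
    rw [← compat, Iso.inv_hom_id_assoc]
  haveI : Mono d := hSE.mono_f
  rw [h0]
  infer_instance

include hj ht in
lemma iso_abs (Z : A) (p' : S ⟶ Z) (hz : (𝟙 S - t) ≫ p' = 0)
    (hex : ∀ {T : A} (x : T ⟶ S), x ≫ p' = 0 →
      ∃ (T' : A) (π : T' ⟶ T) (_ : Epi π) (z : T' ⟶ S), π ≫ x = z ≫ (𝟙 S - t))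
    (hepi : Epi p') : ∃ e : colimit G ≅ Z, ∀ n, colimit.ι G n ≫ e.hom = j n ≫ p' := by
  obtain ⟨S', σ, d, π, j', hσ, hπ, hext, compat, w, hSE⟩ := setup' G S j hj t ht
  have hnat : ∀ n, G.map (homOfLE (Nat.le_succ n)) ≫ j (n + 1) ≫ p' = j n ≫ p' := by
    intro n
    have h1 := congrArg (fun u => j n ≫ u) hz
    simp only [comp_zero, Preadditive.sub_comp, Category.id_comp, Preadditive.comp_sub] at h1
    rw [← Category.assoc, ht, Category.assoc, sub_eq_zero] at h1
    exact h1.symm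
  let c : Cocone G := ⟨Z, NatTrans.ofSequence (fun n => j n ≫ p') (by
      intro n
      rw [Functor.const_obj_map]
      exact (hnat n).trans (Category.comp_id _).symm)⟩
  let φ : colimit G ⟶ Z := colimit.desc G c
  have hφ : ∀ n, colimit.ι G n ≫ φ = j n ≫ p' := fun n => colimit.ι_desc c n
  have hπφ : π ≫ φ = σ.hom ≫ p' := by
    apply hext
    intro n
    rw [← Category.assoc, hπ, hφ, ← Category.assoc, hσ]
  haveI : Epi π := hSE.epi_g
  haveI : Epi φ := by
    haveI : Epi (π ≫ φ) := by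
      rw [hπφ]
      infer_instance
    exact epi_of_epi π φ
  haveI : Mono φ := by
    apply Preadditive.mono_of_cancel_zero
    intro T x hx
    obtain ⟨T', π', hπ', y, hy⟩ := surjective_up_to_refinements_of_epi π x
    have h1 : (y ≫ σ.hom) ≫ p' = 0 := by
      rw [Category.assoc, ← hπφ, ← Category.assoc, ← hy, Category.assoc, hx, comp_zero]
    obtain ⟨T'', π'', hπ'', z, hz'⟩ := hex (y ≫ σ.hom) h1
    have h2 : π'' ≫ y = (z ≫ σ.inv) ≫ d := by
      rw [← cancel_mono σ.hom, Category.assoc, hz', Category.assoc, Category.assoc, ← compat,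
        Iso.inv_hom_id_assoc]
    have h3 : (π'' ≫ π') ≫ x = 0 := by
      rw [Category.assoc, hy, ← Category.assoc, h2, Category.assoc, w, comp_zero]
    haveI : Epi (π'' ≫ π') := epi_comp _ _
    exact (cancel_epi (π'' ≫ π')).1 (by rw [h3, comp_zero])
  haveI : IsIso φ := isIso_of_mono_of_epi φ
  exact ⟨asIso φ, hφ⟩

end Abstract

section Helpers

universe v₁ u₁ v₂ u₂

variable {D : Type u₁} [Category.{v₁} D] [Preadditive D] [HasColimitsOfShape (Discrete ℕ) D]
  {A : Type u₂} [Category.{v₂} A] [Abelian A] [HasColimitsOfShape ℕ A]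
  [HasExactColimitsOfShape ℕ A]
  (H : D ⥤ A) [H.Additive] [PreservesColimitsOfShape (Discrete ℕ) H] (K : ℕ → D)
  (f : ∀ n, K n ⟶ K (n + 1))

omit [HasColimitsOfShape ℕ A] [HasExactColimitsOfShape ℕ A] [H.Additive]
  [PreservesColimitsOfShape (Discrete ℕ) H] in
lemma ht_aux (n : ℕ) : H.map (Sigma.ι K n) ≫ H.map (DerLim.shiftMap K f) =
    (Functor.ofSequence (fun n => H.map (f n))).map (homOfLE (Nat.le_succ n)) ≫
      H.map (Sigma.ι K (n + 1)) := by
  have hs : Sigma.ι K n ≫ DerLim.shiftMap K f = f n ≫ Sigma.ι K (n + 1) := by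
    simp [DerLim.shiftMap]
  have h1 : H.map (Sigma.ι K n) ≫ H.map (DerLim.shiftMap K f) =
      H.map (f n) ≫ H.map (Sigma.ι K (n + 1)) := by
    rw [← H.map_comp, hs, H.map_comp]
  have h2 : (Functor.ofSequence (fun n => H.map (f n))).map (homOfLE (Nat.le_succ n)) =
      H.map (f n) := Functor.ofSequence_map_homOfLE_succ _ n
  exact h1.trans (congrArg (fun m => m ≫ H.map (Sigma.ι K (n + 1))) h2.symm)

lemma mono_map : Mono (H.map (𝟙 (∐ K) - DerLim.shiftMap K f)) := by
  have h0 : H.map (𝟙 (∐ K) - DerLim.shiftMap K f) =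
      𝟙 (H.obj (∐ K)) - H.map (DerLim.shiftMap K f) := by
    rw [H.map_sub, H.map_id]
  rw [h0]
  exact mono_abs (Functor.ofSequence (fun n => H.map (f n))) (H.obj (∐ K))
    (fun n => H.map (Sigma.ι K n)) (isColimitOfHasCoproductOfPreservesColimit H K)
    (H.map (DerLim.shiftMap K f)) (ht_aux H K f)

end Helpers


open CategoryTheory.Pretriangulated in
/-- Let D be a pretriangulated category with countable direct sums, A an abelian category with exact
colimits of shape ℕ, and H : D ⥤ A a homological functor that preserves countable direct sums. If L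
(with maps iₙ : Kₙ ⟶ L) is a homotopy colimit of a system (Kₙ, fₙ), then H(L) is the colimit of the
H(Kₙ): there is an isomorphism colimₙ H(Kₙ) ≅ H(L) compatible with the maps H(iₙ). -/
theorem result {D : Type u} [Category.{v} D] [Preadditive D] [Limits.HasZeroObject D] [HasShift D ℤ]
    [∀ n : ℤ, (shiftFunctor D n).Additive] [Pretriangulated D] [IsTriangulated D] [HasColimitsOfShape (Discrete ℕ) D]
    {A : Type u'} [Category.{v'} A] [Abelian A] [HasColimitsOfShape ℕ A] [HasExactColimitsOfShape ℕ A]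
    (H : D ⥤ A) [H.IsHomological] [PreservesColimitsOfShape (Discrete ℕ) H]
    (K : ℕ → D) (f : ∀ n, K n ⟶ K (n + 1)) (L : D) (i : ∀ n, K n ⟶ L) (hL : DerLim.IsHocolim K f L i) :
    ∃ e : colimit (Functor.ofSequence (fun n => H.map (f n))) ≅ H.obj L,
      ∀ n : ℕ, colimit.ι (Functor.ofSequence (fun n => H.map (f n))) n ≫ e.hom = H.map (i n) := by
  obtain ⟨c, hT⟩ := hL
  have hex := H.map_distinguished_exact _ hT
  have hT' := rot_of_distTriang _ hT
  have hex' := H.map_distinguished_exact _ hT'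
  have hT'' := rot_of_distTriang _ hT'
  haveI hm : Mono ((shiftFunctor D (1 : ℤ) ⋙ H).map (𝟙 (∐ K) - DerLim.shiftMap K f)) :=
    mono_map (shiftFunctor D (1 : ℤ) ⋙ H) K f
  have hc0 : H.map c = 0 := by
    have h0 : H.map c ≫
        H.map (-(shiftFunctor D (1 : ℤ)).map (𝟙 (∐ K) - DerLim.shiftMap K f)) = 0 :=
      ((shortComplexOfDistTriangle _ hT'').map H).zero
    rw [Functor.map_neg, Preadditive.comp_neg, neg_eq_zero] at h0
    exact (cancel_mono ((shiftFunctor D (1 : ℤ) ⋙ H).map (𝟙 (∐ K) - DerLim.shiftMap K f))).1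
      (by rw [zero_comp]; exact h0)
  have hepi : Epi (H.map (Sigma.desc i)) := hex'.epi_f hc0
  have h0 : H.map (𝟙 (∐ K) - DerLim.shiftMap K f) =
      𝟙 (H.obj (∐ K)) - H.map (DerLim.shiftMap K f) := by
    rw [H.map_sub, H.map_id]
  have hz : (𝟙 (H.obj (∐ K)) - H.map (DerLim.shiftMap K f)) ≫ H.map (Sigma.desc i) = 0 := by
    rw [← h0]
    exact ((shortComplexOfDistTriangle _ hT).map H).zero
  obtain ⟨e, he⟩ := iso_abs (Functor.ofSequence (fun n => H.map (f n))) (H.obj (∐ K))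
    (fun n => H.map (Sigma.ι K n)) (isColimitOfHasCoproductOfPreservesColimit H K)
    (H.map (DerLim.shiftMap K f)) (ht_aux H K f) (H.obj L) (H.map (Sigma.desc i)) hz
    (fun x hx => by
      rw [← h0]
      exact hex.exact_up_to_refinements x hx) hepi
  refine ⟨e, fun n => (he n).trans ?_⟩
  have h9 : H.map (Sigma.ι K n) ≫ H.map (Sigma.desc i) = H.map (i n) := by
    rw [← H.map_comp]
    congr 1
    simp
  exact h9

end Groth.Agent.S1034
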