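import Groth.Statements.S10347
import Groth.Agent.H25.AlgSp91
open Groth.Agent.H25 Groth.Agent.H25.AS

set_option autoImplicit false
universe u
open CategoryTheory CategoryTheory.Limits AlgebraicGeometry Topology TopologicalSpace
open AlgSp

namespace Groth.Agent.S10347

/-- For a locally quasi-finite morphism f : X ⟶ Y of algebraic spaces over a scheme S (locally
quasi-finite and locally of finite type, etale locally on source and target), dim X ≤ dim Y. -/
theorem result {S : Scheme.{u}} {X Y : AlgSp.Space S} (f : X ⟶ Y)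
    (hf : AlgSp.LocP (@LocallyQuasiFinite ⊓ @LocallyOfFiniteType) f.hom) :
    AlgSp.dim X.obj ≤ AlgSp.dim Y.obj := by

  unfold AlgSp.dim
  refine iSup_le fun U => iSup_le fun a => iSup_le fun hae => ?_
  obtain ⟨V, b, hbe, hbs⟩ := Y.property.atlas
  have sq := hbe.rep.isPullback' (a ≫ f.hom)
  have hsndE : Etale (hbe.rep.snd (a ≫ f.hom)).left := hbe.property_snd (a ≫ f.hom)
  have hsndS : Surjective (hbe.rep.snd (a ≫ f.hom)).left := hbs.property_snd (a ≫ f.hom)
  have ha' : AlgSp.RepWith @Etale ((AlgSp.yon S).map (hbe.rep.snd (a ≫ f.hom)) ≫ a) :=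
    repWith_etale_comp ((repWith_yon_map_iff @Etale _).2 hsndE) hae
  have comm : ((AlgSp.yon S).map (hbe.rep.snd (a ≫ f.hom)) ≫ a) ≫ f.hom =
      (AlgSp.yon S).map (hbe.rep.fst' (a ≫ f.hom)) ≫ b := by
    rw [Category.assoc]; exact sq.w.symm
  have hk := hf _ b _ ha' hbe comm
  have hk1 : LocallyQuasiFinite (hbe.rep.fst' (a ≫ f.hom)).left := hk.1
  calc topologicalKrullDim ↥U.left
      ≤ topologicalKrullDim ↥(hbe.rep.pullback (a ≫ f.hom)).left :=
        topologicalKrullDim_le_of_etale_surjective (hbe.rep.snd (a ≫ f.hom)).left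
    _ ≤ topologicalKrullDim ↥V.left :=
        topologicalKrullDim_le_of_lqf (hbe.rep.fst' (a ≫ f.hom)).left
    _ ≤ _ := by
        refine le_iSup_of_le V (le_iSup_of_le b ?_)
        exact le_iSup (fun _ : AlgSp.RepWith @Etale b => topologicalKrullDim ↥V.left) hbe


end Groth.Agent.S10347
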