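import Groth.Statements.S10348
import Groth.Agent.H25.AlgSp90
open Groth.Agent.H25 Groth.Agent.H25.AS

set_option autoImplicit false
universe u
open CategoryTheory CategoryTheory.Limits AlgebraicGeometry Topology TopologicalSpace
open AlgSp

namespace Groth.Agent.S10348

/-- Let S be a scheme, X and Y algebraic spaces over S, and f : X ⟶ Y a morphism which is locally
quasi-finite; let x ∈ |X| have image y ∈ |Y|. Then the local ring of X at x has dimension at most
that of the local ring of Y at the point y (both dimensions read on etale charts through the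
points). -/
theorem result {S : Scheme.{u}} {X Y : AlgSp.Space S} (f : X ⟶ Y)
    (hf : AlgSp.LocP (@LocallyQuasiFinite ⊓ @LocallyOfFiniteType) f.hom) (x : AlgSp.Points X.obj)
    (d e : WithBot ℕ∞)
    (hx : AlgSp.HasAt (fun U u => ringKrullDim ↥(U.presheaf.stalk u) = d) X.obj x)
    (hy : AlgSp.HasAt (fun V v => ringKrullDim ↥(V.presheaf.stalk v) = e) Y.obj (AlgSp.Points.map f.hom x)) :
    d ≤ e := by

  obtain ⟨U₁, a₁, u₁, ha₁, hu₁, hd⟩ := hx
  obtain ⟨V₂, b₂, v₂, hb₂, hv₂, he⟩ := hy
  obtain ⟨U, a, k, u, hae, hcomm, hux, hkv⟩ :=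
    exists_chart_through X.property f.hom x b₂ hb₂ v₂ hv₂
  have hk := hf a b₂ k hae hb₂ hcomm
  have hk1 : LocallyQuasiFinite k.left := hk.1
  have h1 := stalk_dim_le_of_quasiFiniteAt k.left u (k.left.quasiFiniteAt u)
  rw [hkv, he] at h1
  have h2 := stalk_dim_chart_indep a a₁ hae ha₁ u u₁ (hux.trans hu₁.symm)
  rw [hd] at h2
  rw [← h2]
  exact h1


end Groth.Agent.S10348
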