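import Groth.Statements.S10356
import Groth.Agent.H25.AlgSp71
open Groth.Agent.H25 Groth.Agent.H25.AS

set_option autoImplicit false
universe u
open CategoryTheory CategoryTheory.Limits AlgebraicGeometry Topology TopologicalSpace
open AlgSp

namespace Groth.Agent.S10356

/-- A reduced decent algebraic space X over a scheme S whose space of points is a single point is
isomorphic to h_{Spec k} for a field k over S. -/
theorem result {S : Scheme.{u}} (X : AlgSp.Space S)
    (hX : AlgSp.IsDecent X.obj) (hr : AlgSp.EtaleLocally (fun U => IsReduced U) X.obj)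
    [Nonempty (AlgSp.Points X.obj)] [Subsingleton (AlgSp.Points X.obj)] :
    ∃ (k : Type u) (_ : Field k) (str : Spec (CommRingCat.of k) ⟶ S),
      Nonempty ((AlgSp.yon S).obj (Over.mk str) ≅ X.obj) := by
  obtain ⟨x⟩ := (inferInstance : Nonempty (AlgSp.Points X.obj))
  obtain ⟨p, -, hm, hq⟩ := hX x
  obtain ⟨k₀, _, str₀, p₀, hfl₀, hs₀⟩ := exists_flat_surjective_field_point hr ⟨x⟩ inferInstance
  obtain ⟨hfl, hs⟩ := flat_surjective_of_field_cover X.property str₀ p₀ hfl₀ hs₀ p.str p.toHom
  have hiso : IsIso p.toHom := isIso_of_mono_qc_flat_surjective (AlgSp.IsAlgSpace.yon_obj _)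
    X.property p.toHom (isQuasiCompactMor_of_repWith _ hq) hfl hs
  exact ⟨p.K, inferInstance, p.str, ⟨asIso p.toHom⟩⟩

end Groth.Agent.S10356
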