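import Groth.Statements.S10349
import Groth.Agent.H25.AlgSp71
import Groth.Agent.S10356
open Groth.Agent.H25 Groth.Agent.H25.AS

set_option autoImplicit false
universe u
open CategoryTheory CategoryTheory.Limits AlgebraicGeometry Topology TopologicalSpace
open AlgSp

namespace Groth.Agent.S10349

/-- Let S be a scheme, X a decent algebraic space over S, k a field over S and p : h_{Spec k} ⟶ X a
surjective etale map. Then X ≅ h_{Spec k'} for a field k' over S, and p corresponds to a finite
etale morphism Spec k ⟶ Spec k' over S, so that k is a finite separable extension of k'. -/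
theorem result {S : Scheme.{u}} (X : AlgSp.Space S)
    (hX : AlgSp.IsDecent X.obj) (k : Type u) [Field k] (str : Spec (CommRingCat.of k) ⟶ S)
    (p : (AlgSp.yon S).obj (Over.mk str) ⟶ X.obj) (hp : AlgSp.RepWith @Etale p) (hs : AlgSp.RepWith @Surjective p) :
    ∃ (k' : Type u) (_ : Field k') (str' : Spec (CommRingCat.of k') ⟶ S)
      (e : (AlgSp.yon S).obj (Over.mk str') ≅ X.obj) (c : Over.mk str ⟶ Over.mk str'),
      (AlgSp.yon S).map c ≫ e.hom = p ∧ IsFinite c.left ∧ Etale c.left := by
  have hsm : AlgSp.IsSurjectiveMor p := isSurjectiveMor_of_repWith p hs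
  have hne : Nonempty (AlgSp.Points X.obj) :=
    ⟨AlgSp.Points.map p (AlgSp.Points.ofScheme _ (IsLocalRing.closedPoint k))⟩
  have hsub : Subsingleton (AlgSp.Points X.obj) := by
    refine ⟨fun z z' => ?_⟩
    obtain ⟨y, rfl⟩ := hsm z
    obtain ⟨y', rfl⟩ := hsm z'
    have := subsingleton_points_field str
    rw [Subsingleton.elim y y']
  have hr : AlgSp.EtaleLocally (fun U => IsReduced U) X.obj :=
    ⟨Over.mk str, p, hp, hs, inferInstanceAs (IsReduced (Spec (.of k)))⟩
  obtain ⟨k', _, str', ⟨e⟩⟩ := Groth.Agent.S10356.result X hX hr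
  obtain ⟨c, hc⟩ := (AlgSp.yon S).map_surjective (p ≫ e.inv)
  have hpe : (AlgSp.yon S).map c ≫ e.hom = p := by
    rw [hc, Category.assoc, e.inv_hom_id, Category.comp_id]
  have het : Etale c.left := by
    rw [← AlgSp.repWith_yon_map_iff (P := @Etale), hc]
    exact MorphismProperty.RespectsIso.postcomp _ _ _ hp
  have hJ : JacobsonSpace ↥(Over.mk str').left :=
    inferInstanceAs (JacobsonSpace ↥(Spec (CommRingCat.of k')))
  have hsub' : Subsingleton ↥(Over.mk str).left :=
    inferInstanceAs (Subsingleton (PrimeSpectrum k))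
  have hred : IsReduced (Over.mk str).left := inferInstanceAs (IsReduced (Spec (.of k)))
  have hfin : IsFinite c.left := by
    rw [isFinite_iff_locallyOfFiniteType_of_jacobsonSpace]
    infer_instance
  exact ⟨k', inferInstance, str', e, c, hpe, hfin, het⟩

end Groth.Agent.S10349
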