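import Groth.Statements.S10351
import Groth.Agent.H25.AlgSp30

set_option autoImplicit false
universe u
open CategoryTheory CategoryTheory.Limits AlgebraicGeometry Topology TopologicalSpace
open AlgSp

namespace Groth.Agent.S10351

/-- Let S be a scheme, X and Y algebraic spaces over S, and f : X ⟶ Y a morphism which is representable
by schemes. If Y is decent then X is decent. -/
theorem result {S : Scheme.{u}} {X Y : AlgSp.Space S} (f : X ⟶ Y)
    (hf : AlgSp.Representable f.hom) (hY : AlgSp.IsDecent Y.obj) : AlgSp.IsDecent X.obj := by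
  intro x
  obtain ⟨p, hp, hm, hq⟩ := hY (AlgSp.Points.map f.hom x)
  have sqK := hf.isPullback p.toHom
  have hpt : AlgSp.Points.map p.toHom (AlgSp.Points.ofScheme p.pt (IsLocalRing.closedPoint p.K)) =
      AlgSp.Points.map f.hom x := by
    rw [AlgSp.Points.map_ofPt, Category.id_comp, AlgSp.Points.ofPt_toHom, hp]
  obtain ⟨w, hw, -⟩ := Groth.Agent.H25.AS.exists_of_isPullback sqK x _ hpt.symm
  obtain ⟨x', rfl⟩ := Groth.Agent.H25.AS.exists_ofScheme w
  have hmono : Mono (hf.fst p.toHom) :=
    MorphismProperty.of_isPullback (P := MorphismProperty.monomorphisms (AlgSp.Sp S)) sqK.flip hm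
  have hqc : AlgSp.RepWith @QuasiCompact (hf.fst p.toHom) :=
    Groth.Agent.H25.AS.repWith_fst_of_isPullback sqK hq
  have hfin : Finite ↥(Spec (CommRingCat.of ((hf.pullback p.toHom).left.residueField x'))) := by
    change Finite (PrimeSpectrum _)
    infer_instance
  have hqc' : QuasiCompact ((hf.pullback p.toHom).left.fromSpecResidueField x') :=
    ⟨fun _ _ _ => (Set.toFinite _).isCompact⟩
  have hι1 : AlgSp.RepWith @QuasiCompact ((AlgSp.yon S).map
      (Over.homMk ((hf.pullback p.toHom).left.fromSpecResidueField x') rfl :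
        Over.mk ((hf.pullback p.toHom).left.fromSpecResidueField x' ≫ (hf.pullback p.toHom).hom) ⟶
          hf.pullback p.toHom)) :=
    (AlgSp.repWith_yon_map_iff _ _).2 hqc'
  have hι2 : Mono ((AlgSp.yon S).map
      (Over.homMk ((hf.pullback p.toHom).left.fromSpecResidueField x') rfl :
        Over.mk ((hf.pullback p.toHom).left.fromSpecResidueField x' ≫ (hf.pullback p.toHom).hom) ⟶
          hf.pullback p.toHom)) := by
    refine Groth.Agent.H25.AS.mono_of_repWith (MorphismProperty.monomorphisms Scheme.{u})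
      (fun g hg => hg) _ ((AlgSp.repWith_yon_map_iff _ _).2 ?_)
    change Mono ((hf.pullback p.toHom).left.fromSpecResidueField x')
    infer_instance
  refine ⟨AlgSp.FieldPt.ofPt (hf.fst p.toHom) x', ?_, ?_, ?_⟩
  · rw [← hw, AlgSp.Points.map_ofPt, Category.id_comp]
    rfl
  · rw [AlgSp.FieldPt.toHom_ofPt]
    exact @mono_comp _ _ _ _ _ _ hι2 _ hmono
  · rw [AlgSp.FieldPt.toHom_ofPt]
    exact MorphismProperty.comp_mem _ _ _ hι1 hqc


end Groth.Agent.S10351
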