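import Groth.Statements.S10358
import Groth.Agent.H25.AlgSp75
open Groth.Agent.H25 Groth.Agent.H25.AS

set_option autoImplicit false
universe u
open CategoryTheory CategoryTheory.Limits AlgebraicGeometry Topology TopologicalSpace
open AlgSp

namespace Groth.Agent.S10358

/-- Let S be a scheme, X a decent algebraic space over S, and Spec k ⟶ X a morphism over S from the
spectrum of a field whose image in S is a closed point s with k finite over κ(s) (Spec k ⟶ S written
through a ring map φ : κ(s) → k). Then Spec k ⟶ X is finite; if moreover φ is bijective (k = κ(s))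
it is a closed immersion. -/
theorem result {S : Scheme.{u}} (X : AlgSp.Space S)
    (hX : AlgSp.IsDecent X.obj) (s : ↥S) (hs : IsClosed ({s} : Set ↥S)) (k : Type u) [Field k]
    (φ : S.residueField s ⟶ CommRingCat.of k) (hφ : φ.hom.Finite)
    (p : (AlgSp.yon S).obj (Over.mk (Spec.map φ ≫ S.fromSpecResidueField s)) ⟶ X.obj) :
    AlgSp.RepWith @IsFinite p ∧
      (Function.Bijective φ.hom → AlgSp.RepWith @IsClosedImmersion p) := by

  have hφi : φ.hom.IsIntegral := hφ.to_isIntegral
  have hcl := isClosed_point_of_algebraic X.property hX s hs k φ hφi p (IsLocalRing.closedPoint k)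
  obtain ⟨p₀, hp₀, hm, hq⟩ := hX (AlgSp.Points.ofPt p (IsLocalRing.closedPoint k))
  rw [← hp₀] at hcl
  have hci := repWith_isClosedImmersion_of_closed_point X.property p₀ hm hq hcl
  obtain ⟨e, he⟩ := exists_factor_through_mono_point_gen X.property p₀ hm
    (Spec.map φ ≫ S.fromSpecResidueField s) p hp₀.symm
  have hcis : IsClosedImmersion (S.fromSpecResidueField s) :=
    isClosed_singleton_iff_isClosedImmersion.1 hs
  have haff : IsAffine p₀.pt.left :=
    (inferInstance : IsAffine (Spec (CommRingCat.of p₀.K)))
  have hsep : IsSeparated p₀.pt.hom := inferInstance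
  have hw : e.left ≫ p₀.pt.hom = Spec.map φ ≫ S.fromSpecResidueField s := Over.w e
  have hfφ : IsFinite (Spec.map φ) := (IsFinite.SpecMap_iff φ).2 hφ
  have hfc : IsFinite (e.left ≫ p₀.pt.hom) := by
    rw [hw]
    infer_instance
  have hfe : IsFinite e.left := IsFinite.of_comp e.left p₀.pt.hom
  have hfin₀ : AlgSp.RepWith @IsFinite p₀.toHom :=
    repWith_mono (fun _ _ g (_ : IsClosedImmersion g) => (inferInstance : IsFinite g)) hci
  refine ⟨?_, fun hbij => ?_⟩
  · rw [← he]
    exact (AlgSp.RepWith (S := S) @IsFinite).comp_mem _ _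
      ((AlgSp.repWith_yon_map_iff _ _).2 hfe) hfin₀
  · have hiso : IsIso φ := by
      have : IsIso ((forget CommRingCat).map φ) := (isIso_iff_bijective _).2 hbij
      exact isIso_of_reflects_iso φ (forget CommRingCat)
    have hcc : IsClosedImmersion (e.left ≫ p₀.pt.hom) := by
      rw [hw]
      infer_instance
    have hce : IsClosedImmersion e.left := IsClosedImmersion.of_comp e.left p₀.pt.hom
    rw [← he]
    exact (AlgSp.RepWith (S := S) @IsClosedImmersion).comp_mem _ _
      ((AlgSp.repWith_yon_map_iff _ _).2 hce) hci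


end Groth.Agent.S10358
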