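import Groth.Statements.S10381
import Groth.Agent.H25.AlgSp30

set_option autoImplicit false
universe u
open CategoryTheory CategoryTheory.Limits AlgebraicGeometry Topology TopologicalSpace
open AlgSp

namespace Groth.Agent.S10381

/-- If f : X ⟶ Y is a decent morphism of algebraic spaces over a scheme S and Y is decent, then X is
decent. -/
theorem result {S : Scheme.{u}} {X Y : AlgSp.Space S} (f : X ⟶ Y)
    (hf : AlgSp.IsDecentMor f.hom) (hY : AlgSp.IsDecent Y.obj) : AlgSp.IsDecent X.obj := by
  intro x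
  obtain ⟨p, hp, hm, hq⟩ := hY (AlgSp.Points.map f.hom x)
  have sqK := IsPullback.of_hasPullback f.hom p.toHom
  have hXK : AlgSp.IsDecent (pullback f.hom p.toHom) := hf p.toHom _ _ sqK
  have hpt : AlgSp.Points.map p.toHom (AlgSp.Points.ofScheme p.pt (IsLocalRing.closedPoint p.K)) =
      AlgSp.Points.map f.hom x := by
    rw [AlgSp.Points.map_ofPt, Category.id_comp, AlgSp.Points.ofPt_toHom, hp]
  obtain ⟨w, hw, -⟩ := Groth.Agent.H25.AS.exists_of_isPullback sqK x _ hpt.symm
  obtain ⟨p', hp', hm', hq'⟩ := hXK w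
  refine ⟨p'.map (pullback.fst f.hom p.toHom), ?_, ?_, ?_⟩
  · rw [← AlgSp.Points.map_mk, hp', hw]
  · rw [AlgSp.FieldPt.toHom_map]
    have : Mono (pullback.fst f.hom p.toHom) := inferInstance
    exact @mono_comp _ _ _ _ _ _ hm' _ this
  · rw [AlgSp.FieldPt.toHom_map]
    exact MorphismProperty.comp_mem _ _ _ hq'
      (Groth.Agent.H25.AS.repWith_fst_of_isPullback sqK hq)


end Groth.Agent.S10381
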