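import Groth.Statements.S10382
import Groth.Agent.H25.AlgSp54
open Groth.Agent.H25

set_option autoImplicit false
universe u
open CategoryTheory CategoryTheory.Limits AlgebraicGeometry Topology TopologicalSpace
open AlgSp

namespace Groth.Agent.S10382

/-- The composition of two decent morphisms of algebraic spaces over a scheme S is decent. -/
theorem result {S : Scheme.{u}} {X Y Z : AlgSp.Space S} (f : X ⟶ Y) (g : Y ⟶ Z)
    (hf : AlgSp.IsDecentMor f.hom) (hg : AlgSp.IsDecentMor g.hom) : AlgSp.IsDecentMor (f ≫ g).hom := by
  intro T F' t fst snd sq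
  have bot : IsPullback (pullback.fst g.hom t) (pullback.snd g.hom t) g.hom t :=
    IsPullback.of_hasPullback _ _
  have hYT : AlgSp.IsDecent (pullback g.hom t) := hg t _ _ bot
  let l : F' ⟶ pullback g.hom t := pullback.lift (fst ≫ f.hom) snd (by
    rw [Category.assoc]; exact sq.w)
  have hl1 : l ≫ pullback.fst g.hom t = fst ≫ f.hom := pullback.lift_fst _ _ _
  have hl2 : l ≫ pullback.snd g.hom t = snd := pullback.lift_snd _ _ _
  have big : IsPullback fst (l ≫ pullback.snd g.hom t) (f.hom ≫ g.hom) t := by
    rw [hl2]; exact sq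
  have top : IsPullback fst l f.hom (pullback.fst g.hom t) := IsPullback.of_bot big hl1.symm bot
  refine AS.isDecent_of_fibres l hYT fun q hqm hqc => ?_
  have left : IsPullback (pullback.fst l q.toHom) (pullback.snd l q.toHom) l q.toHom :=
    IsPullback.of_hasPullback _ _
  exact hf (q.toHom ≫ pullback.fst g.hom t) (pullback.fst l q.toHom ≫ fst)
    (pullback.snd l q.toHom) (left.paste_horiz top)


end Groth.Agent.S10382
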