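import Groth.Statements.S10391
import Groth.Agent.H25.AlgSp95
open Groth.Agent.H25 Groth.Agent.H25.AS

set_option autoImplicit false
universe u
open CategoryTheory CategoryTheory.Limits AlgebraicGeometry Topology TopologicalSpace
open AlgSp

namespace Groth.Agent.S10391

/-- Let k be a field, X an algebraic space over k which is locally of finite type, and x ∈ |X|. The
conditions (2) x is closed in |X| and has no proper generization, (3) x is an isolated point of |X|,
(4) dim_x(X) = 0 are equivalent; if X is decent they are also equivalent to (1) dim_x(|X|) = 0. (The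
equivalence with quasi-finiteness of X → Spec k at x is not part of this row.) -/
theorem result (k : Type u) [Field k] (X : AlgSp.Space (Spec (CommRingCat.of k)))
    (p : X.obj ⟶ (AlgSp.yon (Spec (CommRingCat.of k))).obj (Over.mk (𝟙 _))) (hp : AlgSp.LocP @LocallyOfFiniteType p) (x : AlgSp.Points X.obj) :
    (IsOpen ({x} : Set (AlgSp.Points X.obj)) ↔
        (IsClosed ({x} : Set (AlgSp.Points X.obj)) ∧ ∀ x' : AlgSp.Points X.obj, x' ⤳ x → x' = x)) ∧
      (IsOpen ({x} : Set (AlgSp.Points X.obj)) ↔ AlgSp.HasAt (fun U u => FlatMor.localDim ↥U u = 0) X.obj x) ∧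
      (AlgSp.IsDecent X.obj →
        (FlatMor.localDim (AlgSp.Points X.obj) x = 0 ↔ IsOpen ({x} : Set (AlgSp.Points X.obj)))) := by

  have hlft : ∀ (U : Over (Spec (CommRingCat.of k))) (a : (AlgSp.yon _).obj U ⟶ X.obj),
      AlgSp.RepWith @Etale a → LocallyOfFiniteType U.hom := by
    intro U a hae
    obtain ⟨h, hh⟩ := (AlgSp.yon _).map_surjective (a ≫ p)
    have h1 : LocallyOfFiniteType h.left :=
      hp a (𝟙 _) h hae (AlgSp.repWith_id _ _) (by rw [hh, Category.comp_id])
    have h2 : h.left = U.hom := by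
      have := Over.w h
      simpa using this
    rwa [h2] at h1
  have hJ : ∀ (U : Over (Spec (CommRingCat.of k))) (a : (AlgSp.yon _).obj U ⟶ X.obj),
      AlgSp.RepWith @Etale a → JacobsonSpace ↥U.left := fun U a hae =>
    haveI := hlft U a hae
    LocallyOfFiniteType.jacobsonSpace U.hom
  have hN : ∀ (U : Over (Spec (CommRingCat.of k))) (a : (AlgSp.yon _).obj U ⟶ X.obj),
      AlgSp.RepWith @Etale a → IsLocallyNoetherian U.left := fun U a hae =>
    haveI := hlft U a hae
    LocallyOfFiniteType.isLocallyNoetherian U.hom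
  obtain ⟨U₀, a₀, hae, has⟩ := X.property.atlas
  haveI := hJ U₀ a₀ hae
  haveI := hN U₀ a₀ hae
  obtain ⟨u₀, hu₀⟩ := ofPt_surjective a₀ has x
  have key : IsOpen ({x} : Set (AlgSp.Points X.obj)) →
      IsClosed (AlgSp.Points.ofPt a₀ ⁻¹' {x}) ∧
        ∀ w ∈ AlgSp.Points.ofPt a₀ ⁻¹' {x}, IsOpen ({w} : Set ↥U₀.left) := fun hopen =>
    isClosed_of_isOpen_of_closedPoints _ (hopen.preimage (AlgSp.Points.continuous_ofPt a₀))
      (fun w hw => isClosed_chart_point_of_isOpen_point a₀ hae x hopen w hw)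
  refine ⟨⟨fun hopen => ⟨?_, fun x' hx' => hx'.mem_open hopen rfl⟩, fun h => ?_⟩,
    ⟨fun hopen => ?_, ?_⟩, fun hdec => ⟨fun hdim => ?_, fun hopen => ?_⟩⟩
  · rw [isClosed_iff_of_chart a₀ hae has]
    exact (key hopen).1
  · exact isOpen_point_of_isLocallyClosed a₀ hae x u₀ hu₀ h.1.isLocallyClosed h.2
  · exact ⟨U₀, a₀, u₀, hae, hu₀,
      localDim_eq_zero_of_isOpen_singleton u₀ ((key hopen).2 u₀ hu₀)⟩
  · rintro ⟨U, a, u, hae', hu, hdim⟩
    haveI := hN U a hae'
    have h1 : IsOpen ({u} : Set ↥U.left) := isOpen_singleton_of_localDim_eq_zero u hdim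
    have h2 := isOpenMap_ofPt a hae' _ h1
    rwa [Set.image_singleton, hu] at h2
  · obtain ⟨N, hxN, hNd⟩ := exists_open_dim_le_zero_of_localDim_eq_zero x hdim
    haveI : T0Space (AlgSp.Points X.obj) := t0Space_points_of_isDecent X.property hdec
    have hsp := no_specializations_of_dim_le_zero (N := ↥(N : Set (AlgSp.Points X.obj))) hNd
    have hgen : ∀ x' : AlgSp.Points X.obj, x' ⤳ x → x' = x := by
      intro x' hx'
      have hx'N : x' ∈ N := hx'.mem_open N.2 hxN
      have := hsp ⟨x, hxN⟩ ⟨x', hx'N⟩ ((subtype_specializes_iff _ _).2 hx')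
      exact (congrArg Subtype.val this).symm
    have hlc : IsLocallyClosed ({x} : Set (AlgSp.Points X.obj)) := by
      refine ⟨N, closure {x}, N.2, isClosed_closure, ?_⟩
      apply Set.Subset.antisymm
      · rintro _ rfl; exact ⟨hxN, subset_closure rfl⟩
      · rintro y ⟨hyN, hy⟩
        have h1 : x ⤳ y := specializes_iff_mem_closure.2 hy
        have := hsp ⟨y, hyN⟩ ⟨x, hxN⟩ ((subtype_specializes_iff _ _).2 h1)
        exact congrArg Subtype.val this
    exact isOpen_point_of_isLocallyClosed a₀ hae x u₀ hu₀ hlc hgen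
  · exact localDim_eq_zero_of_isOpen_singleton x hopen


end Groth.Agent.S10391
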