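import Groth.Statements.S10392
import Groth.Agent.H25.AlgSp96
open Groth.Agent.H25 Groth.Agent.H25.AS

set_option autoImplicit false
universe u
open CategoryTheory CategoryTheory.Limits AlgebraicGeometry Topology TopologicalSpace
open AlgSp

namespace Groth.Agent.S10392

/-- Let k be a field and X a nonempty algebraic space over k which is locally of finite type. Then (2)
|X| is discrete if and only if (4) dim X = 0, and these imply (3) dim |X| = 0; if X is decent then
(3) implies (2) and (1) |X| finite implies (4). (The published statement asserts (2) ⇔ (3) ⇔ (4) for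
every such X and does not exclude the empty space; for the quotient of the affine line over a field
of characteristic zero by the translation action of the integers, |X| is an infinite set with the
indiscrete topology, so (3) holds while (2) and (4) fail, and for the empty space (2) holds while
dim X = ⊥. The equivalence with local quasi-finiteness of X → Spec k is not part of this row.) -/
theorem result (k : Type u) [Field k] (X : AlgSp.Space (Spec (CommRingCat.of k)))
    (p : X.obj ⟶ (AlgSp.yon (Spec (CommRingCat.of k))).obj (Over.mk (𝟙 _))) (hp : AlgSp.LocP @LocallyOfFiniteType p) [Nonempty (AlgSp.Points X.obj)] :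
    (DiscreteTopology (AlgSp.Points X.obj) ↔ AlgSp.dim X.obj = 0) ∧
      (DiscreteTopology (AlgSp.Points X.obj) → topologicalKrullDim (AlgSp.Points X.obj) = 0) ∧
      (AlgSp.IsDecent X.obj → topologicalKrullDim (AlgSp.Points X.obj) = 0 → DiscreteTopology (AlgSp.Points X.obj)) ∧
      (AlgSp.IsDecent X.obj → Finite (AlgSp.Points X.obj) → AlgSp.dim X.obj = 0) := by

  have hlft : ∀ (U : Over (Spec (CommRingCat.of k))) (a : (AlgSp.yon _).obj U ⟶ X.obj),
      AlgSp.RepWith @Etale a → LocallyOfFiniteType U.hom := by
    intro U a hae
    obtain ⟨h, hh⟩ := (AlgSp.yon _).map_surjective (a ≫ p)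
    have h1 : LocallyOfFiniteType h.left :=
      hp a (𝟙 _) h hae (AlgSp.repWith_id _ _) (by rw [hh, Category.comp_id])
    have h2 : h.left = U.hom := by
      have := Over.w h
      simpa using this
    rwa [h2] at h1
  have hJ : ∀ (U : Over (Spec (CommRingCat.of k))) (a : (AlgSp.yon _).obj U ⟶ X.obj),
      AlgSp.RepWith @Etale a → JacobsonSpace ↥U.left := fun U a hae =>
    haveI := hlft U a hae
    LocallyOfFiniteType.jacobsonSpace U.hom
  have hN : ∀ (U : Over (Spec (CommRingCat.of k))) (a : (AlgSp.yon _).obj U ⟶ X.obj),
      AlgSp.RepWith @Etale a → IsLocallyNoetherian U.left := fun U a hae =>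
    haveI := hlft U a hae
    LocallyOfFiniteType.isLocallyNoetherian U.hom
  obtain ⟨U₀, a₀, hae, has⟩ := X.property.atlas
  haveI := hJ U₀ a₀ hae
  haveI := hN U₀ a₀ hae
  obtain ⟨x₀⟩ := (inferInstance : Nonempty (AlgSp.Points X.obj))
  obtain ⟨u₀, hu₀⟩ := ofPt_surjective a₀ has x₀
  have hchart : topologicalKrullDim ↥U₀.left ≤ AlgSp.dim X.obj := by
    unfold AlgSp.dim
    exact le_iSup_of_le U₀ (le_iSup_of_le a₀ (le_iSup_of_le hae le_rfl))
  have hdisc_iff : DiscreteTopology (AlgSp.Points X.obj) ↔ AlgSp.dim X.obj = 0 := by
    constructor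
    · intro hd
      apply le_antisymm
      · unfold AlgSp.dim
        refine iSup_le fun U => iSup_le fun a => iSup_le fun ha => ?_
        haveI := hJ U a ha
        haveI := hN U a ha
        haveI := discreteTopology_chart_of_discrete_points a ha
        exact topologicalKrullDim_zero_of_discreteTopology _
      · exact (topologicalKrullDim_nonneg_of_nonempty u₀).trans hchart
    · intro hdim
      rw [discreteTopology_iff_isOpen_singleton]
      intro x
      obtain ⟨u, hu⟩ := ofPt_surjective a₀ has x
      have hle : topologicalKrullDim ↥U₀.left ≤ 0 := by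
        rw [← hdim]; exact hchart
      haveI := discreteTopology_of_dim_le_zero hle
      have h2 := isOpenMap_ofPt a₀ hae _ (isOpen_discrete ({u} : Set ↥U₀.left))
      rwa [Set.image_singleton, hu] at h2
  refine ⟨hdisc_iff, fun hd => ?_, fun hdec hdim => ?_, fun hdec hfin => ?_⟩
  · exact le_antisymm (topologicalKrullDim_zero_of_discreteTopology _)
      (topologicalKrullDim_nonneg_of_nonempty x₀)
  · haveI : T0Space (AlgSp.Points X.obj) := t0Space_points_of_isDecent X.property hdec
    have hsp := no_specializations_of_dim_le_zero (N := AlgSp.Points X.obj) hdim.le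
    rw [discreteTopology_iff_isOpen_singleton]
    intro x
    obtain ⟨u, hu⟩ := ofPt_surjective a₀ has x
    have hcl : IsClosed ({x} : Set (AlgSp.Points X.obj)) := by
      rw [← closure_subset_iff_isClosed]
      intro y hy
      exact hsp y x (specializes_iff_mem_closure.2 hy)
    exact isOpen_point_of_isLocallyClosed a₀ hae x u hu hcl.isLocallyClosed
      (fun x' hx' => (hsp x x' hx').symm)
  · rw [← hdisc_iff]
    haveI : JacobsonSpace (AlgSp.Points X.obj) :=
      jacobsonSpace_points_of_jacobson hdec ⟨U₀, a₀, hae, has, hJ U₀ a₀ hae⟩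
    exact discreteTopology_of_finite_jacobson


end Groth.Agent.S10392
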