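import Groth.Statements.S10399
import Groth.Agent.H25.AlgSp92
open Groth.Agent.H25 Groth.Agent.H25.AS

set_option autoImplicit false
universe u
open CategoryTheory CategoryTheory.Limits AlgebraicGeometry Topology TopologicalSpace
open AlgSp

namespace Groth.Agent.S10399

/-- Let f : X ⟶ Y be a morphism locally of finite type of algebraic spaces over a scheme S and y a
codimension 0 point of Y. The following are equivalent: (1) every point of |X| over y has
codimension 0 on X; (2) f is quasi-finite at all points over y; (3) f is quasi-finite at all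
codimension 0 points of X over y. Stated as (1) ⇔ (2) together with (3) ⇒ (1). -/
theorem result {S : Scheme.{u}} {X Y : AlgSp.Space S} (f : X ⟶ Y)
    (hf : AlgSp.LocP @LocallyOfFiniteType f.hom) (y : AlgSp.Points Y.obj) (hy : AlgSp.HasAt (fun U u => ringKrullDim ↥(U.presheaf.stalk u) = 0) Y.obj y) :
    ((∀ x : AlgSp.Points X.obj, AlgSp.Points.map f.hom x = y → AlgSp.HasAt (fun U u => ringKrullDim ↥(U.presheaf.stalk u) = 0) X.obj x) ↔
        (∀ x : AlgSp.Points X.obj, AlgSp.Points.map f.hom x = y → AlgSp.HasAtMor (fun U _ h u => ∃ W : U.Opens, u ∈ W ∧ LocallyQuasiFinite (W.ι ≫ h) ∧ LocallyOfFiniteType (W.ι ≫ h)) f.hom x)) ∧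
      ((∀ x : AlgSp.Points X.obj, AlgSp.Points.map f.hom x = y → AlgSp.HasAt (fun U u => ringKrullDim ↥(U.presheaf.stalk u) = 0) X.obj x → AlgSp.HasAtMor (fun U _ h u => ∃ W : U.Opens, u ∈ W ∧ LocallyQuasiFinite (W.ι ≫ h) ∧ LocallyOfFiniteType (W.ι ≫ h)) f.hom x) →
        ∀ x : AlgSp.Points X.obj, AlgSp.Points.map f.hom x = y → AlgSp.HasAt (fun U u => ringKrullDim ↥(U.presheaf.stalk u) = 0) X.obj x) := by

  have hE : EtLoc (@LocallyQuasiFinite ⊓ @LocallyOfFiniteType) :=
    etLoc_locallyQuasiFinite.inf etLoc_locallyOfFiniteType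
  have hQ : PtEtLoc (NearP (@LocallyQuasiFinite ⊓ @LocallyOfFiniteType)) := ptEtLoc_near hE
  obtain ⟨V, b, v, hbe, hvy, hv0⟩ := hy
  -- chart data through a point over y
  have chart : ∀ x : AlgSp.Points X.obj, AlgSp.Points.map f.hom x = y →
      ∃ (U : Over S) (a : (AlgSp.yon S).obj U ⟶ X.obj) (k : U ⟶ V) (u : ↥U.left),
        AlgSp.RepWith @Etale a ∧ a ≫ f.hom = (AlgSp.yon S).map k ≫ b ∧
        AlgSp.Points.ofPt a u = x ∧ k.left u = v ∧ LocallyOfFiniteType k.left ∧
        (∀ u' : ↥U.left, k.left u' = k.left u →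
          AlgSp.Points.map f.hom (AlgSp.Points.ofPt a u') = y) := by
    intro x hx
    obtain ⟨U, a, k, u, hae, hcomm, hux, hkv⟩ :=
      exists_chart_through X.property f.hom x b hbe v (hvy.trans hx.symm)
    refine ⟨U, a, k, u, hae, hcomm, hux, hkv, hf a b k hae hbe hcomm, ?_⟩
    intro u' hu'
    rw [AlgSp.Points.map_ofPt, hcomm, ofPt_map_comp, hu', hkv, hvy]
  refine ⟨⟨?_, ?_⟩, ?_⟩
  · intro H x hx
    obtain ⟨U, a, k, u, hae, hcomm, hux, hkv, hlft, hfib⟩ := chart x hx
    have hiso : IsolatedInFibre k.left u := by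
      apply isolatedInFibre_of_fibre_codim_zero
      intro u' hu'
      obtain ⟨U₁, a₁, u₁, ha₁, hu₁, hd⟩ := H _ (hfib u' hu')
      rw [stalk_dim_chart_indep a a₁ hae ha₁ u' u₁ hu₁.symm]
      exact hd
    obtain ⟨W', hW', h3, h4⟩ := qfNear_of_isolatedInFibre k.left u hiso
    exact ⟨U, V, a, b, k, u, hae, hbe, hcomm, hux, W', hW', h3, h4⟩
  · intro H x hx
    obtain ⟨U, a, k, u, hae, hcomm, hux, hkv, hlft, hfib⟩ := chart x hx
    have hq := hasAtMor_all_of_some hQ f.hom x (H x hx) a b k u hae hbe hcomm hux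
    have hiso : IsolatedInFibre k.left u := isolatedInFibre_of_qfNear k.left u hq
    have hqf : k.left.QuasiFiniteAt u := (quasiFiniteAt_iff_isolatedInFibre k.left u).2 hiso
    have h1 := stalk_dim_le_of_quasiFiniteAt k.left u hqf
    rw [hkv, hv0] at h1
    exact ⟨U, a, u, hae, hux, le_antisymm h1 ringKrullDim_nonneg_of_nontrivial⟩
  · intro H x hx
    obtain ⟨U, a, k, u, hae, hcomm, hux, hkv, hlft, hfib⟩ := chart x hx
    refine ⟨U, a, u, hae, hux, ?_⟩
    apply stalk_dim_eq_zero_of_qf_at_generizations k.left u (by rw [hkv]; exact hv0)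
    intro u' _ hu'0 hu'k
    have hq' := H _ (hfib u' hu'k) ⟨U, a, u', hae, rfl, hu'0⟩
    have hq := hasAtMor_all_of_some hQ f.hom _ hq' a b k u' hae hbe hcomm rfl
    exact isolatedInFibre_of_qfNear k.left u' hq


end Groth.Agent.S10399
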