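import Groth.Statements.S10401
import Groth.Agent.H25.AlgSp71
open Groth.Agent.H25 Groth.Agent.H25.AS

set_option autoImplicit false
universe u
open CategoryTheory CategoryTheory.Limits AlgebraicGeometry Topology TopologicalSpace
open AlgSp

namespace Groth.Agent.S10401

/-- If Y is a Jacobson algebraic space and X is an algebraic space that is locally of finite type over
Y, then X is Jacobson. -/
theorem result {S : Scheme.{u}} {X Y : AlgSp.Space S} (hX : AlgSp.EtaleLocally (fun U => JacobsonSpace ↥U) X.obj)
    (f : Y ⟶ X) (hf : AlgSp.LocP @LocallyOfFiniteType f.hom) : AlgSp.EtaleLocally (fun U => JacobsonSpace ↥U) Y.obj := by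
  obtain ⟨V, b, hbe, hbs, hV⟩ := hX
  obtain ⟨U, c, g, hce, hcs, hg⟩ := exists_chart_over Y.property X.property.diag f.hom b
  have sq := IsPullback.of_hasPullback f.hom b
  have hae : AlgSp.RepWith @Etale (c ≫ pullback.fst f.hom b) :=
    repWith_etale_comp hce (repWith_fst_of_isPullback sq hbe)
  have has : AlgSp.RepWith @Surjective (c ≫ pullback.fst f.hom b) :=
    (AlgSp.RepWith (S := S) @Surjective).comp_mem _ _ hcs (repWith_fst_of_isPullback sq hbs)
  have comm : (c ≫ pullback.fst f.hom b) ≫ f.hom = (AlgSp.yon S).map g ≫ b := by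
    rw [Category.assoc, pullback.condition, ← Category.assoc, hg]
  have hlft : LocallyOfFiniteType g.left := hf _ b g hae hbe comm
  have : JacobsonSpace ↥V.left := hV
  exact ⟨U, _, hae, has, LocallyOfFiniteType.jacobsonSpace g.left⟩

end Groth.Agent.S10401
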