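import Groth.Statements.S10406
import Groth.Agent.H25.AlgSp106
open Groth.Agent.H25 Groth.Agent.H25.AS

set_option autoImplicit false
universe u
open CategoryTheory CategoryTheory.Limits AlgebraicGeometry Topology TopologicalSpace
open AlgSp

namespace Groth.Agent.S10406

/-- Let S be a scheme, Y and X decent, locally Noetherian algebraic spaces over S, and f : Y ⟶ X a
surjective finite morphism, and let δ : |X| → ℤ be a function. Suppose δ ∘ |f| is a dimension
function on |Y| (it decreases strictly along nontrivial specializations and by exactly one along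
immediate specializations). Then δ is a dimension function on |X|. -/
theorem result {S : Scheme.{u}} {X Y : AlgSp.Space S} (f : Y ⟶ X)
    (hf : AlgSp.IsFiniteMor f.hom) (hs : AlgSp.IsSurjectiveMor f.hom) (hX : AlgSp.IsDecent X.obj)
    (hY : AlgSp.IsDecent Y.obj) (hXN : AlgSp.IsLocNoethSp X.obj) (hYN : AlgSp.IsLocNoethSp Y.obj)
    (δ : AlgSp.Points X.obj → ℤ)
    (hδ : (∀ a b : AlgSp.Points Y.obj, a ⤳ b → a ≠ b → (δ ∘ AlgSp.Points.map f.hom) b < (δ ∘ AlgSp.Points.map f.hom) a ∧ ((∀ c : AlgSp.Points Y.obj, a ⤳ c → c ⤳ b → c = a ∨ c = b) → (δ ∘ AlgSp.Points.map f.hom) a = (δ ∘ AlgSp.Points.map f.hom) b + 1))) :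
    (∀ a b : AlgSp.Points X.obj, a ⤳ b → a ≠ b → δ b < δ a ∧ ((∀ c : AlgSp.Points X.obj, a ⤳ c → c ⤳ b → c = a ∨ c = b) → δ a = δ b + 1)) := by
  intro a b hab hne
  obtain ⟨a', ha'⟩ := hs a
  have hcl : IsClosedMap (AlgSp.Points.map f.hom) :=
    isClosedMap_of_isUnivClosedMor X.property _
      (isUnivClosedMor_of_isIntegralMor _ (isIntegralMor_of_isFiniteMor _ hf))
  have hcont : Continuous (AlgSp.Points.map f.hom) := AlgSp.Points.continuous_map _
  obtain ⟨b', hb'1, hb'2⟩ := hcl.specializingMap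
    (show AlgSp.Points.map f.hom a' ⤳ b by rw [ha']; exact hab)
  have hb'1 : a' ⤳ b' := hb'1
  have hne' : a' ≠ b' := fun h => hne (by rw [← ha', ← hb'2, h])
  obtain ⟨h1, h2⟩ := hδ a' b' hb'1 hne'
  simp only [Function.comp] at h1 h2
  rw [ha', hb'2] at h1 h2
  refine ⟨h1, fun himm => h2 ?_⟩
  intro c' hac' hc'b'
  have h3 : a ⤳ AlgSp.Points.map f.hom c' := by
    rw [← ha']; exact hac'.map hcont
  have h4 : AlgSp.Points.map f.hom c' ⤳ b := by
    rw [← hb'2]; exact hc'b'.map hcont
  rcases himm (AlgSp.Points.map f.hom c') h3 h4 with hc | hc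
  · left
    exact (eq_of_specializes_of_isFiniteMor X.property hY hX f.hom hf hac'
      (by rw [ha', hc])).symm
  · right
    exact eq_of_specializes_of_isFiniteMor X.property hY hX f.hom hf hc'b'
      (by rw [hc, hb'2])


end Groth.Agent.S10406
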