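import Groth.Statements.S10414
import Groth.Agent.H25.AlgSp71
open Groth.Agent.H25 Groth.Agent.H25.AS

set_option autoImplicit false
universe u
open CategoryTheory CategoryTheory.Limits AlgebraicGeometry Topology TopologicalSpace
open AlgSp

namespace Groth.Agent.S10414

/-- Let S be a scheme, X an algebraic space over S, x ∈ |X|, and Z_x ⟶ X the residual space of x (a
monomorphism with image {x} from a space which admits a locally finitely presented, flat, surjective
morphism whose source is the spectrum of a field). Then Z_x is isomorphic to Spec k' for some field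
k' if and only if the point x is represented by some monomorphism Spec k ⟶ X. (The decent case, in
which the right side holds at every point, is not part of this row.) -/
theorem result {S : Scheme.{u}} (X : AlgSp.Space S) (x : AlgSp.Points X.obj)
    {Z : AlgSp.Space S} (i : Z ⟶ X) [Mono i.hom] (hi : Set.range (AlgSp.Points.map i.hom) = {x})
    (hZ : ∃ (k : Type u) (_ : Field k) (str : Spec (CommRingCat.of k) ⟶ S) (p : (AlgSp.yon S).obj (Over.mk str) ⟶ Z.obj),
        AlgSp.LocP @LocallyOfFinitePresentation p ∧ AlgSp.LocP @Flat p ∧ AlgSp.IsSurjectiveMor p) :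
    (∃ (k : Type u) (_ : Field k) (str : Spec (CommRingCat.of k) ⟶ S), Nonempty (Z.obj ≅ (AlgSp.yon S).obj (Over.mk str))) ↔
      ∃ p : AlgSp.FieldPt X.obj, AlgSp.Points.mk p = x ∧ Mono p.toHom := by
  constructor
  · rintro ⟨k, _, str, ⟨e⟩⟩
    refine ⟨fpOf k str (e.inv ≫ i.hom), ?_, ?_⟩
    · rw [mk_fpOf_eq_ofPt_id, ← AlgSp.Points.map_ofPt]
      have : AlgSp.Points.map i.hom (AlgSp.Points.ofPt e.inv (IsLocalRing.closedPoint k)) ∈
          Set.range (AlgSp.Points.map i.hom) := ⟨_, rfl⟩
      rw [hi] at this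
      exact this
    · have : (fpOf k str (e.inv ≫ i.hom)).toHom = e.inv ≫ i.hom := Equiv.symm_apply_apply _ _
      rw [this]
      exact mono_comp e.inv i.hom
  · rintro ⟨p, hp, hm⟩
    obtain ⟨k, _, str, q, hfp, hfl, hs⟩ := hZ
    have hrange : Set.range (AlgSp.Points.map p.toHom) = {x} := by
      ext z
      constructor
      · rintro ⟨y, rfl⟩
        obtain ⟨t, rfl⟩ := exists_ofScheme y
        rw [← AlgSp.Points.ofPt_eq_map_ofScheme, AlgSp.Points.ofPt_toHom, hp]
        rfl
      · intro hz
        rw [Set.mem_singleton_iff] at hz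
        refine ⟨AlgSp.Points.ofScheme _ (IsLocalRing.closedPoint p.K), ?_⟩
        rw [← AlgSp.Points.ofPt_eq_map_ofScheme, AlgSp.Points.ofPt_toHom, hp, hz]
    have h1 : AlgSp.LocP @LocallyOfFinitePresentation (𝟙 ((AlgSp.yon S).obj p.pt)) := by
      rw [← (AlgSp.yon S).map_id]
      exact locP_of_chart etLoc_locallyOfFinitePresentation _ (𝟙 _) (𝟙 _) (𝟙 _)
        (AlgSp.repWith_id _ _) (AlgSp.repWith_id _ _) (AlgSp.repWith_id _ _) (by simp)
        (by dsimp; infer_instance)
    have h2 : AlgSp.LocP @Flat (𝟙 ((AlgSp.yon S).obj p.pt)) := by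
      rw [← (AlgSp.yon S).map_id]
      exact locP_of_chart etLoc_flat _ (𝟙 _) (𝟙 _) (𝟙 _)
        (AlgSp.repWith_id _ _) (AlgSp.repWith_id _ _) (AlgSp.repWith_id _ _) (by simp)
        (by dsimp; infer_instance)
    have h3 : AlgSp.IsSurjectiveMor (𝟙 ((AlgSp.yon S).obj p.pt)) := fun y => ⟨y, by simp⟩
    obtain ⟨e, -⟩ := exists_iso_of_field_covers X.property (AlgSp.IsAlgSpace.yon_obj p.pt)
      Z.property x p.toHom i.hom hrange hi p.str (𝟙 _) h1 h2 h3 str q hfp hfl hs
    exact ⟨p.K, inferInstance, p.str, ⟨e⟩⟩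

end Groth.Agent.S10414
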