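import Groth.Statements.S10444
import Groth.Agent.H25.AlgSp98
open Groth.Agent.H25 Groth.Agent.H25.AS

set_option autoImplicit false
universe u
open CategoryTheory CategoryTheory.Limits AlgebraicGeometry Topology TopologicalSpace
open AlgSp

namespace Groth.Agent.S10444

/-- Take f : X ⟶ Y locally of finite type between algebraic spaces over a scheme S, a field-valued point
Spec k ⟶ Y whose class y ∈ |Y| lies in the image of |f|, the fibre product X_k = Spec k ×_Y X, and
the fibre F = |f|⁻¹(y) ⊆ |X| with the induced topology. Numbering the conditions (1) F finite, (2) F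
discrete, (3) dim F = 0, (4) |X_k| finite, (5) |X_k| discrete, (6) dim |X_k| = 0, (7) dim X_k = 0,
(8) f quasi-finite at all points over y: (5) ⇔ (7) ⇔ (8); (5) ⇒ (6), with the converse when X_k is
decent; (4) ⇒ (5) when X_k is decent; (4) ⇒ (1); (2) ⇒ (3); if Y is decent then (2) ⇔ (5); if X and
Y are decent then (3) ⇒ (2) and (1) ⇒ (2). (The published statement asserts (5) ⇔ (6) for every f
and (2) ⇔ (3) whenever Y is decent, and does not exclude an empty fibre; for the quotient of the
affine line over a field of characteristic zero by an infinite cyclic group of translations, mapping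
to the point, the space of points is infinite and indiscrete, so (3) and (6) hold while (2) and (5)
fail, and for y outside the image (5) holds while (6) and (7) fail; hence the decency hypotheses on
those two converses and the hypothesis that y is in the image. Finiteness of |X_k| for an arbitrary
field k in the class of y is not derived here from (1).) -/
theorem result {S : Scheme.{u}} {X Y : AlgSp.Space S} (f : X ⟶ Y)
    (hf : AlgSp.LocP @LocallyOfFiniteType f.hom) (r : AlgSp.FieldPt Y.obj)
    (hy : AlgSp.Points.mk r ∈ Set.range (AlgSp.Points.map f.hom)) (Xk : AlgSp.Space S) (fst : Xk ⟶ X)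
    (snd : Xk.obj ⟶ (AlgSp.yon S).obj r.pt) (hsq : IsPullback fst.hom snd f.hom r.toHom) :
    (DiscreteTopology (AlgSp.Points Xk.obj) ↔ AlgSp.dim Xk.obj = 0) ∧
    (AlgSp.dim Xk.obj = 0 ↔
      ∀ x : AlgSp.Points X.obj, AlgSp.Points.map f.hom x = AlgSp.Points.mk r → AlgSp.HasAtMor (fun U _ h u => ∃ W : U.Opens, u ∈ W ∧ LocallyQuasiFinite (W.ι ≫ h) ∧ LocallyOfFiniteType (W.ι ≫ h)) f.hom x) ∧
    (DiscreteTopology (AlgSp.Points Xk.obj) → topologicalKrullDim (AlgSp.Points Xk.obj) = 0) ∧
    (AlgSp.IsDecent Xk.obj → topologicalKrullDim (AlgSp.Points Xk.obj) = 0 →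
      DiscreteTopology (AlgSp.Points Xk.obj)) ∧
    (AlgSp.IsDecent Xk.obj → Finite (AlgSp.Points Xk.obj) → DiscreteTopology (AlgSp.Points Xk.obj)) ∧
    (Finite (AlgSp.Points Xk.obj) → (AlgSp.Points.map f.hom ⁻¹' {AlgSp.Points.mk r}).Finite) ∧
    (DiscreteTopology ↥(AlgSp.Points.map f.hom ⁻¹' {AlgSp.Points.mk r}) → topologicalKrullDim ↥(AlgSp.Points.map f.hom ⁻¹' {AlgSp.Points.mk r}) = 0) ∧
    (AlgSp.IsDecent Y.obj → (DiscreteTopology ↥(AlgSp.Points.map f.hom ⁻¹' {AlgSp.Points.mk r}) ↔ DiscreteTopology (AlgSp.Points Xk.obj))) ∧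
    (AlgSp.IsDecent Y.obj → AlgSp.IsDecent X.obj →
      (topologicalKrullDim ↥(AlgSp.Points.map f.hom ⁻¹' {AlgSp.Points.mk r}) = 0 → DiscreteTopology ↥(AlgSp.Points.map f.hom ⁻¹' {AlgSp.Points.mk r})) ∧
        ((AlgSp.Points.map f.hom ⁻¹' {AlgSp.Points.mk r}).Finite → DiscreteTopology ↥(AlgSp.Points.map f.hom ⁻¹' {AlgSp.Points.mk r}))) := by

  have hjn : JN Xk.obj := jn_fibre X.property Y.property hf r hsq
  have hrange := range_map_fst_fibre f.hom r hsq
  obtain ⟨x₁, hx₁⟩ := hy
  have hx₁F : x₁ ∈ AlgSp.Points.map f.hom ⁻¹' {AlgSp.Points.mk r} := hx₁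
  obtain ⟨z₁, hz₁⟩ : x₁ ∈ Set.range (AlgSp.Points.map fst.hom) := by rw [hrange]; exact hx₁F
  haveI : Nonempty (AlgSp.Points Xk.obj) := ⟨z₁⟩
  have hA5 := hjn.discrete_iff_dim_eq_zero Xk.property
  have hpt : ∀ z : AlgSp.Points Xk.obj, IsOpen ({z} : Set (AlgSp.Points Xk.obj)) ↔
      AlgSp.HasAtMor (NearP (@LocallyQuasiFinite ⊓ @LocallyOfFiniteType)) f.hom
        (AlgSp.Points.map fst.hom z) := fun z =>
    (hjn.isOpen_iff_hasAt_localDim Xk.property z).trans
      (hasAt_localDim_iff_qfNear_fibre X.property Y.property Xk.property hf r hsq z)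
  have hqf_all : DiscreteTopology (AlgSp.Points Xk.obj) ↔
      ∀ x : AlgSp.Points X.obj, AlgSp.Points.map f.hom x = AlgSp.Points.mk r →
        AlgSp.HasAtMor (NearP (@LocallyQuasiFinite ⊓ @LocallyOfFiniteType)) f.hom x := by
    rw [discreteTopology_iff_isOpen_singleton]
    constructor
    · intro H x hx
      obtain ⟨z, rfl⟩ : x ∈ Set.range (AlgSp.Points.map fst.hom) := by rw [hrange]; exact hx
      exact (hpt z).1 (H z)
    · intro H z
      refine (hpt z).2 (H _ ?_)
      have : AlgSp.Points.map fst.hom z ∈ Set.range (AlgSp.Points.map fst.hom) := ⟨z, rfl⟩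
      rw [hrange] at this
      exact this
  refine ⟨hA5, hA5.symm.trans hqf_all, fun hd => ?_, fun hdec hdim => ?_, fun hdec hfin => ?_,
    fun hfin => ?_, fun hd => ?_, fun hYd => ?_, fun hYd hXd => ?_⟩
  · exact le_antisymm (topologicalKrullDim_zero_of_discreteTopology _)
      (topologicalKrullDim_nonneg_of_nonempty z₁)
  · haveI : T0Space (AlgSp.Points Xk.obj) := t0Space_points_of_isDecent Xk.property hdec
    exact hjn.discrete_of_topdim_le_zero Xk.property hdim.le
  · haveI : T0Space (AlgSp.Points Xk.obj) := t0Space_points_of_isDecent Xk.property hdec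
    exact hjn.discrete_of_finite Xk.property
  · rw [← hrange]; exact Set.finite_range _
  · exact le_antisymm (topologicalKrullDim_zero_of_discreteTopology _)
      (topologicalKrullDim_nonneg_of_nonempty
        (⟨x₁, hx₁F⟩ : ↥(AlgSp.Points.map f.hom ⁻¹' {AlgSp.Points.mk r})))
  · have hprops := (fibre_point_props X.property Y.property hYd hf (AlgSp.Points.mk r)).1
    rw [hqf_all, discreteTopology_iff_isOpen_singleton]
    constructor
    · intro H x hx
      exact ((hprops x hx).1).1 (H ⟨x, hx⟩)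
    · rintro H ⟨x, hx⟩
      exact ((hprops x hx).1).2 (H x hx)
  · haveI : T0Space (AlgSp.Points X.obj) := t0Space_points_of_isDecent X.property hXd
    have hprops := fibre_point_props X.property Y.property hYd hf (AlgSp.Points.mk r)
    refine ⟨fun hdim => ?_, fun hfin => hprops.2 inferInstance hfin⟩
    have hsp := no_specializations_of_dim_le_zero
      (N := ↥(AlgSp.Points.map f.hom ⁻¹' {AlgSp.Points.mk r})) hdim.le
    rw [discreteTopology_iff_isOpen_singleton]
    rintro ⟨x, hx⟩
    refine ((hprops.1 x hx).2.1).1 ⟨?_, fun x' hx' => (hsp ⟨x, hx⟩ x' hx').symm⟩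
    rw [← closure_subset_iff_isClosed]
    intro p' hp'
    exact hsp p' ⟨x, hx⟩ (specializes_iff_mem_closure.2 hp')


end Groth.Agent.S10444
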