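import Groth.Statements.S1047
import Groth.Agent.Lib.Helper6NC.PCm10

set_option autoImplicit false
universe u
open CategoryTheory CategoryTheory.Limits
attribute [local instance] HasDerivedCategory.standard
open Perf

namespace Groth.Agent.S1047

/-- Let A be a commutative ring and R an A-algebra, not necessarily commutative, whose underlying
A-module is finite free. Restriction of scalars being exact (carried as instance hypotheses), if an
object M of D(R) becomes pseudo-coherent in D(A) after restriction of scalars (isomorphic to a
bounded above complex of finite free A-modules), then M is represented by a bounded above complex of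
finite free R-modules. (The source phrases this for right modules; we use left modules, which is the
same statement for the opposite algebra.) -/
theorem result (A : Type u) [CommRing A] (R : Type u) [Ring R] [Algebra A R]
    [Module.Finite A R] [Module.Free A R]
    [PreservesFiniteLimits (ModuleCat.restrictScalars.{u} (algebraMap A R))] [PreservesFiniteColimits (ModuleCat.restrictScalars.{u} (algebraMap A R))]
    (M : DerivedCategory (ModuleCat.{u} R))
    (hM : DRing.IsPseudoCoherent' A (((ModuleCat.restrictScalars.{u} (algebraMap A R)).mapDerivedCategory).obj M)) :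
    ∃ (F : CochainComplex (ModuleCat.{u} R) ℤ) (b : ℤ), (∀ i : ℤ, b < i → IsZero (F.X i)) ∧
      (∀ i : ℤ, Module.Finite R (F.X i) ∧ Module.Free R (F.X i)) ∧ Nonempty (DerivedCategory.Q.obj F ≅ M) := by
  have HB : Groth.Agent.Helper6NC.PCm.ResPC (algebraMap A R) := by
    intro k
    let e : R ≃ₗ[A] ((ModuleCat.restrictScalars.{u} (algebraMap A R)).obj (ModuleCat.of R R)) :=
      { toFun := fun r => r
        invFun := fun r => r
        map_add' := fun _ _ => rfl
        map_smul' := fun a r => Algebra.smul_def a r
        left_inv := fun _ => rfl
        right_inv := fun _ => rfl }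
    haveI : Module.Finite A
        ((ModuleCat.restrictScalars.{u} (algebraMap A R)).obj (ModuleCat.of R R)) :=
      Module.Finite.equiv e
    haveI : Module.Free A
        ((ModuleCat.restrictScalars.{u} (algebraMap A R)).obj (ModuleCat.of R R)) :=
      Module.Free.of_equiv e
    exact Groth.Agent.Helper6NC.PCm.isPC_of_rep k
      (Groth.Agent.Helper6NC.PCm.rep_single_free _)
  have h1 : ∀ m : ℤ, Groth.Agent.Helper6NC.PCm.IsPC m
      ((Groth.Agent.Helper6NC.PCm.resD (algebraMap A R)).obj M) :=
    (Groth.Agent.Helper6NC.PCm.forall_isPC_iff_rep _).2 hM
  have h2 : ∀ m : ℤ, Groth.Agent.Helper6NC.PCm.IsPC m M := fun m =>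
    (Groth.Agent.Helper6NC.PCm.isPC_resD_iff (algebraMap A R) HB M m).1 (h1 m)
  exact Groth.Agent.Helper6NC.PCm.exists_rep_of_forall_isPC M h2

end Groth.Agent.S1047
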