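import Groth.Statements.S10481
import Groth.Agent.H25.AlgSp118
open Groth.Agent.H25 Groth.Agent.H25.AS

set_option autoImplicit false
universe u
open CategoryTheory CategoryTheory.Limits AlgebraicGeometry Topology TopologicalSpace
open AlgSp

namespace Groth.Agent.S10481

/-- Let k be a field, f : X ⟶ Y a morphism of algebraic spaces over k and x a point of X at which f is
etale. Then X is geometrically reduced at x if and only if Y is geometrically reduced at the image
of x. -/
theorem result (k : Type u) [Field k] {X Y : AlgSp.Space (Spec (CommRingCat.of k))} (f : X ⟶ Y)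
    (x : AlgSp.Points X.obj)
    (he : AlgSp.HasAtMor (fun U _ h u => ∃ W : U.Opens, u ∈ W ∧ Etale (W.ι ≫ h)) f.hom x) :
    (∃ (U : Over (Spec (CommRingCat.of k))) (a : (AlgSp.yon (Spec (CommRingCat.of k))).obj U ⟶ X.obj) (u : ↥U.left),
      AlgSp.RepWith @Etale a ∧ AlgSp.Points.ofPt a u = x ∧ FBase.IsGeomReducedAt U.hom u) ↔ (∃ (U : Over (Spec (CommRingCat.of k))) (a : (AlgSp.yon (Spec (CommRingCat.of k))).obj U ⟶ Y.obj) (u : ↥U.left),
      AlgSp.RepWith @Etale a ∧ AlgSp.Points.ofPt a u = (AlgSp.Points.map f.hom x) ∧ FBase.IsGeomReducedAt U.hom u) := by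
  obtain ⟨U, V, a, b, h, u, hae, hbe, hcomm, hu, W, huW, hWe⟩ := he
  let j : openOver U W ⟶ U := openIncl U W
  let m : openOver U W ⟶ V := j ≫ h
  haveI hje : Etale j.left := (show Etale W.ι from inferInstance)
  haveI hme : Etale m.left := hWe
  let u' : ↥(openOver U W).left := ⟨u, huW⟩
  have hj' : j.left.base u' = u := rfl
  have hm' : m.left.base u' = h.left.base u := rfl
  have E1 := isGeomReducedAt_iff_of_etale_over j u'
  have E2 := isGeomReducedAt_iff_of_etale_over m u'
  rw [hj'] at E1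
  rw [hm'] at E2
  have E : FBase.IsGeomReducedAt U.hom u ↔ FBase.IsGeomReducedAt V.hom (h.left.base u) :=
    E1.symm.trans E2
  have P1 : AlgSp.Points.ofPt b (h.left.base u) = AlgSp.Points.map f.hom x := by
    have e1 := ofPt_map_comp h b u
    have e2 : AlgSp.Points.ofPt ((AlgSp.yon _).map h ≫ b) u = AlgSp.Points.ofPt (a ≫ f.hom) u := by
      rw [hcomm]
    rw [← hu, AlgSp.Points.map_ofPt, ← e2, e1]
  constructor
  · rintro ⟨U₁, a₁, u₁, ha₁, hu₁, hg₁⟩
    have hg := isGeomReducedAt_of_charts a₁ a ha₁ hae u₁ u (hu₁.trans hu.symm) hg₁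
    exact ⟨V, b, h.left.base u, hbe, P1, E.mp hg⟩
  · rintro ⟨V₁, b₁, v₁, hb₁, hv₁, hg₁⟩
    have hg := isGeomReducedAt_of_charts b₁ b hb₁ hbe v₁ (h.left.base u) (hv₁.trans P1.symm) hg₁
    exact ⟨U, a, u, hae, hu, E.mpr hg⟩


end Groth.Agent.S10481
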