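import Groth.Statements.S10482
import Groth.Agent.H25.AlgSp96
open Groth.Agent.H25 Groth.Agent.H25.AS

set_option autoImplicit false
universe u
open CategoryTheory CategoryTheory.Limits AlgebraicGeometry Topology TopologicalSpace
open AlgSp

namespace Groth.Agent.S10482

/-- (1) ⇔ (2): let k be a field and X an algebraic space over k. Then X is locally quasi-finite over k
if and only if X is locally of finite type over k of dimension at most 0. (The published statement
says dimension 0; dimension at most 0 is used so that the empty space, whose dimension is the bottom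
element, is covered by both sides.) -/
theorem result (k : Type u) [Field k] (X : AlgSp.Space (Spec (CommRingCat.of k))) (p : X.obj ⟶ (AlgSp.yon (Spec (CommRingCat.of k))).obj (Over.mk (𝟙 _))) :
    AlgSp.LocP (@LocallyQuasiFinite ⊓ @LocallyOfFiniteType : MorphismProperty Scheme.{u}) p ↔ AlgSp.LocP @LocallyOfFiniteType p ∧ AlgSp.dim X.obj ≤ 0 := by

  constructor
  · intro H
    refine ⟨fun U V a b h ha hb comm => (H a b h ha hb comm).2, ?_⟩
    unfold AlgSp.dim
    refine iSup_le fun U => iSup_le fun a => iSup_le fun ha => ?_
    obtain ⟨h, hh⟩ := (AlgSp.yon _).map_surjective (a ≫ p)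
    haveI h1 : LocallyQuasiFinite h.left :=
      (H a (𝟙 _) h ha (AlgSp.repWith_id _ _) (by rw [hh, Category.comp_id])).1
    refine (topologicalKrullDim_le_of_lqf h.left).trans ?_
    change topologicalKrullDim (PrimeSpectrum k) ≤ 0
    rw [PrimeSpectrum.topologicalKrullDim_eq_ringKrullDim, ringKrullDim_eq_zero_of_field]
  · rintro ⟨hlft, hdim⟩ U V a b h ha hb comm
    have h2 : LocallyOfFiniteType h.left := hlft a b h ha hb comm
    refine ⟨?_, h2⟩
    have hU : LocallyOfFiniteType U.hom := by
      obtain ⟨h', hh'⟩ := (AlgSp.yon _).map_surjective (a ≫ p)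
      have h1 : LocallyOfFiniteType h'.left :=
        hlft a (𝟙 _) h' ha (AlgSp.repWith_id _ _) (by rw [hh', Category.comp_id])
      have h3 : h'.left = U.hom := by
        have := Over.w h'
        simpa using this
      rwa [h3] at h1
    haveI : IsLocallyNoetherian U.left := LocallyOfFiniteType.isLocallyNoetherian U.hom
    have hle : topologicalKrullDim ↥U.left ≤ 0 := by
      refine le_trans ?_ hdim
      unfold AlgSp.dim
      exact le_iSup_of_le U (le_iSup_of_le a (le_iSup_of_le ha le_rfl))
    haveI := discreteTopology_of_dim_le_zero hle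
    rw [locallyQuasiFinite_iff_isDiscrete_preimage_singleton]
    intro v
    exact IsDiscrete.univ.mono (Set.subset_univ _)


end Groth.Agent.S10482
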