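import Groth.Statements.S10485
import Groth.Agent.H25.AlgSp98
open Groth.Agent.H25 Groth.Agent.H25.AS

set_option autoImplicit false
universe u
open CategoryTheory CategoryTheory.Limits AlgebraicGeometry Topology TopologicalSpace
open AlgSp

namespace Groth.Agent.S10485

/-- (4) ⇔ (5): let f : X ⟶ Y be a dominant morphism locally of finite type between integral algebraic
spaces over a scheme S, with generic points x and y. Then f is quasi-finite at x if and only if x is
the only point of X mapping to y. -/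
theorem result {S : Scheme.{u}} {X Y : AlgSp.Space S} (hXi : AlgSp.IsIntegralSp X.obj) (hYi : AlgSp.IsIntegralSp Y.obj)
    (f : X ⟶ Y) (hft : AlgSp.LocP @LocallyOfFiniteType f.hom) (hd : AlgSp.IsDominantMor f.hom)
    (x : AlgSp.Points X.obj) (hx : IsGenericPoint x (Set.univ : Set (AlgSp.Points X.obj)))
    (y : AlgSp.Points Y.obj) (hy : IsGenericPoint y (Set.univ : Set (AlgSp.Points Y.obj))) :
    AlgSp.HasAtMor (fun U _ h u => ∃ W : U.Opens, u ∈ W ∧ LocallyQuasiFinite (W.ι ≫ h) ∧ LocallyOfFiniteType (W.ι ≫ h)) f.hom x ↔ (∀ x' : AlgSp.Points X.obj, AlgSp.Points.map f.hom x' = y → x' = x) := by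

  haveI : T0Space (AlgSp.Points Y.obj) := t0Space_points_of_isDecent Y.property hYi.2.1
  have hfx : AlgSp.Points.map f.hom x = y := by
    have h1 : IsGenericPoint (AlgSp.Points.map f.hom x)
        (closure (AlgSp.Points.map f.hom '' Set.univ)) :=
      hx.image (AlgSp.Points.continuous_map f.hom)
    rw [Set.image_univ, hd.closure_range] at h1
    exact h1.eq hy
  have hxF : x ∈ AlgSp.Points.map f.hom ⁻¹' {y} := hfx
  obtain ⟨h1, h2, -⟩ := (fibre_point_props X.property Y.property hYi.2.1 hft y).1 x hxF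
  constructor
  · intro hq x' hx'
    have hopen := h1.2 hq
    obtain ⟨hcl, -⟩ := h2.2 hopen
    have hx'F : x' ∈ AlgSp.Points.map f.hom ⁻¹' {y} := hx'
    have hsp : x ⤳ x' := hx.specializes (Set.mem_univ x')
    have hsp' : (⟨x, hxF⟩ : ↥(AlgSp.Points.map f.hom ⁻¹' {y})) ⤳ ⟨x', hx'F⟩ :=
      (subtype_specializes_iff _ _).2 hsp
    have hmem : (⟨x', hx'F⟩ : ↥(AlgSp.Points.map f.hom ⁻¹' {y})) ∈
        closure ({⟨x, hxF⟩} : Set ↥(AlgSp.Points.map f.hom ⁻¹' {y})) :=
      specializes_iff_mem_closure.1 hsp'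
    rw [hcl.closure_eq] at hmem
    exact congrArg Subtype.val hmem
  · intro H
    apply h1.1
    have : ({⟨x, hxF⟩} : Set ↥(AlgSp.Points.map f.hom ⁻¹' {y})) = Set.univ := by
      ext p
      simp only [Set.mem_singleton_iff, Set.mem_univ, iff_true]
      exact Subtype.ext (H p.1 p.2)
    rw [this]
    exact isOpen_univ


end Groth.Agent.S10485
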