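import Groth.Statements.S10491
import Groth.Agent.H25.AlgSp100
open Groth.Agent.H25 Groth.Agent.H25.AS

set_option autoImplicit false
universe u
open CategoryTheory CategoryTheory.Limits AlgebraicGeometry Topology TopologicalSpace
open AlgSp

namespace Groth.Agent.S10491

/-- Let X be an algebraic space over a scheme S which is locally Noetherian, and T ⊂ |X| a closed
subset. Then every point of |X| has a neighbourhood meeting only finitely many irreducible
components of T. -/
theorem result {S : Scheme.{u}} (X : AlgSp.Space S)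
    (hX : AlgSp.IsLocNoethSp X.obj) (T : Set (AlgSp.Points X.obj)) (hT : IsClosed T) :
    LocallyFinite (fun Z : ↥(irreducibleComponents ↥T) => ((↑) : ↥T → AlgSp.Points X.obj) '' (Z : Set ↥T)) := by

  intro x
  obtain ⟨U₀, a₀, hae, has, hN⟩ := hX
  haveI : IsLocallyNoetherian U₀.left := hN
  obtain ⟨u, hu⟩ := ofPt_surjective a₀ has x
  obtain ⟨N, hNaff, huN, -⟩ := exists_isAffineOpen_mem_and_subset (X := U₀.left) (x := u)
    (U := ⊤) trivial
  haveI hNR : IsNoetherianRing Γ(U₀.left, N) :=
    IsLocallyNoetherian.component_noetherian ⟨N, hNaff⟩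
  have hNS : TopologicalSpace.NoetherianSpace ↥N := noetherianSpace_of_isAffineOpen N hNaff
  refine ⟨AlgSp.Points.ofPt a₀ '' (N : Set ↥U₀.left), ?_, ?_⟩
  · exact (isOpenMap_ofPt a₀ hae _ N.2).mem_nhds ⟨u, huN, hu⟩
  · exact finite_irreducibleComponents_meeting_image (AlgSp.Points.ofPt a₀)
      (AlgSp.Points.continuous_ofPt a₀) (isOpenMap_ofPt a₀ hae) T (N : Set ↥U₀.left) N.2 hNS


end Groth.Agent.S10491
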