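import Groth.Statements.S1050
import Groth.Agent.H23.SerreDer

set_option autoImplicit false
universe w w' v u
open CategoryTheory CategoryTheory.Limits
open CohDer

namespace Groth.Agent.S1050

/-- Let P be a Serre class in an abelian category A (so that the full subcategory on P is abelian; its
closure under kernels, cokernels, finite products and the exactness of the inclusion are carried as
instance hypotheses) such that for every epimorphism X ⟶ Y with P Y there is a subobject X' of X
with P X' mapping onto Y. Then the induced functor D(P) ⥤ D(A) is fully faithful on bounded above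
objects, and every bounded above object of D(A) all of whose cohomology objects satisfy P is in its
essential image from a bounded above object; that is, D⁻(P) ≃ D⁻_P(A). -/
theorem result {A : Type u} [Category.{v} A] [Abelian A] [HasDerivedCategory.{w} A]
    (P : ObjectProperty A) [P.IsSerreClass] [P.IsClosedUnderKernels] [P.IsClosedUnderCokernels]
    [P.IsClosedUnderFiniteProducts] [HasDerivedCategory.{w'} P.FullSubcategory]
    [PreservesFiniteLimits P.ι] [PreservesFiniteColimits P.ι]
    (hlift : ∀ (X Y : A) (π : X ⟶ Y), Epi π → P Y → ∃ (X' : A) (i : X' ⟶ X), Mono i ∧ P X' ∧ Epi (i ≫ π)) :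
    (∀ (M N : DerivedCategory P.FullSubcategory) (b : ℤ), M.IsLE b → N.IsLE b →
      Function.Bijective (fun φ : M ⟶ N => P.ι.mapDerivedCategory.map φ)) ∧
    ∀ (K : DerivedCategory A) (b : ℤ), K.IsLE b → (∀ n : ℤ, P ((DerivedCategory.homologyFunctor A n).obj K)) →
      ∃ M : DerivedCategory P.FullSubcategory, M.IsLE b ∧ Nonempty (P.ι.mapDerivedCategory.obj M ≅ K) := by
  have hql : PCoh.IsQuasiLiftable P := fun E F u hu hF => by
    obtain ⟨X', i, _, hX', hepi⟩ := hlift E F u hu hF
    exact ⟨X', i, hX', hepi⟩
  have hG : ∀ Y : P.FullSubcategory, P (P.ι.obj Y) := fun Y => Y.property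
  have hP : ∀ X : A, P X → ∃ Y : P.FullSubcategory, Nonempty (P.ι.obj Y ≅ X) :=
    fun X hX => ⟨⟨X, hX⟩, ⟨Iso.refl _⟩⟩
  have hsum : ∀ X Y : A, P X → P Y → P (X ⨯ Y) := fun X Y hX hY => P.prop_prod X Y hX hY
  have hker : ∀ (X E : A) (u : E ⟶ X), P X → P E → P (Limits.kernel u) :=
    fun X E u hX hE => P.prop_kernel u hE hX
  refine ⟨fun M N b hM hN => ?_, fun K b hK hKP => ?_⟩
  · haveI := hM
    haveI := hN
    exact Groth.Agent.H23.SerreDer.bijective P.ι P hP hG hsum hker hql M N b
  · haveI := hK
    exact Groth.Agent.H23.SerreDer.essSurj P.ι P hP hsum hker hql K b hKP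

end Groth.Agent.S1050
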