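import Groth.Statements.S1051
-- import your own Groth.Agent.* helpers here

set_option autoImplicit false
universe v u
open CategoryTheory
open CohDer

namespace Groth.Agent.S1051

section Helper

open CategoryTheory.Pretriangulated CategoryTheory.Limits

variable {D : Type u} [Category.{v} D] [Preadditive D] [Limits.HasZeroObject D] [HasShift D ℤ]
    [∀ n : ℤ, (shiftFunctor D n).Additive] [Pretriangulated D]

lemma eq_zero_of_tri {Y' Xk Yk : D} (a' : Y' ⟶ Xk) (b : Xk ⟶ Yk) (c : Yk ⟶ Y'⟦(1 : ℤ)⟧)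
    (hT : Triangle.mk a' b c ∈ distTriang D) {A : D} (hA : ∀ ψ : A⟦(1 : ℤ)⟧ ⟶ Yk, ψ = 0)
    (φ : A ⟶ Y') (hφ : φ ≫ a' = 0) : φ = 0 := by
  obtain ⟨g, hg⟩ := Triangle.coyoneda_exact₁ _ hT (φ⟦(1 : ℤ)⟧') (by
    change φ⟦(1 : ℤ)⟧' ≫ a'⟦(1 : ℤ)⟧' = 0
    rw [← Functor.map_comp, hφ, Functor.map_zero])
  have h0 : φ⟦(1 : ℤ)⟧' = 0 := hg.trans (by rw [show g = 0 from hA g]; exact zero_comp)
  exact (shiftFunctor D (1 : ℤ)).map_injective (by rw [h0, Functor.map_zero])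

variable (X : ChainComplex D ℕ) (n : ℕ)

structure St (k : ℕ) where
  Y : D
  a : Y ⟶ X.X k
  P : ∀ (i : ℕ) (s : ℤ), i ≤ n → k + 2 < i → s = (i : ℤ) - (k : ℤ) - 2 →
    ∀ φ : (X.X i)⟦s⟧ ⟶ Y, φ = 0
  Q : k + 2 ≤ n → ∀ g : X.X (k + 2) ⟶ Y, g ≫ a = 0 → g = 0
  R : k + 1 ≤ n → ∃ b : X.X (k + 1) ⟶ Y, b ≫ a = X.d (k + 1) k

variable (hX' : ∀ i j : ℕ, j + 2 < i → i ≤ n → ∀ s : ℤ, s = (i : ℤ) - (j : ℤ) - 2 →
    ∀ φ : (X.X i)⟦s⟧ ⟶ X.X j, φ = 0)

include hX' in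
lemma step_exists (k : ℕ) (s : St X n k) :
    ∃ (t : St X n (k + 1)) (b : X.X (k + 1) ⟶ s.Y) (c : s.Y ⟶ t.Y⟦(1 : ℤ)⟧),
      k < n → (Triangle.mk t.a b c ∈ distTriang D ∧ b ≫ s.a = X.d (k + 1) k) := by
  by_cases hk : k < n
  · obtain ⟨b, hb⟩ := s.R hk
    obtain ⟨Y', a', c, hT⟩ := distinguished_cocone_triangle₁ b
    refine ⟨{ Y := Y', a := a', P := ?_, Q := ?_, R := ?_ }, b, c, fun _ => ⟨hT, hb⟩⟩
    · intro i t hi h3 ht φ
      refine eq_zero_of_tri a' b c hT (A := (X.X i)⟦t⟧) ?_ φ ?_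
      · intro ψ
        have h := s.P i (t + 1) hi (by omega) (by push_cast at ht; omega)
          ((shiftFunctorAdd' D t 1 (t + 1) rfl).hom.app (X.X i) ≫ ψ)
        exact (cancel_epi _).1 (h.trans comp_zero.symm)
      · exact hX' i (k + 1) (by omega) hi t ht (φ ≫ a')
    · intro h3 g hg
      refine eq_zero_of_tri a' b c hT (A := X.X (k + 1 + 2)) ?_ g hg
      intro ψ
      exact s.P (k + 1 + 2) 1 h3 (by omega) (by push_cast; ring) ψ
    · intro h2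
      have h0 : X.d (k + 1 + 1) (k + 1) ≫ b = 0 :=
        s.Q h2 (X.d (k + 1 + 1) (k + 1) ≫ b) (by rw [Category.assoc, hb, X.d_comp_d])
      obtain ⟨b', hb'⟩ := Triangle.coyoneda_exact₂ _ hT (X.d (k + 1 + 1) (k + 1)) h0
      exact ⟨b', hb'.symm⟩
  · refine ⟨{ Y := X.X (k + 1), a := 𝟙 _, P := ?_, Q := ?_, R := ?_ }, 0, 0,
      fun h => absurd h hk⟩
    · intro i t hi h3
      omega
    · intro h3
      omega
    · intro h3
      omega

end Helper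

open CategoryTheory.Pretriangulated in
/-- Let X be a chain complex in a triangulated category D and n a natural number; consider the finite
complex Xₙ → Xₙ₋₁ → … → X₀. If every morphism Xᵢ[i - j - 2] ⟶ Xⱼ with j + 2 < i ≤ n vanishes, then
there is a Postnikov system for it: objects Yₖ (k ≤ n), an isomorphism Y₀ ⟶ X₀, and for each k < n a
distinguished triangle Yₖ₊₁ ⟶ Xₖ₊₁ ⟶ Yₖ ⟶ Yₖ₊₁[1] such that Xₖ₊₁ ⟶ Yₖ ⟶ Xₖ is the differential of X. -/
theorem result {D : Type u} [Category.{v} D] [Preadditive D] [Limits.HasZeroObject D] [HasShift D ℤ]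
    [∀ n : ℤ, (shiftFunctor D n).Additive] [Pretriangulated D] [IsTriangulated D]
    (X : ChainComplex D ℕ) (n : ℕ)
    (hX : ∀ i j : ℕ, j + 2 < i → i ≤ n → ∀ φ : (shiftFunctor D ((i : ℤ) - j - 2)).obj (X.X i) ⟶ X.X j, φ = 0) :
    ∃ (Y : ℕ → D) (a : ∀ k, Y k ⟶ X.X k) (b : ∀ k, X.X (k + 1) ⟶ Y k) (c : ∀ k, Y k ⟶ (shiftFunctor D (1 : ℤ)).obj (Y (k + 1))),
      IsIso (a 0) ∧ ∀ k, k < n → Triangle.mk (a (k + 1)) (b k) (c k) ∈ distinguishedTriangles ∧ b k ≫ a k = X.d (k + 1) k := by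
  have hX' : ∀ i j : ℕ, j + 2 < i → i ≤ n → ∀ s : ℤ, s = (i : ℤ) - (j : ℤ) - 2 →
      ∀ φ : (shiftFunctor D s).obj (X.X i) ⟶ X.X j, φ = 0 := by
    intro i j hij hi s hs φ
    subst hs
    exact hX i j hij hi φ
  let base : St X n 0 :=
    { Y := X.X 0
      a := 𝟙 _
      P := fun i s hi h2 hs φ => hX' i 0 (by omega) hi s hs φ
      Q := fun _ g hg => by simpa using hg
      R := fun _ => ⟨X.d 1 0, by simp⟩ }
  let seq : ∀ k, St X n k := fun k =>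
    Nat.rec base (fun k s => (step_exists X n hX' k s).choose) k
  refine ⟨fun k => (seq k).Y, fun k => (seq k).a,
    fun k => (step_exists X n hX' k (seq k)).choose_spec.choose,
    fun k => (step_exists X n hX' k (seq k)).choose_spec.choose_spec.choose, ?_, ?_⟩
  · change IsIso (𝟙 (X.X 0))
    infer_instance
  · intro k hk
    exact (step_exists X n hX' k (seq k)).choose_spec.choose_spec.choose_spec hk

end Groth.Agent.S1051
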