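import Groth.Statements.S10531
import Groth.Agent.H25.AlgSp59
import Groth.Agent.H25.AlgSp43
open Groth.Agent.H25 Groth.Agent.H25.AS

set_option autoImplicit false
universe u
open CategoryTheory CategoryTheory.Limits AlgebraicGeometry
open AlgSp

namespace Groth.Agent.S10531

/-- The property of morphisms of algebraic spaces over S given by f is an open immersion (representable
by open immersions of schemes) is fpqc local on the base: for an fpqc covering of an algebraic space
Y by algebraic spaces Y_i, a morphism f : X ⟶ Y of algebraic spaces and cartesian squares X_i = Y_i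
×_Y X, f has the property if and only if every X_i ⟶ Y_i has it. -/
theorem result (S : Scheme.{u}) :
    AlgSp.IsLocalOnBase (AlgSp.IsFpqcCover (S := S)) (AlgSp.RepWith @IsOpenImmersion) := by
  intro ι Y Yi g hY hYi hcov X f hX Xi p q hXi sq
  constructor
  · intro hf i
    exact AS.repWith_snd_of_isPullback (sq i) hf
  · intro hp
    have hle : (@IsOpenImmersion : MorphismProperty Scheme.{u}) ≤ @UniversallyInjective :=
      fun _ _ g hg => by
        have : IsOpenImmersion g := hg
        exact (inferInstance : UniversallyInjective g)
    have het : AlgSp.IsEtaleMor f := by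
      rw [AS.isLocalOnBase_fpqc_isEtaleMor Yi g hY hYi hcov f hX Xi p q hXi sq]
      intro i
      rw [AS.isEtaleMor_iff_locP (hYi i)]
      exact AS.locP_of_repWith (fun g hg => hg) (AS.repWith_mono AS.le_etale_of_isOpenImmersion (hp i))
    have hinj : AlgSp.IsUnivInjectiveMor f := by
      rw [AlgSp.IsUnivInjectiveMor,
        AS.isLocalOnBase_fpqc_univSp AS.coindFam_injective Yi g hY hYi hcov f hX Xi p q hXi sq]
      intro i
      exact (AS.repWith_universallyInjective_iff (p i) (hp i).rep).1 (AS.repWith_mono hle (hp i))
    exact AS.repWith_isOpenImmersion_of_etale_univInjective hX hY f het hinj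


end Groth.Agent.S10531
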