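import Groth.Statements.S10573
import Groth.Agent.H25.AlgSp30

set_option autoImplicit false
universe u
open CategoryTheory CategoryTheory.Limits AlgebraicGeometry
open AlgSp

namespace Groth.Agent.S10573

/-- Let {g_i : T_i ⟶ T} be a family of algebraic spaces over S forming an fpqc covering, and let W_i ⊂
|T_i| be open subsets (open subspaces) such that for all i, j the two projections T_i ×_T T_j ⟶ T_i,
T_j pull W_i and W_j back to the same subset of |T_i ×_T T_j|. Then there is a unique open subset W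
⊂ |T| with g_i⁻¹(W) = W_i for every i. -/
theorem result {S : Scheme.{u}} {ι : Type u} {T : AlgSp.Space S}
    (Ti : ι → AlgSp.Space S) (g : ∀ i, Ti i ⟶ T)
    (hg : AlgSp.IsFpqcCover (fun i => (Ti i).obj) (fun i => (g i).hom))
    (Wi : ∀ i, Set (AlgSp.Points (Ti i).obj)) (hW : ∀ i, IsOpen (Wi i))
    (hc : ∀ i j, AlgSp.Points.map (pullback.fst (g i).hom (g j).hom) ⁻¹' Wi i =
      AlgSp.Points.map (pullback.snd (g i).hom (g j).hom) ⁻¹' Wi j) :
    ∃! W : TopologicalSpace.Opens (AlgSp.Points T.obj), ∀ i, AlgSp.Points.map (g i).hom ⁻¹' (W : Set (AlgSp.Points T.obj)) = Wi i := by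
  have href : Groth.Agent.H25.AS.FpqcRefine (fun i => (Ti i).obj) (fun i => (g i).hom) := hg.2
  let Wset : Set (AlgSp.Points T.obj) :=
    {x | ∃ i y, y ∈ Wi i ∧ AlgSp.Points.map (g i).hom y = x}
  have hpre : ∀ i, AlgSp.Points.map (g i).hom ⁻¹' Wset = Wi i := by
    intro i
    ext y
    constructor
    · rintro ⟨j, y', hy', e⟩
      obtain ⟨z, hz1, hz2⟩ := Groth.Agent.H25.AS.exists_of_isPullback
        (IsPullback.of_hasPullback (g i).hom (g j).hom) y y' e.symm
      have hz : z ∈ AlgSp.Points.map (pullback.snd (g i).hom (g j).hom) ⁻¹' Wi j := by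
        rw [Set.mem_preimage, hz2]
        exact hy'
      rw [← hc i j, Set.mem_preimage, hz1] at hz
      exact hz
    · intro hy
      exact ⟨i, y, hy, rfl⟩
  have hopen : IsOpen Wset := Groth.Agent.H25.AS.isOpen_of_fpqcRefine href Wset (fun i => by
    rw [hpre i]
    exact hW i)
  refine ⟨⟨Wset, hopen⟩, hpre, fun W' hW' => ?_⟩
  ext x
  obtain ⟨i, y, rfl⟩ := Groth.Agent.H25.AS.exists_of_fpqcRefine href x
  have h1 : y ∈ AlgSp.Points.map (g i).hom ⁻¹' (W' : Set (AlgSp.Points T.obj)) ↔
      y ∈ AlgSp.Points.map (g i).hom ⁻¹' Wset := by rw [hW' i, hpre i]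
  exact h1


end Groth.Agent.S10573
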