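import Groth.Statements.S10580
import Groth.Agent.H25.AlgSp56
open Groth.Agent.H25

set_option autoImplicit false
universe u
open CategoryTheory CategoryTheory.Limits AlgebraicGeometry
open AlgSp

namespace Groth.Agent.S10580

/-- Let P be a property of morphisms of schemes and P_spaces the induced property of morphisms of
algebraic spaces over S (P on every etale chart diagram). For τ one of fpqc, fppf, smooth, etale: if
P is τ local on the source for morphisms of schemes, then P_spaces is τ local on the source for
morphisms of algebraic spaces. (The published statement assumes P etale local on the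
source-and-target, which is what makes the chart-wise property the right notion; the implication
itself holds for every P and is stated that way. The syntomic case is not included. τ-locality on
the source for schemes is taken in the form that includes invariance of P under isomorphisms, which
the published definition requires implicitly.) -/
theorem result (S : Scheme.{u}) (P : MorphismProperty Scheme.{u}) :
    (P.IsLocalAtSource Scheme.fpqcPrecoverage → AlgSp.IsLocalOnSource (AlgSp.IsFpqcCover (S := S)) (AlgSp.LocP P)) ∧
    (P.IsLocalAtSource Scheme.fppfPrecoverage → AlgSp.IsLocalOnSource (AlgSp.IsFppfCover (S := S)) (AlgSp.LocP P)) ∧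
    (P.IsLocalAtSource (Scheme.precoverage @Smooth) → AlgSp.IsLocalOnSource (AlgSp.IsSmCover (S := S)) (AlgSp.LocP P)) ∧
    (P.IsLocalAtSource Scheme.etalePrecoverage → AlgSp.IsLocalOnSource (AlgSp.IsEtCover (S := S)) (AlgSp.LocP P)) := by
  refine ⟨fun hK => ?_, fun hK => ?_, fun hK => ?_, fun hK => ?_⟩
  · intro ι X Xi g hX hXi hcov Y f hY
    constructor
    · intro hf i
      exact AS.locP_comp_of_member (Q₀ := @Flat) (fun t k ht hk => AS.hA_fpqc hK t k ht hk)
        (AS.hB_fpqc hK) hX (g i) (hcov.1 i) f hf
    · exact AS.locP_of_fpqcCover hK Xi g hX hXi hcov f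
  · haveI : (@Flat ⊓ @LocallyOfFinitePresentation :
        MorphismProperty Scheme.{u}).ContainsIdentities :=
      ⟨fun X => ⟨inferInstance, inferInstance⟩⟩
    have key := AS.isLocalOnSource_locP_of_isLocalAtSource (S := S) (P := P)
      (Q₀ := @Flat ⊓ @LocallyOfFinitePresentation)
      (fun f hf => by have : Etale f := hf; exact ⟨inferInstance, inferInstance⟩) hK
    intro ι X Xi g hX hXi hcov Y f hY
    exact key Xi g hX hXi
      ⟨fun i U V a b h ha hb c => ⟨(hcov.1 i).1 a b h ha hb c, (hcov.1 i).2 a b h ha hb c⟩,
        hcov.2⟩ f hY
  · haveI : MorphismProperty.ContainsIdentities (@Smooth : MorphismProperty Scheme.{u}) :=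
      ⟨fun X => inferInstance⟩
    exact AS.isLocalOnSource_locP_of_isLocalAtSource (Q₀ := @Smooth)
      (fun f hf => by have : Etale f := hf; exact inferInstance) hK
  · haveI : MorphismProperty.ContainsIdentities (@Etale : MorphismProperty Scheme.{u}) :=
      ⟨fun X => inferInstance⟩
    have key := AS.isLocalOnSource_locP_of_isLocalAtSource (S := S) (P := P) (Q₀ := @Etale)
      (fun f hf => hf) hK
    intro ι X Xi g hX hXi hcov Y f hY
    exact key Xi g hX hXi ⟨fun i => AS.locP_of_isEtaleMor (fun _ h => h) (hcov.1 i), hcov.2⟩ f hY


end Groth.Agent.S10580
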