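import Groth.Statements.S10583
import Groth.Agent.H25.AlgSp48
open Groth.Agent.H25

set_option autoImplicit false
universe u
open CategoryTheory CategoryTheory.Limits AlgebraicGeometry
open AlgSp

namespace Groth.Agent.S10583

/-- Let i : X ⟶ X' be a thickening of algebraic spaces (representable, every base change to a scheme a
surjective closed immersion) and let u : U ⟶ X be an open immersion. Then there is an open immersion
u' : U' ⟶ X' with U = X ×_{X'} U' (a pullback square), and any two open subspaces of X' with this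
property are isomorphic over X'. -/
theorem result {S : Scheme.{u}} {X X' U : AlgSp.Space S} (i : X ⟶ X')
    (hi : AlgSp.IsThickMor i.hom)
    (u : U ⟶ X) (hu : AlgSp.RepWith @IsOpenImmersion u.hom) :
    (∃ (U' : AlgSp.Space S) (u' : U' ⟶ X') (k : U ⟶ U'),
      AlgSp.RepWith @IsOpenImmersion u'.hom ∧ IsPullback u.hom k.hom i.hom u'.hom) ∧
    (∀ (U₁ U₂ : AlgSp.Space S) (u₁ : U₁ ⟶ X') (u₂ : U₂ ⟶ X') (k₁ : U ⟶ U₁) (k₂ : U ⟶ U₂),
      AlgSp.RepWith @IsOpenImmersion u₁.hom → IsPullback u.hom k₁.hom i.hom u₁.hom →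
      AlgSp.RepWith @IsOpenImmersion u₂.hom → IsPullback u.hom k₂.hom i.hom u₂.hom →
      ∃ e : U₁ ≅ U₂, e.hom ≫ u₂ = u₁) := by
  have hinj := AS.thick_injective i.hom hi
  have hWopen : IsOpen (Set.range (AlgSp.Points.map u.hom)) :=
    AS.isOpen_range_of_isOpenImmersion U.property X.property u.hom hu
  have hW' : IsOpen (AlgSp.Points.map i.hom '' Set.range (AlgSp.Points.map u.hom)) :=
    AS.thick_isOpen_image i.hom hi hWopen
  -- a pullback square forces the image of the open subspace of `X'`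
  have key : ∀ (U₁ : AlgSp.Space S) (u₁ : U₁ ⟶ X') (k₁ : U ⟶ U₁),
      IsPullback u.hom k₁.hom i.hom u₁.hom →
      Set.range (AlgSp.Points.map u₁.hom) =
        AlgSp.Points.map i.hom '' Set.range (AlgSp.Points.map u.hom) := by
    intro U₁ u₁ k₁ sq
    rw [AS.range_fst_of_isPullback sq, Set.image_preimage_eq _ (AS.thick_surjective i.hom hi)]
  constructor
  · let U' : AlgSp.Sp S := AS.openSp X'.obj (AlgSp.Points.map i.hom '' Set.range (AlgSp.Points.map u.hom))
    have hU' : AlgSp.IsAlgSpace U' := AS.isAlgSpace_openSp X'.property hW'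
    have hu' := AS.repWith_isOpenImmersion_openSpι (X := X'.obj) hW'
    have hr' := AS.range_map_openSpι (X := X'.obj) hW'
    obtain ⟨k, hk⟩ := AS.exists_factor_of_range_subset _ hu' (u.hom ≫ i.hom) (by
      rw [hr']
      rintro _ ⟨t, rfl⟩
      exact ⟨AlgSp.Points.map u.hom t, ⟨t, rfl⟩, (AlgSp.Points.map_comp _ _ t).symm⟩)
    refine ⟨⟨U', hU'⟩, ObjectProperty.homMk (AS.openSpι X'.obj _), ObjectProperty.homMk k, hu', ?_⟩
    refine AS.isPullback_of_open_of_range u.hom i.hom _ k hu hu' hk.symm ?_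
    change AlgSp.Points.map i.hom ⁻¹' Set.range (AlgSp.Points.map (AS.openSpι X'.obj _)) ⊆ _
    rw [hr']
    rintro x ⟨y, hy, hxy⟩
    rwa [← hinj hxy]
  · intro U₁ U₂ u₁ u₂ k₁ k₂ h₁ sq₁ h₂ sq₂
    obtain ⟨e, he⟩ := AS.exists_iso_of_range_eq u₁.hom u₂.hom h₁ h₂
      ((key U₁ u₁ k₁ sq₁).trans (key U₂ u₂ k₂ sq₂).symm)
    refine ⟨⟨ObjectProperty.homMk e.hom, ObjectProperty.homMk e.inv, ?_, ?_⟩, ?_⟩
    · ext1; exact e.hom_inv_id
    · ext1; exact e.inv_hom_id
    · ext1; exact he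

end Groth.Agent.S10583
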