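import Groth.Statements.S10587
import Groth.Agent.H25.AlgSp49
open Groth.Agent.H25

set_option autoImplicit false
universe u
open CategoryTheory CategoryTheory.Limits AlgebraicGeometry
open AlgSp

namespace Groth.Agent.S10587

/-- Consider a morphism (f, f') from the thickening X ⊂ X' to the thickening Y ⊂ Y' of algebraic spaces
over S, meaning: i : X ⟶ X' and j : Y ⟶ Y' are thickenings (representable, every base change to a
scheme a surjective closed immersion) and i ≫ f' = f ≫ j. Then f is surjective, resp. quasi-compact,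
universally closed, universally injective, universally open, if and only if f' is. -/
theorem result {S : Scheme.{u}} {X X' Y Y' : AlgSp.Space S} (i : X ⟶ X') (j : Y ⟶ Y')
    (f : X ⟶ Y) (f' : X' ⟶ Y')
    (hi : AlgSp.IsThickMor i.hom)
    (hj : AlgSp.IsThickMor j.hom) (w : i ≫ f' = f ≫ j) :
    (AlgSp.IsSurjectiveMor f.hom ↔ AlgSp.IsSurjectiveMor f'.hom) ∧
    (AlgSp.IsQuasiCompactMor f.hom ↔ AlgSp.IsQuasiCompactMor f'.hom) ∧
    (AlgSp.IsUnivClosedMor f.hom ↔ AlgSp.IsUnivClosedMor f'.hom) ∧
    (AlgSp.IsUnivInjectiveMor f.hom ↔ AlgSp.IsUnivInjectiveMor f'.hom) ∧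
    (AlgSp.IsUnivOpenMor f.hom ↔ AlgSp.IsUnivOpenMor f'.hom) := by
  have w' : i.hom ≫ f'.hom = f.hom ≫ j.hom := congrArg (·.hom) w
  refine ⟨AS.isSurjectiveMor_iff_of_thick i.hom j.hom f.hom f'.hom hi hj w',
    ⟨AS.isQuasiCompactMor_to_thick X.property X'.property Y.property Y'.property i.hom j.hom
        f.hom f'.hom hi hj w',
      AS.isQuasiCompactMor_of_thick X.property X'.property Y.property Y'.property i.hom j.hom
        f.hom f'.hom hi hj w'⟩,
    ⟨AS.univSp_to_thick AS.homeoInv_isClosedMap Y.property Y'.property i.hom j.hom f.hom f'.hom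
        hi hj w',
      AS.univSp_of_thick AS.homeoInv_isClosedMap i.hom j.hom f.hom f'.hom hi hj w'⟩,
    ⟨AS.univSp_to_thick AS.homeoInv_injective Y.property Y'.property i.hom j.hom f.hom f'.hom
        hi hj w',
      AS.univSp_of_thick AS.homeoInv_injective i.hom j.hom f.hom f'.hom hi hj w'⟩,
    ⟨AS.univSp_to_thick AS.homeoInv_isOpenMap Y.property Y'.property i.hom j.hom f.hom f'.hom
        hi hj w',
      AS.univSp_of_thick AS.homeoInv_isOpenMap i.hom j.hom f.hom f'.hom hi hj w'⟩⟩

end Groth.Agent.S10587
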