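import Groth.Statements.S10618
import Mathlib

set_option autoImplicit false
universe u
open CategoryTheory CategoryTheory.Limits AlgebraicGeometry
open AlgSp

namespace Groth.Agent.S10618

theorem hasUniqLift_iff {S : Scheme.{u}} {F G : AlgSp.Sp S} {f : F ⟶ G} (sq : AlgSp.InfSq f) :
    sq.HasUniqLift ↔ sq.HasLift ∧ sq.HasUniq := by
  constructor
  · rintro ⟨l, ⟨h1, h2⟩, huniq⟩
    refine ⟨⟨l, h1, h2⟩, ?_⟩
    intro l1 l2 a1 a2 b1 b2
    rw [huniq l1 ⟨a1, a2⟩, huniq l2 ⟨b1, b2⟩]
  · rintro ⟨⟨l, h1, h2⟩, huniq⟩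
    exact ⟨l, ⟨h1, h2⟩, fun l' ⟨h1', h2'⟩ => huniq l' l h1' h2' h1 h2⟩

theorem etale_iff {S : Scheme.{u}} {F G : AlgSp.Sp S} (f : F ⟶ G) :
    AlgSp.IsFormallyEtaleMor f ↔ AlgSp.IsFormallySmoothMor f ∧ AlgSp.IsFormallyUnramifiedMor f := by
  constructor
  · intro h
    exact ⟨fun sq => ((hasUniqLift_iff sq).mp (h sq)).1, fun sq => ((hasUniqLift_iff sq).mp (h sq)).2⟩
  · rintro ⟨h1, h2⟩ sq
    exact (hasUniqLift_iff sq).mpr ⟨h1 sq, h2 sq⟩


/-- Let a : F ⟶ G and b : G ⟶ H be morphisms of fppf sheaves on (Sch/S) with b formally unramified. If a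
≫ b is formally unramified, resp. formally etale, resp. formally smooth, then so is a. (The
published statement is for transformations of arbitrary presheaves of sets on (Sch/S)_fppf; this row
takes fppf sheaves, the case of algebraic spaces.) -/
theorem result {S : Scheme.{u}} {F G H : AlgSp.Sp S} (a : F ⟶ G) (b : G ⟶ H)
    (hb : AlgSp.IsFormallyUnramifiedMor b) :
    (AlgSp.IsFormallyUnramifiedMor (a ≫ b) → AlgSp.IsFormallyUnramifiedMor a) ∧
    (AlgSp.IsFormallyEtaleMor (a ≫ b) → AlgSp.IsFormallyEtaleMor a) ∧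
    (AlgSp.IsFormallySmoothMor (a ≫ b) → AlgSp.IsFormallySmoothMor a) := by
  have unram : AlgSp.IsFormallyUnramifiedMor (a ≫ b) → AlgSp.IsFormallyUnramifiedMor a := by
    intro hab sq l l' h1 h2 h1' h2'
    let sq' : AlgSp.InfSq (a ≫ b) :=
      { A := sq.A, commRing := sq.commRing, I := sq.I, sq_zero := sq.sq_zero, str := sq.str,
        top := sq.top, bot := sq.bot ≫ b,
        comm := by rw [← Category.assoc, sq.comm, Category.assoc] }
    apply hab sq' l l' h1 _ h1' _
    · rw [← Category.assoc, h2]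
    · rw [← Category.assoc, h2']
  have smooth : AlgSp.IsFormallySmoothMor (a ≫ b) → AlgSp.IsFormallySmoothMor a := by
    intro hab sq
    let sq' : AlgSp.InfSq (a ≫ b) :=
      { A := sq.A, commRing := sq.commRing, I := sq.I, sq_zero := sq.sq_zero, str := sq.str,
        top := sq.top, bot := sq.bot ≫ b,
        comm := by rw [← Category.assoc, sq.comm, Category.assoc] }
    obtain ⟨l, hl1, hl2⟩ := hab sq'
    refine ⟨l, hl1, ?_⟩
    let sqb : AlgSp.InfSq b :=
      { A := sq.A, commRing := sq.commRing, I := sq.I, sq_zero := sq.sq_zero, str := sq.str,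
        top := sq.top ≫ a, bot := sq.bot ≫ b,
        comm := by rw [sq.comm, Category.assoc] }
    apply hb sqb (l ≫ a) sq.bot
    · rw [← Category.assoc, hl1]
    · rw [Category.assoc]; exact hl2
    · exact sq.comm.symm
    · rfl
  refine ⟨unram, ?_, smooth⟩
  intro hab
  rw [etale_iff] at hab ⊢
  exact ⟨smooth hab.1, unram hab.2⟩

end Groth.Agent.S10618
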