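import Groth.Statements.S10619
import Mathlib

set_option autoImplicit false
universe u
open CategoryTheory CategoryTheory.Limits AlgebraicGeometry
open AlgSp

namespace Groth.Agent.S10619

theorem hasUniqLift_iff {S : Scheme.{u}} {F G : AlgSp.Sp S} {f : F ⟶ G} (sq : AlgSp.InfSq f) :
    sq.HasUniqLift ↔ sq.HasLift ∧ sq.HasUniq := by
  constructor
  · rintro ⟨l, ⟨h1, h2⟩, huniq⟩
    refine ⟨⟨l, h1, h2⟩, ?_⟩
    intro l1 l2 a1 a2 b1 b2
    rw [huniq l1 ⟨a1, a2⟩, huniq l2 ⟨b1, b2⟩]
  · rintro ⟨⟨l, h1, h2⟩, huniq⟩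
    exact ⟨l, ⟨h1, h2⟩, fun l' ⟨h1', h2'⟩ => huniq l' l h1' h2' h1 h2⟩

theorem etale_iff {S : Scheme.{u}} {F G : AlgSp.Sp S} (f : F ⟶ G) :
    AlgSp.IsFormallyEtaleMor f ↔ AlgSp.IsFormallySmoothMor f ∧ AlgSp.IsFormallyUnramifiedMor f := by
  constructor
  · intro h
    exact ⟨fun sq => ((hasUniqLift_iff sq).mp (h sq)).1, fun sq => ((hasUniqLift_iff sq).mp (h sq)).2⟩
  · rintro ⟨h1, h2⟩ sq
    exact (hasUniqLift_iff sq).mpr ⟨h1 sq, h2 sq⟩


/-- A composition of formally smooth, resp. formally etale, resp. formally unramified morphisms of fppf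
sheaves on (Sch/S) is again formally smooth, resp. formally etale, resp. formally unramified. (The
published statement is for transformations of arbitrary presheaves of sets on (Sch/S)_fppf; this row
takes fppf sheaves, the case of algebraic spaces.) -/
theorem result {S : Scheme.{u}} {F G H : AlgSp.Sp S} (a : F ⟶ G) (b : G ⟶ H) :
    (AlgSp.IsFormallySmoothMor a → AlgSp.IsFormallySmoothMor b → AlgSp.IsFormallySmoothMor (a ≫ b)) ∧
    (AlgSp.IsFormallyEtaleMor a → AlgSp.IsFormallyEtaleMor b → AlgSp.IsFormallyEtaleMor (a ≫ b)) ∧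
    (AlgSp.IsFormallyUnramifiedMor a → AlgSp.IsFormallyUnramifiedMor b → AlgSp.IsFormallyUnramifiedMor (a ≫ b)) := by
  have smooth : AlgSp.IsFormallySmoothMor a → AlgSp.IsFormallySmoothMor b →
      AlgSp.IsFormallySmoothMor (a ≫ b) := by
    intro ha hb sq
    let sqb : AlgSp.InfSq b :=
      { A := sq.A, commRing := sq.commRing, I := sq.I, sq_zero := sq.sq_zero, str := sq.str,
        top := sq.top ≫ a, bot := sq.bot,
        comm := by rw [Category.assoc]; exact sq.comm }
    obtain ⟨lb, hlb1, hlb2⟩ := hb sqb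
    let sqa : AlgSp.InfSq a :=
      { A := sq.A, commRing := sq.commRing, I := sq.I, sq_zero := sq.sq_zero, str := sq.str,
        top := sq.top, bot := lb, comm := hlb1.symm }
    obtain ⟨l, hl1, hl2⟩ := ha sqa
    exact ⟨l, hl1, by rw [← Category.assoc, hl2]; exact hlb2⟩
  have unram : AlgSp.IsFormallyUnramifiedMor a → AlgSp.IsFormallyUnramifiedMor b →
      AlgSp.IsFormallyUnramifiedMor (a ≫ b) := by
    intro ha hb sq l l' h1 h2 h1' h2'
    let sqb : AlgSp.InfSq b :=
      { A := sq.A, commRing := sq.commRing, I := sq.I, sq_zero := sq.sq_zero, str := sq.str,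
        top := sq.top ≫ a, bot := sq.bot,
        comm := by rw [Category.assoc]; exact sq.comm }
    have e1 : l ≫ a = l' ≫ a := by
      apply hb sqb (l ≫ a) (l' ≫ a)
      · rw [← Category.assoc, h1]
      · rw [Category.assoc]; exact h2
      · rw [← Category.assoc, h1']
      · rw [Category.assoc]; exact h2'
    let sqa : AlgSp.InfSq a :=
      { A := sq.A, commRing := sq.commRing, I := sq.I, sq_zero := sq.sq_zero, str := sq.str,
        top := sq.top, bot := l ≫ a,
        comm := by rw [← Category.assoc, h1] }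
    exact ha sqa l l' h1 rfl h1' e1.symm
  refine ⟨smooth, ?_, unram⟩
  intro ha hb
  rw [etale_iff] at ha hb ⊢
  exact ⟨smooth ha.1 hb.1, unram ha.2 hb.2⟩

end Groth.Agent.S10619
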