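import Groth.Statements.S10620
import Mathlib

set_option autoImplicit false
universe u
open CategoryTheory CategoryTheory.Limits AlgebraicGeometry
open AlgSp

namespace Groth.Agent.S10620

theorem hasUniqLift_iff {S : Scheme.{u}} {F G : AlgSp.Sp S} {f : F ⟶ G} (sq : AlgSp.InfSq f) :
    sq.HasUniqLift ↔ sq.HasLift ∧ sq.HasUniq := by
  constructor
  · rintro ⟨l, ⟨h1, h2⟩, huniq⟩
    refine ⟨⟨l, h1, h2⟩, ?_⟩
    intro l1 l2 a1 a2 b1 b2
    rw [huniq l1 ⟨a1, a2⟩, huniq l2 ⟨b1, b2⟩]
  · rintro ⟨⟨l, h1, h2⟩, huniq⟩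
    exact ⟨l, ⟨h1, h2⟩, fun l' ⟨h1', h2'⟩ => huniq l' l h1' h2' h1 h2⟩

theorem etale_iff {S : Scheme.{u}} {F G : AlgSp.Sp S} (f : F ⟶ G) :
    AlgSp.IsFormallyEtaleMor f ↔ AlgSp.IsFormallySmoothMor f ∧ AlgSp.IsFormallyUnramifiedMor f := by
  constructor
  · intro h
    exact ⟨fun sq => ((hasUniqLift_iff sq).mp (h sq)).1, fun sq => ((hasUniqLift_iff sq).mp (h sq)).2⟩
  · rintro ⟨h1, h2⟩ sq
    exact (hasUniqLift_iff sq).mpr ⟨h1 sq, h2 sq⟩


/-- Let a : F ⟶ G and b : H ⟶ G be morphisms of fppf sheaves on (Sch/S) and let a' : P ⟶ H be the base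
change of a along b (any pullback square). If a is formally smooth, resp. formally etale, resp.
formally unramified, then so is a'. (The published statement is for transformations of arbitrary
presheaves of sets on (Sch/S)_fppf; this row takes fppf sheaves, the case of algebraic spaces.) -/
theorem result {S : Scheme.{u}} {F G H P : AlgSp.Sp S} (a : F ⟶ G) (b : H ⟶ G)
    (b' : P ⟶ F) (a' : P ⟶ H) (hP : IsPullback b' a' a b) :
    (AlgSp.IsFormallySmoothMor a → AlgSp.IsFormallySmoothMor a') ∧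
    (AlgSp.IsFormallyEtaleMor a → AlgSp.IsFormallyEtaleMor a') ∧
    (AlgSp.IsFormallyUnramifiedMor a → AlgSp.IsFormallyUnramifiedMor a') := by
  have smooth : AlgSp.IsFormallySmoothMor a → AlgSp.IsFormallySmoothMor a' := by
    intro ha sq
    let sqa : AlgSp.InfSq a :=
      { A := sq.A, commRing := sq.commRing, I := sq.I, sq_zero := sq.sq_zero, str := sq.str,
        top := sq.top ≫ b', bot := sq.bot ≫ b,
        comm := by rw [Category.assoc, hP.w, ← Category.assoc, sq.comm, Category.assoc] }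
    obtain ⟨lF, h1, h2⟩ := ha sqa
    refine ⟨hP.lift lF sq.bot h2, ?_, hP.lift_snd _ _ _⟩
    apply hP.hom_ext
    · rw [Category.assoc, hP.lift_fst]; exact h1
    · rw [Category.assoc, hP.lift_snd]; exact sq.comm.symm
  have unram : AlgSp.IsFormallyUnramifiedMor a → AlgSp.IsFormallyUnramifiedMor a' := by
    intro ha sq l l' h1 h2 h1' h2'
    let sqa : AlgSp.InfSq a :=
      { A := sq.A, commRing := sq.commRing, I := sq.I, sq_zero := sq.sq_zero, str := sq.str,
        top := sq.top ≫ b', bot := sq.bot ≫ b,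
        comm := by rw [Category.assoc, hP.w, ← Category.assoc, sq.comm, Category.assoc] }
    apply hP.hom_ext
    · apply ha sqa (l ≫ b') (l' ≫ b')
      · rw [← Category.assoc, h1]
      · rw [Category.assoc, hP.w, ← Category.assoc, h2]
      · rw [← Category.assoc, h1']
      · rw [Category.assoc, hP.w, ← Category.assoc, h2']
    · rw [h2, h2']
  refine ⟨smooth, ?_, unram⟩
  intro ha
  rw [etale_iff] at ha ⊢
  exact ⟨smooth ha.1, unram ha.2⟩

end Groth.Agent.S10620
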