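import Groth.Statements.S1072
import Groth.Agent.Lib.Helper22.LocAb

set_option autoImplicit false
universe v v' u u'
open CategoryTheory CategoryTheory.Limits
open CohDer

namespace Groth.Agent.S1072

/-- Let A be an abelian category, W a class of morphisms admitting both left and right calculus of
fractions, and L : A ⥤ D a localization functor for W. Then D admits the structure of an abelian
category and L is exact (preserves finite limits and finite colimits). -/
theorem result {A : Type u} [Category.{v} A] [Abelian A]
    (W : MorphismProperty A) [W.HasLeftCalculusOfFractions] [W.HasRightCalculusOfFractions]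
    {D : Type u'} [Category.{v'} D] (L : A ⥤ D) [L.IsLocalization W] :
    Nonempty (Abelian D) ∧ PreservesFiniteLimits L ∧ PreservesFiniteColimits L := by
  letI : Preadditive D := Localization.preadditive L W
  haveI : L.Additive := Localization.functor_additive L W
  haveI hk : ∀ {X Y : A} (f : X ⟶ Y), PreservesLimit (parallelPair f 0) L :=
    fun f => Groth.Agent.Helper22.LocAb.preservesKernel W L f
  haveI hc : ∀ {X Y : A} (f : X ⟶ Y), PreservesColimit (parallelPair f 0) L :=
    fun f => Groth.Agent.Helper22.LocAb.preservesCokernel W L f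
  haveI : HasZeroObject D := L.hasZeroObject_of_additive
  have hlim : PreservesFiniteLimits L := Functor.preservesFiniteLimits_of_preservesKernels L
  have hcolim : PreservesFiniteColimits L := Functor.preservesFiniteColimits_of_preservesCokernels L
  refine ⟨?_, hlim, hcolim⟩
  haveI := hlim
  haveI := hcolim
  have := Localization.essSurj L W
  have := Localization.essSurj_mapArrow L W
  haveI : HasBinaryProducts D := by
    haveI : ∀ P Q : D, HasLimit (pair P Q) := by
      intro P Q
      let eP := L.objObjPreimageIso P
      let eQ := L.objObjPreimageIso Q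
      haveI : HasLimit (pair (L.objPreimage P) (L.objPreimage Q) ⋙ L) :=
        HasLimit.mk ⟨_, isLimitOfPreserves L
          (limit.isLimit (pair (L.objPreimage P) (L.objPreimage Q)))⟩
      have i1 : pair (L.objPreimage P) (L.objPreimage Q) ⋙ L ≅
          pair (L.obj (L.objPreimage P)) (L.obj (L.objPreimage Q)) :=
        diagramIsoPair (pair (L.objPreimage P) (L.objPreimage Q) ⋙ L)
      have i2 : pair (L.obj (L.objPreimage P)) (L.obj (L.objPreimage Q)) ≅ pair P Q :=
        mapPairIso eP eQ
      exact hasLimit_of_iso (i1 ≪≫ i2)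
    exact hasBinaryProducts_of_hasLimit_pair D
  haveI : HasTerminal D := HasZeroObject.hasTerminal
  haveI : HasFiniteProducts D := hasFiniteProducts_of_has_binary_and_terminal
  haveI : HasKernels D := ⟨fun {P Q} φ => by
    let g := L.mapArrow.objPreimage (Arrow.mk φ)
    let e : L.mapArrow.obj g ≅ Arrow.mk φ := L.mapArrow.objObjPreimageIso (Arrow.mk φ)
    let eL : L.obj g.left ≅ P := Arrow.leftFunc.mapIso e
    let eR : L.obj g.right ≅ Q := Arrow.rightFunc.mapIso e
    have hw : eL.inv ≫ L.map g.hom ≫ eR.hom = φ := by
      rw [Iso.inv_comp_eq]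
      exact (Arrow.w e.hom).symm
    haveI : HasKernel (L.map g.hom) :=
      HasLimit.mk ⟨_, isLimitForkMapOfIsLimit' L (kernel.condition g.hom) (kernelIsKernel g.hom)⟩
    rw [← hw]
    haveI : HasKernel (L.map g.hom ≫ eR.hom) := hasKernel_comp_mono _ _
    exact hasKernel_iso_comp _ _⟩
  haveI : HasCokernels D := ⟨fun {P Q} φ => by
    let g := L.mapArrow.objPreimage (Arrow.mk φ)
    let e : L.mapArrow.obj g ≅ Arrow.mk φ := L.mapArrow.objObjPreimageIso (Arrow.mk φ)
    let eL : L.obj g.left ≅ P := Arrow.leftFunc.mapIso e
    let eR : L.obj g.right ≅ Q := Arrow.rightFunc.mapIso e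
    have hw : eL.inv ≫ L.map g.hom ≫ eR.hom = φ := by
      rw [Iso.inv_comp_eq]
      exact (Arrow.w e.hom).symm
    haveI : HasCokernel (L.map g.hom) :=
      HasColimit.mk ⟨_, isColimitCoforkMapOfIsColimit' L (cokernel.condition g.hom)
        (cokernelIsCokernel g.hom)⟩
    rw [← hw]
    haveI : HasCokernel (L.map g.hom ≫ eR.hom) := hasCokernel_comp_iso _ _
    exact hasCokernel_epi_comp _ _⟩
  haveI : ∀ {P Q : D} (φ : P ⟶ Q), IsIso (Abelian.coimageImageComparison φ) := by
    intro P Q φ
    let g := L.mapArrow.objPreimage (Arrow.mk φ)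
    let e : Arrow.mk (L.map g.hom) ≅ Arrow.mk φ := L.mapArrow.objObjPreimageIso (Arrow.mk φ)
    let iso : Arrow.mk (L.map (Abelian.coimageImageComparison g.hom)) ≅
        Arrow.mk (Abelian.coimageImageComparison φ) :=
      Abelian.PreservesCoimageImageComparison.iso L g.hom ≪≫
        Abelian.coimageImageComparisonFunctor.mapIso e
    rw [Arrow.isIso_iff_isIso_of_isIso iso.inv]
    infer_instance
  exact ⟨Abelian.ofCoimageImageComparisonIsIso⟩

end Groth.Agent.S1072
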