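import Groth.Statements.S10721
import Mathlib
import Groth.Agent.Lib.Lead.Glue
-- import your own Groth.Agent.* helpers here

set_option autoImplicit false
universe u
open TensorProduct
open EtAlg

namespace Groth.Agent.S10721


open Groth.Agent.Lead.Glue

/-- Glueing along a glueing pair detects closed immersions of affine schemes, stated for coordinate
rings. Let `(R → R', f)` be a glueing pair and `φ : A → B` a homomorphism of `R`-algebras with `A`,
`B` glueable as `R`-modules (so `Spec A`, `Spec B` are affine and glueable over `Spec R`). Then `φ`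
is surjective (a closed immersion on spectra) if and only if `A_f → B_f` and `R' ⊗_R A → R' ⊗_R B`
are surjective. -/
theorem result (R : Type u) [CommRing R] (R' : Type u) [CommRing R'] [Algebra R R'] (f : R)
    (hRR' : EtGlue.IsGlueingPair R R' f) (A B : Type u) [CommRing A] [Algebra R A] [CommRing B] [Algebra R B]
    (hA : EtGlue.IsGlueable R R' f A) (hB : EtGlue.IsGlueable R R' f B) (φ : A →ₐ[R] B) :
    Function.Surjective φ ↔
      Function.Surjective (Localization.awayMap φ.toRingHom (algebraMap R A f)) ∧ Function.Surjective (Algebra.TensorProduct.map (AlgHom.id R R') φ).toRingHom := by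
  have hq := hRR'.1
  constructor
  · intro hφ
    constructor
    · rw [Localization.awayMap_surjective_iff]
      intro b
      obtain ⟨a, rfl⟩ := hφ b
      exact ⟨a, 0, by simp⟩
    · intro x
      induction x using TensorProduct.induction_on with
      | zero => exact ⟨0, map_zero _⟩
      | tmul r' b =>
        obtain ⟨a, rfl⟩ := hφ b
        exact ⟨r' ⊗ₜ[R] a, by simp⟩
      | add x y hx hy =>
        obtain ⟨x₁, rfl⟩ := hx
        obtain ⟨y₁, rfl⟩ := hy
        exact ⟨x₁ + y₁, map_add _ _ _⟩
  · rintro ⟨h1, h2⟩
    rw [Localization.awayMap_surjective_iff] at h1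
    let N : Submodule R B := LinearMap.range φ.toLinearMap
    have htors : ∀ p : B ⧸ N, ∃ k, f ^ k • p = 0 := by
      intro p
      obtain ⟨b, rfl⟩ := N.mkQ_surjective p
      obtain ⟨a, m, e⟩ := h1 b
      refine ⟨m, ?_⟩
      rw [← map_smul, Submodule.mkQ_apply, Submodule.Quotient.mk_eq_zero]
      refine ⟨a, ?_⟩
      show φ a = f ^ m • b
      rw [Algebra.smul_def, map_pow]
      have := e
      simp only [AlgHom.toRingHom_eq_coe, RingHom.coe_coe, AlgHom.commutes] at this
      exact this
    have hc : ∀ z : R' ⊗[R] A, LinearMap.lTensor R' N.mkQ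
        ((Algebra.TensorProduct.map (AlgHom.id R R') φ).toRingHom z) = 0 := by
      intro z
      induction z using TensorProduct.induction_on with
      | zero => simp
      | tmul r' a =>
        show LinearMap.lTensor R' N.mkQ (r' ⊗ₜ[R] φ a) = 0
        have h0 : N.mkQ (φ a) = 0 := by
          rw [Submodule.mkQ_apply, Submodule.Quotient.mk_eq_zero]
          exact ⟨a, rfl⟩
        rw [LinearMap.lTensor_tmul, h0, TensorProduct.tmul_zero]
      | add x y hx hy => rw [map_add, map_add, hx, hy, add_zero]
    have hi : ∀ p : B ⧸ N, (1 : R') ⊗ₜ[R] p = 0 := by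
      intro p
      obtain ⟨b, rfl⟩ := N.mkQ_surjective p
      obtain ⟨z, hz⟩ := h2 ((1 : R') ⊗ₜ[R] b)
      have h3 := hc z
      rwa [hz, LinearMap.lTensor_tmul] at h3
    intro b
    have h4 : N.mkQ b = 0 := eq_zero_of_tmul_eq_zero hq htors _ (hi _)
    rw [Submodule.mkQ_apply, Submodule.Quotient.mk_eq_zero] at h4
    obtain ⟨a, ha⟩ := h4
    exact ⟨a, ha⟩

end Groth.Agent.S10721
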