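import Groth.Statements.S10727
import Mathlib
import Groth.Agent.Lib.Lead.Glue5
-- import your own Groth.Agent.* helpers here

set_option autoImplicit false
universe u
open TensorProduct
open EtAlg

namespace Groth.Agent.S10727


open Groth.Agent.Lead.Glue

/-- Glueing affine schemes along a glueing pair, stated for their coordinate rings. Let `(R → R', f)` be
a glueing pair, `A₁` an `R`-algebra in which `f` is invertible, `A'` an `R'`-algebra and `φ : A'_f ≅
R' ⊗_R A₁` an isomorphism of `R'`-algebras. Then there is an `R`-algebra `A`, glueable as an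
`R`-module, with isomorphisms `A_f ≅ A₁` of `R`-algebras and `R' ⊗_R A ≅ A'` of `R'`-algebras under
which `φ` is the canonical identification `(R' ⊗_R A)_f = R' ⊗_R A_f`. (The published statement is
that base change is an equivalence between affine schemes over `Spec R` that are glueable and
triples of affine schemes over `Spec R_f`, `Spec R'_f`, `Spec R'` with cartesian squares; this row
states only that every such triple arises, on coordinate rings.) -/
theorem result (R : Type u) [CommRing R] (R' : Type u) [CommRing R'] [Algebra R R']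
    (f : R) (hRR' : EtGlue.IsGlueingPair R R' f) (A₁ : Type u) [CommRing A₁] [Algebra R A₁]
    (h₁ : IsUnit (algebraMap R A₁ f)) (A' : Type u) [CommRing A'] [Algebra R A'] [Algebra R' A']
    [IsScalarTower R R' A'] (φ : Localization.Away (algebraMap R A' f) ≃ₐ[R'] R' ⊗[R] A₁) :
    ∃ (A : Type u) (_ : CommRing A) (_ : Algebra R A) (_ : EtGlue.IsGlueable R R' f A)
      (e₁ : Localization.Away (algebraMap R A f) ≃ₐ[R] A₁) (e' : R' ⊗[R] A ≃ₐ[R'] A'),
      ∀ a : A, φ (algebraMap A' (Localization.Away (algebraMap R A' f)) (e' ((1 : R') ⊗ₜ[R] a))) =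
        (1 : R') ⊗ₜ[R] e₁ (algebraMap A (Localization.Away (algebraMap R A f)) a) := by
  classical
  -- the localization map composed with φ
  let a' : A' →ₐ[R'] R' ⊗[R] A₁ :=
    φ.toAlgHom.comp (IsScalarTower.toAlgHom R' A' (Localization.Away (algebraMap R A' f)))
  have ha' : ∀ x : A', a' x =
      φ (algebraMap A' (Localization.Away (algebraMap R A' f)) x) := fun x => rfl
  let ϕ₁ : (A' × A₁) →ₐ[R] R' ⊗[R] A₁ := (a'.restrictScalars R).comp (AlgHom.fst R A' A₁)
  let ϕ₂ : (A' × A₁) →ₐ[R] R' ⊗[R] A₁ :=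
    (Algebra.TensorProduct.includeRight : A₁ →ₐ[R] R' ⊗[R] A₁).comp (AlgHom.snd R A' A₁)
  let E : Subalgebra R (A' × A₁) := AlgHom.equalizer ϕ₁ ϕ₂
  have hE : ∀ p : A' × A₁, p ∈ E ↔ a' p.1 = (1 : R') ⊗ₜ[R] p.2 := fun p => Iff.rfl
  let pr₁ : E →ₐ[R] A' := (AlgHom.fst R A' A₁).comp E.val
  let pr₂ : E →ₐ[R] A₁ := (AlgHom.snd R A' A₁).comp E.val
  -- hypotheses of the abstract lemma
  have hf : Function.Bijective fun x : A₁ => f • x := by
    have := IsUnit.isUnit_iff_mulLeft_bijective.mp h₁
    convert this using 2 with x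
    rw [Algebra.smul_def]
  have hf' : algebraMap A' (Localization.Away (algebraMap R A' f)) (algebraMap R A' f) =
      algebraMap R' (Localization.Away (algebraMap R A' f)) (algebraMap R R' f) := by
    rw [IsScalarTower.algebraMap_apply R R' A', ← IsScalarTower.algebraMap_apply R' A']
  have hs : ∀ ξ : R' ⊗[R] A₁, ∃ (n : ℕ) (x : A'),
      a'.toLinearMap x = (algebraMap R R' f) ^ n • ξ := by
    intro ξ
    obtain ⟨n, x, hx⟩ := IsLocalization.Away.surj (algebraMap R A' f) (φ.symm ξ)
    refine ⟨n, x, ?_⟩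
    show a' x = _
    rw [ha', ← hx, map_mul, φ.apply_symm_apply, map_pow, hf', φ.commutes, Algebra.smul_def,
      map_pow, mul_comm]
  have hk : ∀ x : A', a'.toLinearMap x = 0 → ∃ n : ℕ, (algebraMap R R' f) ^ n • x = 0 := by
    intro x hx
    have hx' : φ (algebraMap A' (Localization.Away (algebraMap R A' f)) x) = 0 := hx
    have h0 : algebraMap A' (Localization.Away (algebraMap R A' f)) x = 0 := by
      apply φ.injective
      rw [hx', map_zero]
    obtain ⟨n, hn⟩ := (away_eq_zero_iff (algebraMap R A' f) x).mp h0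
    refine ⟨n, ?_⟩
    rw [Algebra.smul_def, map_pow, ← IsScalarTower.algebraMap_apply R R' A']
    exact hn
  have hmem : ∀ m : E, a'.toLinearMap (pr₁.toLinearMap m) = (1 : R') ⊗ₜ[R] pr₂.toLinearMap m :=
    fun m => (hE m.1).mp m.2
  have hex : ∀ (x : A') (y : A₁), a'.toLinearMap x = (1 : R') ⊗ₜ[R] y →
      ∃ m : E, pr₁.toLinearMap m = x ∧ pr₂.toLinearMap m = y :=
    fun x y h => ⟨⟨(x, y), (hE (x, y)).mpr h⟩, rfl, rfl⟩
  have hinj : ∀ m : E, pr₁.toLinearMap m = 0 → pr₂.toLinearMap m = 0 → m = 0 :=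
    fun m h1 h2 => Subtype.ext (Prod.ext h1 h2)
  obtain ⟨hglue, hloc, hbij⟩ := bl_abstract hRR' hf a'.toLinearMap hs hk
    pr₁.toLinearMap pr₂.toLinearMap hmem hex hinj
  -- e'
  let Gal : R' ⊗[R] E →ₐ[R'] A' :=
    Algebra.TensorProduct.lift (Algebra.ofId R' A') pr₁ (fun _ _ => Commute.all _ _)
  have hGal : ∀ ξ : R' ⊗[R] E, Gal ξ = pr₁.toLinearMap.liftBaseChange R' ξ := by
    intro ξ
    induction ξ using TensorProduct.induction_on with
    | zero => simp
    | tmul r' e =>
      rw [Algebra.TensorProduct.lift_tmul, LinearMap.liftBaseChange_tmul, Algebra.smul_def]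
      rfl
    | add x y hx hy => rw [map_add, map_add, hx, hy]
  have hGalbij : Function.Bijective Gal := by
    have : ⇑Gal = ⇑(pr₁.toLinearMap.liftBaseChange R') := funext hGal
    rw [this]
    exact hbij
  -- e₁
  letI algEA₁ : Algebra E A₁ := pr₂.toRingHom.toAlgebra
  haveI : IsScalarTower R E A₁ := IsScalarTower.of_algebraMap_eq (fun r => (pr₂.commutes r).symm)
  haveI hloc' : IsLocalization (Submonoid.powers (algebraMap R E f)) A₁ := by
    have h := (isLocalizedModule_iff_isLocalization (R := R) (S := Submonoid.powers f)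
      (A := E) (Aₛ := A₁)).mp hloc
    rwa [Algebra.algebraMapSubmonoid, Submonoid.map_powers] at h
  let e₁ : Localization.Away (algebraMap R E f) ≃ₐ[R] A₁ :=
    (Localization.algEquiv (Submonoid.powers (algebraMap R E f)) A₁).restrictScalars R
  refine ⟨E, inferInstance, inferInstance, hglue, e₁, AlgEquiv.ofBijective Gal hGalbij, ?_⟩
  intro a
  have h1 : (AlgEquiv.ofBijective Gal hGalbij) ((1 : R') ⊗ₜ[R] a) = pr₁ a := by
    rw [AlgEquiv.ofBijective_apply, Algebra.TensorProduct.lift_tmul, map_one, one_mul]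
  have h2 : e₁ (algebraMap E (Localization.Away (algebraMap R E f)) a) = pr₂ a := by
    show (Localization.algEquiv (Submonoid.powers (algebraMap R E f)) A₁)
      (algebraMap E (Localization.Away (algebraMap R E f)) a) = pr₂ a
    rw [AlgEquiv.commutes]
    rfl
  rw [h1, h2]
  exact hmem a

end Groth.Agent.S10727
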