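import Groth.Statements.S11160
import Mathlib.Algebra.Homology.DerivedCategory.KInjective
import Mathlib.Algebra.Homology.DerivedCategory.DerivabilityStructureInjectives
import Mathlib.Algebra.Homology.DerivedCategory.ExactFunctor
import Mathlib.Algebra.Homology.DerivedCategory.TStructure

set_option autoImplicit false
universe w w' v v' u u'
open CategoryTheory CategoryTheory.Limits
open CohDer

namespace Groth.Agent.S11160

section helpers
open CochainComplex HomComplex DerivedCategory

section
variable {C : Type u} [Category.{v} C] [Abelian C] [HasDerivedCategory.{w} C]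

lemma Qmap_surj (K L : CochainComplex C ℤ) [L.IsKInjective] (φ : Q.obj K ⟶ Q.obj L) :
    ∃ f : K ⟶ L, Q.map f = φ := by
  obtain ⟨g, hg⟩ := (IsKInjective.Qh_map_bijective
    ((HomotopyCategory.quotient _ _).obj K) L).surjective
    ((quotientCompQhIso C).hom.app K ≫ φ ≫ (quotientCompQhIso C).inv.app L)
  obtain ⟨f, rfl⟩ := (HomotopyCategory.quotient _ _).map_surjective g
  refine ⟨f, ?_⟩
  have nat := (quotientCompQhIso C).hom.naturality f
  dsimp at nat
  rw [← cancel_epi ((quotientCompQhIso C).hom.app K), ← nat, hg]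
  simp

lemma homotopy_of_Qmap_eq (K L : CochainComplex C ℤ) [L.IsKInjective] (f g : K ⟶ L)
    (h : Q.map f = Q.map g) : Nonempty (Homotopy f g) := by
  have natf := (quotientCompQhIso C).hom.naturality f
  have natg := (quotientCompQhIso C).hom.naturality g
  dsimp at natf natg
  have : Qh.map ((HomotopyCategory.quotient _ _).map f)
      = Qh.map ((HomotopyCategory.quotient _ _).map g) := by
    rw [← cancel_mono ((quotientCompQhIso C).hom.app L), natf, natg, h]
  exact ⟨HomotopyCategory.homotopyOfEq _ _
    ((IsKInjective.Qh_map_bijective _ L).injective this)⟩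

lemma Qmap_eq_of_homotopy {K L : CochainComplex C ℤ} {f g : K ⟶ L} (h : Homotopy f g) :
    Q.map f = Q.map g := by
  have natf := (quotientCompQhIso C).hom.naturality f
  have natg := (quotientCompQhIso C).hom.naturality g
  dsimp at natf natg
  rw [← cancel_epi ((quotientCompQhIso C).hom.app K), ← natf, ← natg,
    HomotopyCategory.eq_of_homotopy _ _ h]

end

variable {A' : Type u'} [Category.{v'} A'] [Abelian A'] [HasDerivedCategory.{w'} A']
    {A : Type u} [Category.{v} A] [Abelian A] [HasDerivedCategory.{w} A]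
    (ι : A' ⥤ A) [ι.Additive] [ι.Full] [ι.Faithful]

omit [HasDerivedCategory.{w'} A'] [HasDerivedCategory.{w} A] in
lemma homotopy_reflect {K L : CochainComplex A' ℤ} (f g : K ⟶ L)
    (h : Homotopy ((ι.mapHomologicalComplex (ComplexShape.up ℤ)).map f)
      ((ι.mapHomologicalComplex (ComplexShape.up ℤ)).map g)) :
    Nonempty (Homotopy f g) := by
  obtain ⟨z', hz'⟩ := Cochain.equivHomotopy _ _ h
  let z : Cochain K L (-1) := Cochain.mk (fun p q hpq => ι.preimage (z'.v p q hpq))
  have hz : z.map ι = z' := by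
    ext p q hpq
    simp [z, Cochain.map_v]
  refine ⟨(Cochain.equivHomotopy f g).symm ⟨z, Cochain.ext _ _ (fun p q hpq => ?_)⟩⟩
  apply ι.map_injective
  have := Cochain.congr_v hz' p q hpq
  rw [← hz, δ_map, ← Cochain.map_ofHom, ← Cochain.map_ofHom, ← Cochain.map_add] at this
  exact this

omit [HasDerivedCategory.{w'} A'] [HasDerivedCategory.{w} A] [ι.Additive] [ι.Full] [ι.Faithful] in
lemma injective_map_of_injective
    (hinj : ∀ X' : A', ∃ (Y' : A') (i : X' ⟶ Y'), Mono i ∧ Injective (ι.obj Y'))
    (J : A') [Injective J] : Injective (ι.obj J) := by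
  obtain ⟨Y', i, hi, hY⟩ := hinj J
  let r : Y' ⟶ J := Injective.factorThru (𝟙 J) i
  have hr : i ≫ r = 𝟙 J := Injective.comp_factorThru _ _
  constructor
  intro P Q g m hm
  obtain ⟨h, fac⟩ := hY.factors (g ≫ ι.map i) m
  refine ⟨h ≫ ι.map r, ?_⟩
  rw [← Category.assoc, fac, Category.assoc, ← ι.map_comp, hr, ι.map_id, Category.comp_id]

omit [HasDerivedCategory.{w'} A'] [HasDerivedCategory.{w} A] [ι.Additive] in
lemma enoughInjectives_of [PreservesFiniteLimits ι]
    (hinj : ∀ X' : A', ∃ (Y' : A') (i : X' ⟶ Y'), Mono i ∧ Injective (ι.obj Y')) :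
    EnoughInjectives A' where
  presentation X' := by
    obtain ⟨Y', i, hi, hY⟩ := hinj X'
    exact ⟨{ J := Y', injective := ι.injective_of_map_injective hY, f := i, mono := hi }⟩

lemma core [PreservesFiniteLimits ι] [PreservesFiniteColimits ι]
    (K L : CochainComplex A' ℤ) [L.IsKInjective]
    [CochainComplex.IsKInjective ((ι.mapHomologicalComplex (ComplexShape.up ℤ)).obj L)] :
    Function.Bijective (fun f : Q.obj K ⟶ Q.obj L => ι.mapDerivedCategory.map f) := by
  constructor
  · intro φ ψ h
    obtain ⟨f, rfl⟩ := Qmap_surj K L φ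
    obtain ⟨g, rfl⟩ := Qmap_surj K L ψ
    dsimp at h
    have h' : Q.map ((ι.mapHomologicalComplex (ComplexShape.up ℤ)).map f)
        = Q.map ((ι.mapHomologicalComplex (ComplexShape.up ℤ)).map g) := by
      have nf := ι.mapDerivedCategoryFactors_hom_naturality f
      have ng := ι.mapDerivedCategoryFactors_hom_naturality g
      rw [h] at nf
      rw [← cancel_epi (ι.mapDerivedCategoryFactors.hom.app K), ← nf, ← ng]
    obtain ⟨ho⟩ := homotopy_of_Qmap_eq _ _ _ _ h'
    obtain ⟨ho'⟩ := homotopy_reflect ι f g ho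
    exact Qmap_eq_of_homotopy ho'
  · intro χ
    obtain ⟨g', hg'⟩ := Qmap_surj ((ι.mapHomologicalComplex (ComplexShape.up ℤ)).obj K)
      ((ι.mapHomologicalComplex (ComplexShape.up ℤ)).obj L)
      (ι.mapDerivedCategoryFactors.inv.app K ≫ χ ≫ ι.mapDerivedCategoryFactors.hom.app L)
    obtain ⟨g, rfl⟩ := (ι.mapHomologicalComplex (ComplexShape.up ℤ)).map_surjective g'
    refine ⟨Q.map g, ?_⟩
    dsimp
    have ng := ι.mapDerivedCategoryFactors_hom_naturality g
    rw [← cancel_mono (ι.mapDerivedCategoryFactors.hom.app L), ng, hg']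
    simp

end helpers

/-- Let ι : A' ⥤ A be an exact fully faithful functor of abelian categories whose essential image is
closed under extensions (a thick abelian subcategory), and suppose every object of A' admits a
monomorphism into an object of A' whose image in A is injective (A' has enough A-injectives). Then
the induced triangulated functor D(A') ⥤ D(A) is fully faithful on cohomologically bounded below
objects. -/
theorem result {A' : Type u'} [Category.{v'} A'] [Abelian A'] [HasDerivedCategory.{w'} A']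
    {A : Type u} [Category.{v} A] [Abelian A] [HasDerivedCategory.{w} A]
    (ι : A' ⥤ A) [ι.Additive] [PreservesFiniteLimits ι] [PreservesFiniteColimits ι] [ι.Full] [ι.Faithful]
    (hext : ∀ S : ShortComplex A, S.ShortExact → ι.essImage S.X₁ → ι.essImage S.X₃ → ι.essImage S.X₂)
    (hinj : ∀ X' : A', ∃ (Y' : A') (i : X' ⟶ Y'), Mono i ∧ Injective (ι.obj Y'))
    (X Y : DerivedCategory A') (a b : ℤ) [X.IsGE a] [Y.IsGE b] :
    Function.Bijective (fun f : X ⟶ Y => ι.mapDerivedCategory.map f) := by
  have : EnoughInjectives A' := enoughInjectives_of ι hinj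
  obtain ⟨K0, hK0, ⟨e0⟩⟩ := DerivedCategory.exists_iso_Q_obj_of_isGE Y b
  obtain ⟨L, i, hi, hL, hLb⟩ :=
    CochainComplex.Plus.modelCategoryQuillen.exists_quasiIso_injective K0 b
  have := hi
  let eY : Y ≅ DerivedCategory.Q.obj L := e0 ≪≫ asIso (DerivedCategory.Q.map i)
  let K := DerivedCategory.Q.objPreimage X
  let eX : X ≅ DerivedCategory.Q.obj K := (DerivedCategory.Q.objObjPreimageIso X).symm
  have : L.IsKInjective := CochainComplex.isKInjective_of_injective L b
  have : ∀ n, Injective (((ι.mapHomologicalComplex (ComplexShape.up ℤ)).obj L).X n) :=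
    fun n => injective_map_of_injective ι hinj (L.X n)
  have : CochainComplex.IsStrictlyGE ((ι.mapHomologicalComplex (ComplexShape.up ℤ)).obj L) b :=
    (CochainComplex.isStrictlyGE_mapHomologicalComplex_obj_iff L ι b).2 hLb
  have : CochainComplex.IsKInjective ((ι.mapHomologicalComplex (ComplexShape.up ℤ)).obj L) :=
    CochainComplex.isKInjective_of_injective _ b
  have key := core ι K L
  let dX := ι.mapDerivedCategory.mapIso eX
  let dY := ι.mapDerivedCategory.mapIso eY
  constructor
  · intro φ ψ h
    dsimp at h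
    have : eX.inv ≫ φ ≫ eY.hom = eX.inv ≫ ψ ≫ eY.hom := key.1 (by
      dsimp
      simp only [CategoryTheory.Functor.map_comp]
      rw [h])
    rw [cancel_epi, cancel_mono] at this
    exact this
  · intro χ
    obtain ⟨ψ, hψ⟩ := key.2 (dX.inv ≫ χ ≫ dY.hom)
    refine ⟨eX.hom ≫ ψ ≫ eY.inv, ?_⟩
    dsimp at hψ ⊢
    have : ι.mapDerivedCategory.map (eX.hom ≫ ψ ≫ eY.inv)
        = dX.hom ≫ ι.mapDerivedCategory.map ψ ≫ dY.inv := by
      simp [dX, dY]
    rw [this, hψ]
    simp

end Groth.Agent.S11160
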