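import Groth.Statements.S1075
import Groth.Agent.S11160
import Groth.Agent.S0489

set_option autoImplicit false
universe w v u
open CategoryTheory CategoryTheory.Limits
open CohDer

namespace Groth.Agent.S1075

section helpers
open CochainComplex HomComplex DerivedCategory

variable {A : Type u} [Category.{v} A] [Abelian A] [HasLimitsOfShape (Discrete ℕ) A]
  (L : ℕ → CochainComplex A ℤ)

lemma assemble {K' : CochainComplex A ℤ} {m : ℤ} (z : ∀ n, Cochain K' (L n) m) :
    ∃ w : Cochain K' (∏ᶜ L) m, ∀ n, w.comp (Cochain.ofHom (Pi.π L n)) (add_zero m) = z n := by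
  have key : ∀ (p q : ℤ) (hpq : p + m = q), ∃ φ : K'.X p ⟶ (∏ᶜ L).X q,
      ∀ n, φ ≫ (Pi.π L n).f q = (z n).v p q hpq := by
    intro p q hpq
    let c : Cone (Discrete.functor L ⋙ HomologicalComplex.eval A (ComplexShape.up ℤ) q) :=
      { pt := K'.X p
        π := Discrete.natTrans (fun i => (z i.as).v p q hpq) }
    let hl := isLimitOfPreserves (HomologicalComplex.eval A (ComplexShape.up ℤ) q)
      (limit.isLimit (Discrete.functor L))
    exact ⟨hl.lift c, fun n => hl.fac c ⟨n⟩⟩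
  choose φ hφ using key
  refine ⟨Cochain.mk φ, fun n => ?_⟩
  ext p q hpq
  simp [hφ]

lemma jm {K' : CochainComplex A ℤ} {m : ℤ} (z₁ z₂ : Cochain K' (∏ᶜ L) m)
    (h : ∀ n, z₁.comp (Cochain.ofHom (Pi.π L n)) (add_zero m)
      = z₂.comp (Cochain.ofHom (Pi.π L n)) (add_zero m)) : z₁ = z₂ := by
  ext p q hpq
  apply (isLimitOfPreserves (HomologicalComplex.eval A (ComplexShape.up ℤ) q)
      (limit.isLimit (Discrete.functor L))).hom_ext
  rintro ⟨n⟩
  have := Cochain.congr_v (h n) p q hpq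
  simp at this
  simp
  exact this

lemma isKInjective_pi (hL : ∀ n, (L n).IsKInjective) : (∏ᶜ L).IsKInjective := by
  refine ⟨fun {K'} f hK' => ?_⟩
  have h1 : ∀ n, ∃ β : Cochain K' (L n) (-1),
      δ (-1) 0 β = Cochain.ofHom (f ≫ Pi.π L n) := by
    intro n
    have := hL n
    exact Groth.Agent.S0489.lemA hK' _
  choose β hβ using h1
  obtain ⟨w, hw⟩ := assemble L β
  have hδ : δ (-1) 0 w = Cochain.ofHom f := by
    apply jm L
    intro n
    rw [← δ_comp_ofHom, hw, hβ, Cochain.ofHom_comp]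
  exact ⟨(Cochain.equivHomotopy f 0).symm ⟨w, by simp [hδ]⟩⟩

lemma uniq [HasDerivedCategory.{w} A] (hL : ∀ n, (L n).IsKInjective) (X : DerivedCategory A)
    (m m' : X ⟶ Q.obj (∏ᶜ L))
    (h : ∀ n, m ≫ Q.map (Pi.π L n) = m' ≫ Q.map (Pi.π L n)) : m = m' := by
  have hP : (∏ᶜ L).IsKInjective := isKInjective_pi L hL
  let X0 := Q.objPreimage X
  let eX : Q.obj X0 ≅ X := Q.objObjPreimageIso X
  obtain ⟨u, hu⟩ := Groth.Agent.S11160.Qmap_surj X0 (∏ᶜ L) (eX.hom ≫ m)
  obtain ⟨u', hu'⟩ := Groth.Agent.S11160.Qmap_surj X0 (∏ᶜ L) (eX.hom ≫ m')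
  have hh : ∀ n, ∃ z : Cochain X0 (L n) (-1), Cochain.ofHom (u ≫ Pi.π L n)
      = δ (-1) 0 z + Cochain.ofHom (u' ≫ Pi.π L n) := by
    intro n
    have := hL n
    have hq : Q.map (u ≫ Pi.π L n) = Q.map (u' ≫ Pi.π L n) := by
      rw [CategoryTheory.Functor.map_comp, CategoryTheory.Functor.map_comp, hu, hu',
        Category.assoc, Category.assoc, h n]
    obtain ⟨ho⟩ := Groth.Agent.S11160.homotopy_of_Qmap_eq _ _ _ _ hq
    exact ⟨(Cochain.equivHomotopy _ _ ho).1, (Cochain.equivHomotopy _ _ ho).2⟩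
  choose z hz using hh
  obtain ⟨w', hw⟩ := assemble L z
  have hw' : Cochain.ofHom u = δ (-1) 0 w' + Cochain.ofHom u' := by
    apply jm L
    intro n
    rw [Cochain.add_comp, ← δ_comp_ofHom, hw, ← Cochain.ofHom_comp, ← Cochain.ofHom_comp, hz]
  have : Q.map u = Q.map u' :=
    Groth.Agent.S11160.Qmap_eq_of_homotopy ((Cochain.equivHomotopy u u').symm ⟨w', hw'⟩)
  rw [hu, hu'] at this
  exact (cancel_epi eX.hom).1 this

lemma exLift [HasDerivedCategory.{w} A] (hL : ∀ n, (L n).IsKInjective)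
    (s : Fan (fun n => Q.obj (L n))) :
    ∃ l : s.pt ⟶ Q.obj (∏ᶜ L), ∀ n, l ≫ Q.map (Pi.π L n) = s.proj n := by
  let X0 := Q.objPreimage s.pt
  let eX : Q.obj X0 ≅ s.pt := Q.objObjPreimageIso s.pt
  have hg : ∀ n, ∃ g : X0 ⟶ L n, Q.map g = eX.hom ≫ s.proj n := by
    intro n
    have := hL n
    exact Groth.Agent.S11160.Qmap_surj X0 (L n) _
  choose g hg using hg
  refine ⟨eX.inv ≫ Q.map (Pi.lift g), fun n => ?_⟩
  rw [Category.assoc, ← CategoryTheory.Functor.map_comp, Pi.lift_π, hg, Iso.inv_hom_id_assoc]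

end helpers

/-- In D(A), for A abelian with enough injectives and countable products, every sequence of
bounded-below objects has a product, so derived limits of such sequences exist. -/
theorem result {A : Type u} [Category.{v} A] [Abelian A] [HasDerivedCategory.{w} A]
    [HasLimitsOfShape (Discrete ℕ) A] [EnoughInjectives A]
    (K : ℕ → DerivedCategory A) (hK : ∀ n, ∃ a : ℤ, (K n).IsGE a) : HasProduct K := by
  have h1 : ∀ n, ∃ (L : CochainComplex A ℤ), L.IsKInjective ∧
      Nonempty (K n ≅ DerivedCategory.Q.obj L) := by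
    intro n
    obtain ⟨a, ha⟩ := hK n
    obtain ⟨K0, hK0, ⟨e0⟩⟩ := DerivedCategory.exists_iso_Q_obj_of_isGE (K n) a
    obtain ⟨L, i, hi, hL, hLa⟩ :=
      CochainComplex.Plus.modelCategoryQuillen.exists_quasiIso_injective K0 a
    have := hi
    exact ⟨L, CochainComplex.isKInjective_of_injective L a,
      ⟨e0 ≪≫ asIso (DerivedCategory.Q.map i)⟩⟩
  choose L hL e using h1
  have ex := exLift L hL
  choose lift hlift using ex
  have hlim : IsLimit (Fan.mk (DerivedCategory.Q.obj (∏ᶜ L))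
      (fun n => DerivedCategory.Q.map (Pi.π L n))) :=
    Fan.IsLimit.mk _ lift (fun s n => hlift s n)
      (fun s m hm => uniq L hL _ _ _ (fun n => (hm n).trans (hlift s n).symm))
  have : HasProduct (fun n => DerivedCategory.Q.obj (L n)) := HasLimit.mk ⟨_, hlim⟩
  exact hasProduct_of_equiv_of_iso (fun n => DerivedCategory.Q.obj (L n)) K (Equiv.refl ℕ)
    (fun n => (e n).some)

end Groth.Agent.S1075
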