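import Groth.Statements.S1079
import Mathlib.CategoryTheory.Triangulated.Opposite.Pretriangulated
import Mathlib.CategoryTheory.Idempotents.Basic
import Mathlib.CategoryTheory.Limits.Shapes.Opposites.Products

set_option autoImplicit false
universe v u
open CategoryTheory CategoryTheory.Limits
open CohDer
open CategoryTheory.Pretriangulated.Opposite

namespace Groth.Agent.S1079

section Helper

open CategoryTheory.Pretriangulated

variable {D : Type u} [Category.{v} D] [Preadditive D] [Limits.HasZeroObject D] [HasShift D ℤ]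
    [∀ n : ℤ, (shiftFunctor D n).Additive] [Pretriangulated D]

theorem idem_of_coprod [HasColimitsOfShape (Discrete ℕ) D] : IsIdempotentComplete D := by
  refine ⟨fun X e he => ?_⟩
  let ι : ∀ i : ℕ, X ⟶ ∐ (fun _ : ℕ => X) := fun i => Sigma.ι (fun _ : ℕ => X) i
  let φ : (∐ (fun _ : ℕ => X)) ⟶ ∐ (fun _ : ℕ => X) :=
    Sigma.desc (fun i => ι i - e ≫ ι (i + 1))
  let ψ : (∐ (fun _ : ℕ => X)) ⟶ ∐ (fun _ : ℕ => X) :=
    Sigma.desc (fun i => (𝟙 X - e) ≫ ι i - ∑ k ∈ Finset.range i, e ≫ ι k)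
  let ρ : (∐ (fun _ : ℕ => X)) ⟶ X := Sigma.desc (fun _ => e)
  have hιφ : ∀ i, ι i ≫ φ = ι i - e ≫ ι (i + 1) := fun i => by
    simp only [ι, φ, Sigma.ι_desc]
  have hιψ : ∀ i, ι i ≫ ψ = (𝟙 X - e) ≫ ι i - ∑ k ∈ Finset.range i, e ≫ ι k := fun i => by
    simp only [ι, ψ, Sigma.ι_desc]
  have hιρ : ∀ i, ι i ≫ ρ = e := fun i => by
    simp only [ι, ρ, Sigma.ι_desc]
  have h1e : (𝟙 X - e) ≫ e = 0 := by
    rw [Preadditive.sub_comp, Category.id_comp, he, sub_self]
  have he1 : e ≫ (𝟙 X - e) = 0 := by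
    rw [Preadditive.comp_sub, Category.comp_id, he, sub_self]
  have hφψ : φ ≫ ψ = 𝟙 _ := by
    apply Sigma.hom_ext
    intro i
    change ι i ≫ φ ≫ ψ = ι i ≫ 𝟙 _
    rw [← Category.assoc, hιφ, Preadditive.sub_comp, Category.assoc, hιψ, hιψ,
      Preadditive.comp_sub, ← Category.assoc, he1, zero_comp, Preadditive.comp_sum,
      Finset.sum_range_succ, Category.comp_id]
    simp only [← Category.assoc, he]
    rw [Preadditive.sub_comp, Category.id_comp]
    abel
  have hφρ : φ ≫ ρ = 0 := by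
    apply Sigma.hom_ext
    intro i
    change ι i ≫ φ ≫ ρ = ι i ≫ 0
    rw [← Category.assoc, hιφ, Preadditive.sub_comp, Category.assoc, hιρ, hιρ, he, sub_self,
      comp_zero]
  obtain ⟨Y, π, δ, hT⟩ := distinguished_cocone_triangle φ
  have hδ : δ = 0 := by
    have h0 : δ ≫ φ⟦(1 : ℤ)⟧' = 0 := comp_distTriang_mor_zero₃₁ _ hT
    have : δ ≫ (φ ≫ ψ)⟦(1 : ℤ)⟧' = 0 := by
      rw [Functor.map_comp, ← Category.assoc, h0, zero_comp]
    rwa [hφψ, CategoryTheory.Functor.map_id, Category.comp_id] at this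
  have hπ : Epi π := Triangle.epi₂ _ hT hδ
  have hφπ : φ ≫ π = 0 := comp_distTriang_mor_zero₁₂ _ hT
  obtain ⟨r, hr⟩ : ∃ r : Y ⟶ X, ρ = π ≫ r := Triangle.yoneda_exact₂ _ hT ρ hφρ
  have ha : ∀ i, ι i ≫ π = e ≫ ι (i + 1) ≫ π := fun i => by
    have := congrArg (fun f => ι i ≫ f) hφπ
    simp only [comp_zero] at this
    rw [← Category.assoc, hιφ, Preadditive.sub_comp, sub_eq_zero, Category.assoc] at this
    exact this
  have hb : ∀ i, ι i ≫ π = e ≫ ι i ≫ π := fun i => by
    have h2 : ((𝟙 X - e) ≫ ι i) ≫ φ = (𝟙 X - e) ≫ ι i := by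
      rw [Category.assoc, hιφ, Preadditive.comp_sub, ← Category.assoc (𝟙 X - e) e, h1e,
        zero_comp, sub_zero]
    have h3 : ((𝟙 X - e) ≫ ι i) ≫ π = 0 := by
      rw [← h2, Category.assoc, Category.assoc, hφπ, comp_zero, comp_zero]
    rw [Category.assoc, Preadditive.sub_comp, Category.id_comp, sub_eq_zero] at h3
    exact h3
  have hc : ∀ i, ι i ≫ π = ι 0 ≫ π := by
    intro i
    induction i with
    | zero => rfl
    | succ n ih => rw [← ih, ha n, ← hb (n + 1)]
  refine ⟨Y, r, ι 0 ≫ π, ?_, ?_⟩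
  · rw [← cancel_epi π, ← Category.assoc, ← hr, Category.comp_id]
    apply Sigma.hom_ext
    intro i
    change ι i ≫ ρ ≫ ι 0 ≫ π = ι i ≫ π
    rw [← Category.assoc, hιρ, ← hb 0, hc i]
  · rw [Category.assoc, ← hr, hιρ]

end Helper

/-- A pretriangulated category which has countable coproducts, or countable products, is Karoubian
(idempotent complete). -/
theorem result {D : Type u} [Category.{v} D] [Preadditive D] [Limits.HasZeroObject D] [HasShift D ℤ]
    [∀ n : ℤ, (shiftFunctor D n).Additive] [Pretriangulated D]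
    (h : HasColimitsOfShape (Discrete ℕ) D ∨ HasLimitsOfShape (Discrete ℕ) D) : IsIdempotentComplete D := by
  rcases h with h | h
  · exact idem_of_coprod
  · rw [← CategoryTheory.Idempotents.isIdempotentComplete_iff_opposite]
    exact idem_of_coprod

end Groth.Agent.S1079
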