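import Groth.Statements.S10804
import Groth.Agent.H25.AlgSp77
open Groth.Agent.H25 Groth.Agent.H25.AS

set_option autoImplicit false
universe u
open CategoryTheory CategoryTheory.Limits AlgebraicGeometry Topology TopologicalSpace
open AlgSp

namespace Groth.Agent.S10804

/-- (3) ⇒ (4): let f : X ⟶ Y be a morphism of algebraic spaces over a scheme S, and let p : Spec k ⟶ Y
and p₀ : Spec k₀ ⟶ Y be field-valued points defining the same point of |Y|, with h_{Spec k₀} ⟶ Y a
monomorphism. If the fibre X_p = Spec k ×_Y X (any pullback of f along the morphism of p) is locally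
Noetherian, then the fibre X_{p₀} is locally Noetherian. -/
theorem result {S : Scheme.{u}} (X Y : AlgSp.Space S) (f : X ⟶ Y)
    (p p₀ : AlgSp.FieldPt Y.obj) (hpp : AlgSp.Points.mk p = AlgSp.Points.mk p₀) (hmono : Mono p₀.toHom)
    (hNoeth : ∀ ⦃P : AlgSp.Sp S⦄ (fst : P ⟶ X.obj) (snd : P ⟶ (AlgSp.yon S).obj p.pt),
      IsPullback fst snd f.hom p.toHom → AlgSp.IsLocNoethSp P)
    {Q : AlgSp.Sp S} (qfst : Q ⟶ X.obj) (qsnd : Q ⟶ (AlgSp.yon S).obj p₀.pt)
    (hQ : IsPullback qfst qsnd f.hom p₀.toHom) :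
    AlgSp.IsLocNoethSp Q := by

  obtain ⟨e, he⟩ := exists_factor_through_mono_point_gen Y.property p₀ hmono p.str p.toHom
    ((AlgSp.Points.ofPt_toHom p _).trans hpp)
  have hP := IsPullback.of_hasPullback f.hom p.toHom
  have hsub : Subsingleton ↥p₀.pt.left :=
    (inferInstance : Subsingleton ↥(Spec (CommRingCat.of p₀.K)))
  have hint : IsIntegral p₀.pt.left :=
    (inferInstance : IsIntegral (Spec (CommRingCat.of p₀.K)))
  have haff' : IsAffine p₀.pt.left :=
    (inferInstance : IsAffine (Spec (CommRingCat.of p₀.K)))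
  have haff : IsAffine p.pt.left :=
    (inferInstance : IsAffine (Spec (CommRingCat.of p.K)))
  have hflat : Flat e.left := inferInstance
  have hsurj : Surjective e.left :=
    ⟨fun x => ⟨(show ↥p.pt.left from IsLocalRing.closedPoint p.K), Subsingleton.elim _ _⟩⟩
  have hqc : QuasiCompact e.left := inferInstance
  have het : Etale (𝟙 p.pt : p.pt ⟶ p.pt).left := inferInstanceAs (Etale (𝟙 p.pt.left))
  exact isLocNoethSp_fibre_of_comparison X.property Y.property f.hom p p₀ (𝟙 p.pt) e het hflat
    hsurj hqc (by rw [CategoryTheory.Functor.map_id, Category.id_comp, he]) _ _ hP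
    (hNoeth _ _ hP) qfst qsnd hQ


end Groth.Agent.S10804
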