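import Groth.Statements.S1081
import Groth.Agent.Lib.Helper22.FilDEmb

set_option autoImplicit false
universe v u
open CategoryTheory CategoryTheory.Limits Opposite
open FilD

namespace Groth.Agent.S1081

/-- Let A be an abelian category with enough injectives. Every finite filtered object X admits a strict
monomorphism X ⟶ I into a filtered injective object I. -/
theorem result {A : Type u} [Category.{v} A] [Abelian A] [EnoughInjectives A] (X : FilD.FilF A) :
    ∃ (I : FilD.FilF A) (u : X ⟶ I), FilD.IsFilteredInjective I ∧ Mono u ∧ FilD.IsStrict u := by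
  obtain ⟨b, hb⟩ := X.property.2.1
  obtain ⟨a, ha⟩ := X.property.2.2
  obtain ⟨I, u, hI, hmono, hstr⟩ := Groth.Agent.Helper22.FilDEmb.main (b - a).toNat X a ha
    (fun p hp => hb p (by omega))
  refine ⟨I, u, hI, ?_, hstr⟩
  have h1 : ∀ c : ℤᵒᵖ, Mono (u.hom.app c) := fun c => hmono c.unop
  have h2 : Mono u.hom := NatTrans.mono_of_mono_app u.hom
  exact (FilD.IsFinFil A).ι.mono_of_mono_map h2

end Groth.Agent.S1081
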