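import Groth.Statements.S10825
import Groth.Agent.H14Lib.KrullDim
import Mathlib

set_option autoImplicit false
universe u
open Topology
open CAlg

namespace Groth.Agent.S10825

lemma tkd_zeroLocus {T : Type u} [CommRing T] (I : Ideal T) :
    topologicalKrullDim ↥(PrimeSpectrum.zeroLocus (I : Set T)) = ringKrullDim (T ⧸ I) := by
  have hemb := PrimeSpectrum.isClosedEmbedding_comap_of_surjective (T ⧸ I) (Ideal.Quotient.mk I)
    Ideal.Quotient.mk_surjective
  have hrange : Set.range (PrimeSpectrum.comap (Ideal.Quotient.mk I)) =
      PrimeSpectrum.zeroLocus (I : Set T) := by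
    rw [range_comap_of_surjective _ _ Ideal.Quotient.mk_surjective, Ideal.mk_ker]
  rw [← PrimeSpectrum.topologicalKrullDim_eq_ringKrullDim, ← hrange]
  exact (IsHomeomorph.topologicalKrullDim_eq _
    (hemb.isEmbedding.toHomeomorph).isHomeomorph).symm

/-- Let A → B be an injective integral homomorphism of integral domains with fraction fields K and L, L
a finite extension of K, and A integrally closed. For b in B the norm N_{L/K}(b) lies in A; if a
denotes this element of A, then the image of the closed set V(b) of Spec B under Spec B → Spec A is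
exactly V(a), and V(b) and V(a) have the same dimension. -/
theorem result
    (A B K L : Type u) [CommRing A] [IsDomain A] [CommRing B] [IsDomain B] [Algebra A B]
    [Field K] [Field L] [Algebra A K] [IsFractionRing A K] [Algebra B L] [IsFractionRing B L]
    [Algebra A L] [Algebra K L] [IsScalarTower A B L] [IsScalarTower A K L]
    [FiniteDimensional K L] [Algebra.IsIntegral A B] [IsIntegrallyClosed A]
    (hinj : Function.Injective (algebraMap A B))
    (b : B) (a : A) (ha : algebraMap A K a = Algebra.norm K (algebraMap B L b)) :
    PrimeSpectrum.comap (algebraMap A B) '' PrimeSpectrum.zeroLocus ({b} : Set B) =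
        PrimeSpectrum.zeroLocus ({a} : Set A) ∧
      topologicalKrullDim ↥(PrimeSpectrum.zeroLocus ({b} : Set B)) =
        topologicalKrullDim ↥(PrimeSpectrum.zeroLocus ({a} : Set A)) := by
  classical
  have hKinj : Function.Injective (algebraMap A K) := IsFractionRing.injective A K
  have hbint : IsIntegral A b := Algebra.IsIntegral.isIntegral b
  -- F1 : a ∈ (b)
  have F1 : algebraMap A B a ∈ Ideal.span ({b} : Set B) := by
    have hβint : IsIntegral K (algebraMap B L b) := Algebra.IsIntegral.isIntegral _
    have hmin : minpoly K (algebraMap B L b) = (minpoly A b).map (algebraMap A K) :=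
      minpoly.isIntegrallyClosed_eq_field_fractions K L hbint
    have h1 := Algebra.norm_eq_norm_adjoin K (algebraMap B L b)
    have h2 := Algebra.PowerBasis.norm_gen_eq_coeff_zero_minpoly
      (IntermediateField.adjoin.powerBasis hβint)
    rw [IntermediateField.adjoin.powerBasis_gen, IntermediateField.minpoly_gen, hmin,
      Polynomial.coeff_map] at h2
    rw [h2, ← ha] at h1
    have hm : 0 < Module.finrank (IntermediateField.adjoin K {algebraMap B L b}) L :=
      Module.finrank_pos
    have h3 : a = ((-1) ^ (IntermediateField.adjoin.powerBasis hβint).dim * (minpoly A b).coeff 0) ^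
        Module.finrank (IntermediateField.adjoin K {algebraMap B L b}) L := by
      apply hKinj
      rw [h1, map_pow, map_mul, map_pow, map_neg, map_one]
    have h4 : (minpoly A b).coeff 0 ∣ a := by
      rw [h3]
      exact (Dvd.intro_left _ rfl).trans (dvd_pow_self _ hm.ne')
    obtain ⟨c, hc⟩ := h4
    have h5 : algebraMap A B ((minpoly A b).coeff 0) ∈ Ideal.span ({b} : Set B) := by
      have h6 := minpoly.aeval A b
      rw [← Polynomial.divX_mul_X_add (minpoly A b), map_add, map_mul, Polynomial.aeval_X,
        Polynomial.aeval_C] at h6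
      rw [Ideal.mem_span_singleton']
      refine ⟨-(Polynomial.aeval b (minpoly A b).divX), ?_⟩
      rw [neg_mul]
      exact (eq_neg_of_add_eq_zero_right h6).symm
    rw [hc, map_mul]
    exact Ideal.mul_mem_right _ _ h5
  -- F2
  have F2 : ∀ x : A, algebraMap A B x ∈ Ideal.span ({b} : Set B) →
      ∃ c : A, x ^ Module.finrank K L = c * a := by
    intro x hx
    rw [Ideal.mem_span_singleton'] at hx
    obtain ⟨y, hy⟩ := hx
    have hyint : IsIntegral A (algebraMap B L y) :=
      (Algebra.IsIntegral.isIntegral (R := A) y).algebraMap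
    have hN : IsIntegral A (Algebra.norm K (algebraMap B L y)) := Algebra.isIntegral_norm K hyint
    obtain ⟨c, hc⟩ := IsIntegrallyClosed.isIntegral_iff.mp hN
    refine ⟨c, ?_⟩
    apply hKinj
    rw [map_pow, map_mul, hc, ha, ← map_mul, ← map_mul, hy, ← Algebra.norm_algebraMap (S := L),
      ← IsScalarTower.algebraMap_apply, IsScalarTower.algebraMap_apply A B L]
  have hJ : ∀ p : PrimeSpectrum A, a ∈ p.asIdeal →
      (Ideal.span ({b} : Set B)).comap (algebraMap A B) ≤ p.asIdeal := by
    intro p hp x hx
    obtain ⟨c, hc⟩ := F2 x hx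
    have h1 : x ^ Module.finrank K L ∈ p.asIdeal := by
      rw [hc]
      exact Ideal.mul_mem_left _ _ hp
    exact p.2.mem_of_pow_mem _ h1
  constructor
  · ext p
    constructor
    · rintro ⟨q, hq, rfl⟩
      rw [PrimeSpectrum.mem_zeroLocus, Set.singleton_subset_iff] at hq ⊢
      have h1 : Ideal.span ({b} : Set B) ≤ q.asIdeal := by
        rw [Ideal.span_le, Set.singleton_subset_iff]
        exact hq
      exact h1 F1
    · intro hp
      rw [PrimeSpectrum.mem_zeroLocus, Set.singleton_subset_iff] at hp
      obtain ⟨Q, hQ, hQprime, hQp⟩ := Ideal.exists_ideal_over_prime_of_isIntegral p.asIdeal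
        (Ideal.span ({b} : Set B)) (hJ p hp)
      refine ⟨⟨Q, hQprime⟩, ?_, PrimeSpectrum.ext hQp⟩
      rw [PrimeSpectrum.mem_zeroLocus, Set.singleton_subset_iff]
      exact hQ (Ideal.subset_span (Set.mem_singleton b))
  · have hset : PrimeSpectrum.zeroLocus ({a} : Set A) =
        PrimeSpectrum.zeroLocus (((Ideal.span ({b} : Set B)).comap (algebraMap A B) : Ideal A) : Set A) := by
      ext p
      rw [PrimeSpectrum.mem_zeroLocus, PrimeSpectrum.mem_zeroLocus, Set.singleton_subset_iff]
      constructor
      · intro hp
        exact hJ p hp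
      · intro hp
        exact hp F1
    rw [hset, tkd_zeroLocus, ← PrimeSpectrum.zeroLocus_span, tkd_zeroLocus]
    exact Groth.Agent.H14Lib.ringKrullDim_eq_of_isIntegral_of_injective _ _
      Ideal.algebraMap_quotient_injective

end Groth.Agent.S10825
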