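import Mathlib
import Groth.Statements.S10828
import Groth.Agent.Lib.Helper9.QuotGeom
-- import your own Groth.Agent.* helpers here

set_option autoImplicit false
universe u
open CategoryTheory AlgebraicGeometry
open Variety

namespace Groth.Agent.S10828

open Groth.Agent.Helper9.QuotGeom in
theorem exists_aut_algClosure {k κ K : Type u} [Field k] [Field κ] [Field K] [Algebra k K]
    [IsAlgClosure k K] (c : k →+* κ) (a b : κ →+* K)
    (ha : a.comp c = algebraMap k K) (hb : b.comp c = algebraMap k K) :
    ∃ σ : K ≃ₐ[k] K, ∀ t, σ (a t) = b t := by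
  letI algkκ : Algebra k κ := c.toAlgebra
  letI i1 : Algebra κ K := a.toAlgebra
  letI i2 : Algebra κ (Copy K) := (show κ →+* Copy K from b).toAlgebra
  letI algkC : Algebra k (Copy K) := inferInstanceAs (Algebra k K)
  haveI : IsScalarTower k κ K :=
    IsScalarTower.of_algebraMap_eq (fun x => (RingHom.congr_fun ha x).symm)
  haveI : IsScalarTower k κ (Copy K) :=
    IsScalarTower.of_algebraMap_eq (fun x => (RingHom.congr_fun hb x).symm)
  haveI : IsAlgClosed K := IsAlgClosure.isAlgClosed k
  haveI : IsAlgClosed (Copy K) := inferInstanceAs (IsAlgClosed K)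
  haveI : Algebra.IsAlgebraic k K := IsAlgClosure.isAlgebraic
  haveI : Algebra.IsAlgebraic k (Copy K) := inferInstanceAs (Algebra.IsAlgebraic k K)
  haveI : Algebra.IsAlgebraic κ K := Algebra.IsAlgebraic.tower_top (K := k) κ
  haveI : Algebra.IsAlgebraic κ (Copy K) := Algebra.IsAlgebraic.tower_top (K := k) κ
  haveI : IsAlgClosure κ K := ⟨inferInstance, inferInstance⟩
  haveI : IsAlgClosure κ (Copy K) := ⟨inferInstance, inferInstance⟩
  let e : K ≃ₐ[κ] Copy K := IsAlgClosure.equiv κ K (Copy K)
  let e' : K ≃ₐ[k] Copy K := e.restrictScalars k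
  refine ⟨(show K ≃ₐ[k] K from e'), fun t => ?_⟩
  exact e.commutes t

theorem factor_pt {X : Scheme.{u}} (K : Type u) [Field K] (p : Spec (CommRingCat.of K) ⟶ X)
    (x : X) (hx : p (IsLocalRing.closedPoint K) = x) :
    ∃ a : X.residueField x ⟶ CommRingCat.of K, Spec.map a ≫ X.fromSpecResidueField x = p := by
  subst hx
  exact ⟨_, Scheme.descResidueField_stalkClosedPointTo_fromSpecResidueField K X p⟩


/-- Let k be a field, K an algebraic closure of k with its group G of k-automorphisms, and X a k-scheme
locally of finite type. The map sending a K-valued point of X over k to its image point identifies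
the closed points of X with the G-orbits in X(K): a point is closed if and only if it is the image
of some K-valued point, and two K-valued points have the same image if and only if one is obtained
from the other by composing with Spec of a k-automorphism of K. -/
theorem result (k K : Type u) [Field k] [Field K]
    [Algebra k K] [IsAlgClosure k K] {X : Scheme.{u}} (f : X ⟶ Spec (CommRingCat.of k))
    [LocallyOfFiniteType f] :
    (∀ x : X, IsClosed ({x} : Set X) ↔
        ∃ p : Spec (CommRingCat.of K) ⟶ X, p ≫ f = Spec.map (CommRingCat.ofHom (algebraMap k K)) ∧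
          p.base (IsLocalRing.closedPoint K) = x) ∧
      ∀ p q : Spec (CommRingCat.of K) ⟶ X,
        p ≫ f = Spec.map (CommRingCat.ofHom (algebraMap k K)) →
        q ≫ f = Spec.map (CommRingCat.ofHom (algebraMap k K)) →
          (p.base (IsLocalRing.closedPoint K) = q.base (IsLocalRing.closedPoint K) ↔
            ∃ σ : K ≃ₐ[k] K, q = Spec.map (CommRingCat.ofHom σ.toRingHom) ≫ p) := by
  haveI : IsAlgClosed K := IsAlgClosure.isAlgClosed k
  have key : ∀ (x : X) (p : Spec (CommRingCat.of K) ⟶ X),
      p ≫ f = Spec.map (CommRingCat.ofHom (algebraMap k K)) →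
      p (IsLocalRing.closedPoint K) = x →
      ∃ a : X.residueField x ⟶ CommRingCat.of K,
        Spec.map a ≫ X.fromSpecResidueField x = p ∧
        Spec.preimage (X.fromSpecResidueField x ≫ f) ≫ a =
          CommRingCat.ofHom (algebraMap k K) := by
    intro x p hp hx
    obtain ⟨a, ha⟩ := factor_pt K p x hx
    refine ⟨a, ha, ?_⟩
    apply Spec.map_injective
    rw [Spec.map_comp, Spec.map_preimage, ← Category.assoc, ha, hp]
  refine ⟨fun x => ⟨fun hx => ?_, ?_⟩, fun p q hp hq => ⟨fun hpq => ?_, ?_⟩⟩
  · haveI := isClosed_singleton_iff_isClosedImmersion.mp hx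
    haveI : IsFinite (X.fromSpecResidueField x ≫ f) :=
      isFinite_iff_locallyOfFiniteType_of_jacobsonSpace.mpr inferInstance
    obtain ⟨c, hc⟩ : ∃ c, c = Spec.preimage (X.fromSpecResidueField x ≫ f) := ⟨_, rfl⟩
    have hcm : Spec.map c = X.fromSpecResidueField x ≫ f := by
      rw [hc]; exact Spec.map_preimage _
    have hint : c.hom.IsIntegral := by
      rw [← IsIntegralHom.SpecMap_iff, hcm]; infer_instance
    letI : Algebra k (X.residueField x) := c.hom.toAlgebra
    haveI : Algebra.IsIntegral k (X.residueField x) := ⟨hint⟩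
    let a : X.residueField x →ₐ[k] K := IsAlgClosed.lift
    refine ⟨Spec.map (CommRingCat.ofHom a.toRingHom) ≫ X.fromSpecResidueField x, ?_, ?_⟩
    · rw [Category.assoc, ← hcm, ← Spec.map_comp]
      congr 1
      ext t
      exact a.commutes t
    · exact Scheme.fromSpecResidueField_apply x _
  · rintro ⟨p, hp, hx⟩
    obtain ⟨a, ha, hca⟩ := key x p hp hx
    obtain ⟨c, hc⟩ : ∃ c, c = Spec.preimage (X.fromSpecResidueField x ≫ f) := ⟨_, rfl⟩
    rw [← hc] at hca
    have hcm : Spec.map c = X.fromSpecResidueField x ≫ f := by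
      rw [hc]; exact Spec.map_preimage _
    have hint : c.hom.IsIntegral := by
      intro t
      haveI : Algebra.IsAlgebraic k K := IsAlgClosure.isAlgebraic
      obtain ⟨P, hPm, hP0⟩ := (Algebra.IsIntegral.isIntegral (R := k) (a.hom t))
      refine ⟨P, hPm, ?_⟩
      apply a.hom.injective
      rw [map_zero, Polynomial.hom_eval₂]
      have hcomp : a.hom.comp c.hom = algebraMap k K := by
        have := congrArg CommRingCat.Hom.hom hca
        exact this
      rw [hcomp]
      exact hP0
    haveI : IsIntegralHom (X.fromSpecResidueField x ≫ f) := by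
      rw [← hcm]; exact IsIntegralHom.SpecMap_iff.mpr hint
    refine isClosed_of_closure_subset ?_
    intro y hy
    have hxy : x ⤳ y := specializes_iff_mem_closure.mpr hy
    obtain ⟨𝒰, h𝒰⟩ : ∃ 𝒰, 𝒰 = X.affineOpenCover := ⟨_, rfl⟩
    obtain ⟨j, y', hy'⟩ : ∃ j y', 𝒰.f j y' = y := ⟨_, 𝒰.covers y⟩
    have hxr : x ∈ Set.range (𝒰.f j) :=
      hxy.mem_open (𝒰.f j).isOpenEmbedding.isOpen_range ⟨y', hy'⟩
    have hr : Set.range (X.fromSpecResidueField x) ⊆ Set.range (𝒰.f j) := by
      rw [Scheme.range_fromSpecResidueField]; exact Set.singleton_subset_iff.mpr hxr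
    obtain ⟨g', hg'⟩ : ∃ g', g' ≫ 𝒰.f j = X.fromSpecResidueField x :=
      ⟨IsOpenImmersion.lift _ _ hr, IsOpenImmersion.lift_fac _ _ _⟩
    haveI : UniversallyClosed (g' ≫ (𝒰.f j ≫ f)) := by
      rw [← Category.assoc, hg']; infer_instance
    haveI : UniversallyClosed g' := UniversallyClosed.of_comp_of_isSeparated g' (𝒰.f j ≫ f)
    have hcl : IsClosed (Set.range g') := g'.isClosedMap.isClosed_range
    obtain ⟨s, -⟩ : ∃ s : Spec (X.residueField x), True := ⟨default, trivial⟩
    have hx' : 𝒰.f j (g' s) = x := by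
      have h0 : (g' ≫ 𝒰.f j) s = X.fromSpecResidueField x s := by rw [hg']
      rw [Scheme.Hom.comp_apply, Scheme.fromSpecResidueField_apply] at h0
      exact h0
    have hsp : g' s ⤳ y' := by
      rw [← (𝒰.f j).isOpenEmbedding.isInducing.specializes_iff, hx', hy']
      exact hxy
    have hmem : y' ∈ Set.range g' := hsp.mem_closed hcl ⟨s, rfl⟩
    obtain ⟨s', hs'⟩ := hmem
    have hss : s' = s := Subsingleton.elim _ _
    rw [Set.mem_singleton_iff, ← hy', ← hs', hss, hx']
  · obtain ⟨x, hx⟩ : ∃ x, p (IsLocalRing.closedPoint K) = x := ⟨_, rfl⟩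
    obtain ⟨a, ha, hca⟩ := key x p hp hx
    obtain ⟨b, hb, hcb⟩ := key x q hq (hpq.symm.trans hx)
    obtain ⟨σ, hσ⟩ := exists_aut_algClosure
      (Spec.preimage (X.fromSpecResidueField x ≫ f)).hom a.hom b.hom
      (by have := congrArg CommRingCat.Hom.hom hca; exact this)
      (by have := congrArg CommRingCat.Hom.hom hcb; exact this)
    refine ⟨σ, ?_⟩
    rw [← hb, ← ha, ← Category.assoc, ← Spec.map_comp]
    congr 2
    ext t
    exact (hσ t).symm
  · rintro ⟨σ, rfl⟩
    have h0 : (Spec.map (CommRingCat.ofHom σ.toRingHom) ≫ p) (IsLocalRing.closedPoint K) =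
        p (Spec.map (CommRingCat.ofHom σ.toRingHom) (IsLocalRing.closedPoint K)) :=
      Scheme.Hom.comp_apply _ _ _
    have h1 : Spec.map (CommRingCat.ofHom σ.toRingHom) (IsLocalRing.closedPoint K) =
        IsLocalRing.closedPoint K := (inferInstance : Subsingleton (PrimeSpectrum K)).elim _ _
    rw [h1] at h0
    exact h0.symm

end Groth.Agent.S10828
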