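import Groth.Statements.S10829
import Mathlib

set_option autoImplicit false
universe u
open AlgebraicGeometry
open Variety

namespace Groth.Agent.S10829

open AlgebraicGeometry in
/-- the identity, as a function from the underlying space of `Proj` to `ProjectiveSpectrum`. -/
def toPS {A σ : Type u} [CommRing A] [SetLike σ A] [AddSubgroupClass σ A] (𝒜 : ℕ → σ) [GradedRing 𝒜] :
    ↥(Proj 𝒜) ≃ ProjectiveSpectrum 𝒜 :=
  ⟨fun x => x, fun x => x, fun _ => rfl, fun _ => rfl⟩

open AlgebraicGeometry in
theorem toPS_le {A σ : Type u} [CommRing A] [SetLike σ A] [AddSubgroupClass σ A] (𝒜 : ℕ → σ) [GradedRing 𝒜]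
    (x y : ↥(Proj 𝒜)) : toPS 𝒜 y ≤ toPS 𝒜 x ↔ y ⤳ x := by
  rw [ProjectiveSpectrum.le_iff_mem_closure]
  exact specializes_iff_mem_closure.symm

open AlgebraicGeometry in
theorem topDim_proj {A σ : Type u} [CommRing A] [SetLike σ A] [AddSubgroupClass σ A] (𝒜 : ℕ → σ) [GradedRing 𝒜] :
    topologicalKrullDim ↥(Proj 𝒜) = Order.krullDim (ProjectiveSpectrum 𝒜) := by
  letI := specializationOrder (Proj 𝒜)
  rw [show topologicalKrullDim (Proj 𝒜) = Order.krullDim (Proj 𝒜) from
    Order.krullDim_eq_of_orderIso (irreducibleSetEquivPoints (α := Proj 𝒜))]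
  rw [← Order.krullDim_orderDual (α := ProjectiveSpectrum 𝒜)]
  refine Order.krullDim_eq_of_orderIso
    { toEquiv := (toPS 𝒜).trans OrderDual.toDual
      map_rel_iff' := ?_ }
  intro x y
  exact toPS_le 𝒜 x y

open AlgebraicGeometry in
theorem upper (k : Type u) [Field k] (n : ℕ) :
    Order.krullDim (ProjectiveSpectrum (CohB1.polyGrading n k)) ≤ (n : WithBot ℕ∞) := by
  have hirr : (HomogeneousIdeal.irrelevant (CohB1.polyGrading n k)).toIdeal.IsPrime := by
    rw [HomogeneousIdeal.toIdeal_irrelevant]; exact RingHom.ker_isPrime _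
  let top : PrimeSpectrum (MvPolynomial (Fin (n+1)) k) := ⟨_, hirr⟩
  let g : ProjectiveSpectrum (CohB1.polyGrading n k) →
      PrimeSpectrum (MvPolynomial (Fin (n+1)) k) :=
    fun x => ⟨x.asHomogeneousIdeal.toIdeal, x.isPrime⟩
  have hg : StrictMono g := by
    intro x y hxy
    exact hxy
  have hle : ∀ x, g x ≤ top := by
    intro x p hp
    show p ∈ (HomogeneousIdeal.irrelevant (CohB1.polyGrading n k))
    rw [HomogeneousIdeal.mem_irrelevant_iff, GradedRing.proj_apply]
    have h0 : ((DirectSum.decompose (CohB1.polyGrading n k) p 0 :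
        CohB1.polyGrading n k 0) : MvPolynomial (Fin (n+1)) k) ∈
        x.asHomogeneousIdeal.toIdeal := x.asHomogeneousIdeal.isHomogeneous 0 hp
    have h1 : ((DirectSum.decompose (CohB1.polyGrading n k) p 0 :
        CohB1.polyGrading n k 0) : MvPolynomial (Fin (n+1)) k).IsHomogeneous 0 :=
      (DirectSum.decompose (CohB1.polyGrading n k) p 0).2
    rw [← MvPolynomial.totalDegree_zero_iff_isHomogeneous,
      MvPolynomial.totalDegree_eq_zero_iff_eq_C] at h1
    by_contra hne
    have hc : MvPolynomial.coeff 0 ((DirectSum.decompose (CohB1.polyGrading n k) p 0 :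
        CohB1.polyGrading n k 0) : MvPolynomial (Fin (n+1)) k) ≠ 0 := by
      intro h
      rw [h, map_zero] at h1
      exact hne h1
    have hu : IsUnit ((DirectSum.decompose (CohB1.polyGrading n k) p 0 :
        CohB1.polyGrading n k 0) : MvPolynomial (Fin (n+1)) k) := by
      rw [h1]
      exact (IsUnit.mk0 _ hc).map MvPolynomial.C
    exact x.isPrime.ne_top (Ideal.eq_top_of_isUnit_mem _ h0 hu)
  have hlt : ∀ x, g x < top := by
    intro x
    refine lt_of_le_of_ne (hle x) ?_
    intro h
    apply x.not_irrelevant_le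
    intro p hp
    have : p ∈ (g x).asIdeal := by rw [h]; exact hp
    exact this
  have hdim : ringKrullDim (MvPolynomial (Fin (n+1)) k) = ((n + 1 : ℕ) : WithBot ℕ∞) := by
    rw [MvPolynomial.ringKrullDim_of_isNoetherianRing, ringKrullDim_eq_zero_of_field]
    simp
  refine iSup_le fun s => ?_
  have h1 := Order.LTSeries.length_le_krullDim ((s.map g hg).snoc top (hlt _))
  have h2 : Order.krullDim (PrimeSpectrum (MvPolynomial (Fin (n+1)) k)) =
      ((n + 1 : ℕ) : WithBot ℕ∞) := hdim
  rw [h2] at h1
  have h3 : s.length + 1 ≤ n + 1 := by exact_mod_cast h1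
  have h4 : s.length ≤ n := by omega
  exact_mod_cast h4

open AlgebraicGeometry in
theorem lower (k : Type u) [Field k] (n : ℕ) :
    (n : WithBot ℕ∞) ≤ Order.krullDim (ProjectiveSpectrum (CohB1.polyGrading n k)) := by
  let φ : ℕ → MvPolynomial (Fin (n+1)) k →ₐ[k] MvPolynomial (Fin (n+1)) k := fun j =>
    MvPolynomial.aeval (fun i : Fin (n+1) => if i.val < j then 0 else MvPolynomial.X i)
  have hφX : ∀ j i, φ j (MvPolynomial.X i) = if i.val < j then 0 else MvPolynomial.X i :=
    fun j i => MvPolynomial.aeval_X _ _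
  have hφhom : ∀ j d p, p ∈ CohB1.polyGrading n k d → φ j p ∈ CohB1.polyGrading n k d := by
    intro j d p hp
    have := MvPolynomial.IsHomogeneous.aeval (S := k) (n := 1) (MvPolynomial.mem_homogeneousSubmodule d p |>.mp hp)
      (fun i : Fin (n+1) => if i.val < j then 0 else MvPolynomial.X i)
      (fun i => by
        split_ifs
        · exact MvPolynomial.isHomogeneous_zero _ _ _
        · exact MvPolynomial.isHomogeneous_X _ _)
    rw [one_mul] at this
    exact (MvPolynomial.mem_homogeneousSubmodule d _).mpr this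
  have hdec : ∀ j (p : MvPolynomial (Fin (n+1)) k) (d : ℕ),
      ((DirectSum.decompose (CohB1.polyGrading n k) (φ j p) d : CohB1.polyGrading n k d) :
        MvPolynomial (Fin (n+1)) k) =
      φ j ((DirectSum.decompose (CohB1.polyGrading n k) p d : CohB1.polyGrading n k d) :
        MvPolynomial (Fin (n+1)) k) := by
    intro j p d
    induction p using DirectSum.Decomposition.inductionOn (CohB1.polyGrading n k) with
    | zero => simp
    | @homogeneous i m =>
      by_cases hid : d = i
      · subst hid
        rw [DirectSum.decompose_of_mem_same _ (hφhom j d m m.2),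
          DirectSum.decompose_of_mem_same _ m.2]
      · rw [DirectSum.decompose_of_mem_ne _ (hφhom j i m m.2) (Ne.symm hid),
          DirectSum.decompose_of_mem_ne _ m.2 (Ne.symm hid), map_zero]
    | add a b ha hb =>
      rw [map_add, DirectSum.decompose_add, DirectSum.decompose_add, DirectSum.add_apply,
        DirectSum.add_apply, Submodule.coe_add, Submodule.coe_add, map_add, ha, hb]
  have hhom : ∀ j, Ideal.IsHomogeneous (CohB1.polyGrading n k) (RingHom.ker (φ j)) := by
    intro j d p hp
    rw [RingHom.mem_ker] at hp ⊢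
    rw [← hdec, hp, DirectSum.decompose_zero]
    rfl
  have hcomp : ∀ a b : ℕ, a ≤ b → ∀ p, φ b (φ a p) = φ b p := by
    intro a b hab p
    have : (φ b).comp (φ a) = φ b := by
      apply MvPolynomial.algHom_ext
      intro i
      rw [AlgHom.comp_apply, hφX a i, hφX b i]
      by_cases hia : i.val < a
      · rw [if_pos hia, if_pos (lt_of_lt_of_le hia hab), map_zero]
      · rw [if_neg hia, hφX b i]
    exact congrArg (fun f => f p) this
  have hXne : ∀ i : Fin (n+1), (MvPolynomial.X i : MvPolynomial (Fin (n+1)) k) ≠ 0 :=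
    fun i => MvPolynomial.X_ne_zero i
  have hnot : ∀ j, j ≤ n → ¬ HomogeneousIdeal.irrelevant (CohB1.polyGrading n k) ≤
      (⟨RingHom.ker (φ j), hhom j⟩ : HomogeneousIdeal (CohB1.polyGrading n k)) := by
    intro j hj h
    have h1 : (MvPolynomial.X (Fin.last n) : MvPolynomial (Fin (n+1)) k) ∈
        HomogeneousIdeal.irrelevant (CohB1.polyGrading n k) :=
      HomogeneousIdeal.mem_irrelevant_of_mem _ one_pos
        ((MvPolynomial.mem_homogeneousSubmodule 1 _).mpr (MvPolynomial.isHomogeneous_X _ _))
    have h2 : φ j (MvPolynomial.X (Fin.last n)) = 0 := h h1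
    rw [hφX, if_neg (by simp; omega)] at h2
    exact hXne _ h2
  let pt : Fin (n+1) → ProjectiveSpectrum (CohB1.polyGrading n k) := fun j =>
    ⟨⟨RingHom.ker (φ j.val), hhom j.val⟩, RingHom.ker_isPrime _, hnot j.val (by omega)⟩
  have hmono : StrictMono pt := by
    intro a b hab
    have hab' : a.val < b.val := hab
    show RingHom.ker (φ a.val) < RingHom.ker (φ b.val)
    refine lt_of_le_of_ne ?_ ?_
    · intro p hp
      rw [RingHom.mem_ker] at hp ⊢
      rw [← hcomp a.val b.val hab'.le, hp, map_zero]
    · intro h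
      have h1 : (MvPolynomial.X a : MvPolynomial (Fin (n+1)) k) ∈ RingHom.ker (φ b.val) := by
        rw [RingHom.mem_ker, hφX, if_pos hab']
      rw [← h, RingHom.mem_ker, hφX, if_neg (lt_irrefl _)] at h1
      exact hXne _ h1
  exact Order.LTSeries.length_le_krullDim (LTSeries.mk n pt hmono)

/-- For a field k and a natural number n, projective n-space over k (Proj of the polynomial ring in n +
1 variables graded by degree) has Krull dimension n as a topological space. (The published statement
also gives affine n-space dimension n; that half is the Krull dimension of a polynomial ring and is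
not restated here.) -/
theorem result (k : Type u) [Field k] (n : ℕ) :
    topologicalKrullDim ↥(CohB1.ProjSpace n k) = (n : WithBot ℕ∞) := by
  show topologicalKrullDim ↥(Proj (CohB1.polyGrading n k)) = (n : WithBot ℕ∞)
  rw [topDim_proj]
  exact le_antisymm (upper k n) (lower k n)

end Groth.Agent.S10829
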