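import Groth.Statements.S1083
import Groth.Agent.Lib.Helper22.FilDInj
import Groth.Agent.S1085

set_option autoImplicit false
universe v u
open CategoryTheory CategoryTheory.Limits Opposite
open FilD

open Groth.Agent.Helper22.FilDCore Groth.Agent.Helper22.FilDInj CategoryTheory.Limits Opposite

namespace Groth.Agent.S1083

/-- Recursion state for the null-homotopy. -/
abbrev St {A : Type u} [Category.{v} A] [Abelian A] {K I : CochainComplex (FilD.FilF A) ℤ}
    (φ : K ⟶ I) (n : ℤ) : Type v :=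
  { H : K.X (n + 1) ⟶ I.X n // K.d n (n + 1) ≫ (φ.f (n + 1) - H ≫ I.d n (n + 1)) = 0 }

/-- Let A be an abelian category, K a filtered acyclic complex of finite filtered objects and I a
bounded below complex of filtered injective objects. Every morphism of complexes K ⟶ I is homotopic
to zero. -/
theorem result {A : Type u} [Category.{v} A] [Abelian A] (K I : CochainComplex (FilD.FilF A) ℤ)
    (hK : FilD.IsFilteredAcyclic K) (a : ℤ) [I.IsStrictlyGE a] (hI : ∀ n, FilD.IsFilteredInjective (I.X n)) (φ : K ⟶ I) :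
    Nonempty (Homotopy φ 0) := by
  -- graded exactness of consecutive differentials
  have hsc : ∀ (i j k : ℤ) (hij : i + 1 = j) (hjk : j + 1 = k) (p : ℤ),
      ((ShortComplex.mk (K.d i j) (K.d j k) (K.d_comp_d i j k)).map (FilD.grF A p)).Exact := by
    intro i j k hij hjk p
    have h := (HomologicalComplex.exactAt_iff' ((FilD.grCx p).obj K) i j k
      (by simp; omega) (by simp; omega)).1 (hK p j)
    exact h
  have hIz : ∀ m, m < a → IsZero (I.X m) := fun m hm => I.isZero_of_isStrictlyGE a m hm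
  -- the step
  have step : ∀ (n₀ n₁ n₂ : ℤ) (h01 : n₀ + 1 = n₁) (h12 : n₁ + 1 = n₂) (H₀ : K.X n₁ ⟶ I.X n₀),
      K.d n₀ n₁ ≫ (φ.f n₁ - H₀ ≫ I.d n₀ n₁) = 0 →
      ∃ H₁ : K.X n₂ ⟶ I.X n₁, φ.f n₁ = K.d n₁ n₂ ≫ H₁ + H₀ ≫ I.d n₀ n₁ := by
    intro n₀ n₁ n₂ h01 h12 H₀ hZ
    obtain ⟨hex, -, hstr⟩ := Groth.Agent.S1085.result
      (ShortComplex.mk (K.d n₀ n₁) (K.d n₁ n₂) (K.d_comp_d n₀ n₁ n₂)) (hsc n₀ n₁ n₂ h01 h12)
    have hex' : ∀ (p : ℤ) ⦃T : A⦄ (x : T ⟶ (K.X n₁).obj.obj (op p)),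
        x ≫ (K.d n₁ n₂).hom.app (op p) = 0 →
        ∃ (T' : A) (π : T' ⟶ T) (_ : Epi π) (x' : T' ⟶ (K.X n₀).obj.obj (op p)),
          π ≫ x = x' ≫ (K.d n₀ n₁).hom.app (op p) := fun p =>
      (ShortComplex.exact_iff_exact_up_to_refinements _).1 (hex p)
    obtain ⟨h, hh⟩ := exists_extension (K.d n₁ n₂) hstr (hI n₁) (φ.f n₁ - H₀ ≫ I.d n₀ n₁) (by
      intro p T x hx
      obtain ⟨T', π, hπ, x', hx'⟩ := hex' p x hx
      have hZp := congrArg (fun t => t.hom.app (op p)) hZ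
      have hZp' : (K.d n₀ n₁).hom.app (op p) ≫ (φ.f n₁ - H₀ ≫ I.d n₀ n₁).hom.app (op p) = 0 :=
        hZp
      rw [← cancel_epi π, ← Category.assoc, hx', Category.assoc, hZp', comp_zero, comp_zero])
    exact ⟨h, by rw [hh]; abel⟩
  -- the recursion
  have hφ0 : ∀ m, m < a → φ.f m = 0 := fun m hm => (hIz m hm).eq_of_tgt _ _
  have zeroSt : ∀ n, n < a → K.d n (n + 1) ≫ (φ.f (n + 1) - (0 : K.X (n + 1) ⟶ I.X n) ≫
      I.d n (n + 1)) = 0 := by
    intro n hn
    rw [zero_comp, sub_zero, ← φ.comm, hφ0 n hn, zero_comp]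
  have next : ∀ n (s : St φ n), ∃ H₁ : K.X (n + 1 + 1) ⟶ I.X (n + 1),
      φ.f (n + 1) = K.d (n + 1) (n + 1 + 1) ≫ H₁ + s.1 ≫ I.d n (n + 1) ∧
      K.d (n + 1) (n + 1 + 1) ≫ (φ.f (n + 1 + 1) - H₁ ≫ I.d (n + 1) (n + 1 + 1)) = 0 := by
    intro n s
    obtain ⟨H₁, e⟩ := step n (n + 1) (n + 1 + 1) rfl rfl s.1 s.2
    refine ⟨H₁, e, ?_⟩
    rw [Preadditive.comp_sub, sub_eq_zero, ← φ.comm, e, Preadditive.add_comp, Category.assoc,
      Category.assoc, I.d_comp_d, comp_zero, add_zero]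
  let G : ∀ n : ℤ, St φ n := fun n =>
    Int.inductionOn' (motive := St φ) n (a - 1) ⟨0, zeroSt (a - 1) (by omega)⟩
      (fun k _ s => ⟨(next k s).choose, (next k s).choose_spec.2⟩)
      (fun k _ _ => ⟨0, zeroSt (k - 1) (by omega)⟩)
  have hG : ∀ k, a - 1 ≤ k →
      φ.f (k + 1) = K.d (k + 1) (k + 1 + 1) ≫ (G (k + 1)).1 + (G k).1 ≫ I.d k (k + 1) := by
    intro k hk
    have e : G (k + 1) = ⟨(next k (G k)).choose, (next k (G k)).choose_spec.2⟩ :=
      Int.inductionOn'_add_one hk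
    rw [e]
    exact (next k (G k)).choose_spec.1
  refine ⟨{
    hom := fun i j => if h : j + 1 = i then eqToHom (congrArg K.X h.symm) ≫ (G j).1 else 0
    zero := ?_
    comm := ?_ }⟩
  · intro i j hij
    have : ¬ (j + 1 = i) := hij
    rw [dif_neg this]
  · intro i
    by_cases hi : i < a
    · exact (hIz i hi).eq_of_tgt _ _
    · obtain ⟨k, rfl⟩ : ∃ k, i = k + 1 := ⟨i - 1, by omega⟩
      rw [dNext_eq _ (show (ComplexShape.up ℤ).Rel (k + 1) (k + 1 + 1) from rfl),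
        prevD_eq _ (show (ComplexShape.up ℤ).Rel k (k + 1) from rfl)]
      simp only [dif_pos, eqToHom_refl, Category.id_comp, HomologicalComplex.zero_f, add_zero]
      exact hG k (by omega)

end Groth.Agent.S1083
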