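import Groth.Statements.S10830

set_option autoImplicit false
universe u
open Topology TopologicalSpace
open TopDim

namespace Groth.Agent.S10830

/-- In an irreducible topological space X of finite Krull dimension, every proper closed subset Y has
strictly smaller Krull dimension than X. -/
theorem result (X : Type u) [TopologicalSpace X]
    [IrreducibleSpace X] (hfin : topologicalKrullDim X ≠ ⊤) (Y : Set X) (hY : IsClosed Y) (hYX : Y ≠ Set.univ) :
    topologicalKrullDim ↥Y < topologicalKrullDim X := by
  have hXne : Nonempty (IrreducibleCloseds X) :=
    ⟨⟨Set.univ, IrreducibleSpace.isIrreducible_univ X, isClosed_univ⟩⟩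
  have h0 : (0 : WithBot ℕ∞) ≤ topologicalKrullDim X := Order.krullDim_nonneg
  by_cases hne : Nonempty (IrreducibleCloseds Y)
  swap
  · rw [not_nonempty_iff] at hne
    have : topologicalKrullDim ↥Y = ⊥ := Order.krullDim_eq_bot
    rw [this]
    exact lt_of_lt_of_le (WithBot.bot_lt_coe _) h0
  · -- strict mono map from WithTop
    let g : WithTop (IrreducibleCloseds Y) → IrreducibleCloseds X := fun z =>
      z.recTopCoe ⟨Set.univ, IrreducibleSpace.isIrreducible_univ X, isClosed_univ⟩
        (fun z => IrreducibleCloseds.map Subtype.val continuous_subtype_val z)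
    have hg : StrictMono g := by
      rw [WithTop.strictMono_iff]
      refine ⟨fun a b hab => IrreducibleCloseds.map_strictMono_of_isInducing IsInducing.subtypeVal hab, fun z => ?_⟩
      change IrreducibleCloseds.map Subtype.val continuous_subtype_val z < ⟨Set.univ, _, _⟩
      rw [← SetLike.coe_ssubset_coe]
      refine ⟨Set.subset_univ _, fun h => hYX ?_⟩
      have h1 : (IrreducibleCloseds.map Subtype.val continuous_subtype_val z : Set X) ⊆ Y := by
        rw [IrreducibleCloseds.coe_map]
        refine closure_minimal ?_ hY
        rintro _ ⟨y, -, rfl⟩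
        exact y.2
      exact Set.eq_univ_of_univ_subset (h.trans h1)
    have h1 := Order.krullDim_le_of_strictMono g hg
    rw [Order.krullDim_WithTop] at h1
    change topologicalKrullDim ↥Y + 1 ≤ topologicalKrullDim X at h1
    have h2 : topologicalKrullDim ↥Y ≠ ⊤ := fun h => hfin (top_le_iff.mp (h ▸ topologicalKrullDim_subspace_le X Y))
    have h3 : (0 : WithBot ℕ∞) ≤ topologicalKrullDim ↥Y := Order.krullDim_nonneg
    refine lt_of_lt_of_le ?_ h1
    generalize topologicalKrullDim ↥Y = d at h2 h3 ⊢
    induction d with
    | bot => simp at h3
    | coe d =>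
      induction d with
      | top => exact absurd rfl h2
      | coe n => 
        norm_cast
        exact Nat.lt_succ_self n

end Groth.Agent.S10830
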