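import Groth.Statements.S10831

set_option autoImplicit false
universe u
open Topology TopologicalSpace
open TopDim

namespace Groth.Agent.S10831

theorem helper_preirr {X : Type u} [TopologicalSpace X] (Z V : Set X) (hVZ : V ⊆ Z)
    (hV : IsPreirreducible V) : IsPreirreducible (Subtype.val ⁻¹' V : Set Z) := by
  rintro _ _ ⟨u, hu, rfl⟩ ⟨v, hv, rfl⟩ ⟨⟨x, hxs⟩, hxV, hxu⟩ ⟨⟨y, hys⟩, hyV, hyv⟩
  rcases hV u v hu hv ⟨x, hxV, hxu⟩ ⟨y, hyV, hyv⟩ with ⟨w, hwV, hwu, hwv⟩
  exact ⟨⟨w, hVZ hwV⟩, hwV, hwu, hwv⟩


/-- The Krull dimension of a topological space is the supremum of the Krull dimensions of its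
irreducible components. -/
theorem result (X : Type u) [TopologicalSpace X] :
    topologicalKrullDim X = ⨆ Y ∈ irreducibleComponents X, topologicalKrullDim ↥Y := by
  apply le_antisymm
  · unfold topologicalKrullDim
    rw [Order.krullDim]
    apply iSup_le
    intro p
    obtain ⟨Z, hZ, hpZ⟩ := exists_mem_irreducibleComponents_subset_of_isIrreducible
      (p.last : Set X) p.last.isIrreducible
    refine le_trans ?_ (le_iSup₂ (f := fun Y (_ : Y ∈ irreducibleComponents X) => Order.krullDim (IrreducibleCloseds ↥Y)) Z hZ)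
    have hsub : ∀ i, (p i : Set X) ⊆ Z := fun i =>
      (SetLike.coe_subset_coe.mpr (p.monotone (Fin.le_last i))).trans hpZ
    let q : LTSeries (IrreducibleCloseds ↥Z) := LTSeries.mk p.length
      (fun i => ⟨Subtype.val ⁻¹' (p i : Set X),
        ⟨by
          obtain ⟨x, hx⟩ := (p i).isIrreducible.nonempty
          exact ⟨⟨x, hsub i hx⟩, hx⟩,
         helper_preirr Z _ (hsub i) (p i).isIrreducible.isPreirreducible⟩,
        (p i).isClosed.preimage continuous_subtype_val⟩)
      (by
        intro i j hij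
        have h1 := p.strictMono hij
        rw [← SetLike.coe_ssubset_coe] at h1 ⊢
        refine ⟨?_, fun h => h1.2 ?_⟩
        · intro x hx
          exact h1.1 hx
        · intro x hx
          exact h (show (⟨x, hsub j hx⟩ : Z) ∈ Subtype.val ⁻¹' (p j : Set X) from hx))
    exact Order.LTSeries.length_le_krullDim q
  · exact iSup₂_le fun Y _ => topologicalKrullDim_subspace_le X Y

end Groth.Agent.S10831
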