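import Groth.Statements.S10832
import Mathlib

set_option autoImplicit false
universe u
open CategoryTheory AlgebraicGeometry Topology
open Variety

namespace Groth.Agent.S10832

/-- For a nonempty scheme X of finite type over a field k the following are equivalent: X has Krull
dimension 0; X is affine with ring of global sections finite over k and equal to the product of all
its local rings via the germ maps; the underlying space of X is discrete; the underlying space of X
is finite. -/
theorem result (k : Type u) [Field k] {X : Scheme.{u}} [Nonempty X]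
    (f : X ⟶ Spec (CommRingCat.of k)) [LocallyOfFiniteType f] [QuasiCompact f] :
    [topologicalKrullDim ↥X = 0,
      IsAffine X ∧ f.appTop.hom.Finite ∧
        Function.Bijective (fun s : Γ(X, ⊤) => fun x : X => X.presheaf.germ ⊤ x trivial s),
      DiscreteTopology ↥X,
      Finite ↥X].TFAE := by
  haveI : JacobsonSpace X := LocallyOfFiniteType.jacobsonSpace f
  haveI : IsLocallyNoetherian X := LocallyOfFiniteType.isLocallyNoetherian f
  haveI : CompactSpace X := QuasiCompact.compactSpace_of_compactSpace f
  tfae_have 1 → 3 := by
    intro h
    haveI : IsLocallyArtinian X := IsLocallyArtinian.of_topologicalKrullDim_le_zero h.le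
    infer_instance
  tfae_have 3 → 4 := by
    intro h
    haveI := h
    exact finite_of_compact_of_discrete
  tfae_have 4 → 1 := by
    intro h
    haveI := h
    haveI : DiscreteTopology X := inferInstance
    apply le_antisymm (topologicalKrullDim_zero_of_discreteTopology X)
    obtain ⟨x⟩ : Nonempty X := inferInstance
    haveI : Nonempty (TopologicalSpace.IrreducibleCloseds X) :=
      ⟨⟨closure {x}, isIrreducible_singleton.closure, isClosed_closure⟩⟩
    exact Order.krullDim_nonneg
  tfae_have 3 → 2 := by
    intro hd
    haveI := hd
    haveI : Finite X := finite_of_compact_of_discrete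
    haveI : IsAffine X := inferInstance
    haveI : IsLocallyArtinian X := IsLocallyArtinian.of_isLocallyNoetherian_of_discreteTopology
    haveI : IsArtinianRing Γ(X, ⊤) := inferInstance
    refine ⟨inferInstance, ?_, ?_⟩
    · let ψ : CommRingCat.of k ⟶ Γ(X, ⊤) := (Scheme.ΓSpecIso (CommRingCat.of k)).inv ≫ f.appTop
      letI : Algebra k Γ(X, ⊤) := ψ.hom.toAlgebra
      haveI : Algebra.FiniteType k Γ(X, ⊤) := by
        have h1 : f.appTop.hom.FiniteType :=
          (HasRingHomProperty.iff_of_isAffine (P := @LocallyOfFiniteType)).mp inferInstance
        have h2 : (Scheme.ΓSpecIso (CommRingCat.of k)).inv.hom.FiniteType :=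
          RingHom.FiniteType.of_surjective _
            ((ConcreteCategory.bijective_of_isIso
              (Scheme.ΓSpecIso (CommRingCat.of k)).inv).surjective)
        exact h1.comp h2
      haveI : Module.Finite k Γ(X, ⊤) := Module.finite_of_isArtinianRing k Γ(X, ⊤)
      have hψ : ψ.hom.Finite := ‹Module.Finite k Γ(X, ⊤)›
      have h3 : (Scheme.ΓSpecIso (CommRingCat.of k)).hom.hom.Finite :=
        RingHom.Finite.of_surjective _
          ((ConcreteCategory.bijective_of_isIso
            (Scheme.ΓSpecIso (CommRingCat.of k)).hom).surjective)
      have heq : f.appTop = (Scheme.ΓSpecIso (CommRingCat.of k)).hom ≫ ψ := by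
        simp [ψ]
      rw [heq, CommRingCat.hom_comp]
      exact hψ.comp h3
    · constructor
      · intro s t hst
        apply TopCat.Presheaf.section_ext X.sheaf ⊤ s t
        intro x hx
        exact congrFun hst x
      · intro a
        let W : X → X.Opens := fun x => ⟨{x}, isOpen_discrete _⟩
        have hxW : ∀ x, x ∈ W x := fun x => Set.mem_singleton x
        have hW : ∀ x y, y ∈ W x → y = x := fun x y h => h
        have hloc : ∀ x, ∃ s : Γ(X, W x), X.presheaf.germ (W x) x (hxW x) s = a x := by
          intro x
          obtain ⟨V, hxV, s, hs⟩ := X.presheaf.exists_germ_eq (a x)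
          have hle : W x ≤ V := by
            intro y hy
            rw [hW x y hy]; exact hxV
          refine ⟨X.presheaf.map (homOfLE hle).op s, ?_⟩
          have e := TopCat.Presheaf.germ_res_apply X.presheaf (homOfLE hle) x (hxW x) s
          exact e.trans hs
        choose b hb using hloc
        have hcompat : TopCat.Presheaf.IsCompatible X.presheaf W b := by
          intro x y
          apply TopCat.Presheaf.section_ext X.sheaf
          intro z hz
          have h1 : z = x := hW x z hz.1
          have h2 : z = y := hW y z hz.2
          have e1 := TopCat.Presheaf.germ_res_apply X.presheaf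
            (TopologicalSpace.Opens.infLELeft (W x) (W y)) z hz (b x)
          have e2 := TopCat.Presheaf.germ_res_apply X.presheaf
            (TopologicalSpace.Opens.infLERight (W x) (W y)) z hz (b y)
          refine e1.trans (Eq.trans ?_ e2.symm)
          subst h1
          subst h2
          rfl
        obtain ⟨s, hs, -⟩ := TopCat.Sheaf.existsUnique_gluing' X.sheaf W ⊤
          (fun x => homOfLE le_top) (fun x _ => TopologicalSpace.Opens.mem_iSup.mpr ⟨x, hxW x⟩)
          b hcompat
        refine ⟨s, ?_⟩
        funext x
        have h1 : (X.presheaf.map (homOfLE le_top : W x ⟶ ⊤).op).hom s = b x := hs x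
        have e2 := TopCat.Presheaf.germ_res_apply X.presheaf
          (homOfLE le_top : W x ⟶ ⊤) x (hxW x) s
        show X.presheaf.germ ⊤ x trivial s = a x
        rw [← hb x, ← h1]
        exact e2.symm
  tfae_have 2 → 4 := by
    rintro ⟨hA, hfin, -⟩
    haveI := hA
    letI : Algebra Γ(Spec (CommRingCat.of k), ⊤) Γ(X, ⊤) := f.appTop.hom.toAlgebra
    haveI : Module.Finite Γ(Spec (CommRingCat.of k), ⊤) Γ(X, ⊤) := hfin
    haveI : IsLocallyArtinian (Spec (CommRingCat.of k)) :=
      Scheme.isLocallyArtinianScheme_Spec.mpr (inferInstanceAs (IsArtinianRing k))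
    haveI : IsArtinianRing Γ(Spec (CommRingCat.of k), ⊤) := inferInstance
    haveI : IsArtinianRing Γ(X, ⊤) :=
      IsArtinianRing.of_finite Γ(Spec (CommRingCat.of k), ⊤) Γ(X, ⊤)
    haveI : Finite (PrimeSpectrum Γ(X, ⊤)) := inferInstance
    haveI : Finite (Spec Γ(X, ⊤)) := ‹Finite (PrimeSpectrum Γ(X, ⊤))›
    exact Finite.of_equiv _ X.isoSpec.hom.homeomorph.symm.toEquiv
  tfae_finish

end Groth.Agent.S10832
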