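import Groth.Statements.S10834
import Mathlib
import Groth.Agent.S0601
import Groth.Agent.H29.RegLocal3
import Groth.Agent.H29.ReducedR0S1
import Groth.Agent.H13.Serre

set_option autoImplicit false
universe u
open CAlg

namespace Groth.Agent.S10834

open Groth.Agent.H29 IsLocalRing

/-- quotient of a regular local ring by an element of the maximal ideal is Cohen–Macaulay -/
theorem cm_quot (A : Type u) [CommRing A] [IsRegularLocalRing A] (x : A) (hx : x ∈ maximalIdeal A)
    [IsLocalRing (A ⧸ Ideal.span {x})] :
    ringKrullDim (A ⧸ Ideal.span {x}) =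
      ((LocCoh.depth (A ⧸ Ideal.span {x}) (A ⧸ Ideal.span {x}) : ℕ∞) : WithBot ℕ∞) := by
  haveI : IsDomain A := isDomain_of_isRegularLocalRing A
  have hCM := depth_self_eq_ringKrullDim_of_isRegularLocalRing A
  by_cases hx0 : x = 0
  · subst hx0
    have hbot : Ideal.span {(0 : A)} = ⊥ := by simp
    let e : (A ⧸ Ideal.span {(0 : A)}) ≃+* A :=
      (Ideal.quotEquivOfEq hbot).trans (RingEquiv.quotientBot A)
    rw [ringKrullDim_eq_of_ringEquiv e, Groth.Agent.H13.Serre.depth_self_of_ringEquiv e, hCM]
  · have hreg : IsSMulRegular A x := fun a b hab => mul_left_cancel₀ hx0 hab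
    have hdim := ringKrullDim_quotient_span_singleton_succ_eq_ringKrullDim hreg hx
    haveI : IsLocalHom (algebraMap A (A ⧸ Ideal.span {x})) :=
      IsLocalHom.of_surjective _ Ideal.Quotient.mk_surjective
    have h2 := depth_eq_depth_of_isLocalHom A (A ⧸ Ideal.span {x}) (A ⧸ Ideal.span {x})
    have h3 := depth_quotSMulTop_add_one A A x hx hreg
    have h4 : LocCoh.depth A (QuotSMulTop x A) = LocCoh.depth A (A ⧸ Ideal.span {x}) :=
      idealDepth_congr _ (quotSMulTopEquivQuotientSpan A x)
    apply withBot_add_one_cancel
    rw [hdim, ← hCM, ← h3, h4, h2]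
    rfl
theorem loc_quot_equiv (A : Type u) [CommRing A] (I : Ideal A) (p : Ideal (A ⧸ I)) [p.IsPrime] :
    Nonempty (Localization.AtPrime p ≃+*
      (Localization.AtPrime (p.comap (Ideal.Quotient.mk I))) ⧸
        I.map (algebraMap A (Localization.AtPrime (p.comap (Ideal.Quotient.mk I))))) := by
  set P := p.comap (Ideal.Quotient.mk I) with hP
  have hsub : Algebra.algebraMapSubmonoid (A ⧸ I) P.primeCompl = p.primeCompl := by
    ext b
    constructor
    · rintro ⟨a, ha, rfl⟩
      exact ha
    · intro hb
      obtain ⟨a, rfl⟩ := Ideal.Quotient.mk_surjective b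
      exact ⟨a, hb, rfl⟩
  have inst : IsLocalization (Algebra.algebraMapSubmonoid (A ⧸ I) P.primeCompl)
      ((Localization.AtPrime P) ⧸ I.map (algebraMap A (Localization.AtPrime P))) := inferInstance
  rw [hsub] at inst
  exact ⟨(IsLocalization.algEquiv p.primeCompl (Localization.AtPrime p)
      ((Localization.AtPrime P) ⧸ I.map (algebraMap A (Localization.AtPrime P)))).toRingEquiv⟩

/-- Let A be a Noetherian ring whose localizations at all prime ideals are regular local rings, and f an
element of A generating a prime ideal, so that A/(f) is an integral domain (an integral hypersurface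
in the regular affine scheme Spec A). Then A/(f) is normal (integrally closed in its fraction field)
if and only if it is regular in codimension 1, i.e. its localization at every prime at which the
local ring has dimension 1 is a regular local ring. -/
theorem result (A : Type u) [CommRing A]
    [IsNoetherianRing A] (hreg : ∀ (p : Ideal A) (_ : p.IsPrime), IsRegularLocalRing (Localization.AtPrime p))
    (f : A) (hf : (Ideal.span ({f} : Set A)).IsPrime) :
    IsIntegrallyClosed (A ⧸ Ideal.span ({f} : Set A)) ↔
      ∀ q : PrimeSpectrum (A ⧸ Ideal.span ({f} : Set A)),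
        ringKrullDim (Localization.AtPrime q.asIdeal) = 1 →
          IsRegularLocalRing (Localization.AtPrime q.asIdeal) := by
  set I := Ideal.span ({f} : Set A) with hI
  haveI := hf
  haveI : IsDomain (A ⧸ I) := Ideal.Quotient.isDomain I
  have hS := Groth.Agent.S0601.result (A ⧸ I)
  constructor
  · intro hic q hq
    have h1 : ∀ (p : Ideal (A ⧸ I)) [p.IsPrime], IsDomain (Localization.AtPrime p) ∧
        IsIntegrallyClosed (Localization.AtPrime p) := by
      intro p _
      refine ⟨inferInstance, ?_⟩
      exact isIntegrallyClosed_of_isLocalization (R := A ⧸ I) (S := Localization.AtPrime p)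
        p.primeCompl p.primeCompl_le_nonZeroDivisors
    obtain ⟨hR1, -⟩ := hS.1 h1
    haveI := q.isPrime
    apply hR1 q.asIdeal
    have e2 := IsLocalization.AtPrime.ringKrullDim_eq_height q.asIdeal (Localization.AtPrime q.asIdeal)
    rw [hq] at e2
    have e3 : ((q.asIdeal.height : ℕ∞) : WithBot ℕ∞) = ((1 : ℕ∞) : WithBot ℕ∞) := e2.symm
    have e4 := WithBot.coe_injective e3
    rw [e4]
    norm_num
  · intro h
    have hR1 : LocCoh.HasRk 1 (A ⧸ I) := by
      intro p _ hp
      by_cases h0 : p.height = 0
      · exact hasRk_zero_of_isReduced (A ⧸ I) p (by simp [h0])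
      · have h1 : p.height = 1 := by
          have hp' : p.height ≤ 1 := by exact_mod_cast hp
          exact le_antisymm hp' (Order.one_le_iff_ne_zero.2 h0)
        apply h ⟨p, inferInstance⟩
        rw [IsLocalization.AtPrime.ringKrullDim_eq_height p, h1]
        rfl
    have hS2 : LocCoh.HasSk 2 (A ⧸ I) (A ⧸ I) := by
      intro p _
      rw [supportDim_localizedModule_self, depth_localizedModule_self]
      suffices hcm : ringKrullDim (Localization.AtPrime p) =
          ((LocCoh.depth (Localization.AtPrime p) (Localization.AtPrime p) : ℕ∞) : WithBot ℕ∞) by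
        rw [← hcm]; exact min_le_right _ _
      set P := p.comap (Ideal.Quotient.mk I) with hP
      haveI hPprime : P.IsPrime := Ideal.comap_isPrime _ _
      haveI := hreg P hPprime
      obtain ⟨e⟩ := loc_quot_equiv A I p
      have hmap : I.map (algebraMap A (Localization.AtPrime P)) =
          Ideal.span {algebraMap A (Localization.AtPrime P) f} := by
        rw [hI, Ideal.map_span, Set.image_singleton]
      let e' : Localization.AtPrime p ≃+*
          (Localization.AtPrime P) ⧸ Ideal.span {algebraMap A (Localization.AtPrime P) f} :=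
        e.trans (Ideal.quotEquivOfEq hmap)
      haveI : IsLocalRing ((Localization.AtPrime P) ⧸
          Ideal.span {algebraMap A (Localization.AtPrime P) f}) := e'.isLocalRing
      have hfP : f ∈ P := by
        rw [hP, Ideal.mem_comap]
        have : Ideal.Quotient.mk I f = 0 := Ideal.Quotient.eq_zero_iff_mem.2 (Ideal.subset_span rfl)
        rw [this]; exact p.zero_mem
      have hfm : algebraMap A (Localization.AtPrime P) f ∈ maximalIdeal (Localization.AtPrime P) :=
        (IsLocalization.AtPrime.to_map_mem_maximal_iff (Localization.AtPrime P) P f).2 hfP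
      rw [ringKrullDim_eq_of_ringEquiv e', Groth.Agent.H13.Serre.depth_self_of_ringEquiv e']
      exact cm_quot (Localization.AtPrime P) _ hfm
    have hall := hS.2 ⟨hR1, hS2⟩
    exact IsIntegrallyClosed.of_localization_maximal fun p _ hpm =>
      haveI := hpm.isPrime
      (hall p).2

end Groth.Agent.S10834
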