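import Groth.Statements.S10836
import Mathlib

set_option autoImplicit false
universe u
open Coh

namespace Groth.Agent.S10836

open scoped TensorProduct

theorem semilocal_of_finite (A : Type u) [CommRing A] (Z : Set (PrimeSpectrum A)) (hZ : Z.Finite)
    (S : Submonoid A) (hS : ∀ s, s ∈ S ↔ ∀ p ∈ Z, s ∉ p.asIdeal) :
    Finite (MaximalSpectrum (Localization S)) := by
  classical
  haveI : Finite Z := hZ.to_subtype
  have key : ∀ m : MaximalSpectrum (Localization S),
      ∃ p ∈ Z, m.asIdeal.comap (algebraMap A (Localization S)) = p.asIdeal := by
    intro m
    haveI := m.isMaximal.isPrime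
    have hq := (IsLocalization.isPrime_iff_isPrime_disjoint S (Localization S) m.asIdeal).mp
      m.isMaximal.isPrime
    obtain ⟨hqprime, hqdisj⟩ := hq
    set q := m.asIdeal.comap (algebraMap A (Localization S)) with hqdef
    have hsub : (q : Set A) ⊆ ⋃ i ∈ (↑hZ.toFinset : Set (PrimeSpectrum A)), (i.asIdeal : Set A) := by
      intro x hx
      have hxS : x ∉ S := fun h => Set.disjoint_left.mp hqdisj h hx
      rw [hS] at hxS
      push Not at hxS
      obtain ⟨p, hp, hxp⟩ := hxS
      simp only [Set.mem_iUnion, Finset.mem_coe, Set.Finite.mem_toFinset]
      exact ⟨p, hp, hxp⟩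
    have hZne : Z.Nonempty := by
      by_contra hne
      rw [Set.not_nonempty_iff_eq_empty] at hne
      have h0 := hsub q.zero_mem
      simp [hne] at h0
    obtain ⟨p0, hp0⟩ := hZne
    rw [Ideal.subset_union_prime (f := fun i : PrimeSpectrum A => i.asIdeal) p0 p0
      (fun i _ _ _ => i.isPrime)] at hsub
    obtain ⟨p, hp, hqp⟩ := hsub
    rw [Set.Finite.mem_toFinset] at hp
    refine ⟨p, hp, ?_⟩
    have hpdisj : Disjoint (S : Set A) (p.asIdeal : Set A) := by
      rw [Set.disjoint_left]
      intro s hs hsp
      exact ((hS s).mp hs) p hp hsp
    have hp'prime : (p.asIdeal.map (algebraMap A (Localization S))).IsPrime :=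
      IsLocalization.isPrime_of_isPrime_disjoint S (Localization S) p.asIdeal p.isPrime hpdisj
    have hcomap : (p.asIdeal.map (algebraMap A (Localization S))).comap (algebraMap A (Localization S)) =
        p.asIdeal :=
      IsLocalization.comap_map_of_isPrime_disjoint S (Localization S) p.isPrime hpdisj
    have hle : m.asIdeal ≤ p.asIdeal.map (algebraMap A (Localization S)) := by
      rw [← IsLocalization.map_comap S (Localization S) m.asIdeal]
      exact Ideal.map_mono hqp
    have heq := m.isMaximal.eq_of_le hp'prime.ne_top hle
    rw [hqdef, heq, hcomap]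
  choose g hgZ hg using key
  apply Finite.of_injective (fun m => (⟨g m, hgZ m⟩ : Z))
  intro m m' h
  have h1 : g m = g m' := congrArg Subtype.val h
  apply MaximalSpectrum.ext
  rw [← IsLocalization.map_comap S (Localization S) m.asIdeal,
    ← IsLocalization.map_comap S (Localization S) m'.asIdeal, Ideal.under_def, Ideal.under_def,
    hg m, hg m', h1]

/-- Let A be a commutative ring, M a finitely generated projective A-module whose rank at every prime is
r, and Z a finite set of prime ideals of A. Then there is an element s of A outside every prime of Z
such that the localized module M_s has a basis of r elements over A_s. (The published statement is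
for a finite locally free module of constant rank r on a scheme and a finite set of points inside an
affine open Spec A, and produces a basic open D(s) containing the points on which the module is free
of rank r; its argument begins by replacing the scheme with Spec A, and this row states that case.) -/
theorem result (A : Type u) [CommRing A]
    (M : Type u) [AddCommGroup M] [Module A M] [Module.Finite A M] [Module.Projective A M] (r : ℕ)
    (hr : ∀ p : PrimeSpectrum A, Module.rankAtStalk M p = r)
    (Z : Set (PrimeSpectrum A)) (hZ : Z.Finite) :
    ∃ s : A, (∀ p ∈ Z, s ∉ p.asIdeal) ∧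
      Nonempty (Module.Basis (Fin r) (Localization.Away s) (LocalizedModule (Submonoid.powers s) M)) := by
  classical
  let S : Submonoid A := ⨅ p ∈ Z, p.asIdeal.primeCompl
  have hS : ∀ s, s ∈ S ↔ ∀ p ∈ Z, s ∉ p.asIdeal := by
    intro s
    simp only [S, Submonoid.mem_iInf]
    rfl
  haveI : Finite (MaximalSpectrum (Localization S)) := semilocal_of_finite A Z hZ S hS
  haveI : Module.Finite (Localization S) (LocalizedModule S M) :=
    Module.Finite.of_isLocalizedModule S (LocalizedModule.mkLinearMap S M)
  have hrk : ∀ P : MaximalSpectrum (Localization S),
      Module.finrank (Localization S ⧸ P.1) ((Localization S ⧸ P.1) ⊗[Localization S] LocalizedModule S M) = r := by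
    intro P
    haveI := P.isMaximal.isPrime
    letI := Ideal.Quotient.field P.1
    have h1 : Module.rankAtStalk (LocalizedModule S M) (⟨P.1, P.isMaximal.isPrime⟩ : PrimeSpectrum (Localization S)) = r := by
      rw [Module.rankAtStalk_isBaseChange
        ((isLocalizedModule_iff_isBaseChange S (Localization S) (LocalizedModule.mkLinearMap S M)).mp
          inferInstance), hr]
    rw [Module.rankAtStalk_eq] at h1
    rw [← h1]
    rw [← Module.finrank_baseChange (R := P.1.ResidueField) (S := Localization S ⧸ P.1)]
    exact (TensorProduct.AlgebraTensorModule.cancelBaseChange (Localization S) (Localization S ⧸ P.1)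
      P.1.ResidueField P.1.ResidueField (LocalizedModule S M)).finrank_eq
  obtain ⟨b⟩ := Module.nonempty_basis_of_flat_of_finrank_eq (Localization S) (LocalizedModule S M) r hrk
  haveI : Module.FinitePresentation A M := Module.finitePresentation_of_projective A M
  obtain ⟨s, hs, b', -⟩ := Module.FinitePresentation.exists_basis_localizedModule_powers S
    (LocalizedModule.mkLinearMap S M) (Localization S) b
  exact ⟨s, (hS s).mp hs, ⟨b'⟩⟩

end Groth.Agent.S10836
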