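import Groth.Statements.S10837
import Mathlib

set_option autoImplicit false
universe u
open CategoryTheory AlgebraicGeometry Topology
open Mor

namespace Groth.Agent.S10837

theorem hasGoingDown_of_isOpenMap {R S : Type u} [CommRing R] [CommRing S] [Algebra R S]
    (h : IsOpenMap (PrimeSpectrum.comap (algebraMap R S))) : Algebra.HasGoingDown R S where
  exists_ideal_le_liesOver_of_lt {p} _ Q _ hlt := by
    -- the multiplicative set
    let M : Submonoid S := Q.primeCompl ⊔ (p.primeCompl.map (algebraMap R S))
    have hdisj : Disjoint ((p.map (algebraMap R S) : Ideal S) : Set S) (M : Set S) := by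
      rw [Set.disjoint_left]
      rintro x hxI hxM
      obtain ⟨g, hg, z, hz, rfl⟩ := Submonoid.mem_sup.mp hxM
      obtain ⟨r, hr, rfl⟩ := hz
      -- openness: image of D(g) is open, contains comap Q, hence contains p
      have hopen := h _ (PrimeSpectrum.basicOpen g).isOpen
      have hmem : PrimeSpectrum.comap (algebraMap R S) ⟨Q, inferInstance⟩ ∈
          PrimeSpectrum.comap (algebraMap R S) '' (PrimeSpectrum.basicOpen g : Set (PrimeSpectrum S)) :=
        ⟨⟨Q, inferInstance⟩, hg, rfl⟩
      have hspec : (⟨p, inferInstance⟩ : PrimeSpectrum R) ⤳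
          PrimeSpectrum.comap (algebraMap R S) ⟨Q, inferInstance⟩ :=
        (PrimeSpectrum.le_iff_specializes _ _).mp hlt.le
      obtain ⟨qg, hqg, hqgp⟩ := hspec.mem_open hopen hmem
      have hqgp' : qg.asIdeal.comap (algebraMap R S) = p := by
        have := congrArg PrimeSpectrum.asIdeal hqgp
        simpa using this
      have hx : g * algebraMap R S r ∈ qg.asIdeal := by
        have hle : p.map (algebraMap R S) ≤ qg.asIdeal := by
          rw [Ideal.map_le_iff_le_comap, hqgp']
        exact hle hxI
      rcases qg.isPrime.mem_or_mem hx with h1 | h1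
      · exact hqg h1
      · have : r ∈ qg.asIdeal.comap (algebraMap R S) := h1
        rw [hqgp'] at this
        exact hr this
    obtain ⟨P, hP, hIP, hPM⟩ := Ideal.exists_le_prime_disjoint _ M hdisj
    refine ⟨P, ?_, hP, ⟨?_⟩⟩
    · intro x hx
      by_contra hxQ
      exact Set.disjoint_left.mp hPM hx (Submonoid.mem_sup_left (show x ∈ Q.primeCompl from hxQ))
    · apply le_antisymm
      · intro r hr
        exact hIP (Ideal.mem_map_of_mem _ hr)
      · intro r hr
        by_contra hrp
        exact Set.disjoint_left.mp hPM (show algebraMap R S r ∈ P from hr)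
          (Submonoid.mem_sup_right ⟨r, hrp, rfl⟩)

/-- For a morphism of schemes f : X → Y which is open as a map of topological spaces, generalizations
lift along f: every generalization of f(x) is the image of a generalization of x. -/
theorem result {X Y : Scheme.{u}} (f : X ⟶ Y) (hf : IsOpenMap f.base) :
    GeneralizingMap f.base := by
  change topologically GeneralizingMap f
  replace hf : topologically IsOpenMap f := hf
  wlog hY : ∃ R, Y = Spec R
  · rw [IsZariskiLocalAtTarget.iff_of_openCover (P := topologically GeneralizingMap) Y.affineCover]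
    intro i
    dsimp only [Scheme.Cover.pullbackHom]
    refine this _ ?_ ⟨_, rfl⟩
    exact IsZariskiLocalAtTarget.of_isPullback (P := topologically IsOpenMap)
      (iY := Y.affineCover.f i) (IsPullback.of_hasPullback ..) hf
  obtain ⟨R, rfl⟩ := hY
  wlog hX : ∃ S, X = Spec S
  · rw [IsZariskiLocalAtSource.iff_of_openCover (P := topologically GeneralizingMap) X.affineCover]
    intro i
    refine this _ _ ?_ ⟨_, rfl⟩
    exact IsZariskiLocalAtSource.comp (P := topologically IsOpenMap) hf _
  obtain ⟨S, rfl⟩ := hX
  obtain ⟨φ, rfl⟩ := Spec.map_surjective f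
  algebraize [φ.hom]
  have := hasGoingDown_of_isOpenMap (R := R) (S := S) hf
  rw [Algebra.HasGoingDown.iff_generalizingMap_primeSpectrumComap] at this
  exact this

end Groth.Agent.S10837
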