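import Groth.Statements.S10838
import Groth.Agent.S10837
import Mathlib

set_option autoImplicit false
universe u
open CategoryTheory AlgebraicGeometry Topology
open Mor

namespace Groth.Agent.S10838

theorem coheight_le_of_fibration {α β : Type*} [Preorder α] [Preorder β] (f : α → β)
    (hmono : Monotone f) (hfib : ∀ a b, f a ≤ b → ∃ a', a ≤ a' ∧ f a' = b) (a : α) :
    Order.coheight (f a) ≤ Order.coheight a := by
  suffices h : ∀ n : ℕ, ∀ a, (n : ℕ∞) ≤ Order.coheight (f a) → (n : ℕ∞) ≤ Order.coheight a by
    exact ENat.forall_natCast_le_iff_le.mp (fun n => h n a)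
  intro n
  induction n with
  | zero => intro a _; simp
  | succ n ih =>
    intro a ha
    have h1 : ¬ Order.coheight (f a) ≤ (n : ℕ∞) := by
      intro h
      have := ha.trans h
      norm_cast at this
      omega
    rw [Order.coheight_le_coe_iff] at h1
    push_neg at h1
    obtain ⟨y, hy, hny⟩ := h1
    obtain ⟨a', haa', rfl⟩ := hfib a y hy.le
    have hlt : a < a' := lt_of_le_not_ge haa' (fun h => (hmono h).not_gt hy)
    have := ih a' hny
    calc ((n + 1 : ℕ) : ℕ∞) = (n : ℕ∞) + 1 := by norm_cast
      _ ≤ Order.coheight a' + 1 := by gcongr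
      _ ≤ Order.coheight a := Order.coheight_add_one_le hlt

theorem krullDim_le_of_fibration {α β : Type*} [Preorder α] [Preorder β] (f : α → β)
    (hmono : Monotone f) (hfib : ∀ a b, f a ≤ b → ∃ a', a ≤ a' ∧ f a' = b)
    (hsurj : Function.Surjective f) : Order.krullDim β ≤ Order.krullDim α := by
  rw [Order.krullDim_eq_iSup_coheight]
  apply iSup_le
  intro b
  obtain ⟨a, rfl⟩ := hsurj b
  exact (WithBot.coe_le_coe.mpr (coheight_le_of_fibration f hmono hfib a)).trans
    (Order.coheight_le_krullDim a)

theorem topologicalKrullDim_le_of_generalizing {X Z : Type*} [TopologicalSpace X] [TopologicalSpace Z]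
    [QuasiSober X] [T0Space X] [QuasiSober Z] [T0Space Z] (f : X → Z) (hc : Continuous f)
    (hg : GeneralizingMap f) (hs : Function.Surjective f) :
    topologicalKrullDim Z ≤ topologicalKrullDim X := by
  letI := specializationOrder X
  letI := specializationOrder Z
  have hX : topologicalKrullDim X = Order.krullDim X :=
    Order.krullDim_eq_of_orderIso irreducibleSetEquivPoints
  have hZ : topologicalKrullDim Z = Order.krullDim Z :=
    Order.krullDim_eq_of_orderIso irreducibleSetEquivPoints
  rw [hX, hZ]
  refine krullDim_le_of_fibration f (fun a b h => h.map hc) ?_ hs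
  intro a b hab
  obtain ⟨a', ha', rfl⟩ := hg (show b ⤳ f a from hab)
  exact ⟨a', ha', rfl⟩

/-- For a morphism of schemes f : X → Y which is open as a map of topological spaces, the Krull
dimension of the image f(X) (with the subspace topology from Y) is at most the Krull dimension of X. -/
theorem result {X Y : Scheme.{u}} (f : X ⟶ Y) (hf : IsOpenMap f.base) :
    topologicalKrullDim ↥(Set.range f.base) ≤ topologicalKrullDim ↥X := by
  have hgen := Groth.Agent.S10837.result f hf
  haveI : QuasiSober ↥(Set.range f.base) :=
    (hf.isOpen_range.isOpenEmbedding_subtypeVal).quasiSober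
  refine topologicalKrullDim_le_of_generalizing (Set.rangeFactorization f.base)
    (f.continuous.subtype_mk _) ?_ Set.rangeFactorization_surjective
  intro x z hz
  have hz' : (z : Y) ⤳ f.base x := by
    have := hz.map continuous_subtype_val
    simpa using this
  obtain ⟨x', hx', hfx'⟩ := hgen hz'
  exact ⟨x', hx', Subtype.ext hfx'⟩

end Groth.Agent.S10838
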