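import Groth.Statements.S1084
import Groth.Agent.Lib.Helper22.FilDBiprod
import Groth.Agent.S1083
import Mathlib.Algebra.Homology.HomotopyCategory.Acyclic
import Mathlib.CategoryTheory.Triangulated.Orthogonal

set_option autoImplicit false
universe v u
open CategoryTheory CategoryTheory.Limits Opposite
open FilD

open Groth.Agent.Helper22.FilDBiprod CategoryTheory.Pretriangulated

namespace Groth.Agent.S1084

/-- Let A be an abelian category, I a bounded below complex of filtered injective objects, and α : K ⟶ L
a filtered quasi-isomorphism of complexes of finite filtered objects. Then precomposition with α is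
a bijection from homotopy classes of maps L ⟶ I to homotopy classes of maps K ⟶ I. -/
theorem result {A : Type u} [Category.{v} A] [Abelian A] (I : CochainComplex (FilD.FilF A) ℤ)
    (a : ℤ) [I.IsStrictlyGE a] (hI : ∀ n, FilD.IsFilteredInjective (I.X n))
    {K L : CochainComplex (FilD.FilF A) ℤ} (α : K ⟶ L) (hα : FilD.IsFilteredQuasiIso α) :
    Function.Bijective (fun β : (HomotopyCategory.quotient (FilD.FilF A) (ComplexShape.up ℤ)).obj L ⟶
        (HomotopyCategory.quotient (FilD.FilF A) (ComplexShape.up ℤ)).obj I =>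
      (HomotopyCategory.quotient (FilD.FilF A) (ComplexShape.up ℤ)).map α ≫ β) := by
  have hP_zero : ∀ (X : HomotopyCategory (FilD.FilF A) (ComplexShape.up ℤ)),
      (∀ p : ℤ, (HomotopyCategory.subcategoryAcyclic A).inverseImage
        ((FilD.grF A p).mapHomotopyCategory (ComplexShape.up ℤ)) X) →
      ∀ f : X ⟶ (HomotopyCategory.quotient (FilD.FilF A) (ComplexShape.up ℤ)).obj I, f = 0 := by
    intro X hX f
    obtain ⟨C, rfl⟩ := HomotopyCategory.quotient_obj_surjective X
    obtain ⟨g, rfl⟩ := (HomotopyCategory.quotient _ _).map_surjective f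
    have hC : FilD.IsFilteredAcyclic C := by
      intro p n
      have h1 : HomotopyCategory.subcategoryAcyclic A
          ((HomotopyCategory.quotient A (ComplexShape.up ℤ)).obj ((FilD.grCx p).obj C)) := hX p
      exact (HomotopyCategory.quotient_obj_mem_subcategoryAcyclic_iff_exactAt _).1 h1 n
    obtain ⟨h⟩ := Groth.Agent.S1083.result C I hC a hI g
    rw [HomotopyCategory.eq_of_homotopy _ _ h, Functor.map_zero]
  have hT := HomotopyCategory.mappingCone_triangleh_distinguished α
  have hcone : ∀ p : ℤ, (HomotopyCategory.subcategoryAcyclic A).inverseImage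
      ((FilD.grF A p).mapHomotopyCategory (ComplexShape.up ℤ))
      ((HomotopyCategory.quotient (FilD.FilF A) (ComplexShape.up ℤ)).obj
        (CochainComplex.mappingCone α)) := by
    intro p
    have h1 := ((HomotopyCategory.subcategoryAcyclic A).inverseImage
      ((FilD.grF A p).mapHomotopyCategory (ComplexShape.up ℤ))).trW_iff_of_distinguished _ hT
    have h2 := (HomotopyCategory.subcategoryAcyclic A).inverseImage_trW_iff
      ((FilD.grF A p).mapHomotopyCategory (ComplexShape.up ℤ))
      ((HomotopyCategory.quotient (FilD.FilF A) (ComplexShape.up ℤ)).map α)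
    refine h1.1 (h2.2 ?_)
    rw [← HomotopyCategory.quasiIso_eq_trW_subcategoryAcyclic]
    have h3 : HomotopyCategory.quasiIso A (ComplexShape.up ℤ)
        ((HomotopyCategory.quotient A (ComplexShape.up ℤ)).map ((FilD.grCx p).map α)) := by
      rw [HomotopyCategory.quotient_map_mem_quasiIso_iff, HomologicalComplex.mem_quasiIso_iff]
      exact hα p
    exact h3
  have hcone' : ∀ p : ℤ, (HomotopyCategory.subcategoryAcyclic A).inverseImage
      ((FilD.grF A p).mapHomotopyCategory (ComplexShape.up ℤ))
      (((HomotopyCategory.quotient (FilD.FilF A) (ComplexShape.up ℤ)).obj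
        (CochainComplex.mappingCone α))⟦(-1 : ℤ)⟧) := fun p =>
    ((HomotopyCategory.subcategoryAcyclic A).inverseImage
      ((FilD.grF A p).mapHomotopyCategory (ComplexShape.up ℤ))).le_shift (-1 : ℤ) _ (hcone p)
  constructor
  · intro β₁ β₂ h
    have h' : (HomotopyCategory.quotient (FilD.FilF A) (ComplexShape.up ℤ)).map α ≫ β₁ =
        (HomotopyCategory.quotient (FilD.FilF A) (ComplexShape.up ℤ)).map α ≫ β₂ := h
    have h0 : (HomotopyCategory.quotient (FilD.FilF A) (ComplexShape.up ℤ)).map α ≫
        (β₁ - β₂) = 0 := by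
      rw [Preadditive.comp_sub, sub_eq_zero]
      exact h'
    obtain ⟨γ, hγ⟩ := Triangle.yoneda_exact₂ _ hT (β₁ - β₂) h0
    have hγ0 : γ = 0 := hP_zero _ hcone γ
    have e : β₁ - β₂ = 0 := hγ.trans (by rw [hγ0]; exact comp_zero)
    exact sub_eq_zero.1 e
  · intro γ
    obtain ⟨β, hβ⟩ := Triangle.yoneda_exact₂ _ (inv_rot_of_distTriang _ hT) γ
      (hP_zero _ hcone' _)
    exact ⟨β, hβ.symm⟩

end Groth.Agent.S1084
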