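import Groth.Statements.S1618
import Mathlib
import Groth.Agent.S2143
import Groth.Agent.S1617
import Groth.Agent.Lib.Helper17.FieldBC

set_option autoImplicit false
universe u
open CategoryTheory CategoryTheory.Limits AlgebraicGeometry
open Variety

namespace Groth.Agent.S1618

theorem affine_claim (k A : Type u) [Field k] [CommRing A] [Algebra k A] [Algebra.FiniteType k A]
    [IrreducibleSpace (PrimeSpectrum A)] (W : Set (PrimeSpectrum A)) (hWo : IsOpen W)
    (hW : W.Nonempty) :
    ringKrullDim A ≤ topologicalKrullDim ↥W := by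
  classical
  haveI : IsNoetherianRing A := Algebra.FiniteType.isNoetherianRing k A
  haveI : IsJacobsonRing A := isJacobsonRing_of_finiteType (A := k)
  haveI hN : (nilradical A).IsPrime :=
    PrimeSpectrum.irreducibleSpace_iff_isPrime_nilradical.mp inferInstance
  obtain ⟨M, hMW, hMcl⟩ := nonempty_inter_closedPoints hW hWo.isLocallyClosed
  have hMmax : M.asIdeal.IsMaximal := (PrimeSpectrum.isClosed_singleton_iff_isMaximal M).mp hMcl
  haveI : QuasiSober ↥W := hWo.isOpenEmbedding_subtypeVal.quasiSober
  rw [Groth.Agent.S2143.topDim_sub]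
  refine le_trans ?_ (Groth.Agent.S2143.height_le_krullDim_open W hWo M hMW)
  have hNM : nilradical A ≤ M.asIdeal := nilradical_le_prime _
  haveI hm'max : (M.asIdeal.map (Ideal.Quotient.mk (nilradical A))).IsMaximal :=
    Ideal.IsMaximal.map_of_surjective_of_ker_le Ideal.Quotient.mk_surjective
      (by rw [Ideal.mk_ker]; exact hNM)
  have h2 := Groth.Agent.S2680.height_eq_of_isMaximal k (A ⧸ nilradical A)
    (M.asIdeal.map (Ideal.Quotient.mk (nilradical A)))
  haveI := hm'max.isPrime
  have h3 := Groth.Agent.S2143.height_quot_le (nilradical A) M.asIdeal hNM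
  have h4 : ringKrullDim A ≤ ringKrullDim (A ⧸ nilradical A) := by
    rw [ringKrullDim_quotient]
    unfold ringKrullDim Order.krullDim
    apply iSup_le
    intro q
    exact Order.LTSeries.length_le_krullDim
      ({ length := q.length
         toFun := fun i => ⟨q i, fun x hx => by
           haveI := (q i).isPrime
           exact nilradical_le_prime (q i).asIdeal hx⟩
         step := fun i => q.step i } :
        LTSeries ↥(PrimeSpectrum.zeroLocus (nilradical A : Set A)))
  rw [← h2] at h4
  rw [← PrimeSpectrum.height_eq_orderHeight]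
  exact h4.trans (by exact_mod_cast h3)

/-- Let X be irreducible and locally of finite type over a field k. Then every nonempty open subset of X
has the same Krull dimension as X. -/
theorem result (k : Type u) [Field k] (X : Scheme.{u}) [X.Over (Spec (CommRingCat.of k))] [LocallyOfFiniteType (X ↘ (Spec (CommRingCat.of k)))] [IrreducibleSpace X]
    (U : X.Opens) (hU : (U : Set X).Nonempty) : topologicalKrullDim U = topologicalKrullDim X := by
  apply le_antisymm (topologicalKrullDim_subspace_le X U)
  have hcov : ⨆ V : X.affineOpens, (V.1 : X.Opens) = ⊤ := AlgebraicGeometry.iSup_affineOpens_eq_top X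
  rw [Groth.Agent.Helper17.FieldBC.topologicalKrullDim_eq_iSup_of_open_cover' X X.affineOpens
    (fun V => V.1) hcov]
  apply iSup_le
  rintro ⟨V, hV⟩
  show topologicalKrullDim ↥(V : Set X) ≤ topologicalKrullDim ↥(U : Set X)
  haveI := hV.isOpenImmersion_fromSpec
  have hj : Topology.IsOpenEmbedding ⇑hV.fromSpec := hV.fromSpec.isOpenEmbedding
  by_cases hne : Nonempty (PrimeSpectrum Γ(X, V))
  · haveI := hne
    haveI : Nonempty ↥(Spec Γ(X, V)) := hne
    haveI : IrreducibleSpace (PrimeSpectrum Γ(X, V)) := hj.irreducibleSpace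
    obtain ⟨φ, hφ⟩ := Groth.Agent.S1617.ft_of_affineOpen k X (X ↘ (Spec (CommRingCat.of k))) V hV
    letI : Algebra k Γ(X, V) := φ.toAlgebra
    haveI : Algebra.FiniteType k Γ(X, V) := hφ
    have hVne : (V : Set X).Nonempty := by
      obtain ⟨z⟩ := hne
      exact ⟨hV.fromSpec z, by rw [← hV.range_fromSpec]; exact ⟨z, rfl⟩⟩
    obtain ⟨w, hwU, hwV⟩ := nonempty_preirreducible_inter U.isOpen V.isOpen hU hVne
    have hWne : (⇑hV.fromSpec ⁻¹' (U : Set X)).Nonempty := by
      rw [← hV.range_fromSpec] at hwV
      obtain ⟨z, rfl⟩ := hwV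
      exact ⟨z, hwU⟩
    have hclaim := affine_claim k Γ(X, V) (⇑hV.fromSpec ⁻¹' (U : Set X))
      (U.isOpen.preimage hj.continuous) hWne
    have e1 := hj.isEmbedding.homeomorphImage (Set.univ)
    have e2 := hj.isEmbedding.homeomorphImage (⇑hV.fromSpec ⁻¹' (U : Set X))
    have himg : ⇑hV.fromSpec '' Set.univ = (V : Set X) := by
      rw [Set.image_univ, hV.range_fromSpec]
    calc topologicalKrullDim ↥(V : Set X)
        ≤ topologicalKrullDim ↥(⇑hV.fromSpec '' Set.univ) :=
          Groth.Agent.S1617.dim_subset_mono (le_of_eq himg.symm)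
      _ = topologicalKrullDim ↥(Set.univ : Set (PrimeSpectrum Γ(X, V))) :=
          (IsHomeomorph.topologicalKrullDim_eq _ e1.isHomeomorph).symm
      _ = topologicalKrullDim (PrimeSpectrum Γ(X, V)) :=
          IsHomeomorph.topologicalKrullDim_eq _ (Homeomorph.Set.univ _).isHomeomorph
      _ = ringKrullDim Γ(X, V) := PrimeSpectrum.topologicalKrullDim_eq_ringKrullDim _
      _ ≤ topologicalKrullDim ↥(⇑hV.fromSpec ⁻¹' (U : Set X)) := hclaim
      _ = topologicalKrullDim ↥(⇑hV.fromSpec '' (⇑hV.fromSpec ⁻¹' (U : Set X))) :=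
          IsHomeomorph.topologicalKrullDim_eq _ e2.isHomeomorph
      _ ≤ topologicalKrullDim ↥(U : Set X) :=
          Groth.Agent.S1617.dim_subset_mono (Set.image_preimage_subset _ _)
  · have hVe : IsEmpty ↥(V : Set X) := by
      refine ⟨fun v => ?_⟩
      obtain ⟨v, hv⟩ := v
      rw [← hV.range_fromSpec] at hv
      obtain ⟨z, _⟩ := hv
      exact hne ⟨z⟩
    haveI : IsEmpty (TopologicalSpace.IrreducibleCloseds ↥(V : Set X)) := by
      refine ⟨fun Z => ?_⟩
      obtain ⟨z, _⟩ := Z.isIrreducible.nonempty
      exact hVe.false z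
    rw [topologicalKrullDim, Order.krullDim_eq_bot]
    exact bot_le

end Groth.Agent.S1618
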