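import Groth.Statements.S2141
import Mathlib
import Groth.Agent.S7675
import Groth.Agent.S2680
import Groth.Agent.S2143

set_option autoImplicit false
universe u
open CAlg

namespace Groth.Agent.S2141

theorem height_add_length_le {α : Type*} [Preorder α] (q : LTSeries α) :
    Order.height q.head + (q.length : ℕ∞) ≤ Order.height q.last := by
  have key : ∀ i : ℕ, ∀ hi : i < q.length + 1,
      Order.height q.head + (i : ℕ∞) ≤ Order.height (q ⟨i, hi⟩) := by
    intro i
    induction i with
    | zero =>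
      intro hi
      simp only [Nat.cast_zero, add_zero]
      exact le_of_eq rfl
    | succ j ih =>
      intro hi
      have hj : j < q.length := by omega
      have h1 := ih (by omega)
      have h2 : q ⟨j, by omega⟩ < q ⟨j + 1, hi⟩ := q.step ⟨j, hj⟩
      calc Order.height q.head + ((j + 1 : ℕ) : ℕ∞)
          = (Order.height q.head + (j : ℕ∞)) + 1 := by push_cast; rw [add_assoc]
        _ ≤ Order.height (q ⟨j, by omega⟩) + 1 := by gcongr
        _ ≤ Order.height (q ⟨j + 1, hi⟩) := Order.height_add_one_le h2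
  exact key q.length (by omega)

theorem dim_le_height_add (k B : Type u) [Field k] [CommRing B] [IsDomain B] [Algebra k B]
    [Algebra.FiniteType k B] (P : Ideal B) [P.IsPrime] :
    ringKrullDim B ≤ ringKrullDim (B ⧸ P) + ((P.height : ℕ∞) : WithBot ℕ∞) := by
  haveI : IsNoetherianRing B := Algebra.FiniteType.isNoetherianRing k B
  obtain ⟨s, hs, hcard⟩ := Ideal.exists_finset_card_eq_height_of_isNoetherianRing P
  haveI : (⊥ : Ideal B).IsPrime := Ideal.isPrime_bot
  have h := Groth.Agent.S7675.dim_le_of_minimal_finset k B s ⊥ P (by rwa [bot_sup_eq])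
  rw [ringKrullDim_eq_of_ringEquiv (RingEquiv.quotientBot B)] at h
  have hc : (s.card : WithBot ℕ∞) = ((P.height : ℕ∞) : WithBot ℕ∞) := by rw [← hcard]; rfl
  rw [hc] at h
  exact h

/-- Let `S` be of finite type over a field `k` and `𝔭` a prime of `S` whose residue field has
transcendence degree `r` over `k`. Then the local dimension of `Spec S` at `𝔭` equals `dim S_𝔭 + r`. -/
theorem result {k S : Type u} [Field k] [CommRing S] [Algebra k S] [Algebra.FiniteType k S]
    (p : Ideal S) [p.IsPrime] (r : ℕ) (hr : Algebra.trdeg k p.ResidueField = r) :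
    FlatMor.localDim (PrimeSpectrum S) ⟨p, inferInstance⟩ = ringKrullDim (Localization.AtPrime p) + (r : WithBot ℕ∞) := by
  classical
  haveI : IsNoetherianRing S := Algebra.FiniteType.isNoetherianRing k S
  haveI : IsJacobsonRing S := isJacobsonRing_of_finiteType (A := k)
  rw [Groth.Agent.S2143.result (k := k) p,
    IsLocalization.AtPrime.ringKrullDim_eq_height p (Localization.AtPrime p)]
  obtain ⟨d, hd, htr⟩ := Groth.Agent.Helper7.GlobCI.dim_eq_trdeg k (S ⧸ p)
  have hdr : d = r := by
    haveI : FaithfulSMul (S ⧸ p) p.ResidueField :=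
      (faithfulSMul_iff_algebraMap_injective _ _).mpr p.injective_algebraMap_quotient_residueField
    haveI : FaithfulSMul k (S ⧸ p) :=
      (faithfulSMul_iff_algebraMap_injective _ _).mpr (algebraMap k (S ⧸ p)).injective
    haveI : Algebra.IsAlgebraic (S ⧸ p) p.ResidueField :=
      IsLocalization.isAlgebraic _ (nonZeroDivisors (S ⧸ p))
    have h1 := trdeg_add_eq k (S ⧸ p) (A := p.ResidueField)
    rw [trdeg_eq_zero (R := S ⧸ p) (A := p.ResidueField), add_zero, htr, hr] at h1
    exact_mod_cast h1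
  subst hdr
  apply le_antisymm
  · have hfin : (minimalPrimes S).Finite := minimalPrimes.finite_of_isNoetherianRing S
    have hFcl : IsClosed (⋃ Q ∈ {Q ∈ minimalPrimes S | ¬ Q ≤ p},
        PrimeSpectrum.zeroLocus (Q : Set S)) :=
      (hfin.subset (Set.sep_subset _ _)).isClosed_biUnion
        (fun Q _ => PrimeSpectrum.isClosed_zeroLocus _)
    have hZ : IsLocallyClosed ((⋃ Q ∈ {Q ∈ minimalPrimes S | ¬ Q ≤ p},
        PrimeSpectrum.zeroLocus (Q : Set S))ᶜ ∩ PrimeSpectrum.zeroLocus (p : Set S)) :=
      hFcl.isOpen_compl.isLocallyClosed.inter (PrimeSpectrum.isClosed_zeroLocus _).isLocallyClosed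
    have hpU : (⟨p, inferInstance⟩ : PrimeSpectrum S) ∈
        (⋃ Q ∈ {Q ∈ minimalPrimes S | ¬ Q ≤ p}, PrimeSpectrum.zeroLocus (Q : Set S))ᶜ := by
      intro hx
      rw [Set.mem_iUnion₂] at hx
      obtain ⟨Q, ⟨hQmin, hQm⟩, hxQ⟩ := hx
      exact hQm (show Q ≤ p from hxQ)
    obtain ⟨M, ⟨hMU, hMp⟩, hMcl⟩ := nonempty_inter_closedPoints
      (⟨⟨p, inferInstance⟩, hpU, le_refl p⟩ : ((⋃ Q ∈ {Q ∈ minimalPrimes S | ¬ Q ≤ p},
        PrimeSpectrum.zeroLocus (Q : Set S))ᶜ ∩ PrimeSpectrum.zeroLocus (p : Set S)).Nonempty) hZ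
    have hMmax : M.asIdeal.IsMaximal := (PrimeSpectrum.isClosed_singleton_iff_isMaximal M).mp hMcl
    refine (iInf_le _ (⟨M.asIdeal, hMmax, hMp⟩ : {m : Ideal S // m.IsMaximal ∧ p ≤ m})).trans ?_
    show ringKrullDim (Localization.AtPrime M.asIdeal) ≤ _
    rw [IsLocalization.AtPrime.ringKrullDim_eq_height M.asIdeal (Localization.AtPrime M.asIdeal),
      PrimeSpectrum.height_eq_orderHeight]
    have key : Order.height M ≤ p.height + (d : ℕ∞) := by
      rw [Order.height_le_iff]
      intro q hq
      haveI := q.head.isPrime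
      obtain ⟨Q, hQmin, hQle⟩ := Ideal.exists_minimalPrimes_le (bot_le : ⊥ ≤ q.head.asIdeal)
      have hmono : ∀ i, q.head ≤ q i := fun i => q.monotone (Fin.zero_le i)
      have hQM : Q ≤ M.asIdeal := hQle.trans ((hmono (Fin.last _)).trans hq)
      have hQp : Q ≤ p := by
        by_contra hnot
        exact hMU (Set.mem_biUnion (show Q ∈ {Q ∈ minimalPrimes S | ¬ Q ≤ p} from ⟨hQmin, hnot⟩) hQM)
      haveI hQprime : Q.IsPrime := hQmin.1.1
      have h1 : (q.length : WithBot ℕ∞) ≤ ringKrullDim (S ⧸ Q) := by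
        rw [ringKrullDim_quotient]
        exact Order.LTSeries.length_le_krullDim
          ({ length := q.length
             toFun := fun i => ⟨q i, hQle.trans (hmono i)⟩
             step := fun i => q.step i } : LTSeries ↥(PrimeSpectrum.zeroLocus (Q : Set S)))
      haveI hP : (p.map (Ideal.Quotient.mk Q)).IsPrime :=
        Ideal.map_isPrime_of_surjective Ideal.Quotient.mk_surjective
          (by rw [Ideal.mk_ker]; exact hQp)
      have h2 := dim_le_height_add k (S ⧸ Q) (p.map (Ideal.Quotient.mk Q))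
      have h3 : ringKrullDim ((S ⧸ Q) ⧸ p.map (Ideal.Quotient.mk Q)) = d := by
        rw [ringKrullDim_eq_of_ringEquiv (DoubleQuot.quotQuotEquivQuotOfLE hQp), hd]
      have h4 := Groth.Agent.S2143.height_quot_le Q p hQp
      rw [h3] at h2
      have h5 : (q.length : WithBot ℕ∞) ≤
          (d : WithBot ℕ∞) + (((p.map (Ideal.Quotient.mk Q)).height : ℕ∞) : WithBot ℕ∞) :=
        h1.trans h2
      have h6 : (q.length : ℕ∞) ≤ (d : ℕ∞) + (p.map (Ideal.Quotient.mk Q)).height := by
        exact_mod_cast h5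
      calc (q.length : ℕ∞) ≤ (d : ℕ∞) + (p.map (Ideal.Quotient.mk Q)).height := h6
        _ ≤ (d : ℕ∞) + p.height := by gcongr
        _ = p.height + (d : ℕ∞) := add_comm _ _
    exact_mod_cast key
  · apply le_iInf
    rintro ⟨m, hmmax, hpm⟩
    haveI hmprime : m.IsPrime := hmmax.isPrime
    show _ ≤ ringKrullDim (Localization.AtPrime m)
    rw [IsLocalization.AtPrime.ringKrullDim_eq_height m (Localization.AtPrime m)]
    haveI hm'max : (m.map (Ideal.Quotient.mk p)).IsMaximal :=
      Ideal.IsMaximal.map_of_surjective_of_ker_le Ideal.Quotient.mk_surjective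
        (by rw [Ideal.mk_ker]; exact hpm)
    have h2 := Groth.Agent.S2680.height_eq_of_isMaximal k (S ⧸ p) (m.map (Ideal.Quotient.mk p))
    rw [hd] at h2
    have h2' : (m.map (Ideal.Quotient.mk p)).height = (d : ℕ∞) := by exact_mod_cast h2
    haveI hm'prime := hm'max.isPrime
    have h2'' : Order.height (⟨m.map (Ideal.Quotient.mk p), hm'prime⟩ : PrimeSpectrum (S ⧸ p))
        = (d : ℕ∞) := by
      rw [← PrimeSpectrum.height_eq_orderHeight]
      exact h2'
    obtain ⟨q, hqlast, hqlen⟩ := Order.exists_series_of_height_eq_coe _ h2''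
    have hf : StrictMono (PrimeSpectrum.comap (Ideal.Quotient.mk p)) := by
      have hmono : Monotone (PrimeSpectrum.comap (Ideal.Quotient.mk p)) := by
        intro a b hab
        exact Ideal.comap_mono hab
      exact hmono.strictMono_of_injective
        (PrimeSpectrum.comap_injective_of_surjective _ Ideal.Quotient.mk_surjective)
    have h3 := height_add_length_le (q.map _ hf)
    rw [LTSeries.last_map, LTSeries.head_map, hqlast] at h3
    have h4 : (⟨p, inferInstance⟩ : PrimeSpectrum S) ≤
        PrimeSpectrum.comap (Ideal.Quotient.mk p) q.head := by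
      show p ≤ Ideal.comap (Ideal.Quotient.mk p) q.head.asIdeal
      intro x hx
      rw [Ideal.mem_comap, Ideal.Quotient.eq_zero_iff_mem.mpr hx]
      exact zero_mem _
    have h5 : PrimeSpectrum.comap (Ideal.Quotient.mk p)
        (⟨m.map (Ideal.Quotient.mk p), hm'prime⟩ : PrimeSpectrum (S ⧸ p)) = ⟨m, hmprime⟩ := by
      apply PrimeSpectrum.ext
      show Ideal.comap (Ideal.Quotient.mk p) (m.map (Ideal.Quotient.mk p)) = m
      rw [Ideal.comap_map_of_surjective _ Ideal.Quotient.mk_surjective, ← RingHom.ker_eq_comap_bot,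
        Ideal.mk_ker, sup_eq_left]
      exact hpm
    rw [h5] at h3
    have h6 : p.height + (d : ℕ∞) ≤ m.height := by
      rw [(⟨p, inferInstance⟩ : PrimeSpectrum S).height_eq_orderHeight,
        (⟨m, hmprime⟩ : PrimeSpectrum S).height_eq_orderHeight]
      have h7 : (q.map _ hf).length = d := hqlen
      rw [h7] at h3
      exact (add_le_add_left (Order.height_mono h4) _).trans h3
    exact_mod_cast h6

end Groth.Agent.S2141
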