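import Groth.Statements.S1621
import Mathlib
import Groth.Agent.S2141
import Groth.Agent.S1617

set_option autoImplicit false
universe u
open CategoryTheory CategoryTheory.Limits AlgebraicGeometry
attribute [local instance] Curv2.stalkAlgebra Curv2.resAlgebra
open Variety

namespace Groth.Agent.S1621

/-- the structure map `k → Γ(X, V)` -/
noncomputable def phi (k : Type u) [Field k] (X : Scheme.{u}) [X.Over (Spec (CommRingCat.of k))]
    (V : X.Opens) : k →+* Γ(X, V) :=
  ((X ↘ (Spec (CommRingCat.of k))).appLE ⊤ V le_top).hom.comp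
    (Scheme.ΓSpecIso (CommRingCat.of k)).inv.hom

theorem phi_finiteType (k : Type u) [Field k] (X : Scheme.{u}) [X.Over (Spec (CommRingCat.of k))]
    [LocallyOfFiniteType (X ↘ (Spec (CommRingCat.of k)))] (V : X.Opens) (hV : IsAffineOpen V) :
    (phi k X V).FiniteType := by
  have h1 := HasRingHomProperty.appLE (P := @LocallyOfFiniteType) (X ↘ (Spec (CommRingCat.of k)))
    inferInstance ⟨⊤, isAffineOpen_top _⟩ ⟨V, hV⟩ le_top
  refine RingHom.FiniteType.comp h1 (RingHom.FiniteType.of_surjective _ ?_)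
  exact (ConcreteCategory.bijective_of_isIso (Scheme.ΓSpecIso (CommRingCat.of k)).inv).2

theorem germ_phi (k : Type u) [Field k] (X : Scheme.{u}) [X.Over (Spec (CommRingCat.of k))]
    (V : X.Opens) (x : X) (hxV : x ∈ V) (c : k) :
    (X.presheaf.germ V x hxV).hom (phi k X V c) = Curv2.stalkMap k X x c := by
  unfold phi Curv2.stalkMap Coh.toGlobal
  simp only [RingHom.comp_apply]
  have h := X.presheaf.germ_res (homOfLE (le_top : V ≤ ⊤)) x hxV
  have h2 : (X ↘ (Spec (CommRingCat.of k))).appLE ⊤ V le_top =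
      (X ↘ (Spec (CommRingCat.of k))).appTop ≫ X.presheaf.map (homOfLE (le_top : V ≤ ⊤)).op := rfl
  rw [h2, ← h]
  rfl

/-- residue field at a point of an affine open, as a `k`-algebra -/
theorem exists_resEquiv (k : Type u) [Field k] (X : Scheme.{u}) [X.Over (Spec (CommRingCat.of k))]
    (V : X.Opens) (hV : IsAffineOpen V) (x : X) (hxV : x ∈ V) :
    letI : Algebra k Γ(X, V) := (phi k X V).toAlgebra
    Nonempty ((hV.primeIdealOf ⟨x, hxV⟩).asIdeal.ResidueField ≃ₐ[k] X.residueField x) := by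
  letI : Algebra k Γ(X, V) := (phi k X V).toAlgebra
  letI : Algebra Γ(X, V) (X.presheaf.stalk x) :=
    TopCat.Presheaf.algebra_section_stalk X.presheaf (⟨x, hxV⟩ : V)
  haveI : IsLocalization.AtPrime (X.presheaf.stalk x) (hV.primeIdealOf ⟨x, hxV⟩).asIdeal :=
    hV.isLocalization_stalk ⟨x, hxV⟩
  let e : Localization.AtPrime (hV.primeIdealOf ⟨x, hxV⟩).asIdeal ≃ₐ[Γ(X, V)] X.presheaf.stalk x :=
    IsLocalization.algEquiv (hV.primeIdealOf ⟨x, hxV⟩).asIdeal.primeCompl _ _
  let E0 : (hV.primeIdealOf ⟨x, hxV⟩).asIdeal.ResidueField ≃+* X.residueField x :=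
    IsLocalRing.ResidueField.mapEquiv e.toRingEquiv
  refine ⟨AlgEquiv.ofRingEquiv (f := E0) ?_⟩
  intro c
  have h1 : algebraMap k (hV.primeIdealOf ⟨x, hxV⟩).asIdeal.ResidueField c =
      IsLocalRing.residue _ (algebraMap Γ(X, V)
        (Localization.AtPrime (hV.primeIdealOf ⟨x, hxV⟩).asIdeal) (phi k X V c)) := rfl
  rw [h1]
  show IsLocalRing.residue _ (e (algebraMap Γ(X, V)
        (Localization.AtPrime (hV.primeIdealOf ⟨x, hxV⟩).asIdeal) (phi k X V c))) = _
  rw [e.commutes]
  show IsLocalRing.residue _ ((X.presheaf.germ V x hxV).hom (phi k X V c)) = _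
  rw [germ_phi]
  rfl

/-- Let X be locally of finite type over a field k and x a point whose residue field has transcendence
degree a over k and whose local ring has dimension b. Then the local dimension of X at x is a + b. -/
theorem result (k : Type u) [Field k] (X : Scheme.{u}) [X.Over (Spec (CommRingCat.of k))] [LocallyOfFiniteType (X ↘ (Spec (CommRingCat.of k)))] (x : X) (a b : ℕ)
    (ha : Algebra.trdeg k (X.residueField x) = a) (hb : ringKrullDim (X.presheaf.stalk x) = b) :
    FlatMor.localDim X x = (a + b : ℕ) := by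
  obtain ⟨⟨V, hV⟩, hxV⟩ : ∃ V : X.affineOpens, x ∈ V.1 := by
    obtain ⟨_, ⟨V, hV : IsAffineOpen V, rfl⟩, hxV, -⟩ :=
      X.isBasis_affineOpens.exists_subset_of_mem_open (Set.mem_univ x) isOpen_univ
    exact ⟨⟨V, hV⟩, hxV⟩
  letI : Algebra k Γ(X, V) := (phi k X V).toAlgebra
  haveI : Algebra.FiniteType k Γ(X, V) := phi_finiteType k X V hV
  obtain ⟨E⟩ := exists_resEquiv k X V hV x hxV
  set y := hV.primeIdealOf ⟨x, hxV⟩ with hy
  have htr : Algebra.trdeg k y.asIdeal.ResidueField = a := by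
    rw [← ha]
    exact E.trdeg_eq
  have hjy : hV.fromSpec y = x := hV.fromSpec_primeIdealOf ⟨x, hxV⟩
  haveI := hV.isOpenImmersion_fromSpec
  have hj : Topology.IsOpenEmbedding ⇑hV.fromSpec := hV.fromSpec.isOpenEmbedding
  have h1 := Groth.Agent.S1617.localDim_openEmbedding _ hj y
  rw [hjy] at h1
  rw [← h1]
  have h2 := Groth.Agent.S2141.result (k := k) y.asIdeal a htr
  have h3 : (⟨y.asIdeal, inferInstance⟩ : PrimeSpectrum Γ(X, V)) = y := rfl
  rw [h3] at h2
  show FlatMor.localDim (PrimeSpectrum Γ(X, V)) y = _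
  rw [h2]
  letI : Algebra Γ(X, V) (X.presheaf.stalk x) :=
    TopCat.Presheaf.algebra_section_stalk X.presheaf (⟨x, hxV⟩ : V)
  haveI : IsLocalization.AtPrime (X.presheaf.stalk x) y.asIdeal :=
    hV.isLocalization_stalk ⟨x, hxV⟩
  rw [IsLocalization.AtPrime.ringKrullDim_eq_height y.asIdeal (Localization.AtPrime y.asIdeal),
    ← IsLocalization.AtPrime.ringKrullDim_eq_height y.asIdeal (X.presheaf.stalk x), hb]
  push_cast
  rw [add_comm]

end Groth.Agent.S1621
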