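import Groth.Statements.S1619
import Mathlib
import Groth.Agent.S1621
import Groth.Agent.S1618

set_option autoImplicit false
universe u
open CategoryTheory CategoryTheory.Limits AlgebraicGeometry
attribute [local instance] Curv2.stalkAlgebra Curv2.resAlgebra
open Variety

namespace Groth.Agent.S1619

theorem dim_stalk_generic (X : Scheme.{u}) [IrreducibleSpace X] :
    ringKrullDim (X.presheaf.stalk (genericPoint X)) = ((0 : ℕ) : WithBot ℕ∞) := by
  obtain ⟨⟨V, hV⟩, hxV⟩ : ∃ V : X.affineOpens, genericPoint X ∈ V.1 := by
    obtain ⟨_, ⟨V, hV : IsAffineOpen V, rfl⟩, hxV, -⟩ :=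
      X.isBasis_affineOpens.exists_subset_of_mem_open (Set.mem_univ (genericPoint X)) isOpen_univ
    exact ⟨⟨V, hV⟩, hxV⟩
  letI : Algebra Γ(X, V) (X.presheaf.stalk (genericPoint X)) :=
    TopCat.Presheaf.algebra_section_stalk X.presheaf (⟨genericPoint X, hxV⟩ : V)
  set y := hV.primeIdealOf ⟨genericPoint X, hxV⟩ with hy
  haveI : IsLocalization.AtPrime (X.presheaf.stalk (genericPoint X)) y.asIdeal :=
    hV.isLocalization_stalk ⟨genericPoint X, hxV⟩
  have hjy : hV.fromSpec y = genericPoint X := hV.fromSpec_primeIdealOf ⟨genericPoint X, hxV⟩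
  haveI := hV.isOpenImmersion_fromSpec
  have hj : Topology.IsOpenEmbedding ⇑hV.fromSpec := hV.fromSpec.isOpenEmbedding
  rw [IsLocalization.AtPrime.ringKrullDim_eq_height y.asIdeal (X.presheaf.stalk (genericPoint X)),
    PrimeSpectrum.height_eq_orderHeight]
  have hmin : IsMin y := by
    intro z hz
    have h1 : hV.fromSpec z ⤳ hV.fromSpec y :=
      ((PrimeSpectrum.le_iff_specializes z y).mp hz).map hj.continuous
    rw [hjy] at h1
    have h2 : genericPoint X ⤳ hV.fromSpec z := genericPoint_specializes _
    have h3 : hV.fromSpec z = genericPoint X := (h1.antisymm h2).eq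
    have h4 : z = y := hj.injective (h3.trans hjy.symm)
    rw [h4]
  rw [Order.height_eq_zero.mpr hmin]
  rfl

/-- Let X be irreducible and locally of finite type over a field k, with generic point ξ. If the residue
field of ξ has transcendence degree n over k then X has Krull dimension n. -/
theorem result (k : Type u) [Field k] (X : Scheme.{u}) [X.Over (Spec (CommRingCat.of k))] [LocallyOfFiniteType (X ↘ (Spec (CommRingCat.of k)))] [IrreducibleSpace X]
    (n : ℕ) (hn : Algebra.trdeg k (X.residueField (genericPoint X)) = n) : topologicalKrullDim X = n := by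
  have h1 := Groth.Agent.S1621.result k X (genericPoint X) n 0 hn (dim_stalk_generic X)
  have h2 : FlatMor.localDim X (genericPoint X) = topologicalKrullDim X := by
    unfold FlatMor.localDim
    have hconst : ∀ U : {U : TopologicalSpace.Opens X // genericPoint X ∈ U},
        topologicalKrullDim ↥(U.1 : Set X) = topologicalKrullDim X := by
      rintro ⟨U, hU⟩
      exact Groth.Agent.S1618.result k X U ⟨genericPoint X, hU⟩
    haveI : Nonempty {U : TopologicalSpace.Opens X // genericPoint X ∈ U} := ⟨⟨⊤, trivial⟩⟩
    rw [iInf_congr hconst, iInf_const]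
  rw [← h2, h1]
  simp

end Groth.Agent.S1619
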