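import Groth.Statements.S1620
import Mathlib
import Groth.Agent.S1621
import Groth.Agent.S19926

set_option autoImplicit false
universe u
open CategoryTheory CategoryTheory.Limits AlgebraicGeometry
attribute [local instance] Curv2.stalkAlgebra Curv2.resAlgebra
open Variety

namespace Groth.Agent.S1620

theorem trdeg_resField (k A : Type u) [Field k] [CommRing A] [Algebra k A] [Algebra.FiniteType k A]
    (p : Ideal A) [p.IsPrime] :
    ∃ d : ℕ, ringKrullDim (A ⧸ p) = (d : WithBot ℕ∞) ∧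
      Algebra.trdeg k p.ResidueField = (d : Cardinal.{u}) := by
  obtain ⟨d, hd, htr⟩ := Groth.Agent.Helper7.GlobCI.dim_eq_trdeg k (A ⧸ p)
  refine ⟨d, hd, ?_⟩
  haveI : FaithfulSMul (A ⧸ p) p.ResidueField :=
    (faithfulSMul_iff_algebraMap_injective _ _).mpr p.injective_algebraMap_quotient_residueField
  haveI : FaithfulSMul k (A ⧸ p) :=
    (faithfulSMul_iff_algebraMap_injective _ _).mpr (algebraMap k (A ⧸ p)).injective
  haveI : Algebra.IsAlgebraic (A ⧸ p) p.ResidueField :=
    IsLocalization.isAlgebraic _ (nonZeroDivisors (A ⧸ p))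
  have h1 := trdeg_add_eq k (A ⧸ p) (A := p.ResidueField)
  rw [trdeg_eq_zero (R := A ⧸ p) (A := p.ResidueField), add_zero, htr] at h1
  exact h1.symm

/-- Let X be locally of finite type over a field k and x ⤳ x' an immediate specialisation (x ≠ x' and no
point strictly in between). If the residue field of x' has transcendence degree n over k then the
residue field of x has transcendence degree n + 1. -/
theorem result (k : Type u) [Field k] (X : Scheme.{u}) [X.Over (Spec (CommRingCat.of k))] [LocallyOfFiniteType (X ↘ (Spec (CommRingCat.of k)))] (x x' : X) (hne : x ≠ x') (hsp : x ⤳ x')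
    (himm : ∀ y : X, x ⤳ y → y ⤳ x' → y = x ∨ y = x')
    (n : ℕ) (hn : Algebra.trdeg k (X.residueField x') = n) : Algebra.trdeg k (X.residueField x) = n + 1 := by
  obtain ⟨⟨V, hV⟩, hx'V⟩ : ∃ V : X.affineOpens, x' ∈ V.1 := by
    obtain ⟨_, ⟨V, hV : IsAffineOpen V, rfl⟩, hxV, -⟩ :=
      X.isBasis_affineOpens.exists_subset_of_mem_open (Set.mem_univ x') isOpen_univ
    exact ⟨⟨V, hV⟩, hxV⟩
  have hxV : x ∈ V := hsp.mem_open V.isOpen hx'V
  letI : Algebra k Γ(X, V) := (Groth.Agent.S1621.phi k X V).toAlgebra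
  haveI : Algebra.FiniteType k Γ(X, V) := Groth.Agent.S1621.phi_finiteType k X V hV
  obtain ⟨E⟩ := Groth.Agent.S1621.exists_resEquiv k X V hV x hxV
  obtain ⟨E'⟩ := Groth.Agent.S1621.exists_resEquiv k X V hV x' hx'V
  set y := hV.primeIdealOf ⟨x, hxV⟩ with hy
  set y' := hV.primeIdealOf ⟨x', hx'V⟩ with hy'
  have hjy : hV.fromSpec y = x := hV.fromSpec_primeIdealOf ⟨x, hxV⟩
  have hjy' : hV.fromSpec y' = x' := hV.fromSpec_primeIdealOf ⟨x', hx'V⟩
  haveI := hV.isOpenImmersion_fromSpec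
  have hj : Topology.IsOpenEmbedding ⇑hV.fromSpec := hV.fromSpec.isOpenEmbedding
  have hyy' : y ≤ y' := by
    rw [PrimeSpectrum.le_iff_specializes]
    apply hj.isInducing.specializes_iff.mp
    rw [hjy, hjy']
    exact hsp
  have hne' : y ≠ y' := fun h => hne (by rw [← hjy, ← hjy', h])
  have hlt : y.asIdeal < y'.asIdeal :=
    lt_of_le_of_ne hyy' (fun h => hne' (PrimeSpectrum.ext h))
  obtain ⟨t, ht', ht⟩ := SetLike.exists_of_lt hlt
  have hmin : y'.asIdeal ∈ (y.asIdeal ⊔ Ideal.span {t}).minimalPrimes := by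
    refine ⟨⟨y'.isPrime, sup_le hyy' ((Ideal.span_singleton_le_iff_mem _).mpr ht')⟩, ?_⟩
    rintro q ⟨hqprime, hq⟩ hqy'
    have hyq : y.asIdeal ≤ q := le_sup_left.trans hq
    have htq : t ∈ q := hq (le_sup_right (a := y.asIdeal) (Ideal.mem_span_singleton_self t))
    have h1 : x ⤳ hV.fromSpec (⟨q, hqprime⟩ : PrimeSpectrum Γ(X, V)) := by
      rw [← hjy]
      exact ((PrimeSpectrum.le_iff_specializes y ⟨q, hqprime⟩).mp hyq).map hj.continuous
    have h2 : hV.fromSpec (⟨q, hqprime⟩ : PrimeSpectrum Γ(X, V)) ⤳ x' := by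
      rw [← hjy']
      exact ((PrimeSpectrum.le_iff_specializes ⟨q, hqprime⟩ y').mp hqy').map hj.continuous
    rcases himm _ h1 h2 with h | h
    · exfalso
      have h3 : (⟨q, hqprime⟩ : PrimeSpectrum Γ(X, V)) = y := hj.injective (h.trans hjy.symm)
      apply ht
      rw [← h3]
      exact htq
    · have h3 : (⟨q, hqprime⟩ : PrimeSpectrum Γ(X, V)) = y' := hj.injective (h.trans hjy'.symm)
      rw [← h3]
  have hdim := Groth.Agent.S19926.dim_quot_minimal k Γ(X, V) y.asIdeal y'.asIdeal t ht hmin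
  obtain ⟨d, hd, htr⟩ := trdeg_resField k Γ(X, V) y.asIdeal
  obtain ⟨d', hd', htr'⟩ := trdeg_resField k Γ(X, V) y'.asIdeal
  have hd'n : d' = n := by
    have h := E'.trdeg_eq
    rw [htr', hn] at h
    exact_mod_cast h
  rw [hd, hd'] at hdim
  have hdd : d = d' + 1 := by exact_mod_cast hdim.symm
  rw [← E.trdeg_eq, htr, hdd, hd'n]
  push_cast
  rfl

end Groth.Agent.S1620
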