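import Groth.Statements.S10841
import Mathlib
import Groth.Agent.S1619
import Groth.Agent.S1620

set_option autoImplicit false
universe u
open CategoryTheory AlgebraicGeometry Topology
open Variety

namespace Groth.Agent.S10841

theorem trdeg_le_dim (k : Type u) [Field k] (X : Scheme.{u}) [X.Over (Spec (CommRingCat.of k))]
    [LocallyOfFiniteType (X ↘ (Spec (CommRingCat.of k)))] (x : X) :
    ∃ n : ℕ, @Algebra.trdeg k (X.residueField x) _ _ (Curv2.resAlgebra k X x) = (n : Cardinal.{u}) ∧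
      (n : WithBot ℕ∞) ≤ topologicalKrullDim X := by
  letI := Curv2.resAlgebra k X x
  obtain ⟨⟨V, hV⟩, hxV⟩ : ∃ V : X.affineOpens, x ∈ V.1 := by
    obtain ⟨_, ⟨V, hV : IsAffineOpen V, rfl⟩, hxV, -⟩ :=
      X.isBasis_affineOpens.exists_subset_of_mem_open (Set.mem_univ x) isOpen_univ
    exact ⟨⟨V, hV⟩, hxV⟩
  letI : Algebra k Γ(X, V) := (Groth.Agent.S1621.phi k X V).toAlgebra
  haveI : Algebra.FiniteType k Γ(X, V) := Groth.Agent.S1621.phi_finiteType k X V hV
  obtain ⟨E⟩ := Groth.Agent.S1621.exists_resEquiv k X V hV x hxV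
  set y := hV.primeIdealOf ⟨x, hxV⟩ with hy
  haveI := hV.isOpenImmersion_fromSpec
  have hj : Topology.IsOpenEmbedding ⇑hV.fromSpec := hV.fromSpec.isOpenEmbedding
  obtain ⟨d, hd, htr⟩ := Groth.Agent.S1620.trdeg_resField k Γ(X, V) y.asIdeal
  refine ⟨d, by rw [← E.trdeg_eq, htr], ?_⟩
  rw [← hd]
  calc ringKrullDim (Γ(X, V) ⧸ y.asIdeal) ≤ ringKrullDim Γ(X, V) := ringKrullDim_quotient_le _
    _ = topologicalKrullDim (PrimeSpectrum Γ(X, V)) :=
        (PrimeSpectrum.topologicalKrullDim_eq_ringKrullDim _).symm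
    _ ≤ topologicalKrullDim X := hj.isInducing.topologicalKrullDim_le

theorem resMap_comp (k : Type u) [Field k] (X Y : Scheme.{u}) [X.Over (Spec (CommRingCat.of k))]
    [Y.Over (Spec (CommRingCat.of k))] (f : Y ⟶ X)
    (hf : f ≫ (X ↘ (Spec (CommRingCat.of k))) = (Y ↘ (Spec (CommRingCat.of k)))) (y : Y) (c : k) :
    (f.residueFieldMap y).hom (Curv2.resMap k X (f y) c) = Curv2.resMap k Y y c := by
  unfold Curv2.resMap Curv2.stalkMap Coh.toGlobal
  simp only [RingHom.comp_apply]
  have h := Scheme.Γevaluation_naturality_apply f y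
    ((X ↘ (Spec (CommRingCat.of k))).appTop.hom ((Scheme.ΓSpecIso (CommRingCat.of k)).inv.hom c))
  rw [← hf, Scheme.Hom.comp_appTop]
  exact h

/-- Let k be a field, X an irreducible scheme of finite type over k, and f : Y → X a morphism over k
from a scheme Y of finite type over k whose image contains the generic point of X. Then dim Y ≥ dim
X. -/
theorem result (k : Type u) [Field k] {X Y : Scheme.{u}}
    (p : X ⟶ Spec (CommRingCat.of k)) (q : Y ⟶ Spec (CommRingCat.of k))
    [LocallyOfFiniteType p] [QuasiCompact p] [LocallyOfFiniteType q] [QuasiCompact q]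
    [IrreducibleSpace ↥X] (f : Y ⟶ X) (hf : f ≫ p = q)
    (hη : genericPoint ↥X ∈ Set.range f.base) :
    topologicalKrullDim ↥X ≤ topologicalKrullDim ↥Y := by
  letI : X.Over (Spec (CommRingCat.of k)) := ⟨p⟩
  letI : Y.Over (Spec (CommRingCat.of k)) := ⟨q⟩
  haveI : LocallyOfFiniteType (X ↘ (Spec (CommRingCat.of k))) := ‹LocallyOfFiniteType p›
  haveI : LocallyOfFiniteType (Y ↘ (Spec (CommRingCat.of k))) := ‹LocallyOfFiniteType q›
  obtain ⟨y, hy⟩ := hη
  obtain ⟨n, hn, -⟩ := trdeg_le_dim k X (f y)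
  obtain ⟨m, hm, hmY⟩ := trdeg_le_dim k Y y
  have key : ∀ ξ : X, ξ = genericPoint X → ∀ n : ℕ,
      @Algebra.trdeg k (X.residueField ξ) _ _ (Curv2.resAlgebra k X ξ) = (n : Cardinal.{u}) →
      topologicalKrullDim X = n := by
    rintro ξ rfl n hn
    exact Groth.Agent.S1619.result k X n hn
  rw [key (f y) hy n hn]
  refine le_trans ?_ hmY
  letI := Curv2.resAlgebra k X (f y)
  letI := Curv2.resAlgebra k Y y
  let g : X.residueField (f y) →ₐ[k] Y.residueField y :=
    { (f.residueFieldMap y).hom with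
      commutes' := fun c => resMap_comp k X Y f hf y c }
  have h1 := trdeg_le_of_injective g g.toRingHom.injective
  rw [hn, hm] at h1
  have h2 : n ≤ m := by exact_mod_cast h1
  exact_mod_cast h2

end Groth.Agent.S10841
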