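import Groth.Statements.S10842
import Mathlib

set_option autoImplicit false
universe u
open CategoryTheory AlgebraicGeometry
open Variety

namespace Groth.Agent.S10842

lemma normal_of_le {A : Type*} [CommRing A] (p q : Ideal A) [p.IsPrime] [q.IsPrime] (hpq : p ≤ q)
    (Sq Sp : Type*) [CommRing Sq] [CommRing Sp] [Algebra A Sq] [Algebra A Sp]
    [IsLocalization.AtPrime Sq q] [IsLocalization.AtPrime Sp p]
    (h : IsDomain Sq ∧ IsIntegrallyClosed Sq) : IsDomain Sp ∧ IsIntegrallyClosed Sp := by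
  obtain ⟨h1, h2⟩ := h
  have hle : q.primeCompl ≤ p.primeCompl := fun a ha hap => ha (hpq hap)
  let := IsLocalization.localizationAlgebraOfSubmonoidLe Sq Sp q.primeCompl p.primeCompl hle
  have := IsLocalization.localization_isScalarTower_of_submonoid_le Sq Sp q.primeCompl p.primeCompl hle
  have := IsLocalization.isLocalization_of_submonoid_le Sq Sp q.primeCompl p.primeCompl hle
  have hnz : p.primeCompl.map (algebraMap A Sq) ≤ nonZeroDivisors Sq := by
    rintro _ ⟨a, ha, rfl⟩
    rw [mem_nonZeroDivisors_iff_ne_zero]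
    intro h0
    rw [IsLocalization.map_eq_zero_iff q.primeCompl] at h0
    obtain ⟨s, hs⟩ := h0
    have : (s : A) * a ∈ p := by rw [hs]; exact p.zero_mem
    rcases Ideal.IsPrime.mem_or_mem ‹p.IsPrime› this with h' | h'
    · exact s.2 (hpq h')
    · exact ha h'
  exact ⟨IsLocalization.isDomain_of_le_nonZeroDivisors Sp hnz,
    isIntegrallyClosed_of_isLocalization Sp _ hnz⟩

/-- A quasi-compact scheme whose local rings at all closed points are integrally closed domains is
normal, i.e. all of its local rings are integrally closed domains. -/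
theorem result (X : Scheme.{u}) [CompactSpace ↥X]
    (h : ∀ x : X, IsClosed ({x} : Set X) →
      IsDomain (X.presheaf.stalk x) ∧ IsIntegrallyClosed (X.presheaf.stalk x)) :
    Pi1.IsNormalScheme X := by
  intro x
  obtain ⟨y, hy, hyc⟩ := IsClosed.exists_closed_singleton (isClosed_closure (s := ({x} : Set X)))
    ⟨x, subset_closure rfl⟩
  have hxy : x ⤳ y := specializes_iff_mem_closure.2 hy
  obtain ⟨U, hU, hyU⟩ : ∃ U : X.Opens, IsAffineOpen U ∧ y ∈ U := by
    obtain ⟨_, ⟨U, hU, rfl⟩, hyU, -⟩ :=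
      (X.isBasis_affineOpens).exists_subset_of_mem_open (Set.mem_univ y) isOpen_univ
    exact ⟨U, hU, hyU⟩
  have hxU : x ∈ U := hxy.mem_open U.2 hyU
  let := X.presheaf.algebra_section_stalk ⟨x, hxU⟩
  let := X.presheaf.algebra_section_stalk ⟨y, hyU⟩
  have := hU.isLocalization_stalk ⟨x, hxU⟩
  have := hU.isLocalization_stalk ⟨y, hyU⟩
  refine normal_of_le (hU.primeIdealOf ⟨x, hxU⟩).asIdeal (hU.primeIdealOf ⟨y, hyU⟩).asIdeal ?_
    (X.presheaf.stalk y) (X.presheaf.stalk x) (h y hyc)
  have h1 : (⟨x, hxU⟩ : U) ⤳ ⟨y, hyU⟩ := (subtype_specializes_iff _ _).2 hxy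
  have h2 := h1.map (hU.isoSpec.hom.continuous)
  exact (PrimeSpectrum.le_iff_specializes _ _).2 h2

end Groth.Agent.S10842
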