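import Groth.Statements.S10851
import Mathlib

set_option autoImplicit false
universe u
open Mero

namespace Groth.Agent.S10851

open AlgebraicGeometry in
/-- Let X be a locally Noetherian scheme and D a divisor on X (a global section of K_X^×/O_X^×). Then
the support of D has codimension at least 1 in X: for every point z at which the germ of D is
non-trivial, the local ring O_{X,z} has Krull dimension at least 1. -/
theorem result {X : Scheme.{u}} [IsLocallyNoetherian X]
    (D : Mero.Divisor X) (z : X) (hz : z ∈ Mero.supp D) :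
    (1 : WithBot ℕ∞) ≤ ringKrullDim (X.presheaf.stalk z) := by
  by_contra hlt
  rw [not_le] at hlt
  have h0 : ringKrullDim (X.presheaf.stalk z) ≤ 0 := by
    by_cases hb : ringKrullDim (X.presheaf.stalk z) = ⊥
    · rw [hb]; exact bot_le
    · obtain ⟨n, hn⟩ := WithBot.ne_bot_iff_exists.mp hb
      rw [← hn] at hlt ⊢
      have h1 : n < 1 := by exact_mod_cast hlt
      have h2 : n = 0 := ENat.lt_one_iff_eq_zero.mp h1
      rw [h2]; rfl
  haveI : Ring.KrullDimLE 0 (X.presheaf.stalk z) := Ring.krullDimLE_iff.mpr (by exact_mod_cast h0)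
  haveI : IsArtinianRing (X.presheaf.stalk z) :=
    isArtinianRing_iff_isNoetherianRing_krullDimLE_zero.mpr ⟨inferInstance, inferInstance⟩
  apply hz
  obtain ⟨u, hu⟩ := QuotientGroup.mk_surjective (D.1 z)
  rw [← hu, QuotientGroup.eq_one_iff]
  have hunits : Mero.regStalk X z ≤ IsUnit.submonoid (X.presheaf.stalk z) := fun g hg =>
    IsArtinianRing.isUnit_of_mem_nonZeroDivisors (Mero.regStalk_le_nonZeroDivisors z hg)
  let e := IsLocalization.atUnits (X.presheaf.stalk z) (Mero.regStalk X z)
    (S := Mero.KStalk X z) hunits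
  have he : ∀ a, e a = algebraMap (X.presheaf.stalk z) (Mero.KStalk X z) a := fun a => rfl
  refine ⟨Units.map (e.symm : Mero.KStalk X z →* X.presheaf.stalk z) u, ?_⟩
  apply Units.ext
  show algebraMap (X.presheaf.stalk z) (Mero.KStalk X z) (e.symm (u : Mero.KStalk X z)) = u
  rw [← he, e.apply_symm_apply]

end Groth.Agent.S10851
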