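import Groth.Statements.S1086
import Groth.Agent.Lib.Helper22.FilDCore

set_option autoImplicit false
universe v u
open CategoryTheory CategoryTheory.Limits Opposite
open FilD

open Groth.Agent.Helper22.FilDCore CategoryTheory.Limits Opposite

namespace Groth.Agent.S1086

/-- Let φ : X ⟶ Y be a morphism of finite filtered objects of an abelian category and let Ker φ carry
the induced filtration (the kernel computed levelwise). Then φ is strict if and only if for every p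
the sequence grᵖ(Ker φ) ⟶ grᵖ X ⟶ grᵖ Y is exact. -/
theorem result {A : Type u} [Category.{v} A] [Abelian A] {X Y : FilD.FilF A} (φ : X ⟶ Y) :
    FilD.IsStrict φ ↔
      ∀ p : ℤ, ((ShortComplex.mk (kernel.ι φ.hom) φ.hom (kernel.condition φ.hom)).map (FilD.gr A p)).Exact := by
  have hι : ∀ p : ℤ, (kernel.ι φ.hom).app (op p) ≫ φ.hom.app (op p) = 0 := by
    intro p
    have := congr_app (kernel.condition φ.hom) (op p)
    simpa only [NatTrans.comp_app, zero_app] using this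
  have hlift : ∀ (p : ℤ) ⦃T : A⦄ (x : T ⟶ X.obj.obj (op p)), x ≫ φ.hom.app (op p) = 0 →
      ∃ k : T ⟶ (kernel φ.hom).obj (op p), k ≫ (kernel.ι φ.hom).app (op p) = x := by
    intro p T x hx
    have hl : IsLimit (KernelFork.ofι ((kernel.ι φ.hom).app (op p)) (hι p)) :=
      isLimitForkMapOfIsLimit' ((evaluation ℤᵒᵖ A).obj (op p)) (kernel.condition φ.hom)
        (kernelIsKernel φ.hom)
    exact ⟨(KernelFork.IsLimit.lift' hl x hx).1, (KernelFork.IsLimit.lift' hl x hx).2⟩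
  constructor
  · intro hs p
    rw [ShortComplex.exact_iff_exact_up_to_refinements]
    change ∀ ⦃T : A⦄ (x₂ : T ⟶ (FilD.gr A p).obj X.obj), x₂ ≫ (FilD.gr A p).map φ.hom = 0 →
      ∃ (T' : A) (π : T' ⟶ T) (_ : Epi π) (x₁ : T' ⟶ (FilD.gr A p).obj (kernel φ.hom)),
        π ≫ x₂ = x₁ ≫ (FilD.gr A p).map (kernel.ι φ.hom)
    intro T xb hxb'
    have hmY : Mono (Y.obj.map (FilD.stepHom p)) := Y.property.1 _
    obtain ⟨T₁, π₁, hπ₁, x, hx⟩ := surjective_up_to_refinements_of_epi (grπ X.obj p) xb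
    have h2 : (x ≫ φ.hom.app (op p)) ≫ grπ Y.obj p = 0 := by
      rw [Category.assoc, ← grπ_map, ← Category.assoc, ← hx, Category.assoc, hxb', comp_zero]
    obtain ⟨y, hy⟩ := exists_lift_of_grπ_eq_zero Y.obj p _ h2
    obtain ⟨T₂, π₂, hπ₂, x', hx'⟩ :=
      (strict_iff φ).1 hs p (p + 1) (by omega) x y hy.symm
    have h4 : (π₂ ≫ x - x' ≫ X.obj.map (FilD.stepHom p)) ≫ φ.hom.app (op p) = 0 := by
      rw [Preadditive.sub_comp, Category.assoc, Category.assoc,
        φ.hom.naturality (FilD.stepHom p), ← Category.assoc x', hx', Category.assoc, hy,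
        sub_self]
    obtain ⟨k, hk⟩ := hlift p _ h4
    refine ⟨T₂, π₂ ≫ π₁, epi_comp _ _, k ≫ grπ (kernel φ.hom) p, ?_⟩
    calc (π₂ ≫ π₁) ≫ xb = π₂ ≫ (π₁ ≫ xb) := Category.assoc _ _ _
      _ = π₂ ≫ x ≫ grπ X.obj p := by rw [hx]
      _ = (π₂ ≫ x - x' ≫ X.obj.map (FilD.stepHom p)) ≫ grπ X.obj p := by
        rw [Preadditive.sub_comp, Category.assoc, Category.assoc, step_grπ, comp_zero, sub_zero]
      _ = (k ≫ (kernel.ι φ.hom).app (op p)) ≫ grπ X.obj p := by rw [hk]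
      _ = (k ≫ grπ (kernel φ.hom) p) ≫ (FilD.gr A p).map (kernel.ι φ.hom) := by
        rw [Category.assoc, Category.assoc, grπ_map]
  · intro he
    apply strict_of_step
    intro p T x hx
    have h1 : (x ≫ grπ X.obj p) ≫ (FilD.gr A p).map φ.hom = 0 := by
      rw [Category.assoc, grπ_map]; exact hx
    have hex : ∀ ⦃T : A⦄ (x₂ : T ⟶ (FilD.gr A p).obj X.obj), x₂ ≫ (FilD.gr A p).map φ.hom = 0 →
        ∃ (T' : A) (π : T' ⟶ T) (_ : Epi π) (x₁ : T' ⟶ (FilD.gr A p).obj (kernel φ.hom)),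
          π ≫ x₂ = x₁ ≫ (FilD.gr A p).map (kernel.ι φ.hom) :=
      (ShortComplex.exact_iff_exact_up_to_refinements _).1 (he p)
    obtain ⟨T₁, π₁, hπ₁, kb, hkb'⟩ := hex (x ≫ grπ X.obj p) h1
    obtain ⟨T₂, π₂, hπ₂, k, hk⟩ :=
      surjective_up_to_refinements_of_epi (grπ (kernel φ.hom) p) kb
    have hmX : Mono (X.obj.map (FilD.stepHom p)) := X.property.1 _
    have h3 : (π₂ ≫ π₁ ≫ x - k ≫ (kernel.ι φ.hom).app (op p)) ≫ grπ X.obj p = 0 := by
      rw [Preadditive.sub_comp, sub_eq_zero]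
      simp only [Category.assoc]
      rw [hkb', ← grπ_map, ← Category.assoc, hk, Category.assoc]
    obtain ⟨x₁, hx₁⟩ := exists_lift_of_grπ_eq_zero X.obj p _ h3
    refine ⟨T₂, π₂ ≫ π₁, epi_comp _ _, x₁, ?_⟩
    rw [← Category.assoc, hx₁, Preadditive.sub_comp, Category.assoc k, hι, comp_zero, sub_zero]
    simp only [Category.assoc]

end Groth.Agent.S1086
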