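import Groth.Statements.S10871
import Mathlib
set_option linter.style.haveILetI false

set_option autoImplicit false
universe u
open AlgebraicGeometry
open Curves

namespace Groth.Agent.S10871

section Aux
open CategoryTheory AlgebraicGeometry Opposite

namespace H26Ded

theorem span_F_eq_top {A : Type u} [CommRing A] [IsDedekindDomain A] (I : Ideal A) (hI : I ≠ ⊥)
    (F : Set A) (hF : ∀ f x : A, x ∈ I → (∀ z ∈ I, ∃ g, z * f = x * g) → f ∈ F) :
    Ideal.span F = ⊤ := by
  obtain ⟨a, haI, ha0⟩ := Submodule.exists_mem_ne_zero_of_ne_bot hI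
  have hle : Ideal.span {a} ≤ I := Ideal.span_le.mpr (Set.singleton_subset_iff.mpr haI)
  obtain ⟨J, hJ⟩ := Ideal.dvd_iff_le.mpr hle
  have key : I * J ≤ Ideal.span {a} * Ideal.span F := by
    rw [Ideal.mul_le]
    intro x hx y hy
    have hxy : x * y ∈ Ideal.span {a} := by rw [hJ]; exact Ideal.mul_mem_mul hx hy
    obtain ⟨f, hf⟩ := Ideal.mem_span_singleton'.mp hxy
    have hfF : f ∈ F := by
      refine hF f x hx (fun z hz => ?_)
      have hzy : z * y ∈ Ideal.span {a} := by rw [hJ]; exact Ideal.mul_mem_mul hz hy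
      obtain ⟨g, hg⟩ := Ideal.mem_span_singleton'.mp hzy
      refine ⟨g, mul_right_cancel₀ ha0 ?_⟩
      calc z * f * a = z * (f * a) := by ring
        _ = z * (x * y) := by rw [hf]
        _ = x * (z * y) := by ring
        _ = x * (g * a) := by rw [hg]
        _ = x * g * a := by ring
    rw [Ideal.mem_span_singleton_mul]
    exact ⟨f, Ideal.subset_span hfF, by rw [← hf]; ring⟩
  have ha : a ∈ Ideal.span {a} * Ideal.span F := key (by rw [← hJ]; exact Ideal.mem_span_singleton_self a)
  obtain ⟨t, ht, hat⟩ := Ideal.mem_span_singleton_mul.mp ha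
  have ht1 : t = 1 := by
    have h : a * t = a * 1 := by rw [hat, mul_one]
    exact mul_left_cancel₀ ha0 h
  rw [Ideal.eq_top_iff_one, ← ht1]
  exact ht

set_option backward.isDefEq.respectTransparency.types false in
theorem main (A : Type u) [CommRing A] [IsDedekindDomain A]
    (U : (Spec (CommRingCat.of A)).Opens) : IsAffineOpen U := by
  obtain ⟨I, hI⟩ : ∃ I : Ideal A, ((U : Set (Spec (CommRingCat.of A)))ᶜ : Set (PrimeSpectrum A)) =
      PrimeSpectrum.zeroLocus (I : Set A) :=
    (PrimeSpectrum.isClosed_iff_zeroLocus_ideal _).mp U.isOpen.isClosed_compl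
  have hmem : ∀ p : Spec (CommRingCat.of A), p ∈ U ↔ ¬ (I ≤ p.asIdeal) := by
    intro p
    have h1 : p ∈ ((U : Set (Spec (CommRingCat.of A)))ᶜ : Set (PrimeSpectrum A)) ↔
        p ∈ PrimeSpectrum.zeroLocus (I : Set A) := Set.ext_iff.mp hI p
    have h2 : (p ∉ U) ↔ I ≤ p.asIdeal := h1
    constructor
    · intro hp hle; exact (h2.mpr hle) hp
    · intro hn; by_contra hp; exact hn (h2.mp hp)
  by_cases hI0 : I = ⊥
  · have hU : U = ⊥ := le_bot_iff.mp (fun p hp => ((hmem p).mp hp (by rw [hI0]; exact bot_le)).elim)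
    rw [hU]
    exact isAffineOpen_bot _
  let F : Set A := {f | IsAffineOpen (U ⊓ (Spec (CommRingCat.of A)).basicOpen
    ((Scheme.ΓSpecIso (CommRingCat.of A)).inv f))}
  have hFspan : Ideal.span F = ⊤ := by
    refine span_F_eq_top I hI0 F (fun f x hx hzf => ?_)
    have heq : U ⊓ (Spec (CommRingCat.of A)).basicOpen ((Scheme.ΓSpecIso (CommRingCat.of A)).inv f) =
        (Spec (CommRingCat.of A)).basicOpen ((Scheme.ΓSpecIso (CommRingCat.of A)).inv (f * x)) := by
      rw [basicOpen_eq_of_affine, basicOpen_eq_of_affine]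
      ext p
      change (p ∈ U ∧ f ∉ p.asIdeal) ↔ f * x ∉ p.asIdeal
      have hprime : p.asIdeal.IsPrime := p.isPrime
      rw [hmem p, hprime.mul_mem_iff_mem_or_mem, not_or]
      constructor
      · rintro ⟨hnI, hf⟩
        refine ⟨hf, fun hxp => hnI (fun z hz => ?_)⟩
        obtain ⟨g, hg⟩ := hzf z hz
        have h2 : z * f ∈ p.asIdeal := by rw [hg]; exact Ideal.mul_mem_right _ _ hxp
        exact (hprime.mem_or_mem h2).resolve_right hf
      · rintro ⟨hf, hxp⟩
        exact ⟨fun hle => hxp (hle hx), hf⟩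
    change IsAffineOpen _
    rw [heq]
    exact (isAffineOpen_top (Spec (CommRingCat.of A))).basicOpen _
  let ρ : A →+* Γ(Spec (CommRingCat.of A), U) :=
    ((Scheme.ΓSpecIso (CommRingCat.of A)).inv ≫
      (Spec (CommRingCat.of A)).presheaf.map (homOfLE le_top).op).hom
  apply isAffineOpen_of_isAffineOpen_basicOpen U (ρ '' F)
  · rw [← Ideal.map_span, hFspan, Ideal.map_top]
  · rintro _ ⟨f, hf, rfl⟩
    have h3 : (Spec (CommRingCat.of A)).basicOpen (ρ f) =
        U ⊓ (Spec (CommRingCat.of A)).basicOpen ((Scheme.ΓSpecIso (CommRingCat.of A)).inv f) :=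
      Scheme.basicOpen_res (Spec (CommRingCat.of A)) ((Scheme.ΓSpecIso (CommRingCat.of A)).inv f)
        (homOfLE le_top).op
    rw [h3]
    exact hf

end H26Ded

end Aux

/-- Every open subscheme of the spectrum of a Dedekind domain is affine. -/
theorem result (A : Type u) [CommRing A] [IsDedekindDomain A]
    (U : (Spec (CommRingCat.of A)).Opens) : IsAffineOpen U := by
  exact H26Ded.main A U

end Groth.Agent.S10871
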