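import Groth.Statements.S10877
import Mathlib

set_option autoImplicit false
universe u
open CategoryTheory AlgebraicGeometry
open FlatMor

namespace Groth.Agent.S10877


open CategoryTheory CategoryTheory.Limits AlgebraicGeometry in
set_option backward.isDefEq.respectTransparency false in
/-- Two morphisms into a separated `Z`-scheme which agree after a dominant morphism agree
pointwise. -/
lemma apply_eq_of_isDominant_of_isSeparated {W X Y Z : Scheme.{u}} {f g : X ⟶ Y}
    (s : Y ⟶ Z) [IsSeparated s] (h : f ≫ s = g ≫ s)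
    (ι : W ⟶ X) [IsDominant ι] (hU : ι ≫ f = ι ≫ g) (x : X) : f x = g x := by
  let X' : Over Z := Over.mk (f ≫ s)
  let Y' : Over Z := Over.mk s
  let U' : Over Z := Over.mk (ι ≫ f ≫ s)
  let f' : X' ⟶ Y' := Over.homMk f
  let g' : X' ⟶ Y' := Over.homMk g
  let ι' : U' ⟶ X' := Over.homMk ι
  have : IsSeparated Y'.hom := ‹_›
  have : IsDominant (equalizer.ι f' g').left := by
    apply +allowSynthFailures IsDominant.of_comp (equalizer.lift ι' ?_).left
    · rwa [← Over.comp_left, equalizer.lift_ι]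
    · ext1; exact hU
  have hsurj : Surjective (equalizer.ι f' g').left :=
    surjective_of_isDominant_of_isClosed_range _ (Scheme.Hom.isClosedEmbedding _).isClosed_range
  obtain ⟨e, rfl⟩ := hsurj.surj x
  have hc : (equalizer.ι f' g').left ≫ f = (equalizer.ι f' g').left ≫ g :=
    congr($(equalizer.condition f' g').left)
  exact (Scheme.Hom.comp_apply _ _ _).symm.trans
    ((congrArg (fun φ : (equalizer f' g').left ⟶ Y => φ e) hc).trans (Scheme.Hom.comp_apply _ _ _))

/-- A separated morphism f : X → Y, with X having finitely many irreducible components, which restricts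
to an open immersion on each member of a cover of X by dense open subsets, is an open immersion. -/
theorem result {X Y : Scheme.{u}} (f : X ⟶ Y) [IsSeparated f]
    (hfin : (irreducibleComponents (X : Type u)).Finite) {ι : Type u} (U : ι → X.Opens)
    (hU : ⨆ i, U i = ⊤) (hd : ∀ i, Dense (U i : Set X)) (h : ∀ i, IsOpenImmersion ((U i).ι ≫ f)) :
    IsOpenImmersion f := by
  have hcov : ∀ x : X, ∃ i, x ∈ U i := by
    intro x
    have hx : x ∈ (⨆ i, U i : X.Opens) := by rw [hU]; trivial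
    exact TopologicalSpace.Opens.mem_iSup.mp hx
  -- stalk maps are isomorphisms
  have hstalk : ∀ x : X, IsIso (f.stalkMap x) := by
    intro x
    obtain ⟨i, hxi⟩ := hcov x
    haveI := h i
    have e := Scheme.Hom.stalkMap_comp (U i).ι f ⟨x, hxi⟩
    haveI h1 : IsIso (Scheme.Hom.stalkMap ((U i).ι ≫ f) ⟨x, hxi⟩) :=
      (IsOpenImmersion.iff_isIso_stalkMap.mp (h i)).2 _
    haveI h2 : IsIso ((U i).ι.stalkMap ⟨x, hxi⟩) :=
      (IsOpenImmersion.iff_isIso_stalkMap.mp (inferInstance : IsOpenImmersion (U i).ι)).2 _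
    haveI : IsIso (f.stalkMap ((U i).ι ⟨x, hxi⟩) ≫ (U i).ι.stalkMap ⟨x, hxi⟩) := by
      rw [← e]; exact h1
    exact IsIso.of_isIso_comp_right (f.stalkMap ((U i).ι ⟨x, hxi⟩)) ((U i).ι.stalkMap ⟨x, hxi⟩)
  -- open map
  have hopen : IsOpenMap f := by
    intro V hV
    rw [isOpen_iff_forall_mem_open]
    rintro _ ⟨x, hxV, rfl⟩
    obtain ⟨i, hxi⟩ := hcov x
    haveI := h i
    refine ⟨((U i).ι ≫ f) '' ((U i).ι ⁻¹' V), ?_, ?_, ?_⟩
    · rintro _ ⟨z, hz, rfl⟩
      exact ⟨(U i).ι z, hz, rfl⟩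
    · exact ((U i).ι ≫ f).isOpenEmbedding.isOpenMap _ (hV.preimage (U i).ι.continuous)
    · exact ⟨⟨x, hxi⟩, hxV, rfl⟩
  -- injective
  have hinj : Function.Injective f := by
    intro x x' hxx'
    obtain ⟨i, hxi⟩ := hcov x
    haveI := h i
    let g : (U i : Scheme) ⟶ Y := (U i).ι ≫ f
    let W : X.Opens := f ⁻¹ᵁ g.opensRange
    have hUW : U i ≤ W := fun z hz => ⟨⟨z, hz⟩, rfl⟩
    have hrange : Set.range (W.ι ≫ f) ⊆ Set.range g := by
      rintro _ ⟨w, rfl⟩
      exact w.2
    let s : (W : Scheme) ⟶ (U i : Scheme) := IsOpenImmersion.lift g (W.ι ≫ f) hrange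
    have hs : s ≫ g = W.ι ≫ f := IsOpenImmersion.lift_fac _ _ _
    have hab : W.ι ≫ f = (s ≫ (U i).ι) ≫ f := by
      rw [Category.assoc]; exact hs.symm
    let j : (U i : Scheme) ⟶ (W : Scheme) := X.homOfLE hUW
    have hj : j ≫ W.ι = (U i).ι := X.homOfLE_ι hUW
    have hjs : j ≫ s = 𝟙 _ := by
      rw [← cancel_mono g, Category.assoc, hs, ← Category.assoc, hj, Category.id_comp]
    have hjab : j ≫ W.ι = j ≫ (s ≫ (U i).ι) := by
      rw [← Category.assoc, hjs, Category.id_comp, hj]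
    haveI : IsDominant j := by
      refine ⟨Dense.mono ?_ ((hd i).preimage W.ι.isOpenEmbedding.isOpenMap)⟩
      intro w hw
      refine ⟨⟨W.ι w, hw⟩, W.ι.isOpenEmbedding.injective ?_⟩
      rw [← Scheme.Hom.comp_apply, hj]
      rfl
    have key := apply_eq_of_isDominant_of_isSeparated f hab j hjab
    have hx'W : x' ∈ W := by
      show f x' ∈ g.opensRange
      rw [← hxx']
      exact ⟨⟨x, hxi⟩, rfl⟩
    have h1 := key ⟨x', hx'W⟩
    have h2 : g (s ⟨x', hx'W⟩) = f x' := by
      rw [← Scheme.Hom.comp_apply, hs]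
      rfl
    have h4 : s ⟨x', hx'W⟩ = ⟨x, hxi⟩ :=
      g.isOpenEmbedding.injective (h2.trans hxx'.symm)
    calc x = (U i).ι ⟨x, hxi⟩ := rfl
      _ = (U i).ι (s ⟨x', hx'W⟩) := by rw [h4]
      _ = (s ≫ (U i).ι) ⟨x', hx'W⟩ := rfl
      _ = W.ι ⟨x', hx'W⟩ := h1.symm
      _ = x' := rfl
  haveI := hstalk
  exact IsOpenImmersion.of_isIso_stalkMap f
    (Topology.IsOpenEmbedding.of_continuous_injective_isOpenMap f.continuous hinj hopen)


end Groth.Agent.S10877
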