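import Groth.Statements.S10878
import Mathlib

set_option autoImplicit false
universe u
open CategoryTheory AlgebraicGeometry
open FlatMor

namespace Groth.Agent.S10878

/-- A separated morphism f : X → Y, with X having finitely many irreducible components, which restricts
to an immersion on each member of a cover of X by dense open subsets, is an immersion. -/
theorem result {X Y : Scheme.{u}} (f : X ⟶ Y) [IsSeparated f]
    (hfin : (irreducibleComponents (X : Type u)).Finite) {ι : Type u} (U : ι → X.Opens)
    (hU : ⨆ i, U i = ⊤) (hd : ∀ i, Dense (U i : Set X)) (h : ∀ i, IsImmersion ((U i).ι ≫ f)) :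
    IsImmersion f := by

  have hcov : ∀ x : X, ∃ i, x ∈ U i := by
    intro x
    have hx : x ∈ (⨆ i, U i : X.Opens) := by rw [hU]; trivial
    exact TopologicalSpace.Opens.mem_iSup.mp hx
  haveI : MorphismProperty.RespectsRight @IsImmersion @IsOpenImmersion :=
    ⟨fun i hi f hf => by haveI := hi; haveI := hf; infer_instance⟩
  let V : ι → Y.Opens := fun i => haveI := h i; ((U i).ι ≫ f).coborderRange
  refine IsZariskiLocalAtTarget.of_range_subset_iSup (P := @IsImmersion) V ?_ ?_
  · rintro _ ⟨x, rfl⟩
    obtain ⟨i, hxi⟩ := hcov x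
    haveI := h i
    have hx : f x ∈ V i := by
      have h1 : ((U i).ι ≫ f).liftCoborder ≫ ((U i).ι ≫ f).coborderRange.ι = (U i).ι ≫ f :=
        Scheme.Hom.liftCoborder_ι _
      have h2 : f x = (((U i).ι ≫ f).liftCoborder ≫ ((U i).ι ≫ f).coborderRange.ι) ⟨x, hxi⟩ := by
        rw [h1]; rfl
      rw [h2]
      exact ((((U i).ι ≫ f).liftCoborder) ⟨x, hxi⟩).2
    exact TopologicalSpace.Opens.mem_iSup.mpr ⟨i, hx⟩
  · intro i
    haveI := h i
    let g : (U i : Scheme) ⟶ Y := (U i).ι ≫ f
    let W : X.Opens := f ⁻¹ᵁ (V i)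
    have hUW : U i ≤ W := by
      intro z hz
      have h1 : g.liftCoborder ≫ g.coborderRange.ι = g := Scheme.Hom.liftCoborder_ι _
      have h2 : f z = (g.liftCoborder ≫ g.coborderRange.ι) ⟨z, hz⟩ := by
        rw [h1]; rfl
      show f z ∈ V i
      rw [h2]
      exact ((g.liftCoborder) ⟨z, hz⟩).2
    let j : (U i : Scheme) ⟶ (W : Scheme) := X.homOfLE hUW
    have hj : j ≫ W.ι = (U i).ι := X.homOfLE_ι hUW
    have hcomp : j ≫ (f ∣_ V i) = g.liftCoborder := by
      rw [← cancel_mono (V i).ι, Category.assoc, morphismRestrict_ι, ← Category.assoc, hj]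
      exact (Scheme.Hom.liftCoborder_ι g).symm
    haveI : IsClosedImmersion (j ≫ (f ∣_ V i)) := by rw [hcomp]; infer_instance
    haveI : IsSeparated (f ∣_ V i) := inferInstance
    haveI : IsClosedImmersion j := IsClosedImmersion.of_comp j (f ∣_ V i)
    haveI : IsDominant j := by
      refine ⟨Dense.mono ?_ ((hd i).preimage W.ι.isOpenEmbedding.isOpenMap)⟩
      intro w hw
      refine ⟨⟨W.ι w, hw⟩, W.ι.isOpenEmbedding.injective ?_⟩
      rw [← Scheme.Hom.comp_apply, hj]
      rfl
    have hsurj : Surjective j :=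
      surjective_of_isDominant_of_isClosed_range _ (Scheme.Hom.isClosedEmbedding j).isClosed_range
    haveI : IsIso j := (isIso_iff_isOpenImmersion_and_surjective j).mpr ⟨inferInstance, hsurj⟩
    haveI : IsClosedImmersion (f ∣_ V i) :=
      (MorphismProperty.cancel_left_of_respectsIso (P := @IsClosedImmersion) j (f ∣_ V i)).mp
        (inferInstance : IsClosedImmersion (j ≫ (f ∣_ V i)))
    infer_instance


end Groth.Agent.S10878
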