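import Groth.Statements.S10879
import Mathlib
import Groth.Agent.Lib.Helper5.LocIsoSep
import Groth.Agent.Lib.Helper5.BirCodim1

set_option autoImplicit false
universe u
open CategoryTheory AlgebraicGeometry
open FlatMor

namespace Groth.Agent.S10879

lemma bijective_of_faithfullyFlat {R O K : Type*} [CommRing R] [CommRing O] [Field K]
    [Algebra R O] [Module.FaithfullyFlat R O]
    (j : O →+* K) (hj : Function.Injective j) (i : R →+* K) (hi : Function.Injective i)
    (hcomp : ∀ r, j (algebraMap R O r) = i r)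
    (hfrac : ∀ k : K, ∃ a1 a2 : R, a2 ≠ 0 ∧ i a2 * k = i a1) :
    Function.Bijective (algebraMap R O) := by
  constructor
  · intro a b hab
    apply hi
    rw [← hcomp, ← hcomp, hab]
  · intro b
    obtain ⟨a1, a2, ha2, h⟩ := hfrac (j b)
    have h1 : algebraMap R O a2 * b = algebraMap R O a1 := by
      apply hj
      rw [map_mul, hcomp, hcomp, h]
    have h2 : a1 ∈ (Ideal.span {a2} : Ideal R) := by
      rw [← Ideal.comap_map_eq_self_of_faithfullyFlat (B := O) (Ideal.span {a2})]
      rw [Ideal.mem_comap, Ideal.map_span, Set.image_singleton, Ideal.mem_span_singleton]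
      exact ⟨b, h1.symm⟩
    obtain ⟨c, rfl⟩ := Ideal.mem_span_singleton.mp h2
    refine ⟨c, ?_⟩
    apply hj
    have hne : i a2 ≠ 0 := fun h0 => ha2 (hi (h0.trans (map_zero i).symm))
    apply mul_left_cancel₀ hne
    rw [hcomp, h, map_mul]

open AlgebraicGeometry CategoryTheory Limits in
lemma map_genericPoint_of_surjective {X' X : Scheme.{u}} [IsIntegral X'] [IsIntegral X]
    (f : X' ⟶ X) [Surjective f] : f (genericPoint X') = genericPoint X := by
  obtain ⟨x'', hx''⟩ := f.surjective (genericPoint X)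
  have h1 : genericPoint X' ⤳ x'' := (genericPoint_spec X').specializes (Set.mem_univ _)
  have h2 : f (genericPoint X') ⤳ genericPoint X := by
    have h0 := h1.map f.continuous
    rwa [hx''] at h0
  have h3 : genericPoint X ⤳ f (genericPoint X') :=
    (genericPoint_spec X).specializes (Set.mem_univ _)
  exact (h2.antisymm h3).eq

open AlgebraicGeometry CategoryTheory Limits in
lemma frac_stalk {Y : Scheme.{u}} [IsIntegral Y] (z : Y) (y' : Y) (hy' : y' = genericPoint Y)
    (h : y' ⤳ z) :
    Function.Injective (Y.presheaf.stalkSpecializes h).hom ∧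
    ∀ k : Y.presheaf.stalk y', ∃ a1 a2 : Y.presheaf.stalk z, a2 ≠ 0 ∧
      (Y.presheaf.stalkSpecializes h).hom a2 * k = (Y.presheaf.stalkSpecializes h).hom a1 := by
  subst hy'
  have e : (Y.presheaf.stalkSpecializes h).hom =
      algebraMap (Y.presheaf.stalk z) Y.functionField := rfl
  rw [e]
  refine ⟨IsFractionRing.injective _ _, fun k => ?_⟩
  obtain ⟨⟨a1, a2⟩, hk⟩ :=
    IsLocalization.surj (nonZeroDivisors (Y.presheaf.stalk z)) (k : Y.functionField)
  exact ⟨a1, a2, nonZeroDivisors.ne_zero a2.2, by rw [mul_comm]; exact hk⟩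

open AlgebraicGeometry CategoryTheory Limits in
lemma frac_top {Y : Scheme.{u}} [IsIntegral Y] [IsAffine Y] (y' : Y)
    (hy' : y' = genericPoint Y) :
    Function.Injective (Y.presheaf.germ ⊤ y' trivial).hom ∧
    ∀ k : Y.presheaf.stalk y', ∃ a1 a2 : Γ(Y, ⊤), a2 ≠ 0 ∧
      (Y.presheaf.germ ⊤ y' trivial).hom a2 * k = (Y.presheaf.germ ⊤ y' trivial).hom a1 := by
  subst hy'
  haveI : Nonempty (⊤ : Y.Opens) := ⟨⟨genericPoint Y, trivial⟩⟩
  haveI : IsFractionRing Γ(Y, ⊤) Y.functionField :=
    functionField_isFractionRing_of_isAffineOpen Y ⊤ (isAffineOpen_top Y)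
  have e : (Y.presheaf.germ ⊤ (genericPoint Y) trivial).hom =
      algebraMap Γ(Y, ⊤) Y.functionField := rfl
  rw [e]
  refine ⟨IsFractionRing.injective _ _, fun k => ?_⟩
  obtain ⟨⟨a1, a2⟩, hk⟩ :=
    IsLocalization.surj (nonZeroDivisors Γ(Y, ⊤)) (k : Y.functionField)
  exact ⟨a1, a2, nonZeroDivisors.ne_zero a2.2, by rw [mul_comm]; exact hk⟩

open AlgebraicGeometry CategoryTheory Limits in
lemma bijective_stalkMap {X' X : Scheme.{u}} [IsIntegral X'] [IsIntegral X] (f : X' ⟶ X)
    [Flat f] (hgen : f (genericPoint X') = genericPoint X)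
    (hK : IsIso (f.stalkMap (genericPoint X'))) (x' : X') :
    Function.Bijective (f.stalkMap x').hom := by
  have h : genericPoint X' ⤳ x' := (genericPoint_spec X').specializes (Set.mem_univ _)
  have hnat := Scheme.Hom.stalkSpecializes_stalkMap f (genericPoint X') x' h
  obtain ⟨hinj, hfrac⟩ := frac_stalk (f x') (f (genericPoint X')) hgen
    (f.base.hom.map_specializes h)
  have hσ : Function.Bijective (f.stalkMap (genericPoint X')).hom :=
    (ConcreteCategory.isIso_iff_bijective _).mp hK
  have hιinj : Function.Injective (X'.presheaf.stalkSpecializes h).hom := by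
    have e : (X'.presheaf.stalkSpecializes h).hom =
        algebraMap (X'.presheaf.stalk x') X'.functionField := rfl
    rw [e]
    exact IsFractionRing.injective _ _
  algebraize [(f.stalkMap x').hom]
  haveI : Module.FaithfullyFlat (X.presheaf.stalk (f x')) (X'.presheaf.stalk x') :=
    @Module.FaithfullyFlat.of_flat_of_isLocalHom _ _ _ _ _ _ _
      (Flat.stalkMap f x') (f.toLRSHom.prop x')
  show Function.Bijective (algebraMap (X.presheaf.stalk (f x')) (X'.presheaf.stalk x'))
  refine bijective_of_faithfullyFlat (K := X'.functionField)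
    (X'.presheaf.stalkSpecializes h).hom hιinj
    ((f.stalkMap (genericPoint X')).hom.comp
      (X.presheaf.stalkSpecializes (f.base.hom.map_specializes h)).hom)
    (hσ.1.comp hinj) ?_ ?_
  · intro r
    exact (congr($hnat r)).symm
  · intro k
    obtain ⟨k0, rfl⟩ := hσ.2 k
    obtain ⟨a1, a2, ha2, hk⟩ := hfrac k0
    refine ⟨a1, a2, ha2, ?_⟩
    show (f.stalkMap (genericPoint X')).hom _ * (f.stalkMap (genericPoint X')).hom k0 =
      (f.stalkMap (genericPoint X')).hom _
    rw [← map_mul, hk]

open AlgebraicGeometry CategoryTheory Limits in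
lemma isIso_of_affine {X' X : Scheme.{u}} [IsIntegral X'] [IsIntegral X] [IsAffine X']
    [IsAffine X] (g : X' ⟶ X) [Flat g] [Surjective g]
    (hK : IsIso (g.stalkMap (genericPoint X'))) : IsIso g := by
  have hgen := map_genericPoint_of_surjective g
  have hff : g.appTop.hom.FaithfullyFlat :=
    (Flat.flat_and_surjective_iff_faithfullyFlat_of_isAffine g).mp ⟨inferInstance, inferInstance⟩
  have hσ : Function.Bijective (g.stalkMap (genericPoint X')).hom :=
    (ConcreteCategory.isIso_iff_bijective _).mp hK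
  obtain ⟨hinj, hfrac⟩ := frac_top (g (genericPoint X')) hgen
  have hjinj : Function.Injective (X'.presheaf.germ ⊤ (genericPoint X') trivial).hom :=
    germ_injective_of_isIntegral X' (U := ⊤) (genericPoint X') trivial
  have hnat := g.germ_stalkMap ⊤ (genericPoint X') trivial
  have hbij : Function.Bijective g.appTop.hom := by
    algebraize [g.appTop.hom]
    show Function.Bijective (algebraMap Γ(X, ⊤) Γ(X', ⊤))
    refine bijective_of_faithfullyFlat (K := X'.functionField)
      (X'.presheaf.germ ⊤ (genericPoint X') trivial).hom hjinj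
      ((g.stalkMap (genericPoint X')).hom.comp
        (X.presheaf.germ ⊤ (g (genericPoint X')) trivial).hom)
      (hσ.1.comp hinj) ?_ ?_
    · intro r
      exact (congr($hnat r)).symm
    · intro k
      obtain ⟨k0, rfl⟩ := hσ.2 k
      obtain ⟨a1, a2, ha2, hk⟩ := hfrac k0
      refine ⟨a1, a2, ha2, ?_⟩
      show (g.stalkMap (genericPoint X')).hom _ * (g.stalkMap (genericPoint X')).hom k0 =
        (g.stalkMap (genericPoint X')).hom _
      rw [← map_mul, hk]
  haveI : IsIso g.appTop := (ConcreteCategory.isIso_iff_bijective _).mpr hbij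
  exact (HasAffineProperty.iff_of_isAffine (P := MorphismProperty.isomorphisms Scheme)).mpr
    ⟨inferInstance, inferInstance⟩

/-- Take integral schemes X' and X and a separated surjective morphism f : X' → X which is birational in
the sense that the induced map of function fields (the stalk map of f at the generic point of X') is
an isomorphism, and suppose f is affine (e.g. a normalization) or locally of finite presentation
(e.g. a blow-up of a Noetherian integral scheme). Then f is flat exactly when it is an isomorphism. -/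
theorem result {X' X : Scheme.{u}} [IsIntegral X'] [IsIntegral X]
    (f : X' ⟶ X) [Surjective f] [IsSeparated f] (hK : IsIso (f.stalkMap (genericPoint X')))
    (h : IsAffineHom f ∨ LocallyOfFinitePresentation f) :
    Flat f ↔ IsIso f := by
  refine ⟨fun hflat => ?_, fun hiso => inferInstance⟩
  haveI := hflat
  have hgen := map_genericPoint_of_surjective f
  rcases h with haff | hlfp
  · haveI := haff
    have key : ∀ x : X, ∃ U : X.Opens, x ∈ U ∧ IsIso (f ∣_ U) := by
      intro x
      obtain ⟨U, hU, hxU⟩ : ∃ U : X.Opens, IsAffineOpen U ∧ x ∈ U := by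
        obtain ⟨_, ⟨U, hU, rfl⟩, hxU, -⟩ :=
          X.isBasis_affineOpens.exists_subset_of_mem_open (Set.mem_univ x) isOpen_univ
        exact ⟨U, hU, hxU⟩
      refine ⟨U, hxU, ?_⟩
      obtain ⟨x', hx'⟩ := f.surjective x
      haveI : Nonempty U.toScheme := ⟨⟨x, hxU⟩⟩
      haveI : Nonempty (f ⁻¹ᵁ U).toScheme :=
        ⟨⟨x', by show f x' ∈ U; rw [hx']; exact hxU⟩⟩
      haveI : IsIntegral U.toScheme := isIntegral_of_isOpenImmersion U.ι
      haveI : IsIntegral (f ⁻¹ᵁ U).toScheme := isIntegral_of_isOpenImmersion (f ⁻¹ᵁ U).ι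
      haveI : IsAffine U.toScheme := hU
      haveI : IsAffine (f ⁻¹ᵁ U).toScheme := hU.preimage f
      haveI : Surjective (f ∣_ U) := IsZariskiLocalAtTarget.restrict (P := @Surjective) ‹_› U
      have hgenU : (f ⁻¹ᵁ U).ι (genericPoint (f ⁻¹ᵁ U).toScheme) = genericPoint X' :=
        genericPoint_eq_of_isOpenImmersion (f ⁻¹ᵁ U).ι
      have hK' : IsIso ((f ∣_ U).stalkMap (genericPoint (f ⁻¹ᵁ U).toScheme)) := by
        have e1 : (f ∣_ U) ≫ U.ι = (f ⁻¹ᵁ U).ι ≫ f := morphismRestrict_ι f U
        have key2 : ∀ z : X', z = genericPoint X' → IsIso (f.stalkMap z) := by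
          rintro _ rfl; exact hK
        have h3 : IsIso (((f ⁻¹ᵁ U).ι ≫ f).stalkMap (genericPoint (f ⁻¹ᵁ U).toScheme)) := by
          rw [Scheme.Hom.stalkMap_comp]
          exact IsIso.comp_isIso' (key2 _ hgenU) inferInstance
        have h4 : ∀ (φ : (f ⁻¹ᵁ U).toScheme ⟶ X), φ = (f ⁻¹ᵁ U).ι ≫ f →
            IsIso (φ.stalkMap (genericPoint (f ⁻¹ᵁ U).toScheme)) := by
          rintro _ rfl; exact h3
        have h5 := h4 _ e1
        rw [Scheme.Hom.stalkMap_comp] at h5
        haveI h6 : IsIso (U.ι.stalkMap ((f ∣_ U) (genericPoint (f ⁻¹ᵁ U).toScheme)) ≫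
            (f ∣_ U).stalkMap (genericPoint (f ⁻¹ᵁ U).toScheme)) := h5
        haveI : IsIso (U.ι.stalkMap ((f ∣_ U) (genericPoint (f ⁻¹ᵁ U).toScheme))) :=
          inferInstance
        exact IsIso.of_isIso_comp_left
          (U.ι.stalkMap ((f ∣_ U) (genericPoint (f ⁻¹ᵁ U).toScheme))) _
      exact isIso_of_affine (f ∣_ U) hK'
    obtain ⟨V, hV, hmax⟩ := Groth.Agent.Helper5.BirCodim1.exists_max_isIso_restrict f
    have hVtop : V = ⊤ := by
      refine top_unique fun x _ => ?_
      obtain ⟨U, hxU, hU⟩ := key x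
      exact hmax U hU hxU
    have htop : f ⁻¹ᵁ V = ⊤ := by rw [hVtop]; rfl
    haveI := hV
    have h1 : (f ∣_ V) ≫ V.ι = (f ⁻¹ᵁ V).ι ≫ f := morphismRestrict_ι f V
    have hι : ∀ (Z : Scheme.{u}) (W : Z.Opens), W = ⊤ → IsIso W.ι := by
      rintro Z _ rfl
      exact (Scheme.topIso Z).isIso_hom
    haveI := hι _ _ htop
    haveI := hι _ _ hVtop
    have h2 : f = inv (f ⁻¹ᵁ V).ι ≫ (f ∣_ V) ≫ V.ι := by
      rw [h1, IsIso.inv_hom_id_assoc]
    rw [h2]
    infer_instance
  · haveI := hlfp
    have hloc : ∀ x' : X', ∃ W : X'.Opens, x' ∈ W ∧ IsOpenImmersion (W.ι ≫ f) := by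
      intro x'
      have hiso : IsIso (f.stalkMap x') :=
        (ConcreteCategory.isIso_iff_bijective _).mpr (bijective_stalkMap f hgen hK x')
      exact Groth.Agent.Helper5.BirDense.isLocalIsoAt_of_lfp f x' hiso
    haveI : IsOpenImmersion f :=
      Groth.Agent.Helper5.LocIsoSep.isOpenImmersion_of_forall_exists f hloc
    exact (isIso_iff_isOpenImmersion_and_surjective f).mpr ⟨inferInstance, inferInstance⟩

end Groth.Agent.S10879
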