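import Groth.Statements.S1088
import Groth.Agent.Lib.Helper22.FilDTruncLE
import Groth.Agent.S1085

set_option autoImplicit false
universe v u
open CategoryTheory CategoryTheory.Limits Opposite
open FilD

namespace Groth.Agent.S1088

/-- Let K be a cochain complex of finite filtered objects of an abelian category such that Hⁿ(grᵖ K) = 0
for all p and all n > b. Then there is a filtered quasi-isomorphism M ⟶ K with Mⁿ = 0 for all n > b. -/
theorem result {A : Type u} [Category.{v} A] [Abelian A] (K : CochainComplex (FilD.FilF A) ℤ) (b : ℤ)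
    (hK : ∀ (p n : ℤ), b < n → IsZero (((FilD.grCx p).obj K).homology n)) :
    ∃ (M : CochainComplex (FilD.FilF A) ℤ) (φ : M ⟶ K), M.IsStrictlyLE b ∧ FilD.IsFilteredQuasiIso φ := by
  have hd : FilD.IsStrict (K.d b (b + 1)) := by
    let S : ShortComplex (FilD.FilF A) :=
      ShortComplex.mk (K.d b (b + 1)) (K.d (b + 1) (b + 1 + 1)) (K.d_comp_d _ _ _)
    have hS : ∀ p : ℤ, (S.map (FilD.grF A p)).Exact := by
      intro p
      have h := (HomologicalComplex.exactAt_iff_isZero_homology _ _).2 (hK p (b + 1) (by omega))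
      rw [HomologicalComplex.exactAt_iff' _ b (b + 1) (b + 1 + 1) (by simp) (by simp)] at h
      exact h
    exact (Groth.Agent.S1085.result S hS).2.1
  exact ⟨Groth.Agent.Helper22.FilDTruncLE.truncCx K b,
    Groth.Agent.Helper22.FilDTruncLE.truncMap K b,
    Groth.Agent.Helper22.FilDTruncLE.truncCx_isStrictlyLE K b,
    Groth.Agent.Helper22.FilDTruncLE.truncMap_qis K b hd hK⟩

end Groth.Agent.S1088
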