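import Groth.Statements.S10880
import Mathlib
import Groth.Agent.Lib.Helper9.DVRFib

set_option autoImplicit false
universe u
open CategoryTheory AlgebraicGeometry
open FlatMor

namespace Groth.Agent.S10880


set_option linter.style.haveILetI false
set_option linter.unusedSectionVars false

theorem alg_flat (R : Type u) [CommRing R] [IsDomain R] [IsDiscreteValuationRing R]
    (A : Type u) [CommRing A] [Algebra R A] [IsNoetherianRing A]
    (hrad : ((IsLocalRing.maximalIdeal R).map (algebraMap R A)).IsRadical)
    (hdense : ∀ b : A, ¬ IsNilpotent b →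
      ∃ y : PrimeSpectrum A, b ∉ y.asIdeal ∧ y.asIdeal.comap (algebraMap R A) = ⊥) :
    Module.Flat R A := by
  obtain ⟨ϖ, hϖ⟩ := IsDiscreteValuationRing.exists_irreducible R
  set π : A := algebraMap R A ϖ with hπ
  have hm : (IsLocalRing.maximalIdeal R).map (algebraMap R A) = Ideal.span {π} := by
    rw [hϖ.maximalIdeal_eq, Ideal.map_span, Set.image_singleton]
  rw [hm] at hrad
  -- the π-power torsion ideal
  let N : Ideal A :=
    { carrier := {b | ∃ k : ℕ, π ^ k * b = 0}
      add_mem' := by
        rintro a b ⟨k, hk⟩ ⟨l, hl⟩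
        refine ⟨k + l, ?_⟩
        have e1 : π ^ (k + l) * (a + b) = π ^ l * (π ^ k * a) + π ^ k * (π ^ l * b) := by ring
        rw [e1, hk, hl]
        simp
      zero_mem' := ⟨0, by simp⟩
      smul_mem' := by
        rintro c b ⟨k, hk⟩
        refine ⟨k, ?_⟩
        rw [smul_eq_mul, mul_left_comm, hk, mul_zero] }
  have hNmem : ∀ b : A, b ∈ N ↔ ∃ k : ℕ, π ^ k * b = 0 := fun b => Iff.rfl
  have hnil : ∀ b ∈ N, IsNilpotent b := by
    intro b hb
    obtain ⟨k, hk⟩ := (hNmem b).mp hb
    by_contra hnn
    obtain ⟨y, hby, hy⟩ := hdense b hnn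
    have h0 : π ^ k * b ∈ y.asIdeal := by rw [hk]; exact y.asIdeal.zero_mem
    rcases y.2.mem_or_mem h0 with h1 | h1
    · have h2 : π ∈ y.asIdeal := y.2.mem_of_pow_mem k h1
      have h3 : ϖ ∈ y.asIdeal.comap (algebraMap R A) := h2
      rw [hy] at h3
      exact hϖ.ne_zero ((Ideal.mem_bot).mp h3)
    · exact hby h1
  have hle : N ≤ Ideal.span {π} • N := by
    intro b hb
    obtain ⟨k, hk⟩ := (hNmem b).mp hb
    obtain ⟨n, hn⟩ := hnil b hb
    have h1 : b ∈ Ideal.span {π} := hrad ⟨n, by rw [hn]; exact zero_mem _⟩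
    obtain ⟨b', rfl⟩ := Ideal.mem_span_singleton.mp h1
    have hb' : b' ∈ N := ⟨k + 1, by rw [pow_succ, mul_assoc]; exact hk⟩
    exact Submodule.smul_mem_smul (Ideal.mem_span_singleton_self π) hb'
  obtain ⟨r, hr1, hr2⟩ := Submodule.exists_sub_one_mem_and_smul_eq_zero_of_fg_of_le_smul
    (Ideal.span {π}) N (IsNoetherian.noetherian _) hle
  obtain ⟨c, hc⟩ := Ideal.mem_span_singleton.mp hr1
  have hN0 : ∀ b ∈ N, b = 0 := by
    intro b hb
    obtain ⟨k, hk⟩ := (hNmem b).mp hb
    have h1 : r * b = 0 := hr2 b hb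
    have h2 : b = (-(π * c)) * b := by
      have : r = 1 + π * c := by rw [← hc]; ring
      rw [this] at h1
      have h3 : b + π * c * b = 0 := by rw [← h1]; ring
      rw [neg_mul]
      exact eq_neg_of_add_eq_zero_left h3
    have h3 : ∀ j : ℕ, b = (-(π * c)) ^ j * b := by
      intro j
      induction j with
      | zero => simp
      | succ j ih =>
        rw [pow_succ, mul_assoc, ← h2]
        exact ih
    calc b = (-(π * c)) ^ k * b := h3 k
      _ = (-c) ^ k * (π ^ k * b) := by ring
      _ = 0 := by rw [hk, mul_zero]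
  rw [IsDedekindDomain.flat_iff_torsion_eq_bot, eq_bot_iff]
  rintro a ⟨⟨s, hs⟩, hsa⟩
  have hs0 : s ≠ 0 := nonZeroDivisors.ne_zero hs
  obtain ⟨n, u, hu⟩ := IsDiscreteValuationRing.eq_unit_mul_pow_irreducible hs0 hϖ
  have h1 : algebraMap R A s * a = 0 := by
    rw [← Algebra.smul_def]
    exact hsa
  rw [hu, map_mul, map_pow, mul_assoc] at h1
  have hunit : IsUnit (algebraMap R A (u : R)) := (u.isUnit).map (algebraMap R A)
  have h2 : π ^ n * a = 0 := by
    have := hunit.mul_right_eq_zero.mp h1
    exact this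
  exact (Submodule.mem_bot A).mpr (hN0 a ⟨n, h2⟩)

/-- Let R be a discrete valuation ring and X a locally Noetherian scheme over Spec R whose
scheme-theoretic special fibre is reduced and such that every maximal point of the special fibre
lies in the closure of the generic fibre, i.e. the generic fibre is dense in X. Then X is flat over
R. -/
theorem result (R : Type u) [CommRing R] [IsDomain R]
    [IsDiscreteValuationRing R] {X : Scheme.{u}} (f : X ⟶ Spec (CommRingCat.of R)) [IsLocallyNoetherian X]
    (hred : IsReduced (f.fiber (IsLocalRing.closedPoint R)))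
    (hdense : Dense (f.base ⁻¹' {genericPoint (Spec (CommRingCat.of R))})) : Flat f := by

  rw [IsZariskiLocalAtSource.iff_of_openCover (P := @Flat) X.affineOpenCover.openCover]
  intro i
  -- the affine chart
  set B : CommRingCat.{u} := X.affineOpenCover.X i with hB
  let j : Spec B ⟶ X := X.affineOpenCover.f i
  haveI : IsOpenImmersion j := X.affineOpenCover.map_prop i
  change Flat (j ≫ f)
  let φ : CommRingCat.of R ⟶ B := Spec.preimage (j ≫ f)
  have hφ : Spec.map φ = j ≫ f := Spec.map_preimage _
  rw [← hφ, Flat.SpecMap_iff]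
  letI : Algebra R B := φ.hom.toAlgebra
  have halg : algebraMap R B = φ.hom := rfl
  haveI : IsLocallyNoetherian (Spec B) := isLocallyNoetherian_of_isOpenImmersion j
  haveI : IsNoetherianRing B := isLocallyNoetherian_Spec.mp inferInstance
  have hj : j ≫ f = Spec.map (CommRingCat.ofHom (algebraMap R B)) := by
    rw [← hφ]
    rfl
  have hrad := Groth.Agent.Helper9.DVRFib.fiber_radical f hred B j hj
  have key : Module.Flat R B := by
    apply alg_flat R B hrad
    intro b hb
    -- the basic open of b is a nonempty open of Spec B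
    have hne : (PrimeSpectrum.basicOpen b : Set (PrimeSpectrum B)).Nonempty := by
      by_contra hempty
      rw [Set.not_nonempty_iff_eq_empty] at hempty
      apply hb
      have : PrimeSpectrum.basicOpen b = ⊥ := by
        ext1
        exact hempty
      exact (PrimeSpectrum.basicOpen_eq_bot_iff b).mp this
    have hopen : IsOpen (j.base '' (PrimeSpectrum.basicOpen b : Set (PrimeSpectrum B))) :=
      j.isOpenEmbedding.isOpenMap _ (PrimeSpectrum.basicOpen b).2
    obtain ⟨x, hx1, hx2⟩ := hdense.inter_open_nonempty _ hopen (hne.image _)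
    obtain ⟨y, hy, rfl⟩ := hx1
    refine ⟨y, hy, ?_⟩
    have h1 : (j ≫ f).base y = genericPoint (Spec (CommRingCat.of R)) := hx2
    rw [← hφ, genericPoint_eq_bot_of_affine] at h1
    have h2 := congrArg PrimeSpectrum.asIdeal h1
    exact h2
  exact key


end Groth.Agent.S10880
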