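import Groth.Statements.S3447
import Mathlib
import Groth.Agent.H29.DimLocalHom

set_option autoImplicit false
open CategoryTheory AlgebraicGeometry
universe u
open EGA43

namespace Groth.Agent.S3447

section Helpers
open AlgebraicGeometry CategoryTheory Order TopologicalSpace

variable {X Y : Scheme.{u}}

theorem map_fromSpecStalk_of_le (f : X ⟶ Y) (x : X)
    (P : PrimeSpectrum (X.presheaf.stalk x))
    (hP : (IsLocalRing.maximalIdeal (Y.presheaf.stalk (f.base x))).map (f.stalkMap x).hom ≤
      P.asIdeal) :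
    f.base ((X.fromSpecStalk x).base P) = f.base x := by
  have h3 := Scheme.SpecMap_stalkMap_fromSpecStalk f (x := x)
  have h4 : (X.fromSpecStalk x ≫ f).base P =
      (Spec.map (f.stalkMap x) ≫ Y.fromSpecStalk (f.base x)).base P := by rw [h3]
  have h5 : (Spec.map (f.stalkMap x)).base P =
      IsLocalRing.closedPoint (Y.presheaf.stalk (f.base x)) := by
    apply PrimeSpectrum.ext
    change Ideal.comap (f.stalkMap x).hom P.asIdeal = IsLocalRing.maximalIdeal _
    have hle : IsLocalRing.maximalIdeal (Y.presheaf.stalk (f.base x)) ≤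
        Ideal.comap (f.stalkMap x).hom P.asIdeal := Ideal.map_le_iff_le_comap.mp hP
    have hne : Ideal.comap (f.stalkMap x).hom P.asIdeal ≠ ⊤ :=
      Ideal.IsPrime.ne_top inferInstance
    exact ((IsLocalRing.maximalIdeal.isMaximal _).eq_of_le hne hle).symm
  have h6 : (Spec.map (f.stalkMap x) ≫ Y.fromSpecStalk (f.base x)).base P =
      (Y.fromSpecStalk (f.base x)).base ((Spec.map (f.stalkMap x)).base P) := rfl
  have h7 : (X.fromSpecStalk x ≫ f).base P = f.base ((X.fromSpecStalk x).base P) := rfl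
  rw [← h7, h4, h6, h5]
  exact Scheme.fromSpecStalk_closedPoint

theorem fibre_dim_le (f : X ⟶ Y) (x : X) :
    ringKrullDim (X.presheaf.stalk x ⧸
      (IsLocalRing.maximalIdeal (Y.presheaf.stalk (f.base x))).map (f.stalkMap x).hom) ≤
      ringKrullDim ((f.fiber (f.base x)).presheaf.stalk (f.asFiber x)) := by
  obtain ⟨I, hI⟩ : ∃ I : Ideal (X.presheaf.stalk x),
      I = (IsLocalRing.maximalIdeal (Y.presheaf.stalk (f.base x))).map (f.stalkMap x).hom :=
    ⟨_, rfl⟩
  rw [← hI, ringKrullDim_stalk_eq_coheight, Order.coheight_eq_krullDim_Ici, ringKrullDim,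
    ← Order.krullDim_orderDual]
  let q : PrimeSpectrum (X.presheaf.stalk x ⧸ I) → PrimeSpectrum (X.presheaf.stalk x) :=
    PrimeSpectrum.comap (Ideal.Quotient.mk I)
  have hq : ∀ P, I ≤ (q P).asIdeal := by
    intro P a ha
    change Ideal.Quotient.mk I a ∈ P.asIdeal
    rw [Ideal.Quotient.eq_zero_iff_mem.mpr ha]
    exact P.asIdeal.zero_mem
  have hqle : ∀ P Q, q P ≤ q Q ↔ P ≤ Q := by
    intro P Q
    constructor
    · intro h a ha
      obtain ⟨b, rfl⟩ := Ideal.Quotient.mk_surjective a
      exact h ha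
    · intro h a ha
      exact h ha
  have hθf : ∀ P, f.base ((X.fromSpecStalk x).base (q P)) = f.base x := fun P =>
    map_fromSpecStalk_of_le f x (q P) (hI ▸ hq P)
  let g : PrimeSpectrum (X.presheaf.stalk x ⧸ I) → f.fiber (f.base x) := fun P =>
    (f.fiberHomeo (f.base x)).symm ⟨(X.fromSpecStalk x).base (q P), hθf P⟩
  have hιg : ∀ P, (f.fiberι (f.base x)).base (g P) = (X.fromSpecStalk x).base (q P) :=
    fun P => f.fiberι_fiberHomeo_symm _ _
  have hemb := (f.fiberι (f.base x)).isEmbedding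
  have hemb2 := (X.fromSpecStalk x).isEmbedding
  have hgle : ∀ P Q, g P ≤ g Q ↔ Q ≤ P := by
    intro P Q
    have h1 : g P ≤ g Q ↔ g Q ⤳ g P := Scheme.le_iff_specializes
    have h2 : (f.fiberι (f.base x)).base (g Q) ⤳ (f.fiberι (f.base x)).base (g P) ↔
        g Q ⤳ g P := hemb.isInducing.specializes_iff
    have h3 : (X.fromSpecStalk x).base (q Q) ⤳ (X.fromSpecStalk x).base (q P) ↔
        (q Q) ⤳ (q P) := hemb2.isInducing.specializes_iff
    have h4 : q Q ≤ q P ↔ q Q ⤳ q P := PrimeSpectrum.le_iff_specializes _ _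
    rw [h1, ← h2, hιg, hιg]
    exact h3.trans (h4.symm.trans (hqle Q P))
  have hx0 : ∀ P, f.asFiber x ≤ g P := by
    intro P
    have h1 : f.asFiber x ≤ g P ↔ g P ⤳ f.asFiber x := Scheme.le_iff_specializes
    have h2 : (f.fiberι (f.base x)).base (g P) ⤳ (f.fiberι (f.base x)).base (f.asFiber x) ↔
        g P ⤳ f.asFiber x := hemb.isInducing.specializes_iff
    rw [h1, ← h2, hιg]
    have h3 : (f.fiberι (f.base x)).base (f.asFiber x) = x := f.fiberι_asFiber x
    rw [h3]
    have h4 : (X.fromSpecStalk x).base (q P) ∈ Set.range (X.fromSpecStalk x).base := ⟨_, rfl⟩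
    have h5 : Set.range (X.fromSpecStalk x).base = { y | y ⤳ x } := Scheme.range_fromSpecStalk
    rw [h5] at h4
    exact h4
  refine Order.krullDim_le_of_strictMono
    (fun P : (PrimeSpectrum (X.presheaf.stalk x ⧸ I))ᵒᵈ =>
      (⟨g (OrderDual.ofDual P), hx0 _⟩ : Set.Ici (f.asFiber x))) ?_
  intro P Q hPQ
  rw [lt_iff_le_not_ge] at hPQ ⊢
  refine ⟨?_, ?_⟩
  · change g (OrderDual.ofDual P) ≤ g (OrderDual.ofDual Q)
    rw [hgle]
    exact hPQ.1
  · change ¬ g (OrderDual.ofDual Q) ≤ g (OrderDual.ofDual P)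
    rw [hgle]
    exact hPQ.2

theorem topDim_eq (X : Scheme.{u}) : topologicalKrullDim X = Order.krullDim X := by
  letI := specializationOrder X
  exact Order.krullDim_eq_of_orderIso (irreducibleSetEquivPoints (α := X))

theorem main {X Y : Scheme.{u}} [IsLocallyNoetherian Y] (f : X ⟶ Y)
    [LocallyOfFiniteType f] (x : X) :
    ringKrullDim (X.presheaf.stalk x) ≤
      ringKrullDim (Y.presheaf.stalk (f.base x)) +
        ringKrullDim ((f.fiber (f.base x)).presheaf.stalk (f.asFiber x)) := by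
  haveI : IsLocallyNoetherian X := LocallyOfFiniteType.isLocallyNoetherian f
  have h1 := Groth.Agent.H29.ringKrullDim_le_add_fibre (f.stalkMap x).hom
  exact h1.trans (add_le_add le_rfl (fibre_dim_le f x))

end Helpers

/-- Let Y be locally Noetherian, f : X ⟶ Y of finite type and x a point of X with y = f x. Then dim
O_{X,x} ≤ dim O_{Y,y} + dim O_{X_y,x}, where X_y is the fibre through x. -/
theorem result {X Y : Scheme.{u}} [IsLocallyNoetherian Y] (f : X ⟶ Y)
    [LocallyOfFiniteType f] [QuasiCompact f] (x : X) :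
    ringKrullDim (X.presheaf.stalk x) ≤
      ringKrullDim (Y.presheaf.stalk (f.base x)) + ringKrullDim ((f.fiber (f.base x)).presheaf.stalk (f.asFiber x)) := by
  exact main f x

end Groth.Agent.S3447
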