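import Groth.Statements.S17411
import Mathlib
import Groth.Agent.S10841
import Groth.Agent.S1618

set_option autoImplicit false
universe u
open CategoryTheory AlgebraicGeometry
open Prym5

namespace Groth.Agent.S17411

theorem generic_mem_range {X Z : Scheme.{u}} [TopologicalSpace.NoetherianSpace X]
    [IrreducibleSpace Z] (h : X ⟶ Z) [IsDominant h] : genericPoint Z ∈ Set.range ⇑h := by
  obtain ⟨W, hW, hζW⟩ : ∃ W : Z.Opens, IsAffineOpen W ∧ genericPoint Z ∈ W := by
    obtain ⟨_, ⟨V, hV : IsAffineOpen V, rfl⟩, hxV, -⟩ :=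
      Z.isBasis_affineOpens.exists_subset_of_mem_open (Set.mem_univ (genericPoint Z)) isOpen_univ
    exact ⟨V, hV, hxV⟩
  have hUc : IsCompact ((h ⁻¹ᵁ W : X.Opens) : Set X) :=
    TopologicalSpace.NoetherianSpace.isCompact _
  obtain ⟨R, f', hf'⟩ := isCompact_iff_exists.mp hUc
  haveI := hW.isOpenImmersion_fromSpec
  have hj : Topology.IsOpenEmbedding ⇑hW.fromSpec := hW.fromSpec.isOpenEmbedding
  have hrange : Set.range ⇑(f' ≫ h) ⊆ Set.range ⇑hW.fromSpec := by
    rw [hW.range_fromSpec]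
    rintro _ ⟨r, rfl⟩
    have h1 : f' r ∈ ((h ⁻¹ᵁ W : X.Opens) : Set X) := by
      rw [← hf']
      exact ⟨r, rfl⟩
    exact h1
  have hl : IsOpenImmersion.lift hW.fromSpec (f' ≫ h) hrange ≫ hW.fromSpec = f' ≫ h :=
    IsOpenImmersion.lift_fac _ _ _
  obtain ⟨φ, hφ⟩ : ∃ φ : Γ(Z, W) ⟶ R,
      Spec.map φ = IsOpenImmersion.lift hW.fromSpec (f' ≫ h) hrange :=
    ⟨Spec.preimage _, Spec.map_preimage _⟩
  rw [← hφ] at hl
  have hl' : ∀ r : Spec R, hW.fromSpec ((Spec.map φ) r) = h (f' r) := by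
    intro r
    have := congrArg (fun g : Spec R ⟶ Z => g r) hl
    simpa using this
  have hdense : DenseRange (PrimeSpectrum.comap φ.hom) := by
    rw [DenseRange, dense_iff_inter_open]
    intro O hO hOne
    have h1 : (⇑hW.fromSpec '' O ∩ Set.range ⇑h).Nonempty :=
      dense_iff_inter_open.mp h.denseRange _ (hj.isOpenMap _ hO) (hOne.image _)
    obtain ⟨_, ⟨a, haO, rfl⟩, ⟨x, hx⟩⟩ := h1
    have hxU : x ∈ ((h ⁻¹ᵁ W : X.Opens) : Set X) := by
      show h x ∈ (W : Set Z)
      rw [hx, ← hW.range_fromSpec]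
      exact ⟨a, rfl⟩
    rw [← hf'] at hxU
    obtain ⟨r, rfl⟩ := hxU
    refine ⟨a, haO, r, ?_⟩
    apply hj.injective
    rw [← hx]
    exact hl' r
  set p := hW.primeIdealOf ⟨genericPoint Z, hζW⟩ with hp
  have hjp : hW.fromSpec p = genericPoint Z := hW.fromSpec_primeIdealOf ⟨genericPoint Z, hζW⟩
  have hpmin : p.asIdeal ∈ minimalPrimes Γ(Z, W) := by
    refine ⟨⟨p.isPrime, bot_le⟩, ?_⟩
    rintro q ⟨hqprime, -⟩ hqp
    have h1 : hW.fromSpec (⟨q, hqprime⟩ : PrimeSpectrum Γ(Z, W)) ⤳ hW.fromSpec p :=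
      ((PrimeSpectrum.le_iff_specializes ⟨q, hqprime⟩ p).mp hqp).map hj.continuous
    rw [hjp] at h1
    have h2 : genericPoint Z ⤳ hW.fromSpec (⟨q, hqprime⟩ : PrimeSpectrum Γ(Z, W)) :=
      genericPoint_specializes _
    have h3 : hW.fromSpec (⟨q, hqprime⟩ : PrimeSpectrum Γ(Z, W)) = genericPoint Z :=
      (h1.antisymm h2).eq
    have h4 : (⟨q, hqprime⟩ : PrimeSpectrum Γ(Z, W)) = p := hj.injective (h3.trans hjp.symm)
    rw [← h4]
  obtain ⟨r, hr⟩ := (PrimeSpectrum.denseRange_comap_iff_minimalPrimes φ.hom).mp hdense p.asIdeal hpmin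
  refine ⟨f' r, ?_⟩
  rw [← hl' r, ← hjp]
  congr 1

theorem localDim_eq_dim (k : Type u) [Field k] (X : Scheme.{u}) [X.Over (Spec (CommRingCat.of k))]
    [LocallyOfFiniteType (X ↘ (Spec (CommRingCat.of k)))] [IrreducibleSpace X] (x : X) :
    FlatMor.localDim X x = topologicalKrullDim X := by
  unfold FlatMor.localDim
  have hconst : ∀ U : {U : TopologicalSpace.Opens X // x ∈ U},
      topologicalKrullDim ↥(U.1 : Set X) = topologicalKrullDim X := by
    rintro ⟨U, hU⟩
    exact Groth.Agent.S1618.result k X U ⟨x, hU⟩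
  haveI : Nonempty {U : TopologicalSpace.Opens X // x ∈ U} := ⟨⟨⊤, trivial⟩⟩
  rw [iInf_congr hconst, iInf_const]

theorem eq_generic_of_dim_zero (Y : Scheme.{u}) [IsLocallyNoetherian Y] [IrreducibleSpace Y] (y : Y) :
    ∃ b : ℕ, ringKrullDim (Y.presheaf.stalk y) = (b : WithBot ℕ∞) ∧
      (b = 0 → y = genericPoint Y) := by
  obtain ⟨V, hV, hyV⟩ : ∃ V : Y.Opens, IsAffineOpen V ∧ y ∈ V := by
    obtain ⟨_, ⟨V, hV : IsAffineOpen V, rfl⟩, hxV, -⟩ :=
      Y.isBasis_affineOpens.exists_subset_of_mem_open (Set.mem_univ y) isOpen_univ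
    exact ⟨V, hV, hxV⟩
  haveI : IsNoetherianRing Γ(Y, V) := IsLocallyNoetherian.component_noetherian ⟨V, hV⟩
  letI : Algebra Γ(Y, V) (Y.presheaf.stalk y) :=
    TopCat.Presheaf.algebra_section_stalk Y.presheaf (⟨y, hyV⟩ : V)
  set P := hV.primeIdealOf ⟨y, hyV⟩ with hP
  haveI : IsLocalization.AtPrime (Y.presheaf.stalk y) P.asIdeal :=
    hV.isLocalization_stalk ⟨y, hyV⟩
  have hjP : hV.fromSpec P = y := hV.fromSpec_primeIdealOf ⟨y, hyV⟩
  haveI := hV.isOpenImmersion_fromSpec
  have hj : Topology.IsOpenEmbedding ⇑hV.fromSpec := hV.fromSpec.isOpenEmbedding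
  have hfin : P.asIdeal.height ≠ ⊤ := Ideal.height_ne_top P.isPrime.ne_top
  obtain ⟨b, hb⟩ := ENat.ne_top_iff_exists.mp hfin
  refine ⟨b, ?_, ?_⟩
  · rw [IsLocalization.AtPrime.ringKrullDim_eq_height P.asIdeal (Y.presheaf.stalk y), ← hb]
    rfl
  · intro hb0
    rw [hb0] at hb
    have hmin : IsMin P := by
      rw [← Order.height_eq_zero, ← PrimeSpectrum.height_eq_orderHeight, ← hb]
      rfl
    have hξV : genericPoint Y ∈ V :=
      (genericPoint_specializes y).mem_open V.isOpen hyV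
    set Q := hV.primeIdealOf ⟨genericPoint Y, hξV⟩ with hQ
    have hjQ : hV.fromSpec Q = genericPoint Y := hV.fromSpec_primeIdealOf ⟨genericPoint Y, hξV⟩
    have hQP : Q ≤ P := by
      rw [PrimeSpectrum.le_iff_specializes]
      apply hj.isInducing.specializes_iff.mp
      rw [hjQ, hjP]
      exact genericPoint_specializes y
    have hPQ : P ≤ Q := hmin hQP
    have hEq : P = Q := le_antisymm hPQ hQP
    rw [← hjP, hEq, hjQ]

/-- Let k be an algebraically closed field of characteristic zero and X, Y, Z schemes of finite type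
over k, with Y and Z irreducible of the same dimension, η : Y → Z a dominant k-morphism and ρ : X →
Y a k-morphism. Then the composite ρ ≫ η is dominant exactly when ρ is dominant. (The published
statement concerns the forgetful map from the moduli space of étale double covers of genus-five
curves to the moduli space of genus-five curves, both irreducible of dimension 12, and a morphism
into the former; its argument uses only the hypotheses kept here.) -/
theorem result (k : Type u) [Field k] [IsAlgClosed k]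
    [CharZero k] (X Y Z : Scheme.{u}) [X.Over (Spec (CommRingCat.of k))] [Y.Over (Spec (CommRingCat.of k))]
    [Z.Over (Spec (CommRingCat.of k))]
    [LocallyOfFiniteType (X ↘ Spec (CommRingCat.of k))] [QuasiCompact (X ↘ Spec (CommRingCat.of k))]
    [LocallyOfFiniteType (Y ↘ Spec (CommRingCat.of k))] [QuasiCompact (Y ↘ Spec (CommRingCat.of k))]
    [LocallyOfFiniteType (Z ↘ Spec (CommRingCat.of k))] [QuasiCompact (Z ↘ Spec (CommRingCat.of k))]
    [IrreducibleSpace Y] [IrreducibleSpace Z] (hdim : topologicalKrullDim Y = topologicalKrullDim Z)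
    (ρ : X ⟶ Y) [ρ.IsOver (Spec (CommRingCat.of k))] (η : Y ⟶ Z) [η.IsOver (Spec (CommRingCat.of k))]
    [IsDominant η] :
    IsDominant (ρ ≫ η) ↔ IsDominant ρ := by
  constructor
  · intro hdom
    haveI : IsLocallyNoetherian X :=
      LocallyOfFiniteType.isLocallyNoetherian (X ↘ Spec (CommRingCat.of k))
    haveI : IsLocallyNoetherian Y :=
      LocallyOfFiniteType.isLocallyNoetherian (Y ↘ Spec (CommRingCat.of k))
    haveI : CompactSpace X :=
      QuasiCompact.compactSpace_of_compactSpace (X ↘ Spec (CommRingCat.of k))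
    haveI : IsNoetherian X := {}
    haveI : TopologicalSpace.NoetherianSpace X := inferInstance
    obtain ⟨x, hx⟩ := generic_mem_range (ρ ≫ η)
    have hx' : η (ρ x) = genericPoint Z := by simpa using hx
    obtain ⟨n, hn, -⟩ := Groth.Agent.S10841.trdeg_le_dim k Z (η (ρ x))
    obtain ⟨a, ha, -⟩ := Groth.Agent.S10841.trdeg_le_dim k Y (ρ x)
    have key : ∀ ξ : Z, ξ = genericPoint Z → ∀ n : ℕ,
        @Algebra.trdeg k (Z.residueField ξ) _ _ (Curv2.resAlgebra k Z ξ) = (n : Cardinal.{u}) →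
        topologicalKrullDim Z = n := by
      rintro ξ rfl n hn
      exact Groth.Agent.S1619.result k Z n hn
    have hZn := key (η (ρ x)) hx' n hn
    have hna : n ≤ a := by
      letI := Curv2.resAlgebra k Z (η (ρ x))
      letI := Curv2.resAlgebra k Y (ρ x)
      let g : Z.residueField (η (ρ x)) →ₐ[k] Y.residueField (ρ x) :=
        { (η.residueFieldMap (ρ x)).hom with
          commutes' := fun c => Groth.Agent.S10841.resMap_comp k Z Y η
            (comp_over η (Spec (CommRingCat.of k))) (ρ x) c }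
      have h1 := trdeg_le_of_injective g g.toRingHom.injective
      rw [hn, ha] at h1
      exact_mod_cast h1
    obtain ⟨b, hb, hb0⟩ := eq_generic_of_dim_zero Y (ρ x)
    have h1 := Groth.Agent.S1621.result k Y (ρ x) a b ha hb
    rw [localDim_eq_dim k Y (ρ x), hdim, hZn] at h1
    have h2 : n = a + b := by exact_mod_cast h1
    have hyξ : ρ x = genericPoint Y := hb0 (by omega)
    rw [isDominant_iff, DenseRange, dense_iff_closure_eq, ← Set.univ_subset_iff,
      ← (genericPoint_spec Y).def]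
    exact closure_mono (Set.singleton_subset_iff.mpr ⟨x, hyξ⟩)
  · intro hdom
    infer_instance

end Groth.Agent.S17411
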