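import Groth.Statements.S14514
import Mathlib
import Groth.Agent.S17411

set_option autoImplicit false
universe u
open CategoryTheory CategoryTheory.Limits AlgebraicGeometry
open Variety

namespace Groth.Agent.S14514

open TensorProduct in
theorem KL (k A D : Type u) [Field k] [CommRing A] [IsDomain A] [Algebra k A]
    [Algebra.FiniteType k A] [CommRing D] [IsDomain D] [Algebra k D] [Algebra.FiniteType k D]
    [Algebra A D] [IsScalarTower k A D] (hinj : Function.Injective (algebraMap A D)) :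
    ∃ q : Ideal D, q.IsPrime ∧ q.comap (algebraMap A D) = ⊥ ∧
      ringKrullDim (D ⧸ q) = ringKrullDim A := by
  haveI : Algebra.FiniteType A D := by
    have h1 : Algebra.FiniteType k D := inferInstance
    exact Algebra.FiniteType.of_restrictScalars_finiteType k A D
  haveI : Module.Flat A (FractionRing A) := IsLocalization.flat _ (nonZeroDivisors A)
  have hinjL : Function.Injective
      (Algebra.TensorProduct.includeLeft : FractionRing A →ₐ[FractionRing A] FractionRing A ⊗[A] D) :=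
    Algebra.TensorProduct.includeLeft_injective (S := FractionRing A) hinj
  haveI : Nontrivial (FractionRing A ⊗[A] D) := hinjL.nontrivial
  haveI : Algebra.FiniteType (FractionRing A) (FractionRing A ⊗[A] D) :=
    Algebra.FiniteType.baseChange (FractionRing A)
  obtain ⟨M, hM⟩ := Ideal.exists_maximal (FractionRing A ⊗[A] D)
  letI : Field ((FractionRing A ⊗[A] D) ⧸ M) := Ideal.Quotient.field M
  haveI : Module.Finite (FractionRing A) ((FractionRing A ⊗[A] D) ⧸ M) :=
    finite_of_finite_type_of_isJacobsonRing (FractionRing A) ((FractionRing A ⊗[A] D) ⧸ M)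
  haveI : Algebra.IsAlgebraic (FractionRing A) ((FractionRing A ⊗[A] D) ⧸ M) :=
    Algebra.IsAlgebraic.of_finite _ _
  haveI : Algebra.IsAlgebraic A (FractionRing A) :=
    IsLocalization.isAlgebraic _ (nonZeroDivisors A)
  haveI : Algebra.IsAlgebraic A ((FractionRing A ⊗[A] D) ⧸ M) :=
    Algebra.IsAlgebraic.trans A (FractionRing A) _
  let ι : D →ₐ[A] FractionRing A ⊗[A] D := Algebra.TensorProduct.includeRight
  have hq : (M.comap ι.toRingHom).comap (algebraMap A D) = ⊥ := by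
    rw [eq_bot_iff]
    intro a ha
    rw [Ideal.mem_comap, Ideal.mem_comap] at ha
    rw [Ideal.mem_bot]
    by_contra ha0
    have h1 : ι.toRingHom (algebraMap A D a) =
        algebraMap (FractionRing A) (FractionRing A ⊗[A] D) (algebraMap A (FractionRing A) a) := by
      show ι (algebraMap A D a) = _
      rw [ι.commutes, ← IsScalarTower.algebraMap_apply]
    rw [h1] at ha
    have hu : IsUnit (algebraMap A (FractionRing A) a) := by
      apply IsUnit.mk0
      intro h0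
      exact ha0 ((IsFractionRing.injective A (FractionRing A)) (by rw [h0, map_zero]))
    exact hM.ne_top (Ideal.eq_top_of_isUnit_mem _ ha (hu.map _))
  haveI hqprime : (M.comap ι.toRingHom).IsPrime := Ideal.comap_isPrime _ _
  refine ⟨M.comap ι.toRingHom, hqprime, hq, ?_⟩
  let g : D ⧸ (M.comap ι.toRingHom) →ₐ[A] (FractionRing A ⊗[A] D) ⧸ M :=
    Ideal.quotientMapₐ M ι (le_refl _)
  have hg : Function.Injective g := by
    rw [injective_iff_map_eq_zero]
    intro x hx
    obtain ⟨d, rfl⟩ := Ideal.Quotient.mk_surjective x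
    have h1 : g (Ideal.Quotient.mk _ d) = Ideal.Quotient.mk M (ι d) := rfl
    rw [h1, Ideal.Quotient.eq_zero_iff_mem] at hx
    rw [Ideal.Quotient.eq_zero_iff_mem]
    exact hx
  haveI : Algebra.IsAlgebraic A (D ⧸ (M.comap ι.toRingHom)) :=
    Algebra.IsAlgebraic.of_injective g hg
  have hinj' : Function.Injective (algebraMap A (D ⧸ (M.comap ι.toRingHom))) := by
    rw [injective_iff_map_eq_zero]
    intro a ha
    have h1 : algebraMap A (D ⧸ (M.comap ι.toRingHom)) a =
        Ideal.Quotient.mk _ (algebraMap A D a) := rfl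
    rw [h1, Ideal.Quotient.eq_zero_iff_mem] at ha
    have h2 : a ∈ (M.comap ι.toRingHom).comap (algebraMap A D) := ha
    rw [hq] at h2
    exact h2
  exact Groth.Agent.Helper7.GlobCI.dim_eq_of_algebraic k A (D ⧸ (M.comap ι.toRingHom)) hinj'

theorem dim_closure (k : Type u) [Field k] (X : Scheme.{u}) [X.Over (Spec (CommRingCat.of k))]
    [LocallyOfFiniteType (X ↘ (Spec (CommRingCat.of k)))] (x : X) (n : ℕ)
    (hn : @Algebra.trdeg k (X.residueField x) _ _ (Curv2.resAlgebra k X x) = (n : Cardinal.{u})) :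
    topologicalKrullDim ↥(closure ({x} : Set X)) = (n : WithBot ℕ∞) := by
  letI := Curv2.resAlgebra k X x
  -- general facts for an affine open containing x
  have key : ∀ (V : X.Opens) (hV : IsAffineOpen V) (hxV : x ∈ V),
      ringKrullDim (Γ(X, V) ⧸ (hV.primeIdealOf ⟨x, hxV⟩).asIdeal) = (n : WithBot ℕ∞) := by
    intro V hV hxV
    letI : Algebra k Γ(X, V) := (Groth.Agent.S1621.phi k X V).toAlgebra
    haveI : Algebra.FiniteType k Γ(X, V) := Groth.Agent.S1621.phi_finiteType k X V hV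
    obtain ⟨E⟩ := Groth.Agent.S1621.exists_resEquiv k X V hV x hxV
    obtain ⟨d, hd, htr⟩ := Groth.Agent.S1620.trdeg_resField k Γ(X, V)
      (hV.primeIdealOf ⟨x, hxV⟩).asIdeal
    have h1 := E.trdeg_eq
    rw [htr, hn] at h1
    have h2 : d = n := by exact_mod_cast h1
    rw [hd, h2]
  apply le_antisymm
  · haveI : QuasiSober ↥(closure ({x} : Set X)) :=
      isClosed_closure.isClosedEmbedding_subtypeVal.quasiSober
    rw [Groth.Agent.S10840.topDim_eq]
    unfold Order.krullDim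
    apply iSup_le
    intro l
    obtain ⟨V, hV, h0V⟩ : ∃ V : X.Opens, IsAffineOpen V ∧ (l 0).1 ∈ V := by
      obtain ⟨_, ⟨V, hV : IsAffineOpen V, rfl⟩, hxV, -⟩ :=
        X.isBasis_affineOpens.exists_subset_of_mem_open (Set.mem_univ (l 0).1) isOpen_univ
      exact ⟨V, hV, hxV⟩
    have hsp : ∀ i, (l i).1 ⤳ (l 0).1 := by
      intro i
      have h1 : (l i) ⤳ (l 0) :=
        (@LTSeries.monotone _ (specializationPreorder _) l) (Fin.zero_le i)
      exact (subtype_specializes_iff _ _).mp h1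
    have hmemV : ∀ i, (l i).1 ∈ V := fun i => (hsp i).mem_open V.isOpen h0V
    have hxsp : ∀ i, x ⤳ (l i).1 := fun i => specializes_iff_mem_closure.mpr (l i).2
    have hxV : x ∈ V := (hxsp 0).mem_open V.isOpen h0V
    haveI := hV.isOpenImmersion_fromSpec
    have hj : Topology.IsOpenEmbedding ⇑hV.fromSpec := hV.fromSpec.isOpenEmbedding
    set Q := hV.primeIdealOf ⟨x, hxV⟩ with hQ
    have hjQ : hV.fromSpec Q = x := hV.fromSpec_primeIdealOf ⟨x, hxV⟩
    have hjP : ∀ i, hV.fromSpec (hV.primeIdealOf ⟨(l i).1, hmemV i⟩) = (l i).1 :=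
      fun i => hV.fromSpec_primeIdealOf ⟨(l i).1, hmemV i⟩
    have hQle : ∀ i, hV.primeIdealOf ⟨(l i).1, hmemV i⟩ ∈
        PrimeSpectrum.zeroLocus (Q.asIdeal : Set Γ(X, V)) := by
      intro i
      show Q.asIdeal ≤ (hV.primeIdealOf ⟨(l i).1, hmemV i⟩).asIdeal
      have : Q ≤ hV.primeIdealOf ⟨(l i).1, hmemV i⟩ := by
        rw [PrimeSpectrum.le_iff_specializes]
        apply hj.isInducing.specializes_iff.mp
        rw [hjQ, hjP i]
        exact hxsp i
      exact this
    have hPlt : ∀ i j, i < j → hV.primeIdealOf ⟨(l j).1, hmemV j⟩ <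
        hV.primeIdealOf ⟨(l i).1, hmemV i⟩ := by
      intro i j hij
      have hlt : ((l j) ⤳ (l i)) ∧ ¬ ((l i) ⤳ (l j)) :=
        (@LTSeries.strictMono _ (specializationPreorder _) l) hij
      have h1 : (l j).1 ⤳ (l i).1 := (subtype_specializes_iff _ _).mp hlt.1
      have h2 : ¬ (l i).1 ⤳ (l j).1 := fun h => hlt.2 ((subtype_specializes_iff _ _).mpr h)
      refine lt_of_le_not_ge ?_ ?_
      · rw [PrimeSpectrum.le_iff_specializes]
        apply hj.isInducing.specializes_iff.mp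
        rw [hjP i, hjP j]
        exact h1
      · intro hle
        apply h2
        rw [PrimeSpectrum.le_iff_specializes] at hle
        have := hle.map hj.continuous
        rw [hjP i, hjP j] at this
        exact this
    have hlen : (l.length : WithBot ℕ∞) ≤
        Order.krullDim ↥(PrimeSpectrum.zeroLocus (Q.asIdeal : Set Γ(X, V))) :=
      Order.LTSeries.length_le_krullDim
        ({ length := l.length
           toFun := fun i => ⟨hV.primeIdealOf ⟨(l (Fin.rev i)).1, hmemV _⟩, hQle _⟩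
           step := fun i => hPlt _ _ (Fin.rev_lt_rev.mpr (Fin.castSucc_lt_succ (i := i))) } :
          LTSeries ↥(PrimeSpectrum.zeroLocus (Q.asIdeal : Set Γ(X, V))))
    rw [← ringKrullDim_quotient, key V hV hxV] at hlen
    exact hlen
  · obtain ⟨V, hV, hxV⟩ : ∃ V : X.Opens, IsAffineOpen V ∧ x ∈ V := by
      obtain ⟨_, ⟨V, hV : IsAffineOpen V, rfl⟩, hxV, -⟩ :=
        X.isBasis_affineOpens.exists_subset_of_mem_open (Set.mem_univ x) isOpen_univ
      exact ⟨V, hV, hxV⟩
    haveI := hV.isOpenImmersion_fromSpec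
    have hj : Topology.IsOpenEmbedding ⇑hV.fromSpec := hV.fromSpec.isOpenEmbedding
    set Q := hV.primeIdealOf ⟨x, hxV⟩ with hQ
    have hjQ : hV.fromSpec Q = x := hV.fromSpec_primeIdealOf ⟨x, hxV⟩
    have hsub : ⇑hV.fromSpec '' (PrimeSpectrum.zeroLocus (Q.asIdeal : Set Γ(X, V))) ⊆
        closure ({x} : Set X) := by
      rintro _ ⟨P, hP, rfl⟩
      apply specializes_iff_mem_closure.mp
      rw [← hjQ]
      exact ((PrimeSpectrum.le_iff_specializes Q P).mp hP).map hj.continuous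
    have e := hj.isEmbedding.homeomorphImage
      (PrimeSpectrum.zeroLocus (Q.asIdeal : Set Γ(X, V)))
    haveI : QuasiSober ↥(PrimeSpectrum.zeroLocus (Q.asIdeal : Set Γ(X, V))) :=
      (PrimeSpectrum.isClosed_zeroLocus _).isClosedEmbedding_subtypeVal.quasiSober
    calc (n : WithBot ℕ∞) = ringKrullDim (Γ(X, V) ⧸ Q.asIdeal) := (key V hV hxV).symm
      _ = Order.krullDim ↥(PrimeSpectrum.zeroLocus (Q.asIdeal : Set Γ(X, V))) :=
          ringKrullDim_quotient _
      _ = topologicalKrullDim ↥(PrimeSpectrum.zeroLocus (Q.asIdeal : Set Γ(X, V))) :=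
          (Groth.Agent.S2143.topDim_sub _).symm
      _ = topologicalKrullDim
            ↥(⇑hV.fromSpec '' (PrimeSpectrum.zeroLocus (Q.asIdeal : Set Γ(X, V)))) :=
          IsHomeomorph.topologicalKrullDim_eq _ e.isHomeomorph
      _ ≤ topologicalKrullDim ↥(closure ({x} : Set X)) :=
          Groth.Agent.S1617.dim_subset_mono hsub

theorem appLE_comp_general {X Y S : Scheme.{u}} (f : X ⟶ Y) (g : Y ⟶ S) (h : X ⟶ S)
    (hf : f ≫ g = h) (W : Y.Opens) (V : X.Opens) (e : V ≤ f ⁻¹ᵁ W) :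
    (f.appLE W V e).hom.comp (g.appLE ⊤ W le_top).hom = (h.appLE ⊤ V le_top).hom := by
  subst hf
  have := Scheme.Hom.appLE_comp_appLE f g ⊤ W V le_top e
  rw [← CommRingCat.hom_comp, this]

theorem fromSpec_comap {X Y : Scheme.{u}} (f : X ⟶ Y) {V : X.Opens} {W : Y.Opens}
    (hW : IsAffineOpen W) (hV : IsAffineOpen V) (e : V ≤ f ⁻¹ᵁ W) (Q : PrimeSpectrum Γ(X, V)) :
    f (hV.fromSpec Q) = hW.fromSpec (PrimeSpectrum.comap (f.appLE W V e).hom Q) := by
  have h := IsAffineOpen.SpecMap_appLE_fromSpec f hW hV e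
  have h2 := congrArg (fun g : Spec Γ(X, V) ⟶ Y => g Q) h
  exact h2.symm

theorem dim_quot_trdeg (k : Type u) [Field k] (X : Scheme.{u}) [X.Over (Spec (CommRingCat.of k))]
    [LocallyOfFiniteType (X ↘ (Spec (CommRingCat.of k)))] (V : X.Opens) (hV : IsAffineOpen V)
    (x : X) (hxV : x ∈ V) :
    ∃ n : ℕ, ringKrullDim (Γ(X, V) ⧸ (hV.primeIdealOf ⟨x, hxV⟩).asIdeal) = (n : WithBot ℕ∞) ∧
      @Algebra.trdeg k (X.residueField x) _ _ (Curv2.resAlgebra k X x) = (n : Cardinal.{u}) := by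
  letI := Curv2.resAlgebra k X x
  letI : Algebra k Γ(X, V) := (Groth.Agent.S1621.phi k X V).toAlgebra
  haveI : Algebra.FiniteType k Γ(X, V) := Groth.Agent.S1621.phi_finiteType k X V hV
  obtain ⟨E⟩ := Groth.Agent.S1621.exists_resEquiv k X V hV x hxV
  obtain ⟨d, hd, htr⟩ := Groth.Agent.S1620.trdeg_resField k Γ(X, V)
    (hV.primeIdealOf ⟨x, hxV⟩).asIdeal
  exact ⟨d, hd, by rw [← E.trdeg_eq, htr]⟩

/-- Let k be an algebraically closed field and f : X → Y a morphism of algebraic varieties over k (X, Y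
reduced, separated and of finite type over k) such that Y is irreducible and the image f(X) is dense
in Y. Then X contains an irreducible closed subset Z with dim Z = dim Y such that f(Z) is dense in
Y. -/
theorem result (k : Type u) [Field k] [IsAlgClosed k]
    (X Y : Scheme.{u}) [X.Over (Spec (CommRingCat.of k))] [Y.Over (Spec (CommRingCat.of k))]
    [IsReduced X] [IsSeparated (X ↘ (Spec (CommRingCat.of k)))] [LocallyOfFiniteType (X ↘ (Spec (CommRingCat.of k)))] [QuasiCompact (X ↘ (Spec (CommRingCat.of k)))]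
    [IsReduced Y] [IsSeparated (Y ↘ (Spec (CommRingCat.of k)))] [LocallyOfFiniteType (Y ↘ (Spec (CommRingCat.of k)))] [QuasiCompact (Y ↘ (Spec (CommRingCat.of k)))] [IrreducibleSpace Y]
    (f : X ⟶ Y) (hf : f ≫ (Y ↘ (Spec (CommRingCat.of k))) = (X ↘ (Spec (CommRingCat.of k)))) [IsDominant f] :
    ∃ Z : Set X, IsClosed Z ∧ IsIrreducible Z ∧ topologicalKrullDim ↥Z = topologicalKrullDim Y ∧
      Dense (f '' Z) := by
  haveI : IsLocallyNoetherian X :=
    LocallyOfFiniteType.isLocallyNoetherian (X ↘ Spec (CommRingCat.of k))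
  haveI : CompactSpace X :=
    QuasiCompact.compactSpace_of_compactSpace (X ↘ Spec (CommRingCat.of k))
  haveI : IsNoetherian X := {}
  haveI : TopologicalSpace.NoetherianSpace X := inferInstance
  obtain ⟨x₀, hx₀⟩ := Groth.Agent.S17411.generic_mem_range f
  obtain ⟨W, hW, hηW⟩ : ∃ W : Y.Opens, IsAffineOpen W ∧ genericPoint Y ∈ W := by
    obtain ⟨_, ⟨V, hV : IsAffineOpen V, rfl⟩, hxV, -⟩ :=
      Y.isBasis_affineOpens.exists_subset_of_mem_open (Set.mem_univ (genericPoint Y)) isOpen_univ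
    exact ⟨V, hV, hxV⟩
  have hx₀W : x₀ ∈ ((f ⁻¹ᵁ W : X.Opens) : Set X) := by
    show f x₀ ∈ W
    rw [hx₀]
    exact hηW
  obtain ⟨V, hV, hx₀V, hVW⟩ : ∃ V : X.Opens, IsAffineOpen V ∧ x₀ ∈ V ∧ V ≤ f ⁻¹ᵁ W := by
    obtain ⟨_, ⟨V, hV : IsAffineOpen V, rfl⟩, hxV, hsub⟩ :=
      X.isBasis_affineOpens.exists_subset_of_mem_open hx₀W (f ⁻¹ᵁ W).isOpen
    exact ⟨V, hV, hxV, hsub⟩
  letI algA : Algebra k Γ(Y, W) := (Groth.Agent.S1621.phi k Y W).toAlgebra
  haveI : Algebra.FiniteType k Γ(Y, W) := Groth.Agent.S1621.phi_finiteType k Y W hW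
  letI algB : Algebra k Γ(X, V) := (Groth.Agent.S1621.phi k X V).toAlgebra
  haveI : Algebra.FiniteType k Γ(X, V) := Groth.Agent.S1621.phi_finiteType k X V hV
  set ψ : Γ(Y, W) →+* Γ(X, V) := (f.appLE W V hVW).hom with hψ
  have hψk : ∀ c : k, ψ (algebraMap k Γ(Y, W) c) = algebraMap k Γ(X, V) c := by
    intro c
    have h1 := appLE_comp_general f (Y ↘ Spec (CommRingCat.of k)) (X ↘ Spec (CommRingCat.of k))
      hf W V hVW
    show ψ (Groth.Agent.S1621.phi k Y W c) = Groth.Agent.S1621.phi k X V c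
    unfold Groth.Agent.S1621.phi
    simp only [RingHom.comp_apply]
    rw [← h1]
    rfl
  set P₀ := hW.primeIdealOf ⟨genericPoint Y, hηW⟩ with hP₀
  set Q₀ := hV.primeIdealOf ⟨x₀, hx₀V⟩ with hQ₀
  have hjP₀ : hW.fromSpec P₀ = genericPoint Y := hW.fromSpec_primeIdealOf _
  have hjQ₀ : hV.fromSpec Q₀ = x₀ := hV.fromSpec_primeIdealOf _
  haveI := hW.isOpenImmersion_fromSpec
  haveI := hV.isOpenImmersion_fromSpec
  have hjW : Topology.IsOpenEmbedding ⇑hW.fromSpec := hW.fromSpec.isOpenEmbedding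
  have hjV : Topology.IsOpenEmbedding ⇑hV.fromSpec := hV.fromSpec.isOpenEmbedding
  have hcomap₀ : PrimeSpectrum.comap ψ Q₀ = P₀ := by
    apply hjW.injective
    rw [← fromSpec_comap f hW hV hVW Q₀, hjQ₀, hx₀, hjP₀]
  have hcomap₀' : Q₀.asIdeal.comap ψ = P₀.asIdeal := congrArg PrimeSpectrum.asIdeal hcomap₀
  have hle : P₀.asIdeal ≤ Q₀.asIdeal.comap ψ := hcomap₀'.ge
  letI algAD : Algebra (Γ(Y, W) ⧸ P₀.asIdeal) (Γ(X, V) ⧸ Q₀.asIdeal) :=
    (Ideal.quotientMap Q₀.asIdeal ψ hle).toAlgebra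
  haveI : IsScalarTower k (Γ(Y, W) ⧸ P₀.asIdeal) (Γ(X, V) ⧸ Q₀.asIdeal) := by
    apply IsScalarTower.of_algebraMap_eq
    intro c
    show Ideal.Quotient.mk _ (algebraMap k Γ(X, V) c) =
      Ideal.quotientMap Q₀.asIdeal ψ hle (Ideal.Quotient.mk _ (algebraMap k Γ(Y, W) c))
    rw [Ideal.quotientMap_mk, hψk]
  have hinj : Function.Injective
      (algebraMap (Γ(Y, W) ⧸ P₀.asIdeal) (Γ(X, V) ⧸ Q₀.asIdeal)) :=
    Ideal.quotientMap_injective' hcomap₀'.le
  obtain ⟨q, hqprime, hqbot, hqdim⟩ :=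
    KL k (Γ(Y, W) ⧸ P₀.asIdeal) (Γ(X, V) ⧸ Q₀.asIdeal) hinj
  set Qi : Ideal Γ(X, V) := q.comap (Ideal.Quotient.mk Q₀.asIdeal) with hQi
  haveI hQiprime : Qi.IsPrime := Ideal.comap_isPrime _ _
  have hQ₀Qi : Q₀.asIdeal ≤ Qi := by
    intro b hb
    show Ideal.Quotient.mk Q₀.asIdeal b ∈ q
    rw [Ideal.Quotient.eq_zero_iff_mem.mpr hb]
    exact zero_mem _
  have hQicomap : Qi.comap ψ = P₀.asIdeal := by
    ext a
    rw [Ideal.mem_comap]
    show Ideal.Quotient.mk Q₀.asIdeal (ψ a) ∈ q ↔ _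
    have h1 : Ideal.Quotient.mk Q₀.asIdeal (ψ a) =
        algebraMap (Γ(Y, W) ⧸ P₀.asIdeal) (Γ(X, V) ⧸ Q₀.asIdeal) (Ideal.Quotient.mk _ a) := rfl
    rw [h1, ← Ideal.mem_comap, hqbot, Ideal.mem_bot, Ideal.Quotient.eq_zero_iff_mem]
  have hdimQ : ringKrullDim (Γ(X, V) ⧸ Qi) = ringKrullDim (Γ(Y, W) ⧸ P₀.asIdeal) := by
    rw [← hqdim]
    have hmap : Qi.map (Ideal.Quotient.mk Q₀.asIdeal) = q :=
      Ideal.map_comap_of_surjective _ Ideal.Quotient.mk_surjective q
    rw [← hmap]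
    exact (ringKrullDim_eq_of_ringEquiv (DoubleQuot.quotQuotEquivQuotOfLE hQ₀Qi)).symm
  set x := hV.fromSpec (⟨Qi, hQiprime⟩ : PrimeSpectrum Γ(X, V)) with hx
  have hxV : x ∈ V := by
    show x ∈ (V : Set X)
    rw [← hV.range_fromSpec]
    exact ⟨_, rfl⟩
  have hfx : f x = genericPoint Y := by
    rw [hx, fromSpec_comap f hW hV hVW, ← hjP₀]
    congr 1
    exact PrimeSpectrum.ext hQicomap
  have hprime : hV.primeIdealOf ⟨x, hxV⟩ = ⟨Qi, hQiprime⟩ :=
    hjV.injective (hV.fromSpec_primeIdealOf ⟨x, hxV⟩)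
  obtain ⟨n, hn1, hn2⟩ := dim_quot_trdeg k X V hV x hxV
  obtain ⟨m, hm1, hm2⟩ := dim_quot_trdeg k Y W hW (genericPoint Y) hηW
  rw [hprime] at hn1
  have hn1' : ringKrullDim (Γ(X, V) ⧸ Qi) = (n : WithBot ℕ∞) := hn1
  have hnm : n = m := by
    rw [hdimQ, hm1] at hn1'
    exact_mod_cast hn1'.symm
  refine ⟨closure {x}, isClosed_closure, isIrreducible_singleton.closure, ?_, ?_⟩
  · rw [dim_closure k X x n hn2, Groth.Agent.S1619.result k Y m hm2, hnm]
  · rw [dense_iff_closure_eq, ← Set.univ_subset_iff, ← (genericPoint_spec Y).def]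
    exact closure_mono (Set.singleton_subset_iff.mpr ⟨x, subset_closure rfl, hfx⟩)

end Groth.Agent.S14514
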