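import Groth.Statements.S4644
import Mathlib
import Groth.Agent.S14514

set_option autoImplicit false
open CategoryTheory AlgebraicGeometry
universe u
open FBase

namespace Groth.Agent.S4644

theorem dim_quot_strict {R : Type*} [CommRing R] (Q Q' : Ideal R) [hQ : Q.IsPrime] [hQ' : Q'.IsPrime]
    (hlt : Q < Q') : ringKrullDim (R ⧸ Q') + 1 ≤ ringKrullDim (R ⧸ Q) := by
  have h1 : ∀ (p : Ideal R) (hp : p.IsPrime), ringKrullDim (R ⧸ p) =
      ((Order.coheight (⟨p, hp⟩ : PrimeSpectrum R) : ℕ∞) : WithBot ℕ∞) := by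
    intro p hp
    rw [ringKrullDim_quotient, Order.coheight_eq_krullDim_Ici]
    congr 1
  rw [h1 Q hQ, h1 Q' hQ']
  have h2 : (⟨Q, hQ⟩ : PrimeSpectrum R) < ⟨Q', hQ'⟩ := hlt
  have h3 := Order.coheight_add_one_le h2
  exact_mod_cast h3

theorem trdeg_strict (k : Type u) [Field k] (Y : Scheme.{u}) [Y.Over (Spec (CommRingCat.of k))]
    [LocallyOfFiniteType (Y ↘ (Spec (CommRingCat.of k)))] (y y' : Y) (hsp : y ⤳ y') (hne : y ≠ y')
    (n n' : ℕ)
    (hn : @Algebra.trdeg k (Y.residueField y) _ _ (Curv2.resAlgebra k Y y) = (n : Cardinal.{u}))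
    (hn' : @Algebra.trdeg k (Y.residueField y') _ _ (Curv2.resAlgebra k Y y') = (n' : Cardinal.{u})) :
    n' + 1 ≤ n := by
  obtain ⟨V, hV, hy'V⟩ : ∃ V : Y.Opens, IsAffineOpen V ∧ y' ∈ V := by
    obtain ⟨_, ⟨V, hV : IsAffineOpen V, rfl⟩, hxV, -⟩ :=
      Y.isBasis_affineOpens.exists_subset_of_mem_open (Set.mem_univ y') isOpen_univ
    exact ⟨V, hV, hxV⟩
  have hyV : y ∈ V := hsp.mem_open V.isOpen hy'V
  obtain ⟨d, hd1, hd2⟩ := Groth.Agent.S14514.dim_quot_trdeg k Y V hV y hyV
  obtain ⟨d', hd1', hd2'⟩ := Groth.Agent.S14514.dim_quot_trdeg k Y V hV y' hy'V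
  have e1 : d = n := by rw [hn] at hd2; exact_mod_cast hd2.symm
  have e2 : d' = n' := by rw [hn'] at hd2'; exact_mod_cast hd2'.symm
  subst e1 e2
  haveI := hV.isOpenImmersion_fromSpec
  have hj : Topology.IsOpenEmbedding ⇑hV.fromSpec := hV.fromSpec.isOpenEmbedding
  have hjy : hV.fromSpec (hV.primeIdealOf ⟨y, hyV⟩) = y := hV.fromSpec_primeIdealOf _
  have hjy' : hV.fromSpec (hV.primeIdealOf ⟨y', hy'V⟩) = y' := hV.fromSpec_primeIdealOf _
  have hle : hV.primeIdealOf ⟨y, hyV⟩ ≤ hV.primeIdealOf ⟨y', hy'V⟩ := by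
    rw [PrimeSpectrum.le_iff_specializes]
    apply hj.isInducing.specializes_iff.mp
    rw [hjy, hjy']
    exact hsp
  have hne' : hV.primeIdealOf ⟨y, hyV⟩ ≠ hV.primeIdealOf ⟨y', hy'V⟩ := by
    intro h
    apply hne
    rw [← hjy, ← hjy', h]
  have hlt : (hV.primeIdealOf ⟨y, hyV⟩).asIdeal < (hV.primeIdealOf ⟨y', hy'V⟩).asIdeal :=
    lt_of_le_of_ne hle (fun h => hne' (PrimeSpectrum.ext h))
  have h := dim_quot_strict _ _ hlt
  rw [hd1, hd1'] at h
  exact_mod_cast h

theorem component_data (Y : Scheme.{u}) [IsLocallyNoetherian Y] (T : Set Y)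
    (hT : T ∈ irreducibleComponents Y) :
    ∃ ξ : Y, closure {ξ} = T ∧ ∃ O : Set Y, IsOpen O ∧ ξ ∈ O ∧ O ⊆ T := by
  classical
  have hTcl : IsClosed T := isClosed_of_mem_irreducibleComponents T hT
  obtain ⟨ξ, hξ⟩ := QuasiSober.sober hT.1 hTcl
  have hξT : closure {ξ} = T := hξ.def
  have hmax : ∀ y : Y, y ⤳ ξ → y = ξ := by
    intro y hy
    have h1 : T ⊆ closure {y} := by
      rw [← hξT]
      exact closure_minimal (Set.singleton_subset_iff.mpr (specializes_iff_mem_closure.mp hy))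
        isClosed_closure
    have h2 : closure {y} ⊆ T := hT.2 isIrreducible_singleton.closure h1
    have h3 : ξ ⤳ y := by
      apply specializes_iff_mem_closure.mpr
      rw [hξT]
      exact h2 (subset_closure rfl)
    exact (hy.antisymm h3).eq
  obtain ⟨V, hV, hξV⟩ : ∃ V : Y.Opens, IsAffineOpen V ∧ ξ ∈ V := by
    obtain ⟨_, ⟨V, hV : IsAffineOpen V, rfl⟩, hxV, -⟩ :=
      Y.isBasis_affineOpens.exists_subset_of_mem_open (Set.mem_univ ξ) isOpen_univ
    exact ⟨V, hV, hxV⟩
  haveI : IsNoetherianRing Γ(Y, V) := IsLocallyNoetherian.component_noetherian ⟨V, hV⟩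
  haveI := hV.isOpenImmersion_fromSpec
  have hj : Topology.IsOpenEmbedding ⇑hV.fromSpec := hV.fromSpec.isOpenEmbedding
  set P := hV.primeIdealOf ⟨ξ, hξV⟩ with hP
  have hjP : hV.fromSpec P = ξ := hV.fromSpec_primeIdealOf _
  have hPmin : ∀ R : PrimeSpectrum Γ(Y, V), R ≤ P → R = P := by
    intro R hR
    apply hj.injective
    rw [hjP]
    apply hmax
    rw [← hjP]
    exact ((PrimeSpectrum.le_iff_specializes R P).mp hR).map hj.continuous
  have hfin : (minimalPrimes Γ(Y, V)).Finite := minimalPrimes.finite_of_isNoetherianRing _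
  have hFcl : IsClosed (⋃ Q ∈ {Q ∈ minimalPrimes Γ(Y, V) | Q ≠ P.asIdeal},
      PrimeSpectrum.zeroLocus (Q : Set Γ(Y, V))) :=
    (hfin.subset (Set.sep_subset _ _)).isClosed_biUnion
      (fun Q _ => PrimeSpectrum.isClosed_zeroLocus _)
  refine ⟨ξ, hξT, ⇑hV.fromSpec '' (⋃ Q ∈ {Q ∈ minimalPrimes Γ(Y, V) | Q ≠ P.asIdeal},
      PrimeSpectrum.zeroLocus (Q : Set Γ(Y, V)))ᶜ, hj.isOpenMap _ hFcl.isOpen_compl, ?_, ?_⟩
  · refine ⟨P, ?_, hjP⟩
    intro hx
    have hx' : P ∈ (⋃ Q ∈ {Q ∈ minimalPrimes Γ(Y, V) | Q ≠ P.asIdeal},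
      PrimeSpectrum.zeroLocus (Q : Set Γ(Y, V)) : Set (PrimeSpectrum Γ(Y, V))) := hx
    obtain ⟨Q, ⟨hQmin, hQne⟩, hPQ⟩ := Set.mem_iUnion₂.mp hx'
    have hQP : Q ≤ P.asIdeal := hPQ
    have := hPmin ⟨Q, hQmin.1.1⟩ hQP
    exact hQne (congrArg PrimeSpectrum.asIdeal this)
  · rintro _ ⟨R, hR, rfl⟩
    haveI := R.isPrime
    obtain ⟨Q, hQmin, hQle⟩ := Ideal.exists_minimalPrimes_le (bot_le : ⊥ ≤ R.asIdeal)
    have hQP : Q = P.asIdeal := by
      by_contra hne
      exact hR (Set.mem_biUnion (show Q ∈ {Q ∈ minimalPrimes Γ(Y, V) | Q ≠ P.asIdeal} from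
        ⟨hQmin, hne⟩) hQle)
    rw [← hξT]
    apply specializes_iff_mem_closure.mp
    rw [← hjP]
    refine ((PrimeSpectrum.le_iff_specializes P R).mp ?_).map hj.continuous
    show P.asIdeal ≤ R.asIdeal
    rw [← hQP]
    exact hQle

/-- Let Y be a nonempty scheme locally of finite type over a field k whose irreducible components all
have the same dimension, and let Z be a locally closed subset of Y (the underlying set of a
subscheme). Then Z is nowhere dense in Y if and only if dim Z < dim Y. (For Y empty the left side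
holds and the right side fails, so Y is taken nonempty; dimensions are Krull dimensions of the
underlying spaces.) -/
theorem result {k : Type u} [Field k] {Y : Scheme.{u}} [Nonempty ↥Y]
    (g : Y ⟶ Spec (CommRingCat.of k)) [LocallyOfFiniteType g]
    (heq : ∀ T ∈ irreducibleComponents ↥Y, topologicalKrullDim ↥T = topologicalKrullDim ↥Y)
    (Z : Set ↥Y) (hZ : IsLocallyClosed Z) :
    IsNowhereDense Z ↔ topologicalKrullDim ↥Z < topologicalKrullDim ↥Y := by
  classical
  letI : Y.Over (Spec (CommRingCat.of k)) := ⟨g⟩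
  haveI : LocallyOfFiniteType (Y ↘ Spec (CommRingCat.of k)) := ‹LocallyOfFiniteType g›
  haveI : IsLocallyNoetherian Y :=
    LocallyOfFiniteType.isLocallyNoetherian (Y ↘ Spec (CommRingCat.of k))
  have hcomp : ∀ ξ : Y, closure {ξ} ∈ irreducibleComponents Y → ∀ n : ℕ,
      @Algebra.trdeg k (Y.residueField ξ) _ _ (Curv2.resAlgebra k Y ξ) = (n : Cardinal.{u}) →
      topologicalKrullDim Y = (n : WithBot ℕ∞) := by
    intro ξ hξ n hn
    rw [← heq _ hξ, Groth.Agent.S14514.dim_closure k Y ξ n hn]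
  -- data of the component through a point
  have hpt : ∀ z : Y, ∃ (ξ : Y) (n : ℕ), ξ ⤳ z ∧ topologicalKrullDim Y = (n : WithBot ℕ∞) ∧
      @Algebra.trdeg k (Y.residueField ξ) _ _ (Curv2.resAlgebra k Y ξ) = (n : Cardinal.{u}) ∧
      ∃ O : Set Y, IsOpen O ∧ ξ ∈ O ∧ O ⊆ closure {ξ} := by
    intro z
    obtain ⟨ξ, hξT, O, hO, hξO, hOT⟩ := component_data Y (irreducibleComponent z)
      (irreducibleComponent_mem_irreducibleComponents z)
    obtain ⟨n, hn, -⟩ := Groth.Agent.S10841.trdeg_le_dim k Y ξ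
    refine ⟨ξ, n, ?_, ?_, hn, O, hO, hξO, ?_⟩
    · apply specializes_iff_mem_closure.mpr
      rw [hξT]
      exact mem_irreducibleComponent
    · exact hcomp ξ (by rw [hξT]; exact irreducibleComponent_mem_irreducibleComponents z) n hn
    · rw [hξT]
      exact hOT
  obtain ⟨y₀⟩ := ‹Nonempty ↥Y›
  obtain ⟨-, N, -, hYN, -, -⟩ := hpt y₀
  constructor
  · intro hnd
    have hCnd : interior (closure Z) = ∅ := hnd
    refine lt_of_le_of_lt (Groth.Agent.S1617.dim_subset_mono (subset_closure : Z ⊆ closure Z)) ?_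
    haveI : QuasiSober ↥(closure Z) := isClosed_closure.isClosedEmbedding_subtypeVal.quasiSober
    rw [Groth.Agent.S10840.topDim_eq, hYN]
    have hchain : ∀ l : @LTSeries ↥(closure Z) (specializationPreorder _), l.length + 1 ≤ N := by
      intro l
      have hτ : ∀ i : ℕ, ∀ hi : i < l.length + 1, ∀ t : ℕ,
          @Algebra.trdeg k (Y.residueField (l ⟨i, hi⟩).1) _ _
            (Curv2.resAlgebra k Y (l ⟨i, hi⟩).1) = (t : Cardinal.{u}) → i ≤ t := by
        intro i
        induction i with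
        | zero =>
          intro _ t _
          exact Nat.zero_le _
        | succ j ih =>
          intro hi t ht
          obtain ⟨t', ht', -⟩ := Groth.Agent.S10841.trdeg_le_dim k Y (l ⟨j, by omega⟩).1
          have h1 := ih (by omega) t' ht'
          have hlt : ((l ⟨j + 1, hi⟩) ⤳ (l ⟨j, by omega⟩)) ∧ ¬ ((l ⟨j, by omega⟩) ⤳ (l ⟨j + 1, hi⟩)) :=
            (@LTSeries.strictMono _ (specializationPreorder _) l)
              (show (⟨j, by omega⟩ : Fin (l.length + 1)) < ⟨j + 1, hi⟩ from by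
                simp [Fin.lt_def])
          have hsp : (l ⟨j + 1, hi⟩).1 ⤳ (l ⟨j, by omega⟩).1 :=
            (subtype_specializes_iff _ _).mp hlt.1
          have hne : (l ⟨j + 1, hi⟩).1 ≠ (l ⟨j, by omega⟩).1 := by
            intro h
            apply hlt.2
            rw [Subtype.ext h]
          have := trdeg_strict k Y _ _ hsp hne t t' ht ht'
          omega
      obtain ⟨tz, htz, -⟩ := Groth.Agent.S10841.trdeg_le_dim k Y (l ⟨l.length, by omega⟩).1
      have hm : l.length ≤ tz := hτ l.length (by omega) tz htz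
      obtain ⟨ξ, n, hξz, hdimY, hn, O, hO, hξO, hOT⟩ := hpt (l ⟨l.length, by omega⟩).1
      have hnN : n = N := by
        rw [hYN] at hdimY
        exact_mod_cast hdimY.symm
      have hne : ξ ≠ (l ⟨l.length, by omega⟩).1 := by
        intro hEq
        have h1 : closure {ξ} ⊆ closure Z := by
          rw [hEq]
          exact closure_minimal (Set.singleton_subset_iff.mpr (l ⟨l.length, by omega⟩).2)
            isClosed_closure
        have h2 : O ⊆ interior (closure Z) := interior_maximal (hOT.trans h1) hO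
        rw [hCnd] at h2
        exact h2 hξO
      have := trdeg_strict k Y ξ _ hξz hne n tz hn htz
      omega
    by_cases hne : Nonempty ↥(closure Z)
    · obtain ⟨z⟩ := hne
      have hN1 := hchain (@RelSeries.singleton _ _ z)
      have hN1' : 1 ≤ N := by
        simp only [RelSeries.singleton_length, zero_add] at hN1
        exact hN1
      refine lt_of_le_of_lt (b := ((N - 1 : ℕ) : WithBot ℕ∞)) ?_
        (by exact_mod_cast (by omega : N - 1 < N))
      unfold Order.krullDim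
      apply iSup_le
      intro l
      have hl := hchain l
      exact_mod_cast (by omega : l.length ≤ N - 1)
    · haveI : IsEmpty ↥(closure Z) := not_nonempty_iff.mp hne
      rw [@Order.krullDim_eq_bot _ (specializationPreorder _) _]
      exact WithBot.bot_lt_coe _
  · intro hlt
    by_contra hnd
    have hne : (interior (closure Z)).Nonempty := Set.nonempty_iff_ne_empty.mpr hnd
    obtain ⟨U, C₀, hU, hC₀, rfl⟩ := hZ
    obtain ⟨w, hw⟩ := hne
    have hwcl : w ∈ closure (U ∩ C₀) := interior_subset hw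
    obtain ⟨z, hzO', hzZ⟩ := mem_closure_iff.mp hwcl _ isOpen_interior hw
    have hOsub : interior (closure (U ∩ C₀)) ∩ U ⊆ U ∩ C₀ := by
      rintro a ⟨ha1, ha2⟩
      exact ⟨ha2, (closure_minimal Set.inter_subset_right hC₀) (interior_subset ha1)⟩
    have hOopen : IsOpen (interior (closure (U ∩ C₀)) ∩ U) := isOpen_interior.inter hU
    have hzO : z ∈ interior (closure (U ∩ C₀)) ∩ U := ⟨hzO', hzZ.1⟩
    obtain ⟨ξ, n, hξz, hdimY, hn, -⟩ := hpt z
    have hξO : ξ ∈ interior (closure (U ∩ C₀)) ∩ U := hξz.mem_open hOopen hzO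
    obtain ⟨_, ⟨V, hV : IsAffineOpen V, rfl⟩, hξV, hVO⟩ :=
      Y.isBasis_affineOpens.exists_subset_of_mem_open hξO hOopen
    have h1 : (n : WithBot ℕ∞) ≤ topologicalKrullDim ↥(V : Set Y) := by
      obtain ⟨d, hd1, hd2⟩ := Groth.Agent.S14514.dim_quot_trdeg k Y V hV ξ hξV
      have hdn : d = n := by
        rw [hn] at hd2
        exact_mod_cast hd2.symm
      haveI := hV.isOpenImmersion_fromSpec
      have hj : Topology.IsOpenEmbedding ⇑hV.fromSpec := hV.fromSpec.isOpenEmbedding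
      have e1 := hj.isEmbedding.homeomorphImage (Set.univ)
      have himg : ⇑hV.fromSpec '' Set.univ = (V : Set Y) := by
        rw [Set.image_univ, hV.range_fromSpec]
      calc (n : WithBot ℕ∞) = ringKrullDim (Γ(Y, V) ⧸ (hV.primeIdealOf ⟨ξ, hξV⟩).asIdeal) := by
            rw [hd1, hdn]
        _ ≤ ringKrullDim Γ(Y, V) := ringKrullDim_quotient_le _
        _ = topologicalKrullDim (PrimeSpectrum Γ(Y, V)) :=
            (PrimeSpectrum.topologicalKrullDim_eq_ringKrullDim _).symm
        _ = topologicalKrullDim ↥(Set.univ : Set (PrimeSpectrum Γ(Y, V))) :=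
            (IsHomeomorph.topologicalKrullDim_eq _ (Homeomorph.Set.univ _).isHomeomorph).symm
        _ = topologicalKrullDim ↥(⇑hV.fromSpec '' Set.univ) :=
            IsHomeomorph.topologicalKrullDim_eq _ e1.isHomeomorph
        _ ≤ topologicalKrullDim ↥(V : Set Y) :=
            Groth.Agent.S1617.dim_subset_mono (le_of_eq himg)
    have h2 : topologicalKrullDim ↥(V : Set Y) ≤ topologicalKrullDim ↥(U ∩ C₀) :=
      Groth.Agent.S1617.dim_subset_mono (hVO.trans hOsub)
    rw [hdimY] at hlt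
    exact absurd (h1.trans h2) (not_le.mpr hlt)

end Groth.Agent.S4644
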