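import Groth.Statements.S10885
import Mathlib
import Groth.Agent.S10841
import Groth.Agent.S4644
import Groth.Agent.H29.DimFun
import Groth.Agent.S3447

set_option autoImplicit false
universe u
open CategoryTheory AlgebraicGeometry
open Variety

namespace Groth.Agent.S10885

/-- generic point of the closure of an irreducible closed subset of a subspace -/
noncomputable def Xi {X : Type*} [TopologicalSpace X] [QuasiSober X] (T : Set X)
    (W : TopologicalSpace.IrreducibleCloseds T) : X :=
  ((W.isIrreducible.image Subtype.val continuous_subtype_val.continuousOn).closure).genericPoint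

theorem Xi_spec {X : Type*} [TopologicalSpace X] [QuasiSober X] (T : Set X)
    (W : TopologicalSpace.IrreducibleCloseds T) :
    IsGenericPoint (Xi T W) (closure (Subtype.val '' (W : Set T))) :=
  ((W.isIrreducible.image Subtype.val continuous_subtype_val.continuousOn).closure
    ).isGenericPoint_genericPoint isClosed_closure

theorem preimage_closure_eq {X : Type*} [TopologicalSpace X] (T : Set X)
    (W : TopologicalSpace.IrreducibleCloseds T) :
    Subtype.val ⁻¹' (closure (Subtype.val '' (W : Set T))) = (W : Set T) := by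
  rw [← Topology.IsInducing.subtypeVal.closure_eq_preimage_closure_image, W.isClosed.closure_eq]

theorem Xi_lt {X : Type*} [TopologicalSpace X] [QuasiSober X] (T : Set X)
    (W W' : TopologicalSpace.IrreducibleCloseds T) (h : W < W') :
    Xi T W' ⤳ Xi T W ∧ Xi T W' ≠ Xi T W := by
  have hsub : (W : Set T) ⊆ (W' : Set T) := h.le
  have hcl : closure (Subtype.val '' (W : Set T)) ⊆ closure (Subtype.val '' (W' : Set T)) :=
    closure_mono (Set.image_mono hsub)
  constructor
  · rw [specializes_iff_closure_subset, (Xi_spec T W').def, (Xi_spec T W).def]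
    exact hcl
  · intro heq
    have h1 : closure (Subtype.val '' (W : Set T)) = closure (Subtype.val '' (W' : Set T)) := by
      rw [← (Xi_spec T W').def, ← (Xi_spec T W).def, heq]
    have h2 : (W : Set T) = (W' : Set T) := by
      rw [← preimage_closure_eq T W, ← preimage_closure_eq T W', h1]
    exact h.ne (TopologicalSpace.IrreducibleCloseds.ext h2)

theorem Xi_map {X Y : Type*} [TopologicalSpace X] [QuasiSober X] [TopologicalSpace Y] [T0Space Y]
    (f : X → Y) (hf : Continuous f) (η : Y) (W : TopologicalSpace.IrreducibleCloseds (f ⁻¹' {η})) :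
    f (Xi (f ⁻¹' {η}) W) = η := by
  obtain ⟨w, hw⟩ := W.isIrreducible.nonempty
  have hwC : (w : X) ∈ closure (Subtype.val '' (W : Set (f ⁻¹' {η}))) :=
    subset_closure ⟨w, hw, rfl⟩
  have h1 : Xi (f ⁻¹' {η}) W ⤳ (w : X) := (Xi_spec _ W).specializes hwC
  have h2 : f (Xi (f ⁻¹' {η}) W) ⤳ η := by
    have := h1.map hf
    rwa [show f (w : X) = η from w.2] at this
  have h3 : η ⤳ f (Xi (f ⁻¹' {η}) W) := by
    rw [specializes_iff_mem_closure]
    have hmem : Xi (f ⁻¹' {η}) W ∈ closure (Subtype.val '' (W : Set (f ⁻¹' {η}))) :=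
      (Xi_spec _ W).mem
    have h4 := image_closure_subset_closure_image hf ⟨_, hmem, rfl⟩
    refine closure_mono ?_ h4
    rintro _ ⟨_, ⟨v, -, rfl⟩, rfl⟩
    exact v.2
  exact (h2.antisymm h3).eq

/-- Let Y be a scheme of finite type over a field k, r ≥ 0, and f : X → Y a morphism of finite type
whose fibre over every maximal point of Y has dimension at least r. Then dim X ≥ r + dim Y. -/
theorem result (k : Type u) [Field k] {X Y : Scheme.{u}}
    (q : Y ⟶ Spec (CommRingCat.of k)) [LocallyOfFiniteType q] [QuasiCompact q]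
    (f : X ⟶ Y) [LocallyOfFiniteType f] [QuasiCompact f] (r : ℕ)
    (hfib : ∀ η : Y, (∀ y : Y, y ⤳ η → y = η) → (r : WithBot ℕ∞) ≤ topologicalKrullDim (f.base ⁻¹' {η})) :
    (r : WithBot ℕ∞) + topologicalKrullDim Y ≤ topologicalKrullDim X := by
  classical
  letI : Y.Over (Spec (CommRingCat.of k)) := ⟨q⟩
  letI : X.Over (Spec (CommRingCat.of k)) := ⟨f ≫ q⟩
  haveI : LocallyOfFiniteType (Y ↘ (Spec (CommRingCat.of k))) := ‹LocallyOfFiniteType q›
  haveI : LocallyOfFiniteType (X ↘ (Spec (CommRingCat.of k))) :=
    (inferInstance : LocallyOfFiniteType (f ≫ q))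
  choose gX hgX hgXd using fun x : X => Groth.Agent.S10841.trdeg_le_dim k X x
  choose gY hgY hgYd using fun y : Y => Groth.Agent.S10841.trdeg_le_dim k Y y
  have F1X : ∀ a b : X, a ⤳ b → a ≠ b → gX b + 1 ≤ gX a := fun a b h hne =>
    Groth.Agent.S4644.trdeg_strict k X a b h hne _ _ (hgX a) (hgX b)
  have F1Y : ∀ a b : Y, a ⤳ b → a ≠ b → gY b + 1 ≤ gY a := fun a b h hne =>
    Groth.Agent.S4644.trdeg_strict k Y a b h hne _ _ (hgY a) (hgY b)
  have F3 : ∀ x : X, gY (f x) ≤ gX x := by
    intro x
    letI := Curv2.resAlgebra k Y (f x)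
    letI := Curv2.resAlgebra k X x
    let g : Y.residueField (f x) →ₐ[k] X.residueField x :=
      { (f.residueFieldMap x).hom with
        commutes' := fun c => Groth.Agent.S10841.resMap_comp k Y X f rfl x c }
    have h1 := trdeg_le_of_injective g g.toRingHom.injective
    rw [hgY, hgX] at h1
    exact_mod_cast h1
  have key : ∀ l : ℕ, (l : WithBot ℕ∞) ≤ topologicalKrullDim Y →
      (((r + l : ℕ)) : WithBot ℕ∞) ≤ topologicalKrullDim X := by
    intro l hl
    rw [Groth.Agent.S3447.topDim_eq Y] at hl
    obtain ⟨p, hp⟩ := Order.le_krullDim_iff.mp hl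
    have hmono : ∀ i : ℕ, ∀ hi : i < p.length + 1, i ≤ gY (p ⟨i, hi⟩) := by
      intro i
      induction i with
      | zero => intro _; exact Nat.zero_le _
      | succ j ih =>
        intro hj
        have hlt : p ⟨j, by omega⟩ < p ⟨j + 1, hj⟩ := p.strictMono (by simp [Fin.lt_def])
        have hsp : p ⟨j + 1, hj⟩ ⤳ p ⟨j, by omega⟩ := hlt.le
        have hne : p ⟨j + 1, hj⟩ ≠ p ⟨j, by omega⟩ := hlt.ne'
        have h1 := F1Y _ _ hsp hne
        have h2 := ih (by omega)
        omega
    have h1 : l ≤ gY (p ⟨p.length, by omega⟩) := by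
      have := hmono p.length (by omega)
      omega
    obtain ⟨η, hηy, hηmax⟩ :=
      Groth.Agent.H29.DimFun.exists_generic_specializes Y (p ⟨p.length, by omega⟩)
    have h2 : gY (p ⟨p.length, by omega⟩) ≤ gY η := by
      by_cases he : η = p ⟨p.length, by omega⟩
      · rw [he]
      · have := F1Y η _ hηy he; omega
    have hr := hfib η hηmax
    obtain ⟨W, hW⟩ := Order.le_krullDim_iff.mp hr
    have hmonoX : ∀ i : ℕ, ∀ hi : i < W.length + 1,
        gX (Xi (f.base ⁻¹' {η}) (W ⟨0, by omega⟩)) + i ≤ gX (Xi (f.base ⁻¹' {η}) (W ⟨i, hi⟩)) := by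
      intro i
      induction i with
      | zero => intro _; exact le_rfl
      | succ j ih =>
        intro hj
        have hlt : W ⟨j, by omega⟩ < W ⟨j + 1, hj⟩ := W.strictMono (by simp [Fin.lt_def])
        obtain ⟨hsp, hne⟩ := Xi_lt (f.base ⁻¹' {η}) _ _ hlt
        have h1 := F1X _ _ hsp hne
        have h2 := ih (by omega)
        omega
    have h3 := hmonoX W.length (by omega)
    have h4 : f.base (Xi (f.base ⁻¹' {η}) (W ⟨0, by omega⟩)) = η :=
      Xi_map f.base f.continuous η (W ⟨0, by omega⟩)
    have h5 : gY η ≤ gX (Xi (f.base ⁻¹' {η}) (W ⟨0, by omega⟩)) := by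
      have := F3 (Xi (f.base ⁻¹' {η}) (W ⟨0, by omega⟩))
      rw [show f (Xi (f.base ⁻¹' {η}) (W ⟨0, by omega⟩)) = η from h4] at this
      exact this
    have h6 : r + l ≤ gX (Xi (f.base ⁻¹' {η}) (W ⟨W.length, by omega⟩)) := by omega
    exact le_trans (by exact_mod_cast h6) (hgXd _)
  generalize hD : topologicalKrullDim Y = D at key ⊢
  induction D using WithBot.recBotCoe with
  | bot => rw [WithBot.add_bot]; exact bot_le
  | coe m =>
    induction m using ENat.recTopCoe with
    | top =>
      have hall : ∀ l : ℕ, ((r + l : ℕ) : WithBot ℕ∞) ≤ topologicalKrullDim X :=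
        fun l => key l (by exact_mod_cast le_top)
      generalize hE : topologicalKrullDim X = E at hall ⊢
      induction E using WithBot.recBotCoe with
      | bot =>
        exfalso
        have := hall 0
        simp at this
      | coe e =>
        induction e using ENat.recTopCoe with
        | top => exact le_top
        | coe n =>
          exfalso
          have h1 := hall (n + 1)
          have h2 : r + (n + 1) ≤ n := by exact_mod_cast h1
          omega
    | coe l =>
      have := key l le_rfl
      exact_mod_cast this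

end Groth.Agent.S10885
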