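import Groth.Statements.S10884
import Mathlib
import Groth.Agent.S10885
import Groth.Agent.S9347
import Groth.Agent.S3447
import Groth.Agent.H25.AlgSp91

set_option autoImplicit false
universe u
open CategoryTheory AlgebraicGeometry
open Variety

namespace Groth.Agent.S10884

theorem closure_mem_irreducibleComponents {Y : Type*} [TopologicalSpace Y] [QuasiSober Y] (η : Y)
    (hmax : ∀ y : Y, y ⤳ η → y = η) : closure {η} ∈ irreducibleComponents Y := by
  refine ⟨isIrreducible_singleton.closure, ?_⟩
  intro Z hZ hsub
  have hZc : IsIrreducible (closure Z) := hZ.closure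
  have hgen := hZc.isGenericPoint_genericPoint isClosed_closure
  have h1 : η ∈ closure Z := subset_closure (hsub (subset_closure rfl))
  have h2 : hZc.genericPoint ⤳ η := hgen.specializes h1
  have h3 := hmax _ h2
  have h4 : closure Z = closure {η} := by rw [← hgen.def, h3]
  exact subset_closure.trans h4.le

/-- Let Y be a scheme of finite type over a field k and f : X → Y a dominant morphism of finite type all
of whose non-empty fibres have dimension r. Then dim X = r + dim Y. -/
theorem result (k : Type u) [Field k] {X Y : Scheme.{u}}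
    (q : Y ⟶ Spec (CommRingCat.of k)) [LocallyOfFiniteType q] [QuasiCompact q]
    (f : X ⟶ Y) [LocallyOfFiniteType f] [QuasiCompact f] (hdom : DenseRange f.base) (r : ℕ)
    (hfib : ∀ y : Y, (f.base ⁻¹' {y}).Nonempty → topologicalKrullDim (f.base ⁻¹' {y}) = r) :
    topologicalKrullDim X = (r : WithBot ℕ∞) + topologicalKrullDim Y := by
  apply le_antisymm
  · haveI : IsLocallyNoetherian Y := LocallyOfFiniteType.isLocallyNoetherian q
    rw [Groth.Agent.H25.AS.topologicalKrullDim_eq_iSup_stalk X]
    apply iSup_le
    intro x
    have h1 := Groth.Agent.S3447.main f x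
    have h2 : ringKrullDim (Y.presheaf.stalk (f.base x)) ≤ topologicalKrullDim Y := by
      rw [Groth.Agent.H25.AS.topologicalKrullDim_eq_iSup_stalk Y]
      exact le_iSup (fun y : Y => ringKrullDim (Y.presheaf.stalk y)) (f.base x)
    have h3 : ringKrullDim ((f.fiber (f.base x)).presheaf.stalk (f.asFiber x)) ≤ (r : WithBot ℕ∞) := by
      have h4 : ringKrullDim ((f.fiber (f.base x)).presheaf.stalk (f.asFiber x)) ≤
          topologicalKrullDim (f.fiber (f.base x)) := by
        rw [Groth.Agent.H25.AS.topologicalKrullDim_eq_iSup_stalk (f.fiber (f.base x))]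
        exact le_iSup (fun z : (f.fiber (f.base x) : Scheme.{u}) =>
          ringKrullDim ((f.fiber (f.base x)).presheaf.stalk z)) (f.asFiber x)
      have h5 : topologicalKrullDim (f.fiber (f.base x)) =
          topologicalKrullDim (f.base ⁻¹' {f.base x}) :=
        IsHomeomorph.topologicalKrullDim_eq _ (f.fiberHomeo (f.base x)).isHomeomorph
      rw [h5, hfib (f.base x) ⟨x, rfl⟩] at h4
      exact h4
    calc ringKrullDim (X.presheaf.stalk x) ≤ _ := h1
      _ ≤ topologicalKrullDim Y + (r : WithBot ℕ∞) := add_le_add h2 h3
      _ = (r : WithBot ℕ∞) + topologicalKrullDim Y := add_comm _ _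
  · apply Groth.Agent.S10885.result k q f r
    intro η hηmax
    have hcomp : closure {η} ∈ irreducibleComponents Y :=
      closure_mem_irreducibleComponents η hηmax
    have hmem : η ∈ Set.range f.base := by
      by_contra hnot
      obtain ⟨V, hηV, hV⟩ := Groth.Agent.S9347.result f η hcomp hnot
      obtain ⟨x, hx⟩ := hdom.exists_mem_open V.isOpen ⟨η, hηV⟩
      have hx' : x ∈ f ⁻¹ᵁ V := hx
      rw [hV] at hx'
      exact hx'.elim
    obtain ⟨x, hx⟩ := hmem
    exact (hfib η ⟨x, hx⟩).ge

end Groth.Agent.S10884
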