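import Groth.Statements.S10886
import Mathlib.Tactic

set_option autoImplicit false
universe u
open CategoryTheory AlgebraicGeometry
open Curves

namespace Groth.Agent.S10886

open TopologicalSpace

/-- In an irreducible Noetherian T0 space of dimension at most one, proper closed subsets are finite
sets of closed points. -/
theorem finite_closed_points_of_isClosed {X : Type u} [TopologicalSpace X] [NoetherianSpace X]
    [IrreducibleSpace X] [T0Space X] (hX : topologicalKrullDim X ≤ 1) (Z : Set X)
    (hZ : IsClosed Z) (hZne : Z ≠ Set.univ) : Z.Finite ∧ ∀ x ∈ Z, IsClosed ({x} : Set X) := by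
  obtain ⟨S, hSfin, hSclosed, hSirr, rfl⟩ := NoetherianSpace.exists_finite_set_isClosed_irreducible hZ
  have hdim : ∀ x : IrreducibleCloseds X, IsMin x ∨ IsMax x := Order.krullDim_le_one_iff.mp hX
  have key : ∀ t ∈ S, ∃ w : X, t = {w} := by
    intro t ht
    have htne : t ≠ Set.univ := by
      intro h
      apply hZne
      rw [Set.eq_univ_iff_forall]
      intro x
      exact ⟨t, ht, by rw [h]; trivial⟩
    have hmin : IsMin (⟨t, hSirr t ht, hSclosed t ht⟩ : IrreducibleCloseds X) := by
      rcases hdim ⟨t, hSirr t ht, hSclosed t ht⟩ with h | h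
      · exact h
      · exfalso
        apply htne
        have h1 : (⟨Set.univ, IrreducibleSpace.isIrreducible_univ X, isClosed_univ⟩ :
            IrreducibleCloseds X) ≤ ⟨t, hSirr t ht, hSclosed t ht⟩ :=
          h (show (⟨t, hSirr t ht, hSclosed t ht⟩ : IrreducibleCloseds X) ≤
            ⟨Set.univ, IrreducibleSpace.isIrreducible_univ X, isClosed_univ⟩ from
              fun x _ => Set.mem_univ x)
        exact Set.eq_univ_of_univ_subset h1
    have hcl : ∀ w ∈ t, t ⊆ closure {w} := by
      intro w hw
      have h1 : (⟨closure {w}, isIrreducible_singleton.closure, isClosed_closure⟩ :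
          IrreducibleCloseds X) ≤ ⟨t, hSirr t ht, hSclosed t ht⟩ :=
        closure_minimal (Set.singleton_subset_iff.mpr hw) (hSclosed t ht)
      exact hmin h1
    obtain ⟨w, hw⟩ := (hSirr t ht).nonempty
    refine ⟨w, ?_⟩
    apply Set.eq_singleton_iff_unique_mem.mpr
    refine ⟨hw, fun w' hw' => ?_⟩
    have h1 : closure ({w'} : Set X) = closure {w} := by
      apply le_antisymm
      · exact closure_minimal (Set.singleton_subset_iff.mpr (hcl w hw hw')) isClosed_closure
      · exact closure_minimal (Set.singleton_subset_iff.mpr (hcl w' hw' hw)) isClosed_closure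
    exact (inseparable_iff_closure_eq.mpr h1).eq
  refine ⟨?_, ?_⟩
  · apply Set.Finite.sUnion hSfin
    intro t ht
    obtain ⟨w, rfl⟩ := key t ht
    exact Set.finite_singleton w
  · rintro x ⟨t, ht, hxt⟩
    obtain ⟨w, rfl⟩ := key t ht
    rw [Set.mem_singleton_iff] at hxt
    rw [hxt]
    exact hSclosed _ ht

theorem fin_mono {X : Type u} [TopologicalSpace X] {s t : Set X} (hst : s ⊆ t)
    (ht : t.Finite ∧ ∀ x ∈ t, IsClosed ({x} : Set X)) :
    s.Finite ∧ ∀ x ∈ s, IsClosed ({x} : Set X) :=
  ⟨ht.1.subset hst, fun x hx => ht.2 x (hst hx)⟩

/-- In an irreducible Noetherian scheme of dimension one every constructible subset is either a finite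
set of closed points or the complement of such a set; in particular it is open or closed. -/
theorem result {X : Scheme.{u}} [IsNoetherian X]
    [IrreducibleSpace X] (hX : topologicalKrullDim X = 1) (s : Set X) (hs : Topology.IsConstructible s) :
    (s.Finite ∧ (∀ x ∈ s, IsClosed ({x} : Set X))) ∨ (sᶜ.Finite ∧ ∀ x ∈ sᶜ, IsClosed ({x} : Set X)) := by
  induction hs using Topology.IsConstructible.empty_union_induction with
  | open_retrocompact U hUopen _ =>
    by_cases hU : U = ∅
    · left
      rw [hU]
      exact ⟨Set.finite_empty, fun x hx => absurd hx (Set.notMem_empty x)⟩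
    · right
      apply finite_closed_points_of_isClosed hX.le _ hUopen.isClosed_compl
      intro h
      apply hU
      rw [Set.compl_univ_iff] at h
      exact h
  | union s _ t _ hs' ht' =>
    rcases hs' with h1 | h1
    · rcases ht' with h2 | h2
      · left
        refine ⟨h1.1.union h2.1, ?_⟩
        rintro x (hx | hx)
        · exact h1.2 x hx
        · exact h2.2 x hx
      · right
        apply fin_mono _ h2
        rw [Set.compl_union]
        exact Set.inter_subset_right
    · right
      apply fin_mono _ h1
      rw [Set.compl_union]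
      exact Set.inter_subset_left
  | compl s _ hs' =>
    rcases hs' with h1 | h1
    · right
      rw [compl_compl]; exact h1
    · left
      exact h1

end Groth.Agent.S10886
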