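import Groth.Statements.S9682
import Mathlib

set_option autoImplicit false
universe u
open CategoryTheory CategoryTheory.Limits AlgebraicGeometry
open Mor

namespace Groth.Agent.S9682

lemma eq_of_specializes_of_mem {X : Type*} [TopologicalSpace X] [T0Space X] {x x' : X}
    (hx : closure {x} ∈ irreducibleComponents X) (h : x' ⤳ x) : x' = x := by
  have h1 : closure {x} ⊆ closure {x'} :=
    closure_minimal (Set.singleton_subset_iff.mpr (specializes_iff_mem_closure.mp h))
      isClosed_closure
  have h2 : closure {x'} ⊆ closure {x} := hx.2 isIrreducible_singleton.closure h1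
  have h3 : x ⤳ x' := specializes_iff_mem_closure.mpr (h2 (subset_closure (Set.mem_singleton x')))
  exact (h.antisymm h3).eq

lemma mem_irreducibleComponents_of_forall {X : Type*} [TopologicalSpace X] [QuasiSober X] {x : X}
    (h : ∀ x', x' ⤳ x → x' = x) : closure {x} ∈ irreducibleComponents X := by
  refine ⟨isIrreducible_singleton.closure, fun t ht hle => ?_⟩
  obtain ⟨z, hz⟩ := QuasiSober.sober ht.closure isClosed_closure
  have hxt : x ∈ closure t := subset_closure (hle (subset_closure (Set.mem_singleton x)))
  have hxz : z ⤳ x := specializes_iff_mem_closure.mpr (by rw [hz.def]; exact hxt)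
  obtain rfl := h z hxz
  exact subset_closure.trans hz.def.symm.le

/-- Take f : X ⟶ Y locally of finite type and η the generic point of some irreducible component of Y.
Three conditions turn out to coincide: (1) each point of X mapping to η is the generic point of some
irreducible component of X; (2) f is quasi-finite at every point over η; (3) f is quasi-finite at
each point over η that is generic in some irreducible component of X. Stated as (1) iff (2) together
with (1) iff (3). -/
theorem result {X Y : Scheme.{u}} (f : X ⟶ Y)
    [LocallyOfFiniteType f] (η : Y) (hη : closure {η} ∈ irreducibleComponents ↥Y) :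
    ((∀ x : X, f.base x = η → closure {x} ∈ irreducibleComponents ↥X) ↔
      (∀ x : X, f.base x = η → f.QuasiFiniteAt x)) ∧
    ((∀ x : X, f.base x = η → closure {x} ∈ irreducibleComponents ↥X) ↔
      (∀ x : X, f.base x = η → closure {x} ∈ irreducibleComponents ↥X → f.QuasiFiniteAt x)) := by
  have hηmax : ∀ y : Y, y ⤳ η → y = η := fun y hy => eq_of_specializes_of_mem hη hy
  have A : (∀ x : X, f.base x = η → closure {x} ∈ irreducibleComponents ↥X) →
      (∀ x : X, f.base x = η → f.QuasiFiniteAt x) := by
    intro h1 x hx
    rw [Scheme.Hom.quasiFiniteAt_iff_isOpen_singleton_asFiber]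
    have hmax : ∀ a b : f.fiber (f x), a ⤳ b → a = b := by
      intro a b hab
      have h2 : f.fiberι (f x) a ⤳ f.fiberι (f x) b := hab.map (f.fiberι (f x)).continuous
      have h3 : f.base (f.fiberι (f x) b) = η := by
        have : f.fiberι (f x) b ∈ f ⁻¹' {f x} := by
          rw [← f.range_fiberι]; exact ⟨b, rfl⟩
        exact Eq.trans this hx
      exact (f.fiberι (f x)).isEmbedding.injective (eq_of_specializes_of_mem (h1 _ h3) h2)
    haveI : LocallyOfFiniteType (f.fiberToSpecResidueField (f x)) :=
      MorphismProperty.pullback_snd _ _ inferInstance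
    haveI : IsLocallyNoetherian (f.fiber (f x)) :=
      LocallyOfFiniteType.isLocallyNoetherian (f.fiberToSpecResidueField (f x))
    have hdim : topologicalKrullDim (f.fiber (f x)) ≤ 0 := by
      refine Order.krullDim_nonpos_iff_forall_isMax.mpr fun Z T hZT => ?_
      obtain ⟨z, hz⟩ := QuasiSober.sober Z.isIrreducible Z.isClosed
      obtain ⟨t, ht⟩ := QuasiSober.sober T.isIrreducible T.isClosed
      have hzT : z ∈ (T : Set _) := hZT hz.mem
      have htz : t ⤳ z := specializes_iff_mem_closure.mpr (by rw [ht.def]; exact hzT)
      obtain rfl := hmax t z htz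
      intro a ha
      have h5 : a ∈ closure {t} := by rw [ht.def]; exact ha
      rw [hz.def] at h5
      exact h5
    haveI := IsLocallyArtinian.of_topologicalKrullDim_le_zero hdim
    exact isOpen_discrete _
  have B : (∀ x : X, f.base x = η → f.QuasiFiniteAt x) →
      (∀ x : X, f.base x = η → closure {x} ∈ irreducibleComponents ↥X) := by
    intro h2 x hx
    refine mem_irreducibleComponents_of_forall fun x' hx' => ?_
    have h1 : f x' ⤳ f x := hx'.map f.continuous
    have hx'η : f x' = f x := by
      have h0 : f x' = η := hηmax _ (by rw [← hx]; exact h1)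
      exact h0.trans hx.symm
    have hopen : IsOpen {f.asFiber x} :=
      Scheme.Hom.quasiFiniteAt_iff_isOpen_singleton_asFiber.mp (h2 x hx)
    obtain ⟨a, ha⟩ : x' ∈ Set.range (f.fiberι (f x)) := by
      rw [f.range_fiberι]; exact hx'η
    have h3 : a ⤳ f.asFiber x := by
      rw [← (f.fiberι (f x)).isEmbedding.isInducing.specializes_iff, ha, f.fiberι_asFiber]
      exact hx'
    have h4 : a ∈ ({f.asFiber x} : Set _) := h3.mem_open hopen rfl
    have h5 : a = f.asFiber x := h4
    rw [← ha, h5, f.fiberι_asFiber]
  have C : (∀ x : X, f.base x = η → closure {x} ∈ irreducibleComponents ↥X → f.QuasiFiniteAt x) →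
      (∀ x : X, f.base x = η → closure {x} ∈ irreducibleComponents ↥X) := by
    intro h3 x hx
    obtain ⟨Z, hZ, hxZ⟩ := exists_mem_irreducibleComponents_subset_of_isIrreducible
      (closure {x}) isIrreducible_singleton.closure
    obtain ⟨z, hz⟩ := QuasiSober.sober hZ.1 (isClosed_of_mem_irreducibleComponents Z hZ)
    have hzx : z ⤳ x := specializes_iff_mem_closure.mpr (by
      rw [hz.def]; exact hxZ (subset_closure (Set.mem_singleton x)))
    have hfz : f.base z = η := hηmax _ (by
      have h0 : f z ⤳ f x := hzx.map f.continuous
      rw [← hx]; exact h0)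
    have hzgen : closure {z} ∈ irreducibleComponents X := by rw [hz.def]; exact hZ
    have hqf := h3 z hfz hzgen
    have hclosed : IsClosed {f.asFiber z} := hqf.isClopen_singleton_asFiber.1
    obtain ⟨a, ha⟩ : x ∈ Set.range (f.fiberι (f z)) := by
      rw [f.range_fiberι]; exact hx.trans hfz.symm
    have h4 : f.asFiber z ⤳ a := by
      rw [← (f.fiberι (f z)).isEmbedding.isInducing.specializes_iff, ha, f.fiberι_asFiber]
      exact hzx
    have h5 : a ∈ ({f.asFiber z} : Set _) := h4.mem_closed hclosed rfl
    have h6 : a = f.asFiber z := h5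
    have hxz : x = z := by rw [← ha, h6, f.fiberι_asFiber]
    rw [hxz]; exact hzgen
  exact ⟨⟨A, B⟩, ⟨fun h x hx _ => A h x hx, C⟩⟩

end Groth.Agent.S9682
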