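import Groth.Statements.S10887
import Mathlib
import Groth.Agent.Lib.Helper5.BirCodim1
import Groth.Agent.H29.RegNormal
import Groth.Agent.S2852
import Groth.Agent.S9682

set_option autoImplicit false
universe u
open CategoryTheory AlgebraicGeometry
open FlatMor

namespace Groth.Agent.S10887

open AlgebraicGeometry CategoryTheory Limits in
lemma isUnit_stalkSpecializes {Y : Scheme.{u}} [IsIntegral Y] (y y' : Y)
    (hy' : y' = genericPoint Y) (h : y' ⤳ y) (a : Y.presheaf.stalk y) (ha : a ≠ 0) :
    IsUnit ((Y.presheaf.stalkSpecializes h).hom a) := by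
  subst hy'
  have e : (Y.presheaf.stalkSpecializes h).hom =
      algebraMap (Y.presheaf.stalk y) Y.functionField := rfl
  rw [e]
  have h1 : algebraMap (Y.presheaf.stalk y) Y.functionField a ≠ 0 := by
    intro h0
    apply ha
    exact IsFractionRing.injective (Y.presheaf.stalk y) Y.functionField (by rw [h0, map_zero])
  exact h1.isUnit

/-- (i) ⇔ (iii): let Y be a Dedekind scheme — an integral Noetherian scheme of dimension at most one all
of whose local rings are regular — and f : X → Y a morphism of schemes with X reduced. Then f is
flat if and only if every irreducible component of X dominates Y. (Without reducedness only the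
forward implication holds.) -/
theorem result {X Y : Scheme.{u}} [IsIntegral Y]
    [IsNoetherian Y] (hreg : ∀ y : Y, IsRegularLocalRing (Y.presheaf.stalk y)) (hdim : topologicalKrullDim Y ≤ 1)
    (f : X ⟶ Y) [IsReduced X] :
    Flat f ↔ ∀ Z ∈ irreducibleComponents (X : Type u), Dense (f.base '' Z) := by
  have hη : ∀ z : X, Dense (f.base '' closure {z}) → f z = genericPoint Y := by
    intro z hd
    have h1 : f.base '' closure {z} ⊆ closure {f z} := by
      have := image_closure_subset_closure_image (s := {z}) f.continuous
      rwa [Set.image_singleton] at this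
    have h2 : closure {f z} = Set.univ := by
      apply Set.eq_univ_of_univ_subset
      rw [← hd.closure_eq]
      exact closure_minimal h1 isClosed_closure
    have h3 : IsGenericPoint (f z) (Set.univ : Set Y) := h2
    have h4 : IsGenericPoint (genericPoint Y) (Set.univ : Set Y) := genericPoint_spec Y
    exact h3.eq h4
  constructor
  · intro hflat Z hZ
    haveI := hflat
    have hZirr : IsIrreducible Z := hZ.1
    have hZcl : IsClosed Z := isClosed_of_mem_irreducibleComponents Z hZ
    obtain ⟨z, hz⟩ := QuasiSober.sober hZirr hZcl
    have hzZ : closure {z} = Z := hz.def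
    have hspec : genericPoint Y ⤳ f z := (genericPoint_spec Y).specializes (Set.mem_univ _)
    obtain ⟨z', hz'z, hfz'⟩ := Flat.generalizingMap f hspec
    have hzz' : z' = z :=
      Groth.Agent.S9682.eq_of_specializes_of_mem (by rw [hzZ]; exact hZ) hz'z
    rw [hzz'] at hfz'
    have hmem : genericPoint Y ∈ f.base '' Z :=
      ⟨z, by rw [← hzZ]; exact subset_closure rfl, hfz'⟩
    have hd : Dense ({genericPoint Y} : Set Y) :=
      dense_iff_closure_eq.mpr (genericPoint_spec Y).def
    exact hd.mono (Set.singleton_subset_iff.mpr hmem)
  · intro hcomp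
    rw [Flat.iff_flat_stalkMap]
    intro x
    have hdimx : ringKrullDim (Y.presheaf.stalk (f x)) ≤ 1 := by
      rw [ringKrullDim_stalk_eq_coheight (f x),
        ← Order.coheight_orderIso (irreducibleSetEquivPoints (α := Y)).symm (f x)]
      calc Order.coheight ((irreducibleSetEquivPoints (α := Y)).symm (f x))
          ≤ Order.krullDim (TopologicalSpace.IrreducibleCloseds Y) :=
            Order.coheight_le_krullDim _
        _ ≤ 1 := hdim
    haveI := hreg (f x)
    have hic : IsIntegrallyClosed (Y.presheaf.stalk (f x)) :=
      Groth.Agent.H29.isIntegrallyClosed_of_isRegularLocalRing _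
    haveI := hic
    haveI : ValuationRing (Y.presheaf.stalk (f x)) :=
      Groth.Agent.Helper5.BirCodim1.valuationRing_of_normal_dim_le_one _ hdimx
    algebraize [(f.stalkMap x).hom]
    show Module.Flat (Y.presheaf.stalk (f x)) (X.presheaf.stalk x)
    rw [Module.Flat.flat_iff_torsion_eq_bot_of_isBezout, eq_bot_iff]
    intro s hs
    rw [Submodule.mem_torsion_iff] at hs
    obtain ⟨a, has⟩ := hs
    rw [Submodule.mem_bot]
    have ha0 : (a : Y.presheaf.stalk (f x)) ≠ 0 := nonZeroDivisors.coe_ne_zero a
    have has' : (f.stalkMap x).hom a * s = 0 := has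
    have hnil : s ∈ nilradical (X.presheaf.stalk x) := by
      rw [nilradical_eq_sInf, Ideal.mem_sInf]
      intro p hp
      haveI hp' : p.IsPrime := hp
      obtain ⟨q, hq, hqp⟩ := Ideal.exists_minimalPrimes_le (I := ⊥) (J := p) bot_le
      apply hqp
      haveI hqprime : q.IsPrime := hq.1.1
      have hmem : (f.stalkMap x).hom a * s ∈ q := by rw [has']; exact q.zero_mem
      rcases hqprime.mem_or_mem hmem with h1 | h1
      · exfalso
        let q' : Spec (X.presheaf.stalk x) := ⟨q, hqprime⟩
        have hzx : (X.fromSpecStalk x) q' ⤳ x := by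
          have : (X.fromSpecStalk x) q' ∈ Set.range (X.fromSpecStalk x) := ⟨q', rfl⟩
          rwa [Scheme.range_fromSpecStalk] at this
        have hmax : ∀ z', z' ⤳ (X.fromSpecStalk x) q' → z' = (X.fromSpecStalk x) q' := by
          intro z' hz'
          have hr : z' ∈ Set.range (X.fromSpecStalk x) := by
            rw [Scheme.range_fromSpecStalk]; exact hz'.trans hzx
          obtain ⟨q'', rfl⟩ := hr
          have hsp : q'' ⤳ q' :=
            (X.fromSpecStalk x).isEmbedding.isInducing.specializes_iff.mp hz'
          have hle : q''.asIdeal ≤ q := (PrimeSpectrum.le_iff_specializes q'' q').mpr hsp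
          have heq : q''.asIdeal = q :=
            le_antisymm hle (hq.2 ⟨q''.isPrime, bot_le⟩ hle)
          have : q'' = q' := PrimeSpectrum.ext heq
          rw [this]
        have hcompz := Groth.Agent.S9682.mem_irreducibleComponents_of_forall hmax
        have hfz : f ((X.fromSpecStalk x) q') = genericPoint Y := hη _ (hcomp _ hcompz)
        have hunit : IsUnit ((X.presheaf.stalkSpecializes hzx).hom ((f.stalkMap x).hom a)) := by
          have h5 := Scheme.Hom.stalkSpecializes_stalkMap_apply f _ x hzx a
          have h6 := (isUnit_stalkSpecializes (f x) (f ((X.fromSpecStalk x) q')) hfz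
            (f.base.hom.map_specializes hzx) a ha0).map (f.stalkMap ((X.fromSpecStalk x) q')).hom
          rw [← h5]
          exact h6
        exact ((Groth.Agent.S2852.mem_asIdeal_iff hzx q' rfl _).mp h1) hunit
      · exact h1
    exact (mem_nilradical.mp hnil).eq_zero

end Groth.Agent.S10887
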