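import Groth.Statements.S10891
import Mathlib.Tactic

set_option autoImplicit false
universe u
open CAlg

namespace Groth.Agent.S10891

open MvPolynomial

section
variable {k : Type u} [Field k] (a : ℕ) (ζ : k)

theorem monomial_two (m : Fin 2 →₀ ℕ) (c : k) :
    (monomial m c : MvPolynomial (Fin 2) k) = C c * (X 0 ^ m 0 * X 1 ^ m 1) := by
  rw [monomial_eq, Finsupp.prod_fintype _ _ (by intro i; simp), Fin.prod_univ_two]

theorem aeval_monomial_two (m : Fin 2 →₀ ℕ) (c : k) :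
    aeval (fun i : Fin 2 => if i = 0 then C ζ⁻¹ * X 0
        else C (ζ⁻¹ ^ a) * (X 1 : MvPolynomial (Fin 2) k)) (monomial m c) =
      monomial m (c * ζ⁻¹ ^ (m 0 + a * m 1)) := by
  rw [aeval_monomial, Finsupp.prod_fintype _ _ (by intro i; simp), Fin.prod_univ_two, monomial_two]
  have h10 : ¬ ((1 : Fin 2) = 0) := by decide
  simp only [if_true, if_neg h10, mul_pow, ← C_pow, algebraMap_eq, C_mul, pow_add, pow_mul]
  ring

theorem coeff_aeval (p : MvPolynomial (Fin 2) k) (m : Fin 2 →₀ ℕ) :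
    coeff m (aeval (fun i : Fin 2 => if i = 0 then C ζ⁻¹ * X 0
        else C (ζ⁻¹ ^ a) * (X 1 : MvPolynomial (Fin 2) k)) p) =
      coeff m p * ζ⁻¹ ^ (m 0 + a * m 1) := by
  induction p using MvPolynomial.induction_on' with
  | monomial u c =>
    rw [aeval_monomial_two]
    classical
    rw [coeff_monomial, coeff_monomial]
    split_ifs with h
    · rw [h]
    · rw [zero_mul]
  | add p q hp hq =>
    rw [map_add, coeff_add, coeff_add, hp, hq, add_mul]

theorem monomial_mem (r : ℕ) (hr : 0 < r) (i j : ℕ) (h : r ∣ i + a * j) :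
    (X 0 ^ i * X 1 ^ j : MvPolynomial (Fin 2) k) ∈
      Algebra.adjoin k {q : MvPolynomial (Fin 2) k | ∃ i j : ℕ, i ≤ r ∧ j ≤ r ∧ ¬ (i = r ∧ j = r) ∧
        r ∣ i + a * j ∧ q = X 0 ^ i * X 1 ^ j} := by
  have hX0 : (X 0 ^ r : MvPolynomial (Fin 2) k) ∈
      Algebra.adjoin k {q : MvPolynomial (Fin 2) k | ∃ i j : ℕ, i ≤ r ∧ j ≤ r ∧ ¬ (i = r ∧ j = r) ∧
        r ∣ i + a * j ∧ q = X 0 ^ i * X 1 ^ j} :=
    Algebra.subset_adjoin ⟨r, 0, le_rfl, Nat.zero_le _, by omega, by simp, by simp⟩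
  have hX1 : (X 1 ^ r : MvPolynomial (Fin 2) k) ∈
      Algebra.adjoin k {q : MvPolynomial (Fin 2) k | ∃ i j : ℕ, i ≤ r ∧ j ≤ r ∧ ¬ (i = r ∧ j = r) ∧
        r ∣ i + a * j ∧ q = X 0 ^ i * X 1 ^ j} :=
    Algebra.subset_adjoin ⟨0, r, Nat.zero_le _, le_rfl, by omega, by simp, by simp⟩
  have e1 : i = r * (i / r) + i % r := (Nat.div_add_mod i r).symm
  have e2 : j = r * (j / r) + j % r := (Nat.div_add_mod j r).symm
  have hdvd : r ∣ i % r + a * (j % r) := by
    have e3 : i + a * j = r * (i / r + a * (j / r)) + (i % r + a * (j % r)) := by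
      conv_lhs => rw [e1, e2]
      ring
    rw [e3] at h
    exact (Nat.dvd_add_right (dvd_mul_right r _)).mp h
  have hrem : (X 0 ^ (i % r) * X 1 ^ (j % r) : MvPolynomial (Fin 2) k) ∈
      Algebra.adjoin k {q : MvPolynomial (Fin 2) k | ∃ i j : ℕ, i ≤ r ∧ j ≤ r ∧ ¬ (i = r ∧ j = r) ∧
        r ∣ i + a * j ∧ q = X 0 ^ i * X 1 ^ j} :=
    Algebra.subset_adjoin ⟨i % r, j % r, (Nat.mod_lt _ hr).le, (Nat.mod_lt _ hr).le,
      by have := Nat.mod_lt i hr; omega, hdvd, rfl⟩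
  have e : (X 0 ^ i * X 1 ^ j : MvPolynomial (Fin 2) k) =
      (X 0 ^ r) ^ (i / r) * (X 1 ^ r) ^ (j / r) * (X 0 ^ (i % r) * X 1 ^ (j % r)) := by
    rw [← pow_mul, ← pow_mul]
    conv_lhs => rw [e1, e2, pow_add, pow_add]
    ring
  rw [e]
  exact Subalgebra.mul_mem _ (Subalgebra.mul_mem _ (Subalgebra.pow_mem _ hX0 _)
    (Subalgebra.pow_mem _ hX1 _)) hrem

end

/-- Let k be a field containing a primitive r-th root of unity ζ and 0 < a < r. The cyclic group of r-th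
roots of unity acts on k[X, Y] through the generator X ↦ ζ⁻¹ X, Y ↦ ζ^(−a) Y, and the ring of
invariants of this action is generated as a k-algebra by the monomials X^i Y^j with 0 ≤ i, j ≤ r,
(i, j) ≠ (r, r) and i + a·j ≡ 0 (mod r). (The printed statement writes n for the order of the group,
which the surrounding section calls r.) -/
theorem result (k : Type u) [Field k] (r a : ℕ) (ha : 0 < a) (har : a < r)
    (ζ : k) (hζ : IsPrimitiveRoot ζ r) (p : MvPolynomial (Fin 2) k) :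
    MvPolynomial.aeval (fun i : Fin 2 => if i = 0 then MvPolynomial.C ζ⁻¹ * MvPolynomial.X 0
        else MvPolynomial.C (ζ⁻¹ ^ a) * (MvPolynomial.X 1 : MvPolynomial (Fin 2) k)) p = p ↔
      p ∈ Algebra.adjoin k {q : MvPolynomial (Fin 2) k | ∃ i j : ℕ, i ≤ r ∧ j ≤ r ∧ ¬ (i = r ∧ j = r) ∧
        r ∣ i + a * j ∧ q = MvPolynomial.X 0 ^ i * MvPolynomial.X 1 ^ j} := by
  have hr : 0 < r := by omega
  constructor
  · intro hp
    rw [← support_sum_monomial_coeff p]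
    apply Subalgebra.sum_mem
    intro m hm
    have hc : coeff m p ≠ 0 := by rwa [mem_support_iff] at hm
    have h1 := coeff_aeval a ζ p m
    rw [hp] at h1
    have h2 : ζ⁻¹ ^ (m 0 + a * m 1) = 1 := by
      have h3 : coeff m p * 1 = coeff m p * ζ⁻¹ ^ (m 0 + a * m 1) := by rw [mul_one]; exact h1
      exact (mul_left_cancel₀ hc h3).symm
    have h3 : r ∣ m 0 + a * m 1 := (hζ.inv.pow_eq_one_iff_dvd _).mp h2
    rw [monomial_two, ← algebraMap_eq, ← Algebra.smul_def]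
    apply Subalgebra.smul_mem
    exact monomial_mem a r hr (m 0) (m 1) h3
  · intro hp
    have hle : Algebra.adjoin k {q : MvPolynomial (Fin 2) k | ∃ i j : ℕ, i ≤ r ∧ j ≤ r ∧
        ¬ (i = r ∧ j = r) ∧ r ∣ i + a * j ∧ q = X 0 ^ i * X 1 ^ j} ≤
        AlgHom.equalizer (aeval (fun i : Fin 2 => if i = 0 then C ζ⁻¹ * X 0
          else C (ζ⁻¹ ^ a) * (X 1 : MvPolynomial (Fin 2) k))) (AlgHom.id k _) := by
      rw [Algebra.adjoin_le_iff]
      rintro q ⟨i, j, -, -, -, hdvd, rfl⟩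
      rw [SetLike.mem_coe, AlgHom.mem_equalizer]
      have h2 : ζ⁻¹ ^ (i + a * j) = 1 := (hζ.inv.pow_eq_one_iff_dvd _).mpr hdvd
      have h10 : ¬ ((1 : Fin 2) = 0) := by decide
      rw [map_mul, map_pow (aeval _) (X 0) i, map_pow (aeval _) (X 1) j, aeval_X, aeval_X,
        AlgHom.id_apply]
      simp only [if_true, if_neg h10, mul_pow, ← C_pow]
      have e : C (ζ⁻¹ ^ i) * X 0 ^ i * (C ((ζ⁻¹ ^ a) ^ j) * (X 1 : MvPolynomial (Fin 2) k) ^ j) =
          C (ζ⁻¹ ^ (i + a * j)) * (X 0 ^ i * X 1 ^ j) := by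
        rw [pow_add, pow_mul, C_mul]; ring
      rw [e, h2, C_1, one_mul]
    exact hle hp

end Groth.Agent.S10891
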