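import Groth.Statements.S10895
import Mathlib
import Groth.Agent.Lib.Helper5.BirDense

set_option autoImplicit false
universe u
open CategoryTheory AlgebraicGeometry
open FlatMor

namespace Groth.Agent.S10895

/-- A closed immersion of finite presentation which is flat at a point x is an isomorphism over some
open neighbourhood of the image of x. -/
theorem result {X Y : Scheme.{u}} (f : X ⟶ Y) [IsClosedImmersion f]
    [LocallyOfFinitePresentation f] (x : X) (hflat : (f.stalkMap x).hom.Flat) :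
    ∃ V : Y.Opens, f.base x ∈ V ∧ IsIso (f ∣_ V) := by
  have hsurj : Function.Surjective (f.stalkMap x).hom := f.stalkMap_surjective x
  have hinj : Function.Injective (f.stalkMap x).hom := by
    algebraize [(f.stalkMap x).hom]
    have hff : Module.FaithfullyFlat (Y.presheaf.stalk (f x)) (X.presheaf.stalk x) :=
      @Module.FaithfullyFlat.of_flat_of_isLocalHom _ _ _ _ _ _ _ hflat (f.toLRSHom.prop x)
    exact (show (f.stalkMap x).hom.FaithfullyFlat from hff).injective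
  have hiso : IsIso (f.stalkMap x) :=
    (ConcreteCategory.isIso_iff_bijective _).mpr ⟨hinj, hsurj⟩
  obtain ⟨U, hxU, hU⟩ := Groth.Agent.Helper5.BirDense.isLocalIsoAt_of_lfp f x hiso
  haveI := hU
  obtain ⟨W', hW'open, hW'⟩ := f.isEmbedding.isInducing.isOpen_iff.mp U.isOpen
  obtain ⟨V, hVdef⟩ : ∃ V : Y.Opens, V = (U.ι ≫ f).opensRange ⊓ ⟨W', hW'open⟩ := ⟨_, rfl⟩
  have hmemV : ∀ y : Y, y ∈ V ↔ (y ∈ Set.range (U.ι ≫ f) ∧ y ∈ W') := by
    intro y
    rw [hVdef]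
    rfl
  have hmemU : ∀ z : X, z ∈ U ↔ f z ∈ W' := by
    intro z
    have h1 : z ∈ f ⁻¹' W' ↔ z ∈ (U : Set X) := by rw [hW']
    exact h1.symm
  have hfxV : f x ∈ V := (hmemV _).mpr ⟨⟨⟨x, hxU⟩, rfl⟩, (hmemU x).mp hxU⟩
  refine ⟨V, hfxV, ?_⟩
  have hpre : f ⁻¹ᵁ V = U := by
    ext z
    show f z ∈ V ↔ z ∈ U
    rw [hmemV, ← hmemU]
    exact ⟨fun h => h.2, fun h => ⟨⟨⟨z, h⟩, rfl⟩, h⟩⟩
  have key : ∀ U' : X.Opens, U' = U → IsOpenImmersion (U'.ι ≫ f) := by
    rintro _ rfl; exact hU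
  haveI h2 : IsOpenImmersion ((f ⁻¹ᵁ V).ι ≫ f) := key _ hpre
  have e1 : (f ∣_ V) ≫ V.ι = (f ⁻¹ᵁ V).ι ≫ f := morphismRestrict_ι f V
  haveI h3 : IsOpenImmersion ((f ∣_ V) ≫ V.ι) := by rw [e1]; exact h2
  haveI h4 : IsOpenImmersion (f ∣_ V) := IsOpenImmersion.of_comp (f ∣_ V) V.ι
  haveI h5 : Surjective (f ∣_ V) := by
    refine ⟨fun v => ?_⟩
    obtain ⟨⟨u, hu⟩, huv⟩ := ((hmemV v.1).mp v.2).1
    have huV : u ∈ f ⁻¹ᵁ V := by
      show f u ∈ V
      have : f u = v.1 := huv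
      rw [this]; exact v.2
    refine ⟨⟨u, huV⟩, Subtype.ext ?_⟩
    rw [morphismRestrict_base_coe]
    exact huv
  exact (isIso_iff_isOpenImmersion_and_surjective (f ∣_ V)).mpr ⟨h4, h5⟩

end Groth.Agent.S10895
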