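import Groth.Statements.S10898
import Mathlib.RingTheory.Ideal.GoingDown
import Mathlib.RingTheory.Polynomial.Basic
import Mathlib.Tactic

set_option autoImplicit false
universe u
open Polynomial
open WDiv

namespace Groth.Agent.S10898

theorem comap_C_map_C {A : Type u} [CommRing A] (p : Ideal A) :
    (p.map (C : A →+* A[X])).comap (C : A →+* A[X]) = p := by
  apply le_antisymm
  · intro a ha
    rw [Ideal.mem_comap, Ideal.mem_map_C_iff] at ha
    simpa using ha 0
  · exact Ideal.le_comap_map

theorem height_map_C_eq {A : Type u} [CommRing A] [IsDomain A] [IsNoetherianRing A]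
    (p : Ideal A) [p.IsPrime] : (p.map (C : A →+* A[X])).height = p.height := by
  have : (p.map (C : A →+* A[X])).LiesOver p := ⟨(comap_C_map_C p).symm⟩
  have key := Ideal.height_eq_height_add_of_liesOver_of_hasGoingDown p (p.map (C : A →+* A[X]))
  have e0 : ((p.map (C : A →+* A[X])).map
      (Ideal.Quotient.mk (p.map (algebraMap A A[X])))) = ⊥ :=
    Ideal.map_quotient_self (p.map (C : A →+* A[X]))
  have : Nontrivial (A[X] ⧸ (p.map (algebraMap A A[X]))) :=
    Ideal.Quotient.nontrivial_iff.mpr (Ideal.IsPrime.ne_top (Ideal.isPrime_map_C_of_isPrime (P := p)))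
  rw [e0, Ideal.height_bot, add_zero] at key
  exact key

/-- Let A be a Noetherian integral domain and P a prime ideal of height 1 of the polynomial ring A[X].
Then either P meets A in 0 only, or its contraction p = P ∩ A is a prime of height 1 of A and P is
the extension p·A[X]. (The published lemma also assumes A regular in codimension 1; that hypothesis
is not used for this assertion.) -/
theorem result (A : Type u) [CommRing A] [IsDomain A]
    [IsNoetherianRing A] (P : Ideal A[X]) [P.IsPrime] (hP : P.height = 1) :
    P.comap (C : A →+* A[X]) = ⊥ ∨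
      ((P.comap (C : A →+* A[X])).height = 1 ∧ P = (P.comap (C : A →+* A[X])).map C) := by
  by_cases hp0 : P.comap (C : A →+* A[X]) = ⊥
  · left; exact hp0
  · right
    have hQP : (P.comap (C : A →+* A[X])).map C ≤ P := Ideal.map_comap_le
    have hQ0 : (P.comap (C : A →+* A[X])).map (C : A →+* A[X]) ≠ ⊥ := by
      rw [Ne, Ideal.map_eq_bot_iff_of_injective C_injective]; exact hp0
    have hQ1 : (1 : ℕ∞) ≤ ((P.comap (C : A →+* A[X])).map (C : A →+* A[X])).height := by
      rw [Order.one_le_iff_ne_zero, Ne, Ideal.height_eq_zero_iff_eq_bot]; exact hQ0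
    have hQP' : (P.comap (C : A →+* A[X])).map C = P :=
      Ideal.eq_of_le_of_height_le _ hQP (by rw [hP]; exact hQ1)
    refine ⟨?_, hQP'.symm⟩
    rw [← height_map_C_eq, hQP', hP]

end Groth.Agent.S10898
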