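import Groth.Statements.S10899
import Groth.Agent.S10898
import Groth.Agent.H25.DVRLoc

set_option autoImplicit false
universe u
open Polynomial
open WDiv

namespace Groth.Agent.S10899

/-- Let A be a Noetherian integral domain which is regular in codimension 1, i.e. whose localization at
every prime ideal of height 1 is a discrete valuation ring. Then the polynomial ring A[X] is regular
in codimension 1 as well: its localization at every prime ideal of height 1 is a discrete valuation
ring. -/
theorem result (A : Type u) [CommRing A]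
    [IsDomain A] [IsNoetherianRing A]
    (hR1 : ∀ (p : Ideal A) [p.IsPrime], p.height = 1 → IsDiscreteValuationRing (Localization.AtPrime p))
    (P : Ideal A[X]) [P.IsPrime] (hP : P.height = 1) :
    IsDiscreteValuationRing (Localization.AtPrime P) := by
  have hPne : P ≠ ⊥ := Ideal.ne_bot_of_height_eq_one hP
  rcases Groth.Agent.S10898.result A P hP with h0 | ⟨hht, hPeq⟩
  · -- P ∩ A = 0
    have hne : ∃ g : A[X], g ∈ P ∧ g ≠ 0 := by
      by_contra hcon
      apply hPne
      rw [eq_bot_iff]
      intro g hg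
      by_contra hg0
      exact hcon ⟨g, hg, hg0⟩
    obtain ⟨f, ⟨hfP, hf0⟩, hmin⟩ := WellFounded.has_min
      (measure (fun g : A[X] => g.natDegree)).wf {g : A[X] | g ∈ P ∧ g ≠ 0} hne
    have hmin' : ∀ g ∈ P, g ≠ 0 → f.natDegree ≤ g.natDegree := by
      intro g hg hg0
      exact not_lt.mp (hmin g ⟨hg, hg0⟩)
    apply Groth.Agent.H25.isDVR_atPrime_of_principal P hPne f hfP
    intro x hx
    obtain ⟨s, hs, q, hq⟩ := Groth.Agent.H25.exists_C_mul_eq_mul_of_minimal P f hfP hf0 hmin' x hx
    refine ⟨C s, ?_, q, hq⟩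
    intro hCs
    have h1 : s ∈ P.comap (C : A →+* A[X]) := hCs
    rw [h0] at h1
    exact hs h1
  · -- P = p A[X]
    have hDVR := hR1 (P.comap (C : A →+* A[X])) hht
    obtain ⟨π, hπp, hπ⟩ := Groth.Agent.H25.exists_generator_of_dvr (P.comap (C : A →+* A[X]))
    apply Groth.Agent.H25.isDVR_atPrime_of_principal P hPne (C π) hπp
    intro x hx
    rw [hPeq] at hx
    induction hx using Submodule.span_induction with
    | mem y hy =>
      obtain ⟨a, ha, rfl⟩ := hy
      obtain ⟨t, ht, b, htb⟩ := hπ a ha
      refine ⟨C t, ht, C b, ?_⟩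
      rw [← C_mul, ← C_mul, htb]
    | zero => exact ⟨1, (Ideal.ne_top_iff_one P).mp (Ideal.IsPrime.ne_top inferInstance), 0, by simp⟩
    | add y z _ _ ihy ihz =>
      obtain ⟨u1, hu1, q1, h1⟩ := ihy
      obtain ⟨u2, hu2, q2, h2⟩ := ihz
      refine ⟨u1 * u2, ?_, u2 * q1 + u1 * q2, ?_⟩
      · intro h3
        rcases Ideal.IsPrime.mem_or_mem inferInstance h3 with h4 | h4
        · exact hu1 h4
        · exact hu2 h4
      · linear_combination u2 * h1 + u1 * h2
    | smul c y _ ihy =>
      obtain ⟨u1, hu1, q1, h1⟩ := ihy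
      refine ⟨u1, hu1, c * q1, ?_⟩
      rw [smul_eq_mul]
      linear_combination c * h1

end Groth.Agent.S10899
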