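import Groth.Statements.S1090
import Groth.Agent.Lib.Helper22.FilDInj
import Groth.Agent.S1085

set_option autoImplicit false
universe v u
open CategoryTheory CategoryTheory.Limits Opposite
open FilD

open Groth.Agent.Helper22.FilDCore Groth.Agent.Helper22.FilDInj CategoryTheory.Limits Opposite ZeroObject

namespace Groth.Agent.S1090

/-- Recursion state for the lifted chain map. -/
abbrev St {A : Type u} [Category.{v} A] [Abelian A] (I J : CochainComplex (FilD.FilF A) ℤ)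
    (n : ℤ) : Type v :=
  { g : I.X n ⟶ J.X n // ∀ (p : ℤ) ⦃T : A⦄ (x : T ⟶ (I.X n).obj.obj (op p)),
      x ≫ (I.d n (n + 1)).hom.app (op p) = 0 → x ≫ (g ≫ J.d n (n + 1)).hom.app (op p) = 0 }

/-- Let A be an abelian category with enough injectives, f : X ⟶ Y a morphism of finite filtered
objects, and X[0] ⟶ I, Y[0] ⟶ J filtered quasi-isomorphisms into complexes of filtered injective
objects vanishing in negative degrees. Then there is a morphism of complexes I ⟶ J making the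
evident square with f[0] commute. -/
theorem result {A : Type u} [Category.{v} A] [Abelian A] [EnoughInjectives A] {X Y : FilD.FilF A} (f : X ⟶ Y)
    (I : CochainComplex (FilD.FilF A) ℤ) [I.IsStrictlyGE 0] (hI : ∀ n, FilD.IsFilteredInjective (I.X n))
    (a : (CochainComplex.singleFunctor (FilD.FilF A) 0).obj X ⟶ I) (ha : FilD.IsFilteredQuasiIso a)
    (J : CochainComplex (FilD.FilF A) ℤ) [J.IsStrictlyGE 0] (hJ : ∀ n, FilD.IsFilteredInjective (J.X n))
    (b : (CochainComplex.singleFunctor (FilD.FilF A) 0).obj Y ⟶ J) (hb : FilD.IsFilteredQuasiIso b) :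
    ∃ φ : I ⟶ J, a ≫ φ = (CochainComplex.singleFunctor (FilD.FilF A) 0).map f ≫ b := by
  have hIz : ∀ m, m < 0 → IsZero (I.X m) := fun m hm => I.isZero_of_isStrictlyGE 0 m hm
  have hF3 : ∀ (i j k : ℤ) (hij : i + 1 = j) (hjk : j + 1 = k), j ≠ 0 → ∀ p : ℤ,
      ((ShortComplex.mk (I.d i j) (I.d j k) (I.d_comp_d i j k)).map (FilD.grF A p)).Exact := by
    intro i j k hij hjk hj p
    have hq : QuasiIsoAt ((FilD.grCx p).map a) j := (ha p).quasiIsoAt j
    have hsrc : ((FilD.grCx p).obj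
        ((CochainComplex.singleFunctor (FilD.FilF A) 0).obj X)).ExactAt j := by
      rw [HomologicalComplex.exactAt_iff]
      apply ShortComplex.exact_of_isZero_X₂
      exact Functor.map_isZero (FilD.grF A p)
        (HomologicalComplex.isZero_single_obj_X (ComplexShape.up ℤ) 0 X j hj)
    have h2 := (quasiIsoAt_iff_exactAt _ j hsrc).1 hq
    exact (HomologicalComplex.exactAt_iff' _ i j k (by simp; omega) (by simp; omega)).1 h2
  have ha01 : a.f 0 ≫ I.d 0 1 = 0 := by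
    rw [a.comm 0 1]; simp
  have hb01 : b.f 0 ≫ J.d 0 1 = 0 := by
    rw [b.comm 0 1]; simp
  have hF2 : ∀ p : ℤ, ((ShortComplex.mk (a.f 0) (I.d 0 1) ha01).map (FilD.grF A p)).Exact ∧
      Mono ((FilD.grF A p).map (a.f 0)) := by
    intro p
    have hq : QuasiIsoAt ((FilD.grCx p).map a) 0 := (ha p).quasiIsoAt 0
    rw [quasiIsoAt_iff' _ (-1) 0 1 (by simp) (by simp)] at hq
    have z1 : (FilD.grF A p).map
        (((CochainComplex.singleFunctor (FilD.FilF A) 0).obj X).d (-1) 0) = 0 := by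
      have e : ((CochainComplex.singleFunctor (FilD.FilF A) 0).obj X).d (-1) 0 = 0 := rfl
      rw [e, Functor.map_zero]
    have z2 : (FilD.grF A p).map
        (((CochainComplex.singleFunctor (FilD.FilF A) 0).obj X).d 0 1) = 0 := by
      have e : ((CochainComplex.singleFunctor (FilD.FilF A) 0).obj X).d 0 1 = 0 := rfl
      rw [e, Functor.map_zero]
    have z3 : (FilD.grF A p).map (I.d (-1) 0) = 0 := by
      rw [(hIz (-1) (by omega)).eq_of_src (I.d (-1) 0) 0, Functor.map_zero]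
    have h := (ShortComplex.quasiIso_iff_of_zeros _ z1 z2 z3).1 hq
    exact h
  -- X₀ → I⁰ strict and levelwise mono
  obtain ⟨hex₀, -, hstr₀⟩ := Groth.Agent.S1085.result
    (ShortComplex.mk (0 : (0 : FilD.FilF A) ⟶ _) (a.f 0) zero_comp)
    (fun p => (ShortComplex.exact_iff_mono _ (Functor.map_zero (FilD.grF A p) _ _)).2 (hF2 p).2)
  have hmono₀ : ∀ p : ℤ, Mono ((a.f 0).hom.app (op p)) := fun p =>
    (ShortComplex.exact_iff_mono _ (by rfl)).1 (hex₀ p)
  obtain ⟨hex₁, -, -⟩ := Groth.Agent.S1085.result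
    (ShortComplex.mk (a.f 0) (I.d 0 1) ha01) (fun p => (hF2 p).1)
  have hex₁' : ∀ (p : ℤ) ⦃T : A⦄ (x : T ⟶ (I.X 0).obj.obj (op p)),
      x ≫ (I.d 0 1).hom.app (op p) = 0 →
      ∃ (T' : A) (π : T' ⟶ T) (_ : Epi π)
        (x' : T' ⟶ (((CochainComplex.singleFunctor (FilD.FilF A) 0).obj X).X 0).obj.obj (op p)),
        π ≫ x = x' ≫ (a.f 0).hom.app (op p) := fun p =>
    (ShortComplex.exact_iff_exact_up_to_refinements _).1 (hex₁ p)
  -- base
  obtain ⟨g₀, hg₀⟩ := exists_extension (a.f 0) hstr₀ (hJ 0)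
    (((CochainComplex.singleFunctor (FilD.FilF A) 0).map f).f 0 ≫ b.f 0) (by
      intro p T x hx
      have := hmono₀ p
      have hx0 : x = 0 := by rw [← cancel_mono ((a.f 0).hom.app (op p)), hx, zero_comp]
      rw [hx0, zero_comp])
  have hZ₀ : ∀ (p : ℤ) ⦃T : A⦄ (x : T ⟶ (I.X 0).obj.obj (op p)),
      x ≫ (I.d 0 (0 + 1)).hom.app (op p) = 0 →
      x ≫ (g₀ ≫ J.d 0 (0 + 1)).hom.app (op p) = 0 := by
    intro p T x hx
    obtain ⟨T', π, hπ, x', hx'⟩ := hex₁' p x hx
    have e : a.f 0 ≫ g₀ ≫ J.d 0 (0 + 1) = 0 := by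
      rw [← Category.assoc, hg₀, Category.assoc]
      have : b.f 0 ≫ J.d 0 (0 + 1) = 0 := hb01
      rw [this, comp_zero]
    have ep := congrArg (fun t => t.hom.app (op p)) e
    have ep' : (a.f 0).hom.app (op p) ≫ (g₀ ≫ J.d 0 (0 + 1)).hom.app (op p) = 0 := ep
    rw [← cancel_epi π, ← Category.assoc, hx', Category.assoc, ep', comp_zero, comp_zero]
  have next : ∀ n, 0 ≤ n → ∀ s : St I J n, ∃ h : I.X (n + 1) ⟶ J.X (n + 1),
      I.d n (n + 1) ≫ h = s.1 ≫ J.d n (n + 1) ∧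
      ∀ (p : ℤ) ⦃T : A⦄ (x : T ⟶ (I.X (n + 1)).obj.obj (op p)),
        x ≫ (I.d (n + 1) (n + 1 + 1)).hom.app (op p) = 0 →
        x ≫ (h ≫ J.d (n + 1) (n + 1 + 1)).hom.app (op p) = 0 := by
    intro n hn s
    obtain ⟨hexn, hstrn, -⟩ := Groth.Agent.S1085.result
      (ShortComplex.mk (I.d n (n + 1)) (I.d (n + 1) (n + 1 + 1)) (I.d_comp_d _ _ _))
      (hF3 n (n + 1) (n + 1 + 1) rfl rfl (by omega))
    have hexn' : ∀ (p : ℤ) ⦃T : A⦄ (x : T ⟶ (I.X (n + 1)).obj.obj (op p)),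
        x ≫ (I.d (n + 1) (n + 1 + 1)).hom.app (op p) = 0 →
        ∃ (T' : A) (π : T' ⟶ T) (_ : Epi π) (x' : T' ⟶ (I.X n).obj.obj (op p)),
          π ≫ x = x' ≫ (I.d n (n + 1)).hom.app (op p) := fun p =>
      (ShortComplex.exact_iff_exact_up_to_refinements _).1 (hexn p)
    obtain ⟨h, hh⟩ := exists_extension (I.d n (n + 1)) hstrn (hJ (n + 1))
      (s.1 ≫ J.d n (n + 1)) s.2
    refine ⟨h, hh, ?_⟩
    intro p T x hx
    obtain ⟨T', π, hπ, x', hx'⟩ := hexn' p x hx
    have e : I.d n (n + 1) ≫ h ≫ J.d (n + 1) (n + 1 + 1) = 0 := by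
      rw [← Category.assoc, hh, Category.assoc, J.d_comp_d, comp_zero]
    have ep := congrArg (fun t => t.hom.app (op p)) e
    have ep' : (I.d n (n + 1)).hom.app (op p) ≫
        (h ≫ J.d (n + 1) (n + 1 + 1)).hom.app (op p) = 0 := ep
    rw [← cancel_epi π, ← Category.assoc, hx', Category.assoc, ep', comp_zero, comp_zero]
  have zeroSt : ∀ n, ∀ (p : ℤ) ⦃T : A⦄ (x : T ⟶ (I.X n).obj.obj (op p)),
      x ≫ (I.d n (n + 1)).hom.app (op p) = 0 →
      x ≫ ((0 : I.X n ⟶ J.X n) ≫ J.d n (n + 1)).hom.app (op p) = 0 := by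
    intro n p T x _
    have : (0 : I.X n ⟶ J.X n) ≫ J.d n (n + 1) = 0 := zero_comp
    rw [this]
    exact comp_zero
  let G : ∀ n : ℤ, St I J n := fun n =>
    Int.inductionOn' (motive := St I J) n 0 ⟨g₀, hZ₀⟩
      (fun k hk s => ⟨(next k hk s).choose, (next k hk s).choose_spec.2⟩)
      (fun k _ _ => ⟨0, zeroSt (k - 1)⟩)
  have hG : ∀ k, 0 ≤ k → I.d k (k + 1) ≫ (G (k + 1)).1 = (G k).1 ≫ J.d k (k + 1) := by
    intro k hk
    have e : G (k + 1) = ⟨(next k hk (G k)).choose, (next k hk (G k)).choose_spec.2⟩ :=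
      Int.inductionOn'_add_one hk
    rw [e]
    exact (next k hk (G k)).choose_spec.1
  have hG0 : (G 0).1 = g₀ := by
    have e : G 0 = ⟨g₀, hZ₀⟩ := Int.inductionOn'_self
    rw [e]
  refine ⟨{ f := fun n => (G n).1, comm' := ?_ }, ?_⟩
  · intro i j hij
    have hij' : i + 1 = j := hij
    subst hij'
    by_cases hi : 0 ≤ i
    · exact (hG i hi).symm
    · exact (hIz i (by omega)).eq_of_src _ _
  · ext n : 1
    by_cases hn : n = 0
    · subst hn
      rw [HomologicalComplex.comp_f, HomologicalComplex.comp_f]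
      change a.f 0 ≫ (G 0).1 = _
      rw [hG0, hg₀]
    · exact (HomologicalComplex.isZero_single_obj_X (ComplexShape.up ℤ) 0 X n hn).eq_of_src _ _

end Groth.Agent.S1090
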