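import Groth.Statements.S15549
import Mathlib

set_option autoImplicit false
universe u
open CategoryTheory AlgebraicGeometry
open LocCoh

namespace Groth.Agent.S15549


open TopologicalSpace Opposite

section Aux

variable {R σ : Type u} [CommRing R] [SetLike σ R] [AddSubgroupClass σ R]
    (𝒜 : ℕ → σ) [GradedRing 𝒜] {M τ : Type u} [AddCommGroup M] [Module R M] [SetLike τ M]
    [AddSubgroupClass τ M] (ℳ : ℕ → τ) [SetLike.GradedSMul 𝒜 ℳ] [DirectSum.Decomposition ℳ]

/-- projection onto the degree `d` part, as an additive endomorphism of `M` -/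
noncomputable def pr (d : ℕ) : M →+ M where
  toFun x := (DirectSum.decompose ℳ x d : M)
  map_zero' := by rw [DirectSum.decompose_zero, DirectSum.zero_apply, ZeroMemClass.coe_zero]
  map_add' x y := by rw [DirectSum.decompose_add, DirectSum.add_apply, AddMemClass.coe_add]

theorem pr_apply (d : ℕ) (x : M) : pr ℳ d x = (DirectSum.decompose ℳ x d : M) := rfl

theorem ann_homogeneous (i : ℕ) (m : M) (hm : m ∈ ℳ i) :
    Ideal.IsHomogeneous 𝒜 (Ideal.torsionOf R M m) := by
  classical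
  intro j r hr
  rw [Ideal.mem_torsionOf_iff] at hr ⊢
  have hsum : ∑ j' ∈ (DirectSum.decompose 𝒜 r).support,
      ((DirectSum.decompose 𝒜 r j' : R)) • m = 0 := by
    rw [← Finset.sum_smul, DirectSum.sum_support_decompose 𝒜 r, hr]
  have hmem : ∀ j' : ℕ, ((DirectSum.decompose 𝒜 r j' : R)) • m ∈ ℳ (j' + i) := fun j' =>
    SetLike.GradedSMul.smul_mem (DirectSum.decompose 𝒜 r j').2 hm
  have h2 := congrArg (pr ℳ (j + i)) hsum
  rw [map_sum, map_zero] at h2
  rw [Finset.sum_eq_single j] at h2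
  · rw [pr_apply, DirectSum.decompose_of_mem_same ℳ (hmem j)] at h2
    exact h2
  · intro j' _ hj'
    rw [pr_apply, DirectSum.decompose_of_mem_ne ℳ (hmem j') (by omega)]
  · intro hj
    have h0 : DirectSum.decompose 𝒜 r j = 0 := DFinsupp.notMem_support_iff.mp hj
    rw [h0, ZeroMemClass.coe_zero, zero_smul, map_zero]

theorem mk_one_eq_zero_iff (S : Submonoid R) (m : M) :
    LocalizedModule.mk m (1 : S) = 0 ↔ ∃ u : S, (u : R) • m = 0 := by
  rw [← LocalizedModule.zero_mk (1 : S), LocalizedModule.mk_eq]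
  constructor
  · rintro ⟨u, hu⟩
    refine ⟨u, ?_⟩
    rw [one_smul, one_smul, smul_zero] at hu
    exact hu
  · rintro ⟨u, hu⟩
    refine ⟨u, ?_⟩
    rw [one_smul, one_smul, smul_zero]
    exact hu

theorem alpha_eq_zero_iff (i : ℕ) (m : ℳ i) :
    GrMod.alpha 𝒜 ℳ i m = 0 ↔ ∀ x : ProjectiveSpectrum 𝒜,
      LocalizedModule.mk (m : M) (1 : x.asHomogeneousIdeal.toIdeal.primeCompl) = 0 := by
  constructor
  · intro h x
    have h2 : GrMod.alpha 𝒜 ℳ i m = GrMod.alpha 𝒜 ℳ i 0 := by rw [h, map_zero]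
    have h3 : GrMod.globalOf 𝒜 ℳ m = GrMod.globalOf 𝒜 ℳ (0 : ℳ i) := h2
    have h4 := congrArg (fun t : GrMod.sect 𝒜 ℳ (i : ℤ) (op ⊤) =>
      ((t.1 ⟨x, trivial⟩ : GrMod.tildeAt 𝒜 ℳ (i : ℤ) x) : GrMod.LocMod 𝒜 (M := M) x)) h3
    have h5 : LocalizedModule.mk (m : M) (1 : x.asHomogeneousIdeal.toIdeal.primeCompl)
        = LocalizedModule.mk (((0 : ℳ i) : M)) 1 := h4
    rw [ZeroMemClass.coe_zero, LocalizedModule.zero_mk] at h5
    exact h5
  · intro h
    refine Subtype.ext (funext fun x => Subtype.ext ?_)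
    change LocalizedModule.mk (m : M) 1 = (0 : GrMod.LocMod 𝒜 (M := M) x.1)
    exact h x.1

end Aux


/-- Let R be a Noetherian commutative ring, positively graded by additive subgroups R_d, with irrelevant
ideal R_+ and X = Proj R, and let M be a graded R-module which is the direct sum of its pieces M_i,
i ≥ 0 (non-negatively graded here). For every i and every m ∈ M_i, the global section of M(i)~
defined by m (the value m/1 at every point) is zero if and only if some power of R_+ annihilates m.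
Equivalently, degree by degree, the kernel of the canonical map from M to the direct sum over all n
of Γ(X, M(n)~) is the R_+-power-torsion submodule H^0_{R_+}(M). -/
theorem result {R σ : Type u} [CommRing R] [IsNoetherianRing R] [SetLike σ R] [AddSubgroupClass σ R]
    (𝒜 : ℕ → σ) [GradedRing 𝒜] {M τ : Type u} [AddCommGroup M] [Module R M] [SetLike τ M] [AddSubgroupClass τ M]
    (ℳ : ℕ → τ) [SetLike.GradedSMul 𝒜 ℳ] [DirectSum.Decomposition ℳ]
    (i : ℕ) (m : ℳ i) :
    GrMod.alpha 𝒜 ℳ i m = 0 ↔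
      ∃ k : ℕ, ∀ r : R, r ∈ (HomogeneousIdeal.irrelevant 𝒜).toIdeal ^ k → r • (m : M) = 0 := by
  rw [alpha_eq_zero_iff]
  constructor
  · intro h
    have hI : Ideal.IsHomogeneous 𝒜 (Ideal.torsionOf R M (m : M)) :=
      ann_homogeneous 𝒜 ℳ i (m : M) m.2
    have hle : (HomogeneousIdeal.irrelevant 𝒜).toIdeal
        ≤ (Ideal.torsionOf R M (m : M)).radical := by
      rw [hI.radical_eq]
      refine le_sInf ?_
      rintro J ⟨hJh, hIJ, hJp⟩
      by_contra hnot
      let x : ProjectiveSpectrum 𝒜 := ⟨⟨J, hJh⟩, hJp, fun hle => hnot (fun a ha => hle ha)⟩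
      obtain ⟨u, hu⟩ := (mk_one_eq_zero_iff _ _).mp (h x)
      exact (Ideal.mem_primeCompl_iff.mp u.2) (hIJ ((Ideal.mem_torsionOf_iff _ _).mpr hu))
    obtain ⟨k, hk⟩ := Ideal.exists_pow_le_of_le_radical_of_fg hle (IsNoetherian.noetherian _)
    exact ⟨k, fun r hr => (Ideal.mem_torsionOf_iff _ _).mp (hk hr)⟩
  · rintro ⟨k, hk⟩ x
    obtain ⟨f, hf, hfx⟩ := SetLike.not_le_iff_exists.mp x.not_irrelevant_le
    rw [mk_one_eq_zero_iff]
    have hfk : f ^ k ∉ x.asHomogeneousIdeal.toIdeal :=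
      fun h' => hfx (x.isPrime.mem_of_pow_mem k h')
    exact ⟨⟨f ^ k, hfk⟩, hk _ (Ideal.pow_mem_pow hf k)⟩

end Groth.Agent.S15549
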