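import Groth.Statements.S3548
import Mathlib

set_option autoImplicit false
universe u
open CategoryTheory CategoryTheory.Limits AlgebraicGeometry
open EGA2

namespace Groth.Agent.S3548


open TopologicalSpace Opposite

section Aux

variable {R A : Type u} [CommRing R] [CommRing A] [Algebra R A] (𝒜 : ℕ → Submodule R A)
  [GradedAlgebra 𝒜] {M : Type u} [AddCommGroup M] [Module R M] [Module A M]
  (ℳ : ℕ → Submodule R M)

theorem exists_homog (x : ProjectiveSpectrum 𝒜) :
    ∃ (d : ℕ) (f : A), 0 < d ∧ f ∈ 𝒜 d ∧ f ∉ x.asHomogeneousIdeal.toIdeal := by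
  classical
  by_contra hcon
  push_neg at hcon
  apply x.not_irrelevant_le
  intro a ha
  show a ∈ x.asHomogeneousIdeal.toIdeal
  have h0 : (DirectSum.decompose 𝒜 a 0 : A) = 0 := ha
  rw [← DirectSum.sum_support_decompose 𝒜 a]
  refine Ideal.sum_mem _ fun d _ => ?_
  by_cases hd : d = 0
  · subst hd
    rw [h0]
    exact Ideal.zero_mem _
  · exact hcon d _ (Nat.pos_of_ne_zero hd) (DirectSum.decompose 𝒜 a d).2

theorem locMod_eq_zero
    (h : ∀ (z : M) (d : ℕ) (f : A), 0 < d → f ∈ 𝒜 d → ∃ k : ℕ, f ^ k • z = 0)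
    (x : ProjectiveSpectrum 𝒜) (q : GrTilde.LocMod 𝒜 (M := M) x) : q = 0 := by
  obtain ⟨d, f, hd, hf, hfx⟩ := exists_homog 𝒜 x
  induction q using LocalizedModule.induction_on with
  | h z s =>
    obtain ⟨k, hk⟩ := h z d f hd hf
    rw [← LocalizedModule.zero_mk (1 : x.asHomogeneousIdeal.toIdeal.primeCompl),
      LocalizedModule.mk_eq]
    refine ⟨⟨f ^ k, fun h' => hfx (x.isPrime.mem_of_pow_mem k h')⟩, ?_⟩
    rw [smul_zero, smul_zero, one_smul]
    exact hk

variable [SetLike.GradedSMul 𝒜 ℳ]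

theorem sect_eq_zero
    (h : ∀ (z : M) (d : ℕ) (f : A), 0 < d → f ∈ 𝒜 d → ∃ k : ℕ, f ^ k • z = 0)
    (n : ℤ) (U : (Opens (ProjectiveSpectrum.top 𝒜))ᵒᵖ) (s t : GrTilde.sect 𝒜 ℳ n U) : s = t := by
  refine Subtype.ext (funext fun x => Subtype.ext ?_)
  exact (locMod_eq_zero 𝒜 h x.1 _).trans (locMod_eq_zero 𝒜 h x.1 _).symm

end Aux


/-- Let S be a graded ring, M a graded S-module and X = Proj S. If for every z in M and every
homogeneous f of positive degree some power of f annihilates z, then the O_X-module M~ is zero. -/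
theorem result {R A : Type u} [CommRing R] [CommRing A] [Algebra R A] (𝒜 : ℕ → Submodule R A) [GradedAlgebra 𝒜]
    {M : Type u} [AddCommGroup M] [Module R M] [Module A M] [IsScalarTower R A M] (ℳ : ℕ → Submodule R M) [DirectSum.Decomposition ℳ] [SetLike.GradedSMul 𝒜 ℳ]
    (h : ∀ (z : M) (d : ℕ) (f : A), 0 < d → f ∈ 𝒜 d → ∃ k : ℕ, f ^ k • z = 0) :
    IsZero (GrTilde.tilde 𝒜 ℳ 0) := by
  have key : ∀ (U : (Opens (ProjectiveSpectrum.top 𝒜))ᵒᵖ)
      (s t : ((GrTilde.tilde 𝒜 ℳ 0).val.obj U)), s = t := by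
    intro U s t
    exact sect_eq_zero 𝒜 ℳ h 0 U s t
  refine ⟨fun Y => ⟨⟨⟨0⟩, fun f => ?_⟩⟩, fun Y => ⟨⟨⟨0⟩, fun f => ?_⟩⟩⟩
  · apply SheafOfModules.hom_ext
    apply PresheafOfModules.hom_ext
    intro U
    apply ModuleCat.hom_ext
    apply LinearMap.ext
    intro s
    rw [key U s 0, map_zero, map_zero]
  · apply SheafOfModules.hom_ext
    apply PresheafOfModules.hom_ext
    intro U
    apply ModuleCat.hom_ext
    apply LinearMap.ext
    intro s
    exact key U _ _

end Groth.Agent.S3548
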