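import Groth.Statements.S3586
import Mathlib
import Groth.Agent.S15549
import Groth.Agent.S3548

set_option autoImplicit false
universe u
open CategoryTheory AlgebraicGeometry Opposite TopologicalSpace
open EGA2

namespace Groth.Agent.S3586


open TopologicalSpace Opposite

section Aux

variable {R A : Type u} [CommRing R] [CommRing A] [Algebra R A] (𝒜 : ℕ → Submodule R A)
  [GradedAlgebra 𝒜] {M : Type u} [AddCommGroup M] [Module R M] [Module A M]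
  (ℳ : ℕ → Submodule R M)

omit [Module R M] in
theorem eq_mk_of_smul (S : Submonoid A) (b : S) (q : LocalizedModule S M) (m : M)
    (h : (b : A) • q = LocalizedModule.mk m 1) : q = LocalizedModule.mk m b := by
  induction q using LocalizedModule.induction_on with
  | h m' s' =>
    rw [LocalizedModule.smul'_mk, LocalizedModule.mk_eq] at h
    obtain ⟨u, hu⟩ := h
    rw [LocalizedModule.mk_eq]
    refine ⟨u, ?_⟩
    rw [one_smul] at hu
    exact hu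

/-- Lemma R: a homogeneous element of positive degree lying in all points of Proj containing a
homogeneous ideal lies in its radical. -/
theorem radR (I : Ideal A) (hI : I.IsHomogeneous 𝒜) (d : ℕ) (hd : 0 < d) (f : A) (hf : f ∈ 𝒜 d)
    (h : ∀ y : ProjectiveSpectrum 𝒜, I ≤ y.asHomogeneousIdeal.toIdeal →
      f ∈ y.asHomogeneousIdeal.toIdeal) :
    f ∈ I.radical := by
  rw [hI.radical_eq, Ideal.mem_sInf]
  rintro J ⟨hJh, hIJ, hJp⟩
  by_contra hfJ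
  have hnot : ¬ (HomogeneousIdeal.irrelevant 𝒜).toIdeal ≤ J := fun hle =>
    hfJ (hle (HomogeneousIdeal.mem_irrelevant_of_mem 𝒜 hd hf))
  let y : ProjectiveSpectrum 𝒜 := ⟨⟨J, hJh⟩, hJp, fun hle => hnot (fun a ha => hle ha)⟩
  exact hfJ (h y hIJ)

theorem basis (x : ProjectiveSpectrum 𝒜) (V : Opens (ProjectiveSpectrum.top 𝒜)) (hxV : x ∈ V) :
    ∃ (c : ℕ) (h : A), 0 < c ∧ h ∈ 𝒜 c ∧ h ∉ x.asHomogeneousIdeal.toIdeal ∧
      ∀ y : ProjectiveSpectrum 𝒜, h ∉ y.asHomogeneousIdeal.toIdeal → y ∈ V := by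
  classical
  obtain ⟨_, ⟨r, rfl⟩, hxr, hrV⟩ :=
    (ProjectiveSpectrum.isTopologicalBasis_basic_opens 𝒜).exists_subset_of_mem_open
      (u := V.1) hxV V.2
  have hrx : r ∉ x.asHomogeneousIdeal.toIdeal := (ProjectiveSpectrum.mem_basicOpen 𝒜 r x).mp hxr
  have hex : ∃ i, (DirectSum.decompose 𝒜 r i : A) ∉ x.asHomogeneousIdeal.toIdeal := by
    by_contra hall
    push Not at hall
    apply hrx
    rw [← DirectSum.sum_support_decompose 𝒜 r]
    exact Ideal.sum_mem _ (fun i _ => hall i)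
  obtain ⟨i, hi⟩ := hex
  obtain ⟨d, g, hd, hg, hgx⟩ := Groth.Agent.S3548.exists_homog 𝒜 x
  refine ⟨i + d, (DirectSum.decompose 𝒜 r i : A) * g, by omega,
    SetLike.mul_mem_graded (SetLike.coe_mem _) hg, ?_, ?_⟩
  · intro hmem
    exact (x.isPrime.mem_or_mem hmem).elim hi hgx
  · intro y hy
    apply hrV
    refine (ProjectiveSpectrum.mem_basicOpen 𝒜 r y).mpr ?_
    intro hry
    apply hy
    exact Ideal.mul_mem_right _ _ (y.asHomogeneousIdeal.isHomogeneous i hry)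

variable [SetLike.GradedSMul 𝒜 ℳ]

theorem diff_homog (n : ℤ) {i j i' j' : ℕ} {m m' : M} {t t' : A} (hm : m ∈ ℳ i) (ht : t ∈ 𝒜 j)
    (hm' : m' ∈ ℳ i') (ht' : t' ∈ 𝒜 j') (h : (i : ℤ) = j + n ∨ m = 0)
    (h' : (i' : ℤ) = j' + n ∨ m' = 0) :
    ∃ e : ℕ, t • m' - t' • m ∈ ℳ e := by
  rcases h with h | h
  · rcases h' with h' | h'
    · refine ⟨j + i', Submodule.sub_mem _ (SetLike.GradedSMul.smul_mem ht hm') ?_⟩
      have e1 : j' + i = j + i' := by omega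
      rw [← e1]
      exact SetLike.GradedSMul.smul_mem ht' hm
    · refine ⟨j' + i, ?_⟩
      rw [h', smul_zero, zero_sub]
      exact Submodule.neg_mem _ (SetLike.GradedSMul.smul_mem ht' hm)
  · refine ⟨j + i', ?_⟩
    rw [h, smul_zero, sub_zero]
    exact SetLike.GradedSMul.smul_mem ht hm'

theorem loc (n : ℤ) (U : Opens (ProjectiveSpectrum.top 𝒜))
    (s : GrTilde.sect 𝒜 ℳ n (op U)) (x : ProjectiveSpectrum 𝒜) (hx : x ∈ U) :
    ∃ (c : ℕ) (h : A) (i j : ℕ) (m : M) (t : A), 0 < c ∧ h ∈ 𝒜 c ∧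
      h ∉ x.asHomogeneousIdeal.toIdeal ∧ m ∈ ℳ i ∧ t ∈ 𝒜 j ∧ ((i : ℤ) = j + n ∨ m = 0) ∧
      ∀ (y : ProjectiveSpectrum 𝒜), h ∉ y.asHomogeneousIdeal.toIdeal →
        ∃ (hy : y ∈ U) (ht : t ∉ y.asHomogeneousIdeal.toIdeal),
          ((s.1 ⟨y, hy⟩ : GrTilde.tildeAt 𝒜 ℳ n y) : GrTilde.LocMod 𝒜 (M := M) y) =
            LocalizedModule.mk m ⟨t, ht⟩ := by
  obtain ⟨V, hxV, iV, i, j, ⟨m, hm⟩, ⟨t, ht⟩, hnin, hdeg, hw⟩ :=
    (show (GrTilde.isLocFrac 𝒜 ℳ n).pred s.1 from s.2) ⟨x, hx⟩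
  obtain ⟨c, h, hc, hh, hhx, hsub⟩ := basis 𝒜 x V hxV
  refine ⟨c, h, i, j, m, t, hc, hh, hhx, hm, ht, hdeg, fun y hy => ?_⟩
  have hyV := hsub y hy
  exact ⟨leOfHom iV hyV, hnin ⟨y, hyV⟩, hw ⟨y, hyV⟩⟩

variable [DirectSum.Decomposition ℳ]

/-- Step A -/
theorem annA (e : ℕ) (w : M) (hw : w ∈ ℳ e) (c : ℕ) (hc : 0 < c) (g : A) (hg : g ∈ 𝒜 c)
    (h : ∀ z : ProjectiveSpectrum 𝒜, g ∉ z.asHomogeneousIdeal.toIdeal →
      ∃ u : A, u ∉ z.asHomogeneousIdeal.toIdeal ∧ u • w = 0) :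
    ∃ N : ℕ, g ^ N • w = 0 := by
  have hI : Ideal.IsHomogeneous 𝒜 (Ideal.torsionOf A M w) :=
    Groth.Agent.S15549.ann_homogeneous 𝒜 ℳ e w hw
  have hrad := radR 𝒜 _ hI c hc g hg (fun z hz => by
    by_contra hgz
    obtain ⟨u, hu, huw⟩ := h z hgz
    exact hu (hz ((Ideal.mem_torsionOf_iff _ _).mpr huw)))
  obtain ⟨N, hN⟩ := Ideal.mem_radical_iff.mp hrad
  exact ⟨N, (Ideal.mem_torsionOf_iff _ _).mp hN⟩

theorem denom (n : ℤ) {d : ℕ} (hd : 0 < d) {f : A} (hf : f ∈ 𝒜 d)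
    (s : GrTilde.sect 𝒜 ℳ n (op (ProjectiveSpectrum.basicOpen 𝒜 f)))
    (x : ProjectiveSpectrum 𝒜) (hx : x ∈ ProjectiveSpectrum.basicOpen 𝒜 f) :
    ∃ (e : ℕ) (a : A) (i : ℕ) (m : M), a ∈ 𝒜 e ∧ a ∉ x.asHomogeneousIdeal.toIdeal ∧ m ∈ ℳ i ∧
      (i : ℤ) = e + n ∧
      ∀ (y : ProjectiveSpectrum 𝒜) (hy : y ∈ ProjectiveSpectrum.basicOpen 𝒜 f),
        a • ((s.1 ⟨y, hy⟩ : GrTilde.tildeAt 𝒜 ℳ n y) : GrTilde.LocMod 𝒜 (M := M) y) =
          LocalizedModule.mk m 1 := by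
  classical
  obtain ⟨c, h, i, j, m, t, hc, hh, hhx, hm, ht, hdeg, hloc⟩ :=
    loc 𝒜 ℳ n (ProjectiveSpectrum.basicOpen 𝒜 f) s x hx
  have hall : ∀ y : ↥(ProjectiveSpectrum.basicOpen 𝒜 f), ∃ (cy : ℕ) (hy' : A) (my : M) (ty : A)
      (Ny : ℕ), hy' ∈ 𝒜 cy ∧ hy' ∉ y.1.asHomogeneousIdeal.toIdeal ∧
      (∀ z : ProjectiveSpectrum 𝒜, hy' ∉ z.asHomogeneousIdeal.toIdeal →
        ∃ (hz : z ∈ ProjectiveSpectrum.basicOpen 𝒜 f) (htz : ty ∉ z.asHomogeneousIdeal.toIdeal),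
          ((s.1 ⟨z, hz⟩ : GrTilde.tildeAt 𝒜 ℳ n z) : GrTilde.LocMod 𝒜 (M := M) z) =
            LocalizedModule.mk my ⟨ty, htz⟩) ∧
      (hy' * h) ^ Ny • (t • my) = (hy' * h) ^ Ny • (ty • m) := by
    intro y
    obtain ⟨cy, hy', iy, jy, my, ty, hcy, hhy, hhyy, hmy, hty, hdegy, hlocy⟩ :=
      loc 𝒜 ℳ n (ProjectiveSpectrum.basicOpen 𝒜 f) s y.1 y.2
    obtain ⟨e, he⟩ := diff_homog 𝒜 ℳ n hm ht hmy hty hdeg hdegy
    obtain ⟨Ny, hNy⟩ := annA 𝒜 ℳ e _ he (cy + c) (Nat.add_pos_left hcy c) (hy' * h)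
      (SetLike.mul_mem_graded hhy hh) (fun z hz => by
        have hz1 : hy' ∉ z.asHomogeneousIdeal.toIdeal := fun hmem =>
          hz (Ideal.mul_mem_right _ _ hmem)
        have hz2 : h ∉ z.asHomogeneousIdeal.toIdeal := fun hmem =>
          hz (Ideal.mul_mem_left _ _ hmem)
        obtain ⟨hzU, htz, e1⟩ := hloc z hz2
        obtain ⟨hzU', htyz, e2⟩ := hlocy z hz1
        rw [e1] at e2
        obtain ⟨u, hu⟩ := LocalizedModule.mk_eq.mp e2
        refine ⟨u.1, u.2, ?_⟩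
        rw [smul_sub, sub_eq_zero]
        exact hu.symm)
    refine ⟨cy, hy', my, ty, Ny, hhy, hhyy, hlocy, ?_⟩
    rw [smul_sub, sub_eq_zero] at hNy
    exact hNy
  choose cY hY mY tY NY hhY hhYY hlocY hNY using hall
  have hfrad : f ∈ (Ideal.span (Set.range hY)).radical := by
    apply radR 𝒜 _ (Ideal.homogeneous_span 𝒜 _ ?_) d hd f hf
    · intro z hz
      by_contra hfz
      have hzU : z ∈ ProjectiveSpectrum.basicOpen 𝒜 f :=
        (ProjectiveSpectrum.mem_basicOpen 𝒜 f z).mpr hfz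
      exact hhYY ⟨z, hzU⟩ (hz (Ideal.subset_span ⟨⟨z, hzU⟩, rfl⟩))
    · rintro _ ⟨y, rfl⟩
      exact ⟨cY y, hhY y⟩
  obtain ⟨K, hK⟩ := Ideal.mem_radical_iff.mp hfrad
  obtain ⟨F, hFsub, hKF⟩ := Submodule.mem_span_finite_of_mem_span hK
  have hF : ∀ g ∈ F, ∃ y : ↥(ProjectiveSpectrum.basicOpen 𝒜 f), hY y = g := fun g hg =>
    hFsub (Finset.mem_coe.mpr hg)
  choose yF hyF using hF
  obtain ⟨N, hNdef⟩ : ∃ N : ℕ, N = (F.attach.sup fun g => NY (yF g.1 g.2)) + n.natAbs :=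
    ⟨_, rfl⟩
  have hNge : ∀ g (hg : g ∈ F), NY (yF g hg) ≤ N := fun g hg => by
    rw [hNdef]
    exact le_trans (Finset.le_sup (f := fun g : ↥F => NY (yF g.1 g.2))
      (Finset.mem_attach F ⟨g, hg⟩)) (Nat.le_add_right _ _)
  have hi' : ∃ i' : ℕ, h ^ N • m ∈ ℳ i' ∧ (i' : ℤ) = ((N • c + j : ℕ) : ℤ) + n := by
    rcases hdeg with hdeg | hdeg
    · exact ⟨N • c + i, SetLike.GradedSMul.smul_mem (SetLike.pow_mem_graded N hh) hm, by
        push_cast; omega⟩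
    · refine ⟨(((N • c + j : ℕ) : ℤ) + n).toNat, ?_, ?_⟩
      · rw [hdeg, smul_zero]
        exact zero_mem _
      · rw [Int.toNat_of_nonneg]
        have h1 : N ≤ N * c := Nat.le_mul_of_pos_right N hc
        have h2 : n.natAbs ≤ N := by rw [hNdef]; exact Nat.le_add_left _ _
        rw [smul_eq_mul]
        push_cast
        omega
  obtain ⟨i', hmi', hi'eq⟩ := hi'
  refine ⟨N • c + j, h ^ N * t, i', h ^ N • m,
    SetLike.mul_mem_graded (SetLike.pow_mem_graded N hh) ht, ?_, hmi', hi'eq, ?_⟩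
  · intro hmem
    rcases x.isPrime.mem_or_mem hmem with h1 | h1
    · exact hhx (x.isPrime.mem_of_pow_mem N h1)
    · obtain ⟨_, htx, _⟩ := hloc x hhx
      exact htx h1
  · intro z hz
    have hfz : f ^ K ∉ z.asHomogeneousIdeal.toIdeal := fun hmem =>
      (ProjectiveSpectrum.mem_basicOpen 𝒜 f z).mp hz (z.isPrime.mem_of_pow_mem K hmem)
    have hex : ∃ g ∈ F, g ∉ z.asHomogeneousIdeal.toIdeal := by
      by_contra hcon
      push Not at hcon
      apply hfz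
      have hle : Ideal.span (F : Set A) ≤ z.asHomogeneousIdeal.toIdeal :=
        Ideal.span_le.mpr (fun g hg => hcon g (Finset.mem_coe.mp hg))
      exact hle hKF
    obtain ⟨g, hgF, hgz⟩ := hex
    have hgy : hY (yF g hgF) = g := hyF g hgF
    rw [← hgy] at hgz
    obtain ⟨hzU, htyz, e2⟩ := hlocY (yF g hgF) z hgz
    rw [e2, LocalizedModule.smul'_mk, LocalizedModule.mk_eq]
    refine ⟨⟨hY (yF g hgF) ^ NY (yF g hgF), fun hmem =>
      hgz (z.isPrime.mem_of_pow_mem _ hmem)⟩, ?_⟩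
    have key := hNY (yF g hgF)
    obtain ⟨r, hr⟩ := Nat.exists_eq_add_of_le (hNge g hgF)
    show hY (yF g hgF) ^ NY (yF g hgF) • ((1 : A) • ((h ^ N * t) • mY (yF g hgF))) =
      hY (yF g hgF) ^ NY (yF g hgF) • (tY (yF g hgF) • (h ^ N • m))
    have e3 : hY (yF g hgF) ^ NY (yF g hgF) • ((1 : A) • ((h ^ N * t) • mY (yF g hgF))) =
        h ^ r • ((hY (yF g hgF) * h) ^ NY (yF g hgF) • (t • mY (yF g hgF))) := by
      rw [hr]
      simp only [smul_smul]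
      congr 1
      ring
    have e4 : hY (yF g hgF) ^ NY (yF g hgF) • (tY (yF g hgF) • (h ^ N • m)) =
        h ^ r • ((hY (yF g hgF) * h) ^ NY (yF g hgF) • (tY (yF g hgF) • m)) := by
      rw [hr]
      simp only [smul_smul]
      congr 1
      ring
    rw [e3, e4, key]

end Aux


/-- Let S be a graded ring, M a graded S-module, f homogeneous of degree d > 0 and n an integer. Then
every section of the sheaf M(n)~ over D_+(f) is given on all of D_+(f) by one fraction m/f^k with m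
homogeneous of degree kd + n. (This is the surjectivity half of the identification of the sections
of M(n)~ over D_+(f) with M(n)_(f).) -/
theorem result {R A : Type u} [CommRing R] [CommRing A] [Algebra R A] (𝒜 : ℕ → Submodule R A) [GradedAlgebra 𝒜]
    {M : Type u} [AddCommGroup M] [Module R M] [Module A M] [IsScalarTower R A M] (ℳ : ℕ → Submodule R M) [DirectSum.Decomposition ℳ] [SetLike.GradedSMul 𝒜 ℳ] (n : ℤ) {d : ℕ} (hd : 0 < d) {f : A} (hf : f ∈ 𝒜 d)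
    (s : GrTilde.sect 𝒜 ℳ n (op (ProjectiveSpectrum.basicOpen 𝒜 f))) :
    ∃ (k i : ℕ) (m : ℳ i), (i : ℤ) = k * d + n ∧
      ∀ x : ProjectiveSpectrum.basicOpen 𝒜 f,
        ((s.1 x : GrTilde.tildeAt 𝒜 ℳ n x.1) : GrTilde.LocMod 𝒜 (M := M) x.1) =
          (LocalizedModule.mk m.1 ⟨f ^ k, fun h => (ProjectiveSpectrum.mem_basicOpen 𝒜 f x.1).mp x.2
            (x.1.isPrime.mem_of_pow_mem k h)⟩ : GrTilde.LocMod 𝒜 (M := M) x.1) := by
  classical
  let T : Set A := {a | ∃ (e i : ℕ) (m : M), a ∈ 𝒜 e ∧ m ∈ ℳ i ∧ (i : ℤ) = e + n ∧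
    ∀ (y : ProjectiveSpectrum 𝒜) (hy : y ∈ ProjectiveSpectrum.basicOpen 𝒜 f),
      a • ((s.1 ⟨y, hy⟩ : GrTilde.tildeAt 𝒜 ℳ n y) : GrTilde.LocMod 𝒜 (M := M) y) =
        LocalizedModule.mk m 1}
  have hfrad : f ∈ (Ideal.span T).radical := by
    apply radR 𝒜 _ (Ideal.homogeneous_span 𝒜 _ ?_) d hd f hf
    · intro z hz
      by_contra hfz
      obtain ⟨e, a, i, m, hae, haz, hmi, hie, hall⟩ := denom 𝒜 ℳ n hd hf s z
        ((ProjectiveSpectrum.mem_basicOpen 𝒜 f z).mpr hfz)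
      exact haz (hz (Ideal.subset_span ⟨e, i, m, hae, hmi, hie, hall⟩))
    · rintro a ⟨e, -, -, hae, -⟩
      exact ⟨e, hae⟩
  obtain ⟨K0, hK0⟩ := Ideal.mem_radical_iff.mp hfrad
  obtain ⟨K, hKdef⟩ : ∃ K : ℕ, K = K0 + n.natAbs := ⟨_, rfl⟩
  have hK : f ^ K ∈ Ideal.span T := by
    rw [hKdef, pow_add]
    exact Ideal.mul_mem_right _ _ hK0
  obtain ⟨r, cf, g, hsum⟩ := Submodule.mem_span_set'.mp hK
  have hg : ∀ l : Fin r, ∃ (e i : ℕ) (m : M), (g l : A) ∈ 𝒜 e ∧ m ∈ ℳ i ∧ (i : ℤ) = e + n ∧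
      ∀ (y : ProjectiveSpectrum 𝒜) (hy : y ∈ ProjectiveSpectrum.basicOpen 𝒜 f),
        (g l : A) • ((s.1 ⟨y, hy⟩ : GrTilde.tildeAt 𝒜 ℳ n y) : GrTilde.LocMod 𝒜 (M := M) y) =
          LocalizedModule.mk m 1 := fun l => (g l).2
  choose e i m hge hmi hie hgs using hg
  have hKd : 0 ≤ ((K : ℤ) * (d : ℤ)) + n := by
    have h1 : K ≤ K * d := Nat.le_mul_of_pos_right K hd
    have h2 : n.natAbs ≤ K := by rw [hKdef]; exact Nat.le_add_left _ _
    have h3 : ((K * d : ℕ) : ℤ) = (K : ℤ) * d := by push_cast; ring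
    omega
  obtain ⟨istar, histar⟩ : ∃ istar : ℕ, (istar : ℤ) = (K : ℤ) * (d : ℤ) + n :=
    ⟨((K : ℤ) * (d : ℤ) + n).toNat, Int.toNat_of_nonneg hKd⟩
  let cf' : Fin r → A := fun l =>
    if e l ≤ K * d then (DirectSum.decompose 𝒜 (cf l) (K * d - e l) : A) else 0
  have hsum' : ∑ l, cf' l * (g l : A) = f ^ K := by
    have h3 := congrArg (Groth.Agent.S15549.pr 𝒜 (K * d)) hsum
    rw [map_sum] at h3
    have h4 : Groth.Agent.S15549.pr 𝒜 (K * d) (f ^ K) = f ^ K := by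
      rw [Groth.Agent.S15549.pr_apply, DirectSum.decompose_of_mem_same 𝒜]
      have := SetLike.pow_mem_graded K hf
      rwa [smul_eq_mul] at this
    rw [h4] at h3
    rw [← h3]
    refine Finset.sum_congr rfl (fun l _ => ?_)
    rw [Groth.Agent.S15549.pr_apply, smul_eq_mul]
    by_cases hle : e l ≤ K * d
    · simp only [cf', if_pos hle]
      exact (DirectSum.coe_decompose_mul_of_right_mem_of_le 𝒜 (hge l) hle).symm
    · simp only [cf', if_neg hle, zero_mul]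
      exact (DirectSum.coe_decompose_mul_of_right_mem_of_not_le 𝒜 (hge l) hle).symm
  have hmem : ∀ l, cf' l • m l ∈ ℳ istar := by
    intro l
    by_cases hle : e l ≤ K * d
    · simp only [cf', if_pos hle]
      have h1 : (DirectSum.decompose 𝒜 (cf l) (K * d - e l) : A) • m l ∈
          ℳ ((K * d - e l) + i l) :=
        SetLike.GradedSMul.smul_mem (DirectSum.decompose 𝒜 (cf l) (K * d - e l)).2 (hmi l)
      have h2 : (K * d - e l) + i l = istar := by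
        have h5 := hie l
        have h6 : ((K * d : ℕ) : ℤ) = (K : ℤ) * d := by push_cast; ring
        omega
      rwa [h2] at h1
    · simp only [cf', if_neg hle, zero_smul]
      exact zero_mem _
  refine ⟨K, istar, ⟨∑ l, cf' l • m l, Submodule.sum_mem _ (fun l _ => hmem l)⟩, histar,
    fun x => ?_⟩
  have h5 : f ^ K • ((s.1 x : GrTilde.tildeAt 𝒜 ℳ n x.1) : GrTilde.LocMod 𝒜 (M := M) x.1) =
      LocalizedModule.mk (∑ l, cf' l • m l) 1 := by
    rw [← hsum', Finset.sum_smul]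
    have h6 : ∀ l, (cf' l * (g l : A)) •
        ((s.1 x : GrTilde.tildeAt 𝒜 ℳ n x.1) : GrTilde.LocMod 𝒜 (M := M) x.1) =
        LocalizedModule.mk (cf' l • m l) 1 := fun l => by
      have h7 : (g l : A) •
          ((s.1 x : GrTilde.tildeAt 𝒜 ℳ n x.1) : GrTilde.LocMod 𝒜 (M := M) x.1) =
          LocalizedModule.mk (m l) 1 := hgs l x.1 x.2
      rw [mul_smul, h7, LocalizedModule.smul'_mk]
    simp only [h6]
    exact (map_sum (LocalizedModule.mkLinearMap _ M) _ _).symm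
  exact eq_mk_of_smul _ ⟨f ^ K, _⟩ _ _ h5

end Groth.Agent.S3586
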