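import Groth.Statements.S10908
import Mathlib
import Groth.Agent.S15549
import Groth.Agent.S3586

set_option autoImplicit false
universe u
open ProjDeg

namespace Groth.Agent.S10908


open TopologicalSpace Opposite

section Aux

variable {R A : Type u} [CommRing R] [CommRing A] [IsDomain A] [Algebra R A]
  (𝒜 : ℕ → Submodule R A) [GradedAlgebra 𝒜]

/-- the "denominator ideal" of the fraction `a₀ / b₀` -/
def Dideal (a₀ b₀ : A) : Ideal A where
  carrier := {c | ∃ y, y * b₀ = c * a₀}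
  zero_mem' := ⟨0, by rw [zero_mul, zero_mul]⟩
  add_mem' := by
    rintro c c' ⟨y, hy⟩ ⟨y', hy'⟩
    exact ⟨y + y', by rw [add_mul, add_mul, hy, hy']⟩
  smul_mem' := by
    rintro r c ⟨y, hy⟩
    exact ⟨r * y, by rw [smul_eq_mul, mul_assoc, mul_assoc, hy]⟩

theorem mem_Dideal (a₀ b₀ c : A) : c ∈ Dideal a₀ b₀ ↔ ∃ y, y * b₀ = c * a₀ := Iff.rfl

/-- the generic point -/
def eta (h1 : 𝒜 1 ≠ ⊥) : ProjectiveSpectrum 𝒜 :=
  ⟨⟨⊥, Ideal.IsHomogeneous.bot 𝒜⟩, Ideal.bot_prime, fun hle => by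
    obtain ⟨x, hx, hx0⟩ := (Submodule.ne_bot_iff _).mp h1
    exact hx0 ((Submodule.mem_bot A).mp
      (show x ∈ (⊥ : Ideal A) from hle (HomogeneousIdeal.mem_irrelevant_of_mem 𝒜 one_pos hx)))⟩

theorem eta_ideal (h1 : 𝒜 1 ≠ ⊥) : (eta 𝒜 h1).asHomogeneousIdeal.toIdeal = ⊥ := rfl

theorem eta_mem_of_nonempty (h1 : 𝒜 1 ≠ ⊥) (V : Opens (ProjectiveSpectrum.top 𝒜))
    (x : ProjectiveSpectrum 𝒜) (hx : x ∈ V) : eta 𝒜 h1 ∈ V := by
  obtain ⟨_, ⟨r, rfl⟩, hxr, hrV⟩ :=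
    (ProjectiveSpectrum.isTopologicalBasis_basic_opens 𝒜).exists_subset_of_mem_open
      (u := V.1) hx V.2
  apply hrV
  refine (ProjectiveSpectrum.mem_basicOpen 𝒜 r _).mpr ?_
  intro hr
  have hr0 : r = 0 := (Submodule.mem_bot A).mp (show r ∈ (⊥ : Ideal A) from hr)
  have hrx : r ∉ x.asHomogeneousIdeal.toIdeal := (ProjectiveSpectrum.mem_basicOpen 𝒜 r x).mp hxr
  exact hrx (hr0 ▸ zero_mem _)

theorem locN (h1 : 𝒜 1 ≠ ⊥) (n : ℤ) (σ : Twist.sectN (𝒜 := 𝒜) n (op ⊤))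
    (x : ProjectiveSpectrum 𝒜) :
    ∃ (i j : ℕ) (a b : A) (hbx : b ∉ x.asHomogeneousIdeal.toIdeal)
      (hbη : b ∉ (eta 𝒜 h1).asHomogeneousIdeal.toIdeal),
      a ∈ 𝒜 i ∧ b ∈ 𝒜 j ∧ ((i : ℤ) = j + n ∨ a = 0) ∧
      ((σ.1 ⟨x, Opens.mem_top x⟩ : Twist.twistAt 𝒜 n x) : Twist.Loc 𝒜 x) =
        Localization.mk a ⟨b, hbx⟩ ∧
      ((σ.1 ⟨eta 𝒜 h1, Opens.mem_top _⟩ : Twist.twistAt 𝒜 n (eta 𝒜 h1)) :
        Twist.Loc 𝒜 (eta 𝒜 h1)) = Localization.mk a ⟨b, hbη⟩ := by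
  obtain ⟨V, hxV, iV, i, j, ⟨a, ha⟩, ⟨b, hb⟩, hnin, hdeg, hw⟩ :=
    (show (Twist.isLocFracN 𝒜 n).pred σ.1 from σ.2) ⟨x, Opens.mem_top x⟩
  have hηV : eta 𝒜 h1 ∈ V := eta_mem_of_nonempty 𝒜 h1 V x hxV
  exact ⟨i, j, a, b, hnin ⟨x, hxV⟩, hnin ⟨_, hηV⟩, ha, hb, hdeg, hw ⟨x, hxV⟩, hw ⟨_, hηV⟩⟩

theorem inj (h1 : 𝒜 1 ≠ ⊥) (d : ℕ) :
    Function.Injective (fun a : ↥(𝒜 d) => Twist.globalOf 𝒜 a) := by
  intro a a' h
  have h2 := congrArg (fun s : Twist.sectN (𝒜 := 𝒜) (d : ℤ) (op ⊤) =>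
    ((s.1 ⟨eta 𝒜 h1, Opens.mem_top _⟩ : Twist.twistAt 𝒜 (d : ℤ) (eta 𝒜 h1)) :
      Twist.Loc 𝒜 (eta 𝒜 h1))) h
  obtain ⟨c, hc⟩ := Localization.r_iff_exists.mp (Localization.mk_eq_mk_iff.mp h2)
  have hc0 : (c : A) ≠ 0 := fun h0 => c.2 (by rw [h0]; exact zero_mem _)
  have h3 := mul_left_cancel₀ hc0 hc
  apply Subtype.ext
  have h4 : (1 : A) * a.1 = (1 : A) * a'.1 := h3
  rw [one_mul, one_mul] at h4
  exact h4

theorem surj [IsNoetherianRing A] (hgen : ∀ i : ℕ, 𝒜 1 * 𝒜 i = 𝒜 (i + 1)) (h1 : 𝒜 1 ≠ ⊥)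
    (hint : IsIntegrallyClosed A) (d : ℕ) (σ : Twist.sectN (𝒜 := 𝒜) (d : ℤ) (op ⊤)) :
    ∃ a : ↥(𝒜 d), Twist.globalOf 𝒜 a = σ := by
  classical
  obtain ⟨i₀, j₀, a₀, b₀, hb₀η, -, ha₀, hb₀, hdeg₀, hσ₀, -⟩ := locN 𝒜 h1 (d : ℤ) σ (eta 𝒜 h1)
  have hb₀ne : b₀ ≠ 0 := fun h0 => hb₀η (h0 ▸ zero_mem _)
  have ha₀' : a₀ ∈ 𝒜 (j₀ + d) := by
    rcases hdeg₀ with h | h
    · have h' : i₀ = j₀ + d := by exact_mod_cast h
      rw [← h']
      exact ha₀
    · rw [h]
      exact zero_mem _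
  have hcross : ∀ x : ProjectiveSpectrum 𝒜, ∃ (a b : A)
      (hbx : b ∉ x.asHomogeneousIdeal.toIdeal),
      ((σ.1 ⟨x, Opens.mem_top x⟩ : Twist.twistAt 𝒜 (d : ℤ) x) : Twist.Loc 𝒜 x) =
        Localization.mk a ⟨b, hbx⟩ ∧ a * b₀ = b * a₀ := by
    intro x
    obtain ⟨i, j, a, b, hbx, hbη, ha, hb, hdeg, hσx, hση⟩ := locN 𝒜 h1 (d : ℤ) σ x
    refine ⟨a, b, hbx, hσx, ?_⟩
    rw [hσ₀] at hση
    obtain ⟨c, hc⟩ := Localization.r_iff_exists.mp (Localization.mk_eq_mk_iff.mp hση)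
    have hc0 : (c : A) ≠ 0 := fun h0 => c.2 (by rw [h0]; exact zero_mem _)
    have hcc : b * a₀ = b₀ * a := mul_left_cancel₀ hc0 hc
    rw [hcc, mul_comm]
  have hDhom : (Dideal a₀ b₀).IsHomogeneous 𝒜 := by
    intro k c hc
    rw [mem_Dideal] at hc ⊢
    obtain ⟨y, hy⟩ := hc
    refine ⟨(DirectSum.decompose 𝒜 y (k + d) : A), ?_⟩
    have e1 := DirectSum.coe_decompose_mul_of_right_mem_of_le 𝒜 (a := c) ha₀'
      (show j₀ + d ≤ k + (j₀ + d) by omega)
    have e2 := DirectSum.coe_decompose_mul_of_right_mem_of_le 𝒜 (a := y) hb₀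
      (show j₀ ≤ k + (j₀ + d) by omega)
    rw [hy, e1] at e2
    have h3 : k + (j₀ + d) - (j₀ + d) = k := by omega
    have h4 : k + (j₀ + d) - j₀ = k + d := by omega
    rw [h3, h4] at e2
    exact e2.symm
  have hDnot : ∀ x : ProjectiveSpectrum 𝒜, ¬ Dideal a₀ b₀ ≤ x.asHomogeneousIdeal.toIdeal := by
    intro x hle
    obtain ⟨a, b, hbx, -, hab⟩ := hcross x
    exact hbx (hle ((mem_Dideal a₀ b₀ b).mpr ⟨a, hab⟩))
  have h1rad : Ideal.span (𝒜 1 : Set A) ≤ (Dideal a₀ b₀).radical := by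
    rw [Ideal.span_le]
    intro f hf
    exact Groth.Agent.S3586.radR 𝒜 (Dideal a₀ b₀) hDhom 1 one_pos f hf
      (fun y hy => absurd hy (hDnot y))
  obtain ⟨N, hN⟩ := Ideal.exists_pow_le_of_le_radical_of_fg h1rad (IsNoetherian.noetherian _)
  have hpiece : ∀ k : ℕ, ∀ z ∈ 𝒜 k, z ∈ Ideal.span (𝒜 1 : Set A) ^ k := by
    intro k
    induction k with
    | zero =>
      intro z _
      rw [pow_zero, Ideal.one_eq_top]
      exact Submodule.mem_top
    | succ k ih =>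
      intro z hz
      rw [← hgen k] at hz
      refine Submodule.mul_induction_on hz (fun m hm n hn => ?_)
        (fun x y hx hy => Ideal.add_mem _ hx hy)
      rw [pow_succ']
      exact Ideal.mul_mem_mul (Ideal.subset_span hm) (ih n hn)
  obtain ⟨J, hJdef⟩ : ∃ J : Ideal A, J = Ideal.span (⋃ k ∈ Set.Ici N, (𝒜 k : Set A)) :=
    ⟨_, rfl⟩
  have hJD : J ≤ Dideal a₀ b₀ := by
    rw [hJdef, Ideal.span_le]
    intro g hg
    obtain ⟨k, hk, hgk⟩ := Set.mem_iUnion₂.mp hg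
    exact hN (Ideal.pow_le_pow_right hk (hpiece k g hgk))
  have hJpiece : ∀ k, N ≤ k → ∀ z ∈ 𝒜 k, z ∈ J := by
    intro k hk z hz
    rw [hJdef]
    exact Ideal.subset_span (Set.mem_iUnion₂.mpr ⟨k, hk, hz⟩)
  have hJlow : ∀ c ∈ J, ∀ k < N, (DirectSum.decompose 𝒜 c k : A) = 0 := by
    intro c hc k hk
    rw [hJdef] at hc
    obtain ⟨r, cf, g, hsum⟩ := Submodule.mem_span_set'.mp hc
    show Groth.Agent.S15549.pr 𝒜 k c = 0
    rw [← hsum, map_sum]
    refine Finset.sum_eq_zero (fun l _ => ?_)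
    obtain ⟨kl, hkl, hgl⟩ := Set.mem_iUnion₂.mp (g l).2
    rw [Groth.Agent.S15549.pr_apply, smul_eq_mul]
    have hkl' : N ≤ kl := hkl
    exact DirectSum.coe_decompose_mul_of_right_mem_of_not_le 𝒜 hgl (by omega)
  have hJstab : ∀ c ∈ J, ∀ y : A, y * b₀ = c * a₀ → y ∈ J := by
    intro c hc y hy
    rw [← DirectSum.sum_support_decompose 𝒜 y]
    refine Ideal.sum_mem _ (fun k _ => ?_)
    by_cases hk : N ≤ k
    · exact hJpiece k hk _ (SetLike.coe_mem _)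
    · have hyk : (DirectSum.decompose 𝒜 y k : A) * b₀ = 0 := by
        have e2 := DirectSum.coe_decompose_mul_of_right_mem_of_le 𝒜 (a := y) hb₀
          (show j₀ ≤ k + j₀ by omega)
        rw [Nat.add_sub_cancel] at e2
        rw [← e2, hy]
        by_cases hdk : d ≤ k
        · have e1 := DirectSum.coe_decompose_mul_of_right_mem_of_le 𝒜 (a := c) ha₀'
            (show j₀ + d ≤ k + j₀ by omega)
          rw [e1, hJlow c hc (k + j₀ - (j₀ + d)) (by omega), zero_mul]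
        · exact DirectSum.coe_decompose_mul_of_right_mem_of_not_le 𝒜 ha₀' (by omega)
      have hz : (DirectSum.decompose 𝒜 y k : A) = 0 :=
        (mul_eq_zero.mp hyk).resolve_right hb₀ne
      rw [hz]
      exact zero_mem _
  have hbK : algebraMap A (FractionRing A) b₀ ≠ 0 := by
    intro h0
    exact hb₀ne ((IsFractionRing.injective A (FractionRing A)) (by rw [h0, map_zero]))
  obtain ⟨x₁, hx₁, hx₁0⟩ := (Submodule.ne_bot_iff _).mp h1
  have hqint : IsIntegral A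
      (algebraMap A (FractionRing A) a₀ / algebraMap A (FractionRing A) b₀) := by
    refine isIntegral_of_smul_mem_submodule
      (Submodule.map (Algebra.linearMap A (FractionRing A)) J) ?_ ?_ _ ?_
    · intro hbot
      have hmem : algebraMap A (FractionRing A) (x₁ ^ N) ∈
          Submodule.map (Algebra.linearMap A (FractionRing A)) J :=
        Submodule.mem_map_of_mem (hJpiece N (le_refl N) _ (by
          have := SetLike.pow_mem_graded N hx₁
          rwa [smul_eq_mul, mul_one] at this))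
      rw [hbot, Submodule.mem_bot] at hmem
      exact pow_ne_zero N hx₁0
        ((IsFractionRing.injective A (FractionRing A)) (by rw [hmem, map_zero]))
    · exact Submodule.FG.map _ (IsNoetherian.noetherian J)
    · intro n hn
      obtain ⟨c, hc, rfl⟩ := Submodule.mem_map.mp hn
      obtain ⟨y, hy⟩ := (mem_Dideal a₀ b₀ c).mp (hJD hc)
      refine Submodule.mem_map.mpr ⟨y, hJstab c hc y hy, ?_⟩
      rw [Algebra.linearMap_apply, Algebra.linearMap_apply, smul_eq_mul]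
      have h5 := congrArg (algebraMap A (FractionRing A)) hy
      rw [map_mul, map_mul] at h5
      rw [div_mul_eq_mul_div, eq_div_iff hbK, h5, mul_comm]
  obtain ⟨y, hyq⟩ := (isIntegrallyClosed_iff (FractionRing A)).mp hint hqint
  have hy : y * b₀ = a₀ := by
    apply IsFractionRing.injective A (FractionRing A)
    rw [map_mul, hyq]
    exact div_mul_cancel₀ _ hbK
  have hyd : y ∈ 𝒜 d := by
    have hcomp : ∀ k, k ≠ d → (DirectSum.decompose 𝒜 y k : A) = 0 := by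
      intro k hk
      have e2 := DirectSum.coe_decompose_mul_of_right_mem_of_le 𝒜 (a := y) hb₀
        (show j₀ ≤ k + j₀ by omega)
      rw [Nat.add_sub_cancel, hy,
        DirectSum.decompose_of_mem_ne 𝒜 ha₀' (show j₀ + d ≠ k + j₀ by omega)] at e2
      exact (mul_eq_zero.mp e2.symm).resolve_right hb₀ne
    rw [← DirectSum.sum_support_decompose 𝒜 y]
    refine Submodule.sum_mem _ (fun k _ => ?_)
    by_cases hk : k = d
    · rw [hk]
      exact SetLike.coe_mem _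
    · rw [hcomp k hk]
      exact zero_mem _
  refine ⟨⟨y, hyd⟩, ?_⟩
  refine Subtype.ext (funext fun x => Subtype.ext ?_)
  obtain ⟨a, b, hbx, hσx, hab⟩ := hcross x.1
  have hσx' : ((σ.1 x : Twist.twistAt 𝒜 (d : ℤ) x.1) : Twist.Loc 𝒜 x.1) =
      Localization.mk a ⟨b, hbx⟩ := hσx
  rw [hσx']
  have hya : a = y * b := by
    apply mul_right_cancel₀ hb₀ne
    rw [hab, ← hy]
    ring
  show Localization.mk y ⟨1, _⟩ = Localization.mk a ⟨b, hbx⟩
  rw [Localization.mk_eq_mk_iff, Localization.r_iff_exists]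
  refine ⟨1, ?_⟩
  show (1 : A) * (b * y) = (1 : A) * (1 * a)
  rw [hya]
  ring

end Aux


/-- Let S be a Noetherian graded integral domain, graded by the natural numbers as an algebra over a
ring R, generated by its degree-one part over S_0 (S_1 S_i = S_{i+1}) with S_1 ≠ 0, and integrally
closed in its field of fractions (so that X = Proj S is projectively normal). Then for every d ≥ 0
the canonical map from S_d to the global sections of the twisting sheaf O_X(d), sending a to the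
section a/1, is bijective. (The underlying lemma: every global section of O_X(d) is an element of
the homogeneous fraction ring integral over S.) (The published corollary takes the degree-zero part
to be a finitely generated algebra over a field; this row assumes only that the ring is Noetherian,
which is all the argument uses.) -/
theorem result {R A : Type u} [CommRing R] [CommRing A] [IsDomain A]
    [IsNoetherianRing A] [Algebra R A] (𝒜 : ℕ → Submodule R A) [GradedAlgebra 𝒜]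
    (hgen : ∀ i : ℕ, 𝒜 1 * 𝒜 i = 𝒜 (i + 1)) (h1 : 𝒜 1 ≠ ⊥) (hint : IsIntegrallyClosed A) (d : ℕ) :
    Function.Bijective (fun a : ↥(𝒜 d) => Twist.globalOf 𝒜 a) :=
  ⟨inj 𝒜 h1 d, fun σ => surj 𝒜 hgen h1 hint d σ⟩

end Groth.Agent.S10908
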