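import Groth.Statements.S1091
import Groth.Agent.Lib.Helper22.FilDRes
import Groth.Agent.Lib.Helper22.FilDBiprod
import Groth.Agent.Lib.Helper22.TwistCx

set_option autoImplicit false
universe v u
open CategoryTheory CategoryTheory.Limits Opposite
open FilD

open Groth.Agent.Helper22.FilDCore Groth.Agent.Helper22.FilDInj Groth.Agent.Helper22.FilDBiprod Groth.Agent.Helper22.FilDRes Groth.Agent.Helper22.TwistCx CategoryTheory.Limits Opposite ZeroObject

namespace Groth.Agent.S1091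

/-- Recursion state for the twisting maps. -/
abbrev St {A : Type u} [Category.{v} A] [Abelian A] (I J : CochainComplex (FilD.FilF A) ℤ)
    (n : ℤ) : Type v :=
  { t : J.X n ⟶ I.X (n + 1) // ∀ (p : ℤ) ⦃T : A⦄ (x : T ⟶ (J.X n).obj.obj (op p)),
      x ≫ (J.d n (n + 1)).hom.app (op p) = 0 →
      x ≫ (t ≫ I.d (n + 1) (n + 1 + 1)).hom.app (op p) = 0 }

/-- Let A be an abelian category with enough injectives and S = (X ⟶ Y ⟶ Z) a short complex of finite
filtered objects which is short exact at every filtration level (a short exact sequence of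
Fil^f(A)). Given filtered quasi-isomorphisms X[0] ⟶ I and Z[0] ⟶ J into complexes of filtered
injective objects vanishing in negative degrees, there are a complex M, morphisms I ⟶ M ⟶ J which
are termwise split short exact (each Mⁿ is the direct sum of Iⁿ and Jⁿ via these maps), and a
morphism Y[0] ⟶ M making the two squares commute. -/
theorem result {A : Type u} [Category.{v} A] [Abelian A] [EnoughInjectives A] (S : ShortComplex (FilD.FilF A))
    (hS : ∀ p : ℤ, (S.map ((FilD.IsFinFil A).ι ⋙ (evaluation ℤᵒᵖ A).obj (op p))).ShortExact)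
    (I : CochainComplex (FilD.FilF A) ℤ) [I.IsStrictlyGE 0] (hI : ∀ n, FilD.IsFilteredInjective (I.X n))
    (a : (CochainComplex.singleFunctor (FilD.FilF A) 0).obj S.X₁ ⟶ I) (ha : FilD.IsFilteredQuasiIso a)
    (J : CochainComplex (FilD.FilF A) ℤ) [J.IsStrictlyGE 0] (hJ : ∀ n, FilD.IsFilteredInjective (J.X n))
    (c : (CochainComplex.singleFunctor (FilD.FilF A) 0).obj S.X₃ ⟶ J) (hc : FilD.IsFilteredQuasiIso c) :
    ∃ (M : CochainComplex (FilD.FilF A) ℤ) (α : I ⟶ M) (β : M ⟶ J) (b : (CochainComplex.singleFunctor (FilD.FilF A) 0).obj S.X₂ ⟶ M),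
      (∀ n, ∃ (r : M.X n ⟶ I.X n) (s : J.X n ⟶ M.X n), α.f n ≫ r = 𝟙 _ ∧ s ≫ β.f n = 𝟙 _ ∧ α.f n ≫ β.f n = 0 ∧
        r ≫ α.f n + β.f n ≫ s = 𝟙 _) ∧
      a ≫ α = (CochainComplex.singleFunctor (FilD.FilF A) 0).map S.f ≫ b ∧ b ≫ β = (CochainComplex.singleFunctor (FilD.FilF A) 0).map S.g ≫ c := by
  obtain ⟨hmonoc, hstrc, hc01, hexc, hstrJ, hexJ⟩ := res_facts J c hc
  have hJz : ∀ m, m < 0 → IsZero (J.X m) := fun m hm => J.isZero_of_isStrictlyGE 0 m hm
  have ha01 : a.f 0 ≫ I.d 0 1 = 0 := by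
    rw [a.comm 0 1]; simp
  -- the degree zero short exact sequence
  have hzero : ((CochainComplex.singleFunctor (FilD.FilF A) 0).map S.f).f 0 ≫
      ((CochainComplex.singleFunctor (FilD.FilF A) 0).map S.g).f 0 = 0 := by
    rw [← HomologicalComplex.comp_f, ← Functor.map_comp, S.zero, Functor.map_zero,
      HomologicalComplex.zero_f]
  have hS₀ : ∀ p : ℤ, ((ShortComplex.mk _ _ hzero).map
      ((FilD.IsFinFil A).ι ⋙ (evaluation ℤᵒᵖ A).obj (op p))).ShortExact := by
    intro p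
    have h₁ : ((CochainComplex.singleFunctor (FilD.FilF A) 0).map S.f).f 0 ≫ (sX S.X₂).hom =
        (sX S.X₁).hom ≫ S.f := by
      rw [sF_map_f, Category.assoc, Category.assoc, Iso.inv_hom_id, Category.comp_id]
    have h₂ : ((CochainComplex.singleFunctor (FilD.FilF A) 0).map S.g).f 0 ≫ (sX S.X₃).hom =
        (sX S.X₂).hom ≫ S.g := by
      rw [sF_map_f, Category.assoc, Category.assoc, Iso.inv_hom_id, Category.comp_id]
    have e : ShortComplex.mk _ _ hzero ≅ S := ShortComplex.isoMk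
      (sX S.X₁) (sX S.X₂) (sX S.X₃) h₁.symm h₂.symm
    exact ShortComplex.shortExact_of_iso
      (((FilD.IsFinFil A).ι ⋙ (evaluation ℤᵒᵖ A).obj (op p)).mapShortComplex.mapIso e.symm) (hS p)
  have hmf : ∀ p : ℤ, Mono ((((CochainComplex.singleFunctor (FilD.FilF A) 0).map S.f).f 0).hom.app
      (op p)) := fun p => (hS₀ p).mono_f
  have hepg : ∀ p : ℤ, Epi ((((CochainComplex.singleFunctor (FilD.FilF A) 0).map S.g).f 0).hom.app
      (op p)) := fun p => (hS₀ p).epi_g
  have hexS : ∀ (p : ℤ) ⦃T : A⦄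
      (y : T ⟶ (((CochainComplex.singleFunctor (FilD.FilF A) 0).obj S.X₂).X 0).obj.obj (op p)),
      y ≫ (((CochainComplex.singleFunctor (FilD.FilF A) 0).map S.g).f 0).hom.app (op p) = 0 →
      ∃ (T' : A) (π : T' ⟶ T) (_ : Epi π)
        (x : T' ⟶ (((CochainComplex.singleFunctor (FilD.FilF A) 0).obj S.X₁).X 0).obj.obj (op p)),
        π ≫ y = x ≫ (((CochainComplex.singleFunctor (FilD.FilF A) 0).map S.f).f 0).hom.app
          (op p) := fun p =>
    (ShortComplex.exact_iff_exact_up_to_refinements _).1 (hS₀ p).exact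
  have hzerop : ∀ p : ℤ,
      (((CochainComplex.singleFunctor (FilD.FilF A) 0).map S.f).f 0).hom.app (op p) ≫
        (((CochainComplex.singleFunctor (FilD.FilF A) 0).map S.g).f 0).hom.app (op p) = 0 :=
    fun p => congrArg (fun t => t.hom.app (op p)) hzero
  -- f₀ is strict
  have hstrf : FilD.IsStrict (((CochainComplex.singleFunctor (FilD.FilF A) 0).map S.f).f 0) := by
    rw [strict_iff]
    intro p q h T x y hxy
    have hm : Mono ((((CochainComplex.singleFunctor (FilD.FilF A) 0).obj S.X₃).X 0).obj.map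
        (homOfLE h).op) :=
      (((CochainComplex.singleFunctor (FilD.FilF A) 0).obj S.X₃).X 0).property.1 _
    have h1 : y ≫ (((CochainComplex.singleFunctor (FilD.FilF A) 0).map S.g).f 0).hom.app
        (op q) = 0 := by
      rw [← cancel_mono ((((CochainComplex.singleFunctor (FilD.FilF A) 0).obj S.X₃).X 0).obj.map
        (homOfLE h).op), Category.assoc, zero_comp,
        ← (((CochainComplex.singleFunctor (FilD.FilF A) 0).map S.g).f 0).hom.naturality,
        ← Category.assoc, ← hxy, Category.assoc, hzerop p, comp_zero]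
    obtain ⟨T', π, hπ, x', hx'⟩ := hexS q y h1
    exact ⟨T', π, hπ, x', hx'.symm⟩
  -- extension e of a⁰ along f₀
  obtain ⟨e, he⟩ := exists_extension
    (((CochainComplex.singleFunctor (FilD.FilF A) 0).map S.f).f 0) hstrf (hI 0) (a.f 0) (by
      intro p T x hx
      have := hmf p
      have hx0 : x = 0 := by
        rw [← cancel_mono ((((CochainComplex.singleFunctor (FilD.FilF A) 0).map S.f).f 0).hom.app
          (op p)), hx, zero_comp]
      rw [hx0, zero_comp])
  -- g₀ ≫ c⁰ is strict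
  have hstrgc : FilD.IsStrict
      (((CochainComplex.singleFunctor (FilD.FilF A) 0).map S.g).f 0 ≫ c.f 0) := by
    rw [strict_iff]
    intro p q h T x y hxy
    have hxy' : (x ≫ (((CochainComplex.singleFunctor (FilD.FilF A) 0).map S.g).f 0).hom.app
        (op p)) ≫ (c.f 0).hom.app (op p) = y ≫ (J.X 0).obj.map (homOfLE h).op := by
      rw [Category.assoc]
      exact hxy
    obtain ⟨T', π, hπ, z', hz'⟩ := (strict_iff (c.f 0)).1 hstrc p q h _ y hxy'
    have := hepg q
    obtain ⟨T'', π', hπ', y', hy'⟩ := surjective_up_to_refinements_of_epi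
      ((((CochainComplex.singleFunctor (FilD.FilF A) 0).map S.g).f 0).hom.app (op q)) z'
    refine ⟨T'', π' ≫ π, epi_comp _ _, y', ?_⟩
    show y' ≫ (((CochainComplex.singleFunctor (FilD.FilF A) 0).map S.g).f 0).hom.app (op q) ≫
      (c.f 0).hom.app (op q) = (π' ≫ π) ≫ y
    rw [← Category.assoc, ← hy', Category.assoc, hz', Category.assoc]
  -- the first twisting map
  obtain ⟨t₀, ht₀⟩ := exists_extension
    (((CochainComplex.singleFunctor (FilD.FilF A) 0).map S.g).f 0 ≫ c.f 0) hstrgc (hI 1)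
    (-(e ≫ I.d 0 1)) (by
      intro p T x hx
      have := hmonoc p
      have hx1 : x ≫ (((CochainComplex.singleFunctor (FilD.FilF A) 0).map S.g).f 0).hom.app
          (op p) = 0 := by
        rw [← cancel_mono ((c.f 0).hom.app (op p)), Category.assoc, zero_comp]
        exact hx
      obtain ⟨T', π, hπ, x', hx'⟩ := hexS p x hx1
      have e1 : ((CochainComplex.singleFunctor (FilD.FilF A) 0).map S.f).f 0 ≫
          (-(e ≫ I.d 0 1)) = 0 := by
        rw [Preadditive.comp_neg, ← Category.assoc, he, ha01, neg_zero]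
      have e1p : (((CochainComplex.singleFunctor (FilD.FilF A) 0).map S.f).f 0).hom.app (op p) ≫
          (-(e ≫ I.d 0 1)).hom.app (op p) = 0 := congrArg (fun t => t.hom.app (op p)) e1
      rw [← cancel_epi π, ← Category.assoc, hx', Category.assoc, e1p, comp_zero, comp_zero])
  have hZ₀ : ∀ (p : ℤ) ⦃T : A⦄ (x : T ⟶ (J.X 0).obj.obj (op p)),
      x ≫ (J.d 0 (0 + 1)).hom.app (op p) = 0 →
      x ≫ (t₀ ≫ I.d (0 + 1) (0 + 1 + 1)).hom.app (op p) = 0 := by
    intro p T x hx
    obtain ⟨T', π, hπ, z, hz⟩ := hexc p x hx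
    have := hepg p
    obtain ⟨T'', π', hπ', y, hy⟩ := surjective_up_to_refinements_of_epi
      ((((CochainComplex.singleFunctor (FilD.FilF A) 0).map S.g).f 0).hom.app (op p)) z
    have hdd : I.d 0 1 ≫ I.d (0 + 1) (0 + 1 + 1) = 0 := I.d_comp_d _ _ _
    have e1 : ((CochainComplex.singleFunctor (FilD.FilF A) 0).map S.g).f 0 ≫ c.f 0 ≫
        t₀ ≫ I.d (0 + 1) (0 + 1 + 1) = 0 := by
      calc ((CochainComplex.singleFunctor (FilD.FilF A) 0).map S.g).f 0 ≫ c.f 0 ≫
            t₀ ≫ I.d (0 + 1) (0 + 1 + 1)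
          = ((((CochainComplex.singleFunctor (FilD.FilF A) 0).map S.g).f 0 ≫ c.f 0) ≫ t₀) ≫
              I.d (0 + 1) (0 + 1 + 1) := by simp only [Category.assoc]
        _ = 0 := by rw [ht₀, Preadditive.neg_comp, Category.assoc, hdd, comp_zero, neg_zero]
    obtain ⟨w, hw⟩ : ∃ w, w = (t₀ ≫ I.d (0 + 1) (0 + 1 + 1)).hom.app (op p) := ⟨_, rfl⟩
    have e1p : (((CochainComplex.singleFunctor (FilD.FilF A) 0).map S.g).f 0).hom.app (op p) ≫
        (c.f 0).hom.app (op p) ≫ w = 0 := by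
      rw [hw]
      exact congrArg (fun t => t.hom.app (op p)) e1
    rw [← hw]
    have key : (π' ≫ π) ≫ x ≫ w = 0 := by
      calc (π' ≫ π) ≫ x ≫ w = π' ≫ (π ≫ x) ≫ w := by simp only [Category.assoc]
        _ = π' ≫ (z ≫ (c.f 0).hom.app (op p)) ≫ w := by rw [hz]
        _ = (π' ≫ z) ≫ (c.f 0).hom.app (op p) ≫ w := by simp only [Category.assoc]
        _ = (y ≫ (((CochainComplex.singleFunctor (FilD.FilF A) 0).map S.g).f 0).hom.app
              (op p)) ≫ (c.f 0).hom.app (op p) ≫ w := by rw [hy]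
        _ = 0 := by rw [Category.assoc, e1p, comp_zero]
    have hep : Epi (π' ≫ π) := epi_comp _ _
    exact (cancel_epi (π' ≫ π)).1 (key.trans comp_zero.symm)
  -- recursion
  have next : ∀ n, 0 ≤ n → ∀ s : St I J n, ∃ h : J.X (n + 1) ⟶ I.X (n + 1 + 1),
      J.d n (n + 1) ≫ h = -(s.1 ≫ I.d (n + 1) (n + 1 + 1)) ∧
      ∀ (p : ℤ) ⦃T : A⦄ (x : T ⟶ (J.X (n + 1)).obj.obj (op p)),
        x ≫ (J.d (n + 1) (n + 1 + 1)).hom.app (op p) = 0 →
        x ≫ (h ≫ I.d (n + 1 + 1) (n + 1 + 1 + 1)).hom.app (op p) = 0 := by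
    intro n hn s
    obtain ⟨h, hh⟩ := exists_extension (J.d n (n + 1)) (hstrJ n hn) (hI (n + 1 + 1))
      (-(s.1 ≫ I.d (n + 1) (n + 1 + 1))) (by
        intro p T x hx
        rw [neg_hom_app, Preadditive.comp_neg, s.2 p x hx, neg_zero])
    refine ⟨h, hh, ?_⟩
    intro p T x hx
    obtain ⟨T', π, hπ, x', hx'⟩ := hexJ n hn p x hx
    have e1 : J.d n (n + 1) ≫ h ≫ I.d (n + 1 + 1) (n + 1 + 1 + 1) = 0 := by
      rw [← Category.assoc, hh, Preadditive.neg_comp, Category.assoc, I.d_comp_d, comp_zero,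
        neg_zero]
    have ep : (J.d n (n + 1)).hom.app (op p) ≫
        (h ≫ I.d (n + 1 + 1) (n + 1 + 1 + 1)).hom.app (op p) = 0 :=
      congrArg (fun t => t.hom.app (op p)) e1
    rw [← cancel_epi π, ← Category.assoc, hx', Category.assoc, ep, comp_zero, comp_zero]
  have zeroSt : ∀ n, ∀ (p : ℤ) ⦃T : A⦄ (x : T ⟶ (J.X n).obj.obj (op p)),
      x ≫ (J.d n (n + 1)).hom.app (op p) = 0 →
      x ≫ ((0 : J.X n ⟶ I.X (n + 1)) ≫ I.d (n + 1) (n + 1 + 1)).hom.app (op p) = 0 := by
    intro n p T x _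
    have h0 : (0 : J.X n ⟶ I.X (n + 1)) ≫ I.d (n + 1) (n + 1 + 1) = 0 := zero_comp
    rw [h0]
    exact comp_zero
  let G : ∀ n : ℤ, St I J n := fun n =>
    Int.inductionOn' (motive := St I J) n 0 ⟨t₀, hZ₀⟩
      (fun k hk s => ⟨(next k hk s).choose, (next k hk s).choose_spec.2⟩)
      (fun k _ _ => ⟨0, zeroSt (k - 1)⟩)
  have hG : ∀ k, 0 ≤ k →
      J.d k (k + 1) ≫ (G (k + 1)).1 = -((G k).1 ≫ I.d (k + 1) (k + 1 + 1)) := by
    intro k hk
    have e1 : G (k + 1) = ⟨(next k hk (G k)).choose, (next k hk (G k)).choose_spec.2⟩ :=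
      Int.inductionOn'_add_one hk
    rw [e1]
    exact (next k hk (G k)).choose_spec.1
  have hG0 : (G 0).1 = t₀ := by
    have e1 : G 0 = ⟨t₀, hZ₀⟩ := Int.inductionOn'_self
    rw [e1]
  -- the twisting family
  obtain ⟨τ, hτdef⟩ : ∃ τ : ∀ n m : ℤ, J.X n ⟶ I.X m, ∀ n m : ℤ, τ n m =
      if h : n + 1 = m then (G n).1 ≫ eqToHom (congrArg I.X h) else 0 := ⟨_, fun _ _ => rfl⟩
  have hτ1 : ∀ n : ℤ, τ n (n + 1) = (G n).1 := by
    intro n
    rw [hτdef, dif_pos rfl, eqToHom_refl, Category.comp_id]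
  have hshape : ∀ n m : ℤ, n + 1 ≠ m → τ n m = 0 := by
    intro n m h
    rw [hτdef, dif_neg h]
  have hτ : ∀ n m k : ℤ, n + 1 = m → m + 1 = k →
      τ n m ≫ I.d m k + J.d n m ≫ τ m k = 0 := by
    intro n m k h1 h2
    subst h1 h2
    by_cases hn : 0 ≤ n
    · rw [hτ1, hτ1, hG n hn, add_neg_cancel]
    · exact (hJz n (by omega)).eq_of_src _ _
  -- the map b⁰
  have hb0 : biprod.lift e (((CochainComplex.singleFunctor (FilD.FilF A) 0).map S.g).f 0 ≫ c.f 0) ≫
      (twist I J τ hshape hτ).d 0 1 = 0 := by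
    have h1 : τ 0 1 = t₀ := by
      have h := hτ1 0
      rw [hG0] at h
      exact h
    have h2 : (((CochainComplex.singleFunctor (FilD.FilF A) 0).map S.g).f 0 ≫ c.f 0) ≫
        J.d 0 1 = 0 := by
      rw [Category.assoc, hc01, comp_zero]
    rw [twist_d, biprod.lift_desc, Preadditive.comp_add,
      ← Category.assoc (((CochainComplex.singleFunctor (FilD.FilF A) 0).map S.g).f 0 ≫ c.f 0)
        (τ 0 1),
      ← Category.assoc (((CochainComplex.singleFunctor (FilD.FilF A) 0).map S.g).f 0 ≫ c.f 0)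
        (J.d 0 1), h1, ht₀, h2, zero_comp, add_zero, ← Category.assoc, ← Preadditive.add_comp,
      add_neg_cancel, zero_comp]
  refine ⟨twist I J τ hshape hτ, twistInl I J τ hshape hτ, twistSnd I J τ hshape hτ,
    mkFromSingle ((sX S.X₂).inv ≫
        biprod.lift e (((CochainComplex.singleFunctor (FilD.FilF A) 0).map S.g).f 0 ≫ c.f 0))
      (by rw [Category.assoc, hb0, comp_zero]), ?_, ?_, ?_⟩
  · intro n
    exact ⟨biprod.fst, biprod.inr, biprod.inl_fst, biprod.inr_snd, biprod.inl_snd, biprod.total⟩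
  · apply from_single_ext
    rw [HomologicalComplex.comp_f, HomologicalComplex.comp_f, mkFromSingle_f, twistInl_f,
      Iso.hom_inv_id_assoc]
    apply biprod.hom_ext
    · rw [Category.assoc, biprod.inl_fst, Category.comp_id, Category.assoc, biprod.lift_fst, he]
    · rw [Category.assoc, biprod.inl_snd, comp_zero, Category.assoc, biprod.lift_snd,
        ← Category.assoc, hzero, zero_comp]
  · apply from_single_ext
    rw [HomologicalComplex.comp_f, HomologicalComplex.comp_f, mkFromSingle_f, twistSnd_f,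
      Category.assoc, Category.assoc, biprod.lift_snd, Iso.hom_inv_id_assoc]

end Groth.Agent.S1091
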