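import Groth.Statements.S10933
import Groth.Agent.H29.ABMore
import Groth.Agent.H29.RegLocalization

set_option autoImplicit false
universe u
open CategoryTheory
open CAlg

namespace Groth.Agent.S10933

/-- Let A be a (Noetherian) regular local ring, M a finitely generated A-module and d a natural number.
Then the projective dimension of M equals d if and only if Ext^j_A(M, A) = 0 for every j > d and
Ext^d_A(M, A) ≠ 0. (Projective dimension valued in WithBot ℕ∞, the zero module having projective
dimension ⊥.) -/
theorem result (A : Type u) [CommRing A] [IsRegularLocalRing A]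
    (M : Type u) [AddCommGroup M] [Module A M] [Module.Finite A M] (d : ℕ) :
    projectiveDimension (ModuleCat.of A M) = (d : WithBot ℕ∞) ↔
      ((∀ j : ℕ, d < j → Subsingleton (Abelian.Ext (ModuleCat.of A M) (ModuleCat.of A A) j)) ∧
        Nontrivial (Abelian.Ext (ModuleCat.of A M) (ModuleCat.of A A) d)) := by
  constructor
  · intro h
    have h1 : HasProjectiveDimensionLT (ModuleCat.of A M) (d + 1) := by
      have : projectiveDimension (ModuleCat.of A M) ≤ d := le_of_eq h
      rwa [projectiveDimension_le_iff] at this
    have h2 : ¬ HasProjectiveDimensionLT (ModuleCat.of A M) d := by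
      rw [← projectiveDimension_lt_iff, h]
      exact lt_irrefl _
    refine ⟨fun j hj => HasProjectiveDimensionLT.subsingleton _ (d + 1) j (by omega) _, ?_⟩
    exact Groth.Agent.H29.nontrivial_ext_self_of_pd A M d h1 h2
  · rintro ⟨hA, hN⟩
    have hM : Nontrivial M := by
      by_contra hne
      rw [not_nontrivial_iff_subsingleton] at hne
      have hz : Limits.IsZero (ModuleCat.of A M) := ModuleCat.isZero_of_subsingleton _
      have h0 := (hasProjectiveDimensionLT_zero_iff_isZero _).mpr hz
      have : Subsingleton (Abelian.Ext (ModuleCat.of A M) (ModuleCat.of A A) d) :=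
        HasProjectiveDimensionLT.subsingleton _ 0 d (by omega) _
      exact not_subsingleton _ this
    obtain ⟨n, hn⟩ := Groth.Agent.H29.ringKrullDim_eq_natCast_of_isLocalRing A
    obtain ⟨e, -, he1, he2, -, he4⟩ :=
      Groth.Agent.H29.exists_pd_eq_of_isRegularLocalRing A n hn M
    have hed : e ≤ d := by
      by_contra hlt
      push Not at hlt
      have := hA e hlt
      exact not_subsingleton _ this
    have hde : d ≤ e := by
      by_contra hlt
      push Not at hlt
      have : Subsingleton (Abelian.Ext (ModuleCat.of A M) (ModuleCat.of A A) d) :=
        HasProjectiveDimensionLT.subsingleton _ (e + 1) d (by omega) _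
      exact not_subsingleton _ this
    obtain rfl : e = d := le_antisymm hed hde
    apply le_antisymm
    · rw [projectiveDimension_le_iff]
      exact he1
    · rw [← not_lt, projectiveDimension_lt_iff]
      exact he2

end Groth.Agent.S10933
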