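import Groth.Statements.S10935
import Mathlib
import Groth.Agent.Lib.Helper5.BirCodim1
import Groth.Agent.H29.RegNormal
import Groth.Agent.Lead.QCoh2
import Groth.Agent.Lib.Helper4.WeakAss

set_option autoImplicit false
universe u
open CategoryTheory CategoryTheory.Limits AlgebraicGeometry
open FlatMor

namespace Groth.Agent.S10935

theorem eq_generic_of_maximalIdeal_eq_bot {Y : Scheme.{u}} [IsIntegral Y] (y : Y)
    (h : IsLocalRing.maximalIdeal (Y.presheaf.stalk y) = ⊥) : y = genericPoint Y := by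
  have hsp : genericPoint Y ⤳ y := (genericPoint_spec Y).specializes (Set.mem_univ _)
  have hr : genericPoint Y ∈ Set.range (Y.fromSpecStalk y) := by
    rw [Scheme.range_fromSpecStalk]; exact hsp
  obtain ⟨q, hq⟩ := hr
  have hq' : q = IsLocalRing.closedPoint _ := by
    apply PrimeSpectrum.ext
    have h1 : q.asIdeal ≤ IsLocalRing.maximalIdeal _ := IsLocalRing.le_maximalIdeal q.isPrime.ne_top
    rw [h] at h1
    show q.asIdeal = IsLocalRing.maximalIdeal _
    rw [h]; exact le_bot_iff.mp h1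
  rw [hq', Scheme.fromSpecStalk_closedPoint] at hq
  exact hq

theorem isUnit_germ_of_eq_generic {Y : Scheme.{u}} [IsIntegral Y] (y : Y) (hy : y = genericPoint Y)
    {V : Y.Opens} (hyV : y ∈ V) (a : Γ(Y, V)) (ha : a ≠ 0) :
    IsUnit (Y.presheaf.germ V y hyV a) := by
  subst hy
  have h1 : Y.presheaf.germ V (genericPoint Y) hyV a ≠ 0 := by
    intro h0
    apply ha
    exact germ_injective_of_isIntegral Y (genericPoint Y) hyV (by rw [h0, map_zero])
  have h2 : (Y.presheaf.germ V (genericPoint Y) hyV a : Y.functionField) ≠ 0 := h1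
  exact h2.isUnit

/-- Let Y be an integral, regular (every local ring a regular local ring), one-dimensional scheme with
generic point η, X a Noetherian scheme and f : X → Y a morphism. Then f is flat if and only if every
associated point x of X — a point such that the maximal ideal of O_{X,x} is an associated prime of
O_{X,x} — satisfies f(x) = η. -/
theorem result {X Y : Scheme.{u}} (f : X ⟶ Y)
    [IsIntegral Y] (hreg : ∀ y : Y, IsRegularLocalRing (Y.presheaf.stalk y))
    (hY : topologicalKrullDim ↥Y = 1) [IsNoetherian X] :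
    Flat f ↔ ∀ x : X, Curv2.IsAssPoint (Coh.structureModule X) x → f.base x = genericPoint ↥Y := by
  have hdimstalk : ∀ y : Y, ringKrullDim (Y.presheaf.stalk y) ≤ 1 := by
    intro y
    rw [ringKrullDim_stalk_eq_coheight y,
      ← Order.coheight_orderIso (irreducibleSetEquivPoints (α := Y)).symm y]
    calc Order.coheight ((irreducibleSetEquivPoints (α := Y)).symm y)
        ≤ Order.krullDim (TopologicalSpace.IrreducibleCloseds Y) :=
          Order.coheight_le_krullDim _
      _ ≤ 1 := hY.le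
  constructor
  · intro hflat x hx
    by_contra hne
    rw [Groth.Agent.Lead.QCoh.isAssPoint_iff,
      Groth.Agent.Helper4.WeakAss.isWeakAssPoint_structureModule_iff] at hx
    obtain ⟨w, hw⟩ := hx
    have hmne : IsLocalRing.maximalIdeal (Y.presheaf.stalk (f x)) ≠ ⊥ :=
      fun h => hne (eq_generic_of_maximalIdeal_eq_bot (f x) h)
    obtain ⟨a, ham, ha0⟩ := Submodule.exists_mem_ne_zero_of_ne_bot hmne
    have hflat' : (f.stalkMap x).hom.Flat := (Flat.iff_flat_stalkMap f).mp hflat x
    have hloc : (f.stalkMap x).hom a ∈ IsLocalRing.maximalIdeal (X.presheaf.stalk x) := by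
      rw [IsLocalRing.mem_maximalIdeal, mem_nonunits_iff]
      intro hu
      have := isUnit_of_map_unit (f.stalkMap x).hom a hu
      exact (IsLocalRing.mem_maximalIdeal _).mp ham this
    rw [← hw] at hloc
    obtain ⟨n, hn⟩ := hloc
    rw [LinearMap.mem_ker, LinearMap.toSpanSingleton_apply, smul_eq_mul] at hn
    haveI : IsDomain (Y.presheaf.stalk (f x)) := inferInstance
    have han : a ^ n ∈ nonZeroDivisors (Y.presheaf.stalk (f x)) :=
      mem_nonZeroDivisors_of_ne_zero (pow_ne_zero n ha0)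
    letI : Algebra (Y.presheaf.stalk (f x)) (X.presheaf.stalk x) := (f.stalkMap x).hom.toAlgebra
    haveI : Module.Flat (Y.presheaf.stalk (f x)) (X.presheaf.stalk x) := hflat'
    have hregn : IsSMulRegular (X.presheaf.stalk x) (a ^ n) :=
      Module.Flat.isSMulRegular_of_nonZeroDivisors han
    have hw0 : w = 0 := by
      apply hregn
      show (f.stalkMap x).hom (a ^ n) * w = (f.stalkMap x).hom (a ^ n) * 0
      rw [map_pow, hn, mul_zero]
    have htop : Ideal.radical (LinearMap.ker
        (LinearMap.toSpanSingleton (X.presheaf.stalk x) (X.presheaf.stalk x) w)) = ⊤ := by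
      rw [Ideal.radical_eq_top, Ideal.eq_top_iff_one, LinearMap.mem_ker,
        LinearMap.toSpanSingleton_apply, hw0, smul_zero]
    rw [htop] at hw
    exact (IsLocalRing.maximalIdeal.isMaximal (X.presheaf.stalk x)).ne_top hw.symm
  · intro hass
    refine ⟨fun {V} hV {U} hU e => ?_⟩
    letI : Algebra Γ(Y, V) Γ(X, U) := (f.appLE V U e).hom.toAlgebra
    show Module.Flat Γ(Y, V) Γ(X, U)
    by_cases hsub : Subsingleton Γ(X, U)
    · infer_instance
    rw [not_subsingleton_iff_nontrivial] at hsub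
    obtain ⟨M0, hM0⟩ := Ideal.exists_maximal Γ(X, U)
    have hz0 : hU.fromSpec ⟨M0, hM0.isPrime⟩ ∈ U :=
      Groth.Agent.Helper4.WeakAss.fromSpec_mem hU _
    haveI : Nonempty V := ⟨⟨f (hU.fromSpec ⟨M0, hM0.isPrime⟩), e hz0⟩⟩
    haveI : IsDomain Γ(Y, V) := inferInstance
    have hval : ∀ (P : Ideal Γ(Y, V)) [P.IsMaximal], ValuationRing (Localization P.primeCompl) := by
      intro P hP
      haveI hPp : P.IsPrime := hP.isPrime
      have hy : hV.fromSpec ⟨P, hPp⟩ ∈ V := Groth.Agent.Helper4.WeakAss.fromSpec_mem hV _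
      letI := TopCat.Presheaf.algebra_section_stalk Y.presheaf ⟨hV.fromSpec ⟨P, hPp⟩, hy⟩
      haveI : IsLocalization.AtPrime (Y.presheaf.stalk (hV.fromSpec ⟨P, hPp⟩)) P :=
        hV.isLocalization_stalk' ⟨P, hPp⟩ hy
      haveI := hreg (hV.fromSpec ⟨P, hPp⟩)
      let eq : Y.presheaf.stalk (hV.fromSpec ⟨P, hPp⟩) ≃ₐ[Γ(Y, V)] Localization.AtPrime P :=
        IsLocalization.algEquiv P.primeCompl _ _
      haveI : IsRegularLocalRing (Localization.AtPrime P) :=
        IsRegularLocalRing.of_ringEquiv eq.toRingEquiv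
      have hd : ringKrullDim (Localization.AtPrime P) ≤ 1 := by
        rw [← ringKrullDim_eq_of_ringEquiv eq.toRingEquiv]
        exact hdimstalk _
      haveI := Groth.Agent.H29.isIntegrallyClosed_of_isRegularLocalRing (Localization.AtPrime P)
      exact Groth.Agent.Helper5.BirCodim1.valuationRing_of_normal_dim_le_one _ hd
    rw [Module.Flat.flat_iff_torsion_eq_bot_of_valuationRing_localization_isMaximal hval, eq_bot_iff]
    intro b hb
    rw [Submodule.mem_torsion_iff] at hb
    obtain ⟨a, hab⟩ := hb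
    rw [Submodule.mem_bot]
    by_contra hb0
    have ha0 : (a : Γ(Y, V)) ≠ 0 := nonZeroDivisors.coe_ne_zero a
    have hab' : (f.appLE V U e).hom a * b = 0 := hab
    have hI : LinearMap.ker (LinearMap.toSpanSingleton Γ(X, U) Γ(X, U) b) ≠ ⊤ := by
      intro h
      have h1 : (1 : Γ(X, U)) ∈ LinearMap.ker (LinearMap.toSpanSingleton Γ(X, U) Γ(X, U) b) :=
        h ▸ Submodule.mem_top
      rw [LinearMap.mem_ker, LinearMap.toSpanSingleton_apply, one_smul] at h1
      exact hb0 h1
    obtain ⟨M, hM, hIM⟩ := Ideal.exists_le_maximal _ hI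
    haveI := hM.isPrime
    obtain ⟨q, hq, hqM⟩ := Ideal.exists_minimalPrimes_le hIM
    haveI hqp : q.IsPrime := hq.1.1
    have hz := Groth.Agent.Helper4.WeakAss.isWeakAssPoint_of_minimalPrimes hU b ⟨q, hqp⟩ hq
    have hfz := hass _ ((Groth.Agent.Lead.QCoh.isAssPoint_iff _ _).mpr hz)
    have hφaq : (f.appLE V U e).hom a ∈ q := by
      apply hq.1.2
      rw [LinearMap.mem_ker, LinearMap.toSpanSingleton_apply, smul_eq_mul]
      exact hab'
    have hzU : hU.fromSpec ⟨q, hqp⟩ ∈ U := Groth.Agent.Helper4.WeakAss.fromSpec_mem hU _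
    have hnu : ¬ IsUnit (X.presheaf.germ U (hU.fromSpec ⟨q, hqp⟩) hzU ((f.appLE V U e).hom a)) := by
      letI := TopCat.Presheaf.algebra_section_stalk X.presheaf ⟨hU.fromSpec ⟨q, hqp⟩, hzU⟩
      haveI : IsLocalization.AtPrime (X.presheaf.stalk (hU.fromSpec ⟨q, hqp⟩)) q :=
        hU.isLocalization_stalk' ⟨q, hqp⟩ hzU
      intro hu
      exact (IsLocalization.AtPrime.isUnit_to_map_iff (X.presheaf.stalk (hU.fromSpec ⟨q, hqp⟩)) q
        ((f.appLE V U e).hom a)).mp hu hφaq
    apply hnu
    have h1 : X.presheaf.germ U (hU.fromSpec ⟨q, hqp⟩) hzU ((f.appLE V U e).hom a) =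
        (f.stalkMap (hU.fromSpec ⟨q, hqp⟩)).hom
          (Y.presheaf.germ V (f (hU.fromSpec ⟨q, hqp⟩)) (e hzU) a) := by
      have h2 := Scheme.Hom.germ_stalkMap_apply f V (hU.fromSpec ⟨q, hqp⟩) (e hzU) a
      rw [show (f.stalkMap (hU.fromSpec ⟨q, hqp⟩)).hom
          (Y.presheaf.germ V (f (hU.fromSpec ⟨q, hqp⟩)) (e hzU) a) = _ from h2]
      exact TopCat.Presheaf.germ_res_apply X.presheaf (homOfLE e) _ hzU ((f.app V).hom a)
    rw [h1]
    exact (isUnit_germ_of_eq_generic _ hfz (e hzU) a ha0).map _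

end Groth.Agent.S10935
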