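import Groth.Statements.S10939
import Mathlib
import Groth.Agent.S7675

set_option autoImplicit false
universe u
open CategoryTheory CategoryTheory.Limits AlgebraicGeometry
open Variety

namespace Groth.Agent.S10939

theorem exists_homogeneous_not_mem (k : Type u) [Field k] (n : ℕ)
    (I : Ideal (MvPolynomial (Fin (n+1)) k)) (hI : I.IsHomogeneous (CohB1.polyGrading n k))
    (hIm : I ≤ (HomogeneousIdeal.irrelevant (CohB1.polyGrading n k)).toIdeal)
    (q : Ideal (MvPolynomial (Fin (n+1)) k)) (hq : ¬ I ≤ q) :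
    ∃ (g : MvPolynomial (Fin (n+1)) k) (d : ℕ), 0 < d ∧ g.IsHomogeneous d ∧ g ∈ I ∧ g ∉ q := by
  obtain ⟨f, hfI, hfq⟩ := SetLike.not_le_iff_exists.mp hq
  have hex : ∃ i, MvPolynomial.homogeneousComponent i f ∉ q := by
    by_contra hcon
    push Not at hcon
    apply hfq
    rw [← MvPolynomial.sum_homogeneousComponent f]
    exact q.sum_mem (fun i _ => hcon i)
  obtain ⟨i, hi⟩ := hex
  have hmem : MvPolynomial.homogeneousComponent i f ∈ I :=
    Groth.Agent.S10821.homogeneousComponent_mem k n I hI f hfI i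
  refine ⟨MvPolynomial.homogeneousComponent i f, i, ?_,
    MvPolynomial.homogeneousComponent_isHomogeneous i f, hmem, hi⟩
  by_contra h0
  have hi0 : i = 0 := by omega
  subst hi0
  have h1 : MvPolynomial.homogeneousComponent 0 f ∈
      (HomogeneousIdeal.irrelevant (CohB1.polyGrading n k)).toIdeal := hIm hmem
  rw [MvPolynomial.homogeneousComponent_zero] at h1 hi
  have hc : MvPolynomial.coeff 0 f = 0 := by
    by_contra hc
    have hmax := Groth.Agent.S19926.irrelevant_isMaximal k n
    apply hmax.ne_top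
    rw [Ideal.eq_top_iff_one]
    have : (1 : MvPolynomial (Fin (n+1)) k) =
        MvPolynomial.C (MvPolynomial.coeff 0 f)⁻¹ * MvPolynomial.C (MvPolynomial.coeff 0 f) := by
      rw [← map_mul, inv_mul_cancel₀ hc, map_one]
    rw [this]
    exact Ideal.mul_mem_left _ _ h1
  rw [hc, map_zero] at hi
  exact hi q.zero_mem

theorem gpa (k : Type u) [Field k] (n : ℕ)
    (I : Ideal (MvPolynomial (Fin (n+1)) k)) (hI : I.IsHomogeneous (CohB1.polyGrading n k))
    (hIm : I ≤ (HomogeneousIdeal.irrelevant (CohB1.polyGrading n k)).toIdeal) :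
    ∀ (N : ℕ) (M : Finset (Ideal (MvPolynomial (Fin (n+1)) k))), M.card = N →
      (∀ q ∈ M, q.IsPrime ∧ q.IsHomogeneous (CohB1.polyGrading n k) ∧ ¬ I ≤ q) →
      ∃ (h : MvPolynomial (Fin (n+1)) k) (d : ℕ), 0 < d ∧ h.IsHomogeneous d ∧ h ∈ I ∧
        ∀ q ∈ M, h ∉ q := by
  classical
  intro N
  induction N using Nat.strong_induction_on with
  | _ N ih =>
    intro M hcard hM
    by_cases hMe : M = ∅
    · refine ⟨0, 1, one_pos, MvPolynomial.isHomogeneous_zero _ _ _, I.zero_mem, ?_⟩
      intro q hq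
      rw [hMe] at hq
      exact absurd hq (Finset.notMem_empty q)
    obtain ⟨q₀, hq₀M⟩ := Finset.nonempty_iff_ne_empty.mpr hMe
    have hq₀prime : q₀.IsPrime := (hM q₀ hq₀M).1
    have hM''lt : (M.filter (fun q => ¬ q ≤ q₀)).card < N := by
      rw [← hcard]
      apply Finset.card_lt_card
      rw [Finset.filter_ssubset]
      exact ⟨q₀, hq₀M, by simp⟩
    obtain ⟨g, d, hd, hg, hgI, hgM⟩ := ih _ hM''lt (M.filter (fun q => ¬ q ≤ q₀)) rfl
      (fun q hq => hM q (Finset.mem_of_mem_filter q hq))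
    by_cases hgq₀ : g ∈ q₀
    · have hI₃hom : (I ⊓ (M.filter (fun q => ¬ q ≤ q₀)).inf id).IsHomogeneous
          (CohB1.polyGrading n k) := by
        refine hI.inf ?_
        rw [Finset.inf_id_eq_sInf]
        apply Ideal.IsHomogeneous.sInf
        intro J hJ
        exact (hM J (Finset.mem_of_mem_filter J hJ)).2.1
      have hI₃le : I ⊓ (M.filter (fun q => ¬ q ≤ q₀)).inf id ≤ I := inf_le_left
      have hI₃q₀ : ¬ I ⊓ (M.filter (fun q => ¬ q ≤ q₀)).inf id ≤ q₀ := by
        intro hle
        rcases (hq₀prime.inf_le).mp hle with h | h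
        · exact (hM q₀ hq₀M).2.2 h
        · obtain ⟨q, hq, hqq₀⟩ := (hq₀prime.inf_le').mp h
          exact (Finset.mem_filter.mp hq).2 hqq₀
      obtain ⟨g', d', hd', hg', hg'I₃, hg'q₀⟩ := exists_homogeneous_not_mem k n _ hI₃hom
        (hI₃le.trans hIm) q₀ hI₃q₀
      refine ⟨g ^ d' + g' ^ d, d * d', Nat.mul_pos hd hd', ?_, ?_, ?_⟩
      · exact (hg.pow d').add (by rw [mul_comm]; exact hg'.pow d)
      · exact I.add_mem (I.pow_mem_of_mem hgI d' hd') (I.pow_mem_of_mem (hI₃le hg'I₃) d hd)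
      · intro q hq
        by_cases hqq₀ : q ≤ q₀
        · intro hh
          have h0 := hqq₀ hh
          have h1 : g ^ d' ∈ q₀ := q₀.pow_mem_of_mem hgq₀ d' hd'
          have h2 : g' ^ d ∈ q₀ := by
            have := q₀.sub_mem h0 h1
            simpa using this
          exact hg'q₀ (hq₀prime.mem_of_pow_mem d h2)
        · have hqM'' : q ∈ M.filter (fun q => ¬ q ≤ q₀) := Finset.mem_filter.mpr ⟨hq, hqq₀⟩
          intro hh
          have hqprime := (hM q hq).1
          have h1 : g' ∈ q := by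
            have hle : I ⊓ (M.filter (fun q => ¬ q ≤ q₀)).inf id ≤ q :=
              inf_le_right.trans (Finset.inf_le (f := id) hqM'')
            exact hle hg'I₃
          have h2 : g' ^ d ∈ q := q.pow_mem_of_mem h1 d hd
          have h3 : g ^ d' ∈ q := by
            have := q.sub_mem hh h2
            simpa using this
          exact hgM q hqM'' (hqprime.mem_of_pow_mem d' h3)
    · refine ⟨g, d, hd, hg, hgI, ?_⟩
      intro q hq
      by_cases hqq₀ : q ≤ q₀
      · exact fun h => hgq₀ (hqq₀ h)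
      · exact hgM q (Finset.mem_filter.mpr ⟨hq, hqq₀⟩)

theorem exists_hom_ideal_of_closed {A σ : Type u} [CommRing A] [SetLike σ A]
    [AddSubgroupClass σ A] (𝒜 : ℕ → σ) [GradedRing 𝒜] (T : Set (ProjectiveSpectrum 𝒜))
    (hT : IsClosed T) :
    ∃ I : Ideal A, I.IsHomogeneous 𝒜 ∧ ∀ t, t ∈ T ↔ I ≤ t.asHomogeneousIdeal.toIdeal := by
  refine ⟨(ProjectiveSpectrum.vanishingIdeal T).toIdeal,
    (ProjectiveSpectrum.vanishingIdeal T).isHomogeneous, fun t => ?_⟩
  have h1 : ProjectiveSpectrum.zeroLocus 𝒜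
      ((ProjectiveSpectrum.vanishingIdeal T : HomogeneousIdeal 𝒜) : Set A) = T := by
    rw [ProjectiveSpectrum.zeroLocus_vanishingIdeal_eq_closure, hT.closure_eq]
  constructor
  · intro ht
    have : t ∈ ProjectiveSpectrum.zeroLocus 𝒜
        ((ProjectiveSpectrum.vanishingIdeal T : HomogeneousIdeal 𝒜) : Set A) := by
      rw [h1]; exact ht
    exact (ProjectiveSpectrum.mem_zeroLocus _ _ _).mp this
  · intro h
    rw [← h1]
    exact (ProjectiveSpectrum.mem_zeroLocus _ _ _).mpr h

theorem core (k : Type u) [Field k] (n : ℕ)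
    (TY : Set (ProjectiveSpectrum (CohB1.polyGrading n k)))
    (IY : Ideal (MvPolynomial (Fin (n+1)) k)) (hIYhom : IY.IsHomogeneous (CohB1.polyGrading n k))
    (hIY : ∀ y, y ∈ TY ↔ IY ≤ y.asHomogeneousIdeal.toIdeal) :
    ∀ (r : ℕ) (T : Set (ProjectiveSpectrum (CohB1.polyGrading n k))), IsClosed T →
      (∀ t ∈ T, t ∉ TY → Order.coheight t + 1 ≤ (r : ℕ∞)) →
      ∃ h : Fin r → MvPolynomial (Fin (n+1)) k,
        (∀ j, h j ∈ IY ∧ ∃ d : ℕ, 0 < d ∧ (h j).IsHomogeneous d) ∧
        ∀ t ∈ T, (∀ j, h j ∈ t.asHomogeneousIdeal.toIdeal) → t ∈ TY := by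
  classical
  intro r
  induction r with
  | zero =>
    intro T hT hdim
    refine ⟨Fin.elim0, fun j => j.elim0, ?_⟩
    intro t ht _
    by_contra htY
    have := hdim t ht htY
    simp at this
  | succ r ih =>
    intro T hT hdim
    obtain ⟨IT, hIThom, hIT⟩ := exists_hom_ideal_of_closed (CohB1.polyGrading n k) T hT
    have hfin : IT.minimalPrimes.Finite := Ideal.finite_minimalPrimes_of_isNoetherianRing _ IT
    have hMprop : ∀ q ∈ hfin.toFinset.filter (fun q => ¬ IY ≤ q ∧
        ¬ (HomogeneousIdeal.irrelevant (CohB1.polyGrading n k)).toIdeal ≤ q),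
        q.IsPrime ∧ q.IsHomogeneous (CohB1.polyGrading n k) ∧
        ¬ IY ⊓ (HomogeneousIdeal.irrelevant (CohB1.polyGrading n k)).toIdeal ≤ q := by
      intro q hq
      rw [Finset.mem_filter, Set.Finite.mem_toFinset] at hq
      obtain ⟨hqmin, hq1, hq2⟩ := hq
      refine ⟨hqmin.1.1, Groth.Agent.S10820.isHomogeneous_of_minimal _ IT hIThom q hqmin, ?_⟩
      intro hle
      rcases (hqmin.1.1.inf_le).mp hle with h | h
      · exact hq1 h
      · exact hq2 h
    obtain ⟨h₀, d₀, hd₀, hh₀, hh₀I, hh₀M⟩ := gpa k n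
      (IY ⊓ (HomogeneousIdeal.irrelevant (CohB1.polyGrading n k)).toIdeal)
      (hIYhom.inf (HomogeneousIdeal.irrelevant (CohB1.polyGrading n k)).isHomogeneous)
      inf_le_right _ _ rfl hMprop
    have hT'cl : IsClosed (T ∩ ProjectiveSpectrum.zeroLocus (CohB1.polyGrading n k)
        ({h₀} : Set (MvPolynomial (Fin (n+1)) k))) :=
      hT.inter (ProjectiveSpectrum.isClosed_zeroLocus _ _)
    have hdim' : ∀ t ∈ T ∩ ProjectiveSpectrum.zeroLocus (CohB1.polyGrading n k)
        ({h₀} : Set (MvPolynomial (Fin (n+1)) k)), t ∉ TY → Order.coheight t + 1 ≤ (r : ℕ∞) := by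
      rintro t ⟨htT, hth₀⟩ htY
      have hth₀' : h₀ ∈ t.asHomogeneousIdeal.toIdeal := by
        rw [ProjectiveSpectrum.mem_zeroLocus, Set.singleton_subset_iff] at hth₀
        exact hth₀
      haveI := t.isPrime
      obtain ⟨q, hq, hqt⟩ := Ideal.exists_minimalPrimes_le ((hIT t).mp htT)
      have hqhom := Groth.Agent.S10820.isHomogeneous_of_minimal _ IT hIThom q hq
      have hqrel : ¬ (HomogeneousIdeal.irrelevant (CohB1.polyGrading n k)).toIdeal ≤ q :=
        fun h => t.not_irrelevant_le (h.trans hqt)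
      have hqIY : ¬ IY ≤ q := fun h => htY ((hIY t).mpr (h.trans hqt))
      have hqM : q ∈ hfin.toFinset.filter (fun q => ¬ IY ≤ q ∧
          ¬ (HomogeneousIdeal.irrelevant (CohB1.polyGrading n k)).toIdeal ≤ q) := by
        rw [Finset.mem_filter, Set.Finite.mem_toFinset]
        exact ⟨hq, hqIY, hqrel⟩
      have hh₀q : h₀ ∉ q := hh₀M q hqM
      have hcT : (⟨⟨q, hqhom⟩, hq.1.1, hqrel⟩ : ProjectiveSpectrum (CohB1.polyGrading n k)) ∈ T :=
        (hIT _).mpr hq.1.2
      have hcY : (⟨⟨q, hqhom⟩, hq.1.1, hqrel⟩ : ProjectiveSpectrum (CohB1.polyGrading n k)) ∉ TY :=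
        fun h => hqIY ((hIY _).mp h)
      have hct : (⟨⟨q, hqhom⟩, hq.1.1, hqrel⟩ : ProjectiveSpectrum (CohB1.polyGrading n k)) < t := by
        refine lt_of_le_not_ge (show q ≤ t.asHomogeneousIdeal.toIdeal from hqt) ?_
        intro hle
        have hle' : t.asHomogeneousIdeal.toIdeal ≤ q := hle
        exact hh₀q (hle' hth₀')
      have h1 := hdim _ hcT hcY
      have h2 := Order.coheight_add_one_le hct
      have h3 : Order.coheight t + 1 + 1 ≤ (r : ℕ∞) + 1 := by
        refine le_trans (add_le_add_left h2 1) ?_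
        push_cast at h1
        exact h1
      exact (ENat.add_le_add_iff_right ENat.one_ne_top).mp h3
    obtain ⟨h', hh', hT'⟩ := ih _ hT'cl hdim'
    refine ⟨Fin.cons h₀ h', ?_, ?_⟩
    · intro j
      refine Fin.cases ?_ (fun j' => ?_) j
      · rw [Fin.cons_zero]
        exact ⟨hh₀I.1, d₀, hd₀, hh₀⟩
      · rw [Fin.cons_succ]
        exact hh' j'
    · intro t ht hall
      apply hT' t
      · refine ⟨ht, ?_⟩
        rw [ProjectiveSpectrum.mem_zeroLocus, Set.singleton_subset_iff]
        have := hall 0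
        rw [Fin.cons_zero] at this
        exact this
      · intro j
        have := hall j.succ
        rw [Fin.cons_succ] at this
        exact this

/-- Let k be a field, P = P^n_k = Proj k[x_0, …, x_n], and i_X : X → P, i_Y : Y → P closed immersions
with X of dimension r. Then there are homogeneous polynomials h_1, …, h_{r+1} of positive degree,
with basic opens D_j = D_+(h_j) and hypersurfaces H_j = P ∖ D_j, such that every H_j contains Y and
X ∖ Y = ⋃_j (X ∖ H_j), i.e. every point of X outside Y lies in some D_j; moreover each X ∖ H_j = X ∩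
D_j is affine. (The published statement takes X and Y reduced; the assertion only concerns the
underlying closed sets.) -/
theorem result (k : Type u) [Field k] (n r : ℕ)
    {X Y : Scheme.{u}} (iX : X ⟶ CohB1.ProjSpace n k) (iY : Y ⟶ CohB1.ProjSpace n k)
    [IsClosedImmersion iX] [IsClosedImmersion iY] (hX : topologicalKrullDim ↥X = r) :
    ∃ (h : Fin (r + 1) → MvPolynomial (Fin (n + 1)) k) (D : Fin (r + 1) → (CohB1.ProjSpace n k).Opens),
      (∀ j, D j = Proj.basicOpen (CohB1.polyGrading n k) (h j)) ∧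
      (∀ j, ∃ d : ℕ, 0 < d ∧ (h j).IsHomogeneous d) ∧
      (∀ j, Set.range iY.base ⊆ (D j : Set ↥(CohB1.ProjSpace n k))ᶜ) ∧
      (Set.range iX.base \ Set.range iY.base ⊆ ⋃ j, (D j : Set ↥(CohB1.ProjSpace n k))) ∧
      ∀ j, IsAffineOpen (iX ⁻¹ᵁ (D j)) := by
  have hXcl : IsClosed (Set.range iX.base :
      Set (ProjectiveSpectrum (CohB1.polyGrading n k))) := iX.isClosedEmbedding.isClosed_range
  have hYcl : IsClosed (Set.range iY.base :
      Set (ProjectiveSpectrum (CohB1.polyGrading n k))) := iY.isClosedEmbedding.isClosed_range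
  obtain ⟨IY, hIYhom, hIY⟩ := exists_hom_ideal_of_closed (CohB1.polyGrading n k) _ hYcl
  have hup : ∀ t ∈ (Set.range iX.base : Set (ProjectiveSpectrum (CohB1.polyGrading n k))),
      Set.Ici t ⊆ (Set.range iX.base : Set (ProjectiveSpectrum (CohB1.polyGrading n k))) := by
    intro a ha w hw
    have h1 : w ∈ closure {a} :=
      (ProjectiveSpectrum.le_iff_mem_closure (CohB1.polyGrading n k) a w).mp hw
    exact (hXcl.closure_subset_iff.mpr (Set.singleton_subset_iff.mpr ha)) h1
  have hdimTX : topologicalKrullDim ↥(Set.range iX.base :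
      Set (ProjectiveSpectrum (CohB1.polyGrading n k))) = (r : WithBot ℕ∞) := by
    rw [← hX]
    exact (IsHomeomorph.topologicalKrullDim_eq _
      (iX.isClosedEmbedding.isEmbedding.toHomeomorph).isHomeomorph).symm
  have hdim : ∀ t ∈ (Set.range iX.base : Set (ProjectiveSpectrum (CohB1.polyGrading n k))),
      t ∉ (Set.range iY.base : Set (ProjectiveSpectrum (CohB1.polyGrading n k))) →
      Order.coheight t + 1 ≤ ((r + 1 : ℕ) : ℕ∞) := by
    intro t ht _
    have h1 : topologicalKrullDim ↥(Set.Ici t) ≤ topologicalKrullDim ↥(Set.range iX.base :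
        Set (ProjectiveSpectrum (CohB1.polyGrading n k))) :=
      (Topology.IsEmbedding.inclusion (hup t ht)).isInducing.topologicalKrullDim_le
    rw [Groth.Agent.S19926.topDim_Ici, hdimTX] at h1
    have h2 : Order.coheight t ≤ (r : ℕ∞) := by exact_mod_cast h1
    push_cast
    exact add_le_add_left h2 1
  obtain ⟨h, hh, hcover⟩ := core k n _ IY hIYhom hIY (r + 1) _ hXcl hdim
  refine ⟨h, fun j => Proj.basicOpen (CohB1.polyGrading n k) (h j), fun j => rfl,
    fun j => (hh j).2, ?_, ?_, ?_⟩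
  · intro j y hy
    intro hmem
    exact hmem (((hIY y).mp hy) (hh j).1)
  · rintro t ⟨htX, htY⟩
    by_contra hnot
    apply htY
    apply hcover t htX
    intro j
    by_contra hj
    apply hnot
    exact Set.mem_iUnion.mpr ⟨j, hj⟩
  · intro j
    obtain ⟨d, hd, hhd⟩ := (hh j).2
    haveI : IsAffineHom iX := inferInstance
    have haff : IsAffineOpen (X := CohB1.ProjSpace n k)
        (Proj.basicOpen (CohB1.polyGrading n k) (h j)) :=
      Proj.isAffineOpen_basicOpen (CohB1.polyGrading n k) (h j) (m := d)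
        ((MvPolynomial.mem_homogeneousSubmodule d _).mpr hhd) hd
    exact haff.preimage iX

end Groth.Agent.S10939
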