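import Groth.Statements.S10940
import Mathlib
import Groth.Agent.S10939

set_option autoImplicit false
universe u
open CategoryTheory CategoryTheory.Limits AlgebraicGeometry
open Variety

namespace Groth.Agent.S10940

theorem core' (k : Type u) [Field k] (n : ℕ)
    (TY : Set (ProjectiveSpectrum (CohB1.polyGrading n k)))
    (IY : Ideal (MvPolynomial (Fin (n+1)) k)) (hIYhom : IY.IsHomogeneous (CohB1.polyGrading n k))
    (hIY : ∀ y, y ∈ TY ↔ IY ≤ y.asHomogeneousIdeal.toIdeal) :
    ∀ (r : ℕ) (T : Set (ProjectiveSpectrum (CohB1.polyGrading n k))), IsClosed T →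
      (∀ l : LTSeries ↥(T \ TY), l.length + 1 ≤ r) →
      ∃ h : Fin r → MvPolynomial (Fin (n+1)) k,
        (∀ j, h j ∈ IY ∧ ∃ d : ℕ, 0 < d ∧ (h j).IsHomogeneous d) ∧
        ∀ t ∈ T, (∀ j, h j ∈ t.asHomogeneousIdeal.toIdeal) → t ∈ TY := by
  classical
  intro r
  induction r with
  | zero =>
    intro T hT hdim
    refine ⟨Fin.elim0, fun j => j.elim0, ?_⟩
    intro t ht _
    by_contra htY
    have := hdim (RelSeries.singleton _ ⟨t, ht, htY⟩)
    simp at this
  | succ r ih =>
    intro T hT hdim
    obtain ⟨IT, hIThom, hIT⟩ :=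
      Groth.Agent.S10939.exists_hom_ideal_of_closed (CohB1.polyGrading n k) T hT
    have hfin : IT.minimalPrimes.Finite := Ideal.finite_minimalPrimes_of_isNoetherianRing _ IT
    have hMprop : ∀ q ∈ hfin.toFinset.filter (fun q => ¬ IY ≤ q ∧
        ¬ (HomogeneousIdeal.irrelevant (CohB1.polyGrading n k)).toIdeal ≤ q),
        q.IsPrime ∧ q.IsHomogeneous (CohB1.polyGrading n k) ∧
        ¬ IY ⊓ (HomogeneousIdeal.irrelevant (CohB1.polyGrading n k)).toIdeal ≤ q := by
      intro q hq
      rw [Finset.mem_filter, Set.Finite.mem_toFinset] at hq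
      obtain ⟨hqmin, hq1, hq2⟩ := hq
      refine ⟨hqmin.1.1, Groth.Agent.S10820.isHomogeneous_of_minimal _ IT hIThom q hqmin, ?_⟩
      intro hle
      rcases (hqmin.1.1.inf_le).mp hle with h | h
      · exact hq1 h
      · exact hq2 h
    obtain ⟨h₀, d₀, hd₀, hh₀, hh₀I, hh₀M⟩ := Groth.Agent.S10939.gpa k n
      (IY ⊓ (HomogeneousIdeal.irrelevant (CohB1.polyGrading n k)).toIdeal)
      (hIYhom.inf (HomogeneousIdeal.irrelevant (CohB1.polyGrading n k)).isHomogeneous)
      inf_le_right _ _ rfl hMprop
    have hT'cl : IsClosed (T ∩ ProjectiveSpectrum.zeroLocus (CohB1.polyGrading n k)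
        ({h₀} : Set (MvPolynomial (Fin (n+1)) k))) :=
      hT.inter (ProjectiveSpectrum.isClosed_zeroLocus _ _)
    have hdim' : ∀ l : LTSeries ↥((T ∩ ProjectiveSpectrum.zeroLocus (CohB1.polyGrading n k)
        ({h₀} : Set (MvPolynomial (Fin (n+1)) k))) \ TY), l.length + 1 ≤ r := by
      intro l'
      obtain ⟨⟨htT, hth₀⟩, htY⟩ := l'.head.2
      have hth₀' : h₀ ∈ l'.head.1.asHomogeneousIdeal.toIdeal := by
        rw [ProjectiveSpectrum.mem_zeroLocus, Set.singleton_subset_iff] at hth₀
        exact hth₀
      haveI := l'.head.1.isPrime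
      obtain ⟨q, hq, hqt⟩ := Ideal.exists_minimalPrimes_le ((hIT l'.head.1).mp htT)
      have hqhom := Groth.Agent.S10820.isHomogeneous_of_minimal _ IT hIThom q hq
      have hqrel : ¬ (HomogeneousIdeal.irrelevant (CohB1.polyGrading n k)).toIdeal ≤ q :=
        fun h => l'.head.1.not_irrelevant_le (h.trans hqt)
      have hqIY : ¬ IY ≤ q := fun h => htY ((hIY l'.head.1).mpr (h.trans hqt))
      have hqM : q ∈ hfin.toFinset.filter (fun q => ¬ IY ≤ q ∧
          ¬ (HomogeneousIdeal.irrelevant (CohB1.polyGrading n k)).toIdeal ≤ q) := by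
        rw [Finset.mem_filter, Set.Finite.mem_toFinset]
        exact ⟨hq, hqIY, hqrel⟩
      have hh₀q : h₀ ∉ q := hh₀M q hqM
      have hcT : (⟨⟨q, hqhom⟩, hq.1.1, hqrel⟩ : ProjectiveSpectrum (CohB1.polyGrading n k)) ∈ T :=
        (hIT _).mpr hq.1.2
      have hcY : (⟨⟨q, hqhom⟩, hq.1.1, hqrel⟩ : ProjectiveSpectrum (CohB1.polyGrading n k)) ∉ TY :=
        fun h => hqIY ((hIY _).mp h)
      have hct : (⟨⟨q, hqhom⟩, hq.1.1, hqrel⟩ : ProjectiveSpectrum (CohB1.polyGrading n k)) <
          l'.head.1 := by
        refine lt_of_le_not_ge (show q ≤ l'.head.1.asHomogeneousIdeal.toIdeal from hqt) ?_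
        intro hle
        have hle' : l'.head.1.asHomogeneousIdeal.toIdeal ≤ q := hle
        exact hh₀q (hle' hth₀')
      have hincl : StrictMono (fun a : ↥((T ∩ ProjectiveSpectrum.zeroLocus (CohB1.polyGrading n k)
          ({h₀} : Set (MvPolynomial (Fin (n+1)) k))) \ TY) =>
          (⟨a.1, a.2.1.1, a.2.2⟩ : ↥(T \ TY))) := fun a b hab => hab
      have hlen := hdim ((l'.map _ hincl).cons ⟨_, hcT, hcY⟩ hct)
      have hlen2 : ((l'.map _ hincl).cons ⟨_, hcT, hcY⟩ hct).length = l'.length + 1 := by
        change 0 + l'.length + 1 = l'.length + 1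
        omega
      rw [hlen2] at hlen
      omega
    obtain ⟨h', hh', hT'⟩ := ih _ hT'cl hdim'
    refine ⟨Fin.cons h₀ h', ?_, ?_⟩
    · intro j
      refine Fin.cases ?_ (fun j' => ?_) j
      · rw [Fin.cons_zero]
        exact ⟨hh₀I.1, d₀, hd₀, hh₀⟩
      · rw [Fin.cons_succ]
        exact hh' j'
    · intro t ht hall
      apply hT' t
      · refine ⟨ht, ?_⟩
        rw [ProjectiveSpectrum.mem_zeroLocus, Set.singleton_subset_iff]
        have := hall 0
        rw [Fin.cons_zero] at this
        exact this
      · intro j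
        have := hall j.succ
        rw [Fin.cons_succ] at this
        exact this

/-- Let k be a field and X a quasi-projective variety over k of dimension r: an integral scheme with an
immersion j : X → P^n_k. Then X admits a cover by r + 1 affine open subschemes. (Consequently the
cohomology of every quasi-coherent O_X-module vanishes above degree r; that consequence is the
general vanishing above the number of affines in a cover and is not restated here. The published
statement is for varieties over an algebraically closed field; the argument, r + 1 hypersurfaces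
through the boundary of the closure of X, works over any field, so k is an arbitrary field here.) -/
theorem result (k : Type u) [Field k] (n r : ℕ)
    {X : Scheme.{u}} (j : X ⟶ CohB1.ProjSpace n k) [IsImmersion j] [IsIntegral X]
    (hX : topologicalKrullDim ↥X = r) :
    ∃ U : Fin (r + 1) → X.Opens, (∀ i, IsAffineOpen (U i)) ∧ ⨆ i, U i = ⊤ := by
  classical
  have hlc : IsLocallyClosed (Set.range j.base :
      Set (ProjectiveSpectrum (CohB1.polyGrading n k))) := j.isLocallyClosed_range
  have hYcl : IsClosed (closure (Set.range j.base :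
      Set (ProjectiveSpectrum (CohB1.polyGrading n k))) \ Set.range j.base) := by
    have h1 := hlc.isOpen_coborder
    rw [coborder] at h1
    exact isOpen_compl_iff.mp h1
  obtain ⟨IY, hIYhom, hIY⟩ :=
    Groth.Agent.S10939.exists_hom_ideal_of_closed (CohB1.polyGrading n k) _ hYcl
  have hdiff : closure (Set.range j.base : Set (ProjectiveSpectrum (CohB1.polyGrading n k))) \
      (closure (Set.range j.base : Set (ProjectiveSpectrum (CohB1.polyGrading n k))) \
        Set.range j.base) = Set.range j.base := by
    ext t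
    constructor
    · rintro ⟨h1, h2⟩
      by_contra h
      exact h2 ⟨h1, h⟩
    · intro h
      exact ⟨subset_closure h, fun h' => h'.2 h⟩
  have hspec : ∀ a b : X, ((j.base a : ProjectiveSpectrum (CohB1.polyGrading n k)) ⤳
      (j.base b : ProjectiveSpectrum (CohB1.polyGrading n k))) ↔ a ⤳ b :=
    fun a b => j.isEmbedding.isInducing.specializes_iff
  have hPS : ∀ a b : ProjectiveSpectrum (CohB1.polyGrading n k), a ≤ b ↔ a ⤳ b := by
    intro a b
    rw [ProjectiveSpectrum.le_iff_mem_closure, specializes_iff_mem_closure]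
  have htop : topologicalKrullDim ↥X = Order.krullDim ↥X := by
    letI := specializationOrder X
    exact Order.krullDim_eq_of_orderIso (irreducibleSetEquivPoints (α := X))
  have hdim : ∀ l : LTSeries ↥(closure (Set.range j.base :
      Set (ProjectiveSpectrum (CohB1.polyGrading n k))) \
      (closure (Set.range j.base : Set (ProjectiveSpectrum (CohB1.polyGrading n k))) \
        Set.range j.base)), l.length + 1 ≤ r + 1 := by
    rw [hdiff]
    intro l
    have hch : ∀ a : ↥(Set.range j.base : Set (ProjectiveSpectrum (CohB1.polyGrading n k))),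
        ∃ x : X, j.base x = a.1 := fun a => a.2
    choose f hf using hch
    have hmono : StrictMono (fun a => (OrderDual.toDual (f a) : (↥X)ᵒᵈ)) := by
      intro a b hab
      have h1 : a.1 ≤ b.1 := le_of_lt hab
      have h2 : ¬ b.1 ≤ a.1 := not_le_of_gt hab
      rw [hPS] at h1 h2
      have e1 : f a ⤳ f b := by
        apply (hspec (f a) (f b)).mp
        rw [hf a, hf b]
        exact h1
      have e2 : ¬ f b ⤳ f a := by
        intro h
        apply h2
        have := (hspec (f b) (f a)).mpr h
        rw [hf a, hf b] at this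
        exact this
      show f b < f a
      exact lt_of_le_not_ge (Scheme.le_iff_specializes.mpr e1)
        (fun h => e2 (Scheme.le_iff_specializes.mp h))
    have h3 := Order.LTSeries.length_le_krullDim (l.map _ hmono)
    rw [Order.krullDim_orderDual, ← htop, hX] at h3
    have h4 : l.length ≤ r := by exact_mod_cast h3
    omega
  obtain ⟨h, hh, hcover⟩ := core' k n _ IY hIYhom hIY (r + 1) _ isClosed_closure hdim
  refine ⟨fun i => j ⁻¹ᵁ (Proj.basicOpen (CohB1.polyGrading n k) (h i)), ?_, ?_⟩
  · intro i
    obtain ⟨d, hd, hhd⟩ := (hh i).2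
    have haff : IsAffineOpen (X := CohB1.ProjSpace n k)
        (Proj.basicOpen (CohB1.polyGrading n k) (h i)) :=
      Proj.isAffineOpen_basicOpen (CohB1.polyGrading n k) (h i) (m := d)
        ((MvPolynomial.mem_homogeneousSubmodule d _).mpr hhd) hd
    obtain ⟨V, hV⟩ : ∃ V : (CohB1.ProjSpace n k).Opens,
        V = Proj.basicOpen (CohB1.polyGrading n k) (h i) := ⟨_, rfl⟩
    rw [← hV] at haff
    suffices hs : IsAffineOpen (j ⁻¹ᵁ V) by
      rw [hV] at hs
      exact hs
    have hVmem : ∀ y : ↥(CohB1.ProjSpace n k), y ∈ V →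
        h i ∉ (y : ProjectiveSpectrum (CohB1.polyGrading n k)).asHomogeneousIdeal.toIdeal := by
      intro y hy
      rw [hV] at hy
      exact hy
    haveI : IsAffine V.toScheme := haff
    have hrange : IsClosed (Set.range (j ∣_ V).base) := by
      have hι : ∀ y : V.toScheme, V.ι.base y = y.1 := fun y => rfl
      have h1 : Set.range (j ∣_ V).base =
          V.ι.base ⁻¹' (closure (Set.range j.base :
            Set (ProjectiveSpectrum (CohB1.polyGrading n k)))) := by
        ext y
        constructor
        · rintro ⟨x, rfl⟩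
          apply subset_closure
          show V.ι.base ((j ∣_ V).base x) ∈ _
          rw [hι, morphismRestrict_base_coe]
          exact ⟨x.1, rfl⟩
        · intro hy
          have hy' : y.1 ∈ closure (Set.range j.base :
            Set (ProjectiveSpectrum (CohB1.polyGrading n k))) := hy
          have hyR : y.1 ∈ (Set.range j.base :
              Set (ProjectiveSpectrum (CohB1.polyGrading n k))) := by
            by_contra hnot
            have hyY := (hIY y.1).mp ⟨hy', hnot⟩
            exact hVmem y.1 y.2 (hyY (hh i).1)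
          obtain ⟨x, hx⟩ := hyR
          have hxV : x ∈ j ⁻¹ᵁ V := by
            show j.base x ∈ V
            rw [hx]; exact y.2
          refine ⟨(⟨x, hxV⟩ : (j ⁻¹ᵁ V).toScheme), ?_⟩
          apply Subtype.ext
          exact (morphismRestrict_base_coe j V _).trans hx
      rw [h1]
      exact isClosed_closure.preimage V.ι.continuous
    haveI : IsClosedImmersion (j ∣_ V) := IsClosedImmersion.of_isPreimmersion _ hrange
    exact isAffine_of_isAffineHom (j ∣_ V)
  · rw [eq_top_iff]
    intro x _
    by_contra hnot
    have hxR : j.base x ∈ (Set.range j.base :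
        Set (ProjectiveSpectrum (CohB1.polyGrading n k))) := ⟨x, rfl⟩
    have h1 := hcover (j.base x) (subset_closure hxR) (by
      intro i
      by_contra hi
      apply hnot
      rw [TopologicalSpace.Opens.mem_iSup]
      exact ⟨i, hi⟩)
    exact h1.2 hxR

end Groth.Agent.S10940
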