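import Groth.Statements.S10944
import Mathlib
-- import your own Groth.Agent.* helpers here

set_option autoImplicit false
universe u
open CategoryTheory AlgebraicGeometry
open FlatMor

namespace Groth.Agent.S10944


theorem aux {X Y : Scheme.{u}} (f : X ⟶ Y) [Flat f]
    (Y' : Set ↥Y) (hY' : Y' ∈ irreducibleComponents ↥Y) :
    f.base ⁻¹' Y' = ⋃₀ {Z : Set ↥X | Z ∈ irreducibleComponents ↥X ∧ f.base '' Z ⊆ Y'} := by
  have hgen : GeneralizingMap f.base := Flat.generalizingMap (f := f)
  have hY'max : Maximal IsIrreducible Y' := hY'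
  have hY'irr : IsIrreducible Y' := hY'max.prop
  have hY'cl : IsClosed Y' := isClosed_of_mem_irreducibleComponents Y' hY'
  ext x
  simp only [Set.mem_preimage, Set.mem_sUnion, Set.mem_setOf_eq]
  constructor
  · intro hx
    obtain ⟨η', hη'⟩ := QuasiSober.sober hY'irr hY'cl
    have h1 : η' ⤳ f.base x := by
      rw [specializes_iff_mem_closure, hη'.def]; exact hx
    obtain ⟨x', hx'x, hfx'⟩ := hgen h1
    have hZ : irreducibleComponent x' ∈ irreducibleComponents X :=
      irreducibleComponent_mem_irreducibleComponents x'
    have hZirr : IsIrreducible (irreducibleComponent x') := isIrreducible_irreducibleComponent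
    have hZcl : IsClosed (irreducibleComponent x') := isClosed_irreducibleComponent
    refine ⟨irreducibleComponent x', ⟨hZ, ?_⟩, ?_⟩
    · obtain ⟨ξ, hξ⟩ := QuasiSober.sober hZirr hZcl
      have hξx' : ξ ⤳ x' := by
        rw [specializes_iff_mem_closure, hξ.def]; exact mem_irreducibleComponent
      have h2 : f.base ξ ⤳ η' := by
        have := hξx'.map f.continuous
        rwa [hfx'] at this
      have h3 : Y' ⊆ closure {f.base ξ} := by
        rw [← hη'.def]
        exact closure_minimal
          (Set.singleton_subset_iff.mpr (specializes_iff_mem_closure.mp h2)) isClosed_closure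
      have h4 : IsIrreducible (closure ({f.base ξ} : Set Y)) := isIrreducible_singleton.closure
      have h5 : Y' = closure ({f.base ξ} : Set Y) := hY'max.eq_of_subset h4 h3
      rw [← hξ.def]
      calc f.base '' closure {ξ} ⊆ closure (f.base '' {ξ}) :=
            image_closure_subset_closure_image f.continuous
        _ = closure {f.base ξ} := by rw [Set.image_singleton]
        _ = Y' := h5.symm
    · have : x ∈ closure ({x'} : Set X) := specializes_iff_mem_closure.mp hx'x
      exact hZcl.closure_subset_iff.mpr
        (Set.singleton_subset_iff.mpr mem_irreducibleComponent) this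
  · rintro ⟨Z, ⟨_, hZY⟩, hxZ⟩
    exact hZY ⟨x, hxZ, rfl⟩

/-- Let f : X → Y be a flat morphism of Noetherian schemes and Y' an irreducible component of Y. Then
f⁻¹(Y') is the union of the irreducible components Z of X with f(Z) ⊆ Y'. -/
theorem result {X Y : Scheme.{u}}
    [IsNoetherian X] [IsNoetherian Y] (f : X ⟶ Y) [Flat f]
    (Y' : Set ↥Y) (hY' : Y' ∈ irreducibleComponents ↥Y) :
    f.base ⁻¹' Y' = ⋃₀ {Z : Set ↥X | Z ∈ irreducibleComponents ↥X ∧ f.base '' Z ⊆ Y'} := by
  exact aux f Y' hY'

end Groth.Agent.S10944
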