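import Groth.Statements.S4407
import Groth.Agent.Lead.QCoh4
-- import your own Groth.Agent.* helpers here

set_option autoImplicit false
universe u
open CategoryTheory CategoryTheory.Limits AlgebraicGeometry
open EGA2

namespace Groth.Agent.S4407


section
open CategoryTheory CategoryTheory.Limits AlgebraicGeometry Opposite TopologicalSpace
open Groth.Agent.Lead.QCoh

variable {X : Scheme.{u}}

/-- The compatible family of sections associated to a global section. -/
noncomputable def secOf (F : X.Modules) (s : Γ(F, (⊤ : X.Opens))) : F.sections :=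
  PresheafOfModules.sectionsMk (M := F.val)
    (fun U => (show F.val.obj U from F.presheaf.map (homOfLE (le_top : U.unop ≤ ⊤)).op s))
    (by
      intro U V f
      show F.presheaf.map f (F.presheaf.map (homOfLE (le_top : U.unop ≤ ⊤)).op s) =
        F.presheaf.map (homOfLE (le_top : V.unop ≤ ⊤)).op s
      rw [← ConcreteCategory.comp_apply, ← Functor.map_comp]; rfl)

theorem secOf_top (F : X.Modules) (s : Γ(F, (⊤ : X.Opens))) :
    (show Γ(F, (⊤ : X.Opens)) from (secOf F s).val (op ⊤)) = s := by
  show F.presheaf.map (homOfLE (le_top : (⊤ : X.Opens) ≤ ⊤)).op s = s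
  have h : (homOfLE (le_top : (⊤ : X.Opens) ≤ ⊤)).op = 𝟙 (op ⊤) := rfl
  rw [h, F.presheaf.map_id]; rfl

theorem key [X.IsQuasiAffine] (F : X.Modules) [F.IsQuasicoherent] (G : X.Modules) (g h : F ⟶ G)
    (h1 : ∀ s : Γ(F, (⊤ : X.Opens)), g.app ⊤ s = h.app ⊤ s) : g = h := by
  haveI : CompactSpace X := inferInstance
  haveI : QuasiSeparatedSpace X := inferInstance
  have hW : IsCompact (X := X) ((⊤ : X.Opens) : Set X) := by
    rw [TopologicalSpace.Opens.coe_top]; exact isCompact_univ
  apply Scheme.Modules.hom_ext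
  intro U
  ext t
  apply TopCat.Sheaf.eq_of_locally_eq' ((SheafOfModules.toSheaf _).obj G)
    (fun i : {r : Γ(X, ⊤) // X.basicOpen r ≤ U ∧ IsAffineOpen (X.basicOpen r)} => X.basicOpen i.1) U
    (fun i => homOfLE i.2.1) ?_
  · intro i
    obtain ⟨r, hrU, hr⟩ := i
    show G.presheaf.map (homOfLE hrU).op (g.app U t) = G.presheaf.map (homOfLE hrU).op (h.app U t)
    rw [← app_naturality, ← app_naturality]
    obtain ⟨k, σ, hσ⟩ := exists_section_of_basicOpen_of_qcqs F ⊤ hW r
      (F.presheaf.map (homOfLE hrU).op t)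
    have e1 := congrArg (G.presheaf.map (homOfLE (X.basicOpen_le r)).op) (h1 σ)
    rw [← app_naturality, ← app_naturality, hσ, Scheme.Modules.Hom.app_smul,
      Scheme.Modules.Hom.app_smul] at e1
    have hu : IsUnit (X.presheaf.map (homOfLE (X.basicOpen_le r)).op r) :=
      RingedSpace.isUnit_res_basicOpen _ r
    exact (hu.pow k).smul_left_cancel.mp e1
  · intro x hx
    obtain ⟨_, ⟨r, hr, rfl⟩, hxr, hrU⟩ := TopologicalSpace.Opens.isBasis_iff_nbhd.mp
      (Scheme.IsQuasiAffine.isBasis_basicOpen X) hx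
    exact TopologicalSpace.Opens.mem_iSup.mpr ⟨⟨r, hrU, hr⟩, hxr⟩

end

/-- (a) ⇒ (e): let X be a quasi-affine scheme. Then every quasi-coherent O_X-module is generated by its
global sections (it is a quotient of a free O_X-module on some index set). -/
theorem result (X : Scheme.{u}) [X.IsQuasiAffine] (F : X.Modules)
    (hF : Coh.IsQCoh F) : Curv2.IsGloballyGenerated F := by
  haveI : F.IsQuasicoherent := hF
  obtain ⟨p, hpdef⟩ : ∃ p : (SheafOfModules.free (Γ(F, (⊤ : X.Opens)) : Type u) : X.Modules) ⟶ F,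
      p = (SheafOfModules.freeHomEquiv F).symm (fun s => secOf F s) := ⟨_, rfl⟩
  refine ⟨(Γ(F, (⊤ : X.Opens)) : Type u), p, ?_⟩
  have hp : ∀ s, SheafOfModules.freeHomEquiv F p s = secOf F s := fun s => by
    rw [hpdef, Equiv.apply_symm_apply]
  constructor
  intro G g h hgh
  refine key F G g h ?_
  intro s
  have e : SheafOfModules.freeHomEquiv G (p ≫ g) s = SheafOfModules.freeHomEquiv G (p ≫ h) s := by
    rw [hgh]
  have e2 : SheafOfModules.sectionsMap g (SheafOfModules.freeHomEquiv F p s) =
      SheafOfModules.sectionsMap h (SheafOfModules.freeHomEquiv F p s) := e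
  rw [hp] at e2
  have e' := congrArg (fun σ => σ.val (Opposite.op ⊤)) e2
  have e'' : Scheme.Modules.Hom.app (M := F) (N := G) g ⊤
        (show Γ(F, (⊤ : X.Opens)) from (secOf F s).val (Opposite.op ⊤)) =
      Scheme.Modules.Hom.app (M := F) (N := G) h ⊤
        (show Γ(F, (⊤ : X.Opens)) from (secOf F s).val (Opposite.op ⊤)) := e'
  rwa [secOf_top] at e''

end Groth.Agent.S4407
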