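import Groth.Statements.S10945
import Groth.Agent.S4407
-- import your own Groth.Agent.* helpers here

set_option autoImplicit false
universe u
open CategoryTheory AlgebraicGeometry Opposite
open Coherent

namespace Groth.Agent.S10945


section
open CategoryTheory CategoryTheory.Limits AlgebraicGeometry Opposite TopologicalSpace
open Groth.Agent.S4407 (secOf secOf_top)

variable {X : Scheme.{u}}

theorem sectionsMap_secOf {F G : X.Modules} (g : F ⟶ G) (s : Γ(F, (⊤ : X.Opens))) :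
    SheafOfModules.sectionsMap g (secOf F s) = secOf G (g.app ⊤ s) := by
  apply PresheafOfModules.sections_ext
  intro U
  exact Groth.Agent.Lead.QCoh.app_naturality g (homOfLE (le_top : U.unop ≤ ⊤)) s

theorem secOf_val_top (F : X.Modules) (σ : F.sections) :
    secOf F (show Γ(F, (⊤ : X.Opens)) from σ.val (op ⊤)) = σ := by
  apply PresheafOfModules.sections_ext
  intro U
  exact PresheafOfModules.sections_property σ (homOfLE (le_top : U.unop ≤ ⊤)).op

theorem epi_of_ses (S : ShortComplex X.Modules) (hS : S.ShortExact) {A B P : X.Modules}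
    (p₁ : A ⟶ S.X₁) (hp₁ : Epi p₁) (p₃ : B ⟶ S.X₃) (hp₃ : Epi p₃) (p : P ⟶ S.X₂)
    (i₁ : A ⟶ P) (i₃ : B ⟶ P) (e1 : i₁ ≫ p = p₁ ≫ S.f) (e3 : i₃ ≫ p ≫ S.g = p₃) : Epi p := by
  apply Preadditive.epi_of_cancel_zero
  intro Z d hd
  have hfd : S.f ≫ d = 0 := by
    rw [← cancel_epi p₁, ← Category.assoc, ← e1, Category.assoc, hd, comp_zero, comp_zero]
  haveI := hS.epi_g
  obtain ⟨d', hd'⟩ : ∃ d' : S.X₃ ⟶ Z, S.g ≫ d' = d :=
    ⟨hS.exact.desc d hfd, hS.exact.g_desc d hfd⟩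
  have h3' : p₃ ≫ d' = 0 := by
    rw [← e3, Category.assoc, Category.assoc, hd', hd, comp_zero]
  have hd0 : d' = 0 := by rw [← cancel_epi p₃, h3', comp_zero]
  rw [← hd', hd0, comp_zero]

end

/-- Let X be a scheme and 0 → F' → F → F'' → 0 a short exact sequence of O_X-modules whose map on global
sections Γ(X, F) → Γ(X, F'') is surjective. If F' and F'' are generated by global sections (each is
a quotient of a free O_X-module), then F is generated by global sections. -/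
theorem result (X : Scheme.{u})
    (S : ShortComplex X.Modules) (hS : S.ShortExact)
    (hsurj : Function.Surjective (S.g.val.app (op ⊤)).hom)
    (h1 : Curv2.IsGloballyGenerated S.X₁) (h3 : Curv2.IsGloballyGenerated S.X₃) :
    Curv2.IsGloballyGenerated S.X₂ := by
  obtain ⟨ι₁, p₁, hp₁⟩ := h1
  obtain ⟨ι₃, p₃, hp₃⟩ := h3
  have hl : ∀ i : ι₃, ∃ s : Γ(S.X₂, (⊤ : X.Opens)), S.g.app ⊤ s =
      (show Γ(S.X₃, (⊤ : X.Opens)) from (SheafOfModules.freeHomEquiv S.X₃ p₃ i).val (Opposite.op ⊤)) :=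
    fun i => hsurj _
  choose sl hsl using hl
  obtain ⟨a, hadef⟩ : ∃ a : ι₁ → S.X₂.sections, a = fun i =>
      SheafOfModules.sectionsMap S.f (SheafOfModules.freeHomEquiv S.X₁ p₁ i) := ⟨_, rfl⟩
  obtain ⟨b, hbdef⟩ : ∃ b : ι₃ → S.X₂.sections, b = fun i =>
      Groth.Agent.S4407.secOf S.X₂ (sl i) := ⟨_, rfl⟩
  obtain ⟨p, hpdef⟩ : ∃ p : (SheafOfModules.free (ι₁ ⊕ ι₃) : X.Modules) ⟶ S.X₂,
      p = (SheafOfModules.freeHomEquiv S.X₂).symm (Sum.elim a b) := ⟨_, rfl⟩
  have hp : SheafOfModules.freeHomEquiv S.X₂ p = Sum.elim a b := by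
    rw [hpdef, Equiv.apply_symm_apply]
  refine ⟨ι₁ ⊕ ι₃, p, ?_⟩
  have e1 : SheafOfModules.freeMap (R := X.ringCatSheaf) (Sum.inl : ι₁ → ι₁ ⊕ ι₃) ≫ p =
      p₁ ≫ S.f := by
    apply (SheafOfModules.freeHomEquiv S.X₂).injective
    funext i
    have h0 : SheafOfModules.freeHomEquiv _
        (SheafOfModules.freeMap (R := X.ringCatSheaf) (Sum.inl : ι₁ → ι₁ ⊕ ι₃)) i =
        SheafOfModules.freeSection (Sum.inl i) :=
      congrFun (SheafOfModules.freeHomEquiv_freeMap _) i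
    have hL : SheafOfModules.freeHomEquiv S.X₂
        (SheafOfModules.freeMap (R := X.ringCatSheaf) (Sum.inl : ι₁ → ι₁ ⊕ ι₃) ≫ p) i =
        SheafOfModules.sectionsMap p (SheafOfModules.freeHomEquiv _
        (SheafOfModules.freeMap (R := X.ringCatSheaf) (Sum.inl : ι₁ → ι₁ ⊕ ι₃)) i) := rfl
    rw [hL, h0]
    have hR : SheafOfModules.sectionsMap p (SheafOfModules.freeSection (Sum.inl i)) =
        SheafOfModules.freeHomEquiv S.X₂ p (Sum.inl i) := rfl
    rw [hR, hp, hadef]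
    rfl
  have e3 : SheafOfModules.freeMap (R := X.ringCatSheaf) (Sum.inr : ι₃ → ι₁ ⊕ ι₃) ≫ p ≫ S.g =
      p₃ := by
    apply (SheafOfModules.freeHomEquiv S.X₃).injective
    funext i
    have h0 : SheafOfModules.freeHomEquiv _
        (SheafOfModules.freeMap (R := X.ringCatSheaf) (Sum.inr : ι₃ → ι₁ ⊕ ι₃)) i =
        SheafOfModules.freeSection (Sum.inr i) :=
      congrFun (SheafOfModules.freeHomEquiv_freeMap _) i
    have hL : SheafOfModules.freeHomEquiv S.X₃
        (SheafOfModules.freeMap (R := X.ringCatSheaf) (Sum.inr : ι₃ → ι₁ ⊕ ι₃) ≫ p ≫ S.g) i =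
        SheafOfModules.sectionsMap S.g (SheafOfModules.sectionsMap p (SheafOfModules.freeHomEquiv _
        (SheafOfModules.freeMap (R := X.ringCatSheaf) (Sum.inr : ι₃ → ι₁ ⊕ ι₃)) i)) := rfl
    rw [hL, h0]
    have hR : SheafOfModules.sectionsMap p (SheafOfModules.freeSection (Sum.inr i)) =
        SheafOfModules.freeHomEquiv S.X₂ p (Sum.inr i) := rfl
    rw [hR, hp, hbdef]
    show SheafOfModules.sectionsMap S.g (Groth.Agent.S4407.secOf S.X₂ (sl i)) = _
    rw [sectionsMap_secOf, hsl, secOf_val_top]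
  exact epi_of_ses S hS p₁ hp₁ p₃ hp₃ p _ _ e1 e3

end Groth.Agent.S10945
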