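import Groth.Statements.S10953
-- import your own Groth.Agent.* helpers here

set_option autoImplicit false
universe u
open RedSep

namespace Groth.Agent.S10953

open AlgebraicGeometry CategoryTheory in
/-- For a morphism of schemes f : X → S to an affine scheme S such that any two points of X with the
same image in S lie in one common affine open subset of X, the morphism f is separated. -/
theorem result {X S : Scheme.{u}} [IsAffine S] (f : X ⟶ S)
    (h : ∀ x y : X, f x = f y → ∃ U : X.Opens, IsAffineOpen U ∧ x ∈ U ∧ y ∈ U) :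
    IsSeparated f := by
  constructor
  let 𝒰 : S.OpenCover := Scheme.coverOfIsIso.{u} (𝟙 S)
  let 𝒱 (i : 𝒰.I₀) : ((𝒰.pullback₁ f).X i).OpenCover :=
    ((𝒰.pullback₁ f).X i).openCoverOfIsOpenCover
      (fun W : ((𝒰.pullback₁ f).X i).affineOpens => W.1) (iSup_affineOpens_eq_top _)
  have h1 : ∀ i, IsAffine (𝒰.X i) := fun i => (inferInstance : IsAffine S)
  have h2 : ∀ i j, IsAffine ((𝒱 i).X j) := fun i j => j.2
  refine IsZariskiLocalAtTarget.of_iSup_eq_top (fun i : PUnit.{0} ↦ ⊤) (by simp) fun _ ↦ ?_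
  have key : Scheme.Pullback.diagonalCoverDiagonalRange f 𝒰 𝒱 = ⊤ := by
    rw [← top_le_iff]
    rintro z -
    have H : f (Limits.pullback.fst f f z) = f (Limits.pullback.snd f f z) := by
      rw [← Scheme.Hom.comp_apply, ← Scheme.Hom.comp_apply, Limits.pullback.condition]
    obtain ⟨U, hU, hxU, hyU⟩ := h _ _ H
    let i : 𝒰.I₀ := PUnit.unit
    have hiso : IsIso (Limits.pullback.fst f (𝒰.f i)) := by
      show IsIso (Limits.pullback.fst f (𝟙 S))
      infer_instance
    let W : ((𝒰.pullback₁ f).X i).affineOpens :=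
      ⟨Limits.pullback.fst f (𝒰.f i) ⁻¹ᵁ U,
        @IsAffineOpen.preimage_of_isIso _ _ _ hU (Limits.pullback.fst f (𝒰.f i)) hiso⟩
    have hrange : Set.range ((𝒱 i).f W ≫ Limits.pullback.fst f (𝒰.f i)) = (U : Set X) := by
      rw [Scheme.Hom.comp_base, TopCat.coe_comp, Set.range_comp]
      have : Set.range ((𝒱 i).f W) = (W.1 : Set _) := Scheme.Opens.range_ι W.1
      rw [this]
      show _ '' (_ ⁻¹' (U : Set X)) = _
      rw [Set.image_preimage_eq]
      exact (Limits.pullback.fst f (𝒰.f i)).surjective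
    refine TopologicalSpace.Opens.mem_iSup.mpr ⟨⟨i, W⟩, ?_⟩
    show z ∈ Set.range _
    rw [Scheme.Pullback.diagonalCover_map]
    refine (Set.ext_iff.mp (Scheme.Pullback.range_map _ _ _ _ _ _ _ _ _) z).mpr ⟨?_, ?_⟩
    · show Limits.pullback.fst f f z ∈ Set.range _
      rw [hrange]; exact hxU
    · show Limits.pullback.snd f f z ∈ Set.range _
      rw [hrange]; exact hyU
  rw [← key]
  exact isClosedImmersion_diagonal_restrict_diagonalCoverDiagonalRange f 𝒰 𝒱

end Groth.Agent.S10953
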