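import Groth.Statements.S10956
import Mathlib
-- import your own Groth.Agent.* helpers here

set_option autoImplicit false
universe u
open scoped TensorProduct
open CAlg

namespace Groth.Agent.S10956

/-- Let R be a commutative ring, A and B commutative R-algebras and T = A ⊗_R B, an A-algebra through
the left factor. There is a T-linear map r from Ω_{T/R} to T ⊗_A Ω_{A/R} sending d(a ⊗ b) to (1 ⊗ b)
⊗ da for all a in A and b in B, and together with the canonical map Ω_{T/R} → Ω_{T/A} it identifies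
Ω_{T/R} with the product (T ⊗_A Ω_{A/R}) × Ω_{T/A}. (The published statement is the isomorphism of
(Ω_{A/R} ⊗_R B) ⊕ (A ⊗_R Ω_{B/R}) with Ω_{T/R} matching the exterior differentials; it is stated
here through the canonical identifications T ⊗_A Ω_{A/R} = Ω_{A/R} ⊗_R B and Ω_{T/A} = A ⊗_R
Ω_{B/R}.) -/
theorem result (R A B : Type u) [CommRing R] [CommRing A] [CommRing B]
    [Algebra R A] [Algebra R B] :
    ∃ r : Ω[(A ⊗[R] B)⁄R] →ₗ[A ⊗[R] B] ((A ⊗[R] B) ⊗[A] Ω[A⁄R]),
      (∀ (a : A) (b : B), r (KaehlerDifferential.D R (A ⊗[R] B) (a ⊗ₜ[R] b)) =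
          ((1 : A) ⊗ₜ[R] b) ⊗ₜ[A] KaehlerDifferential.D R A a) ∧
        Function.Bijective (fun ω : Ω[(A ⊗[R] B)⁄R] =>
          (r ω, KaehlerDifferential.map R A (A ⊗[R] B) (A ⊗[R] B) ω)) := by
  classical
  -- the bilinear map (a, b) ↦ (1 ⊗ b) ⊗ da
  let β : A →ₗ[R] B →ₗ[R] (A ⊗[R] B) ⊗[A] Ω[A⁄R] :=
    LinearMap.mk₂ R (fun a b => ((1 : A) ⊗ₜ[R] b) ⊗ₜ[A] KaehlerDifferential.D R A a)
      (fun a a' b => by rw [map_add, TensorProduct.tmul_add])
      (fun c a b => by rw [Derivation.map_smul, TensorProduct.tmul_smul])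
      (fun a b b' => by rw [TensorProduct.tmul_add, TensorProduct.add_tmul])
      (fun c a b => by
        rw [TensorProduct.tmul_smul]
        exact (TensorProduct.smul_tmul' c ((1 : A) ⊗ₜ[R] b) _).symm)
  let D₀ : (A ⊗[R] B) →ₗ[R] (A ⊗[R] B) ⊗[A] Ω[A⁄R] := TensorProduct.lift β
  have hD₀ : ∀ (a : A) (b : B), D₀ (a ⊗ₜ[R] b) =
      ((1 : A) ⊗ₜ[R] b) ⊗ₜ[A] KaehlerDifferential.D R A a := fun a b => by
    show TensorProduct.lift β (a ⊗ₜ[R] b) = _
    rw [TensorProduct.lift.tmul]
    rfl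
  have hleib : ∀ x y : A ⊗[R] B, D₀ (x * y) = x • D₀ y + y • D₀ x := by
    intro x y
    induction x using TensorProduct.induction_on with
    | zero => simp
    | add x₁ x₂ h₁ h₂ =>
      rw [add_mul, map_add, h₁, h₂, map_add, smul_add, add_smul]
      abel
    | tmul a b =>
      induction y using TensorProduct.induction_on with
      | zero => simp
      | add y₁ y₂ h₁ h₂ =>
        rw [mul_add, map_add, h₁, h₂, map_add, smul_add, add_smul]
        abel
      | tmul a' b' =>
        rw [Algebra.TensorProduct.tmul_mul_tmul, hD₀, hD₀, hD₀, Derivation.leibniz,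
          TensorProduct.tmul_add, ← TensorProduct.smul_tmul, ← TensorProduct.smul_tmul,
          TensorProduct.smul_tmul', TensorProduct.smul_tmul', TensorProduct.smul_tmul',
          TensorProduct.smul_tmul', smul_eq_mul, smul_eq_mul, smul_eq_mul, smul_eq_mul,
          Algebra.TensorProduct.tmul_mul_tmul, Algebra.TensorProduct.tmul_mul_tmul, mul_one,
          mul_one, mul_comm b' b]
  let D' : Derivation R (A ⊗[R] B) ((A ⊗[R] B) ⊗[A] Ω[A⁄R]) := Derivation.mk' D₀ hleib
  let r : Ω[(A ⊗[R] B)⁄R] →ₗ[A ⊗[R] B] ((A ⊗[R] B) ⊗[A] Ω[A⁄R]) := D'.liftKaehlerDifferential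
  have hr1 : ∀ (a : A) (b : B), r (KaehlerDifferential.D R (A ⊗[R] B) (a ⊗ₜ[R] b)) =
      ((1 : A) ⊗ₜ[R] b) ⊗ₜ[A] KaehlerDifferential.D R A a := fun a b => by
    show D'.liftKaehlerDifferential _ = _
    rw [Derivation.liftKaehlerDifferential_comp_D]
    exact hD₀ a b
  have hrm : ∀ x : (A ⊗[R] B) ⊗[A] Ω[A⁄R],
      r (KaehlerDifferential.mapBaseChange R A (A ⊗[R] B) x) = x := by
    intro x
    induction x using TensorProduct.induction_on with
    | zero => simp
    | add x y hx hy => rw [map_add, map_add, hx, hy]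
    | tmul t ω =>
      have hω : ω ∈ Submodule.span A (Set.range (KaehlerDifferential.D R A)) := by
        rw [KaehlerDifferential.span_range_derivation]; trivial
      induction hω using Submodule.span_induction generalizing t with
      | mem ω h =>
        obtain ⟨a, rfl⟩ := h
        rw [KaehlerDifferential.mapBaseChange_tmul, map_smul, KaehlerDifferential.map_D,
          Algebra.TensorProduct.algebraMap_apply, Algebra.algebraMap_self, RingHom.id_apply, hr1 a 1,
          TensorProduct.smul_tmul', smul_eq_mul, ← Algebra.TensorProduct.one_def, mul_one]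
      | zero => simp
      | add ω₁ ω₂ _ _ h₁ h₂ => rw [TensorProduct.tmul_add, map_add, map_add, h₁, h₂]
      | smul c ω _ h => rw [← TensorProduct.smul_tmul, h]
  refine ⟨r, hr1, ?_, ?_⟩
  · intro ω₁ ω₂ h
    have h1 : r ω₁ = r ω₂ := congrArg Prod.fst h
    have h2 : KaehlerDifferential.map R A (A ⊗[R] B) (A ⊗[R] B) ω₁ =
        KaehlerDifferential.map R A (A ⊗[R] B) (A ⊗[R] B) ω₂ := congrArg Prod.snd h
    have h3 : KaehlerDifferential.map R A (A ⊗[R] B) (A ⊗[R] B) (ω₁ - ω₂) = 0 := by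
      rw [map_sub, h2, sub_self]
    obtain ⟨x, hx⟩ := (KaehlerDifferential.exact_mapBaseChange_map R A (A ⊗[R] B) _).1 h3
    have h4 : x = 0 := by
      rw [← hrm x, hx, map_sub, h1, sub_self]
    rw [h4, map_zero] at hx
    exact (sub_eq_zero.1 hx.symm)
  · rintro ⟨x, y⟩
    obtain ⟨ω₀, hω₀⟩ := KaehlerDifferential.map_surjective R A (A ⊗[R] B) y
    refine ⟨ω₀ + KaehlerDifferential.mapBaseChange R A (A ⊗[R] B) (x - r ω₀), ?_⟩
    have h5 : KaehlerDifferential.map R A (A ⊗[R] B) (A ⊗[R] B)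
        (KaehlerDifferential.mapBaseChange R A (A ⊗[R] B) (x - r ω₀)) = 0 :=
      (KaehlerDifferential.exact_mapBaseChange_map R A (A ⊗[R] B) _).2 ⟨_, rfl⟩
    refine Prod.ext ?_ ?_
    · show r (ω₀ + _) = x
      rw [map_add, hrm]
      abel
    · show KaehlerDifferential.map R A (A ⊗[R] B) (A ⊗[R] B) (ω₀ + _) = y
      rw [map_add, h5, add_zero, hω₀]

end Groth.Agent.S10956
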