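import Groth.Statements.S10973
import Groth.Agent.Lib.Helper17.FF4

set_option autoImplicit false
open FunFld

namespace Groth.Agent.S10973

/-- Two nonzero elements of a function field of one variable with the same principal divisor differ by a
constant multiple. -/
theorem result (k K : Type*) [Field k] [Field K] [Algebra k K]
    (hK : FunFld.IsFunctionField k K) (x y : K) (hx : x ≠ 0) (hy : y ≠ 0)
    (h : ∀ P : FunFld.Place k K, P.ord x = P.ord y) : ∃ c : k, x = c • y := by
  have hz0 : x / y ≠ 0 := div_ne_zero hx hy
  have hval : ∀ P : FunFld.Place k K, P.1 (x / y) = 1 := by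
    intro P
    rw [← Groth.Agent.Helper17.FF.ord_eq_zero_iff P hz0, Groth.Agent.Helper17.FF.ord_div P hx hy,
      h P, sub_self]
  obtain ⟨c, hc⟩ := Groth.Agent.Helper17.FF.mem_range_of_forall_val_le_one hK
    (fun P => (hval P).le)
  refine ⟨c, ?_⟩
  rw [Algebra.smul_def, hc, div_mul_cancel₀ _ hy]

end Groth.Agent.S10973
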