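import Groth.Statements.S10975
import Groth.Agent.Lib.Helper17.FF0

set_option autoImplicit false
open FunFld

namespace Groth.Agent.S10975

/-- `A(D₁ ⊔ D₂) = A(D₁) + A(D₂)` for divisors of a function field of one variable. -/
theorem result (k K : Type*) [Field k] [Field K] [Algebra k K] (D₁ D₂ : FunFld.Divisor k K) :
    FunFld.AD (D₁ ⊔ D₂) = FunFld.AD D₁ ⊔ FunFld.AD D₂ := by
  classical
  apply le_antisymm
  · intro a ha
    have ha' := Groth.Agent.Helper17.FF.mem_AD.1 ha
    have hb : (fun P : FunFld.Place k K => if P.1 (a P) ≤ WithZero.exp (D₁ P) then a P else 0) ∈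
        FunFld.AD D₁ := by
      intro P
      show P.1 (if P.1 (a P) ≤ WithZero.exp (D₁ P) then a P else 0) ≤ WithZero.exp (D₁ P)
      split_ifs with h
      · exact h
      · simp
    have hc : (fun P : FunFld.Place k K => if P.1 (a P) ≤ WithZero.exp (D₁ P) then 0 else a P) ∈
        FunFld.AD D₂ := by
      intro P
      show P.1 (if P.1 (a P) ≤ WithZero.exp (D₁ P) then 0 else a P) ≤ WithZero.exp (D₂ P)
      split_ifs with h
      · simp
      · have h1 := ha' P
        rw [Finsupp.sup_apply] at h1
        rcases le_total (D₁ P) (D₂ P) with h2 | h2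
        · rwa [sup_eq_right.2 h2] at h1
        · rw [sup_eq_left.2 h2] at h1
          exact absurd h1 h
    have hsum : a = (fun P : FunFld.Place k K => if P.1 (a P) ≤ WithZero.exp (D₁ P) then a P else 0) +
        (fun P : FunFld.Place k K => if P.1 (a P) ≤ WithZero.exp (D₁ P) then 0 else a P) := by
      funext P
      show a P = (if P.1 (a P) ≤ WithZero.exp (D₁ P) then a P else 0) +
        (if P.1 (a P) ≤ WithZero.exp (D₁ P) then 0 else a P)
      split_ifs <;> simp
    rw [hsum]
    exact Submodule.add_mem_sup hb hc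
  · exact sup_le (Groth.Agent.Helper17.FF.AD_mono le_sup_left)
      (Groth.Agent.Helper17.FF.AD_mono le_sup_right)

end Groth.Agent.S10975
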