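import Groth.Statements.S11003
import Groth.Agent.Lib.Helper17.FFSep

set_option autoImplicit false
universe u v
open FunFld

namespace Groth.Agent.S11003

/-- `dim_K Ω_{K/k} = 1` for a geometric function field of one variable `K/k`. -/
theorem result (k : Type u) (K : Type v) [Field k] [Field K] [Algebra k K]
    (hK : FunFld.IsFunctionField k K) (hg : FunFld.IsGeometric k K) :
    Module.finrank K (KaehlerDifferential k K) = 1 := by
  obtain ⟨x, hx, hsep⟩ := Groth.Agent.Helper17.FF.exists_separating hK hg
  obtain ⟨E, -⟩ := Groth.Agent.Helper17.FF.exists_kaehler_equiv hx hsep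
  rw [E.finrank_eq, Module.finrank_self]

end Groth.Agent.S11003
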