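import Groth.Statements.S11017
import Mathlib

set_option autoImplicit false
open FunFld

namespace Groth.Agent.S11017

/-- For a Weil differential `ω` with divisor `C`, `ord_P [ω] ≥ e` iff `ω` kills every repartition
concentrated at `P` with `P`-component of order at least `-e`. -/
theorem result (k K : Type*) [Field k] [Field K] [Algebra k K] (ω : Module.Dual k (FunFld.adele k K)) (C : FunFld.Divisor k K) (hω : FunFld.IsDivOf ω C)
    (P : FunFld.Place k K) (e : ℤ) :
    e ≤ C P ↔ ∀ (a : FunFld.Place k K → K) (ha : a ∈ FunFld.adele k K),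
      (∀ Q, Q ≠ P → a Q = 0) → P.1 (a P) ≤ WithZero.exp e → ω ⟨a, ha⟩ = 0 := by
  classical
  have hC : ω ∈ FunFld.WD C := (hω C).mpr le_rfl
  have hCkill : ∀ (b : FunFld.Place k K → K) (hb : b ∈ FunFld.adele k K),
      b ∈ FunFld.AD C ⊔ LinearMap.range (FunFld.diag k K) → ω ⟨b, hb⟩ = 0 := by
    intro b hb hb'
    have := (Submodule.mem_dualAnnihilator ω).mp hC ⟨b, hb⟩
    exact this hb'
  constructor
  · intro he a ha hconc hval
    apply hCkill a ha
    apply Submodule.mem_sup_left
    intro Q
    by_cases hQ : Q = P
    · subst hQ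
      exact hval.trans (WithZero.exp_le_exp.mpr he)
    · rw [hconc Q hQ, map_zero]
      exact zero_le'
  · intro h
    let E : FunFld.Divisor k K := C + Finsupp.single P (e - C P)
    have hEP : E P = e := by
      simp only [E, Finsupp.add_apply, Finsupp.single_eq_same]
      ring
    have hEQ : ∀ Q, Q ≠ P → E Q = C Q := by
      intro Q hQ
      simp only [E, Finsupp.add_apply]
      rw [Finsupp.single_apply, if_neg (Ne.symm hQ), add_zero]
    have hE : ω ∈ FunFld.WD E := by
      rw [FunFld.WD, Submodule.mem_dualAnnihilator]
      rintro ⟨b, hb⟩ hbE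
      obtain ⟨a', ha', z, ⟨x, rfl⟩, hsum⟩ := Submodule.mem_sup.mp hbE
      change a' + FunFld.diag k K x = b at hsum
      let aP : FunFld.Place k K → K := fun Q => if Q = P then a' P else 0
      have haPne : ∀ Q, Q ≠ P → aP Q = 0 := fun Q hQ => if_neg hQ
      have haPP : aP P = a' P := if_pos rfl
      have haP : aP ∈ FunFld.adele k K := by
        change ∀ᶠ Q : FunFld.Place k K in Filter.cofinite, Q.1 (aP Q) ≤ 1
        rw [Filter.eventually_cofinite]
        apply Set.Finite.subset (Set.finite_singleton P)
        intro Q hQ
        by_contra hne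
        apply hQ
        rw [haPne Q hne, map_zero]
        exact zero_le'
      have h1 : ω ⟨aP, haP⟩ = 0 := by
        apply h aP haP haPne
        rw [haPP, ← hEP]
        exact ha' P
      have hsub : b - aP ∈ FunFld.adele k K := Submodule.sub_mem _ hb haP
      have h2 : ω ⟨b - aP, hsub⟩ = 0 := by
        apply hCkill
        have : b - aP = (a' - aP) + FunFld.diag k K x := by rw [← hsum]; abel
        rw [this]
        apply Submodule.add_mem
        · apply Submodule.mem_sup_left
          intro Q
          by_cases hQ : Q = P
          · subst hQ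
            rw [Pi.sub_apply, haPP, sub_self, map_zero]
            exact zero_le'
          · rw [Pi.sub_apply, haPne Q hQ, sub_zero, ← hEQ Q hQ]
            exact ha' Q
        · exact Submodule.mem_sup_right ⟨x, rfl⟩
      have h3 : (⟨b, hb⟩ : FunFld.adele k K) = ⟨b - aP, hsub⟩ + ⟨aP, haP⟩ := by
        apply Subtype.ext
        change b = b - aP + aP
        abel
      rw [h3, map_add, h1, h2, add_zero]
    have := (hω E).mp hE P
    rw [hEP] at this
    exact this

end Groth.Agent.S11017
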