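import Groth.Statements.S11028
import Groth.Agent.Lib.Helper17.FFASG

set_option autoImplicit false
open FunFld

namespace Groth.Agent.S11028

/-- For `k` perfect of characteristic `2` and `K = k(x, y)` with `y² + y = f(x)`, all poles of `f` of
odd order `2d_i - 1` at places `p_i` of `k(x)`, the genus of `K` is `-1 + ∑ d_i deg p_i`. -/
theorem result (k K : Type*) [Field k] [Field K] [PerfectField k] (h2 : ringChar k = 2) [Algebra k K]
    [Algebra (RatFunc k) K] [IsScalarTower k (RatFunc k) K] (hK : FunFld.IsFunctionField k K)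
    (hdeg : Module.finrank (RatFunc k) K = 2) (y : K) (hy : y ∉ Set.range (algebraMap (RatFunc k) K))
    (f : RatFunc k) (heq : y ^ 2 + y = algebraMap (RatFunc k) K f)
    (hodd : ∀ P : FunFld.Place k (RatFunc k), FunFld.div k f P < 0 → Odd (FunFld.div k f P)) :
    (FunFld.genus k K : ℤ) = -1 + ∑ P ∈ (FunFld.div k f).support with FunFld.div k f P < 0,
      (1 - FunFld.div k f P) / 2 * (P.deg : ℤ) := by
  have hK₀ : IsFunctionField k (RatFunc k) := Groth.Agent.Helper17.FF.isFunctionField_ratFunc
  have hodd' : ∀ P₀ : Place k (RatFunc k), P₀.ord f < 0 → Odd (P₀.ord f) := by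
    intro P₀ h
    have := hodd P₀ (by rw [Groth.Agent.Helper17.FF.div_apply hK₀]; exact h)
    rwa [Groth.Agent.Helper17.FF.div_apply hK₀] at this
  obtain ⟨B, hBdef⟩ : ∃ B : Divisor k (RatFunc k),
      B = ∑ P ∈ (FunFld.div k f).support with FunFld.div k f P < 0,
        Finsupp.single P ((1 - FunFld.div k f P) / 2) := ⟨_, rfl⟩
  have hBdeg : B.deg = ∑ P ∈ (FunFld.div k f).support with FunFld.div k f P < 0,
      (1 - FunFld.div k f P) / 2 * (P.deg : ℤ) := by
    rw [hBdef, Groth.Agent.Helper17.FF.deg_finset_sum]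
    exact Finset.sum_congr rfl (fun P _ => Groth.Agent.Helper17.FF.deg_single P _)
  have hB : ∀ p : Place k (RatFunc k),
      B p = if p.ord f < 0 then (1 - p.ord f) / 2 else 0 := by
    classical
    intro p
    rw [hBdef, Finsupp.finset_sum_apply]
    simp only [Finsupp.single_apply]
    rw [Finset.sum_ite_eq']
    rw [← Groth.Agent.Helper17.FF.div_apply hK₀ f p]
    by_cases hp : FunFld.div k f p < 0
    · rw [if_pos hp, if_pos]
      rw [Finset.mem_filter, Finsupp.mem_support_iff]
      exact ⟨hp.ne, hp⟩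
    · rw [if_neg hp, if_neg]
      rw [Finset.mem_filter]
      exact fun h => hp h.2
  rw [Groth.Agent.Helper17.FF.as_genus hK h2 hdeg hy heq hodd' B hB, hBdeg]

end Groth.Agent.S11028
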