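import Groth.Statements.S11041
import Groth.Agent.H16.RH16
import Groth.Agent.S11040
-- import your own Groth.Agent.* helpers here

set_option autoImplicit false
open FunFld

namespace Groth.Agent.S11041

/-- The Riemann hypothesis for a function field `K` of one variable over a finite field with `q`
elements: every complex root `z` of `L_K(t) = (1 - t)(1 - q t) Z_K(t)` satisfies `|z|² q = 1`;
equivalently the reciprocal roots `αᵢ` all have `|αᵢ| = q^{1/2}`. -/
theorem result
    (k K : Type*) [Field k] [Finite k] [Field K] [Algebra k K]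
    (hK : FunFld.IsFunctionField k K) (p : Polynomial ℤ)
    (hp : (p : PowerSeries ℤ) = FunFld.numerZ k K) (z : ℂ)
    (hz : (p.map (Int.castRingHom ℂ)).IsRoot z) :
    ‖z‖ ^ 2 * (Nat.card k : ℝ) = 1 := by
  classical
  haveI := Fintype.ofFinite k
  obtain ⟨α, -, hα, hprod⟩ := Groth.Agent.S11040.result k K hK
  have hle : ∀ i, ‖α i‖ ≤ Real.sqrt (Fintype.card k) :=
    fun i => Groth.Agent.Helper16.RH.norm_le_sqrt hK α hα i
  have hq : (Nat.card k : ℝ) = Fintype.card k := by rw [Nat.card_eq_fintype_card]
  have hq0 : (0 : ℝ) < Fintype.card k := by exact_mod_cast Fintype.card_pos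
  have hs0 : 0 < Real.sqrt (Fintype.card k) := Real.sqrt_pos.2 hq0
  have hss : Real.sqrt (Fintype.card k) * Real.sqrt (Fintype.card k) = Fintype.card k :=
    Real.mul_self_sqrt hq0.le
  have heq : ∀ i, ‖α i‖ = Real.sqrt (Fintype.card k) := by
    intro i
    have h1 := congrArg norm (hprod i)
    rw [norm_mul, Complex.norm_natCast, Nat.card_eq_fintype_card] at h1
    have h2 := hle i
    have h3 := hle (Fin.rev i)
    have h4 : 0 ≤ ‖α i‖ := norm_nonneg _
    apply le_antisymm h2
    by_contra hcon
    push Not at hcon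
    nlinarith
  have hpoly : p.map (Int.castRingHom ℂ) = ∏ i, (1 - Polynomial.C (α i) * Polynomial.X) := by
    apply Polynomial.coe_injective
    rw [← hα, ← hp, Polynomial.polynomial_map_coe]
  rw [hpoly, Polynomial.IsRoot, Polynomial.eval_prod, Finset.prod_eq_zero_iff] at hz
  obtain ⟨i, -, hi⟩ := hz
  simp only [Polynomial.eval_sub, Polynomial.eval_one, Polynomial.eval_mul, Polynomial.eval_C,
    Polynomial.eval_X] at hi
  have h1 : α i * z = 1 := by
    have := sub_eq_zero.1 hi
    exact this.symm
  have h2 := congrArg norm h1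
  rw [norm_mul, norm_one, heq i] at h2
  rw [hq, ← hss]
  calc ‖z‖ ^ 2 * (Real.sqrt (Fintype.card k) * Real.sqrt (Fintype.card k))
      = (Real.sqrt (Fintype.card k) * ‖z‖) ^ 2 := by ring
    _ = 1 := by rw [h2, one_pow]

end Groth.Agent.S11041
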