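import Groth.Statements.S11042
import Groth.Agent.H16.RH16
import Groth.Agent.S11040
import Groth.Agent.S11062
-- import your own Groth.Agent.* helpers here

set_option autoImplicit false
open FunFld

namespace Groth.Agent.S11042

/-- A function field of one variable of genus `g` over a finite field with `q` elements has `N` places
of degree one with `|N - q - 1| ≤ 2 g √q`. -/
theorem result
    (k K : Type*) [Field k] [Finite k] [Field K] [Algebra k K]
    (hK : FunFld.IsFunctionField k K) :
    |(Nat.card {P : FunFld.Place k K // P.deg = 1} : ℝ) - (Nat.card k : ℝ) - 1| ≤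
      2 * (FunFld.genus k K : ℝ) * Real.sqrt (Nat.card k : ℝ) := by
  classical
  haveI := Fintype.ofFinite k
  obtain ⟨α, -, hα, -⟩ := Groth.Agent.S11040.result k K hK
  have hle : ∀ i, ‖α i‖ ≤ Real.sqrt (Fintype.card k) :=
    fun i => Groth.Agent.Helper16.RH.norm_le_sqrt hK α hα i
  have hq : Nat.card k = Fintype.card k := Nat.card_eq_fintype_card
  have hce : FunFld.IsConstExt k K k K := by
    refine ⟨fun c => rfl, ?_, ?_⟩
    · rw [eq_top_iff]
      intro x _
      have : x = algebraMap K K x := rfl
      rw [this]
      exact Subalgebra.algebraMap_mem _ x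
    · rw [Module.finrank_self, Module.finrank_self]
  have h1 := Groth.Agent.S11062.result k K k K hK hK hce α hα
  rw [Module.finrank_self, pow_one] at h1
  simp only [pow_one] at h1
  have h2 : ((Nat.card {P : FunFld.Place k K // P.deg = 1} : ℝ) - (Nat.card k : ℝ) - 1 : ℝ) =
      -(∑ i, α i).re := by
    have h3 := congrArg Complex.re h1
    simp only [Complex.natCast_re, Complex.add_re, Complex.one_re, Complex.sub_re] at h3
    rw [h3]; ring
  rw [h2, abs_neg]
  calc |(∑ i, α i).re| ≤ ‖∑ i, α i‖ := Complex.abs_re_le_norm _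
    _ ≤ ∑ i, ‖α i‖ := norm_sum_le _ _
    _ ≤ ∑ _i : Fin (2 * FunFld.genus k K), Real.sqrt (Fintype.card k) :=
        Finset.sum_le_sum fun i _ => hle i
    _ = 2 * (FunFld.genus k K : ℝ) * Real.sqrt (Nat.card k : ℝ) := by
        rw [Finset.sum_const, Finset.card_univ, Fintype.card_fin, nsmul_eq_mul, hq]
        push_cast
        ring

end Groth.Agent.S11042
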