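import Groth.Statements.S11043
import Mathlib

set_option autoImplicit false
open FunFld

namespace Groth.Agent.S11043

private theorem prod_roots_eq_prod_range {k : ℕ} (hk : 0 < k) {ζ : ℂ} (hζ : IsPrimitiveRoot ζ k)
    (g : ℂ → ℂ) :
    ∏ θ ∈ Polynomial.nthRootsFinset k (1 : ℂ), g θ = ∏ j ∈ Finset.range k, g (ζ ^ j) := by
  classical
  have himg : (Finset.range k).image (fun j => ζ ^ j) = Polynomial.nthRootsFinset k (1 : ℂ) := by
    apply Finset.eq_of_subset_of_card_le
    · intro x hx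
      obtain ⟨j, -, rfl⟩ := Finset.mem_image.mp hx
      rw [Polynomial.mem_nthRootsFinset hk, ← pow_mul, mul_comm, pow_mul, hζ.pow_eq_one, one_pow]
    · rw [hζ.card_nthRootsFinset, Finset.card_image_of_injOn, Finset.card_range]
      intro i hi j hj hij
      exact hζ.pow_inj (Finset.mem_range.mp hi) (Finset.mem_range.mp hj) hij
  rw [← himg, Finset.prod_image]
  intro i hi j hj hij
  exact hζ.pow_inj (Finset.mem_range.mp hi) (Finset.mem_range.mp hj) hij

private theorem prod_one_sub {m : ℕ} (hm : 0 < m) {ρ : ℂ} (hρ : IsPrimitiveRoot ρ m) (y : ℂ) :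
    ∏ b ∈ Finset.range m, (1 - ρ ^ b * y) = 1 - y ^ m := by
  rw [← prod_roots_eq_prod_range hm hρ (fun θ => 1 - θ * y)]
  by_cases hy : y = 0
  · subst hy
    simp [hm.ne']
  · have h := congrArg (Polynomial.eval y⁻¹) (Polynomial.X_pow_sub_one_eq_prod hm hρ)
    rw [Polynomial.eval_prod] at h
    simp only [Polynomial.eval_sub, Polynomial.eval_pow, Polynomial.eval_X, Polynomial.eval_one,
      Polynomial.eval_C] at h
    have h2 : ∏ θ ∈ Polynomial.nthRootsFinset m (1 : ℂ), (1 - θ * y) =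
        ∏ θ ∈ Polynomial.nthRootsFinset m (1 : ℂ), (y * (y⁻¹ - θ)) :=
      Finset.prod_congr rfl fun θ _ => by
        rw [mul_sub, mul_inv_cancel₀ hy, mul_comm]
    rw [h2, Finset.prod_mul_distrib, Finset.prod_const, hρ.card_nthRootsFinset, ← h, mul_sub,
      ← mul_pow, mul_inv_cancel₀ hy, one_pow, mul_one]

private theorem prod_range_mul_pow (e m : ℕ) (ρ y : ℂ) (hρ : ρ ^ m = 1) :
    ∏ k ∈ Finset.range (e * m), (1 - ρ ^ k * y) =
      (∏ b ∈ Finset.range m, (1 - ρ ^ b * y)) ^ e := by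
  induction e with
  | zero => simp
  | succ e ih =>
    rw [Nat.succ_mul, Finset.prod_range_add, ih, pow_succ]
    congr 1
    refine Finset.prod_congr rfl fun b _ => ?_
    rw [pow_add, pow_mul', hρ, one_pow, one_mul]

/-- For positive integers `n`, `d` with `e = gcd(n, d)`, in `ℂ[t]` one has `(1 - t^{nd/e})^e = ∏_{θⁿ =
1} (1 - (θ t)^d)`, the product over the complex `n`-th roots of unity. -/
theorem result (n d : ℕ) (hn : 0 < n) (hd : 0 < d) :
    ((1 : Polynomial ℂ) - Polynomial.X ^ (n * d / Nat.gcd n d)) ^ Nat.gcd n d =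
      ∏ θ ∈ Polynomial.nthRootsFinset n (1 : ℂ),
        (1 - Polynomial.C (θ ^ d) * Polynomial.X ^ d) := by

  classical
  have hepos : 0 < Nat.gcd n d := Nat.gcd_pos_of_pos_left d hn
  obtain ⟨m, hm⟩ : Nat.gcd n d ∣ n := Nat.gcd_dvd_left n d
  obtain ⟨d', hd'⟩ : Nat.gcd n d ∣ d := Nat.gcd_dvd_right n d
  have hcop : Nat.Coprime d' m := by
    have h := Nat.coprime_div_gcd_div_gcd hepos
    rw [Nat.div_eq_of_eq_mul_right hepos hm, Nat.div_eq_of_eq_mul_right hepos hd'] at h
    exact h.symm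
  generalize Nat.gcd n d = e at *
  subst hm hd'
  have hmpos : 0 < m := Nat.pos_of_mul_pos_left hn
  have hexp : e * m * (e * d') / e = m * (e * d') := by
    rw [mul_assoc, Nat.mul_div_cancel_left _ hepos]
  rw [hexp]
  apply Polynomial.funext
  intro x
  rw [Polynomial.eval_prod]
  simp only [Polynomial.eval_pow, Polynomial.eval_sub, Polynomial.eval_one, Polynomial.eval_X,
    Polynomial.eval_mul, Polynomial.eval_C]
  have hζ : IsPrimitiveRoot (Complex.exp (2 * Real.pi * Complex.I / ((e * m : ℕ) : ℂ))) (e * m) :=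
    Complex.isPrimitiveRoot_exp (e * m) hn.ne'
  generalize Complex.exp (2 * Real.pi * Complex.I / ((e * m : ℕ) : ℂ)) = ζ at hζ
  have hρ : IsPrimitiveRoot (ζ ^ (e * d')) m := by
    have h1 : IsPrimitiveRoot (ζ ^ e) m := hζ.pow hn rfl
    have h2 := h1.pow_of_coprime d' hcop
    rwa [← pow_mul] at h2
  rw [prod_roots_eq_prod_range hn hζ (fun θ => 1 - θ ^ (e * d') * x ^ (e * d'))]
  have h3 : ∀ k ∈ Finset.range (e * m), (1 - (ζ ^ k) ^ (e * d') * x ^ (e * d')) =
      1 - (ζ ^ (e * d')) ^ k * x ^ (e * d') := by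
    intro k _
    rw [← pow_mul, ← pow_mul, mul_comm k]
  rw [Finset.prod_congr rfl h3, prod_range_mul_pow e m _ _ hρ.pow_eq_one, prod_one_sub hmpos hρ,
    ← pow_mul, mul_comm (e * d') m]


end Groth.Agent.S11043
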