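import Groth.Statements.S11049
import Mathlib

set_option autoImplicit false
open CAlg

namespace Groth.Agent.S11049

/-- For `k`-algebras `S ⊆ R` with `R` an integral domain and a nonzero `x ∈ S`, if `R/S` and `R/Rx` are
finite-dimensional over `k` then `dim_k R/Rx = dim_k S/Sx`. (The published statement allows `x = 0`;
then `R` is a field finite over `k` and the two sides are `dim_k R` and `dim_k S`, which differ for
`S = k ⊊ R`; the published proof multiplies by `x` as an injection, so `x ≠ 0` is assumed here.) -/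
theorem result
    (k R : Type*) [Field k] [CommRing R]
    [IsDomain R] [Algebra k R] (S : Subalgebra k R) (x : S) (hx : (x : R) ≠ 0)
    [Module.Finite k (R ⧸ Subalgebra.toSubmodule S)]
    [Module.Finite k (R ⧸ Ideal.span {(x : R)})] :
    Module.finrank k (R ⧸ Ideal.span {(x : R)}) = Module.finrank k (S ⧸ Ideal.span {x}) := by
  classical
  let S' : Submodule k R := Subalgebra.toSubmodule S
  let mulx : R →ₗ[k] R := LinearMap.mulLeft k (x : R)
  let xS : Submodule k R := S'.map mulx
  let g : R →ₗ[k] R ⧸ xS := xS.mkQ ∘ₗ mulx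
  let h : S →ₗ[k] R ⧸ xS := xS.mkQ ∘ₗ S.val.toLinearMap
  have hxS_le_S' : xS ≤ S' := by
    rintro _ ⟨s, hs, rfl⟩
    exact S.mul_mem x.2 hs
  have hxS_le_xR : ∀ y ∈ xS, y ∈ Ideal.span {(x : R)} := by
    rintro _ ⟨s, _, rfl⟩
    exact Ideal.mul_mem_right _ _ (Ideal.subset_span rfl)
  let π₁ : R ⧸ xS →ₗ[k] R ⧸ S' :=
    xS.liftQ S'.mkQ (by rw [Submodule.ker_mkQ]; exact hxS_le_S')
  let π₂ : R ⧸ xS →ₗ[k] R ⧸ Ideal.span {(x : R)} :=
    xS.liftQ (Ideal.Quotient.mkₐ k (Ideal.span {(x : R)})).toLinearMap (by
      intro y hy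
      rw [LinearMap.mem_ker]
      exact Ideal.Quotient.eq_zero_iff_mem.mpr (hxS_le_xR y hy))
  have hsurj1 : Function.Surjective π₁ := by
    rw [← LinearMap.range_eq_top, Submodule.range_liftQ, Submodule.range_mkQ]
  have hsurj2 : Function.Surjective π₂ := by
    rw [← LinearMap.range_eq_top, Submodule.range_liftQ, LinearMap.range_eq_top]
    exact Ideal.Quotient.mkₐ_surjective k _
  have hkerg : LinearMap.ker g = S' := by
    ext r
    rw [LinearMap.mem_ker, LinearMap.comp_apply, Submodule.mkQ_apply,
      Submodule.Quotient.mk_eq_zero]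
    constructor
    · rintro ⟨s, hs, hsr⟩
      have hsr' : (x : R) * s = (x : R) * r := hsr
      have : s = r := mul_left_cancel₀ hx hsr'
      exact this ▸ hs
    · intro hr
      exact ⟨r, hr, rfl⟩
  have hkerh : LinearMap.ker h = (Ideal.span {x}).restrictScalars k := by
    ext s
    rw [LinearMap.mem_ker, LinearMap.comp_apply, Submodule.mkQ_apply,
      Submodule.Quotient.mk_eq_zero, Submodule.restrictScalars_mem, Ideal.mem_span_singleton']
    constructor
    · rintro ⟨t, ht, hts⟩
      have hts' : (x : R) * t = (s : R) := hts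
      refine ⟨⟨t, ht⟩, ?_⟩
      apply Subtype.ext
      rw [Subalgebra.coe_mul, mul_comm]
      exact hts'
    · rintro ⟨t, rfl⟩
      refine ⟨(t : R), t.2, ?_⟩
      change (x : R) * (t : R) = ((t * x : S) : R)
      rw [Subalgebra.coe_mul, mul_comm]
  have hrangeh : LinearMap.range h = LinearMap.ker π₁ := by
    have h1 : LinearMap.range S.val.toLinearMap = S' := by
      ext r
      constructor
      · rintro ⟨s, rfl⟩
        exact s.2
      · intro hr
        exact ⟨⟨r, hr⟩, rfl⟩
    rw [LinearMap.range_comp, h1, Submodule.ker_liftQ, Submodule.ker_mkQ]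
  have hrangeg : LinearMap.range g = LinearMap.ker π₂ := by
    have h1 : LinearMap.range mulx =
        LinearMap.ker (Ideal.Quotient.mkₐ k (Ideal.span {(x : R)})).toLinearMap := by
      ext r
      rw [LinearMap.mem_ker]
      change r ∈ LinearMap.range mulx ↔ Ideal.Quotient.mk (Ideal.span {(x : R)}) r = 0
      rw [Ideal.Quotient.eq_zero_iff_mem, Ideal.mem_span_singleton']
      constructor
      · rintro ⟨t, rfl⟩
        exact ⟨t, mul_comm _ _⟩
      · rintro ⟨t, rfl⟩
        exact ⟨t, mul_comm _ _⟩
    rw [LinearMap.range_comp, h1, Submodule.ker_liftQ]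
  -- finiteness
  haveI hfin1 : Module.Finite k (R ⧸ LinearMap.ker g) := by
    rw [hkerg]; infer_instance
  haveI hfin2 : Module.Finite k (LinearMap.range g) :=
    Module.Finite.equiv (LinearMap.quotKerEquivRange g)
  haveI hfin3 : Module.Finite k (LinearMap.ker π₂) := by
    rw [← hrangeg]; infer_instance
  haveI hW : Module.Finite k (R ⧸ xS) :=
    Module.Finite.of_exact (LinearMap.exact_subtype_ker_map π₂) hsurj2
  -- dimension count
  have hA : Module.finrank k (LinearMap.range g) = Module.finrank k (R ⧸ S') := by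
    rw [← (LinearMap.quotKerEquivRange g).finrank_eq, hkerg]
  have hB : Module.finrank k (LinearMap.range h) = Module.finrank k (S ⧸ Ideal.span {x}) := by
    rw [← (LinearMap.quotKerEquivRange h).finrank_eq, hkerh]
    exact (Submodule.Quotient.restrictScalarsEquiv k (Ideal.span {x})).finrank_eq
  have e1 := LinearMap.finrank_range_add_finrank_ker π₁
  have e2 := LinearMap.finrank_range_add_finrank_ker π₂
  rw [LinearMap.range_eq_top.mpr hsurj1, finrank_top, ← hrangeh, hB] at e1
  rw [LinearMap.range_eq_top.mpr hsurj2, finrank_top, ← hrangeg, hA] at e2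
  omega

end Groth.Agent.S11049
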