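import Groth.Statements.S11054
import Groth.Agent.H16.Plane3
-- import your own Groth.Agent.* helpers here

set_option autoImplicit false
open FunFld

namespace Groth.Agent.S11054

/-- Over an algebraically closed constant field, a function field `K = k(x, y)` of genus `g` with plane
model `(1 : x : y)` of degree `d` has `g ≤ (d - 1)(d - 2)/2`. -/
theorem result
    (k K : Type*) [Field k] [IsAlgClosed k] [Field K] [Algebra k K]
    (hK : FunFld.IsFunctionField k K) (x y : K)
    (hxy : IntermediateField.adjoin k ({x, y} : Set K) = ⊤) :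
    2 * (FunFld.genus k K : ℤ) ≤
      ((FunFld.mapDiv k ![(1 : K), x, y]).deg - 1) *
        ((FunFld.mapDiv k ![(1 : K), x, y]).deg - 2) := by
  classical
  obtain ⟨c, hc⟩ := Groth.Agent.Helper16.Plane.exists_good_coord hK x y
  obtain ⟨x', hx'⟩ : ∃ x' : K, x' = x + algebraMap k K c * y := ⟨_, rfl⟩
  have hxy' : IntermediateField.adjoin k ({x', y} : Set K) = ⊤ := by
    rw [eq_top_iff, ← hxy, IntermediateField.adjoin_le_iff]
    have hy : y ∈ IntermediateField.adjoin k ({x', y} : Set K) :=
      IntermediateField.subset_adjoin k _ (by simp)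
    have hxm : x' ∈ IntermediateField.adjoin k ({x', y} : Set K) :=
      IntermediateField.subset_adjoin k _ (by simp)
    rintro z (rfl | rfl)
    · have e : z = x' - algebraMap k K c * y := by rw [hx']; ring
      rw [e]
      exact sub_mem hxm (mul_mem (IntermediateField.algebraMap_mem _ _) hy)
    · exact hy
  have hD : FunFld.mapDiv k ![(1 : K), x', y] = FunFld.mapDiv k ![(1 : K), x, y] := by
    ext P
    have h1 := Groth.Agent.Helper16.Plane.exp_mapDiv_one_xy hK x' y P
    have h2 := Groth.Agent.Helper16.Plane.exp_mapDiv_one_xy hK x y P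
    have h3 : max (P.1 x') (P.1 y) = max (P.1 x) (P.1 y) := by
      apply le_antisymm
      · refine max_le ?_ (le_max_right _ _)
        rw [hx']
        refine (P.1.map_add _ _).trans (max_le (le_max_left _ _) ?_)
        rw [map_mul]
        calc P.1 (algebraMap k K c) * P.1 y ≤ 1 * P.1 y := mul_le_mul' (P.2.1 c) le_rfl
          _ = P.1 y := one_mul _
          _ ≤ _ := le_max_right _ _
      · refine max_le ?_ (le_max_right _ _)
        have e : x = x' - algebraMap k K c * y := by rw [hx']; ring
        rw [e]
        refine (Valuation.map_sub _ _ _).trans (max_le (le_max_left _ _) ?_)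
        rw [map_mul]
        calc P.1 (algebraMap k K c) * P.1 y ≤ 1 * P.1 y := mul_le_mul' (P.2.1 c) le_rfl
          _ = P.1 y := one_mul _
          _ ≤ _ := le_max_right _ _
    rw [h3, ← h2] at h1
    exact WithZero.exp_injective h1
  rw [← hD]
  exact Groth.Agent.Helper16.Plane.genus_bound_aux hK x' y hxy' (fun P => by rw [hx']; exact hc P)

end Groth.Agent.S11054
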