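import Groth.Statements.S11055
import Groth.Agent.H16.Cond6
import Groth.Agent.S11078
import Groth.Agent.Lib.Helper17.FF22
-- import your own Groth.Agent.* helpers here

set_option autoImplicit false
open FunFld

namespace Groth.Agent.S11055

/-- Over an algebraically closed constant field, a projective map `φ = (φ₀, …, φₙ)`, `n ≥ 1`, with span
`W` and divisor `[φ]` is nonsingular at the place `P` if and only if `W ∩ L([φ] - P - Q)` has
codimension `2` in `W` for every place `Q`. Here a projective map is nonsingular at a place when its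
local ring there (quotients of polynomials over `k` in the ratios `φᵢ/φⱼ`, `φⱼ` of least order at
the place, with denominator a unit there) is the whole valuation ring. (The published statement is
for any projective map; the published proof uses the finiteness property of the local ring that is
established for birational maps, so `φ` is taken birational here: the ratios `φᵢ/φ₀` generate `K`
over `k`.) -/
theorem result
    (k K : Type*) [Field k] [IsAlgClosed k] [Field K] [Algebra k K]
    (hK : FunFld.IsFunctionField k K) {n : ℕ} (hn : 1 ≤ n)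
    (φ : Fin (n + 1) → K) (hφ : LinearIndependent k φ)
    (hbir : IntermediateField.adjoin k (Set.range fun i => φ i / φ 0) = ⊤) (P : FunFld.Place k K) :
    FunFld.IsNonsingularAt φ P ↔ ∀ Q : FunFld.Place k K,
      Module.finrank k ↥(Submodule.span k (Set.range φ) ⊓
          FunFld.L (FunFld.mapDiv k φ - Finsupp.single P 1 - Finsupp.single Q 1)) + 2 =
        Module.finrank k ↥(Submodule.span k (Set.range φ)) := by
  classical
  have hφ0 : ∀ i, φ i ≠ 0 := fun i => hφ.ne_zero i
  obtain ⟨j, hj⟩ := Finite.exists_max (fun i => P.1 (φ i))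
  have hmem : ∀ i, φ i / φ j ∈ Algebra.adjoin k (Set.range fun i => φ i / φ j) :=
    fun i => Algebra.subset_adjoin (Set.mem_range_self i)
  have hcex : ∀ i, ∃ c : k, P.1 (φ i / φ j - algebraMap k K c) < 1 := fun i =>
    Groth.Agent.Helper16.LLS.exists_const_sub_lt hK P (Groth.Agent.Helper16.Emb.A_le_O P φ hj (hmem i))
  choose c hc using hcex
  have hWL := Groth.Agent.Helper16.Emb.span_le_L_mapDiv hK φ hφ0
  haveI : FiniteDimensional k ↥(Submodule.span k (Set.range φ)) :=
    FiniteDimensional.span_of_finite k (Set.finite_range φ)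
  have hbpf : ∃ g ∈ Submodule.span k (Set.range φ), P.1 g = WithZero.exp (FunFld.mapDiv k φ P) := by
    obtain ⟨i, hi⟩ := Groth.Agent.Helper16.Emb.exists_val_eq_mapDiv hK φ hφ0 P
    exact ⟨φ i, Submodule.subset_span (Set.mem_range_self i), hi⟩
  have hjP' : P.1 (φ j) = WithZero.exp (FunFld.mapDiv k φ P) :=
    (Groth.Agent.Helper16.Emb.top_iff hK φ hφ0 P j).mp hj
  constructor
  · intro hns Q
    rw [Groth.Agent.Helper16.Emb.codim_two_iff hK (FunFld.mapDiv k φ) _ hWL P Q hbpf]
    by_cases hQP : Q = P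
    · subst hQP
      obtain ⟨t, ht⟩ := Groth.Agent.Helper17.FF.exists_uniformizer Q
      have htle : Q.1 t ≤ 1 := by
        rw [ht]
        calc WithZero.exp (-1 : ℤ) ≤ WithZero.exp (0 : ℤ) := WithZero.exp_le_exp.mpr (by norm_num)
          _ = 1 := WithZero.exp_zero
      have htloc := Groth.Agent.Helper16.Emb.locJ_of_inLocRing (hφ0 j) hj (hns t htle)
      obtain ⟨i, hi⟩ := Groth.Agent.Helper16.Emb.exists_section_param φ hj c hc htloc ht
      refine ⟨_, Groth.Agent.Helper16.Emb.g_mem_W φ i j (c i),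
        Groth.Agent.Helper16.Emb.g_mem_L hK φ hφ0 hj (hc i), ?_⟩
      apply Groth.Agent.Helper16.Emb.not_mem_of_val_eq
      have e : φ i - algebraMap k K (c i) * φ j = (φ i / φ j - algebraMap k K (c i)) * φ j := by
        field_simp [hφ0 j]
      rw [e, map_mul, hi, hjP', ← WithZero.exp_add, Finsupp.sub_apply, Finsupp.single_eq_same]
      congr 1
      ring
    · have hPQ : ¬ FunFld.SameImage φ P Q := by
        intro hS
        apply hQP
        apply Groth.Agent.Helper17.FF.place_eq_of_le
        intro x hx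
        exact (((Groth.Agent.S11078.result k K hK hn φ hφ P Q).mp hS) x (hns x hx)).1
      obtain ⟨i, hi⟩ := Groth.Agent.Helper16.Emb.exists_section_sep hK φ hφ0 hj c hc hPQ
      refine ⟨_, Groth.Agent.Helper16.Emb.g_mem_W φ i j (c i),
        Groth.Agent.Helper16.Emb.g_mem_L hK φ hφ0 hj (hc i), ?_⟩
      apply Groth.Agent.Helper16.Emb.not_mem_of_val_eq
      rw [hi, Finsupp.sub_apply, Finsupp.single_eq_of_ne (Ne.symm (Ne.symm hQP)), sub_zero]
  · intro H
    have hf : ∀ Q : FunFld.Place k K, ∃ f ∈ Submodule.span k (Set.range φ),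
        f ∈ FunFld.L (FunFld.mapDiv k φ - Finsupp.single P 1) ∧
        f ∉ FunFld.L (FunFld.mapDiv k φ - Finsupp.single P 1 - Finsupp.single Q 1) := fun Q =>
      (Groth.Agent.Helper16.Emb.codim_two_iff hK (FunFld.mapDiv k φ) _ hWL P Q hbpf).mp (H Q)
    -- the fibre is {P}
    have hfib : ∀ Q : FunFld.Place k K, FunFld.SameImage φ P Q → Q = P := by
      intro Q hS
      by_contra hne
      obtain ⟨f, hfW, hf1, hf2⟩ := hf Q
      obtain ⟨j₁, hj₁0, hj₁P, hj₁Q, hcc⟩ := hS
      choose c₁ hc₁P hc₁Q using hcc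
      have hfA := Groth.Agent.Helper16.Emb.div_mem_A' (k := k) φ j₁ hfW
      obtain ⟨c₀, a, ha, eu⟩ := Groth.Agent.Helper16.Emb.A_decomp φ j₁ c₁ hfA
      have hvP := Groth.Agent.Helper16.Emb.val_decomp P φ hj₁P c₁ hc₁P (c₀ := c₀) ha
      have hvQ := Groth.Agent.Helper16.Emb.val_decomp Q φ hj₁Q c₁ hc₁Q (c₀ := c₀) ha
      have hj₁P' : P.1 (φ j₁) = WithZero.exp (FunFld.mapDiv k φ P) :=
        (Groth.Agent.Helper16.Emb.top_iff hK φ hφ0 P j₁).mp hj₁P
      have hj₁Q' : Q.1 (φ j₁) = WithZero.exp (FunFld.mapDiv k φ Q) :=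
        (Groth.Agent.Helper16.Emb.top_iff hK φ hφ0 Q j₁).mp hj₁Q
      have hPlt : P.1 (f / φ j₁) < 1 := by
        have h1 := hf1 P
        rw [Finsupp.sub_apply, Finsupp.single_eq_same,
          ← Groth.Agent.Helper17.FF.val_lt_exp_iff_le, ← hj₁P'] at h1
        rw [map_div₀]
        exact (div_lt_one₀ (zero_lt_iff.mpr ((map_ne_zero P.1).mpr hj₁0))).mpr h1
      have hc₀ : c₀ = 0 := by
        by_contra hne0
        have := hvP.2 hne0
        rw [← eu] at this
        rw [this] at hPlt
        exact lt_irrefl _ hPlt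
      have hQlt : Q.1 (f / φ j₁) < 1 := by
        rw [eu]; exact hvQ.1 hc₀
      apply hf2
      intro R
      by_cases hR : R = Q
      · subst hR
        rw [Finsupp.sub_apply, Finsupp.sub_apply, Finsupp.single_eq_same,
          Finsupp.single_eq_of_ne (Ne.symm (Ne.symm hne)), sub_zero,
          ← Groth.Agent.Helper17.FF.val_lt_exp_iff_le, ← hj₁Q']
        rw [map_div₀] at hQlt
        exact (div_lt_one₀ (zero_lt_iff.mpr ((map_ne_zero R.1).mpr hj₁0))).mp hQlt
      · have := hf1 R
        rw [Finsupp.sub_apply (g₂ := Finsupp.single Q 1),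
          Finsupp.single_eq_of_ne (Ne.symm (Ne.symm hR)), sub_zero]
        exact this
    -- a local parameter
    obtain ⟨f, hfW, hf1, hf2⟩ := hf P
    have hfP := Groth.Agent.Helper16.Emb.val_eq_of_not_mem hf1 hf2
    have htA := Groth.Agent.Helper16.Emb.div_mem_A' (k := k) φ j hfW
    have htP : P.1 (f / φ j) = WithZero.exp (-1 : ℤ) := by
      rw [map_div₀, hfP, hjP', Finsupp.sub_apply, Finsupp.single_eq_same, ← WithZero.exp_sub]
      congr 1
      ring
    obtain ⟨N, hN⟩ := Groth.Agent.Helper16.Emb.locring_of_vanishing hK hn φ hφ hbir P hj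
    have hN' : ∀ z : K, P.1 z ≤ WithZero.exp (-(N : ℤ)) →
        Groth.Agent.Helper16.Emb.LocJ φ j P z := by
      intro z hz
      obtain ⟨h, hh, hhP, hzh⟩ := hN z (fun Q hQ => by rw [hfib Q hQ]; exact hz)
      exact ⟨z * h, hzh, h, hh, hhP, rfl⟩
    intro z hz
    exact (Groth.Agent.Helper16.Emb.locJ_of_param hK
      (Groth.Agent.Helper16.Emb.LocJ.of_mem htA) htP N hN' z hz).inLocRing (hφ0 j) hj

end Groth.Agent.S11055
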