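import Groth.Statements.S11065
import Groth.Agent.H16.Cond5
import Groth.Agent.S11078
import Groth.Agent.Lib.Helper17.FF22
-- import your own Groth.Agent.* helpers here

set_option autoImplicit false
open FunFld

namespace Groth.Agent.S11065

/-- Over an algebraically closed constant field, a projective map `φ = (φ₀, …, φₙ)`, `n ≥ 1`, is
nonsingular at the place `P` if and only if its local ring at `P` lies in the valuation ring of no
place other than `P` and contains a local parameter at `P`. Here the local ring of a projective map
at a place consists of the quotients of polynomials over `k` in the ratios `φᵢ/φⱼ`, `φⱼ` of least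
order at the place, with denominator a unit there; the map is nonsingular at the place when this
ring is the whole valuation ring. (The published statement is for any projective map; the published
proof uses the finiteness property of the local ring that is established for birational maps, so `φ`
is taken birational here: the ratios `φᵢ/φ₀` generate `K` over `k`.) -/
theorem result
    (k K : Type*) [Field k] [IsAlgClosed k] [Field K] [Algebra k K]
    (hK : FunFld.IsFunctionField k K) {n : ℕ} (hn : 1 ≤ n)
    (φ : Fin (n + 1) → K) (hφ : LinearIndependent k φ)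
    (hbir : IntermediateField.adjoin k (Set.range fun i => φ i / φ 0) = ⊤) (P : FunFld.Place k K) :
    FunFld.IsNonsingularAt φ P ↔
      (∀ Q : FunFld.Place k K, (∀ z : K, FunFld.InLocRing φ P z → Q.1 z ≤ 1) → Q = P) ∧
        ∃ t : K, FunFld.InLocRing φ P t ∧ P.1 t = WithZero.exp (-1) := by
  have hφ0 : ∀ i, φ i ≠ 0 := fun i => hφ.ne_zero i
  obtain ⟨j, hj⟩ := Finite.exists_max (fun i => P.1 (φ i))
  constructor
  · intro hns
    refine ⟨fun Q hQ => ?_, ?_⟩
    · exact Groth.Agent.Helper17.FF.place_eq_of_le (fun x hx => hQ x (hns x hx))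
    · obtain ⟨t, ht⟩ := Groth.Agent.Helper17.FF.exists_uniformizer P
      refine ⟨t, hns t ?_, ht⟩
      rw [ht]
      calc WithZero.exp (-1 : ℤ) ≤ WithZero.exp (0 : ℤ) := WithZero.exp_le_exp.mpr (by norm_num)
        _ = 1 := WithZero.exp_zero
  · rintro ⟨H1, t, htloc, htP⟩
    obtain ⟨N, hN⟩ := Groth.Agent.Helper16.Emb.locring_of_vanishing hK hn φ hφ hbir P hj
    have hfib : ∀ Q : FunFld.Place k K, FunFld.SameImage φ P Q → Q = P := fun Q hQ =>
      H1 Q (fun z hz => (((Groth.Agent.S11078.result k K hK hn φ hφ P Q).mp hQ) z hz).1)
    have hN' : ∀ z : K, P.1 z ≤ WithZero.exp (-(N : ℤ)) →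
        Groth.Agent.Helper16.Emb.LocJ φ j P z := by
      intro z hz
      obtain ⟨h, hh, hhP, hzh⟩ := hN z (fun Q hQ => by rw [hfib Q hQ]; exact hz)
      exact ⟨z * h, hzh, h, hh, hhP, rfl⟩
    intro z hz
    exact (Groth.Agent.Helper16.Emb.locJ_of_param hK
      (Groth.Agent.Helper16.Emb.locJ_of_inLocRing (hφ0 j) hj htloc) htP N hN' z hz).inLocRing
      (hφ0 j) hj

end Groth.Agent.S11065
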