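import Groth.Statements.S11066
import Groth.Agent.H16.LocRing
-- import your own Groth.Agent.* helpers here

set_option autoImplicit false
open FunFld

namespace Groth.Agent.S11066

/-- Over an algebraically closed constant field, for an effective projective map `φ` normalized at the
place `P` (`1` in the span of the entries, all entries integral at `P`), the local ring of `φ` at
`P` has an element of order one at `P` (a local parameter) exactly when the span of the entries has
one. The local ring consists of the quotients of polynomials over `k` in the ratios `φᵢ/φⱼ`, `φⱼ` of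
least order at `P`, with denominator a unit at `P`. -/
theorem result
    (k K : Type*) [Field k] [IsAlgClosed k] [Field K] [Algebra k K]
    (hK : FunFld.IsFunctionField k K) {n : ℕ} (φ : Fin (n + 1) → K)
    (P : FunFld.Place k K) (heff : (1 : K) ∈ Submodule.span k (Set.range φ))
    (hnorm : ∀ i, P.1 (φ i) ≤ 1) :
    (∃ t : K, FunFld.InLocRing φ P t ∧ P.1 t = WithZero.exp (-1)) ↔
      ∃ t ∈ Submodule.span k (Set.range φ), P.1 t = WithZero.exp (-1) := by
  classical
  have hε : (WithZero.exp (-1 : ℤ) : WithZero (Multiplicative ℤ)) < 1 :=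
    Groth.Agent.Helper17.FF.exp_neg_one_lt_one
  -- top valuation is one
  have htop : ∀ j, (∀ i, P.1 (φ i) ≤ P.1 (φ j)) → P.1 (φ j) = 1 := by
    intro j hj
    have h1 := Groth.Agent.Helper16.Emb.val_span_le P φ hj heff
    rw [map_one] at h1
    exact le_antisymm (hnorm j) h1
  constructor
  · rintro ⟨t, ⟨j, hj0, hj, u, hu, w, hw, hwP, htw⟩, htP⟩
    have hφj := htop j hj
    have huP : P.1 u = WithZero.exp (-1) := by
      rw [← htw, map_mul, hwP, mul_one, htP]
    -- residues of the coordinates
    have hx : ∀ i, P.1 (φ i / φ j) ≤ 1 := by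
      intro i
      rw [map_div₀, hφj, div_one]
      exact hnorm i
    choose c hc using fun i => Groth.Agent.Helper16.LLS.exists_const_sub_lt hK P (hx i)
    obtain ⟨c₀, a, ha, hua⟩ := Groth.Agent.Helper16.Emb.A_decomp φ j c hu
    have haO : ∀ i, P.1 (a i) ≤ 1 := fun i => Groth.Agent.Helper16.Emb.A_le_O P φ hj (ha i)
    by_contra hcon
    push Not at hcon
    -- all `φ i - c i φ j` have valuation `< exp (-1)`
    have hy : ∀ i, P.1 (φ i / φ j - algebraMap k K (c i)) < WithZero.exp (-1) := by
      intro i
      have hmem : φ i - c i • φ j ∈ Submodule.span k (Set.range φ) :=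
        Submodule.sub_mem _ (Submodule.subset_span ⟨i, rfl⟩)
          (Submodule.smul_mem _ _ (Submodule.subset_span ⟨j, rfl⟩))
      have hne := hcon _ hmem
      have e : φ i - c i • φ j = (φ i / φ j - algebraMap k K (c i)) * φ j := by
        rw [Algebra.smul_def]; field_simp
      rw [e, map_mul, hφj, mul_one] at hne
      have hle : P.1 (φ i / φ j - algebraMap k K (c i)) ≤ WithZero.exp (-1) := by
        have h' : P.1 (φ i / φ j - algebraMap k K (c i)) < WithZero.exp (0 : ℤ) := by
          rw [WithZero.exp_zero]; exact hc i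
        have := (Groth.Agent.Helper17.FF.val_lt_exp_iff_le P _ 0).mp h'
        simpa using this
      exact lt_of_le_of_ne hle hne
    have hsum : P.1 (∑ i, a i * (φ i / φ j - algebraMap k K (c i))) < WithZero.exp (-1) := by
      apply Valuation.map_sum_lt _ WithZero.exp_ne_zero
      intro i _
      rw [map_mul]
      calc P.1 (a i) * P.1 (φ i / φ j - algebraMap k K (c i))
          ≤ 1 * P.1 (φ i / φ j - algebraMap k K (c i)) := mul_le_mul' (haO i) le_rfl
        _ < WithZero.exp (-1) := by rw [one_mul]; exact hy i
    have hc₀ : c₀ = 0 := by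
      by_contra hne
      have h1 : P.1 (algebraMap k K c₀) = 1 := Groth.Agent.Helper17.FF.val_const P hne
      have h2 : P.1 u = 1 := by
        rw [hua, Valuation.map_add_eq_of_lt_left _ (by rw [h1]; exact hsum.trans hε), h1]
      rw [huP] at h2
      exact absurd h2 (ne_of_lt hε)
    rw [hua, hc₀, map_zero, zero_add] at huP
    rw [huP] at hsum
    exact lt_irrefl _ hsum
  · rintro ⟨t, ht, htP⟩
    obtain ⟨j, hj⟩ := Finite.exists_max (fun i => P.1 (φ i))
    have hφj := htop j hj
    have hj0 : φ j ≠ 0 := by
      rintro h0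
      rw [h0, map_zero] at hφj
      exact zero_ne_one hφj
    refine ⟨t, ⟨j, hj0, hj, t / φ j, Groth.Agent.Helper16.Emb.div_mem_A' φ j ht, 1 / φ j,
      Groth.Agent.Helper16.Emb.div_mem_A' φ j heff, ?_, by ring⟩, htP⟩
    rw [map_div₀, map_one, hφj, div_one]

end Groth.Agent.S11066
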