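import Groth.Statements.S11067
import Groth.Agent.H16.PI2
-- import your own Groth.Agent.* helpers here

set_option autoImplicit false
open FunFld

namespace Groth.Agent.S11067

/-- Over an algebraically closed constant field, for a plane curve with natural map `(1 : x : y)` (so `K
= k(x, y)`) and `y` integral over `k[x]`, the ring `k[x, y]` is the intersection of the rings
`O_P[y]` over the places `P` of `k(x)` at which `x` is integral. -/
theorem result
    (k K : Type*) [Field k] [IsAlgClosed k] [Field K] [Algebra k K]
    (hK : FunFld.IsFunctionField k K) (x y : K) (hx : Transcendental k x)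
    (hxy : IntermediateField.adjoin k ({x, y} : Set K) = ⊤)
    (hy : IsIntegral (Algebra.adjoin k ({x} : Set K)) y) :
    (Algebra.adjoin k ({x, y} : Set K) : Set K) =
      ⋂ (P : FunFld.Place k (IntermediateField.adjoin k ({x} : Set K)))
        (_ : P.1 ⟨x, IntermediateField.mem_adjoin_simple_self k x⟩ ≤ 1),
        (Subring.closure
          ((algebraMap (IntermediateField.adjoin k ({x} : Set K)) K '' (P.O : Set _)) ∪ {y}) :
          Set K) := by
  classical
  have hxF : x ∈ IntermediateField.adjoin k ({x} : Set K) :=
    IntermediateField.mem_adjoin_simple_self k x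
  have hF : FunFld.IsFunctionField k (IntermediateField.adjoin k ({x} : Set K)) :=
    Groth.Agent.Helper17.FF.isFunctionField_intermediateField hK _ ⟨x, hxF, hx⟩
  have hxFt : Transcendental k (⟨x, hxF⟩ : IntermediateField.adjoin k ({x} : Set K)) := by
    have h1 : Transcendental k (algebraMap (IntermediateField.adjoin k ({x} : Set K)) K
        (⟨x, hxF⟩ : IntermediateField.adjoin k ({x} : Set K))) := hx
    exact (transcendental_algebraMap_iff
      (algebraMap (IntermediateField.adjoin k ({x} : Set K)) K).injective).1 h1
  have hcoe : ∀ p : Polynomial k, algebraMap (IntermediateField.adjoin k ({x} : Set K)) K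
      (Polynomial.aeval (⟨x, hxF⟩ : IntermediateField.adjoin k ({x} : Set K)) p) =
      Polynomial.aeval x p := by
    intro p
    have h1 := Polynomial.aeval_algebraMap_apply K
      (⟨x, hxF⟩ : IntermediateField.adjoin k ({x} : Set K)) p
    exact h1.symm
  refine Groth.Agent.Helper16.PI.main' hF ⟨x, hxF⟩ hxFt x y rfl ?_
  intro u
  have hmem : (u : K) ∈ IntermediateField.adjoin k ({x} : Set K) := u.2
  rw [IntermediateField.mem_adjoin_simple_iff] at hmem
  obtain ⟨r, s, hrs⟩ := hmem
  by_cases hs0 : Polynomial.aeval x s = 0
  · rw [hs0, div_zero] at hrs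
    refine ⟨0, 1, by simp, ?_⟩
    have hu0 : u = 0 := Subtype.ext hrs
    rw [hu0]; simp
  · refine ⟨r, s, ?_, ?_⟩
    · intro h0
      apply hs0
      rw [← hcoe, h0, map_zero]
    · apply (algebraMap (IntermediateField.adjoin k ({x} : Set K)) K).injective
      rw [map_mul, hcoe, hcoe]
      show (u : K) * _ = _
      rw [hrs, div_mul_cancel₀ _ hs0]

end Groth.Agent.S11067
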