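import Groth.Statements.S11072
import Groth.Agent.H16.Proj4
-- import your own Groth.Agent.* helpers here

set_option autoImplicit false
open FunFld

namespace Groth.Agent.S11072

/-- Over an algebraically closed constant field, a plane curve with defining irreducible homogeneous
polynomial `f` and birational natural map `φ = (φ₀ : φ₁ : φ₂)` is singular at the point `a = φ(P)`
(coordinates `(φᵢ/φⱼ)(P)` for an entry `φⱼ` of least order at `P`, read in the residue field) if and
only if `∂f/∂Xᵢ(a) = 0` for `i = 0, 1, 2`. Here `φ` is nonsingular at `P` when its local ring there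
(quotients of polynomials over `k` in the `φᵢ/φⱼ` with denominator a unit at `P`) is the whole
valuation ring. -/
theorem result (k K : Type*) [Field k] [IsAlgClosed k] [Field K] [Algebra k K]
    (hK : FunFld.IsFunctionField k K) (φ : Fin 3 → K)
    (hφ : LinearIndependent k φ)
    (hbir : IntermediateField.adjoin k (Set.range fun i => φ i / φ 0) = ⊤)
    (f : MvPolynomial (Fin 3) k) (hf : Irreducible f) (hhom : f.IsHomogeneous f.totalDegree)
    (hfφ : MvPolynomial.aeval φ f = 0) (P : FunFld.Place k K) (j : Fin 3)
    (hj : ∀ i, P.1 (φ i) ≤ P.1 (φ j)) (a : Fin 3 → P.O) (ha : ∀ i, ((a i : P.O) : K) = φ i / φ j) :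
    ¬ FunFld.IsNonsingularAt φ P ↔
      ∀ l : Fin 3, MvPolynomial.aeval (fun i => IsLocalRing.residue P.O (a i))
        (MvPolynomial.pderiv l f) = 0 := by
  obtain ⟨γ, hγ⟩ := Groth.Agent.Helper16.Plane.exists_point hK φ j (hφ.ne_zero j) P hj
  have hres : (fun i => IsLocalRing.residue P.O (a i)) =
      fun i => algebraMap k (IsLocalRing.ResidueField P.O) (γ i) :=
    funext fun i => Groth.Agent.Helper16.Plane.residue_eq_point P (a i) (ha i) (γ i) (hγ i)
  have key : ∀ l : Fin 3, MvPolynomial.aeval (fun i => IsLocalRing.residue P.O (a i))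
      (MvPolynomial.pderiv l f) = 0 ↔ MvPolynomial.eval γ (MvPolynomial.pderiv l f) = 0 := by
    intro l
    rw [hres, Groth.Agent.Helper16.Plane.aeval_residue_eq]
    exact map_eq_zero_iff _ (RingHom.injective _)
  constructor
  · intro hns l
    by_contra hne
    apply hns
    exact Groth.Agent.Helper16.Proj.nonsingular_of_pderiv_ne_zero hK φ hφ hbir f hhom hfφ P j hj γ hγ l
      ((key l).not.mp hne)
  · intro hall hns
    obtain ⟨l, hl⟩ := Groth.Agent.Helper16.Proj.pderiv_ne_zero_of_nonsingular hK φ hφ f hf hhom hfφ
      P j hj γ hγ hns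
    exact hl ((key l).mp (hall l))

end Groth.Agent.S11072
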