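import Groth.Statements.S11075
import Groth.Agent.H16.Cond
-- import your own Groth.Agent.* helpers here

set_option autoImplicit false
open FunFld

namespace Groth.Agent.S11075

/-- Over an algebraically closed constant field, let `φ = (φ₀, …, φₙ)`, `n ≥ 1`, be a projective map
onto the curve `V`. (a) A homogeneous `g` not vanishing identically on `V` vanishes at the image
point of only finitely many places (so a closed set not containing `V` meets `V` in a finite set);
(b) each fibre of `φ` is finite. Here `g` vanishes at `φ(P)` when `g(φ₀/φⱼ, …, φₙ/φⱼ)` lies in the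
maximal ideal of `P` for an entry `φⱼ` of least order at `P`. Two places have the same image point
when some entry `φⱼ` has least order at both and each `φᵢ/φⱼ` is congruent to one constant modulo
both maximal ideals. -/
theorem result (k K : Type*) [Field k] [IsAlgClosed k] [Field K] [Algebra k K]
    (hK : FunFld.IsFunctionField k K) {n : ℕ} (hn : 1 ≤ n)
    (φ : Fin (n + 1) → K) (hφ : LinearIndependent k φ) :
    (∀ g : MvPolynomial (Fin (n + 1)) k, g.IsHomogeneous g.totalDegree →
      MvPolynomial.aeval φ g ≠ 0 →
        {P : FunFld.Place k K | ∃ j, φ j ≠ 0 ∧ (∀ i, P.1 (φ i) ≤ P.1 (φ j)) ∧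
          P.1 (MvPolynomial.aeval (fun i => φ i / φ j) g) < 1}.Finite) ∧
    ∀ P : FunFld.Place k K, {Q : FunFld.Place k K | FunFld.SameImage φ P Q}.Finite := by
  have hφ0 : ∀ i, φ i ≠ 0 := fun i => hφ.ne_zero i
  constructor
  · intro g hg hy
    set y := MvPolynomial.aeval φ g with hy_def
    -- the set is contained in the places where y or some φ i is not a unit
    have hfin : ({P : FunFld.Place k K | P.1 y ≠ 1} ∪
        ⋃ i, {P : FunFld.Place k K | P.1 (φ i) ≠ 1}).Finite := by
      refine Set.Finite.union (Groth.Agent.Helper16.Emb.finite_val_ne_one hK hy) ?_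
      exact Set.finite_iUnion (fun i => Groth.Agent.Helper16.Emb.finite_val_ne_one hK (hφ0 i))
    refine hfin.subset ?_
    rintro P ⟨j, hj0, hjtop, hlt⟩
    by_contra hnot
    simp only [Set.mem_union, Set.mem_setOf_eq, Set.mem_iUnion, not_or, not_exists, not_not] at hnot
    obtain ⟨h1, h2⟩ := hnot
    have e : (fun i => φ i / φ j) = fun i => (φ j)⁻¹ * φ i := by
      funext i; rw [div_eq_inv_mul]
    rw [e, Groth.Agent.Helper16.Emb.aeval_smul_of_homogeneous g hg φ (φ j)⁻¹, map_mul, map_pow,
      map_inv₀, h2 j, inv_one, one_pow, one_mul, ← hy_def, h1] at hlt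
    exact lt_irrefl _ hlt
  · intro P
    -- for each index j, the part of the fibre using j is finite
    have hsub : {Q : FunFld.Place k K | FunFld.SameImage φ P Q} ⊆
        ⋃ j : Fin (n + 1), {Q : FunFld.Place k K | (∀ i, P.1 (φ i) ≤ P.1 (φ j)) ∧
          (∀ i, Q.1 (φ i) ≤ Q.1 (φ j)) ∧
          ∀ i, ∃ c : k, P.1 (φ i / φ j - algebraMap k K c) < 1 ∧
            Q.1 (φ i / φ j - algebraMap k K c) < 1} := by
      rintro Q ⟨j, -, h1, h2, h3⟩
      exact Set.mem_iUnion.mpr ⟨j, h1, h2, h3⟩
    refine (Set.finite_iUnion (fun j => ?_)).subset hsub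
    -- pick i ≠ j
    obtain ⟨i, hij⟩ : ∃ i : Fin (n + 1), i ≠ j := by
      by_cases h0 : j = 0
      · exact ⟨⟨1, by omega⟩, by rw [h0]; intro h; simpa using congrArg Fin.val h⟩
      · exact ⟨0, fun h => h0 h.symm⟩
    -- x = φ i / φ j is not constant
    have hxc : ∀ c : k, φ i / φ j - algebraMap k K c ≠ 0 := by
      intro c hc
      have h1 : φ i = c • φ j := by
        rw [Algebra.smul_def]
        have := sub_eq_zero.mp hc
        field_simp [hφ0 j] at this
        rw [this, mul_comm]
      have hli := hφ
      rw [Fintype.linearIndependent_iff] at hli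
      have := hli (fun l => if l = i then (1 : k) else if l = j then -c else 0) (by
        rw [Finset.sum_eq_add_of_mem i j (Finset.mem_univ _) (Finset.mem_univ _) hij]
        · simp only [if_true, if_neg hij.symm]
          rw [h1]
          simp
        · intro l _ hl
          simp only [if_neg hl.1, if_neg hl.2, zero_smul]) i
      simp at this
    by_cases hex : ∃ c : k, P.1 (φ i / φ j - algebraMap k K c) < 1
    · obtain ⟨c₀, hc₀⟩ := hex
      refine (Groth.Agent.Helper16.Emb.finite_val_ne_one hK (hxc c₀)).subset ?_
      rintro Q ⟨-, -, h3⟩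
      obtain ⟨c, hcP, hcQ⟩ := h3 i
      have hcc : c = c₀ := by
        by_contra hne
        have h1 : P.1 (algebraMap k K (c₀ - c)) < 1 := by
          have e : algebraMap k K (c₀ - c) =
              (φ i / φ j - algebraMap k K c) - (φ i / φ j - algebraMap k K c₀) := by
            rw [map_sub]; ring
          rw [e]
          exact lt_of_le_of_lt (Valuation.map_sub _ _ _) (max_lt hcP hc₀)
        rw [Groth.Agent.Helper17.FF.val_const P (sub_ne_zero.mpr (Ne.symm hne))] at h1
        exact lt_irrefl _ h1
      rw [hcc] at hcQ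
      exact ne_of_lt hcQ
    · convert Set.finite_empty
      ext Q
      simp only [Set.mem_setOf_eq, Set.mem_empty_iff_false, iff_false]
      rintro ⟨-, -, h3⟩
      obtain ⟨c, hcP, -⟩ := h3 i
      exact hex ⟨c, hcP⟩

end Groth.Agent.S11075
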