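import Groth.Statements.S11076
import Groth.Agent.H16.Cond8
import Groth.Agent.S11078
import Groth.Agent.S11075
import Groth.Agent.Lib.Helper17.FF22
-- import your own Groth.Agent.* helpers here

set_option autoImplicit false
open FunFld

namespace Groth.Agent.S11076

/-- Over an algebraically closed constant field, a projective curve (given by a birational projective
map `φ = (φ₀, …, φₙ)`, `n ≥ 1`) is nonsingular at the point `a = φ(P)` if and only if some
hyperplane `∑ cᵢ Xᵢ` has intersection multiplicity `1` with it at `a`: the sum over the places `Q`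
of the fibre of `a` of `[φ](Q) + ord_Q(∑ cᵢ φᵢ)` is `1`. Nonsingular at `P` means that the local
ring of `φ` at `P` (quotients of polynomials over `k` in the `φᵢ/φⱼ`, `φⱼ` of least order at `P`,
denominator a unit at `P`) is the whole valuation ring. Two places have the same image point when
some entry `φⱼ` has least order at both and each `φᵢ/φⱼ` is congruent to one constant modulo both
maximal ideals. -/
theorem result (k K : Type*) [Field k] [IsAlgClosed k] [Field K] [Algebra k K]
    (hK : FunFld.IsFunctionField k K) {n : ℕ} (hn : 1 ≤ n)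
    (φ : Fin (n + 1) → K) (hφ : LinearIndependent k φ)
    (hbir : IntermediateField.adjoin k (Set.range fun i => φ i / φ 0) = ⊤)
    (P : FunFld.Place k K) :
    FunFld.IsNonsingularAt φ P ↔ ∃ c : Fin (n + 1) → k, ∑ i, c i • φ i ≠ 0 ∧
      ∑ᶠ Q ∈ {Q : FunFld.Place k K | FunFld.SameImage φ P Q},
        ((FunFld.mapDiv k φ) Q + Q.ord (∑ i, c i • φ i)) = 1 := by
  classical
  have hφ0 : ∀ i, φ i ≠ 0 := fun i => hφ.ne_zero i
  obtain ⟨j, hj⟩ := Finite.exists_max (fun i => P.1 (φ i))
  have hmem : ∀ i, φ i / φ j ∈ Algebra.adjoin k (Set.range fun i => φ i / φ j) :=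
    fun i => Algebra.subset_adjoin (Set.mem_range_self i)
  have hcex : ∀ i, ∃ c : k, P.1 (φ i / φ j - algebraMap k K c) < 1 := fun i =>
    Groth.Agent.Helper16.LLS.exists_const_sub_lt hK P (Groth.Agent.Helper16.Emb.A_le_O P φ hj (hmem i))
  choose c hc using hcex
  have hfin := (Groth.Agent.S11075.result k K hK hn φ hφ).2 P
  have hjP' : P.1 (φ j) = WithZero.exp (FunFld.mapDiv k φ P) :=
    (Groth.Agent.Helper16.Emb.top_iff hK φ hφ0 P j).mp hj
  constructor
  · intro hns
    have hfib : {Q : FunFld.Place k K | FunFld.SameImage φ P Q} = {P} := by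
      ext Q
      simp only [Set.mem_setOf_eq, Set.mem_singleton_iff]
      constructor
      · intro hS
        apply Groth.Agent.Helper17.FF.place_eq_of_le
        intro x hx
        exact (((Groth.Agent.S11078.result k K hK hn φ hφ P Q).mp hS) x (hns x hx)).1
      · rintro rfl
        exact Groth.Agent.Helper16.Emb.sameImage_refl hK φ hφ0 Q
    obtain ⟨t, ht⟩ := Groth.Agent.Helper17.FF.exists_uniformizer P
    have htle : P.1 t ≤ 1 := by
      rw [ht]
      calc WithZero.exp (-1 : ℤ) ≤ WithZero.exp (0 : ℤ) := WithZero.exp_le_exp.mpr (by norm_num)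
        _ = 1 := WithZero.exp_zero
    have htloc := Groth.Agent.Helper16.Emb.locJ_of_inLocRing (hφ0 j) hj (hns t htle)
    obtain ⟨i, hi⟩ := Groth.Agent.Helper16.Emb.exists_section_param φ hj c hc htloc ht
    have esum : ∑ l, ((if l = i then (1 : k) else 0) - (if l = j then c i else 0)) • φ l =
        φ i - algebraMap k K (c i) * φ j := by
      simp only [sub_smul]
      rw [Finset.sum_sub_distrib]
      simp only [ite_smul, one_smul, zero_smul, Finset.sum_ite_eq', Finset.mem_univ, if_true]
      rw [Algebra.smul_def]
    have hval : P.1 (φ i - algebraMap k K (c i) * φ j) =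
        WithZero.exp (FunFld.mapDiv k φ P - 1) := by
      have e : φ i - algebraMap k K (c i) * φ j = (φ i / φ j - algebraMap k K (c i)) * φ j := by
        field_simp [hφ0 j]
      rw [e, map_mul, hi, hjP', ← WithZero.exp_add]
      congr 1
      ring
    have hf0 : φ i - algebraMap k K (c i) * φ j ≠ 0 := by
      intro h0
      rw [h0, map_zero] at hval
      exact WithZero.exp_ne_zero hval.symm
    refine ⟨fun l => (if l = i then (1 : k) else 0) - (if l = j then c i else 0), ?_, ?_⟩
    · rw [esum]; exact hf0
    · rw [hfib, finsum_mem_singleton, esum]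
      rw [Groth.Agent.Helper17.FF.val_eq_exp_neg_ord P hf0] at hval
      have := WithZero.exp_injective hval
      linarith
  · rintro ⟨cc, hf0, hsum⟩
    have hfW : ∑ i, cc i • φ i ∈ Submodule.span k (Set.range φ) :=
      Submodule.sum_mem _ (fun i _ => Submodule.smul_mem _ _
        (Submodule.subset_span (Set.mem_range_self i)))
    obtain ⟨hfib, hfP⟩ :=
      Groth.Agent.Helper16.Emb.fibre_singleton_of_mult_one hK φ hφ0 hfW hf0 hfin hsum
    have htA := Groth.Agent.Helper16.Emb.div_mem_A' (k := k) φ j hfW
    have htP : P.1 ((∑ i, cc i • φ i) / φ j) = WithZero.exp (-1 : ℤ) := by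
      rw [map_div₀, hfP, hjP', ← WithZero.exp_sub]
      congr 1
      ring
    exact Groth.Agent.Helper16.Emb.nonsingular_of_fibre_param hK hn φ hφ hbir hfib hj htA htP

end Groth.Agent.S11076
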