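import Groth.Statements.S11079
import Mathlib

set_option autoImplicit false
universe u
open CAlg

namespace Groth.Agent.S11079

section
variable {K L : Type u} [Field K] [Field L] [Algebra K L] [FiniteDimensional K L]

/-- Dedekind independence for the Galois group. -/
theorem dedekind (g : (L ≃ₐ[K] L) → L) (h : ∀ l : L, ∑ σ, g σ * σ l = 0) : ∀ σ, g σ = 0 := by
  have hli := linearIndependent_toLinearMap K L L
  have hinj : Function.Injective (fun σ : L ≃ₐ[K] L => (σ : L →ₐ[K] L)) := by
    intro σ τ hστ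
    ext x
    exact congrArg (fun f : L →ₐ[K] L => f x) hστ
  have hli' := hli.comp _ hinj
  rw [Fintype.linearIndependent_iff] at hli'
  apply hli' g
  ext l
  simp only [Function.comp_apply, LinearMap.coe_sum, Finset.sum_apply, LinearMap.smul_apply,
    AlgHom.toLinearMap_apply, AlgEquiv.coe_algHom, smul_eq_mul, LinearMap.zero_apply]
  exact h l

variable {n : ℕ} (B : (L ≃ₐ[K] L) → GL (Fin n) L)

/-- The averaging operator on vectors. -/
noncomputable def b (x : Fin n → L) : Fin n → L :=
  ∑ τ : L ≃ₐ[K] L, (B τ : Matrix (Fin n) (Fin n) L).mulVec (fun i => τ (x i))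

theorem span_b : Submodule.span L (Set.range (b B)) = ⊤ := by
  by_contra hne
  obtain ⟨φ, hφ, hle⟩ := Submodule.exists_le_ker_of_lt_top _ (lt_top_iff_ne_top.mpr hne)
  apply hφ
  have hzero : ∀ x : Fin n → L, φ (b B x) = 0 := fun x =>
    LinearMap.mem_ker.mp (hle (Submodule.subset_span ⟨x, rfl⟩))
  have key : ∀ (x : Fin n → L) (τ : L ≃ₐ[K] L),
      φ ((B τ : Matrix (Fin n) (Fin n) L).mulVec (fun i => τ (x i))) = 0 := by
    intro x
    apply dedekind
    intro l
    have h := hzero (l • x)
    rw [b, map_sum] at h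
    rw [← h]
    apply Finset.sum_congr rfl
    intro τ _
    have : (fun i => τ ((l • x) i)) = τ l • (fun i => τ (x i)) := by
      ext i
      simp
    rw [this, Matrix.mulVec_smul, map_smul, smul_eq_mul, mul_comm]
  -- use τ = 1
  have h1 : ∀ x : Fin n → L, φ ((B 1 : Matrix (Fin n) (Fin n) L).mulVec x) = 0 := by
    intro x
    have := key x 1
    simpa using this
  refine LinearMap.ext fun y => ?_
  rw [LinearMap.zero_apply]
  have hy : y = (B 1 : Matrix (Fin n) (Fin n) L).mulVec
      ((((B 1)⁻¹ : GL (Fin n) L) : Matrix (Fin n) (Fin n) L).mulVec y) := by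
    rw [Matrix.mulVec_mulVec, ← Units.val_mul, mul_inv_cancel, Units.val_one, Matrix.one_mulVec]
  rw [hy]
  exact h1 _

/-- The averaging operator on matrices. -/
noncomputable def avg (C : Matrix (Fin n) (Fin n) L) : Matrix (Fin n) (Fin n) L :=
  ∑ τ : L ≃ₐ[K] L, (B τ : Matrix (Fin n) (Fin n) L) * C.map τ

theorem avg_col (C : Matrix (Fin n) (Fin n) L) (j : Fin n) :
    (avg B C).col j = b B (fun i => C i j) := by
  ext i
  simp only [Matrix.col_apply, avg, b, Matrix.sum_apply, Finset.sum_apply, Matrix.mul_apply,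
    Matrix.map_apply, Matrix.mulVec, dotProduct]

theorem exists_isUnit_avg : ∃ C : Matrix (Fin n) (Fin n) L, IsUnit (avg B C) := by
  classical
  have hS : ⊤ ≤ Submodule.span L (Set.range (b B)) := (span_b B).ge
  obtain ⟨ι, bs, hbs⟩ : ∃ (ι : Type u) (bs : Module.Basis ι L (Fin n → L)),
      Set.range bs ⊆ Set.range (b B) := ⟨_, Module.Basis.ofSpan hS, Module.Basis.ofSpan_subset hS⟩
  haveI : Fintype ι := FiniteDimensional.fintypeBasisIndex bs
  have hcard : Fintype.card ι = n := by
    rw [← Module.finrank_eq_card_basis bs, Module.finrank_fin_fun]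
  let e := Fintype.equivFinOfCardEq hcard
  have hmem : ∀ j : Fin n, ∃ x : Fin n → L, b B x = bs (e.symm j) := fun j =>
    hbs ⟨e.symm j, rfl⟩
  choose x hx using hmem
  refine ⟨Matrix.of fun i j => x j i, ?_⟩
  rw [← Matrix.linearIndependent_cols_iff_isUnit]
  have hcol : (avg B (Matrix.of fun i j => x j i)).col = fun j => bs (e.symm j) := by
    funext j
    rw [avg_col]
    exact hx j
  rw [hcol]
  exact bs.linearIndependent.comp _ e.symm.injective

theorem avg_cocycle
    (hB : ∀ σ τ : L ≃ₐ[K] L,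
      (B σ : Matrix (Fin n) (Fin n) L) * (B τ : Matrix (Fin n) (Fin n) L).map σ =
        (B (σ * τ) : Matrix (Fin n) (Fin n) L))
    (C : Matrix (Fin n) (Fin n) L) (σ : L ≃ₐ[K] L) :
    (B σ : Matrix (Fin n) (Fin n) L) * (avg B C).map σ = avg B C := by
  have hmap : ∀ M : Matrix (Fin n) (Fin n) L, M.map σ = (σ : L →+* L).mapMatrix M := fun M => rfl
  rw [hmap, avg, map_sum, Finset.mul_sum]
  rw [← Equiv.sum_comp (Equiv.mulLeft σ) (fun τ => (B τ : Matrix (Fin n) (Fin n) L) * C.map τ)]
  apply Finset.sum_congr rfl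
  intro τ _
  rw [map_mul, ← mul_assoc, ← hmap, ← hmap, hB σ τ]
  congr 1
end

/-- Let L/K be a finite Galois extension of fields, n a natural number, and B a map from the Galois
group of L over K to the invertible n × n matrices over L such that B(σ) · σ(B(τ)) = B(στ) for all
σ, τ, where σ acts on matrices entrywise and στ is the automorphism applying τ first. Then there is
an invertible matrix A over L with B(σ) = A⁻¹ · σ(A) for every σ; that is, every 1-cocycle of the
Galois group with values in GL_n(L) is a coboundary. -/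
theorem result (K L : Type u) [Field K] [Field L]
    [Algebra K L] [FiniteDimensional K L] [IsGalois K L] (n : ℕ)
    (B : (L ≃ₐ[K] L) → GL (Fin n) L)
    (hB : ∀ σ τ : L ≃ₐ[K] L,
      (B σ : Matrix (Fin n) (Fin n) L) * (B τ : Matrix (Fin n) (Fin n) L).map σ = (B (σ * τ) : Matrix (Fin n) (Fin n) L)) :
    ∃ A : GL (Fin n) L, ∀ σ : L ≃ₐ[K] L,
      (B σ : Matrix (Fin n) (Fin n) L) = ((A⁻¹ : GL (Fin n) L) : Matrix (Fin n) (Fin n) L) * (A : Matrix (Fin n) (Fin n) L).map σ := by
  obtain ⟨C, hC⟩ := Groth.Agent.S11079.exists_isUnit_avg B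
  let U : GL (Fin n) L := hC.unit
  have hU : (U : Matrix (Fin n) (Fin n) L) = Groth.Agent.S11079.avg B C := hC.unit_spec
  refine ⟨U⁻¹, fun σ => ?_⟩
  rw [inv_inv]
  have h1 := Groth.Agent.S11079.avg_cocycle B hB C σ
  rw [← hU] at h1
  have hmap : ∀ M : Matrix (Fin n) (Fin n) L, M.map σ = (σ : L →+* L).mapMatrix M := fun M => rfl
  have h2 : (U : Matrix (Fin n) (Fin n) L).map σ * ((U⁻¹ : GL (Fin n) L) : Matrix (Fin n) (Fin n) L).map σ = 1 := by
    rw [hmap, hmap, ← map_mul, ← Units.val_mul, mul_inv_cancel, Units.val_one, map_one]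
  calc (B σ : Matrix (Fin n) (Fin n) L)
      = (B σ : Matrix (Fin n) (Fin n) L) * ((U : Matrix (Fin n) (Fin n) L).map σ *
          ((U⁻¹ : GL (Fin n) L) : Matrix (Fin n) (Fin n) L).map σ) := by rw [h2, mul_one]
    _ = _ := by rw [← mul_assoc, h1]

end Groth.Agent.S11079
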