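import Groth.Statements.S11080
import Mathlib

set_option autoImplicit false
universe u
open CAlg

namespace Groth.Agent.S11080

/-- Valuation rings over a curve: let A be a Dedekind domain with fraction field K. A valuation subring
O of K contains A and is different from K if and only if O is the valuation ring of the v-adic
valuation of K at some nonzero prime v of A (equivalently O is the local ring of A at a maximal
ideal, a discrete valuation ring). (The published statement takes A to be the coordinate ring of a
nonsingular affine curve over an algebraically closed field, which is such a Dedekind domain; its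
proof uses only that the local rings of A at nonzero primes are discrete valuation rings and that
nonzero primes are maximal.) -/
theorem result (A K : Type u) [CommRing A]
    [IsDedekindDomain A] [Field K] [Algebra A K] [IsFractionRing A K] (O : ValuationSubring K) :
    ((algebraMap A K).range ≤ O.toSubring ∧ O ≠ ⊤) ↔
      ∃ v : IsDedekindDomain.HeightOneSpectrum A, O = (v.valuation K).valuationSubring := by
  constructor
  · rintro ⟨hA, hO⟩
    have hmem : ∀ a : A, algebraMap A K a ∈ O := fun a => hA ⟨a, rfl⟩
    let f : A →+* O := (algebraMap A K).codRestrict O.toSubring hmem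
    have hf : ∀ a, ((f a : O) : K) = algebraMap A K a := fun a => rfl
    let p : Ideal A := Ideal.comap f (IsLocalRing.maximalIdeal O)
    have hp : p.IsPrime := Ideal.comap_isPrime f _
    have hp0 : p ≠ ⊥ := by
      have : ∃ x : K, x ∉ O := by
        by_contra hcon
        push Not at hcon
        exact hO (eq_top_iff.mpr fun x _ => hcon x)
      obtain ⟨x, hx⟩ := this
      have hx0 : x ≠ 0 := fun h => hx (h ▸ O.zero_mem)
      have hxi : x⁻¹ ∈ O := (O.mem_or_inv_mem x).resolve_left hx
      obtain ⟨a, b, hb, hab⟩ := IsFractionRing.div_surjective (A := A) x⁻¹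
      have hb0 : algebraMap A K b ≠ 0 := by
        intro h
        exact (mem_nonZeroDivisors_iff_ne_zero.mp hb) ((IsFractionRing.injective A K) (by simpa using h))
      have ha : algebraMap A K a = x⁻¹ * algebraMap A K b := by
        rw [← hab]; field_simp
      have ha0 : a ≠ 0 := by
        intro h
        rw [h, map_zero] at ha
        exact (mul_ne_zero (inv_ne_zero hx0) hb0) ha.symm
      intro hbot
      apply ha0
      have : a ∈ p := by
        show f a ∈ IsLocalRing.maximalIdeal O
        rw [IsLocalRing.mem_maximalIdeal, mem_nonunits_iff]
        intro hu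
        have h1 : (⟨x⁻¹, hxi⟩ : O) * f b = f a := by
          apply Subtype.ext
          simp [hf, ha]
        have h2 : IsUnit (⟨x⁻¹, hxi⟩ : O) := by
          rw [← h1] at hu
          exact isUnit_of_mul_isUnit_left hu
        obtain ⟨u, hu⟩ := h2
        apply hx
        have : x = ((u⁻¹ : Oˣ) : O) := by
          have h3 : ((u : O) : K) * (((u⁻¹ : Oˣ) : O) : K) = 1 := by
            rw [← MulMemClass.coe_mul]; simp
          rw [hu] at h3
          simp only at h3
          field_simp at h3
          exact h3.symm
        rw [this]
        exact SetLike.coe_mem _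
      rw [hbot] at this
      simpa using this
    let v : IsDedekindDomain.HeightOneSpectrum A := ⟨p, hp, hp0⟩
    refine ⟨v, ?_⟩
    symm
    rw [← IsDedekindDomain.HeightOneSpectrum.valuationSubringAtPrime_eq_valuationSubring]
    refine ValuationSubring.eq_of_le_of_ne_top _ ?_ hO
    rw [IsDedekindDomain.HeightOneSpectrum.valuationSubringAtPrime_eq_valuationSubring]
    intro y hy
    obtain ⟨n, d, hnd⟩ := IsDedekindDomain.HeightOneSpectrum.exists_primeCompl_mul_eq_of_integer v y hy
    have hd : f d ∉ IsLocalRing.maximalIdeal O := d.2
    rw [IsLocalRing.mem_maximalIdeal, mem_nonunits_iff, not_not] at hd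
    obtain ⟨u, hu⟩ := hd
    have hd0 : algebraMap A K d ≠ 0 := by
      intro h
      have : (f d : O) = 0 := Subtype.ext (by simp [hf, h])
      rw [← hu] at this
      exact u.ne_zero this
    have : y = ((f n * ((u⁻¹ : Oˣ) : O) : O) : K) := by
      have h3 : ((u : O) : K) * (((u⁻¹ : Oˣ) : O) : K) = 1 := by
        rw [← MulMemClass.coe_mul]; simp
      rw [hu, hf] at h3
      rw [MulMemClass.coe_mul, hf, ← hnd, mul_assoc, h3, mul_one]
    rw [this]
    exact SetLike.coe_mem _
  · rintro ⟨v, rfl⟩
    refine ⟨?_, ?_⟩
    · rintro _ ⟨a, rfl⟩
      exact IsDedekindDomain.HeightOneSpectrum.valuation_le_one v a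
    · rw [ne_eq, Valuation.valuationSubring_eq_top_iff, not_not]
      infer_instance

end Groth.Agent.S11080
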