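import Groth.Statements.S11082
import Mathlib
import Groth.Agent.H19.KaehlerField

set_option autoImplicit false
universe u v
open CAlg

namespace Groth.Agent.S11082

/-- Let k be an algebraically closed field, F a field extension of k which is finitely generated as a
field, and x a transcendence basis of F over k indexed by a type ι. Then F is a separable algebraic
extension of the subfield k(x) generated by the family (x is a separating transcendence basis) if
and only if the differentials d(x i) form a basis of the F-vector space of Kähler differentials of F
over k, i.e. they are linearly independent over F and span it. -/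
theorem result (k : Type u) (F : Type v)
    [Field k] [IsAlgClosed k] [Field F] [Algebra k F] (hF : (⊤ : IntermediateField k F).FG)
    {ι : Type v} (x : ι → F) (hx : IsTranscendenceBasis k x) :
    Algebra.IsSeparable (IntermediateField.adjoin k (Set.range x)) F ↔
      (LinearIndependent F (fun i : ι => KaehlerDifferential.D k F (x i)) ∧
        Submodule.span F (Set.range fun i : ι => KaehlerDifferential.D k F (x i)) = ⊤) := by
  constructor
  · intro hsep
    obtain ⟨b, hb⟩ := Groth.Agent.H19.exists_basis_kaehler_of_separating (k := k) (F := F) hx.1
    have hfun : (fun i : ι => KaehlerDifferential.D k F (x i)) = b := funext fun i => (hb i).symm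
    rw [hfun]
    exact ⟨b.linearIndependent, b.span_eq⟩
  · rintro ⟨-, hspan⟩
    have hess : Algebra.EssFiniteType k F := IntermediateField.fg_top_iff.mp hF
    have hess' : Algebra.EssFiniteType (IntermediateField.adjoin k (Set.range x)) F :=
      Algebra.EssFiniteType.of_comp k _ F
    rw [← Algebra.FormallyUnramified.iff_isSeparable]
    constructor
    refine ⟨fun ω η => ?_⟩
    suffices h : ∀ ω : KaehlerDifferential (IntermediateField.adjoin k (Set.range x)) F, ω = 0 by
      rw [h ω, h η]
    intro ω
    obtain ⟨θ, rfl⟩ := KaehlerDifferential.map_surjective k (IntermediateField.adjoin k (Set.range x)) F ω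
    have hθ : θ ∈ Submodule.span F (Set.range fun i : ι => KaehlerDifferential.D k F (x i)) := by
      rw [hspan]; exact Submodule.mem_top
    induction hθ using Submodule.span_induction with
    | mem y hy =>
      obtain ⟨i, rfl⟩ := hy
      rw [KaehlerDifferential.map_D]
      have hxi : x i ∈ IntermediateField.adjoin k (Set.range x) :=
        IntermediateField.subset_adjoin _ _ ⟨i, rfl⟩
      have : (algebraMap F F (x i)) = algebraMap (IntermediateField.adjoin k (Set.range x)) F ⟨x i, hxi⟩ := rfl
      rw [this, Derivation.map_algebraMap]
    | zero => simp
    | add y z _ _ hy hz => rw [map_add, hy, hz, add_zero]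
    | smul c y _ hy => rw [map_smul, hy, smul_zero]

end Groth.Agent.S11082
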