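import Groth.Statements.S11084
import Mathlib

set_option autoImplicit false
universe u
open CAlg

namespace Groth.Agent.S11084


open IsDedekindDomain IsDedekindDomain.HeightOneSpectrum Polynomial


/-- Let k be a field and O a valuation subring of the field of rational functions k(x). Then O contains
the constants k and is different from k(x) if and only if O is the valuation ring of the P-adic
valuation at a nonzero prime P of the polynomial ring k[x], or O is the valuation ring of the
valuation at infinity (given by the degree). (The published statement has k algebraically closed, so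
that these valuation rings correspond to the points of the projective line; the published proof does
not use that k is algebraically closed. The published statement also asserts that distinct points
give distinct valuation rings, which this row does not state, and counts k(x) itself among the
valuation rings containing k; this row excludes it.) -/
theorem result (k : Type u) [Field k] [DecidableEq (RatFunc k)]
    (O : ValuationSubring (RatFunc k)) :
    ((algebraMap k (RatFunc k)).range ≤ O.toSubring ∧ O ≠ ⊤) ↔
      ((∃ v : IsDedekindDomain.HeightOneSpectrum (Polynomial k), O = (v.valuation (RatFunc k)).valuationSubring) ∨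
        O = (RatFunc.inftyValuation k).valuationSubring) := by
  classical
  constructor
  · rintro ⟨hk, hO⟩
    have hmemk : ∀ c : k, algebraMap k (RatFunc k) c ∈ O := fun c => hk ⟨c, rfl⟩
    haveI hTriv : O.valuation.IsTrivialOn k := by
      refine ⟨fun c hc => ?_⟩
      have h1 : O.valuation (algebraMap k (RatFunc k) c) ≤ 1 :=
        (O.valuation_le_one_iff _).mpr (hmemk c)
      have h2 : O.valuation (algebraMap k (RatFunc k) c⁻¹) ≤ 1 :=
        (O.valuation_le_one_iff _).mpr (hmemk c⁻¹)
      rw [map_inv₀, map_inv₀] at h2
      have hne : O.valuation (algebraMap k (RatFunc k) c) ≠ 0 := by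
        rw [Valuation.ne_zero_iff]
        exact (map_ne_zero (algebraMap k (RatFunc k))).mpr hc
      have h3 : 1 ≤ O.valuation (algebraMap k (RatFunc k) c) :=
        (inv_le_one₀ (zero_lt_iff.mpr hne)).mp h2
      exact le_antisymm h1 h3
    by_cases hX : O.valuation RatFunc.X ≤ 1
    · left
      have hpoly : ∀ p : k[X], algebraMap k[X] (RatFunc k) p ∈ O := fun p =>
        (O.valuation_le_one_iff _).mp
          (Polynomial.valuation_le_one_of_valuation_X_le_one k hX p)
      obtain ⟨φ, hφ⟩ : ∃ φ : k[X] →+* O, ∀ p, ((φ p : O) : RatFunc k) = algebraMap k[X] (RatFunc k) p :=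
        ⟨(algebraMap k[X] (RatFunc k)).codRestrict O.toSubring hpoly, fun p => rfl⟩
      obtain ⟨P, hP⟩ : ∃ P : Ideal k[X], P = (IsLocalRing.maximalIdeal O).comap φ := ⟨_, rfl⟩
      have hPprime : P.IsPrime := by
        rw [hP]; exact Ideal.comap_isPrime φ _
      have hunit : ∀ s : k[X], s ∉ P → (algebraMap k[X] (RatFunc k) s)⁻¹ ∈ O := by
        intro s hs
        rw [hP, Ideal.mem_comap, IsLocalRing.notMem_maximalIdeal] at hs
        have h1 : O.valuation ((φ s : O) : RatFunc k) = 1 := (O.valuation_eq_one_iff (φ s)).mp hs
        rw [hφ] at h1
        apply O.mem_of_valuation_le_one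
        rw [map_inv₀, h1, inv_one]
      have hPne : P ≠ ⊥ := by
        intro hbot
        apply hO
        rw [eq_top_iff]
        intro f _
        obtain ⟨a, b, hb, rfl⟩ := IsFractionRing.div_surjective (A := k[X]) f
        have hb0 : b ≠ 0 := nonZeroDivisors.ne_zero hb
        have hbP : b ∉ P := by
          rw [hbot, Ideal.mem_bot]; exact hb0
        rw [div_eq_mul_inv]
        exact O.mul_mem _ _ (hpoly a) (hunit b hbP)
      obtain ⟨v, hv⟩ : ∃ v : HeightOneSpectrum k[X], v.asIdeal = P := ⟨⟨P, hPprime, hPne⟩, rfl⟩
      have hle : valuationSubringAtPrime (RatFunc k) v ≤ O := by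
        rintro x ⟨a, s, hs, rfl⟩
        have hsP : s ∉ P := by
          rw [← hv]; exact hs
        exact O.mul_mem _ _ (hpoly a) (hunit s hsP)
      have heq := ValuationSubring.eq_of_le_of_ne_top _ hle hO
      refine ⟨v, ?_⟩
      rw [← valuationSubringAtPrime_eq_valuationSubring]
      exact heq.symm
    · right
      have h := RatFunc.valuation_isEquiv_inftyValuation_of_one_lt_valuation_X
        (v := O.valuation) (lt_of_not_ge hX)
      rw [Valuation.isEquiv_iff_valuationSubring, ValuationSubring.valuationSubring_valuation] at h
      exact h
  · rintro (⟨v, rfl⟩ | rfl)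
    · refine ⟨?_, ?_⟩
      · rintro _ ⟨c, rfl⟩
        show algebraMap k (RatFunc k) c ∈ (v.valuation (RatFunc k)).valuationSubring
        rw [Valuation.mem_valuationSubring_iff, IsScalarTower.algebraMap_apply k k[X] (RatFunc k)]
        exact v.valuation_le_one _
      · simp only [ne_eq, Valuation.valuationSubring_eq_top_iff, not_not]
        infer_instance
    · refine ⟨?_, ?_⟩
      · rintro _ ⟨c, rfl⟩
        show algebraMap k (RatFunc k) c ∈ (RatFunc.inftyValuation k).valuationSubring
        rw [Valuation.mem_valuationSubring_iff]
        exact Valuation.IsTrivialOn.valuation_algebraMap_le_one _ c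
      · simp only [ne_eq, Valuation.valuationSubring_eq_top_iff, not_not]
        infer_instance

end Groth.Agent.S11084
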