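import Groth.Statements.S11091
import Mathlib
import Mathlib

set_option autoImplicit false
universe u
attribute [local instance] FractionRing.liftAlgebra
open CAlg

namespace Groth.Agent.S11091

theorem isPrecomplete_of_finite (A B : Type u) [CommRing A] (I : Ideal A) [IsAdicComplete I A]
    [AddCommGroup B] [Module A B] [Module.Finite A B] : IsPrecomplete I B := by
  rw [← AdicCompletion.of_surjective_iff]
  intro y
  obtain ⟨t, rfl⟩ := AdicCompletion.ofTensorProduct_surjective_of_finite I B y
  induction t using TensorProduct.induction_on with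
  | zero => exact ⟨0, by simp⟩
  | tmul r x =>
    obtain ⟨r₀, rfl⟩ := AdicCompletion.of_surjective I A r
    refine ⟨r₀ • x, ?_⟩
    rw [AdicCompletion.ofTensorProduct_tmul, map_smul]
    ext n
    simp [AdicCompletion.val_smul_apply]
    rfl
  | add a b ha hb =>
    obtain ⟨x, hx⟩ := ha
    obtain ⟨y, hy⟩ := hb
    exact ⟨x + y, by rw [map_add, hx, hy, map_add]⟩

theorem mem_smul_top_iff (A B : Type u) [CommRing A] [CommRing B] [Algebra A B] (I : Ideal A)
    (n : ℕ) (z : B) :
    z ∈ ((I.map (algebraMap A B)) ^ n • ⊤ : Submodule B B) ↔ z ∈ (I ^ n • ⊤ : Submodule A B) := by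
  have h1 : ((I.map (algebraMap A B)) ^ n • ⊤ : Submodule B B) = (I.map (algebraMap A B)) ^ n := by
    rw [smul_eq_mul, Ideal.mul_top]
  have h2 : (I ^ n • ⊤ : Submodule A B) = ((I.map (algebraMap A B)) ^ n).restrictScalars A := by
    rw [Ideal.smul_top_eq_map, Ideal.map_pow]
  rw [h1, h2]
  rfl

theorem isAdicComplete_map (A B : Type u) [CommRing A] [CommRing B] [Algebra A B] (I : Ideal A)
    [h : IsAdicComplete I B] : IsAdicComplete (I.map (algebraMap A B)) B := by
  have key : ∀ (n : ℕ) (x y : B),
      x ≡ y [SMOD ((I.map (algebraMap A B)) ^ n • ⊤ : Submodule B B)] ↔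
      x ≡ y [SMOD (I ^ n • ⊤ : Submodule A B)] := by
    intro n x y
    rw [SModEq.sub_mem, SModEq.sub_mem, mem_smul_top_iff]
  refine { haus' := ?_, prec' := ?_ }
  · intro x hx
    exact h.toIsHausdorff.haus' x (fun n => (key n x 0).mp (hx n))
  · intro f hf
    obtain ⟨L, hL⟩ := h.toIsPrecomplete.prec' f (fun {m n} hmn => (key m _ _).mp (hf hmn))
    exact ⟨L, fun n => (key n _ _).mpr (hL n)⟩

open Polynomial in
theorem lift_idem (B : Type u) [CommRing B] (J : Ideal B) [HenselianRing B J] (a₀ : B)
    (h : a₀ * a₀ - a₀ ∈ J) : ∃ a : B, a * a = a ∧ a - a₀ ∈ J := by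
  have hmonic : (X ^ 2 - X : B[X]).Monic := by
    apply Polynomial.monic_X_pow_sub
    exact lt_of_le_of_lt degree_X_le (by norm_num)
  have heval : (X ^ 2 - X : B[X]).eval a₀ ∈ J := by
    simp only [eval_sub, eval_pow, eval_X]
    rw [pow_two]; exact h
  have hder : IsUnit (Ideal.Quotient.mk J ((X ^ 2 - X : B[X]).derivative.eval a₀)) := by
    have : (X ^ 2 - X : B[X]).derivative.eval a₀ = 2 * a₀ - 1 := by
      simp
      ring
    rw [this]
    refine IsUnit.of_mul_eq_one (Ideal.Quotient.mk J (2 * a₀ - 1)) ?_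
    rw [← map_mul, ← map_one (Ideal.Quotient.mk J), Ideal.Quotient.eq]
    have : (2 * a₀ - 1) * (2 * a₀ - 1) - 1 = 4 * (a₀ * a₀ - a₀) := by ring
    rw [this]
    exact J.mul_mem_left _ h
  obtain ⟨a, ha, haJ⟩ := HenselianRing.is_henselian (R := B) (I := J) _ hmonic a₀ heval hder
  refine ⟨a, ?_, haJ⟩
  have : a ^ 2 - a = 0 := by
    simpa [IsRoot] using ha
  rw [pow_two] at this
  exact sub_eq_zero.mp this

theorem unique_max_of (B : Type u) [CommRing B] [IsDomain B] (J : Ideal B) [HenselianRing B J]
    [IsArtinianRing (B ⧸ J)] (hJle : ∀ M : Ideal B, M.IsMaximal → J ≤ M) :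
    ∃! M : Ideal B, M.IsMaximal := by
  -- trivial idempotents in B/J
  have hidem : ∀ c : B ⧸ J, IsIdempotentElem c → c = 0 ∨ c = 1 := by
    intro c hc
    obtain ⟨a₀, rfl⟩ := Ideal.Quotient.mk_surjective c
    have hmem : a₀ * a₀ - a₀ ∈ J := by
      rw [← Ideal.Quotient.eq, map_mul]; exact hc
    obtain ⟨a, ha, haJ⟩ := lift_idem B J a₀ hmem
    have ha' : a = 0 ∨ a = 1 := by
      have h0 : a * (a - 1) = 0 := by rw [mul_sub, ha, mul_one, sub_self]
      rcases mul_eq_zero.mp h0 with h | h
      · left; exact h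
      · right; exact sub_eq_zero.mp h
    have hmk : Ideal.Quotient.mk J a = Ideal.Quotient.mk J a₀ := Ideal.Quotient.eq.mpr haJ
    rcases ha' with rfl | rfl
    · left; rw [← hmk, map_zero]
    · right; rw [← hmk, map_one]
  have hp : ∀ M : Ideal B, M.IsMaximal → (M.map (Ideal.Quotient.mk J)).IsPrime := by
    intro M hM
    haveI := hM.isPrime
    apply Ideal.map_isPrime_of_surjective Ideal.Quotient.mk_surjective
    rw [Ideal.mk_ker]
    exact hJle M hM
  have key : ∀ M : Ideal B, M.IsMaximal → ∀ M' : Ideal B, M'.IsMaximal →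
      M'.map (Ideal.Quotient.mk J) = M.map (Ideal.Quotient.mk J) := by
    intro M hM M' hM'
    haveI := hp M hM
    obtain ⟨r, hr, hri, hall⟩ :=
      IsArtinianRing.exists_not_mem_forall_mem_of_ne (M.map (Ideal.Quotient.mk J))
    rcases hidem r hri with rfl | rfl
    · exact absurd (Ideal.zero_mem _) hr
    · by_contra hne
      have h1 := hall _ (hp M' hM') hne
      exact (hp M' hM').ne_top ((Ideal.eq_top_iff_one _).mpr h1)
  obtain ⟨M₀, hM₀⟩ := Ideal.exists_maximal B
  refine ⟨M₀, hM₀, fun M hM => ?_⟩
  have h4 := key M₀ hM₀ M hM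
  have h5 : ∀ M : Ideal B, M.IsMaximal →
      Ideal.comap (Ideal.Quotient.mk J) (M.map (Ideal.Quotient.mk J)) = M := by
    intro M hM
    rw [Ideal.comap_map_of_surjective _ Ideal.Quotient.mk_surjective, ← RingHom.ker_eq_comap_bot,
      Ideal.mk_ker]
    exact sup_eq_left.mpr (hJle M hM)
  rw [← h5 M hM, h4, h5 M₀ hM₀]

/-- Let A be a complete discrete valuation ring and B a Dedekind domain which is a finite torsion-free
A-algebra whose fraction field is separable over that of A (the integral closure of A in a finite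
separable extension E of the fraction field F). Then B has exactly one maximal ideal; equivalently,
since the discrete valuations of E extending a multiple of the valuation of F correspond to the
nonzero primes of B, the valuation of F extends uniquely to E, and B is a complete discrete
valuation ring. -/
theorem result (A B : Type u) [CommRing A] [IsDomain A] [IsDiscreteValuationRing A]
    [IsAdicComplete (IsLocalRing.maximalIdeal A) A]
    [CommRing B] [IsDedekindDomain B] [Algebra A B] [Module.Finite A B] [Module.IsTorsionFree A B]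
    [Algebra.IsSeparable (FractionRing A) (FractionRing B)] :
    ∃! M : Ideal B, M.IsMaximal := by
  haveI h1 : IsAdicComplete (IsLocalRing.maximalIdeal A) B :=
    { toIsHausdorff := inferInstance
      toIsPrecomplete := Groth.Agent.S11091.isPrecomplete_of_finite A B _ }
  haveI h2 : IsAdicComplete ((IsLocalRing.maximalIdeal A).map (algebraMap A B)) B :=
    Groth.Agent.S11091.isAdicComplete_map A B _
  haveI h3 : HenselianRing B ((IsLocalRing.maximalIdeal A).map (algebraMap A B)) := inferInstance
  letI : Field (A ⧸ IsLocalRing.maximalIdeal A) := Ideal.Quotient.field _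
  haveI : IsNoetherian A B := isNoetherian_of_isNoetherianRing_of_finite A B
  haveI : Module.Finite (A ⧸ IsLocalRing.maximalIdeal A)
      (B ⧸ (IsLocalRing.maximalIdeal A).map (algebraMap A B)) := inferInstance
  haveI : IsArtinianRing (B ⧸ (IsLocalRing.maximalIdeal A).map (algebraMap A B)) :=
    IsArtinianRing.of_finite (A ⧸ IsLocalRing.maximalIdeal A) _
  apply Groth.Agent.S11091.unique_max_of B ((IsLocalRing.maximalIdeal A).map (algebraMap A B))
  intro M hM
  rw [Ideal.map_le_iff_le_comap]
  haveI : (M.comap (algebraMap A B)).IsMaximal :=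
    Ideal.isMaximal_comap_of_isIntegral_of_isMaximal M
  exact (IsLocalRing.eq_maximalIdeal this).ge

end Groth.Agent.S11091
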