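import Groth.Statements.S11088
import Mathlib
import Groth.Agent.S11091
import Mathlib

set_option autoImplicit false
universe u
attribute [local instance] FractionRing.liftAlgebra
open CAlg

namespace Groth.Agent.S11088

theorem eq_pow_of_unique_max {B : Type u} [CommRing B] [IsDedekindDomain B] (M : Ideal B)
    (hmax : ∀ M' : Ideal B, M'.IsMaximal → M' = M) (I : Ideal B) (hI : I ≠ ⊥) :
    ∃ w : ℕ, I = M ^ w := by
  classical
  refine ⟨Multiset.card (UniqueFactorizationMonoid.normalizedFactors I), ?_⟩
  have h1 := Ideal.prod_normalizedFactors_eq_self hI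
  have h2 : UniqueFactorizationMonoid.normalizedFactors I =
      Multiset.replicate (Multiset.card (UniqueFactorizationMonoid.normalizedFactors I)) M := by
    rw [Multiset.eq_replicate]
    refine ⟨rfl, fun P hP => ?_⟩
    have hprime := UniqueFactorizationMonoid.prime_of_normalized_factor P hP
    have hP0 : P ≠ ⊥ := hprime.ne_zero
    haveI : P.IsPrime := Ideal.isPrime_of_prime hprime
    exact hmax P (Ideal.IsPrime.isMaximal inferInstance hP0)
  conv_lhs => rw [← h1, h2]
  rw [Multiset.prod_replicate]

/-- Let A be a complete discrete valuation ring with maximal ideal m and B a Dedekind domain which is a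
finite torsion-free A-algebra with fraction field separable over that of A (the integral closure of
A in a finite separable extension). Then for every maximal ideal M of B, with f the degree of B/M
over A/m, and every nonzero x in B, the multiplicity of m in the ideal generated by the norm of x
equals f times the multiplicity of M in the ideal generated by x: v(N(x)) = f · w(x). -/
theorem result (A B : Type u) [CommRing A] [IsDomain A] [IsDiscreteValuationRing A]
    [IsAdicComplete (IsLocalRing.maximalIdeal A) A]
    [CommRing B] [IsDedekindDomain B] [Algebra A B] [Module.Finite A B] [Module.IsTorsionFree A B]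
    [Algebra.IsSeparable (FractionRing A) (FractionRing B)]
    (M : Ideal B) [M.IsMaximal] (x : B) (hx : x ≠ 0) :
    emultiplicity (IsLocalRing.maximalIdeal A) (Ideal.span {Algebra.intNorm A B x}) =
      (M.inertiaDeg A : ℕ∞) * emultiplicity M (Ideal.span {x}) := by
  classical
  have hmax : ∀ M' : Ideal B, M'.IsMaximal → M' = M := by
    intro M' hM'
    obtain ⟨M₀, _, hu⟩ := Groth.Agent.S11091.result A B
    rw [hu M' hM', hu M inferInstance]
  have hm0 : IsLocalRing.maximalIdeal A ≠ ⊥ := IsDiscreteValuationRing.not_a_field A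
  have hinj : Function.Injective (algebraMap A B) := FaithfulSMul.algebraMap_injective A B
  haveI hlies : M.LiesOver (IsLocalRing.maximalIdeal A) := by
    constructor
    haveI : (M.comap (algebraMap A B)).IsMaximal :=
      Ideal.isMaximal_comap_of_isIntegral_of_isMaximal M
    exact (IsLocalRing.eq_maximalIdeal this).symm
  have hmap0 : (IsLocalRing.maximalIdeal A).map (algebraMap A B) ≠ ⊥ := by
    rw [Ne, Ideal.map_eq_bot_iff_of_injective hinj]
    exact hm0
  have hmapM : (IsLocalRing.maximalIdeal A).map (algebraMap A B) ≤ M := by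
    rw [Ideal.map_le_iff_le_comap]
    exact (hlies.over).le
  have hM0 : M ≠ ⊥ := fun h => hmap0 (le_bot_iff.mp (h ▸ hmapM))
  have hMu : ¬ IsUnit M := by
    rw [Ideal.isUnit_iff]
    exact Ideal.IsMaximal.ne_top inferInstance
  have hmu : ¬ IsUnit (IsLocalRing.maximalIdeal A) := by
    rw [Ideal.isUnit_iff]
    exact Ideal.IsMaximal.ne_top inferInstance
  -- span {x} = M ^ w
  have hx0 : Ideal.span {x} ≠ ⊥ := by
    rw [Ne, Ideal.span_singleton_eq_bot]; exact hx
  obtain ⟨w, hw⟩ := Groth.Agent.S11088.eq_pow_of_unique_max M hmax _ hx0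
  obtain ⟨k, hk⟩ := Groth.Agent.S11088.eq_pow_of_unique_max M hmax _ hmap0
  have hk1 : k ≠ 0 := by
    rintro rfl
    rw [pow_zero, Ideal.one_eq_top] at hk
    rw [hk] at hmapM
    exact (Ideal.IsMaximal.ne_top inferInstance) (top_le_iff.mp hmapM)
  -- ramification index
  have he : M.ramificationIdx A = k := by
    rw [Ideal.IsDedekindDomain.ramificationIdx_eq_multiplicity (IsLocalRing.maximalIdeal A) M hmap0, hk]
    exact multiplicity_pow_self hM0 hMu k
  -- sum formula
  have hsum := Ideal.sum_ramification_inertia_eq_finrank (R := A) (S := B)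
    (p := IsLocalRing.maximalIdeal A)
  have hsingle : ∀ q : (IsLocalRing.maximalIdeal A).primesOver B, q.1 = M := by
    intro q
    haveI : q.1.IsPrime := q.2.1
    haveI : q.1.LiesOver (IsLocalRing.maximalIdeal A) := q.2.2
    exact hmax q.1 (Ideal.IsMaximal.of_liesOver_isMaximal q.1 (IsLocalRing.maximalIdeal A))
  rw [Fintype.sum_eq_single (⟨M, ⟨inferInstance, hlies⟩⟩ : (IsLocalRing.maximalIdeal A).primesOver B)
    (fun q hq => absurd (Subtype.ext (hsingle q)) hq), he] at hsum
  -- relative norms
  obtain ⟨s, hs⟩ := Ideal.exists_relNorm_eq_pow_of_isPrime M (IsLocalRing.maximalIdeal A)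
  have hrel := Ideal.relNorm_algebraMap B (IsLocalRing.maximalIdeal A)
  rw [hk, map_pow, hs, ← pow_mul] at hrel
  have hsk : s * k = Module.finrank A B := pow_injective_of_not_isUnit hmu hm0 hrel
  have hsf : s = M.inertiaDeg A := by
    have : s * k = M.inertiaDeg A * k := by rw [hsk, ← hsum, mul_comm]
    exact Nat.eq_of_mul_eq_mul_right (Nat.pos_of_ne_zero hk1) this
  -- conclusion
  have hnorm : Ideal.span {Algebra.intNorm A B x} =
      (IsLocalRing.maximalIdeal A) ^ (M.inertiaDeg A * w) := by
    rw [← Ideal.relNorm_singleton, hw, map_pow, hs, ← pow_mul, hsf]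
  rw [hnorm, hw, emultiplicity_pow_self hm0 hmu, emultiplicity_pow_self hM0 hMu, Nat.cast_mul]

end Groth.Agent.S11088
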