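import Groth.Statements.S11092
import Mathlib
import Groth.Agent.H19.KaehlerField

set_option autoImplicit false
universe u v
open CAlg

namespace Groth.Agent.S11092

/-- Let k be an algebraically closed field, K a field finitely generated over k admitting a one-element
transcendence basis over k (a function field of dimension one), and L a finite extension field of K
with the compatible k-algebra structure. Then the K-linear map from the Kähler differentials of K
over k to those of L over k induced by the inclusion is either the zero map or injective, and it is
injective if and only if L is separable over K. (The published statement takes K ⊆ L to be the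
function fields of two elliptic curves related by a nonzero homomorphism; its proof uses only that
they are function fields of dimension one over k.) -/
theorem result (k : Type u) (K L : Type v)
    [Field k] [IsAlgClosed k] [Field K] [Field L] [Algebra k K] [Algebra k L] [Algebra K L]
    [IsScalarTower k K L] (hK : (⊤ : IntermediateField k K).FG)
    (hx : ∃ x : K, IsTranscendenceBasis k (fun _ : Unit => x)) [FiniteDimensional K L] :
    (KaehlerDifferential.map k k K L = 0 ∨ Function.Injective (KaehlerDifferential.map k k K L)) ∧
      (Function.Injective (KaehlerDifferential.map k k K L) ↔ Algebra.IsSeparable K L) := by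
  obtain ⟨x, hx⟩ := hx
  have hessK : Algebra.EssFiniteType k K := IntermediateField.fg_top_iff.mp hK
  have hessKL : Algebra.EssFiniteType K L := inferInstance
  have hessL : Algebra.EssFiniteType k L := Algebra.EssFiniteType.comp k K L
  obtain ⟨hfinK, hrkK⟩ := Groth.Agent.H19.finrank_kaehler_eq_card (k := k) (F := K) hx
  have hxL : IsTranscendenceBasis k (algebraMap K L ∘ fun _ : Unit => x) := hx.algebraMap_comp
  obtain ⟨hfinL, hrkL⟩ := Groth.Agent.H19.finrank_kaehler_eq_card (k := k) (F := L) hxL
  simp only [Fintype.card_unit] at hrkK hrkL
  have h1 : KaehlerDifferential.map k k K L = 0 ∨ Function.Injective (KaehlerDifferential.map k k K L) := by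
    by_cases hker : LinearMap.ker (KaehlerDifferential.map k k K L) = ⊥
    · right; exact LinearMap.ker_eq_bot.mp hker
    · left
      have : LinearMap.ker (KaehlerDifferential.map k k K L) = ⊤ := by
        apply Submodule.eq_top_of_finrank_eq
        have hpos : 0 < Module.finrank K (LinearMap.ker (KaehlerDifferential.map k k K L)) :=
          Submodule.one_le_finrank_iff.mpr hker
        have hle := Submodule.finrank_le (LinearMap.ker (KaehlerDifferential.map k k K L))
        omega
      exact LinearMap.ker_eq_top.mp this
  refine ⟨h1, ?_, ?_⟩
  · intro hinj
    rw [← Algebra.FormallyUnramified.iff_isSeparable]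
    constructor
    have hsurj : Function.Surjective (KaehlerDifferential.mapBaseChange k K L) := by
      rw [← LinearMap.range_eq_top]
      apply Submodule.eq_top_of_finrank_eq
      have hne : LinearMap.range (KaehlerDifferential.mapBaseChange k K L) ≠ ⊥ := by
        intro hbot
        have hnt : Nontrivial (KaehlerDifferential k K) := Module.nontrivial_of_finrank_pos (R := K) (by omega)
        obtain ⟨ω, hω⟩ := exists_ne (0 : KaehlerDifferential k K)
        have h2 : KaehlerDifferential.mapBaseChange k K L ((1 : L) ⊗ₜ[K] ω) = 0 := by
          have : KaehlerDifferential.mapBaseChange k K L ((1 : L) ⊗ₜ[K] ω) ∈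
              LinearMap.range (KaehlerDifferential.mapBaseChange k K L) := ⟨_, rfl⟩
          rw [hbot] at this
          exact this
        rw [KaehlerDifferential.mapBaseChange_tmul, one_smul] at h2
        exact hω (hinj (h2.trans (map_zero _).symm))
      have hpos : 0 < Module.finrank L (LinearMap.range (KaehlerDifferential.mapBaseChange k K L)) :=
        Submodule.one_le_finrank_iff.mpr hne
      have hle := Submodule.finrank_le (LinearMap.range (KaehlerDifferential.mapBaseChange k K L))
      omega
    refine ⟨fun ω η => ?_⟩
    suffices h : ∀ ω : KaehlerDifferential K L, ω = 0 by rw [h ω, h η]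
    intro ω
    obtain ⟨θ, rfl⟩ := KaehlerDifferential.map_surjective k K L ω
    obtain ⟨t, rfl⟩ := hsurj θ
    exact (KaehlerDifferential.exact_mapBaseChange_map k K L _).mpr ⟨t, rfl⟩
  · intro hsep
    have : Algebra.FormallyEtale K L := Algebra.FormallyEtale.of_isSeparable K L
    have hinj1 : Function.Injective (TensorProduct.mk K L (KaehlerDifferential k K) 1) :=
      Module.Flat.tensorProduct_mk_injective K (KaehlerDifferential k K) L
    have hinj2 := (KaehlerDifferential.tensorKaehlerEquivOfFormallyEtale k K L).injective
    intro a b hab
    apply hinj1
    apply hinj2
    simp only [TensorProduct.mk_apply, KaehlerDifferential.tensorKaehlerEquivOfFormallyEtale_apply,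
      KaehlerDifferential.mapBaseChange_tmul, one_smul]
    exact hab

end Groth.Agent.S11092
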