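import Groth.Statements.S11095
import Mathlib

set_option autoImplicit false
universe u
open CAlg

namespace Groth.Agent.S11095

theorem natDegree_minpoly_eq_of_algClosure_eq_bot {K₀ F₀ E : Type*} [Field K₀] [Field F₀] [Field E]
    [Algebra K₀ F₀] [Algebra F₀ E] [Algebra K₀ E] [IsScalarTower K₀ F₀ E]
    (h : algebraicClosure K₀ F₀ = ⊥) (β : E) (hβ : IsIntegral K₀ β) :
    (minpoly F₀ β).natDegree = (minpoly K₀ β).natDegree := by
  have hβ' : IsIntegral F₀ β := hβ.tower_top
  have hdvd : minpoly F₀ β ∣ (minpoly K₀ β).map (algebraMap K₀ F₀) :=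
    minpoly.dvd_map_of_isScalarTower K₀ F₀ β
  have hlift := integralClosure.mem_lifts_of_monic_of_dvd_map F₀ (minpoly.monic hβ)
    (minpoly.monic hβ') hdvd
  have hlift2 : minpoly F₀ β ∈ Polynomial.lifts (algebraMap K₀ F₀) := by
    rw [Polynomial.lifts_iff_coeff_lifts] at hlift ⊢
    intro n
    obtain ⟨c, hc⟩ := hlift n
    have hc1 : (c : F₀) ∈ algebraicClosure K₀ F₀ := mem_algebraicClosure_iff'.mpr c.2
    rw [h, IntermediateField.mem_bot] at hc1
    obtain ⟨c0, hc0⟩ := hc1
    exact ⟨c0, hc0.trans hc⟩
  obtain ⟨q, hq, hqdeg, hqmonic⟩ := Polynomial.lifts_and_natDegree_eq_and_monic hlift2 (minpoly.monic hβ')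
  apply le_antisymm
  · have h1 := Polynomial.natDegree_le_of_dvd hdvd
      (Polynomial.map_ne_zero (minpoly.ne_zero hβ))
    rwa [Polynomial.natDegree_map] at h1
  · rw [← hqdeg]
    have hroot : Polynomial.aeval β q = 0 := by
      have := minpoly.aeval F₀ β
      rw [← hq, Polynomial.aeval_map_algebraMap] at this
      exact this
    exact Polynomial.natDegree_le_natDegree (minpoly.min K₀ β hqmonic hroot)

/-- Let K₀ be a perfect field, K an algebraic extension of K₀ and F₀ a field extension of K₀ such that
K₀ is algebraically closed in F₀. Then the K₀-algebra F₀ ⊗ K is a field; consequently F₀ and K,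
embedded in it by x ↦ x ⊗ 1 and y ↦ 1 ⊗ y, are linearly disjoint over K₀. -/
theorem result (K₀ F₀ K : Type u)
    [Field K₀] [PerfectField K₀] [Field F₀] [Algebra K₀ F₀] [Field K] [Algebra K₀ K]
    [Algebra.IsAlgebraic K₀ K] (h : algebraicClosure K₀ F₀ = ⊥) :
    IsField (TensorProduct K₀ F₀ K) := by
  let E := AlgebraicClosure F₀
  let fb : K →ₐ[K₀] E := IsAlgClosed.lift
  let A : IntermediateField K₀ E := fb.fieldRange
  let e1 : K ≃ₐ[K₀] A := AlgEquiv.ofInjectiveField fb
  have hAalg : Algebra.IsAlgebraic K₀ A := e1.isAlgebraic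
  have hAint : Algebra.IsIntegral K₀ A.toSubalgebra := Algebra.IsAlgebraic.isIntegral (K := K₀) (A := A)
  have HA : A.LinearDisjoint F₀ := by
    apply Subalgebra.LinearDisjoint.of_linearDisjoint_finite_left
    intro A' hA' hfin
    have hA'int : Algebra.IsIntegral K₀ A' := inferInstance
    have hfield : IsField A' := isField_of_isIntegral_of_isField' (R := K₀) (S := A') (Field.toIsField K₀)
    let A'' : IntermediateField K₀ E := A'.toIntermediateField' hfield
    have hfin'' : FiniteDimensional K₀ A'' := hfin
    have hsep : Algebra.IsSeparable K₀ A'' := Algebra.IsAlgebraic.isSeparable_of_perfectField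
    let pb : PowerBasis K₀ A'' := Field.powerBasisOfFiniteOfSeparable K₀ A''
    have key : A''.LinearDisjoint F₀ := by
      apply IntermediateField.LinearDisjoint.of_basis_left pb.basis
      have hβ : IsIntegral K₀ (pb.gen : E) :=
        (isIntegral_algHom_iff A''.val A''.val.injective).mpr (Algebra.IsIntegral.isIntegral pb.gen)
      have hdeg := natDegree_minpoly_eq_of_algClosure_eq_bot h (pb.gen : E) hβ
      have hdim : pb.dim = (minpoly F₀ (pb.gen : E)).natDegree := by
        rw [hdeg, ← pb.natDegree_minpoly]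
        congr 1
        exact (minpoly.algebraMap_eq (algebraMap A'' E).injective pb.gen).symm
      have hli := linearIndependent_pow (K := F₀) (pb.gen : E)
      have : (A''.val ∘ pb.basis) = fun i : Fin pb.dim => (pb.gen : E) ^ (i : ℕ) := by
        ext i
        simp
      rw [this]
      clear_value pb
      revert hli
      generalize (minpoly F₀ (pb.gen : E)).natDegree = n at hdim
      subst hdim
      exact id
    exact key
  have hf : IsField (TensorProduct K₀ A F₀) := HA.isField_of_isAlgebraic (Or.inl hAalg)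
  let e : TensorProduct K₀ F₀ K ≃ₐ[K₀] TensorProduct K₀ A F₀ :=
    (Algebra.TensorProduct.comm K₀ F₀ K).trans (Algebra.TensorProduct.congr e1 AlgEquiv.refl)
  exact e.toMulEquiv.isField hf

end Groth.Agent.S11095
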