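import Groth.Statements.S1359
import Mathlib
import Groth.Agent.Lib.Helper8.LocalCrit

set_option autoImplicit false
universe u
open FlatMor

namespace Groth.Agent.S1359

section Helpers
open TensorProduct IsLocalRing AlgebraicGeometry CategoryTheory Limits

theorem isSmoothAt_of_flat_at1359 {R S : Type*} [CommRing R] [CommRing S] [Algebra R S]
    [Algebra.FinitePresentation R S] (p : Ideal R) (q : Ideal S)
    [p.IsPrime] [q.IsPrime] [q.LiesOver p]
    [Algebra.FormallySmooth p.ResidueField (p.Fiber S)]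
    [hfl : Module.Flat R (Localization.AtPrime q)] :
    Algebra.IsSmoothAt R q := by
  let Rp := Localization.AtPrime p
  let Sp := Localization (Algebra.algebraMapSubmonoid S p.primeCompl)
  let Sq := Localization.AtPrime q
  let := Localization.AtPrime.algebraOfLiesOver p q
  let f : Sp →ₐ[S] Sq :=
    IsLocalization.liftAlgHom (M := Algebra.algebraMapSubmonoid S p.primeCompl)
        (f := Algebra.ofId _ _) (by
      rintro ⟨_, x, hx, rfl⟩
      simpa using! IsLocalization.map_units (M := q.primeCompl) Sq ⟨algebraMap _ _ x,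
        by simp_all [q.over_def p]⟩)
  algebraize [f.toRingHom]
  have : IsScalarTower R Sp Sq := .to₁₃₄ _ S _ _
  have : IsScalarTower Rp Sp Sq := .of_algebraMap_eq' <| by
    apply IsLocalization.ringHom_ext p.primeCompl
    simp only [RingHom.comp_assoc, ← IsScalarTower.algebraMap_eq]
  have : IsLocalization (Algebra.algebraMapSubmonoid Sp q.primeCompl) Sq :=
    .isLocalization_of_submonoid_le _ _ (Algebra.algebraMapSubmonoid S p.primeCompl) _
    (by rintro _ ⟨x, hx, rfl⟩; simp_all [q.over_def p])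
  have : Algebra.FinitePresentation Rp Sp := by
    have : Algebra.IsPushout R Rp S Sp :=
      .symm <| Algebra.isPushout_of_isLocalization p.primeCompl _ _ _
    exact .equiv (Algebra.IsPushout.equiv R Rp S Sp)
  have : Algebra.FormallySmooth (ResidueField Rp) (ResidueField Rp ⊗[Rp] Sq) := by
    let : Algebra S (ResidueField Rp ⊗[R] S) := Algebra.TensorProduct.rightAlgebra
    have : Algebra.FormallySmooth (ResidueField Rp) ((ResidueField Rp ⊗[R] S) ⊗[S] Sq) :=
      .comp _ (ResidueField Rp ⊗[R] S) _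
    let e : ResidueField Rp ⊗[R] S ≃ₐ[S] S ⊗[R] ResidueField Rp :=
      { __ := Algebra.TensorProduct.comm _ _ _, commutes' _ := rfl }
    let e' : (ResidueField Rp ⊗[R] S) ⊗[S] Sq ≃ₐ[R] ResidueField Rp ⊗[Rp] Sq :=
      ((Algebra.TensorProduct.comm _ _ _).restrictScalars R).trans <|
      ((Algebra.TensorProduct.congr (.refl (R := S)) e).restrictScalars R).trans <|
      ((Algebra.TensorProduct.cancelBaseChange _ _ S _ _).restrictScalars R).trans <|
      (Algebra.TensorProduct.comm _ _ _).trans (Algebra.TensorProduct.equivOfCompatibleSMul ..)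
    have : e'.toAlgHom.comp (IsScalarTower.toAlgHom R p.ResidueField _) =
        IsScalarTower.toAlgHom _ _ _ := by ext
    let e'' : (ResidueField Rp ⊗[R] S) ⊗[S] Sq ≃ₐ[ResidueField Rp] ResidueField Rp ⊗[Rp] Sq :=
      { __ := e', commutes' r := congr($this r) }
    exact .of_equiv e''
  have : Module.Flat Rp Sq := (Module.flat_iff_of_isLocalization Rp p.primeCompl Sq).mpr hfl
  have := Algebra.FormallySmooth.of_formallySmooth_residueField_tensor
    (R := Rp) (S := Sq) (P := Sp) (Algebra.algebraMapSubmonoid _ q.primeCompl)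
  exact .comp R Rp Sq

attribute [local instance] Algebra.TensorProduct.rightAlgebra in
theorem leftForm1359 (R B T : Type*) [CommRing R] [CommRing B] [CommRing T] [Algebra R B]
    [Algebra R T] (h : Algebra.Smooth T (B ⊗[R] T)) : Algebra.Smooth T (T ⊗[R] B) := by
  haveI := h
  let e : B ⊗[R] T ≃ₐ[T] T ⊗[R] B :=
    AlgEquiv.ofRingEquiv (f := (Algebra.TensorProduct.comm R B T).toRingEquiv) (by
      intro r
      show (Algebra.TensorProduct.comm R B T) (algebraMap T (B ⊗[R] T) r) =
        algebraMap T (T ⊗[R] B) r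
      rw [Algebra.TensorProduct.right_algebraMap_apply, Algebra.TensorProduct.comm_tmul,
        Algebra.TensorProduct.algebraMap_apply]
      rfl)
  exact ⟨Algebra.FormallySmooth.of_equiv e, Algebra.FinitePresentation.equiv e⟩

attribute [local instance] Algebra.TensorProduct.rightAlgebra in
theorem ring1359 (R B : Type u) [CommRing R] [CommRing B] [Algebra R B] [IsNoetherianRing R]
    [Algebra.FinitePresentation R B] (a : Ideal R)
    (hsm : ∀ n : ℕ, Algebra.Smooth (R ⧸ a ^ (n + 1)) (B ⊗[R] (R ⧸ a ^ (n + 1))))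
    (q : Ideal B) [q.IsPrime] (ha : a ≤ q.comap (algebraMap R B)) : Algebra.IsSmoothAt R q := by
  haveI : IsNoetherianRing B := Algebra.FiniteType.isNoetherianRing R B
  have hsmL : ∀ n : ℕ, Algebra.Smooth (R ⧸ a ^ (n + 1)) ((R ⧸ a ^ (n + 1)) ⊗[R] B) :=
    fun n => leftForm1359 R B _ (hsm n)
  have hflat : ∀ n : ℕ, 0 < n → Module.Flat (R ⧸ a ^ n) ((R ⧸ a ^ n) ⊗[R] B) := by
    intro n hn
    obtain ⟨m, rfl⟩ := Nat.exists_eq_succ_of_ne_zero hn.ne'
    haveI := hsmL m
    infer_instance
  have hq : a.map (algebraMap R B) ≤ q := Ideal.map_le_iff_le_comap.mpr ha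
  have hfl1 : Module.Flat R (LocalizedModule q.primeCompl B) :=
    Groth.Agent.Helper8.LocalCrit.flat_localizedModule_of_flat_mod_pow a hflat q hq
  haveI hfl2 : Module.Flat R (Localization.AtPrime q) := by
    let e := IsLocalizedModule.iso q.primeCompl (Algebra.linearMap B (Localization.AtPrime q))
    exact Module.Flat.of_linearEquiv (e.restrictScalars R).symm
  haveI hpp : (q.comap (algebraMap R B)).IsPrime := Ideal.comap_isPrime _ _
  haveI : q.LiesOver (q.comap (algebraMap R B)) := ⟨rfl⟩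
  have hJp : a ^ (0 + 1) ≤ q.comap (algebraMap R B) := by
    rw [zero_add, pow_one]; exact ha
  letI algκ : Algebra (R ⧸ a ^ (0 + 1)) (q.comap (algebraMap R B)).ResidueField :=
    (Ideal.Quotient.lift (a ^ (0 + 1)) (algebraMap R (q.comap (algebraMap R B)).ResidueField)
      (fun r hr => by
        rw [Ideal.algebraMap_residueField_eq_zero]; exact hJp hr)).toAlgebra
  haveI : IsScalarTower R (R ⧸ a ^ (0 + 1)) (q.comap (algebraMap R B)).ResidueField :=
    IsScalarTower.of_algebraMap_eq (fun r => rfl)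
  haveI := hsmL 0
  haveI : Algebra.FormallySmooth (q.comap (algebraMap R B)).ResidueField
      ((q.comap (algebraMap R B)).ResidueField ⊗[R ⧸ a ^ (0 + 1)]
        ((R ⧸ a ^ (0 + 1)) ⊗[R] B)) := inferInstance
  let e2 := Algebra.TensorProduct.cancelBaseChange R (R ⧸ a ^ (0 + 1))
    (q.comap (algebraMap R B)).ResidueField (q.comap (algebraMap R B)).ResidueField B
  haveI : Algebra.FormallySmooth (q.comap (algebraMap R B)).ResidueField
      ((q.comap (algebraMap R B)).Fiber B) := Algebra.FormallySmooth.of_equiv e2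
  exact isSmoothAt_of_flat_at1359 (q.comap (algebraMap R B)) q

set_option backward.isDefEq.respectTransparency false in
theorem smoothBC1359 {X S : Scheme.{u}} (f : X ⟶ S) (J : S.IdealSheafData)
    (h : Smooth (pullback.snd f J.subschemeι)) {V : S.Opens} (hV : IsAffineOpen V)
    {U : X.Opens} (hU : IsAffineOpen U) (e : U ≤ f ⁻¹ᵁ V) :
    letI := (f.appLE V U e).hom.toAlgebra
    letI := Algebra.TensorProduct.rightAlgebra (R := Γ(S, V)) (A := Γ(X, U))
      (B := Γ(S, V) ⧸ J.ideal ⟨V, hV⟩)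
    Algebra.Smooth (Γ(S, V) ⧸ J.ideal ⟨V, hV⟩)
      (Γ(X, U) ⊗[Γ(S, V)] (Γ(S, V) ⧸ J.ideal ⟨V, hV⟩)) := by
  letI := (f.appLE V U e).hom.toAlgebra
  have e₁ : Spec.map (CommRingCat.ofHom (algebraMap Γ(S, V) Γ(X, U))) ≫ hV.fromSpec =
      hU.fromSpec ≫ f := IsAffineOpen.SpecMap_appLE_fromSpec f hV hU e
  have e₂ : Spec.map (CommRingCat.ofHom (algebraMap Γ(S, V) (Γ(S, V) ⧸ J.ideal ⟨V, hV⟩))) ≫
      hV.fromSpec = J.subschemeCover.f ⟨V, hV⟩ ≫ J.subschemeι := by
    rw [Scheme.IdealSheafData.subschemeCover_map_subschemeι, Scheme.IdealSheafData.glueDataObjι_ι]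
    rfl
  haveI : IsOpenImmersion (J.subschemeCover.f ⟨V, hV⟩) := inferInstance
  let ρ : pullback (Spec.map (CommRingCat.ofHom (algebraMap Γ(S, V) Γ(X, U))))
        (Spec.map (CommRingCat.ofHom (algebraMap Γ(S, V) (Γ(S, V) ⧸ J.ideal ⟨V, hV⟩)))) ⟶
      pullback f J.subschemeι :=
    pullback.map _ _ _ _ hU.fromSpec (J.subschemeCover.f ⟨V, hV⟩) hV.fromSpec e₁ e₂
  haveI : IsOpenImmersion ρ := Scheme.pullback_map_isOpenImmersion _ _ _ _ _ _ _ _ _
  have hρ : ρ ≫ pullback.snd f J.subschemeι =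
      pullback.snd _ _ ≫ J.subschemeCover.f ⟨V, hV⟩ := by
    simp [ρ]
  have h1 : Smooth (pullback.snd (Spec.map (CommRingCat.ofHom (algebraMap Γ(S, V) Γ(X, U))))
      (Spec.map (CommRingCat.ofHom (algebraMap Γ(S, V) (Γ(S, V) ⧸ J.ideal ⟨V, hV⟩))))) := by
    refine MorphismProperty.of_postcomp (W := @Smooth) (W' := @IsOpenImmersion) _
      (J.subschemeCover.f ⟨V, hV⟩) inferInstance ?_
    rw [← hρ]
    infer_instance
  have h2 : Smooth ((pullbackSpecIso Γ(S, V) Γ(X, U) (Γ(S, V) ⧸ J.ideal ⟨V, hV⟩)).inv ≫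
      pullback.snd _ _) := inferInstance
  rw [pullbackSpecIso_inv_snd] at h2
  exact (HasRingHomProperty.Spec_iff (P := @Smooth)).mp h2

set_option backward.isDefEq.respectTransparency false in
theorem main1359 {X S : Scheme.{u}} (f : X ⟶ S) [IsLocallyNoetherian S]
    [LocallyOfFinitePresentation f]
    (I : S.IdealSheafData) (h : ∀ n : ℕ, Smooth (pullback.snd f (I ^ (n + 1)).subschemeι))
    (x : X) (hx : f x ∈ I.support) : x ∈ f.smoothLocus := by
  obtain ⟨V, hV, hfxV, -⟩ :=
    exists_isAffineOpen_mem_and_subset (x := f x) (U := ⊤) trivial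
  obtain ⟨U, hU, hxU, hUV⟩ :=
    exists_isAffineOpen_mem_and_subset (x := x) (U := f ⁻¹ᵁ V) hfxV
  have e : U ≤ f ⁻¹ᵁ V := hUV
  have hfp := f.finitePresentation_appLE hV hU e
  haveI : IsNoetherianRing Γ(S, V) := IsLocallyNoetherian.component_noetherian ⟨V, hV⟩
  algebraize [(f.appLE V U e).hom]
  rw [Scheme.Hom.mem_smoothLocus, formallySmooth_stalkMap_iff V hV U hU e hxU]
  have hcomap : (hU.primeIdealOf ⟨x, hxU⟩).asIdeal.comap
      (algebraMap Γ(S, V) Γ(X, U)) = (hV.primeIdealOf ⟨f x, hfxV⟩).asIdeal :=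
    congr($(IsAffineOpen.comap_primeIdealOf_appLE V hV U hU e hxU).1)
  have hsm : Algebra.IsSmoothAt Γ(S, V) (hU.primeIdealOf ⟨x, hxU⟩).asIdeal := by
    refine ring1359 Γ(S, V) Γ(X, U) (I.ideal ⟨V, hV⟩) ?_ _ ?_
    · intro n
      exact smoothBC1359 f (I ^ (n + 1)) (h n) hV hU e
    · intro r hr
      rw [hcomap]
      by_contra hr'
      have hz : f x ∈ S.zeroLocus (U := V) (I.ideal ⟨V, hV⟩) :=
        (Scheme.IdealSheafData.mem_support_iff_of_mem (U := ⟨V, hV⟩) hfxV).mp hx
      have hnb : f x ∉ S.basicOpen r := (Scheme.mem_zeroLocus_iff _ _ _).mp hz r hr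
      apply hnb
      have h1 : hV.primeIdealOf ⟨f x, hfxV⟩ ∈
          (PrimeSpectrum.basicOpen r : Set (PrimeSpectrum Γ(S, V))) := hr'
      have h2 : hV.primeIdealOf ⟨f x, hfxV⟩ ∈ hV.fromSpec ⁻¹ᵁ S.basicOpen r := by
        rw [hV.fromSpec_preimage_basicOpen]; exact h1
      have h3 : hV.fromSpec (hV.primeIdealOf ⟨f x, hfxV⟩) = f x :=
        hV.fromSpec_primeIdealOf ⟨f x, hfxV⟩
      rw [← h3]; exact h2
  exact hsm

end Helpers

open AlgebraicGeometry CategoryTheory Limits in
/-- Let S be locally Noetherian, f : X → S of finite type, and Z the closed subscheme of S cut out by an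
ideal sheaf I, with infinitesimal neighbourhoods cut out by the powers of I. If the base change of f
to every infinitesimal neighbourhood is smooth, then every point of X lying over Z is in the smooth
locus of f. -/
theorem result {X S : Scheme.{u}} (f : X ⟶ S) [IsLocallyNoetherian S] [LocallyOfFinitePresentation f] [QuasiCompact f]
    (I : S.IdealSheafData) (h : ∀ n : ℕ, Smooth (pullback.snd f (I ^ (n + 1)).subschemeι)) (x : X) (hx : f x ∈ I.support) :
    x ∈ f.smoothLocus := by
  exact main1359 f I h x hx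

end Groth.Agent.S1359
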