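import Groth.Statements.S2156
import Mathlib
import Groth.Agent.S1359

set_option autoImplicit false
universe u
open CategoryTheory AlgebraicGeometry
open Mor

namespace Groth.Agent.S2156

section Helpers
open TensorProduct AlgebraicGeometry CategoryTheory Limits

instance lfpFiber2156 {X Y : Scheme.{u}} (f : X ⟶ Y) [LocallyOfFinitePresentation f] (y : Y) :
    LocallyOfFinitePresentation (f.fiberToSpecResidueField y) :=
  MorphismProperty.pullback_snd _ _ inferInstance

theorem flat_of_localRingHom2156 {R B : Type*} [CommRing R] [CommRing B] (φ : R →+* B)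
    (p : Ideal R) [p.IsPrime] (q : Ideal B) [q.IsPrime] (hpq : p = q.comap φ)
    (h : (Localization.localRingHom p q φ hpq).Flat) :
    letI := φ.toAlgebra; Module.Flat R (Localization.AtPrime q) := by
  subst hpq
  algebraize [φ, Localization.localRingHom (Ideal.comap φ q) q φ rfl]
  have : IsScalarTower R (Localization.AtPrime (Ideal.comap φ q)) (Localization.AtPrime q) :=
    .of_algebraMap_eq fun x ↦ (Localization.localRingHom_to_map _ _ _ rfl x).symm
  rw [RingHom.Flat, Module.flat_iff_of_isLocalization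
    (S := (Localization.AtPrime (Ideal.comap φ q))) (p := (Ideal.comap φ q).primeCompl)] at h
  exact h

set_option backward.isDefEq.respectTransparency false in
theorem fiberSmooth2156 {X Y : Scheme.{u}} (f : X ⟶ Y) [LocallyOfFinitePresentation f]
    {V : Y.Opens} (hV : IsAffineOpen V) {U : X.Opens} (hU : IsAffineOpen U) (e : U ≤ f ⁻¹ᵁ V)
    (P : PrimeSpectrum Γ(Y, V))
    (hsm : (f.fiberι (hV.fromSpec P)) ⁻¹ᵁ U ≤
      (f.fiberToSpecResidueField (hV.fromSpec P)).smoothLocus) :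
    letI := (f.appLE V U e).hom.toAlgebra
    Algebra.FormallySmooth P.asIdeal.ResidueField (P.asIdeal.Fiber Γ(X, U)) := by
  letI := (f.appLE V U e).hom.toAlgebra
  have e₁ : Spec.map (CommRingCat.ofHom (algebraMap Γ(Y, V) Γ(X, U))) ≫ hV.fromSpec =
      hU.fromSpec ≫ f := IsAffineOpen.SpecMap_appLE_fromSpec f hV hU e
  let ρ : (Spec.map (CommRingCat.ofHom (algebraMap Γ(Y, V) Γ(X, U)))).fiber P ⟶
      f.fiber (hV.fromSpec P) :=
    pullback.map _ _ _ _ hU.fromSpec (Spec.map (hV.fromSpec.residueFieldMap P)) hV.fromSpec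
      e₁ (by simp; rfl)
  haveI : IsOpenImmersion ρ := Scheme.pullback_map_isOpenImmersion _ _ _ _ _ _ _ _ _
  have hρ2 : ρ ≫ f.fiberToSpecResidueField (hV.fromSpec P) =
      (Spec.map (CommRingCat.ofHom (algebraMap Γ(Y, V) Γ(X, U)))).fiberToSpecResidueField P ≫
        Spec.map (hV.fromSpec.residueFieldMap P) := by
    simp [ρ, Scheme.Hom.fiberToSpecResidueField]
  have hρ1 : ρ ≫ f.fiberι (hV.fromSpec P) =
      (Spec.map (CommRingCat.ofHom (algebraMap Γ(Y, V) Γ(X, U)))).fiberι P ≫ hU.fromSpec := by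
    simp [ρ, Scheme.Hom.fiberι]
  have htop : (ρ ≫ f.fiberToSpecResidueField (hV.fromSpec P)).smoothLocus = ⊤ := by
    rw [← Scheme.Hom.preimage_smoothLocus_eq, eq_top_iff]
    intro w _
    refine hsm ?_
    show (f.fiberι (hV.fromSpec P)) (ρ w) ∈ U
    rw [← Scheme.Hom.comp_apply, hρ1, Scheme.Hom.comp_apply]
    have : hU.fromSpec (((Spec.map (CommRingCat.ofHom
        (algebraMap Γ(Y, V) Γ(X, U)))).fiberι P) w) ∈ Set.range hU.fromSpec := ⟨_, rfl⟩
    rwa [hU.range_fromSpec] at this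
  haveI : Smooth (ρ ≫ f.fiberToSpecResidueField (hV.fromSpec P)) :=
    Scheme.Hom.smoothLocus_eq_top_iff.mp htop
  have h2 : Smooth ((Spec.map (CommRingCat.ofHom
      (algebraMap Γ(Y, V) Γ(X, U)))).fiberToSpecResidueField P ≫
        Spec.map (hV.fromSpec.residueFieldMap P)) := by
    rw [← hρ2]; infer_instance
  have h3 : Smooth ((Spec.map (CommRingCat.ofHom
      (algebraMap Γ(Y, V) Γ(X, U)))).fiberToSpecResidueField P) :=
    (MorphismProperty.cancel_right_of_respectsIso (P := @Smooth) _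
      (Spec.map (hV.fromSpec.residueFieldMap P))).mp h2
  have h4 : Smooth (Spec.map (CommRingCat.ofHom
      (algebraMap P.asIdeal.ResidueField (P.asIdeal.Fiber Γ(X, U))))) :=
    (MorphismProperty.arrow_mk_iso_iff @Smooth
      (Spec.fiberToSpecResidueFieldIso Γ(Y, V) Γ(X, U) P)).mp h3
  have h5 := (HasRingHomProperty.Spec_iff (P := @Smooth)).mp h4
  have h6 : Algebra.Smooth P.asIdeal.ResidueField (P.asIdeal.Fiber Γ(X, U)) :=
    RingHom.smooth_algebraMap.mp h5
  exact h6.1

set_option backward.isDefEq.respectTransparency false in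
theorem fwd2156 {X Y : Scheme.{u}} (f : X ⟶ Y) [LocallyOfFinitePresentation f] (x : X)
    (hx : x ∈ f.smoothLocus) :
    (f.stalkMap x).hom.Flat ∧
      f.asFiber x ∈ (f.fiberToSpecResidueField (f.base x)).smoothLocus := by
  have hW : Smooth (f.smoothLocus.ι ≫ f) := by
    rw [← Scheme.Hom.smoothLocus_eq_top_iff, ← Scheme.Hom.preimage_smoothLocus_eq]
    exact Scheme.Opens.ι_preimage_self _
  constructor
  · have h1 : ((f.smoothLocus.ι ≫ f).stalkMap ⟨x, hx⟩).hom.Flat :=
      Flat.stalkMap (f.smoothLocus.ι ≫ f) ⟨x, hx⟩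
    rw [Scheme.Hom.stalkMap_comp] at h1
    exact (RingHom.Flat.respectsIso.cancel_right_isIso _
      (f.smoothLocus.ι.stalkMap ⟨x, hx⟩)).mp h1
  · let j' : (f.smoothLocus.ι ≫ f).fiber (f x) ⟶ f.fiber (f x) :=
      pullback.map (f.smoothLocus.ι ≫ f) (Y.fromSpecResidueField (f x)) f
        (Y.fromSpecResidueField (f x)) f.smoothLocus.ι (𝟙 _) (𝟙 _) (by simp) (by simp)
    haveI : IsOpenImmersion j' := Scheme.pullback_map_isOpenImmersion _ _ _ _ _ _ _ _ _
    have hj2 : j' ≫ f.fiberToSpecResidueField (f x) =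
        (f.smoothLocus.ι ≫ f).fiberToSpecResidueField (f x) := by
      simp [j', Scheme.Hom.fiberToSpecResidueField]
    haveI hsm : Smooth (j' ≫ f.fiberToSpecResidueField (f x)) := by
      rw [hj2]; exact MorphismProperty.pullback_snd _ _ hW
    have hr : Set.range j' = _ :=
      Scheme.Pullback.range_map (f.smoothLocus.ι ≫ f) (Y.fromSpecResidueField (f x)) f
        (Y.fromSpecResidueField (f x)) f.smoothLocus.ι (𝟙 _) (𝟙 _) (by simp) (by simp)
    have hrange : f.asFiber x ∈ Set.range j' := by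
      rw [hr]
      refine ⟨?_, ?_⟩
      · show (f.fiberι (f x)) (f.asFiber x) ∈ Set.range f.smoothLocus.ι
        rw [Scheme.Hom.fiberι_asFiber, Scheme.Opens.range_ι]; exact hx
      · simp
    obtain ⟨w, hw⟩ := hrange
    have hwm : w ∈ (j' ≫ f.fiberToSpecResidueField (f x)).smoothLocus :=
      (Scheme.Hom.smoothLocus_eq_top (j' ≫ f.fiberToSpecResidueField (f x))).ge (Set.mem_univ w)
    rw [← Scheme.Hom.preimage_smoothLocus_eq] at hwm
    rw [← hw]; exact hwm

set_option backward.isDefEq.respectTransparency false in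
theorem bwd2156 {X Y : Scheme.{u}} (f : X ⟶ Y) [LocallyOfFinitePresentation f] (x : X)
    (hfl : (f.stalkMap x).hom.Flat)
    (hz : f.asFiber x ∈ (f.fiberToSpecResidueField (f.base x)).smoothLocus) :
    x ∈ f.smoothLocus := by
  obtain ⟨t, ht, htpre⟩ := (f.fiberι (f x)).isEmbedding.isInducing.isOpen_iff.mp
    (f.fiberToSpecResidueField (f x)).smoothLocus.2
  have hxt : x ∈ t := by
    have h0 : f.asFiber x ∈ (f.fiberι (f x)) ⁻¹' t := by rw [htpre]; exact hz
    rw [Set.mem_preimage, Scheme.Hom.fiberι_asFiber] at h0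
    exact h0
  obtain ⟨V, hV, hfxV, -⟩ :=
    exists_isAffineOpen_mem_and_subset (x := f x) (U := ⊤) trivial
  obtain ⟨U, hU, hxU, hUsub⟩ :=
    exists_isAffineOpen_mem_and_subset (x := x) (U := (⟨t, ht⟩ : X.Opens) ⊓ f ⁻¹ᵁ V)
      ⟨hxt, hfxV⟩
  have e : U ≤ f ⁻¹ᵁ V := fun a ha => (hUsub ha).2
  have hUt : ∀ a, a ∈ U → a ∈ t := fun a ha => (hUsub ha).1
  have key : ∀ y' (_ : y' = f x), (f.fiberι y') ⁻¹ᵁ U ≤
      (f.fiberToSpecResidueField y').smoothLocus := by
    intro y' ey
    subst ey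
    intro w hw
    have h0 : w ∈ (f.fiberι (f x)) ⁻¹' t := hUt _ hw
    rw [htpre] at h0
    exact h0
  have hP : hV.fromSpec (hV.primeIdealOf ⟨f x, hfxV⟩) = f x :=
    hV.fromSpec_primeIdealOf ⟨f x, hfxV⟩
  have hFS := fiberSmooth2156 f hV hU e (hV.primeIdealOf ⟨f x, hfxV⟩) (key _ hP)
  have hfp := f.finitePresentation_appLE hV hU e
  algebraize [(f.appLE V U e).hom]
  rw [Scheme.Hom.mem_smoothLocus, formallySmooth_stalkMap_iff V hV U hU e hxU]
  have hcomap : (hU.primeIdealOf ⟨x, hxU⟩).asIdeal.comap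
      (algebraMap Γ(Y, V) Γ(X, U)) = (hV.primeIdealOf ⟨f x, hfxV⟩).asIdeal :=
    congr($(IsAffineOpen.comap_primeIdealOf_appLE V hV U hU e hxU).1)
  haveI : (hU.primeIdealOf ⟨x, hxU⟩).asIdeal.LiesOver
      (hV.primeIdealOf ⟨f x, hfxV⟩).asIdeal := ⟨hcomap.symm⟩
  haveI := hFS
  haveI : Module.Flat Γ(Y, V) (Localization.AtPrime (hU.primeIdealOf ⟨x, hxU⟩).asIdeal) :=
    flat_of_localRingHom2156 (f.appLE V U e).hom _ _ hcomap.symm
      ((RingHom.Flat.respectsIso.arrow_mk_iso_iff
        (IsAffineOpen.arrowStalkMapIso f V hV U hU e hxU)).mp hfl)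
  exact Groth.Agent.S1359.isSmoothAt_of_flat_at1359 (hV.primeIdealOf ⟨f x, hfxV⟩).asIdeal
    (hU.primeIdealOf ⟨x, hxU⟩).asIdeal

end Helpers

/-- Let `f : X → S` be locally of finite presentation and `x ∈ X` with image `s`. Then `f` is smooth at
`x` if and only if `O_{S,s} → O_{X,x}` is flat and the fibre `X_s → Spec κ(s)` is smooth at the
point corresponding to `x`. -/
theorem result {X S : Scheme.{u}} (f : X ⟶ S) [LocallyOfFinitePresentation f] (x : X)
    [LocallyOfFinitePresentation (f.fiberToSpecResidueField (f.base x))] :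
    x ∈ f.smoothLocus ↔
      (f.stalkMap x).hom.Flat ∧ f.asFiber x ∈ (f.fiberToSpecResidueField (f.base x)).smoothLocus := by
  constructor
  · exact fwd2156 f x
  · rintro ⟨hfl, hz⟩
    exact bwd2156 f x hfl hz

end Groth.Agent.S2156
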