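import Groth.Statements.S11100
import Mathlib
import Groth.Agent.S2156
import Groth.Agent.Lib.Helper24.RegSmoothAt
import Groth.Agent.Lib.Helper24.FiberStalk
import Groth.Agent.H29.RegLocal2

set_option autoImplicit false
universe u
open CategoryTheory AlgebraicGeometry
open Neron

namespace Groth.Agent.S11100

section Helpers
open AlgebraicGeometry CategoryTheory Limits IsLocalRing Opposite

theorem exists_gen11100 {R : Type u} [CommRing R] [IsDedekindDomain R] (P : Ideal R) [P.IsPrime] :
    ∃ π : Localization.AtPrime P, maximalIdeal (Localization.AtPrime P) = Ideal.span {π} := by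
  by_cases hP : P = ⊥
  · subst hP
    refine ⟨0, ?_⟩
    rw [← Localization.AtPrime.map_eq_maximalIdeal, Ideal.map_bot]
    simp
  · haveI := IsLocalization.AtPrime.isDiscreteValuationRing_of_dedekind_domain R hP
      (Localization.AtPrime P)
    obtain ⟨π, hπ⟩ := IsDiscreteValuationRing.exists_irreducible (Localization.AtPrime P)
    exact ⟨π, hπ.maximalIdeal_eq⟩

theorem gen_transport11100 {A L : Type u} [CommRing A] [IsLocalRing A] [CommRing L]
    [IsLocalRing L] (e : L ≃+* A) (h : ∃ π : L, maximalIdeal L = Ideal.span {π}) :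
    ∃ π : A, maximalIdeal A = Ideal.span {π} := by
  obtain ⟨π, hπ⟩ := h
  refine ⟨e π, ?_⟩
  rw [← IsLocalRing.map_maximalIdeal_of_surjective (e : L →+* A) e.surjective, hπ,
    Ideal.map_span, Set.image_singleton]
  rfl

theorem reg_fibre11100 {A B : Type u} [CommRing A] [IsLocalRing A] [IsDomain A]
    [CommRing B] [IsRegularLocalRing B] (φ : A →+* B) [IsLocalHom φ] (ψ : B →+* A)
    (hψ : ∀ a, ψ (φ a) = a) (π : A) (hπ : maximalIdeal A = Ideal.span {π}) :
    IsRegularLocalRing (B ⧸ (maximalIdeal A).map φ) := by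
  have hmap : (maximalIdeal A).map φ = Ideal.span {φ π} := by
    rw [hπ, Ideal.map_span, Set.image_singleton]
  rw [hmap]
  by_cases h0 : π = 0
  · rw [h0, map_zero]
    have hb : (Ideal.span {(0 : B)}) = ⊥ := by simp
    rw [hb]
    exact IsRegularLocalRing.of_ringEquiv (RingEquiv.quotientBot B).symm
  · have hπm : π ∈ maximalIdeal A := by rw [hπ]; exact Ideal.mem_span_singleton_self π
    have h1 : φ π ∈ maximalIdeal B := by
      rw [IsLocalRing.mem_maximalIdeal, mem_nonunits_iff] at hπm ⊢
      exact fun h => hπm (isUnit_of_map_unit φ π h)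
    have hsurj : Function.Surjective ψ := fun a => ⟨φ a, hψ a⟩
    have h2 : φ π ∉ maximalIdeal B ^ 2 := by
      intro h
      have h3 : ψ (φ π) ∈ (maximalIdeal B ^ 2).map ψ := Ideal.mem_map_of_mem ψ h
      rw [hψ, Ideal.map_pow, IsLocalRing.map_maximalIdeal_of_surjective ψ hsurj, hπ,
        Ideal.span_singleton_pow, Ideal.mem_span_singleton'] at h3
      obtain ⟨c, hc⟩ := h3
      have h6 : π * (c * π - 1) = 0 := by linear_combination hc
      rcases mul_eq_zero.mp h6 with h7 | h7
      · exact h0 h7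
      · have hu : IsUnit π := isUnit_iff_exists_inv.mpr ⟨c, by
          rw [mul_comm]; exact sub_eq_zero.mp h7⟩
        exact (IsLocalRing.mem_maximalIdeal π).mp hπm hu
    exact (Groth.Agent.H29.isRegularLocalRing_quotient_span_singleton B (φ π) h1 h2).1

theorem ring11100 (k S : Type u) [CommRing k] (hk : IsField k) [CommRing S] [Algebra k S]
    [Algebra.FiniteType k S] (q : Ideal S) [q.IsPrime]
    [IsRegularLocalRing (Localization.AtPrime q)]
    (ρ : S →+* k) (hρ : ∀ c, ρ (algebraMap k S c) = c) (hq : q = RingHom.ker ρ) :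
    Algebra.IsSmoothAt k q := by
  letI : Field k := hk.toField
  have hsurjρ : Function.Surjective ρ := fun c => ⟨algebraMap k S c, hρ c⟩
  haveI : q.IsMaximal := by rw [hq]; exact RingHom.ker_isMaximal_of_surjective ρ hsurjρ
  have hsurj : Function.Surjective (algebraMap k q.ResidueField) := by
    intro y
    obtain ⟨a, rfl⟩ := Ideal.algebraMap_residueField_surjective q y
    refine ⟨ρ a, ?_⟩
    rw [IsScalarTower.algebraMap_apply k S q.ResidueField, ← sub_eq_zero, ← map_sub,
      Ideal.algebraMap_residueField_eq_zero, hq, RingHom.mem_ker, map_sub, hρ, sub_self]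
  haveI : Algebra.FormallySmooth k q.ResidueField :=
    Algebra.FormallySmooth.of_equiv (AlgEquiv.ofBijective (Algebra.ofId k q.ResidueField)
      ⟨(algebraMap k q.ResidueField).injective, hsurj⟩)
  exact Groth.Agent.Helper24.RegSmoothAt.smoothAt_of_regular k S q

set_option backward.isDefEq.respectTransparency false in
theorem main11100 {R : Type u} [CommRing R] [IsDedekindDomain R]
    {X : Scheme.{u}} (p : X ⟶ Spec (CommRingCat.of R)) [Flat p] [LocallyOfFinitePresentation p]
    (hreg : ∀ x : X, IsRegularLocalRing (X.presheaf.stalk x))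
    (s : Spec (CommRingCat.of R) ⟶ X) (hs : s ≫ p = 𝟙 _) (t : Spec (CommRingCat.of R)) :
    s t ∈ p.smoothLocus := by
  have hpx : p (s t) = t := by
    rw [← Scheme.Hom.comp_apply, hs]; rfl
  refine Groth.Agent.S2156.bwd2156 p (s t) (Flat.stalkMap p (s t)) ?_
  -- regularity of the local ring of the fibre
  have hregF : IsRegularLocalRing
      ((p.fiber (p (s t))).presheaf.stalk (p.asFiber (s t))) := by
    obtain ⟨eq⟩ := Groth.Agent.Helper24.FiberStalk.fiberStalkQuot p (s t)
    haveI := hreg (s t)
    haveI : IsIso (s ≫ p) := by rw [hs]; infer_instance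
    haveI hiso : IsIso (p.stalkMap (s t) ≫ s.stalkMap t) := by
      rw [← Scheme.Hom.stalkMap_comp]; infer_instance
    have hcomp : p.stalkMap (s t) ≫ (s.stalkMap t ≫ inv (p.stalkMap (s t) ≫ s.stalkMap t)) =
        𝟙 _ := by
      rw [← Category.assoc, IsIso.hom_inv_id]
    have hψ : ∀ a, (s.stalkMap t ≫ inv (p.stalkMap (s t) ≫ s.stalkMap t)).hom
        ((p.stalkMap (s t)).hom a) = a := fun a => by
      have := congr($(hcomp).hom a)
      simpa using this
    have e0 : Localization.AtPrime (PrimeSpectrum.asIdeal (p (s t))) ≃+*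
        (Spec (CommRingCat.of R)).presheaf.stalk (p (s t)) :=
      (AlgebraicGeometry.StructureSheaf.stalkIso R (p (s t))).toRingEquiv
    obtain ⟨π, hπ⟩ := gen_transport11100 e0
      (exists_gen11100 (PrimeSpectrum.asIdeal (p (s t))))
    haveI := reg_fibre11100 (p.stalkMap (s t)).hom
      (s.stalkMap t ≫ inv (p.stalkMap (s t) ≫ s.stalkMap t)).hom hψ π hπ
    exact IsRegularLocalRing.of_ringEquiv eq.symm
  -- the section of the fibre
  obtain ⟨σ, hσ1, hσ2⟩ : ∃ σ : Spec ((Spec (CommRingCat.of R)).residueField (p (s t))) ⟶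
      p.fiber (p (s t)),
      σ ≫ p.fiberι (p (s t)) =
        (Spec (CommRingCat.of R)).fromSpecResidueField (p (s t)) ≫ s ∧
      σ ≫ p.fiberToSpecResidueField (p (s t)) = 𝟙 _ := by
    refine ⟨pullback.lift ((Spec (CommRingCat.of R)).fromSpecResidueField (p (s t)) ≫ s) (𝟙 _)
      (by rw [Category.assoc, hs, Category.comp_id, Category.id_comp]), ?_, ?_⟩
    · simp [Scheme.Hom.fiberι]
    · simp [Scheme.Hom.fiberToSpecResidueField]
  have hσz : ∀ pt, σ pt = p.asFiber (s t) := by
    intro pt
    apply (p.fiberι (p (s t))).isEmbedding.injective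
    rw [Scheme.Hom.fiberι_asFiber, ← Scheme.Hom.comp_apply, hσ1, Scheme.Hom.comp_apply,
      Scheme.fromSpecResidueField_apply, hpx]
  -- affine chart
  obtain ⟨W, hW, hzW, -⟩ :=
    exists_isAffineOpen_mem_and_subset (x := p.asFiber (s t)) (U := ⊤) trivial
  have e : W ≤ (p.fiberToSpecResidueField (p (s t))) ⁻¹ᵁ ⊤ := le_top
  have hfp := (p.fiberToSpecResidueField (p (s t))).finitePresentation_appLE
    (isAffineOpen_top _) hW e
  have hσW : (⊤ : (Spec ((Spec (CommRingCat.of R)).residueField (p (s t)))).Opens) ≤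
      σ ⁻¹ᵁ W := by
    intro pt _
    show σ pt ∈ W
    rw [hσz pt]; exact hzW
  have hcompρ : (p.fiberToSpecResidueField (p (s t))).appLE ⊤ W e ≫ σ.appLE W ⊤ hσW =
      𝟙 _ := by
    rw [Scheme.Hom.appLE_comp_appLE]
    have key : ∀ (h : Spec ((Spec (CommRingCat.of R)).residueField (p (s t))) ⟶
        Spec ((Spec (CommRingCat.of R)).residueField (p (s t)))) (hh : h = 𝟙 _)
        (e' : ⊤ ≤ h ⁻¹ᵁ ⊤), h.appLE ⊤ ⊤ e' = 𝟙 _ := by
      rintro h rfl e'
      exact ((𝟙 _ : Spec ((Spec (CommRingCat.of R)).residueField (p (s t))) ⟶ _).app_eq_appLE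
        (U := ⊤)).symm.trans (Scheme.Hom.id_app ⊤)
    exact key _ hσ2 _
  have hk : IsField Γ(Spec ((Spec (CommRingCat.of R)).residueField (p (s t))), ⊤) :=
    MulEquiv.isField (Field.toIsField _)
      (Scheme.ΓSpecIso _).commRingCatIsoToRingEquiv.toMulEquiv
  have hq : (hW.primeIdealOf ⟨p.asFiber (s t), hzW⟩).asIdeal =
      RingHom.ker (σ.appLE W ⊤ hσW).hom := by
    have h1 := IsAffineOpen.comap_primeIdealOf_appLE (f := σ)
      (x := (p.fiberToSpecResidueField (p (s t))) (p.asFiber (s t))) W hW ⊤
      (isAffineOpen_top _) hσW trivial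
    have h2 : hW.primeIdealOf ⟨σ ((p.fiberToSpecResidueField (p (s t))) (p.asFiber (s t))),
        hσW trivial⟩ = hW.primeIdealOf ⟨p.asFiber (s t), hzW⟩ := by
      congr 1
      exact Subtype.ext (hσz _)
    rw [← h2, ← h1]
    show Ideal.comap (σ.appLE W ⊤ hσW).hom _ = _
    rw [RingHom.ker_eq_comap_bot]
    congr 1
    letI := hk.toField
    exact Ideal.eq_bot_of_prime _
  algebraize [((p.fiberToSpecResidueField (p (s t))).appLE ⊤ W e).hom]
  have hρ : ∀ c, (σ.appLE W ⊤ hσW).hom
      (algebraMap Γ(Spec ((Spec (CommRingCat.of R)).residueField (p (s t))), ⊤)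
        Γ(p.fiber (p (s t)), W) c) = c := fun c => by
    have := congr($(hcompρ).hom c)
    simpa [RingHom.algebraMap_toAlgebra] using this
  rw [Scheme.Hom.mem_smoothLocus, formallySmooth_stalkMap_iff ⊤ (isAffineOpen_top _) W hW e hzW]
  letI := (p.fiber (p (s t))).presheaf.algebra_section_stalk (U := W) ⟨p.asFiber (s t), hzW⟩
  haveI := hW.isLocalization_stalk ⟨p.asFiber (s t), hzW⟩
  haveI : IsRegularLocalRing
      (Localization.AtPrime (hW.primeIdealOf ⟨p.asFiber (s t), hzW⟩).asIdeal) :=
    IsRegularLocalRing.of_ringEquiv (IsLocalization.algEquiv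
      (hW.primeIdealOf ⟨p.asFiber (s t), hzW⟩).asIdeal.primeCompl
      ((p.fiber (p (s t))).presheaf.stalk (p.asFiber (s t)))
      (Localization.AtPrime (hW.primeIdealOf ⟨p.asFiber (s t), hzW⟩).asIdeal)).toRingEquiv
  exact ring11100 _ _ hk _ (σ.appLE W ⊤ hσW).hom hρ hq

end Helpers

/-- Let R be a Dedekind domain and p : X → Spec R flat and locally of finite presentation with X regular
(all local rings regular). Then every section s of p factors through the smooth locus of p: for
every point t of Spec R, p is smooth at s(t). (The published statement is for regular arithmetic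
surfaces over a Dedekind domain with perfect residue fields; this row assumes only that X is flat,
locally of finite presentation and regular.) -/
theorem result {R : Type u} [CommRing R] [IsDedekindDomain R]
    {X : Scheme.{u}} (p : X ⟶ Spec (CommRingCat.of R)) [Flat p] [LocallyOfFinitePresentation p]
    (hreg : ∀ x : X, IsRegularLocalRing (X.presheaf.stalk x))
    (s : Spec (CommRingCat.of R) ⟶ X) (hs : s ≫ p = 𝟙 _) (t : Spec (CommRingCat.of R)) :
    s.base t ∈ p.smoothLocus := by
  exact main11100 p hreg s hs t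

end Groth.Agent.S11100
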