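import Mathlib
import Mathlib
import Groth.Agent.H11.HensGalois2
import Groth.Statements.S11105

set_option autoImplicit false
universe u
open Hensel

namespace Groth.Agent.S11105

/-- Let R be a discrete valuation ring with fraction field K, K^s a separable closure of K, R^s the
integral closure of R in K^s and P^s a maximal ideal of R^s. Let D be the decomposition group of P^s
— the subgroup of automorphisms of K^s over K carrying P^s into (hence onto) itself — and L its
fixed field. Then the integral closure of R in L, localized at the prime Q = P^s ∩ L below P^s, is a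
Henselian local ring (this local ring is the Henselization of R). -/
theorem result (R K Ks : Type u) [CommRing R] [IsDomain R]
    [IsDiscreteValuationRing R] [Field K] [Algebra R K] [IsFractionRing R K]
    [Field Ks] [Algebra K Ks] [IsSepClosure K Ks] [Algebra R Ks] [IsScalarTower R K Ks]
    (Ps : Ideal (integralClosure R Ks)) [Ps.IsMaximal]
    (L : IntermediateField K Ks)
    (hL : L = IntermediateField.fixedField
      (Subgroup.closure {σ : Ks ≃ₐ[K] Ks | ∀ x : integralClosure R Ks, x ∈ Ps →
        ∃ h : σ (x : Ks) ∈ integralClosure R Ks, (⟨σ (x : Ks), h⟩ : integralClosure R Ks) ∈ Ps}))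
    (Q : Ideal (integralClosure R L)) [Q.IsPrime]
    (hQ : ∀ y : integralClosure R L, y ∈ Q ↔
      ∃ x : integralClosure R Ks, x ∈ Ps ∧ (x : Ks) = ((y : L) : Ks)) :
    HenselianLocalRing (Localization.AtPrime Q) := by
  have hQ' : ∀ y : integralClosure R L, y ∈ Q ↔
      ((y : L) : Ks) ∈ Groth.Agent.H11.HensGalois2.PsSet R Ks Ps := by
    intro y
    rw [hQ y]
    constructor
    · rintro ⟨x, hx, hxy⟩
      exact ⟨hxy ▸ x.2, by
        have : (⟨((y : L) : Ks), hxy ▸ x.2⟩ : integralClosure R Ks) = x := Subtype.ext hxy.symm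
        rw [this]; exact hx⟩
    · rintro ⟨h, hmem⟩
      exact ⟨⟨_, h⟩, hmem, rfl⟩
  refine Groth.Agent.H11.HensGalois2.henselian_localization R K Ks Ps
    {σ : Ks ≃ₐ[K] Ks | ∀ x : integralClosure R Ks, x ∈ Ps →
      ∃ h : σ (x : Ks) ∈ integralClosure R Ks, (⟨σ (x : Ks), h⟩ : integralClosure R Ks) ∈ Ps}
    ?_ L hL Q hQ'
  rintro σ hσ x ⟨hx, hxP⟩
  exact hσ ⟨x, hx⟩ hxP

end Groth.Agent.S11105
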