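import Groth.Statements.S11125
import Mathlib

set_option autoImplicit false
universe v u
open CategoryTheory
open CohDer

namespace Groth.Agent.S11125


section helpers

open Limits CochainComplex HomComplex

variable {A : Type u} [Category.{v} A] [Abelian A]

theorem lifting_of_kinj (I : CochainComplex A ℤ) [I.IsKInjective] [∀ n, Injective (I.X n)]
    (S : ShortComplex (CochainComplex A ℤ)) (hS : S.ShortExact) (h3 : S.X₃.Acyclic)
    (φ : S.X₁ ⟶ I) : ∃ ψ : S.X₂ ⟶ I, S.f ≫ ψ = φ := by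
  haveI := hS.mono_f
  haveI := hS.epi_g
  obtain ⟨ψ₀, hψ₀⟩ : ∃ ψ₀ : Cochain S.X₂ I 0,
      (Cochain.ofHom S.f).comp ψ₀ (zero_add 0) = Cochain.ofHom φ := by
    refine ⟨Cochain.ofHoms (fun n => Injective.factorThru (φ.f n) (S.f.f n)), ?_⟩
    apply Cochain.ext₀
    intro p
    rw [Cochain.zero_cochain_comp_v, Cochain.ofHom_v, Cochain.ofHoms_v, Cochain.ofHom_v,
      Injective.comp_factorThru]
  have hd₀ : (Cochain.ofHom S.f).comp (δ 0 1 ψ₀) (zero_add 1) = 0 := by
    rw [← δ_ofHom_comp, hψ₀, δ_ofHom]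
  have hSp : ∀ p : ℤ, (S.map (HomologicalComplex.eval A (ComplexShape.up ℤ) p)).ShortExact :=
    fun p => hS.map_of_exact _
  have h0 : ∀ (p q : ℤ) (hpq : p + 1 = q), S.f.f p ≫ (δ 0 1 ψ₀).v p q hpq = 0 := by
    intro p q hpq
    have := Cochain.congr_v hd₀ p q hpq
    rwa [Cochain.zero_cochain_comp_v, Cochain.ofHom_v, Cochain.zero_v] at this
  obtain ⟨c, hc⟩ : ∃ c : Cochain S.X₃ I 1,
      (Cochain.ofHom S.g).comp c (zero_add 1) = δ 0 1 ψ₀ := by
    refine ⟨Cochain.mk (fun p q hpq =>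
      haveI := (hSp p).epi_g
      (hSp p).exact.desc ((δ 0 1 ψ₀).v p q hpq) (h0 p q hpq)), ?_⟩
    ext p q hpq
    haveI := (hSp p).epi_g
    rw [Cochain.zero_cochain_comp_v, Cochain.ofHom_v, Cochain.mk_v]
    exact (hSp p).exact.g_desc _ _
  have hδc : δ 1 2 c = 0 := by
    have h1 : (Cochain.ofHom S.g).comp (δ 1 2 c) (zero_add 2) = 0 := by
      rw [← δ_ofHom_comp, hc, δ_δ]
    ext p q hpq
    have := Cochain.congr_v h1 p q hpq
    rw [Cochain.zero_cochain_comp_v, Cochain.ofHom_v, Cochain.zero_v] at this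
    rw [Cochain.zero_v, ← cancel_epi (S.g.f p), this, comp_zero]
  obtain ⟨β, hβ⟩ := IsKInjective.eq_δ_of_cocycle (Cocycle.mk c 2 (by rfl) hδc) h3 0 (zero_add 1)
  have hβ' : δ 0 1 β = c := hβ
  have hδψ : δ 0 1 (ψ₀ - (Cochain.ofHom S.g).comp β (zero_add 0)) = 0 := by
    rw [δ_sub, δ_ofHom_comp, hβ', hc, sub_self]
  refine ⟨Cocycle.homOf (Cocycle.mk _ 1 (zero_add 1) hδψ), ?_⟩
  apply Cochain.ofHom_injective
  rw [Cochain.ofHom_comp, Cocycle.cochain_ofHom_homOf_eq_coe]
  show (Cochain.ofHom S.f).comp (ψ₀ - (Cochain.ofHom S.g).comp β (zero_add 0)) (zero_add 0) = _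
  rw [Cochain.comp_sub, hψ₀, ← Cochain.comp_assoc_of_first_is_zero_cochain, ← Cochain.ofHom_comp,
    S.zero, Cochain.ofHom_zero, Cochain.zero_comp, sub_zero]

theorem cone_id_acyclic (C : CochainComplex A ℤ) : (mappingCone (𝟙 C)).Acyclic := by
  rw [← HomotopyCategory.quotient_obj_mem_subcategoryAcyclic_iff_acyclic]
  apply ObjectProperty.prop_of_isZero
  have hT := HomotopyCategory.mappingCone_triangleh_distinguished (𝟙 C)
  haveI : IsIso (mappingCone.triangleh (𝟙 C)).mor₁ := by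
    show IsIso ((HomotopyCategory.quotient _ _).map (𝟙 C))
    infer_instance
  exact Pretriangulated.Triangle.isZero₃_of_isIso₁ _ hT inferInstance

theorem quasiIso_of_acyclic {K L : CochainComplex A ℤ} (f : K ⟶ L) (hK : K.Acyclic)
    (hL : L.Acyclic) : QuasiIso f :=
  ⟨fun k => (quasiIsoAt_iff_exactAt f k (hK k)).mpr (hL k)⟩

theorem shortExact_cokernel {K L : CochainComplex A ℤ} (j : K ⟶ L) [Mono j] :
    (ShortComplex.mk j (cokernel.π j) (cokernel.condition j)).ShortExact :=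
  ShortComplex.ShortExact.mk' (ShortComplex.exact_cokernel j) ‹Mono j›
    (inferInstanceAs (Epi (cokernel.π j)))

theorem kinj_of_lifting (I : CochainComplex A ℤ)
    (H : ∀ (S : ShortComplex (CochainComplex A ℤ)), S.ShortExact → S.X₃.Acyclic →
      ∀ φ : S.X₁ ⟶ I, ∃ ψ : S.X₂ ⟶ I, S.f ≫ ψ = φ) : I.IsKInjective := by
  constructor
  intro C φ hC
  haveI : ∀ p, Mono ((mappingCone.inr (𝟙 C)).f p) := fun p =>
    mono_of_mono_fac (mappingCone.inr_f_snd_v (𝟙 C) p)
  haveI : Mono (mappingCone.inr (𝟙 C)) := HomologicalComplex.mono_of_mono_f _ inferInstance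
  have hS := shortExact_cokernel (mappingCone.inr (𝟙 C))
  have h3 := hS.acyclic_X₃ (quasiIso_of_acyclic _ hC (cone_id_acyclic C))
  obtain ⟨ψ, hψ⟩ := H _ hS h3 φ
  have hψ' : mappingCone.inr (𝟙 C) ≫ ψ = φ := hψ
  have hα : δ (-1) 0 ((mappingCone.inl (𝟙 C)).comp (Cochain.ofHom ψ) (add_zero (-1))) =
      Cochain.ofHom φ := by
    rw [δ_comp_ofHom, mappingCone.δ_inl, ← Cochain.ofHom_comp, Category.id_comp, hψ']
  exact ⟨(Cochain.equivHomotopy φ 0).symm ⟨_, by rw [hα, Cochain.ofHom_zero, add_zero]⟩⟩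

theorem double_acyclic (W : A) (n : ℤ) (hrel : (ComplexShape.up ℤ).Rel n (n + 1)) :
    (HomologicalComplex.double (𝟙 W) hrel).Acyclic := by
  have hne : n ≠ n + 1 := by omega
  intro k
  by_cases h0 : k = n
  · subst h0
    rw [HomologicalComplex.exactAt_iff' _ (k - 1) k (k + 1) (by simp) (by simp),
      ShortComplex.exact_iff_mono _
        (HomologicalComplex.double_d_eq_zero₁ (𝟙 W) hrel (k - 1) k hne)]
    show Mono ((HomologicalComplex.double (𝟙 W) hrel).d k (k + 1))
    rw [HomologicalComplex.double_d _ _ hne]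
    infer_instance
  · by_cases h1 : k = n + 1
    · subst h1
      rw [HomologicalComplex.exactAt_iff' _ n (n + 1) (n + 1 + 1) (by simp) (by simp),
        ShortComplex.exact_iff_epi _
          (HomologicalComplex.double_d_eq_zero₀ (𝟙 W) hrel (n + 1) (n + 1 + 1) hne.symm)]
      show Epi ((HomologicalComplex.double (𝟙 W) hrel).d n (n + 1))
      rw [HomologicalComplex.double_d _ _ hne]
      infer_instance
    · exact HomologicalComplex.ExactAt.of_isZero
        (HomologicalComplex.isZero_double_X _ _ k h0 h1)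

theorem injective_of_lifting (I : CochainComplex A ℤ)
    (H : ∀ (S : ShortComplex (CochainComplex A ℤ)), S.ShortExact → S.X₃.Acyclic →
      ∀ φ : S.X₁ ⟶ I, ∃ ψ : S.X₂ ⟶ I, S.f ≫ ψ = φ) (n : ℤ) : Injective (I.X n) := by
  constructor
  intro U V a i hi
  have hrel : (ComplexShape.up ℤ).Rel n (n + 1) := rfl
  have hne : n ≠ n + 1 := by omega
  obtain ⟨j, hj0, hj1⟩ : ∃ j : HomologicalComplex.double (𝟙 U) hrel ⟶
      HomologicalComplex.double (𝟙 V) hrel,
      j.f n = (HomologicalComplex.doubleXIso₀ (𝟙 U) hrel).hom ≫ i ≫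
        (HomologicalComplex.doubleXIso₀ (𝟙 V) hrel).inv ∧
      j.f (n + 1) = (HomologicalComplex.doubleXIso₁ (𝟙 U) hrel hne).hom ≫ i ≫
        (HomologicalComplex.doubleXIso₁ (𝟙 V) hrel hne).inv :=
    ⟨HomologicalComplex.mkHomFromDouble hrel hne
      (i ≫ (HomologicalComplex.doubleXIso₀ (𝟙 V) hrel).inv)
      (i ≫ (HomologicalComplex.doubleXIso₁ (𝟙 V) hrel hne).inv)
      (by simp [HomologicalComplex.double_d _ _ hne])
      (fun k _ => by
        rw [HomologicalComplex.double_d_eq_zero₀ _ _ _ _ hne.symm, comp_zero]),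
      HomologicalComplex.mkHomFromDouble_f₀ _ _ _ _ _ _,
      HomologicalComplex.mkHomFromDouble_f₁ _ _ _ _ _ _⟩
  haveI : Mono j := by
    apply HomologicalComplex.mono_of_mono_f
    intro k
    by_cases h0 : k = n
    · subst h0; rw [hj0]; infer_instance
    · by_cases h1 : k = n + 1
      · subst h1; rw [hj1]; infer_instance
      · exact ⟨fun g h _ =>
          (HomologicalComplex.isZero_double_X (𝟙 U) hrel k h0 h1).eq_of_tgt g h⟩
  have hS := shortExact_cokernel j
  have h3 := hS.acyclic_X₃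
    (quasiIso_of_acyclic _ (double_acyclic U n hrel) (double_acyclic V n hrel))
  obtain ⟨φ', hφ'⟩ : ∃ φ' : HomologicalComplex.double (𝟙 U) hrel ⟶ I,
      φ'.f n = (HomologicalComplex.doubleXIso₀ (𝟙 U) hrel).hom ≫ a :=
    ⟨HomologicalComplex.mkHomFromDouble hrel hne a (a ≫ I.d n (n + 1)) (by simp) (by simp),
      HomologicalComplex.mkHomFromDouble_f₀ _ _ _ _ _ _⟩
  obtain ⟨ψ, hψ⟩ := H _ hS h3 φ'
  have hψ' : j ≫ ψ = φ' := hψ
  have e : j.f n ≫ ψ.f n = φ'.f n := by rw [← HomologicalComplex.comp_f, hψ']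
  rw [hj0, hφ', Category.assoc, cancel_epi, Category.assoc] at e
  exact ⟨(HomologicalComplex.doubleXIso₀ (𝟙 V) hrel).inv ≫ ψ.f n, e⟩

end helpers

/-- In an abelian category, a cochain complex I is K-injective with injective terms if and only if for
every short exact sequence 0 → A → B → C → 0 of cochain complexes whose third term C is acyclic,
every chain map A → I extends to a chain map B → I. -/
theorem result {A : Type u} [Category.{v} A] [Abelian A]
    (I : CochainComplex A ℤ) :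
    (I.IsKInjective ∧ ∀ n : ℤ, Injective (I.X n)) ↔
      ∀ (S : ShortComplex (CochainComplex A ℤ)), S.ShortExact → S.X₃.Acyclic →
        ∀ φ : S.X₁ ⟶ I, ∃ ψ : S.X₂ ⟶ I, S.f ≫ ψ = φ := by
  constructor
  · rintro ⟨hK, hI⟩ S hS h3 φ
    haveI := hK
    haveI := hI
    exact lifting_of_kinj I S hS h3 φ
  · intro H
    exact ⟨kinj_of_lifting I H, injective_of_lifting I H⟩

end Groth.Agent.S11125
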