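import Groth.Statements.S11126
import Mathlib
import Groth.Agent.Lib.Helper6.AbNoeth

set_option autoImplicit false
universe w u₁ u₂
open CategoryTheory CategoryTheory.Limits
open CohDer

namespace Groth.Agent.S11126


section helpers

open Groth.Agent.Helper6.AbNoeth ZeroObject

variable {B : Type u₂} [Category.{w} B] [Abelian B]

/-- iterated biproduct of the members of a family listed by `l` -/
noncomputable def Pι {ι : Type w} (s : ι → B) : List ι → B
  | [] => 0
  | i :: l => s i ⊞ Pι s l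

/-- the map out of the iterated biproduct given by a list of maps -/
noncomputable def sig {ι : Type w} (s : ι → B) {Z : B} :
    (L : List (Σ i, s i ⟶ Z)) → (Pι s (L.map Sigma.fst) ⟶ Z)
  | [] => 0
  | x :: L => (biprod.desc x.2 (sig s L) : s x.1 ⊞ Pι s (L.map Sigma.fst) ⟶ Z)

lemma exists_fac {ι : Type w} (s : ι → B) {Z : B} (L : List (Σ i, s i ⟶ Z))
    (x : Σ i, s i ⟶ Z) (hx : x ∈ L) :
    ∃ t : s x.1 ⟶ Pι s (L.map Sigma.fst), t ≫ sig s L = x.2 := by
  induction L with
  | nil => simp at hx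
  | cons y L ih =>
    rcases List.mem_cons.1 hx with rfl | h
    · refine ⟨(biprod.inl : s x.1 ⟶ s x.1 ⊞ Pι s (L.map Sigma.fst)), ?_⟩
      change biprod.inl ≫ biprod.desc x.2 (sig s L) = x.2
      simp
    · obtain ⟨t, ht⟩ := ih h
      refine ⟨t ≫ (biprod.inr : Pι s (L.map Sigma.fst) ⟶ s y.1 ⊞ Pι s (L.map Sigma.fst)), ?_⟩
      change (t ≫ biprod.inr) ≫ biprod.desc y.2 (sig s L) = x.2
      simp [ht]

lemma sig_comp_eq_zero {ι : Type w} (s : ι → B) {Z Y : B} (L : List (Σ i, s i ⟶ Z)) (q : Z ⟶ Y)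
    (h : ∀ x ∈ L, x.2 ≫ q = 0) : sig s L ≫ q = 0 := by
  induction L with
  | nil =>
    change (0 : (0 : B) ⟶ Z) ≫ q = 0
    simp
  | cons y L ih =>
    change biprod.desc y.2 (sig s L) ≫ q = 0
    apply biprod.hom_ext'
    · simp [h y (by simp)]
    · simp [ih (fun x hx => h x (List.mem_cons_of_mem _ hx))]

/-- the index category: lists of maps from members of the family, ordered by inclusion -/
structure JJ {ι : Type w} (s : ι → B) (Z : B) : Type w where
  l : List (Σ i, s i ⟶ Z)

instance {ι : Type w} (s : ι → B) (Z : B) : Preorder (JJ s Z) where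
  le a b := a.l ⊆ b.l
  le_refl a := List.Subset.refl _
  le_trans _ _ _ h h' := List.Subset.trans h h'

instance {ι : Type w} (s : ι → B) (Z : B) : Nonempty (JJ s Z) := ⟨⟨[]⟩⟩

instance {ι : Type w} (s : ι → B) (Z : B) : IsDirected (JJ s Z) (· ≤ ·) :=
  ⟨fun a b => ⟨⟨a.l ++ b.l⟩, List.subset_append_left _ _, List.subset_append_right _ _⟩⟩

lemma sig_comp_cokernel {ι : Type w} (s : ι → B) {Z : B} (L L' : List (Σ i, s i ⟶ Z))
    (hLL : L ⊆ L') : sig s L ≫ cokernel.π (sig s L') = 0 :=
  sig_comp_eq_zero s L _ (fun x hx => by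
    obtain ⟨t, ht⟩ := exists_fac s L' x (hLL hx)
    rw [← ht, Category.assoc, cokernel.condition, comp_zero])

/-- the diagram of cokernels -/
noncomputable def Qf {ι : Type w} (s : ι → B) (Z : B) : JJ s Z ⥤ B where
  obj a := cokernel (sig s a.l)
  map {a a'} f := cokernel.desc (sig s a.l) (cokernel.π (sig s a'.l))
    (sig_comp_cokernel s a.l a'.l (leOfHom f))
  map_id a := by
    apply coequalizer.hom_ext
    simp
  map_comp f g := by
    apply coequalizer.hom_ext
    simp

/-- the projection to the cokernel, typed with `Qf` -/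
noncomputable def πq {ι : Type w} (s : ι → B) (Z : B) (a : JJ s Z) : Z ⟶ (Qf s Z).obj a :=
  cokernel.π (sig s a.l)

instance {ι : Type w} (s : ι → B) (Z : B) (a : JJ s Z) : Epi (πq s Z a) :=
  inferInstanceAs (Epi (cokernel.π (sig s a.l)))

@[reassoc]
lemma πq_map {ι : Type w} (s : ι → B) (Z : B) {a a' : JJ s Z} (f : a ⟶ a') :
    πq s Z a ≫ (Qf s Z).map f = πq s Z a' := by
  simp [πq, Qf]

@[reassoc]
lemma sig_πq {ι : Type w} (s : ι → B) (Z : B) (a : JJ s Z) : sig s a.l ≫ πq s Z a = 0 :=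
  cokernel.condition _

lemma isZero_colimit_Qf {ι : Type w} (s : ι → B) (Z : B) [HasColimitsOfShape (JJ s Z) B]
    (hsep : ∀ ⦃Y : B⦄ (f g : Z ⟶ Y), (∀ (i : ι) (h : s i ⟶ Z), h ≫ f = h ≫ g) → f = g) :
    IsZero (colimit (Qf s Z)) := by
  rw [IsZero.iff_id_eq_zero]
  apply colimit.hom_ext
  intro a
  rw [Category.comp_id, comp_zero]
  have key0 : πq s Z a ≫ colimit.ι (Qf s Z) a = 0 := by
    apply hsep
    intro i h
    rw [comp_zero]
    let a' : JJ s Z := ⟨⟨i, h⟩ :: a.l⟩
    have hle : a ≤ a' := List.subset_cons_self _ _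
    have h1 : πq s Z a ≫ colimit.ι (Qf s Z) a = πq s Z a' ≫ colimit.ι (Qf s Z) a' := by
      rw [← colimit.w (Qf s Z) (homOfLE hle), ← Category.assoc, πq_map]
    rw [h1]
    obtain ⟨t, ht⟩ := exists_fac s a'.l ⟨i, h⟩ (by simp [a'])
    have ht' : h = t ≫ sig s a'.l := ht.symm
    rw [ht', Category.assoc, sig_πq_assoc, zero_comp, comp_zero]
  exact (cancel_epi (πq s Z a)).1 (by rw [key0, comp_zero])

/-- a jointly epimorphic family from exactness of filtered colimits -/
theorem jointly_epi {A : Type u₁} [Category.{w} A] [Abelian A] {J : Type w} [SmallCategory J]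
    [IsFiltered J] [HasColimitsOfShape J A] [HasExactColimitsOfShape J A]
    (X : A) (D : J ⥤ A) (ψ : (Functor.const J).obj X ⟶ D) (hD : IsZero (colimit D))
    {Z : A} (v : X ⟶ Z) (hv : ∀ j, (kernel.ι ψ).app j ≫ v = 0) : v = 0 := by
  have hS : (ShortComplex.mk (kernel.ι ψ) ψ (kernel.condition ψ)).Exact :=
    ShortComplex.exact_kernel ψ
  have hS' := hS.map (colim : (J ⥤ A) ⥤ A)
  haveI : Epi (colim.map (kernel.ι ψ)) := hS'.epi_f (hD.eq_of_tgt _ _)
  let d : colimit ((Functor.const J).obj X) ⟶ X := colimit.desc _ ⟨X, 𝟙 _⟩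
  have h1 : ∀ j, colimit.ι ((Functor.const J).obj X) j ≫ d ≫ v = v := by
    intro j
    simp [d]
  have hd : colim.map (kernel.ι ψ) ≫ d ≫ v = 0 := by
    apply colimit.hom_ext
    intro j
    rw [comp_zero]
    simp only [colim_map, ι_colimMap_assoc]
    rw [h1 j]
    exact hv j
  have hdv : d ≫ v = 0 := by
    rwa [← cancel_epi (colim.map (kernel.ι ψ)), comp_zero]
  obtain ⟨j₀⟩ : Nonempty J := IsFiltered.nonempty
  rw [← h1 j₀, hdv, comp_zero]

section Phi

variable {A : Type u₁} [Category.{w} A] [Abelian A] (F : A ⥤ B) [F.Additive] [F.Faithful]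
  [PreservesFiniteLimits F]

/-- the induced map on subobjects -/
noncomputable def Phi (X : A) (S : Subobject X) : Subobject (F.obj X) :=
  Subobject.mk (F.map S.arrow)

lemma Phi_le_iff (X : A) (S S' : Subobject X) : Phi F X S ≤ Phi F X S' ↔ S ≤ S' := by
  constructor
  · intro h
    have h' : Subobject.mk (F.map S.arrow) ≤ Subobject.mk (F.map S'.arrow) := h
    have hg := Subobject.ofMkLEMk_comp h'
    have w : S.arrow ≫ cokernel.π S'.arrow = 0 := by
      apply F.map_injective
      rw [F.map_comp, F.map_zero, ← hg, Category.assoc, ← F.map_comp, cokernel.condition,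
        F.map_zero, comp_zero]
    have hfac := factors_of_comp_cokernel_zero S' S.arrow w
    exact Subobject.le_of_comm (S'.factorThru _ hfac) (Subobject.factorThru_arrow _ _ hfac)
  · intro h
    exact Subobject.mk_le_mk_of_comm (F.map (Subobject.ofLE S S' h))
      (by rw [← F.map_comp, Subobject.ofLE_arrow])

lemma Phi_injective (X : A) : Function.Injective (Phi F X) := fun S S' h =>
  le_antisymm ((Phi_le_iff F X S S').1 h.le) ((Phi_le_iff F X S' S).1 h.ge)

lemma noeth_reflect (X : A) (h : IsNoetherianObject (F.obj X)) : IsNoetherianObject X :=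
  (isNoetherianObject_iff_not_strictMono X).2 fun f hf =>
    not_strictMono_of_isNoetherianObject (fun n => Phi F X (f n))
      ((strictMono_of_le_iff_le (fun S S' => (Phi_le_iff F X S S').symm)).comp hf)

end Phi

lemma wellPowered_A {A : Type u₁} [Category.{w} A] [Abelian A] (F : A ⥤ B) [F.Additive]
    [F.Faithful] [PreservesFiniteLimits F] [WellPowered.{w} B] : WellPowered.{w} A :=
  ⟨fun X => small_of_injective (Phi_injective F X)⟩

lemma ab5_A {A : Type u₁} [Category.{w} A] [Abelian A] [HasColimitsOfSize.{w, w} A]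
    [HasColimitsOfSize.{w, w} B] [AB5OfSize.{w, w} B]
    (F : A ⥤ B) (G : B ⥤ A) (adj : F ⊣ G) [F.Additive] [F.Faithful]
    [PreservesFiniteLimits F] [PreservesFiniteColimits F] : AB5OfSize.{w, w} A := by
  haveI : PreservesColimitsOfSize.{w, w} F := adj.leftAdjoint_preservesColimits
  haveI : F.ReflectsIsomorphisms := inferInstance
  haveI : ReflectsFiniteLimits F := ⟨fun J _ _ => reflectsLimitsOfShape_of_reflectsIsomorphisms⟩
  exact ⟨fun J _ _ => HasExactColimitsOfShape.domain_of_functor J F⟩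

/-- the key presentation of an object as a directed union of small subobjects -/
theorem key {A : Type u₁} [Category.{w} A] [Abelian A] [HasColimitsOfSize.{w, w} A]
    [HasColimitsOfSize.{w, w} B] [AB5OfSize.{w, w} B]
    {ι : Type w} (s : ι → B)
    (hsep : ∀ ⦃X Y : B⦄ (f g : X ⟶ Y), (∀ (i : ι) (h : s i ⟶ X), h ≫ f = h ≫ g) → f = g)
    (F : A ⥤ B) (G : B ⥤ A) (adj : F ⊣ G) [F.Additive] [F.Faithful]
    [PreservesFiniteLimits F] [PreservesFiniteColimits F]
    [PreservesFilteredColimitsOfSize.{w, w} G] (X : A) :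
    ∃ (J : Type w) (_ : Nonempty J) (Y : J → A) (m : ∀ j, Y j ⟶ X),
      (∀ j, Mono (m j)) ∧
      (∀ j j', ∃ k, (∃ u : Y j ⟶ Y k, u ≫ m k = m j) ∧ (∃ u : Y j' ⟶ Y k, u ≫ m k = m j')) ∧
      (∀ j, ∃ (l : List ι) (σ : Pι s l ⟶ F.obj X), F.map (m j) ≫ cokernel.π σ = 0) ∧
      (∀ ⦃Z : A⦄ (v : X ⟶ Z), (∀ j, m j ≫ v = 0) → v = 0) := by
  haveI : AB5OfSize.{w, w} A := ab5_A F G adj
  haveI : G.IsRightAdjoint := adj.isRightAdjoint
  let J := JJ s (F.obj X)
  let Q : J ⥤ B := Qf s (F.obj X)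
  let ψ : (Functor.const J).obj X ⟶ Q ⋙ G :=
    { app := fun a => adj.homEquiv X (Q.obj a) (πq s (F.obj X) a)
      naturality := fun a a' f => by
        simp only [Functor.const_obj_obj, Functor.const_obj_map, Category.id_comp,
          Functor.comp_map]
        rw [← adj.homEquiv_naturality_right]
        congr 1
        exact (πq_map s (F.obj X) f).symm }
  have hD : IsZero (colimit (Q ⋙ G)) := by
    have h0 : IsZero (colimit Q) :=
      isZero_colimit_Qf s (F.obj X) (fun Y f g h => hsep f g h)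
    exact (G.map_isZero h0).of_iso (preservesColimitIso G Q).symm
  let m : ∀ a : J, (kernel ψ).obj a ⟶ X := fun a => (kernel.ι ψ).app a
  have hm : ∀ (a a' : J) (f : a ⟶ a'), (kernel ψ).map f ≫ m a' = m a := by
    intro a a' f
    have := (kernel.ι ψ).naturality f
    simp [m]
  refine ⟨J, inferInstance, fun a => (kernel ψ).obj a, m, ?_, ?_, ?_, ?_⟩
  · intro a
    change Mono ((kernel.ι ψ).app a)
    infer_instance
  · intro a a'
    let k : J := ⟨a.l ++ a'.l⟩
    have h1 : a ≤ k := List.subset_append_left _ _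
    have h2 : a' ≤ k := List.subset_append_right _ _
    exact ⟨k, ⟨(kernel ψ).map (homOfLE h1), hm _ _ _⟩, ⟨(kernel ψ).map (homOfLE h2), hm _ _ _⟩⟩
  · intro a
    refine ⟨a.l.map Sigma.fst, sig s a.l, ?_⟩
    have h0 : m a ≫ ψ.app a = 0 := by
      change (kernel.ι ψ ≫ ψ).app a = 0
      rw [kernel.condition]
      rfl
    let p : F.obj X ⟶ Q.obj a := πq s (F.obj X) a
    change F.map (m a) ≫ p = 0
    apply (adj.homEquiv _ _).injective
    have e2 := adj.homEquiv_naturality_left (0 : (kernel ψ).obj a ⟶ X) p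
    rw [F.map_zero, zero_comp, zero_comp] at e2
    rw [adj.homEquiv_naturality_left, e2]
    exact h0
  · intro Z v hv
    exact jointly_epi X (Q ⋙ G) ψ hD v hv

lemma noeth_Pι {ι : Type w} (s : ι → B) (hsN : ∀ i, IsNoetherianObject (s i)) :
    ∀ l : List ι, IsNoetherianObject (Pι s l)
  | [] => isNoetherianObject_of_isZero (isZero_zero B)
  | i :: l => noeth_of_shortExact _ (shortExact_biprod (s i) (Pι s l)) (hsN i) (noeth_Pι s hsN l)

lemma noeth_of_cokernel_zero {ι : Type w} (s : ι → B) (hsN : ∀ i, IsNoetherianObject (s i))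
    {Z W : B} (l : List ι) (σ : Pι s l ⟶ Z) (g : W ⟶ Z) [Mono g]
    (h : g ≫ cokernel.π σ = 0) : IsNoetherianObject W := by
  haveI : IsNoetherianObject (Abelian.image σ) :=
    noeth_of_epi (Abelian.factorThruImage σ) (noeth_Pι s hsN l)
  let u : W ⟶ Abelian.image σ := kernel.lift (cokernel.π σ) g h
  haveI : Mono u := mono_of_mono_fac (kernel.lift_ι _ _ _)
  exact isNoetherianObject_of_mono u

lemma exists_index {A : Type u₁} [Category.{w} A] [Abelian A]
    (F : A ⥤ B) (G : B ⥤ A) (adj : F ⊣ G) [F.Additive] [F.Faithful]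
    {ι : Type w} (s : ι → B) {X Y : A} (m : Y ⟶ X) (l : List ι) (σ : Pι s l ⟶ F.obj X)
    [Mono (F.map m)] (h : F.map m ≫ cokernel.π σ = 0) :
    ∃ (K : Subobject (Pι s l)) (M : Subobject (G.obj (cokernel K.arrow))),
      Nonempty ((M : A) ≅ Y) := by
  haveI : G.IsRightAdjoint := adj.isRightAdjoint
  let K := kernelSubobject σ
  let e : cokernel K.arrow ≅ Abelian.image σ :=
    cokernel.mapIso K.arrow (kernel.ι σ) (kernelSubobjectIso σ) (Iso.refl _) (by simp [K]) ≪≫
      Abelian.coimageIsoImage σ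
  let u : F.obj Y ⟶ Abelian.image σ := kernel.lift (cokernel.π σ) (F.map m) h
  haveI : Mono u := mono_of_mono_fac (kernel.lift_ι _ _ _)
  let v : F.obj Y ⟶ cokernel K.arrow := u ≫ e.inv
  haveI : Mono v := mono_comp _ _
  let vh : Y ⟶ G.obj (cokernel K.arrow) := adj.unit.app Y ≫ G.map v
  haveI : Mono vh := mono_comp _ _
  exact ⟨K, Subobject.mk vh, ⟨Subobject.underlyingIso vh⟩⟩

/-- the index type of the small family -/
def Idx {A : Type u₁} [Category.{w} A] [Abelian A] {ι : Type w} (s : ι → B) (G : B ⥤ A) :=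
  Σ (l : List ι) (K : Subobject (Pι s l)), Subobject (G.obj (cokernel K.arrow))

instance {A : Type u₁} [Category.{w} A] [Abelian A] {ι : Type w} (s : ι → B) (G : B ⥤ A)
    [WellPowered.{w} A] [WellPowered.{w} B] : Small.{w} (Idx s G) := by
  unfold Idx
  infer_instance

end helpers

/-- Let A and B be abelian categories with small hom-sets and all small colimits, B having exact
filtered colimits and a small family of noetherian objects which is separating. Let F : A ⥤ B be
faithful and exact with a right adjoint G preserving filtered colimits. Then A has exact filtered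
colimits and admits a small separating family of noetherian objects. -/
theorem result
    {A : Type u₁} [Category.{w} A] [Abelian A] [HasColimitsOfSize.{w, w} A]
    {B : Type u₂} [Category.{w} B] [Abelian B] [HasColimitsOfSize.{w, w} B] [AB5OfSize.{w, w} B]
    {ι : Type w} (s : ι → B) (hsN : ∀ i, IsNoetherianObject (s i))
    (hsep : ∀ ⦃X Y : B⦄ (f g : X ⟶ Y), (∀ (i : ι) (h : s i ⟶ X), h ≫ f = h ≫ g) → f = g)
    (F : A ⥤ B) (G : B ⥤ A) (adj : F ⊣ G) [F.Additive] [F.Faithful]
    [PreservesFiniteLimits F] [PreservesFiniteColimits F] [PreservesFilteredColimitsOfSize.{w, w} G] :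
    AB5OfSize.{w, w} A ∧
      ∃ (κ : Type w) (t : κ → A), (∀ k, IsNoetherianObject (t k)) ∧
        ∀ ⦃X Y : A⦄ (f g : X ⟶ Y), (∀ (k : κ) (h : t k ⟶ X), h ≫ f = h ≫ g) → f = g := by
  haveI : IsGrothendieckAbelian.{w} B :=
    { hasSeparator := ⟨⟨∐ s, (isSeparator_sigma s).2
        (fun X Y f g h => hsep f g (fun i u => h _ ⟨i⟩ u))⟩⟩ }
  haveI : WellPowered.{w} A := wellPowered_A F
  refine ⟨ab5_A F G adj, ?_⟩
  let I₀ := {k : Idx s G // IsNoetherianObject (k.2.2 : A)}
  refine ⟨Shrink.{w} I₀, fun k => (((equivShrink I₀).symm k).1.2.2 : A),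
    fun k => ((equivShrink I₀).symm k).2, ?_⟩
  intro X Y f g hfg
  have hfg' : ∀ (k₀ : I₀) (h : (k₀.1.2.2 : A) ⟶ X), h ≫ f = h ≫ g := by
    intro k₀
    obtain ⟨k, rfl⟩ := (equivShrink I₀).symm.surjective k₀
    exact fun h => hfg k h
  obtain ⟨J, _, Yj, m, hmono, _, hσ, hepi⟩ := key s hsep F G adj X
  rw [← sub_eq_zero]
  apply hepi
  intro j
  haveI := hmono j
  obtain ⟨l, σ, h⟩ := hσ j
  obtain ⟨K, M, ⟨e⟩⟩ := exists_index F G adj s (m j) l σ h
  have hN : IsNoetherianObject (M : A) := by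
    have h1 : IsNoetherianObject (F.obj (Yj j)) :=
      noeth_of_cokernel_zero s hsN l σ (F.map (m j)) h
    haveI : IsNoetherianObject (Yj j) := noeth_reflect F _ h1
    exact isNoetherianObject_of_mono e.hom
  let k₀ : I₀ := ⟨⟨l, K, M⟩, hN⟩
  have h3 := hfg' k₀ (e.hom ≫ m j)
  rw [Category.assoc, Category.assoc, cancel_epi] at h3
  rw [Preadditive.comp_sub, h3, sub_self]

end Groth.Agent.S11126
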