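import Groth.Statements.S11127
import Mathlib
import Groth.Agent.S11126

set_option autoImplicit false
universe w u₁ u₂
open CategoryTheory CategoryTheory.Limits
open CohDer

namespace Groth.Agent.S11127

open Groth.Agent.S11126

/-- Let A and B be abelian categories with small hom-sets and all small colimits, B having exact
filtered colimits and a small separating family of noetherian objects. Let F : A ⥤ B be faithful and
exact with a right adjoint G preserving filtered colimits. Then an object a of A is noetherian if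
and only if F a is noetherian in B. -/
theorem result
    {A : Type u₁} [Category.{w} A] [Abelian A] [HasColimitsOfSize.{w, w} A]
    {B : Type u₂} [Category.{w} B] [Abelian B] [HasColimitsOfSize.{w, w} B] [AB5OfSize.{w, w} B]
    {ι : Type w} (s : ι → B) (hsN : ∀ i, IsNoetherianObject (s i))
    (hsep : ∀ ⦃X Y : B⦄ (f g : X ⟶ Y), (∀ (i : ι) (h : s i ⟶ X), h ≫ f = h ≫ g) → f = g)
    (F : A ⥤ B) (G : B ⥤ A) (adj : F ⊣ G) [F.Additive] [F.Faithful]
    [PreservesFiniteLimits F] [PreservesFiniteColimits F] [PreservesFilteredColimitsOfSize.{w, w} G]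
    (a : A) : IsNoetherianObject a ↔ IsNoetherianObject (F.obj a) := by
  constructor
  · intro ha
    obtain ⟨J, hJ, Y, m, hmono, hdir, hσ, hepi⟩ := key s hsep F G adj a
    obtain ⟨j₀⟩ := hJ
    haveI : WellFoundedGT (Subobject a) := inferInstance
    haveI := hmono
    obtain ⟨S, ⟨j₁, rfl⟩, hmax⟩ := (wellFounded_gt (α := Subobject a)).has_min
      (Set.range fun j => Subobject.mk (m j)) ⟨_, j₀, rfl⟩
    have hfac : ∀ j, ∃ u : Y j ⟶ Y j₁, u ≫ m j₁ = m j := by
      intro j
      obtain ⟨k, ⟨u, hu⟩, ⟨u', hu'⟩⟩ := hdir j j₁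
      have h1 : Subobject.mk (m j₁) ≤ Subobject.mk (m k) := Subobject.mk_le_mk_of_comm u' hu'
      have h2 : Subobject.mk (m k) = Subobject.mk (m j₁) := by
        by_contra hne
        exact hmax _ ⟨k, rfl⟩ (lt_of_le_of_ne h1 (Ne.symm hne))
      have h3 : Subobject.mk (m j) ≤ Subobject.mk (m j₁) := by
        rw [← h2]
        exact Subobject.mk_le_mk_of_comm u hu
      exact ⟨Subobject.ofMkLEMk _ _ h3, Subobject.ofMkLEMk_comp h3⟩
    haveI : Epi (m j₁) := Preadditive.epi_of_cancel_zero _ (fun v hv => hepi v (fun j => by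
      obtain ⟨u, hu⟩ := hfac j
      rw [← hu, Category.assoc, hv, comp_zero]))
    haveI : IsIso (m j₁) := isIso_of_mono_of_epi _
    obtain ⟨l, σ, h⟩ := hσ j₁
    have hN : IsNoetherianObject (F.obj (Y j₁)) :=
      noeth_of_cokernel_zero s hsN l σ (F.map (m j₁)) h
    exact Groth.Agent.Helper6.AbNoeth.noeth_of_epi (F.map (m j₁)) hN
  · exact noeth_reflect F a

end Groth.Agent.S11127
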