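import Groth.Statements.S11128
import Mathlib
import Groth.Agent.S11126

set_option autoImplicit false
universe w u₁ u₂
open CategoryTheory CategoryTheory.Limits
open CohDer

namespace Groth.Agent.S11128

open Groth.Agent.S11126

/-- Suppose A is an abelian category that has small hom-sets and all small colimits, B is a Grothendieck
abelian category, and F : A ⥤ B is a faithful exact functor with a right adjoint G preserving
filtered colimits. Then A is a Grothendieck abelian category. -/
theorem result
    {A : Type u₁} [Category.{w} A] [Abelian A] [HasColimitsOfSize.{w, w} A]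
    {B : Type u₂} [Category.{w} B] [Abelian B] [IsGrothendieckAbelian.{w} B]
    (F : A ⥤ B) (G : B ⥤ A) (adj : F ⊣ G) [F.Additive] [F.Faithful]
    [PreservesFiniteLimits F] [PreservesFiniteColimits F] [PreservesFilteredColimitsOfSize.{w, w} G] :
    IsGrothendieckAbelian.{w} A := by
  let s : PUnit.{w+1} → B := fun _ => separator B
  have hsep : ∀ ⦃X Y : B⦄ (f g : X ⟶ Y),
      (∀ (i : PUnit.{w+1}) (h : s i ⟶ X), h ≫ f = h ≫ g) → f = g :=
    fun X Y f g h => (isSeparator_separator B).def f g (fun u => h PUnit.unit u)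
  haveI : AB5OfSize.{w, w} A := ab5_A F G adj
  haveI : WellPowered.{w} A := wellPowered_A F
  let I₀ := Idx s G
  let t : Shrink.{w} I₀ → A := fun k => (((equivShrink I₀).symm k).2.2 : A)
  have hsepA : ObjectProperty.IsSeparating (ObjectProperty.ofObj t) := by
    intro X Y f g hfg
    have hfg' : ∀ (k₀ : I₀) (h : (k₀.2.2 : A) ⟶ X), h ≫ f = h ≫ g := by
      intro k₀
      obtain ⟨k, rfl⟩ := (equivShrink I₀).symm.surjective k₀
      exact fun h => hfg _ ⟨k⟩ h
    obtain ⟨J, _, Yj, m, hmono, _, hσ, hepi⟩ := key s hsep F G adj X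
    rw [← sub_eq_zero]
    apply hepi
    intro j
    haveI := hmono j
    obtain ⟨l, σ, h⟩ := hσ j
    obtain ⟨K, M, ⟨e⟩⟩ := exists_index F G adj s (m j) l σ h
    let k₀ : I₀ := ⟨l, K, M⟩
    have h3 := hfg' k₀ (e.hom ≫ m j)
    rw [Category.assoc, Category.assoc, cancel_epi] at h3
    rw [Preadditive.comp_sub, h3, sub_self]
  exact { hasSeparator := ⟨⟨∐ t, (isSeparator_sigma t).2 hsepA⟩⟩ }

end Groth.Agent.S11128
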