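import Groth.Statements.S1113
import Groth.Agent.H23.Der.Ghost

set_option autoImplicit false
universe w v u
open CategoryTheory CategoryTheory.Limits
open CohDer

namespace Groth.Agent.S1113

open Pretriangulated Triangulated DerivedCategory Groth.Agent.H23.Der in
/-- Let K : ℕᵒᵖ ⥤ CochainComplex A ℤ be a sequence of cochain maps … → K₂ → K₁ → K₀ in an abelian
category with Hⁱ(K₀) = 0 for i < 0 and such that for every j < n the map Hʲ(Kⱼ₊₁) → Hʲ(Kⱼ) is zero.
Then in the derived category the composite Kₙ → K₀ factors through the canonical truncation Kₙ →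
τ_{≥ n}Kₙ. -/
theorem result {A : Type u} [Category.{v} A] [Abelian A] [HasDerivedCategory.{w} A]
    (K : ℕᵒᵖ ⥤ CochainComplex A ℤ) (n : ℕ)
    (h0 : ∀ i : ℤ, i < 0 → IsZero ((K.obj (Opposite.op 0)).homology i))
    (hz : ∀ j : ℕ, j < n → HomologicalComplex.homologyMap (K.map (homOfLE (Nat.le_succ j)).op) (j : ℤ) = 0) :
    ∃ φ : DerivedCategory.Q.obj ((K.obj (Opposite.op n)).truncGE (n : ℤ)) ⟶ DerivedCategory.Q.obj (K.obj (Opposite.op 0)),
      DerivedCategory.Q.map ((K.obj (Opposite.op n)).πTruncGE (n : ℤ)) ≫ φ = DerivedCategory.Q.map (K.map (homOfLE (Nat.zero_le n)).op) := by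
  classical
  have hz' : ∀ j : ℕ, j < n →
      (homologyFunctor A (j : ℤ)).map (Q.map (K.map (homOfLE (Nat.le_succ j)).op)) = 0 := by
    intro j hj
    have nat := (homologyFunctorFactors A (j : ℤ)).hom.naturality
      (K.map (homOfLE (Nat.le_succ j)).op)
    dsimp at nat
    rw [← cancel_mono ((homologyFunctorFactors A (j : ℤ)).hom.app _), zero_comp, nat,
      HomologicalComplex.homologyFunctor_map, hz j hj]
    exact comp_zero
  have P : ∀ k : ℕ, k ≤ n → ∀ (W : DerivedCategory A) [W.IsLE ((k : ℤ) - 1)]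
      (w : W ⟶ Q.obj (K.obj (Opposite.op k))),
      w ≫ Q.map (K.map (homOfLE (Nat.zero_le k)).op) = 0 := by
    intro k
    induction k with
    | zero =>
      intro _ W _ w
      have hGE : (Q.obj (K.obj (Opposite.op 0))).IsGE 0 := by
        rw [isGE_Q_obj_iff, CochainComplex.isGE_iff]
        intro i hi
        rw [HomologicalComplex.exactAt_iff_isZero_homology]
        exact h0 i hi
      have hLE : W.IsLE (-1) := by
        simpa using (inferInstance : W.IsLE (((0 : ℕ) : ℤ) - 1))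
      have : w = 0 := tt.zero_of_isLE_of_isGE w (-1) 0 (by lia) hLE hGE
      rw [this, zero_comp]
    | succ k ih =>
      intro hk W hW w
      have hk' : k < n := by lia
      have hsplit : K.map (homOfLE (Nat.zero_le (k + 1))).op =
          K.map (homOfLE (Nat.le_succ k)).op ≫ K.map (homOfLE (Nat.zero_le k)).op := by
        rw [← K.map_comp]; rfl
      rw [hsplit, Functor.map_comp]
      have hι : (tt.truncLTι (k : ℤ)).app (Q.obj (K.obj (Opposite.op k))) ≫
          Q.map (K.map (homOfLE (Nat.zero_le k)).op) = 0 := ih (by lia) _ _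
      obtain ⟨φk, hφk⟩ : ∃ φk : (tt.truncGE (k : ℤ)).obj (Q.obj (K.obj (Opposite.op k))) ⟶
          Q.obj (K.obj (Opposite.op 0)),
          Q.map (K.map (homOfLE (Nat.zero_le k)).op) =
            (tt.truncGEπ (k : ℤ)).app (Q.obj (K.obj (Opposite.op k))) ≫ φk :=
        Triangle.yoneda_exact₂ _
          (tt.triangleLTGE_distinguished (k : ℤ) (Q.obj (K.obj (Opposite.op k))))
          (Q.map (K.map (homOfLE (Nat.zero_le k)).op)) hι
      have hW' : W.IsLE (k : ℤ) := by
        have : ((k + 1 : ℕ) : ℤ) - 1 = (k : ℤ) := by push_cast; ring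
        rw [← this]; exact hW
      have hzero : (w ≫ Q.map (K.map (homOfLE (Nat.le_succ k)).op)) ≫
          (tt.truncGEπ (k : ℤ)).app (Q.obj (K.obj (Opposite.op k))) = 0 := by
        apply eq_zero_of_isLE_isGE (k : ℤ)
        rw [Functor.map_comp, Functor.map_comp, hz' k hk', comp_zero, zero_comp]
      rw [hφk, ← Category.assoc, ← Category.assoc, hzero, zero_comp]
  -- final step
  obtain ⟨m, hm⟩ : ∃ m : ℤ, m + 1 = (n : ℤ) := ⟨(n : ℤ) - 1, by ring⟩
  have hSES := (K.obj (Opposite.op n)).shortComplexTruncLE_shortExact m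
  have hf0 : Q.map ((K.obj (Opposite.op n)).shortComplexTruncLE m).f ≫
      Q.map (K.map (homOfLE (Nat.zero_le n)).op) = 0 := by
    have : (Q.obj ((K.obj (Opposite.op n)).truncLE m)).IsLE ((n : ℤ) - 1) := by
      have hmm : (n : ℤ) - 1 = m := by lia
      rw [hmm]; infer_instance
    exact P n le_rfl (Q.obj ((K.obj (Opposite.op n)).truncLE m)) _
  obtain ⟨ψ, hψ⟩ : ∃ ψ : Q.obj ((K.obj (Opposite.op n)).shortComplexTruncLE m).X₃ ⟶
      Q.obj (K.obj (Opposite.op 0)),
      Q.map (K.map (homOfLE (Nat.zero_le n)).op) =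
        Q.map ((K.obj (Opposite.op n)).shortComplexTruncLE m).g ≫ ψ :=
    Triangle.yoneda_exact₂ _ (triangleOfSES_distinguished hSES)
      (Q.map (K.map (homOfLE (Nat.zero_le n)).op)) hf0
  refine ⟨inv (Q.map ((K.obj (Opposite.op n)).shortComplexTruncLEX₃ToTruncGE m (n : ℤ) hm)) ≫ ψ,
    ?_⟩
  have key : Q.map ((K.obj (Opposite.op n)).πTruncGE (n : ℤ)) =
      Q.map ((K.obj (Opposite.op n)).shortComplexTruncLE m).g ≫
        Q.map ((K.obj (Opposite.op n)).shortComplexTruncLEX₃ToTruncGE m (n : ℤ) hm) := by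
    rw [← Functor.map_comp]
    exact congrArg (fun t => Q.map t)
      ((K.obj (Opposite.op n)).g_shortComplexTruncLEX₃ToTruncGE m (n : ℤ) hm).symm
  have e1 := congrArg (fun t => t ≫
    inv (Q.map ((K.obj (Opposite.op n)).shortComplexTruncLEX₃ToTruncGE m (n : ℤ) hm)) ≫ ψ) key
  refine e1.trans ?_
  have gen : ∀ {X Y Z T : DerivedCategory A} (a : X ⟶ Y) (b : Y ⟶ Z) [IsIso b] (c : Y ⟶ T),
      (a ≫ b) ≫ inv b ≫ c = a ≫ c := by
    intros; simp
  exact (gen _ _ _).trans hψ.symm

end Groth.Agent.S1113
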