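import Groth.Statements.S11135
import Mathlib

set_option autoImplicit false
universe u
open InvTh

namespace Groth.Agent.S11135

section helpers

open Classical

variable {ι : Type u} (D : ι → Type u) [∀ i, CommRing (D i)]

/-- indicator idempotent of a subset of the index set -/
noncomputable def e (T : Set ι) : Π i, D i := fun i => if i ∈ T then 1 else 0

/-- projection to the coordinates in `T` -/
def π (T : Set ι) : (Π i, D i) →+* (Π i : T, D i.1) :=
  RingHom.pi (fun i : T => Pi.evalRingHom D i.1)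

variable {D}

@[simp] lemma π_apply (T : Set ι) (a : Π i, D i) (i : T) : π D T a i = a i.1 := rfl

lemma e_of_mem {T : Set ι} {i : ι} (h : i ∈ T) : e D T i = 1 := if_pos h
lemma e_of_not_mem {T : Set ι} {i : ι} (h : i ∉ T) : e D T i = 0 := if_neg h

lemma e_mul_e (T T' : Set ι) : e D T * e D T' = e D (T ∩ T') := by
  ext i
  by_cases h1 : i ∈ T <;> by_cases h2 : i ∈ T' <;> simp [e, h1, h2]

lemma one_sub_e (T : Set ι) : 1 - e D T = e D Tᶜ := by
  ext i
  by_cases h1 : i ∈ T <;> simp [e, h1]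

lemma e_compl_mem {A : Subring (Π i, D i)} {T : Set ι} (hT : e D T ∈ A) : e D Tᶜ ∈ A := by
  rw [← one_sub_e]; exact A.sub_mem A.one_mem hT

structure Setup (D : ι → Type u) [∀ i, CommRing (D i)] {R : Type u} [CommRing R]
    (F : Set ((Π i, D i) →+* R)) (A : Subring (Π i, D i)) : Prop where
  hF : ∀ f ∈ F, ∀ s ∈ nonZeroDivisors (Π i, D i), f s ∈ nonZeroDivisors R
  hA : ∀ a, a ∈ A ↔ ∀ f ∈ F, ∀ f' ∈ F, f a = f' a

lemma mem_nzd [∀ i, IsDomain (D i)] {t : Π i, D i} (h : ∀ i, t i ≠ 0) :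
    t ∈ nonZeroDivisors (Π i, D i) := by
  rw [mem_nonZeroDivisors_iff_right]
  intro x hx
  ext i
  have := congrFun hx i
  simp only [Pi.mul_apply, Pi.zero_apply] at this
  exact (mul_eq_zero.mp this).resolve_right (h i)

lemma key1 [∀ i, IsDomain (D i)] {R : Type u} [CommRing R] {F : Set ((Π i, D i) →+* R)}
    {A : Subring (Π i, D i)} (H : Setup D F A) {T : Set ι} (hT : e D T ∈ A) {a : Π i, D i}
    (ha : a ∈ A) (haT : ∀ i, i ∉ T → a i = 0) : e D {i | i ∈ T ∧ a i = 0} ∈ A := by
  set Z : Set ι := {i | i ∈ T ∧ a i = 0} with hZ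
  set Y : Set ι := {i | i ∈ T ∧ a i ≠ 0} with hY
  have hZa : e D Z * a = 0 := by
    ext i
    by_cases h : i ∈ Z
    · simp [e_of_mem h, h.2]
    · simp [e_of_not_mem h]
  have hYZ : e D Y * e D Z = 0 := by
    rw [e_mul_e]
    ext i
    apply e_of_not_mem
    rintro ⟨h1, h2⟩
    exact h1.2 h2.2
  have hYT : e D Y * e D Tᶜ = 0 := by
    rw [e_mul_e]; ext i; apply e_of_not_mem; rintro ⟨h1, h2⟩; exact h2 h1.1
  have hZT : e D Z * e D T = e D Z := by
    rw [e_mul_e]; congr 1; ext i; constructor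
    · exact fun h => h.1
    · exact fun h => ⟨h, h.1⟩
  have hT' : e D T = e D Z + e D Y := by
    ext i
    by_cases h1 : i ∈ T
    · by_cases h2 : a i = 0
      · have hz : i ∈ Z := ⟨h1, h2⟩
        have hy : i ∉ Y := fun h => h.2 h2
        simp [e_of_mem h1, e_of_mem hz, e_of_not_mem hy]
      · have hz : i ∉ Z := fun h => h2 h.2
        have hy : i ∈ Y := ⟨h1, h2⟩
        simp [e_of_mem h1, e_of_not_mem hz, e_of_mem hy]
    · have hz : i ∉ Z := fun h => h1 h.1
      have hy : i ∉ Y := fun h => h1 h.1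
      simp [e_of_not_mem h1, e_of_not_mem hz, e_of_not_mem hy]
  have ht : ∀ i, (a + e D Z + e D Tᶜ) i ≠ 0 := by
    intro i
    by_cases h1 : i ∈ T
    · have hc : i ∉ Tᶜ := fun h => h h1
      by_cases h2 : a i = 0
      · have hz : i ∈ Z := ⟨h1, h2⟩
        simp [e_of_mem hz, e_of_not_mem hc, h2]
      · have hz : i ∉ Z := fun h => h2 h.2
        simp [e_of_not_mem hz, e_of_not_mem hc, h2]
    · have hz : i ∉ Z := fun h => h1 h.1
      have hc : i ∈ Tᶜ := h1
      simp [e_of_not_mem hz, e_of_mem hc, haT i h1]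
  have claim : ∀ f ∈ F, ∀ f' ∈ F, f (e D Z) * f' (e D Y) = 0 := by
    intro f hf f' hf'
    have hnzd := H.hF f' hf' _ (mem_nzd ht)
    rw [← mul_right_mem_nonZeroDivisors_eq_zero_iff hnzd]
    have hfa : f' a = f a := (H.hA a).mp ha f' hf' f hf
    have e1 : f (e D Z) * f a = 0 := by rw [← map_mul, hZa, map_zero]
    have e2 : f' (e D Y) * f' (e D Z) = 0 := by rw [← map_mul, hYZ, map_zero]
    have e3 : f' (e D Y) * f' (e D Tᶜ) = 0 := by rw [← map_mul, hYT, map_zero]
    rw [map_add, map_add, hfa]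
    calc f (e D Z) * f' (e D Y) * (f a + f' (e D Z) + f' (e D Tᶜ))
        = (f (e D Z) * f a) * f' (e D Y) + f (e D Z) * (f' (e D Y) * f' (e D Z))
          + f (e D Z) * (f' (e D Y) * f' (e D Tᶜ)) := by ring
      _ = 0 := by rw [e1, e2, e3]; simp
  rw [H.hA]
  intro f hf f' hf'
  have hw : f (e D T) = f' (e D T) := (H.hA _).mp hT f hf f' hf'
  have h1 := claim f hf f' hf'
  have h2 := claim f' hf' f hf
  have u1 : f (e D Z) = f (e D Z) * f' (e D Z) := by
    calc f (e D Z) = f (e D Z * e D T) := by rw [hZT]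
      _ = f (e D Z) * f' (e D T) := by rw [map_mul, hw]
      _ = f (e D Z) * f' (e D Z) + f (e D Z) * f' (e D Y) := by rw [hT', map_add, mul_add]
      _ = f (e D Z) * f' (e D Z) := by rw [h1, add_zero]
  have u2 : f' (e D Z) = f' (e D Z) * f (e D Z) := by
    calc f' (e D Z) = f' (e D Z * e D T) := by rw [hZT]
      _ = f' (e D Z) * f (e D T) := by rw [map_mul, hw]
      _ = f' (e D Z) * f (e D Z) + f' (e D Z) * f (e D Y) := by rw [hT', map_add, mul_add]
      _ = f' (e D Z) * f (e D Z) := by rw [h2, add_zero]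
  calc f (e D Z) = f (e D Z) * f' (e D Z) := u1
    _ = f' (e D Z) * f (e D Z) := mul_comm _ _
    _ = f' (e D Z) := u2.symm

/-- the atom of the Boolean algebra of `A`-idempotents containing `i₀` -/
def atom (A : Subring (Π i, D i)) (i₀ : ι) : Set ι :=
  {i | ∀ T : Set ι, e D T ∈ A → i₀ ∈ T → i ∈ T}

lemma mem_atom_self (A : Subring (Π i, D i)) (i₀ : ι) : i₀ ∈ atom A i₀ := fun _ _ h => h

lemma atom_subset {A : Subring (Π i, D i)} {i₀ : ι} {T : Set ι} (hT : e D T ∈ A) (h : i₀ ∈ T) :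
    atom A i₀ ⊆ T := fun _ hi => hi T hT h

lemma e_atom_mem [Fintype ι] (A : Subring (Π i, D i)) (i₀ : ι) : e D (atom A i₀) ∈ A := by
  haveI : Fintype (Set ι) := Fintype.ofFinite _
  have h : e D (atom A i₀) =
      ∏ T ∈ (Finset.univ.filter (fun T : Set ι => e D T ∈ A ∧ i₀ ∈ T)), e D T := by
    ext i
    rw [Finset.prod_apply]
    simp only [e]
    rw [Finset.prod_ite_zero, Finset.prod_const_one]
    by_cases hi : i ∈ atom A i₀
    · rw [if_pos hi, if_pos]
      intro T hT
      exact hi T (Finset.mem_filter.mp hT).2.1 (Finset.mem_filter.mp hT).2.2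
    · rw [if_neg hi, if_neg]
      intro hall
      apply hi
      intro T hTA hi₀
      exact hall T (Finset.mem_filter.mpr ⟨Finset.mem_univ _, hTA, hi₀⟩)
  rw [h]
  exact A.prod_mem (fun T hT => (Finset.mem_filter.mp hT).2.1)

lemma atom_eq_of_mem [Fintype ι] {A : Subring (Π i, D i)} {i i₁ : ι} (h : i ∈ atom A i₁) :
    atom A i = atom A i₁ := by
  have h1 : atom A i ⊆ atom A i₁ := atom_subset (e_atom_mem A i₁) h
  have h2 : i₁ ∈ atom A i := by
    by_contra hn
    exact (h _ (e_compl_mem (e_atom_mem A i)) hn) (mem_atom_self A i)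
  exact Set.Subset.antisymm h1 (atom_subset (e_atom_mem A i) h2)

lemma dichotomy [Fintype ι] [∀ i, IsDomain (D i)] {R : Type u} [CommRing R]
    {F : Set ((Π i, D i) →+* R)} {A : Subring (Π i, D i)} (H : Setup D F A) (i₀ : ι)
    {a : Π i, D i} (ha : a ∈ A) (haT : ∀ i, i ∉ atom A i₀ → a i = 0) :
    (∀ i ∈ atom A i₀, a i = 0) ∨ (∀ i ∈ atom A i₀, a i ≠ 0) := by
  have hZ := key1 H (e_atom_mem A i₀) ha haT
  by_cases h0 : a i₀ = 0
  · left
    intro i hi
    exact (hi _ hZ ⟨mem_atom_self A i₀, h0⟩).2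
  · right
    intro i hi hi0
    exact (hi _ (e_compl_mem hZ) (fun h => h0 h.2)) ⟨hi, hi0⟩

lemma exists_rep {A : Subring (Π i, D i)} {T : Set ι} (hT : e D T ∈ A) {x : Π i : T, D i.1}
    (hx : x ∈ A.map (π D T)) : ∃ a ∈ A, (∀ i, i ∉ T → a i = 0) ∧ π D T a = x := by
  obtain ⟨a, ha, rfl⟩ := Subring.mem_map.mp hx
  refine ⟨a * e D T, A.mul_mem ha hT, fun i hi => by simp [e_of_not_mem hi], ?_⟩
  ext i
  simp [e_of_mem i.2]

lemma isDomain_E [Fintype ι] [∀ i, IsDomain (D i)] {R : Type u} [CommRing R]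
    {F : Set ((Π i, D i) →+* R)} {A : Subring (Π i, D i)} (H : Setup D F A) (i₀ : ι) :
    IsDomain ↥(A.map (π D (atom A i₀))) := by
  have hT : e D (atom A i₀) ∈ A := e_atom_mem A i₀
  have i₀T : i₀ ∈ atom A i₀ := mem_atom_self A i₀
  haveI : Nontrivial ↥(A.map (π D (atom A i₀))) := ⟨⟨0, 1, fun h => by
    have h1 := congrArg (fun x : ↥(A.map (π D (atom A i₀))) => x.1 ⟨i₀, i₀T⟩) h
    simp at h1⟩⟩
  haveI : NoZeroDivisors ↥(A.map (π D (atom A i₀))) := ⟨fun {x y} hxy => by
    obtain ⟨a, ha, haT, hax⟩ := exists_rep hT x.2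
    obtain ⟨b, hb, hbT, hby⟩ := exists_rep hT y.2
    rcases dichotomy H i₀ ha haT with h0 | hne
    · left
      apply Subtype.ext
      rw [← hax]
      ext i
      exact h0 i.1 i.2
    · rcases dichotomy H i₀ hb hbT with h0' | hne'
      · right
        apply Subtype.ext
        rw [← hby]
        ext i
        exact h0' i.1 i.2
      · exfalso
        have h1 := congrArg (fun z : ↥(A.map (π D (atom A i₀))) => z.1 ⟨i₀, i₀T⟩) hxy
        simp only [Subring.coe_mul, Pi.mul_apply, ZeroMemClass.coe_zero, Pi.zero_apply] at h1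
        rw [← hax, ← hby] at h1
        exact mul_ne_zero (hne i₀ i₀T) (hne' i₀ i₀T) h1⟩
  exact NoZeroDivisors.to_isDomain _

lemma isIntegrallyClosed_E [Fintype ι] [∀ i, IsDomain (D i)] [∀ i, IsIntegrallyClosed (D i)]
    {R : Type u} [CommRing R] {F : Set ((Π i, D i) →+* R)} {A : Subring (Π i, D i)}
    (H : Setup D F A) (i₀ : ι) : IsIntegrallyClosed ↥(A.map (π D (atom A i₀))) := by
  haveI := isDomain_E H i₀
  have hT : e D (atom A i₀) ∈ A := e_atom_mem A i₀
  have i₀T : i₀ ∈ atom A i₀ := mem_atom_self A i₀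
  rw [isIntegrallyClosed_iff (FractionRing ↥(A.map (π D (atom A i₀))))]
  intro x hx
  obtain ⟨a, b, hb, rfl⟩ := IsFractionRing.div_surjective (A := ↥(A.map (π D (atom A i₀)))) x
  have hb0 : algebraMap ↥(A.map (π D (atom A i₀)))
      (FractionRing ↥(A.map (π D (atom A i₀)))) b ≠ 0 := by
    intro h0
    exact nonZeroDivisors.ne_zero hb
      ((IsFractionRing.injective _ (FractionRing ↥(A.map (π D (atom A i₀)))))
        (by rw [h0, map_zero]))
  have key : ∀ i : atom A i₀, ∃ c : D i.1, c * b.1 i = a.1 i := by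
    intro i
    let φ : ↥(A.map (π D (atom A i₀))) →+* D i.1 :=
      (Pi.evalRingHom (fun j : atom A i₀ => D j.1) i).comp (Subring.subtype _)
    have hφ : Function.Injective φ := by
      rw [injective_iff_map_eq_zero]
      intro y hy
      obtain ⟨c, hc, hcT, hcy⟩ := exists_rep hT y.2
      rcases dichotomy H i₀ hc hcT with h0 | hne
      · apply Subtype.ext
        rw [← hcy]
        ext j
        exact h0 j.1 j.2
      · exfalso
        apply hne i.1 i.2
        have h3 : (π D (atom A i₀) c) i = 0 := by rw [hcy]; exact hy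
        exact h3
    let g : ↥(A.map (π D (atom A i₀))) →+* FractionRing (D i.1) :=
      (algebraMap (D i.1) (FractionRing (D i.1))).comp φ
    have hg : Function.Injective g :=
      (IsFractionRing.injective (D i.1) (FractionRing (D i.1))).comp hφ
    let Φ : FractionRing ↥(A.map (π D (atom A i₀))) →+* FractionRing (D i.1) :=
      IsFractionRing.lift hg
    have hΦ : ∀ y, Φ (algebraMap _ _ y) = g y := fun y => IsFractionRing.lift_algebraMap hg y
    have hint : IsIntegral (D i.1) (Φ (algebraMap _ _ a / algebraMap _ _ b)) :=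
      IsIntegral.map_of_comp_eq φ Φ (RingHom.ext fun y => (hΦ y).symm) hx
    obtain ⟨c, hc⟩ := IsIntegrallyClosed.algebraMap_eq_of_integral hint
    refine ⟨c, ?_⟩
    have h1 : Φ (algebraMap _ _ a / algebraMap _ _ b) * g b = g a := by
      rw [← hΦ b, ← hΦ a, ← map_mul, div_mul_cancel₀ _ hb0]
    rw [← hc] at h1
    have h2 : algebraMap (D i.1) (FractionRing (D i.1)) (c * φ b) = algebraMap _ _ (φ a) := by
      rw [map_mul]; exact h1
    exact IsFractionRing.injective (D i.1) (FractionRing (D i.1)) h2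
  choose c hc using key
  obtain ⟨a', ha', ha'T, ha'a⟩ := exists_rep hT a.2
  obtain ⟨b', hb', hb'T, hb'b⟩ := exists_rep hT b.2
  have hb'ne : ∀ i ∈ atom A i₀, b' i ≠ 0 := by
    rcases dichotomy H i₀ hb' hb'T with h0 | hne
    · exfalso
      apply nonZeroDivisors.ne_zero hb
      apply Subtype.ext
      rw [← hb'b]
      ext j
      exact h0 j.1 j.2
    · exact hne
  let c' : Π i, D i := fun i => if h : i ∈ atom A i₀ then c ⟨i, h⟩ else 0
  have hcb : c' * b' = a' := by
    ext i
    by_cases h : i ∈ atom A i₀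
    · have h1 := hc ⟨i, h⟩
      have h2 : b.1 ⟨i, h⟩ = b' i := (congrFun hb'b ⟨i, h⟩).symm
      have h3 : a.1 ⟨i, h⟩ = a' i := (congrFun ha'a ⟨i, h⟩).symm
      rw [h2, h3] at h1
      simp only [Pi.mul_apply, c', dif_pos h]
      exact h1
    · simp only [Pi.mul_apply, c', dif_neg h, zero_mul]
      exact (ha'T i h).symm
  have hcT : c' * e D (atom A i₀)ᶜ = 0 := by
    ext i
    by_cases h : i ∈ atom A i₀
    · have hn : i ∉ (atom A i₀)ᶜ := fun h' => h' h
      simp [e_of_not_mem hn]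
    · simp [c', dif_neg h]
  have hTc : e D (atom A i₀)ᶜ ∈ A := e_compl_mem hT
  have hc'A : c' ∈ A := by
    rw [H.hA]
    intro f hf f' hf'
    have ht : ∀ i, (b' + e D (atom A i₀)ᶜ) i ≠ 0 := by
      intro i
      by_cases h : i ∈ atom A i₀
      · have hn : i ∉ (atom A i₀)ᶜ := fun h' => h' h
        simp [e_of_not_mem hn, hb'ne i h]
      · have hn : i ∈ (atom A i₀)ᶜ := h
        simp [e_of_mem hn, hb'T i h]
    have hnzd := H.hF f hf _ (mem_nzd ht)
    have hfb : f' b' = f b' := (H.hA b').mp hb' f' hf' f hf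
    have hfe : f' (e D (atom A i₀)ᶜ) = f (e D (atom A i₀)ᶜ) := (H.hA _).mp hTc f' hf' f hf
    have hfa : f a' = f' a' := (H.hA a').mp ha' f hf f' hf'
    have e1 : f c' * f b' = f a' := by rw [← map_mul, hcb]
    have e2 : f' c' * f' b' = f' a' := by rw [← map_mul, hcb]
    have e3 : f c' * f (e D (atom A i₀)ᶜ) = 0 := by rw [← map_mul, hcT, map_zero]
    have e4 : f' c' * f' (e D (atom A i₀)ᶜ) = 0 := by rw [← map_mul, hcT, map_zero]
    rw [hfb] at e2
    rw [hfe] at e4
    have h0 : (f c' - f' c') * f (b' + e D (atom A i₀)ᶜ) = 0 := by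
      rw [map_add]
      calc (f c' - f' c') * (f b' + f (e D (atom A i₀)ᶜ))
          = f c' * f b' + f c' * f (e D (atom A i₀)ᶜ) - f' c' * f b'
            - f' c' * f (e D (atom A i₀)ᶜ) := by ring
        _ = 0 := by rw [e1, e2, e3, e4, hfa]; ring
    exact sub_eq_zero.mp ((mul_right_mem_nonZeroDivisors_eq_zero_iff hnzd).mp h0)
  refine ⟨⟨π D (atom A i₀) c', Subring.mem_map.mpr ⟨c', hc'A, rfl⟩⟩, ?_⟩
  rw [eq_div_iff hb0, ← map_mul]
  congr 1
  apply Subtype.ext
  ext i
  simp only [Subring.coe_mul, Pi.mul_apply, π_apply, c', dif_pos i.2]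
  exact hc i

end helpers

/-- Suppose S is the product of a finite family of integrally closed domains (a finite product of normal
domains), R is any commutative ring, and F is a family of ring maps S → R each carrying
non-zero-divisors of S to non-zero-divisors of R. Then the subring A of S on which all members of F
coincide (a ∈ A iff f(a) = f'(a) for all f, f' in F) is ring-isomorphic to a product of finitely
many integrally closed domains. -/
theorem result {ι : Type u} [Fintype ι] (D : ι → Type u)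
    [∀ i, CommRing (D i)] [∀ i, IsDomain (D i)] [∀ i, IsIntegrallyClosed (D i)]
    (R : Type u) [CommRing R] (F : Set ((Π i, D i) →+* R))
    (hF : ∀ f ∈ F, ∀ s ∈ nonZeroDivisors (Π i, D i), f s ∈ nonZeroDivisors R)
    (A : Subring (Π i, D i)) (hA : ∀ a, a ∈ A ↔ ∀ f ∈ F, ∀ f' ∈ F, f a = f' a) :
    ∃ (κ : Type u) (_ : Fintype κ) (E : κ → Type u) (_ : ∀ j, CommRing (E j)) (_ : ∀ j, IsDomain (E j))
      (_ : ∀ j, IsIntegrallyClosed (E j)), Nonempty (A ≃+* Π j, E j) := by
  classical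
  have H : Setup D F A := ⟨hF, hA⟩
  let κ : Type u := {T : Set ι // ∃ i, atom A i = T}
  haveI : Fintype (Set ι) := Fintype.ofFinite _
  haveI : Finite κ := Finite.of_injective (fun k : κ => k.1) Subtype.val_injective
  letI : Fintype κ := Fintype.ofFinite κ
  let E : κ → Type u := fun k => ↥(A.map (π D k.1))
  have hTk : ∀ k : κ, e D k.1 ∈ A := by
    rintro ⟨T, i, rfl⟩
    exact e_atom_mem A i
  have hdom : ∀ k : κ, IsDomain (E k) := by
    rintro ⟨T, i, rfl⟩
    exact isDomain_E H i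
  have hic : ∀ k : κ, IsIntegrallyClosed (E k) := by
    rintro ⟨T, i, rfl⟩
    exact isIntegrallyClosed_E H i
  let ψ : ∀ k : κ, A →+* E k := fun k =>
    ((π D k.1).comp A.subtype).codRestrict (A.map (π D k.1))
      (fun a => Subring.mem_map.mpr ⟨a.1, a.2, rfl⟩)
  let Ψ : A →+* Π k, E k := RingHom.pi ψ
  have hinj : Function.Injective Ψ := by
    rw [injective_iff_map_eq_zero]
    intro a h
    apply Subtype.ext
    ext i
    have h1 := congrFun h ⟨atom A i, i, rfl⟩
    have h2 := congrArg (fun z : E ⟨atom A i, i, rfl⟩ => z.1 ⟨i, mem_atom_self A i⟩) h1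
    exact h2
  have hsurj : Function.Surjective Ψ := by
    intro y
    have hex : ∀ k : κ, ∃ a ∈ A, (∀ i, i ∉ k.1 → a i = 0) ∧ π D k.1 a = (y k).1 :=
      fun k => exists_rep (hTk k) (y k).2
    choose a ha haT hay using hex
    refine ⟨⟨∑ k, a k, A.sum_mem (fun k _ => ha k)⟩, ?_⟩
    funext k
    apply Subtype.ext
    funext i
    show (∑ k', a k') i.1 = (y k).1 i
    rw [Finset.sum_apply, Finset.sum_eq_single k]
    · exact congrFun (hay k) i
    · intro k' _ hk'
      apply haT k'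
      intro hi
      apply hk'
      obtain ⟨T, i₁, rfl⟩ := k
      obtain ⟨T', i₂, rfl⟩ := k'
      apply Subtype.ext
      show atom A i₂ = atom A i₁
      exact (atom_eq_of_mem hi).symm.trans (atom_eq_of_mem i.2)
    · intro h
      exact absurd (Finset.mem_univ k) h
  exact ⟨κ, inferInstance, E, fun k => inferInstance, hdom, hic,
    ⟨RingEquiv.ofBijective Ψ ⟨hinj, hsurj⟩⟩⟩

end Groth.Agent.S11135
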