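import Groth.Statements.S11136
import Mathlib

set_option autoImplicit false
universe u v
open InvTh

namespace Groth.Agent.S11136

section helpers
open TopologicalSpace

theorem isOpen_cc {α : Type*} [TopologicalSpace α] [NoetherianSpace α] (x : α) :
    IsOpen (connectedComponent x) := by
  rw [← isClosed_compl_iff]
  have hfin := NoetherianSpace.finite_irreducibleComponents (α := α)
  have heq : (connectedComponent x)ᶜ =
      ⋃ Z ∈ {Z ∈ irreducibleComponents α | Disjoint Z (connectedComponent x)}, Z := by
    ext y
    constructor
    · intro hy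
      refine Set.mem_iUnion₂.mpr ⟨irreducibleComponent y,
        ⟨irreducibleComponent_mem_irreducibleComponents y, ?_⟩, mem_irreducibleComponent⟩
      have hsub : irreducibleComponent y ⊆ connectedComponent y :=
        (isIrreducible_irreducibleComponent.isConnected.isPreconnected).subset_connectedComponent
          mem_irreducibleComponent
      have hne : connectedComponent y ≠ connectedComponent x := by
        intro h
        apply hy
        rw [← h]
        exact mem_connectedComponent
      exact (connectedComponent_disjoint hne).mono_left hsub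
    · intro hy
      obtain ⟨Z, ⟨_, hd⟩, hyZ⟩ := Set.mem_iUnion₂.mp hy
      exact fun hy' => Set.disjoint_left.mp hd hyZ hy'
  rw [heq]
  exact (hfin.subset (Set.sep_subset _ _)).isClosed_biUnion
    (fun Z hZ => isClosed_of_mem_irreducibleComponents Z hZ.1)

end helpers

/-- Let a finite group G act on a Noetherian commutative ring R by ring automorphisms, with ring of
invariants A (A → R injective with image the fixed elements). When the prime spectrum of A is
connected, any two connected components of Spec R are exchanged by some element of G: for all points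
x, y of Spec R there is g in G whose induced self-map of Spec R carries the connected component of x
onto the connected component of y. -/
theorem result
    (A : Type u) (R : Type v) [CommRing A] [CommRing R] [Algebra A R] [IsNoetherianRing R]
    (G : Type u) [Group G] [Finite G] [MulSemiringAction G R] [SMulCommClass G A R]
    [Algebra.IsInvariant A R G] [FaithfulSMul A R]
    [ConnectedSpace (PrimeSpectrum A)] (x y : PrimeSpectrum R) :
    ∃ g : G, PrimeSpectrum.comap (MulSemiringAction.toRingHom G R g) '' connectedComponent x =
      connectedComponent y := by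
  classical
  haveI : Algebra.IsIntegral A R := Algebra.IsInvariant.isIntegral A R G
  let φ : G → PrimeSpectrum R → PrimeSpectrum R :=
    fun g => PrimeSpectrum.comap (MulSemiringAction.toRingHom G R g)
  let π : PrimeSpectrum R → PrimeSpectrum A := PrimeSpectrum.comap (algebraMap A R)
  have hmem : ∀ (g : G) (p : PrimeSpectrum R) (r : R),
      r ∈ (φ g p).asIdeal ↔ g • r ∈ p.asIdeal := fun g p r => Iff.rfl
  have hφcont : ∀ g, Continuous (φ g) := fun g => PrimeSpectrum.continuous_comap _
  have hφmul : ∀ (g g' : G) (p : PrimeSpectrum R), φ g' (φ g p) = φ (g * g') p := by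
    intro g g' p
    apply PrimeSpectrum.ext
    ext r
    rw [hmem, hmem, hmem, mul_smul]
  have hφone : ∀ p, φ 1 p = p := by
    intro p
    apply PrimeSpectrum.ext
    ext r
    rw [hmem, one_smul]
  have hfib : ∀ p q, π p = π q → ∃ g, q = φ g p := by
    intro p q hpq
    have h1 : p.asIdeal.under A = q.asIdeal.under A := congrArg PrimeSpectrum.asIdeal hpq
    obtain ⟨g, hg⟩ := Algebra.IsInvariant.exists_smul_of_under_eq A R G p.asIdeal q.asIdeal h1
    refine ⟨g⁻¹, ?_⟩
    apply PrimeSpectrum.ext
    ext r
    rw [hmem, hg, Ideal.mem_pointwise_smul_iff_inv_smul_mem]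
  have hπclosed : IsClosedMap π :=
    PrimeSpectrum.isClosedMap_comap_of_isIntegral _ (algebraMap_isIntegral_iff.mpr inferInstance)
  have hπsurj : Function.Surjective π := by
    intro P
    have hinj : Function.Injective (algebraMap A R) := FaithfulSMul.algebraMap_injective A R
    obtain ⟨Q, -, hQ, hQP⟩ := Ideal.exists_ideal_over_prime_of_isIntegral P.asIdeal (⊥ : Ideal R) (by
      rw [Ideal.comap_bot_of_injective _ hinj]; exact bot_le)
    exact ⟨⟨Q, hQ⟩, PrimeSpectrum.ext hQP⟩
  have hccφ : ∀ g p, φ g '' connectedComponent p = connectedComponent (φ g p) := by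
    intro g p
    apply Set.Subset.antisymm ((hφcont g).image_connectedComponent_subset p)
    intro q hq
    have h1 := (hφcont g⁻¹).image_connectedComponent_subset (φ g p) ⟨q, hq, rfl⟩
    rw [hφmul, mul_inv_cancel, hφone] at h1
    refine ⟨φ g⁻¹ q, h1, ?_⟩
    rw [hφmul, inv_mul_cancel, hφone]
  let T : Set (PrimeSpectrum R) := ⋃ g : G, φ g '' connectedComponent x
  have hTclosed : IsClosed T := by
    show IsClosed (⋃ g : G, φ g '' connectedComponent x)
    exact isClosed_iUnion_of_finite fun g => by
      rw [hccφ]; exact isClosed_connectedComponent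
  have hTopen : IsOpen T := by
    show IsOpen (⋃ g : G, φ g '' connectedComponent x)
    exact isOpen_iUnion fun g => by
      rw [hccφ]; exact isOpen_cc _
  have hTstab : ∀ t ∈ T, ∀ t', π t' = π t → t' ∈ T := by
    intro t ht t' htt'
    obtain ⟨g, c, hc, rfl⟩ := Set.mem_iUnion.mp ht
    obtain ⟨g', rfl⟩ := hfib _ _ htt'.symm
    rw [hφmul]
    exact Set.mem_iUnion.mpr ⟨g * g', c, hc, rfl⟩
  have hxT : x ∈ T := Set.mem_iUnion.mpr ⟨1, x, mem_connectedComponent, hφone x⟩
  have hcompl : (π '' T)ᶜ = π '' Tᶜ := by
    ext a
    constructor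
    · intro ha
      obtain ⟨p, rfl⟩ := hπsurj a
      exact ⟨p, fun hp => ha ⟨p, hp, rfl⟩, rfl⟩
    · rintro ⟨p, hp, rfl⟩ ⟨t, ht, htp⟩
      exact hp (hTstab t ht p htp.symm)
  have hclopen : IsClopen (π '' T) := by
    refine ⟨hπclosed _ hTclosed, ?_⟩
    rw [← isClosed_compl_iff, hcompl]
    exact hπclosed _ hTopen.isClosed_compl
  have huniv : π '' T = Set.univ := hclopen.eq_univ ⟨π x, x, hxT, rfl⟩
  have hyT : y ∈ T := by
    obtain ⟨t, ht, hty⟩ : π y ∈ π '' T := by rw [huniv]; trivial
    exact hTstab t ht y hty.symm
  obtain ⟨g, hg⟩ := Set.mem_iUnion.mp hyT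
  refine ⟨g, ?_⟩
  show φ g '' connectedComponent x = connectedComponent y
  rw [hccφ] at hg ⊢
  exact connectedComponent_eq hg

end Groth.Agent.S11136
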