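import Groth.Statements.S11137
import Mathlib

set_option autoImplicit false
universe u v
open InvTh

namespace Groth.Agent.S11137

/-- Let G be a finite group acting by ring automorphisms on a Noetherian commutative ring R, and let A
be its ring of invariants (A → R injective with image the fixed elements), with R module-finite over
A. Then the going-down property holds for the extension A → R. (The published statement also asserts
that G acts transitively on the primes of R over a given prime of A; this row states only the
going-down assertion.) -/
theorem result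
    (A : Type u) (R : Type v) [CommRing A] [CommRing R] [Algebra A R] [IsNoetherianRing R]
    (G : Type u) [Group G] [Finite G] [MulSemiringAction G R] [SMulCommClass G A R]
    [Algebra.IsInvariant A R G] [FaithfulSMul A R] [Module.Finite A R] :
    Algebra.HasGoingDown A R := by
  open scoped Pointwise in
  classical
  haveI : Algebra.IsIntegral A R := Algebra.IsInvariant.isIntegral A R G
  refine ⟨fun {p} _ Q _ hlt => ?_⟩
  have hinj : Function.Injective (algebraMap A R) := FaithfulSMul.algebraMap_injective A R
  have hbot : (⊥ : Ideal R).comap (algebraMap A R) ≤ p := by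
    intro x hx
    have h0 : algebraMap A R x = 0 := Ideal.mem_bot.1 (Ideal.mem_comap.1 hx)
    have h1 : x = 0 := hinj (by rw [h0, map_zero])
    rw [h1]; exact p.zero_mem
  obtain ⟨P₁, -, hP₁prime, hP₁⟩ :=
    Ideal.exists_ideal_over_prime_of_isIntegral p (⊥ : Ideal R) hbot
  haveI := hP₁prime
  obtain ⟨Q₁, hPQ₁, hQ₁prime, hQ₁⟩ :=
    Ideal.exists_ideal_over_prime_of_isIntegral_of_isPrime (Q.under A) P₁
      (by rw [hP₁]; exact hlt.le)
  haveI := hQ₁prime
  obtain ⟨g, hg⟩ := Algebra.IsInvariant.exists_smul_of_under_eq A R G Q₁ Q hQ₁
  refine ⟨g • P₁, ?_, inferInstance, ⟨?_⟩⟩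
  · rw [hg]
    intro x hx
    rw [Ideal.mem_pointwise_smul_iff_inv_smul_mem] at hx ⊢
    exact hPQ₁ hx
  · rw [Ideal.under_smul A P₁ g]; exact hP₁.symm

end Groth.Agent.S11137
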