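import Groth.Statements.S11141
import Mathlib
import Groth.Agent.S11135

set_option autoImplicit false
universe u
open TensorProduct
open InvTh

namespace Groth.Agent.S11141


section helpers
open TensorProduct

variable {k : Type u} [Field k] {H : Type u} [CommRing H] [HopfAlgebra k H]
  {S : Type u} [CommRing S] [Algebra k S]

/-- shear map attached to `σ`: `s ⊗ h ↦ σ s * (1 ⊗ h)` -/
noncomputable def sh (σ : S →ₗ[k] S ⊗[k] H) : S ⊗[k] H →ₗ[k] S ⊗[k] H :=
  (LinearMap.mul' k H).lTensor S ∘ₗ (TensorProduct.assoc k S H H).toLinearMap ∘ₗ σ.rTensor H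

lemma sh_apply (σ : S →ₗ[k] S ⊗[k] H) (w : S ⊗[k] H) :
    sh σ w = (LinearMap.mul' k H).lTensor S (TensorProduct.assoc k S H H (σ.rTensor H w)) := rfl

lemma mulAssoc_tmul (y : S ⊗[k] H) (h : H) :
    (LinearMap.mul' k H).lTensor S (TensorProduct.assoc k S H H (y ⊗ₜ[k] h)) =
      y * ((1 : S) ⊗ₜ[k] h) := by
  induction y using TensorProduct.induction_on with
  | zero => simp
  | tmul s h' => simp [Algebra.TensorProduct.tmul_mul_tmul]
  | add y₁ y₂ h₁ h₂ => rw [TensorProduct.add_tmul, map_add, map_add, h₁, h₂, add_mul]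

lemma sh_tmul (σ : S →ₗ[k] S ⊗[k] H) (s : S) (h : H) :
    sh σ (s ⊗ₜ[k] h) = σ s * ((1 : S) ⊗ₜ[k] h) := by
  rw [sh_apply, LinearMap.rTensor_tmul, mulAssoc_tmul]

lemma sh_mul_right (σ : S →ₗ[k] S ⊗[k] H) (w : S ⊗[k] H) (h : H) :
    sh σ (w * ((1 : S) ⊗ₜ[k] h)) = sh σ w * ((1 : S) ⊗ₜ[k] h) := by
  induction w using TensorProduct.induction_on with
  | zero => simp
  | tmul s h' =>
    rw [Algebra.TensorProduct.tmul_mul_tmul, mul_one, sh_tmul, sh_tmul, mul_assoc,
      Algebra.TensorProduct.tmul_mul_tmul, one_mul]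
  | add w₁ w₂ h₁ h₂ => rw [add_mul, map_add, map_add, h₁, h₂, add_mul]

lemma tmul_one_nzd (x : S) (hx : x ∈ nonZeroDivisors S) :
    (x ⊗ₜ[k] (1 : H)) ∈ nonZeroDivisors (S ⊗[k] H) := by
  have hinj : Function.Injective (LinearMap.mulLeft k x) := by
    intro a b hab
    have h1 : (a - b) * x = 0 := by
      have h0 : x * a = x * b := hab
      rw [sub_mul, mul_comm a, mul_comm b, h0, sub_self]
    exact sub_eq_zero.1 ((mem_nonZeroDivisors_iff_right.1 hx) _ h1)
  have hinj' := Module.Flat.rTensor_preserves_injective_linearMap (M := H)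
    (LinearMap.mulLeft k x) hinj
  have hform : ∀ y : S ⊗[k] H, (LinearMap.mulLeft k x).rTensor H y = (x ⊗ₜ[k] (1 : H)) * y := by
    intro y
    induction y using TensorProduct.induction_on with
    | zero => simp
    | tmul s h => simp [Algebra.TensorProduct.tmul_mul_tmul]
    | add y₁ y₂ h₁ h₂ => rw [map_add, h₁, h₂, mul_add]
  rw [mem_nonZeroDivisors_iff_right]
  intro y hy
  apply hinj'
  rw [hform, map_zero, mul_comm, hy]

variable [HopfRep.Comod k H S]

local notation "ρ" => (HopfRep.Comod.coact (k := k) (A := H) (V := S))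
local notation "anti" => (HopfAlgebra.antipode k (A := H))

lemma assoc_nat1 (w : (S ⊗[k] H) ⊗[k] H) :
    TensorProduct.assoc k S H H (((anti).lTensor S).rTensor H w) =
      ((anti).rTensor H).lTensor S (TensorProduct.assoc k S H H w) := by
  induction w using TensorProduct.induction_on with
  | zero => simp
  | tmul y h =>
    induction y using TensorProduct.induction_on with
    | zero => simp
    | tmul s h' => simp
    | add y₁ y₂ h₁ h₂ => simp only [TensorProduct.add_tmul, map_add, h₁, h₂]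
  | add w₁ w₂ h₁ h₂ => simp only [map_add, h₁, h₂]

lemma assoc_nat2 (w : (S ⊗[k] H) ⊗[k] H) :
    TensorProduct.assoc k S H H ((anti).lTensor (S ⊗[k] H) w) =
      ((anti).lTensor H).lTensor S (TensorProduct.assoc k S H H w) := by
  induction w using TensorProduct.induction_on with
  | zero => simp
  | tmul y h =>
    induction y using TensorProduct.induction_on with
    | zero => simp
    | tmul s h' => simp
    | add y₁ y₂ h₁ h₂ => simp only [TensorProduct.add_tmul, map_add, h₁, h₂]
  | add w₁ w₂ h₁ h₂ => simp only [map_add, h₁, h₂]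

lemma rl_comm (y : S ⊗[k] H) :
    (ρ).rTensor H ((anti).lTensor S y) = (anti).lTensor (S ⊗[k] H) ((ρ).rTensor H y) := by
  induction y using TensorProduct.induction_on with
  | zero => simp
  | tmul s h => simp
  | add y₁ y₂ h₁ h₂ => simp only [map_add, h₁, h₂]

lemma coassoc_apply (s : S) :
    TensorProduct.assoc k S H H ((ρ).rTensor H (ρ s)) =
      (CoalgebraStruct.comul (R := k) (A := H)).lTensor S (ρ s) := by
  have h := LinearMap.congr_fun (HopfRep.Comod.coassoc (k := k) (A := H) (V := S)) s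
  simpa only [LinearMap.comp_apply, LinearEquiv.coe_coe] using h

lemma counit_apply (s : S) :
    (CoalgebraStruct.counit (R := k) (A := H)).lTensor S (ρ s) = s ⊗ₜ[k] (1 : k) := by
  have h := LinearMap.congr_fun (HopfRep.Comod.counit_comp (k := k) (A := H) (V := S)) s
  simpa only [LinearMap.comp_apply, LinearMap.flip_apply, TensorProduct.mk_apply] using h

lemma unit_counit_apply (s : S) :
    ((Algebra.linearMap k H) ∘ₗ (CoalgebraStruct.counit (R := k) (A := H))).lTensor S (ρ s) =
      s ⊗ₜ[k] (1 : H) := by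
  rw [LinearMap.lTensor_comp_apply, counit_apply]
  simp

lemma shA (s : S) : sh ((anti).lTensor S ∘ₗ ρ) (ρ s) = s ⊗ₜ[k] (1 : H) := by
  rw [sh_apply, LinearMap.rTensor_comp_apply, assoc_nat1, coassoc_apply,
    ← LinearMap.lTensor_comp_apply, ← LinearMap.lTensor_comp_apply, LinearMap.comp_assoc,
    HopfAlgebra.mul_antipode_rTensor_comul, unit_counit_apply]

lemma shB (s : S) : sh (ρ) (((anti).lTensor S ∘ₗ ρ) s) = s ⊗ₜ[k] (1 : H) := by
  rw [sh_apply, LinearMap.comp_apply, rl_comm, assoc_nat2, coassoc_apply,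
    ← LinearMap.lTensor_comp_apply, ← LinearMap.lTensor_comp_apply, LinearMap.comp_assoc,
    HopfAlgebra.mul_antipode_lTensor_comul, unit_counit_apply]

lemma sh_left_inv (w : S ⊗[k] H) : sh ((anti).lTensor S ∘ₗ ρ) (sh (ρ) w) = w := by
  induction w using TensorProduct.induction_on with
  | zero => simp
  | tmul s h =>
    rw [sh_tmul, sh_mul_right, shA, Algebra.TensorProduct.tmul_mul_tmul, mul_one, one_mul]
  | add w₁ w₂ h₁ h₂ => rw [map_add, map_add, h₁, h₂]

lemma sh_right_inv (w : S ⊗[k] H) : sh (ρ) (sh ((anti).lTensor S ∘ₗ ρ) w) = w := by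
  induction w using TensorProduct.induction_on with
  | zero => simp
  | tmul s h =>
    rw [sh_tmul, sh_mul_right, shB, Algebra.TensorProduct.tmul_mul_tmul, mul_one, one_mul]
  | add w₁ w₂ h₁ h₂ => rw [map_add, map_add, h₁, h₂]

lemma sh_mul_left (hmul : ∀ x y : S, ρ (x * y) = ρ x * ρ y) (x : S) (w : S ⊗[k] H) :
    sh (ρ) ((x ⊗ₜ[k] (1 : H)) * w) = ρ x * sh (ρ) w := by
  induction w using TensorProduct.induction_on with
  | zero => simp
  | tmul s h =>
    rw [Algebra.TensorProduct.tmul_mul_tmul, one_mul, sh_tmul, sh_tmul, hmul, mul_assoc]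
  | add w₁ w₂ h₁ h₂ => rw [mul_add, map_add, map_add, h₁, h₂, mul_add]

lemma coact_nzd (hmul : ∀ x y : S, ρ (x * y) = ρ x * ρ y) (x : S)
    (hx : x ∈ nonZeroDivisors S) : ρ x ∈ nonZeroDivisors (S ⊗[k] H) := by
  rw [mem_nonZeroDivisors_iff_right]
  intro z hz
  have h1 : ρ x * sh (ρ) (sh ((anti).lTensor S ∘ₗ ρ) z) = 0 := by
    rw [sh_right_inv, mul_comm, hz]
  rw [← sh_mul_left hmul] at h1
  have h2 := congrArg (sh ((anti).lTensor S ∘ₗ ρ)) h1
  rw [sh_left_inv, map_zero] at h2
  have h3 : sh ((anti).lTensor S ∘ₗ ρ) z = 0 := by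
    have hn := tmul_one_nzd (k := k) (H := H) x hx
    rw [mem_nonZeroDivisors_iff_right] at hn
    exact hn _ (by rw [mul_comm]; exact h2)
  have h4 := sh_right_inv (k := k) (H := H) (S := S) z
  rw [h3, map_zero] at h4
  exact h4.symm

end helpers

/-- Let k be a field, H a finitely generated commutative Hopf algebra over k (the coordinate ring of a
group scheme affine and of finite type over k), and S a commutative k-algebra which is
ring-isomorphic to a finite product of normal (integrally closed) domains and carries an H-comodule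
structure whose coaction S → S ⊗ H is multiplicative and unital. Then the k-subalgebra of invariants
of S, the elements s whose coaction is s ⊗ 1, is again ring-isomorphic to a finite product of normal
domains. -/
theorem result (k : Type u) [Field k]
    (H : Type u) [CommRing H] [HopfAlgebra k H] [Algebra.FiniteType k H]
    (S : Type u) [CommRing S] [Algebra k S] [HopfRep.Comod k H S]
    (hmul : ∀ x y : S, HopfRep.Comod.coact (k := k) (A := H) (x * y) =
        HopfRep.Comod.coact (k := k) (A := H) x * HopfRep.Comod.coact (k := k) (A := H) y)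
    (hone : HopfRep.Comod.coact (k := k) (A := H) (1 : S) = 1)
    {ι : Type u} [Fintype ι] (D : ι → Type u) [∀ i, CommRing (D i)] [∀ i, IsDomain (D i)]
    [∀ i, IsIntegrallyClosed (D i)] (e : S ≃+* Π i, D i)
    (A : Subalgebra k S)
    (hA : ∀ a : S, a ∈ A ↔ HopfRep.Comod.coact (k := k) (A := H) a = a ⊗ₜ[k] (1 : H)) :
    ∃ (κ : Type u) (_ : Fintype κ) (E : κ → Type u) (_ : ∀ j, CommRing (E j)) (_ : ∀ j, IsDomain (E j))
      (_ : ∀ j, IsIntegrallyClosed (E j)), Nonempty (A ≃+* Π j, E j) := by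
  classical
  let ρR : S →+* S ⊗[k] H :=
    { toFun := fun s => HopfRep.Comod.coact (k := k) (A := H) s
      map_one' := hone
      map_mul' := hmul
      map_zero' := map_zero _
      map_add' := map_add _ }
  let ιR : S →+* S ⊗[k] H := Algebra.TensorProduct.includeLeftRingHom
  let f₁ : (Π i, D i) →+* S ⊗[k] H := ρR.comp e.symm.toRingHom
  let f₂ : (Π i, D i) →+* S ⊗[k] H := ιR.comp e.symm.toRingHom
  let A' : Subring (Π i, D i) := A.toSubring.map e.toRingHom
  have hf₁ : ∀ a', f₁ a' = HopfRep.Comod.coact (k := k) (A := H) (e.symm a') := fun _ => rfl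
  have hf₂ : ∀ a', f₂ a' = (e.symm a') ⊗ₜ[k] (1 : H) := fun _ => rfl
  have hnzd : ∀ s ∈ nonZeroDivisors (Π i, D i), e.symm s ∈ nonZeroDivisors S := by
    intro s hs
    rw [mem_nonZeroDivisors_iff_right] at hs ⊢
    intro x hx
    have h1 : e x * s = 0 := by
      have h0 := congrArg e hx
      rwa [map_mul, e.apply_symm_apply, map_zero] at h0
    have h2 := hs _ h1
    exact (map_eq_zero_iff e e.injective).1 h2
  have hF : ∀ f ∈ ({f₁, f₂} : Set ((Π i, D i) →+* S ⊗[k] H)),
      ∀ s ∈ nonZeroDivisors (Π i, D i), f s ∈ nonZeroDivisors (S ⊗[k] H) := by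
    intro f hf s hs
    rcases hf with rfl | rfl
    · rw [hf₁]; exact coact_nzd hmul _ (hnzd s hs)
    · rw [hf₂]; exact tmul_one_nzd _ (hnzd s hs)
  have hA' : ∀ a', a' ∈ A' ↔ ∀ f ∈ ({f₁, f₂} : Set ((Π i, D i) →+* S ⊗[k] H)),
      ∀ f' ∈ ({f₁, f₂} : Set ((Π i, D i) →+* S ⊗[k] H)), f a' = f' a' := by
    intro a'
    constructor
    · rintro ⟨a, ha, rfl⟩
      have key : f₁ (e.toRingHom a) = f₂ (e.toRingHom a) := by
        rw [hf₁, hf₂]
        show HopfRep.Comod.coact (k := k) (A := H) (e.symm (e a)) = (e.symm (e a)) ⊗ₜ[k] (1 : H)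
        rw [e.symm_apply_apply]
        exact (hA a).1 ha
      intro f hf f' hf'
      rcases hf with rfl | rfl <;> rcases hf' with rfl | rfl
      · rfl
      · exact key
      · exact key.symm
      · rfl
    · intro h
      have h1 := h f₁ (Or.inl rfl) f₂ (Or.inr rfl)
      rw [hf₁, hf₂] at h1
      exact ⟨e.symm a', (hA _).2 h1, e.apply_symm_apply a'⟩
  obtain ⟨κ, i1, E, i2, i3, i4, ⟨φ⟩⟩ :=
    Groth.Agent.S11135.result D (S ⊗[k] H) ({f₁, f₂} : Set _) hF A' hA'
  refine ⟨κ, i1, E, i2, i3, i4, ⟨?_⟩⟩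
  let e0 : A ≃+* A.toSubring :=
    { toFun := fun a => ⟨a.1, a.2⟩
      invFun := fun a => ⟨a.1, a.2⟩
      left_inv := fun _ => rfl
      right_inv := fun _ => rfl
      map_mul' := fun _ _ => rfl
      map_add' := fun _ _ => rfl }
  exact (e0.trans (e.subringMap (s := A.toSubring))).trans φ

end Groth.Agent.S11141
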