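import Groth.Statements.S11142
import Mathlib
import Groth.Agent.H20.Constr

set_option autoImplicit false
universe u
open CategoryTheory AlgebraicGeometry
open FlatMor

namespace Groth.Agent.S11142

/-- For a flat morphism f : X → Y between locally Noetherian schemes, the preimage under f of any dense
open subset of Y is dense in X. -/
theorem result (X Y : Scheme.{u}) [IsLocallyNoetherian X]
    [IsLocallyNoetherian Y] (f : X ⟶ Y) [Flat f] (U : Y.Opens) (hU : Dense (U : Set Y)) :
    Dense ((f ⁻¹ᵁ U : X.Opens) : Set X) := by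
  rw [dense_iff_inter_open]
  intro V hV hVne
  obtain ⟨x, hxV⟩ := hVne
  -- affine open neighbourhood of f x in Y
  obtain ⟨W, hWaff, hxW, -⟩ := TopologicalSpace.Opens.isBasis_iff_nbhd.mp Y.isBasis_affineOpens
    (show f.base x ∈ (⊤ : Y.Opens) from trivial)
  haveI : IsNoetherianRing Γ(Y, W) := IsLocallyNoetherian.component_noetherian ⟨W, hWaff⟩
  haveI : TopologicalSpace.NoetherianSpace (W : Set Y) := noetherianSpace_of_isAffineOpen W hWaff
  haveI : QuasiSober (W : Set Y) := W.isOpenEmbedding'.quasiSober
  obtain ⟨y, hyU, hy⟩ := Groth.Agent.H20.exists_generization_mem_of_dense_open (W : Set Y) W.2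
    (U : Set Y) U.2 hU (f.base x) hxW
  obtain ⟨x', hx', hfx'⟩ := (Flat.generalizingMap f) hy
  exact ⟨x', hx'.mem_open hV hxV, by
    change f.base x' ∈ U
    rw [hfx']; exact hyU⟩

end Groth.Agent.S11142
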