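import Groth.Statements.S11147
import Mathlib
-- import your own Groth.Agent.* helpers here

set_option autoImplicit false
universe u
open FrobAlg

namespace Groth.Agent.S11147


open TensorProduct in
theorem aux (p : ℕ) [Fact p.Prime] (k K : Type u) [Field k]
    [Field K] [Algebra k K] [CharP k p] [CharP K p] (hfg : (⊤ : IntermediateField k K).FG) :
    Function.Bijective (FrobAlg.relFrob p k K) ↔ Algebra.IsSeparable k K := by
  have hrel : ∀ (b : K) (a : FrobAlg.Twist p k),
      FrobAlg.relFrob p k K (b ⊗ₜ[k] a) = b ^ p * algebraMap k K ((FrobAlg.toTwist p k).symm a) := by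
    intro b a
    rfl
  haveI : Algebra.EssFiniteType k K := IntermediateField.fg_top_iff.mp hfg
  constructor
  · rintro ⟨-, hsurj⟩
    have hD : ∀ w : FrobAlg.BaseChange p k K,
        KaehlerDifferential.D k K (FrobAlg.relFrob p k K w) = 0 := by
      intro w
      induction w using TensorProduct.induction_on with
      | zero => simp
      | tmul b a =>
        rw [hrel, Derivation.leibniz, Derivation.map_algebraMap, Derivation.leibniz_pow, smul_zero,
          zero_add, ← Nat.cast_smul_eq_nsmul K, CharP.cast_eq_zero K p, zero_smul, smul_zero]
      | add x y hx hy => rw [map_add, map_add, hx, hy, add_zero]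
    haveI : Subsingleton (Ω[K⁄k]) := by
      suffices (⊤ : Submodule K Ω[K⁄k]) ≤ ⊥ from
        (subsingleton_iff_forall_eq 0).mpr fun y ↦ this trivial
      rw [← KaehlerDifferential.span_range_derivation, Submodule.span_le]
      rintro _ ⟨x, rfl⟩
      obtain ⟨w, rfl⟩ := hsurj x
      simp [hD w]
    haveI : Algebra.FormallyUnramified k K := ⟨inferInstance⟩
    exact (Algebra.FormallyUnramified.iff_isSeparable k K).mp inferInstance
  · intro hsep
    haveI : ExpChar k p := ExpChar.prime Fact.out
    classical
    let b := Module.Basis.ofVectorSpace k K
    have hli : LinearIndependent k (fun i => (b i) ^ p) := by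
      simpa using LinearIndependent.map_pow_expChar_pow_of_isSeparable p 1 b.linearIndependent
    have hsp : Submodule.span k (Set.range (fun i => (b i) ^ p)) = ⊤ := by
      simpa using Field.span_map_pow_expChar_pow_eq_top_of_isSeparable p 1 b.span_eq
    constructor
    · rw [injective_iff_map_eq_zero]
      intro w hw
      obtain ⟨f, rfl⟩ :=
        (TensorProduct.equivFinsuppOfBasisLeft b (N := FrobAlg.Twist p k)).symm.surjective w
      rw [TensorProduct.equivFinsuppOfBasisLeft_symm_apply, Finsupp.sum, map_sum] at hw
      simp only [hrel] at hw
      have h0 := linearIndependent_iff'.mp hli f.support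
        (fun i => (FrobAlg.toTwist p k).symm (f i)) (by
          rw [← hw]
          refine Finset.sum_congr rfl fun i _ => ?_
          rw [Algebra.smul_def, mul_comm])
      have hf : f = 0 := by
        ext i
        by_cases hi : i ∈ f.support
        · have := h0 i hi
          simpa using this
        · simpa using hi
      rw [hf, map_zero]
    · intro y
      have hy : y ∈ Submodule.span k (Set.range (fun i => (b i) ^ p)) := by rw [hsp]; trivial
      induction hy using Submodule.span_induction with
      | mem x hx =>
        obtain ⟨i, rfl⟩ := hx
        exact ⟨b i ⊗ₜ 1, by rw [hrel]; simp⟩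
      | zero => exact ⟨0, map_zero _⟩
      | add x y _ _ hx hy =>
        obtain ⟨a, rfl⟩ := hx
        obtain ⟨c, rfl⟩ := hy
        exact ⟨a + c, map_add _ _ _⟩
      | smul c x _ hx =>
        obtain ⟨a, rfl⟩ := hx
        refine ⟨a * (1 ⊗ₜ FrobAlg.toTwist p k c), ?_⟩
        rw [map_mul, hrel, Algebra.smul_def]
        simp [mul_comm]

/-- Let p be a prime and k ⊆ K fields of characteristic p such that K is finitely generated over k as a
field. Then the relative Frobenius ring homomorphism K ⊗_{k,Frob} k → K, b ⊗ a ↦ b^p a (the
Radu–André homomorphism of k → K), is bijective exactly when K is algebraic over k and every element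
of K is separable over k. -/
theorem result (p : ℕ) [Fact p.Prime] (k K : Type u) [Field k]
    [Field K] [Algebra k K] [CharP k p] [CharP K p] (hfg : (⊤ : IntermediateField k K).FG) :
    Function.Bijective (FrobAlg.relFrob p k K) ↔ Algebra.IsSeparable k K := by
  exact aux p k K hfg

end Groth.Agent.S11147
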