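import Groth.Statements.S11150
import Mathlib
import Groth.Agent.S11149

set_option autoImplicit false
universe w w' v v' u u'
open CategoryTheory CategoryTheory.Limits
open CohDer

namespace Groth.Agent.S11150

section helpers
open CategoryTheory CategoryTheory.Limits Pretriangulated DerivedCategory

local notation "tA" =>
  (DerivedCategory.TStructure.t : CategoryTheory.Triangulated.TStructure (DerivedCategory _))

end helpers

/-- Fix abelian categories A and B, A' a class of objects of A closed under isomorphisms, F and G
triangulated functors from D(A) to D(B) which are both way-out right (given n₁ there is n₂ such that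
H^i(Y) = 0 for all i < n₂ implies H^i(F Y) = 0 for all i < n₁), and η : F ⟶ G a morphism of
triangulated functors. If η_X is an isomorphism for every object X of A' placed in degree 0, then
η_X is an isomorphism for every cohomologically bounded below object X of D(A) whose cohomology
objects all lie in A'. (Stated for functors defined on all of D(A).) -/
theorem result {A : Type u} [Category.{v} A] [Abelian A] [HasDerivedCategory.{w} A]
    {B : Type u'} [Category.{v'} B] [Abelian B] [HasDerivedCategory.{w'} B]
    (P : ObjectProperty A) [P.IsClosedUnderIsomorphisms]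
    (F G : DerivedCategory A ⥤ DerivedCategory B) [F.CommShift ℤ] [G.CommShift ℤ]
    [F.IsTriangulated] [G.IsTriangulated] (η : F ⟶ G) [NatTrans.CommShift η ℤ]
    (hF : ∀ n₁ : ℤ, ∃ n₂ : ℤ, ∀ Y : DerivedCategory A, Y.IsGE n₂ → (F.obj Y).IsGE n₁)
    (hG : ∀ n₁ : ℤ, ∃ n₂ : ℤ, ∀ Y : DerivedCategory A, Y.IsGE n₂ → (G.obj Y).IsGE n₁)
    (hη : ∀ X : A, P X → IsIso (η.app ((DerivedCategory.singleFunctor A 0).obj X)))
    (X : DerivedCategory A) (a : ℤ) [X.IsGE a]
    (hX : ∀ i : ℤ, P ((DerivedCategory.homologyFunctor A i).obj X)) :
    IsIso (η.app X) := by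
  have hP0 : ∀ Z : A, IsZero Z → P Z := fun Z hZ =>
    P.prop_of_iso ((DerivedCategory.isZero_of_isGE X a (a - 1) (by omega)).iso hZ) (hX (a - 1))
  rw [DerivedCategory.isIso_iff]
  intro n
  obtain ⟨n₂, hn₂⟩ := hF (n + 1)
  obtain ⟨n₂', hn₂'⟩ := hG (n + 1)
  obtain ⟨m, hm1, hm2⟩ : ∃ m, n₂ ≤ m ∧ n₂' ≤ m :=
    ⟨max n₂ n₂', le_max_left _ _, le_max_right _ _⟩
  have hT := (DerivedCategory.TStructure.t (C := A)).triangleLTGE_distinguished m X
  haveI hX₃F : (F.obj (((DerivedCategory.TStructure.t (C := A)).truncGE m).obj X)).IsGE (n + 1) :=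
    hn₂ _ ((DerivedCategory.TStructure.t (C := A)).isGE_of_ge _ n₂ m hm1)
  haveI hX₃G : (G.obj (((DerivedCategory.TStructure.t (C := A)).truncGE m).obj X)).IsGE (n + 1) :=
    hn₂' _ ((DerivedCategory.TStructure.t (C := A)).isGE_of_ge _ n₂' m hm2)
  haveI hisoF : IsIso ((DerivedCategory.homologyFunctor B n).map
      (F.map (((DerivedCategory.TStructure.t (C := A)).truncLTι m).app X))) :=
    Groth.Agent.S11149.isIso_homology_mor₁ (F.mapTriangle.obj _) (F.map_distinguished _ hT) n
      (n - 1) (by omega)
      (DerivedCategory.isZero_of_isGE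
        (F.obj (((DerivedCategory.TStructure.t (C := A)).truncGE m).obj X)) (n + 1) n (by omega))
      (DerivedCategory.isZero_of_isGE
        (F.obj (((DerivedCategory.TStructure.t (C := A)).truncGE m).obj X)) (n + 1) (n - 1)
        (by omega))
  haveI hisoG : IsIso ((DerivedCategory.homologyFunctor B n).map
      (G.map (((DerivedCategory.TStructure.t (C := A)).truncLTι m).app X))) :=
    Groth.Agent.S11149.isIso_homology_mor₁ (G.mapTriangle.obj _) (G.map_distinguished _ hT) n
      (n - 1) (by omega)
      (DerivedCategory.isZero_of_isGE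
        (G.obj (((DerivedCategory.TStructure.t (C := A)).truncGE m).obj X)) (n + 1) n (by omega))
      (DerivedCategory.isZero_of_isGE
        (G.obj (((DerivedCategory.TStructure.t (C := A)).truncGE m).obj X)) (n + 1) (n - 1)
        (by omega))
  haveI h₁ : IsIso (η.app (((DerivedCategory.TStructure.t (C := A)).truncLT m).obj X)) :=
    Groth.Agent.S11149.main_bounded P F G η hη hP0 (m - 1 - a + 1).toNat
      (((DerivedCategory.TStructure.t (C := A)).truncLT m).obj X) a (m - 1) (by omega)
      inferInstance inferInstance (Groth.Agent.S11149.truncLT_prop P hP0 X m hX)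
  have hnat : (DerivedCategory.homologyFunctor B n).map
        (F.map (((DerivedCategory.TStructure.t (C := A)).truncLTι m).app X)) ≫
      (DerivedCategory.homologyFunctor B n).map (η.app X) =
      (DerivedCategory.homologyFunctor B n).map
        (η.app (((DerivedCategory.TStructure.t (C := A)).truncLT m).obj X)) ≫
      (DerivedCategory.homologyFunctor B n).map
        (G.map (((DerivedCategory.TStructure.t (C := A)).truncLTι m).app X)) := by
    rw [← Functor.map_comp, ← Functor.map_comp]
    congr 1
    exact η.naturality _
  have hfin : (DerivedCategory.homologyFunctor B n).map (η.app X) =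
      inv ((DerivedCategory.homologyFunctor B n).map
        (F.map (((DerivedCategory.TStructure.t (C := A)).truncLTι m).app X))) ≫
      (DerivedCategory.homologyFunctor B n).map
        (η.app (((DerivedCategory.TStructure.t (C := A)).truncLT m).obj X)) ≫
      (DerivedCategory.homologyFunctor B n).map
        (G.map (((DerivedCategory.TStructure.t (C := A)).truncLTι m).app X)) := by
    rw [← hnat, IsIso.inv_hom_id_assoc]
  rw [hfin]
  infer_instance

end Groth.Agent.S11150
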