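import Groth.Statements.S11151
import Mathlib

set_option autoImplicit false
universe w w' v v' u u'
open CategoryTheory CategoryTheory.Limits
open CohDer

namespace Groth.Agent.S11151

section helpers

open DerivedCategory Pretriangulated

variable {A : Type u} [Category.{v} A] [Abelian A] [HasDerivedCategory.{w} A]
    {B : Type u'} [Category.{v'} B] [Abelian B] [HasDerivedCategory.{w'} B]

lemma isIso_homologyMap_mor₁ (T : Triangle (DerivedCategory A)) (hT : T ∈ distTriang _) (n : ℤ)
    (h₀ : IsZero ((homologyFunctor A (n - 1)).obj T.obj₃))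
    (h₁ : IsZero ((homologyFunctor A n).obj T.obj₃)) :
    IsIso ((homologyFunctor A n).map T.mor₁) := by
  have : Mono ((homologyFunctor A n).map T.mor₁) :=
    (HomologySequence.mono_homologyMap_mor₁_iff T hT (n - 1) n (by lia)).2 (h₀.eq_of_src _ _)
  have : Epi ((homologyFunctor A n).map T.mor₁) :=
    (HomologySequence.epi_homologyMap_mor₁_iff T hT n).2 (h₁.eq_of_tgt _ _)
  exact isIso_of_mono_of_epi _

lemma isIso_homologyMap_mor₂ (T : Triangle (DerivedCategory A)) (hT : T ∈ distTriang _) (n : ℤ)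
    (h₀ : IsZero ((homologyFunctor A n).obj T.obj₁))
    (h₁ : IsZero ((homologyFunctor A (n + 1)).obj T.obj₁)) :
    IsIso ((homologyFunctor A n).map T.mor₂) := by
  have : Mono ((homologyFunctor A n).map T.mor₂) :=
    (HomologySequence.mono_homologyMap_mor₂_iff T hT n).2 (h₀.eq_of_src _ _)
  have : Epi ((homologyFunctor A n).map T.mor₂) :=
    (HomologySequence.epi_homologyMap_mor₂_iff T hT n (n + 1) rfl).2 (h₁.eq_of_tgt _ _)
  exact isIso_of_mono_of_epi _

lemma P_truncLT (P : ObjectProperty A) [P.IsClosedUnderIsomorphisms]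
    (hP : ∀ Z : A, IsZero Z → P Z)
    (Y : DerivedCategory A) (b : ℤ) (hY : ∀ i, P ((homologyFunctor A i).obj Y)) (i : ℤ) :
    P ((homologyFunctor A i).obj ((DerivedCategory.TStructure.t.truncLT b).obj Y)) := by
  by_cases hi : i < b
  · have : IsIso ((homologyFunctor A i).map ((DerivedCategory.TStructure.t.truncLTι b).app Y)) :=
      isIso_homologyMap_mor₁ ((DerivedCategory.TStructure.t.triangleLTGE b).obj Y)
        (DerivedCategory.TStructure.t.triangleLTGE_distinguished b Y) i
        (isZero_of_isGE ((DerivedCategory.TStructure.t.truncGE b).obj Y) b (i - 1) (by lia))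
        (isZero_of_isGE ((DerivedCategory.TStructure.t.truncGE b).obj Y) b i hi)
    exact P.prop_of_iso
      (asIso ((homologyFunctor A i).map ((DerivedCategory.TStructure.t.truncLTι b).app Y))).symm
      (hY i)
  · exact hP _ (isZero_of_isLE ((DerivedCategory.TStructure.t.truncLT b).obj Y) (b - 1) i (by lia))

lemma P_truncGE (P : ObjectProperty A) [P.IsClosedUnderIsomorphisms]
    (hP : ∀ Z : A, IsZero Z → P Z)
    (Y : DerivedCategory A) (a : ℤ) (hY : ∀ i, P ((homologyFunctor A i).obj Y)) (i : ℤ) :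
    P ((homologyFunctor A i).obj ((DerivedCategory.TStructure.t.truncGE a).obj Y)) := by
  by_cases hi : a ≤ i
  · have : IsIso ((homologyFunctor A i).map ((DerivedCategory.TStructure.t.truncGEπ a).app Y)) :=
      isIso_homologyMap_mor₂ ((DerivedCategory.TStructure.t.triangleLTGE a).obj Y)
        (DerivedCategory.TStructure.t.triangleLTGE_distinguished a Y) i
        (isZero_of_isLE ((DerivedCategory.TStructure.t.truncLT a).obj Y) (a - 1) i (by lia))
        (isZero_of_isLE ((DerivedCategory.TStructure.t.truncLT a).obj Y) (a - 1) (i + 1) (by lia))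
    exact P.prop_of_iso
      (asIso ((homologyFunctor A i).map ((DerivedCategory.TStructure.t.truncGEπ a).app Y)))
      (hY i)
  · exact hP _ (isZero_of_isGE ((DerivedCategory.TStructure.t.truncGE a).obj Y) a i (by lia))

variable {F G : DerivedCategory A ⥤ DerivedCategory B} (η : F ⟶ G)

lemma isIso_app_of_iso {X Y : DerivedCategory A} (e : X ≅ Y) (h : IsIso (η.app Y)) :
    IsIso (η.app X) := by
  have h' : η.app X = F.map e.hom ≫ η.app Y ≫ G.map e.inv := by
    rw [η.naturality_assoc, ← CategoryTheory.Functor.map_comp, e.hom_inv_id,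
      CategoryTheory.Functor.map_id, Category.comp_id]
  rw [h']; infer_instance

lemma isIso_app_shift [F.CommShift ℤ] [G.CommShift ℤ] [NatTrans.CommShift η ℤ]
    (X : DerivedCategory A) (n : ℤ) (h : IsIso (η.app X)) : IsIso (η.app (X⟦n⟧)) := by
  rw [NatTrans.app_shift η n X]; infer_instance

lemma isIso_app_of_isZero [F.PreservesZeroMorphisms] [G.PreservesZeroMorphisms]
    (X : DerivedCategory A) (hX : IsZero X) : IsIso (η.app X) := by
  have hF : IsZero (F.obj X) := F.map_isZero hX
  have hG : IsZero (G.obj X) := G.map_isZero hX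
  exact ⟨0, hF.eq_of_src _ _, hG.eq_of_src _ _⟩

variable [F.CommShift ℤ] [G.CommShift ℤ] [F.IsTriangulated] [G.IsTriangulated]
  [NatTrans.CommShift η ℤ]

lemma isIso_app_of_triangle (T : Triangle (DerivedCategory A)) (hT : T ∈ distTriang _)
    (h₁ : IsIso (η.app T.obj₁)) (h₃ : IsIso (η.app T.obj₃)) : IsIso (η.app T.obj₂) := by
  have c₁ : F.map T.mor₁ ≫ η.app T.obj₂ = η.app T.obj₁ ≫ G.map T.mor₁ := η.naturality _
  have c₂ : F.map T.mor₂ ≫ η.app T.obj₃ = η.app T.obj₂ ≫ G.map T.mor₂ := η.naturality _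
  have c₃ : (F.map T.mor₃ ≫ (F.commShiftIso (1 : ℤ)).hom.app T.obj₁) ≫
      (η.app T.obj₁)⟦(1 : ℤ)⟧' =
      η.app T.obj₃ ≫ G.map T.mor₃ ≫ (G.commShiftIso (1 : ℤ)).hom.app T.obj₁ := by
    rw [Category.assoc, NatTrans.shift_app_comm η 1 T.obj₁, η.naturality_assoc]
  exact isIso₂_of_isIso₁₃ (Triangle.homMk (F.mapTriangle.obj T) (G.mapTriangle.obj T)
    (η.app T.obj₁) (η.app T.obj₂) (η.app T.obj₃) c₁ c₂ c₃)
    (F.map_distinguished _ hT) (G.map_distinguished _ hT) h₁ h₃

lemma isIso_app_of_single (P : ObjectProperty A) [P.IsClosedUnderIsomorphisms]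
    (hη : ∀ X : A, P X → IsIso (η.app ((DerivedCategory.singleFunctor A 0).obj X)))
    (Y : DerivedCategory A) (b : ℤ) [Y.IsGE b] [Y.IsLE b]
    (hY : P ((homologyFunctor A b).obj Y)) : IsIso (η.app Y) := by
  obtain ⟨M, ⟨e⟩⟩ := exists_iso_singleFunctor_obj_of_isGE_of_isLE Y b
  have hM : P M := P.prop_of_iso
    ((homologyFunctor A b).mapIso e ≪≫ (singleFunctorCompHomologyFunctorIso A b).app M) hY
  have h1 := hη M hM
  have h2 := isIso_app_shift η _ (-b) h1
  exact isIso_app_of_iso η
    (e ≪≫ (((singleFunctors A).shiftIso (-b) b 0 (by lia)).app M).symm) h2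

lemma isIso_app_of_bounded (P : ObjectProperty A) [P.IsClosedUnderIsomorphisms]
    (hP : ∀ Z : A, IsZero Z → P Z)
    (hη : ∀ X : A, P X → IsIso (η.app ((DerivedCategory.singleFunctor A 0).obj X)))
    (k : ℕ) : ∀ (a b : ℤ) (Y : DerivedCategory A) [Y.IsGE a] [Y.IsLE b], b - a < k →
      (∀ i, P ((homologyFunctor A i).obj Y)) → IsIso (η.app Y) := by
  induction k with
  | zero =>
    intro a b Y _ _ hab _
    exact isIso_app_of_isZero η Y (DerivedCategory.TStructure.t.isZero Y b a (by lia))
  | succ k ih =>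
    intro a b Y _ _ hab hY
    have h₃ : IsIso (η.app ((DerivedCategory.TStructure.t.truncGE b).obj Y)) :=
      isIso_app_of_single η P hη _ b (P_truncGE P hP Y b hY b)
    have h₁ : IsIso (η.app ((DerivedCategory.TStructure.t.truncLT b).obj Y)) :=
      ih a (b - 1) _ (by push_cast at hab; lia) (P_truncLT P hP Y b hY)
    exact isIso_app_of_triangle η ((DerivedCategory.TStructure.t.triangleLTGE b).obj Y)
      (DerivedCategory.TStructure.t.triangleLTGE_distinguished b Y) h₁ h₃

lemma R1 (T : Triangle (DerivedCategory A)) (hT : T ∈ distTriang _) (n : ℤ)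
    (hF₀ : IsZero ((homologyFunctor B (n - 1)).obj (F.obj T.obj₃)))
    (hF₁ : IsZero ((homologyFunctor B n).obj (F.obj T.obj₃)))
    (hG₀ : IsZero ((homologyFunctor B (n - 1)).obj (G.obj T.obj₃)))
    (hG₁ : IsZero ((homologyFunctor B n).obj (G.obj T.obj₃)))
    (h : IsIso ((homologyFunctor B n).map (η.app T.obj₁))) :
    IsIso ((homologyFunctor B n).map (η.app T.obj₂)) := by
  have iF : IsIso ((homologyFunctor B n).map (F.map T.mor₁)) :=
    isIso_homologyMap_mor₁ (F.mapTriangle.obj T) (F.map_distinguished _ hT) n hF₀ hF₁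
  have iG : IsIso ((homologyFunctor B n).map (G.map T.mor₁)) :=
    isIso_homologyMap_mor₁ (G.mapTriangle.obj T) (G.map_distinguished _ hT) n hG₀ hG₁
  have sq : (homologyFunctor B n).map (F.map T.mor₁) ≫ (homologyFunctor B n).map (η.app T.obj₂) =
      (homologyFunctor B n).map (η.app T.obj₁) ≫ (homologyFunctor B n).map (G.map T.mor₁) := by
    rw [← CategoryTheory.Functor.map_comp, ← CategoryTheory.Functor.map_comp, η.naturality]
  have e : (homologyFunctor B n).map (η.app T.obj₂) =
      inv ((homologyFunctor B n).map (F.map T.mor₁)) ≫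
        (homologyFunctor B n).map (η.app T.obj₁) ≫ (homologyFunctor B n).map (G.map T.mor₁) := by
    rw [← sq, IsIso.inv_hom_id_assoc]
  rw [e]; infer_instance

lemma R2 (T : Triangle (DerivedCategory A)) (hT : T ∈ distTriang _) (n : ℤ)
    (hF₀ : IsZero ((homologyFunctor B n).obj (F.obj T.obj₁)))
    (hF₁ : IsZero ((homologyFunctor B (n + 1)).obj (F.obj T.obj₁)))
    (hG₀ : IsZero ((homologyFunctor B n).obj (G.obj T.obj₁)))
    (hG₁ : IsZero ((homologyFunctor B (n + 1)).obj (G.obj T.obj₁)))
    (h : IsIso ((homologyFunctor B n).map (η.app T.obj₃))) :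
    IsIso ((homologyFunctor B n).map (η.app T.obj₂)) := by
  have iF : IsIso ((homologyFunctor B n).map (F.map T.mor₂)) :=
    isIso_homologyMap_mor₂ (F.mapTriangle.obj T) (F.map_distinguished _ hT) n hF₀ hF₁
  have iG : IsIso ((homologyFunctor B n).map (G.map T.mor₂)) :=
    isIso_homologyMap_mor₂ (G.mapTriangle.obj T) (G.map_distinguished _ hT) n hG₀ hG₁
  have sq : (homologyFunctor B n).map (F.map T.mor₂) ≫ (homologyFunctor B n).map (η.app T.obj₃) =
      (homologyFunctor B n).map (η.app T.obj₂) ≫ (homologyFunctor B n).map (G.map T.mor₂) := by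
    rw [← CategoryTheory.Functor.map_comp, ← CategoryTheory.Functor.map_comp, η.naturality]
  have e : (homologyFunctor B n).map (η.app T.obj₂) =
      ((homologyFunctor B n).map (F.map T.mor₂) ≫ (homologyFunctor B n).map (η.app T.obj₃)) ≫
        inv ((homologyFunctor B n).map (G.map T.mor₂)) := by
    rw [sq, Category.assoc, IsIso.hom_inv_id, Category.comp_id]
  rw [e]; infer_instance

end helpers


/-- Fix abelian categories A and B, A' a class of objects of A closed under isomorphisms and containing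
the zero objects, F and G triangulated functors from D(A) to D(B) which are way-out in both
directions (way-out right: given n₁ there is n₂ such that H^i(Y) = 0 for i < n₂ implies H^i(F Y) = 0
for i < n₁; way-out left: the same with the inequalities reversed), and η : F ⟶ G a morphism of
triangulated functors. If η_X is an isomorphism for every object X of A' placed in degree 0, then
η_X is an isomorphism for every object X of D(A) whose cohomology objects all lie in A'. (Stated for
functors defined on all of D(A).) -/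
theorem result {A : Type u} [Category.{v} A] [Abelian A] [HasDerivedCategory.{w} A]
    {B : Type u'} [Category.{v'} B] [Abelian B] [HasDerivedCategory.{w'} B]
    (P : ObjectProperty A) [P.IsClosedUnderIsomorphisms] (hP : ∀ Z : A, IsZero Z → P Z)
    (F G : DerivedCategory A ⥤ DerivedCategory B) [F.CommShift ℤ] [G.CommShift ℤ]
    [F.IsTriangulated] [G.IsTriangulated] (η : F ⟶ G) [NatTrans.CommShift η ℤ]
    (hF : ∀ n₁ : ℤ, ∃ n₂ : ℤ, ∀ Y : DerivedCategory A, Y.IsGE n₂ → (F.obj Y).IsGE n₁)
    (hF' : ∀ n₁ : ℤ, ∃ n₂ : ℤ, ∀ Y : DerivedCategory A, Y.IsLE n₂ → (F.obj Y).IsLE n₁)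
    (hG : ∀ n₁ : ℤ, ∃ n₂ : ℤ, ∀ Y : DerivedCategory A, Y.IsGE n₂ → (G.obj Y).IsGE n₁)
    (hG' : ∀ n₁ : ℤ, ∃ n₂ : ℤ, ∀ Y : DerivedCategory A, Y.IsLE n₂ → (G.obj Y).IsLE n₁)
    (hη : ∀ X : A, P X → IsIso (η.app ((DerivedCategory.singleFunctor A 0).obj X)))
    (X : DerivedCategory A)
    (hX : ∀ i : ℤ, P ((DerivedCategory.homologyFunctor A i).obj X)) :
    IsIso (η.app X) := by
  rw [DerivedCategory.isIso_iff]
  intro n
  obtain ⟨bF, hbF⟩ := hF (n + 1)
  obtain ⟨bG, hbG⟩ := hG (n + 1)
  obtain ⟨aF, haF⟩ := hF' (n - 1)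
  obtain ⟨aG, haG⟩ := hG' (n - 1)
  obtain ⟨b, hb⟩ : ∃ b : ℤ, b = max bF bG := ⟨_, rfl⟩
  obtain ⟨a, ha⟩ : ∃ a : ℤ, a = min aF aG + 1 := ⟨_, rfl⟩
  have hbF' : bF ≤ b := hb ▸ le_max_left _ _
  have hbG' : bG ≤ b := hb ▸ le_max_right _ _
  have haF' : a - 1 ≤ aF := by rw [ha]; have := min_le_left aF aG; lia
  have haG' : a - 1 ≤ aG := by rw [ha]; have := min_le_right aF aG; lia
  -- the objects
  obtain ⟨X', hX'⟩ : ∃ X' : DerivedCategory A,
    X' = (DerivedCategory.TStructure.t.truncLT b).obj X := ⟨_, rfl⟩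
  have hX'P : ∀ i, P ((DerivedCategory.homologyFunctor A i).obj X') := by
    rw [hX']; exact P_truncLT P hP X b hX
  have hX'LE : X'.IsLE (b - 1) := by rw [hX']; infer_instance
  have hX''P := P_truncGE P hP X' a hX'P
  have iso'' : IsIso (η.app ((DerivedCategory.TStructure.t.truncGE a).obj X')) :=
    isIso_app_of_bounded η P hP hη ((b - 1 - a).toNat + 1) a (b - 1) _
      (by push_cast; have := Int.self_le_toNat (b - 1 - a); lia) hX''P
  -- step R2
  have i1 : (F.obj ((DerivedCategory.TStructure.t.truncLT a).obj X')).IsLE (n - 1) :=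
    haF _ (DerivedCategory.TStructure.t.isLE_of_le _ (a - 1) aF haF')
  have i2 : (G.obj ((DerivedCategory.TStructure.t.truncLT a).obj X')).IsLE (n - 1) :=
    haG _ (DerivedCategory.TStructure.t.isLE_of_le _ (a - 1) aG haG')
  have iso' : IsIso ((DerivedCategory.homologyFunctor B n).map (η.app X')) :=
    R2 η ((DerivedCategory.TStructure.t.triangleLTGE a).obj X')
      (DerivedCategory.TStructure.t.triangleLTGE_distinguished a X') n
      (DerivedCategory.isZero_of_isLE
        (F.obj ((DerivedCategory.TStructure.t.truncLT a).obj X')) (n - 1) n (by lia))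
      (DerivedCategory.isZero_of_isLE
        (F.obj ((DerivedCategory.TStructure.t.truncLT a).obj X')) (n - 1) (n + 1) (by lia))
      (DerivedCategory.isZero_of_isLE
        (G.obj ((DerivedCategory.TStructure.t.truncLT a).obj X')) (n - 1) n (by lia))
      (DerivedCategory.isZero_of_isLE
        (G.obj ((DerivedCategory.TStructure.t.truncLT a).obj X')) (n - 1) (n + 1) (by lia))
      (by
        show IsIso ((DerivedCategory.homologyFunctor B n).map
          (η.app ((DerivedCategory.TStructure.t.truncGE a).obj X')))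
        infer_instance)
  -- step R1
  have j1 : (F.obj ((DerivedCategory.TStructure.t.truncGE b).obj X)).IsGE (n + 1) :=
    hbF _ (DerivedCategory.TStructure.t.isGE_of_ge _ bF b hbF')
  have j2 : (G.obj ((DerivedCategory.TStructure.t.truncGE b).obj X)).IsGE (n + 1) :=
    hbG _ (DerivedCategory.TStructure.t.isGE_of_ge _ bG b hbG')
  exact R1 η ((DerivedCategory.TStructure.t.triangleLTGE b).obj X)
      (DerivedCategory.TStructure.t.triangleLTGE_distinguished b X) n
      (DerivedCategory.isZero_of_isGE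
        (F.obj ((DerivedCategory.TStructure.t.truncGE b).obj X)) (n + 1) (n - 1) (by lia))
      (DerivedCategory.isZero_of_isGE
        (F.obj ((DerivedCategory.TStructure.t.truncGE b).obj X)) (n + 1) n (by lia))
      (DerivedCategory.isZero_of_isGE
        (G.obj ((DerivedCategory.TStructure.t.truncGE b).obj X)) (n + 1) (n - 1) (by lia))
      (DerivedCategory.isZero_of_isGE
        (G.obj ((DerivedCategory.TStructure.t.truncGE b).obj X)) (n + 1) n (by lia))
      (by rw [hX'] at iso'; exact iso')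

end Groth.Agent.S11151
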