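import Groth.Statements.S11152
import Mathlib.Algebra.Homology.DerivedCategory.SingleTriangle

set_option autoImplicit false
universe w w' v v' u u'
open CategoryTheory CategoryTheory.Limits
open CohDer

namespace Groth.Agent.S11152

section Four
universe v₁ u₁
variable {C : Type u₁} [Category.{v₁} C] [Abelian C]

lemma four_mono {A₁ A₂ A₃ A₄ B₁ B₂ B₃ B₄ : C}
    (f : A₁ ⟶ A₂) (g : A₂ ⟶ A₃) (h : A₃ ⟶ A₄)
    (f' : B₁ ⟶ B₂) (g' : B₂ ⟶ B₃) (h' : B₃ ⟶ B₄)
    (α₁ : A₁ ⟶ B₁) (α₂ : A₂ ⟶ B₂) (α₃ : A₃ ⟶ B₃) (α₄ : A₄ ⟶ B₄)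
    (c₁ : f ≫ α₂ = α₁ ≫ f') (c₂ : g ≫ α₃ = α₂ ≫ g') (c₃ : h ≫ α₄ = α₃ ≫ h')
    (wfg : f ≫ g = 0) (wgh : g ≫ h = 0) (egh : (ShortComplex.mk g h wgh).Exact)
    (wfg' : f' ≫ g' = 0) (efg' : (ShortComplex.mk f' g' wfg').Exact)
    (h₁ : Epi α₁) (h₂ : Mono α₂) (h₄ : Mono α₄) : Mono α₃ := by
  apply Preadditive.mono_of_cancel_zero
  intro T x hx
  have hxh : x ≫ h = 0 := by
    rw [← cancel_mono α₄, Category.assoc, c₃, reassoc_of% hx, zero_comp, zero_comp]
  obtain ⟨T₁, π₁, hπ₁, y, hy⟩ := egh.exact_up_to_refinements x hxh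
  dsimp at y hy
  have hy' : (y ≫ α₂) ≫ g' = 0 := by
    rw [Category.assoc, ← c₂, ← reassoc_of% hy, hx, comp_zero]
  obtain ⟨T₂, π₂, hπ₂, z, hz⟩ := efg'.exact_up_to_refinements (y ≫ α₂) hy'
  dsimp at z hz
  obtain ⟨T₃, π₃, hπ₃, w, hw⟩ := surjective_up_to_refinements_of_epi α₁ z
  have hwf : w ≫ f = π₃ ≫ π₂ ≫ y := by
    rw [← cancel_mono α₂, Category.assoc, c₁, ← reassoc_of% hw, ← hz]
    simp only [Category.assoc]
  have key : (π₃ ≫ π₂ ≫ π₁) ≫ x = 0 := by
    calc (π₃ ≫ π₂ ≫ π₁) ≫ x = (π₃ ≫ π₂ ≫ y) ≫ g := by simp only [Category.assoc, hy]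
      _ = (w ≫ f) ≫ g := by rw [hwf]
      _ = 0 := by rw [Category.assoc, wfg, comp_zero]
  haveI : Epi (π₂ ≫ π₁) := epi_comp _ _
  haveI : Epi (π₃ ≫ π₂ ≫ π₁) := epi_comp _ _
  exact (cancel_epi (π₃ ≫ π₂ ≫ π₁)).1 (key.trans comp_zero.symm)

lemma four_epi {A₁ A₂ A₃ A₄ B₁ B₂ B₃ B₄ : C}
    (f : A₁ ⟶ A₂) (g : A₂ ⟶ A₃) (h : A₃ ⟶ A₄)
    (f' : B₁ ⟶ B₂) (g' : B₂ ⟶ B₃) (h' : B₃ ⟶ B₄)
    (α₁ : A₁ ⟶ B₁) (α₂ : A₂ ⟶ B₂) (α₃ : A₃ ⟶ B₃) (α₄ : A₄ ⟶ B₄)
    (c₁ : f ≫ α₂ = α₁ ≫ f') (c₂ : g ≫ α₃ = α₂ ≫ g') (c₃ : h ≫ α₄ = α₃ ≫ h')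
    (wgh : g ≫ h = 0) (egh : (ShortComplex.mk g h wgh).Exact)
    (wfg' : f' ≫ g' = 0) (efg' : (ShortComplex.mk f' g' wfg').Exact)
    (wgh' : g' ≫ h' = 0)
    (h₁ : Epi α₁) (h₃ : Epi α₃) (h₄ : Mono α₄) : Epi α₂ := by
  rw [epi_iff_surjective_up_to_refinements]
  intro T y
  obtain ⟨T₁, π₁, hπ₁, x₃, hx₃⟩ := surjective_up_to_refinements_of_epi α₃ (y ≫ g')
  have hx₃h : x₃ ≫ h = 0 := by
    rw [← cancel_mono α₄, Category.assoc, c₃, ← reassoc_of% hx₃, wgh', comp_zero,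
      comp_zero, zero_comp]
  obtain ⟨T₂, π₂, hπ₂, x₂, hx₂⟩ := egh.exact_up_to_refinements x₃ hx₃h
  dsimp at x₂ hx₂
  have hd : (π₂ ≫ π₁ ≫ y - x₂ ≫ α₂) ≫ g' = 0 := by
    rw [Preadditive.sub_comp, Category.assoc, Category.assoc, Category.assoc, ← c₂,
      ← reassoc_of% hx₂, hx₃, sub_self]
  obtain ⟨T₃, π₃, hπ₃, z, hz⟩ := efg'.exact_up_to_refinements _ hd
  dsimp at z hz
  obtain ⟨T₄, π₄, hπ₄, w, hw⟩ := surjective_up_to_refinements_of_epi α₁ z
  haveI : Epi (π₂ ≫ π₁) := epi_comp _ _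
  haveI : Epi (π₃ ≫ π₂ ≫ π₁) := epi_comp _ _
  haveI : Epi (π₄ ≫ π₃ ≫ π₂ ≫ π₁) := epi_comp _ _
  refine ⟨T₄, π₄ ≫ π₃ ≫ π₂ ≫ π₁, inferInstance, π₄ ≫ π₃ ≫ x₂ + w ≫ f, ?_⟩
  have e1 : π₄ ≫ π₃ ≫ (π₂ ≫ π₁ ≫ y - x₂ ≫ α₂) = w ≫ f ≫ α₂ := by
    rw [hz, reassoc_of% hw, c₁]
  rw [Preadditive.comp_sub, Preadditive.comp_sub, sub_eq_iff_eq_add] at e1
  simp only [Category.assoc, Preadditive.add_comp]
  rw [e1, add_comm]

end Four

section Gen
open Pretriangulated
universe v₁ u₁ v₂ u₂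
variable {D : Type u₁} [Category.{v₁} D] [HasZeroObject D] [HasShift D ℤ] [Preadditive D]
  [∀ n : ℤ, (shiftFunctor D n).Additive] [Pretriangulated D]
  {B : Type u₂} [Category.{v₂} B] [Abelian B]
  (Φ Ψ : D ⥤ B) [Φ.IsHomological] [Ψ.IsHomological] (τ : Φ ⟶ Ψ)

lemma mono_step (T : Triangle D) (hT : T ∈ distTriang D)
    (h₁ : Epi (τ.app T.obj₁)) (h₂ : Mono (τ.app T.obj₂))
    (h₄ : Mono (τ.app (T.obj₁⟦(1 : ℤ)⟧))) :
    Mono (τ.app T.obj₃) :=
  four_mono (Φ.map T.mor₁) (Φ.map T.mor₂) (Φ.map T.mor₃)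
    (Ψ.map T.mor₁) (Ψ.map T.mor₂) (Ψ.map T.mor₃)
    (τ.app _) (τ.app _) (τ.app _) (τ.app _)
    (τ.naturality _) (τ.naturality _) (τ.naturality _)
    (by rw [← Φ.map_comp, comp_distTriang_mor_zero₁₂ T hT, Φ.map_zero])
    (by rw [← Φ.map_comp, comp_distTriang_mor_zero₂₃ T hT, Φ.map_zero])
    (Φ.map_distinguished_exact T.rotate (rot_of_distTriang T hT))
    (by rw [← Ψ.map_comp, comp_distTriang_mor_zero₁₂ T hT, Ψ.map_zero])
    (Ψ.map_distinguished_exact T hT) h₁ h₂ h₄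

lemma epi_step (T : Triangle D) (hT : T ∈ distTriang D)
    (h₁ : Epi (τ.app T.obj₁)) (h₃ : Epi (τ.app T.obj₃))
    (h₄ : Mono (τ.app (T.obj₁⟦(1 : ℤ)⟧))) :
    Epi (τ.app T.obj₂) :=
  four_epi (Φ.map T.mor₁) (Φ.map T.mor₂) (Φ.map T.mor₃)
    (Ψ.map T.mor₁) (Ψ.map T.mor₂) (Ψ.map T.mor₃)
    (τ.app _) (τ.app _) (τ.app _) (τ.app _)
    (τ.naturality _) (τ.naturality _) (τ.naturality _)
    (by rw [← Φ.map_comp, comp_distTriang_mor_zero₂₃ T hT, Φ.map_zero])
    (Φ.map_distinguished_exact T.rotate (rot_of_distTriang T hT))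
    (by rw [← Ψ.map_comp, comp_distTriang_mor_zero₁₂ T hT, Ψ.map_zero])
    (Ψ.map_distinguished_exact T hT)
    (by rw [← Ψ.map_comp, comp_distTriang_mor_zero₂₃ T hT, Ψ.map_zero]) h₁ h₃ h₄

end Gen

section Shift
universe v₁ u₁ v₂ u₂
variable {D : Type u₁} [Category.{v₁} D] [HasShift D ℤ]
  {E : Type u₂} [Category.{v₂} E] [HasShift E ℤ]
  {F G : D ⥤ E} [F.CommShift ℤ] [G.CommShift ℤ] (η : F ⟶ G) [NatTrans.CommShift η ℤ]

lemma isIso_app_shift (Y : D) (a : ℤ) (h : IsIso (η.app Y)) : IsIso (η.app (Y⟦a⟧)) := by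
  rw [NatTrans.app_shift]
  infer_instance

end Shift

/-- Fix abelian categories A and B, P a class of objects of A such that every object of A admits a
monomorphism into an object of P, F and G triangulated functors from D(A) to D(B) which are both
way-out right (given n₁ there is n₂ such that H^i(Y) = 0 for i < n₂ implies H^i(F Y) = 0 for i <
n₁), and η : F ⟶ G a morphism of triangulated functors. If η_X is an isomorphism for every object X
of P placed in degree 0, then η_X is an isomorphism for every object X of A placed in degree 0.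
(Stated for functors defined on all of D(A) and the thick subcategory taken to be all of A.) -/
theorem result {A : Type u} [Category.{v} A] [Abelian A] [HasDerivedCategory.{w} A]
    {B : Type u'} [Category.{v'} B] [Abelian B] [HasDerivedCategory.{w'} B]
    (P : ObjectProperty A) (hP : ∀ X : A, ∃ (Y : A) (i : X ⟶ Y), P Y ∧ Mono i)
    (F G : DerivedCategory A ⥤ DerivedCategory B) [F.CommShift ℤ] [G.CommShift ℤ]
    [F.IsTriangulated] [G.IsTriangulated] (η : F ⟶ G) [NatTrans.CommShift η ℤ]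
    (hF : ∀ n₁ : ℤ, ∃ n₂ : ℤ, ∀ Y : DerivedCategory A, Y.IsGE n₂ → (F.obj Y).IsGE n₁)
    (hG : ∀ n₁ : ℤ, ∃ n₂ : ℤ, ∀ Y : DerivedCategory A, Y.IsGE n₂ → (G.obj Y).IsGE n₁)
    (hη : ∀ X : A, P X → IsIso (η.app ((DerivedCategory.singleFunctor A 0).obj X)))
    (X : A) :
    IsIso (η.app ((DerivedCategory.singleFunctor A 0).obj X)) := by
  classical
  -- the homological functors and the induced natural transformation
  let τ : F ⋙ DerivedCategory.homologyFunctor B 0 ⟶ G ⋙ DerivedCategory.homologyFunctor B 0 :=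
    Functor.whiskerRight η _
  -- P-objects: iso at every shift
  have hτ : ∀ Y : DerivedCategory A, IsIso (η.app Y) → IsIso (τ.app Y) := by
    intro Y h
    change IsIso ((DerivedCategory.homologyFunctor B 0).map (η.app Y))
    infer_instance
  have hP1 : ∀ I : A, P I → ∀ a : ℤ,
      IsIso (τ.app (((DerivedCategory.singleFunctor A 0).obj I)⟦a⟧)) :=
    fun I hI a => hτ _ (isIso_app_shift η _ a (hη I hI))
  have hP2 : ∀ I : A, P I → ∀ a b : ℤ,
      IsIso (τ.app ((((DerivedCategory.singleFunctor A 0).obj I)⟦a⟧)⟦b⟧)) :=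
    fun I hI a b => hτ _ (isIso_app_shift η _ b (isIso_app_shift η _ a (hη I hI)))
  -- base case
  have base : ∃ N : ℤ, ∀ j : ℤ, j ≤ N → ∀ X : A,
      IsIso (τ.app (((DerivedCategory.singleFunctor A 0).obj X)⟦j⟧)) := by
    obtain ⟨nF, hnF⟩ := hF 1
    obtain ⟨nG, hnG⟩ := hG 1
    refine ⟨min (-nF) (-nG), fun j hj X => ?_⟩
    have hjF : nF ≤ -j := by have := min_le_left (-nF) (-nG); omega
    have hjG : nG ≤ -j := by have := min_le_right (-nF) (-nG); omega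
    haveI h0 : (((DerivedCategory.singleFunctor A 0).obj X)⟦j⟧).IsGE (-j) :=
      DerivedCategory.TStructure.t.isGE_shift _ 0 j (-j) (by omega)
    have hYF : (((DerivedCategory.singleFunctor A 0).obj X)⟦j⟧).IsGE nF :=
      DerivedCategory.TStructure.t.isGE_of_ge _ nF (-j) hjF
    have hYG : (((DerivedCategory.singleFunctor A 0).obj X)⟦j⟧).IsGE nG :=
      DerivedCategory.TStructure.t.isGE_of_ge _ nG (-j) hjG
    haveI := hnF _ hYF
    haveI := hnG _ hYG
    have z1 : IsZero ((F ⋙ DerivedCategory.homologyFunctor B 0).obj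
        (((DerivedCategory.singleFunctor A 0).obj X)⟦j⟧)) :=
      DerivedCategory.isZero_of_isGE _ 1 0 (by omega)
    have z2 : IsZero ((G ⋙ DerivedCategory.homologyFunctor B 0).obj
        (((DerivedCategory.singleFunctor A 0).obj X)⟦j⟧)) :=
      DerivedCategory.isZero_of_isGE _ 1 0 (by omega)
    exact ⟨⟨0, z1.eq_of_src _ _, z2.eq_of_tgt _ _⟩⟩
  -- inductive step
  have step : ∀ j : ℤ,
      (∀ X : A, IsIso (τ.app (((DerivedCategory.singleFunctor A 0).obj X)⟦j⟧))) →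
      ∀ X : A, IsIso (τ.app (((DerivedCategory.singleFunctor A 0).obj X)⟦j + 1⟧)) := by
    intro j IH
    have M : ∀ X : A, Mono (τ.app ((((DerivedCategory.singleFunctor A 0).obj X)⟦j⟧)⟦(1 : ℤ)⟧)) := by
      intro X
      obtain ⟨I, i, hI, hi⟩ := hP X
      have hS : (ShortComplex.mk i (cokernel.π i) (cokernel.condition i)).ShortExact :=
        ShortComplex.ShortExact.mk' (ShortComplex.exact_cokernel i) hi inferInstance
      have hT := Pretriangulated.Triangle.shift_distinguished _ hS.singleTriangle_distinguished j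
      have hT1 := Pretriangulated.rot_of_distTriang _ hT
      haveI i1 := hP1 I hI j
      haveI i3 := IH (cokernel i)
      haveI i4 := hP2 I hI j 1
      exact mono_step _ _ τ _ hT1
        (show Epi (τ.app (((DerivedCategory.singleFunctor A 0).obj I)⟦j⟧)) from inferInstance)
        (show Mono (τ.app (((DerivedCategory.singleFunctor A 0).obj (cokernel i))⟦j⟧)) from
          inferInstance)
        (show Mono (τ.app ((((DerivedCategory.singleFunctor A 0).obj I)⟦j⟧)⟦(1 : ℤ)⟧)) from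
          inferInstance)
    intro X
    obtain ⟨I, i, hI, hi⟩ := hP X
    have hS : (ShortComplex.mk i (cokernel.π i) (cokernel.condition i)).ShortExact :=
      ShortComplex.ShortExact.mk' (ShortComplex.exact_cokernel i) hi inferInstance
    have hT := Pretriangulated.Triangle.shift_distinguished _ hS.singleTriangle_distinguished j
    have hT1 := Pretriangulated.rot_of_distTriang _ hT
    have hT2 := Pretriangulated.rot_of_distTriang _ hT1
    haveI i3 := IH (cokernel i)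
    haveI i5 := M (cokernel i)
    haveI i6 := M X
    haveI i4 := hP2 I hI j 1
    haveI E : Epi (τ.app ((((DerivedCategory.singleFunctor A 0).obj X)⟦j⟧)⟦(1 : ℤ)⟧)) :=
      epi_step _ _ τ _ hT2
        (show Epi (τ.app (((DerivedCategory.singleFunctor A 0).obj (cokernel i))⟦j⟧)) from
          inferInstance)
        (show Epi (τ.app ((((DerivedCategory.singleFunctor A 0).obj I)⟦j⟧)⟦(1 : ℤ)⟧)) from
          inferInstance)
        (show Mono (τ.app ((((DerivedCategory.singleFunctor A 0).obj (cokernel i))⟦j⟧)⟦(1 : ℤ)⟧))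
          from inferInstance)
    have iso1 : IsIso (τ.app ((((DerivedCategory.singleFunctor A 0).obj X)⟦j⟧)⟦(1 : ℤ)⟧)) :=
      isIso_of_mono_of_epi _
    exact (NatTrans.isIso_app_iff_of_iso τ
      ((shiftFunctorAdd (DerivedCategory A) j 1).app _)).2 iso1
  -- all shifts
  have key : ∀ (j : ℤ) (X : A),
      IsIso (τ.app (((DerivedCategory.singleFunctor A 0).obj X)⟦j⟧)) := by
    obtain ⟨N, hN⟩ := base
    intro j
    by_cases hj : j ≤ N
    · exact hN j hj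
    · have hNj : N ≤ j := by omega
      exact Int.leInduction (m := N)
        (motive := fun j _ => ∀ X : A,
          IsIso (τ.app (((DerivedCategory.singleFunctor A 0).obj X)⟦j⟧)))
        (hN N le_rfl) (fun k _ ih => step k ih) j hNj
  -- conclusion
  rw [DerivedCategory.isIso_iff]
  intro n
  have h1 : IsIso ((shiftFunctor (DerivedCategory B) n ⋙
      DerivedCategory.homologyFunctor B 0).map
        (η.app ((DerivedCategory.singleFunctor A 0).obj X))) := by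
    have hk : IsIso ((DerivedCategory.homologyFunctor B 0).map
        (η.app (((DerivedCategory.singleFunctor A 0).obj X)⟦n⟧))) := key n X
    change IsIso ((DerivedCategory.homologyFunctor B 0).map
      ((η.app ((DerivedCategory.singleFunctor A 0).obj X))⟦n⟧'))
    rw [NatTrans.shift_app, Functor.map_comp, Functor.map_comp]
    infer_instance
  exact (NatIso.isIso_map_iff ((DerivedCategory.homologyFunctor B 0).isoShift n) _).1 h1

end Groth.Agent.S11152
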