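import Groth.Statements.S11153
import Groth.Agent.H23.InjAmp

set_option autoImplicit false
universe w v u
open CategoryTheory CategoryTheory.Limits
open CohDer

namespace Groth.Agent.S11153

/-- (i) ⇔ (iii): let A be an abelian category with enough injectives and K a bounded below cochain
complex of objects of A. Then K admits a quasi-isomorphism into a bounded complex of injective
objects of A if and only if there is an integer n₀ such that Hom_{D(A)}(Y[0], K[i]) = 0 for every
object Y of A and every i > n₀. -/
theorem result {A : Type u} [Category.{v} A] [Abelian A]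
    [HasDerivedCategory.{w} A] [EnoughInjectives A]
    (K : CochainComplex A ℤ) (a : ℤ) [K.IsStrictlyGE a] :
    (∃ (I : CochainComplex A ℤ) (b c : ℤ) (f : K ⟶ I), I.IsStrictlyGE b ∧ I.IsStrictlyLE c ∧
        (∀ n : ℤ, Injective (I.X n)) ∧ QuasiIso f) ↔
      ∃ n₀ : ℤ, ∀ (Y : A) (i : ℤ), n₀ < i →
        ∀ φ : (DerivedCategory.singleFunctor A 0).obj Y ⟶ (DerivedCategory.Q.obj K)⟦i⟧, φ = 0 := by
  constructor
  · rintro ⟨I, b, c, f, hb, hc, hinj, hf⟩
    have : IsIso (DerivedCategory.Q.map f) := by
      rw [DerivedCategory.isIso_Q_map_iff_quasiIso]; exact hf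
    refine ⟨max c b, fun Y i hi φ => ?_⟩
    exact (Groth.Agent.H23.InjAmp.amp_iff (DerivedCategory.Q.obj K) b (max c b) (le_max_right _ _)).2
      ⟨I, hinj, fun j hj => by
        rcases hj with hj | hj
        · exact I.isZero_of_isStrictlyGE b j hj
        · exact I.isZero_of_isStrictlyLE c j (lt_of_le_of_lt (le_max_left _ _) hj),
       ⟨(asIso (DerivedCategory.Q.map f)).symm⟩⟩ Y i (Or.inr hi) φ
  · rintro ⟨n₀, hn₀⟩
    have hyp : ∀ (F : A) (i : ℤ), (i < a ∨ max n₀ a < i) →
        ∀ φ : (DerivedCategory.singleFunctor A 0).obj F ⟶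
          (shiftFunctor (DerivedCategory A) i).obj (DerivedCategory.Q.obj K), φ = 0 := by
      intro F i hi φ
      rcases hi with hi | hi
      · have h1 : (DerivedCategory.Q.obj K).IsGE a := inferInstance
        exact DerivedCategory.TStructure.t.zero_of_isLE_of_isGE φ 0 (a - i) (by omega)
          inferInstance
          (DerivedCategory.TStructure.t.isGE_shift _ a i (a - i) (by omega))
      · exact hn₀ F i (lt_of_le_of_lt (le_max_left _ _) hi) φ
    obtain ⟨I, hinj, hI0, ⟨e⟩⟩ :=
      (Groth.Agent.H23.InjAmp.amp_iff (DerivedCategory.Q.obj K) a (max n₀ a) (le_max_right _ _)).1 hyp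
    have := hinj
    have hGE : I.IsStrictlyGE a := by
      rw [CochainComplex.isStrictlyGE_iff]; intro j hj; exact hI0 j (Or.inl hj)
    have hLE : I.IsStrictlyLE (max n₀ a) := by
      rw [CochainComplex.isStrictlyLE_iff]; intro j hj; exact hI0 j (Or.inr hj)
    have : I.IsKInjective := CochainComplex.isKInjective_of_injective I a
    obtain ⟨g', hg'⟩ := (CochainComplex.IsKInjective.Qh_map_bijective
      ((HomotopyCategory.quotient _ _).obj K) I).2
      ((DerivedCategory.quotientCompQhIso A).hom.app K ≫ e.inv ≫
        (DerivedCategory.quotientCompQhIso A).inv.app I)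
    obtain ⟨g, rfl⟩ := (HomotopyCategory.quotient _ _).map_surjective g'
    refine ⟨I, a, max n₀ a, g, hGE, hLE, hinj, ?_⟩
    rw [← DerivedCategory.isIso_Q_map_iff_quasiIso]
    have h3 : (DerivedCategory.quotientCompQhIso A).hom.app K ≫ DerivedCategory.Q.map g =
        (DerivedCategory.quotientCompQhIso A).hom.app K ≫ e.inv := by
      rw [← DerivedCategory.quotientCompQhIso_hom_naturality g, hg']
      simp
    have h5 : DerivedCategory.Q.map g = e.inv := (cancel_epi _).1 h3
    rw [h5]; infer_instance

end Groth.Agent.S11153
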