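import Groth.Statements.S11179
import Groth.Agent.Lib.Helper6.ExtFin3

set_option autoImplicit false
universe u
open CategoryTheory
attribute [local instance] HasDerivedCategory.standard
open Goren

namespace Groth.Agent.S11179

/-- A Noetherian local ring A is Gorenstein (A has finite injective dimension as a module over itself)
if and only if the complex A[0] is a dualizing complex for A (finite injective dimension expressed
by vanishing of maps M[0] → A[i] in D(A) outside a bounded range, finite cohomology, A → End(A[0])
bijective and no self-maps of nonzero degree). -/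
theorem result (A : Type u) [CommRing A] [IsLocalRing A] [IsNoetherianRing A] : LocCoh.IsGorensteinLocalRing A ↔ Dual.IsDualizing A (Dual.inD A A) := by
  constructor
  · intro hG
    obtain ⟨n, hn⟩ := hG.exists_hasInjectiveDimensionLT
    refine ⟨inferInstance, ⟨0, (n : ℤ), ?_⟩, ?_, ?_, ?_⟩
    · intro M _ _ i hi
      rcases hi with hi | hi
      · exact Groth.Agent.Helper6.ExtFin.subsingleton_hom_single_neg _ _ i hi
      · obtain ⟨k, rfl⟩ : ∃ k : ℕ, i = k := ⟨i.toNat, by omega⟩
        have hk : n ≤ k := by omega
        haveI : Subsingleton (Abelian.Ext (ModuleCat.of A M) (ModuleCat.of A A) k) :=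
          HasInjectiveDimensionLT.subsingleton (ModuleCat.of A A) n k hk (ModuleCat.of A M)
        exact (Abelian.Ext.homAddEquiv (X := ModuleCat.of A M) (Y := ModuleCat.of A A)
          (n := k)).symm.toEquiv.subsingleton
    · intro i
      by_cases hi : i = 0
      · subst hi
        have e := ((DerivedCategory.singleFunctorCompHomologyFunctorIso (ModuleCat.{u} A) 0).app
            (ModuleCat.of A A)).toLinearEquiv
        haveI : Module.Finite A ↑((𝟭 (ModuleCat.{u} A)).obj (ModuleCat.of A A)) :=
          inferInstanceAs (Module.Finite A A)
        exact Module.Finite.equiv e.symm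
      · have hz : CategoryTheory.Limits.IsZero ((DerivedCategory.homologyFunctor (ModuleCat.{u} A) i).obj
            (Dual.inD A A)) := by
          rcases lt_or_gt_of_ne hi with h | h
          · exact (Dual.inD A A).isZero_of_isGE 0 i h
          · exact (Dual.inD A A).isZero_of_isLE 0 i h
        haveI : Subsingleton (Dual.HD A (Dual.inD A A) i) := ModuleCat.subsingleton_of_isZero hz
        infer_instance
    · constructor
      · intro a b hab
        have h1 : (DerivedCategory.singleFunctor (ModuleCat.{u} A) 0).map
            (a • 𝟙 (ModuleCat.of A A)) =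
            (DerivedCategory.singleFunctor (ModuleCat.{u} A) 0).map
              (b • 𝟙 (ModuleCat.of A A)) := by
          rw [CategoryTheory.Functor.map_smul, CategoryTheory.Functor.map_smul,
            CategoryTheory.Functor.map_id]
          exact hab
        have h2 := (DerivedCategory.singleFunctor (ModuleCat.{u} A) 0).map_injective h1
        have h3 := congrArg (fun f => f.hom (1 : A)) h2
        simpa using h3
      · intro f
        obtain ⟨g, rfl⟩ := (DerivedCategory.singleFunctor (ModuleCat.{u} A) 0).map_surjective f
        obtain ⟨r, hr⟩ : ∃ r : A, r = g.hom (1 : A) := ⟨_, rfl⟩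
        refine ⟨r, ?_⟩
        have h1 : g = r • 𝟙 (ModuleCat.of A A) := by
          apply ModuleCat.hom_ext
          apply LinearMap.ext_ring
          rw [hr]
          simp
        show r • 𝟙 _ = _
        rw [h1, CategoryTheory.Functor.map_smul, CategoryTheory.Functor.map_id]
    · intro i hi
      rcases lt_or_gt_of_ne hi with h | h
      · exact Groth.Agent.Helper6.ExtFin.subsingleton_hom_single_neg _ _ i h
      · exact Groth.Agent.Helper6.ExtFin.subsingleton_hom_single_proj _ _ i h
  · intro hD
    obtain ⟨a, b, hab⟩ := hD.finite_injective_dimension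
    refine { (inferInstance : IsNoetherianRing A), (inferInstance : IsLocalRing A) with
      exists_hasInjectiveDimensionLT := ⟨(b + 1).toNat, ?_⟩ }
    refine HasInjectiveDimensionLT.mk (C := ModuleCat.{u} A) (fun i hi Y e => ?_)
    haveI : Subsingleton ((DerivedCategory.singleFunctor (ModuleCat.{u} A) 0).obj Y ⟶
        ((DerivedCategory.singleFunctor (ModuleCat.{u} A) 0).obj (ModuleCat.of A A))⟦(i : ℤ)⟧) :=
      hab Y (i : ℤ) (Or.inr (by omega))
    exact (Abelian.Ext.homAddEquiv (X := Y) (Y := ModuleCat.of A A) (n := i)).injective
      (Subsingleton.elim _ _)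

end Groth.Agent.S11179
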