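import Groth.Statements.S11217
import Mathlib

set_option autoImplicit false
universe u
open CategoryTheory MonoidalCategory CartesianMonoidalCategory MonObj GrpObj AlgebraicGeometry
open scoped TensorProduct
open AGF

namespace Groth.Agent.S11217


open MvPolynomial

section Aux
variable {k : Type u} [Field k]

theorem sum_der_apply (g : Fin 7 → MvPolynomial (Fin 7) k) (f : MvPolynomial (Fin 7) k) :
    (∑ i, g i • (pderiv i : Derivation k (MvPolynomial (Fin 7) k) (MvPolynomial (Fin 7) k))) f
      = ∑ i, g i * pderiv i f := by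
  have h := congrFun (map_sum (Derivation.coeFnAddMonoidHom (R := k)
    (A := MvPolynomial (Fin 7) k) (M := MvPolynomial (Fin 7) k))
    (fun i => g i • (pderiv i : Derivation k (MvPolynomial (Fin 7) k) (MvPolynomial (Fin 7) k)))
    Finset.univ) f
  rw [Finset.sum_apply] at h
  exact h

theorem mkDerivation_eq_sum (g : Fin 7 → MvPolynomial (Fin 7) k) (f : MvPolynomial (Fin 7) k) :
    mkDerivation k g f = ∑ i, g i * pderiv i f := by
  have h : mkDerivation k g = ∑ i, g i •
      (pderiv i : Derivation k (MvPolynomial (Fin 7) k) (MvPolynomial (Fin 7) k)) := by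
    apply MvPolynomial.derivation_ext
    intro j
    rw [mkDerivation_X, sum_der_apply]
    simp only [pderiv_X]
    rw [Finset.sum_eq_single j]
    · simp
    · intro b _ hb
      simp [Pi.single_apply, hb, hb.symm]
    · simp
  rw [h, sum_der_apply]

theorem not_le_aux {σ σ' d r : Fin 7 →₀ ℕ} {t : Fin 7} (hd : d t = 0) (h : σ t < σ' t) :
    ¬ σ' ≤ d - r + σ := by
  intro hle
  have h1 := Finsupp.le_def.mp hle t
  simp only [Finsupp.coe_add, Finsupp.coe_tsub, Pi.add_apply, Pi.sub_apply, hd] at h1
  omega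

theorem case_lemma [CharZero k] (f : MvPolynomial (Fin 7) k) (d : Fin 7 →₀ ℕ)
    (hcoef : coeff d f ≠ 0)
    (σa σb σc σd : Fin 7 →₀ ℕ) (ia ib ic id : Fin 7)
    (hδ : monomial σa (1:k) * pderiv ia f + monomial σb (1:k) * pderiv ib f
      + monomial σc (1:k) * pderiv ic f + monomial σd (1:k) * pderiv id f = 0)
    (hpos : 1 ≤ d ia)
    (hb : ¬ σb ≤ d - Finsupp.single ia 1 + σa) (hc : ¬ σc ≤ d - Finsupp.single ia 1 + σa)
    (hd : ¬ σd ≤ d - Finsupp.single ia 1 + σa) : False := by
  have h := congrArg (coeff (d - Finsupp.single ia 1 + σa)) hδ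
  simp only [coeff_add, coeff_monomial_mul', coeff_pderiv, coeff_zero, _root_.one_mul] at h
  simp only [if_neg hb, if_neg hc, if_neg hd, add_zero] at h
  rw [if_pos (le_add_self : σa ≤ d - Finsupp.single ia 1 + σa),
    add_tsub_cancel_right, tsub_add_cancel_of_le (Finsupp.single_le_iff.mpr hpos)] at h
  rcases mul_eq_zero.mp h with h1 | h1
  · exact hcoef h1
  · have h2 : ((((d - Finsupp.single ia 1 : Fin 7 →₀ ℕ) ia : ℕ) : k)) + 1 = ((d ia : ℕ) : k) := by
      have : (d - Finsupp.single ia 1 : Fin 7 →₀ ℕ) ia + 1 = d ia := by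
        simp only [Finsupp.coe_tsub, Pi.sub_apply, Finsupp.single_eq_same]; omega
      exact_mod_cast this
    rw [h2] at h1
    have := Nat.cast_eq_zero.mp h1
    omega

end Aux


/-- Let k be a field of characteristic zero and m ≥ 2; in the polynomial ring k[x, y, z, s, t, u, v]
(variables 0, …, 6) let δ be the k-derivation with δ(x) = δ(y) = δ(z) = 0, δ(s) = x^(m+1), δ(t) =
y^(m+1), δ(u) = z^(m+1), δ(v) = (xyz)^m, and grade by total degree in s, t, u, v. If f is
homogeneous of degree n ≥ 1 for this grading and δ(f) = 0, then every coefficient of f, as a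
polynomial in s, t, u, v over k[x, y, z], lies in the ideal (x, y, z): every monomial of f has
positive degree in x, y, z. (The published statement allows n = 0, where the constant 1 is a
counterexample; this row assumes n ≥ 1. The published definition of the derivation gives δ(v) =
(xyz)^(m+1), for which the assertion fails: v − (yz)^(m+1)·s is killed by δ and has the monomial v
with coefficient 1; this row uses δ(v) = (xyz)^m, the exponent of the published action formula and
of the published examples of invariants.) -/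
theorem result (k : Type u) [Field k] [CharZero k] (m : ℕ) (hm : 2 ≤ m) (n : ℕ) (hn : 1 ≤ n)
    (f : MvPolynomial (Fin 7) k)
    (hf : MvPolynomial.IsWeightedHomogeneous (![0, 0, 0, 1, 1, 1, 1] : Fin 7 → ℕ) f n)
    (hδ : MvPolynomial.mkDerivation k
      (![0, 0, 0, MvPolynomial.X 0 ^ (m + 1), MvPolynomial.X 1 ^ (m + 1), MvPolynomial.X 2 ^ (m + 1),
        (MvPolynomial.X 0 * MvPolynomial.X 1 * MvPolynomial.X 2) ^ m] : Fin 7 → MvPolynomial (Fin 7) k) f = 0) :
    ∀ d ∈ f.support, 0 < d 0 + d 1 + d 2 := by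
  intro d hd
  by_contra hcon
  have h0 : d 0 = 0 := by omega
  have h1 : d 1 = 0 := by omega
  have h2 : d 2 = 0 := by omega
  have hcoef : coeff d f ≠ 0 := MvPolynomial.mem_support_iff.mp hd
  have hw := hf hcoef
  have hw' : d 3 + d 4 + d 5 + d 6 = n := by
    have hw2 := d.sum_fintype (fun i c => c • (![0, 0, 0, 1, 1, 1, 1] : Fin 7 → ℕ) i)
      (fun _ => zero_smul _ _)
    rw [Finsupp.weight_apply, hw2] at hw
    simpa [Fin.sum_univ_seven] using hw
  have hδ' : monomial (Finsupp.single 0 (m+1)) (1:k) * pderiv 3 f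
      + monomial (Finsupp.single 1 (m+1)) (1:k) * pderiv 4 f
      + monomial (Finsupp.single 2 (m+1)) (1:k) * pderiv 5 f
      + monomial (Finsupp.single 0 m + Finsupp.single 1 m + Finsupp.single 2 m) (1:k)
        * pderiv 6 f = 0 := by
    have e6 : (X 0 * X 1 * X 2 : MvPolynomial (Fin 7) k) ^ m
        = monomial (Finsupp.single 0 m + Finsupp.single 1 m + Finsupp.single 2 m) (1:k) := by
      rw [mul_pow, mul_pow, X_pow_eq_monomial, X_pow_eq_monomial, X_pow_eq_monomial,
        monomial_mul, monomial_mul, _root_.one_mul, _root_.one_mul]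
    rw [mkDerivation_eq_sum, Fin.sum_univ_seven] at hδ
    rw [← X_pow_eq_monomial, ← X_pow_eq_monomial, ← X_pow_eq_monomial, ← e6]
    simpa using hδ
  have hpos : 1 ≤ d 3 ∨ 1 ≤ d 4 ∨ 1 ≤ d 5 ∨ 1 ≤ d 6 := by omega
  rcases hpos with hp | hp | hp | hp
  · refine case_lemma f d hcoef (Finsupp.single 0 (m+1)) (Finsupp.single 1 (m+1)) (Finsupp.single 2 (m+1)) (Finsupp.single 0 m + Finsupp.single 1 m + Finsupp.single 2 m) 3 4 5 6 hδ' hp ?_ ?_ ?_
    · exact not_le_aux (t := 1) h1 (by simp +decide [Finsupp.single_apply] <;> omega)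
    · exact not_le_aux (t := 2) h2 (by simp +decide [Finsupp.single_apply] <;> omega)
    · exact not_le_aux (t := 1) h1 (by simp +decide [Finsupp.single_apply] <;> omega)
  · refine case_lemma f d hcoef (Finsupp.single 1 (m+1)) (Finsupp.single 0 (m+1)) (Finsupp.single 2 (m+1)) (Finsupp.single 0 m + Finsupp.single 1 m + Finsupp.single 2 m) 4 3 5 6 (by rw [← hδ']; ring) hp ?_ ?_ ?_
    · exact not_le_aux (t := 0) h0 (by simp +decide [Finsupp.single_apply] <;> omega)
    · exact not_le_aux (t := 2) h2 (by simp +decide [Finsupp.single_apply] <;> omega)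
    · exact not_le_aux (t := 0) h0 (by simp +decide [Finsupp.single_apply] <;> omega)
  · refine case_lemma f d hcoef (Finsupp.single 2 (m+1)) (Finsupp.single 0 (m+1)) (Finsupp.single 1 (m+1)) (Finsupp.single 0 m + Finsupp.single 1 m + Finsupp.single 2 m) 5 3 4 6 (by rw [← hδ']; ring) hp ?_ ?_ ?_
    · exact not_le_aux (t := 0) h0 (by simp +decide [Finsupp.single_apply] <;> omega)
    · exact not_le_aux (t := 1) h1 (by simp +decide [Finsupp.single_apply] <;> omega)
    · exact not_le_aux (t := 0) h0 (by simp +decide [Finsupp.single_apply] <;> omega)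
  · refine case_lemma f d hcoef (Finsupp.single 0 m + Finsupp.single 1 m + Finsupp.single 2 m) (Finsupp.single 0 (m+1)) (Finsupp.single 1 (m+1)) (Finsupp.single 2 (m+1)) 6 3 4 5 (by rw [← hδ']; ring) hp ?_ ?_ ?_
    · exact not_le_aux (t := 0) h0 (by simp +decide [Finsupp.single_apply] <;> omega)
    · exact not_le_aux (t := 1) h1 (by simp +decide [Finsupp.single_apply] <;> omega)
    · exact not_le_aux (t := 2) h2 (by simp +decide [Finsupp.single_apply] <;> omega)

end Groth.Agent.S11217
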