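import Groth.Statements.S11223
import Mathlib

set_option autoImplicit false
universe u
open CAlg

namespace Groth.Agent.S11223

section Aux
open MvPolynomial

variable {k : Type u} [Field k] {n m : ℕ}

theorem graded_nak (z : Fin m → MvPolynomial (Fin n) k) (d : Fin m → ℕ) (hd : ∀ i, 0 < d i)
    (hz : ∀ i, (z i).IsHomogeneous (d i)) (N : ℕ)
    (hN : idealOfVars (Fin n) k ^ N ≤ Ideal.span (Set.range z))
    (T : Submodule (Algebra.adjoin k (Set.range z)) (MvPolynomial (Fin n) k))
    (hT : ∀ v : Fin n →₀ ℕ, v.degree < N → (monomial v (1 : k)) ∈ T) :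
    ∀ e : ℕ, ∀ h : MvPolynomial (Fin n) k, h.IsHomogeneous e → h ∈ T := by
  intro e
  induction e using Nat.strong_induction_on with
  | _ e ih =>
  intro h hh
  have hdeg : ∀ v ∈ h.support, v.degree = e := by
    intro v hv
    by_contra hne
    exact (mem_support_iff.mp hv) (hh.coeff_eq_zero hne)
  by_cases he : e < N
  · have hs := h.as_sum
    rw [hs]
    apply Submodule.sum_mem
    intro v hv
    have h1 : monomial v (coeff v h) =
        (algebraMap k (Algebra.adjoin k (Set.range z)) (coeff v h)) • (monomial v (1 : k)) := by
      rw [Subalgebra.smul_def, Subalgebra.coe_algebraMap, MvPolynomial.algebraMap_eq,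
        smul_eq_mul, C_mul_monomial, mul_one]
    rw [h1]
    exact T.smul_mem _ (hT v (by rw [hdeg v hv]; exact he))
  · push_neg at he
    have hmem : h ∈ Ideal.span (Set.range z) := by
      apply hN
      rw [mem_pow_idealOfVars_iff]
      intro x hx
      rw [hdeg x hx]; exact he
    obtain ⟨a, ha⟩ := Ideal.mem_span_range_iff_exists_fun.mp hmem
    rw [← homogeneousComponent_eq_self hh, ← ha, map_sum]
    apply Submodule.sum_mem
    intro j _
    have hsum : a j * z j =
        ∑ i ∈ Finset.range ((a j).totalDegree + 1), homogeneousComponent i (a j) * z j := by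
      rw [← Finset.sum_mul, sum_homogeneousComponent]
    rw [hsum, map_sum]
    apply Submodule.sum_mem
    intro i _
    have hhom : (homogeneousComponent i (a j) * z j) ∈
        homogeneousSubmodule (Fin n) k (i + d j) :=
      (homogeneousComponent_isHomogeneous i (a j)).mul (hz j)
    rw [homogeneousComponent_of_mem hhom]
    split_ifs with hei
    · have hlt : i < e := by
        have := hd j
        omega
      have h1 := ih i hlt _ (homogeneousComponent_isHomogeneous i (a j))
      have h2 : homogeneousComponent i (a j) * z j =
          (⟨z j, Algebra.subset_adjoin (Set.mem_range_self j)⟩ :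
            Algebra.adjoin k (Set.range z)) • homogeneousComponent i (a j) := by
        rw [Subalgebra.smul_def, smul_eq_mul, mul_comm]
      rw [h2]
      exact T.smul_mem _ h1
    · exact T.zero_mem

end Aux


/-- Let k be a field, let z_1, ..., z_m be homogeneous polynomials of positive degree in the polynomial
ring k[x_1, ..., x_n], and suppose the radical of the ideal (z_1, ..., z_m) is the ideal (x_1, ...,
x_n) generated by the variables. Then the polynomial ring is integral over the subalgebra generated
by z_1, ..., z_m. (The published statement is over an algebraically closed field; this row takes any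
field, which its proof allows.) -/
theorem result (k : Type u) [Field k] (n m : ℕ)
    (z : Fin m → MvPolynomial (Fin n) k) (d : Fin m → ℕ) (hd : ∀ i, 0 < d i)
    (hz : ∀ i, (z i).IsHomogeneous (d i))
    (hrad : (Ideal.span (Set.range z)).radical =
      Ideal.span (Set.range (MvPolynomial.X : Fin n → MvPolynomial (Fin n) k))) :
    Algebra.IsIntegral (Algebra.adjoin k (Set.range z)) (MvPolynomial (Fin n) k) := by
  classical
  have hle : MvPolynomial.idealOfVars (Fin n) k ≤ (Ideal.span (Set.range z)).radical := by
    rw [hrad]
  obtain ⟨N, hN⟩ := Ideal.exists_pow_le_of_le_radical_of_fg hle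
    (MvPolynomial.idealOfVars_fg (Fin n) k)
  let G : Finset (MvPolynomial (Fin n) k) :=
    ((Finset.range N).biUnion
      (fun e => (Finset.univ : Finset (Fin n)).finsuppAntidiag e)).image
      (fun v => MvPolynomial.monomial v (1 : k))
  let T : Submodule (Algebra.adjoin k (Set.range z)) (MvPolynomial (Fin n) k) :=
    Submodule.span _ (G : Set (MvPolynomial (Fin n) k))
  have hT : ∀ v : Fin n →₀ ℕ, v.degree < N → (MvPolynomial.monomial v (1 : k)) ∈ T := by
    intro v hv
    apply Submodule.subset_span
    rw [Finset.mem_coe, Finset.mem_image]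
    refine ⟨v, ?_, rfl⟩
    rw [Finset.mem_biUnion]
    refine ⟨v.degree, Finset.mem_range.mpr hv, ?_⟩
    rw [Finset.mem_finsuppAntidiag]
    exact ⟨(Finsupp.degree_eq_sum v).symm, Finset.subset_univ _⟩
  have key := graded_nak z d hd hz N hN T hT
  have htop : T = ⊤ := by
    rw [eq_top_iff]
    intro p _
    rw [← MvPolynomial.sum_homogeneousComponent p]
    apply Submodule.sum_mem
    intro i _
    exact key i _ (MvPolynomial.homogeneousComponent_isHomogeneous i p)
  haveI : Module.Finite (Algebra.adjoin k (Set.range z)) (MvPolynomial (Fin n) k) :=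
    ⟨⟨G, htop⟩⟩
  exact ⟨fun x => IsIntegral.of_finite _ x⟩

end Groth.Agent.S11223
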