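import Groth.Statements.S11233
import Mathlib.Algebra.MvPolynomial.Funext
import Mathlib.Tactic

set_option autoImplicit false
universe u
open CAlg

namespace Groth.Agent.S11233

/-- Let k be an algebraically closed field, A an integral domain which is a k-algebra, T an m by m
matrix over A with invertible determinant, and let the additive group k^m act on the polynomial ring
A[y_1, ..., y_m] by the A-algebra maps y_s ↦ y_s + Σ_r h_r T_rs. Then the only invariant polynomials
are the constants: a polynomial fixed by all these substitutions lies in A. -/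
theorem result (k : Type u) [Field k] [IsAlgClosed k]
    (A : Type u) [CommRing A] [IsDomain A] [Algebra k A] (m : ℕ) (T : Matrix (Fin m) (Fin m) A)
    (hT : IsUnit T.det) (f : MvPolynomial (Fin m) A)
    (hf : ∀ h : Fin m → k, MvPolynomial.aeval
      (fun s : Fin m => MvPolynomial.X s + MvPolynomial.C (∑ r : Fin m, algebraMap k A (h r) * T r s)) f = f) :
    ∃ a : A, f = MvPolynomial.C a := by
  classical
  have hTinv : T⁻¹ * T = 1 := Matrix.nonsing_inv_mul T hT
  set a : A := MvPolynomial.aeval (0 : Fin m → A) f with ha
  refine ⟨a, ?_⟩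
  have h1 : ∀ h : Fin m → k,
      MvPolynomial.aeval (fun s => ∑ r, algebraMap k A (h r) * T r s) f = a := by
    intro h
    have := congrArg (MvPolynomial.aeval (0 : Fin m → A)) (hf h)
    rw [MvPolynomial.comp_aeval_apply] at this
    rw [ha, ← this]
    congr 2
    funext s
    simp [MvPolynomial.aeval_X, MvPolynomial.aeval_C]
  set g : MvPolynomial (Fin m) A :=
    MvPolynomial.aeval (fun s => ∑ r, MvPolynomial.X r * MvPolynomial.C (T r s)) f with hg
  have h2 : g = MvPolynomial.C a := by
    apply MvPolynomial.funext_set (fun _ => Set.range (algebraMap k A)) (fun _ => ?_)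
    · intro x hx
      have hx' : ∀ s, ∃ c : k, algebraMap k A c = x s := fun s => hx s (Set.mem_univ s)
      choose h hh using hx'
      rw [MvPolynomial.eval_C, ← MvPolynomial.aeval_eq_eval, hg, MvPolynomial.comp_aeval_apply,
        ← h1 h]
      congr 2
      funext s
      simp [hh]
    · exact Set.infinite_range_of_injective (algebraMap k A).injective
  have h3 : f = MvPolynomial.aeval
      (fun r => ∑ s, MvPolynomial.X s * MvPolynomial.C (T⁻¹ s r)) g := by
    rw [hg, MvPolynomial.comp_aeval_apply]
    conv_lhs => rw [← MvPolynomial.aeval_X_left_apply f]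
    congr 2
    funext s
    simp only [map_sum, map_mul, MvPolynomial.aeval_X, MvPolynomial.aeval_C,
      MvPolynomial.algebraMap_eq]
    simp_rw [Finset.sum_mul, mul_assoc, ← map_mul]
    rw [Finset.sum_comm]
    simp_rw [← Finset.mul_sum, ← map_sum]
    have : ∀ q, ∑ r, T⁻¹ q r * T r s = (1 : Matrix (Fin m) (Fin m) A) q s := fun q => by
      rw [← hTinv, Matrix.mul_apply]
    simp_rw [this, Matrix.one_apply]
    simp
  rw [h3, h2, MvPolynomial.aeval_C]; rfl

end Groth.Agent.S11233
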