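import Groth.Statements.S11235
import Mathlib.Tactic
import Mathlib.FieldTheory.IsAlgClosed.Basic
import Mathlib.Algebra.Polynomial.Roots

set_option autoImplicit false
universe u
open CAlg

namespace Groth.Agent.S11235

/-- Let k be an algebraically closed field, A a commutative k-algebra, α ∈ k, and M a maximal ideal of
the polynomial ring A[x] containing x - α. Let I ⊆ M be an ideal whose zero set in Spec A[x] is
invariant under the automorphisms x ↦ c·x, c ∈ k nonzero (equivalently: the image of I under each
such A-algebra automorphism has the same radical as I). Then there is a maximal ideal of A[x]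
containing I and x. -/
theorem result (k : Type u) [Field k] [IsAlgClosed k]
    (A : Type u) [CommRing A] [Algebra k A] (α : k)
    (M : Ideal (Polynomial A)) (hM : M.IsMaximal)
    (hα : Polynomial.X - Polynomial.C (algebraMap k A α) ∈ M)
    (I : Ideal (Polynomial A)) (hIM : I ≤ M)
    (hI : ∀ c : kˣ, (I.map (Polynomial.aeval (R := A)
      (algebraMap k A (c : k) • (Polynomial.X : Polynomial A)))).radical = I.radical) :
    ∃ N : Ideal (Polynomial A), N.IsMaximal ∧ I ≤ N ∧ Polynomial.X ∈ N := by
  classical
  have hMprime : M.IsPrime := hM.isPrime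
  let π : Polynomial A →+* (Polynomial A ⧸ M) := Ideal.Quotient.mk M
  let _ : Field (Polynomial A ⧸ M) := Ideal.Quotient.field M
  let γ : k →+* (Polynomial A ⧸ M) := (π.comp Polynomial.C).comp (algebraMap k A)
  have hγinj : Function.Injective γ := γ.injective
  have hπX : π Polynomial.X = γ α := by
    have : π (Polynomial.X - Polynomial.C (algebraMap k A α)) = 0 :=
      Ideal.Quotient.eq_zero_iff_mem.mpr hα
    rw [map_sub, sub_eq_zero] at this
    exact this
  -- all scaled versions of elements of `I` lie in `M`
  have hscale : ∀ f ∈ I, ∀ c : kˣ,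
      π (Polynomial.aeval (R := A) (algebraMap k A (c : k) • (Polynomial.X : Polynomial A)) f) = 0 := by
    intro f hf c
    apply Ideal.Quotient.eq_zero_iff_mem.mpr
    have h1 : Polynomial.aeval (R := A) (algebraMap k A (c : k) • (Polynomial.X : Polynomial A)) f ∈
        (I.map (Polynomial.aeval (R := A)
          (algebraMap k A (c : k) • (Polynomial.X : Polynomial A)))).radical :=
      Ideal.le_radical (Ideal.mem_map_of_mem _ hf)
    rw [hI c] at h1
    have h2 : I.radical ≤ M := by
      rw [← hMprime.radical]
      exact Ideal.radical_mono hIM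
    exact h2 h1
  -- evaluation formula
  have heval : ∀ (f : Polynomial A) (c : kˣ),
      π (Polynomial.aeval (R := A) (algebraMap k A (c : k) • (Polynomial.X : Polynomial A)) f) =
      (f.map (π.comp Polynomial.C)).eval (γ (c * α)) := by
    intro f c
    rw [Polynomial.eval_map, Polynomial.aeval_def, Polynomial.hom_eval₂]
    congr 1
    rw [Algebra.smul_def, map_mul, hπX, map_mul]
    rfl
  have hroot : ∀ f ∈ I, ∀ c : kˣ, (f.map (π.comp Polynomial.C)).eval (γ (c * α)) = 0 := by
    intro f hf c
    rw [← heval, hscale f hf c]
  have hcoeff0 : ∀ f ∈ I, π (Polynomial.C (f.coeff 0)) = 0 := by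
    intro f hf
    have h0 : (f.map (π.comp Polynomial.C)).coeff 0 = π (Polynomial.C (f.coeff 0)) := by
      rw [Polynomial.coeff_map]; rfl
    rw [← h0]
    by_cases hα0 : α = 0
    · have := hroot f hf 1
      rw [hα0, mul_zero, map_zero, ← Polynomial.coeff_zero_eq_eval_zero] at this
      exact this
    · have hzero : f.map (π.comp Polynomial.C) = 0 := by
        apply Polynomial.eq_zero_of_infinite_isRoot
        have : Infinite k := IsAlgClosed.instInfinite
        have hinf : ({0}ᶜ : Set k).Infinite := (Set.finite_singleton 0).infinite_compl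
        have himg := hinf.image (f := fun c : k => γ (c * α)) (by
          intro c _ c' _ hcc
          exact mul_right_cancel₀ hα0 (hγinj hcc))
        apply himg.mono
        rintro _ ⟨c, hc, rfl⟩
        exact hroot f hf (Units.mk0 c hc)
      rw [hzero, Polynomial.coeff_zero]
  -- the auxiliary ring hom
  let ψ : Polynomial A →+* (Polynomial A ⧸ M) :=
    (π.comp Polynomial.C).comp (Polynomial.evalRingHom (0 : A))
  have hker : RingHom.ker ψ ≠ ⊤ := RingHom.ker_ne_top ψ
  obtain ⟨N, hN, hle⟩ := Ideal.exists_le_maximal _ hker
  refine ⟨N, hN, ?_, ?_⟩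
  · intro f hf
    apply hle
    rw [RingHom.mem_ker]
    show π (Polynomial.C (Polynomial.eval 0 f)) = 0
    rw [← Polynomial.coeff_zero_eq_eval_zero]
    exact hcoeff0 f hf
  · apply hle
    rw [RingHom.mem_ker]
    show π (Polynomial.C (Polynomial.eval 0 Polynomial.X)) = 0
    rw [Polynomial.eval_X, map_zero, map_zero]

end Groth.Agent.S11235
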