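import Groth.Statements.S11238
import Mathlib

set_option autoImplicit false
universe u
open AGF

namespace Groth.Agent.S11238aux

open Polynomial

abbrev PR (k : Type u) [Field k] (n : ℕ) := MvPolynomial (Fin n) k
abbrev LR (k : Type u) [Field k] (n : ℕ) := FractionRing (MvPolynomial (Fin n) k)

lemma exists_line {k : Type u} [Field k] [Infinite k] {n : ℕ} (q p₁ p₂ : MvPolynomial (Fin n) k)
    (hq : q ≠ 0) (hp₂ : p₂ ≠ 0) (hnc : ∀ c : k, p₁ ≠ MvPolynomial.C c * p₂) :
    ∃ e : MvPolynomial (Fin n) k →ₐ[k] Polynomial k,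
      e q ≠ 0 ∧ e p₂ ≠ 0 ∧ ∀ c : k, e p₁ ≠ Polynomial.C c * e p₂ := by
  have hne : ∀ r : MvPolynomial (Fin n) k, r ≠ 0 → ∃ a : Fin n → k, MvPolynomial.eval a r ≠ 0 := by
    intro r hr
    by_contra h
    push Not at h
    exact hr (MvPolynomial.funext (fun a => by rw [h a, map_zero]))
  obtain ⟨α, hα⟩ := hne (q * p₂) (mul_ne_zero hq hp₂)
  rw [map_mul] at hα
  have hαq : MvPolynomial.eval α q ≠ 0 := left_ne_zero_of_mul hα
  have hαp : MvPolynomial.eval α p₂ ≠ 0 := right_ne_zero_of_mul hα
  obtain ⟨c₀, hc₀⟩ : ∃ c₀, c₀ = MvPolynomial.eval α p₁ / MvPolynomial.eval α p₂ := ⟨_, rfl⟩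
  obtain ⟨γ, hγ⟩ := hne (p₁ - MvPolynomial.C c₀ * p₂) (sub_ne_zero.2 (hnc c₀))
  let e : MvPolynomial (Fin n) k →ₐ[k] Polynomial k :=
    MvPolynomial.aeval (fun i => Polynomial.C (α i) + Polynomial.X * Polynomial.C (γ i - α i))
  have h0 : ∀ r, Polynomial.eval 0 (e r) = MvPolynomial.eval α r := by
    intro r
    have : (Polynomial.evalRingHom 0).comp (e : MvPolynomial (Fin n) k →+* Polynomial k) =
        MvPolynomial.eval α := by
      apply MvPolynomial.ringHom_ext
      · intro c
        simp [e]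
      · intro i
        simp [e]
    exact RingHom.congr_fun this r
  have h1 : ∀ r, Polynomial.eval 1 (e r) = MvPolynomial.eval γ r := by
    intro r
    have : (Polynomial.evalRingHom 1).comp (e : MvPolynomial (Fin n) k →+* Polynomial k) =
        MvPolynomial.eval γ := by
      apply MvPolynomial.ringHom_ext
      · intro c
        simp [e]
      · intro i
        simp [e]
    exact RingHom.congr_fun this r
  refine ⟨e, ?_, ?_, ?_⟩
  · intro h
    apply hαq
    rw [← h0, h, Polynomial.eval_zero]
  · intro h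
    apply hαp
    rw [← h0, h, Polynomial.eval_zero]
  · intro c h
    have e0 := congrArg (Polynomial.eval 0) h
    rw [Polynomial.eval_mul, Polynomial.eval_C, h0, h0] at e0
    have hc : c = c₀ := by
      rw [hc₀, e0, mul_div_assoc, div_self hαp, mul_one]
    have e1 := congrArg (Polynomial.eval 1) h
    rw [Polynomial.eval_mul, Polynomial.eval_C, h1, h1] at e1
    apply hγ
    rw [map_sub, map_mul, MvPolynomial.eval_C, e1, hc, sub_self]

open IntermediateField IntermediateField.algebraAdjoinAdjoin in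
theorem main (k : Type u) [Field k] [IsAlgClosed k]
    (K : Type u) [Field K] [Algebra k K] (hfg : (⊤ : IntermediateField k K).FG)
    (x : K) (hx : Transcendental k x) (halg : Algebra.IsAlgebraic ↥(IntermediateField.adjoin k {x}) K)
    (n : ℕ) (φ : K →ₐ[k] FractionRing (MvPolynomial (Fin n) k)) :
    ∃ t : K, Transcendental k t ∧ IntermediateField.adjoin k {t} = ⊤ := by
  classical
  obtain ⟨t, ht⟩ := hfg
  have hnd : ∀ z : K, ∃ a b : PR k n, b ≠ 0 ∧
      algebraMap (PR k n) (LR k n) a / algebraMap (PR k n) (LR k n) b = φ z := by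
    intro z
    obtain ⟨a, b, hb, h⟩ := IsFractionRing.div_surjective (A := PR k n) (φ z)
    exact ⟨a, b, nonZeroDivisors.ne_zero hb, h⟩
  choose num den hden hnd' using hnd
  let S' : Finset K := insert x t
  let q : PR k n := ∏ s ∈ S', den s
  have hq : q ≠ 0 := Finset.prod_ne_zero_iff.2 (fun s _ => hden s)
  have hφinj : Function.Injective φ := (φ : K →+* LR k n).injective
  have hPL : Function.Injective (algebraMap (PR k n) (LR k n)) := IsFractionRing.injective _ _
  have hnc : ∀ c : k, num x ≠ MvPolynomial.C c * den x := by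
    intro c h
    have h2 : algebraMap (PR k n) (LR k n) (den x) ≠ 0 := (map_ne_zero_iff _ hPL).2 (hden x)
    have h1 : φ x = φ (algebraMap k K c) := by
      rw [← hnd' x, h, map_mul, mul_div_assoc, div_self h2, mul_one, φ.commutes,
        IsScalarTower.algebraMap_apply k (PR k n) (LR k n)]
      rfl
    exact hx ((hφinj h1) ▸ isAlgebraic_algebraMap c)
  obtain ⟨e, heq, -, henc⟩ := exists_line q (num x) (den x) hq (hden x) hnc
  let ε₀ : PR k n →ₐ[k] RatFunc k := (IsScalarTower.toAlgHom k (Polynomial k) (RatFunc k)).comp e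
  have hε₀ : ∀ r, ε₀ r = algebraMap (Polynomial k) (RatFunc k) (e r) := fun r => rfl
  have hε₀0 : ∀ r, ε₀ r = 0 ↔ e r = 0 := by
    intro r
    rw [hε₀]
    exact map_eq_zero_iff _ (RatFunc.algebraMap_injective k)
  let 𝔭 : Ideal (PR k n) := RingHom.ker (ε₀ : PR k n →+* RatFunc k)
  haveI : 𝔭.IsPrime := RingHom.ker_isPrime _
  have hM : ∀ r : PR k n, r ∈ 𝔭.primeCompl ↔ e r ≠ 0 := by
    intro r
    show r ∉ 𝔭 ↔ _
    rw [RingHom.mem_ker]
    exact not_congr (hε₀0 r)
  have hι : ∀ y : 𝔭.primeCompl, IsUnit ((IsScalarTower.toAlgHom k (PR k n) (LR k n)) y) := by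
    intro y
    apply IsUnit.mk0
    show algebraMap (PR k n) (LR k n) y ≠ 0
    rw [Ne, map_eq_zero_iff _ hPL]
    intro h0
    have := (hM y).1 y.2
    rw [h0, map_zero] at this
    exact this rfl
  let ι : Localization 𝔭.primeCompl →ₐ[k] LR k n := IsLocalization.liftAlgHom (M := 𝔭.primeCompl) hι
  have hε : ∀ y : 𝔭.primeCompl, IsUnit (ε₀ y) :=
    fun y => IsUnit.mk0 _ (fun h => (hM y).1 y.2 ((hε₀0 y).1 h))
  let ε : Localization 𝔭.primeCompl →ₐ[k] RatFunc k :=
    IsLocalization.liftAlgHom (M := 𝔭.primeCompl) hε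
  have hι_alg : ∀ r : PR k n, ι (algebraMap _ (Localization 𝔭.primeCompl) r) =
      algebraMap (PR k n) (LR k n) r := fun r => IsLocalization.lift_eq _ r
  have hε_alg : ∀ r : PR k n, ε (algebraMap _ (Localization 𝔭.primeCompl) r) = ε₀ r :=
    fun r => IsLocalization.lift_eq _ r
  have hιinj : Function.Injective ι := by
    show Function.Injective (IsLocalization.lift hι)
    rw [IsLocalization.lift_injective_iff]
    intro a b
    have h1 : Function.Injective (algebraMap (PR k n) (Localization 𝔭.primeCompl)) :=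
      IsLocalization.injective _ (Ideal.primeCompl_le_nonZeroDivisors 𝔭)
    exact ⟨fun h => congrArg _ (h1 h), fun h => congrArg _ (hPL h)⟩
  let R' : Subalgebra k K := (ι.range).comap φ
  have hmemR' : ∀ z : K, z ∈ R' ↔ ∃ o : Localization 𝔭.primeCompl, ι o = φ z := by
    intro z
    exact Iff.rfl
  have hgen : ∀ s ∈ S', s ∈ R' := by
    intro s hs
    have hdM : den s ∈ 𝔭.primeCompl := by
      rw [hM]
      intro h0
      have : e (den s) ∣ e q := map_dvd e (Finset.dvd_prod_of_mem den hs)
      rw [h0, zero_dvd_iff] at this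
      exact heq this
    refine (hmemR' s).2 ⟨IsLocalization.mk' _ (num s) ⟨den s, hdM⟩, ?_⟩
    have h1 : ι (IsLocalization.mk' _ (num s) ⟨den s, hdM⟩) *
        algebraMap (PR k n) (LR k n) (den s) = algebraMap (PR k n) (LR k n) (num s) := by
      rw [← hι_alg, ← map_mul, IsLocalization.mk'_spec, hι_alg]
    have h2 : algebraMap (PR k n) (LR k n) (den s) ≠ 0 := (map_ne_zero_iff _ hPL).2 (hden s)
    rw [← hnd' s, eq_div_iff h2, h1]
  haveI : FaithfulSMul R' K := (faithfulSMul_iff_algebraMap_injective R' K).2 Subtype.val_injective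
  haveI : IsFractionRing R' K := by
    apply IsFractionRing.of_field
    intro z
    have hz : z ∈ IntermediateField.adjoin k (t : Set K) := by
      rw [ht]
      trivial
    obtain ⟨r, hr, s, hs, rfl⟩ := IntermediateField.mem_adjoin_iff_div.1 hz
    have hle : Algebra.adjoin k (t : Set K) ≤ R' :=
      Algebra.adjoin_le (fun s hs => hgen s (Finset.mem_insert_of_mem hs))
    exact ⟨⟨r, hle hr⟩, ⟨s, hle hs⟩, rfl⟩
  let ρ : R' →ₐ[k] Localization 𝔭.primeCompl :=
    ((AlgEquiv.ofInjective ι hιinj).symm : ι.range →ₐ[k] _).comp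
      ((φ.comp R'.val).codRestrict ι.range (fun y => y.2))
  have hρ : ∀ y : R', ι (ρ y) = φ y := by
    intro y
    have := (AlgEquiv.ofInjective ι hιinj).apply_symm_apply ⟨φ y, y.2⟩
    exact congrArg Subtype.val this
  let ψ₀ : R' →ₐ[k] RatFunc k := ε.comp ρ
  let x' : R' := ⟨x, hgen x (Finset.mem_insert_self _ _)⟩
  have hx1 : ρ x' * algebraMap _ (Localization 𝔭.primeCompl) (den x) =
      algebraMap _ (Localization 𝔭.primeCompl) (num x) := by
    apply hιinj
    have h2 : algebraMap (PR k n) (LR k n) (den x) ≠ 0 := (map_ne_zero_iff _ hPL).2 (hden x)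
    rw [map_mul, hρ, hι_alg, hι_alg]
    show φ x * _ = _
    rw [← hnd' x, div_mul_cancel₀ _ h2]
  have hx2 : ψ₀ x' * ε₀ (den x) = ε₀ (num x) := by
    have := congrArg ε hx1
    rw [map_mul, hε_alg, hε_alg] at this
    exact this
  have hxnc : ∀ c : k, ψ₀ x' ≠ algebraMap k (RatFunc k) c := by
    intro c h
    rw [h] at hx2
    apply henc c
    apply RatFunc.algebraMap_injective k
    rw [map_mul, ← hε₀, ← hε₀, ← hx2]
    congr 1
  have hψ₀inj : Function.Injective ψ₀ := by
    rw [injective_iff_map_eq_zero]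
    intro y' hy0
    by_contra hyne
    have hyK : (y' : K) ≠ 0 := fun h => hyne (Subtype.ext h)
    have halg' : IsAlgebraic (Algebra.adjoin k ({x} : Set K)) (y' : K) :=
      (IsFractionRing.isAlgebraic_iff (Algebra.adjoin k ({x} : Set K)) (↥k⟮x⟯) K).2
        (halg.isAlgebraic _)
    obtain ⟨qq, hq0, hqq⟩ :=
      halg'.exists_nonzero_coeff_and_aeval_eq_zero (mem_nonZeroDivisors_of_ne_zero hyK)
    have hA₀ : Algebra.adjoin k ({x} : Set K) ≤ R' := Algebra.adjoin_le (by
      intro z hz
      rw [Set.mem_singleton_iff] at hz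
      subst hz
      exact x'.2)
    let incl : Algebra.adjoin k ({x} : Set K) →ₐ[k] R' := Subalgebra.inclusion hA₀
    have h1 : Polynomial.eval₂ (incl : Algebra.adjoin k ({x} : Set K) →+* R') y' qq = 0 := by
      apply Subtype.val_injective
      show (R'.val : R' →+* K) (Polynomial.eval₂ _ y' qq) = 0
      rw [Polynomial.hom_eval₂]
      exact hqq
    have h2 := congrArg (ψ₀ : R' →+* RatFunc k) h1
    rw [Polynomial.hom_eval₂, map_zero] at h2
    have hy0' : (ψ₀ : R' →+* RatFunc k) y' = 0 := hy0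
    rw [hy0', Polynomial.eval₂_at_zero] at h2
    obtain ⟨g, hg⟩ : ∃ g : Polynomial k, Polynomial.aeval x g = (qq.coeff 0 : K) := by
      have h5 : (qq.coeff 0 : K) ∈ (Polynomial.aeval x : Polynomial k →ₐ[k] K).range := by
        rw [← Algebra.adjoin_singleton_eq_range_aeval]
        exact (qq.coeff 0).2
      exact h5
    have hg0 : g ≠ 0 := by
      rintro rfl
      apply hq0
      apply Subtype.ext
      rw [← hg, map_zero]
      rfl
    have h3 : Polynomial.aeval (ψ₀ x') g = 0 := by
      rw [Polynomial.aeval_algHom_apply]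
      have : Polynomial.aeval x' g = incl (qq.coeff 0) := by
        apply Subtype.ext
        rw [Polynomial.aeval_subalgebra_coe]
        exact hg
      rw [this]
      exact h2
    have h4 : IsAlgebraic k (ψ₀ x') := ⟨g, hg0, h3⟩
    obtain ⟨c, hc⟩ := minpoly.mem_range_of_degree_eq_one k (ψ₀ x')
      (IsAlgClosed.degree_eq_one_of_irreducible k (minpoly.irreducible h4.isIntegral))
    exact hxnc c hc.symm
  let ψ : K →ₐ[k] RatFunc k := IsFractionRing.liftAlgHom (A := R') (g := ψ₀) hψ₀inj
  have hψx : ψ x = ψ₀ x' := IsFractionRing.lift_algebraMap hψ₀inj x'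
  have hE : ψ.fieldRange ≠ ⊥ := by
    intro h
    have : ψ x ∈ ψ.fieldRange := ⟨x, rfl⟩
    rw [h, IntermediateField.mem_bot] at this
    obtain ⟨c, hc⟩ := this
    exact hxnc c (hψx ▸ hc.symm)
  obtain ⟨t₀, ht₀⟩ : ∃ t₀ : K, ψ t₀ = RatFunc.Luroth.generator ψ.fieldRange :=
    RatFunc.Luroth.generator_mem (E := ψ.fieldRange)
  refine ⟨t₀, ?_, ?_⟩
  · intro halg₀
    have : IsAlgebraic k (ψ t₀) := halg₀.algHom ψ
    rw [ht₀] at this
    exact RatFunc.Luroth.transcendental_generator hE this
  · apply IntermediateField.map_injective ψ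
    rw [IntermediateField.adjoin_map, Set.image_singleton, ht₀,
      ← RatFunc.Luroth.eq_adjoin_generator, ← AlgHom.fieldRange_eq_map]

end Groth.Agent.S11238aux

namespace Groth.Agent.S11238

/-- Over an algebraically closed field k, a unirational variety of dimension one is rational. Field
form: let K be a finitely generated field extension of k of transcendence degree one (K is algebraic
over k(x) for some x ∈ K transcendental over k) admitting a k-embedding into a purely transcendental
extension k(t_1, ..., t_n). Then K = k(t) for some t ∈ K transcendental over k. -/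
theorem result (k : Type u) [Field k] [IsAlgClosed k]
    (K : Type u) [Field K] [Algebra k K] (hfg : (⊤ : IntermediateField k K).FG)
    (x : K) (hx : Transcendental k x) (halg : Algebra.IsAlgebraic ↥(IntermediateField.adjoin k {x}) K)
    (n : ℕ) (φ : K →ₐ[k] FractionRing (MvPolynomial (Fin n) k)) :
    ∃ t : K, Transcendental k t ∧ IntermediateField.adjoin k {t} = ⊤ := by
  exact Groth.Agent.S11238aux.main k K hfg x hx halg n φ

end Groth.Agent.S11238
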