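import Groth.Statements.S11239
import Mathlib.LinearAlgebra.Matrix.Block
import Mathlib.Tactic.Ring

set_option autoImplicit false
universe u
open AGF

namespace Groth.Agent.S11239

/-- Let X be an m × n matrix over a commutative ring, u an upper triangular n × n matrix with ones on
the diagonal, t a diagonal n × n matrix and p ≤ n. For any choice of p rows, the minor of X·t·u
formed with these rows and the first p columns equals (t_11 ⋯ t_pp) times the corresponding minor of
X: the minors on the first p columns are semi-invariant of weight ω_p under right multiplication by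
the upper triangular group. (The published statement is for the generic matrix over an algebraically
closed field; this row states the identity over any commutative ring.) -/
theorem result (R : Type u) [CommRing R] (m n p : ℕ) (hp : p ≤ n)
    (X : Matrix (Fin m) (Fin n) R) (d : Fin n → R) (u : Matrix (Fin n) (Fin n) R)
    (hu1 : ∀ i, u i i = 1) (hu0 : ∀ i j, j < i → u i j = 0) (I : Fin p → Fin m) :
    ((X * Matrix.diagonal d * u).submatrix I (Fin.castLE hp)).det =
      (∏ i : Fin p, d (Fin.castLE hp i)) * (X.submatrix I (Fin.castLE hp)).det := by
  classical
  let T : Matrix (Fin p) (Fin p) R :=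
    Matrix.of fun a b => d (Fin.castLE hp a) * u (Fin.castLE hp a) (Fin.castLE hp b)
  have hmat : (X * Matrix.diagonal d * u).submatrix I (Fin.castLE hp) =
      (X.submatrix I (Fin.castLE hp)) * T := by
    ext i b
    have hL : ((X * Matrix.diagonal d * u).submatrix I (Fin.castLE hp)) i b =
        ∑ a : Fin n, X (I i) a * d a * u a (Fin.castLE hp b) := by
      rw [Matrix.submatrix_apply, Matrix.mul_apply]
      apply Finset.sum_congr rfl
      intro a _
      rw [Matrix.mul_diagonal]
    have hR : ((X.submatrix I (Fin.castLE hp)) * T) i b =
        ∑ a : Fin p, X (I i) (Fin.castLE hp a) *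
          (d (Fin.castLE hp a) * u (Fin.castLE hp a) (Fin.castLE hp b)) := by
      rw [Matrix.mul_apply]
      rfl
    rw [hL, hR]
    have hsub : ∑ a ∈ (Finset.univ : Finset (Fin p)).map (Fin.castLEEmb hp),
        X (I i) a * d a * u a (Fin.castLE hp b) =
        ∑ a : Fin n, X (I i) a * d a * u a (Fin.castLE hp b) := by
      apply Finset.sum_subset (Finset.subset_univ _)
      intro a _ ha
      have hpa : p ≤ (a : ℕ) := by
        by_contra hlt
        push Not at hlt
        apply ha
        rw [Finset.mem_map]
        exact ⟨⟨a, hlt⟩, Finset.mem_univ _, Fin.ext rfl⟩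
      have hlt : Fin.castLE hp b < a := by
        rw [Fin.lt_def]
        simp only [Fin.val_castLE]
        exact lt_of_lt_of_le b.2 hpa
      rw [hu0 a _ hlt, mul_zero]
    rw [← hsub, Finset.sum_map]
    apply Finset.sum_congr rfl
    intro a _
    simp only [Fin.castLEEmb_apply]
    ring
  have hT : T.det = ∏ i : Fin p, d (Fin.castLE hp i) := by
    have htri : T.BlockTriangular id := by
      intro a b hab
      simp only [T, Matrix.of_apply]
      have hlt : Fin.castLE hp b < Fin.castLE hp a := by
        rw [Fin.lt_def]
        simp only [Fin.val_castLE]
        exact hab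
      rw [hu0 _ _ hlt, mul_zero]
    rw [Matrix.det_of_isUpperTriangular htri]
    apply Finset.prod_congr rfl
    intro a _
    simp only [T, Matrix.of_apply, hu1, mul_one]
  rw [hmat, Matrix.det_mul, hT, mul_comm]

end Groth.Agent.S11239
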