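import Groth.Statements.S4667
import Mathlib

set_option autoImplicit false
open CategoryTheory AlgebraicGeometry
universe u
open FDesc

namespace Groth.Agent.S4667

open CategoryTheory.Limits in
theorem ker_toImage_eq_bot {X Y : Scheme.{u}} (f : X ⟶ Y) [QuasiCompact f] :
    f.toImage.ker = ⊥ := by
  refine Scheme.IdealSheafData.ext_of_iSup_eq_top
    (fun U : Y.affineOpens => ⟨f.imageι ⁻¹ᵁ U.1, U.2.preimage f.imageι⟩) ?_ ?_
  · refine eq_top_iff.mpr fun z _ => ?_
    obtain ⟨_, ⟨U, hU, rfl⟩, hzU, -⟩ := Y.isBasis_affineOpens.exists_subset_of_mem_open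
      (Set.mem_univ (f.imageι z)) isOpen_univ
    exact TopologicalSpace.Opens.mem_iSup.mpr ⟨⟨U, hU⟩, hzU⟩
  · intro U
    rw [Scheme.Hom.ker_apply, Scheme.IdealSheafData.ideal_bot, Pi.bot_apply]
    exact (RingHom.injective_iff_ker_eq_bot _).mp (f.toImage_app_injective U)

open CategoryTheory.Limits in
theorem main {X Y Y' : Scheme.{u}} (f : X ⟶ Y) (g : Y' ⟶ Y) [QuasiCompact f] [Flat g] :
    (pullback.snd f g).ker = f.ker.comap g := by
  apply le_antisymm
  · have : IsSchemeTheoreticallyDominant f.toImage := ⟨ker_toImage_eq_bot f⟩
    have hφ1 : pullback.lift (pullback.snd f g) (pullback.fst f g ≫ f.toImage)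
        (by rw [Category.assoc, f.toImage_imageι, pullback.condition]) ≫
        pullback.fst g f.imageι = pullback.snd f g := pullback.lift_fst _ _ _
    have hφ2 : pullback.lift (pullback.snd f g) (pullback.fst f g ≫ f.toImage)
        (by rw [Category.assoc, f.toImage_imageι, pullback.condition]) ≫
        pullback.snd g f.imageι = pullback.fst f g ≫ f.toImage := pullback.lift_snd _ _ _
    have hpb : IsPullback (pullback.lift (pullback.snd f g) (pullback.fst f g ≫ f.toImage)
        (by rw [Category.assoc, f.toImage_imageι, pullback.condition]))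
        (pullback.fst f g) (pullback.snd g f.imageι) f.toImage := by
      refine IsPullback.of_right ?_ hφ2 (IsPullback.of_hasPullback g f.imageι)
      rw [hφ1, f.toImage_imageι]
      exact (IsPullback.of_hasPullback f g).flip
    have hstd : IsSchemeTheoreticallyDominant
        (pullback.lift (pullback.snd f g) (pullback.fst f g ≫ f.toImage)
        (by rw [Category.assoc, f.toImage_imageι, pullback.condition])) :=
      IsSchemeTheoreticallyDominant.of_isPullback hpb.flip
    rw [← hφ1, Scheme.Hom.ker_comp, Scheme.Hom.ker_eq_bot, Scheme.IdealSheafData.map_bot]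
    exact le_rfl
  · rw [← Scheme.IdealSheafData.le_map_iff_comap_le, ← Scheme.Hom.ker_comp, ← pullback.condition]
    exact Scheme.Hom.le_ker_comp _ _

open CategoryTheory.Limits in
/-- Let f : X → Y be a quasi-compact morphism of schemes and g : Y' → Y a flat morphism, and let f' : X
×_Y Y' → Y' be the base change of f. Then the scheme-theoretic image of f' is the inverse image
under g of the scheme-theoretic image of f: the quasi-coherent ideal sheaf cutting out the former is
the pull-back along g of the one cutting out the latter. (One published statement is phrased for a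
quasi-compact and quasi-separated S-morphism f and a flat base change S′ → S, which reduces to this
case; quasi-compactness of f suffices.) -/
theorem result {X Y Y' : Scheme.{u}} (f : X ⟶ Y) (g : Y' ⟶ Y)
    [QuasiCompact f] [Flat g] :
    (pullback.snd f g).ker = f.ker.comap g := by
  exact main f g

end Groth.Agent.S4667
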