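import Groth.Statements.S1124
import Mathlib
import Groth.Agent.S4667

set_option autoImplicit false
open CategoryTheory CategoryTheory.Limits AlgebraicGeometry Opposite
universe u
open Desc

namespace Groth.Agent.S1124

section Helpers
open MorphismProperty

theorem qc_of_pullback {X Y Z : Scheme.{u}} (f : X ⟶ Z) (g : Y ⟶ Z) [Surjective f] [QuasiCompact f]
    [QuasiCompact (pullback.fst f g)] : QuasiCompact g := by
  constructor
  intro U hU hUc
  have h1 : IsCompact (f ⁻¹' U) := QuasiCompact.isCompact_preimage (f := f) U hU hUc
  have h2 : IsCompact ((pullback.fst f g) ⁻¹' (f ⁻¹' U)) :=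
    QuasiCompact.isCompact_preimage (f := pullback.fst f g) _ (hU.preimage f.continuous) h1
  have heq : g ⁻¹' U = (pullback.snd f g) '' ((pullback.fst f g) ⁻¹' (f ⁻¹' U)) := by
    have hcomm : ∀ z, f ((pullback.fst f g) z) = g ((pullback.snd f g) z) := by
      intro z
      rw [← Scheme.Hom.comp_apply, ← Scheme.Hom.comp_apply, pullback.condition]
    ext y
    constructor
    · intro hy
      obtain ⟨z, rfl⟩ := (pullback.snd f g).surjective y
      refine ⟨z, ?_, rfl⟩
      simp only [Set.mem_preimage] at hy ⊢
      rw [hcomm]; exact hy
    · rintro ⟨z, hz, rfl⟩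
      simp only [Set.mem_preimage] at hz ⊢
      rw [← hcomm]; exact hz
  rw [heq]
  exact h2.image (pullback.snd f g).continuous

theorem toImage_isOpenImmersion {X Y Z : Scheme.{u}} (f : X ⟶ Z) (g : Y ⟶ Z)
    (hf : (@Surjective ⊓ @Flat ⊓ @QuasiCompact : MorphismProperty Scheme.{u}) f)
    [QuasiCompact g] [IsImmersion (pullback.snd g f)] [QuasiCompact (pullback.snd g f)] :
    IsOpenImmersion g.toImage := by
  have hflat : Flat f := hf.1.2
  have hc : pullback.snd g f ≫ f = (pullback.fst g f ≫ g.toImage) ≫ g.imageι := by
    rw [Category.assoc, g.toImage_imageι, pullback.condition]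
  have hφ1 : pullback.lift (pullback.snd g f) (pullback.fst g f ≫ g.toImage) hc ≫
      pullback.fst f g.imageι = pullback.snd g f := pullback.lift_fst _ _ _
  have hφ2 : pullback.lift (pullback.snd g f) (pullback.fst g f ≫ g.toImage) hc ≫
      pullback.snd f g.imageι = pullback.fst g f ≫ g.toImage := pullback.lift_snd _ _ _
  have hpb : IsPullback (pullback.lift (pullback.snd g f) (pullback.fst g f ≫ g.toImage) hc)
      (pullback.fst g f) (pullback.snd f g.imageι) g.toImage := by
    refine IsPullback.of_right ?_ hφ2 (IsPullback.of_hasPullback f g.imageι)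
    rw [hφ1, g.toImage_imageι]
    exact (IsPullback.of_hasPullback g f).flip
  -- kernels agree
  have hker : (pullback.fst f g.imageι).ker = (pullback.snd g f).imageι.ker := by
    rw [Scheme.IdealSheafData.ker_fst_of_isClosedImmersion g.imageι f]
    rw [Scheme.Hom.imageι, Scheme.IdealSheafData.ker_subschemeι]
    rw [Scheme.Hom.imageι, Scheme.IdealSheafData.ker_subschemeι]
    exact (Groth.Agent.S4667.main g f).symm
  have hiso : IsIso (IsClosedImmersion.lift (pullback.fst f g.imageι) (pullback.snd g f).imageι
      hker.le) := IsClosedImmersion.isIso_lift _ _ hker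
  have hφeq : pullback.lift (pullback.snd g f) (pullback.fst g f ≫ g.toImage) hc =
      (pullback.snd g f).toImage ≫
        IsClosedImmersion.lift (pullback.fst f g.imageι) (pullback.snd g f).imageι hker.le := by
    rw [← cancel_mono (pullback.fst f g.imageι), hφ1, Category.assoc,
      IsClosedImmersion.lift_fac, Scheme.Hom.toImage_imageι]
  have hopen : IsOpenImmersion
      (pullback.lift (pullback.snd g f) (pullback.fst g f ≫ g.toImage) hc) := by
    rw [hφeq]; infer_instance
  exact of_isPullback_of_descendsAlong (P := @IsOpenImmersion)
    (Q := (@Surjective ⊓ @Flat ⊓ @QuasiCompact : MorphismProperty Scheme.{u})) hpb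
    (MorphismProperty.pullback_snd _ _ hf) hopen

theorem main : MorphismProperty.DescendsAlong
    (@IsImmersion ⊓ @QuasiCompact : MorphismProperty Scheme.{u})
    (@Surjective ⊓ @Flat ⊓ @QuasiCompact : MorphismProperty Scheme.{u}) := by
  apply MorphismProperty.DescendsAlong.mk'
  intro X Y Z f g _ hf hfst
  have hsurj : Surjective f := hf.1.1
  have hqcf : QuasiCompact f := hf.2
  have h1 : IsImmersion (pullback.fst f g) := hfst.1
  have h2 : QuasiCompact (pullback.fst f g) := hfst.2
  have hqc : QuasiCompact g := qc_of_pullback f g
  have e : (pullbackSymmetry g f).hom ≫ pullback.fst f g = pullback.snd g f :=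
    pullbackSymmetry_hom_comp_fst g f
  have h1' : IsImmersion (pullback.snd g f) := by rw [← e]; infer_instance
  have h2' : QuasiCompact (pullback.snd g f) := by rw [← e]; infer_instance
  have hopen := toImage_isOpenImmersion f g hf
  refine ⟨?_, hqc⟩
  change IsImmersion g
  rw [← g.toImage_imageι]
  infer_instance

end Helpers

/-- If the base change of a morphism of schemes along a quasi-compact, flat, surjective morphism is a
quasi-compact immersion, then the morphism itself is a quasi-compact immersion. (Stated for a single
quasi-compact flat surjective base change; together with Zariski-locality on the target this is fpqc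
descent for quasi-compact immersions.) -/
theorem result :
    MorphismProperty.DescendsAlong (@IsImmersion ⊓ @QuasiCompact : MorphismProperty Scheme.{u})
      (@Surjective ⊓ @Flat ⊓ @QuasiCompact : MorphismProperty Scheme.{u}) := by
  exact main

end Groth.Agent.S1124
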