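import Groth.Statements.S11240
import Mathlib.LinearAlgebra.Matrix.Transvection
import Mathlib.Tactic

set_option autoImplicit false
universe u
open AGF

namespace Groth.Agent.S11240

/-- For a single root subgroup: let k be an algebraically closed field and X = (x_ab) the generic n × m
matrix over the polynomial ring k[x_ab]. Let i ≠ j be row indices and let I (rows) and J (columns)
be strictly increasing sequences of length p. The minor of X with rows I and columns J is invariant
under replacing X by (1 + b·E_ij)·X for every b ∈ k (the one-parameter unipotent group adding b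
times row j to row i) if and only if j occurs in I whenever i does. (The published statement gives
the criterion for the group generated by several such root subgroups, which is the conjunction of
these.) -/
theorem result (k : Type u) [Field k] [IsAlgClosed k] (n m p : ℕ)
    (i j : Fin n) (hij : i ≠ j) (I : Fin p ↪o Fin n) (J : Fin p ↪o Fin m) :
    (∀ b : k, ((Matrix.transvection i j (MvPolynomial.C b) *
        (Matrix.of fun a c => (MvPolynomial.X (a, c) : MvPolynomial (Fin n × Fin m) k))).submatrix I J).det =
        ((Matrix.of fun a c => (MvPolynomial.X (a, c) : MvPolynomial (Fin n × Fin m) k)).submatrix I J).det) ↔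
      (i ∈ Set.range I → j ∈ Set.range I) := by
  classical
  set X : Matrix (Fin n) (Fin m) (MvPolynomial (Fin n × Fin m) k) :=
    Matrix.of fun a c => MvPolynomial.X (a, c) with hX
  have hentry : ∀ (b : k) (a : Fin n) (c : Fin m),
      (Matrix.transvection i j (MvPolynomial.C b) * X :
        Matrix (Fin n) (Fin m) (MvPolynomial (Fin n × Fin m) k)) a c =
        X a c + (if a = i then MvPolynomial.C b * X j c else 0) := by
    intro b a c
    unfold Matrix.transvection
    rw [Matrix.add_mul, Matrix.one_mul, Matrix.add_apply]
    congr 1
    by_cases h : a = i
    · subst h; rw [if_pos rfl, Matrix.single_mul_apply_same]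
    · rw [if_neg h, Matrix.single_mul_apply_of_ne (h := h)]
  constructor
  · intro hall hi
    obtain ⟨s₀, hs₀⟩ := hi
    by_contra hj
    set r : Fin p → Fin n := Function.update (⇑I) s₀ j with hr
    have hrinj : Function.Injective r := by
      intro s t hst
      by_cases hs : s = s₀
      · by_cases ht : t = s₀
        · rw [hs, ht]
        · exfalso
          rw [hr, hs, Function.update_self, Function.update_of_ne ht] at hst
          exact hj ⟨t, hst.symm⟩
      · by_cases ht : t = s₀
        · exfalso
          rw [hr, ht, Function.update_self, Function.update_of_ne hs] at hst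
          exact hj ⟨s, hst⟩
        · rw [hr, Function.update_of_ne hs, Function.update_of_ne ht] at hst
          exact I.injective hst
    have h1 := hall 1
    set N := X.submatrix I J with hN
    have hupd : (Matrix.transvection i j (MvPolynomial.C (1:k)) * X).submatrix I J =
        N.updateRow s₀ (N s₀ + fun t => X j (J t)) := by
      ext s t
      rw [Matrix.submatrix_apply, hentry]
      by_cases hs : s = s₀
      · rw [hs, Matrix.updateRow_self, if_pos hs₀, map_one, one_mul]; rfl
      · have : I s ≠ i := fun h => hs (I.injective (h.trans hs₀.symm))
        rw [Matrix.updateRow_ne hs, if_neg this, add_zero]; rfl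
    rw [hupd, Matrix.det_updateRow_add, Matrix.updateRow_eq_self] at h1
    have hzero : (N.updateRow s₀ fun t => X j (J t)).det = 0 := by
      have h1' : N.det + (N.updateRow s₀ fun t => X j (J t)).det = N.det + 0 := by
        rw [h1, add_zero]
      exact add_left_cancel h1'
    have hsub : N.updateRow s₀ (fun t => X j (J t)) = X.submatrix r J := by
      ext s t
      by_cases hs : s = s₀
      · rw [hs, Matrix.updateRow_self, Matrix.submatrix_apply, hr, Function.update_self]
      · rw [Matrix.updateRow_ne hs, Matrix.submatrix_apply, hr, Function.update_of_ne hs]; rfl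
    rw [hsub] at hzero
    set ev : MvPolynomial (Fin n × Fin m) k →+* k :=
      (MvPolynomial.eval fun ac : Fin n × Fin m =>
        if ∃ s, r s = ac.1 ∧ J s = ac.2 then (1:k) else 0) with hev
    have h2 := congrArg ev hzero
    rw [RingHom.map_det, map_zero] at h2
    have h3 : ev.mapMatrix (X.submatrix r J) = 1 := by
      ext s t
      simp only [RingHom.mapMatrix_apply, Matrix.map_apply, Matrix.submatrix_apply, hX,
        Matrix.of_apply, hev, MvPolynomial.eval_X]
      rw [Matrix.one_apply]
      by_cases hst : s = t
      · rw [if_pos hst, if_pos ⟨s, rfl, by rw [hst]⟩]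
      · rw [if_neg hst, if_neg]
        rintro ⟨s', h1', h2'⟩
        exact hst ((hrinj h1').symm.trans (J.injective h2'))
    rw [h3, Matrix.det_one] at h2
    exact one_ne_zero h2
  · intro himp b
    by_cases hi : i ∈ Set.range I
    · obtain ⟨s₀, hs₀⟩ := hi
      obtain ⟨s₁, hs₁⟩ := himp ⟨s₀, hs₀⟩
      have hne : s₀ ≠ s₁ := by
        intro h; apply hij; rw [← hs₀, ← hs₁, h]
      have hmul : (Matrix.transvection i j (MvPolynomial.C b) * X).submatrix I J =
          Matrix.transvection s₀ s₁ (MvPolynomial.C b) * X.submatrix I J := by
        ext s t
        unfold Matrix.transvection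
        rw [Matrix.submatrix_apply, Matrix.add_mul, Matrix.one_mul, Matrix.add_apply,
          Matrix.add_mul, Matrix.one_mul, Matrix.add_apply, Matrix.submatrix_apply]
        congr 1
        by_cases hs : s = s₀
        · rw [hs, hs₀, Matrix.single_mul_apply_same, Matrix.single_mul_apply_same,
            Matrix.submatrix_apply, hs₁]
        · have : I s ≠ i := fun h => hs (I.injective (h.trans hs₀.symm))
          rw [Matrix.single_mul_apply_of_ne (h := this), Matrix.single_mul_apply_of_ne (h := hs)]
      rw [hmul, Matrix.det_mul, Matrix.det_transvection_of_ne _ _ hne, one_mul]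
    · congr 1
      ext s t
      rw [Matrix.submatrix_apply, hentry, if_neg, add_zero]; rfl
      intro h; exact hi ⟨s, h⟩

end Groth.Agent.S11240
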