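import Groth.Statements.S11243
import Mathlib.LinearAlgebra.RootSystem.Reduced
import Mathlib.LinearAlgebra.RootSystem.Finite.Lemmas
import Mathlib.Tactic

set_option autoImplicit false
universe u v w
open RootD

namespace Groth.Agent.S11243

open Module in
/-- Positive elements for a base are non-negative combinations of the simple ones. -/
lemma exists_nonneg_rep {ι : Type*} {M N : Type*} [Fintype ι] [AddCommGroup M] [AddCommGroup N]
    (P : RootPairing ι ℤ M N) (b : P.Base) (i : ι) (hi : b.IsPos i) :
    ∃ f : ι → ℤ, (∀ j, 0 ≤ f j) ∧ P.root i = ∑ j ∈ b.support, f j • P.root j ∧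
      0 < ∑ j ∈ b.support, f j := by
  obtain ⟨f, hf₀, hf₁, hf₂⟩ := b.exists_root_eq_sum_int i
  have hh : b.height i = ∑ j ∈ b.support, f j := RootPairing.Base.height_eq_sum hf₂
  rw [RootPairing.Base.isPos_iff, hh] at hi
  rcases hf₁ with pos | neg
  · exact ⟨f, fun j => pos.le j, hf₂, hi⟩
  · exfalso
    have : ∑ j ∈ b.support, f j ≤ 0 := Finset.sum_nonpos fun j _ => neg.le j
    omega

/-- (b), for a connected group, as a statement about its root datum: let P be a finite reduced
crystallographic root pairing over ℤ with weight lattice M, and b a base of P (simple roots,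
determining the positive roots). Then there is an additive map h : M → ℤ which is positive on every
positive root (so that h strictly increases along the dominance order) and non-negative on every
dominant weight, i.e. on every ω ∈ M pairing non-negatively with all simple coroots. (Part (c),
invariance under the component group of a disconnected group, is not stated.) -/
theorem result {ι : Type u} {M : Type v} {N : Type w}
    [Fintype ι] [AddCommGroup M] [AddCommGroup N]
    (P : RootPairing ι ℤ M N) [P.IsReduced] [P.IsCrystallographic] (b : P.Base) :
    ∃ h : M →+ ℤ, (∀ i : ι, b.IsPos i → 0 < h (P.root i)) ∧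
      ∀ ω : M, (∀ j ∈ b.support, 0 ≤ P.toLinearMap ω (P.coroot j)) → 0 ≤ h ω := by
  classical
  have : Module.IsReflexive ℤ N := .of_isPerfPair P.flip.toLinearMap
  have : Module.IsReflexive ℤ M := .of_isPerfPair P.toLinearMap
  have hredflip : P.flip.IsReduced := inferInstance
  have hcrysflip : P.flip.IsCrystallographic := inferInstance
  let bf : P.flip.Base := b.flip
  let Pos : Finset ι := Finset.univ.filter fun i => bf.IsPos i
  have hmemPos : ∀ i, i ∈ Pos ↔ bf.IsPos i := fun i => by
    simp only [Pos, Finset.mem_filter, Finset.mem_univ, true_and]
  let h : M →+ ℤ := AddMonoidHom.mk' (fun ω => ∑ i ∈ Pos, P.toLinearMap ω (P.coroot i))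
    (by intro x y; simp [Finset.sum_add_distrib])
  have h_apply : ∀ ω, h ω = ∑ i ∈ Pos, P.toLinearMap ω (P.coroot i) := fun ω => rfl
  -- value on simple roots
  have hsimple : ∀ j ∈ b.support, h (P.root j) = 2 := by
    intro j hj
    have hjs : j ∈ bf.support := hj
    have hjPos : j ∈ Pos := (hmemPos j).mpr (RootPairing.Base.isPos_of_mem_support (b := bf) hjs)
    rw [h_apply, ← Finset.add_sum_erase Pos _ hjPos, P.root_coroot_two]
    have hnegj : ¬ bf.IsPos (P.reflectionPerm j j) := by
      have h1 : bf.height (P.flip.reflectionPerm j j) = -bf.height j :=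
        bf.height_reflectionPerm_self j
      have h2 : bf.height j = 1 := RootPairing.Base.height_one_of_mem_support hjs
      intro h3
      rw [RootPairing.Base.isPos_iff] at h3
      have h4 : bf.height (P.reflectionPerm j j) = -1 := by rw [← h2]; exact h1
      omega
    have hzero : ∑ i ∈ Pos.erase j, P.toLinearMap (P.root j) (P.coroot i) = 0 := by
      apply Finset.sum_involution (fun i _ => P.reflectionPerm j i)
      · intro i _
        have h1 := P.pairing_reflectionPerm j j i
        rw [P.pairing_reflectionPerm_self_left] at h1
        show P.pairing j i + P.pairing j (P.reflectionPerm j i) = 0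
        rw [h1]; ring
      · intro i _ hne heq
        apply hne
        have h1 := P.pairing_reflectionPerm j j i
        rw [P.pairing_reflectionPerm_self_left, heq] at h1
        show P.pairing j i = 0
        omega
      · intro i hi
        rw [Finset.mem_erase, hmemPos] at hi ⊢
        obtain ⟨hij, hipos⟩ := hi
        refine ⟨?_, ?_⟩
        · intro heq
          have h1 : i = P.reflectionPerm j j := by
            have h5 := P.reflectionPerm_self j i
            rw [heq] at h5
            exact h5.symm
          rw [h1] at hipos
          exact hnegj hipos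
        · exact RootPairing.Base.IsPos.reflectionPerm (P := P.flip) hipos hjs hij
      · intro i _
        exact P.reflectionPerm_self j i
    rw [hzero, add_zero]
  refine ⟨h, ?_, ?_⟩
  · intro i hi
    obtain ⟨f, hf, hrep, hsum⟩ := exists_nonneg_rep P b i hi
    rw [hrep, map_sum]
    have h1 : ∀ j ∈ b.support, h (f j • P.root j) = f j * 2 := by
      intro j hj
      rw [map_zsmul, hsimple j hj, smul_eq_mul]
    rw [Finset.sum_congr rfl h1, ← Finset.sum_mul]
    omega
  · intro ω hω
    rw [h_apply]
    apply Finset.sum_nonneg
    intro i hi
    rw [hmemPos] at hi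
    obtain ⟨f, hf, hrep, -⟩ := exists_nonneg_rep P.flip bf i hi
    have hrep' : P.coroot i = ∑ j ∈ b.support, f j • P.coroot j := hrep
    rw [hrep', map_sum]
    apply Finset.sum_nonneg
    intro j hj
    rw [map_zsmul, smul_eq_mul]
    exact mul_nonneg (hf j) (hω j hj)

end Groth.Agent.S11243
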