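import Groth.Statements.S1125
import Mathlib
import Groth.Agent.S0083

set_option autoImplicit false
open CategoryTheory CategoryTheory.Limits AlgebraicGeometry Opposite
universe u
open Desc

namespace Groth.Agent.S1125

section Helpers
open MorphismProperty

theorem main : MorphismProperty.DescendsAlong (@IsImmersion : MorphismProperty Scheme.{u})
    (@Surjective ⊓ @Flat ⊓ @LocallyOfFinitePresentation : MorphismProperty Scheme.{u}) := by
  haveI := Groth.Agent.S0083.result.{u}
  haveI hci : MorphismProperty.DescendsAlong @IsClosedImmersion
      (@Surjective ⊓ @Flat ⊓ @LocallyOfFinitePresentation : MorphismProperty Scheme.{u}) :=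
    inferInstance
  apply MorphismProperty.DescendsAlong.mk'
  intro X Y Z f g _ hf hfst
  have hsurj : Surjective f := hf.1.1
  have hflat : Flat f := hf.1.2
  have hlfp : LocallyOfFinitePresentation f := hf.2
  have himm : IsImmersion (pullback.fst f g) := hfst
  have hopen : IsOpenMap f := f.isOpenMap
  have hrange : Set.range (pullback.fst f g) = f ⁻¹' Set.range g :=
    Scheme.Pullback.range_fst f g
  have hlc : IsLocallyClosed (Set.range g) := by
    rw [isLocallyClosed_iff_isOpen_coborder]
    have hq : Topology.IsQuotientMap f := hopen.isQuotientMap f.continuous f.surjective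
    rw [← hq.isOpen_preimage, ← coborder_preimage hopen f.continuous, ← hrange]
    exact (pullback.fst f g).isLocallyClosed_range.isOpen_coborder
  -- the open `U`
  obtain ⟨U, hU⟩ : ∃ U : Z.Opens, (U : Set Z) = coborder (Set.range g) :=
    ⟨⟨coborder (Set.range g), hlc.isOpen_coborder⟩, rfl⟩
  have hgU : Set.range g ⊆ (U : Set Z) := hU ▸ subset_coborder
  have hsub : Set.range g ⊆ Set.range U.ι := by rw [Scheme.Opens.range_ι]; exact hgU
  have hfac : IsOpenImmersion.lift U.ι g hsub ≫ U.ι = g := IsOpenImmersion.lift_fac _ _ _
  obtain ⟨gU, hgU_fac⟩ : ∃ gU : Y ⟶ U, gU ≫ U.ι = g := ⟨_, hfac⟩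
  -- range of `gU` is closed
  have hrU : Set.range gU = (U.ι : U → Z) ⁻¹' Set.range g := by
    ext y
    constructor
    · rintro ⟨a, rfl⟩
      exact ⟨a, by rw [← hgU_fac, Scheme.Hom.comp_apply]⟩
    · rintro ⟨a, ha⟩
      refine ⟨a, U.ι.isEmbedding.injective ?_⟩
      rw [← Scheme.Hom.comp_apply, hgU_fac, ha]
  have hclosed : IsClosed (Set.range gU) := by
    rw [hrU]
    have hpre : (U.ι : U → Z) ⁻¹' Set.range g = (U.ι : U → Z) ⁻¹' closure (Set.range g) := by
      ext y
      constructor
      · intro hy; exact subset_closure hy
      · intro hy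
        have hyU : U.ι y ∈ Set.range U.ι := ⟨y, rfl⟩
        rw [Scheme.Opens.range_ι, hU] at hyU
        have h2 : U.ι y ∈ coborder (Set.range g) ∩ closure (Set.range g) := ⟨hyU, hy⟩
        rw [coborder_inter_closure] at h2
        exact h2
    rw [hpre]
    exact isClosed_closure.preimage U.ι.continuous
  have hfU : (@Surjective ⊓ @Flat ⊓ @LocallyOfFinitePresentation : MorphismProperty Scheme.{u})
      (pullback.snd f U.ι) := MorphismProperty.pullback_snd _ _ hf
  have himm2 : IsImmersion (pullback.fst f (gU ≫ U.ι)) := by rw [hgU_fac]; exact himm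
  have himm3 : IsImmersion (pullback.fst (pullback.snd f U.ι) gU ≫ pullback.fst f U.ι) := by
    rw [← pullbackLeftPullbackSndIso_hom_fst]; infer_instance
  have himm4 : IsImmersion (pullback.fst (pullback.snd f U.ι) gU) :=
    IsImmersion.of_comp _ (pullback.fst f U.ι)
  have hcl : IsClosed (Set.range (pullback.fst (pullback.snd f U.ι) gU)) := by
    rw [Scheme.Pullback.range_fst]; exact hclosed.preimage (pullback.snd f U.ι).continuous
  have hci' : IsClosedImmersion (pullback.fst (pullback.snd f U.ι) gU) :=
    .of_isPreimmersion _ hcl
  have hgUci : IsClosedImmersion gU :=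
    of_pullback_fst_of_descendsAlong (P := @IsClosedImmersion)
      (Q := (@Surjective ⊓ @Flat ⊓ @LocallyOfFinitePresentation : MorphismProperty Scheme.{u}))
      hfU hci'
  change IsImmersion g
  rw [← hgU_fac]
  infer_instance

end Helpers

/-- If the base change of a morphism along a flat, surjective morphism locally of finite presentation is
an immersion, then the morphism is an immersion. (Single-cover form of the fppf-local statement;
Zariski-locality on the target gives the covering form.) -/
theorem result :
    MorphismProperty.DescendsAlong (@IsImmersion : MorphismProperty Scheme.{u})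
      (@Surjective ⊓ @Flat ⊓ @LocallyOfFinitePresentation : MorphismProperty Scheme.{u}) := by
  exact main

end Groth.Agent.S1125
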