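import Groth.Statements.S11257
import Groth.Agent.H13.RegSub
import Groth.Agent.H29.Depth
import Groth.Agent.H29.DepthLib

set_option autoImplicit false
universe u
open W4bk4grassmannian

namespace Groth.Agent.S11257

/-- Let A be a Noetherian local integral domain with maximal ideal m, I and J ideals of A, d ≥ 1, and
f_1, …, f_d ∈ m. Assume depth A/(I+J) ≥ d - 1, depth A/I ≥ d and depth A/J ≥ d (depths of the
quotients as A-modules), that f_1, …, f_d is a regular sequence on A/I and on A/J, and that f_1, …,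
f_{d-1} is a regular sequence on A/(I+J). Then f_1, …, f_d is a regular sequence on A/(I ∩ J). -/
theorem result (A : Type u) [CommRing A] [IsDomain A]
    [IsNoetherianRing A] [IsLocalRing A] (I J : Ideal A) (d : ℕ) (hd : 0 < d) (f : Fin d → A)
    (hf : ∀ k, f k ∈ IsLocalRing.maximalIdeal A)
    (hIJd : ((d - 1 : ℕ) : ℕ∞) ≤ LocCoh.depth A (A ⧸ (I ⊔ J)))
    (hId : (d : ℕ∞) ≤ LocCoh.depth A (A ⧸ I)) (hJd : (d : ℕ∞) ≤ LocCoh.depth A (A ⧸ J))
    (hI : RingTheory.Sequence.IsRegular (A ⧸ I) (List.ofFn f))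
    (hJ : RingTheory.Sequence.IsRegular (A ⧸ J) (List.ofFn f))
    (hIJ : RingTheory.Sequence.IsRegular (A ⧸ (I ⊔ J)) ((List.ofFn f).take (d - 1))) :
    RingTheory.Sequence.IsRegular (A ⧸ (I ⊓ J)) (List.ofFn f) := by
  classical
  open Groth.Agent.H13.RegSub RingTheory.Sequence in
  have hprod : IsWeaklyRegular ((A ⧸ I) × (A ⧸ J)) (List.ofFn f) :=
    Groth.Agent.H29.isWeaklyRegular_of_exact (List.ofFn f)
      (LinearMap.inl A (A ⧸ I) (A ⧸ J)) (LinearMap.snd A (A ⧸ I) (A ⧸ J))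
      LinearMap.inl_injective
      (fun z => ⟨fun h => ⟨z.1, Prod.ext rfl h.symm⟩, by rintro ⟨x, rfl⟩; rfl⟩)
      LinearMap.snd_surjective hI.toIsWeaklyRegular hJ.toIsWeaklyRegular
  have hlen : (List.ofFn f).length = d := List.length_ofFn
  have hne : List.ofFn f ≠ [] := by
    intro h
    rw [h] at hlen
    simp at hlen
    omega
  have hdec : (List.ofFn f).take (d - 1) ++ [(List.ofFn f).getLast hne] = List.ofFn f := by
    have := List.dropLast_append_getLast hne
    rwa [List.dropLast_eq_take, hlen] at this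
  have hw : RingTheory.Sequence.IsWeaklyRegular (A ⧸ (I ⊓ J)) (List.ofFn f) := by
    rw [← hdec]
    refine Groth.Agent.H13.RegSub.isWeaklyRegular_sub _ _ (Groth.Agent.H13.RegSub.φ I J)
      (Groth.Agent.H13.RegSub.ψ I J) (Groth.Agent.H13.RegSub.φ_injective I J)
      (Groth.Agent.H13.RegSub.exact_φ_ψ I J) (Groth.Agent.H13.RegSub.ψ_surjective I J) ?_
      hIJ.toIsWeaklyRegular
    rw [hdec]
    exact hprod
  have hnI : Nontrivial (A ⧸ I) := hI.nontrivial
  have hItop : I ≠ ⊤ := Ideal.Quotient.nontrivial_iff.mp hnI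
  have hnIJ : Nontrivial (A ⧸ (I ⊓ J)) :=
    Ideal.Quotient.nontrivial_iff.mpr (fun h => hItop (top_le_iff.mp (h ▸ inf_le_left)))
  refine Groth.Agent.H29.isRegular_of_isWeaklyRegular_of_mem (IsLocalRing.maximalIdeal A)
    (A ⧸ (I ⊓ J)) (Groth.Agent.H29.maximalIdeal_smul_top_ne_top A (A ⧸ (I ⊓ J))) (List.ofFn f) hw ?_
  intro r hr
  rw [List.mem_ofFn] at hr
  obtain ⟨k, rfl⟩ := hr
  exact hf k

end Groth.Agent.S11257
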