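import Groth.Statements.S1126
import Mathlib

set_option autoImplicit false
open CategoryTheory CategoryTheory.Limits AlgebraicGeometry Opposite
universe u
open Desc

namespace Groth.Agent.S1126

theorem univHomeo_eq : FlatMor.IsUnivHomeo.{u} =
    (@UniversallyInjective ⊓ @UniversallyOpen ⊓ @Surjective : MorphismProperty Scheme.{u}) := by
  ext X Y f
  constructor
  · intro h
    refine ⟨⟨⟨?_⟩, ⟨?_⟩⟩, ?_⟩
    · exact MorphismProperty.universally_mono (fun _ _ g hg => hg.injective) _ h
    · exact MorphismProperty.universally_mono (fun _ _ g hg => hg.isOpenMap) _ h
    · have := MorphismProperty.universally_le _ _ h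
      exact ⟨this.surjective⟩
  · rintro ⟨⟨hi, ho⟩, hs⟩ X' Y' i₁ i₂ f' hpb
    have h1 := hi.universally_injective i₁ i₂ f' hpb
    have h2 := ho.universally_isOpenMap i₁ i₂ f' hpb
    have h3 : Surjective f' := MorphismProperty.of_isPullback (P := @Surjective) hpb.flip hs
    exact ⟨f'.continuous, h2, ⟨h1, h3.surj⟩⟩


/-- If the base change of a morphism along a quasi-compact flat surjective morphism to its target is a
universal homeomorphism, then the morphism is a universal homeomorphism. (Stated for a single
quasi-compact flat surjective base change; combined with Zariski-locality on the target this gives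
the fpqc-local form.) -/
theorem result :
    MorphismProperty.DescendsAlong (FlatMor.IsUnivHomeo.{u})
      (@Surjective ⊓ @Flat ⊓ @QuasiCompact : MorphismProperty Scheme.{u}) := by
  rw [univHomeo_eq]
  infer_instance

end Groth.Agent.S1126
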