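import Groth.Statements.S11262
import Mathlib

set_option autoImplicit false
universe u v
open W4bk4grassmannian

namespace Groth.Agent.S11262

open MvPolynomial

section
variable {K : Type u} [Field K] {L : Type v} [DistribLattice L]

def gensS (L : Type v) [DistribLattice L] : Set (L →₀ ℕ) :=
  {s | ∃ a b : L, ¬ a ≤ b ∧ ¬ b ≤ a ∧ s = Finsupp.single a 1 + Finsupp.single b 1}

def ChainSupp (d : L →₀ ℕ) : Prop := IsChain (fun a b : L => a ≤ b) (↑d.support : Set L)

noncomputable abbrev Iid (K : Type u) [Field K] (L : Type v) [DistribLattice L] : Ideal (MvPolynomial L K) :=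
  Ideal.span {f : MvPolynomial L K | ∃ a b : L, ¬ a ≤ b ∧ ¬ b ≤ a ∧ f = X a * X b}

lemma exists_gens_le_iff (d : L →₀ ℕ) : (∃ s ∈ gensS L, s ≤ d) ↔ ¬ ChainSupp d := by
  classical
  constructor
  · rintro ⟨s, ⟨a, b, hab, hba, rfl⟩, hle⟩ hch
    have hne : a ≠ b := fun h => hab (h ▸ le_refl a)
    have ha : a ∈ d.support := by
      rw [Finsupp.mem_support_iff]
      have h1 := hle a
      simp only [Finsupp.coe_add, Pi.add_apply, Finsupp.single_eq_same] at h1
      omega
    have hb : b ∈ d.support := by
      rw [Finsupp.mem_support_iff]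
      have h1 := hle b
      simp only [Finsupp.coe_add, Pi.add_apply, Finsupp.single_eq_same] at h1
      omega
    rcases hch (Finset.mem_coe.mpr ha) (Finset.mem_coe.mpr hb) hne with h | h
    exacts [hab h, hba h]
  · intro hch
    simp only [ChainSupp, IsChain, Set.Pairwise] at hch
    push Not at hch
    obtain ⟨a, ha, b, hb, hne, hab, hba⟩ := hch
    refine ⟨_, ⟨a, b, hab, hba, rfl⟩, ?_⟩
    intro c
    simp only [Finsupp.coe_add, Pi.add_apply, Finsupp.single_apply]
    have ha' : d a ≠ 0 := Finsupp.mem_support_iff.mp (Finset.mem_coe.mp ha)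
    have hb' : d b ≠ 0 := Finsupp.mem_support_iff.mp (Finset.mem_coe.mp hb)
    by_cases h1 : a = c
    · subst h1
      have h2 : ¬ b = a := fun h => hne h.symm
      rw [if_pos rfl, if_neg h2]; omega
    · by_cases h2 : b = c
      · subst h2; rw [if_neg h1, if_pos rfl]; omega
      · rw [if_neg h1, if_neg h2]; omega

lemma ideal_eq (K : Type u) [Field K] (L : Type v) [DistribLattice L] :
    Iid K L = Ideal.span ((fun s => monomial s (1:K)) '' gensS L) := by
  have hX : ∀ a b : L, (X a * X b : MvPolynomial L K)
      = monomial (Finsupp.single a 1 + Finsupp.single b 1) 1 := by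
    intro a b
    simp only [X, monomial_mul, mul_one]
  unfold Iid
  congr 1
  ext f
  constructor
  · rintro ⟨a, b, hab, hba, rfl⟩
    exact ⟨_, ⟨a, b, hab, hba, rfl⟩, (hX a b).symm⟩
  · rintro ⟨s, ⟨a, b, hab, hba, rfl⟩, rfl⟩
    exact ⟨a, b, hab, hba, (hX a b).symm⟩

lemma mem_I_iff {x : MvPolynomial L K} :
    x ∈ Iid K L ↔ ∀ d ∈ x.support, ¬ ChainSupp d := by
  rw [ideal_eq, mem_ideal_span_monomial_image]
  exact forall₂_congr fun d _ => exists_gens_le_iff d

lemma finrank_eq_card [Fintype L] (m : ℕ) (T : Finset (L →₀ ℕ))
    (hT : ∀ d, d ∈ T ↔ d.degree = m ∧ ChainSupp d) :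
    Module.finrank K ((homogeneousSubmodule L K m).map
        (Ideal.Quotient.mkₐ K (Iid K L)).toLinearMap) = T.card := by
  classical
  let w : T → MvPolynomial L K := fun d => monomial d.1 1
  have hw : LinearIndependent K w := by
    have := (basisMonomials L K).linearIndependent
    rw [coe_basisMonomials] at this
    exact this.comp (fun d : T => d.1) Subtype.val_injective
  have hsupp : ∀ x ∈ Submodule.span K (Set.range w), ∀ d ∈ x.support, d ∈ T := by
    intro x hx
    induction hx using Submodule.span_induction with
    | mem x hx =>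
      obtain ⟨d, rfl⟩ := hx
      intro e he
      have := support_monomial_subset he
      rw [Finset.mem_singleton] at this
      rw [this]; exact d.2
    | zero => intro d hd; simp at hd
    | add x y _ _ hx hy =>
      intro d hd
      rcases Finset.mem_union.mp (support_add hd) with h | h
      exacts [hx d h, hy d h]
    | smul a x _ hx =>
      intro d hd
      exact hx d (support_smul hd)
  have hdisj : Disjoint (Submodule.span K (Set.range w))
      (LinearMap.ker (Ideal.Quotient.mkₐ K (Iid K L)).toLinearMap) := by
    rw [Submodule.disjoint_def]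
    intro x hx hker
    have hxI : x ∈ Iid K L := by
      rw [LinearMap.mem_ker] at hker
      exact Ideal.Quotient.eq_zero_iff_mem.mp hker
    rw [mem_I_iff] at hxI
    rw [← support_eq_empty, Finset.eq_empty_iff_forall_notMem]
    intro d hd
    exact hxI d hd ((hT d).mp (hsupp x hx d hd)).2
  have hv : LinearIndependent K ((Ideal.Quotient.mkₐ K (Iid K L)).toLinearMap ∘ w) := hw.map hdisj
  have hspan : Submodule.span K (Set.range ((Ideal.Quotient.mkₐ K (Iid K L)).toLinearMap ∘ w))
      = (homogeneousSubmodule L K m).map (Ideal.Quotient.mkₐ K (Iid K L)).toLinearMap := by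
    apply le_antisymm
    · rw [Submodule.span_le]
      rintro _ ⟨d, rfl⟩
      refine ⟨w d, ?_, rfl⟩
      rw [SetLike.mem_coe, mem_homogeneousSubmodule]
      exact isHomogeneous_monomial 1 ((hT d.1).mp d.2).1
    · rintro _ ⟨p, hp, rfl⟩
      rw [SetLike.mem_coe, mem_homogeneousSubmodule] at hp
      rw [← support_sum_monomial_coeff p, map_sum]
      refine Submodule.sum_mem _ fun d hd => ?_
      have hdeg : d.degree = m := by
        by_contra h
        exact (mem_support_iff.mp hd) (hp.coeff_eq_zero h)
      have hmon : monomial d (coeff d p) = coeff d p • monomial d (1:K) := by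
        rw [smul_monomial, smul_eq_mul, mul_one]
      rw [hmon, map_smul]
      refine Submodule.smul_mem _ _ ?_
      by_cases hch : ChainSupp d
      · exact Submodule.subset_span ⟨⟨d, (hT d).mpr ⟨hdeg, hch⟩⟩, rfl⟩
      · have hmem : monomial d (1:K) ∈ Iid K L := by
          rw [mem_I_iff]
          intro e he
          have := support_monomial_subset he
          rw [Finset.mem_singleton] at this
          rw [this]; exact hch
        have h0 : (Ideal.Quotient.mkₐ K (Iid K L)).toLinearMap (monomial d (1:K)) = 0 :=
          Ideal.Quotient.eq_zero_iff_mem.mpr hmem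
        rw [h0]; exact Submodule.zero_mem _
  rw [← hspan, finrank_span_eq_card hv, Fintype.card_coe]

lemma count_support_eq [Fintype L] [DecidableEq L] (m : ℕ) (hm : 1 ≤ m) (C : Finset L)
    (hC : C.Nonempty) :
    ((Finset.univ.finsuppAntidiag m).filter (fun d : L →₀ ℕ => d.support = C)).card
      = Nat.choose (m - 1) (C.card - 1) := by
  classical
  have hCpos : 1 ≤ C.card := Finset.card_pos.mpr hC
  set eC : L →₀ ℕ := Finsupp.indicator C (fun _ _ => 1) with heC
  have heC_apply : ∀ a, eC a = if a ∈ C then 1 else 0 := by
    intro a; simp [heC, Finsupp.indicator_apply]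
  have hsum_eC : ∑ a, eC a = C.card := by
    simp [heC_apply]
  have hA : ∀ d : L →₀ ℕ,
      d ∈ (Finset.univ.finsuppAntidiag m).filter (fun d : L →₀ ℕ => d.support = C) ↔
      (∑ a, d a = m ∧ d.support = C) := by
    intro d; simp [Finset.mem_finsuppAntidiag]
  by_cases hle : C.card ≤ m
  · have hB : ∀ d : L →₀ ℕ, d ∈ C.finsuppAntidiag (m - C.card) ↔
        (∑ a ∈ C, d a = m - C.card ∧ d.support ⊆ C) := by
      intro d; exact Finset.mem_finsuppAntidiag
    have hcard : ((Finset.univ.finsuppAntidiag m).filter
        (fun d : L →₀ ℕ => d.support = C)).card = (C.finsuppAntidiag (m - C.card)).card := by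
      refine Finset.card_nbij' (fun d => d - eC) (fun d => d + eC) ?_ ?_ ?_ ?_
      · intro d hd
        beta_reduce
        rw [Finset.mem_coe, hA] at hd
        rw [Finset.mem_coe, hB]
        obtain ⟨hs, hsupp⟩ := hd
        have hge : ∀ a ∈ C, 1 ≤ d a := by
          intro a ha
          have : a ∈ d.support := hsupp ▸ ha
          exact Nat.one_le_iff_ne_zero.mpr (Finsupp.mem_support_iff.mp this)
        have hsumC : ∑ a ∈ C, d a = m := by
          rw [← hs]
          apply Finset.sum_subset (Finset.subset_univ _)
          intro a _ ha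
          rw [← hsupp] at ha
          exact Finsupp.notMem_support_iff.mp ha
        refine ⟨?_, ?_⟩
        · have h1 : ∑ a ∈ C, ((d - eC) a + 1) = ∑ a ∈ C, d a := by
            refine Finset.sum_congr rfl fun a ha => ?_
            rw [Finsupp.tsub_apply, heC_apply, if_pos ha]
            exact Nat.sub_add_cancel (hge a ha)
          rw [Finset.sum_add_distrib, Finset.sum_const, smul_eq_mul, mul_one, hsumC] at h1
          omega
        · intro a ha
          rw [Finsupp.mem_support_iff, Finsupp.tsub_apply] at ha
          have : d a ≠ 0 := fun h => ha (by rw [h]; exact Nat.zero_sub _)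
          rw [← hsupp]; exact Finsupp.mem_support_iff.mpr this
      · intro d hd
        beta_reduce
        rw [Finset.mem_coe, hB] at hd
        rw [Finset.mem_coe, hA]
        obtain ⟨hs, hsupp⟩ := hd
        refine ⟨?_, ?_⟩
        · have h2 : ∑ a, d a = ∑ a ∈ C, d a := by
            symm
            apply Finset.sum_subset (Finset.subset_univ _)
            intro a _ ha
            exact Finsupp.notMem_support_iff.mp (fun h => ha (hsupp h))
          simp only [Finsupp.add_apply, Finset.sum_add_distrib, h2, hs, hsum_eC]
          omega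
        · ext a
          rw [Finsupp.mem_support_iff, Finsupp.add_apply, heC_apply]
          by_cases ha : a ∈ C
          · simp [ha]
          · have : d a = 0 := Finsupp.notMem_support_iff.mp (fun h => ha (hsupp h))
            simp [ha, this]
      · intro d hd
        rw [Finset.mem_coe, hA] at hd
        obtain ⟨hs, hsupp⟩ := hd
        beta_reduce
        ext a
        simp only [Finsupp.add_apply, Finsupp.tsub_apply, heC_apply]
        by_cases ha : a ∈ C
        · have h3 : a ∈ d.support := hsupp ▸ ha
          have h4 := Finsupp.mem_support_iff.mp h3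
          rw [if_pos ha]; omega
        · rw [if_neg ha]; omega
      · intro d hd
        beta_reduce
        ext a
        simp only [Finsupp.add_apply, Finsupp.tsub_apply]
        omega
    rw [hcard, Finset.card_finsuppAntidiag_nat_eq_choose]
    have h1 : C.card + (m - C.card) - 1 = m - 1 := by omega
    have h2 : m - C.card = (m - 1) - (C.card - 1) := by omega
    rw [h1, h2, Nat.choose_symm (by omega)]
  · push Not at hle
    rw [Nat.choose_eq_zero_of_lt (by omega), Finset.card_eq_zero,
      Finset.eq_empty_iff_forall_notMem]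
    intro d hd
    rw [hA] at hd
    obtain ⟨hs, hsupp⟩ := hd
    have : C.card ≤ ∑ a, d a := by
      calc C.card = ∑ a ∈ C, 1 := by simp
        _ ≤ ∑ a ∈ C, d a := Finset.sum_le_sum fun a ha => by
            have : a ∈ d.support := hsupp ▸ ha
            exact Nat.one_le_iff_ne_zero.mpr (Finsupp.mem_support_iff.mp this)
        _ ≤ ∑ a, d a := Finset.sum_le_sum_of_subset (Finset.subset_univ _)
    omega

end

/-- Hilbert function of the Stanley–Reisner ring of a finite distributive lattice: let K be a field, L a
finite distributive lattice, R = K[x_α : α ∈ L], I ⊆ R the ideal generated by the products x_α x_β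
over the incomparable (skew) pairs α, β, and m ≥ 1. Then the image in R/I of the homogeneous
polynomials of degree m has K-dimension equal to the sum, over the nonempty chains C ⊆ L, of the
binomial coefficient (m - 1 choose |C| - 1). (The published statement is that the degree of R/I
equals the number of maximal chains of L; this row states the Hilbert function from which that
degree is read off.) -/
theorem result (K : Type u) [Field K] (L : Type v) [DistribLattice L]
    [Fintype L] (m : ℕ) (hm : 1 ≤ m) :
    Module.finrank K ((MvPolynomial.homogeneousSubmodule L K m).map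
        (Ideal.Quotient.mkₐ K (Ideal.span {f : MvPolynomial L K | ∃ a b : L, ¬ a ≤ b ∧ ¬ b ≤ a ∧
          f = MvPolynomial.X a * MvPolynomial.X b})).toLinearMap) =
      ∑ᶠ C : {C : Finset L // C.Nonempty ∧ IsChain (fun a b : L => a ≤ b) (↑C : Set L)},
        Nat.choose (m - 1) (C.1.card - 1) := by
  classical
  set T : Finset (L →₀ ℕ) :=
    (Finset.univ.finsuppAntidiag m).filter (fun d => ChainSupp d) with hTdef
  have hT : ∀ d : L →₀ ℕ, d ∈ T ↔ d.degree = m ∧ ChainSupp d := by
    intro d
    rw [hTdef, Finset.mem_filter, Finset.mem_finsuppAntidiag, Finsupp.degree_eq_sum]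
    simp
  refine (finrank_eq_card (K := K) m T hT).trans ?_
  set chains : Finset (Finset L) := Finset.univ.filter
    (fun C => C.Nonempty ∧ IsChain (fun a b : L => a ≤ b) (↑C : Set L)) with hchains
  have hmaps : (T : Set (L →₀ ℕ)).MapsTo (fun d => d.support) chains := by
    intro d hd
    rw [Finset.mem_coe, hT] at hd
    rw [Finset.mem_coe, hchains, Finset.mem_filter]
    refine ⟨Finset.mem_univ _, ?_, hd.2⟩
    rw [Finset.nonempty_iff_ne_empty]
    intro h
    rw [Finsupp.support_eq_empty] at h
    have h0 := hd.1
    rw [h, map_zero] at h0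
    omega
  have hR : (∑ᶠ C : {C : Finset L // C.Nonempty ∧ IsChain (fun a b : L => a ≤ b) (↑C : Set L)},
        Nat.choose (m - 1) (C.1.card - 1)) = ∑ C ∈ chains, Nat.choose (m - 1) (C.card - 1) := by
    rw [finsum_eq_sum_of_fintype]
    exact (Finset.sum_subtype chains (fun C => by rw [hchains, Finset.mem_filter]; simp)
      (fun C => Nat.choose (m - 1) (C.card - 1))).symm
  rw [hR, Finset.card_eq_sum_card_fiberwise hmaps]
  refine Finset.sum_congr rfl fun C hC => ?_
  rw [hchains, Finset.mem_filter] at hC
  rw [← count_support_eq m hm C hC.2.1]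
  congr 1
  ext d
  simp only [Finset.mem_filter, hTdef]
  constructor
  · rintro ⟨⟨h1, _⟩, h3⟩; exact ⟨h1, h3⟩
  · rintro ⟨h1, h3⟩
    refine ⟨⟨h1, ?_⟩, h3⟩
    unfold ChainSupp; rw [h3]; exact hC.2.2

end Groth.Agent.S11262
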