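import Groth.Statements.S11269
import Mathlib
import Groth.Agent.H29.SkLib
import Groth.Agent.H29.DepthLocal
import Groth.Agent.H29.CMLoc

set_option autoImplicit false
universe u
open W4bk4grassmannian

namespace Groth.Agent.S11269

/-- Let R be a Noetherian integral domain. Then R satisfies Serre's condition (S_2) (depth R_P ≥ min(2,
dim R_P) for all primes P) if and only if, for every nonzero a ∈ R, every associated prime of the
R-module R/(a) has height one. -/
theorem result (R : Type u) [CommRing R] [IsDomain R]
    [IsNoetherianRing R] :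
    LocCoh.HasSk 2 R R ↔
      ∀ a : R, a ≠ 0 → ∀ P : Ideal R, P ∈ associatedPrimes R (R ⧸ Ideal.span {a}) → P.height = 1 := by
  open Groth.Agent.H29 RingTheory.Sequence IsLocalRing Pointwise in
  have hdim : ∀ (p : Ideal R) [p.IsPrime],
      Module.supportDim (Localization.AtPrime p) (LocalizedModule p.primeCompl R) =
        ((p.height : ℕ∞) : WithBot ℕ∞) := by
    intro p _
    rw [Module.supportDim_eq_of_equiv
      ((IsLocalizedModule.linearEquiv p.primeCompl (LocalizedModule.mkLinearMap p.primeCompl R)
        (Algebra.linearMap R (Localization.AtPrime p))).extendScalarsOfIsLocalization p.primeCompl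
          (Localization.AtPrime p)), Module.supportDim_self_eq_ringKrullDim,
      IsLocalization.AtPrime.ringKrullDim_eq_height p (Localization.AtPrime p)]
  have heq : ∀ a : R, (a • (⊤ : Submodule R R)) = Ideal.span {a} := by
    intro a
    rw [← Submodule.ideal_span_singleton_smul, smul_eq_mul, Ideal.mul_top]
  have hassEq : ∀ a : R, associatedPrimes R (QuotSMulTop a R) =
      associatedPrimes R (R ⧸ Ideal.span {a}) :=
    fun a => LinearEquiv.AssociatedPrimes.eq (Submodule.quotEquivOfEq _ _ (heq a))
  have hregR : ∀ a : R, a ≠ 0 → IsSMulRegular R a := by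
    intro a ha x y h
    exact mul_left_cancel₀ ha h
  have hsupp : ∀ (p : Ideal R) [p.IsPrime],
      (⟨p, inferInstance⟩ : PrimeSpectrum R) ∈ Module.support R R := by
    intro p _
    rw [Module.mem_support_iff']
    refine ⟨1, fun r hr h0 => hr ?_⟩
    rw [smul_eq_mul, mul_one] at h0
    rw [h0]
    exact p.zero_mem
  constructor
  · intro hS a ha P hP
    haveI hPprime : P.IsPrime := hP.isPrime
    rw [← hassEq a] at hP
    have haP : a ∈ P := by
      apply annihilator_le_of_mem_associatedPrimes R (QuotSMulTop a R) P hP
      rw [Module.mem_annihilator]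
      intro m
      obtain ⟨r, rfl⟩ := Submodule.Quotient.mk_surjective _ m
      rw [← Submodule.Quotient.mk_smul, Submodule.Quotient.mk_eq_zero]
      exact Submodule.smul_mem_pointwise_smul r a ⊤ Submodule.mem_top
    have hge : (1 : ℕ∞) ≤ P.height := by
      rw [Order.one_le_iff_ne_zero, Ne, Ideal.height_eq_zero_iff_eq_bot]
      rintro rfl
      exact ha (by simpa using haP)
    haveI : Module.Flat R (Localization.AtPrime P) :=
      IsLocalization.flat (Localization.AtPrime P) P.primeCompl
    have hregp : IsSMulRegular (LocalizedModule P.primeCompl R)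
        (algebraMap R (Localization.AtPrime P) a) :=
      (hregR a ha).of_flat_of_isBaseChange (IsLocalizedModule.isBaseChange P.primeCompl
        (Localization.AtPrime P) (LocalizedModule.mkLinearMap P.primeCompl R))
    have hxm : algebraMap R (Localization.AtPrime P) a ∈ maximalIdeal (Localization.AtPrime P) :=
      (IsLocalization.AtPrime.to_map_mem_maximal_iff (Localization.AtPrime P) P a).mpr haP
    haveI : Nontrivial (LocalizedModule P.primeCompl R) := Module.mem_support_iff.mp (hsupp P)
    have h4 := depth_quotSMulTop_add_one (Localization.AtPrime P)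
      (LocalizedModule P.primeCompl R) _ hxm hregp
    have h5 : LocCoh.depth (Localization.AtPrime P)
        (QuotSMulTop (algebraMap R (Localization.AtPrime P) a) (LocalizedModule P.primeCompl R)) =
        LocCoh.depth (Localization.AtPrime P) (LocalizedModule P.primeCompl (QuotSMulTop a R)) :=
      idealDepth_congr _ (quotSMulTopLocalizedEquiv R R P a)
    have h6 := depth_localizedModule_eq_zero_of_mem_associatedPrimes R (QuotSMulTop a R) P hP
    have hd1 : LocCoh.depth (Localization.AtPrime P) (LocalizedModule P.primeCompl R) = 1 := by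
      rw [← h4, h5, h6, zero_add]
    have h7 := hS P
    rw [hdim P, hd1] at h7
    apply le_antisymm _ hge
    by_contra hgt
    push Not at hgt
    have h2 : (2 : ℕ∞) ≤ P.height := by
      have := Order.add_one_le_of_lt hgt
      rwa [one_add_one_eq_two] at this
    have h2' : ((2 : ℕ) : WithBot ℕ∞) ≤ ((P.height : ℕ∞) : WithBot ℕ∞) := by
      have : ((2 : ℕ∞) : WithBot ℕ∞) ≤ ((P.height : ℕ∞) : WithBot ℕ∞) := WithBot.coe_le_coe.2 h2
      simpa using this
    rw [min_eq_left h2'] at h7
    have h3 : ((2 : ℕ∞) : WithBot ℕ∞) ≤ ((1 : ℕ∞) : WithBot ℕ∞) := by simpa using h7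
    have h4' : (2 : ℕ∞) ≤ 1 := WithBot.coe_le_coe.1 h3
    exact absurd h4' (by decide)
  · intro H p _
    rw [hdim p]
    by_cases hp0 : p = ⊥
    · subst hp0
      rw [Ideal.height_bot]
      exact le_trans (min_le_right _ _) (WithBot.coe_le_coe.2 bot_le)
    obtain ⟨a, hap, ha0⟩ : ∃ a ∈ p, a ≠ 0 := by
      by_contra hcon
      push Not at hcon
      exact hp0 ((Submodule.eq_bot_iff _).2 hcon)
    by_cases hb : ∃ b ∈ p, IsSMulRegular (QuotSMulTop a R) b
    · obtain ⟨b, hbp, hbreg⟩ := hb
      have h1 := le_depth_localizedModule R R ⟨p, inferInstance⟩ (hsupp p) [a, b]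
        (by
          intro r hr
          rcases List.mem_pair.1 hr with rfl | rfl
          · exact hap
          · exact hbp)
        (by
          rw [isWeaklyRegular_cons_iff]
          refine ⟨hregR a ha0, ?_⟩
          rw [isWeaklyRegular_cons_iff]
          exact ⟨hbreg, IsWeaklyRegular.nil _ _⟩)
      refine le_trans (min_le_left _ _) ?_
      have h2 : ((2 : ℕ∞) : WithBot ℕ∞) ≤
          ((LocCoh.depth (Localization.AtPrime p) (LocalizedModule p.primeCompl R) : ℕ∞) :
            WithBot ℕ∞) := WithBot.coe_le_coe.2 (by simpa using h1)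
      simpa using h2
    · have hex : ∃ q ∈ associatedPrimes R (QuotSMulTop a R), p ≤ q := by
        by_contra hcon
        push Not at hcon
        exact hb (exists_isSMulRegular_mem_of_forall_not_le R (QuotSMulTop a R) p hcon)
      obtain ⟨q, hq, hpq⟩ := hex
      rw [hassEq a] at hq
      have hq1 := H a ha0 q hq
      have hp1 : p.height ≤ 1 := hq1 ▸ Ideal.height_mono hpq
      have h1 := le_depth_localizedModule R R ⟨p, inferInstance⟩ (hsupp p) [a]
        (by intro r hr; rw [List.mem_singleton] at hr; rw [hr]; exact hap)
        ((isWeaklyRegular_singleton_iff R a).2 (hregR a ha0))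
      refine le_trans (min_le_right _ _) ?_
      exact WithBot.coe_le_coe.2 (hp1.trans (by simpa using h1))

end Groth.Agent.S11269
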