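import Groth.Statements.S2339
import Mathlib

set_option autoImplicit false
universe u
open CategoryTheory CategoryTheory.Limits AlgebraicGeometry
open EGA2

namespace Groth.Agent.S2339

private lemma quasiAffine_of_local (Z : Scheme.{u}) [CompactSpace Z]
    (H : ∀ z : Z, ∃ s : Γ(Z, ⊤), z ∈ Z.basicOpen s ∧
      Scheme.IsQuasiAffine (Z.basicOpen s : Scheme.{u})) :
    Z.IsQuasiAffine := by
  haveI : QuasiSeparatedSpace Z := by
    choose s hzs hs using H
    refine QuasiSeparatedSpace.of_isOpenCover (U := fun z => Z.basicOpen (s z))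
      (eq_top_iff.mpr fun z _ ↦ TopologicalSpace.Opens.mem_iSup.mpr ⟨z, hzs z⟩)
      (fun _ ↦ isRetrocompact_basicOpen _) (fun z ↦ ?_)
    haveI := hs z
    exact (isQuasiSeparated_iff_quasiSeparatedSpace _ (Z.basicOpen (s z)).2).mpr
      (inferInstanceAs (QuasiSeparatedSpace (Z.basicOpen (s z) : Scheme.{u})))
  refine Scheme.IsQuasiAffine.of_forall_exists_mem_basicOpen Z fun z => ?_
  obtain ⟨s, hz, hQA⟩ := H z
  haveI := hQA
  obtain ⟨_, ⟨_, ⟨t, ht, rfl⟩, rfl⟩, hzt, -⟩ := (Scheme.IsQuasiAffine.isBasis_basicOpen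
    (Z.basicOpen s : Scheme.{u})).exists_subset_of_mem_open
      (Set.mem_univ (⟨z, hz⟩ : (Z.basicOpen s : Scheme.{u}))) isOpen_univ
  obtain ⟨x, hx⟩ : ∃ x : Γ(Z, Z.basicOpen s), (Z.basicOpen s).topIso.inv x = t :=
    ⟨(Z.basicOpen s).topIso.hom t, Iso.hom_inv_id_apply _ _⟩
  have himg : (Z.basicOpen s).ι ''ᵁ (Z.basicOpen s).toScheme.basicOpen t = Z.basicOpen x := by
    rw [← hx]
    exact Scheme.Opens.ι_image_basicOpen_topIso_inv (Z.basicOpen s) x
  have haff : IsAffineOpen (Z.basicOpen x) := by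
    rw [← himg]
    exact ht.image_of_isOpenImmersion _
  have hzx : z ∈ Z.basicOpen x := by
    rw [← himg]
    exact ⟨⟨z, hz⟩, hzt, rfl⟩
  obtain ⟨n, y, hy⟩ := exists_eq_pow_mul_of_isCompact_of_isQuasiSeparated Z ⊤ isCompact_univ
    isQuasiSeparated_univ s x
  have h1 : Z.basicOpen (y |_ Z.basicOpen s) = Z.basicOpen s ⊓ Z.basicOpen y :=
    Scheme.basicOpen_res Z y _
  have h2 : Z.basicOpen ((s |_ Z.basicOpen s) ^ n * x) = Z.basicOpen x := by
    have hu : IsUnit ((s |_ Z.basicOpen s) ^ n) :=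
      (RingedSpace.isUnit_res_basicOpen _ s).pow n
    rw [Scheme.basicOpen_mul, Scheme.basicOpen_of_isUnit Z hu, inf_eq_right]
    exact Z.basicOpen_le x
  have h3 : Z.basicOpen (s * y) = Z.basicOpen x := by
    rw [Scheme.basicOpen_mul, ← h1, hy, h2]
  refine ⟨s * y, ?_, ?_⟩
  · rw [h3]; exact haff
  · rw [h3]; exact hzx

/-- If f : X → Y is quasi-affine then so is its base change along any morphism Y' → Y. -/
theorem result {X Y Y' : Scheme.{u}} (f : X ⟶ Y) (hf : Mor2.IsQuasiAffine f) (g : Y' ⟶ Y) :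
    Mor2.IsQuasiAffine (pullback.snd f g) := by

  obtain ⟨hqc, hqa⟩ := hf
  haveI := hqc
  refine ⟨inferInstance, fun V' hV' => ?_⟩
  have H := IsPullback.of_hasPullback f g
  haveI : CompactSpace ((pullback.snd f g ⁻¹ᵁ V' : (pullback f g).Opens) : Scheme.{u}) :=
    isCompact_iff_compactSpace.mp ((pullback.snd f g).isCompact_preimage hV'.isCompact)
  refine quasiAffine_of_local _ ?_
  rintro ⟨z, hz⟩
  obtain ⟨_, ⟨V, hV, rfl⟩, hyV, -⟩ := Y.isBasis_affineOpens.exists_subset_of_mem_open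
    (Set.mem_univ (g (pullback.snd f g z))) isOpen_univ
  obtain ⟨s, hs1, hs2⟩ := hV'.exists_basicOpen_le (V := g ⁻¹ᵁ V) ⟨pullback.snd f g z, hyV⟩ hz
  have hσ := Scheme.Opens.ι_image_basicOpen_topIso_inv (pullback.snd f g ⁻¹ᵁ V')
    ((pullback.snd f g).app V' s)
  have hpre : (pullback f g).basicOpen ((pullback.snd f g).app V' s) =
      pullback.snd f g ⁻¹ᵁ Y'.basicOpen s := (Scheme.preimage_basicOpen _ s).symm
  refine ⟨(pullback.snd f g ⁻¹ᵁ V').topIso.inv ((pullback.snd f g).app V' s), ?_, ?_⟩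
  · have hmem : z ∈ (pullback.snd f g ⁻¹ᵁ V').ι ''ᵁ
        ((pullback.snd f g ⁻¹ᵁ V').toScheme.basicOpen
          ((pullback.snd f g ⁻¹ᵁ V').topIso.inv ((pullback.snd f g).app V' s))) := by
      rw [hσ, hpre]
      exact hs2
    obtain ⟨w, hw, hwz⟩ := hmem
    have hwz' : w = ⟨z, hz⟩ := Subtype.ext hwz
    rw [← hwz']
    exact hw
  · have sq := Scheme.Hom.isPullback_resLE H hs1 (le_refl (f ⁻¹ᵁ V)) rfl
    haveI : IsAffine (V : Scheme.{u}) := hV
    haveI : IsAffine (Y'.basicOpen s : Scheme.{u}) := hV'.basicOpen s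
    haveI : IsAffineHom (g.resLE V (Y'.basicOpen s) hs1) := inferInstance
    haveI : IsAffineHom ((pullback.fst f g).resLE (f ⁻¹ᵁ V)
        (pullback.fst f g ⁻¹ᵁ (f ⁻¹ᵁ V) ⊓ pullback.snd f g ⁻¹ᵁ Y'.basicOpen s) inf_le_left) :=
      MorphismProperty.of_isPullback (P := @IsAffineHom) sq.flip inferInstance
    haveI : Scheme.IsQuasiAffine (f ⁻¹ᵁ V : Scheme.{u}) := hqa V hV
    have hQA : Scheme.IsQuasiAffine
        ((pullback.fst f g ⁻¹ᵁ (f ⁻¹ᵁ V) ⊓ pullback.snd f g ⁻¹ᵁ Y'.basicOpen s :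
          (pullback f g).Opens) : Scheme.{u}) :=
      Scheme.IsQuasiAffine.of_isAffineHom ((pullback.fst f g).resLE (f ⁻¹ᵁ V)
        (pullback.fst f g ⁻¹ᵁ (f ⁻¹ᵁ V) ⊓ pullback.snd f g ⁻¹ᵁ Y'.basicOpen s) inf_le_left)
    have hle : pullback.snd f g ⁻¹ᵁ Y'.basicOpen s ≤ pullback.fst f g ⁻¹ᵁ (f ⁻¹ᵁ V) := by
      rw [← Scheme.Hom.comp_preimage, pullback.condition, Scheme.Hom.comp_preimage]
      exact (pullback.snd f g).preimage_mono hs1
    have hUYeq : (pullback.snd f g ⁻¹ᵁ V').ι ''ᵁ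
        ((pullback.snd f g ⁻¹ᵁ V').toScheme.basicOpen
          ((pullback.snd f g ⁻¹ᵁ V').topIso.inv ((pullback.snd f g).app V' s))) =
        pullback.fst f g ⁻¹ᵁ (f ⁻¹ᵁ V) ⊓ pullback.snd f g ⁻¹ᵁ Y'.basicOpen s := by
      rw [hσ, hpre]
      exact (inf_eq_right.mpr hle).symm
    haveI := hQA
    exact Scheme.IsQuasiAffine.of_isAffineHom
      (((pullback.snd f g ⁻¹ᵁ V').ι.isoImage _) ≪≫ (pullback f g).isoOfEq hUYeq).hom


end Groth.Agent.S2339
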