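import Groth.Statements.S1127
import Mathlib
import Groth.Agent.S2339
set_option linter.style.haveILetI false

set_option autoImplicit false
open CategoryTheory CategoryTheory.Limits AlgebraicGeometry Opposite
universe u
open Desc

namespace Groth.Agent.S1127

section Aux

open CategoryTheory CategoryTheory.Limits AlgebraicGeometry

theorem appLE_top_top {X Y : Scheme.{u}} (f : X ⟶ Y) (h : (⊤ : X.Opens) ≤ f ⁻¹ᵁ ⊤) :
    f.appLE ⊤ ⊤ h = f.appTop := by
  simp [Scheme.Hom.appLE, Scheme.Hom.appTop]

/-- Descent of quasi-affineness of a scheme along a faithfully flat morphism of affine bases. -/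
theorem core {T V Y : Scheme.{u}} [IsAffine T] [IsAffine V] (b : T ⟶ V) [Surjective b] [Flat b]
    (g : Y ⟶ V) [hqa : (pullback g b).IsQuasiAffine] : Y.IsQuasiAffine := by
  have H : IsPullback (pullback.fst g b) (pullback.snd g b) g b := IsPullback.of_hasPullback g b
  haveI : Surjective (pullback.fst g b) := inferInstance
  haveI : CompactSpace Y := by
    constructor
    rw [← Set.range_eq_univ.mpr (pullback.fst g b).surjective]
    exact isCompact_range (pullback.fst g b).continuous
  haveI : IsAffineHom b := inferInstance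
  haveI : IsAffineHom (pullback.fst g b) := MorphismProperty.pullback_fst (P := @IsAffineHom) g b inferInstance
  haveI : QuasiSeparatedSpace ↥(pullback g b : Scheme.{u}) := inferInstance
  haveI : QuasiSeparatedSpace Y := by
    rw [quasiSeparatedSpace_iff_forall_affineOpens]
    intro U W
    have hU : IsAffineOpen ((pullback.fst g b) ⁻¹ᵁ U.1) := U.2.preimage (pullback.fst g b)
    have hW : IsAffineOpen ((pullback.fst g b) ⁻¹ᵁ W.1) := W.2.preimage (pullback.fst g b)
    have hc : IsCompact (((pullback.fst g b) ⁻¹ᵁ U.1).1 ∩ ((pullback.fst g b) ⁻¹ᵁ W.1).1) :=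
      QuasiSeparatedSpace.inter_isCompact _ _ ((pullback.fst g b) ⁻¹ᵁ U.1).2 hU.isCompact
        ((pullback.fst g b) ⁻¹ᵁ W.1).2 hW.isCompact
    have himg : ((U.1 : Set Y) ∩ (W.1 : Set Y)) =
        (pullback.fst g b) '' (((pullback.fst g b) ⁻¹ᵁ U.1).1 ∩ ((pullback.fst g b) ⁻¹ᵁ W.1).1) := by
      change _ = (pullback.fst g b) '' ((pullback.fst g b) ⁻¹' (U.1 : Set Y) ∩
        (pullback.fst g b) ⁻¹' (W.1 : Set Y))
      rw [← Set.preimage_inter, Set.image_preimage_eq _ (pullback.fst g b).surjective]
    rw [himg]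
    exact hc.image (pullback.fst g b).continuous
  have hUST : (⊤ : T.Opens) ≤ b ⁻¹ᵁ (⊤ : V.Opens) := le_of_eq rfl
  have hUSX : (⊤ : Y.Opens) ≤ g ⁻¹ᵁ (⊤ : V.Opens) := le_of_eq rfl
  have hUY : (⊤ : (pullback g b).Opens) =
      (pullback.fst g b) ⁻¹ᵁ (⊤ : Y.Opens) ⊓ (pullback.snd g b) ⁻¹ᵁ (⊤ : T.Opens) := by
    simp
  have hiso := isIso_pushoutSection_of_isQuasiSeparated_of_flat_right H hUST hUSX hUY
    (isAffineOpen_top V) (isAffineOpen_top T) (by simpa using isCompact_univ)
    (by simpa using isQuasiSeparated_univ)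
  have hpo := (isIso_pushoutSection_iff H hUST hUSX hUY).mp hiso
  rw [appLE_top_top, appLE_top_top, appLE_top_top, appLE_top_top] at hpo
  have bot : IsPullback (Spec.map (pullback.fst g b).appTop) (Spec.map (pullback.snd g b).appTop)
      (Spec.map g.appTop) (Spec.map b.appTop) :=
    isPullback_SpecMap_of_isPushout _ _ _ _ hpo
  have sqV : IsPullback b T.toSpecΓ V.toSpecΓ (Spec.map b.appTop) :=
    IsPullback.of_vert_isIso ⟨Scheme.toSpecΓ_naturality b⟩
  have outer := H.paste_vert sqV
  rw [Scheme.toSpecΓ_naturality (pullback.snd g b), Scheme.toSpecΓ_naturality g] at outer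
  have top : IsPullback (pullback.fst g b) (pullback g b).toSpecΓ Y.toSpecΓ
      (Spec.map (pullback.fst g b).appTop) :=
    IsPullback.of_bot outer (Scheme.toSpecΓ_naturality (pullback.fst g b)) bot
  have hQb : Surjective (Spec.map b.appTop) ∧ Flat (Spec.map b.appTop) := by
    have e : Spec.map b.appTop = inv T.toSpecΓ ≫ b ≫ V.toSpecΓ := by
      rw [IsIso.eq_inv_comp, ← Scheme.toSpecΓ_naturality]
    rw [e]; exact ⟨inferInstance, inferInstance⟩
  obtain ⟨hQ1, hQ2⟩ := hQb
  haveI : Surjective (Spec.map (pullback.fst g b).appTop) :=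
    MorphismProperty.of_isPullback (P := @Surjective) bot.flip hQ1
  haveI : Flat (Spec.map (pullback.fst g b).appTop) :=
    MorphismProperty.of_isPullback (P := @Flat) bot.flip hQ2
  haveI : IsOpenImmersion Y.toSpecΓ :=
    MorphismProperty.of_isPullback_of_descendsAlong (P := @IsOpenImmersion)
      (Q := @Surjective ⊓ @Flat ⊓ @QuasiCompact) top.flip
      ⟨⟨inferInstance, inferInstance⟩, inferInstance⟩ inferInstance
  exact {}

end Aux

/-- If the base change of a morphism along a quasi-compact, flat, surjective morphism is quasi-affine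
(quasi-compact, with quasi-affine preimages of affine opens), then the morphism is quasi-affine.
(The published statement is the fpqc-local form; stated here for a single quasi-compact flat
surjective base change, from which that form follows by Zariski-locality on the target.) -/
theorem result :
    MorphismProperty.DescendsAlong (fun _ _ f => Mor2.IsQuasiAffine f : MorphismProperty Scheme.{u})
      (@Surjective ⊓ @Flat ⊓ @QuasiCompact : MorphismProperty Scheme.{u}) := by
  constructor
  intro A X Y Z fst snd f g h hf hfst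
  obtain ⟨⟨hsurj, hflat⟩, hqc⟩ := hf
  haveI : Surjective f := hsurj
  haveI : Flat f := hflat
  haveI : QuasiCompact f := hqc
  have hfst' : Mor2.IsQuasiAffine fst := hfst
  show Mor2.IsQuasiAffine g
  have key : ∀ V : Z.Opens, IsAffineOpen V → Scheme.IsQuasiAffine (g ⁻¹ᵁ V : Scheme.{u}) := by
    intro V hV
    haveI : IsAffine (V : Scheme.{u}) := hV
    haveI : CompactSpace ((f ⁻¹ᵁ V : X.Opens) : Scheme.{u}) :=
      isCompact_iff_compactSpace.mp (f.isCompact_preimage hV.isCompact)
    obtain ⟨T, π, hπs, hπl, hT⟩ :=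
      Scheme.exists_hom_isAffine_of_isZariskiLocalAtSource @IsLocalIso
        ((f ⁻¹ᵁ V : X.Opens) : Scheme.{u})
    haveI := hπs
    haveI := hT
    haveI : Flat π := IsLocalIso.le_of_isZariskiLocalAtSource @Flat _ _ _ hπl
    haveI : Surjective (f ∣_ V) := MorphismProperty.of_isPullback (P := @Surjective)
      (isPullback_morphismRestrict f V).flip inferInstance
    haveI : Flat (f ∣_ V) := MorphismProperty.of_isPullback (P := @Flat)
      (isPullback_morphismRestrict f V).flip inferInstance
    have hab : (π ≫ (f ⁻¹ᵁ V).ι) ≫ f = (π ≫ f ∣_ V) ≫ V.ι := by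
      simp only [Category.assoc, morphismRestrict_ι]
    have sqW := IsPullback.of_hasPullback (g ∣_ V) (π ≫ f ∣_ V)
    have outer := sqW.paste_horiz (isPullback_morphismRestrict g V).flip
    rw [← hab] at outer
    have sqL := IsPullback.of_right' outer h.flip
    have hP0 : Scheme.IsQuasiAffine (pullback fst (π ≫ (f ⁻¹ᵁ V).ι)) := by
      have h2 := (Groth.Agent.S2339.result fst hfst' (π ≫ (f ⁻¹ᵁ V).ι)).2 ⊤ (isAffineOpen_top T)
      haveI : Scheme.IsQuasiAffine
          ((⊤ : (pullback fst (π ≫ (f ⁻¹ᵁ V).ι)).Opens) : Scheme.{u}) := h2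
      exact Scheme.IsQuasiAffine.of_isAffineHom (Scheme.topIso (pullback fst (π ≫ (f ⁻¹ᵁ V).ι))).inv
    haveI := hP0
    haveI : Scheme.IsQuasiAffine (pullback (g ∣_ V) (π ≫ f ∣_ V)) :=
      Scheme.IsQuasiAffine.of_isAffineHom sqL.isoPullback.hom
    exact core (π ≫ f ∣_ V) (g ∣_ V)
  refine ⟨?_, key⟩
  rw [quasiCompact_iff_forall_isAffineOpen]
  intro V hV
  exact isCompact_iff_compactSpace.mpr (key V hV).toCompactSpace

end Groth.Agent.S1127
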