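import Groth.Statements.S11271
import Mathlib

set_option autoImplicit false
universe u
open W4bk4grassmannian

namespace Groth.Agent.S11271

open W4bk4grassmannian

lemma exists_minor {K : Type u} [Field K] {d n : ℕ} (A : Matrix (Fin n) (Fin d) K)
    (h : LinearIndependent K A.transpose) : ∃ θ : Fin d → Fin n, (A.submatrix θ id).det ≠ 0 := by
  classical
  have hrank : A.rank = d := by
    rw [← Matrix.rank_transpose]
    have := LinearIndependent.rank_matrix (M := A.transpose) h
    simpa using this
  have hspan : Submodule.span K (Set.range A.row) = ⊤ := by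
    apply Submodule.eq_top_of_finrank_eq
    rw [← Matrix.rank_eq_finrank_span_row, hrank]
    simp
  obtain ⟨κ, a, ha, hsp, hli⟩ := exists_linearIndependent' K A.row
  have hsp' : Submodule.span K (Set.range (A.row ∘ a)) = ⊤ := hsp.trans hspan
  haveI : Finite κ := Finite.of_injective a ha
  haveI := Fintype.ofFinite κ
  let b : Module.Basis κ K (Fin d → K) := Module.Basis.mk hli hsp'.ge
  have hcard : Fintype.card κ = d := by
    have := Module.finrank_eq_card_basis b
    simpa using this.symm
  let e : Fin d ≃ κ := (Fintype.equivFinOfCardEq hcard).symm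
  refine ⟨a ∘ e, ?_⟩
  have hrows : LinearIndependent K (A.submatrix (a ∘ e) id).row := hli.comp e e.injective
  have := Matrix.linearIndependent_rows_iff_isUnit.1 hrows
  exact ((Matrix.isUnit_iff_isUnit_det _).1 this).ne_zero

lemma eval_minor {K : Type u} [Field K] {d n : ℕ} (x : Fin n × Fin d → K) (a : Fin d → Fin n) :
    MvPolynomial.eval x (minor K d n a) = Matrix.det (Matrix.of fun s t : Fin d => x (a s, t)) := by
  unfold minor
  rw [RingHom.map_det]
  congr 1
  ext s t
  simp

lemma eval_line {K : Type u} [Field K] {d n : ℕ} (B : Matrix (Fin n) (Fin d) K) (t : K)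
    (f : MvPolynomial (Fin n × Fin d) K) :
    Polynomial.eval t (MvPolynomial.aeval
      (fun p : Fin n × Fin d => Polynomial.C (B p.1 p.2) * Polynomial.X) f) =
      MvPolynomial.eval (fun p => B p.1 p.2 * t) f := by
  induction f using MvPolynomial.induction_on with
  | C a => simp
  | add p q hp hq => simp [hp, hq]
  | mul_X p i hp => simp [hp]

open W4bk4grassmannian in
/-- Semistable matrices are the matrices of full rank: let K be an algebraically closed field, 0 < d <
n, and let SL_d(K) act on n × d matrices by right multiplication; a matrix A is semistable when the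
zero matrix is not in the Zariski closure of its orbit, i.e. when some polynomial in the entries
vanishes at A g for every g ∈ SL_d(K) but not at 0. Then A is semistable if and only if its columns
are linearly independent. -/
theorem result (K : Type u) [Field K]
    [IsAlgClosed K] (d n : ℕ) (hd : 0 < d) (hdn : d < n) (A : Matrix (Fin n) (Fin d) K) :
    LinearIndependent K A.transpose ↔
      ∃ f : MatRing K d n, (∀ g : Matrix.SpecialLinearGroup (Fin d) K,
        MvPolynomial.eval (fun p : Fin n × Fin d => (A * (g : Matrix (Fin d) (Fin d) K)) p.1 p.2) f = 0) ∧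
        MvPolynomial.eval (fun _ : Fin n × Fin d => (0 : K)) f ≠ 0 := by
  classical
  constructor
  · intro h
    obtain ⟨θ, hθ⟩ := exists_minor A h
    refine ⟨minor K d n θ - MvPolynomial.C ((A.submatrix θ id).det), ?_, ?_⟩
    · intro g
      rw [map_sub, MvPolynomial.eval_C, sub_eq_zero, eval_minor]
      have : (Matrix.of fun s t : Fin d => (A * (g : Matrix (Fin d) (Fin d) K)) (θ s) t) =
          (A.submatrix θ id) * (g : Matrix (Fin d) (Fin d) K) := by
        ext s t
        simp [Matrix.mul_apply]
      rw [this, Matrix.det_mul, g.det_coe, mul_one]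
    · rw [map_sub, MvPolynomial.eval_C, eval_minor]
      have : (Matrix.of fun s t : Fin d => (0 : K)) = 0 := rfl
      have hne : Nonempty (Fin d) := ⟨⟨0, hd⟩⟩
      rw [this, Matrix.det_zero, zero_sub, neg_ne_zero]
      exact hθ
  · rintro ⟨f, hf, hf0⟩
    by_contra hdep
    apply hf0
    have hdep' : ¬ ∀ g : Fin d → K, ∑ i, g i • (A.transpose i) = 0 → ∀ i, g i = 0 :=
      fun hh => hdep (Fintype.linearIndependent_iff.2 hh)
    push Not at hdep'
    obtain ⟨c, hc, i₀, hi₀⟩ := hdep'
    let v : Fin d → K := fun j => (c i₀)⁻¹ * c j
    have hvi : v i₀ = 1 := inv_mul_cancel₀ hi₀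
    have hv : ∀ i, ∑ j, A i j * v j = 0 := by
      intro i
      have hci : ∑ j, c j * A i j = 0 := by
        have := congrFun hc i
        simpa [Finset.sum_apply, Matrix.transpose_apply] using this
      calc ∑ j, A i j * v j = (c i₀)⁻¹ * ∑ j, c j * A i j := by
            rw [Finset.mul_sum]
            apply Finset.sum_congr rfl
            intro j _
            simp only [v]
            ring
        _ = 0 := by rw [hci, mul_zero]
    let E : Matrix (Fin d) (Fin d) K := (1 : Matrix (Fin d) (Fin d) K).updateCol i₀ v
    have hE : E.det = 1 := by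
      rw [← Matrix.cramer_apply, Matrix.cramer_one]
      exact hvi
    have hB0 : ∀ i, (A * E) i i₀ = 0 := by
      intro i
      rw [Matrix.mul_apply]
      simpa [E, Matrix.updateCol_self] using hv i
    let Q : Polynomial K := MvPolynomial.aeval
      (fun p : Fin n × Fin d => Polynomial.C ((A * E) p.1 p.2) * Polynomial.X) f
    have hroot : ∀ t : K, t ≠ 0 → Polynomial.IsRoot Q t := by
      intro t ht
      let w : Fin d → K := Function.update (fun _ => t) i₀ ((t⁻¹) ^ (d - 1))
      have hw : (Matrix.diagonal w).det = 1 := by
        rw [Matrix.det_diagonal]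
        simp only [w]
        rw [Finset.prod_update_of_mem (Finset.mem_univ i₀), Finset.prod_const]
        have : (Finset.univ \ {i₀} : Finset (Fin d)).card = d - 1 := by
          rw [Finset.card_sdiff_of_subset (Finset.subset_univ _)]
          simp
        rw [this, ← mul_pow, inv_mul_cancel₀ ht, one_pow]
      let g : Matrix.SpecialLinearGroup (Fin d) K :=
        ⟨E * Matrix.diagonal w, by rw [Matrix.det_mul, hE, hw, mul_one]⟩
      have hg := hf g
      change Polynomial.eval t Q = 0
      rw [eval_line]
      convert hg using 3
      funext p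
      change (A * E) p.1 p.2 * t = (A * (E * Matrix.diagonal w)) p.1 p.2
      rw [← Matrix.mul_assoc, Matrix.mul_diagonal]
      by_cases hp : p.2 = i₀
      · rw [hp, hB0, zero_mul, zero_mul]
      · simp only [w]
        rw [Function.update_of_ne hp]
    have hQ : Q = 0 := by
      apply Polynomial.eq_zero_of_infinite_isRoot
      apply Set.Infinite.mono (s := ({0} : Set K)ᶜ)
      · intro t ht
        exact hroot t ht
      · exact (Set.finite_singleton (0 : K)).infinite_compl
    have h0 : Polynomial.eval 0 Q = 0 := by rw [hQ]; simp
    rw [eval_line] at h0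
    simpa using h0

end Groth.Agent.S11271
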