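import Groth.Statements.S11277
import Mathlib

set_option autoImplicit false
universe u v
open W4bk4grassmannian

namespace Groth.Agent.S11277

/-- Let K be a field, R = ⊕_{i ≥ 0} R_i an ℕ-graded commutative K-algebra which is an integral domain,
and s ∈ R_e a homogeneous element of degree e > 0. Let R_(s) ⊆ R[1/s] be the homogeneous
localization (fractions f / s^k with f homogeneous of degree k e). Then the image of s in R[1/s] is
transcendental over R_(s). -/
theorem result (K : Type u) [Field K] (R : Type v) [CommRing R]
    [IsDomain R] [Algebra K R] (𝒜 : ℕ → Submodule K R) [GradedAlgebra 𝒜] (e : ℕ) (he : 0 < e) (s : R)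
    (hs : s ∈ 𝒜 e) :
    Transcendental (HomogeneousLocalization.Away 𝒜 s) (algebraMap R (Localization.Away s) s) := by
  classical
  intro halg
  obtain ⟨p, hp0, hp⟩ := halg
  by_cases hs0 : s = 0
  · have : Subsingleton (HomogeneousLocalization.Away 𝒜 s) :=
      HomogeneousLocalization.subsingleton 𝒜 ⟨1, by simp [hs0]⟩
    exact hp0 (Subsingleton.elim _ _)
  apply hp0
  have hev : ∀ᶠ n in Filter.atTop, ∀ i ∈ p.support,
      s ^ n • (p.coeff i).val ∈
        algebraMap R (Localization.Away s) '' (𝒜 (n • e) : Set R) := by
    rw [Filter.eventually_all_finset]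
    intro i _
    exact HomogeneousLocalization.Away.eventually_smul_mem hs (p.coeff i)
  obtain ⟨n, hn⟩ := hev.exists
  simp only [Set.mem_image, SetLike.mem_coe] at hn
  choose! g hg using hn
  rw [Polynomial.aeval_def, Polynomial.eval₂_eq_sum, Polynomial.sum_def] at hp
  simp only [HomogeneousLocalization.algebraMap_apply] at hp
  have h1 : ∑ i ∈ p.support, algebraMap R (Localization.Away s) (g i * s ^ i) = 0 := by
    have : ∑ i ∈ p.support, algebraMap R (Localization.Away s) (g i * s ^ i) =
        algebraMap R (Localization.Away s) (s ^ n) *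
          ∑ i ∈ p.support, (p.coeff i).val * (algebraMap R (Localization.Away s) s) ^ i := by
      rw [Finset.mul_sum]
      refine Finset.sum_congr rfl fun i hi => ?_
      rw [map_mul, (hg i hi).2, Algebra.smul_def, map_pow, map_pow, mul_assoc]
    rw [this, hp, mul_zero]
  have h2 : ∑ i ∈ p.support, g i * s ^ i = 0 := by
    apply IsLocalization.injective (Localization.Away s)
      (powers_le_nonZeroDivisors_of_noZeroDivisors hs0)
    rw [map_sum, h1, map_zero]
  have hmem : ∀ i ∈ p.support, g i * s ^ i ∈ 𝒜 (n • e + i • e) := fun i hi =>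
    SetLike.mul_mem_graded (hg i hi).1 (SetLike.pow_mem_graded i hs)
  have key : ∀ j ∈ p.support, p.coeff j = 0 := by
    intro j hj
    have h3 := congrArg (GradedRing.proj 𝒜 (n • e + j • e)) h2
    rw [map_sum, map_zero, Finset.sum_eq_single j] at h3
    · rw [GradedRing.proj_apply, DirectSum.decompose_of_mem_same 𝒜 (hmem j hj)] at h3
      have hgj : g j = 0 := (mul_eq_zero.mp h3).resolve_right (pow_ne_zero _ hs0)
      have h4 := (hg j hj).2
      rw [hgj, map_zero, Algebra.smul_def] at h4
      have hu : IsUnit (algebraMap R (Localization.Away s) (s ^ n)) :=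
        IsLocalization.map_units (Localization.Away s)
          (⟨s ^ n, n, rfl⟩ : Submonoid.powers s)
      have h5 : (p.coeff j).val = 0 := (hu.mul_right_eq_zero).mp h4.symm
      apply HomogeneousLocalization.val_injective
      rw [h5, HomogeneousLocalization.val_zero]
    · intro i hi hij
      rw [GradedRing.proj_apply, DirectSum.decompose_of_mem_ne 𝒜 (hmem i hi)]
      intro h
      apply hij
      have h' : i * e = j * e := by simpa [smul_eq_mul] using h
      exact Nat.eq_of_mul_eq_mul_right he h'
    · intro h
      exact absurd hj h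
  refine Polynomial.ext fun j => ?_
  rw [Polynomial.coeff_zero]
  by_cases hj : j ∈ p.support
  · exact key j hj
  · exact Polynomial.notMem_support_iff.mp hj

end Groth.Agent.S11277
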