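import Groth.Statements.S11278
import Mathlib
-- import your own Groth.Agent.* helpers here

set_option autoImplicit false
universe u v
open W4bk4grassmannian

namespace Groth.Agent.S11278


open Polynomial in
theorem aux (K : Type u) [Field K] (R : Type v)
    [CommRing R] [IsDomain R] [IsNoetherianRing R] [Algebra K R] (𝒜 : ℕ → Submodule K R)
    [GradedAlgebra 𝒜] (s : R) (hs : s ∈ 𝒜 1) (hp : Prime s)
    (h : UniqueFactorizationMonoid (HomogeneousLocalization.Away 𝒜 s)) :
    UniqueFactorizationMonoid R := by
  classical
  have hs0 : s ≠ 0 := hp.ne_zero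
  have hle : Submonoid.powers s ≤ nonZeroDivisors R :=
    powers_le_nonZeroDivisors_of_noZeroDivisors hs0
  have hinjL : Function.Injective (algebraMap R (Localization (Submonoid.powers s))) :=
    IsLocalization.injective _ hle
  haveI : IsDomain (Localization (Submonoid.powers s)) := IsLocalization.isDomain_localization hle
  have hsu : IsUnit (algebraMap R (Localization (Submonoid.powers s)) s) :=
    IsLocalization.map_units _ (⟨s, Submonoid.mem_powers s⟩ : Submonoid.powers s)
  -- Step 1 : the localization is a UFD
  have hL : UniqueFactorizationMonoid (Localization (Submonoid.powers s)) := by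
    haveI : IsDomain (HomogeneousLocalization.Away 𝒜 s) :=
      Function.Injective.isDomain
        (algebraMap (HomogeneousLocalization.Away 𝒜 s) (Localization (Submonoid.powers s)))
        (fun a b hab => HomogeneousLocalization.val_injective _ hab)
    haveI := h
    obtain ⟨ψ, hψ⟩ : ∃ ψ : (HomogeneousLocalization.Away 𝒜 s)[X] →+*
        Localization (Submonoid.powers s), ψ = Polynomial.eval₂RingHom
          (algebraMap (HomogeneousLocalization.Away 𝒜 s) (Localization (Submonoid.powers s)))
          (algebraMap R (Localization (Submonoid.powers s)) s) := ⟨_, rfl⟩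
    have hψX : ψ X = algebraMap R _ s := by rw [hψ]; simp
    have hψC : ∀ c, ψ (C c) = c.val := by intro c; rw [hψ]; simp
    have hmk : ∀ (n : ℕ) (a : R) (ha : a ∈ 𝒜 (n • 1)),
        (HomogeneousLocalization.Away.mk 𝒜 hs n a ha).val *
          algebraMap R (Localization (Submonoid.powers s)) (s ^ n) = algebraMap R _ a := by
      intro n a ha
      rw [HomogeneousLocalization.Away.val_mk, Localization.mk_eq_mk']
      exact IsLocalization.mk'_spec _ a _
    have hsurjR : ∀ a : R, ∃ p, ψ p = algebraMap R (Localization (Submonoid.powers s)) a := by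
      intro a
      refine DirectSum.Decomposition.inductionOn 𝒜
        (motive := fun a => ∃ p, ψ p = algebraMap R (Localization (Submonoid.powers s)) a)
        ?_ ?_ ?_ a
      · exact ⟨0, by simp⟩
      · intro d m
        have hm : (m : R) ∈ 𝒜 (d • 1) := by rw [smul_eq_mul, mul_one]; exact m.2
        refine ⟨C (HomogeneousLocalization.Away.mk 𝒜 hs d m hm) * X ^ d, ?_⟩
        rw [map_mul, map_pow, hψC, hψX, ← map_pow, hmk]
      · rintro m m' ⟨p, hp⟩ ⟨q, hq⟩
        exact ⟨p + q, by rw [map_add, hp, hq, map_add]⟩
    have hψinj : Function.Injective ψ := by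
      rw [injective_iff_map_eq_zero]
      intro p hp0
      choose nn aa haa hcc using fun c : HomogeneousLocalization.Away 𝒜 s =>
        HomogeneousLocalization.Away.mk_surjective 𝒜 hs c
      obtain ⟨N, hN⟩ : ∃ N, N = ∑ d ∈ Finset.range (p.natDegree + 1), nn (p.coeff d) := ⟨_, rfl⟩
      have hnN : ∀ d ∈ Finset.range (p.natDegree + 1), nn (p.coeff d) ≤ N := by
        intro d hd
        rw [hN]
        exact Finset.single_le_sum (f := fun d => nn (p.coeff d)) (fun _ _ => Nat.zero_le _) hd
      have hsum : ∑ d ∈ Finset.range (p.natDegree + 1),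
          aa (p.coeff d) * s ^ (N - nn (p.coeff d) + d) = 0 := by
        apply hinjL
        rw [map_zero, map_sum]
        have h0 : ψ p * algebraMap R (Localization (Submonoid.powers s)) (s ^ N) = 0 := by
          rw [hp0, zero_mul]
        refine Eq.trans ?_ h0
        rw [hψ, Polynomial.coe_eval₂RingHom, Polynomial.eval₂_eq_sum_range, Finset.sum_mul]
        refine Finset.sum_congr rfl fun d hd => ?_
        have hc := hmk (nn (p.coeff d)) (aa (p.coeff d)) (haa _)
        rw [hcc] at hc
        have hpow : s ^ N = s ^ nn (p.coeff d) * s ^ (N - nn (p.coeff d)) := by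
          rw [← pow_add, Nat.add_sub_cancel' (hnN d hd)]
        calc algebraMap R (Localization (Submonoid.powers s))
              (aa (p.coeff d) * s ^ (N - nn (p.coeff d) + d))
            = algebraMap R _ (aa (p.coeff d)) * algebraMap R _ s ^ (N - nn (p.coeff d)) *
                algebraMap R _ s ^ d := by
              rw [map_mul, pow_add, map_mul, map_pow, map_pow, mul_assoc]
          _ = (p.coeff d).val * algebraMap R _ s ^ nn (p.coeff d) *
                algebraMap R _ s ^ (N - nn (p.coeff d)) * algebraMap R _ s ^ d := by
              rw [← hc, map_pow]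
          _ = _ := by
              rw [hpow, map_mul, map_pow, map_pow]
              simp only [HomogeneousLocalization.algebraMap_apply]
              ring
      have hterm : ∀ d ∈ Finset.range (p.natDegree + 1),
          aa (p.coeff d) * s ^ (N - nn (p.coeff d) + d) ∈ 𝒜 (N + d) := by
        intro d hd
        have h1 : aa (p.coeff d) ∈ 𝒜 (nn (p.coeff d)) := by
          have := haa (p.coeff d)
          rwa [smul_eq_mul, mul_one] at this
        have h2 : s ^ (N - nn (p.coeff d) + d) ∈ 𝒜 ((N - nn (p.coeff d) + d) • 1) :=
          SetLike.pow_mem_graded _ hs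
        have h3 := SetLike.mul_mem_graded h1 h2
        have hdeg : nn (p.coeff d) + (N - nn (p.coeff d) + d) • 1 = N + d := by
          have := hnN d hd
          rw [smul_eq_mul, mul_one]; omega
        rwa [hdeg] at h3
      have hzero : ∀ d ∈ Finset.range (p.natDegree + 1),
          aa (p.coeff d) * s ^ (N - nn (p.coeff d) + d) = 0 := by
        intro d₀ hd₀
        have := congrArg (GradedRing.proj 𝒜 (N + d₀)) hsum
        rw [map_sum, map_zero, Finset.sum_eq_single d₀] at this
        · rwa [GradedRing.proj_apply, DirectSum.decompose_of_mem_same 𝒜 (hterm d₀ hd₀)] at this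
        · intro d hd hne
          rw [GradedRing.proj_apply, DirectSum.decompose_of_mem_ne 𝒜 (hterm d hd) (by omega)]
        · intro hnot; exact absurd hd₀ hnot
      apply Polynomial.ext
      intro d
      rw [Polynomial.coeff_zero]
      by_cases hd : d ∈ Finset.range (p.natDegree + 1)
      · have h1 := hzero d hd
        have h2 : aa (p.coeff d) = 0 := by
          rcases mul_eq_zero.mp h1 with h | h
          · exact h
          · exact absurd h (pow_ne_zero _ hs0)
        have h3 : HomogeneousLocalization.Away.mk 𝒜 hs (nn (p.coeff d)) (aa (p.coeff d))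
            (haa _) = 0 := by
          apply HomogeneousLocalization.val_injective
          rw [HomogeneousLocalization.Away.val_mk, HomogeneousLocalization.val_zero, h2]
          exact Localization.mk_zero _
        exact (hcc (p.coeff d)).symm.trans h3
      · rw [Finset.mem_range, not_lt] at hd
        exact Polynomial.coeff_eq_zero_of_natDegree_lt (by omega)
    letI : Algebra (HomogeneousLocalization.Away 𝒜 s)[X] (Localization (Submonoid.powers s)) :=
      ψ.toAlgebra
    have halg : ∀ p, algebraMap (HomogeneousLocalization.Away 𝒜 s)[X]
        (Localization (Submonoid.powers s)) p = ψ p := fun p => rfl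
    have hloc : IsLocalization (Submonoid.powers (X : (HomogeneousLocalization.Away 𝒜 s)[X]))
        (Localization (Submonoid.powers s)) := by
      rw [isLocalization_iff]
      refine ⟨?_, ?_, ?_⟩
      · rintro ⟨_, n, rfl⟩
        rw [halg, map_pow, hψX]
        exact hsu.pow n
      · intro z
        obtain ⟨⟨a, ⟨_, k, rfl⟩⟩, hz⟩ := IsLocalization.surj (Submonoid.powers s) z
        obtain ⟨p, hp⟩ := hsurjR a
        refine ⟨(p, ⟨X ^ k, k, rfl⟩), ?_⟩
        show z * ψ (X ^ k) = ψ p
        rw [map_pow, hψX, ← map_pow, hp]
        exact hz
      · intro p q hpq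
        refine ⟨1, ?_⟩
        rw [halg, halg] at hpq
        rw [hψinj hpq]
    exact UniqueFactorizationMonoid.of_isLocalization
      (Submonoid.powers (X : (HomogeneousLocalization.Away 𝒜 s)[X]))
      (Localization (Submonoid.powers s))
  -- Step 2 : Nagata's criterion via Kaplansky
  haveI : WfDvdMonoid R := IsNoetherianRing.wfDvdMonoid
  rw [UniqueFactorizationMonoid.iff_exists_prime_mem_of_isPrime]
  intro P hP0 hPprime
  by_cases hsP : s ∈ P
  · exact ⟨s, hsP, hp⟩
  have hdisj : Disjoint (Submonoid.powers s : Set R) (P : Set R) := by
    rw [Set.disjoint_left]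
    rintro _ ⟨n, rfl⟩ hmem
    exact hsP (hPprime.mem_of_pow_mem n hmem)
  have hP'prime : (P.map (algebraMap R (Localization (Submonoid.powers s)))).IsPrime :=
    IsLocalization.isPrime_of_isPrime_disjoint (Submonoid.powers s) _ P hPprime hdisj
  have hcomap : ∀ x : R, algebraMap R (Localization (Submonoid.powers s)) x ∈
      P.map (algebraMap R (Localization (Submonoid.powers s))) → x ∈ P := by
    intro x hx
    have := IsLocalization.under_map_of_isPrime_disjoint (Submonoid.powers s)
      (Localization (Submonoid.powers s)) hPprime hdisj
    rw [← this]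
    exact Ideal.mem_comap.mpr hx
  have hP'0 : P.map (algebraMap R (Localization (Submonoid.powers s))) ≠ ⊥ := by
    intro hbot
    apply hP0
    rw [eq_bot_iff]
    intro x hx
    have h1 : algebraMap R (Localization (Submonoid.powers s)) x ∈
        P.map (algebraMap R (Localization (Submonoid.powers s))) := Ideal.mem_map_of_mem _ hx
    rw [hbot, Ideal.mem_bot] at h1
    rw [Ideal.mem_bot]
    exact hinjL (h1.trans (map_zero _).symm)
  haveI := hL
  obtain ⟨π, hπmem, hπprime⟩ := Ideal.IsPrime.exists_mem_prime_of_ne_bot hP'prime hP'0
  obtain ⟨⟨f, ⟨_, k, rfl⟩⟩, hf⟩ := IsLocalization.surj (Submonoid.powers s) π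
  have hf' : π * (algebraMap R (Localization (Submonoid.powers s)) s) ^ k =
      algebraMap R _ f := by
    rw [← map_pow]; exact hf
  have hfprime : Prime (algebraMap R (Localization (Submonoid.powers s)) f) := by
    rw [← hf']
    exact (associated_mul_unit_right π _ (hsu.pow k)).prime hπprime
  have hfmem : algebraMap R (Localization (Submonoid.powers s)) f ∈
      P.map (algebraMap R (Localization (Submonoid.powers s))) := by
    rw [← hf']
    exact Ideal.mul_mem_right _ _ hπmem
  have hfP : f ∈ P := hcomap f hfmem
  have hf0 : f ≠ 0 := fun h0 => hfprime.ne_zero (by rw [h0, map_zero])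
  obtain ⟨m, g, hsg, hfg⟩ := WfDvdMonoid.max_power_factor' hf0 hp.not_unit
  have hgP : g ∈ P := by
    rw [hfg] at hfP
    exact (hPprime.mem_or_mem hfP).resolve_left (fun h => hsP (hPprime.mem_of_pow_mem m h))
  have hfg' : algebraMap R (Localization (Submonoid.powers s)) f =
      algebraMap R _ g * (algebraMap R (Localization (Submonoid.powers s)) s) ^ m := by
    rw [hfg, map_mul, map_pow, mul_comm]
  have hgprime : Prime (algebraMap R (Localization (Submonoid.powers s)) g) := by
    refine (associated_mul_unit_right (algebraMap R _ g) _ (hsu.pow m)).symm.prime ?_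
    rw [← hfg']
    exact hfprime
  have key : ∀ x : R, algebraMap R (Localization (Submonoid.powers s)) g ∣
      algebraMap R (Localization (Submonoid.powers s)) x → g ∣ x := by
    rintro x ⟨z, hz⟩
    obtain ⟨⟨w, ⟨_, n, rfl⟩⟩, hw⟩ := IsLocalization.surj (Submonoid.powers s) z
    have hw' : z * algebraMap R (Localization (Submonoid.powers s)) (s ^ n) =
        algebraMap R _ w := hw
    have h1 : s ^ n * x = g * w := by
      apply hinjL
      rw [map_mul, map_mul, hz, ← hw']
      ring
    have h2 : s ^ n ∣ w := hp.pow_dvd_of_dvd_mul_left n hsg (Dvd.intro x h1)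
    obtain ⟨w', rfl⟩ := h2
    refine ⟨w', ?_⟩
    have h3 : s ^ n * x = s ^ n * (g * w') := by rw [h1]; ring
    exact mul_left_cancel₀ (pow_ne_zero n hs0) h3
  refine ⟨g, hgP, ?_, ?_, ?_⟩
  · rintro rfl
    exact hgprime.ne_zero (map_zero _)
  · intro hu
    exact hPprime.ne_top (Ideal.eq_top_of_isUnit_mem _ hgP hu)
  · intro x y hxy
    have hxy' : algebraMap R (Localization (Submonoid.powers s)) g ∣
        algebraMap R _ x * algebraMap R _ y := by
      rw [← map_mul]; exact map_dvd _ hxy
    rcases hgprime.dvd_or_dvd hxy' with h | h
    · exact Or.inl (key x h)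
    · exact Or.inr (key y h)

/-- Unique factorization lifts from the homogeneous localization at a prime element of degree one, in
the generality of the published argument: let K be a field, R = ⊕_{i ≥ 0} R_i a Noetherian ℕ-graded
commutative K-algebra which is an integral domain, and s ∈ R_1 a homogeneous element of degree one
which is a prime element of R. If the homogeneous localization R_(s) (degree-zero part of R[1/s])
has unique factorization, then R is a unique factorization domain. (The published statement is the
case where R is the homogeneous coordinate ring of a Schubert variety, s the Plücker coordinate of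
the least index, which is a prime element there, and R_(s) the coordinate ring of the opposite
cell.) -/
theorem result (K : Type u) [Field K] (R : Type v)
    [CommRing R] [IsDomain R] [IsNoetherianRing R] [Algebra K R] (𝒜 : ℕ → Submodule K R) [GradedAlgebra 𝒜]
    (s : R) (hs : s ∈ 𝒜 1) (hp : Prime s)
    (h : UniqueFactorizationMonoid (HomogeneousLocalization.Away 𝒜 s)) :
    UniqueFactorizationMonoid R := by
  exact aux K R 𝒜 s hs hp h

end Groth.Agent.S11278
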