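import Groth.Statements.S1128
import Groth.Agent.H23.FlatTower

set_option autoImplicit false
open CategoryTheory CategoryTheory.Limits AlgebraicGeometry Opposite
universe u
open Desc

namespace Groth.Agent.S1128

/-- If f is flat and surjective and the composite of f with g is flat, then g is flat; together with
stability of flatness under composition this says flatness is fpqc local on the source. -/
theorem result {X' X Y : Scheme.{u}} (f : X' ⟶ X) (g : X ⟶ Y) [Flat f]
    [Surjective f] [Flat (f ≫ g)] : Flat g := by
  apply Flat.of_stalkMap
  intro x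
  obtain ⟨x', rfl⟩ := f.surjective x
  have h1 : (f.stalkMap x').hom.Flat := Flat.stalkMap f x'
  have h2 : ((f ≫ g).stalkMap x').hom.Flat := Flat.stalkMap (f ≫ g) x'
  rw [Scheme.Hom.stalkMap_comp] at h2
  let A := Y.presheaf.stalk (g.base (f.base x'))
  let B := X.presheaf.stalk (f.base x')
  let C := X'.presheaf.stalk x'
  letI : Algebra A B := (g.stalkMap (f.base x')).hom.toAlgebra
  letI : Algebra B C := (f.stalkMap x').hom.toAlgebra
  letI : Algebra A C := (g.stalkMap (f.base x') ≫ f.stalkMap x').hom.toAlgebra
  haveI : IsScalarTower A B C := IsScalarTower.of_algebraMap_eq (fun _ => rfl)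
  haveI : Module.Flat B C := h1
  haveI : Module.Flat A C := h2
  haveI : IsLocalHom (algebraMap B C) := inferInstanceAs (IsLocalHom (f.stalkMap x').hom)
  haveI : Module.FaithfullyFlat B C := Module.FaithfullyFlat.of_flat_of_isLocalHom
  exact Groth.Agent.H23.flat_of_flat_of_faithfullyFlat_tower A B C

end Groth.Agent.S1128
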