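import Groth.Statements.S11280
import Mathlib
import Groth.Agent.H27.ArtLift

set_option autoImplicit false
universe u
open Deform

namespace Groth.Agent.S11280

open TensorProduct

theorem mem_smul_top_of_smul_eq_zero {A M ι : Type*} [CommRing A] [IsLocalRing A] [AddCommGroup M]
    [Module A M] (b : Module.Basis ι A M) (t : A) (ht : t ≠ 0) (y : M) (hy : t • y = 0) :
    y ∈ (IsLocalRing.maximalIdeal A • ⊤ : Submodule A M) := by
  classical
  have hc : ∀ i, b.repr y i ∈ IsLocalRing.maximalIdeal A := by
    intro i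
    by_contra hni
    have hu : IsUnit (b.repr y i) := by
      by_contra hnu
      exact hni ((IsLocalRing.mem_maximalIdeal _).2 hnu)
    have h0 : t * b.repr y i = 0 := by
      have := congrArg (fun f => f i) (congrArg b.repr hy)
      simpa using this
    exact ht (hu.mul_left_eq_zero.1 h0)
  rw [← b.linearCombination_repr y, Finsupp.linearCombination_apply]
  refine Submodule.sum_mem _ fun i _ => ?_
  exact Submodule.smul_mem_smul (hc i) Submodule.mem_top

theorem exists_equiv {k A B : Type u} [Field k] [CommRing A] [Algebra k A] [CommRing B]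
    [Algebra A B] [Algebra k B] [IsScalarTower k A B] [Module.Flat A B]
    (𝔪 : Ideal A) (N : ℕ) (hN : 𝔪 ^ N = ⊥)
    (hres : ∀ a : A, ∃ c : k, a - algebraMap k A c ∈ 𝔪)
    (s : (B ⧸ 𝔪.map (algebraMap A B)) →ₐ[k] B)
    (hs : ∀ x, Ideal.Quotient.mk (𝔪.map (algebraMap A B)) (s x) = x) :
    Nonempty ((A ⊗[k] (B ⧸ 𝔪.map (algebraMap A B))) ≃ₐ[A] B) := by
  classical
  obtain ⟨Ψ, hΨ⟩ : ∃ Ψ : (A ⊗[k] (B ⧸ 𝔪.map (algebraMap A B))) →ₐ[A] B,
      ∀ a x, Ψ (a ⊗ₜ[k] x) = algebraMap A B a * s x :=
    ⟨Algebra.TensorProduct.lift (Algebra.ofId A B) s (fun _ _ => Commute.all _ _),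
      fun a x => by rw [Algebra.TensorProduct.lift_tmul]; rfl⟩
  have hsurj : Function.Surjective Ψ := by
    have hrange : (⊤ : Submodule A B) ≤ LinearMap.range Ψ.toLinearMap := by
      have h1 : (⊤ : Submodule A B) ≤ LinearMap.range Ψ.toLinearMap ⊔ 𝔪 • ⊤ := by
        intro b _
        refine Submodule.mem_sup.2 ⟨s (Ideal.Quotient.mk _ b),
          ⟨1 ⊗ₜ[k] Ideal.Quotient.mk _ b, by rw [AlgHom.toLinearMap_apply, hΨ, map_one, one_mul]⟩,
          b - s (Ideal.Quotient.mk _ b), ?_, by ring⟩
        rw [Ideal.smul_top_eq_map]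
        change b - s (Ideal.Quotient.mk _ b) ∈ 𝔪.map (algebraMap A B)
        rw [← Ideal.Quotient.eq_zero_iff_mem, map_sub, hs, sub_self]
      have hj : ∀ j, (⊤ : Submodule A B) ≤ LinearMap.range Ψ.toLinearMap ⊔ (𝔪 ^ j) • ⊤ := by
        intro j
        induction j with
        | zero => rw [pow_zero, Ideal.one_eq_top, Submodule.top_smul]; exact le_sup_right
        | succ j ih =>
          calc (⊤ : Submodule A B) ≤ LinearMap.range Ψ.toLinearMap ⊔ (𝔪 ^ j) • ⊤ := ih
            _ ≤ LinearMap.range Ψ.toLinearMap ⊔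
                (𝔪 ^ j) • (LinearMap.range Ψ.toLinearMap ⊔ 𝔪 • ⊤) :=
                sup_le_sup_left (Submodule.smul_mono le_rfl h1) _
            _ ≤ LinearMap.range Ψ.toLinearMap ⊔ (𝔪 ^ (j + 1)) • ⊤ := by
                rw [Submodule.smul_sup, ← Submodule.mul_smul, ← pow_succ]
                exact sup_le le_sup_left
                  (sup_le (le_sup_of_le_left Submodule.smul_le_right) le_sup_right)
      have := hj N
      rwa [hN, Submodule.bot_smul, sup_bot_eq] at this
    intro b
    obtain ⟨x, hx⟩ := hrange (Submodule.mem_top : b ∈ ⊤)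
    exact ⟨x, hx⟩
  have hinj : Function.Injective Ψ := by
    haveI : Module.Flat A ((A ⊗[k] (B ⧸ 𝔪.map (algebraMap A B))) ⧸ RingHom.ker Ψ) :=
      Module.Flat.of_linearEquiv (Ideal.quotientKerAlgEquivOfSurjective hsurj).toLinearEquiv
    choose res hres' using hres
    have hresB : ∀ a : A, Ideal.Quotient.mk (𝔪.map (algebraMap A B)) (algebraMap A B a) =
        algebraMap k (B ⧸ 𝔪.map (algebraMap A B)) (res a) := by
      intro a
      have h1 := Ideal.mem_map_of_mem (algebraMap A B) (hres' a)
      rw [← Ideal.Quotient.eq_zero_iff_mem, map_sub, map_sub, sub_eq_zero,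
        ← IsScalarTower.algebraMap_apply k A B] at h1
      rw [h1]; rfl
    have himg : RingHom.ker Ψ ≤
        ⊥ ⊔ 𝔪.map (algebraMap A (A ⊗[k] (B ⧸ 𝔪.map (algebraMap A B)))) := by
      rw [bot_sup_eq]
      intro x hx
      have hx0 : Ψ x = 0 := hx
      let bs := Module.Basis.ofVectorSpace k (B ⧸ 𝔪.map (algebraMap A B))
      let bA := Algebra.TensorProduct.basis A bs
      have hsum : x = ∑ i ∈ (bA.repr x).support, bA.repr x i • bA i := by
        conv_lhs => rw [← bA.linearCombination_repr x, Finsupp.linearCombination_apply]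
        rfl
      have hΨb : ∀ i, Ideal.Quotient.mk (𝔪.map (algebraMap A B)) (Ψ (bA.repr x i • bA i)) =
          res (bA.repr x i) • bs i := by
        intro i
        rw [Algebra.TensorProduct.basis_apply, TensorProduct.smul_tmul', smul_eq_mul, mul_one, hΨ,
          map_mul, hs, hresB, Algebra.smul_def]
      have hlin : ∑ i ∈ (bA.repr x).support, res (bA.repr x i) • bs i = 0 := by
        have h0 : Ideal.Quotient.mk (𝔪.map (algebraMap A B))
            (Ψ (∑ i ∈ (bA.repr x).support, bA.repr x i • bA i)) = 0 := by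
          rw [← hsum, hx0, map_zero]
        rw [map_sum, map_sum] at h0
        rw [← h0]
        exact Finset.sum_congr rfl fun i _ => (hΨb i).symm
      have hli := bs.linearIndependent
      rw [linearIndependent_iff'] at hli
      have hz := hli (bA.repr x).support (fun i => res (bA.repr x i)) hlin
      have hmem : ∀ i, bA.repr x i ∈ 𝔪 := by
        intro i
        by_cases hi : i ∈ (bA.repr x).support
        · have h2 := hres' (bA.repr x i)
          rw [hz i hi, map_zero, sub_zero] at h2
          exact h2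
        · rw [Finsupp.notMem_support_iff.1 hi]; exact 𝔪.zero_mem
      rw [hsum]
      refine Ideal.sum_mem _ fun i _ => ?_
      have h := Ideal.mul_mem_right (bA i) _
        (Ideal.mem_map_of_mem (algebraMap A (A ⊗[k] (B ⧸ 𝔪.map (algebraMap A B)))) (hmem i))
      convert h using 1
      exact Algebra.smul_def (bA.repr x i) (bA i)
    have hker : RingHom.ker Ψ = ⊥ :=
      Groth.Agent.H27.ArtLift.ideal_eq_of_flat 𝔪 N hN 𝔪 le_rfl (RingHom.ker Ψ) ⊥ bot_le himg
    exact (RingHom.injective_iff_ker_eq_bot Ψ).2 hker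
  exact ⟨AlgEquiv.ofBijective Ψ ⟨hinj, hsurj⟩⟩


/-- Let k be an algebraically closed field, A a local Artinian k-algebra with residue field k and t an
element of the maximal ideal of A annihilated by the maximal ideal, so that A is a small extension
of A/tA. Let B be a flat A-algebra whose closed fibre B/m_A B is a formally smooth k-algebra (an
infinitesimal deformation over A of a formally smooth k-algebra). Then every A-algebra automorphism
of B/tB is induced by an A-algebra automorphism of B. (The published statement asks the automorphism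
of B/tB to induce the identity on B/m_A B; this row does not. The published statement takes the
closed fibre smooth, that is formally smooth and essentially of finite type; this row asks the
closed fibre to be formally smooth over k in the sense of lifting along all square-zero surjections
of commutative k-algebras, with no finiteness condition.) -/
theorem result
    {k : Type u} [Field k] [IsAlgClosed k]
    {A : Type u} [CommRing A] [Algebra k A] [IsLocalRing A] [IsArtinianRing A]
    (hres : ∀ a : A, ∃ c : k, a - algebraMap k A c ∈ IsLocalRing.maximalIdeal A)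
    (t : A) (ht : t ∈ IsLocalRing.maximalIdeal A)
    (htm : ∀ a ∈ IsLocalRing.maximalIdeal A, a * t = 0)
    {B : Type u} [CommRing B] [Algebra A B] [Module.Flat A B] [Algebra k B] [IsScalarTower k A B]
    (hsm : Algebra.FormallySmooth k (B ⧸ (IsLocalRing.maximalIdeal A).map (algebraMap A B)))
    (σ : (B ⧸ Ideal.span {algebraMap A B t}) ≃ₐ[A] (B ⧸ Ideal.span {algebraMap A B t})) :
    ∃ τ : B ≃ₐ[A] B, ∀ b : B,
      Ideal.Quotient.mk (Ideal.span {algebraMap A B t}) (τ b) =
        σ (Ideal.Quotient.mk (Ideal.span {algebraMap A B t}) b) := by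
  classical
  obtain ⟨N, hN⟩ : ∃ N, (IsLocalRing.maximalIdeal A) ^ N = ⊥ := by
    have h := IsArtinianRing.isNilpotent_jacobson_bot (R := A)
    rw [IsLocalRing.jacobson_eq_maximalIdeal ⊥ bot_ne_top] at h
    obtain ⟨N, hN⟩ := h
    exact ⟨N, hN⟩
  have hnil : IsNilpotent ((IsLocalRing.maximalIdeal A).map (algebraMap A B)) :=
    ⟨N, by rw [← Ideal.map_pow, hN, Ideal.map_bot, Ideal.zero_eq_bot]⟩
  haveI := hsm
  obtain ⟨e⟩ := exists_equiv (k := k) (IsLocalRing.maximalIdeal A) N hN hres
    (Algebra.FormallySmooth.lift _ hnil (AlgHom.id k _)) (fun x => by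
      have := Algebra.FormallySmooth.mk_lift _ hnil
        (AlgHom.id k (B ⧸ (IsLocalRing.maximalIdeal A).map (algebraMap A B))) x
      simpa using this)
  haveI : Algebra.FormallySmooth A B := Algebra.FormallySmooth.of_equiv e
  have htt : algebraMap A B t * algebraMap A B t = 0 := by rw [← map_mul, htm t ht, map_zero]
  have ht2 : (Ideal.span {algebraMap A B t}) ^ 2 = ⊥ := by
    rw [Ideal.span_singleton_pow, pow_two, htt]
    exact Ideal.span_singleton_eq_bot.2 rfl
  have hnil2 : IsNilpotent (Ideal.span {algebraMap A B t}) := ⟨2, by rw [ht2, Ideal.zero_eq_bot]⟩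
  let φ : B →ₐ[A] B ⧸ Ideal.span {algebraMap A B t} :=
    σ.toAlgHom.comp (Ideal.Quotient.mkₐ A _)
  let τ₀ : B →ₐ[A] B := Algebra.FormallySmooth.lift _ hnil2 φ
  have hτ₀ : ∀ b, Ideal.Quotient.mk (Ideal.span {algebraMap A B t}) (τ₀ b) =
      σ (Ideal.Quotient.mk (Ideal.span {algebraMap A B t}) b) := fun b =>
    (Algebra.FormallySmooth.mk_lift _ hnil2 φ b).trans rfl
  have hsurjτ : Function.Surjective τ₀ := by
    have key : ∀ b : B, ∃ b' c : B, b = τ₀ b' + c * algebraMap A B t := by
      intro b
      obtain ⟨q, hq⟩ := σ.surjective (Ideal.Quotient.mk _ b)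
      obtain ⟨b', rfl⟩ := Ideal.Quotient.mk_surjective q
      have h1 : b - τ₀ b' ∈ Ideal.span {algebraMap A B t} := by
        rw [← Ideal.Quotient.eq, hτ₀, hq]
      obtain ⟨c, hc⟩ := Ideal.mem_span_singleton'.1 h1
      exact ⟨b', c, by rw [hc]; ring⟩
    intro b
    obtain ⟨b', c, hb⟩ := key b
    obtain ⟨c', d, hc⟩ := key c
    refine ⟨b' + t • c', ?_⟩
    rw [map_add, map_smul, hb, hc, Algebra.smul_def]
    linear_combination (-d) * htt
  have hinjτ : Function.Injective τ₀ := by
    rw [injective_iff_map_eq_zero]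
    intro b hb
    have h1 : Ideal.Quotient.mk (Ideal.span {algebraMap A B t}) b = 0 := by
      have := hτ₀ b
      rw [hb, map_zero] at this
      exact (map_eq_zero_iff σ σ.injective).1 this.symm
    obtain ⟨c, hc⟩ := Ideal.mem_span_singleton'.1 (Ideal.Quotient.eq_zero_iff_mem.1 h1)
    by_cases ht0 : t = 0
    · rw [← hc, ht0, map_zero, mul_zero]
    have h2 : t • τ₀ c = 0 := by
      rw [← map_smul, Algebra.smul_def, mul_comm, hc, hb]
    let bB := (Algebra.TensorProduct.basis A (Module.Basis.ofVectorSpace k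
      (B ⧸ (IsLocalRing.maximalIdeal A).map (algebraMap A B)))).map e.toLinearEquiv
    have h3 : τ₀ c ∈ (IsLocalRing.maximalIdeal A • ⊤ : Submodule A B) :=
      mem_smul_top_of_smul_eq_zero bB t ht0 _ h2
    rw [Ideal.smul_top_eq_map] at h3
    have h3' : τ₀ c ∈ (IsLocalRing.maximalIdeal A).map (algebraMap A B) := h3
    have hmapQ : ∀ (g : (B ⧸ Ideal.span {algebraMap A B t}) →ₐ[A] (B ⧸ Ideal.span {algebraMap A B t}))
        (q : B ⧸ Ideal.span {algebraMap A B t}),
        q ∈ (IsLocalRing.maximalIdeal A).map (algebraMap A (B ⧸ Ideal.span {algebraMap A B t})) →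
        g q ∈ (IsLocalRing.maximalIdeal A).map (algebraMap A (B ⧸ Ideal.span {algebraMap A B t})) := by
      intro g q hq
      have hcomp : g.toRingHom.comp (algebraMap A (B ⧸ Ideal.span {algebraMap A B t})) =
          algebraMap A (B ⧸ Ideal.span {algebraMap A B t}) := RingHom.ext fun a => g.commutes a
      have := Ideal.mem_map_of_mem g.toRingHom hq
      rw [Ideal.map_map, hcomp] at this
      exact this
    have h4 : Ideal.Quotient.mk (Ideal.span {algebraMap A B t}) (τ₀ c) ∈
        (IsLocalRing.maximalIdeal A).map (algebraMap A (B ⧸ Ideal.span {algebraMap A B t})) := by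
      have := Ideal.mem_map_of_mem (Ideal.Quotient.mk (Ideal.span {algebraMap A B t})) h3'
      rw [Ideal.map_map] at this
      exact this
    rw [hτ₀] at h4
    have h5 : Ideal.Quotient.mk (Ideal.span {algebraMap A B t}) c ∈
        (IsLocalRing.maximalIdeal A).map (algebraMap A (B ⧸ Ideal.span {algebraMap A B t})) := by
      have := hmapQ σ.symm.toAlgHom _ h4
      simpa using this
    have h6 : c ∈ (IsLocalRing.maximalIdeal A).map (algebraMap A B) := by
      have h5' : Ideal.Quotient.mk (Ideal.span {algebraMap A B t}) c ∈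
          ((IsLocalRing.maximalIdeal A).map (algebraMap A B)).map
            (Ideal.Quotient.mk (Ideal.span {algebraMap A B t})) := by
        rw [Ideal.map_map]; exact h5
      obtain ⟨c', hc', hcc⟩ :=
        (Ideal.mem_map_iff_of_surjective _ Ideal.Quotient.mk_surjective).1 h5'
      have h7 : c - c' ∈ Ideal.span {algebraMap A B t} := by
        rw [← Ideal.Quotient.eq, hcc]
      have hI : Ideal.span {algebraMap A B t} ≤ (IsLocalRing.maximalIdeal A).map (algebraMap A B) := by
        rw [Ideal.span_le, Set.singleton_subset_iff]; exact Ideal.mem_map_of_mem _ ht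
      have := Ideal.add_mem _ hc' (hI h7)
      rwa [add_sub_cancel] at this
    have hann : (IsLocalRing.maximalIdeal A).map (algebraMap A B) ≤
        (Ideal.span {algebraMap A B t}).annihilator :=
      Ideal.map_le_iff_le_comap.2 fun a ha => by
        rw [Ideal.mem_comap, Submodule.mem_annihilator_span_singleton, smul_eq_mul, ← map_mul,
          htm a ha, map_zero]
    rw [← hc]
    have := (Submodule.mem_annihilator_span_singleton _ _).1 (hann h6)
    simpa using this
  exact ⟨AlgEquiv.ofBijective τ₀ ⟨hinjτ, hsurjτ⟩, fun b => hτ₀ b⟩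

end Groth.Agent.S11280
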