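import Groth.Statements.S11287
import Mathlib
import Groth.Agent.H27.PSLift
import Groth.Agent.H27.QuotComplete

set_option autoImplicit false
universe u
open Deform

namespace Groth.Agent.S11287

attribute [local instance] Exal.opModule Exal.isCentralScalar_opModule

theorem proj_incl {Λ P : Type u} [CommRing Λ] [CommRing P] [Algebra Λ P] {J : Ideal P}
    {L : Type u} [AddCommGroup L] [Module (P ⧸ J) L] (X : Exal.Ext Λ (P ⧸ J) L) (z : L) :
    X.proj (X.incl z) = 0 :=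
  (X.isExtension.exact _).mpr ⟨z, rfl⟩

theorem rep {Λ P : Type u} [CommRing Λ] [CommRing P] [Algebra Λ P] {J : Ideal P}
    {L : Type u} [AddCommGroup L] [Module (P ⧸ J) L] (X : Exal.Ext Λ (P ⧸ J) L)
    (u : P →ₐ[Λ] X.E) (hu : ∀ p, X.proj (u p) = Ideal.Quotient.mk J p) (x : X.E) :
    ∃ p : P, ∃ z : L, x = u p + X.incl z := by
  obtain ⟨p, hp⟩ := Ideal.Quotient.mk_surjective (X.proj x)
  have h0 : X.proj (x - u p) = 0 := by rw [map_sub, hu, hp, sub_self]
  obtain ⟨z, hz⟩ := (X.isExtension.exact _).mp h0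
  exact ⟨p, z, by rw [hz]; ring⟩

theorem expand {Λ P : Type u} [CommRing Λ] [CommRing P] [Algebra Λ P] {J : Ideal P}
    {L : Type u} [AddCommGroup L] [Module (P ⧸ J) L] (X : Exal.Ext Λ (P ⧸ J) L)
    (u : P →ₐ[Λ] X.E) (hu : ∀ p, X.proj (u p) = Ideal.Quotient.mk J p) (p q : P) (z w : L) :
    (u p + X.incl z) * (u q + X.incl w) =
      u (p * q) + X.incl (Ideal.Quotient.mk J p • w + Ideal.Quotient.mk J q • z) := by
  have h1 : u p * X.incl w = X.incl (Ideal.Quotient.mk J p • w) := by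
    rw [X.isExtension.mul_incl, hu]
  have h2 : X.incl z * u q = X.incl (Ideal.Quotient.mk J q • z) := by
    rw [mul_comm, X.isExtension.mul_incl, hu]
  have h3 : X.incl z * X.incl w = 0 := by
    rw [X.isExtension.mul_incl, proj_incl, zero_smul, map_zero]
  rw [map_mul, map_add]
  linear_combination h1 + h2 + h3

theorem mkHom {Λ P : Type u} [CommRing Λ] [CommRing P] [Algebra Λ P] (J : Ideal P)
    {L : Type u} [AddCommGroup L] [Module (P ⧸ J) L]
    (X X' : Exal.Ext Λ (P ⧸ J) L) (u : P →ₐ[Λ] X.E) (u' : P →ₐ[Λ] X'.E)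
    (hu : ∀ p, X.proj (u p) = Ideal.Quotient.mk J p)
    (hu' : ∀ p, X'.proj (u' p) = Ideal.Quotient.mk J p)
    (H : ∀ j ∈ J, ∃ z : L, X.incl z = u j ∧ X'.incl z = u' j) :
    ∃ θ : X.E →ₐ[Λ] X'.E, ∀ p z, θ (u p + X.incl z) = u' p + X'.incl z := by
  classical
  choose pp zz hpz using rep X u hu
  have key : ∀ (p q : P) (z w : L), u p + X.incl z = u q + X.incl w →
      u' p + X'.incl z = u' q + X'.incl w := by
    intro p q z w h
    have hpq : p - q ∈ J := by
      have h1 := congrArg X.proj h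
      rw [map_add, map_add, hu, hu, proj_incl, proj_incl, add_zero, add_zero] at h1
      exact Ideal.Quotient.eq.mp h1
    obtain ⟨z₀, hz₀, hz₀'⟩ := H _ hpq
    have h2 : X.incl z₀ = X.incl (w - z) := by
      rw [hz₀, map_sub, map_sub]
      linear_combination h
    have h3 : z₀ = w - z := X.isExtension.incl_injective h2
    rw [h3, map_sub, map_sub] at hz₀'
    linear_combination (-1 : X'.E) * hz₀'
  obtain ⟨θf, hθf⟩ : ∃ θf : X.E → X'.E, ∀ x, θf x = u' (pp x) + X'.incl (zz x) :=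
    ⟨_, fun _ => rfl⟩
  have KEY : ∀ p z, θf (u p + X.incl z) = u' p + X'.incl z := by
    intro p z
    rw [hθf]
    exact key _ _ _ _ (hpz _).symm
  have hadd : ∀ x y, θf (x + y) = θf x + θf y := by
    intro x y
    have hx := hpz x
    have hy := hpz y
    have h1 : x + y = u (pp x + pp y) + X.incl (zz x + zz y) := by
      rw [map_add, map_add]; linear_combination hx + hy
    rw [(congrArg θf h1).trans (KEY _ _), hθf x, hθf y, map_add, map_add]
    ring
  have hmul : ∀ x y, θf (x * y) = θf x * θf y := by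
    intro x y
    have hx := hpz x
    have hy := hpz y
    have h1 : x * y = u (pp x * pp y) + X.incl (Ideal.Quotient.mk J (pp x) • zz y +
        Ideal.Quotient.mk J (pp y) • zz x) := by
      rw [← expand X u hu, ← hx, ← hy]
    rw [(congrArg θf h1).trans (KEY _ _), hθf x, hθf y, expand X' u' hu']
  have hone : θf 1 = 1 := by
    have h1 : (1 : X.E) = u 1 + X.incl 0 := by rw [map_one, map_zero, add_zero]
    rw [(congrArg θf h1).trans (KEY _ _), map_one, map_zero, add_zero]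
  have hzero : θf 0 = 0 := by
    have h1 : (0 : X.E) = u 0 + X.incl 0 := by rw [map_zero, map_zero, add_zero]
    rw [(congrArg θf h1).trans (KEY _ _), map_zero, map_zero, add_zero]
  have hcomm : ∀ a : Λ, θf (algebraMap Λ X.E a) = algebraMap Λ X'.E a := by
    intro a
    have h1 : algebraMap Λ X.E a = u (algebraMap Λ P a) + X.incl 0 := by
      rw [AlgHom.commutes, map_zero, add_zero]
    rw [(congrArg θf h1).trans (KEY _ _), AlgHom.commutes, map_zero, add_zero]
  obtain ⟨θ, hθ⟩ : ∃ θ : X.E →ₐ[Λ] X'.E, ∀ x, θ x = θf x :=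
    ⟨{ toFun := θf
       map_one' := hone
       map_mul' := hmul
       map_zero' := hzero
       map_add' := hadd
       commutes' := hcomm }, fun _ => rfl⟩
  exact ⟨θ, fun p z => by rw [hθ]; exact KEY p z⟩

theorem kill_of_mem_jacobson {R : Type u} [CommRing R] {L : Type u} [AddCommGroup L] [Module R L]
    [IsSimpleModule R L] {r : R} (hr : r ∈ Ideal.jacobson (⊥ : Ideal R)) (z : L) : r • z = 0 := by
  obtain ⟨𝔫, hmax, ⟨e⟩⟩ := isSimpleModule_iff_quot_maximal.mp (inferInstance : IsSimpleModule R L)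
  have hr𝔫 : r ∈ 𝔫 :=
    (sInf_le (show 𝔫 ∈ {J : Ideal R | ⊥ ≤ J ∧ J.IsMaximal} from ⟨bot_le, hmax⟩)) hr
  apply e.injective
  rw [map_smul, map_zero]
  obtain ⟨y, hy⟩ := Ideal.Quotient.mk_surjective (e z)
  rw [← hy]
  change Ideal.Quotient.mk 𝔫 (r * y) = 0
  exact Ideal.Quotient.eq_zero_iff_mem.mpr (Ideal.mul_mem_right _ _ hr𝔫)

theorem partA {Λ : Type u} [CommRing Λ] [IsNoetherianRing Λ] (d : ℕ)
    (J : Ideal (MvPowerSeries (Fin d) Λ)) (L : Type u) [AddCommGroup L]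
    [Module (MvPowerSeries (Fin d) Λ ⧸ J) L] [IsSimpleModule (MvPowerSeries (Fin d) Λ ⧸ J) L]
    (X : Exal.Ext Λ (MvPowerSeries (Fin d) Λ ⧸ J) L) :
    ∃ u : MvPowerSeries (Fin d) Λ →ₐ[Λ] X.E, ∀ p, X.proj (u p) = Ideal.Quotient.mk J p := by
  classical
  obtain ⟨𝔛, h𝔛⟩ : ∃ 𝔛 : Ideal (MvPowerSeries (Fin d) Λ),
      𝔛 = Ideal.span (Set.range MvPowerSeries.X) := ⟨_, rfl⟩
  haveI : IsAdicComplete 𝔛 (MvPowerSeries (Fin d) Λ) := h𝔛 ▸ inferInstance
  haveI hRc : IsAdicComplete (𝔛.map (Ideal.Quotient.mk J)) (MvPowerSeries (Fin d) Λ ⧸ J) :=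
    Groth.Agent.H27.QuotComplete.isAdicComplete_quotient 𝔛 J
  have hsurj : Function.Surjective X.proj.toRingHom := X.isExtension.proj_surjective
  have hkermem : ∀ x, x ∈ RingHom.ker X.proj.toRingHom ↔ x ∈ Set.range X.incl := fun x => by
    rw [RingHom.mem_ker]; exact X.isExtension.exact x
  have hsq : RingHom.ker X.proj.toRingHom ^ 2 = ⊥ := by
    rw [eq_bot_iff, pow_two, Ideal.mul_le]
    intro a ha b hb
    obtain ⟨z, rfl⟩ := (hkermem a).mp ha
    obtain ⟨w, rfl⟩ := (hkermem b).mp hb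
    rw [Ideal.mem_bot, X.isExtension.mul_incl, proj_incl,
      zero_smul (MvPowerSeries (Fin d) Λ ⧸ J) w, map_zero]
  have hfg : (RingHom.ker X.proj.toRingHom).FG := by
    haveI := IsSimpleModule.nontrivial (MvPowerSeries (Fin d) Λ ⧸ J) L
    obtain ⟨z₀, hz₀⟩ := exists_ne (0 : L)
    refine ⟨{X.incl z₀}, ?_⟩
    rw [Finset.coe_singleton]
    apply le_antisymm
    · rw [Ideal.span_le, Set.singleton_subset_iff]
      exact (hkermem _).mpr ⟨z₀, rfl⟩
    · intro a ha
      obtain ⟨z, rfl⟩ := (hkermem a).mp ha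
      obtain ⟨r, hr⟩ := IsSimpleModule.toSpanSingleton_surjective
        (MvPowerSeries (Fin d) Λ ⧸ J) hz₀ z
      obtain ⟨e, rfl⟩ := X.isExtension.proj_surjective r
      have h1 : X.incl z = e * X.incl z₀ := by
        rw [X.isExtension.mul_incl, ← hr, LinearMap.toSpanSingleton_apply]
      rw [h1]
      exact Ideal.mul_mem_left _ _ (Ideal.subset_span rfl)
  haveI hEc : IsAdicComplete ((𝔛.map (Ideal.Quotient.mk J)).comap X.proj.toRingHom) X.E :=
    Groth.Agent.H27.PSLift.isAdicComplete_of_sqZero_ext _ X.proj.toRingHom hsurj hsq hfg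
  choose e he using fun i =>
    X.isExtension.proj_surjective (Ideal.Quotient.mk J (MvPowerSeries.X i))
  have hXmem : ∀ i, Ideal.Quotient.mk J (MvPowerSeries.X i) ∈ 𝔛.map (Ideal.Quotient.mk J) :=
    fun i => Ideal.mem_map_of_mem _ (h𝔛 ▸ Ideal.subset_span ⟨i, rfl⟩)
  have heJ : ∀ i, e i ∈ (𝔛.map (Ideal.Quotient.mk J)).comap X.proj.toRingHom := fun i => by
    rw [Ideal.mem_comap]
    show X.proj (e i) ∈ _
    rw [he]
    exact hXmem i
  obtain ⟨u, huC, huX⟩ :=
    Groth.Agent.H27.PSLift.exists_ps_hom_gen _ (algebraMap Λ X.E) e heJ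
  have hfu : X.proj.toRingHom.comp u = Ideal.Quotient.mk J := by
    apply Groth.Agent.H27.PSLift.ps_ringHom_ext_complete (𝔛.map (Ideal.Quotient.mk J))
    · intro a
      rw [RingHom.comp_apply, huC]
      show X.proj (algebraMap Λ X.E a) = Ideal.Quotient.mk J (MvPowerSeries.C a)
      rw [AlgHom.commutes, MvPowerSeries.c_eq_algebraMap]
      rfl
    · intro i
      rw [RingHom.comp_apply, huX]
      exact he i
    · intro i
      rw [RingHom.comp_apply, huX]
      show X.proj (e i) ∈ _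
      rw [he]
      exact hXmem i
  obtain ⟨l, hl⟩ : ∃ l : MvPowerSeries (Fin d) Λ →ₐ[Λ] X.E, ∀ p, l p = u p :=
    ⟨{ toRingHom := u
       commutes' := fun r => by
        show u (algebraMap Λ (MvPowerSeries (Fin d) Λ) r) = algebraMap Λ X.E r
        rw [← MvPowerSeries.c_eq_algebraMap, huC] }, fun p => rfl⟩
  exact ⟨l, fun p => by rw [hl]; exact DFunLike.congr_fun hfu p⟩

theorem partBfwd {Λ P : Type u} [CommRing Λ] [CommRing P] [Algebra Λ P] (J 𝔛 : Ideal P)
    (hJ : J ≤ 𝔛 ^ 2) {L : Type u} [AddCommGroup L] [Module (P ⧸ J) L]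
    (hkill : ∀ a ∈ 𝔛, ∀ z : L, Ideal.Quotient.mk J a • z = 0)
    (X X' : Exal.Ext Λ (P ⧸ J) L) (u : P →ₐ[Λ] X.E) (u' : P →ₐ[Λ] X'.E)
    (hu : ∀ p, X.proj (u p) = Ideal.Quotient.mk J p)
    (hu' : ∀ p, X'.proj (u' p) = Ideal.Quotient.mk J p)
    (e : X.Equiv X') (j : P) (hj : j ∈ J) : ∃ z : L, X.incl z = u j ∧ X'.incl z = u' j := by
  have h0 : X.proj (u j) = 0 := by rw [hu]; exact Ideal.Quotient.eq_zero_iff_mem.mpr hj
  obtain ⟨z, hz⟩ := (X.isExtension.exact _).mp h0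
  refine ⟨z, hz, ?_⟩
  rw [← e.apply_incl, hz]
  have hδ : ∀ p : P, ∃ w : L, X'.incl w = u' p - e.toAlgEquiv (u p) := by
    intro p
    have h1 : X'.proj (u' p - e.toAlgEquiv (u p)) = 0 := by
      rw [map_sub, hu', e.proj_apply, hu, sub_self]
    exact (X'.isExtension.exact _).mp h1
  have hprod : ∀ a ∈ 𝔛, ∀ b ∈ 𝔛, u' (a * b) - e.toAlgEquiv (u (a * b)) = 0 := by
    intro a ha b hb
    obtain ⟨w, hw⟩ := hδ b
    obtain ⟨w', hw'⟩ := hδ a
    have h1 : u' a * X'.incl w = 0 := by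
      rw [X'.isExtension.mul_incl, hu', hkill a ha, map_zero]
    have h2 : e.toAlgEquiv (u b) * X'.incl w' = 0 := by
      rw [X'.isExtension.mul_incl, e.proj_apply, hu, hkill b hb, map_zero]
    rw [map_mul, map_mul, map_mul]
    linear_combination h1 + h2 - (u' a) * hw - (e.toAlgEquiv (u b)) * hw'
  have hall : ∀ x ∈ 𝔛 ^ 2, u' x - e.toAlgEquiv (u x) = 0 := by
    intro x hx
    rw [pow_two] at hx
    have hx' : x ∈ 𝔛 • 𝔛 := hx
    refine Submodule.smul_induction_on (p := fun x => u' x - e.toAlgEquiv (u x) = 0) hx'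
      (fun a ha b hb => by simpa only [smul_eq_mul] using hprod a ha b hb)
      (fun x y hx hy => ?_)
    show u' (x + y) - e.toAlgEquiv (u (x + y)) = 0
    rw [map_add, map_add, map_add]
    linear_combination hx + hy
  exact (sub_eq_zero.mp (hall j (hJ hj))).symm

theorem partC {Λ P : Type u} [CommRing Λ] [CommRing P] [Algebra Λ P] (J : Ideal P)
    (L : Type u) [AddCommGroup L] [Module (P ⧸ J) L] [Module P L] [IsScalarTower P (P ⧸ J) L]
    [IsSimpleModule (P ⧸ J) L] (δ : J →ₗ[P] L) :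
    ∃ (X : Exal.Ext Λ (P ⧸ J) L) (u : P →ₐ[Λ] X.E),
      (∀ p, X.proj (u p) = Ideal.Quotient.mk J p) ∧ ∀ j : J, X.incl (δ j) = u j := by
  classical
  have hsm : ∀ (p : P) (z : L), Ideal.Quotient.mk J p • z = p • z :=
    fun p z => IsScalarTower.algebraMap_smul (P ⧸ J) p z
  by_cases hδ : δ = 0
  · subst hδ
    refine ⟨Exal.Ext.trivial Λ (P ⧸ J) L,
      ⟨((TrivSqZeroExt.inlHom (P ⧸ J) L).comp (Ideal.Quotient.mk J) :
        P →+* (Exal.Ext.trivial Λ (P ⧸ J) L).E), fun a => rfl⟩, fun p => rfl, fun j => ?_⟩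
    show (Exal.Ext.trivial Λ (P ⧸ J) L).incl ((0 : J →ₗ[P] L) j) =
      TrivSqZeroExt.inl (Ideal.Quotient.mk J (j : P))
    rw [LinearMap.zero_apply, map_zero, Ideal.Quotient.eq_zero_iff_mem.mpr j.2,
      TrivSqZeroExt.inl_zero]
    rfl
  · have hsurjδ : Function.Surjective δ := by
      obtain ⟨j₀, hj₀⟩ : ∃ j₀ : J, δ j₀ ≠ 0 := by
        by_contra hcon
        push Not at hcon
        exact hδ (LinearMap.ext fun j => by rw [hcon j]; rfl)
      intro z
      obtain ⟨r, hr⟩ := IsSimpleModule.toSpanSingleton_surjective (P ⧸ J) hj₀ z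
      obtain ⟨p, rfl⟩ := Ideal.Quotient.mk_surjective r
      refine ⟨p • j₀, ?_⟩
      rw [map_smul, ← hr, LinearMap.toSpanSingleton_apply, hsm]
    obtain ⟨K, hK⟩ : ∃ K : Ideal P, ∀ p, p ∈ K ↔ ∃ h : p ∈ J, δ ⟨p, h⟩ = 0 := by
      refine ⟨Submodule.map J.subtype (LinearMap.ker δ), fun p => ?_⟩
      rw [Submodule.mem_map]
      constructor
      · rintro ⟨j, hj, rfl⟩
        exact ⟨j.2, LinearMap.mem_ker.mp hj⟩
      · rintro ⟨h, h0⟩
        exact ⟨⟨p, h⟩, LinearMap.mem_ker.mpr h0, rfl⟩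
    have KJ : K ≤ J := fun p hp => by
      obtain ⟨h, -⟩ := (hK p).mp hp
      exact h
    obtain ⟨s, hs⟩ : ∃ s : L → J, ∀ z, δ (s z) = z :=
      ⟨Function.surjInv hsurjδ, Function.surjInv_eq hsurjδ⟩
    have memK : ∀ (a b : J), δ a = δ b →
        Ideal.Quotient.mk K (a : P) = Ideal.Quotient.mk K (b : P) := by
      intro a b h
      refine Ideal.Quotient.eq.mpr ((hK _).mpr ⟨J.sub_mem a.2 b.2, ?_⟩)
      have h1 : (⟨(a : P) - (b : P), J.sub_mem a.2 b.2⟩ : J) = a - b := Subtype.ext rfl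
      rw [h1, map_sub, h, sub_self]
    obtain ⟨incl, hincl⟩ : ∃ incl : L →+ P ⧸ K, ∀ z, incl z = Ideal.Quotient.mk K (s z : P) :=
      ⟨AddMonoidHom.mk' (fun z => Ideal.Quotient.mk K (s z : P)) (fun z w => by
        rw [← map_add]
        exact memK (s (z + w)) (s z + s w) (by rw [hs, map_add, hs, hs])), fun _ => rfl⟩
    refine ⟨{ E := P ⧸ K
              proj := Ideal.Quotient.factorₐ Λ KJ
              incl := incl
              isExtension := ⟨?_, ?_, ?_, ?_⟩ }, Ideal.Quotient.mkₐ Λ K, fun p => rfl, fun j => ?_⟩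
    · intro y
      obtain ⟨p, rfl⟩ := Ideal.Quotient.mk_surjective y
      exact ⟨Ideal.Quotient.mk K p, rfl⟩
    · intro z w h
      rw [hincl, hincl] at h
      obtain ⟨hmem, h0⟩ := (hK _).mp (Ideal.Quotient.eq.mp h)
      have h1 : (⟨(s z : P) - (s w : P), hmem⟩ : J) = s z - s w := Subtype.ext rfl
      rw [h1, map_sub, hs, hs] at h0
      exact sub_eq_zero.mp h0
    · intro x
      obtain ⟨p, rfl⟩ := Ideal.Quotient.mk_surjective x
      constructor
      · intro h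
        have hp : p ∈ J := Ideal.Quotient.eq_zero_iff_mem.mp h
        refine ⟨δ ⟨p, hp⟩, ?_⟩
        rw [hincl]
        exact memK (s (δ ⟨p, hp⟩)) ⟨p, hp⟩ (hs _)
      · rintro ⟨z, hz⟩
        rw [← hz, hincl]
        exact Ideal.Quotient.eq_zero_iff_mem.mpr (s z).2
    · intro x z
      obtain ⟨p, rfl⟩ := Ideal.Quotient.mk_surjective x
      rw [hincl, hincl, ← map_mul]
      exact memK (p • s z) (s (Ideal.Quotient.mk J p • z)) (by rw [map_smul, hs, hs, hsm])
    · show incl (δ j) = Ideal.Quotient.mk K (j : P)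
      rw [hincl]
      exact memK (s (δ j)) j (hs _)


/-- Let k be an algebraically closed field, Λ a complete local Noetherian k-algebra with residue field
k, P = Λ[[X_1, …, X_d]] the power series ring, J an ideal of P contained in (X_1, …, X_d)^2, R =
P/J, and L a simple R-module (a copy of the residue field k). Then: (a) for every Λ-extension 0 → L
→ E → R → 0 the quotient map P → R lifts to a Λ-algebra map u : P → E; (b) for two such extensions
E, E' with lifts u, u', the extensions are equivalent if and only if u and u' send every element of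
J to the images of the same element of L (the restrictions J → L of the lifts agree); (c) every
P-linear map J → L is the restriction of a lift for some extension. Thus the classes of Λ-extensions
of R by L correspond bijectively to Hom_P(J, L), the dual of J/m_P J; this is the identification of
the obstruction space o(R/Λ) for a complete R (the general case reduces to it by passing to the
completion). -/
theorem result
    {k : Type u} [Field k] [IsAlgClosed k]
    {Λ : Type u} [CommRing Λ] [Algebra k Λ] [IsLocalRing Λ] [IsNoetherianRing Λ]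
    [IsAdicComplete (IsLocalRing.maximalIdeal Λ) Λ]
    (hΛ : ∀ a : Λ, ∃ c : k, a - algebraMap k Λ c ∈ IsLocalRing.maximalIdeal Λ)
    (d : ℕ) (J : Ideal (MvPowerSeries (Fin d) Λ))
    (hJ : J ≤ Ideal.span (Set.range (MvPowerSeries.X : Fin d → MvPowerSeries (Fin d) Λ)) ^ 2)
    (L : Type u) [AddCommGroup L] [Module (MvPowerSeries (Fin d) Λ ⧸ J) L] [Module (MvPowerSeries (Fin d) Λ) L]
    [IsScalarTower (MvPowerSeries (Fin d) Λ) (MvPowerSeries (Fin d) Λ ⧸ J) L] [IsSimpleModule (MvPowerSeries (Fin d) Λ ⧸ J) L] :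
    (∀ X : Exal.Ext Λ (MvPowerSeries (Fin d) Λ ⧸ J) L,
        ∃ u : MvPowerSeries (Fin d) Λ →ₐ[Λ] X.E, ∀ p, X.proj (u p) = Ideal.Quotient.mk J p) ∧
    (∀ (X X' : Exal.Ext Λ (MvPowerSeries (Fin d) Λ ⧸ J) L) (u : MvPowerSeries (Fin d) Λ →ₐ[Λ] X.E) (u' : MvPowerSeries (Fin d) Λ →ₐ[Λ] X'.E),
        (∀ p, X.proj (u p) = Ideal.Quotient.mk J p) → (∀ p, X'.proj (u' p) = Ideal.Quotient.mk J p) →
        (Nonempty (X.Equiv X') ↔ ∀ j ∈ J, ∃ z : L, X.incl z = u j ∧ X'.incl z = u' j)) ∧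
    (∀ δ : J →ₗ[MvPowerSeries (Fin d) Λ] L, ∃ (X : Exal.Ext Λ (MvPowerSeries (Fin d) Λ ⧸ J) L) (u : MvPowerSeries (Fin d) Λ →ₐ[Λ] X.E),
        (∀ p, X.proj (u p) = Ideal.Quotient.mk J p) ∧ ∀ j : J, X.incl (δ j) = u j) := by
  classical
  obtain ⟨𝔛, h𝔛⟩ : ∃ 𝔛 : Ideal (MvPowerSeries (Fin d) Λ),
      𝔛 = Ideal.span (Set.range MvPowerSeries.X) := ⟨_, rfl⟩
  haveI : IsAdicComplete 𝔛 (MvPowerSeries (Fin d) Λ) := h𝔛 ▸ inferInstance
  haveI hRc : IsAdicComplete (𝔛.map (Ideal.Quotient.mk J)) (MvPowerSeries (Fin d) Λ ⧸ J) :=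
    Groth.Agent.H27.QuotComplete.isAdicComplete_quotient 𝔛 J
  have hkill : ∀ a ∈ 𝔛, ∀ z : L, Ideal.Quotient.mk J a • z = 0 := fun a ha z =>
    kill_of_mem_jacobson (IsAdicComplete.le_jacobson_bot _ (Ideal.mem_map_of_mem _ ha)) z
  have hJ' : J ≤ 𝔛 ^ 2 := h𝔛 ▸ hJ
  refine ⟨fun X => partA d J L X, fun X X' u u' hu hu' =>
    ⟨fun ⟨e⟩ j hj => partBfwd J 𝔛 hJ' hkill X X' u u' hu hu' e j hj, fun H => ?_⟩,
    fun δ => partC J L δ⟩
  obtain ⟨θ, hθ⟩ := mkHom J X X' u u' hu hu' H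
  obtain ⟨θ', hθ'⟩ := mkHom J X' X u' u hu' hu
    (fun j hj => let ⟨z, h1, h2⟩ := H j hj; ⟨z, h2, h1⟩)
  refine ⟨⟨AlgEquiv.ofAlgHom θ θ' (AlgHom.ext fun y => ?_) (AlgHom.ext fun x => ?_),
    fun x => ?_, fun z => ?_⟩⟩
  · obtain ⟨p, z, rfl⟩ := rep X' u' hu' y
    show θ (θ' _) = _
    rw [hθ', hθ]
    rfl
  · obtain ⟨p, z, rfl⟩ := rep X u hu x
    show θ' (θ _) = _
    rw [hθ, hθ']
    rfl
  · obtain ⟨p, z, rfl⟩ := rep X u hu x
    show X'.proj (θ _) = _
    rw [hθ, map_add, map_add, hu, hu', proj_incl, proj_incl]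
  · show θ (X.incl z) = _
    have h := hθ 0 z
    rw [map_zero, zero_add, map_zero, zero_add] at h
    exact h

end Groth.Agent.S11287
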