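import Groth.Statements.S11288
import Mathlib.LinearAlgebra.Basis.VectorSpace
import Mathlib.Tactic.LinearCombination
import Mathlib.RingTheory.Ideal.Quotient.Operations

set_option autoImplicit false
universe u
open Deform

namespace Groth.Agent.S11288

/-- Let K be a field, R' a local Artinian K-algebra with residue field K, and t a nonzero element of the
maximal ideal m' of R' with m' t = 0, so that R' → R = R'/(t) is a small extension of R. Then the
extension is trivial, i.e. the projection admits a section which is a K-algebra map, if and only if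
t is not in m'^2; equivalently, iff the surjection m'/m'^2 → m_R/m_R^2 induced on cotangent spaces,
whose kernel is spanned by the class of t, is not bijective. For instance K[t]/(t^(n+1)) →
K[t]/(t^n) is a non-trivial small extension for n ≥ 2. (The published example allows any local
K-algebra with residue field K; the row takes R' Artinian, the case in which the subalgebra
generated by lifts of a basis of the cotangent space maps onto R.) -/
theorem result
    {K : Type u} [Field K]
    {R' : Type u} [CommRing R'] [Algebra K R'] [IsLocalRing R'] [IsArtinianRing R']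
    (hres : ∀ a : R', ∃ c : K, a - algebraMap K R' c ∈ IsLocalRing.maximalIdeal R')
    (t : R') (ht : t ∈ IsLocalRing.maximalIdeal R') (ht0 : t ≠ 0)
    (htm : ∀ a ∈ IsLocalRing.maximalIdeal R', a * t = 0) :
    (∃ s : (R' ⧸ Ideal.span {t}) →ₐ[K] R', ∀ x, Ideal.Quotient.mk (Ideal.span {t}) (s x) = x) ↔
      t ∉ IsLocalRing.maximalIdeal R' ^ 2 := by
  have htt : t * t = 0 := htm t ht
  constructor
  · rintro ⟨s, hs⟩ htm2
    -- σ = s ∘ π
    set π := Ideal.Quotient.mk (Ideal.span {t}) with hπ
    have hσ : ∀ x : R', ∃ r : R', s (π x) = x + r * t := by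
      intro x
      have h1 : π (s (π x) - x) = 0 := by rw [map_sub, hs, sub_self]
      rw [Ideal.Quotient.eq_zero_iff_mem, Ideal.mem_span_singleton'] at h1
      obtain ⟨r, hr⟩ := h1
      exact ⟨r, by rw [hr]; ring⟩
    have hmul : ∀ a ∈ IsLocalRing.maximalIdeal R', ∀ b ∈ IsLocalRing.maximalIdeal R',
        s (π (a * b)) = a * b := by
      intro a ha b hb
      obtain ⟨ra, hra⟩ := hσ a
      obtain ⟨rb, hrb⟩ := hσ b
      rw [map_mul, map_mul, hra, hrb]
      have h1 : a * t = 0 := htm a ha
      have h2 : b * t = 0 := htm b hb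
      calc (a + ra * t) * (b + rb * t)
          = a * b + rb * (a * t) + ra * (b * t) + ra * rb * (t * t) := by ring
        _ = a * b := by rw [h1, h2, htt]; ring
    have hfix : ∀ x ∈ IsLocalRing.maximalIdeal R' ^ 2, s (π x) = x := by
      intro x hx
      rw [pow_two] at hx
      refine Submodule.mul_induction_on hx (fun a ha b hb => hmul a ha b hb) ?_
      intro x y hx hy
      rw [map_add, map_add, hx, hy]
    have h0 : s (π t) = 0 := by
      have : π t = 0 := Ideal.Quotient.eq_zero_iff_mem.mpr (Ideal.mem_span_singleton_self t)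
      rw [this, map_zero]
    exact ht0 (by rw [← hfix t htm2, h0])
  · intro htm2
    -- the K-subspace P = m² + K·1
    let P : Submodule K R' :=
      ((IsLocalRing.maximalIdeal R' ^ 2).restrictScalars K) ⊔ Submodule.span K {(1 : R')}
    have htP : t ∉ P := by
      intro h
      obtain ⟨z, hz, w, hw, hzw⟩ := Submodule.mem_sup.mp h
      obtain ⟨c, rfl⟩ := Submodule.mem_span_singleton.mp hw
      have hz' : z ∈ IsLocalRing.maximalIdeal R' ^ 2 := hz
      have hzm : z ∈ IsLocalRing.maximalIdeal R' := Ideal.pow_le_self two_ne_zero hz'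
      have hc : c • (1 : R') ∈ IsLocalRing.maximalIdeal R' := by
        have : c • (1 : R') = t - z := by rw [← hzw]; ring
        rw [this]; exact Ideal.sub_mem _ ht hzm
      by_cases hc0 : c = 0
      · apply htm2
        rw [← hzw, hc0, zero_smul, add_zero]; exact hz'
      · have hu : IsUnit (c • (1 : R')) := by
          rw [← Algebra.algebraMap_eq_smul_one]
          exact (IsUnit.mk0 c hc0).map (algebraMap K R')
        exact (IsLocalRing.mem_maximalIdeal _).mp hc hu
    obtain ⟨φ, hφP, hφt⟩ := LinearMap.exists_extend_of_notMem (0 : P →ₗ[K] K) htP 1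
    have hφ0 : ∀ x ∈ P, φ x = 0 := fun x hx => by
      have := LinearMap.congr_fun hφP ⟨x, hx⟩
      simpa using this
    have hφ1 : φ 1 = 0 := hφ0 1 (Submodule.mem_sup_right (Submodule.mem_span_singleton_self 1))
    have hφm2 : ∀ a ∈ IsLocalRing.maximalIdeal R', ∀ b ∈ IsLocalRing.maximalIdeal R',
        φ (a * b) = 0 := fun a ha b hb =>
      hφ0 _ (Submodule.mem_sup_left (by
        change a * b ∈ IsLocalRing.maximalIdeal R' ^ 2
        rw [pow_two]; exact Ideal.mul_mem_mul ha hb))
    -- σ x = x - φ x • t
    let σl : R' →ₗ[K] R' := LinearMap.id - (LinearMap.toSpanSingleton K R' t).comp φ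
    have hσl : ∀ x, σl x = x - φ x • t := fun x => rfl
    have hσmul : ∀ x y, σl (x * y) = σl x * σl y := by
      intro x y
      obtain ⟨cx, hcx⟩ := hres x
      obtain ⟨cy, hcy⟩ := hres y
      obtain ⟨mx, hmx, rfl⟩ : ∃ mx ∈ IsLocalRing.maximalIdeal R',
          x = algebraMap K R' cx + mx := ⟨x - algebraMap K R' cx, hcx, by ring⟩
      obtain ⟨my, hmy, rfl⟩ : ∃ my ∈ IsLocalRing.maximalIdeal R',
          y = algebraMap K R' cy + my := ⟨y - algebraMap K R' cy, hcy, by ring⟩
      have hφA : ∀ c : K, φ (algebraMap K R' c) = 0 := fun c => by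
        rw [Algebra.algebraMap_eq_smul_one, map_smul, hφ1, smul_zero]
      have hφx : φ (algebraMap K R' cx + mx) = φ mx := by rw [map_add, hφA, zero_add]
      have hφy : φ (algebraMap K R' cy + my) = φ my := by rw [map_add, hφA, zero_add]
      have hφxy : φ ((algebraMap K R' cx + mx) * (algebraMap K R' cy + my)) =
          cx * φ my + cy * φ mx := by
        have e : (algebraMap K R' cx + mx) * (algebraMap K R' cy + my) =
            algebraMap K R' (cx * cy) + cx • my + cy • mx + mx * my := by
          simp only [Algebra.smul_def, map_mul]; ring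
        rw [e, map_add, map_add, map_add, map_smul, map_smul, hφA, hφm2 mx hmx my hmy]
        simp
      have h1 : mx * t = 0 := htm mx hmx
      have h2 : my * t = 0 := htm my hmy
      rw [hσl, hσl, hσl, hφxy, hφx, hφy]
      simp only [Algebra.smul_def, map_add, map_mul]
      linear_combination (algebraMap K R' (φ my)) * h1 + (algebraMap K R' (φ mx)) * h2
        - (algebraMap K R' (φ mx) * algebraMap K R' (φ my)) * htt
    have hσ1 : σl 1 = 1 := by rw [hσl, hφ1, zero_smul, sub_zero]
    let σ : R' →ₐ[K] R' := AlgHom.ofLinearMap σl hσ1 hσmul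
    have hσt : ∀ a ∈ Ideal.span {t}, σ a = 0 := by
      intro a ha
      obtain ⟨r, rfl⟩ := Ideal.mem_span_singleton'.mp ha
      have : σ t = 0 := by
        change σl t = 0
        rw [hσl, hφt, one_smul, sub_self]
      rw [map_mul, this, mul_zero]
    refine ⟨Ideal.Quotient.liftₐ (Ideal.span {t}) σ hσt, fun x => ?_⟩
    obtain ⟨x, rfl⟩ := Ideal.Quotient.mk_surjective x
    have e : Ideal.Quotient.liftₐ (Ideal.span {t}) σ hσt (Ideal.Quotient.mk (Ideal.span {t}) x) =
        σl x := rfl
    rw [e]
    rw [hσl, map_sub, sub_eq_self, Ideal.Quotient.eq_zero_iff_mem, Algebra.smul_def]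
    exact Ideal.mul_mem_left _ _ (Ideal.mem_span_singleton_self t)

end Groth.Agent.S11288
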