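import Groth.Statements.S11294
import Mathlib

set_option autoImplicit false
universe u
open Deform

namespace Groth.Agent.S11294

open TrivSqZeroExt

variable {P : Type u} [CommRing P] (J : Ideal P)

lemma snd_mul' (c x : DualNumber P) : (c * x).snd = c.fst * x.snd + c.snd * x.fst := by
  rw [TrivSqZeroExt.snd_mul]
  simp [mul_comm]

/-- the ideal attached to φ -/
def idealOf (φ : J →ₗ[P] (P ⧸ J)) : Ideal (DualNumber P) where
  carrier := {x | ∃ h : x.fst ∈ J, Ideal.Quotient.mk J x.snd = φ ⟨x.fst, h⟩}
  zero_mem' := by
    refine ⟨by simp, ?_⟩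
    have : (⟨(0 : DualNumber P).fst, by simp⟩ : J) = 0 := Subtype.ext (by simp)
    rw [this]; simp
  add_mem' := by
    rintro x y ⟨hx, hx'⟩ ⟨hy, hy'⟩
    refine ⟨by simpa using J.add_mem hx hy, ?_⟩
    have : (⟨(x + y).fst, by simpa using J.add_mem hx hy⟩ : J) = ⟨x.fst, hx⟩ + ⟨y.fst, hy⟩ :=
      Subtype.ext (by simp)
    rw [this, map_add, ← hx', ← hy']
    simp
  smul_mem' := by
    rintro c x ⟨hx, hx'⟩
    have h1 : (c • x).fst ∈ J := by
      rw [smul_eq_mul, TrivSqZeroExt.fst_mul]; exact J.mul_mem_left _ hx
    refine ⟨h1, ?_⟩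
    have : (⟨(c • x).fst, h1⟩ : J) = c.fst • ⟨x.fst, hx⟩ :=
      Subtype.ext (by simp)
    rw [this, map_smul, ← hx', smul_eq_mul, snd_mul', map_add, map_mul, map_mul,
      Ideal.Quotient.eq_zero_iff_mem.2 hx, mul_zero, add_zero, Algebra.smul_def,
      Ideal.Quotient.algebraMap_eq]

lemma mem_idealOf (φ : J →ₗ[P] (P ⧸ J)) (a b : P) :
    (inl a + inr b : DualNumber P) ∈ idealOf J φ ↔
      ∃ h : a ∈ J, Ideal.Quotient.mk J b = φ ⟨a, h⟩ := by
  change (∃ h : (inl a + inr b : DualNumber P).fst ∈ J,
    Ideal.Quotient.mk J (inl a + inr b : DualNumber P).snd = φ ⟨_, h⟩) ↔ _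
  have e1 : (inl a + inr b : DualNumber P).fst = a := by simp
  have e2 : (inl a + inr b : DualNumber P).snd = b := by simp
  constructor
  · rintro ⟨h, h'⟩
    refine ⟨e1 ▸ h, ?_⟩
    rw [e2] at h'
    rw [h']
    exact congrArg φ (Subtype.ext e1)
  · rintro ⟨h, h'⟩
    refine ⟨e1.symm ▸ h, ?_⟩
    rw [e2, h']
    exact congrArg φ (Subtype.ext e1.symm)

lemma ideal_ext (J₁ J₂ : Ideal (DualNumber P))
    (h : ∀ a b : P, (inl a + inr b : DualNumber P) ∈ J₁ ↔ (inl a + inr b : DualNumber P) ∈ J₂) :
    J₁ = J₂ := by
  ext x
  rw [← TrivSqZeroExt.inl_fst_add_inr_snd_eq x]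
  exact h _ _

open TrivSqZeroExt in
/-- Let P be a commutative ring, J an ideal, and P[ε] the ring of dual numbers over P. First-order
embedded deformations of Spec(P/J) in Spec P, namely ideals J' of P[ε] lifting J (the image of J'
under ε ↦ 0 is J) with P[ε]/J' flat over the dual numbers — flatness being replaced by the condition
that every element of P[ε]/J' annihilated by ε is a multiple of ε (equivalent to flatness over k[ε]
when P is an algebra over a field k) — are in canonical bijection with Hom_P(J, P/J) =
Hom_{P/J}(J/J^2, P/J), the normal module: to φ corresponds the ideal of all a + εb with a in J and b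
reducing to φ(a) modulo J. The first clause says this rule defines exactly one ideal for each φ; the
second says an ideal J' is a flat lift of J precisely when its membership is given by this rule for
some φ. (The published statement is the global one, identifying first-order deformations of a closed
subscheme X of an algebraic scheme Y with H^0(X, N_{X/Y}); this row is the affine computation in its
proof, valid for every commutative ring P.) -/
theorem result (P : Type u) [CommRing P] (J : Ideal P) :
    (∀ φ : J →ₗ[P] (P ⧸ J), ∃! J' : Ideal (DualNumber P),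
        ∀ a b : P, (inl a + inr b : DualNumber P) ∈ J' ↔ ∃ h : a ∈ J, Ideal.Quotient.mk J b = φ ⟨a, h⟩) ∧
    (∀ J' : Ideal (DualNumber P),
      (J'.map (TrivSqZeroExt.fstHom P P P) = J ∧
        ∀ m : DualNumber P ⧸ J', Ideal.Quotient.mk J' DualNumber.eps * m = 0 →
          ∃ m' : DualNumber P ⧸ J', m = Ideal.Quotient.mk J' DualNumber.eps * m') ↔
      ∃ φ : J →ₗ[P] (P ⧸ J), ∀ a b : P,
        (inl a + inr b : DualNumber P) ∈ J' ↔ ∃ h : a ∈ J, Ideal.Quotient.mk J b = φ ⟨a, h⟩) := by
  constructor
  · intro φ
    refine ⟨idealOf J φ, mem_idealOf J φ, ?_⟩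
    intro J' hJ'
    apply ideal_ext
    intro a b
    rw [hJ' a b, mem_idealOf]
  · intro J'
    have hsurj : Function.Surjective (TrivSqZeroExt.fstHom P P P) := fun a => ⟨inl a, by simp⟩
    constructor
    · rintro ⟨hmap, hflat⟩
      -- elements of J lift
      have hlift : ∀ a ∈ J, ∃ b : P, (inl a + inr b : DualNumber P) ∈ J' := by
        intro a ha
        rw [← hmap] at ha
        obtain ⟨x, hx, hxa⟩ := (Ideal.mem_map_iff_of_surjective _ hsurj).1 ha
        refine ⟨x.snd, ?_⟩
        have : x.fst = a := hxa
        rw [← this, TrivSqZeroExt.inl_fst_add_inr_snd_eq]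
        exact hx
      have hfst : ∀ x ∈ J', x.fst ∈ J := by
        intro x hx
        rw [← hmap]
        exact Ideal.mem_map_of_mem (TrivSqZeroExt.fstHom P P P) hx
      -- ε j ∈ J' for j ∈ J
      have heps : ∀ j ∈ J, (inr j : DualNumber P) ∈ J' := by
        intro j hj
        obtain ⟨c, hc⟩ := hlift j hj
        have := J'.mul_mem_left (inr 1 : DualNumber P) hc
        have e : (inr 1 : DualNumber P) * (inl j + inr c) = inr j := by
          ext <;> simp [snd_mul']
        rwa [e] at this
      -- ε b ∈ J' → b ∈ J
      have heps' : ∀ b : P, (inr b : DualNumber P) ∈ J' → b ∈ J := by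
        intro b hb
        have h0 : Ideal.Quotient.mk J' DualNumber.eps * Ideal.Quotient.mk J' (inl b) = 0 := by
          rw [← map_mul, Ideal.Quotient.eq_zero_iff_mem]
          have e : (DualNumber.eps : DualNumber P) * inl b = inr b := by
            ext <;> simp [snd_mul']
          rwa [e]
        obtain ⟨m', hm'⟩ := hflat _ h0
        obtain ⟨y, rfl⟩ := Ideal.Quotient.mk_surjective m'
        rw [← map_mul, Ideal.Quotient.eq] at hm'
        have := hfst _ hm'
        simpa using this
      choose! β hβ using hlift
      have hwd : ∀ a b, (inl a + inr b : DualNumber P) ∈ J' → ∀ h : a ∈ J,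
          Ideal.Quotient.mk J b = Ideal.Quotient.mk J (β a) := by
        intro a b hab h
        rw [Ideal.Quotient.eq]
        apply heps'
        have := J'.sub_mem hab (hβ a h)
        have e : (inl a + inr b : DualNumber P) - (inl a + inr (β a)) = inr (b - β a) := by
          ext <;> simp
        rwa [e] at this
      refine ⟨{ toFun := fun a => Ideal.Quotient.mk J (β a.1)
                map_add' := ?_
                map_smul' := ?_ }, ?_⟩
      · rintro ⟨a, ha⟩ ⟨a', ha'⟩
        change Ideal.Quotient.mk J (β (a + a')) = Ideal.Quotient.mk J (β a) + Ideal.Quotient.mk J (β a')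
        rw [← map_add]
        symm
        apply hwd (a + a') _ _ (J.add_mem ha ha')
        have := J'.add_mem (hβ a ha) (hβ a' ha')
        have e : (inl a + inr (β a) : DualNumber P) + (inl a' + inr (β a')) =
            inl (a + a') + inr (β a + β a') := by
          ext <;> simp
        rwa [e] at this
      · rintro c ⟨a, ha⟩
        change Ideal.Quotient.mk J (β (c * a)) = Ideal.Quotient.mk J (c * β a)
        symm
        apply hwd (c * a) _ _ (J.mul_mem_left c ha)
        have := J'.mul_mem_left (inl c : DualNumber P) (hβ a ha)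
        have e : (inl c : DualNumber P) * (inl a + inr (β a)) = inl (c * a) + inr (c * β a) := by
          ext <;> simp [snd_mul']
        rwa [e] at this
      · intro a b
        constructor
        · intro hab
          have ha : a ∈ J := by simpa using hfst _ hab
          exact ⟨ha, hwd a b hab ha⟩
        · rintro ⟨ha, hb⟩
          change Ideal.Quotient.mk J b = Ideal.Quotient.mk J (β a) at hb
          rw [Ideal.Quotient.eq] at hb
          have := J'.add_mem (hβ a ha) (heps _ hb)
          have e : (inl a + inr (β a) : DualNumber P) + inr (b - β a) = inl a + inr b := by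
            ext <;> simp
          rwa [e] at this
    · rintro ⟨φ, hφ⟩
      constructor
      · apply le_antisymm
        · rw [Ideal.map_le_iff_le_comap]
          intro x hx
          rw [← TrivSqZeroExt.inl_fst_add_inr_snd_eq x, hφ] at hx
          obtain ⟨h, -⟩ := hx
          exact h
        · intro a ha
          obtain ⟨b, hb⟩ := Ideal.Quotient.mk_surjective (φ ⟨a, ha⟩)
          have : (inl a + inr b : DualNumber P) ∈ J' := (hφ a b).2 ⟨ha, hb⟩
          have h2 := Ideal.mem_map_of_mem (TrivSqZeroExt.fstHom P P P) this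
          simpa using h2
      · intro m hm
        obtain ⟨x, rfl⟩ := Ideal.Quotient.mk_surjective m
        rw [← map_mul, Ideal.Quotient.eq_zero_iff_mem] at hm
        have e : (DualNumber.eps : DualNumber P) * x = inl 0 + inr x.fst := by
          ext <;> simp [snd_mul']
        rw [e, hφ] at hm
        obtain ⟨h0, hx0⟩ := hm
        have hxJ : x.fst ∈ J := by
          have : (⟨0, h0⟩ : J) = 0 := rfl
          rw [this, map_zero] at hx0
          exact Ideal.Quotient.eq_zero_iff_mem.1 hx0
        obtain ⟨b, hb⟩ := Ideal.Quotient.mk_surjective (φ ⟨x.fst, hxJ⟩)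
        refine ⟨Ideal.Quotient.mk J' (inl (x.snd - b)), ?_⟩
        rw [← map_mul, Ideal.Quotient.eq]
        have e2 : x - DualNumber.eps * inl (x.snd - b) = inl x.fst + inr b := by
          ext <;> simp [snd_mul']
        rw [e2, hφ]
        exact ⟨hxJ, hb⟩

end Groth.Agent.S11294
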