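import Groth.Statements.S11298
import Mathlib
import Groth.Agent.H29.DepthLib

set_option autoImplicit false
universe u v
open LocCoh

namespace Groth.Agent.S11298

/-- Let X = Spec B be an affine Noetherian scheme, Z = V(I) a closed subscheme and G a coherent sheaf,
i.e. a finitely generated B-module M, with dual G^v = Hom_B(M, B). If depth_Z(O_X) ≥ 2 then
depth_Z(G^v) ≥ 2. Here the depth along I of a module N is the supremum of the lengths of N-regular
sequences contained in I (and is infinite when I N = N). (The published statement adds that sections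
of the dual over X and over X minus Z agree; this row omits that clause.) -/
theorem result (B : Type u) [CommRing B] [IsNoetherianRing B]
    (I : Ideal B) (M : Type v) [AddCommGroup M] [Module B M] [Module.Finite B M]
    (h : 2 ≤ LocCoh.idealDepth I B) : 2 ≤ LocCoh.idealDepth I (M →ₗ[B] B) := by
  open Groth.Agent.H29 RingTheory.Sequence Pointwise in
  classical
  by_cases hN : I • (⊤ : Submodule B (M →ₗ[B] B)) = ⊤
  · unfold LocCoh.idealDepth
    rw [if_pos hN]
    exact le_top
  by_cases hB : I • (⊤ : Submodule B B) = ⊤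
  · exfalso
    apply hN
    have hI : I = ⊤ := by rwa [smul_eq_mul, Ideal.mul_top] at hB
    rw [hI]
    exact Submodule.top_smul _
  have h2 : ((2 : ℕ) : ℕ∞) ≤ LocCoh.idealDepth I B := by exact_mod_cast h
  obtain ⟨rs, hlen, hreg, hmem⟩ := (le_idealDepth_iff I B hB 2).1 h2
  obtain ⟨x, y, rfl⟩ : ∃ x y, rs = [x, y] := by
    match rs, hlen with
    | [x, y], _ => exact ⟨x, y, rfl⟩
  rw [isWeaklyRegular_cons_iff] at hreg
  obtain ⟨hx, hreg'⟩ := hreg
  rw [isWeaklyRegular_cons_iff] at hreg'
  obtain ⟨hy, -⟩ := hreg'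
  have hy' := (isSMulRegular_quotient_iff_mem_of_smul_mem _ y).1 hy
  have hxN : IsSMulRegular (M →ₗ[B] B) x := by
    intro φ ψ hφψ
    ext m
    apply hx
    exact LinearMap.congr_fun hφψ m
  have hyN : IsSMulRegular (QuotSMulTop x (M →ₗ[B] B)) y := by
    rw [isSMulRegular_quotient_iff_mem_of_smul_mem]
    intro φ hφ
    rw [Submodule.mem_smul_pointwise_iff_exists] at hφ ⊢
    obtain ⟨ψ, -, hψ⟩ := hφ
    -- for each m, φ m ∈ x • ⊤
    have hm : ∀ m : M, ∃ b : B, x • b = φ m := by
      intro m
      have h1 : y • φ m ∈ x • (⊤ : Submodule B B) := by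
        rw [Submodule.mem_smul_pointwise_iff_exists]
        refine ⟨ψ m, Submodule.mem_top, ?_⟩
        have := LinearMap.congr_fun hψ m
        exact this
      have h3 := hy' (φ m) h1
      rw [Submodule.mem_smul_pointwise_iff_exists] at h3
      obtain ⟨b, -, hb⟩ := h3
      exact ⟨b, hb⟩
    choose χ hχ using hm
    refine ⟨{ toFun := χ, map_add' := ?_, map_smul' := ?_ }, Submodule.mem_top, ?_⟩
    · intro m m'
      apply hx
      show x • χ (m + m') = x • (χ m + χ m')
      rw [smul_add, hχ, hχ, hχ, map_add]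
    · intro c m
      apply hx
      show x • χ (c • m) = x • (c • χ m)
      rw [smul_comm x c, hχ, hχ, map_smul]
    · ext m
      exact hχ m
  refine (le_idealDepth_iff I _ hN 2).2 ⟨[x, y], rfl, ?_, hmem⟩
  rw [isWeaklyRegular_cons_iff]
  refine ⟨hxN, ?_⟩
  rw [isWeaklyRegular_cons_iff]
  exact ⟨hyN, IsWeaklyRegular.nil _ _⟩

end Groth.Agent.S11298
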