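import Groth.Statements.S11299
import Mathlib

set_option autoImplicit false
universe u
open CAlg

namespace Groth.Agent.S11299

section
variable {P : Type u} [CommRing P] (J : Ideal P)
variable {F : Type u} [AddCommGroup F] [Module P F] {F' : Type u} [AddCommGroup F'] [Module P F']

/-- trivial relations -/
def Rtr (j : F →ₗ[P] P) : Submodule P F :=
  Submodule.span P {y : F | ∃ u v : F, y = j u • v - j v • u}

/-- restrictions of maps from `F` -/
abbrev Res (j : F →ₗ[P] P) : Submodule P (↥(LinearMap.ker j) →ₗ[P] (P ⧸ J)) :=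
  LinearMap.range (LinearMap.lcomp P (P ⧸ J) (LinearMap.ker j).subtype)

/-- maps vanishing on trivial relations -/
abbrev Van (j : F →ₗ[P] P) : Submodule P (↥(LinearMap.ker j) →ₗ[P] (P ⧸ J)) :=
  LinearMap.ker (LinearMap.lcomp P (P ⧸ J)
    (Submodule.comap (LinearMap.ker j).subtype (Rtr j)).subtype)

abbrev T2 (j : F →ₗ[P] P) : Submodule P ((↥(LinearMap.ker j) →ₗ[P] (P ⧸ J)) ⧸ Res J j) :=
  Submodule.map (Res J j).mkQ (Van J j)

lemma mem_Van (j : F →ₗ[P] P) (φ : ↥(LinearMap.ker j) →ₗ[P] (P ⧸ J)) :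
    φ ∈ Van J j ↔ ∀ x : LinearMap.ker j, (x : F) ∈ Rtr j → φ x = 0 := by
  rw [LinearMap.mem_ker]
  constructor
  · intro h x hx
    have := LinearMap.congr_fun h ⟨x, hx⟩
    exact this
  · intro h
    ext y
    exact h y.1 y.2

lemma mem_Res (j : F →ₗ[P] P) (φ : ↥(LinearMap.ker j) →ₗ[P] (P ⧸ J)) :
    φ ∈ Res J j ↔ ∃ ψ : F →ₗ[P] (P ⧸ J), ∀ x : LinearMap.ker j, φ x = ψ x := by
  rw [LinearMap.mem_range]
  constructor
  · rintro ⟨ψ, rfl⟩
    exact ⟨ψ, fun x => rfl⟩
  · rintro ⟨ψ, hψ⟩
    refine ⟨ψ, ?_⟩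
    ext x
    exact (hψ x).symm

variable (j : F →ₗ[P] P) (j' : F' →ₗ[P] P) (h : F' →ₗ[P] F) (hh : ∀ x, j (h x) = j' x)

/-- the map on relation modules -/
def hR : ↥(LinearMap.ker j') →ₗ[P] ↥(LinearMap.ker j) :=
  h.restrict (fun x hx => by
    rw [LinearMap.mem_ker] at hx ⊢
    rw [hh, hx])

lemma hR_coe (x : LinearMap.ker j') : ((hR j j' h hh x : LinearMap.ker j) : F) = h x := rfl

/-- pullback of homomorphisms -/
def Lam : (↥(LinearMap.ker j) →ₗ[P] (P ⧸ J)) →ₗ[P] (↥(LinearMap.ker j') →ₗ[P] (P ⧸ J)) :=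
  LinearMap.lcomp P (P ⧸ J) (hR j j' h hh)

lemma Lam_apply (φ : ↥(LinearMap.ker j) →ₗ[P] (P ⧸ J)) (x : LinearMap.ker j') :
    Lam J j j' h hh φ x = φ (hR j j' h hh x) := rfl

lemma Lam_Res : Res J j ≤ Submodule.comap (Lam J j j' h hh) (Res J j') := by
  intro φ hφ
  rw [Submodule.mem_comap]
  rw [mem_Res] at hφ ⊢
  obtain ⟨ψ, hψ⟩ := hφ
  refine ⟨ψ.comp h, fun x => ?_⟩
  rw [Lam_apply, hψ]
  rfl

include hh in
lemma h_Rtr : ∀ y ∈ Rtr j', h y ∈ Rtr j := by
  intro y hy
  induction hy using Submodule.span_induction with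
  | mem y hy =>
    obtain ⟨u, v, rfl⟩ := hy
    apply Submodule.subset_span
    refine ⟨h u, h v, ?_⟩
    rw [map_sub, map_smul, map_smul, hh, hh]
  | zero => rw [map_zero]; exact Submodule.zero_mem _
  | add a b _ _ ha hb => rw [map_add]; exact Submodule.add_mem _ ha hb
  | smul c a _ ha => rw [map_smul]; exact Submodule.smul_mem _ c ha

lemma Lam_Van : ∀ φ ∈ Van J j, Lam J j j' h hh φ ∈ Van J j' := by
  intro φ hφ
  rw [mem_Van] at hφ ⊢
  intro x hx
  rw [Lam_apply]
  apply hφ
  rw [hR_coe]
  exact h_Rtr j j' h hh _ hx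

/-- induced map on quotients -/
def LamQ : ((↥(LinearMap.ker j) →ₗ[P] (P ⧸ J)) ⧸ Res J j) →ₗ[P]
    ((↥(LinearMap.ker j') →ₗ[P] (P ⧸ J)) ⧸ Res J j') :=
  (Res J j).mapQ (Res J j') (Lam J j j' h hh) (Lam_Res J j j' h hh)

lemma LamQ_mk (φ : ↥(LinearMap.ker j) →ₗ[P] (P ⧸ J)) :
    LamQ J j j' h hh ((Res J j).mkQ φ) = (Res J j').mkQ (Lam J j j' h hh φ) := rfl

/-- induced map on `T²` -/
def Theta : ↥(T2 J j) →ₗ[P] ↥(T2 J j') :=
  (LamQ J j j' h hh).restrict (fun τ hτ => by
    obtain ⟨φ, hφ, rfl⟩ := hτ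
    exact ⟨Lam J j j' h hh φ, Lam_Van J j j' h hh φ hφ, rfl⟩)

lemma Theta_coe (τ : T2 J j) :
    ((Theta J j j' h hh τ : T2 J j') : _ ⧸ Res J j') = LamQ J j j' h hh τ.1 := rfl

variable (h' : F →ₗ[P] F') (hh' : ∀ x, j' (h' x) = j x)

lemma Theta_comp : (Theta J j' j h' hh').comp (Theta J j j' h hh) = LinearMap.id := by
  ext τ
  obtain ⟨τ, φ, hφ, rfl⟩ := τ
  show LamQ J j' j h' hh' (LamQ J j j' h hh ((Res J j).mkQ φ)) = (Res J j).mkQ φ
  rw [LamQ_mk, LamQ_mk]
  show Submodule.Quotient.mk _ = Submodule.Quotient.mk _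
  rw [Submodule.Quotient.eq, mem_Res]
  have hker : ∀ u : F, h (h' u) - u ∈ LinearMap.ker j := by
    intro u
    rw [LinearMap.mem_ker, map_sub, hh, hh', sub_self]
  refine ⟨φ.comp (LinearMap.codRestrict (LinearMap.ker j) (h.comp h' - LinearMap.id) hker), ?_⟩
  intro x
  rw [LinearMap.sub_apply, Lam_apply, Lam_apply, ← map_sub]
  rfl

end

/-- The second cotangent module does not depend on the presentation: let P be a commutative ring, J an
ideal and B = P/J. For a presentation of J, i.e. a finitely generated free P-module F with a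
P-linear map j : F → P with image J, let R = ker j be the relation module and R^tr ⊆ R the span of
the trivial relations j(u) • v - j(v) • u; the module T^2 of the presentation is the quotient of
Hom_B(R/R^tr, B), realised as the P-linear maps R → P/J vanishing on R^tr, by the restrictions to R
of the P-linear maps F → P/J (here: the image of that submodule in the quotient of Hom_P(R, P/J) by
the restrictions). Then for two presentations (F, j) and (F', j') of the same ideal J the two
modules T^2 are isomorphic as P-modules (existence of an isomorphism; the comparison maps depend on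
expressing one system of generators through the other). (The published statement takes B essentially
of finite type over a field and P smooth; this row allows any commutative ring P and ideal J.) -/
theorem result (P : Type u) [CommRing P] (J : Ideal P)
    (F : Type u) [AddCommGroup F] [Module P F] [Module.Free P F] [Module.Finite P F]
    (F' : Type u) [AddCommGroup F'] [Module P F'] [Module.Free P F'] [Module.Finite P F']
    (j : F →ₗ[P] P) (j' : F' →ₗ[P] P) (hj : LinearMap.range j = J) (hj' : LinearMap.range j' = J) :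
    Nonempty (↥(Submodule.map
          (LinearMap.range (LinearMap.lcomp P (P ⧸ J) (LinearMap.ker j).subtype)).mkQ
          (LinearMap.ker (LinearMap.lcomp P (P ⧸ J)
            (Submodule.comap (LinearMap.ker j).subtype
              (Submodule.span P {y : F | ∃ u v : F, y = j u • v - j v • u})).subtype))) ≃ₗ[P]
      ↥(Submodule.map
          (LinearMap.range (LinearMap.lcomp P (P ⧸ J) (LinearMap.ker j').subtype)).mkQ
          (LinearMap.ker (LinearMap.lcomp P (P ⧸ J)
            (Submodule.comap (LinearMap.ker j').subtype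
              (Submodule.span P {y : F' | ∃ u v : F', y = j' u • v - j' v • u})).subtype)))) := by
  have hproj : Module.Projective P F := inferInstance
  have hproj' : Module.Projective P F' := inferInstance
  -- lifts
  have hrange : LinearMap.range j = LinearMap.range j' := hj.trans hj'.symm
  obtain ⟨h, hh⟩ : ∃ h : F' →ₗ[P] F, ∀ x, j (h x) = j' x := by
    obtain ⟨h, hh⟩ := Module.projective_lifting_property j.rangeRestrict
      (j'.codRestrict (LinearMap.range j) (fun x => by rw [hrange]; exact LinearMap.mem_range_self _ x))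
      (LinearMap.surjective_rangeRestrict j)
    refine ⟨h, fun x => ?_⟩
    have := congrArg Subtype.val (LinearMap.congr_fun hh x)
    exact this
  obtain ⟨h', hh'⟩ : ∃ h' : F →ₗ[P] F', ∀ x, j' (h' x) = j x := by
    obtain ⟨h', hh'⟩ := Module.projective_lifting_property j'.rangeRestrict
      (j.codRestrict (LinearMap.range j') (fun x => by rw [← hrange]; exact LinearMap.mem_range_self _ x))
      (LinearMap.surjective_rangeRestrict j')
    refine ⟨h', fun x => ?_⟩
    have := congrArg Subtype.val (LinearMap.congr_fun hh' x)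
    exact this
  exact ⟨LinearEquiv.ofLinear (Theta J j j' h hh) (Theta J j' j h' hh')
    (Theta_comp J j' j h' hh' h hh) (Theta_comp J j j' h hh h' hh')⟩

end Groth.Agent.S11299
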