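import Groth.Statements.S11306
import Mathlib

set_option autoImplicit false
universe u
open TensorProduct
open CAlg

namespace Groth.Agent.S11306

/-- Take a Noetherian local domain A, with residue field k and fraction field K, and let M be a finitely
generated A-module. If k ⊗_A M and K ⊗_A M have the same dimension r (over k and over K
respectively), then M is a free A-module of rank r. -/
theorem result (A : Type u) [CommRing A] [IsDomain A]
    [IsNoetherianRing A] [IsLocalRing A] (M : Type u) [AddCommGroup M] [Module A M] [Module.Finite A M] (r : ℕ)
    (hk : Module.finrank (IsLocalRing.ResidueField A) (IsLocalRing.ResidueField A ⊗[A] M) = r)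
    (hK : Module.finrank (FractionRing A) (FractionRing A ⊗[A] M) = r) :
    Module.Free A M ∧ Module.finrank A M = r := by
  classical
  have b : Module.Basis (Fin r) (IsLocalRing.ResidueField A) (IsLocalRing.ResidueField A ⊗[A] M) :=
    Module.finBasisOfFinrankEq _ _ hk
  have hsurj : Function.Surjective (TensorProduct.mk A (IsLocalRing.ResidueField A) M 1) :=
    TensorProduct.mk_surjective A M _ Ideal.Quotient.mk_surjective
  choose f hf using fun i => hsurj (b i)
  have hspan : Submodule.span A (Set.range f) = ⊤ :=
    IsLocalRing.span_eq_top_of_tmul_eq_basis f b hf
  let g : M →ₗ[A] FractionRing A ⊗[A] M := TensorProduct.mk A (FractionRing A) M 1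
  have hspanK : ⊤ ≤ Submodule.span (FractionRing A) (Set.range (g ∘ f)) := by
    rw [Set.range_comp, ← Submodule.baseChange_span, hspan, Submodule.baseChange_top]
  have hliK : LinearIndependent (FractionRing A) (g ∘ f) :=
    linearIndependent_of_top_le_span_of_card_eq_finrank hspanK (by simp [hK])
  have hliA : LinearIndependent A (g ∘ f) :=
    (LinearIndependent.iff_fractionRing A (FractionRing A)).mpr hliK
  have hli : LinearIndependent A f := LinearIndependent.of_comp g hliA
  let B : Module.Basis (Fin r) A M := Module.Basis.mk hli (by rw [hspan])
  exact ⟨Module.Free.of_basis B, by rw [Module.finrank_eq_card_basis B]; simp⟩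

end Groth.Agent.S11306
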