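import Groth.Statements.S1131
import Mathlib

set_option autoImplicit false
open CategoryTheory CategoryTheory.Limits AlgebraicGeometry Opposite
universe u
open Desc

namespace Groth.Agent.S1131

/-- If p : X ⟶ S is surjective, flat and quasi-compact, then the functor sending a scheme over S to its
canonical descent datum relative to p is full. (Faithfulness, which needs no quasi-compactness, is a
companion statement.) (Descent data are taken in functor-of-points form, equivalent by the Yoneda
lemma to the usual form of an isomorphism over X ×_S X satisfying the cocycle condition.) -/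
theorem result {X S : Scheme.{u}} (p : X ⟶ S) [Surjective p] [Flat p] [QuasiCompact p] :
    (Desc.toDD p).Full := by
  refine ⟨fun {U U'} F => ?_⟩
  let f : pullback p U.hom ⟶ pullback p U'.hom := F.hom.left
  have hf : f ≫ pullback.fst p U'.hom = pullback.fst p U.hom := Over.w F.hom
  have : EffectiveEpi (pullback.snd p U.hom) := inferInstance
  have key : ∀ {T : Scheme.{u}} (g₁ g₂ : T ⟶ pullback p U.hom),
      g₁ ≫ pullback.snd p U.hom = g₂ ≫ pullback.snd p U.hom →
      g₁ ≫ (f ≫ pullback.snd p U'.hom) = g₂ ≫ (f ≫ pullback.snd p U'.hom) := by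
    intro T g₁ g₂ hg
    have hx : (g₁ ≫ pullback.fst p U.hom) ≫ p = (g₂ ≫ pullback.fst p U.hom) ≫ p := by
      rw [Category.assoc, Category.assoc, pullback.condition, ← Category.assoc,
        ← Category.assoc, hg]
    have hw : (g₁ ≫ f) ≫ pullback.fst p U'.hom = g₁ ≫ pullback.fst p U.hom := by
      rw [Category.assoc, hf]
    have hlift : (Desc.canMap p U (g₁ ≫ pullback.fst p U.hom) (g₂ ≫ pullback.fst p U.hom) hx
        ⟨g₁, rfl⟩).1 = g₂ := by
      rw [Desc.canMap_val]
      apply pullback.hom_ext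
      · rw [pullback.lift_fst]
      · rw [pullback.lift_snd]; exact hg
    have hlift' : (Desc.canMap p U' (g₁ ≫ pullback.fst p U.hom) (g₂ ≫ pullback.fst p U.hom) hx
        ⟨g₁ ≫ f, hw⟩).1 ≫ pullback.snd p U'.hom = (g₁ ≫ f) ≫ pullback.snd p U'.hom := by
      rw [Desc.canMap_val, pullback.lift_snd]
    have hc : (Desc.canMap p U' (g₁ ≫ pullback.fst p U.hom) (g₂ ≫ pullback.fst p U.hom) hx
        ⟨g₁ ≫ f, hw⟩).1 = (Desc.canMap p U (g₁ ≫ pullback.fst p U.hom)
          (g₂ ≫ pullback.fst p U.hom) hx ⟨g₁, rfl⟩).1 ≫ f :=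
      F.comm (g₁ ≫ pullback.fst p U.hom) (g₂ ≫ pullback.fst p U.hom) hx
        ⟨g₁, rfl⟩ ⟨g₁ ≫ f, hw⟩ rfl
    rw [hlift] at hc
    calc g₁ ≫ f ≫ pullback.snd p U'.hom
        = (g₁ ≫ f) ≫ pullback.snd p U'.hom := (Category.assoc _ _ _).symm
      _ = (g₂ ≫ f) ≫ pullback.snd p U'.hom := by rw [← hlift', hc]
      _ = g₂ ≫ f ≫ pullback.snd p U'.hom := Category.assoc _ _ _
  have hg : pullback.snd p U.hom ≫ EffectiveEpi.desc (pullback.snd p U.hom)
      (f ≫ pullback.snd p U'.hom) (fun g₁ g₂ hg => key g₁ g₂ hg) =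
      f ≫ pullback.snd p U'.hom := EffectiveEpi.fac _ _ _
  have hgS : EffectiveEpi.desc (pullback.snd p U.hom)
      (f ≫ pullback.snd p U'.hom) (fun g₁ g₂ hg => key g₁ g₂ hg) ≫ U'.hom = U.hom := by
    have : Epi (pullback.snd p U.hom) := inferInstance
    rw [← cancel_epi (pullback.snd p U.hom), ← Category.assoc, hg, Category.assoc,
      ← pullback.condition, ← Category.assoc, hf, pullback.condition]
  refine ⟨Over.homMk _ hgS, ?_⟩
  apply Desc.SchDD.hom_ext
  apply Over.OverMorphism.ext
  apply pullback.hom_ext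
  · exact (pullback.lift_fst _ _ _).trans ((Category.comp_id _).trans hf.symm)
  · exact (pullback.lift_snd _ _ _).trans hg

end Groth.Agent.S1131
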