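import Groth.Statements.S11320
import Groth.Agent.H10.FiltSec
import Mathlib

set_option autoImplicit false
universe u
open CategoryTheory CategoryTheory.Limits
open CohTop

namespace Groth.Agent.S11320

/-- On a Noetherian topological space X, the direct limit, in the category of abelian sheaves, of a
directed system (F_i) of flasque abelian sheaves indexed by a nonempty directed preorder is flasque
(all its restriction maps are surjective). -/
theorem result {X : TopCat.{u}} [TopologicalSpace.NoetherianSpace X]
    (ι : Type u) [Preorder ι] [IsDirected ι (· ≤ ·)] [Nonempty ι]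
    (D : ι ⥤ CohTop.Ab X) (hD : ∀ i : ι, TopCat.Sheaf.IsFlasque (D.obj i)) :
    TopCat.Sheaf.IsFlasque (colimit D : CohTop.Ab X) := by
  constructor
  intro U V i
  rw [AddCommGrpCat.epi_iff_surjective]
  intro t
  obtain ⟨j, s, hs⟩ := Groth.Agent.H10.FiltSec.surj_of_hc D (colimit.cocone D)
    (colimit.isColimit D) V.unop
    (fun W _ => TopologicalSpace.NoetherianSpace.isCompact _) t
  haveI := hD j
  obtain ⟨s', hs'⟩ := (AddCommGrpCat.epi_iff_surjective _).mp
    (TopCat.Presheaf.IsFlasque.epi (F := (D.obj j).obj) i) s
  refine ⟨(colimit.ι D j).hom.app U s', ?_⟩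
  refine Eq.trans ?_ hs
  refine Eq.trans ?_ (congrArg (fun z => (colimit.ι D j).hom.app V z) hs')
  exact (NatTrans.naturality_apply (colimit.ι D j).hom i s').symm

end Groth.Agent.S11320
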