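import Groth.Statements.S11450
import Groth.Agent.H13.TorOne

set_option autoImplicit false
universe u
open CategoryTheory
open DefT

namespace Groth.Agent.S11450

/-- A module M over a Noetherian commutative ring A is flat if and only if Tor_1^A(M, A/p) vanishes for
every prime ideal p of A. -/
theorem result (A : Type u) [CommRing A]
    [IsNoetherianRing A] (M : Type u) [AddCommGroup M] [Module A M] :
    Module.Flat A M ↔ ∀ p : Ideal A, p.IsPrime →
      Limits.IsZero (((CategoryTheory.Tor (ModuleCat.{u} A) 1).obj (ModuleCat.of A M)).obj (ModuleCat.of A (A ⧸ p))) := by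
  open Groth.Agent.H13.TorBal Groth.Agent.H13.TorBC Groth.Agent.H13.TorOne TensorProduct in
  constructor
  · intro hM p _
    have hs : Subsingleton (DRing.Tor A 1 M (A ⧸ p)) :=
      subsingleton_tor_one_of_injective M (A ⧸ p) p.subtype p.mkQ
        (Submodule.injective_subtype _) (Submodule.mkQ_surjective _) (LinearMap.exact_subtype_mkQ p)
        (Module.Flat.lTensor_preserves_injective_linearMap _ (Submodule.injective_subtype _))
    exact ModuleCat.isZero_of_subsingleton _
  · intro h
    let Pr : ProjectiveResolution (ModuleCat.of A M) := ProjectiveResolution.of _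
    have hfl : ∀ n, Module.Flat A ↑(Pr.complex.X n) := flat_X Pr
    let ι := (LinearMap.range (dd Pr 0)).subtype
    have hιinj : Function.Injective ι := Submodule.injective_subtype _
    have hex : Function.Exact ι (aug Pr) :=
      Groth.Agent.H13.TorFlat.exact_subtype_zero (fun n => ↑(Pr.complex.X n)) (dd Pr) (aug Pr)
        (exact_aug Pr)
    -- vanishing of Tor₁ gives injectivity
    have hT : ∀ (N : Type u) [AddCommGroup N] [Module A N],
        Limits.IsZero (((CategoryTheory.Tor (ModuleCat.{u} A) 1).obj (ModuleCat.of A M)).obj
          (ModuleCat.of A N)) → Function.Injective (ι.rTensor N) := by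
      intro N _ _ hz
      obtain ⟨e⟩ := tor_one_equiv₁ M N ι (aug Pr) hιinj (aug_surjective Pr) hex
      have hs : Subsingleton (DRing.Tor A 1 M N) := ModuleCat.subsingleton_of_isZero hz
      intro x y hxy
      have hx : x - y ∈ LinearMap.ker (ι.rTensor N) := by
        rw [LinearMap.mem_ker, map_sub, hxy, sub_self]
      have h0 : (⟨x - y, hx⟩ : LinearMap.ker (ι.rTensor N)) = 0 := by
        apply e.symm.injective
        exact Subsingleton.elim _ _
      exact sub_eq_zero.1 (congrArg Subtype.val h0)
    have key : ∀ (N : Type u) [AddCommGroup N] [Module A N] [Module.Finite A N],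
        Function.Injective (ι.rTensor N) := by
      intro N _ _ hN
      induction hN using IsNoetherianRing.induction_on_isQuotientEquivQuotientPrime A with
      | subsingleton N =>
        intro x y _
        have hz0 : ∀ z : ↥(LinearMap.range (dd Pr 0)) ⊗[A] N, z = 0 := by
          intro z
          induction z using TensorProduct.induction_on with
          | zero => rfl
          | tmul k n => rw [Subsingleton.elim n 0, TensorProduct.tmul_zero]
          | add a b ha hb => rw [ha, hb, add_zero]
        rw [hz0 x, hz0 y]
      | quotient N p e =>
        apply hT N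
        exact (h p.1 p.2).of_iso
          (((CategoryTheory.Tor (ModuleCat.{u} A) 1).obj (ModuleCat.of A M)).mapIso e.toModuleIso)
      | exact N₁ N₂ N₃ f g hf hg hfg h₁ h₃ =>
        rw [injective_iff_map_eq_zero]
        intro x hx
        have c1 : (g.lTensor _).comp (ι.rTensor N₂) = (ι.rTensor N₃).comp (g.lTensor _) := by
          rw [LinearMap.rTensor_comp_lTensor, LinearMap.lTensor_comp_rTensor]
        have c2 : (f.lTensor _).comp (ι.rTensor N₁) = (ι.rTensor N₂).comp (f.lTensor _) := by
          rw [LinearMap.rTensor_comp_lTensor, LinearMap.lTensor_comp_rTensor]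
        have h3 : (g.lTensor _) x = 0 := by
          apply h₃
          rw [map_zero]
          have := LinearMap.congr_fun c1 x
          rw [LinearMap.comp_apply, LinearMap.comp_apply, hx, map_zero] at this
          exact this.symm
        obtain ⟨x', rfl⟩ := (lTensor_exact _ hfg hg x).1 h3
        have h1 : (ι.rTensor N₁) x' = 0 := by
          apply Module.Flat.lTensor_preserves_injective_linearMap (M := ↑(Pr.complex.X 0)) f hf
          rw [map_zero]
          have := LinearMap.congr_fun c2 x'
          rw [LinearMap.comp_apply, LinearMap.comp_apply, hx] at this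
          exact this
        rw [(injective_iff_map_eq_zero _).1 h₁ x' h1, map_zero]
    rw [Module.Flat.iff_lTensor_injective']
    intro I
    obtain ⟨b⟩ := balance ι (aug Pr) hιinj (aug_surjective Pr) hex I.subtype I.mkQ
      (Submodule.injective_subtype _) (Submodule.mkQ_surjective _) (LinearMap.exact_subtype_mkQ I)
    have hk := key (A ⧸ I)
    rw [injective_iff_map_eq_zero]
    intro x hx
    have h0 : (⟨x, LinearMap.mem_ker.2 hx⟩ : LinearMap.ker (I.subtype.lTensor M)) = 0 := by
      apply b.symm.injective
      apply Subtype.ext
      apply hk
      rw [LinearMap.mem_ker.1 (b.symm _).2, LinearMap.mem_ker.1 (b.symm _).2]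
    exact congrArg Subtype.val h0

end Groth.Agent.S11450
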