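import Groth.Statements.S11456
import Groth.Agent.H27.ArtLift

set_option autoImplicit false
universe u
open DefT

namespace Groth.Agent.S11456

/-- Let C be a local Artin ring with maximal ideal m, A a flat C-algebra such that A₀ = A/mA is a
Cohen–Macaulay local ring, and I ⊆ A an ideal with A/I flat over C whose image in A₀ is generated by
a regular sequence b_1, …, b_r on A₀. Then I is generated by r elements a_1, …, a_r forming a
regular sequence on A (so the Koszul complex on the a_i resolves A/I). -/
theorem result (C : Type u) [CommRing C]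
    [IsLocalRing C] [IsArtinianRing C] (A : Type u) [CommRing A] [Algebra C A] [Module.Flat C A]
    [LocCoh.IsCohenMacaulayLocalRing (A ⧸ (IsLocalRing.maximalIdeal C).map (algebraMap C A))]
    (I : Ideal A) [Module.Flat C (A ⧸ I)] (r : ℕ)
    (b : Fin r → A ⧸ (IsLocalRing.maximalIdeal C).map (algebraMap C A))
    (hb : RingTheory.Sequence.IsRegular (A ⧸ (IsLocalRing.maximalIdeal C).map (algebraMap C A)) (List.ofFn b))
    (hI : I.map (Ideal.Quotient.mk ((IsLocalRing.maximalIdeal C).map (algebraMap C A))) = Ideal.span (Set.range b)) :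
    ∃ a : Fin r → A, RingTheory.Sequence.IsRegular A (List.ofFn a) ∧ I = Ideal.span (Set.range a) := by
  classical
  obtain ⟨N, hN⟩ : ∃ N, (IsLocalRing.maximalIdeal C) ^ N = ⊥ := by
    have h := IsArtinianRing.isNilpotent_jacobson_bot (R := C)
    rw [IsLocalRing.jacobson_eq_maximalIdeal ⊥ bot_ne_top] at h
    obtain ⟨N, hN⟩ := h
    exact ⟨N, hN⟩
  obtain ⟨a, _, ha, hIeq⟩ := Groth.Agent.H27.ArtLift.exists_lifts (IsLocalRing.maximalIdeal C) N hN
    (IsLocalRing.maximalIdeal C) le_rfl I b hI
  refine ⟨a, ?_, hIeq⟩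
  have hiff := Groth.Agent.H27.ArtReg.isRegular_ring_iff (IsLocalRing.maximalIdeal C) N hN
    (IsLocalRing.maximalIdeal C) le_rfl (S := A) (List.ofFn a)
  rw [List.map_ofFn] at hiff
  have : (Ideal.Quotient.mk ((IsLocalRing.maximalIdeal C).map (algebraMap C A)) ∘ a) = b :=
    funext ha
  rw [this] at hiff
  exact hiff.2 hb

end Groth.Agent.S11456
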