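import Groth.Statements.S11457
import Mathlib
import Groth.Agent.H27.ArtFlat
import Groth.Agent.H27.FlatQuot
import Groth.Agent.H13.ArtinLocal

set_option autoImplicit false
universe u
open DefT

namespace Groth.Agent.S11457

open TensorProduct

theorem mem_of_lTensor' {R : Type u} [CommRing R] {M N : Type u} [AddCommGroup M] [Module R M]
    [AddCommGroup N] [Module R N]
    (ψ : M →ₗ[R] N) (𝔞 : Ideal R) (h : Function.Injective (ψ.lTensor (R ⧸ 𝔞))) (x : M)
    (hx : ψ x ∈ (𝔞 • ⊤ : Submodule R N)) : x ∈ (𝔞 • ⊤ : Submodule R M) := by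
  have h1 : ψ.lTensor (R ⧸ 𝔞) ((1 : R ⧸ 𝔞) ⊗ₜ x) = 0 := by
    rw [LinearMap.lTensor_tmul]
    apply (TensorProduct.quotTensorEquivQuotSMul N 𝔞).injective
    rw [TensorProduct.quotTensorEquivQuotSMul_mk_one_tmul, map_zero]
    exact (Submodule.Quotient.mk_eq_zero _).2 hx
  have h2 := h (h1.trans (map_zero _).symm)
  have h3 := congrArg (TensorProduct.quotTensorEquivQuotSMul M 𝔞) h2
  rw [TensorProduct.quotTensorEquivQuotSMul_mk_one_tmul, map_zero] at h3
  exact (Submodule.Quotient.mk_eq_zero _).1 h3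

theorem flat_of_exact_of_flat' {A : Type u} [CommRing A]
    {M N P : Type u} [AddCommGroup M] [Module A M] [AddCommGroup N] [Module A N]
    [AddCommGroup P] [Module A P] [Module.Flat A N] [Module.Flat A P]
    (f : M →ₗ[A] N) (g : N →ₗ[A] P) (hf : Function.Injective f)
    (hg : Function.Surjective g) (hfg : Function.Exact f g) : Module.Flat A M := by
  rw [Module.Flat.iff_rTensor_injective']
  intro I
  have h1 : Function.Injective (f.lTensor I) :=
    LinearMap.lTensor_injective_of_exact_of_flat g hg f hf hfg I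
  have h2 : Function.Injective (I.subtype.rTensor N) :=
    Module.Flat.rTensor_preserves_injective_linearMap _ (Submodule.injective_subtype _)
  have h3 : (f.lTensor A) ∘ₗ (I.subtype.rTensor M) = (I.subtype.rTensor N) ∘ₗ (f.lTensor I) := by
    rw [LinearMap.lTensor_comp_rTensor, LinearMap.rTensor_comp_lTensor]
  have h4 : Function.Injective ((f.lTensor A) ∘ₗ (I.subtype.rTensor M)) := by
    rw [h3]
    exact h2.comp h1
  exact Function.Injective.of_comp h4

theorem lemRed {R : Type u} [CommRing R] {M N P Q : Type u} [AddCommGroup M] [Module R M]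
    [AddCommGroup N] [Module R N]
    [AddCommGroup P] [Module R P] [AddCommGroup Q] [Module R Q] [Module.Flat R P] [Module.Flat R Q]
    (f : M →ₗ[R] N) (g : N →ₗ[R] P) (π : P →ₗ[R] Q) (hf : Function.Injective f)
    (hfg : Function.Exact f g) (hgπ : Function.Exact g π) (hπ : Function.Surjective π)
    (𝔞 : Ideal R) :
    (∀ x, f x ∈ (𝔞 • ⊤ : Submodule R N) → x ∈ (𝔞 • ⊤ : Submodule R M)) ∧
    (∀ y, g y ∈ (𝔞 • ⊤ : Submodule R P) → ∃ x, y - f x ∈ (𝔞 • ⊤ : Submodule R N)) := by
  have hIπ : Function.Exact (LinearMap.range g).subtype π := by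
    intro p
    rw [hgπ p]
    constructor
    · rintro ⟨y, rfl⟩
      exact ⟨⟨g y, y, rfl⟩, rfl⟩
    · rintro ⟨⟨_, y, rfl⟩, rfl⟩
      exact ⟨y, rfl⟩
  haveI : Module.Flat R (LinearMap.range g) :=
    flat_of_exact_of_flat' (LinearMap.range g).subtype π
      (Submodule.injective_subtype _) hπ hIπ
  have hfg' : Function.Exact f g.rangeRestrict := by
    intro y
    rw [← hfg y]
    constructor
    · intro h; exact congrArg Subtype.val h
    · intro h; exact Subtype.ext h
  constructor
  · have hinj := LinearMap.lTensor_injective_of_exact_of_flat g.rangeRestrict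
      g.surjective_rangeRestrict f hf hfg' (R ⧸ 𝔞)
    exact fun x hx => mem_of_lTensor' f 𝔞 hinj x hx
  · have hinj := LinearMap.lTensor_injective_of_exact_of_flat π hπ (LinearMap.range g).subtype
      (Submodule.injective_subtype _) hIπ (R ⧸ 𝔞)
    intro y hy
    have h1 := mem_of_lTensor' (LinearMap.range g).subtype 𝔞 hinj ⟨g y, ⟨y, rfl⟩⟩ hy
    obtain ⟨l, c, u, hc, hrep⟩ := Groth.Agent.H27.ArtFlat.exists_rep 𝔞 _ h1
    choose u' hu' using fun i => (u i).2
    have hgy : g y = ∑ i, c i • (u i : P) := by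
      have h := congrArg Subtype.val hrep
      simpa using h
    have h2 : g (y - ∑ i, c i • u' i) = 0 := by
      rw [map_sub, map_sum, hgy, sub_eq_zero]
      exact Finset.sum_congr rfl fun i _ => by rw [map_smul, hu']
    obtain ⟨x, hx⟩ := (hfg _).1 h2
    refine ⟨x, ?_⟩
    rw [hx, sub_sub_cancel]
    exact Submodule.sum_mem _ fun i _ => Submodule.smul_mem_smul (hc i) Submodule.mem_top

theorem transfer {C : Type u} [CommRing C] (J 𝔪 : Ideal C) (hJ : J ≤ 𝔪) {X Xb : Type u}
    [AddCommGroup X] [Module C X]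
    [AddCommGroup Xb] [Module C Xb] [Module (C ⧸ J) Xb] [IsScalarTower C (C ⧸ J) Xb]
    (ρ : X →ₗ[C] Xb) (hρ : Function.Surjective ρ)
    (hker : ∀ x, ρ x = 0 → x ∈ (J • ⊤ : Submodule C X)) (x : X) :
    ρ x ∈ ((𝔪.map (Ideal.Quotient.mk J)) • ⊤ : Submodule (C ⧸ J) Xb) ↔
      x ∈ (𝔪 • ⊤ : Submodule C X) := by
  constructor
  · intro h
    obtain ⟨l, c, u, hc, hrep⟩ := Groth.Agent.H27.ArtFlat.exists_rep _ _ h
    have hc' : ∀ i, ∃ a ∈ 𝔪, Ideal.Quotient.mk J a = c i := fun i =>
      (Ideal.mem_map_iff_of_surjective _ Ideal.Quotient.mk_surjective).1 (hc i)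
    choose a ha hac using hc'
    choose u' hu' using fun i => hρ (u i)
    have h0 : ρ (x - ∑ i, a i • u' i) = 0 := by
      rw [map_sub, map_sum, hrep, sub_eq_zero]
      refine Finset.sum_congr rfl fun i _ => ?_
      rw [map_smul, hu', ← hac i]
      exact (algebraMap_smul (C ⧸ J) (a i) (u i))
    have h1 := hker _ h0
    have h2 : x - ∑ i, a i • u' i ∈ (𝔪 • ⊤ : Submodule C X) := Submodule.smul_mono_left hJ h1
    have h3 : ∑ i, a i • u' i ∈ (𝔪 • ⊤ : Submodule C X) :=
      Submodule.sum_mem _ fun i _ => Submodule.smul_mem_smul (ha i) Submodule.mem_top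
    have := Submodule.add_mem _ h2 h3
    rwa [sub_add_cancel] at this
  · intro h
    obtain ⟨l, c, u, hc, hrep⟩ := Groth.Agent.H27.ArtFlat.exists_rep _ _ h
    rw [hrep, map_sum]
    refine Submodule.sum_mem _ fun i _ => ?_
    rw [map_smul, ← algebraMap_smul (C ⧸ J) (c i) (ρ (u i))]
    exact Submodule.smul_mem_smul (Ideal.mem_map_of_mem _ (hc i)) Submodule.mem_top

theorem one_tmul_eq_zero_iff {C : Type u} [CommRing C] (𝔪 : Ideal C) {X : Type u} [AddCommGroup X]
    [Module C X] (x : X) :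
    ((1 : C ⧸ 𝔪) ⊗ₜ[C] x = 0) ↔ x ∈ (𝔪 • ⊤ : Submodule C X) := by
  rw [← (TensorProduct.quotTensorEquivQuotSMul X 𝔪).map_eq_zero_iff,
    TensorProduct.quotTensorEquivQuotSMul_mk_one_tmul, Submodule.Quotient.mk_eq_zero]

theorem exists_one_tmul {C : Type u} [CommRing C] (𝔪 : Ideal C) {X : Type u} [AddCommGroup X]
    [Module C X] (t : (C ⧸ 𝔪) ⊗[C] X) : ∃ x : X, t = (1 : C ⧸ 𝔪) ⊗ₜ[C] x := by
  induction t using TensorProduct.induction_on with
  | zero => exact ⟨0, (TensorProduct.tmul_zero _ _).symm⟩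
  | tmul c x =>
    obtain ⟨c, rfl⟩ := Ideal.Quotient.mk_surjective c
    refine ⟨c • x, ?_⟩
    rw [TensorProduct.tmul_smul, TensorProduct.smul_tmul', Algebra.smul_def, mul_one]
    rfl
  | add a b ha hb =>
    obtain ⟨x, rfl⟩ := ha
    obtain ⟨y, rfl⟩ := hb
    exact ⟨x + y, (TensorProduct.tmul_add _ _ _).symm⟩

theorem main_abs {C : Type u} [CommRing C] [IsLocalRing C]
    (hm : IsNilpotent (IsLocalRing.maximalIdeal C))
    {M N P Q : Type u} [AddCommGroup M] [Module C M] [AddCommGroup N] [Module C N]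
    [AddCommGroup P] [Module C P] [AddCommGroup Q] [Module C Q]
    [Module.Flat C M] [Module.Flat C N] [Module.Flat C P]
    (f : M →ₗ[C] N) (g : N →ₗ[C] P) (h : P →ₗ[C] Q) (hfg : g ∘ₗ f = 0)
    (hgh : Function.Exact g h) (hh : Function.Surjective h)
    (h1a : ∀ x, f x ∈ (IsLocalRing.maximalIdeal C • ⊤ : Submodule C N) →
      x ∈ (IsLocalRing.maximalIdeal C • ⊤ : Submodule C M))
    (h1b : ∀ y, g y ∈ (IsLocalRing.maximalIdeal C • ⊤ : Submodule C P) →
      ∃ x, y - f x ∈ (IsLocalRing.maximalIdeal C • ⊤ : Submodule C N)) :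
    Function.Injective f ∧ Function.Exact f g ∧ Module.Flat C Q := by
  have hinjk : Function.Injective (f.lTensor (C ⧸ IsLocalRing.maximalIdeal C)) := by
    rw [injective_iff_map_eq_zero]
    intro t ht
    obtain ⟨x, rfl⟩ := exists_one_tmul (IsLocalRing.maximalIdeal C) t
    rw [LinearMap.lTensor_tmul] at ht
    exact (one_tmul_eq_zero_iff _ x).2 (h1a x ((one_tmul_eq_zero_iff _ (f x)).1 ht))
  have hexk : Function.Exact (f.lTensor (C ⧸ IsLocalRing.maximalIdeal C))
      (g.lTensor (C ⧸ IsLocalRing.maximalIdeal C)) := by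
    intro t
    constructor
    · intro ht
      obtain ⟨y, rfl⟩ := exists_one_tmul (IsLocalRing.maximalIdeal C) t
      rw [LinearMap.lTensor_tmul] at ht
      obtain ⟨x, hx⟩ := h1b y ((one_tmul_eq_zero_iff _ (g y)).1 ht)
      refine ⟨(1 : C ⧸ IsLocalRing.maximalIdeal C) ⊗ₜ x, ?_⟩
      rw [LinearMap.lTensor_tmul]
      have := (one_tmul_eq_zero_iff (IsLocalRing.maximalIdeal C) (y - f x)).2 hx
      rw [TensorProduct.tmul_sub, sub_eq_zero] at this
      exact this.symm
    · rintro ⟨s, rfl⟩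
      rw [← LinearMap.lTensor_comp_apply, hfg, LinearMap.lTensor_zero, LinearMap.zero_apply]
  obtain ⟨hfree, hex⟩ := Groth.Agent.H13.ArtinLocal.free_and_exact_of_reduction_exact hm f g h
    hfg hgh hh hexk
  exact ⟨Groth.Agent.H13.ArtinLocal.injective_of_lTensor_injective hm f hinjk, hex, inferInstance⟩

/-- componentwise reduction -/
noncomputable def red {C' : Type u} [CommRing C'] (J : Ideal C') (A' : Type u) [CommRing A']
    [Algebra C' A'] (n : ℕ) :
    (Fin n → A') →ₗ[C'] (Fin n → A' ⧸ J.map (algebraMap C' A')) :=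
  (Ideal.Quotient.mkₐ C' (J.map (algebraMap C' A'))).toLinearMap.compLeft (Fin n)

theorem red_surj {C' : Type u} [CommRing C'] (J : Ideal C') (A' : Type u) [CommRing A']
    [Algebra C' A'] (n : ℕ) : Function.Surjective (red J A' n) := by
  intro y
  choose x hx using fun i => Ideal.Quotient.mk_surjective (y i)
  exact ⟨x, funext hx⟩

theorem red_ker {C' : Type u} [CommRing C'] (J : Ideal C') (A' : Type u) [CommRing A']
    [Algebra C' A'] (n : ℕ) (x : Fin n → A') (hx : red J A' n x = 0) :
    x ∈ (J • ⊤ : Submodule C' (Fin n → A')) := by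
  classical
  have hxi : ∀ i, x i ∈ (J • ⊤ : Submodule C' A') := fun i => by
    rw [Ideal.smul_top_eq_map]
    exact Ideal.Quotient.eq_zero_iff_mem.1 (congrFun hx i)
  rw [← Finset.univ_sum_single x]
  exact Submodule.sum_mem _ fun i _ =>
    Submodule.smul_top_le_comap_smul_top J (LinearMap.single C' (fun _ : Fin n => A') i) (hxi i)

theorem concrete (C' : Type u) [CommRing C'] [IsLocalRing C'] [IsArtinianRing C'] (J : Ideal C')
    (hJne : J ≠ ⊤)
    (A' : Type u) [CommRing A'] [Algebra C' A'] [Module.Flat C' A'] (r : ℕ)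
    (φ' : Matrix (Fin (r + 1)) (Fin r) A') (f' : Fin (r + 1) → A')
    (hcomplex : ∀ x : Fin r → A', ∑ i, (φ'.mulVec x) i • f' i = 0)
    (fb : Fin (r + 1) → A' ⧸ J.map (algebraMap C' A'))
    (hfb : ∀ i, Ideal.Quotient.mk (J.map (algebraMap C' A')) (f' i) = fb i)
    (h1 : Function.Injective (φ'.map (Ideal.Quotient.mk (J.map (algebraMap C' A')))).mulVecLin)
    (h2 : LinearMap.range (φ'.map (Ideal.Quotient.mk (J.map (algebraMap C' A')))).mulVecLin =
      LinearMap.ker (Fintype.linearCombination (A' ⧸ J.map (algebraMap C' A')) fb))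
    [Module.Flat (C' ⧸ J) ((A' ⧸ J.map (algebraMap C' A')) ⧸ Ideal.span (Set.range fb))] :
    Function.Injective φ'.mulVecLin ∧
      LinearMap.range φ'.mulVecLin = LinearMap.ker (Fintype.linearCombination A' f') ∧
      Module.Flat C' (A' ⧸ Ideal.span (Set.range f')) := by
  classical
  have hJ𝔪 : J ≤ IsLocalRing.maximalIdeal C' := IsLocalRing.le_maximalIdeal hJne
  have hm : IsNilpotent (IsLocalRing.maximalIdeal C') :=
    Groth.Agent.H13.ArtinLocal.isNilpotent_maximalIdeal
  haveI : Module.Flat C' (Fin r → A') := Module.Flat.trans C' A' (Fin r → A')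
  haveI : Module.Flat C' (Fin (r + 1) → A') := Module.Flat.trans C' A' (Fin (r + 1) → A')
  haveI : Module.Flat (C' ⧸ J) (A' ⧸ J.map (algebraMap C' A')) := by
    refine Groth.Agent.H27.FlatQuot.flat_of_surjective (A := C') (B := A')
      Ideal.Quotient.mk_surjective Ideal.Quotient.mk_surjective ?_
    rw [Ideal.Quotient.algebraMap_eq, Ideal.mk_ker, Ideal.Quotient.algebraMap_eq, Ideal.mk_ker]
  let f : (Fin r → A') →ₗ[C'] (Fin (r + 1) → A') := φ'.mulVecLin.restrictScalars C'
  let g : (Fin (r + 1) → A') →ₗ[C'] A' := (Fintype.linearCombination A' f').restrictScalars C'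
  let h : A' →ₗ[C'] (A' ⧸ Ideal.span (Set.range f')) :=
    (Ideal.Quotient.mkₐ C' (Ideal.span (Set.range f'))).toLinearMap
  have hfg : g ∘ₗ f = 0 := by
    refine LinearMap.ext fun x => ?_
    show Fintype.linearCombination A' f' (φ'.mulVec x) = 0
    rw [Fintype.linearCombination_apply]
    exact hcomplex x
  have hgh : Function.Exact g h := by
    intro a
    have hspan : Ideal.span (Set.range f') = LinearMap.range (Fintype.linearCombination A' f') :=
      (Fintype.range_linearCombination A' f').symm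
    show Ideal.Quotient.mk (Ideal.span (Set.range f')) a = 0 ↔
      a ∈ Set.range (Fintype.linearCombination A' f')
    rw [Ideal.Quotient.eq_zero_iff_mem, hspan]
    rfl
  have hh : Function.Surjective h := Ideal.Quotient.mk_surjective
  let fbar : (Fin r → A' ⧸ J.map (algebraMap C' A')) →ₗ[C' ⧸ J]
      (Fin (r + 1) → A' ⧸ J.map (algebraMap C' A')) :=
    (φ'.map (Ideal.Quotient.mk (J.map (algebraMap C' A')))).mulVecLin.restrictScalars (C' ⧸ J)
  let gbar : (Fin (r + 1) → A' ⧸ J.map (algebraMap C' A')) →ₗ[C' ⧸ J]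
      (A' ⧸ J.map (algebraMap C' A')) :=
    (Fintype.linearCombination (A' ⧸ J.map (algebraMap C' A')) fb).restrictScalars (C' ⧸ J)
  let πbar : (A' ⧸ J.map (algebraMap C' A')) →ₗ[C' ⧸ J]
      ((A' ⧸ J.map (algebraMap C' A')) ⧸ Ideal.span (Set.range fb)) :=
    (Ideal.Quotient.mkₐ (C' ⧸ J) (Ideal.span (Set.range fb))).toLinearMap
  have hfgb : Function.Exact fbar gbar := by
    intro y
    constructor
    · intro hy
      have hy' : y ∈ LinearMap.ker (Fintype.linearCombination (A' ⧸ J.map (algebraMap C' A')) fb) := hy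
      rw [← h2] at hy'
      exact LinearMap.mem_range.1 hy'
    · rintro ⟨x, rfl⟩
      have hx : (φ'.map (Ideal.Quotient.mk (J.map (algebraMap C' A')))).mulVecLin x ∈
          LinearMap.range (φ'.map (Ideal.Quotient.mk (J.map (algebraMap C' A')))).mulVecLin :=
        ⟨x, rfl⟩
      rw [h2] at hx
      exact hx
  have hgπb : Function.Exact gbar πbar := by
    intro a
    have hspan : Ideal.span (Set.range fb) =
        LinearMap.range (Fintype.linearCombination (A' ⧸ J.map (algebraMap C' A')) fb) :=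
      (Fintype.range_linearCombination (A' ⧸ J.map (algebraMap C' A')) fb).symm
    show Ideal.Quotient.mk (Ideal.span (Set.range fb)) a = 0 ↔
      a ∈ Set.range (Fintype.linearCombination (A' ⧸ J.map (algebraMap C' A')) fb)
    rw [Ideal.Quotient.eq_zero_iff_mem, hspan]
    rfl
  obtain ⟨hA, hB⟩ := lemRed fbar gbar πbar h1 hfgb hgπb Ideal.Quotient.mk_surjective
    ((IsLocalRing.maximalIdeal C').map (Ideal.Quotient.mk J))
  let ρP : A' →ₗ[C'] (A' ⧸ J.map (algebraMap C' A')) :=
    (Ideal.Quotient.mkₐ C' (J.map (algebraMap C' A'))).toLinearMap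
  have hρPs : Function.Surjective ρP := Ideal.Quotient.mk_surjective
  have hρPk : ∀ a, ρP a = 0 → a ∈ (J • ⊤ : Submodule C' A') := by
    intro a ha
    rw [Ideal.smul_top_eq_map]
    exact Ideal.Quotient.eq_zero_iff_mem.1 ha
  have compat1 : ∀ x, red J A' (r + 1) (f x) = fbar (red J A' r x) := by
    intro x
    funext i
    exact RingHom.map_mulVec (Ideal.Quotient.mk (J.map (algebraMap C' A'))) φ' x i
  have compat2 : ∀ y, ρP (g y) = gbar (red J A' (r + 1) y) := by
    intro y
    show Ideal.Quotient.mk (J.map (algebraMap C' A')) (Fintype.linearCombination A' f' y) =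
      Fintype.linearCombination (A' ⧸ J.map (algebraMap C' A')) fb (red J A' (r + 1) y)
    rw [Fintype.linearCombination_apply, Fintype.linearCombination_apply, map_sum]
    refine Finset.sum_congr rfl fun i _ => ?_
    rw [smul_eq_mul, smul_eq_mul, map_mul, hfb]
    rfl
  have h1a : ∀ x, f x ∈ (IsLocalRing.maximalIdeal C' • ⊤ : Submodule C' (Fin (r + 1) → A')) →
      x ∈ (IsLocalRing.maximalIdeal C' • ⊤ : Submodule C' (Fin r → A')) := by
    intro x hx
    have t1 := (transfer J (IsLocalRing.maximalIdeal C') hJ𝔪 (red J A' (r + 1))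
      (red_surj J A' (r + 1)) (red_ker J A' (r + 1)) (f x)).2 hx
    rw [compat1] at t1
    exact (transfer J (IsLocalRing.maximalIdeal C') hJ𝔪 (red J A' r)
      (red_surj J A' r) (red_ker J A' r) x).1 (hA _ t1)
  have h1b : ∀ y, g y ∈ (IsLocalRing.maximalIdeal C' • ⊤ : Submodule C' A') →
      ∃ x, y - f x ∈ (IsLocalRing.maximalIdeal C' • ⊤ : Submodule C' (Fin (r + 1) → A')) := by
    intro y hy
    have t1 := (transfer J (IsLocalRing.maximalIdeal C') hJ𝔪 ρP hρPs hρPk (g y)).2 hy
    rw [compat2] at t1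
    obtain ⟨xb, hxb⟩ := hB _ t1
    obtain ⟨x, rfl⟩ := red_surj J A' r xb
    refine ⟨x, (transfer J (IsLocalRing.maximalIdeal C') hJ𝔪 (red J A' (r + 1))
      (red_surj J A' (r + 1)) (red_ker J A' (r + 1)) (y - f x)).1 ?_⟩
    rw [map_sub, compat1]
    exact hxb
  obtain ⟨r1, r2, r3⟩ := main_abs hm f g h hfg hgh hh h1a h1b
  refine ⟨r1, ?_, r3⟩
  ext y
  rw [LinearMap.mem_range, LinearMap.mem_ker]
  exact (r2 y).symm


/-- Let C' be a local Artin ring, J ⊊ C' a proper ideal annihilated by the maximal ideal, C = C'/J, A' a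
flat C'-algebra of finite type with smooth special fibre, and A = A'/JA'. Let φ be an (r+1) × r
matrix over A such that 0 → A^r → A^{r+1} → A is exact, the second map sending v to Σ_i v_i f_i with
f_i = (−1)^i det(φ with row i removed), and such that A/(f_0, …, f_r) is flat over C. Then every
matrix φ' over A' lifting φ has the same property over A': multiplication by φ' is injective, its
image is the kernel of the map given by the signed maximal minors f'_i of φ', and A'/(f'_0, …, f'_r)
is flat over C' (its reduction to A is A/(f_0, …, f_r) since minors commute with reduction). -/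
theorem result (C' : Type u) [CommRing C'] [IsLocalRing C'] [IsArtinianRing C'] (J : Ideal C')
    (hJ : IsLocalRing.maximalIdeal C' * J = ⊥) (hJne : J ≠ ⊤) (A' : Type u) [CommRing A'] [Algebra C' A'] [Module.Flat C' A']
    [Algebra.FiniteType C' A']
    [Algebra.Smooth (C' ⧸ IsLocalRing.maximalIdeal C') (A' ⧸ (IsLocalRing.maximalIdeal C').map (algebraMap C' A'))]
    (r : ℕ) (φ' : Matrix (Fin (r + 1)) (Fin r) A')
    (hφ : (Function.Injective (φ'.map (Ideal.Quotient.mk (J.map (algebraMap C' A')))).mulVecLin ∧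
        LinearMap.range (φ'.map (Ideal.Quotient.mk (J.map (algebraMap C' A')))).mulVecLin = LinearMap.ker (Fintype.linearCombination (A' ⧸ J.map (algebraMap C' A')) (fun i : Fin (r + 1) => (-1 : (A' ⧸ J.map (algebraMap C' A'))) ^ (i : ℕ) * ((φ'.map (Ideal.Quotient.mk (J.map (algebraMap C' A')))).submatrix i.succAbove id).det))))
    [Module.Flat (C' ⧸ J) ((A' ⧸ J.map (algebraMap C' A')) ⧸ Ideal.span (Set.range (fun i : Fin (r + 1) => (-1 : (A' ⧸ J.map (algebraMap C' A'))) ^ (i : ℕ) * ((φ'.map (Ideal.Quotient.mk (J.map (algebraMap C' A')))).submatrix i.succAbove id).det)))] :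
    Function.Injective φ'.mulVecLin ∧
      LinearMap.range φ'.mulVecLin = LinearMap.ker (Fintype.linearCombination A' (fun i : Fin (r + 1) => (-1 : A') ^ (i : ℕ) * ((φ').submatrix i.succAbove id).det)) ∧
      Module.Flat C' (A' ⧸ Ideal.span (Set.range (fun i : Fin (r + 1) => (-1 : A') ^ (i : ℕ) * ((φ').submatrix i.succAbove id).det))) := by
  classical
  have key : ∀ j : Fin r, ∑ i : Fin (r + 1), φ' i j *
      ((-1 : A') ^ (i : ℕ) * ((φ').submatrix i.succAbove id).det) = 0 := by
    intro j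
    let B : Matrix (Fin (r + 1)) (Fin (r + 1)) A' :=
      Matrix.of fun i => (Fin.cons (φ' i j) (φ' i) : Fin (r + 1) → A')
    have hB0 : B.det = 0 :=
      Matrix.det_zero_of_column_eq (i := (0 : Fin (r + 1))) (j := Fin.succ j)
        (Fin.succ_ne_zero j).symm (fun k => by simp [B])
    rw [Matrix.det_succ_column_zero] at hB0
    rw [← hB0]
    refine Finset.sum_congr rfl fun i _ => ?_
    have hsub : B.submatrix i.succAbove Fin.succ = φ'.submatrix i.succAbove id := by
      ext a b
      simp [B]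
    rw [hsub]
    have hB00 : B i 0 = φ' i j := by simp [B]
    rw [hB00]
    ring
  have hcomplex : ∀ x : Fin r → A', ∑ i, (φ'.mulVec x) i •
      ((-1 : A') ^ (i : ℕ) * ((φ').submatrix i.succAbove id).det) = 0 := by
    intro x
    simp only [Matrix.mulVec, dotProduct, smul_eq_mul, Finset.sum_mul]
    rw [Finset.sum_comm]
    refine Finset.sum_eq_zero fun j _ => ?_
    calc ∑ i : Fin (r + 1), φ' i j * x j *
          ((-1 : A') ^ (i : ℕ) * ((φ').submatrix i.succAbove id).det)
        = x j * ∑ i : Fin (r + 1), φ' i j *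
          ((-1 : A') ^ (i : ℕ) * ((φ').submatrix i.succAbove id).det) := by
          rw [Finset.mul_sum]
          exact Finset.sum_congr rfl fun i _ => by ring
      _ = 0 := by rw [key j, mul_zero]
  have hfb : ∀ i : Fin (r + 1), Ideal.Quotient.mk (J.map (algebraMap C' A'))
      ((-1 : A') ^ (i : ℕ) * ((φ').submatrix i.succAbove id).det) =
      (-1 : (A' ⧸ J.map (algebraMap C' A'))) ^ (i : ℕ) *
        ((φ'.map (Ideal.Quotient.mk (J.map (algebraMap C' A')))).submatrix i.succAbove id).det := by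
    intro i
    rw [map_mul, map_pow, map_neg, map_one, RingHom.map_det, RingHom.mapMatrix_apply,
      Matrix.submatrix_map]
  exact concrete C' J hJne A' r φ'
    (fun i : Fin (r + 1) => (-1 : A') ^ (i : ℕ) * ((φ').submatrix i.succAbove id).det) hcomplex
    (fun i : Fin (r + 1) => (-1 : (A' ⧸ J.map (algebraMap C' A'))) ^ (i : ℕ) *
      ((φ'.map (Ideal.Quotient.mk (J.map (algebraMap C' A')))).submatrix i.succAbove id).det)
    hfb hφ.1 hφ.2

end Groth.Agent.S11457
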