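import Groth.Statements.S5067
import Mathlib

set_option autoImplicit false
open CategoryTheory AlgebraicGeometry
universe u
open Unram

namespace Groth.Agent.S5067

section Helpers
open AlgebraicGeometry CategoryTheory Limits TopologicalSpace

theorem quasiFinite_of_etale {A B : Type u} [CommRing A] [CommRing B] (φ : A →+* B)
    (h : φ.Etale) : φ.QuasiFinite := by
  letI := φ.toAlgebra
  haveI : Algebra.Etale A B := h
  exact (inferInstance : Algebra.QuasiFinite A B)

theorem lqf_of_etale {X Y : Scheme.{u}} (f : X ⟶ Y) [Etale f] : LocallyQuasiFinite f := by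
  rw [HasRingHomProperty.iff_appLE (P := @LocallyQuasiFinite)]
  intro U V e
  exact quasiFinite_of_etale _ (Etale.etale_appLE f U.2 V.2 e)

theorem eq_of_specializes_of_isDiscrete {W : Type*} [TopologicalSpace W] {s : Set W}
    (hs : IsDiscrete s) {a b : W} (ha : a ∈ s) (hb : b ∈ s) (h : a ⤳ b) : a = b := by
  obtain ⟨v, hv, hvs⟩ := (isDiscrete_iff_forall_mem_exists_isOpen.mp hs) b hb
  have hbv : b ∈ v := by
    have h1 : b ∈ v ∩ s := hvs ▸ Set.mem_singleton b
    exact h1.1
  have hav : a ∈ v := h.mem_open hv hbv
  have h2 : a ∈ v ∩ s := ⟨hav, ha⟩
  rw [hvs] at h2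
  exact h2

theorem subsingleton_spec_tensor {X Y : Scheme.{u}} (f : X ⟶ Y)
    (T : Scheme.Pullback.Triplet f f)
    (h : Function.Bijective (f.residueFieldMap T.x).hom) : Subsingleton ↥(Spec T.tensor) := by
  haveI : IsIso (f.residueFieldMap T.x) := (ConcreteCategory.isIso_iff_bijective _).mpr h
  haveI : IsIso ((Y.residueFieldCongr T.hx).inv ≫ f.residueFieldMap T.x) := inferInstance
  have hiso : IsIso (T.tensorInr) := by
    unfold Scheme.Pullback.Triplet.tensorInr
    exact pushout_inr_iso_of_left_iso _ _
  let e : X.residueField T.y ≃+* T.tensor := (asIso T.tensorInr).commRingCatIsoToRingEquiv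
  haveI : Subsingleton (PrimeSpectrum (X.residueField T.y)) := inferInstance
  exact (PrimeSpectrum.comapEquiv e).symm.toEquiv.subsingleton

theorem main {X Y : Scheme.{u}} [IsIntegral X] [IsIntegral Y]
    (f : X ⟶ Y) [Etale f] [IsSeparated f] (hgen : f.base (genericPoint X) = genericPoint Y)
    (hbir : Function.Bijective (f.residueFieldMap (genericPoint X)).hom) : IsOpenImmersion f := by
  haveI : LocallyQuasiFinite f := lqf_of_etale f
  have hb : ∀ x : X, x = genericPoint X → Function.Bijective (f.residueFieldMap x).hom := by
    rintro x rfl
    exact hbir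
  have hfstΔ : ∀ x : X, (pullback.fst f f) ((pullback.diagonal f) x) = x := by
    intro x
    rw [← Scheme.Hom.comp_apply, pullback.diagonal_fst]
    rfl
  have hsndΔ : ∀ x : X, (pullback.snd f f) ((pullback.diagonal f) x) = x := by
    intro x
    rw [← Scheme.Hom.comp_apply, pullback.diagonal_snd]
    rfl
  have hsurj : Function.Surjective (pullback.diagonal f) := by
    intro z
    have hcl : IsClosed (Set.range (pullback.diagonal f)) :=
      (pullback.diagonal f).isClosedEmbedding.isClosed_range
    have hgz := Flat.generalizingMap (pullback.fst f f)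
    have h1 : genericPoint X ⤳ (pullback.fst f f) z := genericPoint_specializes _
    obtain ⟨z', hz'z, hz'⟩ := hgz h1
    have hcond : f ((pullback.snd f f) z') = f ((pullback.fst f f) z') := by
      rw [← Scheme.Hom.comp_apply, ← Scheme.Hom.comp_apply, pullback.condition]
    have h2 : (pullback.snd f f) z' = genericPoint X := by
      have hd := f.isDiscrete_preimage_singleton (genericPoint Y)
      refine (eq_of_specializes_of_isDiscrete hd ?_ ?_ (genericPoint_specializes _)).symm
      · exact hgen
      · change f ((pullback.snd f f) z') = genericPoint Y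
        rw [hcond, hz']
        exact hgen
    have h3 : z' = (pullback.diagonal f) (genericPoint X) := by
      apply Scheme.Pullback.carrierEquiv.injective
      rw [Scheme.Pullback.carrierEquiv_eq_iff]
      have hT : Scheme.Pullback.Triplet.ofPoint z' =
          Scheme.Pullback.Triplet.ofPoint ((pullback.diagonal f) (genericPoint X)) := by
        apply Scheme.Pullback.Triplet.ext
        · change (pullback.fst f f) z' =
            (pullback.fst f f) ((pullback.diagonal f) (genericPoint X))
          rw [hz', hfstΔ]
        · change (pullback.snd f f) z' =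
            (pullback.snd f f) ((pullback.diagonal f) (genericPoint X))
          rw [h2, hsndΔ]
      have hsub : Subsingleton ↥(Spec (Scheme.Pullback.Triplet.ofPoint
          ((pullback.diagonal f) (genericPoint X))).tensor) :=
        subsingleton_spec_tensor f _ (hb _ (hfstΔ _))
      exact ⟨hT, @Subsingleton.elim _ hsub _ _⟩
    rw [h3] at hz'z
    exact hcl.stableUnderSpecialization hz'z ⟨genericPoint X, rfl⟩
  haveI : IsIso (pullback.diagonal f) := by
    refine isIso_of_isOpenImmersion_of_opensRange_eq_top _ (TopologicalSpace.Opens.ext ?_)
    simpa using Set.range_eq_univ.mpr hsurj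
  haveI : Mono f := (pullback.isIso_diagonal_iff f).mp inferInstance
  exact IsOpenImmersion.of_flat_of_mono f

end Helpers

/-- Let f : X ⟶ Y be an étale separated morphism of integral schemes which maps the generic point of X
to the generic point of Y and induces a bijection between the residue fields of the generic points
(f is birational). Then f is an open immersion. -/
theorem result {X Y : Scheme.{u}} [IsIntegral X] [IsIntegral Y]
    (f : X ⟶ Y) [Etale f] [IsSeparated f] (hgen : f.base (genericPoint X) = genericPoint Y)
    (hbir : Function.Bijective (f.residueFieldMap (genericPoint X)).hom) : IsOpenImmersion f := by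
  exact main f hgen hbir

end Groth.Agent.S5067
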