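import Groth.Statements.S1146
import Mathlib
import Groth.Agent.S5067

set_option autoImplicit false
open CategoryTheory CategoryTheory.Limits AlgebraicGeometry Opposite
universe u
open Desc

namespace Groth.Agent.S1146

section Helpers
open AlgebraicGeometry CategoryTheory TopologicalSpace Limits Topology

attribute [local instance] specializationOrder in
theorem lift_series {A B : Type*} [TopologicalSpace A] [TopologicalSpace B] [T0Space A] [T0Space B]
    (φ : A → B) (hc : Continuous φ) (hg : GeneralizingMap φ) :
    ∀ (n : ℕ) (p : LTSeries B) (a : A), p.length = n → φ a = p.head →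
      ∃ q : LTSeries A, q.length = n ∧ q.head = a := by
  intro n
  induction n with
  | zero =>
    intro p a _ _
    exact ⟨RelSeries.singleton _ a, rfl, rfl⟩
  | succ n ih =>
    intro p a hn ha
    have hne : p.length ≠ 0 := by omega
    have hlt : p.head < (p.tail hne).head := by
      rw [RelSeries.head_tail]
      exact p.strictMono (by
        rw [Fin.lt_def]
        change (0 : ℕ) < ((1 : Fin (p.length + 1)) : ℕ)
        rw [Fin.val_one']
        rw [Nat.one_mod_eq_one.mpr (by omega)]
        exact Nat.zero_lt_one)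
    have hlt1 : (p.tail hne).head ⤳ p.head := hlt.1
    have hlt2 : ¬ p.head ⤳ (p.tail hne).head := hlt.2
    obtain ⟨a1, ha1, hφa1⟩ := hg (show (p.tail hne).head ⤳ φ a by rw [ha]; exact hlt1)
    obtain ⟨q', hq'len, hq'head⟩ := ih (p.tail hne) a1
      (by rw [RelSeries.tail_length]; omega) hφa1
    have hlt' : a < q'.head := by
      rw [hq'head]
      refine ⟨ha1, fun h => hlt2 ?_⟩
      have h1 := h.map hc
      rwa [ha, hφa1] at h1
    refine ⟨q'.cons a hlt', ?_, RelSeries.head_cons _ _ _⟩
    change 0 + q'.length + 1 = n + 1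
    omega

theorem tkd_eq {A B : Type*} [TopologicalSpace A] [TopologicalSpace B]
    [QuasiSober A] [T0Space A] [QuasiSober B] [T0Space B]
    (φ : A → B) (hc : Continuous φ) (hs : Function.Surjective φ) (hg : GeneralizingMap φ)
    (hd : ∀ a a' : A, a ⤳ a' → φ a = φ a' → a = a') :
    topologicalKrullDim A = topologicalKrullDim B := by
  letI : PartialOrder A := specializationOrder A
  letI : PartialOrder B := specializationOrder B
  have hA : topologicalKrullDim A = Order.krullDim A :=
    Order.krullDim_eq_of_orderIso (irreducibleSetEquivPoints (α := A))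
  have hB : topologicalKrullDim B = Order.krullDim B :=
    Order.krullDim_eq_of_orderIso (irreducibleSetEquivPoints (α := B))
  rw [hA, hB]
  have fwd : Order.krullDim A ≤ Order.krullDim B := by
    refine Order.krullDim_le_of_strictMono φ ?_
    intro a b hab
    have h1 : b ⤳ a := hab.1
    have h2 : ¬ a ⤳ b := hab.2
    have h3 : φ b ⤳ φ a := h1.map hc
    refine ⟨h3, fun h4 => h2 ?_⟩
    have h5 : φ b = φ a := (h3.antisymm h4).eq
    have h6 : b = a := hd b a h1 h5
    rw [h6]
  have bwd : Order.krullDim B ≤ Order.krullDim A := by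
    change (⨆ p : LTSeries B, (p.length : WithBot ℕ∞)) ≤ Order.krullDim A
    refine iSup_le fun p => ?_
    obtain ⟨a, ha⟩ := hs p.head
    obtain ⟨q, hq, -⟩ := lift_series φ hc hg p.length p a rfl ha
    rw [← hq]
    exact Order.LTSeries.length_le_krullDim q
  exact le_antisymm fwd bwd

theorem main {U V : Scheme.{u}} (f : U ⟶ V) [Etale f] (u : U) :
    FlatMor.localDim U u = FlatMor.localDim V (f.base u) := by
  have hgen : GeneralizingMap f := Flat.generalizingMap f
  have : LocallyQuasiFinite f := Groth.Agent.S5067.lqf_of_etale f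
  have hdisc : ∀ a a' : U, a ⤳ a' → f a = f a' → a = a' := by
    intro a a' haa' e
    exact Groth.Agent.S5067.eq_of_specializes_of_isDiscrete
      (f.isDiscrete_preimage_singleton (f a')) e rfl haa'
  have hopen : IsOpenMap f := f.isOpenMap
  obtain ⟨im, him⟩ : ∃ im : U.Opens → V.Opens, ∀ W : U.Opens, ((im W : V.Opens) : Set V) = f '' (W : Set U) :=
    ⟨fun W => ⟨f '' (W : Set U), hopen _ W.isOpen⟩, fun W => rfl⟩
  have key : ∀ W : U.Opens, topologicalKrullDim ((W : Set U)) =
      topologicalKrullDim (((im W : V.Opens) : Set V)) := by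
    intro W
    have : QuasiSober ↥(W : Set U) := (W.isOpen.isOpenEmbedding_subtypeVal).quasiSober
    have : QuasiSober ↥((im W : V.Opens) : Set V) :=
      ((im W).isOpen.isOpenEmbedding_subtypeVal).quasiSober
    have hmem : ∀ a : ↥(W : Set U), f a.1 ∈ ((im W : V.Opens) : Set V) := by
      intro a
      rw [him]
      exact ⟨a.1, a.2, rfl⟩
    refine tkd_eq (fun a => (⟨f a.1, hmem a⟩ : ↥((im W : V.Opens) : Set V))) ?_ ?_ ?_ ?_
    · exact Continuous.subtype_mk (f.continuous.comp continuous_subtype_val) _
    · rintro ⟨b, hb⟩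
      have hb' : b ∈ f '' (W : Set U) := by
        rw [← him]
        exact hb
      obtain ⟨a, ha, rfl⟩ := hb'
      exact ⟨⟨a, ha⟩, rfl⟩
    · intro a b hb
      have h1 : (b : V) ⤳ f a.1 := (subtype_specializes_iff _ _).mp hb
      obtain ⟨a1, ha1, hfa1⟩ := hgen h1
      refine ⟨⟨a1, ha1.mem_open W.isOpen a.2⟩, ?_, Subtype.ext hfa1⟩
      exact (subtype_specializes_iff _ _).mpr ha1
    · intro a a' haa' e
      exact Subtype.ext (hdisc a.1 a'.1 ((subtype_specializes_iff _ _).mp haa')
        (congrArg Subtype.val e))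
  have fwd : FlatMor.localDim U u ≤ FlatMor.localDim V (f.base u) := by
    refine le_iInf fun W' => ?_
    refine (iInf_le _ ⟨f ⁻¹ᵁ W'.1, W'.2⟩).trans ?_
    change topologicalKrullDim (((f ⁻¹ᵁ W'.1 : U.Opens) : Set U)) ≤ _
    rw [key]
    have hsub : ((im (f ⁻¹ᵁ W'.1) : V.Opens) : Set V) ⊆ (W'.1 : Set V) := by
      rw [him]
      rintro _ ⟨a, ha, rfl⟩
      exact ha
    exact (Topology.IsEmbedding.inclusion hsub).isInducing.topologicalKrullDim_le
  have bwd : FlatMor.localDim V (f.base u) ≤ FlatMor.localDim U u := by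
    refine le_iInf fun W => ?_
    have hu : f.base u ∈ im W.1 := by
      change f.base u ∈ ((im W.1 : V.Opens) : Set V)
      rw [him]
      exact ⟨u, W.2, rfl⟩
    refine (iInf_le _ ⟨im W.1, hu⟩).trans ?_
    change topologicalKrullDim (((im W.1 : V.Opens) : Set V)) ≤ _
    rw [← key]
  exact le_antisymm fwd bwd

end Helpers

/-- Let f : U ⟶ V be an etale morphism of schemes and u a point of U. Then the local dimension of U at u
(the infimum of the Krull dimensions of open neighbourhoods) equals the local dimension of V at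
f(u). -/
theorem result {U V : Scheme.{u}} (f : U ⟶ V) [Etale f] (u : U) :
    FlatMor.localDim U u = FlatMor.localDim V (f.base u) := by
  exact main f u

end Groth.Agent.S1146
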