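import Groth.Statements.S11461
import Mathlib.Algebra.Homology.ShortComplex.ModuleCat
import Mathlib.RingTheory.Ideal.AssociatedPrime.Finiteness
import Mathlib.RingTheory.Finiteness.Nakayama
import Mathlib.CategoryTheory.Limits.Preserves.Shapes.Zero
import Mathlib.Tactic

set_option autoImplicit false
universe u
open CategoryTheory
open DefT

namespace Groth.Agent.S11461

/-- Let B be a Noetherian ring and F an additive, B-linear endofunctor of B-modules which preserves
finite generation and is semi-exact on short exact sequences of finitely generated modules (the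
image sequence is exact in the middle). If F kills B/m for every maximal ideal m, then F kills every
finitely generated B-module. (The published statement assumes F only additive; this row assumes F
B-linear, and takes the functor on all B-modules with the hypotheses and the conclusion on the
finitely generated ones.) -/
theorem result (B : Type u) [CommRing B]
    [IsNoetherianRing B] (F : ModuleCat.{u} B ⥤ ModuleCat.{u} B) [F.Additive] [F.Linear B]
    (hfg : ∀ M : ModuleCat.{u} B, Module.Finite B M → Module.Finite B (F.obj M))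
    (hex : ∀ S : ShortComplex (ModuleCat.{u} B), S.ShortExact → Module.Finite B S.X₂ → (S.map F).Exact)
    (h0 : ∀ m : Ideal B, m.IsMaximal → Limits.IsZero (F.obj (ModuleCat.of B (B ⧸ m))))
    (M : ModuleCat.{u} B) (hM : Module.Finite B M) : Limits.IsZero (F.obj M) := by
  classical
  have hE : ∀ (N₁ N₂ N₃ : Type u) [AddCommGroup N₁] [Module B N₁] [AddCommGroup N₂] [Module B N₂]
      [Module.Finite B N₂] [AddCommGroup N₃] [Module B N₃] (f : N₁ →ₗ[B] N₂) (g : N₂ →ₗ[B] N₃),
      Function.Injective f → Function.Surjective g → Function.Exact f g →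
      ∀ y : F.obj (ModuleCat.of B N₂), (F.map (ModuleCat.ofHom g)) y = 0 →
        ∃ z : F.obj (ModuleCat.of B N₁), (F.map (ModuleCat.ofHom f)) z = y := by
    intro N₁ N₂ N₃ _ _ _ _ _ _ _ f g hf hg hfg
    let S := ModuleCat.shortComplexOfCompEqZero f g hfg.linearMap_comp_eq_zero
    have hS : S.ShortExact := ModuleCat.shortComplex_shortExact S hfg hf hg
    have h1 := hex S hS (inferInstanceAs (Module.Finite B N₂))
    exact (CategoryTheory.ShortComplex.moduleCat_exact_iff _).1 h1
  have hzero : ∀ (N : Type u) [AddCommGroup N] [Module B N] [Subsingleton N],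
      Subsingleton (F.obj (ModuleCat.of B N)) := by
    intro N _ _ _
    exact ModuleCat.subsingleton_of_isZero (F.map_isZero (ModuleCat.isZero_of_subsingleton _))
  have hiso : ∀ (N N' : Type u) [AddCommGroup N] [Module B N] [AddCommGroup N'] [Module B N']
      (e : N ≃ₗ[B] N'),
      Subsingleton (F.obj (ModuleCat.of B N')) → Subsingleton (F.obj (ModuleCat.of B N)) := by
    intro N N' _ _ _ _ e h
    have i := F.mapIso e.toModuleIso
    exact ModuleCat.subsingleton_of_isZero ((ModuleCat.isZero_of_subsingleton _).of_iso i)
  have hkill : ∀ (K : Ideal B) (a : B), a ∈ K → ∀ n : B ⧸ K, a • n = 0 := by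
    intro K a ha n
    obtain ⟨b, rfl⟩ := Ideal.Quotient.mk_surjective n
    have h1 : a • Ideal.Quotient.mk K b = Ideal.Quotient.mk K (a * b) := rfl
    rw [h1, Ideal.Quotient.eq_zero_iff_mem]
    exact K.mul_mem_right b ha
  have key : ∀ I : Ideal B, ∀ (N : Type u) [AddCommGroup N] [Module B N] [Module.Finite B N],
      (∀ a ∈ I, ∀ n : N, a • n = 0) → Subsingleton (F.obj (ModuleCat.of B N)) := by
    intro I
    refine WellFoundedGT.induction (motive := fun I => ∀ (N : Type u) [AddCommGroup N] [Module B N]
      [Module.Finite B N], (∀ a ∈ I, ∀ n : N, a • n = 0) →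
        Subsingleton (F.obj (ModuleCat.of B N))) I ?_
    intro I IH N _ _ hNfin
    refine IsNoetherianRing.induction_on_isQuotientEquivQuotientPrime B hNfin
      (motive := fun N _ _ _ => (∀ a ∈ I, ∀ n : N, a • n = 0) →
        Subsingleton (F.obj (ModuleCat.of B N))) ?_ ?_ ?_
    · intro N _ _ _ _ _
      exact hzero N
    · intro N _ _ _ p e hN
      refine hiso N (B ⧸ p.1) e ?_
      have hIp : I ≤ p.1 := by
        intro a ha
        have h1 := hN a ha (e.symm 1)
        rw [← map_smul, LinearEquiv.map_eq_zero_iff] at h1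
        rw [← Ideal.Quotient.eq_zero_iff_mem]
        have h2 : a • (1 : B ⧸ p.1) = Ideal.Quotient.mk p.1 a := by
          rw [Algebra.smul_def, mul_one]; rfl
        rw [← h2]; exact h1
      rcases lt_or_eq_of_le hIp with hlt | heq
      · exact IH p.1 hlt (B ⧸ p.1) (hkill p.1)
      · haveI hPprime : p.1.IsPrime := p.2
        by_cases hmax : p.1.IsMaximal
        · exact ModuleCat.subsingleton_of_isZero (h0 p.1 hmax)
        by_contra hT
        rw [not_subsingleton_iff_nontrivial] at hT
        haveI hTfin : Module.Finite B (F.obj (ModuleCat.of B (B ⧸ p.1))) :=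
          hfg _ (inferInstanceAs (Module.Finite B (B ⧸ p.1)))
        have hann_ne : Module.annihilator B (F.obj (ModuleCat.of B (B ⧸ p.1))) ≠ ⊤ := by
          intro h
          have h1 : (1 : B) ∈ Module.annihilator B (F.obj (ModuleCat.of B (B ⧸ p.1))) :=
            h ▸ Submodule.mem_top
          rw [Module.mem_annihilator] at h1
          obtain ⟨t, ht⟩ := exists_ne (0 : F.obj (ModuleCat.of B (B ⧸ p.1)))
          have h6 := h1 t
          rw [one_smul] at h6
          exact ht h6
        obtain ⟨m, hm, ham⟩ := Ideal.exists_le_maximal _ hann_ne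
        have hPann : p.1 ≤ Module.annihilator B (F.obj (ModuleCat.of B (B ⧸ p.1))) := by
          intro a ha
          rw [Module.mem_annihilator]
          intro t
          have h1 : a • (𝟙 (ModuleCat.of B (B ⧸ p.1))) = 0 := by
            apply ModuleCat.hom_ext
            apply LinearMap.ext
            intro y
            exact hkill p.1 a ha y
          have h2 : a • (𝟙 (F.obj (ModuleCat.of B (B ⧸ p.1)))) = 0 := by
            rw [← F.map_id, ← F.map_smul, h1, F.map_zero]
          have h3 := congrArg (fun φ : F.obj (ModuleCat.of B (B ⧸ p.1)) ⟶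
            F.obj (ModuleCat.of B (B ⧸ p.1)) => φ.hom t) h2
          exact h3
        have hPm : p.1 ≤ m := hPann.trans ham
        obtain ⟨x, hxm, hxP⟩ : ∃ x ∈ m, x ∉ p.1 := by
          by_contra hcon
          push Not at hcon
          have h1 : m ≤ p.1 := hcon
          have h2 : p.1 = m := le_antisymm hPm h1
          exact hmax (h2 ▸ hm)
        let μ : (B ⧸ p.1) →ₗ[B] (B ⧸ p.1) := LinearMap.lsmul B (B ⧸ p.1) x
        have hK : p.1 ≤ p.1 ⊔ Ideal.span {x} := le_sup_left
        let π : (B ⧸ p.1) →ₗ[B] (B ⧸ (p.1 ⊔ Ideal.span {x})) :=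
          (Ideal.Quotient.factorₐ B hK).toLinearMap
        have hμ : Function.Injective μ := by
          rw [injective_iff_map_eq_zero]
          intro y hy
          obtain ⟨b, rfl⟩ := Ideal.Quotient.mk_surjective y
          have h1 : μ (Ideal.Quotient.mk p.1 b) = Ideal.Quotient.mk p.1 (x * b) := rfl
          rw [h1, Ideal.Quotient.eq_zero_iff_mem] at hy
          rw [Ideal.Quotient.eq_zero_iff_mem]
          exact (hPprime.mem_or_mem hy).resolve_left hxP
        have hπ : Function.Surjective π := Ideal.Quotient.factor_surjective hK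
        have hexact : Function.Exact μ π := by
          intro y
          constructor
          · intro hy
            obtain ⟨b, rfl⟩ := Ideal.Quotient.mk_surjective y
            have h1 : π (Ideal.Quotient.mk p.1 b) =
              Ideal.Quotient.mk (p.1 ⊔ Ideal.span {x}) b := rfl
            rw [h1, Ideal.Quotient.eq_zero_iff_mem, Submodule.mem_sup] at hy
            obtain ⟨i, hi, j, hj, rfl⟩ := hy
            obtain ⟨c, rfl⟩ := Ideal.mem_span_singleton'.1 hj
            refine ⟨Ideal.Quotient.mk p.1 c, ?_⟩
            have h2 : μ (Ideal.Quotient.mk p.1 c) = Ideal.Quotient.mk p.1 (x * c) := rfl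
            rw [h2, map_add, Ideal.Quotient.eq_zero_iff_mem.2 hi, zero_add, mul_comm]
          · rintro ⟨z, rfl⟩
            obtain ⟨c, rfl⟩ := Ideal.Quotient.mk_surjective z
            have h2 : π (μ (Ideal.Quotient.mk p.1 c)) =
              Ideal.Quotient.mk (p.1 ⊔ Ideal.span {x}) (x * c) := rfl
            rw [h2, Ideal.Quotient.eq_zero_iff_mem]
            exact Ideal.mem_sup_right (Ideal.mul_mem_right c _ (Ideal.mem_span_singleton_self x))
        have hlt : I < p.1 ⊔ Ideal.span {x} := by
          rw [heq]
          exact SetLike.lt_iff_le_and_exists.2 ⟨hK, x,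
            Ideal.mem_sup_right (Ideal.mem_span_singleton_self x), hxP⟩
        have hsub : Subsingleton (F.obj (ModuleCat.of B (B ⧸ (p.1 ⊔ Ideal.span {x})))) :=
          IH _ hlt (B ⧸ (p.1 ⊔ Ideal.span {x})) (hkill _)
        have hμF : ∀ z : F.obj (ModuleCat.of B (B ⧸ p.1)),
            (F.map (ModuleCat.ofHom μ)) z = x • z := by
          intro z
          have h1 : ModuleCat.ofHom μ = x • (𝟙 (ModuleCat.of B (B ⧸ p.1))) := by
            apply ModuleCat.hom_ext
            apply LinearMap.ext
            intro y
            rfl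
          rw [h1, F.map_smul, F.map_id]
          rfl
        have hsurj : ∀ y : F.obj (ModuleCat.of B (B ⧸ p.1)),
            ∃ z : F.obj (ModuleCat.of B (B ⧸ p.1)), x • z = y := by
          intro y
          obtain ⟨z, hz⟩ := hE (B ⧸ p.1) (B ⧸ p.1) (B ⧸ (p.1 ⊔ Ideal.span {x})) μ π hμ hπ hexact y
            (Subsingleton.elim _ _)
          exact ⟨z, (hμF z).symm.trans hz⟩
        obtain ⟨r, hr1, hr2⟩ := Submodule.exists_sub_one_mem_and_smul_eq_zero_of_fg_of_le_smul
          (Ideal.span {x}) (⊤ : Submodule B (F.obj (ModuleCat.of B (B ⧸ p.1))))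
          Module.Finite.fg_top (by
            intro y _
            obtain ⟨z, rfl⟩ := hsurj y
            exact Submodule.smul_mem_smul (Ideal.mem_span_singleton_self x) Submodule.mem_top)
        have hrm : r ∈ m := ham (Module.mem_annihilator.2 (fun t => hr2 t Submodule.mem_top))
        have hr1m : r - 1 ∈ m := ((Ideal.span_singleton_le_iff_mem m).2 hxm) hr1
        have h1m : (1 : B) ∈ m := by
          have h5 := m.sub_mem hrm hr1m
          simpa using h5
        exact hm.ne_top ((Ideal.eq_top_iff_one m).2 h1m)
    · intro N₁ _ _ _ N₂ _ _ _ N₃ _ _ _ f g hf hg hfg h1 h3 hN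
      have s1 := h1 (fun a ha n => hf (by rw [map_smul, hN a ha, map_zero]))
      have s3 := h3 (fun a ha n => by
        obtain ⟨n', rfl⟩ := hg n; rw [← map_smul, hN a ha, map_zero])
      have hy : ∀ y : F.obj (ModuleCat.of B N₂), y = 0 := by
        intro y
        obtain ⟨z, rfl⟩ := hE N₁ N₂ N₃ f g hf hg hfg y (Subsingleton.elim _ _)
        rw [Subsingleton.elim z 0, map_zero]
      exact ⟨fun y y' => by rw [hy y, hy y']⟩
  haveI := hM
  exact ModuleCat.isZero_iff_subsingleton.2 (key ⊥ M (by
    intro a ha n
    rw [Ideal.mem_bot] at ha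
    subst ha
    exact zero_smul _ _))

end Groth.Agent.S11461
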