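import Groth.Statements.S11466
import Mathlib

set_option autoImplicit false
universe u
open DefT

namespace Groth.Agent.S11466


theorem mk_mem_nonunits {C : Type u} [CommRing C] [IsLocalRing C] (K : Ideal C) (hK : K ≠ ⊤)
    (x : C) (hx : x ∈ nonunits C) : Ideal.Quotient.mk K x ∈ nonunits (C ⧸ K) := by
  rw [mem_nonunits_iff]
  intro hu
  obtain ⟨y, hy⟩ := hu.exists_right_inv
  obtain ⟨z, rfl⟩ := Ideal.Quotient.mk_surjective y
  rw [← map_mul, ← map_one (Ideal.Quotient.mk K), Ideal.Quotient.eq] at hy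
  have h1 : x * z ∈ IsLocalRing.maximalIdeal C :=
    Ideal.mul_mem_right _ _ ((IsLocalRing.mem_maximalIdeal _).mpr hx)
  have h2 : x * z - 1 ∈ IsLocalRing.maximalIdeal C := IsLocalRing.le_maximalIdeal hK hy
  have h3 : (1 : C) ∈ IsLocalRing.maximalIdeal C := by
    have := Ideal.sub_mem _ h1 h2
    simpa using this
  exact (IsLocalRing.maximalIdeal.isMaximal C).ne_top ((Ideal.eq_top_iff_one _).mpr h3)

theorem isSmallExt_quot (k : Type u) [Field k] (C' : Type u) [CommRing C'] [Algebra k C']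
    (J K : Ideal C') (h : W4bk4hartshdef114.IsSmallExt k C' J) (hK : K ≤ J) :
    W4bk4hartshdef114.IsSmallExt k (C' ⧸ K) (J.map (Ideal.Quotient.mkₐ k K)) := by
  obtain ⟨hloc, hart, hres, hkill, hne⟩ := h
  haveI := hloc
  haveI := hart
  have hKne : K ≠ ⊤ := fun h => hne (top_le_iff.mp (h ▸ hK))
  haveI : Nontrivial (C' ⧸ K) := Ideal.Quotient.nontrivial_iff.mpr hKne
  haveI : IsLocalRing (C' ⧸ K) :=
    IsLocalRing.of_surjective' (Ideal.Quotient.mk K) Ideal.Quotient.mk_surjective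
  refine ⟨inferInstance, inferInstance, ?_, ?_, ?_⟩
  · intro x
    obtain ⟨x', rfl⟩ := Ideal.Quotient.mk_surjective x
    obtain ⟨c, hc⟩ := hres x'
    refine ⟨c, ?_⟩
    have h1 := mk_mem_nonunits K hKne _ hc
    rw [map_sub] at h1
    exact h1
  · intro x j hx hj
    obtain ⟨x', rfl⟩ := Ideal.Quotient.mk_surjective x
    have hx' : x' ∈ nonunits C' := by
      rw [mem_nonunits_iff]
      intro hu
      exact hx (hu.map (Ideal.Quotient.mk K))
    obtain ⟨j', hj', rfl⟩ :=
      (Ideal.mem_map_iff_of_surjective _ (Ideal.Quotient.mkₐ_surjective k K)).mp hj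
    rw [Ideal.Quotient.mkₐ_eq_mk, ← map_mul, hkill x' j' hx' hj', map_zero]
  · intro htop
    have h1 : (1 : C' ⧸ K) ∈ J.map (Ideal.Quotient.mkₐ k K) := htop ▸ Submodule.mem_top
    obtain ⟨j', hj', hj1⟩ :=
      (Ideal.mem_map_iff_of_surjective _ (Ideal.Quotient.mkₐ_surjective k K)).mp h1
    rw [Ideal.Quotient.mkₐ_eq_mk, ← map_one (Ideal.Quotient.mk K), Ideal.Quotient.eq] at hj1
    have h2 : (1 : C') ∈ J := by
      have := J.sub_mem hj' (hK hj1)
      simpa using this
    exact hne ((Ideal.eq_top_iff_one _).mpr h2)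

theorem eq_on_sq {P B : Type u} [CommRing P] [IsLocalRing P] [CommRing B] [IsLocalRing B]
    (N : Ideal B) (hN : ∀ x j : B, x ∈ nonunits B → j ∈ N → x * j = 0)
    (hNnon : ∀ j ∈ N, j ∈ nonunits B)
    (g q : P →+* B) (hgq : ∀ p, g p - q p ∈ N)
    (hq : ∀ p ∈ IsLocalRing.maximalIdeal P, q p ∈ nonunits B) :
    ∀ x ∈ IsLocalRing.maximalIdeal P ^ 2, g x = q x := by
  have hg : ∀ p ∈ IsLocalRing.maximalIdeal P, g p ∈ nonunits B := by
    intro p hp
    have h1 : g p = (g p - q p) + q p := by ring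
    rw [h1]
    exact (IsLocalRing.mem_maximalIdeal _).mp (Ideal.add_mem _
      ((IsLocalRing.mem_maximalIdeal _).mpr (hNnon _ (hgq p)))
      ((IsLocalRing.mem_maximalIdeal _).mpr (hq p hp)))
  intro x hx
  rw [pow_two, ← Ideal.smul_eq_mul] at hx
  refine Submodule.smul_induction_on hx ?_ ?_
  · intro a ha b hb
    show g (a * b) = q (a * b)
    have h1 : g (a * b) - q (a * b) = g a * (g b - q b) + (g a - q a) * q b := by
      rw [map_mul, map_mul]; ring
    have h2 : g a * (g b - q b) = 0 := hN _ _ (hg a ha) (hgq b)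
    have h3 : (g a - q a) * q b = 0 := by
      rw [mul_comm]; exact hN _ _ (hq b hb) (hgq a)
    rw [h2, h3, add_zero] at h1
    exact sub_eq_zero.mp h1
  · intro a b ha hb
    rw [map_add, map_add, ha, hb]

open scoped TensorProduct in
theorem exists_repr {k : Type u} [Field k] {V : Type u} [AddCommGroup V] [Module k V]
    {W : Type u} [AddCommGroup W] [Module k W] {d : ℕ} (b : Module.Basis (Fin d) k V)
    (ω : V ⊗[k] W) : ∃ j : Fin d → W, ω = ∑ i, b i ⊗ₜ[k] j i := by
  induction ω using TensorProduct.induction_on with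
  | zero => exact ⟨0, by simp⟩
  | tmul v x =>
    refine ⟨fun i => b.repr v i • x, ?_⟩
    conv_lhs => rw [← b.sum_repr v]
    rw [TensorProduct.sum_tmul]
    exact Finset.sum_congr rfl fun i _ => TensorProduct.smul_tmul _ _ _
  | add x y hx hy =>
    obtain ⟨j1, rfl⟩ := hx
    obtain ⟨j2, rfl⟩ := hy
    refine ⟨j1 + j2, ?_⟩
    simp [TensorProduct.tmul_add, Finset.sum_add_distrib]

open scoped TensorProduct in
theorem main (k : Type u) [Field k] (P : Type u) [CommRing P]
    [IsRegularLocalRing P] [Algebra k P]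
    (hres : Function.Surjective (algebraMap k (IsLocalRing.ResidueField P)))
    (I : Ideal P) (hI : I ≤ IsLocalRing.maximalIdeal P ^ 2)
    (V : Type u) [AddCommGroup V] [Module k V] [Module.Finite k V]
    (T : W4bk4hartshdef114.ObsTheory k (P ⧸ I) V) :
    I.spanFinrank ≤ Module.finrank k V := by
  classical
  -- Artin–Rees
  obtain ⟨n0, hn0⟩ := Ideal.exists_pow_inf_eq_pow_smul (IsLocalRing.maximalIdeal P)
    (I : Submodule P P)
  have hAR : I ⊓ IsLocalRing.maximalIdeal P ^ (n0 + 1) ≤ IsLocalRing.maximalIdeal P * I := by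
    intro x hx
    have h1 : x ∈ (IsLocalRing.maximalIdeal P ^ (n0 + 1) • (⊤ : Submodule P P) ⊓
        (I : Submodule P P) : Submodule P P) := by
      refine ⟨?_, hx.1⟩
      show x ∈ IsLocalRing.maximalIdeal P ^ (n0 + 1) • (⊤ : Ideal P)
      rw [Ideal.smul_eq_mul, Ideal.mul_top]
      exact hx.2
    rw [hn0 (n0 + 1) (by omega)] at h1
    have h2 : n0 + 1 - n0 = 1 := by omega
    rw [h2, pow_one] at h1
    have h3 : IsLocalRing.maximalIdeal P • (IsLocalRing.maximalIdeal P ^ n0 • (⊤ : Submodule P P) ⊓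
        (I : Submodule P P)) ≤ IsLocalRing.maximalIdeal P • (I : Submodule P P) :=
      Submodule.smul_mono le_rfl inf_le_right
    exact h3 h1
  have hIm : I ≤ IsLocalRing.maximalIdeal P :=
    hI.trans (Ideal.pow_le_self (by norm_num))
  -- the ideal 𝔞
  set 𝔞 : Ideal P := IsLocalRing.maximalIdeal P * I ⊔ IsLocalRing.maximalIdeal P ^ (n0 + 1)
    with h𝔞
  have h𝔞m : 𝔞 ≤ IsLocalRing.maximalIdeal P :=
    sup_le Ideal.mul_le_left (Ideal.pow_le_self (by omega))
  have hI𝔞 : I ⊓ 𝔞 ≤ IsLocalRing.maximalIdeal P * I := by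
    intro x hx
    obtain ⟨a, ha, b, hb, hab⟩ := Submodule.mem_sup.mp hx.2
    have hbI : b ∈ I := by
      have : b = x - a := by rw [← hab]; ring
      rw [this]
      exact I.sub_mem hx.1 (Ideal.mul_le_right ha)
    have := hAR ⟨hbI, hb⟩
    rw [← hab]
    exact Ideal.add_mem _ ha this
  have h𝔞ne : 𝔞 ≠ ⊤ := fun h =>
    (IsLocalRing.maximalIdeal.isMaximal P).ne_top (top_le_iff.mp (h ▸ h𝔞m))
  haveI : Nontrivial (P ⧸ 𝔞) := Ideal.Quotient.nontrivial_iff.mpr h𝔞ne
  haveI : IsLocalRing (P ⧸ 𝔞) :=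
    IsLocalRing.of_surjective' (Ideal.Quotient.mk 𝔞) Ideal.Quotient.mk_surjective
  have hnonC : ∀ y ∈ IsLocalRing.maximalIdeal P, Ideal.Quotient.mk 𝔞 y ∈ nonunits (P ⧸ 𝔞) :=
    fun y hy => mk_mem_nonunits 𝔞 h𝔞ne y ((IsLocalRing.mem_maximalIdeal _).mp hy)
  have hlift : ∀ x : P ⧸ 𝔞, x ∈ nonunits (P ⧸ 𝔞) →
      ∃ p ∈ IsLocalRing.maximalIdeal P, Ideal.Quotient.mk 𝔞 p = x := by
    intro x hx
    obtain ⟨p, rfl⟩ := Ideal.Quotient.mk_surjective x
    refine ⟨p, ?_, rfl⟩
    by_contra hp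
    have hu : IsUnit p := by
      by_contra hnu
      exact hp ((IsLocalRing.mem_maximalIdeal _).mpr hnu)
    exact hx (hu.map (Ideal.Quotient.mk 𝔞))
  haveI : IsArtinianRing (P ⧸ 𝔞) := by
    rw [isArtinianRing_iff_isNilpotent_maximalIdeal]
    refine ⟨n0 + 1, ?_⟩
    rw [Ideal.zero_eq_bot, eq_bot_iff]
    have hmax : IsLocalRing.maximalIdeal (P ⧸ 𝔞) ≤
        (IsLocalRing.maximalIdeal P).map (Ideal.Quotient.mk 𝔞) := by
      intro x hx
      obtain ⟨p, hp, rfl⟩ := hlift x ((IsLocalRing.mem_maximalIdeal _).mp hx)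
      exact Ideal.mem_map_of_mem _ hp
    calc IsLocalRing.maximalIdeal (P ⧸ 𝔞) ^ (n0 + 1)
        ≤ ((IsLocalRing.maximalIdeal P).map (Ideal.Quotient.mk 𝔞)) ^ (n0 + 1) :=
          Ideal.pow_right_mono hmax _
      _ = (IsLocalRing.maximalIdeal P ^ (n0 + 1)).map (Ideal.Quotient.mk 𝔞) :=
          (Ideal.map_pow _ _ _).symm
      _ ≤ 𝔞.map (Ideal.Quotient.mk 𝔞) := Ideal.map_mono le_sup_right
      _ = ⊥ := Ideal.map_quotient_self 𝔞
  -- the ideal J
  set J : Ideal (P ⧸ 𝔞) := I.map (Ideal.Quotient.mk 𝔞) with hJ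
  have hJmem : ∀ x : P ⧸ 𝔞, x ∈ J → ∃ i ∈ I, Ideal.Quotient.mk 𝔞 i = x := fun x hx =>
    (Ideal.mem_map_iff_of_surjective _ Ideal.Quotient.mk_surjective).mp hx
  have hsmall : W4bk4hartshdef114.IsSmallExt k (P ⧸ 𝔞) J := by
    refine ⟨inferInstance, inferInstance, ?_, ?_, ?_⟩
    · intro x
      obtain ⟨p, rfl⟩ := Ideal.Quotient.mk_surjective x
      obtain ⟨c, hc⟩ := hres (IsLocalRing.residue P p)
      refine ⟨c, ?_⟩
      have h1 : p - algebraMap k P c ∈ IsLocalRing.maximalIdeal P := by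
        rw [← IsLocalRing.residue_eq_zero_iff, map_sub, ← hc]
        exact sub_self _
      have h2 := hnonC _ h1
      rw [map_sub] at h2
      exact h2
    · intro x j hx hj
      obtain ⟨p, hp, rfl⟩ := hlift x hx
      obtain ⟨i, hi, rfl⟩ := hJmem j hj
      rw [← map_mul, Ideal.Quotient.eq_zero_iff_mem]
      exact le_sup_left (α := Ideal P) (Ideal.mul_mem_mul hp hi)
    · intro htop
      have h1 : (1 : P ⧸ 𝔞) ∈ J := htop ▸ Submodule.mem_top
      obtain ⟨i, hi, hi1⟩ := hJmem 1 h1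
      rw [← map_one (Ideal.Quotient.mk 𝔞), Ideal.Quotient.eq] at hi1
      have h2 : (1 : P) ∈ IsLocalRing.maximalIdeal P := by
        have := Ideal.sub_mem _ (hIm hi) (h𝔞m hi1)
        simpa using this
      exact (IsLocalRing.maximalIdeal.isMaximal P).ne_top ((Ideal.eq_top_iff_one _).mpr h2)
  -- the map u
  let u : (P ⧸ I) →ₐ[k] (P ⧸ 𝔞) ⧸ J :=
    Ideal.Quotient.liftₐ I ((Ideal.Quotient.mkₐ k J).comp (Ideal.Quotient.mkₐ k 𝔞)) (by
      intro a ha
      show Ideal.Quotient.mk J (Ideal.Quotient.mk 𝔞 a) = 0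
      rw [Ideal.Quotient.eq_zero_iff_mem]
      exact Ideal.mem_map_of_mem _ ha)
  have hu : ∀ p : P, u (Ideal.Quotient.mk I p) = Ideal.Quotient.mk J (Ideal.Quotient.mk 𝔞 p) :=
    fun p => rfl
  -- the obstruction
  obtain ⟨j, hω⟩ := exists_repr (Module.finBasis k V) (T.obs (P ⧸ 𝔞) J u)
  set K' : Ideal (P ⧸ 𝔞) := Ideal.span (Set.range fun i => ((j i : J) : P ⧸ 𝔞)) with hK'
  have hK'J : K' ≤ J := by
    rw [hK', Ideal.span_le]
    rintro _ ⟨i, rfl⟩
    exact (j i).2
  have hsmall' := isSmallExt_quot k (P ⧸ 𝔞) J K' hsmall hK'J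
  have hobs := T.obs_quot (P ⧸ 𝔞) J K' hsmall hK'J u
  have hzero : LinearMap.lTensor V (W4bk4hartshdef114.idealToQuot k J K')
      (T.obs (P ⧸ 𝔞) J u) = 0 := by
    rw [hω, map_sum]
    apply Finset.sum_eq_zero
    intro i _
    rw [LinearMap.lTensor_tmul]
    have h0 : W4bk4hartshdef114.idealToQuot k J K' (j i) = 0 := by
      apply Subtype.ext
      show Ideal.Quotient.mk K' ((j i : J) : P ⧸ 𝔞) = 0
      rw [Ideal.Quotient.eq_zero_iff_mem]
      exact Ideal.subset_span ⟨i, rfl⟩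
    rw [h0, TensorProduct.tmul_zero]
  rw [hzero] at hobs
  obtain ⟨u', hu'⟩ := (T.obs_eq_zero_iff ((P ⧸ 𝔞) ⧸ K') (J.map (Ideal.Quotient.mkₐ k K'))
    hsmall' _).mp hobs
  -- derivation argument
  haveI : IsLocalRing ((P ⧸ 𝔞) ⧸ K') := hsmall'.1
  have hK'ne : K' ≠ ⊤ := fun h => hsmall.2.2.2.2 (top_le_iff.mp (h ▸ hK'J))
  have hkey := eq_on_sq (P := P) (B := (P ⧸ 𝔞) ⧸ K') (J.map (Ideal.Quotient.mkₐ k K'))
    hsmall'.2.2.2.1
    (by
      intro x hx
      rw [mem_nonunits_iff]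
      intro hux
      exact hsmall'.2.2.2.2 (Ideal.eq_top_of_isUnit_mem _ hx hux))
    ((u'.comp (Ideal.Quotient.mkₐ k I)) : P →+* (P ⧸ 𝔞) ⧸ K')
    (((Ideal.Quotient.mkₐ k K').comp (Ideal.Quotient.mkₐ k 𝔞)) : P →+* (P ⧸ 𝔞) ⧸ K')
    (by
      intro p
      rw [← Ideal.Quotient.eq]
      have h1 := AlgHom.congr_fun hu' (Ideal.Quotient.mk I p)
      exact h1)
    (by
      intro p hp
      exact mk_mem_nonunits K' hK'ne _ (hnonC p hp))
  have hJK' : J ≤ K' := by
    rw [hJ, Ideal.map_le_iff_le_comap]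
    intro x hx
    have h1 := hkey x (hI hx)
    have h2 : ((u'.comp (Ideal.Quotient.mkₐ k I)) : P →+* (P ⧸ 𝔞) ⧸ K') x = 0 := by
      show u' (Ideal.Quotient.mk I x) = 0
      rw [Ideal.Quotient.eq_zero_iff_mem.mpr hx, map_zero]
    rw [h2] at h1
    rw [Ideal.mem_comap, ← Ideal.Quotient.eq_zero_iff_mem]
    exact h1.symm
  -- generators
  have hch : ∀ i, ∃ t ∈ I, Ideal.Quotient.mk 𝔞 t = ((j i : J) : P ⧸ 𝔞) := fun i =>
    hJmem _ (j i).2
  choose t htI ht using hch
  have hIle : (I : Submodule P P) ≤ (Ideal.span (Set.range t) : Submodule P P) ⊔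
      IsLocalRing.maximalIdeal P • (I : Submodule P P) := by
    intro x hx
    have h1 : Ideal.Quotient.mk 𝔞 x ∈ K' := hJK' (Ideal.mem_map_of_mem _ hx)
    rw [hK', Ideal.mem_span_range_iff_exists_fun] at h1
    obtain ⟨c, hc⟩ := h1
    choose p hp using fun i => Ideal.Quotient.mk_surjective (c i)
    have h2 : x - ∑ i, p i * t i ∈ 𝔞 := by
      rw [← Ideal.Quotient.eq, ← hc, map_sum]
      refine Finset.sum_congr rfl fun i _ => ?_
      rw [map_mul, hp i, ht i]
    have h3 : ∑ i, p i * t i ∈ I := Ideal.sum_mem _ fun i _ => Ideal.mul_mem_left _ _ (htI i)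
    have h4 : x - ∑ i, p i * t i ∈ IsLocalRing.maximalIdeal P * I :=
      hI𝔞 ⟨I.sub_mem hx h3, h2⟩
    refine Submodule.mem_sup.mpr ⟨∑ i, p i * t i, ?_, x - ∑ i, p i * t i, ?_, by ring⟩
    · exact Ideal.sum_mem _ fun i _ => Ideal.mul_mem_left _ _ (Ideal.subset_span ⟨i, rfl⟩)
    · rw [Ideal.smul_eq_mul]
      exact h4
  have hIspan : I ≤ Ideal.span (Set.range t) :=
    Submodule.le_of_le_smul_of_le_jacobson_bot (IsNoetherian.noetherian I)
      (IsLocalRing.maximalIdeal_le_jacobson ⊥) hIle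
  have hIeq : I = Ideal.span (Set.range t) := by
    apply le_antisymm hIspan
    rw [Ideal.span_le]
    rintro _ ⟨i, rfl⟩
    exact htI i
  rw [hIeq]
  refine (Submodule.spanFinrank_span_le_ncard_of_finite (Set.finite_range t)).trans ?_
  have h5 : Set.range t = ((Finset.univ.image t : Finset P) : Set P) := by
    rw [Finset.coe_image, Finset.coe_univ, Set.image_univ]
  rw [h5, Set.ncard_coe_finset]
  refine Finset.card_image_le.trans ?_
  rw [Finset.card_univ, Fintype.card_fin]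


/-- Let P be a regular local k-algebra with residue field k, I ⊆ m_P² an ideal, and A = P/I. If A has an
obstruction theory whose obstruction space is a finite-dimensional k-vector space V (obstructions in
V ⊗ J attached to k-algebra maps A → C'/J for small extensions 0 → J → C' → C'/J → 0 of local
Artinian k-algebras with residue field k, vanishing exactly when the map lifts to C', and compatible
with passing to C'/K for ideals K ≤ J), then I is generated by at most dim_k V elements. (The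
published statement gives a natural injection of the dual of I/m_P·I into V; this row asserts the
resulting bound on the number of generators.) -/
theorem result (k : Type u) [Field k] (P : Type u) [CommRing P]
    [IsRegularLocalRing P] [Algebra k P]
    (hres : Function.Surjective (algebraMap k (IsLocalRing.ResidueField P)))
    (I : Ideal P) (hI : I ≤ IsLocalRing.maximalIdeal P ^ 2)
    (V : Type u) [AddCommGroup V] [Module k V] [Module.Finite k V]
    (T : W4bk4hartshdef114.ObsTheory k (P ⧸ I) V) :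
    I.spanFinrank ≤ Module.finrank k V := by
  exact main k P hres I hI V T

end Groth.Agent.S11466
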