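import Groth.Statements.S11470
import Mathlib

set_option autoImplicit false
universe u
open Curves

namespace Groth.Agent.S11470


section Ident

variable {K : Type u} [Field K]

/-- the sextic with roots the six conjugates -/
def Phi (J m : K) : K := (m ^ 2 - m + 1) ^ 3 - J * (m ^ 2 * (m - 1) ^ 2)

theorem Phi_one_sub (J m : K) : Phi J (1 - m) = Phi J m := by
  unfold Phi; ring

theorem Phi_inv (J m : K) (hm : m ≠ 0) (h : Phi J m = 0) : Phi J m⁻¹ = 0 := by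
  have h1 : Phi J m⁻¹ = (m⁻¹) ^ 6 * Phi J m := by
    unfold Phi; field_simp; ring
  rw [h1, h, mul_zero]

theorem pow_rec (J m : K) (h : Phi J m = 0) (n : ℕ) :
    m ^ (n + 6) = 3 * m ^ (n + 5) - (6 - J) * m ^ (n + 4) + (7 - 2 * J) * m ^ (n + 3)
      - (6 - J) * m ^ (n + 2) + 3 * m ^ (n + 1) - m ^ n := by
  unfold Phi at h
  linear_combination m ^ n * h

/-- power sums of the six conjugates -/
def psum (x : K) (n : ℕ) : K :=
  x ^ n + (1 - x) ^ n + (x⁻¹) ^ n + (1 - x⁻¹) ^ n + ((1 - x)⁻¹) ^ n + (1 - (1 - x)⁻¹) ^ n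

theorem psum_mem (S : Subring K) (x : K) (hx : x ≠ 0) (hx1 : 1 - x ≠ 0)
    (hJ : (x ^ 2 - x + 1) ^ 3 / (x ^ 2 * (x - 1) ^ 2) ∈ S) : ∀ n, psum x n ∈ S := by
  have hx1' : x - 1 ≠ 0 := fun h => hx1 (by rw [← neg_sub, h, neg_zero])
  set J := (x ^ 2 - x + 1) ^ 3 / (x ^ 2 * (x - 1) ^ 2) with hJdef
  have hD : x ^ 2 * (x - 1) ^ 2 ≠ 0 := mul_ne_zero (pow_ne_zero 2 hx) (pow_ne_zero 2 hx1')
  have r1 : Phi J x = 0 := by
    unfold Phi
    rw [hJdef, div_mul_cancel₀ _ hD, sub_self]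
  have r2 : Phi J (1 - x) = 0 := by rw [Phi_one_sub]; exact r1
  have r3 : Phi J x⁻¹ = 0 := Phi_inv J x hx r1
  have r4 : Phi J (1 - x⁻¹) = 0 := by rw [Phi_one_sub]; exact r3
  have r5 : Phi J (1 - x)⁻¹ = 0 := Phi_inv J (1 - x) hx1 r2
  have r6 : Phi J (1 - (1 - x)⁻¹) = 0 := by rw [Phi_one_sub]; exact r5
  have hrec : ∀ n, psum x (n + 6) = 3 * psum x (n + 5) - (6 - J) * psum x (n + 4)
      + (7 - 2 * J) * psum x (n + 3) - (6 - J) * psum x (n + 2) + 3 * psum x (n + 1)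
      - psum x n := by
    intro n
    unfold psum
    linear_combination pow_rec J x r1 n + pow_rec J (1 - x) r2 n + pow_rec J x⁻¹ r3 n
      + pow_rec J (1 - x⁻¹) r4 n + pow_rec J (1 - x)⁻¹ r5 n + pow_rec J (1 - (1 - x)⁻¹) r6 n
  have h2 : (2 : K) ∈ S := ofNat_mem S 2
  have h3 : (3 : K) ∈ S := ofNat_mem S 3
  have h5 : (5 : K) ∈ S := ofNat_mem S 5
  have h6 : (6 : K) ∈ S := ofNat_mem S 6
  have h7 : (7 : K) ∈ S := ofNat_mem S 7
  have h8 : (8 : K) ∈ S := ofNat_mem S 8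
  have h25 : (25 : K) ∈ S := ofNat_mem S 25
  have b0 : psum x 0 = 6 := by unfold psum; norm_num
  have b1 : psum x 1 = 3 := by unfold psum; ring
  have b2 : psum x 2 = 2 * J - 3 := by
    rw [hJdef]; unfold psum; field_simp; ring
  have b3 : psum x 3 = 3 * J - 6 := by
    rw [hJdef]; unfold psum; field_simp; ring
  have b4 : psum x 4 = 2 * J ^ 2 - 8 * J - 3 := by
    rw [hJdef]; unfold psum; field_simp; ring
  have b5 : psum x 5 = 5 * J ^ 2 - 25 * J + 3 := by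
    rw [hJdef]; unfold psum; field_simp; ring
  intro n
  induction n using Nat.strong_induction_on with
  | _ n ih =>
    rcases n with _ | _ | _ | _ | _ | _ | n
    · rw [b0]; exact h6
    · rw [b1]; exact h3
    · rw [b2]; exact sub_mem (mul_mem h2 hJ) h3
    · rw [b3]; exact sub_mem (mul_mem h3 hJ) h6
    · rw [b4]; exact sub_mem (sub_mem (mul_mem h2 (pow_mem hJ 2)) (mul_mem h8 hJ)) h3
    · rw [b5]; exact add_mem (sub_mem (mul_mem h5 (pow_mem hJ 2)) (mul_mem h25 hJ)) h3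
    · rw [hrec n]
      have i0 := ih n (by omega)
      have i1 := ih (n + 1) (by omega)
      have i2 := ih (n + 2) (by omega)
      have i3 := ih (n + 3) (by omega)
      have i4 := ih (n + 4) (by omega)
      have i5 := ih (n + 5) (by omega)
      exact sub_mem (add_mem (sub_mem (add_mem (sub_mem (mul_mem h3 i5)
        (mul_mem (sub_mem h6 hJ) i4)) (mul_mem (sub_mem h7 (mul_mem h2 hJ)) i3))
        (mul_mem (sub_mem h6 hJ) i2)) (mul_mem h3 i1)) i0

theorem inv_ids (x : K) (hx : x ≠ 0) (hx1 : 1 - x ≠ 0) :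
    (1 - x⁻¹)⁻¹ = 1 - (1 - x)⁻¹ ∧ (1 - (1 - x)⁻¹)⁻¹ = 1 - x⁻¹ := by
  have h : (1 - x⁻¹) * (1 - (1 - x)⁻¹) = 1 := by
    field_simp; ring
  exact ⟨inv_eq_of_mul_eq_one_right h, inv_eq_of_mul_eq_one_left h⟩

theorem psum_inv (x : K) (hx : x ≠ 0) (hx1 : 1 - x ≠ 0) (n : ℕ) :
    (x⁻¹) ^ n + ((1 - x)⁻¹) ^ n + (x⁻¹⁻¹) ^ n + ((1 - x⁻¹)⁻¹) ^ n + ((1 - x)⁻¹⁻¹) ^ n
      + ((1 - (1 - x)⁻¹)⁻¹) ^ n = psum x n := by
  obtain ⟨e1, e2⟩ := inv_ids x hx hx1
  rw [e1, e2, inv_inv, inv_inv]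
  unfold psum; ring

theorem psum_w (x : K) (hx : x ≠ 0) (hx1 : 1 - x ≠ 0) (n : ℕ) :
    ((x - 1)⁻¹) ^ n + (((1 - x) - 1)⁻¹) ^ n + ((x⁻¹ - 1)⁻¹) ^ n + (((1 - x⁻¹) - 1)⁻¹) ^ n
      + (((1 - x)⁻¹ - 1)⁻¹) ^ n + (((1 - (1 - x)⁻¹) - 1)⁻¹) ^ n = (-1) ^ n * psum x n := by
  obtain ⟨e1, e2⟩ := inv_ids x hx hx1
  have a1 : (x - 1)⁻¹ = -(1 - x)⁻¹ := by rw [← neg_sub 1 x, inv_neg]
  have a2 : ((1 - x) - 1)⁻¹ = -x⁻¹ := by rw [← inv_neg]; congr 1; ring
  have a3 : (x⁻¹ - 1)⁻¹ = -(1 - (1 - x)⁻¹) := by rw [← e1, ← neg_sub 1 x⁻¹, inv_neg]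
  have a4 : ((1 - x⁻¹) - 1)⁻¹ = -x := by
    have : (1 - x⁻¹) - 1 = -x⁻¹ := by ring
    rw [this, inv_neg, inv_inv]
  have a5 : ((1 - x)⁻¹ - 1)⁻¹ = -(1 - x⁻¹) := by rw [← e2, ← neg_sub 1 (1 - x)⁻¹, inv_neg]
  have a6 : ((1 - (1 - x)⁻¹) - 1)⁻¹ = -(1 - x) := by
    have : (1 - (1 - x)⁻¹) - 1 = -(1 - x)⁻¹ := by ring
    rw [this, inv_neg, inv_inv]
  rw [a1, a2, a3, a4, a5, a6]
  rw [neg_pow ((1 - x)⁻¹), neg_pow (x⁻¹), neg_pow (1 - (1 - x)⁻¹), neg_pow x,
    neg_pow (1 - x⁻¹), neg_pow (1 - x)]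
  unfold psum; ring

end Ident

section PF

variable (k : Type u) {K : Type u} [Field k] [Field K] [Algebra k K]

/-- span of the pure powers (partial fractions) -/
def V (x : K) : Submodule k K :=
  Submodule.span k (Set.range (fun n : ℕ => x ^ n) ∪ Set.range (fun n : ℕ => (x⁻¹) ^ n) ∪
    Set.range (fun n : ℕ => ((x - 1)⁻¹) ^ n))

theorem pow_mem_V (x : K) (n : ℕ) : x ^ n ∈ V k x :=
  Submodule.subset_span (Or.inl (Or.inl ⟨n, rfl⟩))

theorem inv_pow_mem_V (x : K) (n : ℕ) : (x⁻¹) ^ n ∈ V k x :=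
  Submodule.subset_span (Or.inl (Or.inr ⟨n, rfl⟩))

theorem w_pow_mem_V (x : K) (n : ℕ) : ((x - 1)⁻¹) ^ n ∈ V k x :=
  Submodule.subset_span (Or.inr ⟨n, rfl⟩)

theorem mul_mem_V_of_gens (x g : K) (h1 : ∀ n : ℕ, g * x ^ n ∈ V k x)
    (h2 : ∀ n : ℕ, g * (x⁻¹) ^ n ∈ V k x) (h3 : ∀ n : ℕ, g * ((x - 1)⁻¹) ^ n ∈ V k x) :
    ∀ v ∈ V k x, g * v ∈ V k x := by
  intro v hv
  induction hv using Submodule.span_induction with
  | mem y hy =>
    rcases hy with (⟨n, rfl⟩ | ⟨n, rfl⟩) | ⟨n, rfl⟩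
    · exact h1 n
    · exact h2 n
    · exact h3 n
  | zero => rw [mul_zero]; exact zero_mem _
  | add a b _ _ ha hb => rw [mul_add]; exact add_mem ha hb
  | smul c a _ ha => rw [mul_smul_comm]; exact Submodule.smul_mem _ c ha

theorem X_mul_mem_V (x : K) (hx : x ≠ 0) (hx1 : x - 1 ≠ 0) : ∀ v ∈ V k x, x * v ∈ V k x := by
  have hxw : x * (x - 1)⁻¹ = 1 + (x - 1)⁻¹ := by field_simp; ring
  apply mul_mem_V_of_gens
  · intro n
    rw [← pow_succ']
    exact pow_mem_V k x (n + 1)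
  · intro n
    rcases n with _ | n
    · rw [pow_zero, mul_one]
      have := pow_mem_V k x 1
      rwa [pow_one] at this
    · rw [pow_succ', ← mul_assoc, mul_inv_cancel₀ hx, one_mul]
      exact inv_pow_mem_V k x n
  · intro n
    rcases n with _ | n
    · rw [pow_zero, mul_one]
      have := pow_mem_V k x 1
      rwa [pow_one] at this
    · rw [pow_succ', ← mul_assoc, hxw, add_mul, one_mul, ← pow_succ']
      exact add_mem (w_pow_mem_V k x n) (w_pow_mem_V k x (n + 1))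

theorem inv_mul_mem_V (x : K) (hx : x ≠ 0) (hx1 : x - 1 ≠ 0) :
    ∀ v ∈ V k x, x⁻¹ * v ∈ V k x := by
  have hiw : x⁻¹ * (x - 1)⁻¹ = (x - 1)⁻¹ - x⁻¹ := by field_simp; ring
  apply mul_mem_V_of_gens
  · intro n
    rcases n with _ | n
    · rw [pow_zero, mul_one]
      have := inv_pow_mem_V k x 1
      rwa [pow_one] at this
    · rw [pow_succ', ← mul_assoc, inv_mul_cancel₀ hx, one_mul]
      exact pow_mem_V k x n
  · intro n
    rw [← pow_succ']
    exact inv_pow_mem_V k x (n + 1)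
  · intro n
    induction n with
    | zero =>
      rw [pow_zero, mul_one]
      have := inv_pow_mem_V k x 1
      rwa [pow_one] at this
    | succ n ih =>
      rw [pow_succ', ← mul_assoc, hiw, sub_mul, ← pow_succ']
      exact sub_mem (w_pow_mem_V k x (n + 1)) ih

theorem w_mul_mem_V (x : K) (hx : x ≠ 0) (hx1 : x - 1 ≠ 0) :
    ∀ v ∈ V k x, (x - 1)⁻¹ * v ∈ V k x := by
  have hwx : (x - 1)⁻¹ * x = 1 + (x - 1)⁻¹ := by field_simp; ring
  have hwi : (x - 1)⁻¹ * x⁻¹ = (x - 1)⁻¹ - x⁻¹ := by field_simp; ring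
  apply mul_mem_V_of_gens
  · intro n
    induction n with
    | zero =>
      rw [pow_zero, mul_one]
      have := w_pow_mem_V k x 1
      rwa [pow_one] at this
    | succ n ih =>
      rw [pow_succ', ← mul_assoc, hwx, add_mul, one_mul]
      exact add_mem (pow_mem_V k x n) ih
  · intro n
    induction n with
    | zero =>
      rw [pow_zero, mul_one]
      have := w_pow_mem_V k x 1
      rwa [pow_one] at this
    | succ n ih =>
      rw [pow_succ', ← mul_assoc, hwi, sub_mul, ← pow_succ']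
      exact sub_mem ih (inv_pow_mem_V k x (n + 1))
  · intro n
    rw [← pow_succ']
    exact w_pow_mem_V k x (n + 1)

/-- multipliers of `V` -/
def Vmul (x : K) : Subalgebra k K where
  carrier := {g | ∀ v ∈ V k x, g * v ∈ V k x}
  mul_mem' := fun {a b} ha hb v hv => by rw [mul_assoc]; exact ha _ (hb v hv)
  one_mem' := fun v hv => by rw [one_mul]; exact hv
  add_mem' := fun {a b} ha hb v hv => by rw [add_mul]; exact add_mem (ha v hv) (hb v hv)
  zero_mem' := fun v _ => by rw [zero_mul]; exact zero_mem _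
  algebraMap_mem' := fun r v hv => by rw [← Algebra.smul_def]; exact Submodule.smul_mem _ r hv

theorem adjoin_le_V (x : K) (hx : x ≠ 0) (hx1 : x - 1 ≠ 0) (b : K)
    (hb : b ∈ Algebra.adjoin k ({x, x⁻¹, (x - 1)⁻¹} : Set K)) : b ∈ V k x := by
  have hle : Algebra.adjoin k ({x, x⁻¹, (x - 1)⁻¹} : Set K) ≤ Vmul k x := by
    apply Algebra.adjoin_le
    intro g hg
    simp only [Set.mem_insert_iff, Set.mem_singleton_iff] at hg
    rcases hg with rfl | rfl | rfl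
    · exact X_mul_mem_V k g hx hx1
    · exact inv_mul_mem_V k x hx hx1
    · exact w_mul_mem_V k x hx hx1
  have h1 := hle hb 1 (by have := pow_mem_V k x 0; rwa [pow_zero] at this)
  rwa [mul_one] at h1

end PF


/-- The algebraic step of its proof: Fix an algebraically closed field k whose characteristic is neither
2 nor 3, let B ⊆ k(λ) be the k-subalgebra generated by λ, λ⁻¹ and (λ - 1)⁻¹ (the coordinate ring of
the λ-line with 0 and 1 removed), and let σ and τ be the k-algebra automorphisms of k(λ) determined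
by σ(λ) = λ⁻¹ and τ(λ) = 1 - λ (they generate the group of order six permuting λ, 1/λ, 1-λ, 1/(1-λ),
λ/(λ-1), (λ-1)/λ). Then the elements of B fixed by σ and τ are exactly the elements of the
k-subalgebra generated by j = 256 (λ² - λ + 1)³ / (λ² (λ - 1)²); in other words the ring of
invariants of B is the polynomial ring k[j]. -/
theorem result (k : Type u) [Field k] [IsAlgClosed k]
    (h2 : (2 : k) ≠ 0) (h3 : (3 : k) ≠ 0)
    (σ τ : RatFunc k ≃ₐ[k] RatFunc k) (hσ : σ RatFunc.X = (RatFunc.X : RatFunc k)⁻¹)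
    (hτ : τ RatFunc.X = 1 - (RatFunc.X : RatFunc k)) (b : RatFunc k) :
    (b ∈ Algebra.adjoin k ({RatFunc.X, (RatFunc.X : RatFunc k)⁻¹, ((RatFunc.X : RatFunc k) - 1)⁻¹} : Set (RatFunc k)) ∧
        σ b = b ∧ τ b = b) ↔
      b ∈ Algebra.adjoin k ({(256 : RatFunc k) * ((RatFunc.X : RatFunc k) ^ 2 - RatFunc.X + 1) ^ 3 /
        ((RatFunc.X : RatFunc k) ^ 2 * ((RatFunc.X : RatFunc k) - 1) ^ 2)} : Set (RatFunc k)) := by
  classical
  have hX : (RatFunc.X : RatFunc k) ≠ 0 := RatFunc.X_ne_zero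
  have hX1 : (RatFunc.X : RatFunc k) - 1 ≠ 0 := by
    rw [sub_ne_zero]
    intro h
    have h' : algebraMap (Polynomial k) (RatFunc k) Polynomial.X =
        algebraMap (Polynomial k) (RatFunc k) (Polynomial.C 1) := by
      rw [RatFunc.algebraMap_X, Polynomial.C_1, map_one]; exact h
    exact Polynomial.X_ne_C 1 (RatFunc.algebraMap_injective k h')
  have hX1' : 1 - (RatFunc.X : RatFunc k) ≠ 0 := fun h => hX1 (by rw [← neg_sub, h, neg_zero])
  have h256 : (256 : k) ≠ 0 := by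
    have : (256 : k) = 2 ^ 8 := by norm_num
    rw [this]; exact pow_ne_zero 8 h2
  have h6 : (6 : k) ≠ 0 := by
    have : (6 : k) = 2 * 3 := by norm_num
    rw [this]; exact mul_ne_zero h2 h3
  have h256' : (256 : RatFunc k) ≠ 0 := by
    rw [← map_ofNat (algebraMap k (RatFunc k)) 256]
    exact (map_ne_zero _).mpr h256
  have h6' : (6 : RatFunc k) ≠ 0 := by
    rw [← map_ofNat (algebraMap k (RatFunc k)) 6]
    exact (map_ne_zero _).mpr h6
  set X : RatFunc k := RatFunc.X with hXdef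
  set jX : RatFunc k := (256 : RatFunc k) * (X ^ 2 - X + 1) ^ 3 / (X ^ 2 * (X - 1) ^ 2) with hjX
  constructor
  · rintro ⟨hbB, hσb, hτb⟩
    let S : Subalgebra k (RatFunc k) := Algebra.adjoin k {jX}
    have hjS : jX ∈ S := Algebra.subset_adjoin rfl
    have hJ : (X ^ 2 - X + 1) ^ 3 / (X ^ 2 * (X - 1) ^ 2) ∈ S.toSubring := by
      have e : (X ^ 2 - X + 1) ^ 3 / (X ^ 2 * (X - 1) ^ 2) =
          algebraMap k (RatFunc k) (256⁻¹) * jX := by
        rw [hjX, map_inv₀, map_ofNat]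
        field_simp
      rw [e]
      exact S.mul_mem (S.algebraMap_mem _) hjS
    have hps : ∀ n, psum X n ∈ S := fun n => psum_mem S.toSubring X hX hX1' hJ n
    let Tr : RatFunc k →ₗ[k] RatFunc k := LinearMap.id + τ.toLinearMap + σ.toLinearMap
      + σ.toLinearMap ∘ₗ τ.toLinearMap + τ.toLinearMap ∘ₗ σ.toLinearMap
      + τ.toLinearMap ∘ₗ (σ.toLinearMap ∘ₗ τ.toLinearMap)
    have hTr : ∀ y, Tr y = y + τ y + σ y + σ (τ y) + τ (σ y) + τ (σ (τ y)) := fun y => rfl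
    have v2 : τ X = 1 - X := hτ
    have v3 : σ X = X⁻¹ := hσ
    have v4 : σ (τ X) = 1 - X⁻¹ := by rw [v2, map_sub, map_one, v3]
    have v5 : τ (σ X) = (1 - X)⁻¹ := by rw [v3, map_inv₀, v2]
    have v6 : τ (σ (τ X)) = 1 - (1 - X)⁻¹ := by rw [v4, map_sub, map_one, map_inv₀, v2]
    have t1 : ∀ n : ℕ, Tr (X ^ n) ∈ S := by
      intro n
      have : Tr (X ^ n) = psum X n := by
        rw [hTr]; simp only [map_pow]; rw [v6, v5, v4, v3, v2]; rfl
      rw [this]; exact hps n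
    have t2 : ∀ n : ℕ, Tr ((X⁻¹) ^ n) ∈ S := by
      intro n
      have : Tr ((X⁻¹) ^ n) = psum X n := by
        rw [hTr]; simp only [map_pow, map_inv₀]; rw [v6, v5, v4, v3, v2]
        exact psum_inv X hX hX1' n
      rw [this]; exact hps n
    have t3 : ∀ n : ℕ, Tr (((X - 1)⁻¹) ^ n) ∈ S := by
      intro n
      have : Tr (((X - 1)⁻¹) ^ n) = (-1) ^ n * psum X n := by
        rw [hTr]; simp only [map_pow, map_inv₀, map_sub, map_one]; rw [v6, v5, v4, v3, v2]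
        exact psum_w X hX hX1' n
      rw [this]
      exact S.mul_mem (S.pow_mem (S.neg_mem S.one_mem) n) (hps n)
    have hV : V k X ≤ Submodule.comap Tr (Subalgebra.toSubmodule S) := by
      unfold V
      apply Submodule.span_le.mpr
      rintro y ((⟨n, rfl⟩ | ⟨n, rfl⟩) | ⟨n, rfl⟩)
      · exact t1 n
      · exact t2 n
      · exact t3 n
    have hbV : b ∈ V k X := adjoin_le_V k X hX hX1 b hbB
    have hTb : Tr b ∈ S := hV hbV
    have hTb' : Tr b = 6 * b := by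
      rw [hTr]; simp only [hσb, hτb]; ring
    rw [hTb'] at hTb
    have hb6 : b = algebraMap k (RatFunc k) (6⁻¹) * (6 * b) := by
      rw [map_inv₀, map_ofNat]
      field_simp
    rw [hb6]
    exact S.mul_mem (S.algebraMap_mem _) hTb
  · intro hb
    have hXB : X ∈ Algebra.adjoin k ({X, X⁻¹, (X - 1)⁻¹} : Set (RatFunc k)) :=
      Algebra.subset_adjoin (by simp)
    have hiB : X⁻¹ ∈ Algebra.adjoin k ({X, X⁻¹, (X - 1)⁻¹} : Set (RatFunc k)) :=
      Algebra.subset_adjoin (by simp)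
    have hwB : (X - 1)⁻¹ ∈ Algebra.adjoin k ({X, X⁻¹, (X - 1)⁻¹} : Set (RatFunc k)) :=
      Algebra.subset_adjoin (by simp)
    have hj1 : jX ∈ Algebra.adjoin k ({X, X⁻¹, (X - 1)⁻¹} : Set (RatFunc k)) := by
      have e : jX = algebraMap k (RatFunc k) 256 * (X ^ 2 - X + 1) ^ 3 *
          ((X⁻¹) ^ 2 * ((X - 1)⁻¹) ^ 2) := by
        rw [hjX, map_ofNat]; field_simp
      rw [e]
      exact mul_mem (mul_mem (Subalgebra.algebraMap_mem _ _)
        (pow_mem (add_mem (sub_mem (pow_mem hXB 2) hXB) (one_mem _)) 3))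
        (mul_mem (pow_mem hiB 2) (pow_mem hwB 2))
    have hj2 : σ jX = jX := by
      rw [hjX]
      simp only [map_div₀, map_mul, map_pow, map_sub, map_add, map_one, map_ofNat, hσ]
      field_simp
      ring
    have hj3 : τ jX = jX := by
      rw [hjX]
      simp only [map_div₀, map_mul, map_pow, map_sub, map_add, map_one, map_ofNat, hτ]
      have hA : (1 - X) ^ 2 - (1 - X) + 1 = X ^ 2 - X + 1 := by ring
      have hD' : (1 - X) ^ 2 * ((1 - X) - 1) ^ 2 = X ^ 2 * (X - 1) ^ 2 := by ring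
      rw [hA, hD']
    induction hb using Algebra.adjoin_induction with
    | mem y hy =>
      rw [Set.mem_singleton_iff] at hy
      rw [hy]; exact ⟨hj1, hj2, hj3⟩
    | algebraMap r => exact ⟨Subalgebra.algebraMap_mem _ r, σ.commutes r, τ.commutes r⟩
    | add x y _ _ ihx ihy =>
      exact ⟨add_mem ihx.1 ihy.1, by rw [map_add, ihx.2.1, ihy.2.1],
        by rw [map_add, ihx.2.2, ihy.2.2]⟩
    | mul x y _ _ ihx ihy =>
      exact ⟨mul_mem ihx.1 ihy.1, by rw [map_mul, ihx.2.1, ihy.2.1],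
        by rw [map_mul, ihx.2.2, ihy.2.2]⟩

end Groth.Agent.S11470
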