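import Groth.Statements.S11493
import Mathlib.Tactic
import Mathlib.Algebra.Homology.DerivedCategory.Ext.ExactSequences
import Mathlib.Algebra.Homology.DerivedCategory.Ext.ExtClass
import Mathlib.Algebra.Homology.ShortComplex.ModuleCat
import Mathlib.Algebra.Category.ModuleCat.Biproducts
import Mathlib.Algebra.Category.ModuleCat.Projective
import Mathlib.RingTheory.LocalRing.Module
import Mathlib.Algebra.Module.Projective
import Mathlib.RingTheory.Noetherian.Basic

set_option autoImplicit false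
universe u
open CategoryTheory
open VBPn

namespace Groth.Agent.S11493

section Aux

open CategoryTheory.Limits

universe v' u' w'

variable {C : Type u'} [Category.{v'} C] [Abelian C] [HasExt.{w'} C]

lemma exists_lift_of_ext_one {S : ShortComplex C} (hS : S.ShortExact) {X : C}
    (h1 : ∀ y : Abelian.Ext X S.X₁ 1, y = 0) (w : X ⟶ S.X₃) : ∃ κ : X ⟶ S.X₂, κ ≫ S.g = w := by
  obtain ⟨x₂, hx₂⟩ := Abelian.Ext.covariant_sequence_exact₃ X hS (Abelian.Ext.mk₀ w) (zero_add 1)
    (h1 _)
  obtain ⟨κ, rfl⟩ := (Abelian.Ext.mk₀_bijective X S.X₂).2 x₂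
  refine ⟨κ, ?_⟩
  apply (Abelian.Ext.mk₀_bijective X S.X₃).1
  rw [← Abelian.Ext.mk₀_comp_mk₀]
  exact hx₂

lemma ext_eq_zero_of_iso {X Y Y' : C} (e : Y ≅ Y') {n : ℕ}
    (h : ∀ y : Abelian.Ext X Y n, y = 0) (y' : Abelian.Ext X Y' n) : y' = 0 := by
  have h1 : y' = (y'.comp (Abelian.Ext.mk₀ e.inv) (add_zero n)).comp (Abelian.Ext.mk₀ e.hom)
      (add_zero n) := by
    rw [Abelian.Ext.comp_assoc_of_third_deg_zero, Abelian.Ext.mk₀_comp_mk₀, e.inv_hom_id,
      Abelian.Ext.comp_mk₀_id]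
  rw [h1, h (y'.comp (Abelian.Ext.mk₀ e.inv) (add_zero n)), Abelian.Ext.zero_comp]

end Aux


/-- Let A be a Noetherian local ring and I an ideal with a free resolution of length 1, 0 → A^p → A^q →
I → 0 (equivalently: a surjection A^q → I with free kernel). Let 0 → A → M → I → 0 be an extension
with class e ∈ Ext^1(I, A). Then M is free if and only if e generates the A-module Ext^1(I, A); the
A-module structure being through End(A) = A, this says every element of Ext^1(I, A) is the composite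
of e with an endomorphism of A. -/
theorem result (A : Type u) [CommRing A] [IsNoetherianRing A] [IsLocalRing A]
    (I : Ideal A)
    (hres : ∃ (q : ℕ) (φ : (Fin q → A) →ₗ[A] ↥I), Function.Surjective φ ∧ Module.Free A ↥(LinearMap.ker φ))
    (S : ShortComplex (ModuleCat.{u} A)) (hS : S.ShortExact)
    (h₁ : Nonempty (S.X₁ ≅ ModuleCat.of A A)) (h₃ : Nonempty (S.X₃ ≅ ModuleCat.of A ↥I)) :
    Module.Free A S.X₂ ↔
      ∀ x : Abelian.Ext S.X₃ S.X₁ 1, ∃ f : S.X₁ ⟶ S.X₁, hS.extClass.comp (Abelian.Ext.mk₀ f) (add_zero 1) = x := by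
  obtain ⟨e₁⟩ := h₁
  obtain ⟨e₃⟩ := h₃
  obtain ⟨q, φ, hφ, hfree⟩ := hres
  haveI hprojA : Projective (ModuleCat.of A A) := inferInstance
  haveI hproj1 : Projective S.X₁ := Projective.of_iso e₁.symm hprojA
  constructor
  · intro hfreeM x
    haveI : Projective S.X₂ := inferInstance
    obtain ⟨x₁, hx₁⟩ := Abelian.Ext.contravariant_sequence_exact₃ hS S.X₁ x
      (Abelian.Ext.eq_zero_of_projective _) (add_zero 1)
    obtain ⟨f, rfl⟩ := (Abelian.Ext.mk₀_bijective S.X₁ S.X₁).2 x₁
    exact ⟨f, hx₁⟩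
  · intro hgen
    -- Ext¹(X₂, X₁) = 0
    have hsub : ∀ y : Abelian.Ext S.X₂ S.X₁ 1, y = 0 := by
      intro y
      obtain ⟨x₃, hx₃⟩ := Abelian.Ext.contravariant_sequence_exact₂ hS S.X₁ y
        (Abelian.Ext.eq_zero_of_projective _)
      obtain ⟨f, hf⟩ := hgen x₃
      rw [← hx₃, ← hf]
      exact hS.comp_extClass_assoc (Abelian.Ext.mk₀ f) (add_zero 1)
    have hsubA : ∀ y : Abelian.Ext S.X₂ (ModuleCat.of A A) 1, y = 0 :=
      ext_eq_zero_of_iso e₁ hsub
    -- module level data
    have hinj : Function.Injective S.f.hom := hS.moduleCat_injective_f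
    have hsurj : Function.Surjective S.g.hom := hS.moduleCat_surjective_g
    have hex : LinearMap.range S.f.hom = LinearMap.ker S.g.hom := hS.exact.moduleCat_range_eq_ker
    let e₃' : S.X₃ ≃ₗ[A] ↥I := e₃.toLinearEquiv
    let e₁' : S.X₁ ≃ₗ[A] A := e₁.toLinearEquiv
    obtain ⟨ψ, hψ⟩ := Module.projective_lifting_property S.g.hom
      (e₃'.symm.toLinearMap ∘ₗ φ) hsurj
    have hψ' : ∀ v, S.g.hom (ψ v) = e₃'.symm (φ v) := fun v => LinearMap.congr_fun hψ v
    let Φ : (S.X₁ × (Fin q → A)) →ₗ[A] S.X₂ := S.f.hom.coprod ψ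
    have hΦ : ∀ a v, Φ (a, v) = S.f.hom a + ψ v := fun a v => LinearMap.coprod_apply _ _ _
    have hΦsurj : Function.Surjective Φ := by
      intro m
      obtain ⟨v, hv⟩ := hφ (e₃' (S.g.hom m))
      have hk : m - ψ v ∈ LinearMap.ker S.g.hom := by
        rw [LinearMap.mem_ker, map_sub, hψ', hv, LinearEquiv.symm_apply_apply, sub_self]
      rw [← hex] at hk
      obtain ⟨a, ha⟩ := hk
      exact ⟨(a, v), by rw [hΦ, ha, sub_add_cancel]⟩
    -- kernel of Φ
    have hker : ∀ z : S.X₁ × (Fin q → A), z ∈ LinearMap.ker Φ → z.2 ∈ LinearMap.ker φ := by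
      rintro ⟨a, v⟩ hz
      rw [LinearMap.mem_ker, hΦ] at hz
      have h0 : S.g.hom (S.f.hom a + ψ v) = 0 := by rw [hz, map_zero]
      rw [map_add, hψ'] at h0
      have h1 : S.g.hom (S.f.hom a) = 0 := by
        have : S.f.hom a ∈ LinearMap.ker S.g.hom := hex ▸ ⟨a, rfl⟩
        exact this
      rw [h1, zero_add] at h0
      rw [LinearMap.mem_ker]
      exact e₃'.symm.map_eq_zero_iff.1 h0
    let κ : ↥(LinearMap.ker Φ) →ₗ[A] ↥(LinearMap.ker φ) :=
      LinearMap.codRestrict (LinearMap.ker φ)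
        (LinearMap.snd A S.X₁ (Fin q → A) ∘ₗ (LinearMap.ker Φ).subtype) (fun z => hker z.1 z.2)
    have hκbij : Function.Bijective κ := by
      constructor
      · rw [← LinearMap.ker_eq_bot, LinearMap.ker_eq_bot']
        rintro ⟨⟨a, v⟩, hz⟩ h0
        have hv : v = 0 := congrArg Subtype.val h0
        subst hv
        rw [LinearMap.mem_ker, hΦ, map_zero, add_zero] at hz
        have ha : a = 0 := hinj (by rw [hz, map_zero])
        subst ha
        rfl
      · rintro ⟨v, hv⟩
        rw [LinearMap.mem_ker] at hv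
        have hk : ψ v ∈ LinearMap.ker S.g.hom := by
          rw [LinearMap.mem_ker, hψ', hv, map_zero]
        rw [← hex] at hk
        obtain ⟨a, ha⟩ := hk
        refine ⟨⟨(-a, v), ?_⟩, rfl⟩
        rw [LinearMap.mem_ker, hΦ, map_neg, ha, neg_add_cancel]
    let eκ : ↥(LinearMap.ker Φ) ≃ₗ[A] ↥(LinearMap.ker φ) := LinearEquiv.ofBijective κ hκbij
    haveI : Module.Free A ↥(LinearMap.ker Φ) := Module.Free.of_equiv eκ.symm
    haveI : Module.Projective A S.X₁ := Module.Projective.of_equiv e₁'.symm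
    haveI : Module.Finite A S.X₁ := Module.Finite.equiv e₁'.symm
    haveI : Module.Finite A ↥(LinearMap.ker Φ) := inferInstance
    -- the kernel is A^k
    let k := Module.finrank A ↥(LinearMap.ker Φ)
    let eK : ↥(LinearMap.ker Φ) ≃ₗ[A] (Fin k → A) :=
      (Module.finBasis A ↥(LinearMap.ker Φ)).equivFun
    let T : ShortComplex (ModuleCat.{u} A) := Φ.shortComplexKer
    have hT : T.ShortExact := LinearMap.shortExact_shortComplexKer hΦsurj
    have hsubBi : ∀ y : Abelian.Ext S.X₂ (⨁ fun _ : Fin k => ModuleCat.of A A) 1, y = 0 := by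
      intro y
      apply (Abelian.Ext.addEquivBiproduct S.X₂
        (Limits.biproduct.isBilimit (fun _ : Fin k => ModuleCat.of A A)) 1).injective
      rw [map_zero]
      funext i
      exact hsubA _
    let iso : (⨁ fun _ : Fin k => ModuleCat.of A A) ≅ T.X₁ :=
      (ModuleCat.biproductIsoPi (fun _ : Fin k => ModuleCat.of A A)) ≪≫
        (LinearEquiv.toModuleIso eK.symm)
    have hsubK : ∀ y : Abelian.Ext S.X₂ T.X₁ 1, y = 0 := ext_eq_zero_of_iso iso hsubBi
    obtain ⟨s, hs⟩ := exists_lift_of_ext_one hT (X := S.X₂) hsubK (𝟙 S.X₂)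
    have hsplit : Φ ∘ₗ s.hom = LinearMap.id := by
      have := congrArg ModuleCat.Hom.hom hs
      exact this
    haveI : Module.Projective A S.X₂ := Module.Projective.of_split s.hom Φ hsplit
    haveI : Module.Finite A S.X₂ := Module.Finite.of_surjective Φ hΦsurj
    exact Module.free_of_flat_of_isLocalRing

end Groth.Agent.S11493
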