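import Groth.Statements.S11495
import Groth.Agent.H27.PdExt
import Groth.Agent.H29.RegGlobalDim

set_option autoImplicit false
universe u
open CategoryTheory
open VBPn

namespace Groth.Agent.S11495

/-- Let A be a regular local ring and M a finitely generated A-module. For every q ≥ 0, the projective
(homological) dimension of M is at most q if and only if Ext^i_A(M, A) = 0 for all i > q. The
published statement is for stalks of coherent analytic sheaves on a complex manifold; this row is
stated for any regular local ring. -/
theorem result (A : Type u) [CommRing A] [IsRegularLocalRing A]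
    (M : Type u) [AddCommGroup M] [Module A M] [Module.Finite A M] (q : ℕ) :
    HasProjectiveDimensionLT (ModuleCat.of A M) (q + 1) ↔
      ∀ i : ℕ, q < i → Subsingleton (Abelian.Ext (ModuleCat.of A M) (ModuleCat.of A A) i) := by
  constructor
  · intro h i hi
    exact HasProjectiveDimensionLT.subsingleton (ModuleCat.of A M) (q + 1) i (by omega) _
  · intro h
    obtain ⟨d, hd⟩ := Groth.Agent.H29.ringKrullDim_eq_natCast_of_isLocalRing A
    haveI := Groth.Agent.H29.hasProjectiveDimensionLT_of_isRegularLocalRing A d hd
      (ModuleCat.of A M)
    apply Groth.Agent.H27.PdExt.hasProjDimLT_of_ext_finite q M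
    intro N _ _ _ e
    exact Groth.Agent.H27.PdExt.ext_finite_eq_zero (ModuleCat.of A M) q d
      (fun i hi e => (h i hi).elim _ _) (d + 1) (q + 1) (by omega) (by omega) N e

end Groth.Agent.S11495
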