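import Groth.Statements.S11496
import Groth.Agent.H29.RegLocalization
import Groth.Agent.H29.RegLocal
import Groth.Agent.H29.RegLocal3

set_option autoImplicit false
universe u
open CategoryTheory
open VBPn

namespace Groth.Agent.S11496

/-- Let A be a regular local ring, M a finitely generated A-module and i ≥ 0. The support of Ext^i_A(M,
A) has dimension at most dim A − i: for every prime ideal p of A such that Ext^i over the
localization A_p of M_p into A_p is nonzero (this Ext group is the localization at p of Ext^i_A(M,
A)), one has dim(A/p) + i ≤ dim A. The published statement is for coherent analytic sheaves on an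
n-dimensional complex manifold; this row is stated for any regular local ring. -/
theorem result (A : Type u) [CommRing A] [IsRegularLocalRing A]
    (M : Type u) [AddCommGroup M] [Module A M] [Module.Finite A M] (i : ℕ) (p : Ideal A) [p.IsPrime]
    (h : Nontrivial (Abelian.Ext
      (ModuleCat.of (Localization.AtPrime p) (LocalizedModule p.primeCompl M))
      (ModuleCat.of (Localization.AtPrime p) (Localization.AtPrime p)) i)) :
    ringKrullDim (A ⧸ p) + (i : WithBot ℕ∞) ≤ ringKrullDim A := by
  haveI : IsRegularLocalRing (Localization.AtPrime p) :=
    Groth.Agent.H29.isRegularLocalRing_localization_atPrime A p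
  obtain ⟨d, hd⟩ :=
    Groth.Agent.H29.ringKrullDim_eq_natCast_of_isLocalRing (Localization.AtPrime p)
  have hpd := Groth.Agent.H29.hasProjectiveDimensionLT_of_isRegularLocalRing
    (Localization.AtPrime p) d hd
    (ModuleCat.of (Localization.AtPrime p) (LocalizedModule p.primeCompl M))
  have hid : i ≤ d := by
    by_contra hcon
    push_neg at hcon
    have hs := HasProjectiveDimensionLT.subsingleton
      (ModuleCat.of (Localization.AtPrime p) (LocalizedModule p.primeCompl M)) (d + 1) i hcon
      (ModuleCat.of (Localization.AtPrime p) (Localization.AtPrime p))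
    exact not_subsingleton _ hs
  have hht : ringKrullDim (Localization.AtPrime p) = p.height :=
    IsLocalization.AtPrime.ringKrullDim_eq_height p (Localization.AtPrime p)
  have h1 := Groth.Agent.H29.height_add_ringKrullDim_quotient_le A p
  rw [hd] at hht
  calc ringKrullDim (A ⧸ p) + (i : WithBot ℕ∞)
      ≤ ringKrullDim (A ⧸ p) + (d : WithBot ℕ∞) := by
        gcongr
    _ = ((p.height : ℕ∞) : WithBot ℕ∞) + ringKrullDim (A ⧸ p) := by rw [hht, add_comm]
    _ ≤ ringKrullDim A := h1

end Groth.Agent.S11496
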