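import Groth.Statements.S11497
import Mathlib.Tactic
import Mathlib.Algebra.Homology.DerivedCategory.Ext.ExactSequences
import Mathlib.Algebra.Homology.ShortComplex.ShortExact

set_option autoImplicit false
universe w v u
open CategoryTheory
open VBPn

namespace Groth.Agent.S11497

section Aux

open CategoryTheory.Limits

variable {C : Type u} [Category.{v} C] [Abelian C]

/-- `0 → Z → X₂ → X₃ → 0`. -/
noncomputable def sc1 (N : ShortComplex C) : ShortComplex C :=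
  ShortComplex.mk N.iCycles N.g N.iCycles_g

lemma sc1_shortExact (N : ShortComplex C) [Epi N.g] : (sc1 N).ShortExact := by
  have h1 : Mono (sc1 N).f := by dsimp [sc1]; infer_instance
  have h2 : Epi (sc1 N).g := by dsimp [sc1]; infer_instance
  exact ShortComplex.ShortExact.mk' (ShortComplex.exact_of_f_is_kernel _ N.cyclesIsKernel) h1 h2

/-- `0 → X₁ → Z → H → 0`. -/
noncomputable def sc2 (N : ShortComplex C) : ShortComplex C :=
  ShortComplex.mk N.toCycles N.homologyπ N.toCycles_comp_homologyπ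

lemma sc2_shortExact (N : ShortComplex C) [Mono N.f] : (sc2 N).ShortExact := by
  have h1 : Mono (sc2 N).f := by
    dsimp [sc2]
    haveI : Mono (N.toCycles ≫ N.iCycles) := by rw [N.toCycles_i]; infer_instance
    exact mono_of_mono N.toCycles N.iCycles
  have h2 : Epi (sc2 N).g := by dsimp [sc2]; infer_instance
  exact ShortComplex.ShortExact.mk' (ShortComplex.exact_of_g_is_cokernel _ N.homologyIsCokernel) h1 h2

variable [HasExt.{w} C]

lemma exists_lift_of_ext_one {S : ShortComplex C} (hS : S.ShortExact) {X : C}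
    (h1 : Subsingleton (Abelian.Ext X S.X₁ 1)) (w : X ⟶ S.X₃) : ∃ κ : X ⟶ S.X₂, κ ≫ S.g = w := by
  obtain ⟨x₂, hx₂⟩ := Abelian.Ext.covariant_sequence_exact₃ X hS (Abelian.Ext.mk₀ w) (zero_add 1)
    (Subsingleton.elim _ _)
  obtain ⟨κ, rfl⟩ := (Abelian.Ext.mk₀_bijective X S.X₂).2 x₂
  refine ⟨κ, ?_⟩
  apply (Abelian.Ext.mk₀_bijective X S.X₃).1
  rw [← Abelian.Ext.mk₀_comp_mk₀]
  exact hx₂

lemma exists_ext_of_ext_one {S : ShortComplex C} (hS : S.ShortExact) {Y : C}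
    (h1 : Subsingleton (Abelian.Ext S.X₃ Y 1)) (u : S.X₁ ⟶ Y) : ∃ β : S.X₂ ⟶ Y, S.f ≫ β = u := by
  obtain ⟨x₂, hx₂⟩ := Abelian.Ext.contravariant_sequence_exact₁ hS Y (Abelian.Ext.mk₀ u)
    (add_zero 1) (Subsingleton.elim _ _)
  obtain ⟨β, rfl⟩ := (Abelian.Ext.mk₀_bijective S.X₂ Y).2 x₂
  refine ⟨β, ?_⟩
  apply (Abelian.Ext.mk₀_bijective S.X₁ Y).1
  rw [← Abelian.Ext.mk₀_comp_mk₀]
  exact hx₂

lemma subsingleton_ext_one {S : ShortComplex C} (hS : S.ShortExact) {Y : C}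
    (h2 : Subsingleton (Abelian.Ext S.X₂ Y 1)) (h3 : Subsingleton (Abelian.Ext S.X₃ Y 2)) :
    Subsingleton (Abelian.Ext S.X₁ Y 1) := by
  have key : ∀ z : Abelian.Ext S.X₁ Y 1, z = 0 := by
    intro z
    obtain ⟨x₂, hx₂⟩ := Abelian.Ext.contravariant_sequence_exact₁ hS Y z
      (by norm_num : 1 + 1 = 2) (Subsingleton.elim _ _)
    rw [← hx₂, Subsingleton.elim x₂ 0, Abelian.Ext.comp_zero]
  exact ⟨fun x y => by rw [key x, key y]⟩

end Aux


/-- In an abelian category, let M : A → B → C and M' : A' → B' → C' be monads, i.e. short complexes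
whose first map is a monomorphism and whose second map is an epimorphism, with cohomology (homology)
objects E and E'. Suppose Hom(B, A') = 0, Hom(C, B') = 0 and Ext^1(C, A') = Ext^1(B, A') = Ext^1(C,
B') = Ext^2(C, A') = 0. Then the map sending a morphism of monads M → M' to the induced morphism E →
E' is bijective. The published statement is for monads of vector bundles on a complex manifold X,
with Ext^i(C, A') written H^i(X, C^* ⊗ A'); this row is stated in any abelian category. -/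
theorem result {C : Type u} [Category.{v} C] [Abelian C] [HasExt.{w} C]
    (M M' : ShortComplex C) [Mono M.f] [Epi M.g] [Mono M'.f] [Epi M'.g]
    (hBA : ∀ f : M.X₂ ⟶ M'.X₁, f = 0) (hCB : ∀ f : M.X₃ ⟶ M'.X₂, f = 0)
    (hCA₁ : Subsingleton (Abelian.Ext M.X₃ M'.X₁ 1)) (hBA₁ : Subsingleton (Abelian.Ext M.X₂ M'.X₁ 1))
    (hCB₁ : Subsingleton (Abelian.Ext M.X₃ M'.X₂ 1)) (hCA₂ : Subsingleton (Abelian.Ext M.X₃ M'.X₁ 2)) :
    Function.Bijective (fun φ : M ⟶ M' => ShortComplex.homologyMap φ) := by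
  have hS1 := sc1_shortExact M
  have hS2' := sc2_shortExact M'
  haveI : Mono (sc2 M').f := hS2'.mono_f
  haveI : Epi (sc1 M).g := hS1.epi_g
  -- F1 : Hom(K, A') = 0
  have F1 : ∀ u : M.cycles ⟶ M'.X₁, u = 0 := by
    intro u
    obtain ⟨β, hβ⟩ : ∃ β : M.X₂ ⟶ M'.X₁, M.iCycles ≫ β = u :=
      exists_ext_of_ext_one hS1 (Y := M'.X₁) hCA₁ u
    rw [← hβ, hBA β, Limits.comp_zero]
  have F2 : Subsingleton (Abelian.Ext M.cycles M'.X₁ 1) :=
    subsingleton_ext_one hS1 (Y := M'.X₁) hBA₁ hCA₂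
  have F3 : ∀ w : M.cycles ⟶ M'.homology, ∃ κ : M.cycles ⟶ M'.cycles, κ ≫ M'.homologyπ = w :=
    fun w => exists_lift_of_ext_one hS2' (X := M.cycles) F2 w
  have F3u : ∀ κ₁ κ₂ : M.cycles ⟶ M'.cycles, κ₁ ≫ M'.homologyπ = κ₂ ≫ M'.homologyπ → κ₁ = κ₂ := by
    intro κ₁ κ₂ h
    have h0 : (κ₁ - κ₂) ≫ (sc2 M').g = 0 := by
      change (κ₁ - κ₂) ≫ M'.homologyπ = 0
      rw [Preadditive.sub_comp, h, sub_self]
    obtain ⟨l, hl⟩ : ∃ l : M.cycles ⟶ M'.X₁, l ≫ M'.toCycles = κ₁ - κ₂ :=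
      hS2'.exact.lift' (κ₁ - κ₂) h0
    rw [F1 l, Limits.zero_comp] at hl
    exact sub_eq_zero.1 hl.symm
  have F4 : ∀ u : M.cycles ⟶ M'.X₂, ∃ β : M.X₂ ⟶ M'.X₂, M.iCycles ≫ β = u :=
    fun u => exists_ext_of_ext_one hS1 (Y := M'.X₂) hCB₁ u
  have F4u : ∀ β₁ β₂ : M.X₂ ⟶ M'.X₂, M.iCycles ≫ β₁ = M.iCycles ≫ β₂ → β₁ = β₂ := by
    intro β₁ β₂ h
    have h0 : (sc1 M).f ≫ (β₁ - β₂) = 0 := by
      change M.iCycles ≫ (β₁ - β₂) = 0
      rw [Preadditive.comp_sub, h, sub_self]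
    obtain ⟨l, hl⟩ : ∃ l : M.X₃ ⟶ M'.X₂, M.g ≫ l = β₁ - β₂ :=
      hS1.exact.desc' (β₁ - β₂) h0
    rw [hCB l, Limits.comp_zero] at hl
    exact sub_eq_zero.1 hl.symm
  constructor
  · intro φ₁ φ₂ h
    have h : ShortComplex.homologyMap φ₁ = ShortComplex.homologyMap φ₂ := h
    have hc : ShortComplex.cyclesMap φ₁ = ShortComplex.cyclesMap φ₂ := by
      apply F3u
      rw [← ShortComplex.homologyπ_naturality, ← ShortComplex.homologyπ_naturality, h]
    have h2 : φ₁.τ₂ = φ₂.τ₂ := by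
      apply F4u
      rw [← ShortComplex.cyclesMap_i, ← ShortComplex.cyclesMap_i, hc]
    have h1 : φ₁.τ₁ = φ₂.τ₁ := by
      rw [← cancel_mono M'.f, φ₁.comm₁₂, h2, ← φ₂.comm₁₂]
    have h3 : φ₁.τ₃ = φ₂.τ₃ := by
      rw [← cancel_epi M.g, ← φ₁.comm₂₃, h2, φ₂.comm₂₃]
    exact ShortComplex.hom_ext _ _ h1 h2 h3
  · intro e
    obtain ⟨κ, hκ⟩ := F3 (M.homologyπ ≫ e)
    obtain ⟨β, hβ⟩ := F4 (κ ≫ M'.iCycles)
    have hα0 : (M.toCycles ≫ κ) ≫ (sc2 M').g = 0 := by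
      change (M.toCycles ≫ κ) ≫ M'.homologyπ = 0
      rw [Category.assoc, hκ, ← Category.assoc, M.toCycles_comp_homologyπ, Limits.zero_comp]
    obtain ⟨α, hα⟩ : ∃ α : M.X₁ ⟶ M'.X₁, α ≫ M'.toCycles = M.toCycles ≫ κ :=
      hS2'.exact.lift' (M.toCycles ≫ κ) hα0
    have hγ0 : (sc1 M).f ≫ (β ≫ M'.g) = 0 := by
      change M.iCycles ≫ (β ≫ M'.g) = 0
      rw [← Category.assoc, hβ, Category.assoc, M'.iCycles_g, Limits.comp_zero]
    obtain ⟨γ, hγ⟩ : ∃ γ : M.X₃ ⟶ M'.X₃, M.g ≫ γ = β ≫ M'.g :=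
      hS1.exact.desc' (β ≫ M'.g) hγ0
    have c12 : α ≫ M'.f = M.f ≫ β := by
      rw [← M'.toCycles_i, ← Category.assoc, hα, Category.assoc, ← hβ, ← Category.assoc,
        M.toCycles_i]
    let φ : M ⟶ M' := ⟨α, β, γ, c12, hγ.symm⟩
    refine ⟨φ, ?_⟩
    change ShortComplex.homologyMap φ = e
    have hcyc : ShortComplex.cyclesMap φ = κ := by
      rw [← cancel_mono M'.iCycles, ShortComplex.cyclesMap_i]
      exact hβ
    rw [← cancel_epi M.homologyπ, ShortComplex.homologyπ_naturality, hcyc, hκ]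

end Groth.Agent.S11497
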