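import Groth.Statements.S11499
import Mathlib

set_option autoImplicit false
universe u
open TensorProduct
open VBPn

namespace Groth.Agent.S11499

/-- Let A be an integral domain with fraction field K and M a finitely generated torsion-free A-module
of rank r (K ⊗_A M is r-dimensional over K). Then there is an injective A-linear map M → A^r. The
published statement is for torsion-free coherent sheaves on a complex manifold, locally near a
point; this row is its statement for one stalk, over any domain. -/
theorem result (A : Type u) [CommRing A] [IsDomain A]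
    (M : Type u) [AddCommGroup M] [Module A M] [Module.Finite A M] [NoZeroSMulDivisors A M] (r : ℕ)
    (hr : Module.finrank (FractionRing A) (FractionRing A ⊗[A] M) = r) :
    ∃ f : M →ₗ[A] (Fin r → A), Function.Injective f := by
  classical
  let b : Module.Basis (Fin r) (FractionRing A) (FractionRing A ⊗[A] M) :=
    Module.finBasisOfFinrankEq (FractionRing A) _ hr
  let e : (FractionRing A ⊗[A] M) ≃ₗ[FractionRing A] (Fin r → FractionRing A) := b.equivFun
  let ψ : M →ₗ[A] (Fin r → FractionRing A) :=
    (e.toLinearMap.restrictScalars A) ∘ₗ (TensorProduct.mk A (FractionRing A) M 1)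
  have hloc : IsLocalizedModule (nonZeroDivisors A) (TensorProduct.mk A (FractionRing A) M 1) :=
    (isLocalizedModule_iff_isBaseChange (nonZeroDivisors A) (FractionRing A) _).mpr
      (TensorProduct.isBaseChange A M (FractionRing A))
  have hmk : Function.Injective (TensorProduct.mk A (FractionRing A) M 1) := by
    rw [injective_iff_map_eq_zero]
    intro m hm
    obtain ⟨s, hs⟩ := (IsLocalizedModule.eq_zero_iff (nonZeroDivisors A) _).mp hm
    rcases smul_eq_zero.mp hs with h | h
    · exact absurd h (nonZeroDivisors.coe_ne_zero s)
    · exact h
  have hψ : Function.Injective ψ := by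
    intro m m' h
    apply hmk
    apply e.injective
    exact h
  obtain ⟨S, hS⟩ := (Module.Finite.fg_top : (⊤ : Submodule A M).FG)
  obtain ⟨d, hd⟩ := IsLocalization.exist_integer_multiples (nonZeroDivisors A)
    (S ×ˢ (Finset.univ : Finset (Fin r))) (fun p : M × Fin r => ψ p.1 p.2)
  let ι : (Fin r → A) →ₗ[A] (Fin r → FractionRing A) :=
    LinearMap.compLeft (Algebra.linearMap A (FractionRing A)) (Fin r)
  have hι : Function.Injective ι := by
    intro x y h
    ext i
    have := congrFun h i
    exact IsFractionRing.injective A (FractionRing A) this
  have hmem : ∀ m, ((d : A) • ψ) m ∈ LinearMap.range ι := by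
    have : (⊤ : Submodule A M) ≤ (LinearMap.range ι).comap ((d : A) • ψ) := by
      rw [← hS, Submodule.span_le]
      intro s hs
      have h1 : ∀ i : Fin r, ∃ a : A, algebraMap A (FractionRing A) a = (d : A) • ψ s i := by
        intro i
        exact hd (s, i) (Finset.mem_product.mpr ⟨hs, Finset.mem_univ _⟩)
      choose a ha using h1
      refine ⟨a, ?_⟩
      ext i
      simp only [ι, LinearMap.compLeft_apply, Function.comp_apply, Algebra.linearMap_apply, ha,
        LinearMap.smul_apply, Pi.smul_apply]
    intro m
    exact this (Submodule.mem_top)
  let f0 : M →ₗ[A] LinearMap.range ι := ((d : A) • ψ).codRestrict (LinearMap.range ι) hmem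
  refine ⟨(LinearEquiv.ofInjective ι hι).symm.toLinearMap ∘ₗ f0, ?_⟩
  rw [LinearMap.coe_comp]
  apply Function.Injective.comp (LinearEquiv.injective _)
  intro m m' h
  have h' : ((d : A) • ψ) m = ((d : A) • ψ) m' := congrArg Subtype.val h
  simp only [LinearMap.smul_apply] at h'
  apply hψ
  have hd0 : algebraMap A (FractionRing A) (d : A) ≠ 0 := by
    intro h0
    exact nonZeroDivisors.coe_ne_zero d ((IsFractionRing.injective A (FractionRing A)) (by rw [h0, map_zero]))
  ext i
  have := congrFun h' i
  simp only [Pi.smul_apply, Algebra.smul_def] at this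
  exact mul_left_cancel₀ hd0 this

end Groth.Agent.S11499
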