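import Groth.Statements.S11523
import Mathlib

set_option autoImplicit false
universe v u v' u'
open CategoryTheory CategoryTheory.Limits
open PervT

namespace Groth.Agent.S11523


section helpers
open CategoryTheory CategoryTheory.Limits

variable {A : Type u} [Category.{v} A] [Abelian A] {B : Type u'} [Category.{v'} B] [Abelian B]
    (u : A ⥤ B) [u.Full] [u.Faithful] [PreservesFiniteLimits u] [PreservesFiniteColimits u]

/-- the key step -/
lemma step (hsimple : ∀ X : A, Simple X → Simple (u.obj X)) {Q : A} (T : Subobject Q)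
    [Simple (T : A)]
    {K : B} (k : K ⟶ u.obj Q) [Mono k] (hK : ∀ (S : A) (g : u.obj S ⟶ K), g = 0) :
    Mono (k ≫ u.map (cokernel.π T.arrow)) := by
  apply Preadditive.mono_of_kernel_zero
  let S : ShortComplex A := ShortComplex.mk T.arrow (cokernel.π T.arrow) (cokernel.condition _)
  have hS : S.Exact := S.exact_of_g_is_cokernel (cokernelIsCokernel _)
  have hS' : (S.map u).Exact := hS.map u
  haveI : Mono (S.map u).f := by
    show Mono (u.map T.arrow)
    infer_instance
  have h0 : (kernel.ι (k ≫ u.map (cokernel.π T.arrow)) ≫ k) ≫ (S.map u).g = 0 := by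
    show (kernel.ι (k ≫ u.map (cokernel.π T.arrow)) ≫ k) ≫ u.map (cokernel.π T.arrow) = 0
    rw [Category.assoc]; exact kernel.condition _
  obtain ⟨m, hm⟩ : ∃ m : kernel (k ≫ u.map (cokernel.π T.arrow)) ⟶ u.obj (T : A),
      m ≫ u.map T.arrow = kernel.ι (k ≫ u.map (cokernel.π T.arrow)) ≫ k :=
    ⟨hS'.lift _ h0, hS'.lift_f _ _⟩
  haveI : Mono m := mono_of_mono_fac hm
  haveI : Simple (u.obj (T : A)) := hsimple _ inferInstance
  by_cases h : m = 0
  · have h1 : kernel.ι (k ≫ u.map (cokernel.π T.arrow)) ≫ k = 0 := by rw [← hm, h, zero_comp]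
    exact (cancel_mono k).1 (by rw [h1, zero_comp])
  · haveI : IsIso m := (Simple.mono_isIso_iff_nonzero _).2 h
    have h2 : inv m ≫ kernel.ι (k ≫ u.map (cokernel.π T.arrow)) = 0 := hK _ _
    calc kernel.ι (k ≫ u.map (cokernel.π T.arrow))
        = m ≫ inv m ≫ kernel.ι (k ≫ u.map (cokernel.π T.arrow)) := by
          simp
      _ = 0 := by rw [h2, comp_zero]

lemma isZero_of_noMaps (hlen : ∀ X : A, IsArtinianObject X ∧ IsNoetherianObject X)
    (hsimple : ∀ X : A, Simple X → Simple (u.obj X)) (X₀ : A) :
    ∀ (Z : Subobject X₀) (Q : A) (q : X₀ ⟶ Q) [Epi q], kernelSubobject q = Z →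
      ∀ (K : B) (k : K ⟶ u.obj Q) [Mono k], (∀ (S : A) (g : u.obj S ⟶ K), g = 0) →
        IsZero K := by
  haveI := (hlen X₀).2
  intro Z
  induction Z using WellFoundedGT.induction with
  | ind Z IH =>
    intro Q q _ hq K k _ hK
    by_cases hQ : IsZero Q
    · exact IsZero.of_mono k (u.map_isZero hQ)
    · haveI := (hlen Q).1
      obtain ⟨T, hT⟩ := exists_simple_subobject hQ
      haveI := hT
      haveI := step u hsimple T k hK
      refine IH (kernelSubobject (q ≫ cokernel.π T.arrow)) ?_ _ (q ≫ cokernel.π T.arrow) rfl K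
        (k ≫ u.map (cokernel.π T.arrow)) hK
      rw [← hq]
      refine lt_of_le_of_ne (kernelSubobject_comp_le q _) ?_
      intro heq
      obtain ⟨W, π, hπ, x, hx⟩ := surjective_up_to_refinements_of_epi q T.arrow
      have h1 : x ≫ q ≫ cokernel.π T.arrow = 0 := by
        rw [← Category.assoc, ← hx, Category.assoc, cokernel.condition, comp_zero]
      have h2 : (kernelSubobject (q ≫ cokernel.π T.arrow)).Factors x :=
        (kernelSubobject_factors_iff _ _).2 h1
      rw [← heq] at h2
      have h3 : x ≫ q = 0 := (kernelSubobject_factors_iff _ _).1 h2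
      have h4 : π ≫ T.arrow = 0 := by rw [hx, h3]
      have h5 : T.arrow = 0 := by
        haveI := hπ
        exact (cancel_epi π).1 (by rw [h4, comp_zero])
      exact Simple.not_isZero (T : A) ((IsZero.iff_id_eq_zero _).2
        ((cancel_mono T.arrow).1 (by rw [h5, comp_zero, comp_zero])))

theorem main (uStar : B ⥤ A) (adj : u ⊣ uStar)
    (hlen : ∀ X : A, IsArtinianObject X ∧ IsNoetherianObject X)
    (hsimple : ∀ X : A, Simple X → Simple (u.obj X)) (Y : B) :
    Mono (adj.counit.app Y) := by
  apply Preadditive.mono_of_kernel_zero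
  have hK : ∀ (S : A) (g : u.obj S ⟶ kernel (adj.counit.app Y)), g = 0 := by
    intro S g
    obtain ⟨h, hh⟩ := u.map_surjective (g ≫ kernel.ι _)
    have h0 : h = 0 := by
      apply (adj.homEquiv S Y).symm.injective
      rw [Adjunction.homEquiv_counit, Adjunction.homEquiv_counit, hh, Category.assoc,
        kernel.condition, comp_zero, Functor.map_zero, zero_comp]
    rw [← cancel_mono (kernel.ι (adj.counit.app Y)), ← hh, h0, Functor.map_zero, zero_comp]
  have := isZero_of_noMaps u hlen hsimple (uStar.obj Y) _ (uStar.obj Y) (𝟙 _) rfl _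
    (kernel.ι (adj.counit.app Y)) hK
  exact this.eq_of_src _ _

end helpers

/-- Let `u : A ⥤ B` be a fully faithful exact functor of abelian categories admitting a left adjoint and
a right adjoint `uStar`. Suppose every object of `A` has finite length (it is both an artinian and a
noetherian object) and that `u` sends simple objects to simple objects. Then for every object `Y` of
`B` the counit `u (uStar Y) ⟶ Y` of the adjunction `u ⊣ uStar` is a monomorphism. (The published
statement also lists two further conditions equivalent to this one: that for every object `Y` of `B`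
the unit `Y ⟶ u (L Y)` of the adjunction `L ⊣ u` of the left adjoint `L` is an epimorphism, and that
the essential image of `u` is stable under subobjects and quotients; this row states only the counit
condition.) -/
theorem result {A : Type u} [Category.{v} A] [Abelian A] {B : Type u'} [Category.{v'} B] [Abelian B]
    (u : A ⥤ B) [u.Full] [u.Faithful] [PreservesFiniteLimits u] [PreservesFiniteColimits u] [u.IsRightAdjoint]
    (uStar : B ⥤ A) (adj : u ⊣ uStar)
    (hlen : ∀ X : A, IsArtinianObject X ∧ IsNoetherianObject X)
    (hsimple : ∀ X : A, Simple X → Simple (u.obj X)) (Y : B) :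
    Mono (adj.counit.app Y) := by
  exact Groth.Agent.S11523.main u uStar adj hlen hsimple Y

end Groth.Agent.S11523
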