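import Groth.Statements.S1153
import Mathlib

set_option autoImplicit false
open CategoryTheory CategoryTheory.Limits AlgebraicGeometry Opposite
universe u
open Desc

namespace Groth.Agent.S1153

section Helpers
open CategoryTheory CategoryTheory.Limits AlgebraicGeometry TopologicalSpace

set_option backward.isDefEq.respectTransparency false in
lemma main1153 {X Y Y' : Scheme.{u}} (f : X ⟶ Y) [LocallyOfFiniteType f] (Z : Set X)
    (hZ : IsClosed Z) (g : Y' ⟶ Y) [QuasiCompact g] [Flat g] [Surjective g]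
    (h' : IsClosed ((pullback.fst f g).base ⁻¹' Z))
    (hP : IsProper ((Scheme.IdealSheafData.vanishingIdeal ⟨_, h'⟩).subschemeι ≫
      pullback.snd f g)) :
    IsProper ((Scheme.IdealSheafData.vanishingIdeal ⟨Z, hZ⟩).subschemeι ≫ f) := by
  obtain ⟨Zc, hZc⟩ : ∃ Zc : Closeds X, Zc = ⟨Z, hZ⟩ := ⟨_, rfl⟩
  obtain ⟨Z'c, hZ'c⟩ : ∃ Z'c : Closeds ↥(pullback f g), Z'c = ⟨_, h'⟩ := ⟨_, rfl⟩
  rw [← hZc]
  rw [← hZ'c] at hP
  have hZcoe : (Zc : Set X) = Z := by rw [hZc]; rfl
  have hZ'coe : (Z'c : Set ↥(pullback f g)) = (pullback.fst f g).base ⁻¹' Z := by rw [hZ'c]; rfl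
  obtain ⟨I, hI⟩ : ∃ I, I = Scheme.IdealSheafData.vanishingIdeal Zc := ⟨_, rfl⟩
  obtain ⟨I', hI'⟩ : ∃ I', I' = Scheme.IdealSheafData.vanishingIdeal Z'c := ⟨_, rfl⟩
  rw [← hI]
  rw [← hI'] at hP
  have hsupp : (I.support : Set X) = Z := by
    rw [hI, Scheme.IdealSheafData.coe_support_vanishingIdeal, hZcoe]
  have hsupp' : (I'.support : Set ↥(pullback f g)) = (pullback.fst f g).base ⁻¹' Z := by
    rw [hI', Scheme.IdealSheafData.coe_support_vanishingIdeal, hZ'coe]
  have hker : I.subschemeι.ker ≤ (I'.subschemeι ≫ pullback.fst f g).ker := by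
    rw [Scheme.Hom.ker_comp, Scheme.IdealSheafData.ker_subschemeι,
      Scheme.IdealSheafData.ker_subschemeι, hI', hI, Scheme.IdealSheafData.map_vanishingIdeal]
    apply Scheme.IdealSheafData.vanishingIdeal_antimono
    rw [TopologicalSpace.Closeds.closure_le]
    rintro _ ⟨x, hx, rfl⟩
    rw [hZ'coe] at hx
    rw [hZcoe]
    exact hx
  obtain ⟨a, ha⟩ : ∃ a : I'.subscheme ⟶ I.subscheme,
      a ≫ I.subschemeι = I'.subschemeι ≫ pullback.fst f g :=
    ⟨IsClosedImmersion.lift _ _ hker, IsClosedImmersion.lift_fac _ _ _⟩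
  obtain ⟨φ, hφ⟩ : ∃ φ : I.subscheme ⟶ Y, φ = I.subschemeι ≫ f := ⟨_, rfl⟩
  rw [← hφ]
  have t : IsPullback (pullback.snd f g) (pullback.fst f g) g f :=
    (IsPullback.of_hasPullback f g).flip
  have s : IsPullback (pullback.snd φ g) (pullback.fst φ g) g (I.subschemeι ≫ f) := by
    rw [← hφ]; exact (IsPullback.of_hasPullback φ g).flip
  have hj := IsPullback.of_right' s t
  obtain ⟨j, hjdef⟩ : ∃ j : pullback φ g ⟶ pullback f g,
      j = t.lift (pullback.snd φ g) (pullback.fst φ g ≫ I.subschemeι)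
        (by rw [s.w, Category.assoc]) := ⟨_, rfl⟩
  rw [← hjdef] at hj
  have hj1 : j ≫ pullback.snd f g = pullback.snd φ g := by rw [hjdef]; exact t.lift_fst _ _ _
  have hj2 : j ≫ pullback.fst f g = pullback.fst φ g ≫ I.subschemeι := by
    rw [hjdef]; exact t.lift_snd _ _ _
  haveI : IsClosedImmersion j :=
    MorphismProperty.of_isPullback (P := @IsClosedImmersion) hj.flip inferInstance
  have hw : a ≫ φ = (I'.subschemeι ≫ pullback.snd f g) ≫ g := by
    rw [hφ, ← Category.assoc, ha, Category.assoc, Category.assoc, pullback.condition]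
  obtain ⟨ℓ, hℓ1, hℓ2⟩ : ∃ ℓ : I'.subscheme ⟶ pullback φ g,
      ℓ ≫ pullback.fst φ g = a ∧ ℓ ≫ pullback.snd φ g = I'.subschemeι ≫ pullback.snd f g :=
    ⟨pullback.lift a (I'.subschemeι ≫ pullback.snd f g) hw, pullback.lift_fst _ _ _,
      pullback.lift_snd _ _ _⟩
  have hℓj : ℓ ≫ j = I'.subschemeι := by
    apply pullback.hom_ext
    · rw [Category.assoc, hj2, ← Category.assoc, hℓ1, ha]
    · rw [Category.assoc, hj1, hℓ2]
  haveI : IsClosedImmersion (ℓ ≫ j) := by rw [hℓj]; infer_instance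
  haveI : IsClosedImmersion ℓ := IsClosedImmersion.of_comp ℓ j
  haveI : Surjective ℓ := ⟨fun w => by
    have h1 : j w ∈ (Z'c : Set ↥(pullback f g)) := by
      rw [hZ'coe]
      show (pullback.fst f g) (j w) ∈ Z
      rw [← Scheme.Hom.comp_apply, hj2, Scheme.Hom.comp_apply]
      have h0 : I.subschemeι (pullback.fst φ g w) ∈ Set.range I.subschemeι := ⟨_, rfl⟩
      rw [Scheme.IdealSheafData.range_subschemeι, hsupp] at h0
      exact h0
    have h2 : j w ∈ Set.range I'.subschemeι := by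
      rw [Scheme.IdealSheafData.range_subschemeι, hsupp', ← hZ'coe]
      exact h1
    obtain ⟨t0, ht0⟩ := h2
    refine ⟨t0, j.isClosedEmbedding.injective ?_⟩
    rw [← Scheme.Hom.comp_apply, hℓj, ht0]⟩
  haveI hψ : IsProper (ℓ ≫ pullback.snd φ g) := by rw [hℓ2]; exact hP
  haveI huc' : UniversallyClosed (pullback.snd φ g) := UniversallyClosed.of_comp_surjective ℓ _
  have hℓuc : UniversallyClosed ℓ := inferInstance
  have hm := MorphismProperty.pullbackMap (P := @UniversallyClosed)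
    (f := ℓ ≫ pullback.snd φ g) (g := ℓ ≫ pullback.snd φ g) (f' := pullback.snd φ g)
    (g' := pullback.snd φ g) (i₁ := ℓ) (i₂ := ℓ) hℓuc hℓuc rfl rfl
  have hcomm : ℓ ≫ pullback.diagonal (pullback.snd φ g) =
      pullback.diagonal (ℓ ≫ pullback.snd φ g) ≫
        pullback.map (ℓ ≫ pullback.snd φ g) (ℓ ≫ pullback.snd φ g) (pullback.snd φ g)
          (pullback.snd φ g) ℓ ℓ (𝟙 _) ((Category.comp_id _).trans rfl)
          ((Category.comp_id _).trans rfl) := by
    apply pullback.hom_ext <;> simp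
  haveI : UniversallyClosed (ℓ ≫ pullback.diagonal (pullback.snd φ g)) := by
    rw [hcomm]
    haveI : UniversallyClosed (pullback.map (ℓ ≫ pullback.snd φ g) (ℓ ≫ pullback.snd φ g)
      (pullback.snd φ g) (pullback.snd φ g) ℓ ℓ (𝟙 _) ((Category.comp_id _).trans rfl)
      ((Category.comp_id _).trans rfl)) := hm
    infer_instance
  have hd' : UniversallyClosed (pullback.diagonal (pullback.snd φ g)) :=
    UniversallyClosed.of_comp_surjective ℓ _
  -- descent
  have hpb : IsPullback (pullback.snd φ g) (pullback.fst φ g) g φ :=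
    (IsPullback.of_hasPullback φ g).flip
  have hQ : (@Surjective ⊓ @Flat ⊓ @QuasiCompact : MorphismProperty Scheme.{u}) g :=
    ⟨⟨inferInstance, inferInstance⟩, inferInstance⟩
  haveI h1 : UniversallyClosed φ :=
    MorphismProperty.DescendsAlong.of_isPullback (P := @UniversallyClosed) hpb hQ huc'
  haveI h2 : LocallyOfFiniteType φ := by rw [hφ]; infer_instance
  have hd : UniversallyClosed (pullback.diagonal φ) :=
    MorphismProperty.DescendsAlong.of_isPullback
      (P := MorphismProperty.diagonal @UniversallyClosed) hpb hQ hd'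
  haveI h4 : IsSeparated φ :=
    ⟨IsClosedImmersion.of_isPreimmersion _ (pullback.diagonal φ).isClosedMap.isClosed_range⟩
  exact { }

end Helpers

/-- Let f : X ⟶ Y be locally of finite type, Z a closed subset of X and g : Y' ⟶ Y quasi-compact, flat
and surjective. If the preimage of Z in X ×_Y Y' is proper over Y', then Z is proper over Y. -/
theorem result {X Y Y' : Scheme.{u}} (f : X ⟶ Y) [LocallyOfFiniteType f] (Z : Set X) (hZ : IsClosed Z)
    (g : Y' ⟶ Y) [QuasiCompact g] [Flat g] [Surjective g]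
    (h : ClSub.IsProperOver (pullback.snd f g) ((pullback.fst f g).base ⁻¹' Z)) :
    ClSub.IsProperOver f Z := by
  obtain ⟨h', hP⟩ := h
  exact ⟨hZ, main1153 f Z hZ g h' hP⟩

end Groth.Agent.S1153
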