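import Groth.Statements.S11538
import Mathlib

set_option autoImplicit false
universe u v
open scoped TensorProduct
open AdicRing

namespace Groth.Agent.S11538

section
variable {A : Type u} [CommRing A]

/-- Lemma B: `− ⊗[A] M` is exact on `A/I`-modules when `(A/I) ⊗ M` is flat over `A/I`. -/
theorem rTensor_injective_of_quotient_flat (I : Ideal A) (M : Type v) [AddCommGroup M] [Module A M]
    [Module.Flat (A ⧸ I) ((A ⧸ I) ⊗[A] M)]
    {P Q : Type*} [AddCommGroup P] [Module A P] [Module (A ⧸ I) P] [IsScalarTower A (A ⧸ I) P]
    [AddCommGroup Q] [Module A Q] [Module (A ⧸ I) Q] [IsScalarTower A (A ⧸ I) Q]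
    (g : P →ₗ[A ⧸ I] Q) (hg : Function.Injective g) :
    Function.Injective ((g.restrictScalars A).rTensor M) := by
  have h := Module.Flat.rTensor_preserves_injective_linearMap (M := (A ⧸ I) ⊗[A] M) g hg
  let eP := TensorProduct.AlgebraTensorModule.cancelBaseChange A (A ⧸ I) (A ⧸ I) P M
  let eQ := TensorProduct.AlgebraTensorModule.cancelBaseChange A (A ⧸ I) (A ⧸ I) Q M
  have hnat : ∀ x, eQ (g.rTensor ((A ⧸ I) ⊗[A] M) x) = (g.restrictScalars A).rTensor M (eP x) := by
    intro x
    induction x using TensorProduct.induction_on with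
    | zero => simp
    | tmul p y =>
      induction y using TensorProduct.induction_on with
      | zero => simp
      | tmul a m => simp [eP, eQ]
      | add y z hy hz => simp only [TensorProduct.tmul_add, map_add, hy, hz]
    | add x y hx hy => simp only [map_add, hx, hy]
  intro x y hxy
  have hx := hnat (eP.symm x)
  have hy := hnat (eP.symm y)
  rw [LinearEquiv.apply_symm_apply] at hx hy
  rw [← hx, ← hy] at hxy
  have := h (eQ.injective hxy)
  exact eP.symm.injective this

/-- Lemma A: for `π` regular on `N`, `K = ker p`, the map `K/πK → F/πF` is injective. -/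
theorem mapQ_ker_injective (π : A) {F N : Type*} [AddCommGroup F] [Module A F] [AddCommGroup N]
    [Module A N] (p : F →ₗ[A] N) (hN : IsSMulRegular N π) :
    Function.Injective (Submodule.mapQ
      (Ideal.span {π} • (⊤ : Submodule A (LinearMap.ker p)))
      (Ideal.span {π} • (⊤ : Submodule A F)) (LinearMap.ker p).subtype
      (fun _ hn => Submodule.smul_top_le_comap_smul_top _ _ hn)) := by
  rw [injective_iff_map_eq_zero]
  intro x hx
  induction x using Submodule.Quotient.induction_on with
  | H k =>
    rw [Submodule.mapQ_apply, Submodule.Quotient.mk_eq_zero,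
      Submodule.ideal_span_singleton_smul, Submodule.mem_smul_pointwise_iff_exists] at hx
    obtain ⟨f, -, hf⟩ := hx
    have hfk : f ∈ LinearMap.ker p := by
      rw [LinearMap.mem_ker]
      apply hN
      have := k.2
      rw [LinearMap.mem_ker] at this
      show π • p f = π • 0
      rw [smul_zero, ← map_smul, hf]
      exact this
    rw [Submodule.Quotient.mk_eq_zero, Submodule.ideal_span_singleton_smul,
      Submodule.mem_smul_pointwise_iff_exists]
    exact ⟨⟨f, hfk⟩, trivial, Subtype.ext hf⟩

/-- Lemma C: `π` is regular on `(N →₀ A) ⊗ M` if it is on `M`. -/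
theorem isSMulRegular_finsupp_tensor (π : A) (M : Type v) [AddCommGroup M] [Module A M]
    (hM : IsSMulRegular M π) (ι : Type*) : IsSMulRegular ((ι →₀ A) ⊗[A] M) π := by
  classical
  intro x y hxy
  apply (TensorProduct.finsuppScalarLeft A M ι).injective
  have h2 := congrArg (TensorProduct.finsuppScalarLeft A M ι) hxy
  simp only [map_smul] at h2
  ext i
  have h3 := DFunLike.congr_fun h2 i
  simp only [Finsupp.smul_apply] at h3
  exact hM h3

/-- Lemma B': same for an `A`-linear map. -/
theorem rTensor_injective_of_quotient_flat' (I : Ideal A) (M : Type v) [AddCommGroup M] [Module A M]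
    [Module.Flat (A ⧸ I) ((A ⧸ I) ⊗[A] M)]
    {P Q : Type*} [AddCommGroup P] [Module A P] [Module (A ⧸ I) P] [IsScalarTower A (A ⧸ I) P]
    [AddCommGroup Q] [Module A Q] [Module (A ⧸ I) Q] [IsScalarTower A (A ⧸ I) Q]
    (g : P →ₗ[A] Q) (hg : Function.Injective g) :
    Function.Injective (g.rTensor M) :=
  rTensor_injective_of_quotient_flat I M
    (g.extendScalarsOfSurjective Ideal.Quotient.mk_surjective) hg

theorem smul_eq_zero_quot_tensor (π : A) (M : Type v) [AddCommGroup M] [Module A M]
    (F : Type*) [AddCommGroup F] [Module A F]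
    (t : (F ⧸ (Ideal.span {π} • (⊤ : Submodule A F))) ⊗[A] M) : π • t = 0 := by
  induction t using TensorProduct.induction_on with
  | zero => simp
  | tmul f m =>
    induction f using Submodule.Quotient.induction_on with
    | H f =>
      rw [TensorProduct.smul_tmul', ← Submodule.Quotient.mk_smul]
      have : (Submodule.Quotient.mk (π • f) : F ⧸ (Ideal.span {π} • (⊤ : Submodule A F))) = 0 := by
        rw [Submodule.Quotient.mk_eq_zero]
        exact Submodule.smul_mem_smul (Ideal.mem_span_singleton_self π) trivial
      rw [this, TensorProduct.zero_tmul]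
  | add x y hx hy => rw [smul_add, hx, hy, add_zero]

/-- Lemma D (generic form). -/
theorem isSMulRegular_tensor_aux (π : A) (M : Type v) [AddCommGroup M] [Module A M]
    [Module.Flat (A ⧸ Ideal.span {π}) ((A ⧸ Ideal.span {π}) ⊗[A] M)]
    {K F N : Type*} [AddCommGroup K] [Module A K] [AddCommGroup F] [Module A F]
    [AddCommGroup N] [Module A N] (i : K →ₗ[A] F) (p : F →ₗ[A] N)
    (hex : Function.Exact i p) (hp : Function.Surjective p)
    (hle : (Ideal.span {π} • (⊤ : Submodule A K)) ≤
      (Ideal.span {π} • (⊤ : Submodule A F)).comap i)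
    (hibar : Function.Injective (Submodule.mapQ (Ideal.span {π} • (⊤ : Submodule A K))
      (Ideal.span {π} • (⊤ : Submodule A F)) i hle))
    (hFM : IsSMulRegular (F ⊗[A] M) π) :
    IsSMulRegular (N ⊗[A] M) π := by
  have hexK : Function.Exact (LinearMap.lsmul A K π)
      (Submodule.mkQ (Ideal.span {π} • (⊤ : Submodule A K))) := by
    intro k
    constructor
    · intro hk
      rw [Submodule.mkQ_apply, Submodule.Quotient.mk_eq_zero,
        Submodule.ideal_span_singleton_smul, Submodule.mem_smul_pointwise_iff_exists] at hk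
      obtain ⟨k', -, rfl⟩ := hk
      exact ⟨k', rfl⟩
    · rintro ⟨k', rfl⟩
      rw [Submodule.mkQ_apply, Submodule.Quotient.mk_eq_zero]
      exact Submodule.smul_mem_smul (Ideal.mem_span_singleton_self π) trivial
  suffices h : ∀ w : N ⊗[A] M, π • w = 0 → w = 0 by
    intro z z' hzz'
    have h0 : π • z = π • z' := hzz'
    have := h (z - z') (by rw [smul_sub]; exact sub_eq_zero.mpr h0)
    exact sub_eq_zero.mp this
  intro z hz
  obtain ⟨y, rfl⟩ := LinearMap.rTensor_surjective M hp z
  have h1 : p.rTensor M (π • y) = 0 := by rw [map_smul]; exact hz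
  obtain ⟨k, hk⟩ := (rTensor_exact M hex hp (π • y)).mp h1
  have hsq : (Submodule.mapQ (Ideal.span {π} • (⊤ : Submodule A K))
      (Ideal.span {π} • (⊤ : Submodule A F)) i hle) ∘ₗ
        (Submodule.mkQ (Ideal.span {π} • (⊤ : Submodule A K))) =
      (Submodule.mkQ (Ideal.span {π} • (⊤ : Submodule A F))) ∘ₗ i :=
    LinearMap.ext fun _ => rfl
  have h2 : (Submodule.mapQ (Ideal.span {π} • (⊤ : Submodule A K))
      (Ideal.span {π} • (⊤ : Submodule A F)) i hle).rTensor M
        ((Submodule.mkQ (Ideal.span {π} • (⊤ : Submodule A K))).rTensor M k) = 0 := by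
    rw [← LinearMap.comp_apply, ← LinearMap.rTensor_comp, hsq, LinearMap.rTensor_comp,
      LinearMap.comp_apply, hk, map_smul]
    exact smul_eq_zero_quot_tensor π M _ _
  have h3 : (Submodule.mkQ (Ideal.span {π} • (⊤ : Submodule A K))).rTensor M k = 0 :=
    (rTensor_injective_of_quotient_flat' (Ideal.span {π}) M _ hibar) (by rw [h2, map_zero])
  obtain ⟨k', hk'⟩ := (rTensor_exact M hexK (Submodule.mkQ_surjective _) k).mp h3
  have h4 : ∀ t : K ⊗[A] M, (LinearMap.lsmul A K π).rTensor M t = π • t := by
    intro t
    induction t using TensorProduct.induction_on with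
    | zero => simp
    | tmul a m => simp [TensorProduct.smul_tmul']
    | add x y hx hy => rw [map_add, hx, hy, smul_add]
  have h5 : π • y = π • i.rTensor M k' := by
    rw [← hk, ← hk', h4, map_smul]
  have h6 : y = i.rTensor M k' := hFM h5
  rw [h6, ← LinearMap.comp_apply, ← LinearMap.rTensor_comp, hex.linearMap_comp_eq_zero,
    LinearMap.rTensor_zero, LinearMap.zero_apply]

theorem isSMulRegular_tensor_of_surjective (π : A) (M : Type v) [AddCommGroup M] [Module A M]
    [Module.Flat (A ⧸ Ideal.span {π}) ((A ⧸ Ideal.span {π}) ⊗[A] M)]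
    {F N : Type*} [AddCommGroup F] [Module A F] [AddCommGroup N] [Module A N]
    (p : F →ₗ[A] N) (hp : Function.Surjective p) (hN : IsSMulRegular N π)
    (hFM : IsSMulRegular (F ⊗[A] M) π) : IsSMulRegular (N ⊗[A] M) π :=
  isSMulRegular_tensor_aux π M (LinearMap.ker p).subtype p (LinearMap.exact_subtype_ker_map p) hp
    (fun _ hn => Submodule.smul_top_le_comap_smul_top _ _ hn)
    (mapQ_ker_injective π p hN) hFM

/-- Lemma D: if `π` is regular on `M` and `N` and `(A/π) ⊗ M` is flat over `A/π`, then `π` is
regular on `N ⊗ M`. -/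
theorem isSMulRegular_tensor (π : A) (M : Type v) [AddCommGroup M] [Module A M]
    (hM : IsSMulRegular M π)
    [Module.Flat (A ⧸ Ideal.span {π}) ((A ⧸ Ideal.span {π}) ⊗[A] M)]
    (N : Type*) [AddCommGroup N] [Module A N] (hN : IsSMulRegular N π) :
    IsSMulRegular (N ⊗[A] M) π :=
  isSMulRegular_tensor_of_surjective π M (Finsupp.linearCombination A (id : N → N))
    (Finsupp.linearCombination_id_surjective A N) hN (isSMulRegular_finsupp_tensor π M hM N)

end

/-- Let A be a commutative ring, π an element of A which is not a zero divisor and M an A-module. Then M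
is flat over A if and only if the π-power torsion of M vanishes, (A/πA) ⊗_A M is flat over A/πA, and
A[π⁻¹] ⊗_A M is flat over A[π⁻¹]. -/
theorem result
    (A : Type u) [CommRing A] (π : A) (hπ : π ∈ nonZeroDivisors A)
    (M : Type v) [AddCommGroup M] [Module A M] :
    Module.Flat A M ↔
      (∀ (x : M) (n : ℕ), π ^ n • x = 0 → x = 0) ∧
        Module.Flat (A ⧸ Ideal.span {π}) ((A ⧸ Ideal.span {π}) ⊗[A] M) ∧
        Module.Flat (Localization.Away π) ((Localization.Away π) ⊗[A] M) := by
  constructor
  · intro hflat
    refine ⟨?_, inferInstance, inferInstance⟩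
    intro x n hx
    have hreg : IsSMulRegular M (π ^ n) :=
      Module.Flat.isSMulRegular_of_nonZeroDivisors (pow_mem hπ n)
    exact hreg (by show π ^ n • x = π ^ n • 0; rw [hx, smul_zero])
  · rintro ⟨htors, hquot, hloc⟩
    have hM : IsSMulRegular M π := by
      intro x y hxy
      have h0 : π • x = π • y := hxy
      have := htors (x - y) 1 (by rw [pow_one, smul_sub]; exact sub_eq_zero.mpr h0)
      exact sub_eq_zero.mp this
    have hflatS : Module.Flat A (Localization.Away π ⊗[A] M) :=
      Module.Flat.trans A (Localization.Away π) _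
    rw [Module.Flat.iff_rTensor_injective']
    intro I
    rw [injective_iff_map_eq_zero]
    intro x hx
    have hI : IsSMulRegular I π := by
      intro a b hab
      apply Subtype.ext
      have h1 : π * (a : A) = π * b := congrArg Subtype.val hab
      exact (mul_cancel_left_mem_nonZeroDivisors hπ).mp h1
    have hreg := isSMulRegular_tensor π M hM I hI
    let f : M →ₗ[A] Localization.Away π ⊗[A] M := TensorProduct.mk A (Localization.Away π) M 1
    have hnat : (I.subtype.rTensor (Localization.Away π ⊗[A] M)) (f.lTensor I x) =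
        f.lTensor A (I.subtype.rTensor M x) := by
      rw [← LinearMap.comp_apply, ← LinearMap.comp_apply, LinearMap.rTensor_comp_lTensor,
        LinearMap.lTensor_comp_rTensor]
    have h1 : f.lTensor I x = 0 := by
      apply Module.Flat.rTensor_preserves_injective_linearMap
        (M := Localization.Away π ⊗[A] M) I.subtype Subtype.val_injective
      rw [hnat, hx, map_zero, map_zero]
    have h2 : (TensorProduct.AlgebraTensorModule.rTensor A I f) (TensorProduct.comm A I M x) = 0 := by
      have hc : ∀ t : I ⊗[A] M, (TensorProduct.AlgebraTensorModule.rTensor A I f)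
          (TensorProduct.comm A I M t) = TensorProduct.comm A I _ (f.lTensor I t) := by
        intro t
        induction t using TensorProduct.induction_on with
        | zero => simp
        | tmul a m => simp
        | add t t' ht ht' => simp only [map_add, ht, ht']
      rw [hc, h1, map_zero]
    obtain ⟨s, hs⟩ := (IsLocalizedModule.eq_zero_iff (Submonoid.powers π)
      (TensorProduct.AlgebraTensorModule.rTensor A I f)).mp h2
    obtain ⟨n, hn⟩ := s.2
    have h3 : π ^ n • x = 0 := by
      apply (TensorProduct.comm A I M).injective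
      have hn' : π ^ n = (s : A) := hn
      rw [map_smul, map_zero, hn']
      exact hs
    exact (hreg.pow n) (by show π ^ n • x = π ^ n • 0; rw [h3, smul_zero])

end Groth.Agent.S11538
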