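import Groth.Statements.S11545
import Groth.Agent.H28.AdicLift

set_option autoImplicit false
universe u
open AdicRing

namespace Groth.Agent.S11545

section aux

variable {R A B : Type u} [CommRing R] [CommRing A] [Algebra R A] [CommRing B] [Algebra R B]
  {ι : Type} (f : ι → A) (i : ι) (φ : A →ₐ[R] B)

/-- the map out of the (uncompleted) chart algebra. -/
theorem exists_chart_map (b : {j : ι // j ≠ i} → B) (hb : ∀ j, b j * φ (f i) = φ (f j.1)) :
    ∃ ψ1 : chartAlg f i →ₐ[R] B, ∀ a, ψ1 (algebraMap A (chartAlg f i) a) = φ a := by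
  let ψ0 : MvPolynomial {j : ι // j ≠ i} A →ₐ[R] B :=
    { MvPolynomial.eval₂Hom (φ : A →+* B) b with
      commutes' := fun x => by
        simp [MvPolynomial.algebraMap_apply] }
  have h0 : ∀ a ∈ Ideal.span (Set.range fun j : {j : ι // j ≠ i} =>
      MvPolynomial.C (f i) * MvPolynomial.X j - MvPolynomial.C (f j.1)), ψ0 a = 0 := by
    intro a ha
    have hle : Ideal.span (Set.range fun j : {j : ι // j ≠ i} =>
        MvPolynomial.C (f i) * MvPolynomial.X j - MvPolynomial.C (f j.1)) ≤
        RingHom.ker (ψ0 : MvPolynomial {j : ι // j ≠ i} A →+* B) := by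
      rw [Ideal.span_le]
      rintro _ ⟨j, rfl⟩
      show ψ0 _ = 0
      show MvPolynomial.eval₂Hom (φ : A →+* B) b _ = 0
      simp only [map_sub, map_mul, MvPolynomial.eval₂Hom_C, MvPolynomial.eval₂Hom_X',
        RingHom.coe_coe]
      rw [← hb j]; ring
    exact hle ha
  refine ⟨Ideal.Quotient.liftₐ _ ψ0 h0, fun a => ?_⟩
  show ψ0 (MvPolynomial.C a) = φ a
  show MvPolynomial.eval₂Hom (φ : A →+* B) b (MvPolynomial.C a) = φ a
  simp

/-- ring maps out of the chart algebra are determined by their restriction to `A`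
when `f i` goes to a non-zero-divisor. -/
theorem chart_hom_ext {χ1 χ2 : chartAlg f i →+* B}
    (hA : ∀ a, χ1 (algebraMap A (chartAlg f i) a) = χ2 (algebraMap A (chartAlg f i) a))
    (hnzd : χ1 (algebraMap A (chartAlg f i) (f i)) ∈ nonZeroDivisors B) : χ1 = χ2 := by
  apply Ideal.Quotient.ringHom_ext
  apply MvPolynomial.ringHom_ext
  · intro a
    exact hA a
  · intro j
    simp only [RingHom.comp_apply]
    have hrel : (Ideal.Quotient.mk (Ideal.span (Set.range fun j : {j : ι // j ≠ i} =>
        MvPolynomial.C (f i) * MvPolynomial.X j - MvPolynomial.C (f j.1)))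
        (MvPolynomial.C (f i) * MvPolynomial.X j) : chartAlg f i) =
        Ideal.Quotient.mk _ (MvPolynomial.C (f j.1)) := by
      rw [Ideal.Quotient.eq]
      exact Ideal.subset_span ⟨j, rfl⟩
    have e1 := congrArg χ1 hrel
    have e2 := congrArg χ2 hrel
    rw [map_mul, map_mul] at e1 e2
    have hfi : χ1 (Ideal.Quotient.mk _ (MvPolynomial.C (f i))) =
        χ2 (Ideal.Quotient.mk _ (MvPolynomial.C (f i))) := hA (f i)
    have hfj : χ1 (Ideal.Quotient.mk _ (MvPolynomial.C (f j.1))) =
        χ2 (Ideal.Quotient.mk _ (MvPolynomial.C (f j.1))) := hA (f j.1)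
    have hn : χ1 (Ideal.Quotient.mk _ (MvPolynomial.C (f i))) ∈ nonZeroDivisors B := hnzd
    apply mul_cancel_left_mem_nonZeroDivisors hn |>.mp
    rw [e1, hfi, hfj, ← e2, ← hfi]

end aux

/-- Let R be a base ring of class (N) or (V) for the ideal I, A an admissible R-algebra, f_0, ..., f_r
elements generating an open ideal 𝔞 of A, and A_i = C_i/(f_i-power torsion) the i-th chart algebra
of the formal blowing-up of 𝔞. Let B be an R-algebra complete and separated for the I-adic topology
and φ : A → B an R-algebra homomorphism such that the ideal 𝔞B is generated by φ(f_i), a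
non-zero-divisor of B. Then there is exactly one R-algebra homomorphism A_i → B whose composite with
A → A_i is φ. -/
theorem result
    (R : Type u) [CommRing R] (I : Ideal R) (hR : AdicRing.IsBase R I)
    (A : Type u) [CommRing A] [Algebra R A] (hA : AdicRing.Admissible R I A)
    (r : ℕ) (f : Fin (r + 1) → A) (k : ℕ)
    (hopen : (I ^ k).map (algebraMap R A) ≤ Ideal.span (Set.range f)) (i : Fin (r + 1))
    (B : Type u) [CommRing B] [Algebra R B] [IsAdicComplete (I.map (algebraMap R B)) B]
    (φ : A →ₐ[R] B) (hnzd : φ (f i) ∈ nonZeroDivisors B)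
    (hgen : (Ideal.span (Set.range f)).map φ = Ideal.span {φ (f i)}) :
    ∃! ψ : AdicRing.chartAdm I f i →ₐ[R] B,
      ψ.comp (IsScalarTower.toAlgHom R A (AdicRing.chartAdm I f i)) = φ := by
  classical
  have hIfg : I.FG := by
    rcases hR with ⟨_, h | h⟩
    · haveI := h.1
      exact IsNoetherian.noetherian I
    · obtain ⟨_, _, _, t, _, rfl⟩ := h
      exact ⟨{t}, by simp⟩
  have hb : ∀ j : {j : Fin (r + 1) // j ≠ i}, ∃ c : B, c * φ (f i) = φ (f j.1) := by
    intro j
    have h1 : φ (f j.1) ∈ (Ideal.span (Set.range f)).map φ :=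
      Ideal.mem_map_of_mem φ (Ideal.subset_span ⟨j.1, rfl⟩)
    rw [hgen] at h1
    exact Ideal.mem_span_singleton'.mp h1
  choose b hb using hb
  obtain ⟨ψ1, hψ1⟩ := exists_chart_map f i φ b hb
  -- the extension to the completion
  have hψ2of : ∀ s : chartAlg f i,
      Groth.Agent.H28.AdicLift.lift I ψ1 (AdicCompletion.of _ _ s) = ψ1 s :=
    Groth.Agent.H28.AdicLift.lift_of I ψ1
  have hψ2A : ∀ a : A, Groth.Agent.H28.AdicLift.lift I ψ1
      (algebraMap A (chartCompl I f i) a) = φ a := by
    intro a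
    rw [AdicCompletion.algebraMap_apply, hψ2of, hψ1]
  have hψ2R : ∀ x : R, Groth.Agent.H28.AdicLift.lift I ψ1
      (algebraMap R (chartCompl I f i) x) = algebraMap R B x := by
    intro x
    rw [AdicCompletion.algebraMap_apply, hψ2of, ψ1.commutes]
  -- torsion is killed
  have htors : ∀ x ∈ (⨆ n : ℕ, Submodule.torsionBy (chartCompl I f i) (chartCompl I f i)
      (algebraMap A (chartCompl I f i) (f i) ^ n) : Ideal (chartCompl I f i)),
      Groth.Agent.H28.AdicLift.lift I ψ1 x = 0 := by
    intro x hx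
    have hle : (⨆ n : ℕ, Submodule.torsionBy (chartCompl I f i) (chartCompl I f i)
        (algebraMap A (chartCompl I f i) (f i) ^ n) : Ideal (chartCompl I f i)) ≤
        RingHom.ker (Groth.Agent.H28.AdicLift.lift I ψ1) := by
      refine iSup_le fun n y hy => ?_
      rw [Submodule.mem_torsionBy_iff, smul_eq_mul] at hy
      have h2 := congrArg (Groth.Agent.H28.AdicLift.lift I ψ1) hy
      rw [map_mul, map_pow, hψ2A, map_zero] at h2
      rw [RingHom.mem_ker]
      exact (mul_left_mem_nonZeroDivisors_eq_zero_iff (pow_mem hnzd n)).mp h2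
    exact hle hx
  let ψ3 : chartAdm I f i →ₐ[R] B :=
    { Ideal.Quotient.lift _ (Groth.Agent.H28.AdicLift.lift I ψ1) htors with
      commutes' := fun x => by
        show Ideal.Quotient.lift _ (Groth.Agent.H28.AdicLift.lift I ψ1) htors
          (Ideal.Quotient.mk _ (algebraMap R (chartCompl I f i) x)) = _
        rw [Ideal.Quotient.lift_mk, hψ2R] }
  have hψ3mk : ∀ y : chartCompl I f i, ψ3 (Ideal.Quotient.mk _ y) =
      Groth.Agent.H28.AdicLift.lift I ψ1 y := fun y => Ideal.Quotient.lift_mk _ _ _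
  refine ⟨ψ3, ?_, ?_⟩
  · ext a
    show ψ3 (Ideal.Quotient.mk _ (algebraMap A (chartCompl I f i) a)) = φ a
    rw [hψ3mk, hψ2A]
  · intro ψ' hψ'
    have hψ'A : ∀ a : A, ψ' (Ideal.Quotient.mk _ (algebraMap A (chartCompl I f i) a)) = φ a :=
      fun a => AlgHom.congr_fun hψ' a
    let χ : chartCompl I f i →+* B := (ψ' : chartAdm I f i →+* B).comp (Ideal.Quotient.mk _)
    have hχof : ∀ s : chartAlg f i, χ (AdicCompletion.of _ _ s) = ψ1 s := by
      have : χ.comp (algebraMap (chartAlg f i) (chartCompl I f i)) = (ψ1 : chartAlg f i →+* B) := by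
        apply chart_hom_ext f i
        · intro a
          show ψ' (Ideal.Quotient.mk _ (algebraMap A (chartCompl I f i) a)) = ψ1 _
          rw [hψ'A, hψ1]
        · show ψ' (Ideal.Quotient.mk _ (algebraMap A (chartCompl I f i) (f i))) ∈ _
          rw [hψ'A]
          exact hnzd
      intro s
      exact RingHom.congr_fun this s
    have hχ := Groth.Agent.H28.AdicLift.eq_lift I ψ1 hIfg χ hχof
    ext x
    obtain ⟨y, rfl⟩ := Ideal.Quotient.mk_surjective x
    rw [hψ3mk, ← hχ]
    rfl

end Groth.Agent.S11545
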