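import Groth.Statements.S11546
import Mathlib

set_option autoImplicit false
universe u
open AdicRing

namespace Groth.Agent.S11546

/-- Let R be a base ring of class (N) or (V) for the ideal I. Then the restricted power series ring
R⟨ζ_1, ..., ζ_n⟩ is flat over R. -/
theorem result
    (R : Type u) [CommRing R] (I : Ideal R) (hR : AdicRing.IsBase R I) (n : ℕ) :
    Module.Flat R (AdicRing.RPow R I n) := by
  obtain ⟨hc, h | ⟨hd, hv, -, t, ht, rfl⟩⟩ := hR
  · obtain ⟨hN, -⟩ := h
    have : IsNoetherianRing (MvPolynomial (Fin n) R) := inferInstance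
    have : Module.Flat (MvPolynomial (Fin n) R) (RPow R I n) :=
      AdicCompletion.flat_of_isNoetherian _
    exact Module.Flat.trans R (MvPolynomial (Fin n) R) (RPow R I n)
  · have := hd
    have : ValuationRing R := ValuationRing.mk
    rw [Module.Flat.flat_iff_torsion_eq_bot_of_isBezout, Submodule.eq_bot_iff]
    intro x hx
    rw [Submodule.mem_torsion_iff] at hx
    obtain ⟨⟨r, hr⟩, hrx⟩ := hx
    have hr0 : r ≠ 0 := nonZeroDivisors.ne_zero hr
    have hdvd : ∃ m : ℕ, r ∣ t ^ m := by
      by_contra hcon
      push Not at hcon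
      have hall : ∀ m, t ^ m ∣ r := fun m =>
        (ValuationRing.dvd_total r (t ^ m)).resolve_left (hcon m)
      apply hr0
      have hH : IsHausdorff (Ideal.span {t}) R := hc.toIsHausdorff
      apply hH.haus
      intro m
      rw [SModEq.zero, smul_eq_mul, Ideal.mul_top, Ideal.span_singleton_pow,
        Ideal.mem_span_singleton]
      exact hall m
    obtain ⟨m, c, hcm⟩ := hdvd
    have htm : t ^ m • x = 0 := by
      have : (⟨r, hr⟩ : nonZeroDivisors R) • x = r • x := rfl
      rw [this] at hrx
      rw [hcm, mul_comm, mul_smul, hrx, smul_zero]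
    apply AdicCompletion.ext
    intro k
    rw [AdicCompletion.val_zero_apply]
    obtain ⟨a, ha⟩ := Submodule.Quotient.mk_surjective _ (x.val (k + m))
    have h1 : (t ^ m • x).val (k + m) = 0 := by rw [htm]; rfl
    rw [AdicCompletion.val_smul_apply, ← ha, ← Submodule.Quotient.mk_smul,
      Submodule.Quotient.mk_eq_zero] at h1
    have hJ : ∀ j, ((Ideal.map (MvPolynomial.C : R →+* MvPolynomial (Fin n) R)
        (Ideal.span {t})) ^ j • ⊤ : Submodule (MvPolynomial (Fin n) R) (MvPolynomial (Fin n) R)) =
        Ideal.span {(MvPolynomial.C t : MvPolynomial (Fin n) R) ^ j} := by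
      intro j
      rw [smul_eq_mul, Ideal.mul_top, Ideal.map_span, Set.image_singleton,
        Ideal.span_singleton_pow]
    rw [hJ, Ideal.mem_span_singleton'] at h1
    obtain ⟨b, hb⟩ := h1
    have ha' : a = (MvPolynomial.C t : MvPolynomial (Fin n) R) ^ k * b := by
      have hCt : (MvPolynomial.C t : MvPolynomial (Fin n) R) ^ m ≠ 0 :=
        pow_ne_zero _ (by simpa using ht)
      apply mul_left_cancel₀ hCt
      rw [MvPolynomial.smul_eq_C_mul, map_pow] at hb
      rw [← hb]; ring
    have hx : x.val k = AdicCompletion.transitionMap _ _ (Nat.le_add_right k m) (x.val (k + m)) :=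
      (AdicCompletion.transitionMap_comp_eval_apply _ _ _ x).symm
    rw [hx, ← ha]
    change Submodule.factor _ (Submodule.mkQ _ a) = 0
    rw [Submodule.factor_mk]
    change Submodule.Quotient.mk a = 0
    rw [Submodule.Quotient.mk_eq_zero, hJ, Ideal.mem_span_singleton']
    exact ⟨b, by rw [ha']; ring⟩

end Groth.Agent.S11546
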