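import Groth.Statements.S13834
import Mathlib
import Groth.Agent.S2284

set_option autoImplicit false
universe u
open AlgebraicGeometry
open EtaPt

namespace Groth.Agent.S13834

section Helpers
open AlgebraicGeometry CategoryTheory TopologicalSpace Limits Topology

theorem finite_components_iff_finite_max {W : Type*} [TopologicalSpace W] [QuasiSober W]
    [T0Space W] :
    (irreducibleComponents W).Finite ↔
      {ξ : W | closure ({ξ} : Set W) ∈ irreducibleComponents W}.Finite := by
  constructor
  · intro h
    refine Set.Finite.of_finite_image (f := fun ξ : W => closure ({ξ} : Set W)) (h.subset ?_) ?_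
    · rintro _ ⟨ξ, hξ, rfl⟩
      exact hξ
    · intro a _ b _ hab
      have hab' : closure ({a} : Set W) = closure ({b} : Set W) := hab
      exact ((specializes_iff_closure_subset.mpr hab'.ge).antisymm
        (specializes_iff_closure_subset.mpr hab'.le)).eq
  · intro h
    refine (h.image (fun ξ : W => closure ({ξ} : Set W))).subset ?_
    intro Z hZ
    obtain ⟨ξ, hξ⟩ := QuasiSober.sober hZ.1 (isClosed_of_mem_irreducibleComponents _ hZ)
    refine ⟨ξ, ?_, hξ.def⟩
    rw [Set.mem_setOf_eq, hξ.def]
    exact hZ

theorem finite_components_of_flat_lfp {W X : Scheme.{u}} [CompactSpace W] (h : W ⟶ X) [Flat h]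
    [LocallyOfFinitePresentation h]
    (U : X.Opens) (hU : (U : Set X) = Set.range h)
    (hfin : (irreducibleComponents (U : Type u)).Finite) :
    (irreducibleComponents (W : Type u)).Finite := by
  have : QuasiSober ↥U := (U.isOpen.isOpenEmbedding_subtypeVal).quasiSober
  rw [finite_components_iff_finite_max] at hfin ⊢
  have hgen := Flat.generalizingMap h
  have hmemU : ∀ ξ : W, h ξ ∈ U := by
    intro ξ
    change h ξ ∈ (U : Set X)
    rw [hU]
    exact ⟨ξ, rfl⟩
  have hmax : ∀ ξ : W, closure ({ξ} : Set W) ∈ irreducibleComponents W →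
      closure ({(⟨h ξ, hmemU ξ⟩ : ↥U)} : Set ↥U) ∈ irreducibleComponents ↥U := by
    intro ξ hξ
    rw [Groth.Agent.S2284.mem_irreducibleComponents_closure_iff] at hξ ⊢
    intro u hu
    have h1 : (u : X) ⤳ h ξ := (subtype_specializes_iff _ _).mp hu
    obtain ⟨ξ', hξ'ξ, hξ'⟩ := hgen h1
    have h2 : ξ ⤳ ξ' := hξ ξ' hξ'ξ
    have h3 : h ξ ⤳ h ξ' := h2.map h.continuous
    rw [hξ'] at h3
    exact (subtype_specializes_iff _ _).mpr h3
  have hfib : ∀ η : X,
      {ξ : W | closure ({ξ} : Set W) ∈ irreducibleComponents W ∧ h ξ = η}.Finite := by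
    intro η
    haveI : QuasiCompact (h.fiberι η) :=
      (inferInstance : QuasiCompact (pullback.fst h (X.fromSpecResidueField η)))
    haveI : CompactSpace ↥(h.fiber η) := QuasiCompact.compactSpace_of_compactSpace (h.fiberι η)
    haveI : LocallyOfFiniteType (h.fiberToSpecResidueField η) :=
      MorphismProperty.pullback_snd _ _ inferInstance
    haveI : IsLocallyNoetherian (h.fiber η) :=
      LocallyOfFiniteType.isLocallyNoetherian (h.fiberToSpecResidueField η)
    haveI : IsNoetherian (h.fiber η) := {}
    have hF : (irreducibleComponents ↥(h.fiber η)).Finite :=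
      TopologicalSpace.NoetherianSpace.finite_irreducibleComponents
    rw [finite_components_iff_finite_max] at hF
    refine (hF.image (h.fiberι η)).subset ?_
    rintro ξ ⟨hξ, hξη⟩
    have h1 : ξ ∈ Set.range (h.fiberι η) := by
      rw [h.range_fiberι]
      exact hξη
    obtain ⟨φ, rfl⟩ := h1
    refine ⟨φ, ?_, rfl⟩
    rw [Groth.Agent.S2284.mem_irreducibleComponents_closure_iff] at hξ
    rw [Set.mem_setOf_eq, Groth.Agent.S2284.mem_irreducibleComponents_closure_iff]
    intro φ' hφ'
    have h2 := hξ _ (hφ'.map (h.fiberι η).continuous)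
    exact (h.fiberι η).isEmbedding.isInducing.specializes_iff.mp h2
  have hfinU := Set.Finite.biUnion hfin
    (t := fun η : ↥U => {ξ : W | closure ({ξ} : Set W) ∈ irreducibleComponents W ∧ h ξ = η.1})
    (fun η _ => hfib η.1)
  refine hfinU.subset ?_
  intro ξ hξ
  exact Set.mem_biUnion (hmax ξ hξ) ⟨hξ, rfl⟩

theorem main {Y X : Scheme.{u}} (f : Y ⟶ X) [Flat f] [LocallyOfFinitePresentation f]
    (hX : ∀ U : X.Opens, IsCompact (U : Set X) → (irreducibleComponents (U : Type u)).Finite)
    (V : Y.Opens) (hV : IsCompact (V : Set Y)) : (irreducibleComponents (V : Type u)).Finite := by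
  haveI : CompactSpace (V.toScheme) := isCompact_iff_compactSpace.mp hV
  have hopen : IsOpenMap (V.ι ≫ f) := (V.ι ≫ f).isOpenMap
  obtain ⟨U, hU⟩ : ∃ U : X.Opens, (U : Set X) = Set.range (V.ι ≫ f) :=
    ⟨⟨_, hopen.isOpen_range⟩, rfl⟩
  have hUc : IsCompact (U : Set X) := by
    rw [hU]
    exact isCompact_range (V.ι ≫ f).continuous
  exact finite_components_of_flat_lfp (V.ι ≫ f) U hU (hX U hUc)

end Helpers

/-- If f : Y → X is faithfully flat and locally of finite presentation and each quasi-compact open
subset of X has only finitely many irreducible components, the same is true of each quasi-compact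
open subset of Y. -/
theorem result {Y X : Scheme.{u}} (f : Y ⟶ X) [Flat f] [LocallyOfFinitePresentation f] [Surjective f]
    (hX : ∀ U : X.Opens, IsCompact (U : Set X) → (irreducibleComponents (U : Type u)).Finite)
    (V : Y.Opens) (hV : IsCompact (V : Set Y)) : (irreducibleComponents (V : Type u)).Finite := by
  exact main f hX V hV

end Groth.Agent.S13834
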