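import Groth.Statements.S7659
import Mathlib
import Groth.Agent.S9565
import Groth.Agent.S13834
import Groth.Agent.S2284

set_option autoImplicit false
universe u
open CategoryTheory CategoryTheory.Limits AlgebraicGeometry
open Variety

namespace Groth.Agent.S7659

section Helpers
open AlgebraicGeometry CategoryTheory CategoryTheory.Limits TopologicalSpace PrimeSpectrum

set_option backward.isDefEq.respectTransparency false in
theorem finite_minimalPrimes_of_affineOpen' {Y : Scheme.{u}}
    (hfin : (irreducibleComponents (Y : Type u)).Finite) {W : Y.Opens} (hW : IsAffineOpen W) :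
    (minimalPrimes Γ(Y, W)).Finite := by
  have hmemW : ∀ p : PrimeSpectrum Γ(Y, W), hW.fromSpec p ∈ W := fun p => by
    have := Set.mem_range_self (f := hW.fromSpec) p
    rwa [hW.range_fromSpec] at this
  have hG := (Groth.Agent.S13834.finite_components_iff_finite_max (W := ↥Y)).mp hfin
  let ι : PrimeSpectrum Γ(Y, W) → Y := fun p => hW.fromSpec p
  have hιinj : Function.Injective ι := hW.fromSpec.isOpenEmbedding.injective
  have hsub : {p : PrimeSpectrum Γ(Y, W) | p.asIdeal ∈ minimalPrimes Γ(Y, W)} ⊆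
      ι ⁻¹' {ξ | closure {ξ} ∈ irreducibleComponents ↥Y} := by
    intro p hp
    show closure {ι p} ∈ irreducibleComponents ↥Y
    rw [Groth.Agent.S2284.mem_irreducibleComponents_closure_iff]
    intro t' ht'
    have h1 : t' ⤳ hW.fromSpec p := ht'
    have h2 : t' ∈ W := h1.mem_open W.2 (hmemW p)
    obtain ⟨p', hp'⟩ : ∃ p' : PrimeSpectrum Γ(Y, W), hW.fromSpec p' = t' := by
      have : t' ∈ Set.range hW.fromSpec := by rw [hW.range_fromSpec]; exact h2
      exact this
    have h3 : p' ⤳ p := by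
      rw [← hW.fromSpec.isOpenEmbedding.isInducing.specializes_iff, hp']
      exact h1
    have h4 : p'.asIdeal ≤ p.asIdeal := (PrimeSpectrum.le_iff_specializes p' p).mpr h3
    have h5 : p.asIdeal ≤ p'.asIdeal := hp.2 ⟨p'.2, bot_le⟩ h4
    have h6 : p ⤳ p' := (PrimeSpectrum.le_iff_specializes p p').mp h5
    show hW.fromSpec p ⤳ t'
    rw [← hp']
    exact (hW.fromSpec.isOpenEmbedding.isInducing.specializes_iff).mpr h6
  have hfin2 : {p : PrimeSpectrum Γ(Y, W) | p.asIdeal ∈ minimalPrimes Γ(Y, W)}.Finite :=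
    (hG.preimage hιinj.injOn).subset hsub
  refine (hfin2.image PrimeSpectrum.asIdeal).subset ?_
  intro P hP
  exact ⟨⟨P, hP.1.1⟩, hP, rfl⟩

theorem germ_inj_algebra {R : Type u} [CommRing R] [IsReduced R] (hfin : (minimalPrimes R).Finite)
    (I : Ideal R) (hI : I.IsPrime) :
    ∃ f : R, f ∉ I ∧ ∀ (x y : R), y * x = 0 → y ∉ I → ∃ n, f ^ n * x = 0 := by
  classical
  have hch : ∀ q : Ideal R, ∃ g : R, g ∉ I ∧ (¬ q ≤ I → g ∈ q) := by
    intro q
    by_cases hq : q ≤ I
    · exact ⟨1, fun h => hI.ne_top ((Ideal.eq_top_iff_one _).mpr h), fun h => absurd hq h⟩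
    · obtain ⟨a, ha, haI⟩ := SetLike.not_le_iff_exists.mp hq
      exact ⟨a, haI, fun _ => ha⟩
  choose g hg1 hg2 using hch
  refine ⟨∏ q ∈ hfin.toFinset, g q, ?_, ?_⟩
  · have : ∏ q ∈ hfin.toFinset, g q ∈ I.primeCompl := prod_mem (fun q _ => hg1 q)
    exact this
  · intro x y hyx hy
    refine ⟨1, ?_⟩
    rw [pow_one]
    have hnil : (∏ q ∈ hfin.toFinset, g q) * x ∈ sInf (minimalPrimes R) := by
      rw [Ideal.mem_sInf]
      intro q hq
      have hqp : q.IsPrime := hq.1.1
      by_cases hqI : q ≤ I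
      · have hyq : y ∉ q := fun h => hy (hqI h)
        have h0 : y * x ∈ q := by rw [hyx]; exact q.zero_mem
        exact q.mul_mem_left _ ((hqp.mem_or_mem h0).resolve_left hyq)
      · have h1 : g q ∈ q := hg2 q hqI
        have h2 : g q ∣ ∏ q ∈ hfin.toFinset, g q :=
          Finset.dvd_prod_of_mem _ (hfin.mem_toFinset.mpr hq)
        exact q.mul_mem_right _ (Ideal.mem_of_dvd _ h2 h1)
    have h3 : sInf (minimalPrimes R) = ⊥ := by
      have h4 : sInf (minimalPrimes R) = (⊥ : Ideal R).radical := Ideal.sInf_minimalPrimes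
      rw [h4]
      exact nilradical_eq_zero R
    rw [h3] at hnil
    exact hnil

set_option backward.isDefEq.respectTransparency false in
theorem germInjectiveAt_of_reduced_finite {S : Scheme.{u}} [IsReduced S]
    (hS : (irreducibleComponents (S : Type u)).Finite) (s : S) : S.IsGermInjectiveAt s := by
  obtain ⟨W, hW, hsW, -⟩ := Opens.isBasis_iff_nbhd.mp S.isBasis_affineOpens
    (show s ∈ (⊤ : S.Opens) from trivial)
  have hmin := finite_minimalPrimes_of_affineOpen' hS hW
  haveI : (Spec Γ(S, W)).IsGermInjective :=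
    Scheme.IsGermInjective.Spec (fun I hI => germ_inj_algebra hmin I hI)
  have h1 := hW.fromSpec_primeIdealOf ⟨s, hsW⟩
  have h2 : S.IsGermInjectiveAt (hW.fromSpec (hW.primeIdealOf ⟨s, hsW⟩)) := inferInstance
  rw [h1] at h2
  exact h2

set_option backward.isDefEq.respectTransparency false in
theorem localIso_of_stalk_iso' {X Y : Scheme.{u}} (f : X ⟶ Y)
    [LocallyOfFiniteType f] (x : X) [Y.IsGermInjectiveAt (f x)]
    (hiso : IsIso (f.stalkMap x)) :
    ∃ U : X.Opens, x ∈ U ∧ IsOpenImmersion (U.ι ≫ f) := by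
  haveI := hiso
  have hfu : (f.stalkMap x).hom.FormallyUnramified :=
    RingHom.FormallyUnramified.of_surjective
      (ConcreteCategory.bijective_of_isIso (f.stalkMap x)).2
  obtain ⟨U₀, hxU₀, hU₀⟩ := Groth.Agent.S9565.nbhd_of_stalk_fu f x hfu
  let φ : Spec (Y.presheaf.stalk (f x)) ⟶ X := Spec.map (inv (f.stalkMap x)) ≫ X.fromSpecStalk x
  have hφ : φ ≫ f = Y.fromSpecStalk (f x) ≫ 𝟙 Y := by
    rw [Category.comp_id, Category.assoc, ← Scheme.SpecMap_stalkMap_fromSpecStalk,
      ← Category.assoc, ← Spec.map_comp, IsIso.hom_inv_id, Spec.map_id, Category.id_comp]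
  obtain ⟨V, hyV, g, hg1, hg2⟩ := spread_out_of_isGermInjective' (𝟙 Y) f φ hφ
  let p : V.toScheme := (V.fromSpecStalkOfMem (f x) hyV) (IsLocalRing.closedPoint _)
  have hgp : g p = x := by
    have h1 : φ (IsLocalRing.closedPoint _) = g p := by rw [hg1]; rfl
    rw [← h1]
    show (X.fromSpecStalk x) ((Spec.map (inv (f.stalkMap x))) (IsLocalRing.closedPoint _)) = x
    have h2 : (Spec.map (inv (f.stalkMap x)))
        (IsLocalRing.closedPoint (Y.presheaf.stalk (f x))) =
        IsLocalRing.closedPoint (X.presheaf.stalk x) :=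
      IsLocalRing.comap_closedPoint (inv (f.stalkMap x)).hom
    rw [h2, Scheme.fromSpecStalk_closedPoint]
  let V' : V.toScheme.Opens := g ⁻¹ᵁ U₀
  have hpV' : p ∈ V' := by
    show g p ∈ U₀
    rw [hgp]; exact hxU₀
  let k : V'.toScheme ⟶ X := V'.ι ≫ g
  have hrange : Set.range ⇑k ⊆ Set.range ⇑U₀.ι := by
    rintro _ ⟨z, rfl⟩
    rw [Scheme.Opens.range_ι]
    exact z.2
  let k₀ : V'.toScheme ⟶ U₀.toScheme := IsOpenImmersion.lift U₀.ι k hrange
  have hk₀ : k₀ ≫ U₀.ι = k := IsOpenImmersion.lift_fac _ _ _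
  have hkf : k ≫ f = V'.ι ≫ V.ι := by
    rw [Category.assoc, hg2, Category.comp_id]
  have hk₀f : k₀ ≫ (U₀.ι ≫ f) = V'.ι ≫ V.ι := by
    rw [← Category.assoc, hk₀, hkf]
  haveI : IsOpenImmersion (k₀ ≫ (U₀.ι ≫ f)) := by rw [hk₀f]; infer_instance
  haveI : LocallyOfFiniteType (U₀.ι ≫ f) := inferInstance
  haveI : Etale (k₀ ≫ (U₀.ι ≫ f)) := inferInstance
  haveI : Etale k₀ := Etale.of_comp k₀ (U₀.ι ≫ f)
  haveI : Mono (k₀ ≫ (U₀.ι ≫ f)) := inferInstance
  haveI : Mono k₀ := mono_of_mono k₀ (U₀.ι ≫ f)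
  haveI : Flat k₀ := (Etale.iff_flat_and_formallyUnramified.mp ‹Etale k₀›).1
  haveI : LocallyOfFinitePresentation k₀ :=
    (Etale.iff_flat_and_formallyUnramified.mp ‹Etale k₀›).2.2
  haveI : IsOpenImmersion k₀ := IsOpenImmersion.of_flat_of_mono k₀
  haveI : IsOpenImmersion k := by rw [← hk₀]; infer_instance
  refine ⟨k.opensRange, ⟨⟨p, hpV'⟩, ?_⟩, ?_⟩
  · show g (V'.ι ⟨p, hpV'⟩) = x
    exact hgp
  · have : k.opensRange.ι ≫ f = k.isoOpensRange.inv ≫ (V'.ι ≫ V.ι) := by
      rw [← Scheme.Hom.isoOpensRange_inv_comp, Category.assoc, hkf]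
    rw [this]; infer_instance

end Helpers

/-- Let f : X → S be a morphism of schemes and x a point with image s such that O_{S,s} → O_{X,x} is an
isomorphism, S is reduced with finitely many irreducible components, and f is locally of finite
type. Then f restricted to some open neighbourhood of x is an open immersion. (The published
statement assumes f of finite type; this row assumes only that f is locally of finite type.) -/
theorem result {X S : Scheme.{u}} (f : X ⟶ S)
    [LocallyOfFiniteType f] [IsReduced S] (hS : (irreducibleComponents (S : Type u)).Finite)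
    (x : X) (hx : IsIso (f.stalkMap x)) :
    ∃ U : X.Opens, x ∈ U ∧ IsOpenImmersion (U.ι ≫ f) := by
  haveI := germInjectiveAt_of_reduced_finite hS (f x)
  exact localIso_of_stalk_iso' f x hx

end Groth.Agent.S7659
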