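import Groth.Statements.S1156
import Mathlib

set_option autoImplicit false
universe u
open scoped TensorProduct
open Desc

namespace Groth.Agent.S1156

/-- multiplication `A ⊗ (A ⊗ N) → A ⊗ N`, `a ⊗ (b ⊗ n) ↦ ab ⊗ n`. -/
noncomputable def contr (R A N : Type u) [CommRing R] [CommRing A] [Algebra R A]
    [AddCommGroup N] [Module R N] : A ⊗[R] (A ⊗[R] N) →ₗ[R] A ⊗[R] N :=
  (LinearMap.rTensor N (LinearMap.mul' R A)) ∘ₗ (TensorProduct.assoc R A A N).symm.toLinearMap

@[simp] lemma contr_tmul (R A N : Type u) [CommRing R] [CommRing A] [Algebra R A]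
    [AddCommGroup N] [Module R N] (a b : A) (n : N) :
    contr R A N (a ⊗ₜ (b ⊗ₜ n)) = (a * b) ⊗ₜ n := by
  simp [contr]


/-- Exactness of the extended Amitsur complex in degree 0 (injectivity in degree −1 being standard). Let
R → A be faithfully flat and M an R-module. An element x of A ⊗_R M with 1 ⊗ x = (a ⊗ m ↦ a ⊗ 1 ⊗
m)(x) in A ⊗_R A ⊗_R M lies in the image of m ↦ 1 ⊗ m. -/
theorem result (R A : Type u) [CommRing R] [CommRing A] [Algebra R A] [Module.FaithfullyFlat R A]
    (M : Type u) [AddCommGroup M] [Module R M] (x : A ⊗[R] M)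
    (hx : TensorProduct.mk R A (A ⊗[R] M) 1 x = LinearMap.lTensor A (TensorProduct.mk R A M 1) x) :
    x ∈ LinearMap.range (TensorProduct.mk R A M 1) := by
  let i : M →ₗ[R] A ⊗[R] M := TensorProduct.mk R A M 1
  let d0 : A ⊗[R] M →ₗ[R] A ⊗[R] (A ⊗[R] M) := TensorProduct.mk R A (A ⊗[R] M) 1
  let d1 : A ⊗[R] M →ₗ[R] A ⊗[R] (A ⊗[R] M) := LinearMap.lTensor A i
  let δ : A ⊗[R] M →ₗ[R] A ⊗[R] (A ⊗[R] M) := d0 - d1
  have hδi : δ ∘ₗ i = 0 := by
    ext m
    simp [δ, d0, d1, i]
  have hexA : Function.Exact (LinearMap.lTensor A i) (LinearMap.lTensor A δ) := by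
    intro y
    constructor
    · intro hy
      have h01 : LinearMap.lTensor A d0 y = LinearMap.lTensor A d1 y := by
        have : LinearMap.lTensor A δ y = LinearMap.lTensor A d0 y - LinearMap.lTensor A d1 y := by
          simp [δ, LinearMap.lTensor_sub]
        rw [this, sub_eq_zero] at hy
        exact hy
      have e0 : (contr R A (A ⊗[R] M)) ∘ₗ (LinearMap.lTensor A d0) = LinearMap.id := by
        apply TensorProduct.ext'
        intro a z
        induction z using TensorProduct.induction_on with
        | zero => simp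
        | tmul b m => simp [d0]
        | add z w hz hw =>
          simp only [TensorProduct.tmul_add, map_add, hz, hw]
      have e1 : (contr R A (A ⊗[R] M)) ∘ₗ (LinearMap.lTensor A d1) =
          (LinearMap.lTensor A i) ∘ₗ (contr R A M) := by
        apply TensorProduct.ext'
        intro a z
        induction z using TensorProduct.induction_on with
        | zero => simp
        | tmul b m => simp [d1, i]
        | add z w hz hw =>
          simp only [TensorProduct.tmul_add, map_add, hz, hw]
      refine ⟨contr R A M y, ?_⟩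
      have h2 := congrArg (contr R A (A ⊗[R] M)) h01
      have h3 : contr R A (A ⊗[R] M) (LinearMap.lTensor A d0 y) = y := by
        have := congrArg (fun t => t y) e0
        simpa using this
      have h4 : contr R A (A ⊗[R] M) (LinearMap.lTensor A d1 y) =
          LinearMap.lTensor A i (contr R A M y) := by
        have := congrArg (fun t => t y) e1
        simpa using this
      rw [h3, h4] at h2
      exact h2.symm
    · rintro ⟨z, rfl⟩
      rw [← LinearMap.comp_apply, ← LinearMap.lTensor_comp, hδi]
      simp
  have hex : Function.Exact i δ :=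
    (Module.FaithfullyFlat.lTensor_exact_iff_exact R A i δ).mp hexA
  have hx0 : δ x = 0 := by
    simp only [δ, LinearMap.sub_apply, sub_eq_zero]
    exact hx
  exact (hex x).mp hx0

end Groth.Agent.S1156
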