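import Groth.Statements.S1162
import Mathlib
import Groth.Agent.S5067
import Groth.Agent.S2284

set_option autoImplicit false
open CategoryTheory CategoryTheory.Limits AlgebraicGeometry Opposite
universe u
open Desc

namespace Groth.Agent.S1162

section Helpers
open AlgebraicGeometry CategoryTheory TopologicalSpace Limits Topology

theorem exists_max_gen {W : Type*} [TopologicalSpace W] [QuasiSober W] (x : W) :
    ∃ ξ : W, closure ({ξ} : Set W) ∈ irreducibleComponents W ∧ ξ ⤳ x := by
  have hZ := irreducibleComponent_mem_irreducibleComponents x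
  obtain ⟨ξ, hξ⟩ := QuasiSober.sober hZ.1 (isClosed_of_mem_irreducibleComponents _ hZ)
  refine ⟨ξ, ?_, ?_⟩
  · rw [hξ.def]
    exact hZ
  · rw [specializes_iff_mem_closure, hξ.def]
    exact mem_irreducibleComponent

theorem main {X Y : Scheme.{u}} (f : X ⟶ Y) [Flat f] [IsSeparated f]
    (h2 : ∀ ξ : X, closure ({ξ} : Set X) ∈ irreducibleComponents (X : Type u) →
      Function.Surjective (f.residueFieldMap ξ).hom)
    (h3 : Set.InjOn f.base {ξ : X | closure ({ξ} : Set X) ∈ irreducibleComponents (X : Type u)}) :
    UniversallyInjective f := by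
  have hfstΔ : ∀ x : X, (pullback.fst f f) ((pullback.diagonal f) x) = x := by
    intro x
    rw [← Scheme.Hom.comp_apply, pullback.diagonal_fst]
    rfl
  have hsndΔ : ∀ x : X, (pullback.snd f f) ((pullback.diagonal f) x) = x := by
    intro x
    rw [← Scheme.Hom.comp_apply, pullback.diagonal_snd]
    rfl
  have hmax : ∀ ξ : X, closure ({ξ} : Set X) ∈ irreducibleComponents (X : Type u) →
      ∀ x' : X, x' ⤳ ξ → x' = ξ := by
    intro ξ hξ x' hx'
    have h4 := (Groth.Agent.S2284.mem_irreducibleComponents_closure_iff ξ).mp hξ x' hx'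
    exact (hx'.antisymm h4).eq
  have hsurj : Function.Surjective (pullback.diagonal f) := by
    intro z
    have hcl : IsClosed (Set.range (pullback.diagonal f)) :=
      (pullback.diagonal f).isClosedEmbedding.isClosed_range
    obtain ⟨ξ1, hξ1, hξ1x⟩ := exists_max_gen ((pullback.fst f f) z)
    obtain ⟨z', hz'z, hz'⟩ := (Flat.generalizingMap (pullback.fst f f)) hξ1x
    obtain ⟨ξ2, hξ2, hξ2x⟩ := exists_max_gen ((pullback.snd f f) z')
    obtain ⟨z'', hz''z', hz''⟩ := (Flat.generalizingMap (pullback.snd f f)) hξ2x
    have h1 : (pullback.fst f f) z'' = ξ1 := by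
      apply hmax ξ1 hξ1
      have h5 := hz''z'.map (pullback.fst f f).continuous
      rwa [hz'] at h5
    have hcond : f ((pullback.fst f f) z'') = f ((pullback.snd f f) z'') := by
      rw [← Scheme.Hom.comp_apply, ← Scheme.Hom.comp_apply, pullback.condition]
    have h12 : ξ1 = ξ2 := by
      refine h3 hξ1 hξ2 ?_
      change f ξ1 = f ξ2
      rw [← h1, ← hz'', hcond]
    have hb : ∀ x : X, x = ξ1 → Function.Bijective (f.residueFieldMap x).hom := by
      rintro x rfl
      exact ⟨(f.residueFieldMap x).hom.injective, h2 x hξ1⟩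
    have h6 : z'' = (pullback.diagonal f) ξ1 := by
      apply Scheme.Pullback.carrierEquiv.injective
      rw [Scheme.Pullback.carrierEquiv_eq_iff]
      have hT : Scheme.Pullback.Triplet.ofPoint z'' =
          Scheme.Pullback.Triplet.ofPoint ((pullback.diagonal f) ξ1) := by
        apply Scheme.Pullback.Triplet.ext
        · change (pullback.fst f f) z'' =
            (pullback.fst f f) ((pullback.diagonal f) ξ1)
          rw [h1, hfstΔ]
        · change (pullback.snd f f) z'' =
            (pullback.snd f f) ((pullback.diagonal f) ξ1)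
          rw [hz'', hsndΔ, h12]
      have hsub : Subsingleton ↥(Spec (Scheme.Pullback.Triplet.ofPoint
          ((pullback.diagonal f) ξ1)).tensor) :=
        Groth.Agent.S5067.subsingleton_spec_tensor f _ (hb _ (hfstΔ _))
      exact ⟨hT, @Subsingleton.elim _ hsub _ _⟩
    rw [h6] at hz''z'
    exact hcl.stableUnderSpecialization (hz''z'.trans hz'z) ⟨ξ1, rfl⟩
  exact (UniversallyInjective.iff_diagonal f).mpr ⟨hsurj⟩

end Helpers

/-- Let f : X ⟶ Y be flat and separated. Write X⁰ for the generic points of the irreducible components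
of X. If for every ξ in X⁰ the residue field extension κ(f ξ) ⊆ κ(ξ) is trivial and f is injective
on X⁰, then f is universally injective. -/
theorem result {X Y : Scheme.{u}} (f : X ⟶ Y) [Flat f] [IsSeparated f]
    (h2 : ∀ ξ : X, closure ({ξ} : Set X) ∈ irreducibleComponents (X : Type u) →
      Function.Surjective (f.residueFieldMap ξ).hom)
    (h3 : Set.InjOn f.base {ξ : X | closure ({ξ} : Set X) ∈ irreducibleComponents (X : Type u)}) :
    UniversallyInjective f := by
  exact main f h2 h3

end Groth.Agent.S1162
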