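import Groth.Statements.S1163
import Mathlib

set_option autoImplicit false
open CategoryTheory CategoryTheory.Limits AlgebraicGeometry Opposite
universe u
open Desc

namespace Groth.Agent.S1163

open TensorProduct in
/-- If `A → B → C → D` with `C` flat over `A` and `D` faithfully flat over `B`, then `B` is flat
over `A`. -/
lemma flat_of_flat_of_faithfullyFlat (A B C D : Type u) [CommRing A] [CommRing B] [CommRing C]
    [CommRing D] [Algebra A B] [Algebra B C] [Algebra A C] [IsScalarTower A B C]
    [Algebra C D] [Algebra B D] [IsScalarTower B C D] [Algebra A D] [IsScalarTower A B D]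
    [IsScalarTower A C D]
    [Module.Flat A C] [Module.FaithfullyFlat B D] : Module.Flat A B := by
  rw [Module.Flat.iff_lTensor_preserves_injective_linearMap]
  intro N N' _ _ _ _ f hf
  -- comparison maps
  let jBC : B →ₗ[A] C := (IsScalarTower.toAlgHom A B C).toLinearMap
  let jBD : B →ₗ[A] D := (IsScalarTower.toAlgHom A B D).toLinearMap
  let jCD : C →ₗ[A] D := (IsScalarTower.toAlgHom A C D).toLinearMap
  have hcomp : jCD ∘ₗ jBC = jBD := by
    ext b
    simp [jBC, jBD, jCD, ← IsScalarTower.algebraMap_apply]
  -- `B ⊗ M → D ⊗ M` is injective for every `M`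
  have hBD : ∀ (M : Type u) [AddCommGroup M] [Module A M],
      Function.Injective (jBD.rTensor M) := by
    intro M _ _
    let e := TensorProduct.AlgebraTensorModule.cancelBaseChange A B D D M
    have h1 : Function.Injective (TensorProduct.mk B D (B ⊗[A] M) 1) :=
      Module.FaithfullyFlat.tensorProduct_mk_injective (A := B) (B := D) (B ⊗[A] M)
    have h2 : ∀ x : B ⊗[A] M, jBD.rTensor M x = e (TensorProduct.mk B D (B ⊗[A] M) 1 x) := by
      intro x
      induction x using TensorProduct.induction_on with
      | zero => simp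
      | tmul b m => simp [e, jBD, Algebra.smul_def]
      | add x y hx hy => simp only [map_add, hx, hy]
    intro x y hxy
    rw [h2, h2] at hxy
    exact h1 (e.injective hxy)
  have hBC : ∀ (M : Type u) [AddCommGroup M] [Module A M],
      Function.Injective (jBC.rTensor M) := by
    intro M _ _
    have : jBD.rTensor M = (jCD.rTensor M) ∘ₗ (jBC.rTensor M) := by
      rw [← LinearMap.rTensor_comp, hcomp]
    have h := hBD M
    rw [this] at h
    exact Function.Injective.of_comp h
  have hC : Function.Injective (f.lTensor C) :=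
    Module.Flat.lTensor_preserves_injective_linearMap f hf
  have hsq : (f.lTensor C) ∘ₗ (jBC.rTensor N) = (jBC.rTensor N') ∘ₗ (f.lTensor B) := by
    apply TensorProduct.ext'
    intro b n
    simp
  have : Function.Injective ((jBC.rTensor N') ∘ₗ (f.lTensor B)) := by
    rw [← hsq]
    exact hC.comp (hBC N)
  exact Function.Injective.of_comp this

lemma ringHom_flat_of_comp {A B C D : Type u} [CommRing A] [CommRing B] [CommRing C] [CommRing D]
    (φ : A →+* B) (ψ : B →+* C) (χ : C →+* D) (h1 : (ψ.comp φ).Flat) (h2 : (χ.comp ψ).Flat)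
    [IsLocalRing B] [IsLocalRing D] [IsLocalHom (χ.comp ψ)] : φ.Flat := by
  algebraize [φ, ψ, χ, ψ.comp φ, χ.comp ψ, χ.comp (ψ.comp φ)]
  haveI : IsScalarTower A C D := IsScalarTower.of_algebraMap_eq (fun _ => rfl)
  haveI : IsScalarTower A B D := IsScalarTower.of_algebraMap_eq (fun _ => rfl)
  haveI : IsLocalHom (algebraMap B D) := ‹IsLocalHom (χ.comp ψ)›
  haveI : Module.FaithfullyFlat B D := Module.FaithfullyFlat.of_flat_of_isLocalHom
  exact flat_of_flat_of_faithfullyFlat A B C D


/-- The case P = flat, single fppf cover: Let f : X ⟶ Y and q : Y ⟶ Z be morphisms of schemes, and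
suppose there is a flat, surjective morphism g : Y' ⟶ Y locally of finite presentation which factors
through f. If f ≫ q is flat, then q is flat. -/
theorem result {X Y Z Y' : Scheme.{u}} (f : X ⟶ Y) (q : Y ⟶ Z) (g : Y' ⟶ Y) [Flat g] [Surjective g]
    [LocallyOfFinitePresentation g] (l : Y' ⟶ X) (hl : l ≫ f = g) [Flat (f ≫ q)] : Flat q := by
  subst hl
  rw [Flat.iff_flat_stalkMap]
  intro y
  obtain ⟨y', rfl⟩ := (inferInstance : Surjective (l ≫ f)).surj y
  have h1 : ((f ≫ q).stalkMap (l y')).hom.Flat := Flat.stalkMap (f ≫ q) (l y')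
  have h2 : ((l ≫ f).stalkMap y').hom.Flat := Flat.stalkMap (l ≫ f) y'
  rw [Scheme.Hom.stalkMap_comp] at h1 h2
  haveI : IsLocalHom ((l.stalkMap y').hom.comp (f.stalkMap (l y')).hom) := by
    have := (inferInstance : IsLocalHom ((l ≫ f).stalkMap y').hom)
    rw [Scheme.Hom.stalkMap_comp] at this
    exact this
  exact ringHom_flat_of_comp (q.stalkMap (f (l y'))).hom (f.stalkMap (l y')).hom
    (l.stalkMap y').hom h1 h2

end Groth.Agent.S1163
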