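import Groth.Statements.S1164
import Mathlib
import Groth.Agent.S1163

set_option autoImplicit false
universe u
open Desc

namespace Groth.Agent.S1164

open CategoryTheory AlgebraicGeometry in
theorem flat_aux (R R' S' : Type u) [CommRing R] [CommRing R'] [CommRing S']
    [Algebra R R'] [Algebra R' S'] [Algebra R S'] [IsScalarTower R R' S']
    (E : Type u) [CommRing E] [Algebra R E] [Algebra.Etale R E] (P : Ideal E) [P.IsPrime]
    [Algebra E R'] [IsScalarTower R E R'] [IsLocalization.AtPrime R' P]
    (hRS' : Module.Flat R S') : Module.Flat R' S' := by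
  have hER' : Module.Flat E R' := IsLocalization.flat R' P.primeCompl
  have hfg : Spec.map (CommRingCat.ofHom (algebraMap R' S')) ≫
      Spec.map (CommRingCat.ofHom (algebraMap R R')) =
      Spec.map (CommRingCat.ofHom (algebraMap R S')) := by
    rw [← Spec.map_comp, ← CommRingCat.ofHom_comp, ← IsScalarTower.algebraMap_eq]
  have hflat_fg : AlgebraicGeometry.Flat (Spec.map (CommRingCat.ofHom (algebraMap R' S')) ≫
      Spec.map (CommRingCat.ofHom (algebraMap R R'))) := by
    rw [hfg]
    exact AlgebraicGeometry.Flat.SpecMap_iff.mpr (RingHom.flat_algebraMap_iff.mpr hRS')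
  have hg : WeaklyEtale (Spec.map (CommRingCat.ofHom (algebraMap R R'))) := by
    have e : Spec.map (CommRingCat.ofHom (algebraMap R R')) =
        Spec.map (CommRingCat.ofHom (algebraMap E R')) ≫
          Spec.map (CommRingCat.ofHom (algebraMap R E)) := by
      rw [← Spec.map_comp, ← CommRingCat.ofHom_comp, ← IsScalarTower.algebraMap_eq]
    rw [e]
    have h1 : Etale (Spec.map (CommRingCat.ofHom (algebraMap R E))) :=
      (HasRingHomProperty.Spec_iff (P := @Etale)).mpr (RingHom.etale_algebraMap.mpr ‹_›)
    have h2 : WeaklyEtale (Spec.map (CommRingCat.ofHom (algebraMap E R'))) := by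
      have hepi : Epi (CommRingCat.ofHom (algebraMap E R')) := IsLocalization.epi P.primeCompl R'
      have hmono : Mono (Spec.map (CommRingCat.ofHom (algebraMap E R'))) := by
        show Mono (Scheme.Spec.map (CommRingCat.ofHom (algebraMap E R')).op)
        infer_instance
      have hfl : AlgebraicGeometry.Flat (Spec.map (CommRingCat.ofHom (algebraMap E R'))) :=
        AlgebraicGeometry.Flat.SpecMap_iff.mpr (RingHom.flat_algebraMap_iff.mpr hER')
      exact {}
    infer_instance
  have hinst : MorphismProperty.HasOfPostcompProperty (@AlgebraicGeometry.Flat)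
      (MorphismProperty.diagonal @AlgebraicGeometry.Flat) :=
    MorphismProperty.hasOfPostcompProperty_iff_le_diagonal.mpr le_rfl
  have hf : AlgebraicGeometry.Flat (Spec.map (CommRingCat.ofHom (algebraMap R' S'))) :=
    MorphismProperty.of_postcomp (W := @AlgebraicGeometry.Flat)
      (W' := MorphismProperty.diagonal @AlgebraicGeometry.Flat) _ _ hg.flat_diagonal hflat_fg
  exact RingHom.flat_algebraMap_iff.mp (AlgebraicGeometry.Flat.SpecMap_iff.mp hf)


/-- Let R → S be a local homomorphism of local rings. Let R' be a local ring which is a localization at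
a prime of an etale R-algebra, with R → R' local, and similarly S' for S, and suppose S' is an
R'-algebra compatibly with the given maps. Then R → S is flat if and only if R' → S' is flat. (This
is the statement that flatness of a morphism of germs is etale local on source and target together.) -/
theorem result (R S R' S' : Type u) [CommRing R] [CommRing S] [CommRing R'] [CommRing S']
    [IsLocalRing R] [IsLocalRing S] [IsLocalRing R'] [IsLocalRing S']
    [Algebra R S] [IsLocalHom (algebraMap R S)] [Algebra R R'] [IsLocalHom (algebraMap R R')]
    [Algebra S S'] [IsLocalHom (algebraMap S S')] [Algebra R' S'] [Algebra R S']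
    [IsScalarTower R R' S'] [IsScalarTower R S S']
    (E : Type u) [CommRing E] [Algebra R E] [Algebra.Etale R E] (P : Ideal E) [P.IsPrime]
    [Algebra E R'] [IsScalarTower R E R'] [IsLocalization.AtPrime R' P]
    (F : Type u) [CommRing F] [Algebra S F] [Algebra.Etale S F] (Q : Ideal F) [Q.IsPrime]
    [Algebra F S'] [IsScalarTower S F S'] [IsLocalization.AtPrime S' Q] :
    Module.Flat R S ↔ Module.Flat R' S' := by
  have hRE : Module.Flat R E := inferInstance
  have hER' : Module.Flat E R' := IsLocalization.flat R' P.primeCompl
  have hRR' : Module.Flat R R' := Module.Flat.trans R E R'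
  have hSF : Module.Flat S F := inferInstance
  have hFS' : Module.Flat F S' := IsLocalization.flat S' Q.primeCompl
  have hSS' : Module.Flat S S' := Module.Flat.trans S F S'
  constructor
  · intro hRS
    have hRS' : Module.Flat R S' := Module.Flat.trans R S S'
    exact flat_aux R R' S' E P hRS'
  · intro hR'S'
    have hRS' : Module.Flat R S' := Module.Flat.trans R R' S'
    have hff : Module.FaithfullyFlat S S' := Module.FaithfullyFlat.of_flat_of_isLocalHom
    exact Groth.Agent.S1163.flat_of_flat_of_faithfullyFlat R S S' S'

end Groth.Agent.S1164
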