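import Groth.Statements.S1183
import Mathlib
import Groth.Agent.H29.FFDescent
import Groth.Agent.H29.RegLocalization
import Groth.Agent.Lib.Helper24.SmoothReg
import Groth.Agent.Lib.Helper24.Rk

set_option autoImplicit false
universe u
open Desc

namespace Groth.Agent.S1183

section Helpers
open TensorProduct

theorem smooth_reg_local1183 (A B : Type u) [CommRing A] [CommRing B] [Algebra A B]
    [Algebra.Smooth A B] (p : Ideal A) [p.IsPrime] (q : Ideal B) [q.IsPrime]
    (hpq : q.comap (algebraMap A B) = p)
    [IsRegularLocalRing (Localization.AtPrime p)] :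
    IsRegularLocalRing (Localization.AtPrime q) := by
  haveI : IsRegularRing (Localization.AtPrime p) :=
    Groth.Agent.H29.isRegularRing_of_isRegularLocalRing _
  haveI hreg : IsRegularRing (Localization.AtPrime p ⊗[A] B) :=
    Groth.Agent.Helper24.SmoothReg.smooth_regular (Localization.AtPrime p) _
  letI : Algebra B (Localization.AtPrime p ⊗[A] B) := Algebra.TensorProduct.rightAlgebra
  haveI hloc : IsLocalization (Algebra.algebraMapSubmonoid B p.primeCompl)
      (Localization.AtPrime p ⊗[A] B) :=
    IsLocalization.tensorRight (S := B) (A := Localization.AtPrime p) p.primeCompl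
  have hdisj : Disjoint (Algebra.algebraMapSubmonoid B p.primeCompl : Set B) (q : Set B) := by
    rw [Set.disjoint_left]
    rintro _ ⟨r, hr, rfl⟩ hq
    exact hr (by rw [← hpq]; exact hq)
  refine Groth.Agent.Helper24.SmoothReg.transferReg B _ q hdisj
    (Localization.AtPrime p ⊗[A] B) ?_ (Localization.AtPrime q)
  intro Q _ _
  infer_instance

theorem fwd1183 (A B : Type u) [CommRing A] [CommRing B] [IsNoetherianRing A]
    [IsNoetherianRing B] [Algebra A B] [Algebra.Smooth A B] (k : ℕ) (h : LocCoh.HasRk k A) :
    LocCoh.HasRk k B := by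
  intro q hq hht
  haveI : (q.comap (algebraMap A B)).IsPrime := Ideal.comap_isPrime _ _
  haveI : q.LiesOver (q.comap (algebraMap A B)) := ⟨rfl⟩
  haveI : Module.Flat A B := inferInstance
  have h1 := Ideal.height_eq_height_add_of_liesOver_of_hasGoingDown
    (q.comap (algebraMap A B)) q
  have h2 : (q.comap (algebraMap A B)).height ≤ k := by
    refine le_trans ?_ hht
    rw [h1]; exact le_self_add
  haveI := h _ h2
  exact smooth_reg_local1183 A B _ q rfl

theorem bwd1183 (A B : Type u) [CommRing A] [CommRing B] [IsNoetherianRing A]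
    [IsNoetherianRing B] [Algebra A B] [Module.FaithfullyFlat A B] (k : ℕ)
    (h : LocCoh.HasRk k B) : LocCoh.HasRk k A := by
  intro p hp hht
  obtain ⟨q₀, hq₀, hq₀p⟩ := Ideal.exists_isPrime_liesOver_of_faithfullyFlat (B := B) p
  have hq₀p' : q₀.comap (algebraMap A B) = p := hq₀p.over.symm
  have hle : p.map (algebraMap A B) ≤ q₀ := by rw [Ideal.map_le_iff_le_comap, hq₀p']
  obtain ⟨q, hqmin, hqle⟩ := Ideal.exists_minimalPrimes_le hle
  haveI hqp : q.IsPrime := hqmin.1.1
  have hcomap : q.comap (algebraMap A B) = p := by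
    apply le_antisymm
    · rw [← hq₀p']; exact Ideal.comap_mono hqle
    · rw [← Ideal.map_le_iff_le_comap]; exact hqmin.1.2
  haveI : q.LiesOver p := ⟨hcomap.symm⟩
  have h1 := Ideal.height_le_height_add_of_liesOver p q
  have h0 : (q.map (Ideal.Quotient.mk (p.map (algebraMap A B)))).height = 0 := by
    have hsurj : Function.Surjective (Ideal.Quotient.mk (p.map (algebraMap A B))) :=
      Ideal.Quotient.mk_surjective
    have hker : (⊥ : Ideal (B ⧸ p.map (algebraMap A B))).comap
        (Ideal.Quotient.mk (p.map (algebraMap A B))) = p.map (algebraMap A B) := by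
      rw [← RingHom.ker_eq_comap_bot, Ideal.mk_ker]
    have hq' : q ∈ ((⊥ : Ideal (B ⧸ p.map (algebraMap A B))).comap
        (Ideal.Quotient.mk (p.map (algebraMap A B)))).minimalPrimes := by
      rw [hker]; exact hqmin
    rw [Ideal.comap_minimalPrimes_eq_of_surjective hsurj] at hq'
    obtain ⟨q', hq'min, hq'eq⟩ := hq'
    rw [← hq'eq, Ideal.map_comap_of_surjective _ hsurj]
    haveI := hq'min.1.1
    exact Ideal.height_eq_zero_iff.mpr hq'min
  rw [h0, add_zero] at h1
  haveI := h q (le_trans h1 hht)
  have h2 := Groth.Agent.H29.FFDescent.isRegularLocalRing_comap_of_flat (R := A) (R' := B) q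
    inferInstance
  exact (Groth.Agent.Helper24.Rk.rlr_congr _ _ hcomap).mp h2

end Helpers

/-- Let A → B be a smooth ring map of Noetherian rings and k a natural number. If A satisfies (R_k) then
so does B; and if moreover A → B is faithfully flat and B satisfies (R_k), then A does. -/
theorem result (A B : Type u) [CommRing A] [CommRing B] [IsNoetherianRing A] [IsNoetherianRing B]
    [Algebra A B] [Algebra.Smooth A B] (k : ℕ) :
    (LocCoh.HasRk k A → LocCoh.HasRk k B) ∧
    (Module.FaithfullyFlat A B → LocCoh.HasRk k B → LocCoh.HasRk k A) := by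
  exact ⟨fwd1183 A B k, fun hff => by haveI := hff; exact bwd1183 A B k⟩

end Groth.Agent.S1183
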