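import Groth.Statements.S13115
import Mathlib

set_option autoImplicit false
universe u
open scoped TensorProduct
open HilbChow

namespace Groth.Agent.S13115

open scoped TensorProduct

/-- the multiset of values of a tuple (same device as helper14's `H14Lib.CH.typ`) -/
noncomputable def typ {d : ℕ} {O : Type*} (f : Fin d → O) : O →₀ ℕ := ∑ k, Finsupp.single (f k) 1

theorem typ_apply {d : ℕ} {O : Type*} [DecidableEq O] (f : Fin d → O) (o : O) :
    typ f o = Fintype.card {k // f k = o} := by
  rw [typ, Finsupp.finsetSum_apply]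
  simp only [Finsupp.single_apply]
  rw [Finset.sum_boole, Fintype.card_subtype]
  simp

theorem exists_perm_of_typ_eq {d : ℕ} {O : Type*} (f g : Fin d → O) (h : typ f = typ g) :
    ∃ σ : Equiv.Perm (Fin d), f = g ∘ σ := by
  classical
  have hc : ∀ o, Fintype.card {k // f k = o} = Fintype.card {k // g k = o} := fun o => by
    have h1 := typ_apply f o
    have h2 := typ_apply g o
    rw [h] at h1
    convert h1.symm.trans h2
  let eo : ∀ o, {k // f k = o} ≃ {k // g k = o} := fun o => Fintype.equivOfCardEq (hc o)
  let σ : Fin d ≃ Fin d := (Equiv.sigmaFiberEquiv f).symm.trans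
    ((Equiv.sigmaCongrRight eo).trans (Equiv.sigmaFiberEquiv g))
  refine ⟨σ, ?_⟩
  funext k
  have : g (σ k) = f k := ((eo (f k)) ⟨k, rfl⟩).2
  exact this.symm

theorem prod_X_typ {d : ℕ} {I : Type*} {A : Type*} [CommSemiring A] (x : Fin d → I) :
    (∏ j, (MvPolynomial.X (x j) : MvPolynomial I A)) = MvPolynomial.monomial (typ x) 1 := by
  rw [typ, MvPolynomial.monomial_sum_one]
  rfl

theorem main {k V : Type*} [Field k] [Infinite k] [AddCommGroup V] [Module k V] {I : Type*}
    (bas : Module.Basis I k V) (m : ℕ) (x : ⨂[k] _ : Fin m, V)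
    (hx : ∀ σ : Equiv.Perm (Fin m), PiTensorProduct.reindex k (fun _ : Fin m => V) σ x = x)
    (φ : (⨂[k] _ : Fin m, V) →ₗ[k] k)
    (hφ0 : ∀ v : V, φ (PiTensorProduct.tprod k (fun _ : Fin m => v)) = 0) : φ x = 0 := by
  classical
  let B : Module.Basis (Fin m → I) k (⨂[k] _ : Fin m, V) :=
    Basis.piTensorProduct (fun _ : Fin m => bas)
  have hB : ∀ f : Fin m → I, B f = PiTensorProduct.tprod k (fun j => bas (f j)) :=
    fun f => Basis.piTensorProduct_apply _ f
  -- symmetry of the coefficients
  have hsym : ∀ (σ : Equiv.Perm (Fin m)) (y : Fin m → I), B.repr x (y ∘ σ) = B.repr x y := by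
    intro σ y
    have key : ∀ t : ⨂[k] _ : Fin m, V,
        B.repr (PiTensorProduct.reindex k (fun _ : Fin m => V) σ t) y = B.repr t (y ∘ σ) := by
      intro t
      have : (Finsupp.lapply y ∘ₗ (B.repr.toLinearMap) ∘ₗ
          (PiTensorProduct.reindex k (fun _ : Fin m => V) σ).toLinearMap) =
          (Finsupp.lapply (y ∘ σ) ∘ₗ (B.repr.toLinearMap)) := by
        refine B.ext fun x' => ?_
        simp only [LinearMap.coe_comp, LinearEquiv.coe_coe, Function.comp_apply,
          Finsupp.lapply_apply]
        rw [hB, PiTensorProduct.reindex_tprod]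
        have e : PiTensorProduct.tprod k (fun i => bas (x' (σ.symm i))) = B (x' ∘ σ.symm) := by
          rw [hB]; rfl
        rw [e, ← hB, Module.Basis.repr_self, Module.Basis.repr_self,
          Finsupp.single_apply, Finsupp.single_apply]
        congr 1
        apply propext
        constructor
        · intro h; rw [← h]; funext i; simp
        · intro h; rw [h]; funext i; simp
      exact LinearMap.congr_fun this t
    rw [← key, hx σ]
  obtain ⟨a, ha⟩ : ∃ a, a = B.repr x := ⟨_, rfl⟩
  have hxsum : x = ∑ f ∈ a.support, a f • B f := by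
    have h := B.linearCombination_repr x
    rw [Finsupp.linearCombination_apply, Finsupp.sum, ← ha] at h
    exact h.symm
  obtain ⟨J, hJdef⟩ : ∃ J : Finset I, J = a.support.biUnion (fun f => Finset.univ.image f) :=
    ⟨_, rfl⟩
  have hJ : a.support ⊆ Fintype.piFinset (fun _ : Fin m => J) := by
    intro f hf
    rw [Fintype.mem_piFinset]
    intro j
    rw [hJdef]
    exact Finset.mem_biUnion.2 ⟨f, hf, Finset.mem_image_of_mem _ (Finset.mem_univ j)⟩
  -- the polynomial
  obtain ⟨P, hPdef⟩ : ∃ P : MvPolynomial I k, P = ∑ f ∈ Fintype.piFinset (fun _ : Fin m => J),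
      MvPolynomial.C (φ (B f)) * ∏ j, MvPolynomial.X (f j) := ⟨_, rfl⟩
  have hP : P = 0 := by
    apply MvPolynomial.funext
    intro t
    rw [map_zero]
    have h1 := hφ0 (∑ i ∈ J, t i • bas i)
    have h2 : PiTensorProduct.tprod k (fun _ : Fin m => ∑ i ∈ J, t i • bas i) =
        ∑ f ∈ Fintype.piFinset (fun _ : Fin m => J), (∏ j, t (f j)) • B f := by
      rw [MultilinearMap.map_sum_finset (PiTensorProduct.tprod k)
        (fun (_ : Fin m) (i : I) => t i • bas i) (fun _ => J)]
      refine Finset.sum_congr rfl fun f _ => ?_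
      rw [hB]
      exact MultilinearMap.map_smul_univ (PiTensorProduct.tprod k) (fun j => t (f j))
        (fun j => bas (f j))
    rw [h2, map_sum] at h1
    rw [hPdef]
    simp only [map_sum, map_mul, map_prod, MvPolynomial.eval_C, MvPolynomial.eval_X]
    rw [← h1]
    refine Finset.sum_congr rfl fun f _ => ?_
    rw [map_smul, smul_eq_mul, mul_comm]
  have hcoef : ∀ ν : I →₀ ℕ,
      ∑ f ∈ (Fintype.piFinset (fun _ : Fin m => J)).filter (fun f => typ f = ν), φ (B f) = 0 := by
    intro ν
    have h := congrArg (MvPolynomial.coeff ν) hP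
    rw [hPdef] at h
    simp only [MvPolynomial.coeff_sum, prod_X_typ, MvPolynomial.coeff_C_mul,
      MvPolynomial.coeff_monomial, MvPolynomial.coeff_zero] at h
    rw [Finset.sum_filter]
    refine Eq.trans (Finset.sum_congr rfl fun f _ => ?_) h
    split_ifs <;> simp
  rw [hxsum, map_sum]
  have hext : ∑ f ∈ a.support, φ (a f • B f) =
      ∑ f ∈ Fintype.piFinset (fun _ : Fin m => J), a f * φ (B f) := by
    have h1 : ∑ f ∈ a.support, φ (a f • B f) = ∑ f ∈ a.support, a f * φ (B f) :=
      Finset.sum_congr rfl fun f _ => by rw [map_smul, smul_eq_mul]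
    rw [h1]
    exact Finset.sum_subset hJ
      (fun f _ hf => by rw [Finsupp.notMem_support_iff.1 hf, zero_mul])
  rw [hext, ← Finset.sum_fiberwise_of_maps_to (g := typ)
    (t := (Fintype.piFinset (fun _ : Fin m => J)).image typ)
    (fun f hf => Finset.mem_image_of_mem _ hf)]
  refine Finset.sum_eq_zero fun ν _ => ?_
  rcases ((Fintype.piFinset (fun _ : Fin m => J)).filter
    (fun f => typ f = ν)).eq_empty_or_nonempty with h | ⟨f₀, hf₀⟩
  · rw [h, Finset.sum_empty]
  · have hf₀' : typ f₀ = ν := (Finset.mem_filter.1 hf₀).2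
    have h2 : ∀ f ∈ (Fintype.piFinset (fun _ : Fin m => J)).filter (fun f => typ f = ν),
        a f * φ (B f) = a f₀ * φ (B f) := by
      intro f hf
      have hf' : typ f = ν := (Finset.mem_filter.1 hf).2
      obtain ⟨σ, hσ⟩ := exists_perm_of_typ_eq f f₀ (hf'.trans hf₀'.symm)
      have h3 : a f = a f₀ := by rw [hσ, ha, hsym σ f₀]
      rw [h3]
    rw [Finset.sum_congr rfl h2, ← Finset.mul_sum, hcoef ν, mul_zero]

/-- Let k be an infinite field, V a k-vector space and m a natural number. Then every symmetric tensor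
in the m-fold tensor power of V — one fixed by every permutation of the factors — is a k-linear
combination of pure powers v ⊗ ⋯ ⊗ v with v in V. (The published statement concerns the ring of
functions of an affine scheme over an infinite field, where it gives the uniqueness of the algebra
map defining the Hilbert-to-Chow morphism for zero-cycles; this row states it for any vector space.) -/
theorem result
    (k V : Type u) [Field k] [Infinite k] [AddCommGroup V] [Module k V] (m : ℕ)
    (x : ⨂[k] _ : Fin m, V)
    (hx : ∀ σ : Equiv.Perm (Fin m), PiTensorProduct.reindex k (fun _ : Fin m => V) σ x = x) :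
    x ∈ Submodule.span k (Set.range fun v : V => PiTensorProduct.tprod k (fun _ : Fin m => v)) := by
  classical
  by_contra hx'
  obtain ⟨φ, hφx, hφW⟩ := Submodule.exists_dual_map_eq_bot_of_notMem hx' inferInstance
  apply hφx
  have hφ0 : ∀ v : V, φ (PiTensorProduct.tprod k (fun _ : Fin m => v)) = 0 := by
    intro v
    have h1 : φ (PiTensorProduct.tprod k (fun _ : Fin m => v)) ∈
        (Submodule.span k (Set.range fun v : V =>
          PiTensorProduct.tprod k (fun _ : Fin m => v))).map φ :=
      Submodule.mem_map_of_mem (Submodule.subset_span ⟨v, rfl⟩)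
    rw [hφW] at h1
    exact (Submodule.mem_bot k).1 h1
  exact main (Module.Basis.ofVectorSpace k V) m x hx φ hφ0

end Groth.Agent.S13115
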