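import Groth.Statements.S5148
import Mathlib
import Groth.Agent.H26.Galois

set_option linter.style.haveILetI false

set_option autoImplicit false
universe u v w
open CategoryTheory PreGaloisCategory
open Pi1

namespace Groth.Agent.S5148

open CategoryTheory.Limits in
/-- For an exact functor H : C ⥤ C' of Galois categories with compatible fibre functors, the induced
homomorphism u of fundamental groups and a connected object X' of C' with a point a' of its fibre
and stabilizer U': the kernel of u lies in U' if and only if some connected subobject of some H(X)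
maps to X'. -/
theorem result {C C' : Type u} [Category.{v} C] [Category.{v} C']
    [GaloisCategory C] [GaloisCategory C'] (H : C ⥤ C') [PreservesFiniteLimits H] [PreservesFiniteColimits H]
    (F' : C' ⥤ FintypeCat.{w}) [FiberFunctor F'] [FiberFunctor (H ⋙ F')] (X' : C') [IsConnected X']
    (a' : F'.obj X') :
    (Pi1X.autWhisker H F').ker ≤ MulAction.stabilizer (Aut F') a' ↔
      ∃ (X : C) (Y' : C') (i : Y' ⟶ H.obj X) (q : Y' ⟶ X'), Mono i ∧ IsConnected Y' := by
  constructor
  · intro hker
    obtain ⟨x₀⟩ : Nonempty (F'.obj (H.obj (⊤_ C))) :=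
      ⟨F'.map (terminal.from X' ≫ (PreservesTerminal.iso H).inv) a'⟩
    obtain ⟨t, ht⟩ := Groth.Agent.H26.Galois.exists_finset_of_stabilizer_le F'
      (ι := Σ X : C, F'.obj (H.obj X)) (fun p => H.obj p.1) (fun p => p.2) X' a' (by
        intro σ hσ
        have hmem : σ ∈ (Pi1X.autWhisker H F').ker := by
          rw [MonoidHom.mem_ker]
          apply Iso.ext
          apply NatTrans.ext
          funext X
          apply FintypeCat.hom_ext
          intro y
          exact hσ ⟨X, y⟩
        exact MulAction.mem_stabilizer_iff.mp (hker hmem))
    obtain ⟨X, x, hx⟩ := Groth.Agent.H26.Galois.exists_common_point F' H x₀ t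
    obtain ⟨Y', i, y, hy, hconn, hmono⟩ := fiber_in_connected_component F' (H.obj X) x
    haveI := hconn
    obtain ⟨q, -⟩ := Groth.Agent.H26.Galois.exists_hom_of_stabilizer_le F' Y' X' y a' (by
      intro σ hσ
      apply ht σ
      intro p hp
      apply hx σ _ p hp
      rw [← hy, mulAction_naturality, hσ])
    exact ⟨X, Y', i, q, hmono, hconn⟩
  · rintro ⟨X, Y', i, q, hmono, hconn⟩ σ hσ
    rw [MonoidHom.mem_ker] at hσ
    rw [MulAction.mem_stabilizer_iff]
    haveI := hconn
    haveI := hmono
    have htriv : ∀ y : F'.obj (H.obj X), σ • y = y := by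
      intro y
      have h2 := congrArg (fun τ : Aut (H ⋙ F') => τ.hom.app X) hσ
      exact ConcreteCategory.congr_hom h2 y
    have hinj : Function.Injective (F'.map i) :=
      ConcreteCategory.injective_of_mono_of_preservesPullback (F'.map i)
    obtain ⟨z, hz⟩ := surjective_of_nonempty_fiber_of_isConnected F' q a'
    have hz' : σ • z = z := by
      apply hinj
      rw [← mulAction_naturality, htriv]
    rw [← hz, mulAction_naturality, hz']

end Groth.Agent.S5148
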