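import Groth.Statements.S1188
import Mathlib
import Groth.Agent.H26.Galois
import Groth.Agent.S5148

set_option linter.style.haveILetI false

set_option autoImplicit false
universe u v w
open CategoryTheory PreGaloisCategory
open Pi1

namespace Groth.Agent.S1188

/-- Let H : C ⥤ C' be an exact functor between Galois categories and F' a fibre functor on C' such that
F' ∘ H is a fibre functor on C; write h : π_1(C', F') → π_1(C, F' ∘ H) for the induced homomorphism
of fundamental groups. Then h is injective if and only if for every connected object X' of C' there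
are an object X of C, an object Y' of C', an epimorphism Y' ⟶ X' and a monomorphism Y' ⟶ H(X). -/
theorem result {C C' : Type u} [Category.{v} C] [Category.{v} C'] [GaloisCategory C] [GaloisCategory C']
    (H : C ⥤ C') [Limits.PreservesFiniteLimits H] [Limits.PreservesFiniteColimits H]
    (F' : C' ⥤ FintypeCat.{w}) [FiberFunctor F'] [FiberFunctor (H ⋙ F')] :
    Function.Injective (Pi1X.autWhisker H F') ↔
      ∀ X' : C', IsConnected X' → ∃ (X : C) (Y' : C') (p : Y' ⟶ X') (q : Y' ⟶ H.obj X), Epi p ∧ Mono q := by
  constructor
  · intro hinj X' hX'
    haveI := hX'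
    obtain ⟨a'⟩ := nonempty_fiber_of_isConnected F' X'
    have hker : (Pi1X.autWhisker H F').ker ≤ MulAction.stabilizer (Aut F') a' := by
      rw [(MonoidHom.ker_eq_bot_iff _).mpr hinj]
      exact bot_le
    obtain ⟨X, Y', i, q, hmono, hconn⟩ := (Groth.Agent.S5148.result H F' X' a').mp hker
    haveI := hconn
    exact ⟨X, Y', q, i, epi_of_nonempty_of_isConnected F' q, hmono⟩
  · intro h
    rw [injective_iff_map_eq_one]
    intro σ hσ
    have htriv : ∀ (X : C) (y : F'.obj (H.obj X)), σ • y = y := by
      intro X y
      have h2 := congrArg (fun τ : Aut (H ⋙ F') => τ.hom.app X) hσ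
      exact ConcreteCategory.congr_hom h2 y
    apply Iso.ext
    apply NatTrans.ext
    funext Z
    apply FintypeCat.hom_ext
    intro z
    obtain ⟨Y, j, y, hy, hconn, -⟩ := fiber_in_connected_component F' Z z
    obtain ⟨X, Y', p, q, hp, hq⟩ := h Y hconn
    obtain ⟨w, hw⟩ := surjective_on_fiber_of_epi F' p y
    have hinj : Function.Injective (F'.map q) :=
      ConcreteCategory.injective_of_mono_of_preservesPullback (F'.map q)
    have hw' : σ • w = w := by
      apply hinj
      rw [← mulAction_naturality, htriv]
    show σ • z = z
    rw [← hy, mulAction_naturality, ← hw, mulAction_naturality, hw']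

end Groth.Agent.S1188
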