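import Groth.Statements.S1190
import Mathlib
import Groth.Agent.H26.Galois
import Groth.Agent.S1187
import Groth.Agent.S1189

set_option linter.style.haveILetI false

set_option autoImplicit false
universe u v w
open CategoryTheory PreGaloisCategory
open Pi1

namespace Groth.Agent.S1190

/-- Let H : C ⥤ C' and H' : C' ⥤ C'' be exact functors between Galois categories, F'' a fibre functor on
C'' with F'' ∘ H' and F'' ∘ H' ∘ H fibre functors, and h', h the induced homomorphisms of
fundamental groups. Then: h is surjective, h ∘ h' is trivial and the kernel of h is the closed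
normal subgroup generated by the image of h', if and only if H is fully faithful and its essential
image consists exactly of those X' in C' for which H'(X') is a finite coproduct of copies of the
final object. -/
theorem result {C C' C'' : Type u} [Category.{v} C] [Category.{v} C'] [Category.{v} C'']
    [GaloisCategory C] [GaloisCategory C'] [GaloisCategory C'']
    (H : C ⥤ C') [Limits.PreservesFiniteLimits H] [Limits.PreservesFiniteColimits H]
    (H' : C' ⥤ C'') [Limits.PreservesFiniteLimits H'] [Limits.PreservesFiniteColimits H']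
    (F'' : C'' ⥤ FintypeCat.{w}) [FiberFunctor F''] [FiberFunctor (H' ⋙ F'')] [FiberFunctor (H ⋙ (H' ⋙ F''))] :
    (Function.Surjective (Pi1X.autWhisker H (H' ⋙ F'')) ∧
      (∀ σ : Aut F'', Pi1X.autWhisker H (H' ⋙ F'') (Pi1X.autWhisker H' F'' σ) = 1) ∧
      (Pi1X.autWhisker H (H' ⋙ F'')).ker = (Subgroup.normalClosure (Set.range (Pi1X.autWhisker H' F''))).topologicalClosure) ↔
    ((H.Full ∧ H.Faithful) ∧
      ∀ X' : C', (∃ X : C, Nonempty (H.obj X ≅ X')) ↔ ∃ n : ℕ, Nonempty (H'.obj X' ≅ ∐ fun _ : Fin n => ⊤_ C'')) := by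
  constructor
  · rintro ⟨hs, ht, hk⟩
    refine ⟨(Groth.Agent.S1187.result H (H' ⋙ F'')).mp hs, fun X' => ⟨?_, ?_⟩⟩
    · rintro ⟨X, ⟨iso⟩⟩
      obtain ⟨n, ⟨e⟩⟩ := (Groth.Agent.S1189.result H H' F'').mp ht X
      exact ⟨n, ⟨(H'.mapIso iso).symm ≪≫ e⟩⟩
    · rintro ⟨n, ⟨e⟩⟩
      apply Groth.Agent.H26.Galois.exists_obj_iso_of_ker_trivial (H' ⋙ F'') H hs X'
      intro σ hσ z
      rw [hk] at hσ
      exact Groth.Agent.H26.Galois.smul_eq_of_mem_closure_normalClosure (H' ⋙ F'') X' _ (by
        rintro _ ⟨ρ, rfl⟩ z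
        exact Groth.Agent.H26.Galois.smul_eq_of_split F'' (H'.obj X') n e ρ z) σ hσ z
  · rintro ⟨hff, hess⟩
    have hs : Function.Surjective (Pi1X.autWhisker H (H' ⋙ F'')) :=
      (Groth.Agent.S1187.result H (H' ⋙ F'')).mpr hff
    have ht : ∀ σ : Aut F'', Pi1X.autWhisker H (H' ⋙ F'') (Pi1X.autWhisker H' F'' σ) = 1 :=
      (Groth.Agent.S1189.result H H' F'').mpr
        (fun X => (hess (H.obj X)).mp ⟨X, ⟨Iso.refl _⟩⟩)
    refine ⟨hs, ht, le_antisymm ?_ ?_⟩
    · haveI := Subgroup.is_normal_topologicalClosure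
        (Subgroup.normalClosure (Set.range (Pi1X.autWhisker H' F'')))
      apply Groth.Agent.H26.Galois.ker_autWhisker_le (H' ⋙ F'') H _
        (Subgroup.isClosed_topologicalClosure _)
      intro X' hX'
      apply (hess X').mpr
      apply Groth.Agent.H26.Galois.exists_split_of_trivial F'' (H'.obj X')
      intro ρ z
      exact hX' (Pi1X.autWhisker H' F'' ρ)
        (Subgroup.le_topologicalClosure _ (Subgroup.subset_normalClosure ⟨ρ, rfl⟩)) z
    · apply Subgroup.topologicalClosure_minimal
      · apply Subgroup.normalClosure_le_normal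
        rintro _ ⟨ρ, rfl⟩
        exact MonoidHom.mem_ker.mpr (ht ρ)
      · have hc := Groth.Agent.H26.Galois.continuous_autWhisker (H' ⋙ F'') H
        rw [MonoidHom.coe_ker]
        exact isClosed_singleton.preimage hc

end Groth.Agent.S1190
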