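import Groth.Statements.S12056
import Mathlib

set_option autoImplicit false
open Red

namespace Groth.Agent.S12056

open PowerSeries

section
variable {R : Type*} [CommRing R]

lemma coeff_subst_trunc {S : Type*} [CommRing S] [Algebra R S] (c : S⟦X⟧) (hc : HasSubst c)
    (n M : ℕ) (hM : ∀ d ≥ M, ∀ n' ≤ n, coeff n' (c ^ d) = 0) (G : R⟦X⟧) (n' : ℕ) (hn' : n' ≤ n) :
    coeff n' (G.subst c) = coeff n' (((trunc M G : Polynomial R) : R⟦X⟧).subst c) := by
  rw [coeff_subst' hc, coeff_subst' hc]
  refine finsum_congr fun d => ?_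
  obtain hd | hd := lt_or_ge d M
  · rw [coeff_coe_trunc_of_lt hd]
  · rw [hM d hd n' hn', smul_zero, smul_zero]

lemma taylor {S : Type*} [CommRing S] [Algebra R S] (F : R⟦X⟧) (b e : S⟦X⟧) (hb : HasSubst b)
    (he : e * e = 0) :
    F.subst (b + e) = F.subst b + e * (d⁄dX R F).subst b := by
  have he' : HasSubst e := ⟨2, by rw [pow_two, ← map_mul, he, map_zero]⟩
  have hbe : HasSubst (b + e) := hb.add he'
  ext n
  obtain ⟨m₁, hm₁⟩ := (hb.eventually_coeff_pow_eq_zero n).exists_forall_of_atTop
  obtain ⟨m₂, hm₂⟩ := (hbe.eventually_coeff_pow_eq_zero n).exists_forall_of_atTop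
  obtain ⟨m, hm1, hm2⟩ : ∃ m, m₁ ≤ m ∧ m₂ ≤ m := ⟨max m₁ m₂, le_max_left _ _, le_max_right _ _⟩
  have h1 : coeff n (F.subst (b + e)) = coeff n (Polynomial.aeval (b + e) (trunc (m + 1) F)) := by
    rw [coeff_subst_trunc (b + e) hbe n (m + 1) (fun d hd => hm₂ d (by omega)) F n le_rfl,
      subst_coe hbe]
  have h2 : coeff n (F.subst b) = coeff n (Polynomial.aeval b (trunc (m + 1) F)) := by
    rw [coeff_subst_trunc b hb n (m + 1) (fun d hd => hm₁ d (by omega)) F n le_rfl, subst_coe hb]
  have h3 : ∀ j ≤ n, coeff j ((d⁄dX R F).subst b) =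
      coeff j (Polynomial.aeval b (Polynomial.derivative (trunc (m + 1) F))) := by
    intro j hj
    rw [coeff_subst_trunc b hb n m (fun d hd => hm₁ d (by omega)) _ j hj, subst_coe hb,
      trunc_derivative]
  rw [map_add, h1, h2, Polynomial.aeval_add_of_sq_eq_zero _ b e (by rw [pow_two]; exact he),
    map_add, mul_comm _ e, coeff_mul, coeff_mul]
  congr 1
  refine Finset.sum_congr rfl fun ⟨i, j⟩ hij => ?_
  rw [h3 j (by have := Finset.HasAntidiagonal.mem_antidiagonal.mp hij; omega)]

lemma extract (P Q P' Q' : R⟦X⟧)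
    (h : PowerSeries.map (algebraMap R (DualNumber R)) P +
        C (DualNumber.eps : DualNumber R) * PowerSeries.map (algebraMap R (DualNumber R)) Q =
      PowerSeries.map (algebraMap R (DualNumber R)) P' +
        C (DualNumber.eps : DualNumber R) * PowerSeries.map (algebraMap R (DualNumber R)) Q') :
    Q = Q' := by
  ext n
  have h1 := congrArg (fun z => (coeff n z).snd) h
  simpa [TrivSqZeroExt.algebraMap_eq_inl] using h1

lemma FE_image (F : R⟦X⟧)
    (hFE : PowerSeries.subst
        (MvPowerSeries.X (0 : Fin 2) + MvPowerSeries.X 1 * PowerSeries.subst (MvPowerSeries.X (0 : Fin 2)) F :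
          MvPowerSeries (Fin 2) R) F =
      PowerSeries.subst (MvPowerSeries.X (0 : Fin 2)) F * PowerSeries.subst (MvPowerSeries.X (1 : Fin 2)) F)
    {D : Type*} [CommRing D] [Algebra R D]
    (x y : D⟦X⟧) (hx : IsNilpotent (constantCoeff x)) (hy : IsNilpotent (constantCoeff y)) :
    F.subst (x + y * F.subst x) = F.subst x * F.subst y := by
  have hb : MvPowerSeries.HasSubst (![x, y] : Fin 2 → MvPowerSeries Unit D) :=
    MvPowerSeries.hasSubst_of_constantCoeff_nilpotent (fun s => by
      fin_cases s
      · exact hx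
      · exact hy)
  have hX0 : PowerSeries.HasSubst (MvPowerSeries.X (0 : Fin 2) : MvPowerSeries (Fin 2) R) :=
    PowerSeries.HasSubst.X 0
  have hX1 : PowerSeries.HasSubst (MvPowerSeries.X (1 : Fin 2) : MvPowerSeries (Fin 2) R) :=
    PowerSeries.HasSubst.X 1
  have hA : PowerSeries.HasSubst (MvPowerSeries.X (0 : Fin 2) +
      MvPowerSeries.X 1 * PowerSeries.subst (MvPowerSeries.X (0 : Fin 2)) F :
        MvPowerSeries (Fin 2) R) := by
    apply PowerSeries.HasSubst.of_constantCoeff_zero
    simp
  have key : ∀ (a : MvPowerSeries (Fin 2) R), PowerSeries.HasSubst a →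
      MvPowerSeries.subst (![x, y] : Fin 2 → MvPowerSeries Unit D) (PowerSeries.subst a F) =
        PowerSeries.subst (MvPowerSeries.subst (![x, y] : Fin 2 → MvPowerSeries Unit D) a) F := by
    intro a ha
    rw [PowerSeries.subst_def, MvPowerSeries.subst_comp_subst_apply ha.const hb]
    rfl
  have h := congrArg (MvPowerSeries.subst (![x, y] : Fin 2 → MvPowerSeries Unit D)) hFE
  rw [key _ hA, MvPowerSeries.subst_mul hb, key _ hX0, key _ hX1, MvPowerSeries.subst_add hb,
    MvPowerSeries.subst_mul hb, key _ hX0, MvPowerSeries.subst_X hb, MvPowerSeries.subst_X hb] at h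
  simp only [Matrix.cons_val_zero, Matrix.cons_val_one] at h
  exact h

theorem main (F : R⟦X⟧) (h0 : constantCoeff F = 1) (ha : IsUnit (coeff 1 F))
    (hFE : PowerSeries.subst
        (MvPowerSeries.X (0 : Fin 2) + MvPowerSeries.X 1 * PowerSeries.subst (MvPowerSeries.X (0 : Fin 2)) F :
          MvPowerSeries (Fin 2) R) F =
      PowerSeries.subst (MvPowerSeries.X (0 : Fin 2)) F * PowerSeries.subst (MvPowerSeries.X (1 : Fin 2)) F) :
    F = 1 + C (coeff 1 F) * X := by
  obtain ⟨a, haa⟩ : ∃ a, a = coeff 1 F := ⟨_, rfl⟩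
  rw [← haa] at ha ⊢
  obtain ⟨E, hEdef⟩ : ∃ E : (DualNumber R)⟦X⟧, E = C (DualNumber.eps : DualNumber R) := ⟨_, rfl⟩
  have hE : E * E = 0 := by rw [hEdef, ← map_mul, DualNumber.eps_mul_eps, map_zero]
  have hEnil : IsNilpotent (constantCoeff E) := ⟨2, by rw [pow_two, ← map_mul, hE, map_zero]⟩
  have hXnil : IsNilpotent (constantCoeff (X : (DualNumber R)⟦X⟧)) := by
    rw [constantCoeff_X]; exact IsNilpotent.zero
  have hsX : ∀ G : R⟦X⟧, G.subst (X : (DualNumber R)⟦X⟧) =
      PowerSeries.map (algebraMap R (DualNumber R)) G := fun G =>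
    (map_algebraMap_eq_subst_X G).symm
  have hder0 : constantCoeff (d⁄dX R F) = a := by
    rw [← coeff_zero_eq_constantCoeff_apply, coeff_derivative, haa]
    simp
  -- u = F(ε)
  have hu : F.subst E = 1 + E * C (algebraMap R (DualNumber R) a) := by
    have h1 := taylor F (0 : (DualNumber R)⟦X⟧) E HasSubst.zero' hE
    rw [zero_add] at h1
    rw [h1, subst_zero_eq_C_constantCoeff, subst_zero_eq_C_constantCoeff, h0, hder0]
    simp
    rfl
  have hFu : IsUnit F := isUnit_iff_constantCoeff.mpr (h0 ▸ isUnit_one)
  -- step A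
  have hA := FE_image F hFE (X : (DualNumber R)⟦X⟧) E hXnil hEnil
  rw [hsX, hu] at hA
  have heA : (E * PowerSeries.map (algebraMap R (DualNumber R)) F) *
      (E * PowerSeries.map (algebraMap R (DualNumber R)) F) = 0 := by
    have : (E * PowerSeries.map (algebraMap R (DualNumber R)) F) *
      (E * PowerSeries.map (algebraMap R (DualNumber R)) F) = (E * E) *
        (PowerSeries.map (algebraMap R (DualNumber R)) F *
          PowerSeries.map (algebraMap R (DualNumber R)) F) := by ring
    rw [this, hE, zero_mul]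
  rw [taylor F X _ HasSubst.X' heA, hsX, hsX] at hA
  have hA' : PowerSeries.map (algebraMap R (DualNumber R)) F +
      C (DualNumber.eps : DualNumber R) *
        PowerSeries.map (algebraMap R (DualNumber R)) (F * d⁄dX R F) =
      PowerSeries.map (algebraMap R (DualNumber R)) F +
      C (DualNumber.eps : DualNumber R) *
        PowerSeries.map (algebraMap R (DualNumber R)) (F * C a) := by
    rw [map_mul, map_mul, PowerSeries.map_C, ← hEdef]
    linear_combination hA
  have hFF : F * d⁄dX R F = F * C a := extract _ _ _ _ hA'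
  have hF' : d⁄dX R F = C a := hFu.mul_left_cancel hFF
  -- step B
  have hB := FE_image F hFE E (X : (DualNumber R)⟦X⟧) hEnil hXnil
  rw [hsX, hu] at hB
  have hrew : E + X * (1 + E * C (algebraMap R (DualNumber R) a)) =
      X + E * PowerSeries.map (algebraMap R (DualNumber R)) (1 + X * C a) := by
    rw [map_add, map_mul, map_one, PowerSeries.map_X, PowerSeries.map_C]
    ring
  have heB : (E * PowerSeries.map (algebraMap R (DualNumber R)) (1 + X * C a)) *
      (E * PowerSeries.map (algebraMap R (DualNumber R)) (1 + X * C a)) = 0 := by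
    have : (E * PowerSeries.map (algebraMap R (DualNumber R)) (1 + X * C a)) *
      (E * PowerSeries.map (algebraMap R (DualNumber R)) (1 + X * C a)) = (E * E) *
        (PowerSeries.map (algebraMap R (DualNumber R)) (1 + X * C a) *
          PowerSeries.map (algebraMap R (DualNumber R)) (1 + X * C a)) := by ring
    rw [this, hE, zero_mul]
  rw [hrew, taylor F X _ HasSubst.X' heB, hsX, hsX, hF', PowerSeries.map_C] at hB
  have hB' : PowerSeries.map (algebraMap R (DualNumber R)) F +
      C (DualNumber.eps : DualNumber R) *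
        PowerSeries.map (algebraMap R (DualNumber R)) ((1 + X * C a) * C a) =
      PowerSeries.map (algebraMap R (DualNumber R)) F +
      C (DualNumber.eps : DualNumber R) *
        PowerSeries.map (algebraMap R (DualNumber R)) (C a * F) := by
    rw [map_mul, map_mul, PowerSeries.map_C, ← hEdef]
    linear_combination hB
  have hfin : (1 + X * C a) * C a = C a * F := extract _ _ _ _ hB'
  have hCu : IsUnit (C a : R⟦X⟧) := ha.map (C (R := R))
  have : C a * (1 + X * C a) = C a * F := by rw [← hfin]; ring
  have h2 := hCu.mul_left_cancel this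
  rw [← h2]
  ring

end

/-- In formal-power-series form, let R be a commutative ring and F ∈ R⟦X⟧ with constant term 1 whose
linear coefficient a is a unit of R. Suppose that in R⟦X₀, X₁⟧ one has F(X₀ + X₁ · F(X₀)) = F(X₀) ·
F(X₁) (the functional equation F(x + y F(x)) = F(x) F(y)). Then F = 1 + a X. (The published
statement concerns a morphism to the multiplicative group from an open neighbourhood of the zero
section in the additive group over a base scheme, the identity holding on an open neighbourhood of
the origin of the plane on which all terms are defined, with a the derivative at 0; this row states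
it for formal power series over a ring.) -/
theorem result (R : Type) [CommRing R] (F : PowerSeries R)
    (h0 : PowerSeries.constantCoeff F = 1) (ha : IsUnit (PowerSeries.coeff 1 F))
    (hFE : PowerSeries.subst
        (MvPowerSeries.X (0 : Fin 2) + MvPowerSeries.X 1 * PowerSeries.subst (MvPowerSeries.X (0 : Fin 2)) F :
          MvPowerSeries (Fin 2) R) F =
      PowerSeries.subst (MvPowerSeries.X (0 : Fin 2)) F * PowerSeries.subst (MvPowerSeries.X (1 : Fin 2)) F) :
    F = 1 + PowerSeries.C (PowerSeries.coeff 1 F) * PowerSeries.X := by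
  exact main F h0 ha hFE

end Groth.Agent.S12056
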