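import Groth.Statements.S12058
import Mathlib

set_option autoImplicit false
universe w v u
open CategoryTheory CategoryTheory.Limits CategoryTheory.Abelian
open SGA3

namespace Groth.Agent.S12058

/-- In an abelian category, let 0 → A' → A → A'' → 0 be a short exact sequence, φ : A' ⟶ Q a morphism
and π : A'' ⟶ P an epimorphism with kernel C. Consider the quadruples (B, f, g, h) with 0 → Q → B →
P → 0 short exact (maps f, g) and h : A ⟶ B such that the squares commute: (A' → A → B) = (A' → Q →
B) and (A → B → P) = (A → A'' → P). Such a quadruple exists if and only if the image in Ext¹(C, Q)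
of the class of the given extension in Ext¹(A'', A') (push forward along φ, pull back along the
inclusion C → A'') is zero. -/
theorem result {C : Type u} [Category.{v} C] [Abelian C]
    [HasExt.{w} C] {S : ShortComplex C} (hS : S.ShortExact) {Q P : C} (φ : S.X₁ ⟶ Q) (π : S.X₃ ⟶ P) [Epi π] :
    (∃ (B : C) (f : Q ⟶ B) (g : B ⟶ P) (h : S.X₂ ⟶ B) (w : f ≫ g = 0),
        (ShortComplex.mk f g w).ShortExact ∧ S.f ≫ h = φ ≫ f ∧ h ≫ g = S.g ≫ π) ↔
      (Ext.mk₀ (kernel.ι π)).comp (hS.extClass.comp (Ext.mk₀ φ) (add_zero 1)) (zero_add 1) = 0 := by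
  constructor
  · rintro ⟨B, f, g, h, w, hT, h1, h2⟩
    let α : S ⟶ ShortComplex.mk f g w :=
      { τ₁ := φ, τ₂ := h, τ₃ := π, comm₁₂ := h1.symm, comm₂₃ := h2 }
    have nat' : hS.extClass.comp (Ext.mk₀ φ) (add_zero 1) =
        (Ext.mk₀ π).comp hT.extClass (zero_add 1) :=
      ShortComplex.ShortExact.extClass_naturality hS hT α
    rw [nat', Ext.mk₀_comp_mk₀_assoc, kernel.condition, Ext.mk₀_zero, Ext.zero_comp]
  · intro H
    haveI : Epi S.g := hS.epi_g
    haveI : Mono S.f := hS.mono_f
    set ρ : S.X₂ ⟶ P := S.g ≫ π with hρ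
    haveI : Epi ρ := epi_comp _ _
    let j : kernel ρ ⟶ S.X₂ := kernel.ι ρ
    have hjρ : j ≫ ρ = 0 := kernel.condition ρ
    let i' : S.X₁ ⟶ kernel ρ :=
      kernel.lift ρ S.f (by rw [hρ, ← Category.assoc, S.zero, zero_comp])
    have hi'j : i' ≫ j = S.f := kernel.lift_ι _ _ _
    let p' : kernel ρ ⟶ kernel π :=
      kernel.lift π (j ≫ S.g) (by rw [Category.assoc]; exact hjρ)
    have hp'ι : p' ≫ kernel.ι π = j ≫ S.g := kernel.lift_ι _ _ _
    have hzero : i' ≫ p' = 0 := by
      rw [← cancel_mono (kernel.ι π), Category.assoc, hp'ι, ← Category.assoc, hi'j, S.zero,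
        zero_comp]
    have hS' : (ShortComplex.mk i' p' hzero).ShortExact := by
      haveI : Mono i' := mono_of_mono_fac hi'j
      haveI : Epi p' := by
        rw [epi_iff_surjective_up_to_refinements]
        intro T y
        obtain ⟨T', t, ht, x₀, hx₀⟩ :=
          surjective_up_to_refinements_of_epi S.g (y ≫ kernel.ι π)
        have hx₀ρ : x₀ ≫ ρ = 0 := by
          rw [hρ, ← Category.assoc, ← hx₀, Category.assoc, Category.assoc, kernel.condition,
            comp_zero, comp_zero]
        refine ⟨T', t, ht, kernel.lift ρ x₀ hx₀ρ, ?_⟩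
        rw [← cancel_mono (kernel.ι π), Category.assoc, Category.assoc, hp'ι,
          ← Category.assoc (kernel.lift ρ x₀ hx₀ρ), kernel.lift_ι, ← hx₀]
      refine ShortComplex.ShortExact.mk' ?_ ‹_› ‹_›
      rw [ShortComplex.exact_iff_exact_up_to_refinements]
      intro T x hx
      dsimp at x hx ⊢
      have hxj : (x ≫ j) ≫ S.g = 0 := by
        rw [Category.assoc, ← hp'ι, ← Category.assoc, hx, zero_comp]
      obtain ⟨T', t, ht, a, ha⟩ := hS.exact.exact_up_to_refinements (x ≫ j) hxj
      refine ⟨T', t, ht, a, ?_⟩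
      rw [← cancel_mono j, Category.assoc, Category.assoc, hi'j, ha]
    let β : ShortComplex.mk i' p' hzero ⟶ S :=
      { τ₁ := 𝟙 _, τ₂ := j, τ₃ := kernel.ι π,
        comm₁₂ := by dsimp; rw [Category.id_comp, hi'j]
        comm₂₃ := by dsimp; exact hp'ι.symm }
    have nat := ShortComplex.ShortExact.extClass_naturality hS' hS β
    have nat' : hS'.extClass = (Ext.mk₀ (kernel.ι π)).comp hS.extClass (zero_add 1) := by
      rw [← nat]
      exact (Ext.comp_mk₀_id _).symm
    have H' : hS'.extClass.comp (Ext.mk₀ φ) (add_zero 1) = 0 := by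
      rw [nat', Ext.comp_assoc_of_third_deg_zero]
      exact H
    obtain ⟨x₂, hx₂⟩ := Ext.contravariant_sequence_exact₁ hS' Q (Ext.mk₀ φ) (add_zero 1) H'
    obtain ⟨ψ, rfl⟩ := (Ext.mk₀_bijective _ _).2 x₂
    have hψ : i' ≫ ψ = φ := by
      apply (Ext.mk₀_bijective _ _).1
      rw [← Ext.mk₀_comp_mk₀]
      exact hx₂
    have sq : IsPushout j ψ (pushout.inl j ψ) (pushout.inr j ψ) := IsPushout.of_hasPushout j ψ
    let g : pushout j ψ ⟶ P := pushout.desc ρ 0 (by rw [hjρ, comp_zero])
    have hinl : pushout.inl j ψ ≫ g = ρ := pushout.inl_desc _ _ _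
    have hinr : pushout.inr j ψ ≫ g = 0 := pushout.inr_desc _ _ _
    refine ⟨pushout j ψ, pushout.inr j ψ, g, pushout.inl j ψ, hinr, ?_, ?_, hinl⟩
    · haveI : Mono (pushout.inr j ψ) := inferInstance
      haveI : Epi g := epi_of_epi_fac hinl
      refine ShortComplex.ShortExact.mk' ?_ ‹_› ‹_›
      rw [ShortComplex.exact_iff_exact_up_to_refinements]
      intro T x hx
      dsimp at x hx ⊢
      obtain ⟨T', t, ht, a, q, hxa⟩ := sq.hom_eq_add_up_to_refinements x
      have ha : a ≫ ρ = 0 := by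
        have h3 := congrArg (· ≫ g) hxa
        simp only [Category.assoc, hx, comp_zero, Preadditive.add_comp, hinl, hinr,
          add_zero] at h3
        exact h3.symm
      refine ⟨T', t, ht, kernel.lift ρ a ha ≫ ψ + q, ?_⟩
      rw [hxa, Preadditive.add_comp, Category.assoc, ← sq.w, ← Category.assoc, kernel.lift_ι]
    · rw [← hi'j, Category.assoc, sq.w, ← Category.assoc, hψ]

end Groth.Agent.S12058
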