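import Mathlib
import Groth.Statements.S12059
import Groth.Agent.Lib.Helper9.QuotBasis
-- import your own Groth.Agent.* helpers here

set_option autoImplicit false
universe u
open CategoryTheory CategoryTheory.Limits AlgebraicGeometry
open SGA1

namespace Groth.Agent.S12059


open AlgebraicGeometry CategoryTheory in
theorem key' (R : CommRingCat.{u}) (τ : R ⟶ R) (e : (⊤ : (Spec R).Opens) ≤ (Spec.map τ) ⁻¹ᵁ ⊤)
    (s : Γ(Spec R, ⊤)) :
    (Scheme.ΓSpecIso R).hom.hom (((Spec.map τ).appLE ⊤ ⊤ e).hom s) =
      τ.hom ((Scheme.ΓSpecIso R).hom.hom s) := by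
  have h1 : (Spec.map τ).appLE ⊤ ⊤ e = (Spec.map τ).appTop := Scheme.Hom.appLE_eq_app _
  rw [h1]
  exact congrArg (fun φ => φ.hom s) (Scheme.ΓSpecIso_naturality τ)

/-- Let a finite group G act on a commutative ring A by ring automorphisms σ_g, and let B → A be
injective, G-equivariant for the trivial action on B, with image containing all G-invariants (so B
is the ring of invariants A^G). Let ρ be an action of G on Spec A by scheme automorphisms whose
automorphisms are exactly the maps Spec(σ_g). Then Spec A ⟶ Spec B is a quotient of Spec A by G, and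
the structure sheaf of Spec B is the sheaf of G-invariants of the direct image of the structure
sheaf of Spec A: the map is affine and G-invariant, and for every open U of Spec B the sections of
the structure sheaf of Spec B over U map injectively onto the G-invariant sections of the structure
sheaf of Spec A over the inverse image of U. -/
theorem result (G : Type u) [Group G] [Finite G] (A B : Type u) [CommRing A] [CommRing B]
    [Algebra B A] [MulSemiringAction G A] [SMulCommClass G B A] [Algebra.IsInvariant B A G] [FaithfulSMul B A]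
    (ρ : G →* Aut (Spec (CommRingCat.of A)))
    (hρ : Set.range (fun g : G => (ρ g).hom) =
      Set.range (fun g : G => Spec.map (CommRingCat.ofHom (MulSemiringAction.toRingHom G A g)))) :
    SGA1.IsQuot ρ (Spec.map (CommRingCat.ofHom (algebraMap B A))) := by
  obtain ⟨p, hp⟩ : ∃ p, p = Spec.map (CommRingCat.ofHom (algebraMap B A)) := ⟨_, rfl⟩
  rw [← hp]
  have hρ1 : ∀ g : G, ∃ g' : G, (ρ g).hom =
      Spec.map (CommRingCat.ofHom (MulSemiringAction.toRingHom G A g')) := by
    intro g
    have h0 : (ρ g).hom ∈ Set.range (fun g : G => (ρ g).hom) := ⟨g, rfl⟩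
    rw [hρ] at h0
    obtain ⟨g', hg'⟩ := h0
    exact ⟨g', hg'.symm⟩
  have hρ2 : ∀ g' : G, ∃ g : G, (ρ g).hom =
      Spec.map (CommRingCat.ofHom (MulSemiringAction.toRingHom G A g')) := by
    intro g'
    have h0 : Spec.map (CommRingCat.ofHom (MulSemiringAction.toRingHom G A g')) ∈
        Set.range (fun g : G => Spec.map (CommRingCat.ofHom (MulSemiringAction.toRingHom G A g))) :=
      ⟨g', rfl⟩
    rw [← hρ] at h0
    exact h0
  have hinv : ∀ g : G, (ρ g).hom ≫ p = p := by
    intro g
    obtain ⟨g', hg'⟩ := hρ1 g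
    rw [hg', hp, ← Spec.map_comp]
    congr 1
    ext b
    exact smul_algebraMap g' b
  have hnat := Scheme.ΓSpecIso_naturality (CommRingCat.ofHom (algebraMap B A))
  rw [← hp] at hnat
  have hnat' : ∀ t : Γ(Spec (CommRingCat.of B), ⊤),
      (Scheme.ΓSpecIso (CommRingCat.of A)).hom.hom ((p.app ⊤).hom t) =
        algebraMap B A ((Scheme.ΓSpecIso (CommRingCat.of B)).hom.hom t) :=
    fun t => congrArg (fun φ => φ.hom t) hnat
  have hinjA : Function.Injective (Scheme.ΓSpecIso (CommRingCat.of A)).hom.hom :=
    (Scheme.ΓSpecIso (CommRingCat.of A)).commRingCatIsoToRingEquiv.injective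
  have hinjB : Function.Injective (Scheme.ΓSpecIso (CommRingCat.of B)).hom.hom :=
    (Scheme.ΓSpecIso (CommRingCat.of B)).commRingCatIsoToRingEquiv.injective
  apply Groth.Agent.Helper9.QuotBasis.isQuot_of_isAffine ρ p hinv
  · intro s t hst
    apply hinjB
    apply FaithfulSMul.algebraMap_injective B A
    rw [← hnat', ← hnat', hst]
  · intro s hs
    have ha : ∀ g' : G, g' • ((Scheme.ΓSpecIso (CommRingCat.of A)).hom.hom s) =
        (Scheme.ΓSpecIso (CommRingCat.of A)).hom.hom s := by
      intro g'
      obtain ⟨g, hg⟩ := hρ2 g'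
      have h6 := hs g
      unfold Groth.Agent.Helper9.QuotAct.σ at h6
      rw [Groth.Agent.Helper9.QuotAct.appLE_of_eq hg] at h6
      have h7 := key' (CommRingCat.of A) (CommRingCat.ofHom (MulSemiringAction.toRingHom G A g'))
        (fun _ _ => trivial) s
      have h8 : ((Spec.map (CommRingCat.ofHom (MulSemiringAction.toRingHom G A g'))).appLE ⊤ ⊤
          (fun _ _ => trivial)).hom s = s := h6
      rw [h8] at h7
      exact h7.symm
    obtain ⟨b, hb⟩ := Algebra.IsInvariant.isInvariant (A := B) (B := A) (G := G) _ ha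
    refine ⟨(Scheme.ΓSpecIso (CommRingCat.of B)).inv.hom b, ?_⟩
    apply hinjA
    rw [hnat']
    have h9 : (Scheme.ΓSpecIso (CommRingCat.of B)).hom.hom
        ((Scheme.ΓSpecIso (CommRingCat.of B)).inv.hom b) = b :=
      congrArg (fun φ => φ.hom b) (Iso.inv_hom_id (Scheme.ΓSpecIso (CommRingCat.of B)))
    rw [h9, hb]

end Groth.Agent.S12059
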