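import Groth.Statements.S1206
import Groth.Agent.H25.OkaFam
import Mathlib.RingTheory.Nakayama
import Mathlib.RingTheory.LocalRing.MaximalIdeal.Basic

set_option autoImplicit false
universe u
open FlatMor

namespace Groth.Agent.S1206

/-- Let A be a local domain which is not a field and 𝒮 a set of finitely generated ideals of A, closed
under products, such that the union of the closed sets V(I), I ∈ 𝒮, is exactly the set of nonzero
primes (every nonzero prime contains a member of 𝒮 and no member is zero). Then the intersection of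
all members of 𝒮 is zero. -/
theorem result (A : Type u) [CommRing A] [IsDomain A] [IsLocalRing A] (hA : ¬ IsField A)
    (𝒮 : Set (Ideal A)) (hfg : ∀ I ∈ 𝒮, I.FG) (hmul : ∀ I ∈ 𝒮, ∀ J ∈ 𝒮, I * J ∈ 𝒮)
    (hne : ∀ I ∈ 𝒮, I ≠ ⊥) (hcov : ∀ (p : Ideal A), p.IsPrime → p ≠ ⊥ → ∃ I ∈ 𝒮, I ≤ p) :
    sInf 𝒮 = ⊥ := by
  rw [eq_bot_iff]
  intro x hx
  rw [Ideal.mem_bot]
  by_contra hx0
  have hm : IsLocalRing.maximalIdeal A ≠ ⊥ := fun h =>
    hA (IsLocalRing.isField_iff_maximalIdeal_eq.mpr h)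
  obtain ⟨I₀, hI₀, hI₀m⟩ := hcov _ (IsLocalRing.maximalIdeal.isMaximal A).isPrime hm
  have hxI : ∀ I ∈ 𝒮, x ∈ I := fun I hI => (Submodule.mem_sInf.mp hx) I hI
  have hxm : x ∈ IsLocalRing.maximalIdeal A := hI₀m (hxI I₀ hI₀)
  have key : ∃ I ∈ 𝒮, I ≤ Ideal.span {x} := by
    apply Groth.Agent.H25.okaFam_exists_le 𝒮 hfg hmul ⟨I₀, hI₀⟩
    intro p hp hxp
    apply hcov p hp
    intro h
    apply hx0
    have h1 : x ∈ p := hxp (Ideal.subset_span rfl)
    rw [h] at h1
    exact h1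
  obtain ⟨I, hI, hIx⟩ := key
  have h2 : Ideal.span {x} ≤ I * I := by
    rw [Ideal.span_le, Set.singleton_subset_iff]
    exact hxI _ (hmul I hI I hI)
  have hIm : I ≤ IsLocalRing.maximalIdeal A := hIx.trans (by
    rw [Ideal.span_le, Set.singleton_subset_iff]; exact hxm)
  have hI0 : I = ⊥ :=
    Submodule.eq_bot_of_le_smul_of_le_jacobson_bot I I (hfg I hI) (hIx.trans h2)
      (by rw [IsLocalRing.jacobson_eq_maximalIdeal ⊥ bot_ne_top]; exact hIm)
  exact hne I hI hI0

end Groth.Agent.S1206
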