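import Groth.Statements.S12067
import Mathlib
import Groth.Agent.Lib.Helper7.Unip7
-- import your own Groth.Agent.* helpers here

set_option autoImplicit false
universe u
open TensorProduct
open SGA3t2b

namespace Groth.Agent.S12067

open TensorProduct Groth.Agent.H29 Groth.Agent.Helper4.LinRed Groth.Agent.Helper7.Unip7

/-- In Hopf-algebra form, let k be a field and A a finitely generated commutative Hopf algebra over k
(an affine algebraic group G) which is unipotent: every nonzero finite-dimensional comodule has a
nonzero fixed vector. Then every finite-dimensional comodule V (a finite-dimensional representation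
of G), of dimension n, has a flag of subcomodules 0 = V_0 ⊂ V_1 ⊂ ⋯ ⊂ V_n = V with one-dimensional
successive quotients on which G acts trivially: for v ∈ V_(i+1) the coaction of v is congruent to v
⊗ 1 modulo V_i ⊗ A. -/
theorem result (k : Type u) [Field k] (A : Type u) [CommRing A]
    [HopfAlgebra k A] [Algebra.FiniteType k A] (hU : HopfRep.IsUnipotent k A)
    (V : Type u) [AddCommGroup V] [Module k V] [HopfRep.Comod k A V] [Module.Finite k V] :
    ∃ F : Fin (Module.finrank k V + 1) → Submodule k V,
      F 0 = ⊥ ∧ F (Fin.last _) = ⊤ ∧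
      (∀ i : Fin (Module.finrank k V + 1), HopfRep.IsSubcomod (k := k) (A := A) (F i)) ∧
      ∀ i : Fin (Module.finrank k V), F i.castSucc ≤ F i.succ ∧
        Module.finrank k ↥(F i.succ) = Module.finrank k ↥(F i.castSucc) + 1 ∧
        ∀ v ∈ F i.succ, HopfRep.Comod.coact (k := k) (A := A) v - v ⊗ₜ[k] (1 : A) ∈
          LinearMap.range ((F i.castSucc).subtype.rTensor A) := by
  obtain ⟨G, h0, htop, hmono, hsub, hrank, hco⟩ := exists_unip_chain hU (V := V)
  refine ⟨fun i => G i.val, h0, htop, fun i => hsub _, ?_⟩
  intro i
  have hi := i.2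
  have h1 : (i.castSucc).val = i.val := rfl
  have h2 : (i.succ).val = i.val + 1 := rfl
  refine ⟨?_, ?_, ?_⟩
  · show G (i.castSucc).val ≤ G (i.succ).val
    rw [h1, h2]
    exact hmono (Nat.le_succ _)
  · show Module.finrank k ↥(G (i.succ).val) = Module.finrank k ↥(G (i.castSucc).val) + 1
    rw [h1, h2, hrank _ (by omega), hrank _ (by omega)]
  · intro v hv
    have hv' : v ∈ G (i.val + 1) := hv
    exact (mem_next_iff (G i.val) v).mpr (hco i.val v hv')

end Groth.Agent.S12067
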