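import Groth.Statements.S12071
import Mathlib

set_option autoImplicit false
open RootD

namespace Groth.Agent.S12071

/-- Let G be the group generated by two elements x, y subject to x² = y² = 1 (the infinite dihedral
group; here Mathlib's DihedralGroup 0 with x = sr 0 and y = sr 1, so that x y = r 1). Then every
normal subgroup of G containing neither x nor y is generated by an element (x y)^n with n > 0; such
a subgroup is cyclic, generated by r n. (The published statement does not exclude the trivial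
subgroup, for which no n > 0 works; this row assumes the subgroup nontrivial.) -/
theorem result (N : Subgroup (DihedralGroup 0)) [N.Normal]
    (hN : N ≠ ⊥) (hx : DihedralGroup.sr (0 : ZMod 0) ∉ N) (hy : DihedralGroup.sr (1 : ZMod 0) ∉ N) :
    ∃ n : ℕ, 0 < n ∧ N = Subgroup.zpowers (DihedralGroup.r (n : ZMod 0)) := by
  classical
  have hsr : ∀ i : ZMod 0, DihedralGroup.sr i ∉ N := by
    intro i hi
    obtain ⟨z, rfl⟩ : ∃ z : ℤ, (Int.cast z : ZMod 0) = i := ⟨ZMod.cast i, ZMod.intCast_zmod_cast i⟩
    obtain ⟨j, rfl | rfl⟩ := Int.even_or_odd' z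
    · apply hx
      have h1 := ‹N.Normal›.conj_mem _ hi (DihedralGroup.r (Int.cast j : ZMod 0))
      have h2 : DihedralGroup.r (Int.cast j : ZMod 0) * DihedralGroup.sr (Int.cast (2 * j) : ZMod 0) *
          (DihedralGroup.r (Int.cast j : ZMod 0))⁻¹ = DihedralGroup.sr (0 : ZMod 0) := by
        rw [DihedralGroup.inv_r, DihedralGroup.r_mul_sr, DihedralGroup.sr_mul_r]
        congr 1
        rw [Int.cast_mul, Int.cast_ofNat]
        ring
      rwa [h2] at h1
    · apply hy
      have h1 := ‹N.Normal›.conj_mem _ hi (DihedralGroup.r (Int.cast j : ZMod 0))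
      have h2 : DihedralGroup.r (Int.cast j : ZMod 0) * DihedralGroup.sr (Int.cast (2 * j + 1) : ZMod 0) *
          (DihedralGroup.r (Int.cast j : ZMod 0))⁻¹ = DihedralGroup.sr (1 : ZMod 0) := by
        rw [DihedralGroup.inv_r, DihedralGroup.r_mul_sr, DihedralGroup.sr_mul_r]
        congr 1
        rw [Int.cast_add, Int.cast_mul, Int.cast_ofNat, Int.cast_one]
        ring
      rwa [h2] at h1
  let H : AddSubgroup ℤ :=
    { carrier := {z | DihedralGroup.r (Int.cast z : ZMod 0) ∈ N}
      zero_mem' := by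
        show DihedralGroup.r (Int.cast (0 : ℤ) : ZMod 0) ∈ N
        rw [Int.cast_zero, DihedralGroup.r_zero]; exact N.one_mem
      add_mem' := by
        intro a b ha hb
        show DihedralGroup.r (Int.cast (a + b : ℤ) : ZMod 0) ∈ N
        rw [Int.cast_add, ← DihedralGroup.r_mul_r]
        exact N.mul_mem ha hb
      neg_mem' := by
        intro a ha
        show DihedralGroup.r (Int.cast (-a : ℤ) : ZMod 0) ∈ N
        rw [Int.cast_neg, ← DihedralGroup.inv_r]
        exact N.inv_mem ha }
  obtain ⟨a, ha⟩ := Int.subgroup_cyclic H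
  have hmemH : ∀ z : ℤ, z ∈ H ↔ DihedralGroup.r (Int.cast z : ZMod 0) ∈ N := fun z => Iff.rfl
  have hNr : ∀ g ∈ N, ∃ z : ℤ, z ∈ H ∧ g = DihedralGroup.r (Int.cast z : ZMod 0) := by
    intro g hg
    cases g with
    | r i =>
      refine ⟨ZMod.cast i, ?_, ?_⟩
      · rw [hmemH, ZMod.intCast_zmod_cast]; exact hg
      · rw [ZMod.intCast_zmod_cast]
    | sr i => exact absurd hg (hsr i)
  have ha0 : a ≠ 0 := by
    rintro rfl
    apply hN
    rw [eq_bot_iff]
    intro g hg
    obtain ⟨z, hz, rfl⟩ := hNr g hg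
    rw [ha] at hz
    have : z = 0 := by
      rw [← AddSubgroup.zmultiples_eq_closure, AddSubgroup.mem_zmultiples_iff] at hz
      obtain ⟨k, hk⟩ := hz
      rw [← hk, smul_zero]
    rw [this, Int.cast_zero, DihedralGroup.r_zero]
    exact Subgroup.mem_bot.mpr rfl
  refine ⟨a.natAbs, Int.natAbs_pos.mpr ha0, ?_⟩
  have hcast : (Nat.cast a.natAbs : ZMod 0) = (Int.cast (a.natAbs : ℤ) : ZMod 0) :=
    (Int.cast_natCast _).symm
  ext g
  constructor
  · intro hg
    obtain ⟨z, hz, rfl⟩ := hNr g hg
    rw [ha, ← AddSubgroup.zmultiples_eq_closure, ← Int.zmultiples_natAbs,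
      AddSubgroup.mem_zmultiples_iff] at hz
    obtain ⟨k, rfl⟩ := hz
    rw [Subgroup.mem_zpowers_iff]
    refine ⟨k, ?_⟩
    rw [DihedralGroup.r_zpow, hcast]
    congr 1
    rw [smul_eq_mul, Int.cast_mul, mul_comm]
  · intro hg
    rw [Subgroup.mem_zpowers_iff] at hg
    obtain ⟨k, rfl⟩ := hg
    rw [DihedralGroup.r_zpow, hcast]
    have : (k * (a.natAbs : ℤ)) ∈ H := by
      rw [ha, ← AddSubgroup.zmultiples_eq_closure, ← Int.zmultiples_natAbs,
        AddSubgroup.mem_zmultiples_iff]
      exact ⟨k, by simp⟩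
    rw [hmemH] at this
    convert this using 2
    rw [Int.cast_mul, mul_comm]

end Groth.Agent.S12071
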