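import Groth.Statements.S12077
import Mathlib

set_option autoImplicit false
universe u
open Polynomial
open CAlg

namespace Groth.Agent.S12077

section helpers
open Polynomial

/-- index type: monic polynomials of positive degree -/
abbrev Idx (A : Type u) [CommRing A] := {P : Polynomial A // P.Monic ∧ 0 < P.natDegree}

/-- the ideal of relations -/
noncomputable abbrev J (A : Type u) [CommRing A] : Ideal (MvPolynomial (Idx A) A) :=
  Ideal.span (Set.range fun P : Idx A => Polynomial.aeval (MvPolynomial.X (R := A) P) P.1)

/-- the ring obtained by adjoining a root of every monic polynomial of positive degree -/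
abbrev T (A : Type u) [CommRing A] := MvPolynomial (Idx A) A ⧸ J A

/-- the tautological root -/
noncomputable def xr (A : Type u) [CommRing A] (P : Idx A) : T A :=
  Ideal.Quotient.mk (J A) (MvPolynomial.X P)

theorem aeval_xr (A : Type u) [CommRing A] (P : Idx A) : Polynomial.aeval (xr A P) P.1 = 0 := by
  have h := Polynomial.aeval_algHom_apply (Ideal.Quotient.mkₐ A (J A))
    (MvPolynomial.X (R := A) P) P.1
  show Polynomial.aeval (Ideal.Quotient.mkₐ A (J A) (MvPolynomial.X P)) P.1 = 0
  rw [h]
  exact Ideal.Quotient.eq_zero_iff_mem.mpr (Ideal.subset_span ⟨P, rfl⟩)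

lemma of_injective_of_monic {C : Type u} [CommRing C] (g : C[X]) (hg : g.Monic)
    (hd : 0 < g.natDegree) : Function.Injective (AdjoinRoot.of g) := by
  rw [injective_iff_map_eq_zero]
  intro c hc
  have h0 : AdjoinRoot.mk g (Polynomial.C c) = 0 := by
    rw [AdjoinRoot.mk_C]
    exact hc
  have h1 : g ∣ Polynomial.C c := AdjoinRoot.mk_eq_zero.1 h0
  by_contra hne
  have h2 : Polynomial.C c ≠ 0 := by rwa [Ne, Polynomial.C_eq_zero]
  exact hg.not_dvd_of_natDegree_lt h2 (by rw [Polynomial.natDegree_C]; exact hd) h1

theorem exists_roots (A : Type u) [CommRing A] (s : Finset (Idx A)) :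
    ∃ (C : Type u) (_ : CommRing C) (_ : Algebra A C), Function.Injective (algebraMap A C) ∧
      ∀ P ∈ s, ∃ c : C, Polynomial.aeval c P.1 = 0 := by
  classical
  induction s using Finset.induction_on with
  | empty => exact ⟨A, inferInstance, Algebra.id A, fun _ _ h => h, by simp⟩
  | insert P s hP ih =>
    obtain ⟨C, _, _, hinj, hroots⟩ := ih
    obtain ⟨g, hgdef⟩ : ∃ g : Polynomial C, g = P.1.map (algebraMap A C) := ⟨_, rfl⟩
    have hg : g.Monic := hgdef ▸ P.2.1.map _
    have hd : 0 < g.natDegree := by
      rw [hgdef, Polynomial.natDegree_map_eq_of_injective hinj]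
      exact P.2.2
    refine ⟨AdjoinRoot g, inferInstance, inferInstance, ?_, ?_⟩
    · rw [AdjoinRoot.algebraMap_eq']
      exact (of_injective_of_monic g hg hd).comp hinj
    · intro Q hQ
      rcases Finset.mem_insert.1 hQ with rfl | hQs
      · refine ⟨AdjoinRoot.root g, ?_⟩
        rw [Polynomial.aeval_def, AdjoinRoot.algebraMap_eq', ← Polynomial.eval₂_map, ← hgdef]
        exact AdjoinRoot.eval₂_root g
      · obtain ⟨c, hc⟩ := hroots Q hQs
        refine ⟨AdjoinRoot.of g c, ?_⟩
        have h1 := Polynomial.aeval_algebraMap_apply (AdjoinRoot g) c Q.1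
        rw [AdjoinRoot.algebraMap_eq] at h1
        rw [h1, hc, map_zero]

theorem algebraMap_T_injective (A : Type u) [CommRing A] :
    Function.Injective (algebraMap A (T A)) := by
  classical
  rw [injective_iff_map_eq_zero]
  intro a ha
  have hmem : (MvPolynomial.C a : MvPolynomial (Idx A) A) ∈ J A :=
    Ideal.Quotient.eq_zero_iff_mem.1 ha
  obtain ⟨c, hc⟩ := Finsupp.mem_ideal_span_range_iff_exists_finsupp.1 hmem
  obtain ⟨C, _, _, hinj, hroots⟩ := exists_roots A c.support
  let r : Idx A → C := fun P => if h : P ∈ c.support then Classical.choose (hroots P h) else 0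
  have hr : ∀ P ∈ c.support, Polynomial.aeval (r P) P.1 = 0 := by
    intro P hP
    simp only [r, dif_pos hP]
    exact Classical.choose_spec (hroots P hP)
  have hφ := congrArg (MvPolynomial.aeval r) hc
  rw [MvPolynomial.aeval_C, Finsupp.sum, map_sum] at hφ
  have hz : ∑ P ∈ c.support, (MvPolynomial.aeval r)
      (c P * Polynomial.aeval (MvPolynomial.X (R := A) P) P.1) = 0 := by
    apply Finset.sum_eq_zero
    intro P hP
    rw [map_mul, ← Polynomial.aeval_algHom_apply, MvPolynomial.aeval_X, hr P hP, mul_zero]
  rw [hz] at hφ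
  exact (injective_iff_map_eq_zero _).1 hinj a hφ.symm

end helpers

section Colim
open Polynomial

variable (G : ℕ → Type u) [∀ n, CommRing (G n)] (tr : ∀ n, G n →+* G (n + 1))

/-- transition maps as functions -/
def trFun (m n : ℕ) (h : m ≤ n) : G m → G n := Nat.leRecOn h (fun {k} x => tr k x)

lemma trFun_self (m : ℕ) (x : G m) : trFun G tr m m le_rfl x = x := Nat.leRecOn_self _

lemma trFun_succ (m n : ℕ) (h : m ≤ n) (x : G m) :
    trFun G tr m (n + 1) (Nat.le_succ_of_le h) x = tr n (trFun G tr m n h x) :=
  Nat.leRecOn_succ h x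

lemma trFun_trans (m n k : ℕ) (hmn : m ≤ n) (hnk : n ≤ k) (x : G m) :
    trFun G tr m k (hmn.trans hnk) x = trFun G tr n k hnk (trFun G tr m n hmn x) :=
  Nat.leRecOn_trans hmn hnk x

/-- transition maps as ring homs -/
def natLERec (m n : ℕ) (h : m ≤ n) : G m →+* G n :=
  Nat.leRecOn h (@fun k g => (tr k).comp g) (RingHom.id _)

theorem natLERec_apply (m n : ℕ) (h : m ≤ n) (x : G m) :
    natLERec G tr m n h x = trFun G tr m n h x := by
  induction n, h using Nat.le_induction with
  | base =>
    have h0 : natLERec G tr m m le_rfl = RingHom.id _ := Nat.leRecOn_self _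
    rw [h0, trFun_self]
    rfl
  | succ n hmn ih =>
    have h0 : natLERec G tr m (n + 1) (Nat.le_succ_of_le hmn) =
        (tr n).comp (natLERec G tr m n hmn) := Nat.leRecOn_succ hmn _
    rw [h0, RingHom.comp_apply, ih, trFun_succ]

instance natLERec_directedSystem : DirectedSystem G fun i j h => natLERec G tr i j h where
  map_self i x := by
    show natLERec G tr i i le_rfl x = x
    rw [natLERec_apply, trFun_self]
  map_map k j i hij hjk x := by
    show natLERec G tr j k hjk (natLERec G tr i j hij x) = natLERec G tr i k (hij.trans hjk) x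
    rw [natLERec_apply, natLERec_apply, natLERec_apply]
    exact (trFun_trans G tr i j k hij hjk x).symm

theorem natLERec_succ_self (m : ℕ) (x : G m) :
    natLERec G tr m (m + 1) (Nat.le_succ m) x = tr m x := by
  rw [natLERec_apply]
  have := trFun_succ G tr m m le_rfl x
  rw [trFun_self] at this
  exact this

theorem trFun_injective (hinj : ∀ n, Function.Injective (tr n)) (m n : ℕ) (h : m ≤ n) :
    Function.Injective (trFun G tr m n h) := by
  induction n, h using Nat.le_induction with
  | base =>
    intro x y hxy
    rwa [trFun_self, trFun_self] at hxy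
  | succ n hmn ih =>
    intro x y hxy
    rw [trFun_succ G tr m n hmn, trFun_succ G tr m n hmn] at hxy
    exact ih (hinj n hxy)

theorem natLERec_injective (hinj : ∀ n, Function.Injective (tr n)) (m n : ℕ) (h : m ≤ n) :
    Function.Injective (natLERec G tr m n h) := by
  intro x y hxy
  rw [natLERec_apply, natLERec_apply] at hxy
  exact trFun_injective G tr hinj m n h hxy

theorem colim_main (hinj : ∀ n, Function.Injective (tr n))
    (hroot : ∀ n (P : (G n)[X]), P.Monic → 0 < P.natDegree →
      ∃ x : G (n + 1), P.eval₂ (tr n) x = 0) :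
    Function.Injective (Ring.DirectLimit.of G (fun i j h => natLERec G tr i j h) 0) ∧
    ∀ q : (Ring.DirectLimit G (fun i j h => natLERec G tr i j h))[X], q.Monic →
      0 < q.natDegree → ∃ b, q.IsRoot b := by
  refine ⟨Ring.DirectLimit.of_injective (fun i j h => natLERec G tr i j h)
    (fun i j hij => natLERec_injective G tr hinj i j hij) 0, ?_⟩
  intro q hq hd
  obtain ⟨i, p, hp⟩ := Ring.DirectLimit.Polynomial.exists_of q
  haveI : Nontrivial (Ring.DirectLimit G (fun i j h => natLERec G tr i j h)) := by
    by_contra hB
    rw [not_nontrivial_iff_subsingleton] at hB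
    have h0 : q.natDegree = 0 := Polynomial.natDegree_of_subsingleton
    omega
  haveI : Nontrivial (G i) :=
    (Ring.DirectLimit.of G (fun i j h => natLERec G tr i j h) i).domain_nontrivial
  obtain ⟨P, hPdef⟩ : ∃ P : (G i)[X], P = X ^ q.natDegree +
    ∑ j ∈ Finset.range q.natDegree, C (p.coeff j) * X ^ j := ⟨_, rfl⟩
  have hlt : (∑ j ∈ Finset.range q.natDegree, C (p.coeff j) * X ^ j).degree <
      (q.natDegree : WithBot ℕ) :=
    (Polynomial.degree_sum_le _ _).trans_lt
      ((Finset.sup_lt_iff (WithBot.bot_lt_coe q.natDegree)).2 fun k hk =>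
        (Polynomial.degree_C_mul_X_pow_le _ _).trans_lt
          (WithBot.coe_lt_coe.2 (Finset.mem_range.1 hk)))
  have hPm : P.Monic := hPdef ▸ Polynomial.monic_X_pow_add hlt
  have hPd : P.natDegree = q.natDegree := by
    rw [hPdef]
    apply Polynomial.natDegree_eq_of_degree_eq_some
    rw [Polynomial.degree_add_eq_left_of_degree_lt (by rw [Polynomial.degree_X_pow]; exact hlt),
      Polynomial.degree_X_pow]
  have hPq : P.map (Ring.DirectLimit.of G (fun i j h => natLERec G tr i j h) i) = q := by
    calc P.map (Ring.DirectLimit.of G (fun i j h => natLERec G tr i j h) i)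
        = X ^ q.natDegree + ∑ j ∈ Finset.range q.natDegree, C (q.coeff j) * X ^ j := by
          rw [hPdef]
          simp only [Polynomial.map_add, Polynomial.map_pow, Polynomial.map_X, Polynomial.map_sum,
            Polynomial.map_mul, Polynomial.map_C]
          congr 1
          apply Finset.sum_congr rfl
          intro j _
          rw [← hp, Polynomial.coeff_map]
      _ = q := hq.as_sum.symm
  obtain ⟨x, hx⟩ := hroot i P hPm (by omega)
  refine ⟨Ring.DirectLimit.of G (fun i j h => natLERec G tr i j h) (i + 1) x, ?_⟩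
  have hcomp : Ring.DirectLimit.of G (fun i j h => natLERec G tr i j h) i =
      (Ring.DirectLimit.of G (fun i j h => natLERec G tr i j h) (i + 1)).comp (tr i) := by
    ext y
    rw [RingHom.comp_apply, ← natLERec_succ_self G tr i y]
    exact (Ring.DirectLimit.of_f (G := G) (f := fun i j h => natLERec G tr i j h)
      (Nat.le_succ i) y).symm
  rw [← hPq, Polynomial.IsRoot, Polynomial.eval_map, hcomp, ← Polynomial.hom_eval₂, hx, map_zero]

end Colim

section Final
open Polynomial

theorem split_of_roots (B : Type u) [CommRing B]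
    (h : ∀ q : B[X], q.Monic → 0 < q.natDegree → ∃ b, q.IsRoot b) :
    ∀ (n : ℕ) (f : B[X]), f.Monic → f.natDegree = n →
      ∃ s : Multiset B, f = (s.map fun b => X - C b).prod := by
  intro n
  induction n with
  | zero =>
    intro f hf hn
    exact ⟨0, by rw [hf.natDegree_eq_zero.1 hn]; simp⟩
  | succ n ih =>
    intro f hf hn
    rcases subsingleton_or_nontrivial B with hB | hB
    · exact ⟨0, Subsingleton.elim _ _⟩
    obtain ⟨b, hb⟩ := h f hf (by omega)
    have hfac : (X - C b) * (f /ₘ (X - C b)) = f := Polynomial.mul_divByMonic_eq_iff_isRoot.2 hb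
    have hgm : (f /ₘ (X - C b)).Monic :=
      (Polynomial.monic_X_sub_C b).of_mul_monic_left (by rw [hfac]; exact hf)
    have hgd : (f /ₘ (X - C b)).natDegree = n := by
      rw [Polynomial.natDegree_divByMonic f (Polynomial.monic_X_sub_C b),
        Polynomial.natDegree_X_sub_C, hn]
      rfl
    obtain ⟨s, hs⟩ := ih _ hgm hgd
    refine ⟨b ::ₘ s, ?_⟩
    rw [Multiset.map_cons, Multiset.prod_cons, ← hs, hfac]

/-- the tower of rings -/
noncomputable def Gc (A : Type u) [CommRing A] : ℕ → CommRingCat.{u}
  | 0 => CommRingCat.of A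
  | n + 1 => CommRingCat.of (T (Gc A n))

/-- the tower maps -/
noncomputable def trc (A : Type u) [CommRing A] (n : ℕ) : Gc A n →+* Gc A (n + 1) :=
  algebraMap (Gc A n) (T (Gc A n))

end Final

/-- Every commutative ring `A` admits an injective ring map into an absolutely integrally closed
commutative ring `B`, that is, one over which every monic polynomial is a product of linear factors
`X - b`. (Only the existence of such an extension is stated, not the finer structure of the
construction.) -/
theorem result (A : Type u) [CommRing A] :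
    ∃ (B : Type u) (_ : CommRing B) (_ : Algebra A B), Function.Injective (algebraMap A B) ∧
      ∀ f : B[X], f.Monic → ∃ s : Multiset B, f = (s.map fun b => X - C b).prod := by
  have hmain := colim_main (fun n => Gc A n) (trc A)
    (fun n => algebraMap_T_injective (Gc A n))
    (fun n P hP hd => ⟨xr (Gc A n) ⟨P, hP, hd⟩, by
      have := aeval_xr (Gc A n) ⟨P, hP, hd⟩
      rw [Polynomial.aeval_def] at this
      exact this⟩)
  obtain ⟨hinj, hroots⟩ := hmain
  let φ : A →+* Ring.DirectLimit (fun n => Gc A n)
      (fun i j h => natLERec (fun n => Gc A n) (trc A) i j h) :=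
    Ring.DirectLimit.of (fun n => Gc A n)
      (fun i j h => natLERec (fun n => Gc A n) (trc A) i j h) 0
  refine ⟨Ring.DirectLimit (fun n => Gc A n)
      (fun i j h => natLERec (fun n => Gc A n) (trc A) i j h), inferInstance, φ.toAlgebra,
      hinj, fun f hf => ?_⟩
  exact split_of_roots _ hroots f.natDegree f hf rfl

end Groth.Agent.S12077
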