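import Groth.Statements.S12078
import Mathlib

set_option autoImplicit false
universe u
open CAlg

namespace Groth.Agent.S12078

/-- An elementary divisor domain is Bézout. Here `R` is a domain such that for all `n, m ≥ 1` and every
`n × m` matrix `A` there are invertible matrices `U` (`n × n`) and `V` (`m × m`) with `U * A * V`
zero off the diagonal and with diagonal entries `f 0 ∣ f 1 ∣ f 2 ∣ …`; the conclusion is that every
finitely generated ideal of `R` is principal. -/
theorem result (R : Type u) [CommRing R] [IsDomain R]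
    (hR : ∀ n m : ℕ, 1 ≤ n → 1 ≤ m → ∀ A : Matrix (Fin n) (Fin m) R,
      ∃ (U : (Matrix (Fin n) (Fin n) R)ˣ) (V : (Matrix (Fin m) (Fin m) R)ˣ) (f : ℕ → R),
        (∀ k : ℕ, f k ∣ f (k + 1)) ∧
        ∀ (i : Fin n) (j : Fin m), ((U : Matrix (Fin n) (Fin n) R) * A * (V : Matrix (Fin m) (Fin m) R)) i j =
          if (i : ℕ) = (j : ℕ) then f i else 0) :
    IsBezout R := by
  rw [IsBezout.iff_span_pair_isPrincipal]
  intro x y
  let A : Matrix (Fin 1) (Fin 2) R := Matrix.of ![![x, y]]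
  obtain ⟨U, V, f, -, hUAV⟩ := hR 1 2 le_rfl (by norm_num) A
  set W : Matrix (Fin 1) (Fin 2) R := A * (V : Matrix (Fin 2) (Fin 2) R) with hW
  -- U is a 1x1 unit
  have hUu : IsUnit ((U : Matrix (Fin 1) (Fin 1) R) 0 0) := by
    have h1 : IsUnit (U : Matrix (Fin 1) (Fin 1) R).det :=
      (Matrix.isUnit_iff_isUnit_det _).mp U.isUnit
    rwa [Matrix.det_fin_one] at h1
  have hW01 : W 0 1 = 0 := by
    have h2 := hUAV 0 1
    rw [Matrix.mul_assoc, Matrix.mul_apply, Fin.sum_univ_one] at h2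
    simp only [Fin.val_zero, Fin.val_one, zero_ne_one, if_false] at h2
    exact (hUu.mul_right_eq_zero).mp h2
  have hWd : W 0 0 = x * (V : Matrix (Fin 2) (Fin 2) R) 0 0 + y * (V : Matrix (Fin 2) (Fin 2) R) 1 0 := by
    rw [hW, Matrix.mul_apply, Fin.sum_univ_two]
    simp [A]
  have hA : A = W * ((V⁻¹ : (Matrix (Fin 2) (Fin 2) R)ˣ) : Matrix (Fin 2) (Fin 2) R) := by
    rw [hW, Matrix.mul_assoc, Units.mul_inv, Matrix.mul_one]
  have hx : x = W 0 0 * ((V⁻¹ : (Matrix (Fin 2) (Fin 2) R)ˣ) : Matrix (Fin 2) (Fin 2) R) 0 0 := by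
    have h3 : A 0 0 = x := by simp [A]
    rw [← h3]
    conv_lhs => rw [hA]
    rw [Matrix.mul_apply, Fin.sum_univ_two, hW01, zero_mul, add_zero]
  have hy : y = W 0 0 * ((V⁻¹ : (Matrix (Fin 2) (Fin 2) R)ˣ) : Matrix (Fin 2) (Fin 2) R) 0 1 := by
    have h3 : A 0 1 = y := by simp [A]
    rw [← h3]
    conv_lhs => rw [hA]
    rw [Matrix.mul_apply, Fin.sum_univ_two, hW01, zero_mul, add_zero]
  refine ⟨W 0 0, ?_⟩
  apply le_antisymm
  · rw [Ideal.span_le]
    intro z hz
    rcases hz with rfl | hz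
    · rw [hx]
      exact Ideal.mul_mem_right _ _ (Ideal.subset_span rfl)
    · rw [Set.mem_singleton_iff] at hz
      rw [hz, hy]
      exact Ideal.mul_mem_right _ _ (Ideal.subset_span rfl)
  · rw [Ideal.submodule_span_eq, Ideal.span_le]
    intro z hz
    rw [Set.mem_singleton_iff] at hz
    rw [hz, hWd]
    exact Ideal.add_mem _ (Ideal.mul_mem_right _ _ (Ideal.subset_span (by simp)))
      (Ideal.mul_mem_right _ _ (Ideal.subset_span (by simp)))

end Groth.Agent.S12078
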