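import Groth.Statements.S12079
import Mathlib

set_option autoImplicit false
universe u
open TensorProduct
open CAlg

namespace Groth.Agent.S12079

theorem four {R : Type u} [CommRing R] {A1 A2 A3 B1 B2 B3 : Type u}
    [AddCommGroup A1] [Module R A1] [AddCommGroup A2] [Module R A2] [AddCommGroup A3] [Module R A3]
    [AddCommGroup B1] [Module R B1] [AddCommGroup B2] [Module R B2] [AddCommGroup B3] [Module R B3]
    (a1 : A1 →ₗ[R] A2) (a2 : A2 →ₗ[R] A3) (b1 : B1 →ₗ[R] B2) (b2 : B2 →ₗ[R] B3)
    (θ1 : A1 →ₗ[R] B1) (θ2 : A2 →ₗ[R] B2) (θ3 : A3 →ₗ[R] B3)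
    (ha1 : Function.Injective a1) (ha : Function.Exact a1 a2)
    (hb1 : Function.Injective b1) (hb : ∀ x, b2 (b1 x) = 0)
    (hθ2 : Function.Bijective θ2) (hθ3 : Function.Injective θ3)
    (sq1 : ∀ x, θ2 (a1 x) = b1 (θ1 x)) (sq2 : ∀ x, θ3 (a2 x) = b2 (θ2 x)) :
    Function.Bijective θ1 := by
  constructor
  · rw [injective_iff_map_eq_zero]
    intro t ht
    apply ha1
    apply hθ2.1
    rw [sq1, ht, map_zero, map_zero, map_zero]
  · intro h
    obtain ⟨s, hs⟩ := hθ2.2 (b1 h)
    have h1 : a2 s = 0 := by
      apply hθ3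
      rw [sq2, hs, hb, map_zero]
    obtain ⟨t, ht⟩ := (ha s).mp h1
    refine ⟨t, ?_⟩
    apply hb1
    rw [← sq1, ht, hs]

theorem nat_sq {R : Type u} [CommRing R] {X Y : Type u} [AddCommGroup X] [Module R X]
    [AddCommGroup Y] [Module R Y] (N L : Type u) [AddCommGroup N] [Module R N]
    [AddCommGroup L] [Module R L] (u : X →ₗ[R] Y) (t : TensorProduct R (Y →ₗ[R] N) L) :
    TensorProduct.rTensorHomToHomRTensor (RingHom.id R) X N L
        ((LinearMap.lcomp R N u).rTensor L t) =
      LinearMap.lcomp R (TensorProduct R N L) u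
        (TensorProduct.rTensorHomToHomRTensor (RingHom.id R) Y N L t) := by
  induction t using TensorProduct.induction_on with
  | zero => simp
  | tmul h l =>
    ext x
    simp
  | add a b ha hb => simp only [map_add, ha, hb]

theorem free_bij {R : Type u} [CommRing R] (n : ℕ) (N L : Type u) [AddCommGroup N] [Module R N]
    [AddCommGroup L] [Module R L] :
    Function.Bijective (TensorProduct.rTensorHomToHomRTensor (RingHom.id R) (Fin n → R) N L) := by
  have := rTensorHomEquivHomRTensor_toLinearMap R (Fin n → R) N L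
  rw [← this]
  exact (rTensorHomEquivHomRTensor R (Fin n → R) N L).bijective


/-- For a finitely presented `R`-module `M`, any `R`-module `N` and a flat `R`-module `L`, the canonical
map `Hom_R(M, N) ⊗_R L → Hom_R(M, N ⊗_R L)` sending `f ⊗ l` to `m ↦ f m ⊗ l` is bijective. -/
theorem result (R : Type u) [CommRing R]
    (M N L : Type u) [AddCommGroup M] [Module R M] [AddCommGroup N] [Module R N] [AddCommGroup L] [Module R L]
    [Module.FinitePresentation R M] [Module.Flat R L] :
    Function.Bijective (TensorProduct.rTensorHomToHomRTensor (RingHom.id R) M N L) := by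
  obtain ⟨n, m, f, g, hf, hfg⟩ := Module.FinitePresentation.exists_fin' R M
  refine four ((LinearMap.lcomp R N f).rTensor L) ((LinearMap.lcomp R N g).rTensor L)
    (LinearMap.lcomp R (TensorProduct R N L) f) (LinearMap.lcomp R (TensorProduct R N L) g)
    _ (TensorProduct.rTensorHomToHomRTensor (RingHom.id R) (Fin n → R) N L)
    (TensorProduct.rTensorHomToHomRTensor (RingHom.id R) (Fin m → R) N L)
    ?_ ?_ ?_ ?_ ?_ ?_ ?_ ?_
  · exact Module.Flat.rTensor_preserves_injective_linearMap _
      (LinearMap.lcomp_injective_of_surjective f hf)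
  · exact Module.Flat.rTensor_exact L (LinearMap.exact_lcomp_of_exact_of_surjective N hfg hf)
  · exact LinearMap.lcomp_injective_of_surjective f hf
  · intro x
    exact (LinearMap.exact_lcomp_of_exact_of_surjective (TensorProduct R N L) hfg hf).apply_apply_eq_zero x
  · exact free_bij n N L
  · exact (free_bij m N L).1
  · intro x; exact nat_sq N L f x
  · intro x; exact nat_sq N L g x

end Groth.Agent.S12079
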