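import Groth.Statements.S12080
import Mathlib
import Mathlib

set_option autoImplicit false
universe u
open TensorProduct
open CAlg

namespace Groth.Agent.S12080

section helpers

variable {R : Type u} [CommRing R] {M : Type u} [AddCommGroup M] [Module R M]

theorem eq_zero_of_pow_smul (s : Set R) (hs : Ideal.span s = ⊤) {N : Type*} [AddCommGroup N]
    [Module R N] (w : N) (h : ∀ f ∈ s, ∃ n : ℕ, f ^ n • w = 0) : w = 0 := by
  choose n hn using h
  have h1 := Ideal.span_range_pow_eq_top s hs (fun x : s => n x.1 x.2)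
  have h2 : Ideal.span (Set.range fun x : s => x.1 ^ n x.1 x.2) ≤ Ideal.torsionOf R N w := by
    rw [Ideal.span_le]
    rintro _ ⟨x, rfl⟩
    exact (Ideal.mem_torsionOf_iff _ _).mpr (hn x.1 x.2)
  rw [h1] at h2
  have := (Ideal.mem_torsionOf_iff w (1 : R)).mp (h2 Submodule.mem_top)
  simpa using this

theorem cyc (f : R)
    (e : LocalizedModule.Away f M ≃ₗ[Localization.Away f] Localization.Away f) :
    ∃ (x : M) (j : ℕ), e.symm 1 = LocalizedModule.mk x ⟨f ^ j, pow_mem (Submonoid.mem_powers f) j⟩ ∧
      ∀ m : M, ∃ (k : ℕ) (a : R), f ^ k • m = a • x := by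
  induction h : e.symm 1 using LocalizedModule.induction_on with
  | h x t =>
    obtain ⟨_, j, rfl⟩ := t
    refine ⟨x, j, rfl, fun m => ?_⟩
    induction hy : e (LocalizedModule.mk m 1) using Localization.induction_on with
    | H y =>
      obtain ⟨a, ⟨_, i, rfl⟩⟩ := y
      have h3 : LocalizedModule.mk m (1 : Submonoid.powers f) =
          LocalizedModule.mk (a • x) (⟨f ^ i, pow_mem (Submonoid.mem_powers f) i⟩ * ⟨f ^ j, pow_mem (Submonoid.mem_powers f) j⟩) := by
        rw [← LocalizedModule.mk_smul_mk, ← h, ← map_smul, smul_eq_mul, mul_one, ← hy,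
          LinearEquiv.symm_apply_apply]
      obtain ⟨⟨_, l, rfl⟩, hu⟩ := LocalizedModule.mk_eq.mp h3
      refine ⟨l + (i + j), f ^ l * a, ?_⟩
      simp only [Submonoid.smul_def, Submonoid.coe_mul, one_smul] at hu
      rw [mul_smul] at hu
      rw [pow_add, pow_add, mul_smul, mul_smul, hu, mul_smul]

theorem I1 (s : Set R) (hs : Ideal.span s = ⊤)
    (hfree : ∀ f ∈ s, Nonempty (LocalizedModule.Away f M ≃ₗ[Localization.Away f] Localization.Away f))
    (φ : Module.Dual R M) (m m' : M) : φ m • m' = φ m' • m := by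
  rw [← sub_eq_zero]
  apply eq_zero_of_pow_smul s hs
  intro f hf
  obtain ⟨e⟩ := hfree f hf
  obtain ⟨x, j, -, hx⟩ := cyc f e
  obtain ⟨k, a, hk⟩ := hx m
  obtain ⟨k', a', hk'⟩ := hx m'
  refine ⟨k + k', ?_⟩
  have h1 : f ^ (k + k') • (φ m • m') = φ (f ^ k • m) • (f ^ k' • m') := by
    rw [map_smul, smul_eq_mul, smul_smul, smul_smul]; congr 1; ring
  have h2 : f ^ (k + k') • (φ m' • m) = φ (f ^ k' • m') • (f ^ k • m) := by
    rw [map_smul, smul_eq_mul, smul_smul, smul_smul]; congr 1; ring
  rw [smul_sub, h1, h2, hk, hk', map_smul, map_smul, smul_smul, smul_smul, sub_eq_zero]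
  congr 1
  simp only [smul_eq_mul]; ring

theorem pow_mem_range [Module.FinitePresentation R M] (f : R)
    (e : LocalizedModule.Away f M ≃ₗ[Localization.Away f] Localization.Away f) :
    ∃ n : ℕ, f ^ n ∈ LinearMap.range (contractLeft R M) := by
  obtain ⟨x, j, hxj, -⟩ := cyc f e
  let g : M →ₗ[R] Localization.Away f :=
    (e.toLinearMap.restrictScalars R) ∘ₗ LocalizedModule.mkLinearMap (Submonoid.powers f) M
  obtain ⟨h, ⟨_, N, rfl⟩, hh⟩ := Module.FinitePresentation.exists_lift_of_isLocalizedModule
    (Submonoid.powers f) (Algebra.linearMap R (Localization.Away f)) g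
  have hx1 : LocalizedModule.mk x (1 : Submonoid.powers f) = f ^ j • e.symm 1 := by
    rw [hxj, LocalizedModule.smul'_mk]
    exact (LocalizedModule.mk_cancel (⟨f ^ j, pow_mem (Submonoid.mem_powers f) j⟩ :
      Submonoid.powers f) x).symm
  have h1 : algebraMap R (Localization.Away f) (h x) =
      algebraMap R (Localization.Away f) (f ^ (N + j)) := by
    have := LinearMap.congr_fun hh x
    simp only [LinearMap.comp_apply, Algebra.linearMap_apply, LinearMap.smul_apply, g,
      LinearMap.coe_restrictScalars, LinearEquiv.coe_coe, LocalizedModule.mkLinearMap_apply,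
      Submonoid.smul_def] at this
    have h5 : e (f ^ j • e.symm 1) = f ^ j • e (e.symm 1) :=
      LinearMap.map_smul_of_tower e.toLinearMap _ _
    rw [this, hx1, h5,
      LinearEquiv.apply_symm_apply, smul_smul, ← pow_add, Algebra.algebraMap_eq_smul_one]
  obtain ⟨⟨_, l, rfl⟩, hl⟩ := (IsLocalization.eq_iff_exists (Submonoid.powers f) _).mp h1
  refine ⟨l + (N + j), ⟨(f ^ l • h) ⊗ₜ x, ?_⟩⟩
  rw [contractLeft_apply, LinearMap.smul_apply, smul_eq_mul, pow_add]
  exact hl

theorem symm_id (s : Set R) (hs : Ideal.span s = ⊤)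
    (hfree : ∀ f ∈ s, Nonempty (LocalizedModule.Away f M ≃ₗ[Localization.Away f] Localization.Away f))
    (z z' : Module.Dual R M ⊗[R] M) :
    contractLeft R M z' • z = contractLeft R M z • z' := by
  induction z using TensorProduct.induction_on with
  | zero => simp
  | add z₁ z₂ h₁ h₂ => rw [smul_add, h₁, h₂, map_add, add_smul]
  | tmul φ m =>
    induction z' using TensorProduct.induction_on with
    | zero => simp
    | add z₁ z₂ h₁ h₂ => rw [smul_add, ← h₁, ← h₂, map_add, add_smul]
    | tmul φ' m' =>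
      rw [contractLeft_apply, contractLeft_apply]
      have hI2 : φ' m • φ = φ m • φ' := by
        ext y
        rw [LinearMap.smul_apply, LinearMap.smul_apply, smul_eq_mul, smul_eq_mul]
        have := congrArg φ' (I1 s hs hfree φ m y)
        rw [map_smul, map_smul, smul_eq_mul, smul_eq_mul] at this
        rw [mul_comm (φ' m), ← this, mul_comm]
      calc φ' m' • (φ ⊗ₜ[R] m) = φ ⊗ₜ[R] (φ' m' • m) := by rw [TensorProduct.tmul_smul]
        _ = φ ⊗ₜ[R] (φ' m • m') := by rw [I1 s hs hfree φ' m' m]
        _ = (φ' m • φ) ⊗ₜ[R] m' := by rw [TensorProduct.tmul_smul, TensorProduct.smul_tmul']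
        _ = φ m • (φ' ⊗ₜ[R] m') := by rw [hI2, TensorProduct.smul_tmul']

end helpers

/-- (1) ⇒ (2): let `M` be a finite locally free `R`-module of rank `1`, i.e. there is a set `s ⊆ R`
generating the unit ideal with `M_f ≅ R_f` as `R_f`-modules for every `f ∈ s`. Then the evaluation
map `Hom_R(M, R) ⊗_R M → R` is bijective, so `M` is invertible with inverse its dual. -/
theorem result (R : Type u) [CommRing R] (M : Type u) [AddCommGroup M]
    [Module R M] (s : Set R) (hs : Ideal.span s = ⊤)
    (hfree : ∀ f ∈ s, Nonempty (LocalizedModule.Away f M ≃ₗ[Localization.Away f] Localization.Away f)) :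
    Module.Invertible R M := by
  have hfp : Module.FinitePresentation R M := by
    refine Module.FinitePresentation.of_localizationSpan s hs (fun g => ?_)
    obtain ⟨e⟩ := hfree g.1 g.2
    exact Module.FinitePresentation.of_equiv e.symm
  have hsurj : (1 : R) ∈ LinearMap.range (contractLeft R M) := by
    have h : ∀ f ∈ s, ∃ n : ℕ, f ^ n ∈ LinearMap.range (contractLeft R M) := by
      intro f hf
      obtain ⟨e⟩ := hfree f hf
      exact pow_mem_range f e
    choose n hn using h
    have h1 := Ideal.span_range_pow_eq_top s hs (fun x : s => n x.1 x.2)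
    have h2 : Ideal.span (Set.range fun x : s => x.1 ^ n x.1 x.2) ≤
        LinearMap.range (contractLeft R M) := by
      rw [Ideal.span_le]
      rintro _ ⟨x, rfl⟩
      exact hn x.1 x.2
    rw [h1] at h2
    exact h2 Submodule.mem_top
  obtain ⟨u, hu⟩ := hsurj
  refine ⟨⟨?_, ?_⟩⟩
  · rw [injective_iff_map_eq_zero]
    intro z hz
    have := symm_id s hs hfree z u
    rw [hu, hz, one_smul, zero_smul] at this
    exact this
  · intro r
    exact ⟨r • u, by rw [map_smul, hu, smul_eq_mul, mul_one]⟩

end Groth.Agent.S12080
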