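import Groth.Statements.S12084
import Mathlib
import Groth.Agent.Lib.Helper22.Fitting

set_option autoImplicit false
universe u
open Fitt

namespace Groth.Agent.S12084


open Matrix Groth.Agent.Helper22.FitCore Groth.Agent.Helper22.Fitting

section Core

variable {R : Type*} [CommRing R] {α β : Type*} [Fintype α] [DecidableEq α] [Fintype β]
  [DecidableEq β]

theorem core_ge (N : Submodule R (α → R)) (N' : Submodule R (β → R))
    (P : Submodule R (α ⊕ β → R))
    (hP : ∀ r : α ⊕ β → R, r ∈ P ↔ (r ∘ Sum.inl ∈ N ∧ r ∘ Sum.inr ∈ N')) (l : ℕ) :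
    ∑ k ∈ Finset.range (l + 1), Jdet N k * Jdet N' (l - k) ≤ Jdet P l := by
  rw [Ideal.sum_eq_sup, Finset.sup_le_iff]
  intro k hk
  rw [Finset.mem_range] at hk
  unfold Jdet
  rw [Ideal.span_mul_span', Ideal.span_le]
  rintro _ ⟨_, ⟨a, s, hs, ha, rfl⟩, _, ⟨a', s', hs', ha', rfl⟩, rfl⟩
  show a.det * a'.det ∈ Jdet P l
  rw [← Matrix.det_fromBlocks_zero₂₁ a 0 a']
  refine det_mem_Jdet P l _ (s.disjSum s') ?_ ?_
  · rw [Finset.card_disjSum]
    omega
  · rintro (i | i) hi
    · have hi' : i ∉ s := fun h => hi (Finset.inl_mem_disjSum.mpr h)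
      rw [hP]
      constructor
      · have h0 : (Matrix.fromBlocks a 0 0 a' (Sum.inl i)) ∘ Sum.inl = a i := by
          funext j
          simp
        rw [h0]
        exact ha i hi'
      · have h0 : (Matrix.fromBlocks a 0 0 a' (Sum.inl i)) ∘ Sum.inr = 0 := by
          funext j
          simp
        rw [h0]
        exact N'.zero_mem
    · have hi' : i ∉ s' := fun h => hi (Finset.inr_mem_disjSum.mpr h)
      rw [hP]
      constructor
      · have h0 : (Matrix.fromBlocks a 0 0 a' (Sum.inr i)) ∘ Sum.inl = 0 := by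
          funext j
          simp
        rw [h0]
        exact N.zero_mem
      · have h0 : (Matrix.fromBlocks a 0 0 a' (Sum.inr i)) ∘ Sum.inr = a' i := by
          funext j
          simp
        rw [h0]
        exact ha' i hi'

theorem core_le (N : Submodule R (α → R)) (N' : Submodule R (β → R))
    (P : Submodule R (α ⊕ β → R))
    (hP : ∀ r : α ⊕ β → R, r ∈ P ↔ (r ∘ Sum.inl ∈ N ∧ r ∘ Sum.inr ∈ N')) (l : ℕ) :
    Jdet P l ≤ ∑ k ∈ Finset.range (l + 1), Jdet N k * Jdet N' (l - k) := by
  obtain ⟨J, hJ⟩ : ∃ J : Ideal R, J = ∑ k ∈ Finset.range (l + 1), Jdet N k * Jdet N' (l - k) :=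
    ⟨_, rfl⟩
  rw [← hJ]
  have hJk : ∀ k, k ≤ l → Jdet N k * Jdet N' (l - k) ≤ J := by
    intro k hk
    rw [hJ, Ideal.sum_eq_sup]
    exact Finset.le_sup (f := fun k => Jdet N k * Jdet N' (l - k))
      (Finset.mem_range.mpr (by omega))
  unfold Jdet
  rw [Ideal.span_le]
  rintro _ ⟨A, S, hS, hA, rfl⟩
  show A.det ∈ J
  obtain ⟨mL, hmL⟩ : ∃ mL : α ⊕ β → (α ⊕ β → R),
      mL = fun i => Sum.elim (A i ∘ Sum.inl) (0 : β → R) := ⟨_, rfl⟩
  obtain ⟨mR, hmR⟩ : ∃ mR : α ⊕ β → (α ⊕ β → R),
      mR = fun i => Sum.elim (0 : α → R) (A i ∘ Sum.inr) := ⟨_, rfl⟩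
  have hA' : A = Matrix.of (mL + mR) := by
    ext i (j | j) <;> simp [hmL, hmR]
  have hexp : A.det = ∑ s : Finset (α ⊕ β), (Matrix.of (s.piecewise mL mR)).det := by
    rw [hA']
    exact (Matrix.detRowAlternating (R := R) (n := α ⊕ β)).toMultilinearMap.map_add_univ mL mR
  rw [hexp]
  apply Ideal.sum_mem
  intro s _
  by_cases hcard : s.card = Fintype.card α
  · obtain ⟨ρ, hρ⟩ := Equiv.Perm.exists_map_finset_eq
      (Finset.univ.map ⟨(Sum.inl : α → α ⊕ β), Sum.inl_injective⟩) s
      (by rw [Finset.card_map, Finset.card_univ, hcard])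
    have hρl : ∀ i : α, ρ (Sum.inl i) ∈ s := by
      intro i
      rw [← hρ]
      exact Finset.mem_map_of_mem _ (Finset.mem_map_of_mem _ (Finset.mem_univ i))
    have hρr : ∀ j : β, ρ (Sum.inr j) ∉ s := by
      intro j hj
      rw [← hρ, Finset.mem_map] at hj
      obtain ⟨x, hx, hxe⟩ := hj
      have hx2 : x = Sum.inr j := ρ.injective hxe
      rw [hx2, Finset.mem_map] at hx
      obtain ⟨i, _, hi⟩ := hx
      exact Sum.inl_ne_inr hi
    have hblock : (Matrix.of (s.piecewise mL mR)).submatrix ρ id =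
        Matrix.fromBlocks (Matrix.of fun i j => A (ρ (Sum.inl i)) (Sum.inl j)) 0 0
          (Matrix.of fun i j => A (ρ (Sum.inr i)) (Sum.inr j)) := by
      ext (i | i) (j | j)
      · simp [Finset.piecewise_eq_of_mem _ _ _ (hρl i), hmL]
      · simp [Finset.piecewise_eq_of_mem _ _ _ (hρl i), hmL]
      · simp [Finset.piecewise_eq_of_notMem _ _ _ (hρr i), hmR]
      · simp [Finset.piecewise_eq_of_notMem _ _ _ (hρr i), hmR]
    have h1 := Matrix.det_permute ρ (Matrix.of (s.piecewise mL mR))
    rw [hblock, Matrix.det_fromBlocks_zero₂₁] at h1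
    obtain ⟨S', hS'⟩ : ∃ S' : Finset (α ⊕ β), S' = S.map ρ.symm.toEmbedding := ⟨_, rfl⟩
    have hS'mem : ∀ x, x ∈ S' ↔ ρ x ∈ S := by
      intro x
      rw [hS', Finset.mem_map_equiv, Equiv.symm_symm]
    have hcardS : S'.toLeft.card + S'.toRight.card ≤ l := by
      rw [Finset.card_toLeft_add_card_toRight, hS', Finset.card_map]
      exact hS
    have hB : (Matrix.of fun i j => A (ρ (Sum.inl i)) (Sum.inl j)).det
        ∈ Jdet N S'.toLeft.card := by
      refine det_mem_Jdet N _ _ S'.toLeft le_rfl ?_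
      intro i hi
      have hi' : ρ (Sum.inl i) ∉ S := by
        intro h
        exact hi (Finset.mem_toLeft.mpr ((hS'mem _).mpr h))
      exact ((hP _).mp (hA _ hi')).1
    have hB' : (Matrix.of fun i j => A (ρ (Sum.inr i)) (Sum.inr j)).det
        ∈ Jdet N' (l - S'.toLeft.card) := by
      refine det_mem_Jdet N' _ _ S'.toRight (by omega) ?_
      intro i hi
      have hi' : ρ (Sum.inr i) ∉ S := by
        intro h
        exact hi (Finset.mem_toRight.mpr ((hS'mem _).mpr h))
      exact ((hP _).mp (hA _ hi')).2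
    have hmem := hJk S'.toLeft.card (by omega) (Ideal.mul_mem_mul hB hB')
    have hε : ((Equiv.Perm.sign ρ : ℤˣ) : ℤ) * ((Equiv.Perm.sign ρ : ℤˣ) : ℤ) = 1 := by
      rw [← Units.val_mul, Int.units_mul_self]
      rfl
    have h2 : (Matrix.of (s.piecewise mL mR)).det
        = (((Equiv.Perm.sign ρ : ℤˣ) : ℤ) : R) *
          ((Matrix.of fun i j => A (ρ (Sum.inl i)) (Sum.inl j)).det *
            (Matrix.of fun i j => A (ρ (Sum.inr i)) (Sum.inr j)).det) := by
      rw [h1, ← mul_assoc, ← Int.cast_mul, hε, Int.cast_one, one_mul]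
    rw [h2]
    exact J.mul_mem_left _ hmem
  · have h0 : (Matrix.of (s.piecewise mL mR)).det = 0 := by
      rw [Matrix.det_apply]
      apply Finset.sum_eq_zero
      intro σ _
      by_contra hne
      apply hcard
      have hent : ∀ i, (Matrix.of (s.piecewise mL mR)) (σ i) i ≠ 0 := by
        intro i h0
        apply hne
        rw [Finset.prod_eq_zero (f := fun i => Matrix.of (s.piecewise mL mR) (σ i) i)
          (Finset.mem_univ i) h0, smul_zero]
      have hl : ∀ j : α, σ (Sum.inl j) ∈ s := by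
        intro j
        by_contra hns
        apply hent (Sum.inl j)
        rw [Matrix.of_apply, Finset.piecewise_eq_of_notMem _ _ _ hns, hmR]
        rfl
      have hr : ∀ j : β, σ (Sum.inr j) ∉ s := by
        intro j hs'
        apply hent (Sum.inr j)
        rw [Matrix.of_apply, Finset.piecewise_eq_of_mem _ _ _ hs', hmL]
        rfl
      have hs_eq : s = Finset.univ.image (fun j : α => σ (Sum.inl j)) := by
        ext t
        simp only [Finset.mem_image, Finset.mem_univ, true_and]
        constructor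
        · intro ht
          rcases hσ : σ.symm t with j | j
          · exact ⟨j, by rw [← hσ, Equiv.apply_symm_apply]⟩
          · exfalso
            apply hr j
            rw [← hσ, Equiv.apply_symm_apply]
            exact ht
        · rintro ⟨j, rfl⟩
          exact hl j
      rw [hs_eq, Finset.card_image_of_injective _
        (fun a b h => Sum.inl_injective (σ.injective h)), Finset.card_univ]
    rw [h0]
    exact J.zero_mem

end Core


/-- For finite `R`-modules `M`, `M'` and every `l`, the `l`-th Fitting ideal of `M ⊕ M'` equals `∑_{k +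
k' = l} Fit_k(M) · Fit_{k'}(M')`; in particular `Fit_0(M ⊕ M') = Fit_0(M) · Fit_0(M')`. -/
theorem result (R : Type u) [CommRing R] (M M' : Type u) [AddCommGroup M] [Module R M]
    [AddCommGroup M'] [Module R M'] [Module.Finite R M] [Module.Finite R M'] (l : ℕ) :
    Fitt.ideal R (M × M') l = ∑ k ∈ Finset.range (l + 1), Fitt.ideal R M k * Fitt.ideal R M' (l - k) := by
  obtain ⟨n, x, hx⟩ := Module.Finite.exists_fin (R := R) (M := M)
  obtain ⟨m, x', hx'⟩ := Module.Finite.exists_fin (R := R) (M := M')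
  obtain ⟨z, hzdef⟩ : ∃ z : Fin n ⊕ Fin m → M × M',
      z = Sum.elim (fun i => (x i, 0)) (fun j => (0, x' j)) := ⟨_, rfl⟩
  have hz : Submodule.span R (Set.range z) = ⊤ := by
    have h1 : Set.range z = (LinearMap.inl R M M') '' Set.range x ∪
        (LinearMap.inr R M M') '' Set.range x' := by
      ext p
      simp [hzdef]
    rw [h1, Submodule.span_union, Submodule.span_image, Submodule.span_image, hx, hx',
      Submodule.map_top, Submodule.map_top, LinearMap.sup_range_inl_inr]
  have hy : Submodule.span R (Set.range (z ∘ finSumFinEquiv.symm)) = ⊤ := by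
    rw [finSumFinEquiv.symm.surjective.range_comp]
    exact hz
  have hP : ∀ r : Fin n ⊕ Fin m → R, r ∈ Rel (R := R) z ↔
      (r ∘ Sum.inl ∈ Rel (R := R) x ∧ r ∘ Sum.inr ∈ Rel (R := R) x') := by
    intro r
    rw [mem_Rel, mem_Rel, mem_Rel, Fintype.sum_sum_type, hzdef]
    simp [Prod.ext_iff, Prod.fst_sum, Prod.snd_sum]
  have hre : ∀ r : Fin n ⊕ Fin m → R, r ∈ Rel (R := R) z ↔
      r ∘ finSumFinEquiv.symm ∈ Rel (R := R) (z ∘ finSumFinEquiv.symm) := by
    intro r
    have h := Rel_comp_equiv (R := R) finSumFinEquiv (z ∘ finSumFinEquiv.symm) r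
    have e : (z ∘ finSumFinEquiv.symm) ∘ finSumFinEquiv = z := by
      funext i
      simp
    rw [e] at h
    exact h
  rw [ideal_eq_Jdet (z ∘ finSumFinEquiv.symm) hy l]
  rw [← Jdet_reindex finSumFinEquiv (Rel (R := R) z) (Rel (R := R) (z ∘ finSumFinEquiv.symm))
    hre l]
  rw [le_antisymm (core_le _ _ _ hP l) (core_ge _ _ _ hP l)]
  apply Finset.sum_congr rfl
  intro k _
  rw [ideal_eq_Jdet x hx k, ideal_eq_Jdet x' hx' (l - k)]

end Groth.Agent.S12084
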