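import Groth.Statements.S12096
import Mathlib

set_option autoImplicit false
universe u
open BlowUp

namespace Groth.Agent.S12096


section Aux

lemma loc_sub {A : Type*} [CommRing A] (a : A) {S T Aa : Type*} [CommRing S] [CommRing T]
    [CommRing Aa] [Algebra A S] [Algebra A Aa] [Algebra Aa T] [Algebra A T] [Algebra S T]
    [IsScalarTower A S T] [IsScalarTower A Aa T] [IsLocalization.Away a Aa]
    [hloc : IsLocalization.Away (algebraMap A S a) T]
    (A' : Subalgebra A S) (G' : Set T)
    (ψ : A' →+* (Algebra.adjoin Aa G'))
    (hψ : ∀ x : A', ((ψ x : Algebra.adjoin Aa G') : T) = algebraMap S T (x : S))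
    (hG : ∀ g ∈ G', ∃ (n : ℕ) (x : A'), g * (algebraMap A T a) ^ n = algebraMap S T (x : S)) :
    letI := ψ.toAlgebra
    IsLocalization.Away (algebraMap A A' a) (Algebra.adjoin Aa G') := by
  letI algψ : Algebra A' (Algebra.adjoin Aa G') := ψ.toAlgebra
  have halg : ∀ x : A', algebraMap A' (Algebra.adjoin Aa G') x = ψ x := fun x => rfl
  have hcoe : ∀ n : ℕ, (((algebraMap A A' a) ^ n : A') : S) = (algebraMap A S a) ^ n := by
    intro n
    rw [SubmonoidClass.coe_pow, Subalgebra.coe_algebraMap]
  have ha : ∀ n : ℕ, ((ψ ((algebraMap A A' a) ^ n) : Algebra.adjoin Aa G') : T)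
      = (algebraMap A T a) ^ n := by
    intro n
    rw [hψ, hcoe, map_pow, ← IsScalarTower.algebraMap_apply]
  have hsurj : ∀ t ∈ Algebra.adjoin Aa G', ∃ (n : ℕ) (x : A'),
      t * (algebraMap A T a) ^ n = algebraMap S T (x : S) := by
    intro t ht
    induction ht using Algebra.adjoin_induction with
    | mem g hg => exact hG g hg
    | algebraMap r =>
      obtain ⟨n, b, hb⟩ := IsLocalization.Away.surj a r
      refine ⟨n, algebraMap A A' b, ?_⟩
      rw [IsScalarTower.algebraMap_apply A Aa T a, ← map_pow, ← map_mul, hb,
        ← IsScalarTower.algebraMap_apply A Aa T]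
      show algebraMap A T b = algebraMap S T (algebraMap A S b)
      rw [← IsScalarTower.algebraMap_apply]
    | add x y _ _ hx hy =>
      obtain ⟨n1, x1, h1⟩ := hx
      obtain ⟨n2, x2, h2⟩ := hy
      refine ⟨n1 + n2, x1 * (algebraMap A A' a) ^ n2 + x2 * (algebraMap A A' a) ^ n1, ?_⟩
      have e1 : algebraMap S T
          (((x1 * (algebraMap A A' a) ^ n2 + x2 * (algebraMap A A' a) ^ n1 : A')) : S)
          = algebraMap S T x1 * (algebraMap A T a) ^ n2
            + algebraMap S T x2 * (algebraMap A T a) ^ n1 := by
        rw [Subalgebra.coe_add, Subalgebra.coe_mul, Subalgebra.coe_mul, hcoe, hcoe, map_add,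
          map_mul, map_mul, map_pow, map_pow, ← IsScalarTower.algebraMap_apply]
      rw [e1, ← h1, ← h2]
      ring
    | mul x y _ _ hx hy =>
      obtain ⟨n1, x1, h1⟩ := hx
      obtain ⟨n2, x2, h2⟩ := hy
      refine ⟨n1 + n2, x1 * x2, ?_⟩
      rw [Subalgebra.coe_mul, map_mul, ← h1, ← h2]
      ring
  refine IsLocalization.Away.mk _ ?_ ?_ ?_
  · have hu : algebraMap A' (Algebra.adjoin Aa G') (algebraMap A A' a)
        = algebraMap Aa (Algebra.adjoin Aa G') (algebraMap A Aa a) := by
      apply Subtype.ext
      have h1 := ha 1
      rw [pow_one, pow_one] at h1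
      rw [halg, h1]
      show algebraMap A T a = algebraMap Aa T (algebraMap A Aa a)
      rw [← IsScalarTower.algebraMap_apply]
    rw [hu]
    exact IsUnit.map (algebraMap Aa (Algebra.adjoin Aa G'))
      (IsLocalization.Away.algebraMap_isUnit (S := Aa) a)
  · intro z
    obtain ⟨n, x, hx⟩ := hsurj z.1 z.2
    refine ⟨n, x, ?_⟩
    apply Subtype.ext
    rw [← map_pow, halg, halg]
    show (z : T) * ((ψ ((algebraMap A A' a) ^ n) : Algebra.adjoin Aa G') : T)
      = ((ψ x : Algebra.adjoin Aa G') : T)
    rw [ha, hψ, hx]
  · intro x y hxy
    rw [halg, halg] at hxy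
    have h1 : algebraMap S T (x : S) = algebraMap S T (y : S) := by
      rw [← hψ, ← hψ, hxy]
    obtain ⟨n, hn⟩ := IsLocalization.Away.exists_of_eq (algebraMap A S a) h1
    refine ⟨n, ?_⟩
    apply Subtype.ext
    show (((algebraMap A A' a) ^ n : A') : S) * (x : S)
      = (((algebraMap A A' a) ^ n : A') : S) * (y : S)
    rw [hcoe]
    exact hn

end Aux


/-- Néron's blowup is compatible with localization. For a ring `A`, an ideal `I`, elements `π, a ∈ A`,
`A' = A[I/π] ⊆ A_π` the affine blowup algebra and `(A_a)' = A_a[I A_a/π]` that of the localization,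
the canonical map `A' → (A_a)'` (the restriction of `A_π → (A_a)_π`, given here as a datum with that
compatibility) identifies `(A_a)'` with the localization `A'_a`. In Néron's situation (`I` the
inverse image of the maximal ideal of `Λ`, `π` a uniformizer, `a ∉ I`) this reads: the Néron blowup
of `A_a` is `A'_a`; the identity holds for arbitrary `A, I, π, a`. -/
theorem result (A : Type u) [CommRing A] (I : Ideal A) (π a : A) (hπ : π ∈ I)
    (ψ : BlowUp.affineAlgebra A I π →+*
      BlowUp.affineAlgebra (Localization.Away a) (I.map (algebraMap A (Localization.Away a))) (algebraMap A (Localization.Away a) π))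
    (hψ : ∀ x : BlowUp.affineAlgebra A I π,
      ((ψ x : BlowUp.affineAlgebra (Localization.Away a) (I.map (algebraMap A (Localization.Away a))) (algebraMap A (Localization.Away a) π)) :
          Localization.Away (algebraMap A (Localization.Away a) π)) =
        Localization.awayMap (algebraMap A (Localization.Away a)) π (x : Localization.Away π)) :
    letI := ψ.toAlgebra
    IsLocalization.Away (algebraMap A (BlowUp.affineAlgebra A I π) a)
      (BlowUp.affineAlgebra (Localization.Away a) (I.map (algebraMap A (Localization.Away a))) (algebraMap A (Localization.Away a) π)) := by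
  letI algφ : Algebra (Localization.Away π) (Localization.Away (algebraMap A (Localization.Away a) π)) :=
    (Localization.awayMap (algebraMap A (Localization.Away a)) π).toAlgebra
  have hφalg : ∀ z : (Localization.Away π), algebraMap (Localization.Away π) (Localization.Away (algebraMap A (Localization.Away a) π)) z = Localization.awayMap (algebraMap A (Localization.Away a)) π z :=
    fun z => rfl
  haveI tower : IsScalarTower A (Localization.Away π) (Localization.Away (algebraMap A (Localization.Away a) π)) := by
    apply IsScalarTower.of_algebraMap_eq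
    intro x
    rw [hφalg]
    rw [show Localization.awayMap (algebraMap A (Localization.Away a)) π (algebraMap A (Localization.Away π) x)
      = algebraMap (Localization.Away a) (Localization.Away (algebraMap A (Localization.Away a) π)) (algebraMap A (Localization.Away a) x) from IsLocalization.map_eq _ x]
    rw [← IsScalarTower.algebraMap_apply]
  haveI hloc : IsLocalization.Away (algebraMap A (Localization.Away π) a) (Localization.Away (algebraMap A (Localization.Away a) π)) :=
    IsLocalization.Away.commutes (Localization.Away π) (Localization.Away a) (Localization.Away (algebraMap A (Localization.Away a) π)) π a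
  refine loc_sub (hloc := hloc) a (BlowUp.affineAlgebra A I π) _ ψ hψ ?_
  rintro g ⟨y, hy, rfl⟩
  obtain ⟨⟨x1, ⟨_, n, rfl⟩⟩, hx⟩ :=
    (IsLocalization.mem_map_algebraMap_iff (Submonoid.powers a) (Localization.Away a)).mp hy
  have hx' : y * (algebraMap A (Localization.Away a) a) ^ n = algebraMap A (Localization.Away a) (x1 : A) := by
    simpa [map_pow] using hx
  refine ⟨n, ⟨IsLocalization.mk' (Localization.Away π) (x1 : A) ⟨π, Submonoid.mem_powers π⟩,
    Algebra.subset_adjoin ⟨x1, x1.2, rfl⟩⟩, ?_⟩
  have hφ : Localization.awayMap (algebraMap A (Localization.Away a)) π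
      (IsLocalization.mk' (Localization.Away π) (x1 : A) ⟨π, Submonoid.mem_powers π⟩)
      = IsLocalization.mk' (Localization.Away (algebraMap A (Localization.Away a) π)) (algebraMap A (Localization.Away a) (x1 : A))
          ⟨(algebraMap A (Localization.Away a) π), Submonoid.mem_powers _⟩ :=
    IsLocalization.map_mk' _ _ _
  show _ = Localization.awayMap (algebraMap A (Localization.Away a)) π
      (IsLocalization.mk' (Localization.Away π) (x1 : A) ⟨π, Submonoid.mem_powers π⟩)
  rw [hφ, IsLocalization.eq_mk'_iff_mul_eq]
  have hc : algebraMap A (Localization.Away (algebraMap A (Localization.Away a) π)) a = algebraMap (Localization.Away a) (Localization.Away (algebraMap A (Localization.Away a) π)) (algebraMap A (Localization.Away a) a) :=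
    IsScalarTower.algebraMap_apply A (Localization.Away a) (Localization.Away (algebraMap A (Localization.Away a) π)) a
  have hspec : IsLocalization.mk' (Localization.Away (algebraMap A (Localization.Away a) π)) y
      (⟨(algebraMap A (Localization.Away a) π), Submonoid.mem_powers _⟩ : Submonoid.powers (algebraMap A (Localization.Away a) π)) * algebraMap (Localization.Away a) (Localization.Away (algebraMap A (Localization.Away a) π)) (algebraMap A (Localization.Away a) π)
      = algebraMap (Localization.Away a) (Localization.Away (algebraMap A (Localization.Away a) π)) y :=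
    IsLocalization.mk'_spec (Localization.Away (algebraMap A (Localization.Away a) π)) y _
  calc IsLocalization.mk' (Localization.Away (algebraMap A (Localization.Away a) π)) y (⟨(algebraMap A (Localization.Away a) π), Submonoid.mem_powers _⟩ : Submonoid.powers (algebraMap A (Localization.Away a) π))
        * (algebraMap A (Localization.Away (algebraMap A (Localization.Away a) π)) a) ^ n * algebraMap (Localization.Away a) (Localization.Away (algebraMap A (Localization.Away a) π)) (algebraMap A (Localization.Away a) π)
      = (IsLocalization.mk' (Localization.Away (algebraMap A (Localization.Away a) π)) y (⟨(algebraMap A (Localization.Away a) π), Submonoid.mem_powers _⟩ : Submonoid.powers (algebraMap A (Localization.Away a) π))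
          * algebraMap (Localization.Away a) (Localization.Away (algebraMap A (Localization.Away a) π)) (algebraMap A (Localization.Away a) π)) * (algebraMap A (Localization.Away (algebraMap A (Localization.Away a) π)) a) ^ n := by ring
    _ = algebraMap (Localization.Away a) (Localization.Away (algebraMap A (Localization.Away a) π)) y * (algebraMap (Localization.Away a) (Localization.Away (algebraMap A (Localization.Away a) π)) (algebraMap A (Localization.Away a) a)) ^ n := by rw [hspec, hc]
    _ = algebraMap (Localization.Away a) (Localization.Away (algebraMap A (Localization.Away a) π)) (algebraMap A (Localization.Away a) (x1 : A)) := by rw [← map_pow, ← map_mul, hx']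

end Groth.Agent.S12096
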