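import Groth.Statements.S12097
import Mathlib

set_option autoImplicit false
universe u
open BlowUp

namespace Groth.Agent.S12097


section Aux

lemma aff_induction {A : Type u} [CommRing A] (I : Ideal A) (a : A)
    {p : Localization.Away a → Prop}
    (mem : ∀ x ∈ I, p (IsLocalization.mk' (Localization.Away a) x ⟨a, Submonoid.mem_powers a⟩))
    (alg : ∀ r : A, p (algebraMap A (Localization.Away a) r))
    (add : ∀ x y, p x → p y → p (x + y)) (mul : ∀ x y, p x → p y → p (x * y)) :
    ∀ t ∈ BlowUp.affineAlgebra A I a, p t := by
  intro t ht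
  unfold BlowUp.affineAlgebra at ht
  induction ht using Algebra.adjoin_induction with
  | mem g hg =>
    obtain ⟨x, hx, rfl⟩ := hg
    exact mem x hx
  | algebraMap r => exact alg r
  | add x y _ _ hx hy => exact add x y hx hy
  | mul x y _ _ hx hy => exact mul x y hx hy

lemma gen_mem {A : Type u} [CommRing A] (I : Ideal A) (a : A) {x : A} (hx : x ∈ I) :
    IsLocalization.mk' (Localization.Away a) x ⟨a, Submonoid.mem_powers a⟩
      ∈ BlowUp.affineAlgebra A I a :=
  Algebra.subset_adjoin ⟨x, hx, rfl⟩

end Aux


/-- Néron's blowup is compatible with closed immersions. For a surjective ring map `B → A` with kernel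
`J`, an ideal `I ⊆ B` containing `π`, and the affine blowup algebras `B' = B[I/π] ⊆ B_π`, `A' =
A[IA/π] ⊆ A_π`, the canonical map `B' → A'` (the restriction of `B_π → A_π`, given as a datum with
that compatibility) is surjective with kernel the elements `x` such that `π^n x ∈ J B'` for some
`n`: `A'` is the quotient of `B'/JB'` by its `π`-power torsion. In Néron's situation (`I` the
inverse image of the maximal ideal of `Λ`, `π` a uniformizer) this is the printed functoriality; the
identity holds for any surjection. -/
theorem result (B A : Type u) [CommRing B] [CommRing A] [Algebra B A]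
    (hq : Function.Surjective (algebraMap B A)) (I : Ideal B) (π : B) (hπ : π ∈ I)
    (ψ : BlowUp.affineAlgebra B I π →+* BlowUp.affineAlgebra A (I.map (algebraMap B A)) (algebraMap B A π))
    (hψ : ∀ x : BlowUp.affineAlgebra B I π,
      ((ψ x : BlowUp.affineAlgebra A (I.map (algebraMap B A)) (algebraMap B A π)) : Localization.Away (algebraMap B A π)) =
        Localization.awayMap (algebraMap B A) π (x : Localization.Away π)) :
    Function.Surjective ψ ∧
      ∀ x : BlowUp.affineAlgebra B I π, x ∈ RingHom.ker ψ ↔
        ∃ n : ℕ, algebraMap B (BlowUp.affineAlgebra B I π) π ^ n * x ∈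
          (RingHom.ker (algebraMap B A)).map (algebraMap B (BlowUp.affineAlgebra B I π)) := by
  have hφ1 : ∀ b : B, Localization.awayMap (algebraMap B A) π
      (algebraMap B (Localization.Away π) b)
      = algebraMap A (Localization.Away (algebraMap B A π)) (algebraMap B A b) :=
    fun b => IsLocalization.map_eq _ b
  have hφ2 : ∀ y : B, Localization.awayMap (algebraMap B A) π
      (IsLocalization.mk' (Localization.Away π) y ⟨π, Submonoid.mem_powers π⟩)
      = IsLocalization.mk' (Localization.Away (algebraMap B A π)) (algebraMap B A y)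
          ⟨algebraMap B A π, Submonoid.mem_powers _⟩ :=
    fun y => IsLocalization.map_mk' _ _ _
  constructor
  · have hs : ∀ t ∈ BlowUp.affineAlgebra A (I.map (algebraMap B A)) (algebraMap B A π),
        ∃ x : BlowUp.affineAlgebra B I π,
          Localization.awayMap (algebraMap B A) π (x : Localization.Away π) = t := by
      refine aff_induction (p := fun t => ∃ x : BlowUp.affineAlgebra B I π,
          Localization.awayMap (algebraMap B A) π (x : Localization.Away π) = t)
        (I.map (algebraMap B A)) (algebraMap B A π) ?_ ?_ ?_ ?_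
      · intro y hy
        obtain ⟨y0, hy0, rfl⟩ := (Ideal.mem_map_iff_of_surjective (algebraMap B A) hq).mp hy
        exact ⟨⟨_, gen_mem I π hy0⟩, hφ2 y0⟩
      · intro r
        obtain ⟨b, rfl⟩ := hq r
        exact ⟨algebraMap B _ b, hφ1 b⟩
      · rintro x y ⟨x1, h1⟩ ⟨x2, h2⟩
        exact ⟨x1 + x2, by rw [Subalgebra.coe_add, map_add, h1, h2]⟩
      · rintro x y ⟨x1, h1⟩ ⟨x2, h2⟩
        exact ⟨x1 * x2, by rw [Subalgebra.coe_mul, map_mul, h1, h2]⟩
    intro z
    obtain ⟨x, hx⟩ := hs z.1 z.2
    exact ⟨x, Subtype.ext ((hψ x).trans hx)⟩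
  · have hN : ∀ s ∈ BlowUp.affineAlgebra B I π, ∃ (N : ℕ) (b : B),
        (algebraMap B (Localization.Away π) π) ^ N * s
          = algebraMap B (Localization.Away π) b := by
      refine aff_induction (p := fun s => ∃ (N : ℕ) (b : B),
        (algebraMap B (Localization.Away π) π) ^ N * s
          = algebraMap B (Localization.Away π) b) I π ?_ ?_ ?_ ?_
      · intro y _
        refine ⟨1, y, ?_⟩
        rw [pow_one, mul_comm]
        exact IsLocalization.mk'_spec (Localization.Away π) y ⟨π, Submonoid.mem_powers π⟩
      · intro r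
        exact ⟨0, r, by rw [pow_zero, one_mul]⟩
      · rintro x y ⟨N1, b1, h1⟩ ⟨N2, b2, h2⟩
        refine ⟨N1 + N2, π ^ N2 * b1 + π ^ N1 * b2, ?_⟩
        rw [map_add, map_mul, map_mul, map_pow, map_pow, ← h1, ← h2]
        ring
      · rintro x y ⟨N1, b1, h1⟩ ⟨N2, b2, h2⟩
        refine ⟨N1 + N2, b1 * b2, ?_⟩
        rw [map_mul, ← h1, ← h2]
        ring
    have hcoeπ : ∀ n : ℕ, (((algebraMap B (BlowUp.affineAlgebra B I π) π) ^ n :
        BlowUp.affineAlgebra B I π) : Localization.Away π)
        = (algebraMap B (Localization.Away π) π) ^ n := by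
      intro n
      rw [SubmonoidClass.coe_pow, Subalgebra.coe_algebraMap]
    intro x
    rw [RingHom.mem_ker]
    constructor
    · intro hx
      have h0 : Localization.awayMap (algebraMap B A) π (x : Localization.Away π) = 0 := by
        rw [← hψ, hx] <;> rfl
      obtain ⟨N, b, hb⟩ := hN x.1 x.2
      have h1 : algebraMap A (Localization.Away (algebraMap B A π)) (algebraMap B A b) = 0 := by
        rw [← hφ1, ← hb, map_mul, h0, mul_zero]
      obtain ⟨⟨_, m, rfl⟩, hm⟩ := (IsLocalization.map_eq_zero_iff
        (Submonoid.powers (algebraMap B A π)) (Localization.Away (algebraMap B A π)) _).mp h1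
      have hk : π ^ m * b ∈ RingHom.ker (algebraMap B A) := by
        rw [RingHom.mem_ker, map_mul, map_pow]
        exact hm
      refine ⟨m + N, ?_⟩
      have heq : algebraMap B (BlowUp.affineAlgebra B I π) π ^ (m + N) * x
          = algebraMap B (BlowUp.affineAlgebra B I π) (π ^ m * b) := by
        apply Subtype.ext
        rw [Subalgebra.coe_mul, hcoeπ, Subalgebra.coe_algebraMap, map_mul, map_pow, ← hb, pow_add]
        ring
      rw [heq]
      exact Ideal.mem_map_of_mem _ hk
    · rintro ⟨n, hn⟩
      have hle : (RingHom.ker (algebraMap B A)).map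
          (algebraMap B (BlowUp.affineAlgebra B I π)) ≤ RingHom.ker ψ := by
        rw [Ideal.map_le_iff_le_comap]
        intro k hk
        rw [Ideal.mem_comap, RingHom.mem_ker]
        apply Subtype.ext
        rw [hψ, Subalgebra.coe_algebraMap, hφ1, RingHom.mem_ker.mp hk, map_zero] <;> rfl
      have h2 := hle hn
      rw [RingHom.mem_ker, map_mul, map_pow] at h2
      have h3 : ((ψ (algebraMap B (BlowUp.affineAlgebra B I π) π) :
          BlowUp.affineAlgebra A _ _) : Localization.Away (algebraMap B A π))
          = algebraMap A (Localization.Away (algebraMap B A π)) (algebraMap B A π) := by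
        rw [hψ, Subalgebra.coe_algebraMap, hφ1]
      have hu : IsUnit (algebraMap A (Localization.Away (algebraMap B A π)) (algebraMap B A π)) :=
        IsLocalization.Away.algebraMap_isUnit _
      have h4 : (((ψ (algebraMap B (BlowUp.affineAlgebra B I π) π)) ^ n * ψ x :
          BlowUp.affineAlgebra A _ _) : Localization.Away (algebraMap B A π)) = 0 := by
        rw [h2] <;> rfl
      rw [Subalgebra.coe_mul, SubmonoidClass.coe_pow, h3] at h4
      apply Subtype.ext
      exact ((hu.pow n).mul_right_eq_zero).mp h4

end Groth.Agent.S12097
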