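import Groth.Statements.S12098
import Mathlib
import Groth.Agent.Lib.Helper6.PerfTri
import Groth.Agent.Lib.Helper6.PCm14
-- import your own Groth.Agent.* helpers here

set_option autoImplicit false
universe u
open CategoryTheory CategoryTheory.Limits
attribute [local instance] HasDerivedCategory.standard
open DRing

namespace Groth.Agent.S12098

section Generic

open CochainComplex HomComplex

variable {C : Type*} [Category C] [Preadditive C] [HasBinaryBiproducts C]
  {M N : CochainComplex C ℤ} (φ : M ⟶ N) (ψ : N ⟶ M) (H : Homotopy (φ ≫ ψ) (𝟙 M))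

/-- `(m, y) ↦ y - φψy - φ(h m)`. -/
noncomputable def cMap : mappingCone φ ⟶ N :=
  mappingCone.desc φ (-(Cochain.ofHomotopy H).comp (Cochain.ofHom φ) (add_zero (-1)))
    (𝟙 N - ψ ≫ φ) (by
    rw [δ_neg, δ_comp_ofHom, δ_ofHomotopy, Cochain.sub_comp, ← Cochain.ofHom_comp,
      ← Cochain.ofHom_comp, ← Cochain.ofHom_sub, ← Cochain.ofHom_neg]
    congr 1
    simp [Preadditive.comp_sub])

/-- `(m, x) ↦ x - φψ x - h m`. -/
noncomputable def cMap' : mappingCone (𝟙 M) ⟶ M :=
  mappingCone.desc (𝟙 M) (-(Cochain.ofHomotopy H)) (𝟙 M - φ ≫ ψ) (by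
    rw [δ_neg, δ_ofHomotopy, ← Cochain.ofHom_sub, ← Cochain.ofHom_neg]
    congr 1
    simp)

/-- `(m, y) ↦ (m, ψ y + h m)`. -/
noncomputable def eMap : mappingCone φ ⟶ mappingCone (𝟙 M) :=
  mappingCone.desc φ (mappingCone.inl (𝟙 M) +
      (Cochain.ofHomotopy H).comp (Cochain.ofHom (mappingCone.inr (𝟙 M))) (add_zero (-1)))
    (ψ ≫ mappingCone.inr (𝟙 M)) (by
    rw [δ_add, mappingCone.δ_inl, δ_comp_ofHom, δ_ofHomotopy, Cochain.sub_comp,
      ← Cochain.ofHom_comp, ← Cochain.ofHom_comp]
    simp only [← Cochain.ofHom_sub, ← Cochain.ofHom_add]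
    congr 1
    simp)

/-- `(m, x) ↦ (m, φ x)`. -/
noncomputable def eMap' : mappingCone (𝟙 M) ⟶ mappingCone φ :=
  mappingCone.map (𝟙 M) φ (𝟙 M) φ (by simp)

lemma id1 : (-φ) ≫ (-ψ) + mappingCone.inr (𝟙 M) ≫ cMap' φ ψ H = 𝟙 M := by
  simp [cMap'] <;> abel

lemma id2 : (-φ) ≫ mappingCone.inr φ + mappingCone.inr (𝟙 M) ≫ eMap' φ = 0 := by
  simp [eMap', mappingCone.map] <;> abel

lemma id3 : cMap φ ψ H ≫ (-ψ) + eMap φ ψ H ≫ cMap' φ ψ H = 0 := by
  ext n
  rw [mappingCone.ext_from_iff _ (n + 1) n rfl]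
  constructor
  · simp [cMap, cMap', eMap] <;> abel
  · simp [cMap, cMap', eMap] <;> abel

lemma id4 : cMap φ ψ H ≫ mappingCone.inr φ + eMap φ ψ H ≫ eMap' φ = 𝟙 (mappingCone φ) := by
  ext n
  rw [mappingCone.ext_from_iff _ (n + 1) n rfl]
  constructor
  · simp [cMap, eMap, eMap', mappingCone.map] <;> abel
  · simp [cMap, eMap, eMap', mappingCone.map] <;> abel

lemma id5 : (-ψ) ≫ (-φ) + mappingCone.inr φ ≫ cMap φ ψ H = 𝟙 N := by
  simp [cMap] <;> abel

lemma id6 : (-ψ) ≫ mappingCone.inr (𝟙 M) + mappingCone.inr φ ≫ eMap φ ψ H = 0 := by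
  simp [eMap] <;> abel

lemma id7 : cMap' φ ψ H ≫ (-φ) + eMap' φ ≫ cMap φ ψ H = 0 := by
  ext n
  rw [mappingCone.ext_from_iff _ (n + 1) n rfl]
  constructor
  · simp [cMap, cMap', eMap', mappingCone.map] <;> abel
  · simp [cMap, cMap', eMap', mappingCone.map] <;> abel

lemma id8 : cMap' φ ψ H ≫ mappingCone.inr (𝟙 M) + eMap' φ ≫ eMap φ ψ H =
    𝟙 (mappingCone (𝟙 M)) := by
  ext n
  rw [mappingCone.ext_from_iff _ (n + 1) n rfl]
  constructor
  · simp [cMap', eMap, eMap', mappingCone.map] <;> abel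
  · simp [cMap', eMap, eMap', mappingCone.map] <;> abel

theorem iso_of_matrix {D : Type*} [Category D] [Preadditive D]
    {A B A' B' : D} [HasBinaryBiproduct A B] [HasBinaryBiproduct A' B']
    (a : A ⟶ A') (b : A ⟶ B') (c : B ⟶ A') (e : B ⟶ B')
    (a' : A' ⟶ A) (b' : A' ⟶ B) (c' : B' ⟶ A) (e' : B' ⟶ B)
    (h1 : a ≫ a' + b ≫ c' = 𝟙 A) (h2 : a ≫ b' + b ≫ e' = 0)
    (h3 : c ≫ a' + e ≫ c' = 0) (h4 : c ≫ b' + e ≫ e' = 𝟙 B)
    (h5 : a' ≫ a + b' ≫ c = 𝟙 A') (h6 : a' ≫ b + b' ≫ e = 0)
    (h7 : c' ≫ a + e' ≫ c = 0) (h8 : c' ≫ b + e' ≫ e = 𝟙 B') :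
    Nonempty (A ⊞ B ≅ A' ⊞ B') := by
  refine ⟨⟨biprod.desc (biprod.lift a b) (biprod.lift c e),
    biprod.desc (biprod.lift a' b') (biprod.lift c' e'), ?_, ?_⟩⟩
  · apply biprod.hom_ext' <;> apply biprod.hom_ext <;>
      simp [biprod.lift_desc_assoc, Preadditive.add_comp] <;>
      first | exact h1 | exact h2 | exact h3 | exact h4
  · apply biprod.hom_ext' <;> apply biprod.hom_ext <;>
      simp [biprod.lift_desc_assoc, Preadditive.add_comp] <;>
      first | exact h5 | exact h6 | exact h7 | exact h8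

include ψ H in
theorem stable_iso {D : Type*} [Category D] [Preadditive D] [HasBinaryBiproducts D]
    (F : CochainComplex C ℤ ⥤ D) [F.Additive] :
    Nonempty (F.obj M ⊞ F.obj (mappingCone φ) ≅ F.obj N ⊞ F.obj (mappingCone (𝟙 M))) := by
  refine iso_of_matrix (F.map (-φ)) (F.map (mappingCone.inr (𝟙 M))) (F.map (cMap φ ψ H))
    (F.map (eMap φ ψ H)) (F.map (-ψ)) (F.map (mappingCone.inr φ)) (F.map (cMap' φ ψ H))
    (F.map (eMap' φ)) ?_ ?_ ?_ ?_ ?_ ?_ ?_ ?_
  · rw [← F.map_comp, ← F.map_comp, ← F.map_add, id1, F.map_id]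
  · rw [← F.map_comp, ← F.map_comp, ← F.map_add, id2, F.map_zero]
  · rw [← F.map_comp, ← F.map_comp, ← F.map_add, id3, F.map_zero]
  · rw [← F.map_comp, ← F.map_comp, ← F.map_add, id4, F.map_id]
  · rw [← F.map_comp, ← F.map_comp, ← F.map_add, id5, F.map_id]
  · rw [← F.map_comp, ← F.map_comp, ← F.map_add, id6, F.map_zero]
  · rw [← F.map_comp, ← F.map_comp, ← F.map_add, id7, F.map_zero]
  · rw [← F.map_comp, ← F.map_comp, ← F.map_add, id8, F.map_id]

end Generic

section Mod

open CochainComplex TensorProduct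
open Groth.Agent.Helper6.PerfTri Groth.Agent.Helper6.PCm

variable {R : Type u} [CommRing R]

theorem cone_contractible {M N : CochainComplex (ModuleCat.{u} R) ℤ} (φ : M ⟶ N) (ψ : N ⟶ M)
    (h1 : Homotopy (φ ≫ ψ) (𝟙 M)) (h2 : Homotopy (ψ ≫ φ) (𝟙 N)) :
    Nonempty (Homotopy (𝟙 (mappingCone φ)) 0) := by
  let q := HomotopyCategory.quotient (ModuleCat.{u} R) (ComplexShape.up ℤ)
  haveI : IsIso (q.map φ) := ⟨⟨q.map ψ,
    by rw [← q.map_comp, HomotopyCategory.eq_of_homotopy _ _ h1, q.map_id],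
    by rw [← q.map_comp, HomotopyCategory.eq_of_homotopy _ _ h2, q.map_id]⟩⟩
  have hT := HomotopyCategory.mappingCone_triangleh_distinguished φ
  have hz : IsZero (mappingCone.triangleh φ).obj₃ :=
    (Pretriangulated.Triangle.isZero₃_iff_isIso₁ _ hT).2 (by
      show IsIso (q.map φ)
      infer_instance)
  refine ⟨HomotopyCategory.homotopyOfEq _ _ ?_⟩
  exact hz.eq_of_src _ _

theorem homotopy_of_Q_eq {E E' : CochainComplex (ModuleCat.{u} R) ℤ} [E.IsKProjective]
    (f g : E ⟶ E') (h : DerivedCategory.Q.map f = DerivedCategory.Q.map g) :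
    Nonempty (Homotopy f g) := by
  have hinj := (CochainComplex.IsKProjective.Qh_map_bijective E
    ((HomotopyCategory.quotient _ _).obj E')).1
  exact ⟨HomotopyCategory.homotopyOfEq _ _ (hinj h)⟩

theorem boundary_projective (C : CochainComplex (ModuleCat.{u} R) ℤ) (Hc : Homotopy (𝟙 C) 0)
    (hp : ∀ i, Module.Projective R (C.X i)) (i : ℤ) :
    Module.Projective R (LinearMap.range (C.d i (i + 1)).hom) := by
  haveI := hp i
  let s : C.X (i + 1) →ₗ[R] C.X i := (Hc.hom (i + 1) i).hom
  have key : ∀ y : C.X i,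
      (C.d i (i + 1)).hom (s ((C.d i (i + 1)).hom y)) = (C.d i (i + 1)).hom y := by
    intro y
    have h := Hc.comm (i + 1)
    rw [dNext_eq Hc.hom (show (ComplexShape.up ℤ).Rel (i + 1) (i + 1 + 1) by simp),
      prevD_eq Hc.hom (show (ComplexShape.up ℤ).Rel i (i + 1) by simp)] at h
    have h' := congrArg (fun g => g.hom ((C.d i (i + 1)).hom y)) h
    simp only [HomologicalComplex.id_f, HomologicalComplex.zero_f, add_zero, ModuleCat.hom_add,
      ModuleCat.hom_comp, ModuleCat.hom_id, LinearMap.add_apply, LinearMap.comp_apply,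
      LinearMap.id_apply] at h'
    have hdd : (C.d (i + 1) (i + 1 + 1)).hom ((C.d i (i + 1)).hom y) = 0 := by
      have := congrArg (fun g => g.hom y) (C.d_comp_d i (i + 1) (i + 1 + 1))
      exact this
    rw [hdd, map_zero, zero_add] at h'
    exact h'.symm
  refine Module.Projective.of_split
    (s ∘ₗ (LinearMap.range (C.d i (i + 1)).hom).subtype)
    ((C.d i (i + 1)).hom.rangeRestrict) ?_
  ext ⟨b, y, rfl⟩
  exact key y

theorem subsingleton_tensor_right (S' : Type u) [CommRing S'] [Algebra R S'] (L : Type u)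
    [AddCommGroup L] [Module R L] [Subsingleton L] : Subsingleton (S' ⊗[R] L) := by
  refine ⟨fun x y => ?_⟩
  have h0 : ∀ z : S' ⊗[R] L, z = 0 := by
    intro z
    induction z using TensorProduct.induction_on with
    | zero => rfl
    | tmul a b => rw [Subsingleton.elim b 0, TensorProduct.tmul_zero]
    | add a b ha hb => rw [ha, hb, add_zero]
  rw [h0 x, h0 y]

theorem free_away_of_dvd (L : Type u) [AddCommGroup L] [Module R L] (g f : R) (hgf : g ∣ f)
    (h : Module.Free (Localization.Away g) (Localization.Away g ⊗[R] L)) :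
    Module.Free (Localization.Away f) (Localization.Away f ⊗[R] L) := by
  have hu : IsUnit (algebraMap R (Localization.Away f) g) := by
    obtain ⟨g', rfl⟩ := hgf
    have := IsLocalization.Away.algebraMap_isUnit (S := Localization.Away (g * g')) (g * g')
    rw [map_mul] at this
    exact isUnit_of_mul_isUnit_left this
  let ρ : Localization.Away g →+* Localization.Away f := IsLocalization.Away.lift g hu
  letI : Algebra (Localization.Away g) (Localization.Away f) := ρ.toAlgebra
  haveI : IsScalarTower R (Localization.Away g) (Localization.Away f) :=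
    IsScalarTower.of_algebraMap_eq (fun x => (IsLocalization.Away.lift_eq g hu x).symm)
  exact Module.Free.of_equiv (TensorProduct.AlgebraTensorModule.cancelBaseChange R
    (Localization.Away g) (Localization.Away f) (Localization.Away f) L)

theorem exists_free_away (p : Ideal R) [p.IsPrime] (L : Type u) [AddCommGroup L] [Module R L]
    [Module.Finite R L] [Module.Projective R L] :
    ∃ f : R, f ∉ p ∧ Module.Free (Localization.Away f) (Localization.Away f ⊗[R] L) := by
  haveI : Module.FinitePresentation R L := Module.finitePresentation_of_projective R L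
  haveI : Module.Free (Localization.AtPrime p) (LocalizedModule p.primeCompl L) :=
    Module.free_of_flat_of_isLocalRing
  obtain ⟨r, hr, hr', _⟩ := Module.FinitePresentation.exists_free_localizedModule_powers
    p.primeCompl (LocalizedModule.mkLinearMap p.primeCompl L) (Localization.AtPrime p)
  refine ⟨r, hr, ?_⟩
  have hb : IsBaseChange (Localization.Away r)
      (LocalizedModule.mkLinearMap (Submonoid.powers r) L) :=
    IsLocalizedModule.isBaseChange (Submonoid.powers r) (Localization.Away r) _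
  haveI := hr'
  exact Module.Free.of_equiv hb.equiv.symm

theorem exists_free_away_family (p : Ideal R) [p.IsPrime] (L : ℤ → Type u)
    [∀ i, AddCommGroup (L i)] [∀ i, Module R (L i)]
    (hfp : ∀ i, Module.Finite R (L i) ∧ Module.Projective R (L i)) (lo hi : ℤ)
    (hz : ∀ i, i < lo ∨ hi < i → Subsingleton (L i)) :
    ∃ f : R, f ∉ p ∧ ∀ i, Module.Free (Localization.Away f) (Localization.Away f ⊗[R] L i) := by
  have h1 : ∀ i, ∃ f : R, f ∉ p ∧
      Module.Free (Localization.Away f) (Localization.Away f ⊗[R] L i) := by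
    intro i
    haveI := (hfp i).1
    haveI := (hfp i).2
    exact exists_free_away p (L i)
  choose fi hfi hfree using h1
  refine ⟨∏ i ∈ Finset.Icc lo hi, fi i, ?_, ?_⟩
  · intro hmem
    obtain ⟨i, -, hi'⟩ := (Ideal.IsPrime.prod_mem_iff).1 hmem
    exact hfi i hi'
  · intro i
    by_cases hmem : i ∈ Finset.Icc lo hi
    · exact free_away_of_dvd (L i) (fi i) _ (Finset.dvd_prod_of_mem _ hmem) (hfree i)
    · haveI : Subsingleton (L i) := hz i (by rw [Finset.mem_Icc] at hmem; omega)
      haveI := subsingleton_tensor_right (R := R)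
        (Localization.Away (∏ i ∈ Finset.Icc lo hi, fi i)) (L i)
      exact Module.Free.of_subsingleton _ _

theorem free_range_extF {S : Type u} [CommRing S] [Algebra R S] [Module.Flat R S]
    {X Y : ModuleCat.{u} R} (g : X ⟶ Y)
    (hfree : Module.Free S (S ⊗[R] LinearMap.range g.hom)) :
    Module.Free S (LinearMap.range ((extF R S).map g).hom) := by
  let B : ModuleCat.{u} R := ModuleCat.of R (LinearMap.range g.hom)
  let g' : X ⟶ B := ModuleCat.ofHom g.hom.rangeRestrict
  let ι : B ⟶ Y := ModuleCat.ofHom (LinearMap.range g.hom).subtype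
  have hfac : g = g' ≫ ι := by
    apply ModuleCat.hom_ext
    exact LinearMap.ext fun x => rfl
  haveI : Epi g' := (ModuleCat.epi_iff_surjective g').2 g.hom.surjective_rangeRestrict
  haveI : Mono ι := (ModuleCat.mono_iff_injective ι).2 (Submodule.injective_subtype _)
  have hsurj : Function.Surjective ((extF R S).map g').hom :=
    (ModuleCat.epi_iff_surjective _).1 inferInstance
  have hinj : Function.Injective ((extF R S).map ι).hom :=
    (ModuleCat.mono_iff_injective _).1 inferInstance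
  have hmap : (extF R S).map g = (extF R S).map g' ≫ (extF R S).map ι := by
    rw [← Functor.map_comp, ← hfac]
  have hrange : LinearMap.range ((extF R S).map g).hom =
      LinearMap.range ((extF R S).map ι).hom := by
    rw [hmap, ModuleCat.hom_comp,
      LinearMap.range_comp_of_range_eq_top _ (LinearMap.range_eq_top.2 hsurj)]
  rw [hrange]
  haveI : Module.Free S (S ⊗[R] (B : Type u)) := hfree
  exact Module.Free.of_equiv ((extIso B).symm.trans (LinearEquiv.ofInjective _ hinj))

theorem trivial_cx_conditions {S : Type u} [CommRing S] [Algebra R S] [Module.Flat R S]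
    (C : CochainComplex (ModuleCat.{u} R) ℤ) (Hc : Homotopy (𝟙 C) 0) (lo hi : ℤ)
    (hz : ∀ i, i < lo ∨ hi < i → IsZero (C.X i))
    (hfin : ∀ i, Module.Finite R (C.X i))
    (hfreeX : ∀ i, Module.Free S (S ⊗[R] C.X i))
    (hfreeB : ∀ i, Module.Free S (S ⊗[R] LinearMap.range (C.d i (i + 1)).hom)) :
    (∃ a' b' : ℤ, DRing.VanishesOutside
        (((extF R S).mapHomologicalComplex (ComplexShape.up ℤ)).obj C) a' b') ∧
      DRing.TermwiseFiniteFree (((extF R S).mapHomologicalComplex (ComplexShape.up ℤ)).obj C) ∧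
      (∀ i : ℤ, Module.Free S (LinearMap.range
        ((((extF R S).mapHomologicalComplex (ComplexShape.up ℤ)).obj C).d i (i + 1)).hom)) ∧
      Nonempty (Homotopy (𝟙 (((extF R S).mapHomologicalComplex (ComplexShape.up ℤ)).obj C)) 0) := by
  refine ⟨⟨lo, hi, fun i h => Functor.map_isZero (extF R S) (hz i h)⟩, ?_, ?_, ?_⟩
  · intro i
    haveI := hfin i
    haveI := hfreeX i
    exact ⟨Module.Finite.equiv (extIso (C.X i)).symm, Module.Free.of_equiv (extIso (C.X i)).symm⟩
  · intro i
    exact free_range_extF (C.d i (i + 1)) (hfreeB i)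
  · exact ⟨(Homotopy.ofEq (by simp)).trans (((extF R S).mapHomotopy Hc).trans
      (Homotopy.ofEq (by simp)))⟩

theorem cone_terms {M N : CochainComplex (ModuleCat.{u} R) ℤ} (φ : M ⟶ N)
    (hM : ∀ i, Module.Finite R (M.X i) ∧ Module.Projective R (M.X i))
    (hN : ∀ i, Module.Finite R (N.X i) ∧ Module.Projective R (N.X i)) (i : ℤ) :
    Module.Finite R ((mappingCone φ).X i) ∧ Module.Projective R ((mappingCone φ).X i) := by
  haveI := (hM (i + 1)).1
  haveI := (hM (i + 1)).2
  haveI := (hN i).1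
  haveI := (hN i).2
  exact ⟨Module.Finite.equiv (coneEquiv φ i).symm, Module.Projective.of_equiv (coneEquiv φ i).symm⟩

theorem cone_terms_free {S : Type u} [CommRing S] [Algebra R S]
    {M N : CochainComplex (ModuleCat.{u} R) ℤ} (φ : M ⟶ N)
    (hM : ∀ i, Module.Free S (S ⊗[R] M.X i)) (hN : ∀ i, Module.Free S (S ⊗[R] N.X i)) (i : ℤ) :
    Module.Free S (S ⊗[R] (mappingCone φ).X i) := by
  haveI := hM (i + 1)
  haveI := hN i
  haveI : Module.Free S (S ⊗[R] (M.X (i + 1) × N.X i)) :=
    Module.Free.of_equiv (TensorProduct.prodRight R S S (M.X (i + 1)) (N.X i)).symm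
  exact Module.Free.of_equiv
    (TensorProduct.AlgebraTensorModule.congr (LinearEquiv.refl S S) (coneEquiv φ i)).symm

end Mod


/-- Let `p ⊆ R` be a prime and `M•`, `N•` bounded complexes whose terms are finite projective
`R`-modules and which are isomorphic in `D(R)`. Then for some `f ∉ p` the localized complexes `M•_f`
and `N•_f` become isomorphic once a finite direct sum of trivial complexes is added to each: `M•_f ⊕
P•` and `N•_f ⊕ Q•` are isomorphic as complexes, with `P•`, `Q•` finite direct sums of copies of `0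
→ R_f = R_f → 0` (placed in arbitrary degrees), expressed here as: bounded, with finite free terms
and free boundary modules, and with null-homotopic identity. -/
theorem result (R : Type u) [CommRing R] (p : Ideal R) [p.IsPrime]
    (M N : DRing.Cx R) (a b : ℤ) (hM : DRing.VanishesOutside M a b) (hN : DRing.VanishesOutside N a b)
    (hMp : DRing.TermwiseFiniteProjective M) (hNp : DRing.TermwiseFiniteProjective N)
    (h : Nonempty (DRing.toD M ≅ DRing.toD N)) :
    ∃ f : R, f ∉ p ∧ ∃ P Q : DRing.Cx (Localization.Away f),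
      ((∃ a' b' : ℤ, DRing.VanishesOutside P a' b') ∧ DRing.TermwiseFiniteFree P ∧
          (∀ i : ℤ, Module.Free (Localization.Away f) (LinearMap.range (P.d i (i + 1)).hom)) ∧ Nonempty (Homotopy (𝟙 P) 0)) ∧
      ((∃ a' b' : ℤ, DRing.VanishesOutside Q a' b') ∧ DRing.TermwiseFiniteFree Q ∧
          (∀ i : ℤ, Module.Free (Localization.Away f) (LinearMap.range (Q.d i (i + 1)).hom)) ∧ Nonempty (Homotopy (𝟙 Q) 0)) ∧
      Nonempty ((((ModuleCat.extendScalars (algebraMap R (Localization.Away f))).mapHomologicalComplex (ComplexShape.up ℤ)).obj M) ⊞ P ≅ (((ModuleCat.extendScalars (algebraMap R (Localization.Away f))).mapHomologicalComplex (ComplexShape.up ℤ)).obj N) ⊞ Q) := by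
  classical
  obtain ⟨iso⟩ := h
  haveI : M.IsKProjective := Groth.Agent.Helper6.PerfTri.kproj_of_bdd M b
    (fun i hi => hM i (Or.inr hi)) (fun i => (hMp i).2)
  haveI : N.IsKProjective := Groth.Agent.Helper6.PerfTri.kproj_of_bdd N b
    (fun i hi => hN i (Or.inr hi)) (fun i => (hNp i).2)
  obtain ⟨φ, hφ⟩ := Groth.Agent.Helper6.PerfTri.lift_of_kproj (E := M) (E' := N) iso.hom
  obtain ⟨ψ, hψ⟩ := Groth.Agent.Helper6.PerfTri.lift_of_kproj (E := N) (E' := M) iso.inv
  obtain ⟨H1⟩ := homotopy_of_Q_eq (φ ≫ ψ) (𝟙 M) (by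
    rw [CategoryTheory.Functor.map_comp, hφ, hψ, iso.hom_inv_id, CategoryTheory.Functor.map_id])
  obtain ⟨H2⟩ := homotopy_of_Q_eq (ψ ≫ φ) (𝟙 N) (by
    rw [CategoryTheory.Functor.map_comp, hψ, hφ, iso.inv_hom_id, CategoryTheory.Functor.map_id])
  obtain ⟨Hc⟩ := cone_contractible φ ψ H1 H2
  have Hc' : Homotopy (𝟙 (CochainComplex.mappingCone (𝟙 M))) 0 :=
    CochainComplex.mappingCone.homotopyToZeroOfId M
  have hCt := cone_terms φ hMp hNp
  have hC't := cone_terms (𝟙 M) hMp hMp
  obtain ⟨f1, hf1, hfree1⟩ := exists_free_away_family p (fun i => (M.X i : Type u)) hMp a b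
    (fun i hi => ModuleCat.subsingleton_of_isZero (hM i hi))
  obtain ⟨f2, hf2, hfree2⟩ := exists_free_away_family p (fun i => (N.X i : Type u)) hNp a b
    (fun i hi => ModuleCat.subsingleton_of_isZero (hN i hi))
  obtain ⟨f3, hf3, hfree3⟩ := exists_free_away_family p
    (fun i => ↥(LinearMap.range ((CochainComplex.mappingCone φ).d i (i + 1)).hom))
    (fun i => ⟨by haveI := (hCt i).1; infer_instance,
      boundary_projective _ Hc (fun j => (hCt j).2) i⟩)
    (a - 2) b (fun i hi => by
      haveI : Subsingleton ((CochainComplex.mappingCone φ).X (i + 1)) :=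
        ModuleCat.subsingleton_of_isZero (Groth.Agent.Helper6.PerfTri.cone_isZero φ (i + 1)
          (hM _ (by omega)) (hN _ (by omega)))
      exact ⟨fun x y => Subtype.ext (Subsingleton.elim _ _)⟩)
  obtain ⟨f4, hf4, hfree4⟩ := exists_free_away_family p
    (fun i => ↥(LinearMap.range ((CochainComplex.mappingCone (𝟙 M)).d i (i + 1)).hom))
    (fun i => ⟨by haveI := (hC't i).1; infer_instance,
      boundary_projective _ Hc' (fun j => (hC't j).2) i⟩)
    (a - 2) b (fun i hi => by
      haveI : Subsingleton ((CochainComplex.mappingCone (𝟙 M)).X (i + 1)) :=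
        ModuleCat.subsingleton_of_isZero (Groth.Agent.Helper6.PerfTri.cone_isZero (𝟙 M) (i + 1)
          (hM _ (by omega)) (hM _ (by omega)))
      exact ⟨fun x y => Subtype.ext (Subsingleton.elim _ _)⟩)
  have hfp : f1 * f2 * f3 * f4 ∉ p := by
    intro hmem
    rcases (‹p.IsPrime›.mem_or_mem hmem) with h | h
    · rcases (‹p.IsPrime›.mem_or_mem h) with h | h
      · rcases (‹p.IsPrime›.mem_or_mem h) with h | h
        · exact hf1 h
        · exact hf2 h
      · exact hf3 h
    · exact hf4 h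
  refine ⟨f1 * f2 * f3 * f4, hfp, ?_⟩
  haveI : Module.Flat R (Localization.Away (f1 * f2 * f3 * f4)) :=
    IsLocalization.flat _ (Submonoid.powers (f1 * f2 * f3 * f4))
  have d1 : f1 ∣ f1 * f2 * f3 * f4 := ⟨f2 * f3 * f4, by ring⟩
  have d2 : f2 ∣ f1 * f2 * f3 * f4 := ⟨f1 * f3 * f4, by ring⟩
  have d3 : f3 ∣ f1 * f2 * f3 * f4 := ⟨f1 * f2 * f4, by ring⟩
  have d4 : f4 ∣ f1 * f2 * f3 * f4 := ⟨f1 * f2 * f3, by ring⟩
  have hfM : ∀ i, Module.Free (Localization.Away (f1 * f2 * f3 * f4))
      (TensorProduct R (Localization.Away (f1 * f2 * f3 * f4)) (M.X i)) :=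
    fun i => free_away_of_dvd _ f1 _ d1 (hfree1 i)
  have hfN : ∀ i, Module.Free (Localization.Away (f1 * f2 * f3 * f4))
      (TensorProduct R (Localization.Away (f1 * f2 * f3 * f4)) (N.X i)) :=
    fun i => free_away_of_dvd _ f2 _ d2 (hfree2 i)
  have hfB : ∀ i, Module.Free (Localization.Away (f1 * f2 * f3 * f4))
      (TensorProduct R (Localization.Away (f1 * f2 * f3 * f4))
        ↥(LinearMap.range ((CochainComplex.mappingCone φ).d i (i + 1)).hom)) :=
    fun i => free_away_of_dvd _ f3 _ d3 (hfree3 i)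
  have hfB' : ∀ i, Module.Free (Localization.Away (f1 * f2 * f3 * f4))
      (TensorProduct R (Localization.Away (f1 * f2 * f3 * f4))
        ↥(LinearMap.range ((CochainComplex.mappingCone (𝟙 M)).d i (i + 1)).hom)) :=
    fun i => free_away_of_dvd _ f4 _ d4 (hfree4 i)
  obtain ⟨c1, c2, c3, c4⟩ := trivial_cx_conditions (S := Localization.Away (f1 * f2 * f3 * f4))
    (CochainComplex.mappingCone φ) Hc (a - 1) b
    (fun i hi => Groth.Agent.Helper6.PerfTri.cone_isZero φ i (hM _ (by omega)) (hN _ (by omega)))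
    (fun i => (hCt i).1) (cone_terms_free φ hfM hfN) hfB
  obtain ⟨c1', c2', c3', c4'⟩ := trivial_cx_conditions
    (S := Localization.Away (f1 * f2 * f3 * f4))
    (CochainComplex.mappingCone (𝟙 M)) Hc' (a - 1) b
    (fun i hi => Groth.Agent.Helper6.PerfTri.cone_isZero (𝟙 M) i (hM _ (by omega))
      (hM _ (by omega)))
    (fun i => (hC't i).1) (cone_terms_free (𝟙 M) hfM hfM) hfB'
  exact ⟨_, _, ⟨c1, c2, c3, c4⟩, ⟨c1', c2', c3', c4'⟩,
    stable_iso φ ψ H1 ((Groth.Agent.Helper6.PCm.extF R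
      (Localization.Away (f1 * f2 * f3 * f4))).mapHomologicalComplex (ComplexShape.up ℤ))⟩

end Groth.Agent.S12098
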