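import Groth.Statements.S12102
import Groth.Agent.H23.PCohGen
import Groth.Agent.H23.PCohCoh2

set_option autoImplicit false
universe w v u
open CategoryTheory CategoryTheory.Limits
open PCoh

namespace Groth.Agent.S12102

open Groth.Agent.H23.PCohLib DerivedCategory

section Chain

variable {C : Type u} [Category.{v} C] [Abelian C]

lemma chain_cycles_shortExact (K : ChainComplex C ℕ) (j : ℕ) (hex : K.ExactAt j) :
    (ShortComplex.mk (K.iCycles (j + 1)) (K.toCycles (j + 1) j)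
      (by rw [← cancel_mono (K.iCycles j)]; simp)).ShortExact := by
  refine ShortComplex.ShortExact.mk' ?_ (by dsimp; infer_instance) ?_
  · rw [ShortComplex.exact_iff_exact_up_to_refinements]
    intro A x₂ hx₂
    dsimp at x₂ hx₂
    have h : x₂ ≫ K.d (j + 1) j = 0 := by
      rw [← K.toCycles_i (j + 1) j, ← Category.assoc, hx₂, zero_comp]
    exact ⟨A, 𝟙 A, inferInstance, K.liftCycles x₂ j (by simp) h, by simp⟩
  · dsimp
    rw [epi_iff_surjective_up_to_refinements]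
    intro A z
    obtain ⟨A', π, hπ, x₁, hx₁⟩ := (K.exactAt_iff_exact_up_to_refinements (j + 1) j
      ((ComplexShape.down ℕ).next j) (by simp) rfl).1 hex (z ≫ K.iCycles j) (by simp)
    refine ⟨A', π, hπ, x₁, ?_⟩
    rw [← cancel_mono (K.iCycles j), Category.assoc, hx₁, Category.assoc, K.toCycles_i]

variable [HasDerivedCategory.{w} C] (P : ObjectProperty C) [P.IsClosedUnderIsomorphisms]
  [P.ContainsZero] (hsum : ∀ X Y : C, P X → P Y → P (X ⨯ Y))
  (hqs : PCoh.IsQuasiStableUnderKernels P) (hql : PCoh.IsQuasiLiftable P)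

include hsum hqs hql in
lemma FP_cokernel {j : ℤ} {S : ShortComplex C} (hS : S.ShortExact) (h₁ : FP P j S.X₁)
    (h₂ : FP P (j + 1) S.X₂) : FP P (j + 1) S.X₃ :=
  npc_cone P hsum hqs hql (-(j + 1)) hS.singleTriangle hS.singleTriangle_distinguished
    (NPC.mono P (by omega) h₁) h₂

include hsum hqs hql in
theorem forward (F : C) (n : ℕ) (K : ChainComplex C ℕ) (e : K.X 0 ≅ F)
    (hex : ∀ j : ℕ, j ≤ n → K.ExactAt j)
    (hP : ∀ j : ℕ, 1 ≤ j → j ≤ n + 1 → P (K.X j)) : FP P (n : ℤ) F := by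
  have main : ∀ d j : ℕ, j + d = n → FP P (d : ℤ) (K.cycles j) := by
    intro d
    induction d with
    | zero =>
      intro j hj
      have hS := chain_cycles_shortExact K j (hex j (by omega))
      haveI : Epi (K.toCycles (j + 1) j) := hS.epi_g
      have hft : PCoh.IsOfFiniteType P (K.cycles j) :=
        ⟨K.X (j + 1), K.toCycles (j + 1) j, hP (j + 1) (by omega) (by omega), inferInstance⟩
      simpa using FP.of_ft P hsum hql hft
    | succ d ih =>
      intro j hj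
      have hS := chain_cycles_shortExact K j (hex j (by omega))
      have h₁ : FP P (d : ℤ) (K.cycles (j + 1)) := ih (j + 1) (by omega)
      have h₂ : FP P ((d : ℤ) + 1) (K.X (j + 1)) :=
        FP.of_P P _ (hP (j + 1) (by omega) (by omega))
      have := FP_cokernel P hsum hqs hql hS h₁ h₂
      simpa using this
  haveI : IsIso (K.iCycles 0) := K.isIso_iCycles 0 0 (by simp) (K.shape _ _ (by simp))
  exact FP.of_iso P (asIso (K.iCycles 0) ≪≫ e) (main n 0 (by omega))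

end Chain

section Aug

variable {C : Type u} [Category.{v} C] [Abelian C] (R : CochainComplex C ℤ) (f : ℕ → ℤ) (F : C)
  (aug : R.X (f 0) ⟶ F)

/-- objects of the augmented chain complex `⋯ → R^{f 1} → R^{f 0} → F`. -/
noncomputable def KX : ℕ → C
  | 0 => F
  | (k + 1) => R.X (f k)

/-- its differentials. -/
noncomputable def KD : ∀ k : ℕ, KX R f F (k + 1) ⟶ KX R f F k
  | 0 => aug
  | (k + 1) => R.d (f (k + 1)) (f k)

lemma KD_sq (h : R.d (f 1) (f 0) ≫ aug = 0) (k : ℕ) :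
    KD R f F aug (k + 1) ≫ KD R f F aug k = 0 := by
  cases k with
  | zero => exact h
  | succ k => exact R.d_comp_d _ _ _

/-- the augmented chain complex. -/
noncomputable def KK (h : R.d (f 1) (f 0) ≫ aug = 0) : ChainComplex C ℕ :=
  ChainComplex.of (KX R f F) (KD R f F aug) (KD_sq R f F aug h)

lemma KK_d (h : R.d (f 1) (f 0) ≫ aug = 0) (k : ℕ) :
    (KK R f F aug h).d (k + 1) k = KD R f F aug k :=
  ChainComplex.of_d _ _ k

lemma KK_exact_zero (h : R.d (f 1) (f 0) ≫ aug = 0) [Epi aug] :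
    (KK R f F aug h).ExactAt 0 := by
  rw [HomologicalComplex.exactAt_iff_exact_up_to_refinements _ 1 0 0
    ((ComplexShape.down ℕ).prev_eq' (by simp)) ChainComplex.next_nat_zero]
  intro A x₂ _
  change A ⟶ F at x₂
  obtain ⟨A', π, hπ, x₁, hx₁⟩ := surjective_up_to_refinements_of_epi aug x₂
  have e0 : (KK R f F aug h).d 1 0 = aug := KK_d R f F aug h 0
  refine ⟨A', π, hπ, x₁, ?_⟩
  rw [e0]
  exact hx₁

lemma KK_exact_one (h : R.d (f 1) (f 0) ≫ aug = 0)
    (hex : ∀ ⦃A : C⦄ (x : A ⟶ R.X (f 0)), x ≫ aug = 0 →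
      ∃ (A' : C) (π : A' ⟶ A) (_ : Epi π) (x₁ : A' ⟶ R.X (f 1)),
        π ≫ x = x₁ ≫ R.d (f 1) (f 0)) :
    (KK R f F aug h).ExactAt 1 := by
  rw [HomologicalComplex.exactAt_iff_exact_up_to_refinements _ 2 1 0
    ((ComplexShape.down ℕ).prev_eq' (by simp)) ((ComplexShape.down ℕ).next_eq' (by simp))]
  intro A x₂ hx₂
  have e0 : (KK R f F aug h).d 1 0 = aug := KK_d R f F aug h 0
  have e1 : (KK R f F aug h).d 2 1 = R.d (f 1) (f 0) := KK_d R f F aug h 1
  rw [e0] at hx₂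
  rw [e1]
  exact hex x₂ hx₂

lemma KK_exact_succ (h : R.d (f 1) (f 0) ≫ aug = 0) (hf : ∀ k, f (k + 1) + 1 = f k) (k : ℕ)
    (hex : R.ExactAt (f (k + 1))) : (KK R f F aug h).ExactAt (k + 2) := by
  rw [HomologicalComplex.exactAt_iff_exact_up_to_refinements _ (k + 3) (k + 2) (k + 1)
    ((ComplexShape.down ℕ).prev_eq' (by simp)) ((ComplexShape.down ℕ).next_eq' (by simp))]
  intro A x₂ hx₂
  have e1 : (KK R f F aug h).d (k + 2) (k + 1) = R.d (f (k + 1)) (f k) :=
    KK_d R f F aug h (k + 1)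
  have e2 : (KK R f F aug h).d (k + 3) (k + 2) = R.d (f (k + 2)) (f (k + 1)) :=
    KK_d R f F aug h (k + 2)
  rw [e1] at hx₂
  rw [e2]
  have h1 : f (k + 2) + 1 = f (k + 1) := hf (k + 1)
  have h2 : f (k + 1) + 1 = f k := hf k
  exact (R.exactAt_iff_exact_up_to_refinements (f (k + 2)) (f (k + 1)) (f k)
    (by simp; omega) (by simp; omega)).1 hex x₂ hx₂

theorem backward_aux (hf : ∀ k, f (k + 1) + 1 = f k)
    (hz : IsZero (R.X (f 0 + 1))) (ψ : R.homology (f 0) ⟶ F) [Epi ψ] (n : ℕ)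
    (hψ : 1 ≤ n → Mono ψ) (hex : ∀ k : ℕ, k + 2 ≤ n → R.ExactAt (f (k + 1))) :
    ∃ K : ChainComplex C ℕ, Nonempty (K.X 0 ≅ F) ∧ (∀ j : ℕ, j ≤ n → K.ExactAt j) ∧
      ∀ k : ℕ, K.X (k + 1) = R.X (f k) := by
  have hd0 : 𝟙 (R.X (f 0)) ≫ R.d (f 0) (f 0 + 1) = 0 := hz.eq_of_tgt _ _
  have hnext : (ComplexShape.up ℤ).next (f 0) = f 0 + 1 := by simp
  obtain ⟨c, hc⟩ : ∃ c : R.X (f 0) ⟶ R.cycles (f 0), c ≫ R.iCycles (f 0) = 𝟙 _ :=
    ⟨R.liftCycles (𝟙 _) (f 0 + 1) hnext hd0, R.liftCycles_i _ _ _ _⟩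
  have hc' : R.iCycles (f 0) ≫ c = 𝟙 _ := by
    rw [← cancel_mono (R.iCycles (f 0)), Category.assoc, hc, Category.comp_id, Category.id_comp]
  haveI : IsIso c := ⟨⟨R.iCycles (f 0), hc, hc'⟩⟩
  have hdc : ∀ i, R.d i (f 0) ≫ c = R.toCycles i (f 0) := fun i => by
    rw [← cancel_mono (R.iCycles (f 0)), Category.assoc, hc, Category.comp_id, R.toCycles_i]
  have hxc : ∀ {A : C} (x : A ⟶ R.X (f 0)),
      x ≫ c = R.liftCycles x (f 0 + 1) hnext (hz.eq_of_tgt _ _) := fun x => by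
    rw [← cancel_mono (R.iCycles (f 0)), Category.assoc, hc, Category.comp_id, R.liftCycles_i]
  have h : R.d (f 1) (f 0) ≫ (c ≫ R.homologyπ (f 0) ≫ ψ) = 0 := by
    rw [← Category.assoc, hdc, ← Category.assoc, R.toCycles_comp_homologyπ, zero_comp]
  haveI : Epi (c ≫ R.homologyπ (f 0) ≫ ψ) := inferInstance
  refine ⟨KK R f F (c ≫ R.homologyπ (f 0) ≫ ψ) h, ⟨Iso.refl _⟩, ?_, fun k => rfl⟩
  intro j hj
  match j, hj with
  | 0, _ => exact KK_exact_zero R f F _ h
  | 1, hj =>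
    haveI := hψ hj
    apply KK_exact_one R f F _ h
    intro A x hx
    have hx' : (x ≫ c) ≫ R.homologyπ (f 0) = 0 := by
      rw [← cancel_mono ψ, zero_comp]
      simpa only [Category.assoc] using hx
    rw [hxc x] at hx'
    have h01 : f 1 + 1 = f 0 := hf 0
    obtain ⟨A', π, hπ, x₁, hx₁⟩ :=
      (R.liftCycles_comp_homologyπ_eq_zero_iff_up_to_refinements (f 1) (f 0) (f 0 + 1)
        (by simp; omega) hnext x (hz.eq_of_tgt _ _)).1 hx'
    exact ⟨A', π, hπ, x₁, hx₁⟩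
  | (k + 2), hj => exact KK_exact_succ R f F _ h hf k (hex k hj)

end Aug

section Back

variable {C : Type u} [Category.{v} C] [Abelian C] [HasDerivedCategory.{w} C]
  (P : ObjectProperty C) [P.IsClosedUnderIsomorphisms]
  [P.ContainsZero] (hsum : ∀ X Y : C, P X → P Y → P (X ⨯ Y))
  (hqs : PCoh.IsQuasiStableUnderKernels P) (hql : PCoh.IsQuasiLiftable P)

include hsum hqs hql in
theorem backward (F : C) (n : ℕ) (hF : FP P (n : ℤ) F) :
    ∃ K : ChainComplex C ℕ, Nonempty (K.X 0 ≅ F) ∧ (∀ j : ℕ, j ≤ n → K.ExactAt j) ∧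
        (∀ j : ℕ, n + 1 < j → IsZero (K.X j)) ∧ (∀ j : ℕ, 1 ≤ j → j ≤ n + 1 → P (K.X j)) := by
  obtain ⟨E₀, hE₀, ⟨e⟩⟩ := hF
  obtain ⟨b, hb⟩ := hE₀.1
  have iso : ∀ i, E₀.homology i ≅ (homologyFunctor C i).obj ((singleFunctor C 0).obj F) :=
    fun i => ((homologyFunctorFactors C i).app E₀).symm ≪≫ (homologyFunctor C i).mapIso e
  have hE0z : ∀ i : ℤ, i ≠ 0 → IsZero (E₀.homology i) := by
    intro i hi
    refine IsZero.of_iso ?_ (iso i)
    rcases lt_or_gt_of_ne hi with h | h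
    · exact isZero_of_isGE ((singleFunctor C 0).obj F) 0 i h
    · exact isZero_of_isLE ((singleFunctor C 0).obj F) 0 i h
  obtain ⟨R, t, -, hRz, hRP, hiso, hepi⟩ := approx_gen P hsum hqs hql (-(n : ℤ)) E₀ E₀ (𝟙 _) b hb
    (fun i hi => FP.of_P P _ (hE₀.2 i hi)) 1 (fun i hi => hE0z i (by omega))
  have φ : E₀.homology 0 ≅ F := iso 0 ≪≫ (singleFunctorCompHomologyFunctorIso C 0).app F
  have key : ∀ a : ℤ, a = 0 → ∃ ψ : R.homology a ⟶ F, Epi ψ ∧ (1 ≤ n → Mono ψ) := by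
    rintro a rfl
    have hepi0 : Epi (HomologicalComplex.homologyMap t 0) := by
      by_cases hn : n = 0
      · have : ∀ a : ℤ, a = -(n : ℤ) → Epi (HomologicalComplex.homologyMap t a) := by
          rintro a rfl; exact hepi
        exact this 0 (by simp [hn])
      · haveI := hiso 0 (by omega)
        infer_instance
    refine ⟨HomologicalComplex.homologyMap t 0 ≫ φ.hom, inferInstance, fun h1 => ?_⟩
    haveI := hiso 0 (by omega)
    infer_instance
  obtain ⟨f, hfk⟩ : ∃ f : ℕ → ℤ, ∀ k, f k = -(k : ℤ) := ⟨fun k => -(k : ℤ), fun _ => rfl⟩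
  have hf0 : f 0 = 0 := by simp [hfk]
  have hf : ∀ k, f (k + 1) + 1 = f k := fun k => by rw [hfk, hfk]; push_cast; ring
  obtain ⟨ψ, hψe, hψm⟩ := key (f 0) hf0
  haveI := hψe
  have hz0 : IsZero (R.X (f 0 + 1)) := hRz _ (Or.inr (by omega))
  have hexR : ∀ k : ℕ, k + 2 ≤ n → R.ExactAt (f (k + 1)) := by
    intro k hk
    have hlt : -(n : ℤ) < f (k + 1) := by rw [hfk]; push_cast; omega
    haveI := hiso _ hlt
    rw [HomologicalComplex.exactAt_iff_isZero_homology]
    exact IsZero.of_iso (hE0z _ (by rw [hfk]; push_cast; omega))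
      (asIso (HomologicalComplex.homologyMap t (f (k + 1))))
  obtain ⟨K, hK0, hKex, hKX⟩ := backward_aux R f F hf hz0 ψ n hψm hexR
  refine ⟨K, hK0, hKex, ?_, ?_⟩
  · intro j hj
    obtain ⟨k, rfl⟩ : ∃ k, j = k + 1 := ⟨j - 1, by omega⟩
    rw [hKX k]
    exact hRz _ (Or.inl (by rw [hfk]; omega))
  · intro j h1 _
    obtain ⟨k, rfl⟩ : ∃ k, j = k + 1 := ⟨j - 1, by omega⟩
    rw [hKX k]
    exact hRP _

end Back

/-- Let C be an abelian category and C₀ a strictly full additive subcategory, quasi-stable under kernels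
of epimorphisms and quasi-liftable; let F be an object of C and n a natural number. Then F is of
n-C₀-finite presentation (there is an exact sequence E_{n+1} → ⋯ → E_1 → F → 0 with all E_j in C₀;
encoded as an ℕ-indexed chain complex K with K_0 ≅ F, exact at the indices 0, …, n, zero beyond
index n + 1, and K_1, …, K_{n+1} in C₀) if and only if F placed in degree 0 is (−n)-pseudo-coherent
(isomorphic in D(C) to a strictly (−n)-pseudo-coherent complex). -/
theorem result {C : Type u} [Category.{v} C] [Abelian C] [HasDerivedCategory.{w} C]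
    (P : ObjectProperty C) [P.IsClosedUnderIsomorphisms] [P.ContainsZero] (hsum : ∀ X Y : C, P X → P Y → P (X ⨯ Y))
    (hqs : PCoh.IsQuasiStableUnderKernels P) (hql : PCoh.IsQuasiLiftable P)
    (F : C) (n : ℕ) :
    (∃ K : ChainComplex C ℕ, Nonempty (K.X 0 ≅ F) ∧ (∀ j : ℕ, j ≤ n → K.ExactAt j) ∧
        (∀ j : ℕ, n + 1 < j → IsZero (K.X j)) ∧ (∀ j : ℕ, 1 ≤ j → j ≤ n + 1 → P (K.X j))) ↔
      (∃ E : CochainComplex C ℤ, PCoh.IsStrictPC P (-(n : ℤ)) E ∧
        Nonempty (DerivedCategory.Q.obj E ≅ (DerivedCategory.singleFunctor C 0).obj F)) := by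
  constructor
  · rintro ⟨K, ⟨e⟩, hex, -, hP⟩
    exact forward P hsum hqs hql F n K e hex hP
  · intro hF
    exact backward P hsum hqs hql F n hF

end Groth.Agent.S12102
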