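import Groth.Statements.S12107
import Mathlib

set_option autoImplicit false
universe u
open CategoryTheory
open SGA4

namespace Groth.Agent.S12107

open CategoryTheory.Limits in
/-- In the topos of sheaves of sets on a small site, let U be an open (a subobject of the final object)
and, for an object X, let X_CU be the pushout of U ← U × X → X along the two projections. For a
morphism m : X ⟶ X' let k : X_CU ⟶ X'_CU be the induced morphism (compatible with the maps from U
and with m). Then the square with sides m, k and the canonical maps X ⟶ X_CU, X' ⟶ X'_CU is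
cartesian if and only if id_U × m : U × X ⟶ U × X' is an isomorphism (that is, m restricts to an
isomorphism over U). -/
theorem result {C : Type u} [SmallCategory C] (J : GrothendieckTopology C)
    (U : Sheaf J (Type u)) (hU : SGA4.IsOpen U) {X X' : Sheaf J (Type u)} (m : X ⟶ X')
    (k : pushout (prod.fst : U ⨯ X ⟶ U) (prod.snd : U ⨯ X ⟶ X) ⟶
      pushout (prod.fst : U ⨯ X' ⟶ U) (prod.snd : U ⨯ X' ⟶ X'))
    (hk₁ : pushout.inl (prod.fst : U ⨯ X ⟶ U) (prod.snd : U ⨯ X ⟶ X) ≫ k =
      pushout.inl (prod.fst : U ⨯ X' ⟶ U) (prod.snd : U ⨯ X' ⟶ X'))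
    (hk₂ : pushout.inr (prod.fst : U ⨯ X ⟶ U) (prod.snd : U ⨯ X ⟶ X) ≫ k =
      m ≫ pushout.inr (prod.fst : U ⨯ X' ⟶ U) (prod.snd : U ⨯ X' ⟶ X')) :
    IsPullback m (pushout.inr (prod.fst : U ⨯ X ⟶ U) (prod.snd : U ⨯ X ⟶ X))
        (pushout.inr (prod.fst : U ⨯ X' ⟶ U) (prod.snd : U ⨯ X' ⟶ X')) k ↔
      IsIso (prod.map (𝟙 U) m) := by
  have hpo : HasPushouts (Sheaf J (Type u)) := HasFiniteColimits.out WalkingSpan
  have hsub : ∀ {W : Sheaf J (Type u)} (f g : W ⟶ U), f = g := by
    intro W f g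
    have : Mono (terminal.from U) := hU
    rw [← cancel_mono (terminal.from U)]
    exact Subsingleton.elim _ _
  have hmono : ∀ Y : Sheaf J (Type u), Mono (prod.snd : U ⨯ Y ⟶ Y) := fun Y =>
    ⟨fun a b h => Limits.prod.hom_ext (hsub _ _) h⟩
  have := hmono X
  have := hmono X'
  have po : IsPushout (prod.fst : U ⨯ X ⟶ U) (prod.snd : U ⨯ X ⟶ X)
      (pushout.inl _ _) (pushout.inr _ _) := IsPushout.of_hasPushout _ _
  have po' : IsPushout (prod.fst : U ⨯ X' ⟶ U) (prod.snd : U ⨯ X' ⟶ X')
      (pushout.inl _ _) (pushout.inr _ _) := IsPushout.of_hasPushout _ _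
  constructor
  · intro h
    have A := Adhesive.isPullback_of_isPushout_of_mono_right po
    have A' := Adhesive.isPullback_of_isPushout_of_mono_right po'
    have B := A.paste_vert h.flip
    rw [hk₁] at B
    have e1 : (B.isoIsPullback _ _ A').hom = prod.map (𝟙 U) m := by
      apply Limits.prod.hom_ext
      · rw [B.isoIsPullback_hom_fst _ _ A', prod.map_fst, Category.comp_id]
      · rw [B.isoIsPullback_hom_snd _ _ A', prod.map_snd]
    rw [← e1]
    infer_instance
  · intro h
    have hf : IsPullback (prod.fst : U ⨯ X ⟶ U) (prod.map (𝟙 U) m) (𝟙 U)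
        (prod.fst : U ⨯ X' ⟶ U) :=
      IsPullback.of_vert_isIso ⟨by rw [prod.map_fst]⟩
    have hg : IsPullback (prod.snd : U ⨯ X ⟶ X) (prod.map (𝟙 U) m) m
        (prod.snd : U ⨯ X' ⟶ X') := by
      have w : (prod.snd : U ⨯ X ⟶ X) ≫ m = prod.map (𝟙 U) m ≫ prod.snd := by
        rw [prod.map_snd]
      refine ⟨⟨w⟩, ⟨PullbackCone.IsLimit.mk w
        (fun s => prod.lift (s.snd ≫ prod.fst) s.fst) ?_ ?_ ?_⟩⟩
      · intro s; exact prod.lift_snd _ _
      · intro s
        apply Limits.prod.hom_ext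
        · exact hsub _ _
        · rw [Category.assoc, prod.map_snd, ← Category.assoc, prod.lift_snd]
          exact s.condition
      · intro s l h1 h2
        apply Limits.prod.hom_ext
        · exact hsub _ _
        · rw [prod.lift_snd]; exact h1
    exact (((Adhesive.van_kampen' po') _ _ _ _ _ _ _ _ hf hg
      ⟨by rw [hk₁, Category.id_comp]⟩ ⟨hk₂⟩ ⟨pushout.condition⟩).mp po).2.flip

end Groth.Agent.S12107
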