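import Groth.Statements.S6135
import Mathlib

set_option autoImplicit false
open CategoryTheory CategoryTheory.Limits
universe u
open SGA4

namespace Groth.Agent.S6135

section helpers
open CategoryTheory CategoryTheory.Limits Opposite

section ev
variable {K : Type u} [SmallCategory K] {J : Type u} [SmallCategory J] [IsFiltered J]
  {D : J ⥤ (Kᵒᵖ ⥤ Type u)} {c : Cocone D} (hc : IsColimit c) (Z : Kᵒᵖ)
include hc

lemma ev_surj (s : c.pt.obj Z) : ∃ (j : J) (x : (D.obj j).obj Z), (c.ι.app j).app Z x = s :=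
  Types.jointly_surjective_of_isColimit
    (isColimitOfPreserves ((evaluation Kᵒᵖ (Type u)).obj Z) hc) s

lemma ev_surj₂ (s t : c.pt.obj Z) : ∃ (j : J) (x y : (D.obj j).obj Z),
    (c.ι.app j).app Z x = s ∧ (c.ι.app j).app Z y = t :=
  Types.FilteredColimit.jointly_surjective_of_isColimit₂
    (isColimitOfPreserves ((evaluation Kᵒᵖ (Type u)).obj Z) hc) s t

lemma ev_eq {j : J} (x y : (D.obj j).obj Z)
    (h : (c.ι.app j).app Z x = (c.ι.app j).app Z y) :
    ∃ (k : J) (a : j ⟶ k), (D.map a).app Z x = (D.map a).app Z y :=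
  (Types.FilteredColimit.isColimit_eq_iff'
    (isColimitOfPreserves ((evaluation Kᵒᵖ (Type u)).obj Z) hc) x y).mp h

end ev

variable {C : Type u} [SmallCategory C] {C' : Type u} [SmallCategory C'] (u : C ⥤ C')

noncomputable abbrev L : (Cᵒᵖ ⥤ Type u) ⥤ (C'ᵒᵖ ⥤ Type u) := u.op.lan
abbrev R : (C'ᵒᵖ ⥤ Type u) ⥤ (Cᵒᵖ ⥤ Type u) :=
  (Functor.whiskeringLeft Cᵒᵖ C'ᵒᵖ (Type u)).obj u.op
noncomputable abbrev adj : L u ⊣ R u := u.op.lanAdjunction (Type u)

noncomputable def unitEl (G : Cᵒᵖ ⥤ Type u) (X : C) (s : G.obj (op X)) :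
    ((L u).obj G).obj (op (u.obj X)) :=
  ((adj u).unit.app G).app (op X) s

lemma unitEl_map (G : Cᵒᵖ ⥤ Type u) {X Y : C} (f : X ⟶ Y) (s : G.obj (op Y)) :
    unitEl u G X (G.map f.op s) = ((L u).obj G).map (u.map f).op (unitEl u G Y s) :=
  ConcreteCategory.congr_hom (((adj u).unit.app G).naturality f.op) s

lemma unitEl_nat {G G' : Cᵒᵖ ⥤ Type u} (φ : G ⟶ G') (X : C) (s : G.obj (op X)) :
    unitEl u G' X (φ.app (op X) s) = ((L u).map φ).app (op (u.obj X)) (unitEl u G X s) :=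
  ConcreteCategory.congr_hom (NatTrans.congr_app ((adj u).unit.naturality φ) (op X)) s

def utilde (Y : C) : yoneda.obj Y ⟶ (R u).obj (yoneda.obj (u.obj Y)) where
  app X := ↾fun f => u.map f
  naturality := by intros; ext; simp

lemma utilde_app (Y X : C) (f : X ⟶ Y) : (utilde u Y).app (op X) f = u.map f := rfl

noncomputable def β (Y : C) : (L u).obj (yoneda.obj Y) ⟶ yoneda.obj (u.obj Y) :=
  ((adj u).homEquiv _ _).symm (utilde u Y)

lemma homEquiv_β (Y : C) : (adj u).homEquiv _ _ (β u Y) = utilde u Y :=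
  Equiv.apply_symm_apply _ _

lemma β_unitEl (Y X : C) (f : X ⟶ Y) :
    (β u Y).app (op (u.obj X)) (unitEl u (yoneda.obj Y) X f) = u.map f := by
  have h := homEquiv_β u Y
  rw [Adjunction.homEquiv_unit] at h
  exact ConcreteCategory.congr_hom (NatTrans.congr_app h (op X)) f

lemma homEquiv_lan_map {F G : Cᵒᵖ ⥤ Type u} (χ : F ⟶ G) :
    (adj u).homEquiv _ _ ((L u).map χ) = χ ≫ (adj u).unit.app G := by
  rw [Adjunction.homEquiv_unit]
  exact ((adj u).unit.naturality χ).symm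

lemma lan_map_eq_iff {F G : Cᵒᵖ ⥤ Type u} (φ ψ : F ⟶ G) :
    (L u).map φ = (L u).map ψ ↔ φ ≫ (adj u).unit.app G = ψ ≫ (adj u).unit.app G := by
  constructor
  · intro h
    rw [← homEquiv_lan_map, ← homEquiv_lan_map, h]
  · intro h
    apply ((adj u).homEquiv _ _).injective
    rw [homEquiv_lan_map, homEquiv_lan_map, h]

lemma unitEl_yoneda {X Y : C} (f : X ⟶ Y) :
    unitEl u (yoneda.obj Y) X f =
      ((L u).obj (yoneda.obj Y)).map (u.map f).op (unitEl u (yoneda.obj Y) Y (𝟙 Y)) := by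
  rw [← unitEl_map]
  congr 1
  exact (Category.comp_id f).symm

lemma comp_unit_eq {X : C} {G : Cᵒᵖ ⥤ Type u} (φ : yoneda.obj X ⟶ G) :
    φ ≫ (adj u).unit.app G =
      (yonedaEquiv (X := X) (F := (R u).obj ((L u).obj G))).symm
        (unitEl u G X (yonedaEquiv φ)) := by
  apply yonedaEquiv.injective
  rw [Equiv.apply_symm_apply, yonedaEquiv_comp]
  rfl

lemma faithful_of_injective
    (h : ∀ (X Y : C), Function.Injective
      (fun φ : yoneda.obj X ⟶ yoneda.obj Y => (L u).map φ)) : u.Faithful := by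
  refine ⟨?_⟩
  intro X Y f g hfg
  apply yoneda.map_injective
  apply h X Y
  show (L u).map (yoneda.map f) = (L u).map (yoneda.map g)
  rw [lan_map_eq_iff, comp_unit_eq, comp_unit_eq, yonedaEquiv_yoneda_map,
    yonedaEquiv_yoneda_map, unitEl_yoneda u f, unitEl_yoneda u g, hfg]

section cc
variable {u}
variable {G : Cᵒᵖ ⥤ Type u} (P : IndObjectPresentation G)

def cc (j : P.I) : yoneda.obj (P.F.obj j) ⟶ G := P.cocone.ι.app j

lemma cc_w {j k : P.I} (a : j ⟶ k) : yoneda.map (P.F.map a) ≫ cc P k = cc P j :=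
  P.cocone.w a

lemma cc_surj₂ (X : C) (s t : G.obj (op X)) : ∃ (j : P.I) (f g : X ⟶ P.F.obj j),
    (cc P j).app (op X) f = s ∧ (cc P j).app (op X) g = t :=
  ev_surj₂ P.coconeIsColimit (op X) s t

variable (u)

instance L_preserves : PreservesColimit (P.F ⋙ yoneda) (L u) := by
  haveI : PreservesColimitsOfSize.{u, u} (L u) := (adj u).leftAdjoint_preservesColimits
  infer_instance

lemma Lcc_eq (Z : C') {j : P.I} (x y : ((L u).obj (yoneda.obj (P.F.obj j))).obj (op Z))
    (h : ((L u).map (cc P j)).app (op Z) x = ((L u).map (cc P j)).app (op Z) y) :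
    ∃ (k : P.I) (a : j ⟶ k), ((L u).map (yoneda.map (P.F.map a))).app (op Z) x =
      ((L u).map (yoneda.map (P.F.map a))).app (op Z) y :=
  ev_eq (isColimitOfPreserves (L u) P.coconeIsColimit) (op Z) x y h

lemma Lcc_surj (Z : C') (z : ((L u).obj G).obj (op Z)) :
    ∃ (j : P.I) (x : ((L u).obj (yoneda.obj (P.F.obj j))).obj (op Z)),
      ((L u).map (cc P j)).app (op Z) x = z :=
  ev_surj (isColimitOfPreserves (L u) P.coconeIsColimit) (op Z) z

end cc

lemma unitEl_injective [u.Faithful] {G : Cᵒᵖ ⥤ Type u} (hG : IsIndObject G) (X : C) :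
    Function.Injective (unitEl u G X) := by
  intro s t hst
  let P := hG.presentation
  obtain ⟨j, f, g, hf, hg⟩ := cc_surj₂ P X s t
  rw [← hf, ← hg] at hst ⊢
  rw [unitEl_nat, unitEl_nat] at hst
  obtain ⟨k, a, hk⟩ := Lcc_eq u P (u.obj X) _ _ hst
  rw [← unitEl_nat, ← unitEl_nat] at hk
  have h3 := congrArg ((β u (P.F.obj k)).app (op (u.obj X))) hk
  rw [β_unitEl, β_unitEl] at h3
  have h4 := u.map_injective h3
  rw [← cc_w P a]
  exact congrArg ((cc P k).app (op X)) h4

lemma full_of_surjective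
    (h : ∀ (X Y : C), Function.Surjective
      (fun φ : yoneda.obj X ⟶ yoneda.obj Y => (L u).map φ)) : u.Full := by
  refine ⟨?_⟩
  intro X Y g
  let e : ((L u).obj (yoneda.obj Y)).obj (op (u.obj Y)) := unitEl u (yoneda.obj Y) Y (𝟙 Y)
  let x : ((L u).obj (yoneda.obj Y)).obj (op (u.obj X)) :=
    ((L u).obj (yoneda.obj Y)).map g.op e
  let ψ : yoneda.obj X ⟶ (R u).obj ((L u).obj (yoneda.obj Y)) :=
    (yonedaEquiv (X := X) (F := (R u).obj ((L u).obj (yoneda.obj Y)))).symm x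
  obtain ⟨φ, hφ⟩ := h X Y (((adj u).homEquiv _ _).symm ψ)
  have hφ' : (L u).map φ = ((adj u).homEquiv _ _).symm ψ := hφ
  have h1 : φ ≫ (adj u).unit.app (yoneda.obj Y) = ψ := by
    rw [← homEquiv_lan_map, hφ', Equiv.apply_symm_apply]
  rw [comp_unit_eq] at h1
  have h2 : unitEl u (yoneda.obj Y) X (yonedaEquiv φ) = x :=
    (yonedaEquiv (X := X) (F := (R u).obj ((L u).obj (yoneda.obj Y)))).symm.injective h1
  refine ⟨yonedaEquiv φ, ?_⟩
  have h3 := congrArg ((β u Y).app (op (u.obj X))) h2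
  rw [β_unitEl] at h3
  rw [h3]
  have nat := ConcreteCategory.congr_hom ((β u Y).naturality g.op) e
  refine nat.trans ?_
  show (yoneda.obj (u.obj Y)).map g.op
    ((β u Y).app (op (u.obj Y)) (unitEl u (yoneda.obj Y) Y (𝟙 Y))) = g
  rw [β_unitEl]
  show g ≫ u.map (𝟙 Y) = g
  rw [u.map_id, Category.comp_id]

noncomputable def α (Y : C) : yoneda.obj (u.obj Y) ⟶ (L u).obj (yoneda.obj Y) :=
  yonedaEquiv.symm (unitEl u (yoneda.obj Y) Y (𝟙 Y))

lemma β_comp_α (Y : C) : β u Y ≫ α u Y = 𝟙 _ := by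
  apply ((adj u).homEquiv _ _).injective
  rw [Adjunction.homEquiv_naturality_right, Adjunction.homEquiv_id, homEquiv_β]
  apply yonedaEquiv.injective
  rw [yonedaEquiv_comp]
  show (α u Y).app (op (u.obj Y)) (u.map (𝟙 Y)) = unitEl u (yoneda.obj Y) Y (𝟙 Y)
  rw [u.map_id]
  exact (yonedaEquiv_apply (α u Y)).symm.trans (Equiv.apply_symm_apply _ _)

lemma βα_apply (Y : C) (Z : C') (x : ((L u).obj (yoneda.obj Y)).obj (op Z)) :
    ((L u).obj (yoneda.obj Y)).map ((β u Y).app (op Z) x).op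
      (unitEl u (yoneda.obj Y) Y (𝟙 Y)) = x := by
  have h := ConcreteCategory.congr_hom (NatTrans.congr_app (β_comp_α u Y) (op Z)) x
  exact (yonedaEquiv_symm_app_apply (unitEl u (yoneda.obj Y) Y (𝟙 Y)) (op Z)
    ((β u Y).app (op Z) x)).symm.trans h

lemma bijective_of_retract {H K : C'ᵒᵖ ⥤ Type u} (τ : H ⟶ K) {X' Z : C'} (i : X' ⟶ Z)
    (r : Z ⟶ X') (hir : i ≫ r = 𝟙 X') (hZ : Function.Bijective (τ.app (op Z))) :
    Function.Bijective (τ.app (op X')) := by
  have hH : ∀ a : H.obj (op X'), H.map i.op (H.map r.op a) = a := by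
    intro a
    rw [← CategoryTheory.Functor.map_comp_apply, ← op_comp, hir, op_id,
      CategoryTheory.Functor.map_id_apply]
  have hK : ∀ a : K.obj (op X'), K.map i.op (K.map r.op a) = a := by
    intro a
    rw [← CategoryTheory.Functor.map_comp_apply, ← op_comp, hir, op_id,
      CategoryTheory.Functor.map_id_apply]
  constructor
  · intro a b hab
    have key : H.map r.op a = H.map r.op b := by
      apply hZ.injective
      have na := ConcreteCategory.congr_hom (τ.naturality r.op) a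
      have nb := ConcreteCategory.congr_hom (τ.naturality r.op) b
      exact na.trans ((congrArg (K.map r.op) hab).trans nb.symm)
    calc a = H.map i.op (H.map r.op a) := (hH a).symm
      _ = H.map i.op (H.map r.op b) := by rw [key]
      _ = b := hH b
  · intro s
    obtain ⟨c, hc⟩ := hZ.surjective (K.map r.op s)
    refine ⟨H.map i.op c, ?_⟩
    have n := ConcreteCategory.congr_hom (τ.naturality i.op) c
    exact n.trans ((congrArg (K.map i.op) hc).trans (hK s))

section el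
variable {K : Type u} [SmallCategory K] {G : Kᵒᵖ ⥤ Type u}

def homOf (A : CostructuredArrow yoneda G) : yoneda.obj A.left ⟶ G := A.hom

def elOf (A : CostructuredArrow yoneda G) : G.obj (op A.left) := yonedaEquiv (homOf A)

def mkEl {X : K} (s : G.obj (op X)) : CostructuredArrow yoneda G :=
  CostructuredArrow.mk (yonedaEquiv.symm s)

lemma elOf_mkEl {X : K} (s : G.obj (op X)) : elOf (mkEl s) = s :=
  Equiv.apply_symm_apply _ _

lemma elOf_map {A B : CostructuredArrow yoneda G} (m : A ⟶ B) :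
    G.map m.left.op (elOf B) = elOf A := by
  have h : yoneda.map m.left ≫ homOf B = homOf A := CostructuredArrow.w m
  unfold elOf
  rw [yonedaEquiv_naturality, h]

def toMkEl {X : K} (s : G.obj (op X)) (B : CostructuredArrow yoneda G) (t : B.left ⟶ X)
    (h : G.map t.op s = elOf B) : B ⟶ mkEl s :=
  CostructuredArrow.homMk t (by
    show yoneda.map t ≫ yonedaEquiv.symm s = homOf B
    rw [yonedaEquiv_symm_naturality_left, h]
    exact Equiv.symm_apply_apply _ _)

lemma el_nonempty (hG : IsIndObject G) : ∃ X : K, Nonempty (G.obj (op X)) := by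
  haveI := hG.isFiltered
  obtain ⟨A⟩ := IsFiltered.nonempty (C := CostructuredArrow yoneda G)
  exact ⟨A.left, ⟨elOf A⟩⟩

lemma el_cocone_objs (hG : IsIndObject G) {X₁ X₂ : K} (s₁ : G.obj (op X₁))
    (s₂ : G.obj (op X₂)) :
    ∃ (X : K) (s : G.obj (op X)) (t₁ : X₁ ⟶ X) (t₂ : X₂ ⟶ X),
      G.map t₁.op s = s₁ ∧ G.map t₂.op s = s₂ := by
  haveI := hG.isFiltered
  exact ⟨(IsFiltered.max (mkEl s₁) (mkEl s₂)).left, elOf (IsFiltered.max (mkEl s₁) (mkEl s₂)),
    (IsFiltered.leftToMax (mkEl s₁) (mkEl s₂)).left,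
    (IsFiltered.rightToMax (mkEl s₁) (mkEl s₂)).left,
    (elOf_map (IsFiltered.leftToMax (mkEl s₁) (mkEl s₂))).trans (elOf_mkEl s₁),
    (elOf_map (IsFiltered.rightToMax (mkEl s₁) (mkEl s₂))).trans (elOf_mkEl s₂)⟩

lemma el_cocone_maps (hG : IsIndObject G) {X₁ X₂ : K} (s₂ : G.obj (op X₂)) (f g : X₁ ⟶ X₂)
    (h : G.map f.op s₂ = G.map g.op s₂) :
    ∃ (X : K) (s : G.obj (op X)) (t : X₂ ⟶ X), G.map t.op s = s₂ ∧ f ≫ t = g ≫ t := by
  haveI := hG.isFiltered
  let f' : mkEl (G.map f.op s₂) ⟶ mkEl s₂ := CostructuredArrow.homMk f (by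
    show yoneda.map f ≫ yonedaEquiv.symm s₂ = yonedaEquiv.symm (G.map f.op s₂)
    exact yonedaEquiv_symm_naturality_left f G s₂)
  let g' : mkEl (G.map f.op s₂) ⟶ mkEl s₂ := CostructuredArrow.homMk g (by
    show yoneda.map g ≫ yonedaEquiv.symm s₂ = yonedaEquiv.symm (G.map f.op s₂)
    rw [h]
    exact yonedaEquiv_symm_naturality_left g G s₂)
  refine ⟨(IsFiltered.coeq f' g').left, elOf (IsFiltered.coeq f' g'),
    (IsFiltered.coeqHom f' g').left, ?_, ?_⟩
  · exact (elOf_map (IsFiltered.coeqHom f' g')).trans (elOf_mkEl s₂)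
  · exact congrArg CommaMorphism.left (IsFiltered.coeq_condition f' g')

lemma isIndObject_of_el (hne : ∃ X : K, Nonempty (G.obj (op X)))
    (hobjs : ∀ {X₁ X₂ : K} (s₁ : G.obj (op X₁)) (s₂ : G.obj (op X₂)),
      ∃ (X : K) (s : G.obj (op X)) (t₁ : X₁ ⟶ X) (t₂ : X₂ ⟶ X),
        G.map t₁.op s = s₁ ∧ G.map t₂.op s = s₂)
    (hmaps : ∀ {X₁ X₂ : K} (s₂ : G.obj (op X₂)) (f g : X₁ ⟶ X₂),
      G.map f.op s₂ = G.map g.op s₂ →
        ∃ (X : K) (s : G.obj (op X)) (t : X₂ ⟶ X), G.map t.op s = s₂ ∧ f ≫ t = g ≫ t) :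
    IsIndObject G := by
  have hfoe : IsFilteredOrEmpty (CostructuredArrow yoneda G) :=
    { cocone_objs := fun A B => by
        obtain ⟨X, s, t₁, t₂, h₁, h₂⟩ := hobjs (elOf A) (elOf B)
        exact ⟨mkEl s, toMkEl s A t₁ h₁, toMkEl s B t₂ h₂, trivial⟩
      cocone_maps := fun A B f g => by
        obtain ⟨X, s, t, h₁, h₂⟩ := hmaps (elOf B) f.left g.left
          ((elOf_map f).trans (elOf_map g).symm)
        refine ⟨mkEl s, toMkEl s B t h₁, ?_⟩
        apply CostructuredArrow.hom_ext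
        exact h₂ }
  obtain ⟨X, ⟨s⟩⟩ := hne
  haveI : IsFiltered (CostructuredArrow yoneda G) :=
    { toIsFilteredOrEmpty := hfoe, nonempty := ⟨mkEl s⟩ }
  haveI := essentiallySmallSelf (CostructuredArrow yoneda G)
  haveI : FinallySmall.{u} (CostructuredArrow yoneda G) := finallySmall_of_essentiallySmall _
  exact isIndObject_of_isFiltered_of_finallySmall G

end el

lemma isIndObject_restrict [u.Full] [u.Faithful]
    (hretr : ∀ X' : C', ∃ (X : C) (i : X' ⟶ u.obj X) (r : u.obj X ⟶ X'), i ≫ r = 𝟙 X')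
    {G' : C'ᵒᵖ ⥤ Type u} (hG' : IsIndObject G') : IsIndObject (u.op ⋙ G') := by
  have key : ∀ {X' : C'} {X₀ : C} (i : X' ⟶ u.obj X₀) (r : u.obj X₀ ⟶ X') (_ : i ≫ r = 𝟙 X')
      {X₁ : C} (t : u.obj X₁ ⟶ X') (s' : G'.obj (op X')),
      (u.op ⋙ G').map (u.preimage (t ≫ i)).op (G'.map r.op s') = G'.map t.op s' := by
    intro X' X₀ i r hir X₁ t s'
    show G'.map (u.map (u.preimage (t ≫ i))).op (G'.map r.op s') = G'.map t.op s'
    rw [u.map_preimage, ← CategoryTheory.Functor.map_comp_apply, ← op_comp, Category.assoc, hir,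
      Category.comp_id]
  apply isIndObject_of_el
  · obtain ⟨X', ⟨s'⟩⟩ := el_nonempty hG'
    obtain ⟨X₀, i, r, hir⟩ := hretr X'
    exact ⟨X₀, ⟨G'.map r.op s'⟩⟩
  · intro X₁ X₂ s₁ s₂
    obtain ⟨X', s', t₁, t₂, h₁, h₂⟩ :=
      el_cocone_objs hG' (X₁ := u.obj X₁) (X₂ := u.obj X₂) s₁ s₂
    obtain ⟨X₀, i, r, hir⟩ := hretr X'
    exact ⟨X₀, G'.map r.op s', u.preimage (t₁ ≫ i), u.preimage (t₂ ≫ i),
      (key i r hir t₁ s').trans h₁, (key i r hir t₂ s').trans h₂⟩
  · intro X₁ X₂ s₂ f g h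
    obtain ⟨X', s', t, h₁, h₂⟩ :=
      el_cocone_maps hG' (X₁ := u.obj X₁) (X₂ := u.obj X₂) s₂ (u.map f) (u.map g) h
    obtain ⟨X₀, i, r, hir⟩ := hretr X'
    refine ⟨X₀, G'.map r.op s', u.preimage (t ≫ i), (key i r hir t s').trans h₁, ?_⟩
    apply u.map_injective
    rw [u.map_comp, u.map_comp, u.map_preimage, ← Category.assoc, h₂, Category.assoc]

lemma counit_isIso [u.Full] [u.Faithful]
    (hretr : ∀ X' : C', ∃ (X : C) (i : X' ⟶ u.obj X) (r : u.obj X ⟶ X'), i ≫ r = 𝟙 X')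
    (G' : C'ᵒᵖ ⥤ Type u) : IsIso ((adj u).counit.app G') := by
  haveI : IsIso ((R u).map ((adj u).counit.app G')) :=
    IsIso.of_isIso_fac_left ((adj u).right_triangle_components G')
  haveI : ∀ Z, IsIso (((adj u).counit.app G').app Z) := by
    rintro ⟨X'⟩
    obtain ⟨X₀, i, r, hir⟩ := hretr X'
    rw [isIso_iff_bijective]
    apply bijective_of_retract _ i r hir
    rw [← isIso_iff_bijective]
    exact (inferInstance : IsIso (((R u).map ((adj u).counit.app G')).app (op X₀)))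
  exact NatIso.isIso_of_isIso_app _

end helpers

/-- Faithful case. Let `u : C ⥤ C'` be a functor between small categories and `u_!` the left Kan
extension functor on presheaves of sets, whose restriction to ind-objects (presheaves that are small
filtered colimits of representables) is the induced functor `Ind C ⥤ Ind C'`. Then `u` is faithful
if and only if `u_!` is injective on morphisms between ind-representable presheaves. -/
theorem result
    {C : Type u} [SmallCategory C] {C' : Type u} [SmallCategory C'] (u : C ⥤ C') :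
    u.Faithful ↔ ∀ (F G : Cᵒᵖ ⥤ Type u), IsIndObject F → IsIndObject G →
      Function.Injective (fun φ : F ⟶ G => (u.op.lan : (Cᵒᵖ ⥤ Type u) ⥤ (C'ᵒᵖ ⥤ Type u)).map φ) := by
  constructor
  · intro hu F G hF hG φ ψ h
    have h' : (L u).map φ = (L u).map ψ := h
    rw [lan_map_eq_iff] at h'
    ext ⟨X⟩ s
    apply unitEl_injective u hG X
    exact ConcreteCategory.congr_hom (NatTrans.congr_app h' (Opposite.op X)) s
  · intro h
    exact faithful_of_injective u
      (fun X Y => h _ _ (isIndObject_yoneda X) (isIndObject_yoneda Y))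

end Groth.Agent.S6135
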