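import Groth.Statements.S12109
import Mathlib
import Groth.Agent.S6136

set_option autoImplicit false
open CategoryTheory CategoryTheory.Limits
universe u
open SGA4

namespace Groth.Agent.S12109

/-- Let `u : C ⥤ C'` be a functor between small categories and `u_!` the left Kan extension functor on
presheaves of sets, whose restriction to ind-representable presheaves is the induced functor `Ind C
⥤ Ind C'`. Then `Ind(u)` is an equivalence — `u_!` is bijective on morphisms between
ind-representable presheaves on `C` and every ind-representable presheaf on `C'` is isomorphic to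
`u_! F` for some ind-representable `F` — if and only if `u` is full and faithful and every object of
`C'` is a retract (direct factor) of an object `u X`. -/
theorem result
    {C : Type u} [SmallCategory C] {C' : Type u} [SmallCategory C'] (u : C ⥤ C') :
    ((∀ (F G : Cᵒᵖ ⥤ Type u), IsIndObject F → IsIndObject G →
        Function.Bijective (fun φ : F ⟶ G => (u.op.lan : (Cᵒᵖ ⥤ Type u) ⥤ (C'ᵒᵖ ⥤ Type u)).map φ)) ∧
      (∀ G' : C'ᵒᵖ ⥤ Type u, IsIndObject G' →
        ∃ F : Cᵒᵖ ⥤ Type u, IsIndObject F ∧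
          Nonempty ((u.op.lan : (Cᵒᵖ ⥤ Type u) ⥤ (C'ᵒᵖ ⥤ Type u)).obj F ≅ G'))) ↔
    ((u.Full ∧ u.Faithful) ∧
      ∀ X' : C', ∃ (X : C) (i : X' ⟶ u.obj X) (r : u.obj X ⟶ X'), i ≫ r = 𝟙 X') := by
  constructor
  · rintro ⟨hbij, hess⟩
    refine ⟨(Groth.Agent.S6136.result u).mpr hbij, ?_⟩
    intro X'
    obtain ⟨F, hF, ⟨ε⟩⟩ := hess (yoneda.obj X') (isIndObject_yoneda X')
    let P := hF.presentation
    obtain ⟨j, x, hx⟩ := Groth.Agent.S6135.Lcc_surj u P X' (ε.inv.app (Opposite.op X') (𝟙 X'))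
    let a : X' ⟶ u.obj (P.F.obj j) := (Groth.Agent.S6135.β u (P.F.obj j)).app (Opposite.op X') x
    let e := Groth.Agent.S6135.unitEl u (yoneda.obj (P.F.obj j)) (P.F.obj j) (𝟙 _)
    have hxa : ((Groth.Agent.S6135.L u).obj (yoneda.obj (P.F.obj j))).map a.op e = x := Groth.Agent.S6135.βα_apply u _ _ x
    let r : u.obj (P.F.obj j) ⟶ X' :=
      ε.hom.app (Opposite.op (u.obj (P.F.obj j))) (((Groth.Agent.S6135.L u).map (Groth.Agent.S6135.cc P j)).app (Opposite.op (u.obj (P.F.obj j))) e)
    refine ⟨P.F.obj j, a, r, ?_⟩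
    have n1 := ConcreteCategory.congr_hom (ε.hom.naturality a.op)
      (((Groth.Agent.S6135.L u).map (Groth.Agent.S6135.cc P j)).app (Opposite.op (u.obj (P.F.obj j))) e)
    have n2 := ConcreteCategory.congr_hom (((Groth.Agent.S6135.L u).map (Groth.Agent.S6135.cc P j)).naturality a.op) e
    have n3 : ε.hom.app (Opposite.op X') (ε.inv.app (Opposite.op X') (𝟙 X')) = 𝟙 X' :=
      ConcreteCategory.congr_hom (NatTrans.congr_app ε.inv_hom_id (Opposite.op X')) (𝟙 X')
    show (yoneda.obj X').map a.op r = 𝟙 X'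
    refine n1.symm.trans ?_
    show ε.hom.app (Opposite.op X') (((Groth.Agent.S6135.L u).obj F).map a.op
      (((Groth.Agent.S6135.L u).map (Groth.Agent.S6135.cc P j)).app (Opposite.op (u.obj (P.F.obj j))) e)) = 𝟙 X'
    rw [← n3, ← hx, ← hxa]
    exact congrArg (ε.hom.app (Opposite.op X')) n2.symm
  · rintro ⟨⟨hfull, hfaith⟩, hretr⟩
    refine ⟨(Groth.Agent.S6136.result u).mp ⟨hfull, hfaith⟩, ?_⟩
    intro G' hG'
    haveI := Groth.Agent.S6135.counit_isIso u hretr G'
    exact ⟨u.op ⋙ G', Groth.Agent.S6135.isIndObject_restrict u hretr hG', ⟨asIso ((Groth.Agent.S6135.adj u).counit.app G')⟩⟩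

end Groth.Agent.S12109
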