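import Groth.Statements.S12113
import Groth.Agent.H28.ExtGrp

set_option autoImplicit false
universe u
open CategoryTheory CategoryTheory.Limits MonoidalCategory CartesianMonoidalCategory MonObj AlgebraicGeometry
open SGA7

namespace Groth.Agent.S12113

/-- Group schemes, fppf site: over a base scheme S, let P and G be S-group schemes with G commutative,
and let u : G → E, v : E → P and u' : G → E', v' : E' → P be homomorphisms forming sequences 1 → G →
E → P → 1 and 1 → G → E' → P → 1 exact for the fppf topology. Suppose every morphism of S-schemes P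
×_S P → G trivial on P × e_P and on e_P × P is trivial. Let f : E → E' be a morphism of S-schemes
over P (f ≫ v' = v) and under G (u ≫ f = u'), preserving the unit section, and compatible with left
and right translations by G: for all points g of G and x of E with values in any S-scheme, f(u(g) x)
= u'(g) f(x) and f(x u(g)) = f(x) u'(g). Then f is a homomorphism of S-group schemes: such
extensions have no non-multiplicative morphisms of their underlying rigidified bitorsors. (The
published statement is for sheaves of groups on an arbitrary topos and phrased as full faithfulness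
of the functor from extensions to rigidified bitorsors; this row is the case of representable
sheaves on the fppf site of S, with G commutative so that the defect of multiplicativity descends to
P ×_S P as in the printed argument. Morphisms to a group scheme form a group; trivial means equal to
its unit.) -/
theorem result (S : Scheme.{u})
    (P G E E' : Over S) [GrpObj P] [GrpObj G] [GrpObj E] [GrpObj E'] [IsCommMonObj G]
    (u : G ⟶ E) (v : E ⟶ P) (hex : NonAbH1.IsExactSeq Scheme.fppfPrecoverage u v)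
    (u' : G ⟶ E') (v' : E' ⟶ P) (hex' : NonAbH1.IsExactSeq Scheme.fppfPrecoverage u' v')
    (hPP : ∀ c : P ⊗ P ⟶ G, lift (𝟙 P) (toUnit P ≫ η[P]) ≫ c = 1 → lift (toUnit P ≫ η[P]) (𝟙 P) ≫ c = 1 → c = 1)
    (f : E ⟶ E') (hv : f ≫ v' = v) (hu : u ≫ f = u') (h1 : η[E] ≫ f = η[E'])
    (hl : ∀ (T : Over S) (g : T ⟶ G) (x : T ⟶ E), ((g ≫ u) * x) ≫ f = (g ≫ u') * (x ≫ f))
    (hr : ∀ (T : Over S) (g : T ⟶ G) (x : T ⟶ E), (x * (g ≫ u)) ≫ f = (x ≫ f) * (g ≫ u')) :
    IsMonHom f := by
  obtain ⟨hu1, hv1, huv, hpb, hloc⟩ := hex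
  obtain ⟨hu1', hv1', huv', hpb', hloc'⟩ := hex'
  have := hu1
  have := hv1
  have := hu1'
  have := hv1'
  have hcov : Groth.Agent.H28.FpqcCov.Cov v.left :=
    Groth.Agent.H28.TorsRed.cov_of_locTriv (Over.mk v.left : Over P.left) _
      Scheme.fppfPrecoverage_le_fpqcPrecoverage hloc
  have hf1 : ∀ {T : Over S}, (1 : T ⟶ E) ≫ f = 1 := by
    intro T
    rw [Hom.one_def, Category.assoc, h1, ← Hom.one_def]
  obtain ⟨d, hd⟩ : ∃ d : E ⊗ E ⟶ E',
      d = ((fst E E * snd E E) ≫ f) * (snd E E ≫ f)⁻¹ * (fst E E ≫ f)⁻¹ := ⟨_, rfl⟩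
  have hdpt : ∀ {T : Over S} (x y : T ⟶ E),
      lift x y ≫ d = ((x * y) ≫ f) * (y ≫ f)⁻¹ * (x ≫ f)⁻¹ := by
    intro T x y
    rw [hd, MonObj.comp_mul, MonObj.comp_mul, GrpObj.comp_inv, GrpObj.comp_inv, ← Category.assoc,
      ← Category.assoc, ← Category.assoc, MonObj.comp_mul, lift_fst, lift_snd]
  have hdv : d ≫ v' = 1 := by
    rw [hd, MonObj.mul_comp, MonObj.mul_comp, GrpObj.inv_comp, GrpObj.inv_comp, Category.assoc,
      Category.assoc, Category.assoc, hv, MonObj.mul_comp, mul_inv_cancel_right, mul_inv_cancel]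
  obtain ⟨c, hc⟩ := Groth.Agent.H28.ExtGrp.ker_lift u' v' hpb' d hdv
  have hcpt : ∀ {T : Over S} (x y : T ⟶ E),
      (lift x y ≫ c) ≫ u' = ((x * y) ≫ f) * (y ≫ f)⁻¹ * (x ≫ f)⁻¹ := by
    intro T x y
    rw [Category.assoc, hc, hdpt]
  have hinv : ∀ (T : Over S) (x y : T ⟶ E) (w z : T ⟶ G),
      lift (x * (w ≫ u)) (y * (z ≫ u)) ≫ c = lift x y ≫ c := by
    intro T x y w z
    apply Groth.Agent.H28.ExtGrp.u_inj u' v' hpb'
    rw [hcpt, hcpt]
    have hk : (y⁻¹ * (w ≫ u) * y) ≫ v = 1 := by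
      rw [MonObj.mul_comp, MonObj.mul_comp, GrpObj.inv_comp, Category.assoc, huv, MonObj.comp_one,
        _root_.mul_one, inv_mul_cancel]
    obtain ⟨w2, hw2⟩ := Groth.Agent.H28.ExtGrp.ker_lift u v hpb _ hk
    have hwy : (w ≫ u) * y = y * (w2 ≫ u) := by
      rw [hw2]; group
    have e1 : x * (w ≫ u) * (y * (z ≫ u)) = (x * y) * (w2 ≫ u) * (z ≫ u) := by
      calc x * (w ≫ u) * (y * (z ≫ u)) = x * ((w ≫ u) * y) * (z ≫ u) := by group
        _ = x * (y * (w2 ≫ u)) * (z ≫ u) := by rw [hwy]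
        _ = _ := by group
    have e2 : (w ≫ u') * (y ≫ f) = (y ≫ f) * (w2 ≫ u') := by
      rw [← hl, ← hr, hwy]
    have e3 : (w2 ≫ u') = (y ≫ f)⁻¹ * (w ≫ u') * (y ≫ f) := by
      rw [_root_.mul_assoc, e2]; group
    rw [e1]
    simp only [hr]
    rw [e3]
    group
  obtain ⟨b, hb⟩ := Groth.Agent.H28.ExtGrp.desc_tensor u v hpb hcov c hinv
  have hepi : Epi v := Groth.Agent.H28.FpqcCov.epi_of_cov v hcov
  have hax1 : lift (𝟙 P) (toUnit P ≫ η[P]) ≫ b = 1 := by
    rw [← cancel_epi v]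
    have e : v ≫ lift (𝟙 P) (toUnit P ≫ η[P]) = lift (𝟙 E) (1 : E ⟶ E) ≫ (v ⊗ₘ v) := by
      ext
      · simp
      · simp [Hom.one_def]
    rw [← Category.assoc, e, Category.assoc, hb, MonObj.comp_one]
    apply Groth.Agent.H28.ExtGrp.u_inj u' v' hpb'
    rw [hcpt]
    simp [hf1, MonObj.one_comp]
  have hax2 : lift (toUnit P ≫ η[P]) (𝟙 P) ≫ b = 1 := by
    rw [← cancel_epi v]
    have e : v ≫ lift (toUnit P ≫ η[P]) (𝟙 P) = lift (1 : E ⟶ E) (𝟙 E) ≫ (v ⊗ₘ v) := by
      ext
      · simp [Hom.one_def]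
      · simp
    rw [← Category.assoc, e, Category.assoc, hb, MonObj.comp_one]
    apply Groth.Agent.H28.ExtGrp.u_inj u' v' hpb'
    rw [hcpt]
    simp [hf1, MonObj.one_comp]
  have hb1 : b = 1 := hPP b hax1 hax2
  have hc1 : c = 1 := by rw [← hb, hb1, MonObj.comp_one]
  have hmul : ∀ {T : Over S} (x y : T ⟶ E), (x * y) ≫ f = (x ≫ f) * (y ≫ f) := by
    intro T x y
    have h3 := hcpt x y
    rw [hc1, MonObj.comp_one, MonObj.one_comp] at h3
    have h4 := mul_inv_eq_one.mp h3.symm
    exact mul_inv_eq_iff_eq_mul.mp h4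
  refine { one_hom := h1, mul_hom := ?_ }
  have h5 := hmul (fst E E) (snd E E)
  rw [MonObj.mul_eq_mul (M := E), h5, Hom.mul_def]
  congr 1

end Groth.Agent.S12113
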