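import Mathlib
import Groth.Statements.S12118

set_option autoImplicit false
universe u v
open EGA41

namespace Groth.Agent.S12118

open scoped Pointwise

/-- one step: if `x ∈ F k` and `f • x ∈ F (k+1)` then `x ∈ F (k+1)` -/
theorem step {A : Type u} [CommRing A] {M : Type v} [AddCommGroup M] [Module A M]
    (F : ℕ → Submodule A M) (f : A)
    (hreg : ∀ k : ℕ, IsSMulRegular (↥(F k) ⧸ Submodule.comap (F k).subtype (F (k + 1))) f)
    (k : ℕ) (x : M) (hx : x ∈ F k) (hfx : f • x ∈ F (k + 1)) : x ∈ F (k + 1) := by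
  have h1 : f • (Submodule.Quotient.mk (⟨x, hx⟩ : F k) :
      ↥(F k) ⧸ Submodule.comap (F k).subtype (F (k + 1))) = f • 0 := by
    rw [smul_zero, ← Submodule.Quotient.mk_smul, Submodule.Quotient.mk_eq_zero]
    exact hfx
  have h2 := hreg k h1
  rw [Submodule.Quotient.mk_eq_zero] at h2
  exact h2

theorem mem_of_smul_mem {A : Type u} [CommRing A] {M : Type v} [AddCommGroup M] [Module A M]
    (F : ℕ → Submodule A M) (hanti : Antitone F) (h0 : F 0 = ⊤) (f : A)
    (hreg : ∀ k : ℕ, IsSMulRegular (↥(F k) ⧸ Submodule.comap (F k).subtype (F (k + 1))) f)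
    (k : ℕ) (x : M) (hfx : f • x ∈ F k) : x ∈ F k := by
  have : ∀ j, j ≤ k → x ∈ F j := by
    intro j
    induction j with
    | zero => intro _; rw [h0]; exact Submodule.mem_top
    | succ j ih =>
      intro hj
      exact step F f hreg j x (ih (by omega)) (hanti hj hfx)
  exact this k le_rfl

/-- Let A be a commutative ring, M an A-module, (M_k)_{k ≥ 0} a decreasing filtration of M by submodules
with M_0 = M and ⋂_k M_k = 0, and f an element of A which is a non-zero-divisor on every graded
piece M_k/M_{k+1} (equivalently on the associated graded module). Then (i) f is a non-zero-divisor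
on M, and (ii) M_k ∩ fM = fM_k for every k ≥ 0. -/
theorem result {A : Type u} [CommRing A] {M : Type v} [AddCommGroup M] [Module A M]
    (F : ℕ → Submodule A M) (hanti : Antitone F) (h0 : F 0 = ⊤) (hsep : ⨅ k, F k = ⊥) (f : A)
    (hreg : ∀ k : ℕ, IsSMulRegular (↥(F k) ⧸ Submodule.comap (F k).subtype (F (k + 1))) f) :
    IsSMulRegular M f ∧ ∀ k : ℕ, F k ⊓ (Ideal.span {f} • (⊤ : Submodule A M)) = Ideal.span {f} • F k := by
  constructor
  · intro x y hxy
    have h1 : f • (x - y) = 0 := by rw [smul_sub, sub_eq_zero]; exact hxy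
    have h2 : x - y ∈ (⨅ k, F k) := by
      rw [Submodule.mem_iInf]
      intro k
      apply mem_of_smul_mem F hanti h0 f hreg k
      rw [h1]; exact Submodule.zero_mem _
    rw [hsep, Submodule.mem_bot, sub_eq_zero] at h2
    exact h2
  · intro k
    rw [Submodule.ideal_span_singleton_smul, Submodule.ideal_span_singleton_smul]
    apply le_antisymm
    · rintro y ⟨hy1, hy2⟩
      rw [SetLike.mem_coe, Submodule.mem_smul_pointwise_iff_exists] at hy2
      obtain ⟨x, -, rfl⟩ := hy2
      rw [Submodule.mem_smul_pointwise_iff_exists]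
      exact ⟨x, mem_of_smul_mem F hanti h0 f hreg k x hy1, rfl⟩
    · intro y hy
      rw [Submodule.mem_smul_pointwise_iff_exists] at hy
      obtain ⟨x, hx, rfl⟩ := hy
      refine ⟨(F k).smul_mem f hx, ?_⟩
      rw [SetLike.mem_coe, Submodule.mem_smul_pointwise_iff_exists]
      exact ⟨x, Submodule.mem_top, rfl⟩

end Groth.Agent.S12118
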