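import Groth.Statements.S12121
import Groth.Agent.H29.LocLoc
import Groth.Agent.H29.NormFlatLoc
import Groth.Agent.H29.SkLib
import Groth.Agent.H29.MaxRegSeq
import Groth.Agent.H29.Ischebeck
import Groth.Agent.S0359
import Groth.Agent.S1742
import Groth.Agent.Helper1.S1Emb

set_option autoImplicit false
universe u
open EGA4

namespace Groth.Agent.S12121


open RingTheory.Sequence IsLocalRing Groth.Agent.H29

section Helpers

variable {A : Type u} [CommRing A]

theorem hasSk_mono {M : Type u} [AddCommGroup M] [Module A M] {j k : ℕ} (hjk : j ≤ k)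
    (h : LocCoh.HasSk k A M) : LocCoh.HasSk j A M :=
  fun p _ => le_trans (min_le_min_right _ (by exact_mod_cast hjk)) (h p)

/-- `M_S / x M_S ≃ (M/xM)_S` over `S⁻¹A`. -/
noncomputable def quotSMulTopLocEquiv (S : Submonoid A) (M : Type u) [AddCommGroup M] [Module A M]
    (x : A) :
    QuotSMulTop (algebraMap A (Localization S) x) (LocalizedModule S M)
      ≃ₗ[Localization S] LocalizedModule S (QuotSMulTop x M) :=
  (QuotSMulTop.congr (algebraMap A (Localization S) x)
    (IsLocalizedModule.isBaseChange S (Localization S)
      (LocalizedModule.mkLinearMap S M)).equiv.symm).trans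
    ((QuotSMulTop.algebraMapTensorEquivTensorQuotSMulTop x M (Localization S)).trans
      (IsLocalizedModule.isBaseChange S (Localization S)
        (LocalizedModule.mkLinearMap S (QuotSMulTop x M))).equiv)

theorem R1a (S : Submonoid A) (M : Type u) [AddCommGroup M] [Module A M] (x : A)
    (hreg : IsSMulRegular (LocalizedModule S M) (algebraMap A (Localization S) x)) :
    ∀ m ∈ Submodule.torsionBy A M x, ∃ t ∈ S, t • m = 0 := by
  intro m hm
  rw [Submodule.mem_torsionBy_iff] at hm
  have h0 : algebraMap A (Localization S) x • (LocalizedModule.mkLinearMap S M m) =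
      algebraMap A (Localization S) x • (0 : LocalizedModule S M) := by
    rw [algebraMap_smul, ← map_smul, hm, map_zero, smul_zero]
  have h1 := hreg h0
  obtain ⟨c, hc⟩ := (IsLocalizedModule.eq_zero_iff S (LocalizedModule.mkLinearMap S M)).mp h1
  exact ⟨c, c.2, hc⟩

theorem R1b (S : Submonoid A) (M : Type u) [AddCommGroup M] [Module A M] (x : A)
    (h : ∀ m : M, x • m = 0 → ∃ t ∈ S, t • m = 0) :
    IsSMulRegular (LocalizedModule S M) (algebraMap A (Localization S) x) := by
  rw [isSMulRegular_iff_right_eq_zero_of_smul]
  intro n hn
  obtain ⟨⟨m, s⟩, hms⟩ := IsLocalizedModule.surj S (LocalizedModule.mkLinearMap S M) n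
  rw [Submonoid.smul_def] at hms
  have hms' : (s : A) • n = LocalizedModule.mkLinearMap S M m := hms
  have h1 : LocalizedModule.mkLinearMap S M (x • m) = 0 := by
    rw [map_smul, ← hms', smul_comm, ← algebraMap_smul (Localization S) x n, hn, smul_zero]
  obtain ⟨u, hu⟩ := (IsLocalizedModule.eq_zero_iff S (LocalizedModule.mkLinearMap S M)).mp h1
  rw [Submonoid.smul_def] at hu
  obtain ⟨t, ht, htm⟩ := h ((u : A) • m) (by rw [smul_comm]; exact hu)
  let w : S := ⟨t, ht⟩ * u * s
  have h2 : w • n = w • (0 : LocalizedModule S M) := by
    rw [smul_zero, Submonoid.smul_def]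
    show (t * (u : A) * (s : A)) • n = 0
    rw [mul_smul, hms', ← map_smul, mul_smul, htm, map_zero]
  exact IsLocalizedModule.smul_injective (LocalizedModule.mkLinearMap S M) w h2

theorem exists_isLocalizedModule_quot_aux (S : Submonoid A) (B : Type u) [CommRing B]
    [Algebra A B] [IsLocalization S B]
    {M N : Type u} [AddCommGroup M] [AddCommGroup N] [Module A M] [Module A N] [Module B N]
    [IsScalarTower A B N] (f : M →ₗ[A] N) [IsLocalizedModule S f]
    (M'' : Submodule A M) (N'' : Submodule B N) (h : M''.localized' B S f = N'') :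
    ∃ F : (M ⧸ M'') →ₗ[A] (N ⧸ N''), IsLocalizedModule S F := by
  subst h
  exact ⟨M''.toLocalizedQuotient' B S f, inferInstance⟩

theorem exists_isLocalizedModule_quotient (S : Submonoid A) (M : Type u) [AddCommGroup M]
    [Module A M] (xs : List A) :
    ∃ F : (M ⧸ Ideal.ofList xs • (⊤ : Submodule A M)) →ₗ[A]
        (LocalizedModule S M ⧸ Ideal.ofList (xs.map (algebraMap A (Localization S))) •
          (⊤ : Submodule (Localization S) (LocalizedModule S M))),
      IsLocalizedModule S F := by
  apply exists_isLocalizedModule_quot_aux S (Localization S) (LocalizedModule.mkLinearMap S M)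
  rw [Groth.Agent.H29.NormFlatLoc.localized'_smul_top, Ideal.map_ofList]

end Helpers

theorem seq (A : Type u) [CommRing A] [IsNoetherianRing A] (p : Ideal A) [p.IsPrime] (d : ℕ) :
    ∀ (M : Type u) [AddCommGroup M] [Module A M] [Module.Finite A M],
      LocCoh.depth (Localization.AtPrime p) (LocalizedModule p.primeCompl M) = d →
      ((d : ℕ∞) : WithBot ℕ∞) <
        Module.supportDim (Localization.AtPrime p) (LocalizedModule p.primeCompl M) →
      ∃ (xs : List A) (g : A), xs.length = d ∧ g ∉ p ∧
        (∀ S : Submonoid A, (∃ s ∈ S, g ∣ s) →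
          IsWeaklyRegular (LocalizedModule S M) (xs.map (algebraMap A (Localization S)))) ∧
        LocCoh.depth (Localization.AtPrime p)
          (LocalizedModule p.primeCompl (M ⧸ Ideal.ofList xs • (⊤ : Submodule A M))) = 0 ∧
        0 < Module.supportDim (Localization.AtPrime p)
          (LocalizedModule p.primeCompl (M ⧸ Ideal.ofList xs • (⊤ : Submodule A M))) := by
  induction d with
  | zero =>
    intro M _ _ _ hd hdim
    have e : (M ⧸ Ideal.ofList ([] : List A) • (⊤ : Submodule A M)) ≃ₗ[A] M :=
      Submodule.quotEquivOfEqBot _ (by rw [Ideal.ofList_nil, Submodule.bot_smul])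
    refine ⟨[], 1, rfl, ?_, ?_, ?_, ?_⟩
    · exact fun h => (Ideal.IsPrime.ne_top ‹_›) (p.eq_top_of_isUnit_mem h isUnit_one)
    · intro S _
      exact IsWeaklyRegular.nil _ _
    · rw [depth_localizedModule_congr A e p]
      simpa using hd
    · rw [Module.supportDim_eq_of_equiv (IsLocalizedModule.mapEquiv p.primeCompl
        (LocalizedModule.mkLinearMap p.primeCompl _) (LocalizedModule.mkLinearMap p.primeCompl M)
        (Localization.AtPrime p) e)]
      simpa using hdim
  | succ d ih =>
    intro M _ _ _ hd hdim
    haveI hnt : Nontrivial (LocalizedModule p.primeCompl M) := by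
      by_contra hnt
      haveI := not_nontrivial_iff_subsingleton.mp hnt
      rw [depth_eq_top_of_subsingleton] at hd
      exact ENat.top_ne_coe _ hd
    have hIM : maximalIdeal (Localization.AtPrime p) •
        (⊤ : Submodule (Localization.AtPrime p) (LocalizedModule p.primeCompl M)) ≠ ⊤ :=
      maximalIdeal_smul_top_ne_top _ _
    obtain ⟨y, hy, hyreg⟩ := exists_isSMulRegular_mem_of_one_le_idealDepth
      (LocalizedModule p.primeCompl M) (maximalIdeal (Localization.AtPrime p)) hIM (by
        show (1 : ℕ∞) ≤ LocCoh.depth _ _
        rw [hd]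
        exact_mod_cast Nat.succ_le_succ (Nat.zero_le d))
    obtain ⟨a, s, rfl⟩ := IsLocalization.exists_mk'_eq p.primeCompl y
    have hmul : algebraMap A (Localization.AtPrime p) a =
        algebraMap A (Localization.AtPrime p) (s : A) *
          IsLocalization.mk' (Localization.AtPrime p) a s := by
      rw [mul_comm, IsLocalization.mk'_spec]
    have hxreg : IsSMulRegular (LocalizedModule p.primeCompl M)
        (algebraMap A (Localization.AtPrime p) a) := by
      rw [hmul]
      exact IsSMulRegular.mul
        ((IsLocalization.map_units (Localization.AtPrime p) s).isSMulRegular _) hyreg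
    have hxm : algebraMap A (Localization.AtPrime p) a ∈ maximalIdeal (Localization.AtPrime p) := by
      rw [hmul]
      exact Ideal.mul_mem_left _ _ hy
    have hap : a ∈ p :=
      (IsLocalization.AtPrime.to_map_mem_maximal_iff (Localization.AtPrime p) p a).mp hxm
    have e := quotSMulTopLocalizedEquiv A M p a
    have h4 := depth_quotSMulTop_add_one (Localization.AtPrime p)
      (LocalizedModule p.primeCompl M) _ hxm hxreg
    have h5 : LocCoh.depth (Localization.AtPrime p)
        (QuotSMulTop (algebraMap A (Localization.AtPrime p) a) (LocalizedModule p.primeCompl M)) =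
        LocCoh.depth (Localization.AtPrime p) (LocalizedModule p.primeCompl (QuotSMulTop a M)) :=
      idealDepth_congr _ e
    have h6 := Module.supportDim_quotSMulTop_succ_eq_supportDim hxreg hxm
    rw [Module.supportDim_eq_of_equiv e] at h6
    have hd' : LocCoh.depth (Localization.AtPrime p)
        (LocalizedModule p.primeCompl (QuotSMulTop a M)) = d := by
      rw [← h5]
      rw [hd] at h4
      exact enat_add_natCast_cancel 1 (by simpa using h4)
    have hdim' : ((d : ℕ∞) : WithBot ℕ∞) < Module.supportDim (Localization.AtPrime p)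
        (LocalizedModule p.primeCompl (QuotSMulTop a M)) := by
      by_contra hcon
      have h7 := add_le_add (not_lt.mp hcon) (le_refl (1 : WithBot ℕ∞))
      rw [h6] at h7
      refine absurd hdim (not_lt.mpr ?_)
      refine le_trans h7 (le_of_eq ?_)
      push_cast
      rfl
    obtain ⟨xs', g', hlen, hg', hreg', hdep, hdimQ⟩ := ih (QuotSMulTop a M) hd' hdim'
    obtain ⟨t, ht, htk⟩ := Groth.Agent.S1742.exists_kill A M p.primeCompl
      (Submodule.torsionBy A M a) (IsNoetherian.noetherian _)
      (fun m hm => R1a p.primeCompl M a hxreg m hm)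
    have e2 := Submodule.quotOfListConsSMulTopEquivQuotSMulTopInner M a xs'
    refine ⟨a :: xs', t * g', by rw [List.length_cons, hlen], ?_, ?_, ?_, ?_⟩
    · exact fun h => (Ideal.IsPrime.mem_or_mem ‹_› h).elim ht hg'
    · rintro S ⟨s', hs', hdvd⟩
      rw [List.map_cons, isWeaklyRegular_cons_iff]
      refine ⟨R1b S M a ?_, ?_⟩
      · intro m hm
        refine ⟨s', hs', ?_⟩
        obtain ⟨c, rfl⟩ := hdvd
        have : t • m = 0 := htk m ((Submodule.mem_torsionBy_iff _ _).mpr hm)
        rw [mul_assoc, mul_comm, mul_smul, this, smul_zero]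
      · exact ((quotSMulTopLocEquiv S M a).isWeaklyRegular_congr _).mpr
          (hreg' S ⟨s', hs', dvd_trans (Dvd.intro_left t rfl) hdvd⟩)
    · rw [depth_localizedModule_congr A e2 p]
      exact hdep
    · rw [Module.supportDim_eq_of_equiv (IsLocalizedModule.mapEquiv p.primeCompl
        (LocalizedModule.mkLinearMap p.primeCompl _) (LocalizedModule.mkLinearMap p.primeCompl _)
        (Localization.AtPrime p) e2)]
      exact hdimQ


/-- Let A be a Noetherian ring, M a finite A-module (a coherent sheaf on X = Spec A) and k ≥ 1. Then M
has property (S_k) — depth M_p ≥ min(k, dim M_p) at every prime p — if and only if, for every basic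
open set D(g) of X, every integer r < k and every M_g-regular sequence f_1, …, f_r in A_g, the
module M_g/(f_1, …, f_r)M_g has no embedded associated primes, i.e. no associated prime of it
strictly contains another one. (The published statement quantifies over all open subsets of a
locally Noetherian scheme; both sides being local, over an affine scheme the basic open sets
suffice.) -/
theorem result (k : ℕ) (hk : 1 ≤ k) (A : Type u) [CommRing A] [IsNoetherianRing A]
    (M : Type u) [AddCommGroup M] [Module A M] [Module.Finite A M] :
    LocCoh.HasSk k A M ↔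
      ∀ (g : A) (rs : List (Localization.Away g)), rs.length < k →
        RingTheory.Sequence.IsWeaklyRegular (LocalizedModule (Submonoid.powers g) M) rs →
        ∀ p ∈ associatedPrimes (Localization.Away g)
            (LocalizedModule (Submonoid.powers g) M ⧸
              (Ideal.ofList rs • (⊤ : Submodule (Localization.Away g) (LocalizedModule (Submonoid.powers g) M)))),
          ∀ q ∈ associatedPrimes (Localization.Away g)
            (LocalizedModule (Submonoid.powers g) M ⧸
              (Ideal.ofList rs • (⊤ : Submodule (Localization.Away g) (LocalizedModule (Submonoid.powers g) M)))),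
            p ≤ q → p = q := by
  constructor
  · intro h g rs hlen hreg P hP P' hP' hle
    have h1 := Groth.Agent.H29.LocLoc.hasSk_localization (Submonoid.powers g) M k h
    have h2 := Groth.Agent.H29.hasSk_quotient_ofList (Localization.Away g) rs k
      (LocalizedModule (Submonoid.powers g) M) h1 hreg (le_of_lt hlen)
    have h3 := hasSk_mono (j := 1) (by omega) h2
    have h4 := (Groth.Agent.Helper1.S1Emb.main).mpr h3
    have hPmin := h4 P hP
    have hP'min := h4 P' hP'
    exact le_antisymm hle (hP'min.2 hPmin.1 hle)
  · intro h p _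
    by_contra hbad
    rw [not_le] at hbad
    have h1 := lt_of_lt_of_le hbad (min_le_left _ _)
    have h2 := lt_of_lt_of_le hbad (min_le_right _ _)
    have h1' : LocCoh.depth (Localization.AtPrime p) (LocalizedModule p.primeCompl M) <
        (k : ℕ∞) := by exact_mod_cast h1
    obtain ⟨d, hd⟩ := ENat.ne_top_iff_exists.mp (ne_top_of_lt h1')
    have hdk : d < k := by
      rw [← hd] at h1'
      exact_mod_cast h1'
    obtain ⟨xs, g, hlen, hg, hreg, hdep, hdimQ⟩ := seq A p d M hd.symm (by rw [hd]; exact h2)
    have hRHS := h g (xs.map (algebraMap A (Localization.Away g)))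
      (by rw [List.length_map, hlen]; exact hdk)
      (hreg (Submonoid.powers g) ⟨g, Submonoid.mem_powers g, dvd_rfl⟩)
    have hpAss : p ∈ associatedPrimes A (M ⧸ Ideal.ofList xs • (⊤ : Submodule A M)) :=
      (Groth.Agent.S0359.mem_ass_iff_depth A _ p).mpr hdep
    have hpAnn : Module.annihilator A (M ⧸ Ideal.ofList xs • (⊤ : Submodule A M)) ≤ p := by
      have := IsAssociatedPrime.annihilator_le hpAss
      rwa [Submodule.annihilator_top] at this
    have hpmin : p ∉ (Module.annihilator A
        (M ⧸ Ideal.ofList xs • (⊤ : Submodule A M))).minimalPrimes := fun hmin =>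
      absurd (Groth.Agent.Helper1.S1Emb.supportDim_le_zero_of_minimal p hmin) (not_le.mpr hdimQ)
    obtain ⟨q, hqmin, hqp⟩ := Ideal.exists_minimalPrimes_le hpAnn
    have hqAss : q ∈ associatedPrimes A (M ⧸ Ideal.ofList xs • (⊤ : Submodule A M)) :=
      Module.associatedPrimes.minimalPrimes_annihilator_subset_associatedPrimes A _ hqmin
    have hqne : q ≠ p := fun h => hpmin (h ▸ hqmin)
    haveI : q.IsPrime := hqmin.1.1
    have hgq : g ∉ q := fun h => hg (hqp h)
    obtain ⟨F, hF⟩ := exists_isLocalizedModule_quotient (Submonoid.powers g) M xs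
    have hAssEq := Module.associatedPrimes.preimage_comap_associatedPrimes_eq_associatedPrimes_of_isLocalizedModule
      (Submonoid.powers g) (Localization.Away g) F
    have hcm : ∀ (r : Ideal A) [r.IsPrime], g ∉ r →
        (r.map (algebraMap A (Localization.Away g))).comap (algebraMap A (Localization.Away g)) =
          r := by
      intro r _ hgr
      exact IsLocalization.comap_map_of_isPrime_disjoint (Submonoid.powers g) _ ‹_›
        ((Ideal.disjoint_powers_iff_notMem g (Ideal.IsPrime.isRadical ‹_›)).mpr hgr)
    have key : ∀ (r : Ideal A) [r.IsPrime], g ∉ r →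
        r ∈ associatedPrimes A (M ⧸ Ideal.ofList xs • (⊤ : Submodule A M)) →
        r.map (algebraMap A (Localization.Away g)) ∈ associatedPrimes (Localization.Away g)
          (LocalizedModule (Submonoid.powers g) M ⧸
            Ideal.ofList (xs.map (algebraMap A (Localization.Away g))) •
              (⊤ : Submodule (Localization.Away g) (LocalizedModule (Submonoid.powers g) M))) := by
      intro r _ hgr hr
      rw [← hAssEq, Set.mem_preimage, hcm r hgr]
      exact hr
    have hP := hRHS _ (key q hgq hqAss) _ (key p hg hpAss) (Ideal.map_mono hqp)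
    have := congrArg (Ideal.comap (algebraMap A (Localization.Away g))) hP
    rw [hcm q hgq, hcm p hg] at this
    exact hqne this

end Groth.Agent.S12121
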