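import Mathlib
import Groth.Statements.S12127
import Groth.Agent.H11.QuasiConstr

set_option autoImplicit false
universe u
open EGA43

namespace Groth.Agent.S12127

open Groth.Agent.H11 in
/-- Let f : X → Y be a quasi-homeomorphism, i.e. a continuous map such that U ↦ f⁻¹(U) is a bijection
from the open subsets of Y onto the open subsets of X. Call a subset quasi-constructible when it is
a finite union of locally closed subsets, and locally quasi-constructible when every point of the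
space has an open neighbourhood V whose intersection with it is quasi-constructible in V. Then Z ↦
f⁻¹(Z) induces a bijection from the quasi-constructible subsets of Y onto those of X, and from the
locally quasi-constructible subsets of Y onto those of X. -/
theorem result {X Y : Type u}
    [TopologicalSpace X] [TopologicalSpace Y] (f : X → Y) (hf : Continuous f)
    (hq : Function.Bijective (fun U : TopologicalSpace.Opens Y =>
      (⟨f ⁻¹' (U : Set Y), U.isOpen.preimage hf⟩ : TopologicalSpace.Opens X))) :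
    Set.BijOn (fun Z : Set Y => f ⁻¹' Z)
        {Z : Set Y | ∃ T : Set (Set Y), T.Finite ∧ (∀ t ∈ T, IsLocallyClosed t) ∧ Z = ⋃₀ T}
        {Z : Set X | ∃ T : Set (Set X), T.Finite ∧ (∀ t ∈ T, IsLocallyClosed t) ∧ Z = ⋃₀ T} ∧
      Set.BijOn (fun Z : Set Y => f ⁻¹' Z)
        {Z : Set Y | ∀ y : Y, ∃ V : Set Y, IsOpen V ∧ y ∈ V ∧
          ∃ T : Set (Set V), T.Finite ∧ (∀ t ∈ T, IsLocallyClosed t) ∧ (Subtype.val ⁻¹' Z : Set V) = ⋃₀ T}
        {Z : Set X | ∀ x : X, ∃ V : Set X, IsOpen V ∧ x ∈ V ∧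
          ∃ T : Set (Set V), T.Finite ∧ (∀ t ∈ T, IsLocallyClosed t) ∧ (Subtype.val ⁻¹' Z : Set V) = ⋃₀ T} := by
  have hQ : QH f := (qh_iff_bijective f hf).2 hq
  constructor
  · refine ⟨?_, ?_, ?_⟩
    · intro Z hZ
      exact QC.preimage hf hZ
    · intro Z₁ h₁ Z₂ h₂ h
      exact hQ.qc_inj h₁ h₂ h
    · intro W hW
      obtain ⟨Z, hZ, hZW⟩ := hQ.exists_qc_preimage W hW
      exact ⟨Z, hZ, hZW⟩
  · refine ⟨?_, ?_, ?_⟩
    · intro Z hZ
      exact (lqc'_iff _).2 (LQC2.preimage hf ((lqc'_iff Z).1 hZ))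
    · intro Z₁ h₁ Z₂ h₂ h
      have h₁' := (lqc'_iff Z₁).1 h₁
      have h₂' := (lqc'_iff Z₂).1 h₂
      have h' : f ⁻¹' Z₁ = f ⁻¹' Z₂ := h
      exact Set.Subset.antisymm (hQ.lqc_subset h₁' h₂' h'.subset)
        (hQ.lqc_subset h₂' h₁' h'.symm.subset)
    · intro W hW
      obtain ⟨Z, hZ, hZW⟩ := hQ.exists_lqc_preimage W ((lqc'_iff W).1 hW)
      exact ⟨Z, (lqc'_iff Z).2 hZ, hZW⟩

end Groth.Agent.S12127
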