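import Groth.Statements.S12129
import Mathlib
import Groth.Agent.S9682

set_option autoImplicit false
universe u
open EGA2

namespace Groth.Agent.S12129

open AlgebraicGeometry CategoryTheory in
/-- Let X be a scheme of finite type over a field k. Then the local ring of X at every closed point has
dimension one if and only if the irreducible closed subsets of X other than its irreducible
components are exactly the (singletons of) closed points of X — that is, every irreducible closed
subset which is not an irreducible component is a closed point, and no closed point is by itself an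
irreducible component. -/
theorem result (k : Type u) [Field k] (X : Scheme.{u})
    [X.Over (Spec (CommRingCat.of k))] [LocallyOfFiniteType (X ↘ (Spec (CommRingCat.of k)))]
    [QuasiCompact (X ↘ (Spec (CommRingCat.of k)))] :
    (∀ x : X, IsClosed ({x} : Set X) → ringKrullDim (X.presheaf.stalk x) = 1) ↔
      ((∀ F : Set X, IsClosed F → IsIrreducible F → F ∉ irreducibleComponents (X : Type u) →
          ∃ x : X, IsClosed ({x} : Set X) ∧ F = {x}) ∧
        ∀ x : X, IsClosed ({x} : Set X) → ({x} : Set X) ∉ irreducibleComponents (X : Type u)) := by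
  haveI : JacobsonSpace X := LocallyOfFiniteType.jacobsonSpace (X ↘ (Spec (CommRingCat.of k)))
  have hle : ∀ a b : X, a ≤ b ↔ b ⤳ a := fun a b => Iff.rfl
  have hlt : ∀ a b : X, a < b ↔ (b ⤳ a ∧ ¬ a ⤳ b) := fun a b => Iff.rfl
  have hdimc : ∀ x : X, ringKrullDim (X.presheaf.stalk x) = 1 ↔ Order.coheight x = 1 := by
    intro x
    rw [ringKrullDim_stalk_eq_coheight x]
    exact_mod_cast Iff.rfl
  have hmax_comp : ∀ x : X, IsMax x →
      closure ({x} : Set X) ∈ irreducibleComponents (X : Type u) := by
    intro x hx
    apply Groth.Agent.S9682.mem_irreducibleComponents_of_forall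
    intro x' hx'
    have h2 : x ⤳ x' := hx ((hle x x').mpr hx')
    exact (hx'.antisymm h2).eq
  have hcomp_max : ∀ x : X,
      closure ({x} : Set X) ∈ irreducibleComponents (X : Type u) → IsMax x := by
    intro x hx b hb
    have h1 : b ⤳ x := hb
    have h2 := Groth.Agent.S9682.eq_of_specializes_of_mem hx h1
    rw [h2]
  constructor
  · intro H
    refine ⟨fun F hFc hFi hFn => ?_, fun x hx hxc => ?_⟩
    · obtain ⟨ξ, hξ⟩ := QuasiSober.sober hFi hFc
      have hξF : closure {ξ} = F := hξ.def
      have hnmax : ¬ IsMax ξ := fun h => hFn (by rw [← hξF]; exact hmax_comp ξ h)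
      rw [not_isMax_iff] at hnmax
      obtain ⟨η, hη⟩ := hnmax
      obtain ⟨x, hxF, hxcl⟩ := nonempty_inter_closedPoints hFi.nonempty hFc.isLocallyClosed
      have hxcl' : IsClosed ({x} : Set X) := mem_closedPoints_iff.mp hxcl
      have hξx : ξ ⤳ x := by rw [specializes_iff_mem_closure, hξF]; exact hxF
      have hco := (hdimc x).mp (H x hxcl')
      by_cases hxξ : ξ = x
      · refine ⟨x, hxcl', ?_⟩
        rw [← hξF, hxξ]; exact hxcl'.closure_eq
      · exfalso
        have h1 : x < ξ := (hlt x ξ).mpr ⟨hξx, fun h => hxξ (hξx.antisymm h).eq⟩
        have h2 := Order.coheight_add_one_le h1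
        have h3 := Order.coheight_add_one_le hη
        rw [hco] at h2
        have h5 : Order.coheight η + 1 + 1 ≤ 1 := (add_le_add_left h3 1).trans h2
        have h6 : (1 : ℕ∞) + 1 ≤ 1 := by
          refine le_trans ?_ h5
          exact add_le_add_left le_add_self 1
        exact absurd h6 (by norm_num)
    · have hmax := hcomp_max x (by rw [hx.closure_eq]; exact hxc)
      have h0 : Order.coheight x = 0 := Order.coheight_eq_zero.mpr hmax
      have h1 := (hdimc x).mp (H x hx)
      rw [h0] at h1; exact zero_ne_one h1
  · rintro ⟨H1, H2⟩ x hx
    rw [hdimc]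
    apply le_antisymm
    · rw [show (1 : ℕ∞) = ((1 : ℕ) : ℕ∞) from rfl, Order.coheight_le_coe_iff]
      intro y hy
      have hymax : IsMax y := by
        by_contra hnm
        have hFn : closure ({y} : Set X) ∉ irreducibleComponents (X : Type u) :=
          fun h => hnm (hcomp_max y h)
        obtain ⟨x', hx', hF⟩ := H1 (closure {y}) isClosed_closure
          isIrreducible_singleton.closure hFn
        have hyx' : y = x' := by
          have h1 : y ∈ closure ({y} : Set X) := subset_closure rfl
          rw [hF] at h1; exact h1
        have hycl : IsClosed ({y} : Set X) := by rw [hyx']; exact hx'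
        have hyx : y ⤳ x := ((hlt x y).mp hy).1
        have h2 : x ∈ closure ({y} : Set X) := specializes_iff_mem_closure.mp hyx
        rw [hycl.closure_eq] at h2
        have hxy : x = y := h2
        exact ((hlt x y).mp hy).2 (by rw [hxy])
      rw [Order.coheight_eq_zero.mpr hymax]
      exact_mod_cast zero_lt_one
    · have hne : Order.coheight x ≠ 0 := by
        rw [Order.coheight_ne_zero]
        intro hmax
        exact H2 x hx (by have h1 := hmax_comp x hmax; rwa [hx.closure_eq] at h1)
      exact Order.one_le_iff_ne_zero.mpr hne

end Groth.Agent.S12129
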