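import Groth.Statements.S12142
-- import your own Groth.Agent.* helpers here

set_option autoImplicit false
universe u
open CategoryTheory CategoryTheory.Limits AlgebraicGeometry TopologicalSpace Opposite
open scoped HomogeneousIdeal
noncomputable section
open EGA2

namespace Groth.Agent.S12142

theorem sq_chart {S : Scheme.{u}} (A : RelSpec.QCAlg S) (U : S.Opens) (hU : IsAffineOpen U) :
    IsPullback (Spec.map (A.str.app (op U))) (A.ι U hU) hU.fromSpec A.π := by
  refine IsOpenImmersion.isPullback _ _ _ _ (A.ι_π U hU) ?_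
  rw [hU.opensRange_fromSpec, A.π_preimage U hU]

/-- Let g : S' → S be a morphism of schemes, A a quasi-coherent O_S-algebra and B = g^*A, presented as a
quasi-coherent O_{S'}-algebra with a g-morphism u : A → g_*B whose squares of rings over affine
opens U' ⊆ g⁻¹(U) are pushouts; let h = Spec(u) : Spec(B) → Spec(A) be the induced morphism of
relative spectra (chartwise Spec of A(U) → B(U')). Then h and the structure morphisms form a
cartesian square: Spec(g^*A) is the fibre product Spec(A) ×_S S'. -/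
theorem result {S S' : Scheme.{u}} (g : S' ⟶ S)
    (A : RelSpec.QCAlg S) (B : RelSpec.QCAlg S') (u : RelSpec.QHom g A B) (hu : RelSpec.IsQBaseChange u)
    (h : B.spec ⟶ A.spec) (hh : RelSpec.IsSpecQMap u h) :
    IsPullback h B.π A.π g := by
  have hcov : IsOpenCover (fun i : {V : S.affineOpens × S'.affineOpens //
      (V.2 : S'.Opens) ≤ g ⁻¹ᵁ (V.1 : S.Opens)} => (i.1.2.1 : S'.Opens)) := by
    rw [IsOpenCover, eq_top_iff]
    rintro y' -
    obtain ⟨_, ⟨U, hU, rfl⟩, hyU, -⟩ := S.isBasis_affineOpens.exists_subset_of_mem_open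
      (Set.mem_univ (g.base y')) isOpen_univ
    obtain ⟨_, ⟨U', hU', rfl⟩, hyU', hU'le⟩ := S'.isBasis_affineOpens.exists_subset_of_mem_open
      (show y' ∈ ((g ⁻¹ᵁ U : S'.Opens) : Set S') from hyU) (g ⁻¹ᵁ U).2
    exact Opens.mem_iSup.mpr ⟨⟨(⟨U, hU⟩, ⟨U', hU'⟩), fun _ h => hU'le h⟩, hyU'⟩
  refine IsPullback.flip (Scheme.isPullback_of_openCover B.π h g A.π
    (S'.openCoverOfIsOpenCover _ hcov) ?_)
  rintro ⟨⟨⟨U, hU⟩, ⟨U', hU'⟩⟩, hle⟩
  replace hU : IsAffineOpen U := hU
  replace hU' : IsAffineOpen U' := hU'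
  change IsPullback (pullback.snd B.π U'.ι) (pullback.fst B.π U'.ι ≫ h) (U'.ι ≫ g) A.π
  have sq1 := (isPullback_SpecMap_of_isPushout _ _ _ _ (hu U hU U' hU' hle)).flip
  have sq2 := (sq_chart A U hU).flip
  have sq3 := sq1.paste_horiz sq2
  rw [← hh U hU U' hU' hle, IsAffineOpen.SpecMap_appLE_fromSpec g hU hU' hle] at sq3
  have sqB : IsPullback (B.ι U' hU') (Spec.map (B.str.app (op U')) ≫ hU'.isoSpec.inv) B.π
      U'.ι := by
    refine (IsOpenImmersion.isPullback _ _ _ _ ?_ ?_).flip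
    · rw [B.ι_π U' hU', Category.assoc, IsAffineOpen.isoSpec_inv_ι]
    · rw [Scheme.Opens.opensRange_ι, B.π_preimage U' hU']
  refine sq3.flip.of_iso sqB.isoPullback hU'.isoSpec.symm (Iso.refl _) (Iso.refl _) ?_ ?_ ?_ ?_
  · rw [sqB.isoPullback_hom_snd]
    rfl
  · rw [← Category.assoc, sqB.isoPullback_hom_fst]
    simp
  · simp
  · simp

end Groth.Agent.S12142
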