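import Groth.Statements.S8298
import Groth.Agent.Lib.Helper22.RelConeVertex
import Groth.Agent.Lib.Helper22.RelProjTN

set_option autoImplicit false
universe u
open CategoryTheory CategoryTheory.Limits AlgebraicGeometry Opposite TopologicalSpace
open scoped HomogeneousIdeal
noncomputable section
open EGA2

namespace Groth.Agent.S8298

open Groth.Agent.Helper22.RelConeVertex Groth.Agent.Helper22.RelProjTN HomogeneousLocalization

section Alg

variable {A σ : Type u} [CommRing A] [SetLike σ A] [AddSubgroupClass σ A] (𝒜 : ℕ → σ) [GradedRing 𝒜]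

theorem mk_mem_iff {f : A} (hf : f ∈ 𝒜 1) {n : ℕ} (hn : 0 < n) {m : A} (hm : m ∈ 𝒜 n)
    (hm' : m ∈ 𝒜 (n • 1)) (w : Spec (CommRingCat.of (Away 𝒜 f))) :
    Away.mk 𝒜 hf n m hm' ∈ w.asIdeal ↔
      m ∈ ((Proj.awayι 𝒜 f hf one_pos).base w).asHomogeneousIdeal.toIdeal := by
  have h1 := SetLike.ext_iff.mp (Proj.awayι_preimage_basicOpen 𝒜 hf one_pos hm hn) w
  have e1 : Away.isLocalizationElem hf hm = Away.mk 𝒜 hf n m hm' := by
    apply HomogeneousLocalization.val_injective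
    simp only [Away.isLocalizationElem]
    rw [Away.val_mk, Away.val_mk, pow_one]
  rw [e1] at h1
  have h2 : (m ∉ ((Proj.awayι 𝒜 f hf one_pos).base w).asHomogeneousIdeal.toIdeal) ↔
      (Away.mk 𝒜 hf n m hm' ∉ w.asIdeal) := h1
  exact not_iff_not.mp h2.symm

theorem mk_mem_iff' {f : A} (hf : f ∈ 𝒜 1) {n : ℕ} {m : A} (hm' : m ∈ 𝒜 (n • 1))
    (w : Spec (CommRingCat.of (Away 𝒜 f))) :
    Away.mk 𝒜 hf n m hm' ∈ w.asIdeal ↔
      m ∈ ((Proj.awayι 𝒜 f hf one_pos).base w).asHomogeneousIdeal.toIdeal := by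
  have hm : m ∈ 𝒜 n := by rwa [smul_eq_mul, mul_one] at hm'
  have hmf : m * f ∈ 𝒜 (n + 1) := SetLike.mul_mem_graded hm hf
  have hmf' : m * f ∈ 𝒜 ((n + 1) • 1) := by rwa [smul_eq_mul, mul_one]
  have e1 : Away.mk 𝒜 hf n m hm' = Away.mk 𝒜 hf (n + 1) (m * f) hmf' := by
    apply HomogeneousLocalization.val_injective
    rw [Away.val_mk, Away.val_mk, Localization.mk_eq_mk_iff, Localization.r_iff_exists]
    refine ⟨1, ?_⟩
    simp only [OneMemClass.coe_one, one_mul]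
    ring
  have hfy : f ∉ ((Proj.awayι 𝒜 f hf one_pos).base w).asHomogeneousIdeal.toIdeal := by
    have h : (Proj.awayι 𝒜 f hf one_pos).base w ∈ (Proj.awayι 𝒜 f hf one_pos).opensRange :=
      ⟨w, rfl⟩
    rw [Proj.opensRange_awayι] at h
    exact h
  rw [e1, mk_mem_iff 𝒜 hf (Nat.succ_pos n) hmf hmf' w]
  constructor
  · intro h
    rcases (ProjectiveSpectrum.isPrime _).mem_or_mem h with h | h
    · exact h
    · exact absurd h hfy
  · intro h
    exact Ideal.mul_mem_right _ _ h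

end Alg

section Main

variable {Y PC : Scheme.{u}} {𝒮 𝒮h : RelProj.QCGrAlg Y}

theorem str_eq (ι : 𝒮.toQCAlg ⟶ 𝒮h.toQCAlg) (U : Y.Opens) (r : Γ(Y, U)) :
    (𝒮h.str.app (op U)).hom r = (ι.hom.app (op U)).hom ((𝒮.str.app (op U)).hom r) :=
  (congrArg (fun t => (t.app (op U)).hom r) ι.comm).symm

theorem aug_str (aug : 𝒮.toQCAlg ⟶ RelSpec.QCAlg.unit Y) (U : Y.Opens) (r : Γ(Y, U)) :
    (aug.hom.app (op U)).hom ((𝒮.str.app (op U)).hom r) = r :=
  congrArg (fun t => (t.app (op U)).hom r) aug.comm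

variable {ι : 𝒮.toQCAlg ⟶ 𝒮h.toQCAlg} {z : 𝒮h.presheaf.obj (op ⊤)}
  (hz : RelCone.IsPolyOver 𝒮 𝒮h ι z) (U : Y.Opens) (hU : IsAffineOpen U)

theorem hcomp (aug : 𝒮.toQCAlg ⟶ RelSpec.QCAlg.unit Y) (r : Γ(Y, U)) :
    (aug.hom.app (op U)).hom (hz.awayZToBase U hU
      (fromZeroRingHom (𝒮h.deg U hU) _ ((𝒮h.strZero U hU).hom r))) = r := by
  have hq : (fromZeroRingHom (𝒮h.deg U hU) (Submonoid.powers (RelCone.restrictTop 𝒮h z U))
      ((𝒮h.strZero U hU).hom r)).val =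
      Localization.mk ((𝒮h.str.app (op U)).hom r)
        ⟨RelCone.restrictTop 𝒮h z U ^ 0, pow_mem (Submonoid.mem_powers _) 0⟩ :=
    congrArg (Localization.mk _) (Subtype.ext (pow_zero _).symm)
  rw [hz.awayZToBase_of_val U hU _ _ 0 hq, str_eq ι U, hz.evalOne_ι, aug_str]

theorem proj_sub_mem (h0 : RelCone.StrZeroBij 𝒮) (aug : 𝒮.toQCAlg ⟶ RelSpec.QCAlg.unit Y)
    (haug : RelCone.IsAugmentation 𝒮 aug) (y : Proj (𝒮h.deg U hU))
    (hI : ∀ f ∈ ((𝒮.deg U hU)₊).toIdeal,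
      (ι.hom.app (op U)).hom f ∈ y.asHomogeneousIdeal.toIdeal)
    (P : Polynomial (𝒮.presheaf.obj (op U))) (d : ℕ) :
    GradedRing.proj (𝒮h.deg U hU) d (hz.polyEquiv U hU P) -
      (𝒮h.str.app (op U)).hom ((aug.hom.app (op U)).hom (P.coeff d)) *
        RelCone.restrictTop 𝒮h z U ^ d ∈ y.asHomogeneousIdeal.toIdeal := by
  classical
  have hn : P.natDegree < P.natDegree + d + 1 := by omega
  have hx : hz.polyEquiv U hU P = ∑ j ∈ Finset.range (P.natDegree + d + 1),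
      (ι.hom.app (op U)).hom (P.coeff j) * RelCone.restrictTop 𝒮h z U ^ j := by
    rw [RelCone.IsPolyOver.polyEquiv_apply]
    exact Polynomial.eval₂_eq_sum_range' _ hn _
  have hh : ∀ j, (𝒮h.str.app (op U)).hom ((aug.hom.app (op U)).hom (P.coeff j)) *
      RelCone.restrictTop 𝒮h z U ^ j ∈ 𝒮h.deg U hU j := by
    intro j
    have := SetLike.mul_mem_graded (𝒮h.str_mem U hU ((aug.hom.app (op U)).hom (P.coeff j)))
      (SetLike.pow_mem_graded j (hz.deg_z U hU))
    rwa [zero_add, smul_eq_mul, mul_one] at this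
  have hD : hz.polyEquiv U hU P - ∑ j ∈ Finset.range (P.natDegree + d + 1),
      (𝒮h.str.app (op U)).hom ((aug.hom.app (op U)).hom (P.coeff j)) *
        RelCone.restrictTop 𝒮h z U ^ j ∈ y.asHomogeneousIdeal.toIdeal := by
    rw [hx, ← Finset.sum_sub_distrib]
    refine Ideal.sum_mem _ fun j _ => ?_
    rw [str_eq ι U, ← sub_mul, ← map_sub]
    exact Ideal.mul_mem_right _ _ (hI _ (sub_str_aug_mem 𝒮 h0 aug haug U hU _))
  have hhom := (y.asHomogeneousIdeal.isHomogeneous.mem_iff).mp hD d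
  rw [← GradedRing.proj_apply, map_sub, map_sum] at hhom
  rw [Finset.sum_eq_single d] at hhom
  · rwa [GradedRing.proj_apply (𝒮h.deg U hU) d (_ * _),
      DirectSum.decompose_of_mem_same _ (hh d)] at hhom
  · intro j _ hjd
    rw [GradedRing.proj_apply, DirectSum.decompose_of_mem_ne _ (hh j) hjd]
  · intro hd
    exact absurd (Finset.mem_range.mpr (by omega)) hd

include hz in
theorem z_not_mem (h0 : RelCone.StrZeroBij 𝒮) (aug : 𝒮.toQCAlg ⟶ RelSpec.QCAlg.unit Y)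
    (haug : RelCone.IsAugmentation 𝒮 aug) (y : Proj (𝒮h.deg U hU))
    (hI : ∀ f ∈ ((𝒮.deg U hU)₊).toIdeal,
      (ι.hom.app (op U)).hom f ∈ y.asHomogeneousIdeal.toIdeal) :
    RelCone.restrictTop 𝒮h z U ∉ y.asHomogeneousIdeal.toIdeal := by
  classical
  intro hzy
  obtain ⟨b, d, hd, hb, hby⟩ :=
    Groth.Agent.Helper22.ProjIrr.exists_mem_basicOpen (𝒮h.deg U hU) y
  have hby' : b ∉ y.asHomogeneousIdeal.toIdeal := hby
  apply hby'
  have h1 := proj_sub_mem hz U hU h0 aug haug y hI ((hz.polyEquiv U hU).symm b) d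
  rw [RingEquiv.apply_symm_apply, GradedRing.proj_apply,
    DirectSum.decompose_of_mem_same _ hb] at h1
  have h2 : (𝒮h.str.app (op U)).hom ((aug.hom.app (op U)).hom
      (((hz.polyEquiv U hU).symm b).coeff d)) * RelCone.restrictTop 𝒮h z U ^ d ∈
      y.asHomogeneousIdeal.toIdeal :=
    Ideal.mul_mem_left _ _ (Ideal.pow_mem_of_mem _ hzy d hd)
  have h3 := add_mem h1 h2
  simpa using h3

theorem vertex_mem (aug : 𝒮.toQCAlg ⟶ RelSpec.QCAlg.unit Y)
    (haug : RelCone.IsAugmentation 𝒮 aug) (t : Spec Γ(Y, U))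
    (f : 𝒮.presheaf.obj (op U)) (hf : f ∈ ((𝒮.deg U hU)₊).toIdeal) :
    (ι.hom.app (op U)).hom f ∈
      ((Proj.awayι (𝒮h.deg U hU) (RelCone.restrictTop 𝒮h z U) (hz.deg_z U hU) one_pos).base
        ((Spec.map (CommRingCat.ofHom (hz.awayZToBase U hU))).base
          ((Spec.map (aug.hom.app (op U))).base t))).asHomogeneousIdeal.toIdeal := by
  classical
  have hf' : f ∈ HomogeneousIdeal.irrelevant (𝒮.deg U hU) := hf
  rw [HomogeneousIdeal.mem_irrelevant_iff, GradedRing.proj_apply] at hf'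
  have hsum : f = ∑ i ∈ (DirectSum.decompose (𝒮.deg U hU) f).support,
      (DirectSum.decompose (𝒮.deg U hU) f i : 𝒮.presheaf.obj (op U)) :=
    (DirectSum.sum_support_decompose (𝒮.deg U hU) f).symm
  rw [hsum, map_sum]
  refine Ideal.sum_mem _ fun i _ => ?_
  rcases Nat.eq_zero_or_pos i with hi | hi
  · subst hi
    rw [hf', map_zero]
    exact zero_mem _
  · have hgm : (ι.hom.app (op U)).hom
        (DirectSum.decompose (𝒮.deg U hU) f i : 𝒮.presheaf.obj (op U)) ∈ 𝒮h.deg U hU i :=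
      hz.graded U hU i _ (SetLike.coe_mem _)
    have hgm' : (ι.hom.app (op U)).hom
        (DirectSum.decompose (𝒮.deg U hU) f i : 𝒮.presheaf.obj (op U)) ∈
        𝒮h.deg U hU (i • 1) := by rwa [smul_eq_mul, mul_one]
    refine (mk_mem_iff' (𝒮h.deg U hU) (hz.deg_z U hU) hgm' _).mp ?_
    show (aug.hom.app (op U)).hom (hz.awayZToBase U hU
      (Away.mk (𝒮h.deg U hU) (hz.deg_z U hU) i _ hgm')) ∈ t.asIdeal
    rw [hz.awayZToBase_of_val U hU _ _ i (Away.val_mk _ _ _ _ _), hz.evalOne_ι]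
    obtain ⟨d, rfl⟩ := Nat.exists_eq_succ_of_ne_zero hi.ne'
    rw [haug U hU d _ (SetLike.coe_mem _)]
    exact zero_mem _

end Main

section Main2

variable {Y PC : Scheme.{u}} {𝒮 𝒮h : RelProj.QCGrAlg Y}
  {ι : 𝒮.toQCAlg ⟶ 𝒮h.toQCAlg} {z : 𝒮h.presheaf.obj (op ⊤)}
  (hz : RelCone.IsPolyOver 𝒮 𝒮h ι z) (U : Y.Opens) (hU : IsAffineOpen U)

theorem ker_iff (h0 : RelCone.StrZeroBij 𝒮) (aug : 𝒮.toQCAlg ⟶ RelSpec.QCAlg.unit Y)
    (haug : RelCone.IsAugmentation 𝒮 aug)
    (w : Spec (CommRingCat.of (Away (𝒮h.deg U hU) (RelCone.restrictTop 𝒮h z U))))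
    (hI : ∀ f ∈ ((𝒮.deg U hU)₊).toIdeal, (ι.hom.app (op U)).hom f ∈
      ((Proj.awayι (𝒮h.deg U hU) (RelCone.restrictTop 𝒮h z U) (hz.deg_z U hU) one_pos).base
        w).asHomogeneousIdeal.toIdeal)
    (q : Away (𝒮h.deg U hU) (RelCone.restrictTop 𝒮h z U)) :
    fromZeroRingHom (𝒮h.deg U hU) _ ((𝒮h.strZero U hU).hom
      ((aug.hom.app (op U)).hom (hz.awayZToBase U hU q))) ∈ w.asIdeal ↔ q ∈ w.asIdeal := by
  classical
  have hzy := z_not_mem hz U hU h0 aug haug _ hI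
  have hprime := ProjectiveSpectrum.isPrime
    ((Proj.awayι (𝒮h.deg U hU) (RelCone.restrictTop 𝒮h z U) (hz.deg_z U hU) one_pos).base w)
  obtain ⟨k, x, hx, rfl⟩ := Away.mk_surjective (𝒮h.deg U hU) (hz.deg_z U hU) q
  have hxk : x ∈ 𝒮h.deg U hU k := by rwa [smul_eq_mul, mul_one] at hx
  obtain ⟨P, rfl⟩ : ∃ P, hz.polyEquiv U hU P = x := ⟨_, RingEquiv.apply_symm_apply _ _⟩
  have hE : hz.evalOne U hU (hz.polyEquiv U hU P) = Polynomial.eval 1 P := by
    show Polynomial.eval 1 ((hz.polyEquiv U hU).symm (hz.polyEquiv U hU P)) = _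
    rw [RingEquiv.symm_apply_apply]
  rw [hz.awayZToBase_of_val U hU _ _ k (Away.val_mk _ _ _ _ _), hE]
  have hs0 : (𝒮h.str.app (op U)).hom ((aug.hom.app (op U)).hom (Polynomial.eval 1 P)) ∈
      𝒮h.deg U hU (0 • 1) := by
    rw [zero_smul]; exact 𝒮h.str_mem U hU _
  have hβ : fromZeroRingHom (𝒮h.deg U hU) (Submonoid.powers (RelCone.restrictTop 𝒮h z U))
      ((𝒮h.strZero U hU).hom ((aug.hom.app (op U)).hom (Polynomial.eval 1 P))) =
      Away.mk (𝒮h.deg U hU) (hz.deg_z U hU) 0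
        ((𝒮h.str.app (op U)).hom ((aug.hom.app (op U)).hom (Polynomial.eval 1 P))) hs0 := by
    apply HomogeneousLocalization.val_injective
    rw [Away.val_mk]
    exact congrArg (Localization.mk _) (Subtype.ext (pow_zero _).symm)
  rw [hβ, mk_mem_iff' _ (hz.deg_z U hU) hs0 w, mk_mem_iff' _ (hz.deg_z U hU) hx w]
  -- the algebra
  have hn : P.natDegree < P.natDegree + k + 1 := by omega
  have e_r : (𝒮h.str.app (op U)).hom ((aug.hom.app (op U)).hom (Polynomial.eval 1 P)) =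
      ∑ j ∈ Finset.range (P.natDegree + k + 1),
        (𝒮h.str.app (op U)).hom ((aug.hom.app (op U)).hom (P.coeff j)) := by
    rw [Polynomial.eval_eq_sum_range' hn]
    simp only [one_pow, mul_one, map_sum]
    exact map_sum _ _ _
  have hb : ∀ j, j ≠ k → (𝒮h.str.app (op U)).hom ((aug.hom.app (op U)).hom (P.coeff j)) ∈
      ((Proj.awayι (𝒮h.deg U hU) (RelCone.restrictTop 𝒮h z U) (hz.deg_z U hU) one_pos).base
        w).asHomogeneousIdeal.toIdeal := by
    intro j hjk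
    have h1 := proj_sub_mem hz U hU h0 aug haug _ hI P j
    rw [GradedRing.proj_apply, DirectSum.decompose_of_mem_ne _ hxk (Ne.symm hjk), zero_sub,
      neg_mem_iff] at h1
    rcases hprime.mem_or_mem h1 with h | h
    · exact h
    · exact absurd (hprime.mem_of_pow_mem _ h) hzy
  have ha := proj_sub_mem hz U hU h0 aug haug _ hI P k
  rw [GradedRing.proj_apply, DirectSum.decompose_of_mem_same _ hxk] at ha
  have hc : (𝒮h.str.app (op U)).hom ((aug.hom.app (op U)).hom (Polynomial.eval 1 P)) -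
      (𝒮h.str.app (op U)).hom ((aug.hom.app (op U)).hom (P.coeff k)) ∈
      ((Proj.awayι (𝒮h.deg U hU) (RelCone.restrictTop 𝒮h z U) (hz.deg_z U hU) one_pos).base
        w).asHomogeneousIdeal.toIdeal := by
    rw [e_r, ← Finset.add_sum_erase _ _ (Finset.mem_range.mpr (by omega : k < P.natDegree + k + 1)),
      add_sub_cancel_left]
    exact Ideal.sum_mem _ fun j hj => hb j (Finset.ne_of_mem_erase hj)
  constructor
  · intro h
    have h1 := sub_mem h hc
    rw [sub_sub_cancel] at h1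
    have h2 := Ideal.mul_mem_right (RelCone.restrictTop 𝒮h z U ^ k) _ h1
    have h3 := add_mem ha h2
    rwa [sub_add_cancel] at h3
  · intro h
    have h1 := sub_mem h ha
    rw [sub_sub_cancel] at h1
    have h2 : (𝒮h.str.app (op U)).hom ((aug.hom.app (op U)).hom (P.coeff k)) ∈
        ((Proj.awayι (𝒮h.deg U hU) (RelCone.restrictTop 𝒮h z U) (hz.deg_z U hU) one_pos).base
          w).asHomogeneousIdeal.toIdeal := by
      rcases hprime.mem_or_mem h1 with h | h
      · exact h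
      · exact absurd (hprime.mem_of_pow_mem _ h) hzy
    have h3 := add_mem hc h2
    rwa [sub_add_cancel] at h3

variable (pC : PC ⟶ Y)
  (chartC : ∀ (U : Y.Opens) (hU : IsAffineOpen U),
    (((pC ⁻¹ᵁ U : PC.Opens) : Scheme.{u}) ≅ Proj (𝒮h.deg U hU)))

theorem pC_pt (hPC : RelProj.IsRelProj 𝒮h pC chartC)
    (w : Spec (CommRingCat.of (Away (𝒮h.deg U hU) (RelCone.restrictTop 𝒮h z U)))) :
    pC.base ((RelProj.emb pC chartC U hU).base
      ((Proj.awayι (𝒮h.deg U hU) (RelCone.restrictTop 𝒮h z U) (hz.deg_z U hU) one_pos).base w)) =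
      hU.fromSpec.base ((Spec.map (𝒮h.strZero U hU)).base
        ((Spec.map (CommRingCat.ofHom (fromZeroRingHom (𝒮h.deg U hU) _))).base w)) :=
  congrArg (fun g => g.base w) (awayι_emb_over hPC U hU one_pos _ (hz.deg_z U hU))

variable {pC chartC}

theorem pt_formula {aug : 𝒮.toQCAlg ⟶ RelSpec.QCAlg.unit Y} {ε : Y ⟶ 𝒮.toQCAlg.spec}
    (hε : RelCone.IsVertex 𝒮 aug ε) {i : 𝒮.toQCAlg.spec ⟶ PC}
    (hi : RelCone.IsConeImm 𝒮 hz pC chartC i) (t : Spec Γ(Y, U)) :
    (ε ≫ i).base (hU.fromSpec.base t) =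
      (RelProj.emb pC chartC U hU).base
        ((Proj.awayι (𝒮h.deg U hU) (RelCone.restrictTop 𝒮h z U) (hz.deg_z U hU) one_pos).base
          ((Spec.map (CommRingCat.ofHom (hz.awayZToBase U hU))).base
            ((Spec.map (aug.hom.app (op U))).base t))) := by
  have e1 : ε.base (hU.fromSpec.base t) =
      (𝒮.toQCAlg.ι U hU).base ((Spec.map (aug.hom.app (op U))).base t) :=
    congrArg (fun g => g.base t) (hε.chart U hU)
  have e2 := congrArg (fun g => g.base ((Spec.map (aug.hom.app (op U))).base t)) (hi U hU)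
  show i.base (ε.base (hU.fromSpec.base t)) = _
  rw [e1]
  exact e2

theorem pC_ε_i (hPC : RelProj.IsRelProj 𝒮h pC chartC)
    {aug : 𝒮.toQCAlg ⟶ RelSpec.QCAlg.unit Y} {ε : Y ⟶ 𝒮.toQCAlg.spec}
    (hε : RelCone.IsVertex 𝒮 aug ε) {i : 𝒮.toQCAlg.spec ⟶ PC}
    (hi : RelCone.IsConeImm 𝒮 hz pC chartC i) (s : Y) :
    pC.base ((ε ≫ i).base s) = s := by
  obtain ⟨_, ⟨V, hV, rfl⟩, hsV, -⟩ := Y.isBasis_affineOpens.exists_subset_of_mem_open
    (Set.mem_univ s) isOpen_univ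
  replace hV : IsAffineOpen V := hV
  obtain ⟨t, rfl⟩ : ∃ t, hV.fromSpec.base t = s := by
    have h : s ∈ Set.range hV.fromSpec := by
      rw [hV.range_fromSpec]
      exact hsV
    exact h
  rw [pt_formula hz V hV hε hi t, pC_pt hz V hV pC chartC hPC]
  refine congrArg _ ?_
  apply PrimeSpectrum.ext
  ext r
  show (aug.hom.app (op V)).hom (hz.awayZToBase V hV
    (fromZeroRingHom (𝒮h.deg V hV) _ ((𝒮h.strZero V hV).hom r))) ∈ t.asIdeal ↔ r ∈ t.asIdeal
  rw [hcomp hz V hV aug r]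
  exact Iff.rfl

end Main2

/-- The pointed projective cone: let 𝒮 be a quasi-coherent positively graded O_Y-algebra with 𝒮_0 = O_Y,
aug its augmentation and ε : Y → C = Spec(𝒮) the vertex section; let Ŝ = 𝒮[z] (given through a
graded homomorphism ι : 𝒮 → Ŝ and a degree-one global section z, polynomial over every affine open),
Ĉ = Proj(Ŝ) its relative homogeneous spectrum with charts, and i : C → Ĉ the canonical open
immersion. Then the open subset of Ĉ which is the union, over the affine opens U of Y, of the chart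
images of the opens of Proj Ŝ(U) where the morphism induced by ι(U) : 𝒮(U) → Ŝ(U) is defined (the
complement of V_+ of the ideal generated by ι(𝒮(U)_+)) has underlying set exactly the complement of
i(ε(Y)): the pointed projective cone Ê is Ĉ minus its vertex section. -/
theorem result {Y PC : Scheme.{u}} (𝒮 𝒮h : RelProj.QCGrAlg Y) (h0 : RelCone.StrZeroBij 𝒮)
    (ι : 𝒮.toQCAlg ⟶ 𝒮h.toQCAlg) (z : 𝒮h.presheaf.obj (op ⊤)) (hz : RelCone.IsPolyOver 𝒮 𝒮h ι z)
    (pC : PC ⟶ Y)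
    (chartC : ∀ (U : Y.Opens) (hU : IsAffineOpen U), (((pC ⁻¹ᵁ U : PC.Opens) : Scheme.{u}) ≅ Proj (𝒮h.deg U hU)))
    (hPC : RelProj.IsRelProj 𝒮h pC chartC)
    (aug : 𝒮.toQCAlg ⟶ RelSpec.QCAlg.unit Y) (haug : RelCone.IsAugmentation 𝒮 aug)
    (ε : Y ⟶ 𝒮.toQCAlg.spec) (hε : RelCone.IsVertex 𝒮 aug ε)
    (i : 𝒮.toQCAlg.spec ⟶ PC) (hi : RelCone.IsConeImm 𝒮 hz pC chartC i) :
    ((RelCone.pointedProjCone 𝒮 hz pC chartC : PC.Opens) : Set PC) = (Set.range (ε ≫ i).base)ᶜ := by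
  classical
  ext x
  rw [Set.mem_compl_iff]
  constructor
  · intro hx
    obtain ⟨V, hV⟩ := Opens.mem_iSup.mp
      (show x ∈ (RelCone.pointedProjCone 𝒮 hz pC chartC : PC.Opens) from hx)
    obtain ⟨y, hy, rfl⟩ := hV
    rintro ⟨s, hs⟩
    have hsU : s ∈ V.1 := by
      have h1 := pC_ε_i hz hPC hε hi s
      have h2 := Groth.Agent.Helper22.RelProjTN.emb_mem pC chartC V.1 V.2 y
      have h3 : pC.base ((ε ≫ i).base s) ∈ V.1 := by
        rw [hs]
        exact h2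
      rw [h1] at h3
      exact h3
    obtain ⟨t, rfl⟩ : ∃ t, V.2.fromSpec.base t = s := by
      have h : s ∈ Set.range V.2.fromSpec := by
        rw [V.2.range_fromSpec]
        exact hsU
      exact h
    rw [pt_formula hz V.1 V.2 hε hi t] at hs
    have h4 := (RelProj.emb pC chartC V.1 V.2).isOpenEmbedding.injective hs
    obtain ⟨f, hf, hfy⟩ := (RelCone.mem_domOpen _ y).mp hy
    apply hfy
    rw [← h4]
    exact vertex_mem hz V.1 V.2 aug haug t f hf
  · intro hx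
    obtain ⟨_, ⟨U, hU, rfl⟩, hxU, -⟩ := Y.isBasis_affineOpens.exists_subset_of_mem_open
      (Set.mem_univ (pC.base x)) isOpen_univ
    replace hU : IsAffineOpen U := hU
    obtain ⟨y, hy⟩ : ∃ y, (RelProj.emb pC chartC U hU).base y = x :=
      ⟨_, Groth.Agent.Helper22.RelProjTN.emb_chart_hom pC chartC U hU x hxU⟩
    show x ∈ (RelCone.pointedProjCone 𝒮 hz pC chartC : PC.Opens)
    refine Opens.mem_iSup.mpr ⟨⟨U, hU⟩, y, ?_, hy⟩
    by_contra hcon
    have hI : ∀ f ∈ ((𝒮.deg U hU)₊).toIdeal,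
        (ι.hom.app (op U)).hom f ∈ y.asHomogeneousIdeal.toIdeal := by
      intro f hf
      by_contra hfy
      exact hcon ((RelCone.mem_domOpen _ y).mpr ⟨f, hf, hfy⟩)
    apply hx
    have hzy := z_not_mem hz U hU h0 aug haug y hI
    obtain ⟨w, hw⟩ : ∃ w, (Proj.awayι (𝒮h.deg U hU) (RelCone.restrictTop 𝒮h z U)
        (hz.deg_z U hU) one_pos).base w = y := by
      have h : y ∈ (Proj.awayι (𝒮h.deg U hU) (RelCone.restrictTop 𝒮h z U)
          (hz.deg_z U hU) one_pos).opensRange := by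
        rw [Proj.opensRange_awayι]
        exact hzy
      exact h
    subst hw
    refine ⟨hU.fromSpec.base ((Spec.map (𝒮h.strZero U hU)).base
      ((Spec.map (CommRingCat.ofHom (HomogeneousLocalization.fromZeroRingHom
        (𝒮h.deg U hU) _))).base w)), ?_⟩
    rw [pt_formula hz U hU hε hi, ← hy]
    refine congrArg _ (congrArg _ ?_)
    apply PrimeSpectrum.ext
    ext q
    exact ker_iff hz U hU h0 aug haug w hI q

end Groth.Agent.S8298
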