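import Groth.Statements.S8297
import Groth.Agent.Lib.Helper22.RelConeVertex
import Groth.Agent.Lib.Helper22.RelProjTN
import Groth.Agent.Lib.Helper22.RelProjLoc
import Groth.Agent.S8298

set_option autoImplicit false
universe u
open CategoryTheory CategoryTheory.Limits AlgebraicGeometry Opposite TopologicalSpace
open scoped HomogeneousIdeal
noncomputable section
open EGA2

namespace Groth.Agent.S8297

open Groth.Agent.Helper22.RelConeVertex Groth.Agent.Helper22.RelProjTN HomogeneousLocalization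

section AlgFG

variable {S T : Type u} [CommRing S] [CommRing T] {𝒜 : ℕ → AddSubgroup S} {ℬ : ℕ → AddSubgroup T}
  [GradedRing 𝒜] [GradedRing ℬ] (ψ : 𝒜 →+*ᵍ ℬ) {z : T} (hz : z ∈ ℬ 1)

include hz in
theorem proj_mul_pow (a : S) (j d : ℕ) :
    (DirectSum.decompose ℬ (ψ a * z ^ j) d : T) =
      if j ≤ d then ψ (DirectSum.decompose 𝒜 a (d - j) : S) * z ^ j else 0 := by
  have hzj : z ^ j ∈ ℬ j := by
    have := SetLike.pow_mem_graded j hz
    rwa [smul_eq_mul, mul_one] at this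
  rw [DirectSum.coe_decompose_mul_of_right_mem ℬ d hzj, GradedRingHom.map_directSumDecompose]

/-- the degree-`d` bihomogeneous part of a polynomial over a graded ring -/
def Td (𝒜 : ℕ → AddSubgroup S) [GradedRing 𝒜] (d : ℕ) (P : Polynomial S) : Polynomial S :=
  ∑ j ∈ Finset.range (d + 1),
    Polynomial.C (DirectSum.decompose 𝒜 (P.coeff j) (d - j) : S) * Polynomial.X ^ j

theorem coeff_Td (d : ℕ) (P : Polynomial S) (j : ℕ) :
    (Td 𝒜 d P).coeff j =
      if j ≤ d then (DirectSum.decompose 𝒜 (P.coeff j) (d - j) : S) else 0 := by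
  unfold Td
  rw [Polynomial.finsetSum_coeff]
  simp only [Polynomial.coeff_C_mul_X_pow]
  rw [Finset.sum_ite_eq]
  simp only [Finset.mem_range, Nat.lt_succ_iff]

include hz in
theorem eval₂_Td (d : ℕ) (P : Polynomial S) :
    Polynomial.eval₂ ψ.toRingHom z (Td 𝒜 d P) =
      (DirectSum.decompose ℬ (Polynomial.eval₂ ψ.toRingHom z P) d : T) := by
  have hn : P.natDegree < P.natDegree + d + 2 := by omega
  rw [Polynomial.eval₂_eq_sum_range' ψ.toRingHom hn z, ← GradedRing.proj_apply, map_sum]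
  have h1 : ∀ j ∈ Finset.range (P.natDegree + d + 2),
      GradedRing.proj ℬ d (ψ.toRingHom (P.coeff j) * z ^ j) =
        if j ≤ d then ψ (DirectSum.decompose 𝒜 (P.coeff j) (d - j) : S) * z ^ j else 0 := by
    intro j _
    rw [GradedRing.proj_apply]
    exact proj_mul_pow ψ hz (P.coeff j) j d
  rw [Finset.sum_congr rfl h1]
  unfold Td
  rw [Polynomial.eval₂_finsetSum]
  simp only [Polynomial.eval₂_mul, Polynomial.eval₂_C, Polynomial.eval₂_pow, Polynomial.eval₂_X]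
  rw [← Finset.sum_subset (Finset.range_subset_range.mpr (by omega : d + 1 ≤ P.natDegree + d + 2))]
  · refine Finset.sum_congr rfl fun j hj => ?_
    rw [if_pos (Nat.lt_succ_iff.mp (Finset.mem_range.mp hj))]
    rfl
  · intro j _ hj
    rw [if_neg]
    intro hle
    exact hj (Finset.mem_range.mpr (Nat.lt_succ_iff.mpr hle))

include hz in
theorem eq_zero_of_eval (hinj : Function.Injective (Polynomial.eval₂ ψ.toRingHom z))
    (P : Polynomial S) (k : ℕ) (hk : Polynomial.eval₂ ψ.toRingHom z P ∈ ℬ k)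
    (h1 : Polynomial.eval 1 P = 0) : P = 0 := by
  classical
  have hP : Td 𝒜 k P = P := by
    apply hinj
    rw [eval₂_Td ψ hz, DirectSum.decompose_of_mem_same _ hk]
  have hc : ∀ j, P.coeff j =
      if j ≤ k then (DirectSum.decompose 𝒜 (P.coeff j) (k - j) : S) else 0 := by
    intro j
    conv_lhs => rw [← hP]
    exact coeff_Td k P j
  have hmem : ∀ j, j ≤ k → P.coeff j ∈ 𝒜 (k - j) := by
    intro j hj
    rw [hc j, if_pos hj]
    exact SetLike.coe_mem _
  have hzero : ∀ j, k < j → P.coeff j = 0 := by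
    intro j hj
    rw [hc j, if_neg (by omega)]
  have hsum : ∑ j ∈ Finset.range (P.natDegree + k + 1), P.coeff j = 0 := by
    have h2 := Polynomial.eval_eq_sum_range' (show P.natDegree < P.natDegree + k + 1 by omega)
      (1 : S)
    rw [h1] at h2
    simpa using h2.symm
  ext j₀
  rw [Polynomial.coeff_zero]
  by_cases hj₀ : j₀ ≤ k
  · have h2 := congrArg (GradedRing.proj 𝒜 (k - j₀)) hsum
    rw [map_sum, map_zero, Finset.sum_eq_single j₀] at h2
    · rwa [GradedRing.proj_apply, DirectSum.decompose_of_mem_same _ (hmem j₀ hj₀)] at h2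
    · intro j _ hjj
      by_cases hjk : j ≤ k
      · rw [GradedRing.proj_apply,
          DirectSum.decompose_of_mem_ne _ (hmem j hjk) (by omega : k - j ≠ k - j₀)]
      · rw [hzero j (by omega), map_zero]
    · intro hn
      exact absurd (Finset.mem_range.mpr (by omega)) hn
  · exact hzero j₀ (by omega)

end AlgFG

section Main

variable {Y PC P : Scheme.{u}} {𝒮 𝒮h : RelProj.QCGrAlg Y}
  {ι : 𝒮.toQCAlg ⟶ 𝒮h.toQCAlg} {z : 𝒮h.presheaf.obj (op ⊤)}

theorem awayZ_injective (hz : RelCone.IsPolyOver 𝒮 𝒮h ι z) (U : Y.Opens) (hU : IsAffineOpen U) :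
    Function.Injective (hz.awayZToBase U hU) := by
  refine (injective_iff_map_eq_zero _).mpr fun q hq => ?_
  obtain ⟨k, x, hx, rfl⟩ := Away.mk_surjective (𝒮h.deg U hU) (hz.deg_z U hU) q
  have hxk : x ∈ 𝒮h.deg U hU k := by rwa [smul_eq_mul, mul_one] at hx
  obtain ⟨Q, rfl⟩ : ∃ Q, hz.polyEquiv U hU Q = x := ⟨_, RingEquiv.apply_symm_apply _ _⟩
  have hE : hz.evalOne U hU (hz.polyEquiv U hU Q) = Polynomial.eval 1 Q := by
    show Polynomial.eval 1 ((hz.polyEquiv U hU).symm (hz.polyEquiv U hU Q)) = _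
    rw [RingEquiv.symm_apply_apply]
  rw [hz.awayZToBase_of_val U hU _ _ k (Away.val_mk _ _ _ _ _), hE] at hq
  have hQ : Q = 0 :=
    eq_zero_of_eval (RelProj.gradedHomAt ι hz.graded U hU) (hz.deg_z U hU)
      (fun a b h => (hz.bij U hU).1 h) Q k hxk hq
  have h0 : hz.polyEquiv U hU Q = 0 := by rw [hQ, map_zero]
  apply HomogeneousLocalization.val_injective
  rw [Away.val_mk, HomogeneousLocalization.val_zero, h0]
  exact Localization.mk_zero _

theorem awayZ_surjective (hz : RelCone.IsPolyOver 𝒮 𝒮h ι z) (U : Y.Opens) (hU : IsAffineOpen U) :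
    Function.Surjective (hz.awayZToBase U hU) := by
  classical
  intro a
  have hsum : a = ∑ i ∈ (DirectSum.decompose (𝒮.deg U hU) a).support,
      (DirectSum.decompose (𝒮.deg U hU) a i : 𝒮.presheaf.obj (op U)) :=
    (DirectSum.sum_support_decompose (𝒮.deg U hU) a).symm
  have hmem : a ∈ (hz.awayZToBase U hU).range := by
    rw [hsum]
    refine Subring.sum_mem _ fun i _ => ?_
    have hg : (ι.hom.app (op U)).hom
        (DirectSum.decompose (𝒮.deg U hU) a i : 𝒮.presheaf.obj (op U)) ∈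
        𝒮h.deg U hU (i • 1) := by
      rw [smul_eq_mul, mul_one]
      exact hz.graded U hU i _ (SetLike.coe_mem _)
    refine RingHom.mem_range.mpr ⟨Away.mk (𝒮h.deg U hU) (hz.deg_z U hU) i _ hg, ?_⟩
    rw [hz.awayZToBase_of_val U hU _ _ i (Away.val_mk _ _ _ _ _), hz.evalOne_ι]
  exact RingHom.mem_range.mp hmem

theorem exists_preimage (hz : RelCone.IsPolyOver 𝒮 𝒮h ι z) (U : Y.Opens) (hU : IsAffineOpen U)
    (w : Spec (CommRingCat.of (Away (𝒮h.deg U hU) (RelCone.restrictTop 𝒮h z U)))) :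
    ∃ c' : Spec (𝒮.presheaf.obj (op U)),
      (Spec.map (CommRingCat.ofHom (hz.awayZToBase U hU))).base c' = w := by
  let e := RingEquiv.ofBijective (hz.awayZToBase U hU)
    ⟨awayZ_injective hz U hU, awayZ_surjective hz U hU⟩
  have he : ∀ q, e.symm (hz.awayZToBase U hU q) = q := fun q => e.symm_apply_apply q
  refine ⟨PrimeSpectrum.comap e.symm.toRingHom w, ?_⟩
  apply PrimeSpectrum.ext
  ext q
  show e.symm (hz.awayZToBase U hU q) ∈ w.asIdeal ↔ q ∈ w.asIdeal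
  rw [he q]

theorem hcomp' (hz : RelCone.IsPolyOver 𝒮 𝒮h ι z) (U : Y.Opens) (hU : IsAffineOpen U)
    (r : Γ(Y, U)) :
    hz.awayZToBase U hU (fromZeroRingHom (𝒮h.deg U hU) _ ((𝒮h.strZero U hU).hom r)) =
      (𝒮.str.app (op U)).hom r := by
  have hq : (fromZeroRingHom (𝒮h.deg U hU) (Submonoid.powers (RelCone.restrictTop 𝒮h z U))
      ((𝒮h.strZero U hU).hom r)).val =
      Localization.mk ((𝒮h.str.app (op U)).hom r)
        ⟨RelCone.restrictTop 𝒮h z U ^ 0, pow_mem (Submonoid.mem_powers _) 0⟩ :=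
    congrArg (Localization.mk _) (Subtype.ext (pow_zero _).symm)
  rw [hz.awayZToBase_of_val U hU _ _ 0 hq, S8298.str_eq ι U, hz.evalOne_ι]

theorem i_ι_pt (hz : RelCone.IsPolyOver 𝒮 𝒮h ι z) (U : Y.Opens) (hU : IsAffineOpen U)
    (pC : PC ⟶ Y)
    (chartC : ∀ (U : Y.Opens) (hU : IsAffineOpen U),
      (((pC ⁻¹ᵁ U : PC.Opens) : Scheme.{u}) ≅ Proj (𝒮h.deg U hU)))
    {i : 𝒮.toQCAlg.spec ⟶ PC} (hi : RelCone.IsConeImm 𝒮 hz pC chartC i)
    (c' : Spec (𝒮.presheaf.obj (op U))) :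
    i.base ((𝒮.toQCAlg.ι U hU).base c') =
      (RelProj.emb pC chartC U hU).base
        ((Proj.awayι (𝒮h.deg U hU) (RelCone.restrictTop 𝒮h z U) (hz.deg_z U hU) one_pos).base
          ((Spec.map (CommRingCat.ofHom (hz.awayZToBase U hU))).base c')) :=
  congrArg (fun g => g.base c') (hi U hU)

theorem pC_i (hz : RelCone.IsPolyOver 𝒮 𝒮h ι z) (pC : PC ⟶ Y)
    (chartC : ∀ (U : Y.Opens) (hU : IsAffineOpen U),
      (((pC ⁻¹ᵁ U : PC.Opens) : Scheme.{u}) ≅ Proj (𝒮h.deg U hU)))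
    (hPC : RelProj.IsRelProj 𝒮h pC chartC)
    {i : 𝒮.toQCAlg.spec ⟶ PC} (hi : RelCone.IsConeImm 𝒮 hz pC chartC i)
    (c : 𝒮.toQCAlg.spec) :
    pC.base (i.base c) = 𝒮.toQCAlg.π.base c := by
  obtain ⟨_, ⟨V, hV, rfl⟩, hsV, -⟩ := Y.isBasis_affineOpens.exists_subset_of_mem_open
    (Set.mem_univ (𝒮.toQCAlg.π.base c)) isOpen_univ
  replace hV : IsAffineOpen V := hV
  obtain ⟨c', hc'⟩ := Groth.Agent.Helper22.RelConeLoc.exists_chart 𝒮.toQCAlg c V hV hsV
  have hc'' : (𝒮.toQCAlg.ι V hV).base c' = c := hc'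
  subst hc''
  refine Eq.trans (congrArg (fun t => pC.base t) (i_ι_pt hz V hV pC chartC hi c')) ?_
  refine Eq.trans (S8298.pC_pt hz V hV pC chartC hPC _) ?_
  refine Eq.trans ?_ (congrArg (fun g => g.base c') (𝒮.toQCAlg.ι_π V hV)).symm
  refine congrArg (fun t => hV.fromSpec.base t) ?_
  apply PrimeSpectrum.ext
  ext r
  show hz.awayZToBase V hV (fromZeroRingHom (𝒮h.deg V hV) _ ((𝒮h.strZero V hV).hom r)) ∈
    c'.asIdeal ↔ (𝒮.str.app (op V)).hom r ∈ c'.asIdeal
  rw [hcomp' hz V hV r]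

theorem θ_ι (U : Y.Opens) (θ : 𝒮h.toQCAlg ⟶ 𝒮.toQCAlg) (hιθ : ι ≫ θ = 𝟙 _)
    (a : 𝒮.presheaf.obj (op U)) :
    (θ.hom.app (op U)).hom ((ι.hom.app (op U)).hom a) = a :=
  congrArg (fun t => (t.hom.app (op U)).hom a) hιθ

theorem θ_z (U : Y.Opens) (θ : 𝒮h.toQCAlg ⟶ 𝒮.toQCAlg)
    (hθz : (θ.hom.app (op ⊤)).hom z = 0) :
    (θ.hom.app (op U)).hom (RelCone.restrictTop 𝒮h z U) = 0 := by
  have h1 := congrArg (fun t => t.hom z) (θ.hom.naturality (homOfLE (le_top : U ≤ ⊤)).op)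
  have h2 : (θ.hom.app (op U)).hom ((𝒮h.presheaf.map (homOfLE (le_top : U ≤ ⊤)).op).hom z) =
      (𝒮.presheaf.map (homOfLE (le_top : U ≤ ⊤)).op).hom ((θ.hom.app (op ⊤)).hom z) := h1
  exact h2.trans (by rw [hθz, map_zero])

theorem sub_ι_θ (hz : RelCone.IsPolyOver 𝒮 𝒮h ι z) (U : Y.Opens) (hU : IsAffineOpen U)
    (θ : 𝒮h.toQCAlg ⟶ 𝒮.toQCAlg) (hιθ : ι ≫ θ = 𝟙 _)
    (hθz : (θ.hom.app (op ⊤)).hom z = 0) (x : 𝒮h.presheaf.obj (op U)) :
    ∃ x' : 𝒮h.presheaf.obj (op U),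
      x - (ι.hom.app (op U)).hom ((θ.hom.app (op U)).hom x) =
        x' * RelCone.restrictTop 𝒮h z U := by
  obtain ⟨Q, rfl⟩ : ∃ Q, hz.polyEquiv U hU Q = x := ⟨_, RingEquiv.apply_symm_apply _ _⟩
  have hQ : hz.polyEquiv U hU Q =
      hz.polyEquiv U hU Q.divX * RelCone.restrictTop 𝒮h z U +
        (ι.hom.app (op U)).hom (Q.coeff 0) := by
    have e1 : hz.polyEquiv U hU Polynomial.X = RelCone.restrictTop 𝒮h z U := by
      rw [RelCone.IsPolyOver.polyEquiv_apply, Polynomial.eval₂_X]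
    have e2 : hz.polyEquiv U hU (Polynomial.C (Q.coeff 0)) =
        (ι.hom.app (op U)).hom (Q.coeff 0) := by
      rw [RelCone.IsPolyOver.polyEquiv_apply, Polynomial.eval₂_C]
    rw [← e1, ← e2, ← map_mul, ← map_add, Polynomial.divX_mul_X_add]
  refine ⟨hz.polyEquiv U hU Q.divX, ?_⟩
  have hθx : (θ.hom.app (op U)).hom (hz.polyEquiv U hU Q) = Q.coeff 0 := by
    rw [hQ, map_add, map_mul, θ_z U θ hθz, mul_zero, zero_add, θ_ι U θ hιθ]
  rw [hθx, hQ]
  exact add_sub_cancel_right _ _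

theorem irr_le (hz : RelCone.IsPolyOver 𝒮 𝒮h ι z) (U : Y.Opens) (hU : IsAffineOpen U)
    (θ : 𝒮h.toQCAlg ⟶ 𝒮.toQCAlg) (hθ : RelProj.IsGradedHom θ) (hιθ : ι ≫ θ = 𝟙 _)
    (hθz : (θ.hom.app (op ⊤)).hom z = 0) (y : Proj (𝒮h.deg U hU))
    (hzy : RelCone.restrictTop 𝒮h z U ∈ y.asHomogeneousIdeal.toIdeal)
    (hI : ∀ f ∈ ((𝒮.deg U hU)₊).toIdeal,
      (ι.hom.app (op U)).hom f ∈ y.asHomogeneousIdeal.toIdeal) : False := by
  refine ProjectiveSpectrum.not_irrelevant_le y ?_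
  rw [HomogeneousIdeal.irrelevant_le]
  intro d hd b hb
  obtain ⟨x', hx'⟩ := sub_ι_θ hz U hU θ hιθ hθz b
  have h1 : (θ.hom.app (op U)).hom b ∈ ((𝒮.deg U hU)₊).toIdeal := by
    show _ ∈ HomogeneousIdeal.irrelevant (𝒮.deg U hU)
    rw [HomogeneousIdeal.mem_irrelevant_iff, GradedRing.proj_apply,
      DirectSum.decompose_of_mem_ne _ (hθ U hU d b hb) hd.ne']
  have h2 := hI _ h1
  have h3 : b - (ι.hom.app (op U)).hom ((θ.hom.app (op U)).hom b) ∈
      y.asHomogeneousIdeal.toIdeal := by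
    rw [hx']
    exact Ideal.mul_mem_left _ _ hzy
  have h4 := add_mem h3 h2
  rw [sub_add_cancel] at h4
  exact h4

theorem exists_map_eq (hz : RelCone.IsPolyOver 𝒮 𝒮h ι z) (U : Y.Opens) (hU : IsAffineOpen U)
    (θ : 𝒮h.toQCAlg ⟶ 𝒮.toQCAlg) (hθ : RelProj.IsGradedHom θ) (hιθ : ι ≫ θ = 𝟙 _)
    (hθz : (θ.hom.app (op ⊤)).hom z = 0)
    (hirrU : (𝒮.deg U hU)₊ ≤ ((𝒮h.deg U hU)₊).map (RelProj.gradedHomAt θ hθ U hU))
    (y : Proj (𝒮h.deg U hU))
    (hzy : RelCone.restrictTop 𝒮h z U ∈ y.asHomogeneousIdeal.toIdeal) :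
    ∃ y' : Proj (𝒮.deg U hU),
      (Proj.map (RelProj.gradedHomAt θ hθ U hU) hirrU).base y' = y := by
  let y' : ProjectiveSpectrum (𝒮.deg U hU) :=
    { asHomogeneousIdeal :=
        y.asHomogeneousIdeal.comap (RelProj.gradedHomAt ι hz.graded U hU)
      isPrime := y.isPrime.comap (RelProj.gradedHomAt ι hz.graded U hU)
      not_irrelevant_le := fun le =>
        irr_le hz U hU θ hθ hιθ hθz y hzy (fun f hf => le hf) }
  have key : ∀ s, (ι.hom.app (op U)).hom ((θ.hom.app (op U)).hom s) ∈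
      y.asHomogeneousIdeal.toIdeal ↔ s ∈ y.asHomogeneousIdeal.toIdeal := by
    intro s
    obtain ⟨x', hx'⟩ := sub_ι_θ hz U hU θ hιθ hθz s
    have h3 : s - (ι.hom.app (op U)).hom ((θ.hom.app (op U)).hom s) ∈
        y.asHomogeneousIdeal.toIdeal := by
      rw [hx']
      exact Ideal.mul_mem_left _ _ hzy
    constructor
    · intro h
      have h4 := add_mem h3 h
      rwa [sub_add_cancel] at h4
    · intro h
      have h4 := sub_mem h h3
      rwa [sub_sub_cancel] at h4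
  refine ⟨y', ?_⟩
  apply ProjectiveSpectrum.ext
  apply HomogeneousIdeal.toIdeal_injective
  ext s
  exact key s

theorem emb_j (U : Y.Opens) (hU : IsAffineOpen U) (pC : PC ⟶ Y)
    (chartC : ∀ (U : Y.Opens) (hU : IsAffineOpen U),
      (((pC ⁻¹ᵁ U : PC.Opens) : Scheme.{u}) ≅ Proj (𝒮h.deg U hU)))
    (θ : 𝒮h.toQCAlg ⟶ 𝒮.toQCAlg) (hθ : RelProj.IsGradedHom θ)
    (hirr : ∀ (U : Y.Opens) (hU : IsAffineOpen U),
      (𝒮.deg U hU)₊ ≤ ((𝒮h.deg U hU)₊).map (RelProj.gradedHomAt θ hθ U hU))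
    (p : P ⟶ Y)
    (chart : ∀ (U : Y.Opens) (hU : IsAffineOpen U),
      (((p ⁻¹ᵁ U : P.Opens) : Scheme.{u}) ≅ Proj (𝒮.deg U hU)))
    (j : P ⟶ PC) (hj : RelProj.IsRelProjMap θ hθ hirr chartC chart j) :
    RelProj.emb p chart U hU ≫ j =
      Proj.map (RelProj.gradedHomAt θ hθ U hU) (hirr U hU) ≫ RelProj.emb pC chartC U hU := by
  unfold RelProj.emb
  rw [Category.assoc, hj U hU, Iso.inv_hom_id_assoc]

end Main


/-- The relation i(C) = Ĉ − j(X): let 𝒮 be a quasi-coherent positively graded O_Y-algebra with 𝒮_0 =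
O_Y, Ŝ = 𝒮[z] (given through a graded homomorphism ι : 𝒮 → Ŝ and a global section z of degree one,
the map 𝒮(U)[X] → Ŝ(U), X ↦ z, being bijective over every affine open U), C = Spec(𝒮) the affine
cone, Ĉ = Proj(Ŝ) the projective cone and X = Proj(𝒮), each relative homogeneous spectrum given with
its charts; let i : C → Ĉ be the canonical open immersion (chartwise Spec of Ŝ(U)_(z) → 𝒮(U), z ↦ 1,
followed by the inclusion of D_+(z)), θ : Ŝ → 𝒮 the graded retraction of ι sending z to 0, and j : X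
→ Ĉ the morphism chartwise induced by θ (the immersion of the locus at infinity). Then the
underlying set of the image of i is the complement of the image of j. -/
theorem result {Y PC P : Scheme.{u}} (𝒮 𝒮h : RelProj.QCGrAlg Y) (h0 : RelCone.StrZeroBij 𝒮)
    (ι : 𝒮.toQCAlg ⟶ 𝒮h.toQCAlg) (z : 𝒮h.presheaf.obj (op ⊤)) (hz : RelCone.IsPolyOver 𝒮 𝒮h ι z)
    (pC : PC ⟶ Y)
    (chartC : ∀ (U : Y.Opens) (hU : IsAffineOpen U), (((pC ⁻¹ᵁ U : PC.Opens) : Scheme.{u}) ≅ Proj (𝒮h.deg U hU)))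
    (hPC : RelProj.IsRelProj 𝒮h pC chartC)
    (i : 𝒮.toQCAlg.spec ⟶ PC) (hi : RelCone.IsConeImm 𝒮 hz pC chartC i)
    (θ : 𝒮h.toQCAlg ⟶ 𝒮.toQCAlg) (hθ : RelProj.IsGradedHom θ) (hιθ : ι ≫ θ = 𝟙 _)
    (hθz : (θ.hom.app (op ⊤)).hom z = 0)
    (hirr : ∀ (U : Y.Opens) (hU : IsAffineOpen U),
      (𝒮.deg U hU)₊ ≤ ((𝒮h.deg U hU)₊).map (RelProj.gradedHomAt θ hθ U hU))
    (p : P ⟶ Y)
    (chart : ∀ (U : Y.Opens) (hU : IsAffineOpen U), (((p ⁻¹ᵁ U : P.Opens) : Scheme.{u}) ≅ Proj (𝒮.deg U hU)))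
    (hP : RelProj.IsRelProj 𝒮 p chart) (j : P ⟶ PC) (hj : RelProj.IsRelProjMap θ hθ hirr chartC chart j) :
    Set.range i.base = (Set.range j.base)ᶜ := by
  classical
  ext x
  rw [Set.mem_compl_iff]
  constructor
  · rintro ⟨c, hc⟩ ⟨p', hp'⟩
    obtain ⟨_, ⟨V, hV, rfl⟩, hpV, -⟩ := Y.isBasis_affineOpens.exists_subset_of_mem_open
      (Set.mem_univ (p.base p')) isOpen_univ
    replace hV : IsAffineOpen V := hV
    obtain ⟨y', hy'⟩ : ∃ y', (RelProj.emb p chart V hV).base y' = p' :=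
      ⟨_, Groth.Agent.Helper22.RelProjTN.emb_chart_hom p chart V hV p' hpV⟩
    have h1 : j.base ((RelProj.emb p chart V hV).base y') =
        (RelProj.emb pC chartC V hV).base
          ((Proj.map (RelProj.gradedHomAt θ hθ V hV) (hirr V hV)).base y') :=
      congrArg (fun g => g.base y') (emb_j V hV pC chartC θ hθ hirr p chart j hj)
    have h1' : x = (RelProj.emb pC chartC V hV).base
          ((Proj.map (RelProj.gradedHomAt θ hθ V hV) (hirr V hV)).base y') := by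
      rw [← h1, hy']
      exact hp'.symm
    have h2 : 𝒮.toQCAlg.π.base c ∈ V := by
      have e : 𝒮.toQCAlg.π.base c = pC.base ((RelProj.emb pC chartC V hV).base
          ((Proj.map (RelProj.gradedHomAt θ hθ V hV) (hirr V hV)).base y')) :=
        (pC_i hz pC chartC hPC hi c).symm.trans
          (congrArg (fun t => pC.base t) (hc.trans h1'))
      rw [e]
      exact Groth.Agent.Helper22.RelProjTN.emb_mem pC chartC V hV _
    obtain ⟨c', hc'⟩ := Groth.Agent.Helper22.RelConeLoc.exists_chart 𝒮.toQCAlg c V hV h2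
    have hc'' : (𝒮.toQCAlg.ι V hV).base c' = c := hc'
    subst hc''
    have h3 := i_ι_pt hz V hV pC chartC hi c'
    have h4 : (RelProj.emb pC chartC V hV).base
        ((Proj.map (RelProj.gradedHomAt θ hθ V hV) (hirr V hV)).base y') =
        (RelProj.emb pC chartC V hV).base
          ((Proj.awayι (𝒮h.deg V hV) (RelCone.restrictTop 𝒮h z V) (hz.deg_z V hV) one_pos).base
            ((Spec.map (CommRingCat.ofHom (hz.awayZToBase V hV))).base c')) :=
      h1'.symm.trans (hc.symm.trans h3)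
    have h5 := (RelProj.emb pC chartC V hV).isOpenEmbedding.injective h4
    have h6 : RelCone.restrictTop 𝒮h z V ∉
        ((Proj.awayι (𝒮h.deg V hV) (RelCone.restrictTop 𝒮h z V) (hz.deg_z V hV) one_pos).base
          ((Spec.map (CommRingCat.ofHom (hz.awayZToBase V hV))).base
            c')).asHomogeneousIdeal.toIdeal := by
      have h : (Proj.awayι (𝒮h.deg V hV) (RelCone.restrictTop 𝒮h z V) (hz.deg_z V hV)
          one_pos).base ((Spec.map (CommRingCat.ofHom (hz.awayZToBase V hV))).base c') ∈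
          (Proj.awayι (𝒮h.deg V hV) (RelCone.restrictTop 𝒮h z V) (hz.deg_z V hV)
            one_pos).opensRange := ⟨_, rfl⟩
      rw [Proj.opensRange_awayι] at h
      exact h
    have h7 : RelCone.restrictTop 𝒮h z V ∈
        ((Proj.map (RelProj.gradedHomAt θ hθ V hV) (hirr V hV)).base
          y').asHomogeneousIdeal.toIdeal := by
      show (θ.hom.app (op V)).hom (RelCone.restrictTop 𝒮h z V) ∈
        y'.asHomogeneousIdeal.toIdeal
      rw [θ_z V θ hθz]
      exact zero_mem _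
    rw [h5] at h7
    exact h6 h7
  · intro hx
    obtain ⟨_, ⟨V, hV, rfl⟩, hxV, -⟩ := Y.isBasis_affineOpens.exists_subset_of_mem_open
      (Set.mem_univ (pC.base x)) isOpen_univ
    replace hV : IsAffineOpen V := hV
    obtain ⟨y, hy⟩ : ∃ y, (RelProj.emb pC chartC V hV).base y = x :=
      ⟨_, Groth.Agent.Helper22.RelProjTN.emb_chart_hom pC chartC V hV x hxV⟩
    by_cases hzy : RelCone.restrictTop 𝒮h z V ∈ y.asHomogeneousIdeal.toIdeal
    · exfalso
      apply hx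
      obtain ⟨y', hy'⟩ := exists_map_eq hz V hV θ hθ hιθ hθz (hirr V hV) y hzy
      have h1 : j.base ((RelProj.emb p chart V hV).base y') =
          (RelProj.emb pC chartC V hV).base
            ((Proj.map (RelProj.gradedHomAt θ hθ V hV) (hirr V hV)).base y') :=
        congrArg (fun g => g.base y') (emb_j V hV pC chartC θ hθ hirr p chart j hj)
      exact ⟨(RelProj.emb p chart V hV).base y', h1.trans (by rw [hy', hy])⟩
    · obtain ⟨w, hw⟩ : ∃ w, (Proj.awayι (𝒮h.deg V hV) (RelCone.restrictTop 𝒮h z V)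
          (hz.deg_z V hV) one_pos).base w = y := by
        have h : y ∈ (Proj.awayι (𝒮h.deg V hV) (RelCone.restrictTop 𝒮h z V)
            (hz.deg_z V hV) one_pos).opensRange := by
          rw [Proj.opensRange_awayι]
          exact hzy
        exact h
      obtain ⟨c', hc'⟩ := exists_preimage hz V hV w
      exact ⟨(𝒮.toQCAlg.ι V hV).base c',
        (i_ι_pt hz V hV pC chartC hi c').trans (by rw [hc', hw, hy])⟩

end Groth.Agent.S8297
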