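import Groth.Statements.S8309
import Groth.Agent.Lib.Helper22.RelConeVertex
import Groth.Agent.Lib.Helper22.RelProjTN
import Groth.Agent.Lib.Helper22.RelProjLoc
import Groth.Agent.S8298
import Groth.Agent.S8297

set_option autoImplicit false
universe u
open CategoryTheory CategoryTheory.Limits AlgebraicGeometry Opposite TopologicalSpace
open scoped HomogeneousIdeal
noncomputable section
open EGA2

namespace Groth.Agent.S8309

open Groth.Agent.Helper22.RelConeVertex Groth.Agent.Helper22.RelProjTN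
  Groth.Agent.Helper22.RelConeLoc HomogeneousLocalization

section Gen

theorem ι_mem_opens {X : Scheme.{u}} (W : X.Opens) (e : W.toScheme) : W.ι.base e ∈ W := by
  have h : W.ι.base e ∈ Set.range W.ι := ⟨e, rfl⟩
  rw [Scheme.Opens.range_ι] at h
  exact h

theorem exists_of_mem_opens {X : Scheme.{u}} (W : X.Opens) (x : X) (hx : x ∈ W) :
    ∃ e : W.toScheme, W.ι.base e = x := by
  have h : x ∈ Set.range W.ι := by
    rw [Scheme.Opens.range_ι]
    exact hx
  exact h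

end Gen

section Main

variable {Y PC P : Scheme.{u}} {𝒮 𝒮h : RelProj.QCGrAlg Y}
  {ι : 𝒮.toQCAlg ⟶ 𝒮h.toQCAlg} {z : 𝒮h.presheaf.obj (op ⊤)}

theorem irrelevant_of_pos (𝒮 : RelProj.QCGrAlg Y) (U : Y.Opens) (hU : IsAffineOpen U) {d : ℕ}
    (hd : 0 < d) {g : 𝒮.presheaf.obj (op U)} (hg : g ∈ 𝒮.deg U hU d) :
    g ∈ ((𝒮.deg U hU)₊).toIdeal := by
  show g ∈ HomogeneousIdeal.irrelevant (𝒮.deg U hU)
  rw [HomogeneousIdeal.mem_irrelevant_iff, GradedRing.proj_apply,
    DirectSum.decompose_of_mem_ne _ hg hd.ne']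

theorem exists_hom_not_mem (𝒮 : RelProj.QCGrAlg Y) (U : Y.Opens) (hU : IsAffineOpen U)
    (c' : Spec (𝒮.presheaf.obj (op U))) (hc : c' ∈ RelCone.vertexCompl (𝒮.deg U hU)) :
    ∃ (d : ℕ) (g : 𝒮.presheaf.obj (op U)), 0 < d ∧ g ∈ 𝒮.deg U hU d ∧ g ∉ c'.asIdeal := by
  classical
  obtain ⟨f, hf, hfy⟩ := (mem_vertexCompl (𝒮.deg U hU) c').mp hc
  by_contra hcon
  apply hfy
  have hf' : f ∈ HomogeneousIdeal.irrelevant (𝒮.deg U hU) := hf
  rw [HomogeneousIdeal.mem_irrelevant_iff, GradedRing.proj_apply] at hf'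
  have hsum : f = ∑ i ∈ (DirectSum.decompose (𝒮.deg U hU) f).support,
      (DirectSum.decompose (𝒮.deg U hU) f i : 𝒮.presheaf.obj (op U)) :=
    (DirectSum.sum_support_decompose (𝒮.deg U hU) f).symm
  rw [hsum]
  refine Ideal.sum_mem _ fun i _ => ?_
  rcases Nat.eq_zero_or_pos i with hi | hi
  · subst hi
    rw [hf']
    exact zero_mem _
  · by_contra h
    exact hcon ⟨i, _, hi, SetLike.coe_mem _, h⟩

theorem mem_iff_z (hz : RelCone.IsPolyOver 𝒮 𝒮h ι z) (U : Y.Opens) (hU : IsAffineOpen U)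
    (c' : Spec (𝒮.presheaf.obj (op U))) (n : ℕ) (s : 𝒮.presheaf.obj (op U))
    (hs : s ∈ 𝒮.deg U hU n) :
    (ι.hom.app (op U)).hom s ∈
      ((Proj.awayι (𝒮h.deg U hU) (RelCone.restrictTop 𝒮h z U) (hz.deg_z U hU) one_pos).base
        ((Spec.map (CommRingCat.ofHom (hz.awayZToBase U hU))).base
          c')).asHomogeneousIdeal.toIdeal ↔ s ∈ c'.asIdeal := by
  have hs' : (ι.hom.app (op U)).hom s ∈ 𝒮h.deg U hU (n • 1) := by
    rw [smul_eq_mul, mul_one]
    exact hz.graded U hU n _ hs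
  refine (S8298.mk_mem_iff' (𝒮h.deg U hU) (hz.deg_z U hU) hs' _).symm.trans ?_
  show hz.awayZToBase U hU (Away.mk (𝒮h.deg U hU) (hz.deg_z U hU) n _ hs') ∈ c'.asIdeal ↔
    s ∈ c'.asIdeal
  rw [hz.awayZToBase_of_val U hU _ _ n (Away.val_mk _ _ _ _ _), hz.evalOne_ι]

theorem part1 (hz : RelCone.IsPolyOver 𝒮 𝒮h ι z) (pC : PC ⟶ Y)
    (chartC : ∀ (U : Y.Opens) (hU : IsAffineOpen U),
      (((pC ⁻¹ᵁ U : PC.Opens) : Scheme.{u}) ≅ Proj (𝒮h.deg U hU)))
    {i : 𝒮.toQCAlg.spec ⟶ PC} (hi : RelCone.IsConeImm 𝒮 hz pC chartC i) :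
    (RelCone.pointedCone 𝒮 : 𝒮.toQCAlg.spec.Opens) ≤
      i ⁻¹ᵁ (RelCone.pointedProjCone 𝒮 hz pC chartC) := by
  intro c hc
  obtain ⟨V, hV⟩ := Opens.mem_iSup.mp hc
  obtain ⟨c', hc', rfl⟩ := hV
  obtain ⟨d, g, hd, hg, hgc⟩ := exists_hom_not_mem 𝒮 V.1 V.2 c' hc'
  show i.base ((𝒮.toQCAlg.ι V.1 V.2).base c') ∈ RelCone.pointedProjCone 𝒮 hz pC chartC
  rw [S8297.i_ι_pt hz V.1 V.2 pC chartC hi c']
  refine Opens.mem_iSup.mpr ⟨V, _, ?_, rfl⟩
  refine (RelCone.mem_domOpen _ _).mpr ⟨g, irrelevant_of_pos 𝒮 V.1 V.2 hd hg, ?_⟩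
  intro h
  exact hgc ((mem_iff_z hz V.1 V.2 c' d g hg).mp h)

theorem exists_gm (hz : RelCone.IsPolyOver 𝒮 𝒮h ι z) (pC : PC ⟶ Y)
    (chartC : ∀ (U : Y.Opens) (hU : IsAffineOpen U),
      (((pC ⁻¹ᵁ U : PC.Opens) : Scheme.{u}) ≅ Proj (𝒮h.deg U hU)))
    (U : Y.Opens) (hU : IsAffineOpen U) (d : ℕ) (hd : 0 < d) (g : 𝒮.presheaf.obj (op U))
    (hg : g ∈ 𝒮.deg U hU d) :
    ∃ gm : Spec (CommRingCat.of (HomogeneousLocalization.Away (𝒮h.deg U hU)
        ((RelProj.gradedHomAt ι hz.graded U hU) g))) ⟶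
          ((RelCone.pointedProjCone 𝒮 hz pC chartC : PC.Opens) : Scheme.{u}),
      gm ≫ (RelCone.pointedProjCone 𝒮 hz pC chartC).ι =
        Proj.awayι (𝒮h.deg U hU) ((RelProj.gradedHomAt ι hz.graded U hU) g)
          ((RelProj.gradedHomAt ι hz.graded U hU).2 hg) hd ≫ RelProj.emb pC chartC U hU := by
  have hrange : Set.range (Proj.awayι (𝒮h.deg U hU) ((RelProj.gradedHomAt ι hz.graded U hU) g)
      ((RelProj.gradedHomAt ι hz.graded U hU).2 hg) hd ≫ RelProj.emb pC chartC U hU) ⊆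
      Set.range (RelCone.pointedProjCone 𝒮 hz pC chartC).ι := by
    rintro _ ⟨w'', rfl⟩
    rw [Scheme.Opens.range_ι]
    show (RelProj.emb pC chartC U hU).base
      ((Proj.awayι (𝒮h.deg U hU) ((RelProj.gradedHomAt ι hz.graded U hU) g)
        ((RelProj.gradedHomAt ι hz.graded U hU).2 hg) hd).base w'') ∈
      RelCone.pointedProjCone 𝒮 hz pC chartC
    refine Opens.mem_iSup.mpr ⟨⟨U, hU⟩, _, ?_, rfl⟩
    refine (RelCone.mem_domOpen _ _).mpr ⟨g, irrelevant_of_pos 𝒮 U hU hd hg, ?_⟩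
    have h : (Proj.awayι (𝒮h.deg U hU) ((RelProj.gradedHomAt ι hz.graded U hU) g)
        ((RelProj.gradedHomAt ι hz.graded U hU).2 hg) hd).base w'' ∈
        (Proj.awayι (𝒮h.deg U hU) ((RelProj.gradedHomAt ι hz.graded U hU) g)
          ((RelProj.gradedHomAt ι hz.graded U hU).2 hg) hd).opensRange := ⟨w'', rfl⟩
    rw [Proj.opensRange_awayι] at h
    exact h
  exact ⟨IsOpenImmersion.lift _ _ hrange, IsOpenImmersion.lift_fac _ _ hrange⟩

theorem key (hz : RelCone.IsPolyOver 𝒮 𝒮h ι z) (pC : PC ⟶ Y)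
    (chartC : ∀ (U : Y.Opens) (hU : IsAffineOpen U),
      (((pC ⁻¹ᵁ U : PC.Opens) : Scheme.{u}) ≅ Proj (𝒮h.deg U hU)))
    (hPC : RelProj.IsRelProj 𝒮h pC chartC) (p : P ⟶ Y)
    (chart : ∀ (U : Y.Opens) (hU : IsAffineOpen U),
      (((p ⁻¹ᵁ U : P.Opens) : Scheme.{u}) ≅ Proj (𝒮.deg U hU)))
    (hP : RelProj.IsRelProj 𝒮 p chart)
    (i : 𝒮.toQCAlg.spec ⟶ PC) (hi : RelCone.IsConeImm 𝒮 hz pC chartC i)
    (r : ((RelCone.pointedProjCone 𝒮 hz pC chartC : PC.Opens) : Scheme.{u}) ⟶ P)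
    (i' : ((RelCone.pointedCone 𝒮 : 𝒮.toQCAlg.spec.Opens) : Scheme.{u}) ⟶
      ((RelCone.pointedProjCone 𝒮 hz pC chartC : PC.Opens) : Scheme.{u}))
    (hi' : i' ≫ (RelCone.pointedProjCone 𝒮 hz pC chartC).ι = (RelCone.pointedCone 𝒮).ι ≫ i)
    (U : Y.Opens) (hU : IsAffineOpen U) (d : ℕ) (hd : 0 < d) (g : 𝒮.presheaf.obj (op U))
    (hg : g ∈ 𝒮.deg U hU d)
    (gm : Spec (CommRingCat.of (HomogeneousLocalization.Away (𝒮h.deg U hU)
        ((RelProj.gradedHomAt ι hz.graded U hU) g))) ⟶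
          ((RelCone.pointedProjCone 𝒮 hz pC chartC : PC.Opens) : Scheme.{u}))
    (hgm : gm ≫ (RelCone.pointedProjCone 𝒮 hz pC chartC).ι =
        Proj.awayι (𝒮h.deg U hU) ((RelProj.gradedHomAt ι hz.graded U hU) g)
          ((RelProj.gradedHomAt ι hz.graded U hU).2 hg) hd ≫ RelProj.emb pC chartC U hU)
    (hgr : gm ≫ r =
        Spec.map (CommRingCat.ofHom (HomogeneousLocalization.Away.map
          (RelProj.gradedHomAt ι hz.graded U hU) g)) ≫
          Proj.awayι (𝒮.deg U hU) g hg hd ≫ RelProj.emb p chart U hU)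
    (c' : Spec (𝒮.presheaf.obj (op U))) (hgc : g ∉ c'.asIdeal)
    (e : (RelCone.pointedCone 𝒮 : 𝒮.toQCAlg.spec.Opens).toScheme)
    (he : (RelCone.pointedCone 𝒮).ι.base e = (𝒮.toQCAlg.ι U hU).base c') :
    ∃ y : Proj (𝒮.deg U hU), (i' ≫ r).base e = (RelProj.emb p chart U hU).base y ∧
      (∀ (n : ℕ) (s : 𝒮.presheaf.obj (op U)), s ∈ 𝒮.deg U hU n →
        (s ∈ y.asHomogeneousIdeal.toIdeal ↔ s ∈ c'.asIdeal)) ∧
      p.base ((i' ≫ r).base e) = 𝒮.toQCAlg.π.base ((𝒮.toQCAlg.ι U hU).base c') := by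
  classical
  have hψg : (RelProj.gradedHomAt ι hz.graded U hU) g ∈ 𝒮h.deg U hU d :=
    (RelProj.gradedHomAt ι hz.graded U hU).2 hg
  obtain ⟨w, hw⟩ : ∃ w, (Spec.map (CommRingCat.ofHom (hz.awayZToBase U hU))).base c' = w :=
    ⟨_, rfl⟩
  obtain ⟨q, hq⟩ : ∃ q, (Proj.awayι (𝒮h.deg U hU) (RelCone.restrictTop 𝒮h z U)
      (hz.deg_z U hU) one_pos).base w = q := ⟨_, rfl⟩
  have h_i : i.base ((𝒮.toQCAlg.ι U hU).base c') = (RelProj.emb pC chartC U hU).base q := by
    rw [← hq, ← hw]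
    exact S8297.i_ι_pt hz U hU pC chartC hi c'
  have hB : ∀ (n : ℕ) (s : 𝒮.presheaf.obj (op U)), s ∈ 𝒮.deg U hU n →
      ((ι.hom.app (op U)).hom s ∈ q.asHomogeneousIdeal.toIdeal ↔ s ∈ c'.asIdeal) := by
    intro n s hs
    rw [← hq, ← hw]
    exact mem_iff_z hz U hU c' n s hs
  have hqg : q ∈ (Proj.awayι (𝒮h.deg U hU) ((RelProj.gradedHomAt ι hz.graded U hU) g)
      hψg hd).opensRange := by
    rw [Proj.opensRange_awayι]
    show (ι.hom.app (op U)).hom g ∉ q.asHomogeneousIdeal.toIdeal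
    intro h
    exact hgc ((hB d g hg).mp h)
  obtain ⟨w', hw'⟩ := hqg
  have h1a : (RelCone.pointedProjCone 𝒮 hz pC chartC).ι.base (i'.base e) =
      (RelProj.emb pC chartC U hU).base q := by
    have h := congrArg (fun t => t.base e) hi'
    refine Eq.trans h ?_
    show i.base ((RelCone.pointedCone 𝒮).ι.base e) = _
    rw [he]
    exact h_i
  have h1b : (RelCone.pointedProjCone 𝒮 hz pC chartC).ι.base (gm.base w') =
      (RelProj.emb pC chartC U hU).base q := by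
    have h := congrArg (fun t => t.base w') hgm
    refine Eq.trans h ?_
    rw [← hw']
    rfl
  have h2 : i'.base e = gm.base w' :=
    (RelCone.pointedProjCone 𝒮 hz pC chartC).ι.isOpenEmbedding.injective (h1a.trans h1b.symm)
  obtain ⟨y, hy⟩ : ∃ y, (Proj.awayι (𝒮.deg U hU) g hg hd).base
      ((Spec.map (CommRingCat.ofHom (HomogeneousLocalization.Away.map
        (RelProj.gradedHomAt ι hz.graded U hU) g))).base w') = y := ⟨_, rfl⟩
  have h3 : (i' ≫ r).base e = (RelProj.emb p chart U hU).base y := by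
    rw [← hy]
    have h := congrArg (fun t => t.base w') hgr
    show r.base (i'.base e) = _
    rw [h2]
    exact h
  have hpos : ∀ (n : ℕ) (s : 𝒮.presheaf.obj (op U)), 0 < n → s ∈ 𝒮.deg U hU n →
      (s ∈ y.asHomogeneousIdeal.toIdeal ↔ s ∈ c'.asIdeal) := by
    intro n s hn hs
    have h4 := awayι_map_mem_basicOpen_iff (RelProj.gradedHomAt ι hz.graded U hU) hd hn hg hs w'
    have h5 : s ∉ y.asHomogeneousIdeal.toIdeal ↔
        (ι.hom.app (op U)).hom s ∉ q.asHomogeneousIdeal.toIdeal := by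
      rw [← hy, ← hw']
      exact h4
    exact (not_iff_not.mp h5).trans (hB n s hs)
  have hgy : g ∉ y.asHomogeneousIdeal.toIdeal := fun h => hgc ((hpos d g hd hg).mp h)
  refine ⟨y, h3, ?_, ?_⟩
  · intro n s hs
    have hsg : s * g ∈ 𝒮.deg U hU (n + d) := SetLike.mul_mem_graded hs hg
    have h6 := hpos (n + d) (s * g) (by omega) hsg
    constructor
    · intro h
      have h7 := h6.mp (Ideal.mul_mem_right _ _ h)
      rcases c'.isPrime.mem_or_mem h7 with h8 | h8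
      · exact h8
      · exact absurd h8 hgc
    · intro h
      have h7 := h6.mpr (Ideal.mul_mem_right _ _ h)
      rcases (ProjectiveSpectrum.isPrime y).mem_or_mem h7 with h8 | h8
      · exact h8
      · exact absurd h8 hgy
  · have e1 := congrArg (fun t => t.base ((Spec.map (CommRingCat.ofHom
        (HomogeneousLocalization.Away.map (RelProj.gradedHomAt ι hz.graded U hU) g))).base w'))
      (awayι_emb_over hP U hU hd g hg)
    have e2 := congrArg (fun t => t.base w')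
      (awayι_emb_over hPC U hU hd ((RelProj.gradedHomAt ι hz.graded U hU) g) hψg)
    have e3 : pC.base ((RelProj.emb pC chartC U hU).base q) =
        𝒮.toQCAlg.π.base ((𝒮.toQCAlg.ι U hU).base c') := by
      rw [← h_i]
      exact S8297.pC_i hz pC chartC hPC hi _
    have e4 : (Spec.map (𝒮.strZero U hU)).base
        ((Spec.map (CommRingCat.ofHom (fromZeroRingHom (𝒮.deg U hU) _))).base
          ((Spec.map (CommRingCat.ofHom (HomogeneousLocalization.Away.map
            (RelProj.gradedHomAt ι hz.graded U hU) g))).base w')) =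
        (Spec.map (𝒮h.strZero U hU)).base
          ((Spec.map (CommRingCat.ofHom (fromZeroRingHom (𝒮h.deg U hU) _))).base w') := by
      apply PrimeSpectrum.ext
      ext r₀
      show HomogeneousLocalization.Away.map (RelProj.gradedHomAt ι hz.graded U hU) g
          (fromZeroRingHom (𝒮.deg U hU) _ ((𝒮.strZero U hU).hom r₀)) ∈ w'.asIdeal ↔
        fromZeroRingHom (𝒮h.deg U hU) _ ((𝒮h.strZero U hU).hom r₀) ∈ w'.asIdeal
      rw [away_map_fromZero (RelProj.gradedHomAt ι hz.graded U hU) g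
        ((𝒮.strZero U hU).hom r₀) ((𝒮h.strZero U hU).hom r₀) (S8298.str_eq ι U r₀).symm]
    refine Eq.trans (congrArg (fun t => p.base t) h3) ?_
    rw [← hy]
    refine Eq.trans e1 ?_
    refine Eq.trans ?_ e3
    refine Eq.trans ?_ (congrArg (fun t => pC.base ((RelProj.emb pC chartC U hU).base t)) hw')
    refine Eq.trans ?_ e2.symm
    exact congrArg (fun t => hU.fromSpec.base t) e4

end Main


/-- The canonical retraction of the pointed affine cone: let 𝒮 be a quasi-coherent positively graded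
O_Y-algebra with 𝒮_0 = O_Y, Ŝ = 𝒮[z] (graded homomorphism ι : 𝒮 → Ŝ and a degree-one global section
z, polynomial over affine opens), C = Spec(𝒮), X = Proj(𝒮) and Ĉ = Proj(Ŝ) with their charts, E ⊆ C
and Ê ⊆ Ĉ the pointed cones, i : C → Ĉ the canonical open immersion and p : Ê → X the canonical
retraction (the morphism which on each affine piece Spec Ŝ(U)_(ι f), f ∈ 𝒮(U) homogeneous of
positive degree, is Spec of 𝒮(U)_(f) → Ŝ(U)_(ι f) followed by the chart of X). Then the image of E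
under i lies in Ê, and for the induced morphism i' : E → Ê the composite π = i' ≫ p : E → X is
affine and surjective. -/
theorem result {Y PC P : Scheme.{u}} (𝒮 𝒮h : RelProj.QCGrAlg Y) (h0 : RelCone.StrZeroBij 𝒮)
    (ι : 𝒮.toQCAlg ⟶ 𝒮h.toQCAlg) (z : 𝒮h.presheaf.obj (op ⊤)) (hz : RelCone.IsPolyOver 𝒮 𝒮h ι z)
    (pC : PC ⟶ Y)
    (chartC : ∀ (U : Y.Opens) (hU : IsAffineOpen U), (((pC ⁻¹ᵁ U : PC.Opens) : Scheme.{u}) ≅ Proj (𝒮h.deg U hU)))
    (hPC : RelProj.IsRelProj 𝒮h pC chartC)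
    (p : P ⟶ Y)
    (chart : ∀ (U : Y.Opens) (hU : IsAffineOpen U), (((p ⁻¹ᵁ U : P.Opens) : Scheme.{u}) ≅ Proj (𝒮.deg U hU)))
    (hP : RelProj.IsRelProj 𝒮 p chart)
    (i : 𝒮.toQCAlg.spec ⟶ PC) (hi : RelCone.IsConeImm 𝒮 hz pC chartC i)
    (r : ((RelCone.pointedProjCone 𝒮 hz pC chartC : PC.Opens) : Scheme.{u}) ⟶ P)
    (hr : (∀ (U : Y.Opens) (hU : IsAffineOpen U) (d : ℕ) (hd : 0 < d) (f : 𝒮.presheaf.obj (op U)) (hf : f ∈ 𝒮.deg U hU d)
        (g : Spec (CommRingCat.of (HomogeneousLocalization.Away (𝒮h.deg U hU) ((RelProj.gradedHomAt ι hz.graded U hU) f))) ⟶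
          ((RelCone.pointedProjCone 𝒮 hz pC chartC : PC.Opens) : Scheme.{u})),
        g ≫ (RelCone.pointedProjCone 𝒮 hz pC chartC).ι =
            Proj.awayι (𝒮h.deg U hU) ((RelProj.gradedHomAt ι hz.graded U hU) f) ((RelProj.gradedHomAt ι hz.graded U hU).2 hf) hd ≫
              RelProj.emb pC chartC U hU →
          g ≫ r =
            Spec.map (CommRingCat.ofHom (HomogeneousLocalization.Away.map (RelProj.gradedHomAt ι hz.graded U hU) f)) ≫
              Proj.awayι (𝒮.deg U hU) f hf hd ≫ RelProj.emb p chart U hU)) :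
    (RelCone.pointedCone 𝒮 : 𝒮.toQCAlg.spec.Opens) ≤ i ⁻¹ᵁ (RelCone.pointedProjCone 𝒮 hz pC chartC) ∧
      ∀ i' : ((RelCone.pointedCone 𝒮 : 𝒮.toQCAlg.spec.Opens) : Scheme.{u}) ⟶ ((RelCone.pointedProjCone 𝒮 hz pC chartC : PC.Opens) : Scheme.{u}),
        i' ≫ (RelCone.pointedProjCone 𝒮 hz pC chartC).ι = (RelCone.pointedCone 𝒮).ι ≫ i →
          IsAffineHom (i' ≫ r) ∧ Function.Surjective (i' ≫ r).base := by
  classical
  refine ⟨part1 hz pC chartC hi, ?_⟩
  intro i' hi'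
  have keyAll : ∀ (U : Y.Opens) (hU : IsAffineOpen U) (d : ℕ) (hd : 0 < d)
      (g : 𝒮.presheaf.obj (op U)) (hg : g ∈ 𝒮.deg U hU d)
      (c' : Spec (𝒮.presheaf.obj (op U))) (hgc : g ∉ c'.asIdeal)
      (e : (RelCone.pointedCone 𝒮 : 𝒮.toQCAlg.spec.Opens).toScheme)
      (he : (RelCone.pointedCone 𝒮).ι.base e = (𝒮.toQCAlg.ι U hU).base c'),
      ∃ y : Proj (𝒮.deg U hU), (i' ≫ r).base e = (RelProj.emb p chart U hU).base y ∧
        (∀ (n : ℕ) (s : 𝒮.presheaf.obj (op U)), s ∈ 𝒮.deg U hU n →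
          (s ∈ y.asHomogeneousIdeal.toIdeal ↔ s ∈ c'.asIdeal)) ∧
        p.base ((i' ≫ r).base e) = 𝒮.toQCAlg.π.base ((𝒮.toQCAlg.ι U hU).base c') := by
    intro U hU d hd g hg c' hgc e he
    obtain ⟨gm, hgm⟩ := exists_gm hz pC chartC U hU d hd g hg
    exact key hz pC chartC hPC p chart hP i hi r i' hi' U hU d hd g hg gm hgm
      (hr U hU d hd g hg gm hgm) c' hgc e he
  have chartE : ∀ (U : Y.Opens) (hU : IsAffineOpen U)
      (e : (RelCone.pointedCone 𝒮 : 𝒮.toQCAlg.spec.Opens).toScheme)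
      (c' : Spec (𝒮.presheaf.obj (op U)))
      (he : (RelCone.pointedCone 𝒮).ι.base e = (𝒮.toQCAlg.ι U hU).base c'),
      ∃ (d : ℕ) (g : 𝒮.presheaf.obj (op U)), 0 < d ∧ g ∈ 𝒮.deg U hU d ∧ g ∉ c'.asIdeal := by
    intro U hU e c' he
    have hmemE : (𝒮.toQCAlg.ι U hU).base c' ∈ RelCone.pointedCone 𝒮 := by
      rw [← he]
      exact ι_mem_opens _ e
    exact exists_hom_not_mem 𝒮 U hU c' ((ι_mem_pointedCone_iff 𝒮 U hU c').mp hmemE)
  constructor
  · apply isAffineHom_of_forall_exists_isAffineOpen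
    intro x
    obtain ⟨_, ⟨U, hU, rfl⟩, hxU, -⟩ := Y.isBasis_affineOpens.exists_subset_of_mem_open
      (Set.mem_univ (p.base x)) isOpen_univ
    replace hU : IsAffineOpen U := hU
    obtain ⟨y₀, hy₀⟩ : ∃ y, (RelProj.emb p chart U hU).base y = x :=
      ⟨_, Groth.Agent.Helper22.RelProjTN.emb_chart_hom p chart U hU x hxU⟩
    obtain ⟨f, d, hd, hf, hfy⟩ :=
      Groth.Agent.Helper22.ProjIrr.exists_mem_basicOpen (𝒮.deg U hU) y₀
    have hfy' : f ∉ y₀.asHomogeneousIdeal.toIdeal := hfy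
    refine ⟨(Proj.awayι (𝒮.deg U hU) f hf hd ≫ RelProj.emb p chart U hU).opensRange, ?_,
      isAffineOpen_opensRange _, ?_⟩
    · obtain ⟨w, hw⟩ : ∃ w, (Proj.awayι (𝒮.deg U hU) f hf hd).base w = y₀ := by
        have h : y₀ ∈ (Proj.awayι (𝒮.deg U hU) f hf hd).opensRange := by
          rw [Proj.opensRange_awayι]
          exact hfy'
        exact h
      refine ⟨w, ?_⟩
      show (RelProj.emb p chart U hU).base ((Proj.awayι (𝒮.deg U hU) f hf hd).base w) = x
      rw [hw, hy₀]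
    · have hWC : IsAffineOpen ((𝒮.toQCAlg.ι U hU) ''ᵁ
          (PrimeSpectrum.basicOpen f : (Spec (𝒮.presheaf.obj (op U))).Opens)) :=
        (IsAffineOpen.Spec_basicOpen f).image_of_isOpenImmersion _
      have hle : (𝒮.toQCAlg.ι U hU) ''ᵁ
          (PrimeSpectrum.basicOpen f : (Spec (𝒮.presheaf.obj (op U))).Opens) ≤
          (RelCone.pointedCone 𝒮).ι.opensRange := by
        rw [Scheme.Opens.opensRange_ι]
        rintro _ ⟨c'', hc'', rfl⟩
        exact (ι_mem_pointedCone_iff 𝒮 U hU c'').mpr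
          ((mem_vertexCompl (𝒮.deg U hU) c'').mpr ⟨f, irrelevant_of_pos 𝒮 U hU hd hf, hc''⟩)
      have heq : (i' ≫ r) ⁻¹ᵁ
          (Proj.awayι (𝒮.deg U hU) f hf hd ≫ RelProj.emb p chart U hU).opensRange =
          (RelCone.pointedCone 𝒮).ι ⁻¹ᵁ ((𝒮.toQCAlg.ι U hU) ''ᵁ
            (PrimeSpectrum.basicOpen f : (Spec (𝒮.presheaf.obj (op U))).Opens)) := by
        ext e
        constructor
        · intro hmem
          obtain ⟨w₀, hw₀⟩ : ∃ w₀, (Proj.awayι (𝒮.deg U hU) f hf hd ≫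
              RelProj.emb p chart U hU).base w₀ = (i' ≫ r).base e := hmem
          obtain ⟨_, ⟨V, hV, rfl⟩, hcV, -⟩ := Y.isBasis_affineOpens.exists_subset_of_mem_open
            (Set.mem_univ (𝒮.toQCAlg.π.base ((RelCone.pointedCone 𝒮).ι.base e))) isOpen_univ
          replace hV : IsAffineOpen V := hV
          obtain ⟨c', hc'⟩ := exists_chart 𝒮.toQCAlg _ V hV hcV
          have hc'1 : (RelCone.pointedCone 𝒮).ι.base e = (𝒮.toQCAlg.ι V hV).base c' := hc'.symm
          obtain ⟨d', g, hd', hg, hgc⟩ := chartE V hV e c' hc'1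
          obtain ⟨y, hy1, hy2, hy3⟩ := keyAll V hV d' hd' g hg c' hgc e hc'1
          have hπU : 𝒮.toQCAlg.π.base ((RelCone.pointedCone 𝒮).ι.base e) ∈ U := by
            have e1 : 𝒮.toQCAlg.π.base ((RelCone.pointedCone 𝒮).ι.base e) =
                p.base ((RelProj.emb p chart U hU).base
                  ((Proj.awayι (𝒮.deg U hU) f hf hd).base w₀)) := by
              rw [hc'1]
              exact hy3.symm.trans (congrArg (fun t => p.base t) hw₀.symm)
            rw [e1]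
            exact Groth.Agent.Helper22.RelProjTN.emb_mem p chart U hU _
          obtain ⟨c'', hc''⟩ := exists_chart 𝒮.toQCAlg _ U hU hπU
          have hc''1 : (RelCone.pointedCone 𝒮).ι.base e = (𝒮.toQCAlg.ι U hU).base c'' :=
            hc''.symm
          obtain ⟨d'', g'', hd'', hg'', hgc''⟩ := chartE U hU e c'' hc''1
          obtain ⟨y'', hy1'', hy2'', -⟩ := keyAll U hU d'' hd'' g'' hg'' c'' hgc'' e hc''1
          have hinj : y'' = (Proj.awayι (𝒮.deg U hU) f hf hd).base w₀ :=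
            (RelProj.emb p chart U hU).isOpenEmbedding.injective (hy1''.symm.trans hw₀.symm)
          have hfy'' : f ∉ y''.asHomogeneousIdeal.toIdeal := by
            rw [hinj]
            have h : (Proj.awayι (𝒮.deg U hU) f hf hd).base w₀ ∈
                (Proj.awayι (𝒮.deg U hU) f hf hd).opensRange := ⟨w₀, rfl⟩
            rw [Proj.opensRange_awayι] at h
            exact h
          have hfc'' : f ∉ c''.asIdeal := fun h => hfy'' ((hy2'' d f hf).mpr h)
          exact ⟨c'', hfc'', hc''⟩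
        · intro hmem
          obtain ⟨c'', hfc'', hc''⟩ : ∃ c'' : Spec (𝒮.presheaf.obj (op U)),
              c'' ∈ (PrimeSpectrum.basicOpen f : (Spec (𝒮.presheaf.obj (op U))).Opens) ∧
              (𝒮.toQCAlg.ι U hU).base c'' = (RelCone.pointedCone 𝒮).ι.base e := hmem
          have hfc : f ∉ c''.asIdeal := hfc''
          obtain ⟨y, hy1, hy2, -⟩ := keyAll U hU d hd f hf c'' hfc e hc''.symm
          have hfy2 : f ∉ y.asHomogeneousIdeal.toIdeal := fun h => hfc ((hy2 d f hf).mp h)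
          obtain ⟨w, hw⟩ : ∃ w, (Proj.awayι (𝒮.deg U hU) f hf hd).base w = y := by
            have h : y ∈ (Proj.awayι (𝒮.deg U hU) f hf hd).opensRange := by
              rw [Proj.opensRange_awayι]
              exact hfy2
            exact h
          refine ⟨w, ?_⟩
          show (RelProj.emb p chart U hU).base ((Proj.awayι (𝒮.deg U hU) f hf hd).base w) =
            (i' ≫ r).base e
          rw [hw]
          exact hy1.symm
      rw [heq]
      exact hWC.preimage_of_isOpenImmersion _ hle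
  · intro x
    obtain ⟨_, ⟨U, hU, rfl⟩, hxU, -⟩ := Y.isBasis_affineOpens.exists_subset_of_mem_open
      (Set.mem_univ (p.base x)) isOpen_univ
    replace hU : IsAffineOpen U := hU
    obtain ⟨y₀, hy₀⟩ : ∃ y, (RelProj.emb p chart U hU).base y = x :=
      ⟨_, Groth.Agent.Helper22.RelProjTN.emb_chart_hom p chart U hU x hxU⟩
    obtain ⟨f, d, hd, hf, hfy⟩ :=
      Groth.Agent.Helper22.ProjIrr.exists_mem_basicOpen (𝒮.deg U hU) y₀
    have hfy' : f ∉ y₀.asHomogeneousIdeal.toIdeal := hfy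
    obtain ⟨c'', hc''⟩ : ∃ c'' : Spec (𝒮.presheaf.obj (op U)),
        c''.asIdeal = y₀.asHomogeneousIdeal.toIdeal :=
      ⟨⟨y₀.asHomogeneousIdeal.toIdeal, ProjectiveSpectrum.isPrime y₀⟩, rfl⟩
    have hfc : f ∉ c''.asIdeal := by
      rw [hc'']
      exact hfy'
    have hmemE : (𝒮.toQCAlg.ι U hU).base c'' ∈ RelCone.pointedCone 𝒮 :=
      (ι_mem_pointedCone_iff 𝒮 U hU c'').mpr
        ((mem_vertexCompl (𝒮.deg U hU) c'').mpr ⟨f, irrelevant_of_pos 𝒮 U hU hd hf, hfc⟩)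
    obtain ⟨e, he⟩ := exists_of_mem_opens (RelCone.pointedCone 𝒮) _ hmemE
    obtain ⟨y, hy1, hy2, -⟩ := keyAll U hU d hd f hf c'' hfc e he
    have hyy : y = y₀ := by
      apply ProjectiveSpectrum.ext
      apply HomogeneousIdeal.toIdeal_injective
      ext s
      rw [y.asHomogeneousIdeal.isHomogeneous.mem_iff, y₀.asHomogeneousIdeal.isHomogeneous.mem_iff]
      refine forall_congr' fun n => ?_
      rw [← hc'']
      exact hy2 n _ (SetLike.coe_mem _)
    refine ⟨e, hy1.trans ?_⟩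
    rw [hyy, hy₀]

end Groth.Agent.S8309
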