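import Groth.Statements.S12157
import Groth.Agent.Lib.Helper22.RelConeVertex
import Groth.Agent.Lib.Helper22.RelProjTN
import Groth.Agent.S8298
import Groth.Agent.S8297
import Groth.Agent.S8309

set_option autoImplicit false
universe u
open CategoryTheory CategoryTheory.Limits AlgebraicGeometry TopologicalSpace Opposite
open scoped HomogeneousIdeal
noncomputable section
open EGA2

namespace Groth.Agent.S12157

open Groth.Agent.Helper22.RelConeVertex Groth.Agent.Helper22.RelProjTN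
  Groth.Agent.Helper22.RelConeLoc HomogeneousLocalization

section Gam

variable {Y : Scheme.{u}} {𝒮 𝒮h : RelProj.QCGrAlg Y} {ι : 𝒮.toQCAlg ⟶ 𝒮h.toQCAlg}
  {z : 𝒮h.presheaf.obj (op ⊤)} (hz : RelCone.IsPolyOver 𝒮 𝒮h ι z) (U : Y.Opens)
  (hU : IsAffineOpen U)

/-- the analogue of `awayZToBase` at an element `t` (later shown equal to `z`) -/
def gam (t : 𝒮h.presheaf.obj (op U)) (hu : IsUnit (hz.evalOne U hU t)) :
    Away (𝒮h.deg U hU) t →+* 𝒮.presheaf.obj (op U) :=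
  (IsLocalization.Away.lift t (g := hz.evalOne U hU) hu).comp
    (algebraMap (Away (𝒮h.deg U hU) t) (Localization.Away t))

theorem gam_of_val (t : 𝒮h.presheaf.obj (op U)) (h : t = RelCone.restrictTop 𝒮h z U)
    (hu : IsUnit (hz.evalOne U hU t)) (y : Away (𝒮h.deg U hU) t)
    (b : 𝒮h.presheaf.obj (op U)) (n : ℕ)
    (hy : y.val = Localization.mk b ⟨t ^ n, pow_mem (Submonoid.mem_powers _) n⟩) :
    gam hz U hU t hu y = hz.evalOne U hU b := by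
  subst h
  exact hz.awayZToBase_of_val U hU y b n hy

theorem gam_awayι (t : 𝒮h.presheaf.obj (op U)) (h : t = RelCone.restrictTop 𝒮h z U)
    (hu : IsUnit (hz.evalOne U hU t)) (ht : t ∈ 𝒮h.deg U hU 1) :
    Spec.map (CommRingCat.ofHom (gam hz U hU t hu)) ≫
        Proj.awayι (𝒮h.deg U hU) t ht one_pos =
      Spec.map (CommRingCat.ofHom (hz.awayZToBase U hU)) ≫
        Proj.awayι (𝒮h.deg U hU) (RelCone.restrictTop 𝒮h z U) (hz.deg_z U hU) one_pos := by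
  subst h
  rfl

end Gam

section Main

variable {Y Y' PC PC' : Scheme.{u}} {q : Y' ⟶ Y} {𝒮 : RelProj.QCGrAlg Y}
  {𝒮' : RelProj.QCGrAlg Y'}
  {𝒮h : RelProj.QCGrAlg Y} {ι : 𝒮.toQCAlg ⟶ 𝒮h.toQCAlg} {z : 𝒮h.presheaf.obj (op ⊤)}
  {𝒮h' : RelProj.QCGrAlg Y'} {ι' : 𝒮'.toQCAlg ⟶ 𝒮h'.toQCAlg} {z' : 𝒮h'.presheaf.obj (op ⊤)}

theorem exists_pair (q : Y' ⟶ Y) (y' : Y') :
    ∃ (U : Y.Opens) (_ : IsAffineOpen U) (U' : Y'.Opens) (_ : IsAffineOpen U'),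
      U' ≤ q ⁻¹ᵁ U ∧ y' ∈ U' := by
  obtain ⟨_, ⟨U, hU, rfl⟩, hyU, -⟩ := Y.isBasis_affineOpens.exists_subset_of_mem_open
    (Set.mem_univ (q.base y')) isOpen_univ
  obtain ⟨_, ⟨U', hU', rfl⟩, hyU', hU'U⟩ := Y'.isBasis_affineOpens.exists_subset_of_mem_open
    (show y' ∈ ((q ⁻¹ᵁ U : Y'.Opens) : Set Y') from hyU) (q ⁻¹ᵁ U).isOpen
  exact ⟨U, hU, U', hU', fun x hx => hU'U hx, hyU'⟩

theorem uh_z (uh : RelProj.QGrHom q 𝒮h 𝒮h')
    (huhz : (uh.app ⊤).hom z = RelCone.restrictTop 𝒮h' z' (q ⁻¹ᵁ ⊤))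
    (U : Y.Opens) (U' : Y'.Opens) (hle : U' ≤ q ⁻¹ᵁ U) :
    (uh.appLE U U' hle).hom (RelCone.restrictTop 𝒮h z U) = RelCone.restrictTop 𝒮h' z' U' := by
  have h1 := congrArg (fun t => t.hom z) (uh.toQHom.map_appLE (le_top : U ≤ ⊤) hle)
  refine Eq.trans h1 ?_
  have hle' : U' ≤ q ⁻¹ᵁ ⊤ := hle.trans (q.preimage_mono le_top)
  show (𝒮h'.presheaf.map (homOfLE hle').op).hom ((uh.app ⊤).hom z) = _
  rw [huhz]
  have e : 𝒮h'.presheaf.map (homOfLE (le_top : q ⁻¹ᵁ ⊤ ≤ ⊤)).op ≫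
      𝒮h'.presheaf.map (homOfLE hle').op =
      𝒮h'.presheaf.map (homOfLE (le_top : U' ≤ ⊤)).op := by
    rw [← Functor.map_comp]
    rfl
  exact congrArg (fun t => t.hom z') e

theorem uh_ι (u : RelProj.QGrHom q 𝒮 𝒮') (uh : RelProj.QGrHom q 𝒮h 𝒮h')
    (huh : ∀ U : Y.Opens, ι.hom.app (op U) ≫ uh.app U = u.app U ≫ ι'.hom.app (op (q ⁻¹ᵁ U)))
    (U : Y.Opens) (U' : Y'.Opens) (hle : U' ≤ q ⁻¹ᵁ U) (b : 𝒮.presheaf.obj (op U)) :
    (uh.appLE U U' hle).hom ((ι.hom.app (op U)).hom b) =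
      (ι'.hom.app (op U')).hom ((u.appLE U U' hle).hom b) := by
  have h1 : (uh.app U).hom ((ι.hom.app (op U)).hom b) =
      (ι'.hom.app (op (q ⁻¹ᵁ U))).hom ((u.app U).hom b) :=
    congrArg (fun t => t.hom b) (huh U)
  have h2 : (ι'.hom.app (op U')).hom ((𝒮'.presheaf.map (homOfLE hle).op).hom ((u.app U).hom b)) =
      (𝒮h'.presheaf.map (homOfLE hle).op).hom
        ((ι'.hom.app (op (q ⁻¹ᵁ U))).hom ((u.app U).hom b)) :=
    congrArg (fun t => t.hom ((u.app U).hom b)) (ι'.hom.naturality (homOfLE hle).op)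
  exact (congrArg (fun x => (𝒮h'.presheaf.map (homOfLE hle).op).hom x) h1).trans h2.symm

theorem evalOne_comm (hz : RelCone.IsPolyOver 𝒮 𝒮h ι z) (hz' : RelCone.IsPolyOver 𝒮' 𝒮h' ι' z')
    (u : RelProj.QGrHom q 𝒮 𝒮') (uh : RelProj.QGrHom q 𝒮h 𝒮h')
    (huh : ∀ U : Y.Opens, ι.hom.app (op U) ≫ uh.app U = u.app U ≫ ι'.hom.app (op (q ⁻¹ᵁ U)))
    (huhz : (uh.app ⊤).hom z = RelCone.restrictTop 𝒮h' z' (q ⁻¹ᵁ ⊤))
    (U : Y.Opens) (hU : IsAffineOpen U) (U' : Y'.Opens) (hU' : IsAffineOpen U')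
    (hle : U' ≤ q ⁻¹ᵁ U) (a : 𝒮h.presheaf.obj (op U)) :
    hz'.evalOne U' hU' ((uh.appLE U U' hle).hom a) =
      (u.appLE U U' hle).hom (hz.evalOne U hU a) := by
  have key : ((hz'.evalOne U' hU').comp (uh.appLE U U' hle).hom).comp
      (hz.polyEquiv U hU).toRingHom =
      ((u.appLE U U' hle).hom.comp (hz.evalOne U hU)).comp (hz.polyEquiv U hU).toRingHom := by
    apply Polynomial.ringHom_ext
    · intro b
      show hz'.evalOne U' hU' ((uh.appLE U U' hle).hom (hz.polyEquiv U hU (Polynomial.C b))) =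
        (u.appLE U U' hle).hom (hz.evalOne U hU (hz.polyEquiv U hU (Polynomial.C b)))
      have e : hz.polyEquiv U hU (Polynomial.C b) = (ι.hom.app (op U)).hom b := by
        rw [RelCone.IsPolyOver.polyEquiv_apply, Polynomial.eval₂_C]
      rw [e, uh_ι u uh huh U U' hle b, hz'.evalOne_ι, hz.evalOne_ι]
    · show hz'.evalOne U' hU' ((uh.appLE U U' hle).hom (hz.polyEquiv U hU Polynomial.X)) =
        (u.appLE U U' hle).hom (hz.evalOne U hU (hz.polyEquiv U hU Polynomial.X))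
      have e : hz.polyEquiv U hU Polynomial.X = RelCone.restrictTop 𝒮h z U := by
        rw [RelCone.IsPolyOver.polyEquiv_apply, Polynomial.eval₂_X]
      rw [e, uh_z uh huhz U U' hle, hz'.evalOne_z, hz.evalOne_z, map_one]
  have h3 : hz'.evalOne U' hU' ((uh.appLE U U' hle).hom
      (hz.polyEquiv U hU ((hz.polyEquiv U hU).symm a))) =
      (u.appLE U U' hle).hom (hz.evalOne U hU
        (hz.polyEquiv U hU ((hz.polyEquiv U hU).symm a))) :=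
    congrArg (fun F => F ((hz.polyEquiv U hU).symm a)) key
  rwa [RingEquiv.apply_symm_apply] at h3

theorem part1 (hz : RelCone.IsPolyOver 𝒮 𝒮h ι z) (hz' : RelCone.IsPolyOver 𝒮' 𝒮h' ι' z')
    (pC' : PC' ⟶ Y')
    (chartC' : ∀ (U : Y'.Opens) (hU : IsAffineOpen U),
      (((pC' ⁻¹ᵁ U : PC'.Opens) : Scheme.{u}) ≅ Proj (𝒮h'.deg U hU)))
    (uh : RelProj.QGrHom q 𝒮h 𝒮h')
    (huhz : (uh.app ⊤).hom z = RelCone.restrictTop 𝒮h' z' (q ⁻¹ᵁ ⊤))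
    {i' : 𝒮'.toQCAlg.spec ⟶ PC'} (hi' : RelCone.IsConeImm 𝒮' hz' pC' chartC' i') :
    Set.range i'.base ⊆ ((RelProj.domQ uh pC' chartC' : PC'.Opens) : Set PC') := by
  rintro _ ⟨c', rfl⟩
  obtain ⟨U, hU, U', hU', hle, hyU'⟩ := exists_pair q (𝒮'.toQCAlg.π.base c')
  obtain ⟨c'', hc''⟩ := exists_chart 𝒮'.toQCAlg c' U' hU' hyU'
  have hc'1 : (𝒮'.toQCAlg.ι U' hU').base c'' = c' := hc''
  subst hc'1
  show i'.base ((𝒮'.toQCAlg.ι U' hU').base c'') ∈ RelProj.domQ uh pC' chartC'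
  rw [S8297.i_ι_pt hz' U' hU' pC' chartC' hi' c'']
  refine Opens.mem_iSup.mpr ⟨⟨(⟨U, hU⟩, ⟨U', hU'⟩), hle⟩, _, ?_, rfl⟩
  refine (RelCone.mem_domOpen _ _).mpr ⟨RelCone.restrictTop 𝒮h z U,
    S8309.irrelevant_of_pos 𝒮h U hU one_pos (hz.deg_z U hU), ?_⟩
  show (uh.appLE U U' hle).hom (RelCone.restrictTop 𝒮h z U) ∉
    ((Proj.awayι (𝒮h'.deg U' hU') (RelCone.restrictTop 𝒮h' z' U') (hz'.deg_z U' hU')
      one_pos).base ((Spec.map (CommRingCat.ofHom (hz'.awayZToBase U' hU'))).base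
        c'')).asHomogeneousIdeal.toIdeal
  rw [uh_z uh huhz U U' hle]
  have h : (Proj.awayι (𝒮h'.deg U' hU') (RelCone.restrictTop 𝒮h' z' U') (hz'.deg_z U' hU')
      one_pos).base ((Spec.map (CommRingCat.ofHom (hz'.awayZToBase U' hU'))).base c'') ∈
      (Proj.awayι (𝒮h'.deg U' hU') (RelCone.restrictTop 𝒮h' z' U') (hz'.deg_z U' hU')
        one_pos).opensRange := ⟨_, rfl⟩
  rw [Proj.opensRange_awayι] at h
  exact h

theorem chart_eq (hz : RelCone.IsPolyOver 𝒮 𝒮h ι z) (hz' : RelCone.IsPolyOver 𝒮' 𝒮h' ι' z')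
    (u : RelProj.QGrHom q 𝒮 𝒮')
    (pC : PC ⟶ Y)
    (chartC : ∀ (U : Y.Opens) (hU : IsAffineOpen U),
      (((pC ⁻¹ᵁ U : PC.Opens) : Scheme.{u}) ≅ Proj (𝒮h.deg U hU)))
    (pC' : PC' ⟶ Y')
    (chartC' : ∀ (U : Y'.Opens) (hU : IsAffineOpen U),
      (((pC' ⁻¹ᵁ U : PC'.Opens) : Scheme.{u}) ≅ Proj (𝒮h'.deg U hU)))
    (uh : RelProj.QGrHom q 𝒮h 𝒮h')
    (huh : ∀ U : Y.Opens, ι.hom.app (op U) ≫ uh.app U = u.app U ≫ ι'.hom.app (op (q ⁻¹ᵁ U)))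
    (huhz : (uh.app ⊤).hom z = RelCone.restrictTop 𝒮h' z' (q ⁻¹ᵁ ⊤))
    (Φh : ((RelProj.domQ uh pC' chartC' : PC'.Opens) : Scheme.{u}) ⟶ PC)
    (hΦh : RelProj.IsProjQMapOn uh pC chartC pC' chartC' (RelProj.domQ uh pC' chartC') Φh)
    (Φc : 𝒮'.toQCAlg.spec ⟶ 𝒮.toQCAlg.spec) (hΦc : RelSpec.IsSpecQMap u.toQHom Φc)
    (i : 𝒮.toQCAlg.spec ⟶ PC) (hi : RelCone.IsConeImm 𝒮 hz pC chartC i)
    (i' : 𝒮'.toQCAlg.spec ⟶ PC') (hi' : RelCone.IsConeImm 𝒮' hz' pC' chartC' i')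
    (i'' : 𝒮'.toQCAlg.spec ⟶ ((RelProj.domQ uh pC' chartC' : PC'.Opens) : Scheme.{u}))
    (hi'' : i'' ≫ (RelProj.domQ uh pC' chartC').ι = i')
    (U : Y.Opens) (hU : IsAffineOpen U) (U' : Y'.Opens) (hU' : IsAffineOpen U')
    (hle : U' ≤ q ⁻¹ᵁ U) :
    𝒮'.toQCAlg.ι U' hU' ≫ i'' ≫ Φh = 𝒮'.toQCAlg.ι U' hU' ≫ Φc ≫ i := by
  have h : (uh.gradedAt U hU U' hU' hle) (RelCone.restrictTop 𝒮h z U) =
      RelCone.restrictTop 𝒮h' z' U' := uh_z uh huhz U U' hle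
  have ht₀ : (uh.gradedAt U hU U' hU' hle) (RelCone.restrictTop 𝒮h z U) ∈ 𝒮h'.deg U' hU' 1 :=
    (uh.gradedAt U hU U' hU' hle).map_mem (hz.deg_z U hU)
  have hu₀ : IsUnit (hz'.evalOne U' hU'
      ((uh.gradedAt U hU U' hU' hle) (RelCone.restrictTop 𝒮h z U))) := by
    rw [h, hz'.evalOne_z]
    exact isUnit_one
  have hW := RelProj.range_awayEmb_subset_domQ uh pC' chartC' U hU U' hU' hle one_pos
    (RelCone.restrictTop 𝒮h z U) (hz.deg_z U hU)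
  have E := hΦh U hU U' hU' hle 1 one_pos (RelCone.restrictTop 𝒮h z U) (hz.deg_z U hU) hW
  have F1 := gam_awayι hz' U' hU' _ h hu₀ ht₀
  have ha : 𝒮'.toQCAlg.ι U' hU' ≫ i'' =
      Spec.map (CommRingCat.ofHom (gam hz' U' hU' _ hu₀)) ≫
        IsOpenImmersion.lift (RelProj.domQ uh pC' chartC').ι
          (RelProj.awayEmb uh pC' chartC' U hU U' hU' hle one_pos
            (RelCone.restrictTop 𝒮h z U) (hz.deg_z U hU)) hW := by
    rw [← cancel_mono (RelProj.domQ uh pC' chartC').ι, Category.assoc, hi'', Category.assoc,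
      IsOpenImmersion.lift_fac, hi' U' hU']
    calc _ = (Spec.map (CommRingCat.ofHom (hz'.awayZToBase U' hU')) ≫
          Proj.awayι (𝒮h'.deg U' hU') (RelCone.restrictTop 𝒮h' z' U') (hz'.deg_z U' hU')
            one_pos) ≫ RelProj.emb pC' chartC' U' hU' := (Category.assoc _ _ _).symm
      _ = (Spec.map (CommRingCat.ofHom (gam hz' U' hU' _ hu₀)) ≫
          Proj.awayι (𝒮h'.deg U' hU') _ ht₀ one_pos) ≫ RelProj.emb pC' chartC' U' hU' := by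
            rw [F1]
      _ = _ := Category.assoc _ _ _
  rw [← Category.assoc, ha, Category.assoc, E, reassoc_of% (hΦc U hU U' hU' hle), hi U hU,
    ← Spec.map_comp_assoc, ← Spec.map_comp_assoc]
  congr 2
  refine CommRingCat.hom_ext (RingHom.ext fun x => ?_)
  show gam hz' U' hU' _ hu₀ (Away.map (uh.gradedAt U hU U' hU' hle)
      (RelCone.restrictTop 𝒮h z U) x) =
    (u.appLE U U' hle).hom (hz.awayZToBase U hU x)
  obtain ⟨n, a, ha', rfl⟩ := Away.mk_surjective (𝒮h.deg U hU) (hz.deg_z U hU) x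
  rw [Away.map_mk, gam_of_val hz' U' hU' _ h hu₀ _ _ n (Away.val_mk _ _ _ _ _),
    hz.awayZToBase_of_val U hU _ _ n (Away.val_mk _ _ _ _ _)]
  exact evalOne_comm hz hz' u uh huh huhz U hU U' hU' hle a

end Main


/-- Let q : Y' → Y be a morphism, φ : 𝒮 → q_*𝒮' a graded q-morphism of quasi-coherent positively graded
algebras with 𝒮_0 = O_Y, 𝒮'_0 = O_{Y'}, φ̂ : 𝒮[z] → q_*𝒮'[z] its extension with φ̂(z) = z, Ĉ =
Proj(𝒮[z]), Ĉ' = Proj(𝒮'[z]) the projective cones with pointed cones Ê, Ê', and Φ̂ = Proj(φ̂) :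
G(φ̂) → Ĉ; let Φ = Spec(φ) : C' = Spec(𝒮') → C = Spec(𝒮) be the morphism of affine cones and i : C →
Ĉ, i' : C' → Ĉ' the canonical open immersions. Then i'(C') ⊆ G(φ̂) and the square formed by Φ, i', i
and Φ̂ commutes. -/
theorem result {Y Y' PC PC' : Scheme.{u}} (q : Y' ⟶ Y)
    (𝒮 : RelProj.QCGrAlg Y) (𝒮' : RelProj.QCGrAlg Y') (h0 : RelCone.StrZeroBij 𝒮) (h0' : RelCone.StrZeroBij 𝒮')
    (u : RelProj.QGrHom q 𝒮 𝒮')
    (𝒮h : RelProj.QCGrAlg Y) (ι : 𝒮.toQCAlg ⟶ 𝒮h.toQCAlg) (z : 𝒮h.presheaf.obj (op ⊤))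
    (hz : RelCone.IsPolyOver 𝒮 𝒮h ι z)
    (pC : PC ⟶ Y) (chartC : ∀ (U : Y.Opens) (hU : IsAffineOpen U), (((pC ⁻¹ᵁ U : PC.Opens) : Scheme.{u}) ≅ Proj (𝒮h.deg U hU)))
    (hC : RelProj.IsRelProj 𝒮h pC chartC)
    (𝒮h' : RelProj.QCGrAlg Y') (ι' : 𝒮'.toQCAlg ⟶ 𝒮h'.toQCAlg) (z' : 𝒮h'.presheaf.obj (op ⊤))
    (hz' : RelCone.IsPolyOver 𝒮' 𝒮h' ι' z')
    (pC' : PC' ⟶ Y') (chartC' : ∀ (U : Y'.Opens) (hU : IsAffineOpen U), (((pC' ⁻¹ᵁ U : PC'.Opens) : Scheme.{u}) ≅ Proj (𝒮h'.deg U hU)))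
    (hC' : RelProj.IsRelProj 𝒮h' pC' chartC')
    (uh : RelProj.QGrHom q 𝒮h 𝒮h')
    (huh : ∀ U : Y.Opens, ι.hom.app (op U) ≫ uh.app U = u.app U ≫ ι'.hom.app (op (q ⁻¹ᵁ U)))
    (huhz : (uh.app ⊤).hom z = RelCone.restrictTop 𝒮h' z' (q ⁻¹ᵁ ⊤))
    (Φh : ((RelProj.domQ uh pC' chartC' : PC'.Opens) : Scheme.{u}) ⟶ PC)
    (hΦh : RelProj.IsProjQMapOn uh pC chartC pC' chartC' (RelProj.domQ uh pC' chartC') Φh)
    (Φc : 𝒮'.toQCAlg.spec ⟶ 𝒮.toQCAlg.spec) (hΦc : RelSpec.IsSpecQMap u.toQHom Φc)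
    (i : 𝒮.toQCAlg.spec ⟶ PC) (hi : RelCone.IsConeImm 𝒮 hz pC chartC i)
    (i' : 𝒮'.toQCAlg.spec ⟶ PC') (hi' : RelCone.IsConeImm 𝒮' hz' pC' chartC' i') :
    Set.range i'.base ⊆ ((RelProj.domQ uh pC' chartC' : PC'.Opens) : Set PC') ∧
      ∀ i'' : 𝒮'.toQCAlg.spec ⟶ ((RelProj.domQ uh pC' chartC' : PC'.Opens) : Scheme.{u}),
        i'' ≫ (RelProj.domQ uh pC' chartC').ι = i' → i'' ≫ Φh = Φc ≫ i := by
  refine ⟨part1 hz hz' pC' chartC' uh huhz hi', ?_⟩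
  intro i'' hi''
  apply Scheme.hom_ext_of_forall
  intro c'
  obtain ⟨U, hU, U', hU', hle, hyU'⟩ := exists_pair q (𝒮'.toQCAlg.π.base c')
  refine ⟨(𝒮'.toQCAlg.ι U' hU').opensRange,
    Groth.Agent.Helper22.RelConeLoc.exists_chart 𝒮'.toQCAlg c' U' hU' hyU', ?_⟩
  rw [← (𝒮'.toQCAlg.ι U' hU').isoOpensRange_inv_comp, Category.assoc, Category.assoc,
    chart_eq hz hz' u pC chartC pC' chartC' uh huh huhz Φh hΦh Φc hΦc i hi i' hi' i'' hi''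
      U hU U' hU' hle]

end Groth.Agent.S12157
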