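import Groth.Statements.S12158
import Groth.Agent.Lib.Helper22.RelConeVertex
import Groth.Agent.Lib.Helper22.RelProjTN
import Groth.Agent.S8298
import Groth.Agent.S8297
import Groth.Agent.S8309
import Groth.Agent.S12157

set_option autoImplicit false
universe u
open CategoryTheory CategoryTheory.Limits AlgebraicGeometry TopologicalSpace Opposite
open scoped HomogeneousIdeal
noncomputable section
open EGA2

namespace Groth.Agent.S12158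

open Groth.Agent.Helper22.RelConeVertex Groth.Agent.Helper22.RelProjTN
  Groth.Agent.Helper22.RelConeLoc HomogeneousLocalization

section Alg

theorem exists_cast {A : Type u} [CommRing A] {𝒜 : ℕ → AddSubgroup A} [GradedRing 𝒜] {d : ℕ}
    (hd : 0 < d) (t f : A) (h : t = f) (ht : t ∈ 𝒜 d) (hf : f ∈ 𝒜 d) :
    ∃ ρ : Away 𝒜 t →+* Away 𝒜 f,
      Spec.map (CommRingCat.ofHom ρ) ≫ Proj.awayι 𝒜 t ht hd = Proj.awayι 𝒜 f hf hd ∧
      ∀ (n : ℕ) (a : A) (ha : a ∈ 𝒜 (n • d)),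
        ρ (Away.mk 𝒜 ht n a ha) = Away.mk 𝒜 hf n a ha := by
  subst h
  refine ⟨RingHom.id _, ?_, fun n a ha => rfl⟩
  have e : CommRingCat.ofHom (RingHom.id (Away 𝒜 t)) = 𝟙 (CommRingCat.of (Away 𝒜 t)) := rfl
  rw [e, Spec.map_id, Category.id_comp]

end Alg

section Main

variable {Y Y' PC PC' P P' : Scheme.{u}} {q : Y' ⟶ Y} {𝒮 : RelProj.QCGrAlg Y}
  {𝒮' : RelProj.QCGrAlg Y'}
  {𝒮h : RelProj.QCGrAlg Y} {ι : 𝒮.toQCAlg ⟶ 𝒮h.toQCAlg} {z : 𝒮h.presheaf.obj (op ⊤)}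
  {𝒮h' : RelProj.QCGrAlg Y'} {ι' : 𝒮'.toQCAlg ⟶ 𝒮h'.toQCAlg} {z' : 𝒮h'.presheaf.obj (op ⊤)}

theorem θ_comm (hz : RelCone.IsPolyOver 𝒮 𝒮h ι z)
    (u : RelProj.QGrHom q 𝒮 𝒮') (uh : RelProj.QGrHom q 𝒮h 𝒮h')
    (huh : ∀ U : Y.Opens, ι.hom.app (op U) ≫ uh.app U = u.app U ≫ ι'.hom.app (op (q ⁻¹ᵁ U)))
    (huhz : (uh.app ⊤).hom z = RelCone.restrictTop 𝒮h' z' (q ⁻¹ᵁ ⊤))
    (θ : 𝒮h.toQCAlg ⟶ 𝒮.toQCAlg) (hθι : ι ≫ θ = 𝟙 _) (hθz : (θ.hom.app (op ⊤)).hom z = 0)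
    (θ' : 𝒮h'.toQCAlg ⟶ 𝒮'.toQCAlg) (hθι' : ι' ≫ θ' = 𝟙 _)
    (hθz' : (θ'.hom.app (op ⊤)).hom z' = 0)
    (U : Y.Opens) (hU : IsAffineOpen U) (U' : Y'.Opens) (hUU : U' ≤ q ⁻¹ᵁ U)
    (a : 𝒮h.presheaf.obj (op U)) :
    (θ'.hom.app (op U')).hom ((uh.appLE U U' hUU).hom a) =
      (u.appLE U U' hUU).hom ((θ.hom.app (op U)).hom a) := by
  have key : (((θ'.hom.app (op U')).hom).comp (uh.appLE U U' hUU).hom).comp
      (hz.polyEquiv U hU).toRingHom =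
      ((u.appLE U U' hUU).hom.comp (θ.hom.app (op U)).hom).comp
        (hz.polyEquiv U hU).toRingHom := by
    apply Polynomial.ringHom_ext
    · intro b
      show (θ'.hom.app (op U')).hom ((uh.appLE U U' hUU).hom
          (hz.polyEquiv U hU (Polynomial.C b))) =
        (u.appLE U U' hUU).hom ((θ.hom.app (op U)).hom (hz.polyEquiv U hU (Polynomial.C b)))
      have e : hz.polyEquiv U hU (Polynomial.C b) = (ι.hom.app (op U)).hom b := by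
        rw [RelCone.IsPolyOver.polyEquiv_apply, Polynomial.eval₂_C]
      rw [e, S12157.uh_ι u uh huh U U' hUU b, S8297.θ_ι U' θ' hθι', S8297.θ_ι U θ hθι]
    · show (θ'.hom.app (op U')).hom ((uh.appLE U U' hUU).hom
          (hz.polyEquiv U hU Polynomial.X)) =
        (u.appLE U U' hUU).hom ((θ.hom.app (op U)).hom (hz.polyEquiv U hU Polynomial.X))
      have e : hz.polyEquiv U hU Polynomial.X = RelCone.restrictTop 𝒮h z U := by
        rw [RelCone.IsPolyOver.polyEquiv_apply, Polynomial.eval₂_X]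
      rw [e, S12157.uh_z uh huhz U U' hUU, S8297.θ_z U' θ' hθz', S8297.θ_z U θ hθz, map_zero]
  have h3 : (θ'.hom.app (op U')).hom ((uh.appLE U U' hUU).hom
      (hz.polyEquiv U hU ((hz.polyEquiv U hU).symm a))) =
      (u.appLE U U' hUU).hom ((θ.hom.app (op U)).hom
        (hz.polyEquiv U hU ((hz.polyEquiv U hU).symm a))) :=
    congrArg (fun F => F ((hz.polyEquiv U hU).symm a)) key
  rwa [RingEquiv.apply_symm_apply] at h3

theorem exists_chart_domQ (u : RelProj.QGrHom q 𝒮 𝒮') (p' : P' ⟶ Y')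
    (chart' : ∀ (U : Y'.Opens) (hU : IsAffineOpen U),
      (((p' ⁻¹ᵁ U : P'.Opens) : Scheme.{u}) ≅ Proj (𝒮'.deg U hU)))
    (x' : P') (hx' : x' ∈ RelProj.domQ u p' chart') :
    ∃ (U : Y.Opens) (hU : IsAffineOpen U) (U' : Y'.Opens) (hU' : IsAffineOpen U')
      (hUU : U' ≤ q ⁻¹ᵁ U) (d : ℕ) (hd : 0 < d) (f₀ : 𝒮.presheaf.obj (op U))
      (hf₀ : f₀ ∈ 𝒮.deg U hU d)
      (w : Spec (CommRingCat.of (Away (𝒮'.deg U' hU') (u.gradedAt U hU U' hU' hUU f₀)))),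
      (RelProj.awayEmb u p' chart' U hU U' hU' hUU hd f₀ hf₀).base w = x' := by
  classical
  obtain ⟨V, y', hy', rfl⟩ := Opens.mem_iSup.mp hx'
  obtain ⟨f, hf, hfy⟩ := (RelCone.mem_domOpen _ y').mp hy'
  have hex : ∃ (d : ℕ), 0 < d ∧ (u.appLE V.1.1.1 V.1.2.1 V.2).hom
      (DirectSum.decompose (𝒮.deg V.1.1.1 V.1.1.2) f d : 𝒮.presheaf.obj (op V.1.1.1)) ∉
        y'.asHomogeneousIdeal.toIdeal := by
    by_contra hcon
    apply hfy
    have hf' : f ∈ HomogeneousIdeal.irrelevant (𝒮.deg V.1.1.1 V.1.1.2) := hf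
    rw [HomogeneousIdeal.mem_irrelevant_iff, GradedRing.proj_apply] at hf'
    have hsum : f = ∑ i ∈ (DirectSum.decompose (𝒮.deg V.1.1.1 V.1.1.2) f).support,
        (DirectSum.decompose (𝒮.deg V.1.1.1 V.1.1.2) f i : 𝒮.presheaf.obj (op V.1.1.1)) :=
      (DirectSum.sum_support_decompose (𝒮.deg V.1.1.1 V.1.1.2) f).symm
    show (u.appLE V.1.1.1 V.1.2.1 V.2).hom f ∈ y'.asHomogeneousIdeal.toIdeal
    rw [hsum, map_sum]
    refine Ideal.sum_mem _ fun i _ => ?_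
    rcases Nat.eq_zero_or_pos i with hi | hi
    · subst hi
      rw [hf', map_zero]
      exact zero_mem _
    · by_contra h
      exact hcon ⟨i, hi, h⟩
  obtain ⟨d, hd, hd'⟩ := hex
  have hmem : (DirectSum.decompose (𝒮.deg V.1.1.1 V.1.1.2) f d : 𝒮.presheaf.obj (op V.1.1.1)) ∈
      𝒮.deg V.1.1.1 V.1.1.2 d := SetLike.coe_mem _
  obtain ⟨w, hw⟩ := (Proj.opensRange_awayι (𝒮'.deg V.1.2.1 V.1.2.2) _
    ((u.gradedAt V.1.1.1 V.1.1.2 V.1.2.1 V.1.2.2 V.2).map_mem hmem) hd).ge hd'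
  exact ⟨V.1.1.1, V.1.1.2, V.1.2.1, V.1.2.2, V.2, d, hd, _, hmem, w,
    congrArg (fun t => (RelProj.emb p' chart' V.1.2.1 V.1.2.2).base t) hw⟩

theorem partA (hz : RelCone.IsPolyOver 𝒮 𝒮h ι z) (u : RelProj.QGrHom q 𝒮 𝒮')
    (pC' : PC' ⟶ Y')
    (chartC' : ∀ (U : Y'.Opens) (hU : IsAffineOpen U),
      (((pC' ⁻¹ᵁ U : PC'.Opens) : Scheme.{u}) ≅ Proj (𝒮h'.deg U hU)))
    (uh : RelProj.QGrHom q 𝒮h 𝒮h')
    (huh : ∀ U : Y.Opens, ι.hom.app (op U) ≫ uh.app U = u.app U ≫ ι'.hom.app (op (q ⁻¹ᵁ U)))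
    (p' : P' ⟶ Y')
    (chart' : ∀ (U : Y'.Opens) (hU : IsAffineOpen U),
      (((p' ⁻¹ᵁ U : P'.Opens) : Scheme.{u}) ≅ Proj (𝒮'.deg U hU)))
    (θ' : 𝒮h'.toQCAlg ⟶ 𝒮'.toQCAlg) (hθ' : RelProj.IsGradedHom θ') (hθι' : ι' ≫ θ' = 𝟙 _)
    (jX' : P' ⟶ PC')
    (hjX' : RelProj.IsProjQMap (RelProj.QGrHom.ofHom θ' hθ') pC' chartC' p' chart' jX') :
    jX'.base '' ((RelProj.domQ u p' chart' : P'.Opens) : Set P') ⊆
      ((RelProj.domQ uh pC' chartC' : PC'.Opens) : Set PC') := by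
  rintro _ ⟨x', hx', rfl⟩
  obtain ⟨U, hU, U', hU', hUU, d, hd, f₀, hf₀, w, hw⟩ := exists_chart_domQ u p' chart' x' hx'
  have hG : (ι.hom.app (op U)).hom f₀ ∈ 𝒮h.deg U hU d := hz.graded U hU d _ hf₀
  have hF : (uh.gradedAt U hU U' hU' hUU) ((ι.hom.app (op U)).hom f₀) ∈ 𝒮h'.deg U' hU' d :=
    (uh.gradedAt U hU U' hU' hUU).map_mem hG
  have h₂ : psi θ' hθ' U' hU' ((uh.gradedAt U hU U' hU' hUU) ((ι.hom.app (op U)).hom f₀)) =
      (u.gradedAt U hU U' hU' hUU) f₀ :=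
    (psi_apply θ' hθ' U' hU' _).trans
      ((congrArg (fun x => (θ'.hom.app (op U')).hom x) (S12157.uh_ι u uh huh U U' hUU f₀)).trans
        (S8297.θ_ι U' θ' hθι' _))
  obtain ⟨ρ₂, hρ₂, -⟩ := exists_cast hd _ _ h₂ ((psi θ' hθ' U' hU').map_mem hF)
    ((u.gradedAt U hU U' hU' hUU).map_mem hf₀)
  have E' := hjX'.2 U' hU' U' hU' (Groth.Agent.Helper22.RelProjTN.hle U') d hd _ hF
  have h1 : x' = (RelProj.awayEmb (RelProj.QGrHom.ofHom θ' hθ') p' chart' U' hU' U' hU'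
      (Groth.Agent.Helper22.RelProjTN.hle U') hd _ hF).base
        ((Spec.map (CommRingCat.ofHom ρ₂)).base w) := by
    rw [← hw]
    exact congrArg (fun t => (RelProj.emb p' chart' U' hU').base (t.base w)) hρ₂.symm
  have h2 := congrArg (fun t => t.base ((Spec.map (CommRingCat.ofHom ρ₂)).base w)) E'
  have h3 : jX'.base x' = (RelProj.emb pC' chartC' U' hU').base
      ((Proj.awayι (𝒮h'.deg U' hU') _ hF hd).base
        ((Spec.map (CommRingCat.ofHom (Away.map (psi θ' hθ' U' hU')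
          ((uh.gradedAt U hU U' hU' hUU) ((ι.hom.app (op U)).hom f₀))))).base
            ((Spec.map (CommRingCat.ofHom ρ₂)).base w))) :=
    (congrArg (fun t => jX'.base t) h1).trans h2
  have hmem : (RelProj.emb pC' chartC' U' hU').base
      ((Proj.awayι (𝒮h'.deg U' hU') _ hF hd).base
        ((Spec.map (CommRingCat.ofHom (Away.map (psi θ' hθ' U' hU')
          ((uh.gradedAt U hU U' hU' hUU) ((ι.hom.app (op U)).hom f₀))))).base
            ((Spec.map (CommRingCat.ofHom ρ₂)).base w))) ∈ RelProj.domQ uh pC' chartC' := by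
    refine Opens.mem_iSup.mpr ⟨⟨(⟨U, hU⟩, ⟨U', hU'⟩), hUU⟩, _, ?_, rfl⟩
    refine (RelCone.mem_domOpen _ _).mpr ⟨(ι.hom.app (op U)).hom f₀,
      S8309.irrelevant_of_pos 𝒮h U hU hd hG, ?_⟩
    have h : (Proj.awayι (𝒮h'.deg U' hU') _ hF hd).base
        ((Spec.map (CommRingCat.ofHom (Away.map (psi θ' hθ' U' hU')
          ((uh.gradedAt U hU U' hU' hUU) ((ι.hom.app (op U)).hom f₀))))).base
            ((Spec.map (CommRingCat.ofHom ρ₂)).base w)) ∈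
        (Proj.awayι (𝒮h'.deg U' hU') _ hF hd).opensRange := ⟨_, rfl⟩
    rw [Proj.opensRange_awayι] at h
    exact h
  have hfin : jX'.base x' ∈ RelProj.domQ uh pC' chartC' := by
    rw [h3]
    exact hmem
  exact hfin

theorem chart_eq2 (hz : RelCone.IsPolyOver 𝒮 𝒮h ι z)
    (u : RelProj.QGrHom q 𝒮 𝒮')
    (pC : PC ⟶ Y)
    (chartC : ∀ (U : Y.Opens) (hU : IsAffineOpen U),
      (((pC ⁻¹ᵁ U : PC.Opens) : Scheme.{u}) ≅ Proj (𝒮h.deg U hU)))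
    (pC' : PC' ⟶ Y')
    (chartC' : ∀ (U : Y'.Opens) (hU : IsAffineOpen U),
      (((pC' ⁻¹ᵁ U : PC'.Opens) : Scheme.{u}) ≅ Proj (𝒮h'.deg U hU)))
    (uh : RelProj.QGrHom q 𝒮h 𝒮h')
    (huh : ∀ U : Y.Opens, ι.hom.app (op U) ≫ uh.app U = u.app U ≫ ι'.hom.app (op (q ⁻¹ᵁ U)))
    (huhz : (uh.app ⊤).hom z = RelCone.restrictTop 𝒮h' z' (q ⁻¹ᵁ ⊤))
    (Φh : ((RelProj.domQ uh pC' chartC' : PC'.Opens) : Scheme.{u}) ⟶ PC)
    (hΦh : RelProj.IsProjQMapOn uh pC chartC pC' chartC' (RelProj.domQ uh pC' chartC') Φh)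
    (p : P ⟶ Y)
    (chart : ∀ (U : Y.Opens) (hU : IsAffineOpen U),
      (((p ⁻¹ᵁ U : P.Opens) : Scheme.{u}) ≅ Proj (𝒮.deg U hU)))
    (p' : P' ⟶ Y')
    (chart' : ∀ (U : Y'.Opens) (hU : IsAffineOpen U),
      (((p' ⁻¹ᵁ U : P'.Opens) : Scheme.{u}) ≅ Proj (𝒮'.deg U hU)))
    (Φ : ((RelProj.domQ u p' chart' : P'.Opens) : Scheme.{u}) ⟶ P)
    (hΦ : RelProj.IsProjQMapOn u p chart p' chart' (RelProj.domQ u p' chart') Φ)
    (θ : 𝒮h.toQCAlg ⟶ 𝒮.toQCAlg) (hθ : RelProj.IsGradedHom θ) (hθι : ι ≫ θ = 𝟙 _)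
    (hθz : (θ.hom.app (op ⊤)).hom z = 0)
    (jX : P ⟶ PC)
    (hjX : RelProj.IsProjQMap (RelProj.QGrHom.ofHom θ hθ) pC chartC p chart jX)
    (θ' : 𝒮h'.toQCAlg ⟶ 𝒮'.toQCAlg) (hθ' : RelProj.IsGradedHom θ') (hθι' : ι' ≫ θ' = 𝟙 _)
    (hθz' : (θ'.hom.app (op ⊤)).hom z' = 0)
    (jX' : P' ⟶ PC')
    (hjX' : RelProj.IsProjQMap (RelProj.QGrHom.ofHom θ' hθ') pC' chartC' p' chart' jX')
    (ε : ((RelProj.domQ u p' chart' : P'.Opens) : Scheme.{u}) ⟶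
      ((RelProj.domQ uh pC' chartC' : PC'.Opens) : Scheme.{u}))
    (hε : ε ≫ (RelProj.domQ uh pC' chartC').ι = (RelProj.domQ u p' chart').ι ≫ jX')
    (U : Y.Opens) (hU : IsAffineOpen U) (U' : Y'.Opens) (hU' : IsAffineOpen U')
    (hUU : U' ≤ q ⁻¹ᵁ U) (d : ℕ) (hd : 0 < d) (f₀ : 𝒮.presheaf.obj (op U))
    (hf₀ : f₀ ∈ 𝒮.deg U hU d)
    (hWu : Set.range (RelProj.awayEmb u p' chart' U hU U' hU' hUU hd f₀ hf₀).base ⊆
      Set.range (RelProj.domQ u p' chart').ι.base) :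
    IsOpenImmersion.lift (RelProj.domQ u p' chart').ι
        (RelProj.awayEmb u p' chart' U hU U' hU' hUU hd f₀ hf₀) hWu ≫ ε ≫ Φh =
      IsOpenImmersion.lift (RelProj.domQ u p' chart').ι
        (RelProj.awayEmb u p' chart' U hU U' hU' hUU hd f₀ hf₀) hWu ≫ Φ ≫ jX := by
  have hG : (ι.hom.app (op U)).hom f₀ ∈ 𝒮h.deg U hU d := hz.graded U hU d _ hf₀
  have hF : (uh.gradedAt U hU U' hU' hUU) ((ι.hom.app (op U)).hom f₀) ∈ 𝒮h'.deg U' hU' d :=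
    (uh.gradedAt U hU U' hU' hUU).map_mem hG
  have h₁ : psi θ hθ U hU ((ι.hom.app (op U)).hom f₀) = f₀ :=
    (psi_apply θ hθ U hU _).trans (S8297.θ_ι U θ hθι f₀)
  have h₂ : psi θ' hθ' U' hU' ((uh.gradedAt U hU U' hU' hUU) ((ι.hom.app (op U)).hom f₀)) =
      (u.gradedAt U hU U' hU' hUU) f₀ :=
    (psi_apply θ' hθ' U' hU' _).trans
      ((congrArg (fun x => (θ'.hom.app (op U')).hom x) (S12157.uh_ι u uh huh U U' hUU f₀)).trans
        (S8297.θ_ι U' θ' hθι' _))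
  obtain ⟨ρ₁, hρ₁, hρ₁mk⟩ := exists_cast hd _ _ h₁ ((psi θ hθ U hU).map_mem hG) hf₀
  obtain ⟨ρ₂, hρ₂, hρ₂mk⟩ := exists_cast hd _ _ h₂ ((psi θ' hθ' U' hU').map_mem hF)
    ((u.gradedAt U hU U' hU' hUU).map_mem hf₀)
  have hWuh := RelProj.range_awayEmb_subset_domQ uh pC' chartC' U hU U' hU' hUU hd _ hG
  have E_Φ := hΦ U hU U' hU' hUU d hd f₀ hf₀ hWu
  have E_jX := hjX.2 U hU U hU (Groth.Agent.Helper22.RelProjTN.hle U) d hd _ hG
  have E_jX' := hjX'.2 U' hU' U' hU' (Groth.Agent.Helper22.RelProjTN.hle U') d hd _ hF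
  have E_Φh := hΦh U hU U' hU' hUU d hd _ hG hWuh
  simp only [RelProj.awayEmb, Category.assoc] at E_jX E_jX'
  -- the ring-level identity
  have hc : ∀ a : 𝒮h.presheaf.obj (op U),
      (psi θ' hθ' U' hU') ((uh.gradedAt U hU U' hU' hUU) a) =
        (u.gradedAt U hU U' hU' hUU) ((psi θ hθ U hU) a) := by
    intro a
    refine (psi_apply θ' hθ' U' hU' _).trans ?_
    refine (θ_comm hz u uh huh huhz θ hθι hθz θ' hθι' hθz' U hU U' hUU a).trans ?_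
    exact (congrArg (fun x => (u.appLE U U' hUU).hom x) (psi_apply θ hθ U hU a)).symm
  have R_eq : CommRingCat.ofHom (Away.map (uh.gradedAt U hU U' hU' hUU)
        ((ι.hom.app (op U)).hom f₀)) ≫
      CommRingCat.ofHom (Away.map (psi θ' hθ' U' hU')
        ((uh.gradedAt U hU U' hU' hUU) ((ι.hom.app (op U)).hom f₀))) ≫
      CommRingCat.ofHom ρ₂ =
      CommRingCat.ofHom (Away.map (psi θ hθ U hU) ((ι.hom.app (op U)).hom f₀)) ≫
        CommRingCat.ofHom ρ₁ ≫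
        CommRingCat.ofHom (Away.map (u.gradedAt U hU U' hU' hUU) f₀) := by
    refine CommRingCat.hom_ext (RingHom.ext fun x => ?_)
    obtain ⟨n, a, ha, rfl⟩ := Away.mk_surjective (𝒮h.deg U hU) hG x
    show ρ₂ (Away.map (psi θ' hθ' U' hU') _ (Away.map (uh.gradedAt U hU U' hU' hUU) _
        (Away.mk (𝒮h.deg U hU) hG n a ha))) =
      Away.map (u.gradedAt U hU U' hU' hUU) f₀ (ρ₁ (Away.map (psi θ hθ U hU) _
        (Away.mk (𝒮h.deg U hU) hG n a ha)))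
    simp only [Away.map_mk, hρ₂mk, hρ₁mk]
    apply HomogeneousLocalization.val_injective
    rw [Away.val_mk, Away.val_mk, hc a]
  have S_eq := congrArg Spec.map R_eq
  simp only [Spec.map_comp, Category.assoc] at S_eq
  have hR : IsOpenImmersion.lift (RelProj.domQ u p' chart').ι
      (RelProj.awayEmb u p' chart' U hU U' hU' hUU hd f₀ hf₀) hWu ≫ Φ ≫ jX =
      Spec.map (CommRingCat.ofHom (Away.map (u.gradedAt U hU U' hU' hUU) f₀)) ≫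
        Spec.map (CommRingCat.ofHom ρ₁) ≫
        Spec.map (CommRingCat.ofHom (Away.map (psi θ hθ U hU) ((ι.hom.app (op U)).hom f₀))) ≫
        Proj.awayι (𝒮h.deg U hU) ((ι.hom.app (op U)).hom f₀) hG hd ≫
        RelProj.emb pC chartC U hU := by
    rw [reassoc_of% E_Φ, ← hρ₁, Category.assoc, E_jX]
  have hL1 : IsOpenImmersion.lift (RelProj.domQ u p' chart').ι
      (RelProj.awayEmb u p' chart' U hU U' hU' hUU hd f₀ hf₀) hWu ≫ ε =
      Spec.map (CommRingCat.ofHom ρ₂) ≫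
        Spec.map (CommRingCat.ofHom (Away.map (psi θ' hθ' U' hU')
          ((uh.gradedAt U hU U' hU' hUU) ((ι.hom.app (op U)).hom f₀)))) ≫
        IsOpenImmersion.lift (RelProj.domQ uh pC' chartC').ι
          (RelProj.awayEmb uh pC' chartC' U hU U' hU' hUU hd ((ι.hom.app (op U)).hom f₀) hG)
          hWuh := by
    rw [← cancel_mono (RelProj.domQ uh pC' chartC').ι]
    simp only [Category.assoc]
    rw [hε, IsOpenImmersion.lift_fac_assoc, IsOpenImmersion.lift_fac]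
    simp only [RelProj.awayEmb, Category.assoc]
    rw [← hρ₂, Category.assoc, E_jX']
  rw [reassoc_of% hL1, E_Φh, hR]
  exact (reassoc_of% S_eq) _

end Main


/-- Let q : Y' → Y be a morphism, φ : 𝒮 → q_*𝒮' a graded q-morphism of quasi-coherent positively graded
algebras with 𝒮_0 = O_Y, 𝒮'_0 = O_{Y'}, φ̂ : 𝒮[z] → q_*𝒮'[z] its extension with φ̂(z) = z, Ĉ =
Proj(𝒮[z]), Ĉ' = Proj(𝒮'[z]) the projective cones with pointed cones Ê, Ê', and Φ̂ = Proj(φ̂) :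
G(φ̂) → Ĉ; let Proj(φ) : G(φ) → X = Proj(𝒮) be the morphism induced by φ on G(φ) ⊆ X' = Proj(𝒮'),
and j : X → Ĉ, j' : X' → Ĉ' the canonical closed immersions at infinity (Proj of the graded
retractions 𝒮[z] → 𝒮, 𝒮'[z] → 𝒮' killing z). Then j'(G(φ)) ⊆ G(φ̂) and the square formed by Proj(φ),
j', j and Φ̂ commutes. -/
theorem result {Y Y' PC PC' : Scheme.{u}} (q : Y' ⟶ Y)
    (𝒮 : RelProj.QCGrAlg Y) (𝒮' : RelProj.QCGrAlg Y') (h0 : RelCone.StrZeroBij 𝒮) (h0' : RelCone.StrZeroBij 𝒮')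
    (u : RelProj.QGrHom q 𝒮 𝒮')
    (𝒮h : RelProj.QCGrAlg Y) (ι : 𝒮.toQCAlg ⟶ 𝒮h.toQCAlg) (z : 𝒮h.presheaf.obj (op ⊤))
    (hz : RelCone.IsPolyOver 𝒮 𝒮h ι z)
    (pC : PC ⟶ Y) (chartC : ∀ (U : Y.Opens) (hU : IsAffineOpen U), (((pC ⁻¹ᵁ U : PC.Opens) : Scheme.{u}) ≅ Proj (𝒮h.deg U hU)))
    (hC : RelProj.IsRelProj 𝒮h pC chartC)
    (𝒮h' : RelProj.QCGrAlg Y') (ι' : 𝒮'.toQCAlg ⟶ 𝒮h'.toQCAlg) (z' : 𝒮h'.presheaf.obj (op ⊤))
    (hz' : RelCone.IsPolyOver 𝒮' 𝒮h' ι' z')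
    (pC' : PC' ⟶ Y') (chartC' : ∀ (U : Y'.Opens) (hU : IsAffineOpen U), (((pC' ⁻¹ᵁ U : PC'.Opens) : Scheme.{u}) ≅ Proj (𝒮h'.deg U hU)))
    (hC' : RelProj.IsRelProj 𝒮h' pC' chartC')
    (uh : RelProj.QGrHom q 𝒮h 𝒮h')
    (huh : ∀ U : Y.Opens, ι.hom.app (op U) ≫ uh.app U = u.app U ≫ ι'.hom.app (op (q ⁻¹ᵁ U)))
    (huhz : (uh.app ⊤).hom z = RelCone.restrictTop 𝒮h' z' (q ⁻¹ᵁ ⊤))
    (Φh : ((RelProj.domQ uh pC' chartC' : PC'.Opens) : Scheme.{u}) ⟶ PC)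
    (hΦh : RelProj.IsProjQMapOn uh pC chartC pC' chartC' (RelProj.domQ uh pC' chartC') Φh)
    {P P' : Scheme.{u}} (p : P ⟶ Y) (chart : ∀ (U : Y.Opens) (hU : IsAffineOpen U), (((p ⁻¹ᵁ U : P.Opens) : Scheme.{u}) ≅ Proj (𝒮.deg U hU)))
    (hP : RelProj.IsRelProj 𝒮 p chart)
    (p' : P' ⟶ Y') (chart' : ∀ (U : Y'.Opens) (hU : IsAffineOpen U), (((p' ⁻¹ᵁ U : P'.Opens) : Scheme.{u}) ≅ Proj (𝒮'.deg U hU)))
    (hP' : RelProj.IsRelProj 𝒮' p' chart')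
    (Φ : ((RelProj.domQ u p' chart' : P'.Opens) : Scheme.{u}) ⟶ P)
    (hΦ : RelProj.IsProjQMapOn u p chart p' chart' (RelProj.domQ u p' chart') Φ)
    (θ : 𝒮h.toQCAlg ⟶ 𝒮.toQCAlg) (hθ : RelProj.IsGradedHom θ) (hθι : ι ≫ θ = 𝟙 _)
    (hθz : (θ.hom.app (op ⊤)).hom z = 0)
    (jX : P ⟶ PC) (hjX : RelProj.IsProjQMap (RelProj.QGrHom.ofHom θ hθ) pC chartC p chart jX)
    (θ' : 𝒮h'.toQCAlg ⟶ 𝒮'.toQCAlg) (hθ' : RelProj.IsGradedHom θ') (hθι' : ι' ≫ θ' = 𝟙 _)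
    (hθz' : (θ'.hom.app (op ⊤)).hom z' = 0)
    (jX' : P' ⟶ PC') (hjX' : RelProj.IsProjQMap (RelProj.QGrHom.ofHom θ' hθ') pC' chartC' p' chart' jX')
    (T : Scheme.{u}) (d : T ⟶ ((RelProj.domQ u p' chart' : P'.Opens) : Scheme.{u}))
    (e : T ⟶ ((RelProj.domQ uh pC' chartC' : PC'.Opens) : Scheme.{u}))
    (hde : d ≫ (RelProj.domQ u p' chart').ι ≫ jX' = e ≫ (RelProj.domQ uh pC' chartC').ι) :
    jX'.base '' ((RelProj.domQ u p' chart' : P'.Opens) : Set P') ⊆ ((RelProj.domQ uh pC' chartC' : PC'.Opens) : Set PC') ∧ e ≫ Φh = d ≫ Φ ≫ jX := by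
  have hA := partA hz u pC' chartC' uh huh p' chart' θ' hθ' hθι' jX' hjX'
  refine ⟨hA, ?_⟩
  have hrange : Set.range ((RelProj.domQ u p' chart').ι ≫ jX') ⊆
      Set.range (RelProj.domQ uh pC' chartC').ι := by
    rintro _ ⟨x, rfl⟩
    rw [Scheme.Opens.range_ι]
    exact hA ⟨(RelProj.domQ u p' chart').ι.base x, S8309.ι_mem_opens _ x, rfl⟩
  have hε : IsOpenImmersion.lift (RelProj.domQ uh pC' chartC').ι
      ((RelProj.domQ u p' chart').ι ≫ jX') hrange ≫ (RelProj.domQ uh pC' chartC').ι =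
      (RelProj.domQ u p' chart').ι ≫ jX' := IsOpenImmersion.lift_fac _ _ _
  have he : e = d ≫ IsOpenImmersion.lift (RelProj.domQ uh pC' chartC').ι
      ((RelProj.domQ u p' chart').ι ≫ jX') hrange := by
    rw [← cancel_mono (RelProj.domQ uh pC' chartC').ι, Category.assoc, hε, ← hde]
  rw [he, Category.assoc]
  congr 1
  refine Scheme.hom_ext_of_forall _ _ fun x => ?_
  obtain ⟨U, hU, U', hU', hUU, d₀, hd₀, f₀, hf₀, w, hw⟩ :=
    exists_chart_domQ u p' chart' _ (S8309.ι_mem_opens _ x)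
  have hWu := RelProj.range_awayEmb_subset_domQ u p' chart' U hU U' hU' hUU hd₀ f₀ hf₀
  haveI h1 : IsOpenImmersion (IsOpenImmersion.lift (RelProj.domQ u p' chart').ι
      (RelProj.awayEmb u p' chart' U hU U' hU' hUU hd₀ f₀ hf₀) hWu ≫
        (RelProj.domQ u p' chart').ι) := by
    rw [IsOpenImmersion.lift_fac]
    infer_instance
  haveI h2 : IsOpenImmersion (IsOpenImmersion.lift (RelProj.domQ u p' chart').ι
      (RelProj.awayEmb u p' chart' U hU U' hU' hUU hd₀ f₀ hf₀) hWu) :=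
    IsOpenImmersion.of_comp _ (RelProj.domQ u p' chart').ι
  refine ⟨(IsOpenImmersion.lift (RelProj.domQ u p' chart').ι
      (RelProj.awayEmb u p' chart' U hU U' hU' hUU hd₀ f₀ hf₀) hWu).opensRange, ⟨w, ?_⟩, ?_⟩
  · apply (RelProj.domQ u p' chart').ι.isOpenEmbedding.injective
    exact (congrArg (fun t => t.base w) (IsOpenImmersion.lift_fac (RelProj.domQ u p' chart').ι
      (RelProj.awayEmb u p' chart' U hU U' hU' hUU hd₀ f₀ hf₀) hWu)).trans hw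
  · rw [← (IsOpenImmersion.lift (RelProj.domQ u p' chart').ι
      (RelProj.awayEmb u p' chart' U hU U' hU' hUU hd₀ f₀ hf₀) hWu).isoOpensRange_inv_comp,
      Category.assoc, Category.assoc,
      chart_eq2 hz u pC chartC pC' chartC' uh huh huhz Φh hΦh p chart p' chart' Φ hΦ
        θ hθ hθι hθz jX hjX θ' hθ' hθι' hθz' jX' hjX' _ hε U hU U' hU' hUU d₀ hd₀ f₀ hf₀ hWu]

end Groth.Agent.S12158
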