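import Groth.Statements.S12156
import Groth.Agent.Lib.Helper22.RelConeVertex
import Groth.Agent.Lib.Helper22.RelProjTN
import Groth.Agent.S8298
import Groth.Agent.S8297
import Groth.Agent.S8309
import Groth.Agent.S12157
import Groth.Agent.S12158

set_option autoImplicit false
universe u
open CategoryTheory CategoryTheory.Limits AlgebraicGeometry TopologicalSpace Opposite
open scoped HomogeneousIdeal
noncomputable section
open EGA2

namespace Groth.Agent.S12156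

open Groth.Agent.Helper22.RelConeVertex Groth.Agent.Helper22.RelProjTN
  Groth.Agent.Helper22.RelConeLoc HomogeneousLocalization

section Alg

theorem exists_hom_of_mem_domOpen {A B : Type u} [CommRing A] [CommRing B]
    {𝒜 : ℕ → AddSubgroup A} {ℬ : ℕ → AddSubgroup B} [GradedRing 𝒜] [GradedRing ℬ]
    (ψ : 𝒜 →+*ᵍ ℬ) (Q : Proj ℬ) (hQ : Q ∈ RelCone.domOpen ψ) :
    ∃ (e : ℕ) (g : A), 0 < e ∧ g ∈ 𝒜 e ∧ ψ g ∉ Q.asHomogeneousIdeal.toIdeal := by
  classical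
  obtain ⟨f, hf, hfy⟩ := (RelCone.mem_domOpen ψ Q).mp hQ
  by_contra hcon
  apply hfy
  have hf' : f ∈ HomogeneousIdeal.irrelevant 𝒜 := hf
  rw [HomogeneousIdeal.mem_irrelevant_iff, GradedRing.proj_apply] at hf'
  have hsum : f = ∑ i ∈ (DirectSum.decompose 𝒜 f).support,
      (DirectSum.decompose 𝒜 f i : A) := (DirectSum.sum_support_decompose 𝒜 f).symm
  show ψ.toRingHom f ∈ Q.asHomogeneousIdeal.toIdeal
  rw [hsum, map_sum]
  refine Ideal.sum_mem _ fun i _ => ?_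
  rcases Nat.eq_zero_or_pos i with hi | hi
  · subst hi
    rw [hf', map_zero]
    exact zero_mem _
  · by_contra h
    exact hcon ⟨i, _, hi, SetLike.coe_mem _, h⟩

end Alg

section Chart

variable {Y PC : Scheme.{u}} {𝒮 𝒮h : RelProj.QCGrAlg Y}
  {ι : 𝒮.toQCAlg ⟶ 𝒮h.toQCAlg} {z : 𝒮h.presheaf.obj (op ⊤)}

theorem irr_le_of_eq (𝒜 : RelProj.QCGrAlg Y) (U : Y.Opens) (hU : IsAffineOpen U) (r : Γ(Y, U))
    (W : Y.Opens) (hW : IsAffineOpen W) (e : W = Y.basicOpen r) (hWU : W ≤ U) :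
    (𝒜.deg W hW)₊ ≤ ((𝒜.deg U hU)₊).map (𝒜.res hU hW hWU) := by
  subst e
  exact 𝒜.irrelevant_le_map U hU r

theorem res_emb_eq {pC : PC ⟶ Y}
    {chartC : ∀ (U : Y.Opens) (hU : IsAffineOpen U),
      (((pC ⁻¹ᵁ U : PC.Opens) : Scheme.{u}) ≅ Proj (𝒮h.deg U hU))}
    (hPC : RelProj.IsRelProj 𝒮h pC chartC) (U : Y.Opens) (hU : IsAffineOpen U) (r : Γ(Y, U))
    (W : Y.Opens) (hW : IsAffineOpen W) (e : W = Y.basicOpen r) (hWU : W ≤ U)
    (hirr : (𝒮h.deg W hW)₊ ≤ ((𝒮h.deg U hU)₊).map (𝒮h.res hU hW hWU)) :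
    Proj.map (𝒮h.res hU hW hWU) hirr ≫ RelProj.emb pC chartC U hU =
      RelProj.emb pC chartC W hW := by
  subst e
  exact RelProj.map_res_emb hPC U hU r

theorem map_mem_domOpen_iff (hz : RelCone.IsPolyOver 𝒮 𝒮h ι z) (U : Y.Opens)
    (hU : IsAffineOpen U) (r : Γ(Y, U))
    (W : Y.Opens) (hW : IsAffineOpen W) (e : W = Y.basicOpen r) (hWU : W ≤ U)
    (hirr : (𝒮h.deg W hW)₊ ≤ ((𝒮h.deg U hU)₊).map (𝒮h.res hU hW hWU))
    (Q : Proj (𝒮h.deg W hW)) :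
    (Proj.map (𝒮h.res hU hW hWU) hirr).base Q ∈
        RelCone.domOpen (RelProj.gradedHomAt ι hz.graded U hU) ↔
      Q ∈ RelCone.domOpen (RelProj.gradedHomAt ι hz.graded W hW) := by
  have hnat : ∀ f : 𝒮.presheaf.obj (op U),
      (ι.hom.app (op W)).hom ((𝒮.presheaf.map (homOfLE hWU).op).hom f) =
      (𝒮h.presheaf.map (homOfLE hWU).op).hom ((ι.hom.app (op U)).hom f) :=
    fun f => congrArg (fun t => t.hom f) (ι.hom.naturality (homOfLE hWU).op)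
  refine (RelCone.mem_domOpen _ _).trans (Iff.trans ?_ (RelCone.mem_domOpen _ _).symm)
  constructor
  · rintro ⟨f, hf, hfQ⟩
    refine ⟨𝒮.res hU hW hWU f, map_mem_irrelevant (𝒮.res hU hW hWU) hf, ?_⟩
    intro h
    apply hfQ
    show (𝒮h.presheaf.map (homOfLE hWU).op).hom ((ι.hom.app (op U)).hom f) ∈
      Q.asHomogeneousIdeal.toIdeal
    rw [← hnat f]
    exact h
  · rintro ⟨g, hg, hgQ⟩
    by_contra hcon
    apply hgQ
    have hall : ∀ f ∈ ((𝒮.deg U hU)₊).toIdeal, (𝒮.res hU hW hWU) f ∈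
        Ideal.comap (ι.hom.app (op W)).hom Q.asHomogeneousIdeal.toIdeal := by
      intro f hf
      by_contra h
      refine hcon ⟨f, hf, fun h' => h ?_⟩
      show (ι.hom.app (op W)).hom ((𝒮.presheaf.map (homOfLE hWU).op).hom f) ∈
        Q.asHomogeneousIdeal.toIdeal
      rw [hnat f]
      exact h'
    have hmap : Ideal.map (𝒮.res hU hW hWU) ((𝒮.deg U hU)₊).toIdeal ≤
        Ideal.comap (ι.hom.app (op W)).hom Q.asHomogeneousIdeal.toIdeal :=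
      Ideal.map_le_iff_le_comap.mpr hall
    exact hmap (irr_le_of_eq 𝒮 U hU r W hW e hWU hg)

theorem mem_domOpen_of_emb_eq (hz : RelCone.IsPolyOver 𝒮 𝒮h ι z) (pC : PC ⟶ Y)
    (chartC : ∀ (U : Y.Opens) (hU : IsAffineOpen U),
      (((pC ⁻¹ᵁ U : PC.Opens) : Scheme.{u}) ≅ Proj (𝒮h.deg U hU)))
    (hPC : RelProj.IsRelProj 𝒮h pC chartC)
    (U : Y.Opens) (hU : IsAffineOpen U) (V : Y.Opens) (hV : IsAffineOpen V)
    (Q : Proj (𝒮h.deg U hU)) (QV : Proj (𝒮h.deg V hV))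
    (h : (RelProj.emb pC chartC U hU).base Q = (RelProj.emb pC chartC V hV).base QV) :
    Q ∈ RelCone.domOpen (RelProj.gradedHomAt ι hz.graded U hU) ↔
      QV ∈ RelCone.domOpen (RelProj.gradedHomAt ι hz.graded V hV) := by
  have hxU : pC.base ((RelProj.emb pC chartC U hU).base Q) ∈ U := emb_mem pC chartC U hU Q
  have hxV : pC.base ((RelProj.emb pC chartC U hU).base Q) ∈ V := by
    rw [h]
    exact emb_mem pC chartC V hV QV
  obtain ⟨r, s, e, hxr⟩ := exists_basicOpen_le_affine_inter hU hV _ ⟨hxU, hxV⟩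
  have hxs : pC.base ((RelProj.emb pC chartC U hU).base Q) ∈ Y.basicOpen s := e ▸ hxr
  have hW : IsAffineOpen (Y.basicOpen s) := hV.basicOpen s
  have hWU : Y.basicOpen s ≤ U := e ▸ Y.basicOpen_le r
  obtain ⟨QW, hQW⟩ : ∃ QW, (RelProj.emb pC chartC (Y.basicOpen s) hW).base QW =
      (RelProj.emb pC chartC U hU).base Q := ⟨_, emb_chart_hom pC chartC _ hW _ hxs⟩
  have hirrU := irr_le_of_eq 𝒮h U hU r _ hW e.symm hWU
  have hirrV := 𝒮h.irrelevant_le_map V hV s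
  have h1 : (Proj.map (𝒮h.res hU hW hWU) hirrU).base QW = Q := by
    apply (RelProj.emb pC chartC U hU).isOpenEmbedding.injective
    exact (congrArg (fun t => t.base QW) (res_emb_eq hPC U hU r _ hW e.symm hWU hirrU)).trans hQW
  have h2 : (Proj.map (𝒮h.res hV hW (Y.basicOpen_le s)) hirrV).base QW = QV := by
    apply (RelProj.emb pC chartC V hV).isOpenEmbedding.injective
    exact (congrArg (fun t => t.base QW) (RelProj.map_res_emb hPC V hV s)).trans (hQW.trans h)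
  rw [← h1, ← h2]
  exact (map_mem_domOpen_iff hz U hU r _ hW e.symm hWU hirrU QW).trans
    (map_mem_domOpen_iff hz V hV s _ hW rfl (Y.basicOpen_le s) hirrV QW).symm

theorem emb_mem_pointedProjCone_iff (hz : RelCone.IsPolyOver 𝒮 𝒮h ι z) (pC : PC ⟶ Y)
    (chartC : ∀ (U : Y.Opens) (hU : IsAffineOpen U),
      (((pC ⁻¹ᵁ U : PC.Opens) : Scheme.{u}) ≅ Proj (𝒮h.deg U hU)))
    (hPC : RelProj.IsRelProj 𝒮h pC chartC)
    (U : Y.Opens) (hU : IsAffineOpen U) (Q : Proj (𝒮h.deg U hU)) :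
    (RelProj.emb pC chartC U hU).base Q ∈ RelCone.pointedProjCone 𝒮 hz pC chartC ↔
      Q ∈ RelCone.domOpen (RelProj.gradedHomAt ι hz.graded U hU) := by
  constructor
  · intro h
    obtain ⟨V, hV⟩ := Opens.mem_iSup.mp h
    obtain ⟨QV, hQV, heq⟩ := hV
    exact (mem_domOpen_of_emb_eq hz pC chartC hPC U hU V.1 V.2 Q QV heq.symm).mpr hQV
  · intro h
    exact Opens.mem_iSup.mpr ⟨⟨U, hU⟩, Q, h, rfl⟩

theorem range_awayEmb_subset_cone (hz : RelCone.IsPolyOver 𝒮 𝒮h ι z) (pC : PC ⟶ Y)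
    (chartC : ∀ (U : Y.Opens) (hU : IsAffineOpen U),
      (((pC ⁻¹ᵁ U : PC.Opens) : Scheme.{u}) ≅ Proj (𝒮h.deg U hU)))
    (U : Y.Opens) (hU : IsAffineOpen U) {e : ℕ} (he : 0 < e) (g : 𝒮.presheaf.obj (op U))
    (hg : g ∈ 𝒮.deg U hU e) :
    Set.range (RelProj.awayEmb (RelProj.QGrHom.ofHom ι hz.graded) pC chartC U hU U hU
      (Groth.Agent.Helper22.RelProjTN.hle U) he g hg).base ⊆
      Set.range (RelCone.pointedProjCone 𝒮 hz pC chartC).ι.base := by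
  rw [Scheme.Opens.range_ι]
  rintro _ ⟨v, rfl⟩
  show (RelProj.emb pC chartC U hU).base
    ((Proj.awayι (𝒮h.deg U hU) (psi ι hz.graded U hU g)
      ((psi ι hz.graded U hU).map_mem hg) he).base v) ∈ RelCone.pointedProjCone 𝒮 hz pC chartC
  refine Opens.mem_iSup.mpr ⟨⟨U, hU⟩, _, ?_, rfl⟩
  refine (RelCone.mem_domOpen _ _).mpr ⟨g, S8309.irrelevant_of_pos 𝒮 U hU he hg, ?_⟩
  have h : (Proj.awayι (𝒮h.deg U hU) (psi ι hz.graded U hU g)
      ((psi ι hz.graded U hU).map_mem hg) he).base v ∈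
      (Proj.awayι (𝒮h.deg U hU) (psi ι hz.graded U hU g)
        ((psi ι hz.graded U hU).map_mem hg) he).opensRange := ⟨v, rfl⟩
  rw [Proj.opensRange_awayι] at h
  intro h'
  apply h
  have key : ∀ (I : HomogeneousIdeal (𝒮h.deg U hU)),
      (RelProj.gradedHomAt ι hz.graded U hU) g ∈ I → psi ι hz.graded U hU g ∈ I := by
    intro I hI
    rw [psi_apply ι hz.graded U hU g]
    exact hI
  exact key _ h'

end Chart

section Main

variable {Y Y' PC PC' P P' : Scheme.{u}} {q : Y' ⟶ Y} {𝒮 : RelProj.QCGrAlg Y}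
  {𝒮' : RelProj.QCGrAlg Y'}
  {𝒮h : RelProj.QCGrAlg Y} {ι : 𝒮.toQCAlg ⟶ 𝒮h.toQCAlg} {z : 𝒮h.presheaf.obj (op ⊤)}
  {𝒮h' : RelProj.QCGrAlg Y'} {ι' : 𝒮'.toQCAlg ⟶ 𝒮h'.toQCAlg} {z' : 𝒮h'.presheaf.obj (op ⊤)}

theorem local_data (hz : RelCone.IsPolyOver 𝒮 𝒮h ι z) (hz' : RelCone.IsPolyOver 𝒮' 𝒮h' ι' z')
    (u : RelProj.QGrHom q 𝒮 𝒮')
    (pC : PC ⟶ Y)
    (chartC : ∀ (U : Y.Opens) (hU : IsAffineOpen U),
      (((pC ⁻¹ᵁ U : PC.Opens) : Scheme.{u}) ≅ Proj (𝒮h.deg U hU)))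
    (hC : RelProj.IsRelProj 𝒮h pC chartC)
    (pC' : PC' ⟶ Y')
    (chartC' : ∀ (U : Y'.Opens) (hU : IsAffineOpen U),
      (((pC' ⁻¹ᵁ U : PC'.Opens) : Scheme.{u}) ≅ Proj (𝒮h'.deg U hU)))
    (uh : RelProj.QGrHom q 𝒮h 𝒮h')
    (huh : ∀ U : Y.Opens, ι.hom.app (op U) ≫ uh.app U = u.app U ≫ ι'.hom.app (op (q ⁻¹ᵁ U)))
    (Φh : ((RelProj.domQ uh pC' chartC' : PC'.Opens) : Scheme.{u}) ⟶ PC)
    (hΦh : RelProj.IsProjQMapOn uh pC chartC pC' chartC' (RelProj.domQ uh pC' chartC') Φh)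
    (p : P ⟶ Y)
    (chart : ∀ (U : Y.Opens) (hU : IsAffineOpen U),
      (((p ⁻¹ᵁ U : P.Opens) : Scheme.{u}) ≅ Proj (𝒮.deg U hU)))
    (p' : P' ⟶ Y')
    (chart' : ∀ (U : Y'.Opens) (hU : IsAffineOpen U),
      (((p' ⁻¹ᵁ U : P'.Opens) : Scheme.{u}) ≅ Proj (𝒮'.deg U hU)))
    (r : ((RelCone.pointedProjCone 𝒮 hz pC chartC : PC.Opens) : Scheme.{u}) ⟶ P)
    (hr : RelProj.IsProjQMapOn (RelProj.QGrHom.ofHom ι hz.graded) p chart pC chartC
      (RelCone.pointedProjCone 𝒮 hz pC chartC) r)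
    (r' : ((RelCone.pointedProjCone 𝒮' hz' pC' chartC' : PC'.Opens) : Scheme.{u}) ⟶ P')
    (hr' : RelProj.IsProjQMapOn (RelProj.QGrHom.ofHom ι' hz'.graded) p' chart' pC' chartC'
      (RelCone.pointedProjCone 𝒮' hz' pC' chartC') r')
    (T : Scheme.{u})
    (a : T ⟶ ((RelCone.pointedProjCone 𝒮' hz' pC' chartC' : PC'.Opens) : Scheme.{u}))
    (b : T ⟶ ((RelProj.domQ uh pC' chartC' : PC'.Opens) : Scheme.{u}))
    (c : T ⟶ ((RelCone.pointedProjCone 𝒮 hz pC chartC : PC.Opens) : Scheme.{u}))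
    (hab : a ≫ (RelCone.pointedProjCone 𝒮' hz' pC' chartC').ι =
      b ≫ (RelProj.domQ uh pC' chartC').ι)
    (hbc : b ≫ Φh = c ≫ (RelCone.pointedProjCone 𝒮 hz pC chartC).ι) (t : T) :
    ∃ (N : T.Opens), t ∈ N ∧ ∃ (U : Y.Opens) (hU : IsAffineOpen U) (U' : Y'.Opens)
      (hU' : IsAffineOpen U') (hUU : U' ≤ q ⁻¹ᵁ U) (e : ℕ) (he : 0 < e)
      (g : 𝒮.presheaf.obj (op U)) (hg : g ∈ 𝒮.deg U hU e)
      (γ : N.toScheme ⟶ Spec (CommRingCat.of (Away (𝒮'.deg U' hU')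
        (u.gradedAt U hU U' hU' hUU g)))),
      N.ι ≫ a ≫ r' = γ ≫ RelProj.awayEmb u p' chart' U hU U' hU' hUU he g hg ∧
      N.ι ≫ c ≫ r = γ ≫ Spec.map (CommRingCat.ofHom (Away.map (u.gradedAt U hU U' hU' hUU) g)) ≫
        Proj.awayι (𝒮.deg U hU) g hg he ≫ RelProj.emb p chart U hU := by
  classical
  have hx' : (RelProj.domQ uh pC' chartC').ι.base (b.base t) ∈ RelProj.domQ uh pC' chartC' :=
    S8309.ι_mem_opens _ _
  obtain ⟨U, hU, U', hU', hUU, d, hd, F₀, hF₀, w₀, hw₀⟩ :=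
    S12158.exists_chart_domQ uh pC' chartC' _ hx'
  have hW₀ := RelProj.range_awayEmb_subset_domQ uh pC' chartC' U hU U' hU' hUU hd F₀ hF₀
  have hb0 : b.base t = (IsOpenImmersion.lift (RelProj.domQ uh pC' chartC').ι
      (RelProj.awayEmb uh pC' chartC' U hU U' hU' hUU hd F₀ hF₀) hW₀).base w₀ := by
    apply (RelProj.domQ uh pC' chartC').ι.isOpenEmbedding.injective
    exact ((congrArg (fun s => s.base w₀) (IsOpenImmersion.lift_fac
      (RelProj.domQ uh pC' chartC').ι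
      (RelProj.awayEmb uh pC' chartC' U hU U' hU' hUU hd F₀ hF₀) hW₀)).trans hw₀).symm
  have E₀ := hΦh U hU U' hU' hUU d hd F₀ hF₀ hW₀
  obtain ⟨Q, hQ⟩ : ∃ Q, (Proj.awayι (𝒮h.deg U hU) F₀ hF₀ hd).base
      ((Spec.map (CommRingCat.ofHom (Away.map (uh.gradedAt U hU U' hU' hUU) F₀))).base w₀) = Q :=
    ⟨_, rfl⟩
  have hΦb : Φh.base (b.base t) = (RelProj.emb pC chartC U hU).base Q := by
    rw [hb0, ← hQ]
    exact congrArg (fun s => s.base w₀) E₀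
  have hQE : (RelProj.emb pC chartC U hU).base Q ∈ RelCone.pointedProjCone 𝒮 hz pC chartC := by
    rw [← hΦb]
    have h2 : Φh.base (b.base t) =
        (RelCone.pointedProjCone 𝒮 hz pC chartC).ι.base (c.base t) :=
      congrArg (fun s => s.base t) hbc
    rw [h2]
    exact S8309.ι_mem_opens _ _
  have hQd := (emb_mem_pointedProjCone_iff hz pC chartC hC U hU Q).mp hQE
  obtain ⟨e, g, he, hg, hgQ⟩ :=
    exists_hom_of_mem_domOpen (RelProj.gradedHomAt ι hz.graded U hU) Q hQd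
  have hG : (ι.hom.app (op U)).hom g ∈ 𝒮h.deg U hU e := hz.graded U hU e _ hg
  have h4 := awayι_map_mem_basicOpen_iff (uh.gradedAt U hU U' hU' hUU) hd he hF₀ hG w₀
  have hQ'G : (Proj.awayι (𝒮h'.deg U' hU') ((uh.gradedAt U hU U' hU' hUU) F₀)
      ((uh.gradedAt U hU U' hU' hUU).map_mem hF₀) hd).base w₀ ∈
      Proj.basicOpen (𝒮h'.deg U' hU')
        ((uh.gradedAt U hU U' hU' hUU) ((ι.hom.app (op U)).hom g)) := by
    refine h4.mp ?_
    rw [hQ]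
    exact hgQ
  obtain ⟨w, hw⟩ := (Proj.opensRange_awayι (𝒮h'.deg U' hU') _
    ((uh.gradedAt U hU U' hU' hUU).map_mem hG) he).ge hQ'G
  have hWG := RelProj.range_awayEmb_subset_domQ uh pC' chartC' U hU U' hU' hUU he _ hG
  obtain ⟨L, hL⟩ : ∃ L, L = IsOpenImmersion.lift (RelProj.domQ uh pC' chartC').ι
      (RelProj.awayEmb uh pC' chartC' U hU U' hU' hUU he ((ι.hom.app (op U)).hom g) hG) hWG :=
    ⟨_, rfl⟩
  have hLfac : L ≫ (RelProj.domQ uh pC' chartC').ι =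
      RelProj.awayEmb uh pC' chartC' U hU U' hU' hUU he ((ι.hom.app (op U)).hom g) hG := by
    rw [hL]
    exact IsOpenImmersion.lift_fac _ _ _
  haveI hLimm : IsOpenImmersion L := by
    haveI : IsOpenImmersion (L ≫ (RelProj.domQ uh pC' chartC').ι) := by
      rw [hLfac]
      infer_instance
    exact IsOpenImmersion.of_comp L (RelProj.domQ uh pC' chartC').ι
  have hbt : b.base t = L.base w := by
    apply (RelProj.domQ uh pC' chartC').ι.isOpenEmbedding.injective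
    have h5 : (RelProj.domQ uh pC' chartC').ι.base (L.base w) =
        (RelProj.emb pC' chartC' U' hU').base
          ((Proj.awayι (𝒮h'.deg U' hU') _ ((uh.gradedAt U hU U' hU' hUU).map_mem hG) he).base w) :=
      congrArg (fun s => s.base w) hLfac
    exact hw₀.symm.trans ((congrArg (fun s => (RelProj.emb pC' chartC' U' hU').base s)
      hw.symm).trans h5.symm)
  obtain ⟨N, hN⟩ : ∃ N : T.Opens, N = b ⁻¹ᵁ L.opensRange := ⟨_, rfl⟩
  have htN : t ∈ N := by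
    rw [hN]
    exact ⟨w, hbt.symm⟩
  have hβr : Set.range (N.ι ≫ b) ⊆ Set.range L := by
    rintro _ ⟨n, rfl⟩
    have hmemN : ∀ x : T, x ∈ N → b.base x ∈ L.opensRange := by
      intro x hx
      rw [hN] at hx
      exact hx
    exact hmemN _ (S8309.ι_mem_opens N n)
  obtain ⟨β, hβ⟩ : ∃ β, β ≫ L = N.ι ≫ b :=
    ⟨IsOpenImmersion.lift L (N.ι ≫ b) hβr, IsOpenImmersion.lift_fac _ _ _⟩
  -- casts
  have h₁ : psi ι hz.graded U hU g = (ι.hom.app (op U)).hom g := psi_apply ι hz.graded U hU g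
  have hg' : (u.gradedAt U hU U' hU' hUU) g ∈ 𝒮'.deg U' hU' e :=
    (u.gradedAt U hU U' hU' hUU).map_mem hg
  have h₂ : psi ι' hz'.graded U' hU' ((u.gradedAt U hU U' hU' hUU) g) =
      (uh.gradedAt U hU U' hU' hUU) ((ι.hom.app (op U)).hom g) :=
    (psi_apply ι' hz'.graded U' hU' _).trans (S12157.uh_ι u uh huh U U' hUU g).symm
  obtain ⟨ρ₁, hρ₁, hρ₁mk⟩ := S12158.exists_cast he _ _ h₁
    ((psi ι hz.graded U hU).map_mem hg) hG
  obtain ⟨ρ₂, hρ₂, hρ₂mk⟩ := S12158.exists_cast he _ _ h₂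
    ((psi ι' hz'.graded U' hU').map_mem hg') ((uh.gradedAt U hU U' hU' hUU).map_mem hG)
  have hWr := range_awayEmb_subset_cone hz pC chartC U hU he g hg
  have hWr' := range_awayEmb_subset_cone hz' pC' chartC' U' hU' he _ hg'
  have Er := hr U hU U hU (Groth.Agent.Helper22.RelProjTN.hle U) e he g hg hWr
  have Er' := hr' U' hU' U' hU' (Groth.Agent.Helper22.RelProjTN.hle U') e he _ hg' hWr'
  have EΦh := hΦh U hU U' hU' hUU e he _ hG hWG
  have hc : ∀ a₀ : 𝒮.presheaf.obj (op U),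
      (uh.gradedAt U hU U' hU' hUU) ((psi ι hz.graded U hU) a₀) =
        (psi ι' hz'.graded U' hU') ((u.gradedAt U hU U' hU' hUU) a₀) := by
    intro a₀
    exact (congrArg (fun x => (uh.gradedAt U hU U' hU' hUU) x)
      (psi_apply ι hz.graded U hU a₀)).trans ((S12157.uh_ι u uh huh U U' hUU a₀).trans
        (psi_apply ι' hz'.graded U' hU' _).symm)
  have R_eq : CommRingCat.ofHom (Away.map (psi ι hz.graded U hU) g) ≫ CommRingCat.ofHom ρ₁ ≫
      CommRingCat.ofHom (Away.map (uh.gradedAt U hU U' hU' hUU) ((ι.hom.app (op U)).hom g)) =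
      CommRingCat.ofHom (Away.map (u.gradedAt U hU U' hU' hUU) g) ≫
        CommRingCat.ofHom (Away.map (psi ι' hz'.graded U' hU')
          ((u.gradedAt U hU U' hU' hUU) g)) ≫ CommRingCat.ofHom ρ₂ := by
    refine CommRingCat.hom_ext (RingHom.ext fun x => ?_)
    obtain ⟨n, a₀, ha₀, rfl⟩ := Away.mk_surjective (𝒮.deg U hU) hg x
    show Away.map (uh.gradedAt U hU U' hU' hUU) _ (ρ₁ (Away.map (psi ι hz.graded U hU) g
        (Away.mk (𝒮.deg U hU) hg n a₀ ha₀))) =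
      ρ₂ (Away.map (psi ι' hz'.graded U' hU') _ (Away.map (u.gradedAt U hU U' hU' hUU) g
        (Away.mk (𝒮.deg U hU) hg n a₀ ha₀)))
    simp only [Away.map_mk, hρ₁mk, hρ₂mk]
    apply HomogeneousLocalization.val_injective
    rw [Away.val_mk, Away.val_mk, hc a₀]
  have S_eq := congrArg Spec.map R_eq
  simp only [Spec.map_comp, Category.assoc] at S_eq
  have h1 : N.ι ≫ c = β ≫ Spec.map (CommRingCat.ofHom (Away.map (uh.gradedAt U hU U' hU' hUU)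
        ((ι.hom.app (op U)).hom g))) ≫ Spec.map (CommRingCat.ofHom ρ₁) ≫
      IsOpenImmersion.lift (RelCone.pointedProjCone 𝒮 hz pC chartC).ι
        (RelProj.awayEmb (RelProj.QGrHom.ofHom ι hz.graded) pC chartC U hU U hU
          (Groth.Agent.Helper22.RelProjTN.hle U) he g hg) hWr := by
    rw [← cancel_mono (RelCone.pointedProjCone 𝒮 hz pC chartC).ι]
    simp only [Category.assoc]
    rw [← hbc, ← reassoc_of% hβ, IsOpenImmersion.lift_fac, hL, EΦh]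
    simp only [RelProj.awayEmb, Category.assoc]
    rw [reassoc_of% hρ₁]
  have h3 : N.ι ≫ a = β ≫ Spec.map (CommRingCat.ofHom ρ₂) ≫
      IsOpenImmersion.lift (RelCone.pointedProjCone 𝒮' hz' pC' chartC').ι
        (RelProj.awayEmb (RelProj.QGrHom.ofHom ι' hz'.graded) pC' chartC' U' hU' U' hU'
          (Groth.Agent.Helper22.RelProjTN.hle U') he _ hg') hWr' := by
    rw [← cancel_mono (RelCone.pointedProjCone 𝒮' hz' pC' chartC').ι]
    simp only [Category.assoc]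
    rw [hab, ← reassoc_of% hβ, IsOpenImmersion.lift_fac, hLfac]
    simp only [RelProj.awayEmb, Category.assoc]
    rw [reassoc_of% hρ₂]
  refine ⟨N, htN, U, hU, U', hU', hUU, e, he, g, hg,
    β ≫ Spec.map (CommRingCat.ofHom ρ₂) ≫ Spec.map (CommRingCat.ofHom
      (Away.map (psi ι' hz'.graded U' hU') ((u.gradedAt U hU U' hU' hUU) g))), ?_, ?_⟩
  · rw [reassoc_of% h3, Er']
    simp only [RelProj.awayEmb, Category.assoc]
  · rw [reassoc_of% h1, Er, reassoc_of% S_eq]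
    simp only [Category.assoc]

end Main


/-- Let q : Y' → Y be a morphism, φ : 𝒮 → q_*𝒮' a graded q-morphism of quasi-coherent positively graded
algebras with 𝒮_0 = O_Y, 𝒮'_0 = O_{Y'}, φ̂ : 𝒮[z] → q_*𝒮'[z] its extension with φ̂(z) = z, Ĉ =
Proj(𝒮[z]), Ĉ' = Proj(𝒮'[z]) the projective cones with pointed cones Ê, Ê', and Φ̂ = Proj(φ̂) :
G(φ̂) → Ĉ; let X = Proj(𝒮), X' = Proj(𝒮'), Proj(φ) : G(φ) → X on its open of definition G(φ) ⊆ X',
and p̂ : Ê → X, p̂' : Ê' → X' the canonical retractions. Then p̂'(Φ̂⁻¹(Ê)) ⊆ G(φ) and on Φ̂⁻¹(Ê) the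
composites p̂ ∘ Φ̂ and Proj(φ) ∘ p̂' agree (stated on T-valued points: a : T → Ê' and b : T → G(φ̂)
agreeing in Ĉ' with Φ̂ ∘ b = c : T → Ê). -/
theorem result {Y Y' PC PC' : Scheme.{u}} (q : Y' ⟶ Y)
    (𝒮 : RelProj.QCGrAlg Y) (𝒮' : RelProj.QCGrAlg Y') (h0 : RelCone.StrZeroBij 𝒮) (h0' : RelCone.StrZeroBij 𝒮')
    (u : RelProj.QGrHom q 𝒮 𝒮')
    (𝒮h : RelProj.QCGrAlg Y) (ι : 𝒮.toQCAlg ⟶ 𝒮h.toQCAlg) (z : 𝒮h.presheaf.obj (op ⊤))
    (hz : RelCone.IsPolyOver 𝒮 𝒮h ι z)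
    (pC : PC ⟶ Y) (chartC : ∀ (U : Y.Opens) (hU : IsAffineOpen U), (((pC ⁻¹ᵁ U : PC.Opens) : Scheme.{u}) ≅ Proj (𝒮h.deg U hU)))
    (hC : RelProj.IsRelProj 𝒮h pC chartC)
    (𝒮h' : RelProj.QCGrAlg Y') (ι' : 𝒮'.toQCAlg ⟶ 𝒮h'.toQCAlg) (z' : 𝒮h'.presheaf.obj (op ⊤))
    (hz' : RelCone.IsPolyOver 𝒮' 𝒮h' ι' z')
    (pC' : PC' ⟶ Y') (chartC' : ∀ (U : Y'.Opens) (hU : IsAffineOpen U), (((pC' ⁻¹ᵁ U : PC'.Opens) : Scheme.{u}) ≅ Proj (𝒮h'.deg U hU)))
    (hC' : RelProj.IsRelProj 𝒮h' pC' chartC')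
    (uh : RelProj.QGrHom q 𝒮h 𝒮h')
    (huh : ∀ U : Y.Opens, ι.hom.app (op U) ≫ uh.app U = u.app U ≫ ι'.hom.app (op (q ⁻¹ᵁ U)))
    (huhz : (uh.app ⊤).hom z = RelCone.restrictTop 𝒮h' z' (q ⁻¹ᵁ ⊤))
    (Φh : ((RelProj.domQ uh pC' chartC' : PC'.Opens) : Scheme.{u}) ⟶ PC)
    (hΦh : RelProj.IsProjQMapOn uh pC chartC pC' chartC' (RelProj.domQ uh pC' chartC') Φh)
    {P P' : Scheme.{u}} (p : P ⟶ Y) (chart : ∀ (U : Y.Opens) (hU : IsAffineOpen U), (((p ⁻¹ᵁ U : P.Opens) : Scheme.{u}) ≅ Proj (𝒮.deg U hU)))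
    (hP : RelProj.IsRelProj 𝒮 p chart)
    (p' : P' ⟶ Y') (chart' : ∀ (U : Y'.Opens) (hU : IsAffineOpen U), (((p' ⁻¹ᵁ U : P'.Opens) : Scheme.{u}) ≅ Proj (𝒮'.deg U hU)))
    (hP' : RelProj.IsRelProj 𝒮' p' chart')
    (Φ : ((RelProj.domQ u p' chart' : P'.Opens) : Scheme.{u}) ⟶ P)
    (hΦ : RelProj.IsProjQMapOn u p chart p' chart' (RelProj.domQ u p' chart') Φ)
    (r : ((RelCone.pointedProjCone 𝒮 hz pC chartC : PC.Opens) : Scheme.{u}) ⟶ P)
    (hr : RelProj.IsProjQMapOn (RelProj.QGrHom.ofHom ι hz.graded) p chart pC chartC (RelCone.pointedProjCone 𝒮 hz pC chartC) r)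
    (r' : ((RelCone.pointedProjCone 𝒮' hz' pC' chartC' : PC'.Opens) : Scheme.{u}) ⟶ P')
    (hr' : RelProj.IsProjQMapOn (RelProj.QGrHom.ofHom ι' hz'.graded) p' chart' pC' chartC' (RelCone.pointedProjCone 𝒮' hz' pC' chartC') r')
    (T : Scheme.{u}) (a : T ⟶ ((RelCone.pointedProjCone 𝒮' hz' pC' chartC' : PC'.Opens) : Scheme.{u}))
    (b : T ⟶ ((RelProj.domQ uh pC' chartC' : PC'.Opens) : Scheme.{u}))
    (c : T ⟶ ((RelCone.pointedProjCone 𝒮 hz pC chartC : PC.Opens) : Scheme.{u}))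
    (hab : a ≫ (RelCone.pointedProjCone 𝒮' hz' pC' chartC').ι = b ≫ (RelProj.domQ uh pC' chartC').ι) (hbc : b ≫ Φh = c ≫ (RelCone.pointedProjCone 𝒮 hz pC chartC).ι) :
    Set.range (a ≫ r').base ⊆ ((RelProj.domQ u p' chart' : P'.Opens) : Set P') ∧
      ∀ d : T ⟶ ((RelProj.domQ u p' chart' : P'.Opens) : Scheme.{u}),
        a ≫ r' = d ≫ (RelProj.domQ u p' chart').ι → c ≫ r = d ≫ Φ := by
  have key := fun t => local_data hz hz' u pC chartC hC pC' chartC' uh huh Φh hΦh p chart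
    p' chart' r hr r' hr' T a b c hab hbc t
  constructor
  · rintro _ ⟨t, rfl⟩
    obtain ⟨N, htN, U, hU, U', hU', hUU, e, he, g, hg, γ, h1, -⟩ := key t
    obtain ⟨tN, htN'⟩ := S8309.exists_of_mem_opens N t htN
    have h2 : (a ≫ r').base (N.ι.base tN) =
        (RelProj.awayEmb u p' chart' U hU U' hU' hUU he g hg).base (γ.base tN) :=
      congrArg (fun s => s.base tN) h1
    have h3 := RelProj.range_awayEmb_subset_domQ u p' chart' U hU U' hU' hUU he g hg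
      ⟨γ.base tN, rfl⟩
    rw [Scheme.Opens.range_ι] at h3
    have hfin : (a ≫ r').base t ∈ RelProj.domQ u p' chart' := by
      rw [← htN', h2]
      exact h3
    exact hfin
  · intro d hd
    refine Scheme.hom_ext_of_forall _ _ fun t => ?_
    obtain ⟨N, htN, U, hU, U', hU', hUU, e, he, g, hg, γ, h1, h2⟩ := key t
    refine ⟨N, htN, ?_⟩
    have hWu := RelProj.range_awayEmb_subset_domQ u p' chart' U hU U' hU' hUU he g hg
    have hd' : N.ι ≫ d = γ ≫ IsOpenImmersion.lift (RelProj.domQ u p' chart').ι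
        (RelProj.awayEmb u p' chart' U hU U' hU' hUU he g hg) hWu := by
      rw [← cancel_mono (RelProj.domQ u p' chart').ι, Category.assoc, ← hd, Category.assoc,
        IsOpenImmersion.lift_fac]
      exact h1
    rw [h2, reassoc_of% hd', hΦ U hU U' hU' hUU e he g hg hWu]

end Groth.Agent.S12156
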