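import Groth.Statements.S12163
import Groth.Agent.Lib.Helper22.RelConeLoc

set_option autoImplicit false
universe u
open CategoryTheory CategoryTheory.Limits AlgebraicGeometry TopologicalSpace Opposite
open scoped HomogeneousIdeal
noncomputable section
open EGA2

namespace Groth.Agent.S12163

theorem map_homOfLE_self {X : TopCat.{u}} {C : Type*} [Category C] (F : (Opens X)ᵒᵖ ⥤ C) (U : Opens X)
    (hle : U ≤ U) : F.map (homOfLE hle).op = 𝟙 _ := by
  have : homOfLE hle = 𝟙 U := Subsingleton.elim _ _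
  rw [this]
  exact F.map_id _

/-- Let φ : 𝒜 → ℬ be a graded homomorphism of quasi-coherent positively graded O_Y-algebras and PB =
Proj(ℬ) with its charts. If every point of Y has an affine neighbourhood U over which the irrelevant
ideal of ℬ(U) is contained in the ideal generated by φ(𝒜(U)_+), then the open of definition G(φ) of
Proj(φ) is all of PB. (The published condition asks 𝒮_+ to be generated by the image as a module
over the functions on U; generation as an ideal, used here, is implied by it.) -/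
theorem result {Y PB : Scheme.{u}} (𝒜 ℬ : RelProj.QCGrAlg Y)
    (φ : 𝒜.toQCAlg ⟶ ℬ.toQCAlg) (hφ : RelProj.IsGradedHom φ)
    (pB : PB ⟶ Y) (chartB : ∀ (U : Y.Opens) (hU : IsAffineOpen U), (((pB ⁻¹ᵁ U : PB.Opens) : Scheme.{u}) ≅ Proj (ℬ.deg U hU)))
    (hB : RelProj.IsRelProj ℬ pB chartB)
    (hcov : ∀ y : Y, ∃ (U : Y.Opens) (hU : IsAffineOpen U), y ∈ U ∧
      (ℬ.deg U hU)₊ ≤ ((𝒜.deg U hU)₊).map (RelProj.gradedHomAt φ hφ U hU)) :
    RelProj.domQ (RelProj.QGrHom.ofHom φ hφ) pB chartB = ⊤ := by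
  rw [eq_top_iff]
  rintro x -
  obtain ⟨U, hU, hyU, hirr⟩ := hcov (pB.base x)
  have hxU : x ∈ pB ⁻¹ᵁ U := hyU
  have hle : U ≤ (𝟙 Y) ⁻¹ᵁ U := le_of_eq rfl
  unfold RelProj.domQ
  refine Opens.mem_iSup.mpr ⟨⟨(⟨U, hU⟩, ⟨U, hU⟩), hle⟩, ?_⟩
  have hzx : (RelProj.emb pB chartB U hU).base ((chartB U hU).hom.base ⟨x, hxU⟩) = x := by
    unfold RelProj.emb
    have h1 : (chartB U hU).inv.base ((chartB U hU).hom.base ⟨x, hxU⟩) = ⟨x, hxU⟩ := by
      rw [← Scheme.Hom.comp_apply, Iso.hom_inv_id]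
      rfl
    rw [Scheme.Hom.comp_apply, h1]
    rfl
  refine ⟨(chartB U hU).hom.base ⟨x, hxU⟩, (RelCone.mem_domOpen _ _).mpr ?_, hzx⟩
  by_contra hcon
  have hall : ∀ f ∈ (HomogeneousIdeal.irrelevant (𝒜.deg U hU)),
      (RelProj.gradedHomAt φ hφ U hU) f ∈
        ((chartB U hU).hom.base ⟨x, hxU⟩).asHomogeneousIdeal := by
    intro f hf
    by_contra hfz
    apply hcon
    refine ⟨f, hf, ?_⟩
    have e : (RelProj.QGrHom.ofHom φ hφ).gradedAt U hU U hU hle f =
        RelProj.gradedHomAt φ hφ U hU f := by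
      show (ℬ.presheaf.map (homOfLE hle).op).hom ((φ.hom.app (op U)).hom f) =
        (φ.hom.app (op U)).hom f
      have := map_homOfLE_self ℬ.presheaf U hle
      exact congrArg (fun g : ℬ.presheaf.obj (op U) ⟶ ℬ.presheaf.obj (op U) =>
        g.hom ((φ.hom.app (op U)).hom f)) this
    rw [e]
    exact hfz
  exact ((chartB U hU).hom.base ⟨x, hxU⟩).not_irrelevant_le
    (hirr.trans (HomogeneousIdeal.map_le_of_le_comap _ fun f hf => hall f hf))

end Groth.Agent.S12163
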