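import Groth.Statements.S12166
import Groth.Agent.Lib.Helper22.RelProjTN

set_option autoImplicit false
universe u
open CategoryTheory CategoryTheory.Limits AlgebraicGeometry TopologicalSpace Opposite
open scoped HomogeneousIdeal
noncomputable section
open EGA2

namespace Groth.Agent.S12166

/-- Let φ : 𝒜 → ℬ be a graded homomorphism of quasi-coherent positively graded O_Y-algebras which is a
(TN)-isomorphism (φ : 𝒜_k → ℬ_k bijective for all large k, on sections over affine opens), PA =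
Proj(𝒜), PB = Proj(ℬ) with their charts. Then Proj(φ) is defined on all of PB and is an isomorphism
PB → PA. -/
theorem result {Y PA PB : Scheme.{u}} (𝒜 ℬ : RelProj.QCGrAlg Y)
    (φ : 𝒜.toQCAlg ⟶ ℬ.toQCAlg) (hφ : RelProj.IsGradedHom φ)
    (hTN : ∃ n : ℕ, ∀ k, n ≤ k → ∀ (U : Y.Opens) (hU : IsAffineOpen U),
      (∀ x ∈ 𝒜.deg U hU k, (φ.hom.app (op U)).hom x = 0 → x = 0) ∧
        ∀ y ∈ ℬ.deg U hU k, ∃ x ∈ 𝒜.deg U hU k, (φ.hom.app (op U)).hom x = y)
    (pA : PA ⟶ Y) (chartA : ∀ (U : Y.Opens) (hU : IsAffineOpen U), (((pA ⁻¹ᵁ U : PA.Opens) : Scheme.{u}) ≅ Proj (𝒜.deg U hU)))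
    (hA : RelProj.IsRelProj 𝒜 pA chartA)
    (pB : PB ⟶ Y) (chartB : ∀ (U : Y.Opens) (hU : IsAffineOpen U), (((pB ⁻¹ᵁ U : PB.Opens) : Scheme.{u}) ≅ Proj (ℬ.deg U hU)))
    (hB : RelProj.IsRelProj ℬ pB chartB) :
    RelProj.domQ (RelProj.QGrHom.ofHom φ hφ) pB chartB = ⊤ ∧
      ∀ h : PB ⟶ PA, RelProj.IsProjQMap (RelProj.QGrHom.ofHom φ hφ) pA chartA pB chartB h → IsIso h := by
  obtain ⟨n, hTN⟩ := hTN
  have hdom := Groth.Agent.Helper22.RelProjTN.hdom_of_TN φ hφ n
    (fun k hk U hU => (hTN k hk U hU).2)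
  refine ⟨Groth.Agent.Helper22.RelProjTN.domQ_eq_top φ hφ pB chartB hdom, fun h hh => ?_⟩
  refine Groth.Agent.Helper22.RelProjTN.main φ hφ pA chartA pB chartB hdom
    (MorphismProperty.isomorphisms Scheme.{u}) hA hB ?_ h hh
  intro U hU d hd f hf
  have hbij : Function.Bijective (HomogeneousLocalization.Away.map
      (Groth.Agent.Helper22.RelProjTN.psi φ hφ U hU) f) := by
    constructor
    · refine Groth.Agent.Helper22.RelProjTN.away_map_injective _ n (fun k hk x hx h0 => ?_) hd hf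
      refine (hTN k hk U hU).1 x hx ?_
      rw [← Groth.Agent.Helper22.RelProjTN.psi_apply φ hφ U hU x]
      exact h0
    · refine Groth.Agent.Helper22.RelProjTN.away_map_surjective _ n (fun k hk y hy => ?_) hd hf
      obtain ⟨x, hx, hxy⟩ := (hTN k hk U hU).2 y hy
      exact ⟨x, hx, (Groth.Agent.Helper22.RelProjTN.psi_apply φ hφ U hU x).trans hxy⟩
  haveI : IsIso (CommRingCat.ofHom (HomogeneousLocalization.Away.map
      (Groth.Agent.Helper22.RelProjTN.psi φ hφ U hU) f)) :=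
    (ConcreteCategory.isIso_iff_bijective _).mpr hbij
  show IsIso (Spec.map (CommRingCat.ofHom (HomogeneousLocalization.Away.map
      (Groth.Agent.Helper22.RelProjTN.psi φ hφ U hU) f)))
  infer_instance

end Groth.Agent.S12166
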