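import Groth.Statements.S12210
import Mathlib
import Groth.Agent.S2851

set_option autoImplicit false
universe u
open CategoryTheory CategoryTheory.Limits AlgebraicGeometry
open Divisors

namespace Groth.Agent.S12210


open CategoryTheory AlgebraicGeometry TopologicalSpace

theorem minimal_mem_closure (A : Type u) [CommRing A] [IsNoetherianRing A]
    (W : Set (PrimeSpectrum A)) (hWo : IsOpen W)
    (p : PrimeSpectrum A) (hpcl : p ∈ closure W) (hp : p.asIdeal ∈ minimalPrimes A) : p ∈ W := by
  classical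
  have hfin : (minimalPrimes A).Finite := minimalPrimes.finite_of_isNoetherianRing A
  set F : Finset (Ideal A) := hfin.toFinset.erase p.asIdeal with hF
  have hK : ¬ (F.inf id) ≤ p.asIdeal := by
    intro hle
    obtain ⟨q, hqF, hqp⟩ := (Ideal.IsPrime.inf_le' p.2).mp hle
    have hqmin : q ∈ minimalPrimes A := by
      have := Finset.mem_of_mem_erase hqF
      simpa using this
    have hne : q ≠ p.asIdeal := Finset.ne_of_mem_erase hqF
    have h2 : p.asIdeal ≤ q := hp.2 ⟨hqmin.1.1, bot_le⟩ hqp
    exact hne (le_antisymm hqp h2)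
  obtain ⟨t, htK, htp⟩ := SetLike.not_le_iff_exists.mp hK
  have hpt : p ∈ (PrimeSpectrum.basicOpen t : Set (PrimeSpectrum A)) := htp
  obtain ⟨y, hyt, hyW⟩ := mem_closure_iff.mp hpcl _ (PrimeSpectrum.basicOpen t).2 hpt
  obtain ⟨q, hqmin, hqy⟩ := Ideal.exists_minimalPrimes_le (bot_le : (⊥ : Ideal A) ≤ y.asIdeal)
  have hqp : q = p.asIdeal := by
    by_contra hne
    have hqF : q ∈ F := Finset.mem_erase.mpr ⟨hne, by simpa using hqmin⟩
    have h1 : F.inf id ≤ id q := Finset.inf_le hqF
    exact hyt (hqy (h1 htK))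
  have hpy : p ≤ y := by
    rw [← PrimeSpectrum.asIdeal_le_asIdeal, ← hqp]
    exact hqy
  have hspec : p ⤳ y := (PrimeSpectrum.le_iff_specializes p y).mp hpy
  exact hspec.mem_open hWo hyW

/-- Let X be locally Noetherian and U an open subscheme whose inclusion is an affine morphism. If ξ is a
point outside U which is maximal under generization among points outside U (a generic point of an
irreducible component of the complement) and ξ lies in the closure of U, then the local ring of X at
ξ has dimension exactly one. (The case X separated and U an affine open is the corresponding special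
case, since then the inclusion of U is affine.) -/
theorem result (X : Scheme.{u}) [IsLocallyNoetherian X]
    (U : X.Opens) [IsAffineHom U.ι] (ξ : X) (hξ : ξ ∉ U) (hgen : ∀ y : X, y ∉ U → y ⤳ ξ → y = ξ)
    (hcl : ξ ∈ closure (U : Set X)) :
    ringKrullDim (X.presheaf.stalk ξ) = 1 := by
  have h1 : ringKrullDim (X.presheaf.stalk ξ) ≤ 1 := Groth.Agent.S2851.result X U ξ hξ hgen
  by_contra hne
  have hlt : ringKrullDim (X.presheaf.stalk ξ) < 1 := lt_of_le_of_ne h1 hne
  -- an affine neighbourhood of ξ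
  obtain ⟨W, hWaff, hξW, -⟩ :=
    Opens.isBasis_iff_nbhd.mp X.isBasis_affineOpens (show ξ ∈ (⊤ : X.Opens) from trivial)
  have hW : IsAffineOpen W := hWaff
  haveI : IsNoetherianRing Γ(X, W) := IsLocallyNoetherian.component_noetherian ⟨W, hW⟩
  let p : PrimeSpectrum Γ(X, W) := hW.primeIdealOf ⟨ξ, hξW⟩
  have hpξ : hW.fromSpec p = ξ := hW.fromSpec_primeIdealOf ⟨ξ, hξW⟩
  letI : Algebra Γ(X, W) (X.presheaf.stalk ξ) :=
    TopCat.Presheaf.algebra_section_stalk X.presheaf ⟨ξ, hξW⟩
  haveI hloc : IsLocalization.AtPrime (X.presheaf.stalk ξ) p.asIdeal :=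
    hW.isLocalization_stalk ⟨ξ, hξW⟩
  rw [IsLocalization.AtPrime.ringKrullDim_eq_height p.asIdeal (X.presheaf.stalk ξ)] at hlt
  have hlt' : p.asIdeal.height < 1 := by exact_mod_cast hlt
  have h0 : p.asIdeal.height = 0 := Order.lt_one_iff.mp hlt'
  have hpmin : p.asIdeal ∈ minimalPrimes Γ(X, W) := Ideal.height_eq_zero_iff.mp h0
  let 𝒲 : Set (PrimeSpectrum Γ(X, W)) := {y | hW.fromSpec y ∈ U}
  have h𝒲o : IsOpen 𝒲 := U.2.preimage hW.fromSpec.continuous
  have hpcl : p ∈ closure 𝒲 := by
    have hpre : p ∈ hW.fromSpec ⁻¹' closure (U : Set X) := by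
      show hW.fromSpec p ∈ closure (U : Set X)
      rw [hpξ]; exact hcl
    rw [hW.fromSpec.isOpenEmbedding.isOpenMap.preimage_closure_eq_closure_preimage
      hW.fromSpec.continuous] at hpre
    exact hpre
  have hp𝒲 : p ∈ 𝒲 := minimal_mem_closure Γ(X, W) 𝒲 h𝒲o p hpcl hpmin
  have : hW.fromSpec p ∈ U := hp𝒲
  rw [hpξ] at this
  exact hξ this

end Groth.Agent.S12210
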