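import Groth.Statements.S12215
import Groth.Agent.Lead.QCoh6
-- import your own Groth.Agent.* helpers here

set_option autoImplicit false
universe u
open CategoryTheory CategoryTheory.Limits AlgebraicGeometry
open Divisors

namespace Groth.Agent.S12215

/-- Let M be a module over a ring A, M~ the associated quasi-coherent module on Spec A and p a prime of
A. Then p is weakly associated to M — p is minimal among the prime ideals containing the annihilator
of some element of M — if and only if the point p of Spec A is weakly associated to M~, i.e. some
element of the stalk of M~ at p has annihilator whose radical is the maximal ideal of the local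
ring. -/
theorem result (A : CommRingCat.{u}) (M : ModuleCat.{u} A) (p : Spec A) :
    p.asIdeal ∈ FlatCA.weakAss A M ↔ Curv2.IsWeakAssPoint (tilde M) p := by
  rw [← Groth.Agent.Lead.QCoh.tilde_weakAss_iff A M p]
  have hann : ∀ m : M, (Submodule.span A {m}).annihilator =
      LinearMap.ker (LinearMap.toSpanSingleton A M m) := by
    intro m
    ext a
    rw [Submodule.mem_annihilator_span_singleton, LinearMap.mem_ker,
      LinearMap.toSpanSingleton_apply]
  constructor
  · rintro ⟨m, hm⟩
    exact ⟨m, by rw [← hann]; exact hm⟩
  · rintro ⟨m, hm⟩
    exact ⟨m, by rw [hann]; exact hm⟩

end Groth.Agent.S12215
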