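import Groth.Statements.S12222
import Mathlib

set_option linter.style.haveILetI false

set_option autoImplicit false
universe u
open Hensel

namespace Groth.Agent.S12222

open Polynomial IsLocalRing

section Aux

theorem exists_h {R : Type u} [CommRing R] (f : R[X]) (a₀ : R) :
    ∃ h : R[X], f = C (f.eval a₀) + (X - C a₀) * h ∧ h.eval a₀ = f.derivative.eval a₀ := by
  have hroot : (f - C (f.eval a₀)).IsRoot a₀ := by
    rw [IsRoot.def, eval_sub, eval_C, sub_self]
  have h1 := (mul_divByMonic_eq_iff_isRoot (p := f - C (f.eval a₀)) (a := a₀)).mpr hroot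
  have h2 : f = C (f.eval a₀) + (X - C a₀) * ((f - C (f.eval a₀)) /ₘ (X - C a₀)) := by
    rw [h1]; ring
  refine ⟨(f - C (f.eval a₀)) /ₘ (X - C a₀), h2, ?_⟩
  have h3 := congrArg (fun p => (derivative p).eval a₀) h2
  simp only [derivative_add, derivative_C, derivative_mul, derivative_sub, derivative_X, zero_add,
    sub_zero, one_mul, eval_add, eval_mul, eval_sub, eval_X, eval_C, sub_self, zero_mul,
    add_zero] at h3
  exact h3.symm

end Aux

/-- (11) ⇒ (1): let R be a local ring such that every finite-type R-algebra S can be written as a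
product A × B with A finite over R and R → B quasi-finite at no prime lying over the maximal ideal —
concretely, S has an idempotent e with S/(1 − e) finite over R and R → S/(e) quasi-finite at no
prime over the maximal ideal. Then R is henselian. -/
theorem result (R : Type u) [CommRing R] [IsLocalRing R]
    (h : ∀ (S : Type u) [CommRing S] [Algebra R S] [Algebra.FiniteType R S],
      ∃ e : S, IsIdempotentElem e ∧ Module.Finite R (S ⧸ Ideal.span ({1 - e} : Set S)) ∧
        ∀ (q : Ideal (S ⧸ Ideal.span ({e} : Set S))) [q.IsPrime],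
          q.LiesOver (IsLocalRing.maximalIdeal R) → ¬ Algebra.QuasiFiniteAt R q) :
    HenselianLocalRing R := by
  classical
  refine { is_henselian := fun f hf a₀ hfa hfa' => ?_ }
  obtain ⟨hp, hdecomp, hha⟩ := exists_h f a₀
  have hu : IsUnit (hp.eval a₀) := by rw [hha]; exact hfa'
  haveI : Module.Finite R (AdjoinRoot f) := hf.finite_adjoinRoot
  haveI : Module.Free R (AdjoinRoot f) := hf.free_adjoinRoot
  obtain ⟨g, hg⟩ : ∃ g : AdjoinRoot f, g = aeval (AdjoinRoot.root f) hp := ⟨_, rfl⟩
  have h0 : aeval (AdjoinRoot.root f) f = 0 := by rw [AdjoinRoot.aeval_eq, AdjoinRoot.mk_self]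
  have hrel : (AdjoinRoot.root f - algebraMap R (AdjoinRoot f) a₀) * g =
      - algebraMap R (AdjoinRoot f) (f.eval a₀) := by
    have h1 := congrArg (aeval (AdjoinRoot.root f)) hdecomp
    rw [h0, map_add, map_mul, map_sub, aeval_C, aeval_C, aeval_X] at h1
    rw [hg]
    linear_combination -h1
  haveI : Algebra.FiniteType R (Localization.Away g) := by
    haveI : Algebra.FinitePresentation (AdjoinRoot f) (Localization.Away g) :=
      IsLocalization.Away.finitePresentation g
    exact Algebra.FiniteType.trans (S := AdjoinRoot f) inferInstance inferInstance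
  haveI : Module.Flat R (Localization.Away g) :=
    Module.Flat.trans R (AdjoinRoot f) (Localization.Away g)
  obtain ⟨e, he, hfin, hB⟩ := h (Localization.Away g)
  -- the point of `S` over the maximal ideal
  have hφC0 : eval₂ (residue R) (residue R a₀) f = 0 := by
    rw [eval₂_at_apply]; exact (residue_eq_zero_iff _).mpr hfa
  obtain ⟨φC, hφC⟩ : ∃ φC : AdjoinRoot f →+* ResidueField R,
      φC = AdjoinRoot.lift (residue R) (residue R a₀) hφC0 := ⟨_, rfl⟩
  have hφCg : IsUnit (φC g) := by
    rw [hφC, hg, AdjoinRoot.aeval_eq, AdjoinRoot.lift_mk, eval₂_at_apply]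
    exact hu.map (residue R)
  obtain ⟨φ, hφ⟩ : ∃ φ : Localization.Away g →+* ResidueField R,
      φ = IsLocalization.Away.lift g hφCg := ⟨_, rfl⟩
  have hφR : ∀ r : R, φ (algebraMap R (Localization.Away g) r) = residue R r := by
    intro r
    rw [IsScalarTower.algebraMap_apply R (AdjoinRoot f) (Localization.Away g), hφ,
      IsLocalization.Away.lift_eq, hφC, AdjoinRoot.algebraMap_eq]
    exact AdjoinRoot.lift_of hφC0
  obtain ⟨Q, hQ⟩ : ∃ Q : Ideal (Localization.Away g), Q = RingHom.ker φ := ⟨_, rfl⟩
  haveI hQprime : Q.IsPrime := by rw [hQ]; exact RingHom.ker_isPrime φ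
  have hQmem : ∀ r : R, algebraMap R (Localization.Away g) r ∈ Q ↔ r ∈ maximalIdeal R := by
    intro r
    rw [hQ, RingHom.mem_ker, hφR, residue_eq_zero_iff]
  have heQ : e ∉ Q := by
    intro heQ
    obtain ⟨mkB, hmkB⟩ : ∃ mkB : Localization.Away g →+*
        (Localization.Away g ⧸ Ideal.span ({e} : Set (Localization.Away g))),
        mkB = Ideal.Quotient.mk _ := ⟨_, rfl⟩
    have hsurj : Function.Surjective mkB := by rw [hmkB]; exact Ideal.Quotient.mk_surjective
    have hker : RingHom.ker mkB ≤ Q := by
      rw [hmkB, Ideal.mk_ker, Ideal.span_le]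
      intro x hx
      rw [Set.mem_singleton_iff] at hx
      rw [hx]; exact heQ
    haveI hQ'prime : (Q.map mkB).IsPrime := Ideal.map_isPrime_of_surjective hsurj hker
    have hcomap : (Q.map mkB).comap mkB = Q := by
      rw [Ideal.comap_map_of_surjective mkB hsurj, sup_eq_left]
      exact hker
    have hlies : (Q.map mkB).LiesOver (maximalIdeal R) := by
      refine ⟨Ideal.ext fun r => ?_⟩
      rw [Ideal.under_def, Ideal.mem_comap, ← Ideal.Quotient.mk_algebraMap, ← hmkB,
        ← Ideal.mem_comap, hcomap, hQmem]
    exact hB (Q.map mkB) hlies inferInstance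
  -- every element of `S` is congruent to an element of `R` modulo `m S`
  obtain ⟨I, hI⟩ : ∃ I : Ideal (Localization.Away g),
      I = (maximalIdeal R).map (algebraMap R (Localization.Away g)) := ⟨_, rfl⟩
  have hgunit : IsUnit (algebraMap (AdjoinRoot f) (Localization.Away g) g) :=
    IsLocalization.Away.algebraMap_isUnit g
  have htI : algebraMap (AdjoinRoot f) (Localization.Away g) (AdjoinRoot.root f) -
      algebraMap R (Localization.Away g) a₀ ∈ I := by
    have h1 := congrArg (algebraMap (AdjoinRoot f) (Localization.Away g)) hrel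
    rw [map_mul, map_sub, map_neg, ← IsScalarTower.algebraMap_apply,
      ← IsScalarTower.algebraMap_apply] at h1
    rw [← Ideal.mul_unit_mem_iff_mem I hgunit, h1, hI]
    exact neg_mem (Ideal.mem_map_of_mem _ hfa)
  obtain ⟨π, hπ⟩ : ∃ π : Localization.Away g →+* (Localization.Away g ⧸ I),
      π = Ideal.Quotient.mk I := ⟨_, rfl⟩
  have hπt : π (algebraMap (AdjoinRoot f) (Localization.Away g) (AdjoinRoot.root f)) =
      π (algebraMap R (Localization.Away g) a₀) := by
    rw [hπ, Ideal.Quotient.eq]; exact htI
  have hπaeval : ∀ p : R[X],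
      π (algebraMap (AdjoinRoot f) (Localization.Away g) (aeval (AdjoinRoot.root f) p)) =
        π (algebraMap R (Localization.Away g) (p.eval a₀)) := by
    intro p
    have e1 : (π.comp (algebraMap (AdjoinRoot f) (Localization.Away g)))
        (aeval (AdjoinRoot.root f) p) =
        eval₂ ((π.comp (algebraMap (AdjoinRoot f) (Localization.Away g))).comp
          (algebraMap R (AdjoinRoot f)))
          ((π.comp (algebraMap (AdjoinRoot f) (Localization.Away g))) (AdjoinRoot.root f)) p := by
      rw [aeval_def, hom_eval₂]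
    have e2 : (π.comp (algebraMap (AdjoinRoot f) (Localization.Away g))) (AdjoinRoot.root f) =
        ((π.comp (algebraMap (AdjoinRoot f) (Localization.Away g))).comp
          (algebraMap R (AdjoinRoot f))) a₀ := by
      simp only [RingHom.comp_apply]
      rw [← IsScalarTower.algebraMap_apply R (AdjoinRoot f) (Localization.Away g)]
      exact hπt
    rw [e2, eval₂_at_apply] at e1
    simp only [RingHom.comp_apply] at e1
    rw [← IsScalarTower.algebraMap_apply R (AdjoinRoot f) (Localization.Away g)] at e1
    exact e1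
  have hπg : π (algebraMap (AdjoinRoot f) (Localization.Away g) g) =
      π (algebraMap R (Localization.Away g) (hp.eval a₀)) := by
    have := hπaeval hp
    rw [← hg] at this
    exact this
  have hrepr : ∀ s : Localization.Away g,
      ∃ r : R, s - algebraMap R (Localization.Away g) r ∈ I := by
    intro s
    obtain ⟨n, c, hc⟩ := IsLocalization.Away.surj g s
    obtain ⟨p, rfl⟩ := AdjoinRoot.mk_surjective c
    obtain ⟨v, hv⟩ := hu.exists_right_inv
    refine ⟨p.eval a₀ * v ^ n, ?_⟩
    rw [← Ideal.Quotient.eq, ← hπ]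
    have h1 := congrArg π hc
    rw [map_mul, map_pow, hπg, ← AdjoinRoot.aeval_eq, hπaeval p] at h1
    have h2 : π (algebraMap R (Localization.Away g) (hp.eval a₀)) *
        π (algebraMap R (Localization.Away g) v) = 1 := by
      rw [← map_mul, ← map_mul, hv, map_one, map_one]
    calc π s = π s * (π (algebraMap R (Localization.Away g) (hp.eval a₀)) *
          π (algebraMap R (Localization.Away g) v)) ^ n := by
          rw [h2, one_pow, mul_one]
      _ = (π s * π (algebraMap R (Localization.Away g) (hp.eval a₀)) ^ n) *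
          π (algebraMap R (Localization.Away g) v) ^ n := by ring
      _ = π (algebraMap R (Localization.Away g) (p.eval a₀)) *
          π (algebraMap R (Localization.Away g) v) ^ n := by rw [h1]
      _ = π (algebraMap R (Localization.Away g) (p.eval a₀ * v ^ n)) := by
          rw [map_mul, map_mul, map_pow, map_pow]
  -- the finite factor `A = S / (1 - e)`
  have he' : e * (1 - e) = 0 := by rw [mul_sub, mul_one, he.eq, sub_self]
  have h1eQ : 1 - e ∈ Q := by
    have : e * (1 - e) ∈ Q := by rw [he']; exact Q.zero_mem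
    exact (hQprime.mem_or_mem this).resolve_left heQ
  obtain ⟨J, hJ⟩ : ∃ J : Ideal (Localization.Away g), J = Ideal.span {1 - e} := ⟨_, rfl⟩
  rw [← hJ] at hfin
  haveI := hfin
  have hJQ : J ≤ Q := by
    rw [hJ, Ideal.span_le]
    intro x hx
    rw [Set.mem_singleton_iff] at hx
    rw [hx]; exact h1eQ
  haveI : Nontrivial (Localization.Away g ⧸ J) :=
    Ideal.Quotient.nontrivial_iff.mpr (fun htop => hQprime.ne_top (top_le_iff.mp (htop ▸ hJQ)))
  haveI : Module.Flat (Localization.Away g) (Localization.Away g ⧸ J) := by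
    have hle : J ≤ LinearMap.ker (LinearMap.mulLeft (Localization.Away g) e) := by
      rw [hJ, Ideal.span_le]
      intro x hx
      rw [Set.mem_singleton_iff] at hx
      rw [SetLike.mem_coe, LinearMap.mem_ker, LinearMap.mulLeft_apply, hx, he']
    refine Module.Flat.of_retract (J.liftQ (LinearMap.mulLeft (Localization.Away g) e) hle)
      J.mkQ ?_
    refine LinearMap.ext fun y => ?_
    obtain ⟨x, rfl⟩ := Submodule.Quotient.mk_surjective J y
    rw [LinearMap.comp_apply, Submodule.liftQ_apply, LinearMap.mulLeft_apply, LinearMap.id_apply,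
      Submodule.mkQ_apply, Submodule.Quotient.eq]
    have : e * x - x = (1 - e) * (-x) := by ring
    rw [this, hJ]
    exact Ideal.mul_mem_right _ _ (Ideal.subset_span rfl)
  haveI : Module.Flat R (Localization.Away g ⧸ J) :=
    Module.Flat.trans R (Localization.Away g) (Localization.Away g ⧸ J)
  haveI : Module.Free R (Localization.Away g ⧸ J) := Module.free_of_flat_of_isLocalRing
  obtain ⟨mkA, hmkA⟩ : ∃ mkA : Localization.Away g →+* (Localization.Away g ⧸ J),
      mkA = Ideal.Quotient.mk J := ⟨_, rfl⟩
  have hcomp : mkA.comp (algebraMap R (Localization.Away g)) =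
      algebraMap R (Localization.Away g ⧸ J) := by rw [hmkA]; rfl
  have hsurj : Function.Surjective (algebraMap R (Localization.Away g ⧸ J)) := by
    have hN : (⊤ : Submodule R (Localization.Away g ⧸ J)) ≤
        LinearMap.range (Algebra.linearMap R (Localization.Away g ⧸ J)) := by
      refine Submodule.le_of_le_smul_of_le_jacobson_bot (I := maximalIdeal R) Module.Finite.fg_top
        (IsLocalRing.jacobson_eq_maximalIdeal ⊥ bot_ne_top).ge ?_
      intro y _
      obtain ⟨s, rfl⟩ := Ideal.Quotient.mk_surjective y
      obtain ⟨r, hr⟩ := hrepr s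
      have hy : Ideal.Quotient.mk J s = algebraMap R (Localization.Away g ⧸ J) r +
          mkA (s - algebraMap R (Localization.Away g) r) := by
        rw [← hcomp, RingHom.comp_apply, ← map_add, hmkA]
        congr 1; ring
      rw [hy]
      refine Submodule.add_mem_sup (LinearMap.mem_range.mpr ⟨r, rfl⟩) ?_
      rw [Ideal.smul_top_eq_map, Submodule.restrictScalars_mem]
      have := Ideal.mem_map_of_mem mkA hr
      rw [hI, Ideal.map_map, hcomp] at this
      exact this
    intro y
    obtain ⟨r, hr⟩ := hN (Submodule.mem_top : y ∈ ⊤)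
    exact ⟨r, hr⟩
  have hinj : Function.Injective (algebraMap R (Localization.Away g ⧸ J)) :=
    FaithfulSMul.algebraMap_injective R _
  obtain ⟨ψ, hψ⟩ : ∃ ψ : R ≃ₐ[R] (Localization.Away g ⧸ J),
      ψ = AlgEquiv.ofBijective (Algebra.ofId R _) ⟨hinj, hsurj⟩ := ⟨_, rfl⟩
  obtain ⟨χ, hχ⟩ : ∃ χ : Localization.Away g →ₐ[R] R,
      χ = (ψ.symm : (Localization.Away g ⧸ J) →ₐ[R] R).comp (Ideal.Quotient.mkₐ R J) := ⟨_, rfl⟩
  have hχI : ∀ x ∈ I, χ x ∈ maximalIdeal R := by
    intro x hx
    have := Ideal.mem_map_of_mem (χ : Localization.Away g →+* R) hx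
    rw [hI, Ideal.map_map, AlgHom.comp_algebraMap, Algebra.algebraMap_self, Ideal.map_id] at this
    exact this
  refine ⟨χ (algebraMap (AdjoinRoot f) (Localization.Away g) (AdjoinRoot.root f)), ?_, ?_⟩
  · have h1 : aeval (χ (algebraMap (AdjoinRoot f) (Localization.Away g) (AdjoinRoot.root f))) f
        = 0 := by
      have := aeval_algHom_apply
        (χ.comp (IsScalarTower.toAlgHom R (AdjoinRoot f) (Localization.Away g)))
        (AdjoinRoot.root f) f
      rw [h0, map_zero] at this
      exact this
    rw [IsRoot.def, ← coe_aeval_eq_eval]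
    exact h1
  · have := hχI _ htI
    rw [map_sub, AlgHom.commutes, Algebra.algebraMap_self, RingHom.id_apply] at this
    exact this

end Groth.Agent.S12222
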