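import Groth.Statements.S12223
import Groth.Agent.H10.ExtAdj
import Groth.Agent.H10.ZarBig
import Mathlib
import Mathlib

set_option autoImplicit false
open CategoryTheory CategoryTheory.Limits AlgebraicGeometry Opposite
universe u
open BigSite

namespace Groth.Agent.S12223

/-- For a scheme X and an abelian sheaf F on the big Zariski site of X, the cohomology groups of the
restriction of F to the small Zariski site X_Zar agree with the cohomology groups of F on the big
site, in every degree p. Existence of an additive isomorphism only (the canonical comparison map is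
not named here). The continuity of the inclusion of the small Zariski site into the big site is
carried as an instance hypothesis; it always holds. -/
theorem result (X : Scheme.{u}) [BigSite.ZarCont Scheme.zariskiPrecoverage X]
    (F : BigSite.Ab Scheme.zariskiPrecoverage X) (p : ℕ) :
    Nonempty (EtZar.H ((BigSite.resZar Scheme.zariskiPrecoverage X).obj F) p ≃+
      BigSite.H Scheme.zariskiPrecoverage X F p) := by
  have h1 : PreservesFiniteLimits (BigSite.piZarPull Scheme.zariskiPrecoverage X) :=
    Groth.Agent.H10.ZarBig.piZarPull_exact X
  have a1 : (BigSite.piZarPull Scheme.zariskiPrecoverage X).Additive :=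
    (BigSite.piZarAdj Scheme.zariskiPrecoverage X).left_adjoint_additive
  have c1 : PreservesFiniteColimits (BigSite.piZarPull Scheme.zariskiPrecoverage X) :=
    have : PreservesColimitsOfSize.{0, 0} (BigSite.piZarPull Scheme.zariskiPrecoverage X) :=
      (BigSite.piZarAdj Scheme.zariskiPrecoverage X).leftAdjoint_preservesColimits
    PreservesColimitsOfSize.preservesFiniteColimits _
  have h2 : PreservesFiniteLimits (BigSite.resZar Scheme.zariskiPrecoverage X) :=
    have : PreservesLimitsOfSize.{0, 0} (BigSite.resZar Scheme.zariskiPrecoverage X) :=
      (BigSite.piZarAdj Scheme.zariskiPrecoverage X).rightAdjoint_preservesLimits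
    PreservesLimitsOfSize.preservesFiniteLimits _
  have c2 : PreservesFiniteColimits (BigSite.resZar Scheme.zariskiPrecoverage X) :=
    have : PreservesColimitsOfSize.{0, 0} (BigSite.resZar Scheme.zariskiPrecoverage X) :=
      ((BigSite.zarIncl X).sheafAdjunctionCocontinuous AddCommGrpCat.{u + 1}
        (Opens.grothendieckTopology X)
        (QuotSh.J Scheme.zariskiPrecoverage X)).leftAdjoint_preservesColimits
    PreservesColimitsOfSize.preservesFiniteColimits _
  obtain ⟨i⟩ := Groth.Agent.H10.ExtAdj.nonempty_pullback_constantSheaf_iso (BigSite.zarIncl X)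
    AddCommGrpCat.{u + 1} (Opens.grothendieckTopology X) (QuotSh.J Scheme.zariskiPrecoverage X)
    (isTerminalTop : IsTerminal (⊤ : X.Opens))
    (Groth.Agent.H10.ZarBig.isTerminalTop X) (AddCommGrpCat.of (ULift ℤ))
  obtain ⟨e⟩ := Groth.Agent.H10.ExtAdj.nonempty_ext_addEquiv'.{u + 1, u + 1}
    (BigSite.piZarAdj Scheme.zariskiPrecoverage X) _ _ i F p
  exact ⟨e.symm⟩

end Groth.Agent.S12223
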