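import Groth.Statements.S12228
import Mathlib

set_option autoImplicit false
universe w v u
open CategoryTheory CategoryTheory.Limits
open CohDer

namespace Groth.Agent.S12228

theorem aux {A : Type u} [Category.{v} A] [Abelian A] [HasDerivedCategory.{w} A]
    (K₀ L₀ : CochainComplex A ℤ) (b a' b' : ℤ) [K₀.IsStrictlyLE b]
    [L₀.IsStrictlyGE a'] [L₀.IsStrictlyLE b'] :
    (∀ φ : DerivedCategory.Qh.obj ((HomotopyCategory.quotient A (ComplexShape.up ℤ)).obj K₀) ⟶ DerivedCategory.Qh.obj ((HomotopyCategory.quotient A (ComplexShape.up ℤ)).obj L₀),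
      ∃ (L' : HomotopyCategory A (ComplexShape.up ℤ)) (m n : ℤ) (_ : CochainComplex.IsStrictlyGE L'.as m)
        (_ : CochainComplex.IsStrictlyLE L'.as n) (f : (HomotopyCategory.quotient A (ComplexShape.up ℤ)).obj K₀ ⟶ L') (t : (HomotopyCategory.quotient A (ComplexShape.up ℤ)).obj L₀ ⟶ L'),
        HomotopyCategory.quasiIso A (ComplexShape.up ℤ) t ∧ φ ≫ DerivedCategory.Qh.map t = DerivedCategory.Qh.map f) ∧
    (∀ f₁ f₂ : (HomotopyCategory.quotient A (ComplexShape.up ℤ)).obj K₀ ⟶ (HomotopyCategory.quotient A (ComplexShape.up ℤ)).obj L₀, DerivedCategory.Qh.map f₁ = DerivedCategory.Qh.map f₂ →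
      ∃ (L' : HomotopyCategory A (ComplexShape.up ℤ)) (m n : ℤ) (_ : CochainComplex.IsStrictlyGE L'.as m)
        (_ : CochainComplex.IsStrictlyLE L'.as n) (t : (HomotopyCategory.quotient A (ComplexShape.up ℤ)).obj L₀ ⟶ L'),
        HomotopyCategory.quasiIso A (ComplexShape.up ℤ) t ∧ f₁ ≫ t = f₂ ≫ t) := by
  have : K₀.IsStrictlyLE (max b b') :=
    CochainComplex.isStrictlyLE_of_le K₀ b (max b b') (le_max_left _ _)
  have : L₀.IsStrictlyLE (max b b') :=
    CochainComplex.isStrictlyLE_of_le L₀ b' (max b b') (le_max_right _ _)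
  refine ⟨fun φ => ?_, fun f₁ f₂ h => ?_⟩
  · obtain ⟨Y', hY'1, hY'2, g, s, hs, fac⟩ :=
      DerivedCategory.left_fac_of_isStrictlyLE_of_isStrictlyGE (X := K₀) (Y := L₀)
        a' (max b b') φ
    refine ⟨(HomotopyCategory.quotient A (ComplexShape.up ℤ)).obj Y', a', max b b', hY'1, hY'2, (HomotopyCategory.quotient A (ComplexShape.up ℤ)).map g, (HomotopyCategory.quotient A (ComplexShape.up ℤ)).map s, ?_, ?_⟩
    · exact (DerivedCategory.isIso_Qh_map_iff _).1 hs
    · have h1 : ∀ (φ' : DerivedCategory.Q.obj K₀ ⟶ DerivedCategory.Q.obj L₀),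
          φ' = DerivedCategory.Q.map g ≫ inv (DerivedCategory.Q.map s) →
          φ' ≫ DerivedCategory.Q.map s = DerivedCategory.Q.map g := by
        intro φ' hφ'
        rw [hφ', Category.assoc, IsIso.inv_hom_id, Category.comp_id]
      exact h1 φ fac
  · obtain ⟨f₁₀, rfl⟩ := (HomotopyCategory.quotient A (ComplexShape.up ℤ)).map_surjective f₁
    obtain ⟨f₂₀, rfl⟩ := (HomotopyCategory.quotient A (ComplexShape.up ℤ)).map_surjective f₂
    obtain ⟨d, hd⟩ : ∃ d : K₀ ⟶ L₀, d = f₁₀ - f₂₀ := ⟨_, rfl⟩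
    have hQd : DerivedCategory.Q.map d = 0 := by
      have e1 : DerivedCategory.Q.map f₁₀ = DerivedCategory.Q.map f₂₀ := h
      rw [hd, Functor.map_sub, e1, sub_self]
    have hT := DerivedCategory.mappingCone_triangle_distinguished d
    have hmor1 : (DerivedCategory.Q.mapTriangle.obj
        (CochainComplex.mappingCone.triangle d)).mor₁ = DerivedCategory.Q.map d := rfl
    obtain ⟨r, hr'⟩ : ∃ r : DerivedCategory.Q.obj (CochainComplex.mappingCone d) ⟶
        DerivedCategory.Q.obj L₀,
        DerivedCategory.Q.map (CochainComplex.mappingCone.inr d) ≫ r = 𝟙 _ := by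
      obtain ⟨r, hr⟩ := Pretriangulated.Triangle.yoneda_exact₂ _ hT
        (𝟙 (DerivedCategory.Q.obj L₀)) (by rw [hmor1, hQd]; exact zero_comp)
      exact ⟨r, hr.symm⟩
    have : (CochainComplex.mappingCone d).IsStrictlyLE (max b b') := by
      rw [CochainComplex.isStrictlyLE_iff]
      intro i hi
      rw [CochainComplex.mappingCone.isZero_X_iff]
      exact ⟨K₀.isZero_of_isStrictlyLE (max b b') _ (by omega),
        L₀.isZero_of_isStrictlyLE (max b b') _ hi⟩
    obtain ⟨Y', hY'1, hY'2, g, s, hs, fac⟩ :=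
      DerivedCategory.left_fac_of_isStrictlyLE_of_isStrictlyGE
        (X := CochainComplex.mappingCone d) (Y := L₀) a' (max b b') r
    have hQt : DerivedCategory.Q.map (CochainComplex.mappingCone.inr d ≫ g) =
        DerivedCategory.Q.map s := by
      have e3 : ∀ (r' : DerivedCategory.Q.obj (CochainComplex.mappingCone d) ⟶
          DerivedCategory.Q.obj L₀),
          r' = DerivedCategory.Q.map g ≫ inv (DerivedCategory.Q.map s) →
          DerivedCategory.Q.map g = r' ≫ DerivedCategory.Q.map s := by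
        intro r' hr'
        rw [hr', Category.assoc, IsIso.inv_hom_id, Category.comp_id]
      replace e3 := e3 r fac
      rw [Functor.map_comp, e3, ← Category.assoc, hr', Category.id_comp]
    have hqi : IsIso (DerivedCategory.Q.map (CochainComplex.mappingCone.inr d ≫ g)) := by
      rw [hQt]; exact hs
    refine ⟨(HomotopyCategory.quotient A (ComplexShape.up ℤ)).obj Y', a', max b b', hY'1, hY'2,
      (HomotopyCategory.quotient A (ComplexShape.up ℤ)).map (CochainComplex.mappingCone.inr d ≫ g), ?_, ?_⟩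
    · exact (DerivedCategory.isIso_Qh_map_iff _).1 hqi
    · have hz : (HomotopyCategory.quotient A (ComplexShape.up ℤ)).map (d ≫ CochainComplex.mappingCone.inr d) = 0 := by
        have h3 := Pretriangulated.comp_distTriang_mor_zero₁₂ _
          (HomotopyCategory.mappingCone_triangleh_distinguished d)
        rw [Functor.map_comp]
        exact h3
      have e2 : (HomotopyCategory.quotient A (ComplexShape.up ℤ)).map d ≫ (HomotopyCategory.quotient A (ComplexShape.up ℤ)).map (CochainComplex.mappingCone.inr d ≫ g) = 0 := by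
        rw [← Functor.map_comp, ← Category.assoc, Functor.map_comp, hz, zero_comp]
      have e : (HomotopyCategory.quotient A (ComplexShape.up ℤ)).map d = (HomotopyCategory.quotient A (ComplexShape.up ℤ)).map f₁₀ - (HomotopyCategory.quotient A (ComplexShape.up ℤ)).map f₂₀ := by rw [hd, Functor.map_sub]
      rw [e, Preadditive.sub_comp, sub_eq_zero] at e2
      exact e2


/-- Full faithfulness of Kᵇ(A)[Qis⁻¹] → Dᵇ(A), written in terms of roofs. Let A be an abelian category
and K, L bounded complexes (zero outside a finite range of degrees), viewed in the homotopy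
category. Then every morphism Qh(K) → Qh(L) in the derived category is Qh(f) ≫ Qh(t)⁻¹ for some map
f : K → L' and quasi-isomorphism t : L → L' of K(A) with L' again bounded; and two maps f₁, f₂ : K →
L of K(A) become equal in D(A) only if f₁ ≫ t = f₂ ≫ t for some quasi-isomorphism t : L → L' with L'
bounded. -/
theorem result {A : Type u} [Category.{v} A] [Abelian A] [HasDerivedCategory.{w} A]
    (K L : HomotopyCategory A (ComplexShape.up ℤ)) (a b a' b' : ℤ) [CochainComplex.IsStrictlyGE K.as a] [CochainComplex.IsStrictlyLE K.as b]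
    [CochainComplex.IsStrictlyGE L.as a'] [CochainComplex.IsStrictlyLE L.as b'] :
    (∀ φ : DerivedCategory.Qh.obj K ⟶ DerivedCategory.Qh.obj L,
      ∃ (L' : HomotopyCategory A (ComplexShape.up ℤ)) (m n : ℤ) (_ : CochainComplex.IsStrictlyGE L'.as m) (_ : CochainComplex.IsStrictlyLE L'.as n) (f : K ⟶ L') (t : L ⟶ L'),
        HomotopyCategory.quasiIso A (ComplexShape.up ℤ) t ∧ φ ≫ DerivedCategory.Qh.map t = DerivedCategory.Qh.map f) ∧
    (∀ f₁ f₂ : K ⟶ L, DerivedCategory.Qh.map f₁ = DerivedCategory.Qh.map f₂ →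
      ∃ (L' : HomotopyCategory A (ComplexShape.up ℤ)) (m n : ℤ) (_ : CochainComplex.IsStrictlyGE L'.as m) (_ : CochainComplex.IsStrictlyLE L'.as n) (t : L ⟶ L'),
        HomotopyCategory.quasiIso A (ComplexShape.up ℤ) t ∧ f₁ ≫ t = f₂ ≫ t) := by
  obtain ⟨K₀, rfl⟩ := HomotopyCategory.quotient_obj_surjective K
  obtain ⟨L₀, rfl⟩ := HomotopyCategory.quotient_obj_surjective L
  have hK : CochainComplex.IsStrictlyLE K₀ b := ‹_›
  have hL : CochainComplex.IsStrictlyLE L₀ b' := ‹_›
  have hL' : CochainComplex.IsStrictlyGE L₀ a' := ‹_›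
  exact aux K₀ L₀ b a' b'

end Groth.Agent.S12228
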