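import Groth.Statements.S12230
import Mathlib
import Groth.Agent.H13.HomLiftComp

set_option autoImplicit false
universe v u
open CategoryTheory
open FibCat

universe w₁ w₂ w₃ w₄

namespace Groth.Agent.S12230aux

set_option backward.isDefEq.respectTransparency false
set_option backward.isDefEq.respectTransparency.types false

open CategoryTheory FibCat

/-- cancel a vertical morphism on the left of a lift. -/
theorem isHomLift_of_vertical_comp {𝒮 : Type w₁} [Category.{w₂} 𝒮] {𝒵 : Type w₃} [Category.{w₄} 𝒵]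
    (p : 𝒵 ⥤ 𝒮) {a b c : 𝒵} {R S : 𝒮} (k : R ⟶ S) (α : a ⟶ b) (m : b ⟶ c)
    [h1 : p.IsHomLift (𝟙 R) α] [h2 : p.IsHomLift k (α ≫ m)] : p.IsHomLift k m := by
  have hb : p.obj b = R := IsHomLift.codomain_eq p (𝟙 R) α
  have ha : p.obj a = R := IsHomLift.domain_eq p (𝟙 R) α
  have hc : p.obj c = S := IsHomLift.codomain_eq p k (α ≫ m)
  apply IsHomLift.of_fac' p k m hb hc
  have e2' : eqToHom (ha.trans hb.symm) ≫ p.map m = eqToHom ha ≫ k ≫ eqToHom hc.symm := by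
    have e1 := IsHomLift.fac' p (𝟙 R) α
    have e2 := IsHomLift.fac' p k (α ≫ m)
    rw [Functor.map_comp, e1] at e2
    simpa using e2
  rw [eqToHom_comp_iff] at e2'
  rw [e2']
  simp

variable {C : Type u} [Category.{v} C] {𝒳 𝒴 : BasedCategory.{v, max u v} C} (F : 𝒳 ⥤ᵇ 𝒴)

/-- objects of the relative comma category: `(x, y, α : y ⟶ F x)` with `α` vertical. -/
structure Obj : Type (max u v) where
  x : 𝒳.obj
  y : 𝒴.obj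
  α : y ⟶ F.obj x
  hα : 𝒴.p.IsHomLift (𝟙 (𝒴.p.obj y)) α

variable {F}

/-- morphisms of the relative comma category. -/
structure Hom (X Y : Obj F) : Type v where
  a : X.x ⟶ Y.x
  b : X.y ⟶ Y.y
  w : X.α ≫ F.map a = b ≫ Y.α

theorem Hom.ext' {X Y : Obj F} {f g : Hom X Y} (h₁ : f.a = g.a) (h₂ : f.b = g.b) : f = g := by
  cases f
  cases g
  cases h₁
  cases h₂
  rfl

instance : Category.{v} (Obj F) where
  Hom := Hom
  id X := ⟨𝟙 X.x, 𝟙 X.y, by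
    rw [CategoryTheory.Functor.map_id, Category.comp_id, Category.id_comp]⟩
  comp f g := ⟨f.a ≫ g.a, f.b ≫ g.b, by
    rw [Functor.map_comp, ← Category.assoc, f.w, Category.assoc, g.w, Category.assoc]⟩
  id_comp f := Hom.ext' (Category.id_comp _) (Category.id_comp _)
  comp_id f := Hom.ext' (Category.comp_id _) (Category.comp_id _)
  assoc f g h := Hom.ext' (Category.assoc _ _ _) (Category.assoc _ _ _)

theorem hom_ext {X Y : Obj F} {f g : X ⟶ Y} (h₁ : f.a = g.a) (h₂ : f.b = g.b) : f = g :=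
  Hom.ext' h₁ h₂

@[simp] theorem id_a (X : Obj F) : (𝟙 X : X ⟶ X).a = 𝟙 X.x := rfl
@[simp] theorem id_b (X : Obj F) : (𝟙 X : X ⟶ X).b = 𝟙 X.y := rfl
@[simp] theorem comp_a {X Y Z : Obj F} (f : X ⟶ Y) (g : Y ⟶ Z) : (f ≫ g).a = f.a ≫ g.a := rfl
@[simp] theorem comp_b {X Y Z : Obj F} (f : X ⟶ Y) (g : Y ⟶ Z) : (f ≫ g).b = f.b ≫ g.b := rfl

variable (F)

/-- the projection to `𝒴`. -/
def vF : Obj F ⥤ 𝒴.obj where
  obj X := X.y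
  map f := f.b
  map_id _ := rfl
  map_comp _ _ := rfl

/-- the projection to `𝒳`. -/
def wF : Obj F ⥤ 𝒳.obj where
  obj X := X.x
  map f := f.a
  map_id _ := rfl
  map_comp _ _ := rfl

/-- the embedding of `𝒳`. -/
def uF : 𝒳.obj ⥤ Obj F where
  obj x := ⟨x, F.obj x, 𝟙 _, IsHomLift.id rfl⟩
  map a := ⟨a, F.map a, by
    show 𝟙 _ ≫ F.map a = F.map a ≫ 𝟙 _
    rw [Category.id_comp, Category.comp_id]⟩
  map_id x := hom_ext rfl (F.toFunctor.map_id x)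
  map_comp f g := hom_ext rfl (F.toFunctor.map_comp f g)

theorem obj_eq (X : Obj F) : 𝒳.p.obj X.x = 𝒴.p.obj X.y := by
  haveI := X.hα
  exact (F.w_obj X.x).symm.trans (IsHomLift.codomain_eq 𝒴.p (𝟙 (𝒴.p.obj X.y)) X.α)

theorem lift_a {X Y : Obj F} (Φ : X ⟶ Y) {R S : C} (k : R ⟶ S) [hk : 𝒴.p.IsHomLift k Φ.b] :
    𝒳.p.IsHomLift k Φ.a := by
  subst_hom_lift 𝒴.p k Φ.b
  haveI := X.hα
  haveI := Y.hα
  haveI h1 : 𝒴.p.IsHomLift (𝒴.p.map Φ.b) (Φ.b ≫ Y.α) := inferInstance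
  haveI h2 : 𝒴.p.IsHomLift (𝒴.p.map Φ.b) (X.α ≫ F.map Φ.a) := by
    rw [Φ.w]
    exact h1
  have h3 : 𝒴.p.IsHomLift (𝒴.p.map Φ.b) (F.map Φ.a) :=
    isHomLift_of_vertical_comp 𝒴.p (𝒴.p.map Φ.b) X.α (F.map Φ.a)
  have h4 : (F.toFunctor ⋙ 𝒴.p).IsHomLift (𝒴.p.map Φ.b) Φ.a :=
    (Groth.Agent.H13.isHomLift_comp_iff F.toFunctor 𝒴.p _ Φ.a).2 h3
  rw [F.w] at h4
  exact h4

/-- the relative comma category as a category over `C`. -/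
abbrev X' : BasedCategory.{v, max u v} C := BasedCategory.ofFunctor (vF F ⋙ 𝒴.p)

/-- `v` as a functor over `C`. -/
def vB : X' F ⥤ᵇ 𝒴 where
  toFunctor := vF F
  w := rfl

/-- `u` as a functor over `C`. -/
def uB : 𝒳 ⥤ᵇ X' F where
  toFunctor := uF F
  w := F.w

/-- `w` as a functor over `C`. -/
def wB : X' F ⥤ᵇ 𝒳 where
  toFunctor := wF F
  w := by
    refine CategoryTheory.Functor.ext (fun X => obj_eq F X) (fun X Y Φ => ?_)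
    haveI : 𝒳.p.IsHomLift (𝒴.p.map Φ.b) Φ.a := lift_a F Φ _
    exact IsHomLift.fac' 𝒳.p (𝒴.p.map Φ.b) Φ.a

theorem sc_of_components (hF : PreservesStronglyCartesian F) {X₁ X₂ : Obj F} (Φ : X₁ ⟶ X₂)
    {R S : C} (f : R ⟶ S) (ha : 𝒳.p.IsStronglyCartesian f Φ.a)
    (hb : 𝒴.p.IsStronglyCartesian f Φ.b) : (vF F ⋙ 𝒴.p).IsStronglyCartesian f Φ := by
  haveI := ha
  haveI := hb
  have hR : 𝒴.p.obj X₁.y = R := IsHomLift.domain_eq 𝒴.p f Φ.b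
  have hS : 𝒴.p.obj X₂.y = S := IsHomLift.codomain_eq 𝒴.p f Φ.b
  subst hR
  subst hS
  haveI hFa : 𝒴.p.IsStronglyCartesian f (F.map Φ.a) := hF f Φ.a ha
  have hlift : (vF F ⋙ 𝒴.p).IsHomLift f Φ :=
    (Groth.Agent.H13.isHomLift_comp_iff (vF F) 𝒴.p f Φ).2
      (inferInstance : 𝒴.p.IsHomLift f Φ.b)
  refine { toIsHomLift := hlift, universal_property' := ?_ }
  intro X'' h Φ' hΦ'
  haveI hb' : 𝒴.p.IsHomLift (h ≫ f) Φ'.b :=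
    (Groth.Agent.H13.isHomLift_comp_iff (vF F) 𝒴.p (h ≫ f) Φ').1 hΦ'
  haveI ha' : 𝒳.p.IsHomLift (h ≫ f) Φ'.a := lift_a F Φ' (h ≫ f)
  let b₁ : X''.y ⟶ X₁.y :=
    Functor.IsStronglyCartesian.map 𝒴.p f Φ.b (g := h) (f' := h ≫ f) rfl Φ'.b
  let a₁ : X''.x ⟶ X₁.x :=
    Functor.IsStronglyCartesian.map 𝒳.p f Φ.a (g := h) (f' := h ≫ f) rfl Φ'.a
  haveI hb₁ : 𝒴.p.IsHomLift h b₁ :=
    Functor.IsStronglyCartesian.map_isHomLift 𝒴.p f Φ.b (g := h) (f' := h ≫ f) rfl Φ'.b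
  haveI ha₁ : 𝒳.p.IsHomLift h a₁ :=
    Functor.IsStronglyCartesian.map_isHomLift 𝒳.p f Φ.a (g := h) (f' := h ≫ f) rfl Φ'.a
  have fb : b₁ ≫ Φ.b = Φ'.b :=
    Functor.IsStronglyCartesian.fac 𝒴.p f Φ.b (g := h) (f' := h ≫ f) rfl Φ'.b
  have fa : a₁ ≫ Φ.a = Φ'.a :=
    Functor.IsStronglyCartesian.fac 𝒳.p f Φ.a (g := h) (f' := h ≫ f) rfl Φ'.a
  haveI := X''.hα
  haveI := X₁.hα
  haveI hFa₁ : 𝒴.p.IsHomLift h (F.map a₁) := inferInstance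
  haveI l1 : 𝒴.p.IsHomLift h (X''.α ≫ F.map a₁) :=
    IsHomLift.comp_lift_id_left' 𝒴.p (𝒴.p.obj X''.y) X''.α h (F.map a₁)
  haveI l2 : 𝒴.p.IsHomLift h (b₁ ≫ X₁.α) := inferInstance
  have sq : X''.α ≫ F.map a₁ = b₁ ≫ X₁.α := by
    apply Functor.IsStronglyCartesian.ext 𝒴.p f (F.map Φ.a) h
    rw [Category.assoc, ← Functor.map_comp, fa, Φ'.w, Category.assoc, Φ.w, ← Category.assoc, fb]
  let χ : X'' ⟶ X₁ := ⟨a₁, b₁, sq⟩
  refine ⟨χ, ⟨?_, ?_⟩, ?_⟩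
  · exact (Groth.Agent.H13.isHomLift_comp_iff (vF F) 𝒴.p h χ).2 hb₁
  · exact hom_ext fa fb
  · rintro χ' ⟨hχ', hχ'Φ⟩
    haveI hχb : 𝒴.p.IsHomLift h χ'.b :=
      (Groth.Agent.H13.isHomLift_comp_iff (vF F) 𝒴.p h χ').1 hχ'
    haveI hχa : 𝒳.p.IsHomLift h χ'.a := lift_a F χ' h
    have e1 : χ'.a ≫ Φ.a = Φ'.a := congrArg Hom.a hχ'Φ
    have e2 : χ'.b ≫ Φ.b = Φ'.b := congrArg Hom.b hχ'Φ
    apply hom_ext
    · exact Functor.IsStronglyCartesian.map_uniq 𝒳.p f Φ.a (g := h) (f' := h ≫ f) rfl Φ'.a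
        χ'.a e1
    · exact Functor.IsStronglyCartesian.map_uniq 𝒴.p f Φ.b (g := h) (f' := h ≫ f) rfl Φ'.b
        χ'.b e2

theorem v_sc (hF : PreservesStronglyCartesian F) {X₁ X₂ : Obj F} (Φ : X₁ ⟶ X₂)
    (ha : 𝒳.p.IsStronglyCartesian (𝒴.p.map Φ.b) Φ.a) :
    (vF F).IsStronglyCartesian Φ.b Φ := by
  haveI := ha
  haveI hFa : 𝒴.p.IsStronglyCartesian (𝒴.p.map Φ.b) (F.map Φ.a) := hF _ Φ.a ha
  have hlift : (vF F).IsHomLift Φ.b Φ := IsHomLift.map (vF F) Φ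
  refine { toIsHomLift := hlift, universal_property' := ?_ }
  intro X'' h Φ' hΦ'
  have hb' : h ≫ Φ.b = Φ'.b :=
    @IsHomLift.eq_of_isHomLift _ _ _ _ (vF F) X'' X₂ (h ≫ Φ.b) Φ' hΦ'
  haveI hbl : 𝒴.p.IsHomLift (𝒴.p.map h ≫ 𝒴.p.map Φ.b) Φ'.b := by
    rw [← Functor.map_comp, hb']
    infer_instance
  haveI ha' : 𝒳.p.IsHomLift (𝒴.p.map h ≫ 𝒴.p.map Φ.b) Φ'.a := lift_a F Φ' _
  let a₁ : X''.x ⟶ X₁.x :=
    Functor.IsStronglyCartesian.map 𝒳.p (𝒴.p.map Φ.b) Φ.a (g := 𝒴.p.map h)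
      (f' := 𝒴.p.map h ≫ 𝒴.p.map Φ.b) rfl Φ'.a
  haveI ha₁ : 𝒳.p.IsHomLift (𝒴.p.map h) a₁ :=
    Functor.IsStronglyCartesian.map_isHomLift 𝒳.p (𝒴.p.map Φ.b) Φ.a (g := 𝒴.p.map h)
      (f' := 𝒴.p.map h ≫ 𝒴.p.map Φ.b) rfl Φ'.a
  have fa : a₁ ≫ Φ.a = Φ'.a :=
    Functor.IsStronglyCartesian.fac 𝒳.p (𝒴.p.map Φ.b) Φ.a (g := 𝒴.p.map h)
      (f' := 𝒴.p.map h ≫ 𝒴.p.map Φ.b) rfl Φ'.a
  haveI := X''.hα
  haveI := X₁.hα
  haveI hFa₁ : 𝒴.p.IsHomLift (𝒴.p.map h) (F.map a₁) := inferInstance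
  haveI l1 : 𝒴.p.IsHomLift (𝒴.p.map h) (X''.α ≫ F.map a₁) :=
    IsHomLift.comp_lift_id_left' 𝒴.p (𝒴.p.obj X''.y) X''.α (𝒴.p.map h) (F.map a₁)
  haveI l2 : 𝒴.p.IsHomLift (𝒴.p.map h) (h ≫ X₁.α) := inferInstance
  have sq : X''.α ≫ F.map a₁ = h ≫ X₁.α := by
    apply Functor.IsStronglyCartesian.ext 𝒴.p (𝒴.p.map Φ.b) (F.map Φ.a) (𝒴.p.map h)
    rw [Category.assoc, ← Functor.map_comp, fa, Φ'.w, Category.assoc, Φ.w, ← Category.assoc, hb']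
  let χ : X'' ⟶ X₁ := ⟨a₁, h, sq⟩
  refine ⟨χ, ⟨IsHomLift.map (vF F) χ, hom_ext fa hb'⟩, ?_⟩
  rintro χ' ⟨hχ', hχ'Φ⟩
  have hχb : h = χ'.b := @IsHomLift.eq_of_isHomLift _ _ _ _ (vF F) X'' X₁ h χ' hχ'
  have e1 : χ'.a ≫ Φ.a = Φ'.a := congrArg Hom.a hχ'Φ
  haveI hχa : 𝒳.p.IsHomLift (𝒴.p.map h) χ'.a := by
    rw [hχb]
    exact lift_a F χ' _
  apply hom_ext
  · exact Functor.IsStronglyCartesian.map_uniq 𝒳.p (𝒴.p.map Φ.b) Φ.a (g := 𝒴.p.map h)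
      (f' := 𝒴.p.map h ≫ 𝒴.p.map Φ.b) rfl Φ'.a χ'.a e1
  · exact hχb.symm

theorem exists_lift_b [𝒳.p.IsFibered] (hF : PreservesStronglyCartesian F) (X₂ : Obj F)
    {y' : 𝒴.obj} (g : y' ⟶ X₂.y) :
    ∃ (x' : 𝒳.obj) (γ : x' ⟶ X₂.x) (α' : y' ⟶ F.obj x')
      (_ : 𝒴.p.IsHomLift (𝟙 (𝒴.p.obj y')) α') (_ : α' ≫ F.map γ = g ≫ X₂.α),
      𝒳.p.IsStronglyCartesian (𝒴.p.map g) γ := by
  haveI := X₂.hα
  obtain ⟨x', γ, hγ⟩ := CategoryTheory.IsPreFibered.exists_isCartesian 𝒳.p (obj_eq F X₂)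
    (𝒴.p.map g)
  haveI := hγ
  haveI hsc : 𝒳.p.IsStronglyCartesian (𝒴.p.map g) γ := inferInstance
  haveI hFsc : 𝒴.p.IsStronglyCartesian (𝒴.p.map g) (F.map γ) := hF _ γ hsc
  haveI hl : 𝒴.p.IsHomLift (𝒴.p.map g) (g ≫ X₂.α) := inferInstance
  exact ⟨x', γ,
    Functor.IsStronglyCartesian.map 𝒴.p (𝒴.p.map g) (F.map γ) (g := 𝟙 (𝒴.p.obj y'))
      (f' := 𝒴.p.map g) (Category.id_comp _).symm (g ≫ X₂.α),
    Functor.IsStronglyCartesian.map_isHomLift 𝒴.p (𝒴.p.map g) (F.map γ) (g := 𝟙 (𝒴.p.obj y'))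
      (f' := 𝒴.p.map g) (Category.id_comp _).symm (g ≫ X₂.α),
    Functor.IsStronglyCartesian.fac 𝒴.p (𝒴.p.map g) (F.map γ) (g := 𝟙 (𝒴.p.obj y'))
      (f' := 𝒴.p.map g) (Category.id_comp _).symm (g ≫ X₂.α), hsc⟩

theorem exists_lift [𝒳.p.IsFibered] [𝒴.p.IsFibered] (hF : PreservesStronglyCartesian F)
    (X₂ : Obj F) {R : C} (f : R ⟶ 𝒴.p.obj X₂.y) :
    ∃ (X₀ : Obj F) (Φ₀ : X₀ ⟶ X₂),
      𝒳.p.IsStronglyCartesian f Φ₀.a ∧ 𝒴.p.IsStronglyCartesian f Φ₀.b := by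
  obtain ⟨y', g, hg⟩ := CategoryTheory.IsPreFibered.exists_isCartesian 𝒴.p
    (rfl : 𝒴.p.obj X₂.y = 𝒴.p.obj X₂.y) f
  haveI := hg
  have hgsc : 𝒴.p.IsStronglyCartesian f g := inferInstance
  have hR : 𝒴.p.obj y' = R := IsHomLift.domain_eq 𝒴.p f g
  subst hR
  have hf : f = 𝒴.p.map g := IsHomLift.eq_of_isHomLift 𝒴.p f g
  subst hf
  obtain ⟨x', γ, α', hα', w, hγ⟩ := exists_lift_b F hF X₂ g
  exact ⟨⟨x', y', α', hα'⟩, ⟨γ, g, w⟩, hγ, hgsc⟩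

theorem components_sc [𝒳.p.IsFibered] [𝒴.p.IsFibered] (hF : PreservesStronglyCartesian F)
    {X₁ X₂ : Obj F} (Φ : X₁ ⟶ X₂) {R S : C} (f : R ⟶ S)
    (h : (vF F ⋙ 𝒴.p).IsStronglyCartesian f Φ) :
    𝒳.p.IsStronglyCartesian f Φ.a ∧ 𝒴.p.IsStronglyCartesian f Φ.b := by
  haveI := h
  have hS : 𝒴.p.obj X₂.y = S := IsHomLift.codomain_eq (vF F ⋙ 𝒴.p) f Φ
  subst hS
  obtain ⟨X₀, Φ₀, ha₀, hb₀⟩ := exists_lift F hF X₂ f
  haveI h₀ : (vF F ⋙ 𝒴.p).IsStronglyCartesian f Φ₀ := sc_of_components F hF Φ₀ f ha₀ hb₀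
  let θ : X₁ ≅ X₀ := Functor.IsCartesian.domainUniqueUpToIso (vF F ⋙ 𝒴.p) f Φ₀ Φ
  have hθ : θ.hom ≫ Φ₀ = Φ := Functor.IsCartesian.fac (vF F ⋙ 𝒴.p) f Φ₀ Φ
  haveI hθl : (vF F ⋙ 𝒴.p).IsHomLift (𝟙 R) θ.hom :=
    Functor.IsCartesian.map_isHomLift (vF F ⋙ 𝒴.p) f Φ₀ Φ
  haveI hθb : 𝒴.p.IsHomLift (𝟙 R) θ.hom.b :=
    (Groth.Agent.H13.isHomLift_comp_iff (vF F) 𝒴.p (𝟙 R) θ.hom).1 hθl
  haveI hθa : 𝒳.p.IsHomLift (𝟙 R) θ.hom.a := lift_a F θ.hom (𝟙 R)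
  haveI := ha₀
  haveI := hb₀
  constructor
  · have e : Φ.a = ((wF F).mapIso θ).hom ≫ Φ₀.a := (congrArg Hom.a hθ).symm
    rw [e]
    haveI : 𝒳.p.IsHomLift (𝟙 R) ((wF F).mapIso θ).hom := hθa
    haveI : 𝒳.p.IsCartesian f (((wF F).mapIso θ).hom ≫ Φ₀.a) := inferInstance
    infer_instance
  · have e : Φ.b = ((vF F).mapIso θ).hom ≫ Φ₀.b := (congrArg Hom.b hθ).symm
    rw [e]
    haveI : 𝒴.p.IsHomLift (𝟙 R) ((vF F).mapIso θ).hom := hθb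
    haveI : 𝒴.p.IsCartesian f (((vF F).mapIso θ).hom ≫ Φ₀.b) := inferInstance
    infer_instance

/-- the adjunction `w ⊣ u`. -/
def adj : wF F ⊣ uF F :=
  Adjunction.mkOfHomEquiv
    { homEquiv := fun X x' =>
        { toFun := fun a => ⟨a, X.α ≫ F.map a, by
            show X.α ≫ F.map a = (X.α ≫ F.map a) ≫ 𝟙 (F.obj x')
            rw [Category.comp_id]⟩
          invFun := fun Φ => Φ.a
          left_inv := fun a => rfl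
          right_inv := fun Φ => by
            apply hom_ext
            · rfl
            · have h : X.α ≫ F.map Φ.a = Φ.b ≫ 𝟙 (F.obj x') := Φ.w
              exact h.trans (Category.comp_id _) }
      homEquiv_naturality_left_symm := fun f g => rfl
      homEquiv_naturality_right := fun {X x' x''} f g => by
        apply hom_ext
        · rfl
        · show X.α ≫ F.map (f ≫ g) = (X.α ≫ F.map f) ≫ F.map g
          rw [Functor.map_comp, Category.assoc] }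

theorem main [𝒳.p.IsFibered] [𝒴.p.IsFibered] (hF : PreservesStronglyCartesian F) :
    ∃ (𝒳' : BasedCategory.{v, max u v} C) (u : 𝒳 ⥤ᵇ 𝒳') (v : 𝒳' ⥤ᵇ 𝒴) (w : 𝒳' ⥤ᵇ 𝒳),
      𝒳'.p.IsFibered ∧ PreservesStronglyCartesian u ∧ PreservesStronglyCartesian v ∧
        PreservesStronglyCartesian w ∧ BasedFunctor.comp u v = F ∧
        u.toFunctor.Full ∧ u.toFunctor.Faithful ∧ Nonempty (w.toFunctor ⊣ u.toFunctor) ∧
        v.toFunctor.IsFibered := by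
  refine ⟨X' F, uB F, vB F, wB F, ?_, ?_, ?_, ?_, rfl, ?_, ?_, ⟨adj F⟩, ?_⟩
  · apply Functor.IsFibered.of_exists_isStronglyCartesian
    intro X₂ R f
    obtain ⟨X₀, Φ₀, ha₀, hb₀⟩ := exists_lift F hF X₂ f
    exact ⟨X₀, Φ₀, sc_of_components F hF Φ₀ f ha₀ hb₀⟩
  · intro R S f a b φ hφ
    exact sc_of_components F hF ((uF F).map φ) f hφ (hF f φ hφ)
  · intro R S f a b φ hφ
    exact (components_sc F hF φ f hφ).2
  · intro R S f a b φ hφ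
    exact (components_sc F hF φ f hφ).1
  · refine ⟨fun {x x'} Φ => ⟨Φ.a, ?_⟩⟩
    apply hom_ext
    · rfl
    · have h : 𝟙 (F.obj x) ≫ F.map Φ.a = Φ.b ≫ 𝟙 (F.obj x') := Φ.w
      exact (Category.id_comp _).symm.trans (h.trans (Category.comp_id _))
  · exact ⟨fun {x x'} a a' h => congrArg Hom.a h⟩
  · apply Functor.IsFibered.of_exists_isStronglyCartesian
    intro X₂ y' g
    obtain ⟨x', γ, α', hα', w, hγ⟩ := exists_lift_b F hF X₂ g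
    exact ⟨⟨x', y', α', hα'⟩, ⟨γ, g, w⟩, v_sc F hF (⟨γ, g, w⟩ : (⟨x', y', α', hα'⟩ : Obj F) ⟶ X₂) hγ⟩

end Groth.Agent.S12230aux

namespace Groth.Agent.S12230

/-- Let C be a category and F : 𝒳 → 𝒴 a 1-morphism of fibred categories over C. Then there are a fibred
category 𝒳' over C and 1-morphisms of fibred categories u : 𝒳 → 𝒳', v : 𝒳' → 𝒴, w : 𝒳' → 𝒳 over C
with F = v ∘ u such that u is fully faithful with w as its left adjoint, and v : 𝒳' → 𝒴 makes 𝒳' a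
fibred category over 𝒴. (Stated for 𝒳, 𝒴 whose morphisms live in the universe of the morphisms of C
and whose objects live one universe level up, the size of categories of C-data; the adjunction w ⊣ u
is of the underlying functors.) -/
theorem result {C : Type u} [Category.{v} C]
    {𝒳 𝒴 : BasedCategory.{v, max u v} C} [𝒳.p.IsFibered] [𝒴.p.IsFibered]
    (F : 𝒳 ⥤ᵇ 𝒴) (hF : FibCat.PreservesStronglyCartesian F) :
    ∃ (𝒳' : BasedCategory.{v, max u v} C) (u : 𝒳 ⥤ᵇ 𝒳') (v : 𝒳' ⥤ᵇ 𝒴) (w : 𝒳' ⥤ᵇ 𝒳),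
      𝒳'.p.IsFibered ∧ FibCat.PreservesStronglyCartesian u ∧ FibCat.PreservesStronglyCartesian v ∧
        FibCat.PreservesStronglyCartesian w ∧ BasedFunctor.comp u v = F ∧
        u.toFunctor.Full ∧ u.toFunctor.Faithful ∧ Nonempty (w.toFunctor ⊣ u.toFunctor) ∧
        v.toFunctor.IsFibered := by
  exact Groth.Agent.S12230aux.main F hF

end Groth.Agent.S12230
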