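import Groth.Statements.S12249
import Mathlib

set_option autoImplicit false
universe u v
open CategoryTheory
open Deform

namespace Groth.Agent.S12249

/-- Let k be an algebraically closed field and F a set-valued functor on local Artinian k-algebras with
residue field k such that F(k) is a single point. If F has a semiuniversal formal element and its
tangent space F(k[ε]) is reduced to one element, then F(A) consists of exactly one element for every
A: F is the constant one-point functor h_k. -/
theorem result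
    {k : Type u} [Field k] [IsAlgClosed k]
    (F : ArtFun.Art k k ⥤ Type v) (h0 : ArtFun.H0 F) (hF : ArtFun.HasHull F)
    (ht : Subsingleton (ArtFun.TangentSpace F)) (A : ArtFun.Art k k) :
    Nonempty (F.obj A) ∧ Subsingleton (F.obj A) := by
  obtain ⟨⟨Rc, ξ, hv, hbij⟩⟩ := hF
  have hker : ∀ a : Rc.carrier, a ∈ IsLocalRing.maximalIdeal Rc.carrier ↔ Rc.res a = 0 := by
    intro a
    have hmax : (RingHom.ker (Rc.res : Rc.carrier →+* k)).IsMaximal :=
      RingHom.ker_isMaximal_of_surjective (Rc.res : Rc.carrier →+* k) Rc.res_surjective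
    rw [← IsLocalRing.eq_maximalIdeal hmax, RingHom.mem_ker]
    rfl
  have hsub : Subsingleton (ArtFun.HomSet Rc.carrier Rc.res (ArtFun.Art.dual k k)) :=
    ⟨fun a b => hbij.1 (@Subsingleton.elim _ ht _ _)⟩
  have hm : IsLocalRing.maximalIdeal Rc.carrier = ⊥ := by
    apply Submodule.eq_bot_of_le_smul_of_le_jacobson_bot (IsLocalRing.maximalIdeal Rc.carrier)
      (IsLocalRing.maximalIdeal Rc.carrier) (IsNoetherian.noetherian _) ?_
      (IsLocalRing.maximalIdeal_le_jacobson _)
    intro x hx
    by_contra hx2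
    let W : Submodule k Rc.carrier := Submodule.span k {(1 : Rc.carrier)} ⊔
      (IsLocalRing.maximalIdeal Rc.carrier • IsLocalRing.maximalIdeal Rc.carrier).restrictScalars k
    have hxW : x ∉ W := by
      intro hxW
      obtain ⟨y, hy, z, hz, hyz⟩ := Submodule.mem_sup.1 hxW
      obtain ⟨c, rfl⟩ := Submodule.mem_span_singleton.1 hy
      have hz' : z ∈ IsLocalRing.maximalIdeal Rc.carrier • IsLocalRing.maximalIdeal Rc.carrier := hz
      have hzm : z ∈ IsLocalRing.maximalIdeal Rc.carrier := Submodule.smul_le_right hz'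
      have h1 : Rc.res x = 0 := (hker x).1 hx
      have h2 : Rc.res z = 0 := (hker z).1 hzm
      have h3 : Rc.res (c • (1 : Rc.carrier) + z) = c := by
        rw [map_add, map_smul, map_one, h2, add_zero, smul_eq_mul, mul_one]
      rw [hyz, h1] at h3
      apply hx2
      rw [← hyz, ← h3, zero_smul, zero_add]
      exact hz'
    obtain ⟨f, hfx, hfW⟩ : ∃ f : Rc.carrier →ₗ[k] k, f x ≠ 0 ∧ W.map f = ⊥ :=
      Submodule.exists_dual_map_eq_bot_of_notMem hxW inferInstance
    have hfW' : ∀ w ∈ W, f w = 0 := fun w hw =>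
      (Submodule.eq_bot_iff _).1 hfW (f w) (Submodule.mem_map_of_mem hw)
    have hf1 : ∀ c : k, f (algebraMap k Rc.carrier c) = 0 := by
      intro c
      apply hfW'
      apply Submodule.mem_sup_left
      rw [Algebra.algebraMap_eq_smul_one]
      exact Submodule.smul_mem _ _ (Submodule.mem_span_singleton_self _)
    have hf2 : ∀ u ∈ IsLocalRing.maximalIdeal Rc.carrier,
        ∀ u' ∈ IsLocalRing.maximalIdeal Rc.carrier, f (u * u') = 0 := by
      intro u hu u' hu'
      apply hfW'
      apply Submodule.mem_sup_right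
      have h4 := Submodule.smul_mem_smul hu hu'
      rw [smul_eq_mul] at h4
      exact h4
    have hsubm : ∀ r : Rc.carrier,
        r - algebraMap k Rc.carrier (Rc.res r) ∈ IsLocalRing.maximalIdeal Rc.carrier := by
      intro r
      rw [hker, map_sub, AlgHom.commutes]
      exact sub_self _
    have hmul : ∀ r r' : Rc.carrier, f (r * r') = Rc.res r * f r' + Rc.res r' * f r := by
      intro r r'
      have key : r * r' = algebraMap k Rc.carrier (Rc.res r * Rc.res r')
          + Rc.res r • (r' - algebraMap k Rc.carrier (Rc.res r'))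
          + Rc.res r' • (r - algebraMap k Rc.carrier (Rc.res r))
          + (r - algebraMap k Rc.carrier (Rc.res r)) *
            (r' - algebraMap k Rc.carrier (Rc.res r')) := by
        simp only [Algebra.smul_def, map_mul]
        ring
      conv_lhs => rw [key]
      simp only [map_add, map_smul, map_sub, hf1, hf2 _ (hsubm r) _ (hsubm r'), smul_eq_mul,
        sub_zero, zero_add, add_zero]
    let g : Rc.carrier →ₗ[k] DualNumber k :=
      (Algebra.linearMap k (DualNumber k)).comp Rc.res.toLinearMap +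
        (TrivSqZeroExt.inrHom k k).comp f
    have hg1 : ∀ r, (g r).fst = Rc.res r := by
      intro r
      simp [g, TrivSqZeroExt.algebraMap_eq_inl]
    have hg2 : ∀ r, (g r).snd = f r := by
      intro r
      simp [g, TrivSqZeroExt.algebraMap_eq_inl]
    have hf1' : f 1 = 0 := by
      have := hf1 1
      rwa [map_one] at this
    let ψ : Rc.carrier →ₐ[k] DualNumber k := AlgHom.ofLinearMap g
      (TrivSqZeroExt.ext (by rw [hg1, map_one, TrivSqZeroExt.fst_one])
        (by rw [hg2, hf1', TrivSqZeroExt.snd_one]))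
      (fun r r' => TrivSqZeroExt.ext
        (by rw [hg1, TrivSqZeroExt.fst_mul, hg1, hg1, map_mul])
        (by
          rw [hg2, TrivSqZeroExt.snd_mul, hg1, hg1, hg2, hg2, hmul, smul_eq_mul,
            op_smul_eq_mul]
          ring))
    have hψ1 : (ArtFun.Art.dual k k).res.comp ψ = Rc.res :=
      AlgHom.ext fun r => hg1 r
    have hψ0 : (ArtFun.Art.dual k k).res.comp ((Algebra.ofId k (DualNumber k)).comp Rc.res) =
        Rc.res :=
      AlgHom.ext fun r => rfl
    have h5 := hsub.elim ⟨ψ, hψ1⟩ ⟨(Algebra.ofId k (DualNumber k)).comp Rc.res, hψ0⟩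
    have h6 := congrArg (fun φ : ArtFun.HomSet Rc.carrier Rc.res (ArtFun.Art.dual k k) =>
      TrivSqZeroExt.snd (R := k) (M := k) (φ.1 x)) h5
    have h7 : f x = 0 := by
      have h8 : TrivSqZeroExt.snd (R := k) (M := k) (ψ x) = f x := hg2 x
      rw [← h8]
      exact h6
    exact hfx h7
  have hr : ∀ r : Rc.carrier, r = algebraMap k Rc.carrier (Rc.res r) := by
    intro r
    have h9 : r - algebraMap k Rc.carrier (Rc.res r) ∈ IsLocalRing.maximalIdeal Rc.carrier := by
      rw [hker, map_sub, AlgHom.commutes]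
      exact sub_self _
    rw [hm, Ideal.mem_bot, sub_eq_zero] at h9
    exact h9
  have hsubA : Subsingleton (ArtFun.HomSet Rc.carrier Rc.res A) := by
    refine ⟨fun a b => Subtype.ext (AlgHom.ext fun r => ?_)⟩
    rw [hr r, AlgHom.commutes, AlgHom.commutes]
  refine ⟨?_, ?_⟩
  · obtain ⟨x⟩ := h0.1
    exact ⟨F.map (ArtFun.Art.homMk (A := ArtFun.Art.base k k) (B := A) (Algebra.ofId k A)
      (AlgHom.ext fun c => A.res.commutes c)) x⟩
  · refine ⟨fun y₁ y₂ => ?_⟩
    have hsurj : ∀ y : F.obj A, ∃ ψ : ArtFun.HomSet Rc.carrier Rc.res A, ξ.app A ψ = y := by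
      intro y
      obtain ⟨ψ, -, hψ⟩ := hv (ArtFun.Art.toBase A) A.res_surjective
        ⟨Rc.res, AlgHom.id_comp _⟩ y (h0.2.elim _ _)
      exact ⟨ψ, hψ⟩
    obtain ⟨ψ₁, rfl⟩ := hsurj y₁
    obtain ⟨ψ₂, rfl⟩ := hsurj y₂
    rw [hsubA.elim ψ₁ ψ₂]

end Groth.Agent.S12249
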