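import Groth.Statements.S12250
import Mathlib

set_option autoImplicit false
universe u v
open CategoryTheory
open Deform

namespace Groth.Agent.S12250

section Helpers

open ArtFun

variable {Λ : Type u} {k : Type u} [CommRing Λ] [Field k] [Algebra Λ k]

/-- `φ` kills `m_R^(n+1)`. -/
def Kills (R : CRing Λ k) {A : Art Λ k} (φ : HomSet R.carrier R.res A) (n : ℕ) : Prop :=
  ∀ a ∈ CRing.mpow R n, φ.1 a = 0

lemma Kills.mono (R : CRing Λ k) {A : Art Λ k} {φ : HomSet R.carrier R.res A} {n n' : ℕ}
    (hle : n ≤ n') (h : Kills R φ n) : Kills R φ n' :=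
  fun a ha => h a (Ideal.pow_le_pow_right (Nat.succ_le_succ hle) ha)

lemma exists_kills (R : CRing Λ k) {A : Art Λ k} (φ : HomSet R.carrier R.res A) :
    ∃ n, Kills R φ n := by
  obtain ⟨n, hn⟩ : IsNilpotent (IsLocalRing.maximalIdeal A) := by
    have h0 := IsArtinianRing.isNilpotent_jacobson_bot (R := A)
    rwa [IsLocalRing.jacobson_eq_maximalIdeal ⊥ bot_ne_top] at h0
  refine ⟨n, fun a ha => ?_⟩
  have hmap : (IsLocalRing.maximalIdeal R.carrier).map (φ.1 : R.carrier →+* A) ≤
      IsLocalRing.maximalIdeal A := by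
    rw [Ideal.map_le_iff_le_comap]
    intro b hb
    rw [Ideal.mem_comap, Art.mem_maximalIdeal_iff]
    have h1 := AlgHom.congr_fun φ.2 b
    rw [(CRing.mem_maximalIdeal_iff R b).1 hb] at h1
    exact h1
  have h1 : (φ.1 : R.carrier →+* A) a ∈
      (IsLocalRing.maximalIdeal R.carrier ^ (n + 1)).map (φ.1 : R.carrier →+* A) :=
    Ideal.mem_map_of_mem _ ha
  rw [Ideal.map_pow] at h1
  have h2 := Ideal.pow_right_mono hmap (n + 1) h1
  have h3 : IsLocalRing.maximalIdeal A ^ (n + 1) ≤ IsLocalRing.maximalIdeal A ^ n :=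
    Ideal.pow_le_pow_right (Nat.le_succ n)
  have h4 := h3 h2
  rw [hn] at h4
  exact h4

/-- The induced map `R/m^(n+1) → A`. -/
noncomputable def liftHom (R : CRing Λ k) {A : Art Λ k} (φ : HomSet R.carrier R.res A) (n : ℕ)
    (h : Kills R φ n) : R.trunc n ⟶ A :=
  Art.homMk (A := R.trunc n) (B := A) (Ideal.Quotient.liftₐ (CRing.mpow R n) φ.1 h) (by
    apply AlgHom.ext
    intro x
    obtain ⟨a, rfl⟩ := Ideal.Quotient.mk_surjective (I := CRing.mpow R n) x
    exact AlgHom.congr_fun φ.2 a)

lemma liftHom_succ (R : CRing Λ k) {A : Art Λ k} (φ : HomSet R.carrier R.res A) (n : ℕ)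
    (h : Kills R φ n) (h' : Kills R φ (n + 1)) :
    liftHom R φ (n + 1) h' = R.truncMap n ≫ liftHom R φ n h := by
  apply Art.hom_ext
  apply AlgHom.ext
  intro x
  obtain ⟨a, rfl⟩ := Ideal.Quotient.mk_surjective (I := CRing.mpow R (n + 1)) x
  rfl

lemma elt_indep_add (R : CRing Λ k) (F : Art Λ k ⥤ Type v) (u : FormalElt F R) {A : Art Λ k}
    (φ : HomSet R.carrier R.res A) (n : ℕ) :
    ∀ (d : ℕ) (h : Kills R φ n) (h' : Kills R φ (n + d)),
      F.map (liftHom R φ n h) (u.elt n) = F.map (liftHom R φ (n + d) h') (u.elt (n + d)) := by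
  intro d
  induction d with
  | zero => intro h h'; rfl
  | succ d ih =>
    intro h h'
    have hd : Kills R φ (n + d) := Kills.mono R (Nat.le_add_right n d) h
    rw [ih h hd]
    have e : liftHom R φ (n + (d + 1)) h' = R.truncMap (n + d) ≫ liftHom R φ (n + d) hd :=
      liftHom_succ R φ (n + d) hd h'
    rw [e, F.map_comp_apply]
    have e2 : F.map (R.truncMap (n + d)) (u.elt (n + (d + 1))) = u.elt (n + d) := u.compat (n + d)
    rw [e2]

lemma elt_indep (R : CRing Λ k) (F : Art Λ k ⥤ Type v) (u : FormalElt F R) {A : Art Λ k}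
    (φ : HomSet R.carrier R.res A) (n n' : ℕ) (h : Kills R φ n) (h' : Kills R φ n') :
    F.map (liftHom R φ n h) (u.elt n) = F.map (liftHom R φ n' h') (u.elt n') := by
  have key : ∀ (m m' : ℕ) (hle : m ≤ m') (hm : Kills R φ m) (hm' : Kills R φ m'),
      F.map (liftHom R φ m hm) (u.elt m) = F.map (liftHom R φ m' hm') (u.elt m') := by
    intro m m' hle hm hm'
    obtain ⟨d, rfl⟩ := Nat.exists_eq_add_of_le hle
    exact elt_indep_add R F u φ m d hm hm'
  have hN : Kills R φ (max n n') := Kills.mono R (le_max_left n n') h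
  rw [key n (max n n') (le_max_left _ _) h hN, key n' (max n n') (le_max_right _ _) h' hN]

lemma kills_map (R : CRing Λ k) {A B : Art Λ k} (f : A ⟶ B) (φ : HomSet R.carrier R.res A) (n : ℕ)
    (h : Kills R φ n) : Kills R (HomSet.map f φ) n := by
  intro a ha
  show f.toAlgHom (φ.1 a) = 0
  rw [h a ha, map_zero]

lemma liftHom_map (R : CRing Λ k) {A B : Art Λ k} (f : A ⟶ B) (φ : HomSet R.carrier R.res A)
    (n : ℕ) (h : Kills R φ n) :
    liftHom R (HomSet.map f φ) n (kills_map R f φ n h) = liftHom R φ n h ≫ f := by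
  apply Art.hom_ext
  apply AlgHom.ext
  intro x
  obtain ⟨a, rfl⟩ := Ideal.Quotient.mk_surjective (I := CRing.mpow R n) x
  rfl

/-- The family attached to a formal element. -/
noncomputable def famOf (R : CRing Λ k) (F : Art Λ k ⥤ Type v) (u : FormalElt F R) :
    Family R.carrier R.res F where
  app A φ := F.map (liftHom R φ (exists_kills R φ).choose (exists_kills R φ).choose_spec)
    (u.elt (exists_kills R φ).choose)
  natural := by
    intro A B f φ
    refine (elt_indep R F u (HomSet.map f φ) _ (exists_kills R φ).choose _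
      (kills_map R f φ _ (exists_kills R φ).choose_spec)).trans ?_
    rw [liftHom_map, F.map_comp_apply]

lemma kills_truncHom (R : CRing Λ k) (n : ℕ) : Kills R (R.truncHom n) n := by
  intro a ha
  exact Ideal.Quotient.eq_zero_iff_mem.2 ha

lemma liftHom_truncHom (R : CRing Λ k) (n : ℕ) :
    liftHom R (R.truncHom n) n (kills_truncHom R n) = 𝟙 _ := by
  apply Art.hom_ext
  apply AlgHom.ext
  intro x
  obtain ⟨a, rfl⟩ := Ideal.Quotient.mk_surjective (I := CRing.mpow R n) x
  rfl

lemma famOf_toFormalElt (R : CRing Λ k) (F : Art Λ k ⥤ Type v) (u : FormalElt F R) :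
    (famOf R F u).toFormalElt = u := by
  apply FormalElt.ext'
  intro n
  show F.map (liftHom R (R.truncHom n) _ _) (u.elt _) = u.elt n
  rw [elt_indep R F u (R.truncHom n) _ n _ (kills_truncHom R n), liftHom_truncHom,
    F.map_id_apply]

lemma fam_ext (R : CRing Λ k) (F : Art Λ k ⥤ Type v) (ξ ξ' : Family R.carrier R.res F)
    (h : ∀ A φ, ξ.app A φ = ξ'.app A φ) : ξ = ξ' := by
  obtain ⟨app, nat⟩ := ξ
  obtain ⟨app', nat'⟩ := ξ'
  have e : app = app' := funext fun A => funext fun φ => h A φ
  subst e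
  rfl

lemma app_eq (R : CRing Λ k) (F : Art Λ k ⥤ Type v) (ξ : Family R.carrier R.res F)
    {A : Art Λ k} (φ : HomSet R.carrier R.res A) (n : ℕ) (h : Kills R φ n) :
    ξ.app A φ = F.map (liftHom R φ n h) (ξ.toFormalElt.elt n) := by
  have e : φ = HomSet.map (liftHom R φ n h) (R.truncHom n) :=
    Subtype.ext (AlgHom.ext fun a => rfl)
  calc ξ.app A φ = ξ.app A (HomSet.map (liftHom R φ n h) (R.truncHom n)) :=
        congrArg (ξ.app A) e
    _ = _ := ξ.natural _ _

end Helpers

/-- Let k be an algebraically closed field, Λ a complete local Noetherian k-algebra with residue field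
k, R a complete local Noetherian Λ-algebra with residue field k and F a set-valued functor on local
Artinian Λ-algebras with residue field k. Then the map sending a morphism of functors h_R → F to its
formal element (the compatible sequence of its values on the quotient maps R → R/m^(n+1), n ≥ 0) is
a bijection between morphisms h_R → F and formal elements of F over R. -/
theorem result
    {k Λ : Type u} [Field k] [IsAlgClosed k] [CommRing Λ] [IsLocalRing Λ] [IsNoetherianRing Λ]
    [IsAdicComplete (IsLocalRing.maximalIdeal Λ) Λ] [Algebra k Λ] [Algebra Λ k] [IsScalarTower k Λ k]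
    (R : ArtFun.CRing Λ k) (F : ArtFun.Art Λ k ⥤ Type v) :
    Function.Bijective (fun ξ : ArtFun.Family R.carrier R.res F => ξ.toFormalElt) := by
  constructor
  · intro ξ ξ' hξ
    apply fam_ext
    intro A φ
    obtain ⟨n, hn⟩ := exists_kills R φ
    rw [app_eq R F ξ φ n hn, app_eq R F ξ' φ n hn]
    have e : ξ.toFormalElt = ξ'.toFormalElt := hξ
    rw [e]
  · intro u
    exact ⟨famOf R F u, famOf_toFormalElt R F u⟩

end Groth.Agent.S12250
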