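import Groth.Statements.S12257
import Mathlib

set_option autoImplicit false
universe u v
open CategoryTheory CategoryTheory.Limits
open Deform

namespace Groth.Agent.S12257


/-- Let k be an algebraically closed field, Λ a complete local Noetherian k-algebra with residue field
k, and F, G, H set-valued functors on local Artinian Λ-algebras with residue field k, each with
one-point value at k. If F → G is a smooth morphism of functors and H → G is any morphism, then the
second projection F ×_G H → H of the fibre product of functors is smooth. -/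
theorem result
    {k Λ : Type u} [Field k] [IsAlgClosed k] [CommRing Λ] [IsLocalRing Λ] [IsNoetherianRing Λ]
    [IsAdicComplete (IsLocalRing.maximalIdeal Λ) Λ] [Algebra k Λ] [Algebra Λ k] [IsScalarTower k Λ k]
    {F G H : ArtFun.Art Λ k ⥤ Type v} (η : F ⟶ G) (θ : H ⟶ G)
    (hF : ArtFun.H0 F) (hG : ArtFun.H0 G) (hH : ArtFun.H0 H) (hη : ArtFun.IsSmooth η) :
    ArtFun.IsSmooth (pullback.snd η θ) := by
  have hpb : ∀ A : ArtFun.Art Λ k, IsPullback ((pullback.fst η θ).app A) ((pullback.snd η θ).app A)
      (η.app A) (θ.app A) := by
    intro A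
    exact (IsPullback.of_hasPullback η θ).map ((evaluation _ _).obj A)
  intro B A μ hμ ⟨⟨p, h⟩, hph⟩
  have hph' : (pullback.snd η θ).app A p = H.map μ h := hph
  have e1 : η.app A ((pullback.fst η θ).app A p) = G.map μ (θ.app B h) := by
    have := types_congr_hom (hpb A).w p
    simp only [types_comp_apply] at this
    rw [this, hph']
    exact NatTrans.naturality_apply θ μ h
  obtain ⟨b, hb⟩ := hη μ hμ ⟨((pullback.fst η θ).app A p, θ.app B h), e1⟩
  have hb1 : F.map μ b = (pullback.fst η θ).app A p := congrArg (fun t => t.1.1) hb
  have hb2 : η.app B b = θ.app B h := congrArg (fun t => t.1.2) hb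
  obtain ⟨z, hz1, hz2⟩ := Types.exists_of_isPullback (hpb B) b h hb2
  refine ⟨z, ?_⟩
  apply Subtype.ext
  apply Prod.ext
  · change (pullback η θ).map μ z = p
    apply Types.ext_of_isPullback (hpb A)
    · rw [← hb1, ← hz1]
      exact NatTrans.naturality_apply (pullback.fst η θ) μ z
    · rw [hph', ← hz2]
      exact NatTrans.naturality_apply (pullback.snd η θ) μ z
  · exact hz2

end Groth.Agent.S12257
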