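import Groth.Statements.S12258
import Mathlib

set_option autoImplicit false
universe u v
open CategoryTheory CategoryTheory.Limits
open Deform

namespace Groth.Agent.S12258


/-- Let k be an algebraically closed field, Λ a complete local Noetherian k-algebra with residue field
k, and F, G set-valued functors on local Artinian Λ-algebras with residue field k, each with
one-point value at k. If F and G are smooth functors, i.e. F(B) → F(A) and G(B) → G(A) are
surjective for every surjection B → A, then the product functor F × G is smooth. -/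
theorem result
    {k Λ : Type u} [Field k] [IsAlgClosed k] [CommRing Λ] [IsLocalRing Λ] [IsNoetherianRing Λ]
    [IsAdicComplete (IsLocalRing.maximalIdeal Λ) Λ] [Algebra k Λ] [Algebra Λ k] [IsScalarTower k Λ k]
    {F G : ArtFun.Art Λ k ⥤ Type v}
    (hF : ArtFun.H0 F) (hG : ArtFun.H0 G) (sF : ArtFun.IsSmoothFunctor F) (sG : ArtFun.IsSmoothFunctor G) :
    ArtFun.IsSmoothFunctor (F ⨯ G) := by
  intro B A μ hμ p
  obtain ⟨b1, hb1⟩ := sF μ hμ ((prod.fst : F ⨯ G ⟶ F).app A p)
  obtain ⟨b2, hb2⟩ := sG μ hμ ((prod.snd : F ⨯ G ⟶ G).app A p)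
  -- the binary fan at B is a limit
  have hlimB : IsLimit (((evaluation _ _).obj B).mapCone (limit.cone (pair F G))) :=
    isLimitOfPreserves _ (limit.isLimit _)
  have hlimA : IsLimit (((evaluation _ _).obj A).mapCone (limit.cone (pair F G))) :=
    isLimitOfPreserves _ (limit.isLimit _)
  have hB := (Types.isLimit_iff _).1 ⟨hlimB⟩
  have hA := (Types.isLimit_iff _).1 ⟨hlimA⟩
  let s : ∀ j : Discrete WalkingPair, ((pair F G) ⋙ (evaluation _ _).obj B).obj j :=
    fun j => match j with
      | ⟨WalkingPair.left⟩ => b1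
      | ⟨WalkingPair.right⟩ => b2
  have hs : s ∈ ((pair F G) ⋙ (evaluation _ _).obj B).sections := by
    rintro ⟨j⟩ ⟨j'⟩ ⟨⟨h⟩⟩
    cases h
    have : (⟨⟨rfl⟩⟩ : (⟨j⟩ : Discrete WalkingPair) ⟶ ⟨j⟩) = 𝟙 (⟨j⟩ : Discrete WalkingPair) := rfl
    rw [this, CategoryTheory.Functor.map_id]
    rfl
  obtain ⟨z, hz, -⟩ := hB s hs
  refine ⟨z, ?_⟩
  obtain ⟨x, hx, hux⟩ := hA _ (Types.sectionOfCone (((evaluation _ _).obj A).mapCone (limit.cone (pair F G))) p).2
  have h1 : (F ⨯ G).map μ z = x := by
    apply hux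
    rintro ⟨j⟩
    cases j
    · have := hz ⟨WalkingPair.left⟩
      change (prod.fst : F ⨯ G ⟶ F).app A ((F ⨯ G).map μ z) = (prod.fst : F ⨯ G ⟶ F).app A p
      rw [← hb1]
      have h2 : (prod.fst : F ⨯ G ⟶ F).app B z = b1 := this
      rw [← h2]
      exact NatTrans.naturality_apply (prod.fst : F ⨯ G ⟶ F) μ z
    · have := hz ⟨WalkingPair.right⟩
      change (prod.snd : F ⨯ G ⟶ G).app A ((F ⨯ G).map μ z) = (prod.snd : F ⨯ G ⟶ G).app A p
      rw [← hb2]
      have h2 : (prod.snd : F ⨯ G ⟶ G).app B z = b2 := this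
      rw [← h2]
      exact NatTrans.naturality_apply (prod.snd : F ⨯ G ⟶ G) μ z
  have h2 : p = x := by
    apply hux
    intro j
    rfl
  rw [h1, h2]

end Groth.Agent.S12258
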