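import Groth.Statements.S12299
import Mathlib

set_option autoImplicit false
universe u v
open CategoryTheory
open ArtFun

namespace Groth.Agent.S12299

/-- For an object `A` with square-zero augmentation ideal and a linear functional, the induced
map to the dual numbers. -/
noncomputable def rhoAlg {k : Type u} [Field k] (A : ArtFun.Art k k)
    (hsq : ∀ a b : A, A.res a = 0 → A.res b = 0 → a * b = 0) (l : A →ₗ[k] k) :
    A →ₐ[k] DualNumber k :=
    { toFun := fun a => TrivSqZeroExt.inl (A.res a) + TrivSqZeroExt.inr (l (a - algebraMap k A (A.res a)))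
      map_one' := by
        apply TrivSqZeroExt.ext
        · simp
        · simp
      map_mul' := by
        intro a b
        have h1 : A.res (a - algebraMap k A (A.res a)) = 0 := by simp
        have h2 : A.res (b - algebraMap k A (A.res b)) = 0 := by simp
        have h3 := hsq _ _ h1 h2
        have h4 : a * b - algebraMap k A (A.res (a * b)) =
            A.res a • (b - algebraMap k A (A.res b)) + A.res b • (a - algebraMap k A (A.res a)) := by
          have : a * b - algebraMap k A (A.res (a * b)) =
            (a - algebraMap k A (A.res a)) * (b - algebraMap k A (A.res b))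
            + algebraMap k A (A.res a) * (b - algebraMap k A (A.res b))
            + algebraMap k A (A.res b) * (a - algebraMap k A (A.res a)) := by
            rw [map_mul, map_mul]; ring
          rw [this, h3, zero_add, Algebra.smul_def, Algebra.smul_def]
        rw [h4, map_add, map_smul, map_smul]
        apply TrivSqZeroExt.ext
        · simp
        · simp [mul_comm]
      map_zero' := by
        apply TrivSqZeroExt.ext
        · simp
        · simp
      map_add' := by
        intro a b
        apply TrivSqZeroExt.ext
        · simp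
        · simp only [TrivSqZeroExt.snd_add, TrivSqZeroExt.snd_inl, TrivSqZeroExt.snd_inr, zero_add]
          rw [← map_add]
          congr 1
          rw [map_add, map_add]
          ring
      commutes' := by
        intro r
        rw [TrivSqZeroExt.algebraMap_eq_inl']
        apply TrivSqZeroExt.ext
        · simp
        · simp }

lemma rhoAlg_fst {k : Type u} [Field k] (A : ArtFun.Art k k)
    (hsq : ∀ a b : A, A.res a = 0 → A.res b = 0 → a * b = 0) (l : A →ₗ[k] k) (a : A) :
    TrivSqZeroExt.fst (rhoAlg A hsq l a) = A.res a := by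
  change TrivSqZeroExt.fst (TrivSqZeroExt.inl (A.res a) + TrivSqZeroExt.inr (l (a - algebraMap k A (A.res a)))) = _
  simp

lemma rhoAlg_snd {k : Type u} [Field k] (A : ArtFun.Art k k)
    (hsq : ∀ a b : A, A.res a = 0 → A.res b = 0 → a * b = 0) (l : A →ₗ[k] k) (a : A) :
    TrivSqZeroExt.snd (rhoAlg A hsq l a) = l (a - algebraMap k A (A.res a)) := by
  change TrivSqZeroExt.snd (TrivSqZeroExt.inl (A.res a) + TrivSqZeroExt.inr (l (a - algebraMap k A (A.res a)))) = _
  simp


/-- Let k be an algebraically closed field, F a set-valued functor on local Artinian k-algebras with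
residue field k, and (R, ξ) a miniversal family for F, with R a complete local Noetherian k-algebra
with residue field k: the morphism h_R → F has the lifting property along surjections and is
bijective on the dual numbers. Let S be a complete local Noetherian k-algebra with residue field k
and g₁, g₂ : R → S two k-algebra maps compatible with the augmentations along which ξ induces the
same formal family over S (the same compatible sequence in the F(S/m^(n+1))). Then g₁ and g₂ induce
the same map R → S/m_S², so the map R/m_R² → S/m_S² attached to a formal family over S is well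
defined. (Coefficient rings are taken Noetherian here.) -/
theorem result
    {k : Type u} [Field k] [IsAlgClosed k] {F : ArtFun.Art k k ⥤ Type v}
    (R : ArtFun.CRing k k) (ξ : ArtFun.Family R.carrier R.res F) (hξ : ArtFun.IsMiniversal ξ)
    (S : ArtFun.CRing k k) (g₁ g₂ : R.carrier →ₐ[k] S.carrier)
    (hg₁ : S.res.comp g₁ = R.res) (hg₂ : S.res.comp g₂ = R.res)
    (h : (ξ.along g₁ hg₁).toFormalElt = (ξ.along g₂ hg₂).toFormalElt) :
    (S.truncHom 1).1.comp g₁ = (S.truncHom 1).1.comp g₂ := by
  obtain ⟨-, hinj, -⟩ := hξ
  -- notation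
  have hn := congrArg (fun u => u.elt 1) h
  have hn' : ξ.app (S.trunc 1) ⟨(S.truncHom 1).1.comp g₁, by
        rw [← AlgHom.comp_assoc, (S.truncHom 1).2, hg₁]⟩ =
      ξ.app (S.trunc 1) ⟨(S.truncHom 1).1.comp g₂, by
        rw [← AlgHom.comp_assoc, (S.truncHom 1).2, hg₂]⟩ := hn
  -- square zero
  have hsq : ∀ a b : S.trunc 1, (S.trunc 1).res a = 0 → (S.trunc 1).res b = 0 → a * b = 0 := by
    intro a b ha hb
    obtain ⟨a, rfl⟩ := Ideal.Quotient.mk_surjective a
    obtain ⟨b, rfl⟩ := Ideal.Quotient.mk_surjective b
    have ha' : a ∈ IsLocalRing.maximalIdeal S.carrier := (S.mem_maximalIdeal_iff a).2 ha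
    have hb' : b ∈ IsLocalRing.maximalIdeal S.carrier := (S.mem_maximalIdeal_iff b).2 hb
    change (Ideal.Quotient.mk (S.mpow 1) a * Ideal.Quotient.mk (S.mpow 1) b : S.carrier ⧸ S.mpow 1) = 0
    rw [← map_mul, Ideal.Quotient.eq_zero_iff_mem]
    change a * b ∈ IsLocalRing.maximalIdeal S.carrier ^ 2
    rw [pow_two]
    exact Ideal.mul_mem_mul ha' hb'
  apply AlgHom.ext
  intro r
  rw [← sub_eq_zero]
  rw [← Module.forall_dual_apply_eq_zero_iff k]
  intro l
  let ρ : S.trunc 1 ⟶ ArtFun.Art.dual k k := ArtFun.Art.homMk (rhoAlg (S.trunc 1) hsq l) (by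
    apply AlgHom.ext
    intro a
    exact rhoAlg_fst (S.trunc 1) hsq l a)
  have e : ξ.app (ArtFun.Art.dual k k) (ArtFun.HomSet.map ρ ⟨(S.truncHom 1).1.comp g₁, by
        rw [← AlgHom.comp_assoc, (S.truncHom 1).2, hg₁]⟩) =
      ξ.app (ArtFun.Art.dual k k) (ArtFun.HomSet.map ρ ⟨(S.truncHom 1).1.comp g₂, by
        rw [← AlgHom.comp_assoc, (S.truncHom 1).2, hg₂]⟩) := by
    exact (ξ.natural ρ _).trans ((congrArg (F.map ρ) hn').trans (ξ.natural ρ _).symm)
  have e2 := hinj e
  have e3 := congrArg (fun φ => TrivSqZeroExt.snd (φ.1 r)) e2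
  have e4 : l ((S.truncHom 1).1 (g₁ r) - algebraMap k _ ((S.trunc 1).res ((S.truncHom 1).1 (g₁ r)))) =
      l ((S.truncHom 1).1 (g₂ r) - algebraMap k _ ((S.trunc 1).res ((S.truncHom 1).1 (g₂ r)))) := by
    rw [← rhoAlg_snd (S.trunc 1) hsq l, ← rhoAlg_snd (S.trunc 1) hsq l]
    exact e3
  have r1 : (S.trunc 1).res ((S.truncHom 1).1 (g₁ r)) = R.res r := by
    have := congrArg (fun f => f r) hg₁
    exact this
  have r2 : (S.trunc 1).res ((S.truncHom 1).1 (g₂ r)) = R.res r := by
    have := congrArg (fun f => f r) hg₂
    exact this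
  rw [r1, r2, map_sub, map_sub] at e4
  rw [map_sub]
  have := sub_left_injective e4
  rw [sub_eq_zero]
  exact this

end Groth.Agent.S12299
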