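import Groth.Statements.S12417
import Mathlib
-- import your own Groth.Agent.* helpers here

set_option autoImplicit false
universe u
open CategoryTheory AlgebraicGeometry
open Props

namespace Groth.Agent.S12417


lemma exists_fin_cover {α : Type*} [TopologicalSpace α] (U : TopologicalSpace.Opens α)
    (hU : IsCompact (U : Set α)) (B : Set (TopologicalSpace.Opens α))
    (hB : ∀ x ∈ U, ∃ V ∈ B, x ∈ V ∧ V ≤ U) :
    ∃ (n : ℕ) (V : Fin n → TopologicalSpace.Opens α), (∀ i, V i ∈ B) ∧ ⨆ i, V i = U := by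
  classical
  choose! W hWB hxW hWU using hB
  obtain ⟨t, htU, hcov⟩ := hU.elim_nhds_subcover (fun x => (W x : Set α))
    (fun x hx => (W x).isOpen.mem_nhds (hxW x hx))
  refine ⟨t.card, fun i => W (t.equivFin.symm i).1,
    fun i => hWB _ (htU _ (t.equivFin.symm i).2), ?_⟩
  apply le_antisymm
  · exact iSup_le fun i => hWU _ (htU _ (t.equivFin.symm i).2)
  · intro y hy
    obtain ⟨x, hx, hyx⟩ := Set.mem_iUnion₂.mp (hcov hy)
    refine TopologicalSpace.Opens.mem_iSup.mpr ⟨t.equivFin ⟨x, hx⟩, ?_⟩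
    simpa using hyx

/-- Let X be a quasi-compact quasi-separated scheme and P a property of opens of X such that (a) P holds
for every affine open, and (b) whenever a quasi-compact open U has a finite affine open covering U =
V_1 ∪ … ∪ V_n with P holding for every intersection V_i ∩ V_j, P holds for U. Then P holds for every
quasi-compact open of X. -/
theorem result (X : Scheme.{u}) [CompactSpace X] [QuasiSeparatedSpace X]
    (P : X.Opens → Prop) (ha : ∀ U : X.Opens, IsAffineOpen U → P U)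
    (hb : ∀ (U : X.Opens) (n : ℕ) (V : Fin n → X.Opens), IsCompact (U : Set X) →
      (∀ i, IsAffineOpen (V i)) → ⨆ i, V i = U → (∀ i j, P (V i ⊓ V j)) → P U)
    (U : X.Opens) (hU : IsCompact (U : Set X)) : P U := by
  have step1 : ∀ (W : X.Opens), IsAffineOpen W → ∀ U : X.Opens, IsCompact (U : Set X) →
      U ≤ W → P U := by
    intro W hW U hU hUW
    obtain ⟨n, V, hVB, hVU⟩ := exists_fin_cover U hU {V | ∃ f : Γ(X, W), V = X.basicOpen f} (by
      intro x hx
      obtain ⟨f, hfU, hxf⟩ := hW.exists_basicOpen_le ⟨x, hx⟩ (hUW hx)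
      exact ⟨_, ⟨f, rfl⟩, hxf, hfU⟩)
    refine hb U n V hU ?_ hVU ?_
    · intro i; obtain ⟨f, hf⟩ := hVB i; rw [hf]; exact hW.basicOpen f
    · intro i j
      obtain ⟨f, hf⟩ := hVB i; obtain ⟨g, hg⟩ := hVB j
      rw [hf, hg, ← Scheme.basicOpen_mul]
      exact ha _ (hW.basicOpen _)
  obtain ⟨n, V, hVB, hVU⟩ := exists_fin_cover U hU {V | IsAffineOpen V} (by
    intro x hx
    obtain ⟨V, hV, hxV, hVU⟩ :=
      TopologicalSpace.Opens.isBasis_iff_nbhd.mp X.isBasis_affineOpens hx
    exact ⟨V, hV, hxV, hVU⟩)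
  refine hb U n V hU hVB hVU ?_
  intro i j
  refine step1 (V i) (hVB i) _ ?_ inf_le_left
  exact QuasiSeparatedSpace.inter_isCompact _ _ (V i).isOpen (hVB i).isCompact (V j).isOpen
    (hVB j).isCompact

end Groth.Agent.S12417
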