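import Groth.Statements.S12421
import Mathlib

set_option autoImplicit false
universe u
open TensorProduct
open Desc

namespace Groth.Agent.S12421

section Aux

variable (R T M : Type u) [CommRing R] [CommRing T] [Algebra R T] [AddCommGroup M] [Module R M]

/-- contraction `t ⊗ (m ⊗ (a ⊗ x)) ↦ (t * a) ⊗ (m ⊗ x)`. -/
noncomputable def contr (X : Type u) [AddCommGroup X] [Module R X] :
    T ⊗[R] (M ⊗[R] (T ⊗[R] X)) →ₗ[R] T ⊗[R] (M ⊗[R] X) :=
  (LinearMap.rTensor (M ⊗[R] X) (LinearMap.mul' R T)) ∘ₗ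
    ((TensorProduct.assoc R T T (M ⊗[R] X)).symm.toLinearMap ∘ₗ
      (LinearMap.lTensor T (TensorProduct.leftComm R M T X).toLinearMap))

theorem contr_tmul (X : Type u) [AddCommGroup X] [Module R X] (t : T) (m : M) (a : T) (x : X) :
    contr R T M X (t ⊗ₜ (m ⊗ₜ (a ⊗ₜ x))) = (t * a) ⊗ₜ (m ⊗ₜ x) := by
  simp [contr]

theorem ext4 (X : Type u) [AddCommGroup X] [Module R X] {P : Type u} [AddCommGroup P] [Module R P]
    {g h : T ⊗[R] (M ⊗[R] (T ⊗[R] X)) →ₗ[R] P}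
    (H : ∀ t m a x, g (t ⊗ₜ (m ⊗ₜ (a ⊗ₜ x))) = h (t ⊗ₜ (m ⊗ₜ (a ⊗ₜ x)))) : g = h := by
  apply TensorProduct.ext'
  intro t y
  induction y using TensorProduct.induction_on with
  | zero => simp
  | tmul m z =>
    induction z using TensorProduct.induction_on with
    | zero => simp
    | tmul a x => exact H t m a x
    | add z₁ z₂ h₁ h₂ => rw [tmul_add, tmul_add, map_add, map_add, h₁, h₂]
  | add y₁ y₂ h₁ h₂ => rw [tmul_add, map_add, map_add, h₁, h₂]

/-- first Amitsur differential -/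
noncomputable def d1 : M ⊗[R] T →ₗ[R] M ⊗[R] (T ⊗[R] T) :=
  LinearMap.lTensor M (Algebra.TensorProduct.includeRight : T →ₐ[R] T ⊗[R] T).toLinearMap -
    LinearMap.lTensor M (Algebra.TensorProduct.includeLeft : T →ₐ[R] T ⊗[R] T).toLinearMap

/-- second Amitsur differential -/
noncomputable def d2 : M ⊗[R] (T ⊗[R] T) →ₗ[R] M ⊗[R] (T ⊗[R] (T ⊗[R] T)) :=
  LinearMap.lTensor M
      (Algebra.TensorProduct.includeRight : T ⊗[R] T →ₐ[R] T ⊗[R] (T ⊗[R] T)).toLinearMap -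
    LinearMap.lTensor M
      (Algebra.TensorProduct.map (AlgHom.id R T)
        (Algebra.TensorProduct.includeRight : T →ₐ[R] T ⊗[R] T)).toLinearMap +
    LinearMap.lTensor M
      (Algebra.TensorProduct.map (AlgHom.id R T)
        (Algebra.TensorProduct.includeLeft : T →ₐ[R] T ⊗[R] T)).toLinearMap

theorem d1_tmul (m : M) (r : T) :
    d1 R T M (m ⊗ₜ r) = m ⊗ₜ ((1 : T) ⊗ₜ r) - m ⊗ₜ (r ⊗ₜ (1 : T)) := by
  simp [d1]

theorem d2_tmul (m : M) (a b : T) :
    d2 R T M (m ⊗ₜ (a ⊗ₜ b)) =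
      m ⊗ₜ ((1 : T) ⊗ₜ (a ⊗ₜ b)) - m ⊗ₜ (a ⊗ₜ ((1 : T) ⊗ₜ b)) + m ⊗ₜ (a ⊗ₜ (b ⊗ₜ (1 : T))) := by
  simp [d2]

theorem d2_comp_d1 : d2 R T M ∘ₗ d1 R T M = 0 := by
  apply TensorProduct.ext'
  intro m r
  simp only [LinearMap.comp_apply, d1_tmul, map_sub, d2_tmul, LinearMap.zero_apply]
  abel

theorem homotopy :
    LinearMap.lTensor T (d1 R T M) ∘ₗ contr R T M T +
      contr R T M (T ⊗[R] T) ∘ₗ LinearMap.lTensor T (d2 R T M) = LinearMap.id := by
  apply ext4
  intro t m a b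
  simp only [LinearMap.add_apply, LinearMap.comp_apply, contr_tmul, LinearMap.lTensor_tmul,
    d1_tmul, d2_tmul, tmul_sub, tmul_add, map_sub, map_add, mul_one, LinearMap.id_apply]
  abel

theorem exact_aux [Module.FaithfullyFlat R T] : Function.Exact (d1 R T M) (d2 R T M) := by
  apply Module.FaithfullyFlat.lTensor_reflects_exact R T
  intro y
  constructor
  · intro hy
    have h := LinearMap.congr_fun (homotopy R T M) y
    simp only [LinearMap.add_apply, LinearMap.comp_apply, hy, map_zero, add_zero,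
      LinearMap.id_apply] at h
    exact ⟨_, h⟩
  · rintro ⟨z, rfl⟩
    rw [← LinearMap.comp_apply, ← LinearMap.lTensor_comp, d2_comp_d1, LinearMap.lTensor_zero,
      LinearMap.zero_apply]

end Aux

/-- Let R → R' be faithfully flat and M an R-module. With δ¹ : M ⊗ R' → M ⊗ (R' ⊗ R'), m ⊗ r ↦ m ⊗ (1 ⊗
r) − m ⊗ (r ⊗ 1), and δ² : M ⊗ (R' ⊗ R') → M ⊗ (R' ⊗ (R' ⊗ R')), m ⊗ x ↦ m ⊗ (1 ⊗ x) − m ⊗ (ins₁ x)
+ m ⊗ (ins₂ x), where ins₁ (r₁ ⊗ r₂) = r₁ ⊗ (1 ⊗ r₂) and ins₂ (r₁ ⊗ r₂) = r₁ ⊗ (r₂ ⊗ 1), the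
sequence M ⊗ R' → M ⊗ R'^{⊗2} → M ⊗ R'^{⊗3} is exact: the kernel of δ² is the image of δ¹. (The
published statement asserts exactness of the whole complex; this row states exactness at M ⊗ R′ ⊗ R′
only.) -/
theorem result (R R' : Type u) [CommRing R] [CommRing R'] [Algebra R R']
    [Module.FaithfullyFlat R R'] (M : Type u) [AddCommGroup M] [Module R M] :
    Function.Exact
      (LinearMap.lTensor M (Algebra.TensorProduct.includeRight : R' →ₐ[R] R' ⊗[R] R').toLinearMap -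
        LinearMap.lTensor M
          (Algebra.TensorProduct.includeLeft : R' →ₐ[R] R' ⊗[R] R').toLinearMap)
      (LinearMap.lTensor M
          (Algebra.TensorProduct.includeRight : R' ⊗[R] R' →ₐ[R] R' ⊗[R] (R' ⊗[R] R')).toLinearMap -
        LinearMap.lTensor M
          (Algebra.TensorProduct.map (AlgHom.id R R')
            (Algebra.TensorProduct.includeRight : R' →ₐ[R] R' ⊗[R] R')).toLinearMap +
        LinearMap.lTensor M
          (Algebra.TensorProduct.map (AlgHom.id R R')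
            (Algebra.TensorProduct.includeLeft : R' →ₐ[R] R' ⊗[R] R')).toLinearMap) := by
  exact exact_aux R R' M

end Groth.Agent.S12421
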