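import Groth.Statements.S12443
import Mathlib.CategoryTheory.Monad.Adjunction

set_option autoImplicit false
universe u
open CategoryTheory TopologicalSpace
open ShSp

namespace Groth.Agent.S12443

/-- Let j : U → X be the inclusion of an open subset (an open embedding) and F a sheaf of sets on U.
Then the counit j⁻¹ j_* F → F is an isomorphism, i.e. j⁻¹ j_* is the identity on sheaves on U. -/
theorem result {U X : TopCat.{u}} (j : U ⟶ X) (hj : Topology.IsOpenEmbedding j)
    (F : U.Sheaf (Type u)) :
    IsIso ((TopCat.Sheaf.pullbackPushforwardAdjunction (Type u) j).counit.app F) := by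
  have : IsIso (TopCat.Sheaf.pullbackPushforwardAdjunction (Type u) j).counit := by
    apply Adjunction.isIso_counit_of_iso
    refine Functor.isoWhiskerLeft _ (hj.sheafPullbackIso (Type u)) ≪≫ ?_
    refine NatIso.ofComponents (fun G => ?_) ?_
    · refine (fullyFaithfulSheafToPresheaf _ _).preimageIso ?_
      refine NatIso.ofComponents (fun V => G.1.mapIso (eqToIso ?_)) ?_
      · exact congrArg Opposite.op (TopologicalSpace.Opens.map_functor_eq' j hj V.unop)
      · intro V W f
        dsimp [Topology.IsOpenEmbedding.sheafPullback, Functor.sheafPushforwardContinuous,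
          TopCat.Sheaf.pushforward]
        rw [← G.1.map_comp, ← G.1.map_comp]
        congr 1
    · intro G H α
      apply (fullyFaithfulSheafToPresheaf _ _).map_injective
      ext V x
      exact (NatTrans.naturality_apply α.hom _ x).symm
  infer_instance

end Groth.Agent.S12443
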