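import Groth.Statements.S12445
import Mathlib
import Groth.Agent.Lib.Helper5.Catenary

set_option autoImplicit false
universe u
open CategoryTheory AlgebraicGeometry
open Props

namespace Groth.Agent.S12445

/-- (1) ⇔ (3) ⇔ (4): for a scheme S, the underlying topological space of S is catenary if and only if
the coordinate ring of every affine open of S is a catenary ring, if and only if S is covered by
affine opens with catenary coordinate rings. (Clause (2), openness of catenarity, and the final
assertion on locally closed subschemes are the topological statement for open coverings and locally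
closed subspaces.) -/
theorem result (S : Scheme.{u}) :
    (PtTop.IsCatenarySpace S ↔ ∀ U : S.affineOpens, CAlg.IsCatenary Γ(S, U)) ∧
    (PtTop.IsCatenarySpace S ↔
      ∀ s : S, ∃ U : S.affineOpens, s ∈ (U : S.Opens) ∧ CAlg.IsCatenary Γ(S, U)) := by
  have hloc := Groth.Agent.S12444.result S
  have A : PtTop.IsCatenarySpace S → ∀ U : S.affineOpens, CAlg.IsCatenary Γ(S, U) := by
    intro h U
    have h1 := hloc.2 h (U.1 : Set S) U.1.isOpen.isLocallyClosed
    exact (Groth.Agent.Helper5.Catenary.catSpace_affine_iff U.2).mp h1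
  have B : (∀ s : S, ∃ U : S.affineOpens, s ∈ (U : S.Opens) ∧ CAlg.IsCatenary Γ(S, U)) →
      PtTop.IsCatenarySpace S := by
    intro h
    rw [hloc.1]
    intro x
    obtain ⟨U, hxU, hcat⟩ := h x
    exact ⟨U.1, hxU, (Groth.Agent.Helper5.Catenary.catSpace_affine_iff U.2).mpr hcat⟩
  have C : (∀ U : S.affineOpens, CAlg.IsCatenary Γ(S, U)) →
      ∀ s : S, ∃ U : S.affineOpens, s ∈ (U : S.Opens) ∧ CAlg.IsCatenary Γ(S, U) := by
    intro h s
    obtain ⟨U, hU, hsU, -⟩ :=
      AlgebraicGeometry.exists_isAffineOpen_mem_and_subset (x := s) (U := ⊤) trivial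
    exact ⟨⟨U, hU⟩, hsU, h ⟨U, hU⟩⟩
  exact ⟨⟨A, fun h => B (C h)⟩, ⟨fun h => C (A h), B⟩⟩

end Groth.Agent.S12445
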