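import Groth.Statements.S12446
import Mathlib
import Groth.Agent.Lib.Helper5.Catenary
import Groth.Agent.S12445

set_option autoImplicit false
universe u
open CategoryTheory AlgebraicGeometry
open Props

namespace Groth.Agent.S12446

/-- For a scheme X, the underlying topological space of X is catenary if and only if for every point x
the local ring O_{X,x} is a catenary ring. -/
theorem result (X : Scheme.{u}) :
    PtTop.IsCatenarySpace X ↔ ∀ x : X, CAlg.IsCatenary (X.presheaf.stalk x) := by
  have h45 := Groth.Agent.S12445.result X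
  constructor
  · intro h x
    obtain ⟨U, hU, hxU, -⟩ :=
      AlgebraicGeometry.exists_isAffineOpen_mem_and_subset (x := x) (U := ⊤) trivial
    have hΓ : CAlg.IsCatenary Γ(X, U) := (h45.1.mp h) ⟨U, hU⟩
    obtain ⟨x', rfl⟩ : ∃ x' : U, (x' : X) = x := ⟨⟨x, hxU⟩, rfl⟩
    haveI := hU.isLocalization_stalk x'
    rw [← Groth.Agent.Helper5.Catenary.catD_iff] at hΓ ⊢
    exact Groth.Agent.Helper5.Catenary.catD_localization (hU.primeIdealOf x').asIdeal hΓ
  · intro h
    apply h45.1.mpr
    rintro ⟨U, hU⟩
    rw [← Groth.Agent.Helper5.Catenary.catD_iff]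
    intro a b hab
    have hrange : Set.range hU.fromSpec = U := hU.range_fromSpec
    have hxU : hU.fromSpec (OrderDual.ofDual a) ∈ U := by
      have : hU.fromSpec (OrderDual.ofDual a) ∈ Set.range hU.fromSpec := ⟨_, rfl⟩
      rw [hrange] at this
      exact this
    obtain ⟨x', hx'⟩ : ∃ x' : U, hU.primeIdealOf x' = OrderDual.ofDual a := by
      refine ⟨⟨hU.fromSpec (OrderDual.ofDual a), hxU⟩, ?_⟩
      apply hU.fromSpec.isOpenEmbedding.injective
      exact hU.fromSpec_primeIdealOf ⟨_, hxU⟩
    haveI := hU.isLocalization_stalk x'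
    have hS := (Groth.Agent.Helper5.Catenary.catD_iff _).mpr (h (x' : X))
    exact Groth.Agent.Helper5.Catenary.catPair_of_localization (hU.primeIdealOf x').asIdeal hS
      a b hab (by rw [hx'])

end Groth.Agent.S12446
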