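import Groth.Statements.S12450
import Mathlib

set_option autoImplicit false
universe u
open CategoryTheory CategoryTheory.Limits
open ModSite

namespace Groth.Agent.S12450

/-- For a small ringed site (C, O) the forgetful functor Mod(O) → Ab(C) commutes with colimits, i.e.
preserves all small colimits. (Existence of limits and colimits in Mod(O) and commutation of the
forgetful functor with limits hold by construction; exactness of filtered colimits is a separate
statement.) -/
theorem result {C : Type u} [SmallCategory C] {J : GrothendieckTopology C}
    (O : Sheaf J CommRingCat.{u}) :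
    PreservesColimitsOfSize.{u, u} (SheafOfModules.toSheaf.{u} (ModSite.ringSh O) : ModSite.Mod O ⥤ Sheaf J AddCommGrpCat.{u}) := by
  constructor
  intro K _
  constructor
  intro F
  let G := F ⋙ SheafOfModules.forget (ModSite.ringSh O)
  let a := PresheafOfModules.sheafification.{u} (𝟙 (ModSite.ringSh O).obj)
  let e : F ≅ (F ⋙ SheafOfModules.forget (ModSite.ringSh O)) ⋙
      PresheafOfModules.sheafification (𝟙 (ModSite.ringSh O).obj) :=
    Functor.isoWhiskerLeft F
      (asIso (PresheafOfModules.sheafificationAdjunction (𝟙 (ModSite.ringSh O).obj)).counit).symm
  have h1 : PreservesColimit G a := inferInstance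
  have h2 : PreservesColimit G (a ⋙ SheafOfModules.toSheaf (ModSite.ringSh O)) := by
    have h0 : PreservesColimit G (PresheafOfModules.toPresheaf (ModSite.ringSh O).obj ⋙
        presheafToSheaf J AddCommGrpCat.{u}) := inferInstance
    exact preservesColimit_of_natIso G
      (PresheafOfModules.sheafificationCompToSheaf (𝟙 (ModSite.ringSh O).obj)).symm
  have h3 : PreservesColimit (G ⋙ a) (SheafOfModules.toSheaf (ModSite.ringSh O)) := by
    apply preservesColimit_of_preserves_colimit_cocone
      (isColimitOfPreserves a (colimit.isColimit G))
    exact isColimitOfPreserves (a ⋙ SheafOfModules.toSheaf (ModSite.ringSh O))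
      (colimit.isColimit G)
  exact preservesColimit_of_iso_diagram _ e.symm

end Groth.Agent.S12450
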