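import Groth.Statements.S9827
import Groth.Agent.Lead.FPSec
-- import your own Groth.Agent.* helpers here

set_option autoImplicit false
universe u
open CategoryTheory CategoryTheory.Limits AlgebraicGeometry TopologicalSpace Opposite
open Props

namespace Groth.Agent.S9827


section
open Opposite
open Groth.Agent.Lead.QCoh Groth.Agent.Lead.FinType Groth.Agent.Lead.FPSec

set_option backward.isDefEq.respectTransparency false in
theorem fwd (R : CommRingCat.{u}) (M : ModuleCat.{u} R) (h : CohB1.IsFP (tilde M)) :
    Module.FinitePresentation R M := by
  haveI : SheafOfModules.IsFinitePresentation.{u, u, u} (R := (Spec R).ringCatSheaf) (tilde M) := h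
  haveI h1 : Module.FinitePresentation Γ(Spec R, ⊤) Γ(tilde M, ⊤) :=
    finitePresentation_sections (tilde M) (isAffineOpen_top (Spec R))
  have h2 : Module.FinitePresentation R Γ(tilde M, ⊤) := by
    refine fp_transport (Scheme.ΓSpecIso R).symm.commRingCatIsoToRingEquiv (fun r m => ?_)
    rw [Scheme.Modules.smul_Spec_def]
    congr 1
  haveI : Module.FinitePresentation R
      ((modulesSpecToSheaf.obj (tilde M)).presheaf.obj (op (⊤ : (Spec R).Opens))) := h2
  exact Module.FinitePresentation.of_equiv (tilde.isoTop M).toLinearEquiv.symm

set_option backward.isDefEq.respectTransparency false in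
theorem bwd1 (R : CommRingCat.{u}) (M : ModuleCat.{u} R) (h : Module.FinitePresentation R M) :
    ∃ P : (tilde M).Presentation, Finite P.generators.I ∧ Finite P.relations.I := by
  classical
  obtain ⟨s, hs, t, ht⟩ := h
  let P := presentationTilde.{u} M (s : Set M) hs (t : Set ((s : Set M) →₀ R)) ht
  have h1 : Finite P.generators.I := (inferInstance : Finite (s : Set M))
  have h2 : Finite P.relations.I := (inferInstance : Finite (t : Set ((s : Set M) →₀ R)))
  exact ⟨P, h1, h2⟩

set_option backward.isDefEq.respectTransparency false in
theorem isFP_of_presentation {X : Scheme.{u}} (N : X.Modules) (P : N.Presentation)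
    (h1 : Finite P.generators.I) (h2 : Finite P.relations.I) :
    SheafOfModules.IsFinitePresentation.{u, u, u} (R := X.ringCatSheaf) N := by
  let σ : SheafOfModules.QuasicoherentData.{u, u, u, u} (R := X.ringCatSheaf) N :=
    P.quasicoherentData
  have hσ : σ.IsFinitePresentation := by
    constructor
    intro x
    constructor
    · constructor
      show Finite P.generators.I
      exact h1
    · constructor
      show Finite P.relations.I
      exact h2
  constructor
  exact Exists.intro σ hσ

theorem bwd (R : CommRingCat.{u}) (M : ModuleCat.{u} R) (h : Module.FinitePresentation R M) :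
    CohB1.IsFP (tilde M) := by
  obtain ⟨P, h1, h2⟩ := bwd1 R M h
  exact isFP_of_presentation (tilde M) P h1 h2
end

/-- The sheaf associated to a module over a ring is of finite presentation on the spectrum if and only
if the module is finitely presented. -/
theorem result (R : CommRingCat.{u}) (M : ModuleCat.{u} R) :
    CohB1.IsFP (tilde M) ↔ Module.FinitePresentation R M := by
  constructor
  · intro h
    exact fwd R M h
  · intro h
    exact bwd R M h

end Groth.Agent.S9827
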