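import Groth.Statements.S12451
import Groth.Agent.S9827
import Groth.Agent.Lead.StalkLoc
import Mathlib.RingTheory.Flat.EquationalCriterion
import Mathlib.RingTheory.Flat.Localization
-- import your own Groth.Agent.* helpers here

set_option autoImplicit false
universe u
open CategoryTheory AlgebraicGeometry
open Props

namespace Groth.Agent.S12451


section
open Opposite TopologicalSpace CategoryTheory.Limits
open Groth.Agent.Lead.QCoh Groth.Agent.Lead.FinType Groth.Agent.Lead.FreeEpi Groth.Agent.Lead.FreeIso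
open Groth.Agent.Lead.LocFree Groth.Agent.Lead.FPSec Groth.Agent.Lead.StalkLoc

theorem free_of_eq {X : Scheme.{u}} (F : X.Modules) {O O' : X.Opens} (h : O = O')
    (hf : Module.Free Γ(X, O) Γ(F, O)) : Module.Free Γ(X, O') Γ(F, O') := by
  subst h; exact hf

set_option backward.isDefEq.respectTransparency false in
theorem bwd {R : CommRingCat.{u}} (M : ModuleCat.{u} R) [Module.Finite R M]
    [Module.Projective R M] : FlatMod.IsFinLocFree (tilde M) := by
  classical
  obtain ⟨n, f, g, hf, hg, hfg⟩ := Module.Finite.exists_comp_eq_id_of_projective R M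
  let eqv : (Fin n → R) ≃ₗ[R] (ULift.{u} (Fin n) →₀ R) :=
    ((Finsupp.linearEquivFunOnFinite R R (Fin n)).symm) ≪≫ₗ
      (Finsupp.domLCongr Equiv.ulift.symm)
  let g' : M ⟶ ModuleCat.of R (ULift.{u} (Fin n) →₀ R) := ModuleCat.ofHom (eqv.toLinearMap ∘ₗ g)
  let f' : ModuleCat.of R (ULift.{u} (Fin n) →₀ R) ⟶ M :=
    ModuleCat.ofHom (f ∘ₗ eqv.symm.toLinearMap)
  have hgf : g' ≫ f' = 𝟙 M := by
    ext m
    show f (eqv.symm (eqv (g m))) = m
    rw [eqv.symm_apply_apply]
    exact LinearMap.congr_fun hfg m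
  let φ : tilde M ⟶ freeM (Spec R) (ULift.{u} (Fin n)) :=
    tilde.map g' ≫ (tildeFinsupp (ULift.{u} (Fin n))).hom
  let ψ : freeM (Spec R) (ULift.{u} (Fin n)) ⟶ tilde M :=
    (tildeFinsupp (ULift.{u} (Fin n))).inv ≫ tilde.map f'
  have hφψ : φ ≫ ψ = 𝟙 _ := by
    simp only [φ, ψ, Category.assoc, Iso.hom_inv_id_assoc]
    rw [← tilde.map_comp, hgf, tilde.map_id]
  exact isFinLocFree_of_retract (tilde M) φ ψ hφψ

set_option synthInstance.maxHeartbeats 400000 in
set_option backward.isDefEq.respectTransparency false in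
theorem flat_of_isFinLocFree {R : CommRingCat.{u}} (M : ModuleCat.{u} R)
    (h : FlatMod.IsFinLocFree (tilde M)) : Module.Flat R M := by
  let s : Set R := {f | Module.Free Γ(Spec R, PrimeSpectrum.basicOpen f)
    Γ(tilde M, PrimeSpectrum.basicOpen f)}
  have key : ∀ x : Spec R, ∃ f : R, f ∈ s ∧ x ∈ PrimeSpectrum.basicOpen f := by
    intro x
    obtain ⟨U, n, hxU, ⟨e⟩⟩ := h x
    obtain ⟨a, ⟨_, ⟨f, rfl⟩, rfl⟩, hxf, hfU⟩ :=
      PrimeSpectrum.isBasis_basic_opens.exists_subset_of_mem_open hxU U.2
    refine ⟨f, ?_, hxf⟩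
    have hle : (PrimeSpectrum.basicOpen f : (Spec R).Opens) ≤ U := hfU
    obtain ⟨b⟩ := exists_basis_of_iso_freeMod (tilde M) U e
      (U.ι ⁻¹ᵁ (PrimeSpectrum.basicOpen f : (Spec R).Opens))
    have himg : U.ι ''ᵁ (U.ι ⁻¹ᵁ (PrimeSpectrum.basicOpen f : (Spec R).Opens)) =
        (PrimeSpectrum.basicOpen f : (Spec R).Opens) := by
      rw [Scheme.Hom.image_preimage_eq_opensRange_inf, Scheme.Opens.opensRange_ι]
      exact inf_eq_right.mpr hle
    exact free_of_eq (tilde M) himg (Module.Free.of_basis b)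
  have hs : Ideal.span s = ⊤ := by
    rw [← PrimeSpectrum.iSup_basicOpen_eq_top_iff', eq_top_iff]
    intro x _
    obtain ⟨f, hf, hxf⟩ := key x
    exact Opens.mem_iSup.mpr ⟨f, Opens.mem_iSup.mpr ⟨hf, hxf⟩⟩
  refine Module.flat_of_isLocalized_span (R := R) (S := R) (M := M) s hs
    (fun r => ((modulesSpecToSheaf.obj (tilde M)).presheaf.obj
      (op (PrimeSpectrum.basicOpen r.1 : (Spec R).Opens))))
    (fun r => (tilde.toOpen M (PrimeSpectrum.basicOpen r.1)).hom) (fun r => ?_)
  show Module.Flat R Γ(tilde M, PrimeSpectrum.basicOpen r.1)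
  haveI : Module.Free Γ(Spec R, PrimeSpectrum.basicOpen r.1)
      Γ(tilde M, PrimeSpectrum.basicOpen r.1) := r.2
  haveI : Module.Flat R Γ(Spec R, PrimeSpectrum.basicOpen r.1) :=
    IsLocalization.flat _ (Submonoid.powers r.1)
  exact Module.Flat.trans R Γ(Spec R, PrimeSpectrum.basicOpen r.1)
    Γ(tilde M, PrimeSpectrum.basicOpen r.1)

set_option backward.isDefEq.respectTransparency false in
theorem fwd {R : CommRingCat.{u}} (M : ModuleCat.{u} R) (h : FlatMod.IsFinLocFree (tilde M)) :
    Module.Finite R M ∧ Module.Projective R M := by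
  have hfp : SheafOfModules.IsFinitePresentation.{u, u, u} (R := (Spec R).ringCatSheaf)
      (tilde M) := isFP_of_isFinLocFree (tilde M) h
  haveI hM : Module.FinitePresentation R M := Groth.Agent.S9827.fwd R M hfp
  haveI : Module.Finite R M := inferInstance
  haveI : Module.Flat R M := flat_of_isFinLocFree M h
  exact ⟨inferInstance, Module.Flat.projective_of_finitePresentation⟩
end

/-- For a commutative ring R and an R-module M, the associated quasi-coherent module M~ on Spec R is a
finite locally free O-module exactly when M is finitely generated and projective over R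
(equivalently, a finite locally free R-module). -/
theorem result {R : CommRingCat.{u}} (M : ModuleCat.{u} R) :
    FlatMod.IsFinLocFree (tilde M) ↔ Module.Finite R M ∧ Module.Projective R M := by
  constructor
  · intro h
    exact fwd M h
  · rintro ⟨h1, h2⟩
    haveI := h1
    haveI := h2
    exact bwd M

end Groth.Agent.S12451
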