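import Groth.Statements.S12452
import Mathlib

set_option autoImplicit false
universe u
open CategoryTheory TopologicalSpace Opposite
open ShSp

namespace Groth.Agent.S12452

private lemma res_res {X : TopCat.{u}} (F : TopCat.Presheaf (Type u) X) {U V W : Opens X}
    (h1 : U ≤ V) (h2 : V ≤ W) (t : F.obj (op W)) :
    F.map (homOfLE h1).op (F.map (homOfLE h2).op t) = F.map (homOfLE (h1.trans h2)).op t := by
  rw [← ConcreteCategory.comp_apply, ← F.map_comp]
  rfl

private lemma res_eq {X : TopCat.{u}} (F : TopCat.Presheaf (Type u) X) {U V : Opens X}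
    (i : op V ⟶ op U) (h : U ≤ V) (t : F.obj (op V)) :
    F.map i t = F.map (homOfLE h).op t := by
  have : i = (homOfLE h).op := Quiver.Hom.unop_inj (Subsingleton.elim _ _)
  rw [this]

private abbrev Idx {X Y : TopCat.{u}} (f : X ⟶ Y) (BX : Set (Opens X)) (BY : Set (Opens Y))
    (W : Opens Y) : Type u :=
  {p : BY × BX // (p.1 : Opens Y) ≤ W ∧ (p.2 : Opens X) ≤ (Opens.map f).obj p.1}

private lemma glue_aux {X : TopCat.{u}} (F : X.Sheaf (Type u)) {ι : Type u} (Uf : ι → Opens X)
    (O : Opens X) (hle : ∀ i, Uf i ≤ O) (hcover : O ≤ iSup Uf)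
    (sf : ∀ i, F.presheaf.obj (op (Uf i)))
    (hloc : ∀ i j, ∀ x ∈ Uf i ⊓ Uf j, ∃ (U' : Opens X) (h1 : U' ≤ Uf i) (h2 : U' ≤ Uf j),
      x ∈ U' ∧ F.presheaf.map (homOfLE h1).op (sf i) = F.presheaf.map (homOfLE h2).op (sf j)) :
    ∃! t : F.presheaf.obj (op O), ∀ i, F.presheaf.map (homOfLE (hle i)).op t = sf i := by
  have hcompat : TopCat.Presheaf.IsCompatible F.1 Uf sf := by
    intro i j
    choose U' h1 h2 hxU' heq using hloc i j
    refine F.eq_of_locally_eq' (fun k : {x // x ∈ Uf i ⊓ Uf j} => U' k.1 k.2) (Uf i ⊓ Uf j)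
      (fun k => homOfLE (le_inf (h1 k.1 k.2) (h2 k.1 k.2))) ?_ _ _ ?_
    · intro x hx
      exact Opens.mem_iSup.mpr ⟨⟨x, hx⟩, hxU' x hx⟩
    · intro k
      rw [res_eq F.1 (Opens.infLELeft (Uf i) (Uf j)).op inf_le_left,
        res_eq F.1 (Opens.infLERight (Uf i) (Uf j)).op inf_le_right, res_res, res_res]
      exact heq k.1 k.2
  exact F.existsUnique_gluing' Uf O (fun i => homOfLE (hle i)) hcover sf hcompat

/-- For sheaves of sets, let f : X → Y be a continuous map, F a sheaf of sets on X, G a sheaf of sets on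
Y, and B_X, B_Y bases for the topologies of X and Y. Suppose given, for every V in B_Y and U in B_X
with U ⊆ f⁻¹V, a map φ_V^U : G(V) → F(U), compatibly with restrictions. Then there is exactly one
morphism of sheaves ψ : G → f_*F (an f-map G → F) such that G(V) → F(f⁻¹V) → F(U) equals φ_V^U for
every such pair. -/
theorem result {X Y : TopCat.{u}} (f : X ⟶ Y) (F : X.Sheaf (Type u)) (G : Y.Sheaf (Type u))
    {BX : Set (Opens X)} (hBX : Opens.IsBasis BX) {BY : Set (Opens Y)} (hBY : Opens.IsBasis BY)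
    (φ : ∀ (V : BY) (U : BX), (U : Opens X) ≤ (Opens.map f).obj V →
      (G.presheaf.obj (op (V : Opens Y)) → F.presheaf.obj (op (U : Opens X))))
    (hφ : ∀ (V V' : BY) (U U' : BX) (hUV : (U : Opens X) ≤ (Opens.map f).obj V)
      (hU'V' : (U' : Opens X) ≤ (Opens.map f).obj V') (hV : (V' : Opens Y) ≤ V) (hU : (U' : Opens X) ≤ U)
      (s : G.presheaf.obj (op (V : Opens Y))),
      F.presheaf.map (homOfLE hU).op (φ V U hUV s) = φ V' U' hU'V' (G.presheaf.map (homOfLE hV).op s)) :
    ∃! ψ : G ⟶ (TopCat.Sheaf.pushforward (Type u) f).obj F,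
      ∀ (V : BY) (U : BX) (hUV : (U : Opens X) ≤ (Opens.map f).obj V) (s : G.presheaf.obj (op (V : Opens Y))),
        F.presheaf.map (homOfLE hUV).op (ψ.1.app (op (V : Opens Y)) s) = φ V U hUV s := by
  classical
  have hmono : ∀ {V W : Opens Y}, V ≤ W → (Opens.map f).obj V ≤ (Opens.map f).obj W :=
    fun h => ((Opens.map f).map (homOfLE h)).le
  have hglue : ∀ (W : Opens Y) (s : G.presheaf.obj (op W)),
      ∃! t : F.presheaf.obj (op ((Opens.map f).obj W)),
        ∀ (V : BY) (U : BX) (hVW : (V : Opens Y) ≤ W)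
          (hUV : (U : Opens X) ≤ (Opens.map f).obj V),
          F.presheaf.map (homOfLE (hUV.trans (hmono hVW))).op t =
            φ V U hUV (G.presheaf.map (homOfLE hVW).op s) := by
    intro W s
    have hcover : (Opens.map f).obj W ≤ ⨆ i : Idx f BX BY W, (i.1.2 : Opens X) := by
      intro x hx
      obtain ⟨V, hVB, hxV, hVW⟩ := (Opens.isBasis_iff_nbhd.mp hBY) (show f x ∈ W from hx)
      obtain ⟨U, hUB, hxU, hUV⟩ := (Opens.isBasis_iff_nbhd.mp hBX)
        (show x ∈ (Opens.map f).obj V from hxV)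
      exact Opens.mem_iSup.mpr ⟨⟨(⟨V, hVB⟩, ⟨U, hUB⟩), hVW, hUV⟩, hxU⟩
    have hloc : ∀ i j : Idx f BX BY W, ∀ x ∈ (i.1.2 : Opens X) ⊓ (j.1.2 : Opens X),
        ∃ (U' : Opens X) (h1 : U' ≤ (i.1.2 : Opens X)) (h2 : U' ≤ (j.1.2 : Opens X)),
          x ∈ U' ∧
          F.presheaf.map (homOfLE h1).op
              (φ i.1.1 i.1.2 i.2.2 (G.presheaf.map (homOfLE i.2.1).op s)) =
            F.presheaf.map (homOfLE h2).op
              (φ j.1.1 j.1.2 j.2.2 (G.presheaf.map (homOfLE j.2.1).op s)) := by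
      intro i j x hx
      have hxi : x ∈ (i.1.2 : Opens X) := hx.1
      have hxj : x ∈ (j.1.2 : Opens X) := hx.2
      have hfi : f x ∈ (i.1.1 : Opens Y) := i.2.2 hxi
      have hfj : f x ∈ (j.1.1 : Opens Y) := j.2.2 hxj
      obtain ⟨V, hVB, hxV, hVle⟩ := (Opens.isBasis_iff_nbhd.mp hBY)
        (show f x ∈ (i.1.1 : Opens Y) ⊓ (j.1.1 : Opens Y) from ⟨hfi, hfj⟩)
      obtain ⟨U, hUB, hxU, hUle⟩ := (Opens.isBasis_iff_nbhd.mp hBX)
        (show x ∈ ((i.1.2 : Opens X) ⊓ (j.1.2 : Opens X)) ⊓ (Opens.map f).obj V from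
          ⟨⟨hxi, hxj⟩, hxV⟩)
      have hUi : U ≤ (i.1.2 : Opens X) := hUle.trans (inf_le_left.trans inf_le_left)
      have hUj : U ≤ (j.1.2 : Opens X) := hUle.trans (inf_le_left.trans inf_le_right)
      have hUV : U ≤ (Opens.map f).obj V := hUle.trans inf_le_right
      have hVi : V ≤ (i.1.1 : Opens Y) := hVle.trans inf_le_left
      have hVj : V ≤ (j.1.1 : Opens Y) := hVle.trans inf_le_right
      refine ⟨U, hUi, hUj, hxU, ?_⟩
      have e1 := hφ i.1.1 ⟨V, hVB⟩ i.1.2 ⟨U, hUB⟩ i.2.2 hUV hVi hUi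
        (G.presheaf.map (homOfLE i.2.1).op s)
      have e2 := hφ j.1.1 ⟨V, hVB⟩ j.1.2 ⟨U, hUB⟩ j.2.2 hUV hVj hUj
        (G.presheaf.map (homOfLE j.2.1).op s)
      rw [res_res] at e1 e2
      exact e1.trans e2.symm
    obtain ⟨t, ht, htu⟩ := glue_aux F (fun i : Idx f BX BY W => (i.1.2 : Opens X))
      ((Opens.map f).obj W) (fun i => i.2.2.trans (hmono i.2.1)) hcover
      (fun i => φ i.1.1 i.1.2 i.2.2 (G.presheaf.map (homOfLE i.2.1).op s)) hloc
    exact ⟨t, fun V U hVW hUV => ht ⟨(V, U), hVW, hUV⟩,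
      fun t' ht' => htu t' (fun i => ht' i.1.1 i.1.2 i.2.1 i.2.2)⟩
  choose g hg using fun W s => (hglue W s).exists
  have hguniq : ∀ (W : Opens Y) (s : G.presheaf.obj (op W))
      (t' : F.presheaf.obj (op ((Opens.map f).obj W))),
      (∀ (V : BY) (U : BX) (hVW : (V : Opens Y) ≤ W)
          (hUV : (U : Opens X) ≤ (Opens.map f).obj V),
          F.presheaf.map (homOfLE (hUV.trans (hmono hVW))).op t' =
            φ V U hUV (G.presheaf.map (homOfLE hVW).op s)) → t' = g W s :=
    fun W s t' ht' => (hglue W s).unique ht' (hg W s)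
  have hnat : ∀ (W W' : Opens Y) (hle : W' ≤ W) (s : G.presheaf.obj (op W)),
      g W' (G.presheaf.map (homOfLE hle).op s) =
        F.presheaf.map (homOfLE (hmono hle)).op (g W s) := by
    intro W W' hle s
    symm
    apply hguniq
    intro V U hVW hUV
    rw [res_res, res_res]
    exact hg W s V U (hVW.trans hle) hUV
  let ψ : G ⟶ (TopCat.Sheaf.pushforward (Type u) f).obj F :=
    ObjectProperty.homMk
      { app := fun W => ↾(fun s => g W.unop s)
        naturality := by
          intro W W' i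
          apply ConcreteCategory.hom_ext
          intro s
          show g W'.unop (G.presheaf.map i s) =
            F.presheaf.map ((Opens.map f).op.map i) (g W.unop s)
          rw [res_eq G.presheaf i i.unop.le,
            res_eq F.presheaf ((Opens.map f).op.map i) (hmono i.unop.le)]
          exact hnat _ _ _ s }
  refine ⟨ψ, ?_, ?_⟩
  · intro V U hUV s
    show F.presheaf.map (homOfLE hUV).op (g (V : Opens Y) s) = φ V U hUV s
    have h1 := hg (V : Opens Y) s V U le_rfl hUV
    have hid : G.presheaf.map (homOfLE (le_refl (V : Opens Y))).op s = s := by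
      rw [show (homOfLE (le_refl (V : Opens Y))).op = 𝟙 (op (V : Opens Y)) from rfl,
        G.presheaf.map_id]
      rfl
    rw [hid] at h1
    exact h1
  · intro ψ' hψ'
    apply ObjectProperty.hom_ext
    apply NatTrans.ext
    funext W
    obtain ⟨W⟩ := W
    apply ConcreteCategory.hom_ext
    intro s
    show ψ'.1.app (op W) s = g W s
    apply hguniq
    intro V U hVW hUV
    have h1 := hψ' V U hUV (G.presheaf.map (homOfLE hVW).op s)
    have h2 : ψ'.1.app (op (V : Opens Y)) (G.presheaf.map (homOfLE hVW).op s) =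
        F.presheaf.map (homOfLE (hmono hVW)).op (ψ'.1.app (op W) s) :=
      NatTrans.naturality_apply ψ'.1 (homOfLE hVW).op s
    rw [h2, res_res] at h1
    exact h1


end Groth.Agent.S12452
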