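import Groth.Statements.S1614
import Mathlib

set_option autoImplicit false
universe u
open CategoryTheory CategoryTheory.Limits AlgebraicGeometry
open Constr

namespace Groth.Agent.S1614


open CategoryTheory AlgebraicGeometry TopologicalSpace Opposite

section Aux

variable {R A : Type u} [CommRing R] [CommRing A] [Algebra R A]
  (𝒜 : ℕ → Submodule R A) [GradedAlgebra 𝒜]

theorem pow_nin (f : A) (x : ProjectiveSpectrum 𝒜) (hx : f ∉ x.asHomogeneousIdeal) (k : ℕ) :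
    f ^ k ∉ x.asHomogeneousIdeal := fun h => hx (x.isPrime.mem_of_pow_mem k h)

theorem pow_mem' (d : ℕ) (f : A) (hf : f ∈ 𝒜 d) (k : ℕ) : f ^ k ∈ 𝒜 (k * d) := by
  have h := SetLike.pow_mem_graded k hf
  rwa [smul_eq_mul] at h

theorem deg_eq (n : ℤ) (d : ℕ) :
    ((n.toNat * d : ℕ) : ℤ) = ((-n).toNat * d : ℕ) + n * d := by
  push_cast
  linear_combination (d : ℤ) * Int.toNat_sub_toNat_neg n

theorem mk_mul_mk_swap {B : Type*} [CommRing B] (S : Submonoid B) (a b : S) :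
    (Localization.mk (a : B) b) * Localization.mk (b : B) a = 1 := by
  rw [Localization.mk_mul, mul_comm (a : B) (b : B), ← Submonoid.coe_mul]
  exact Localization.mk_self _

/-- the section `f^n` of `O(nd)` over an open inside `D_+(f)` -/
def gsec (d : ℕ) (f : A) (hf : f ∈ 𝒜 d) (n : ℤ) (W : Opens (ProjectiveSpectrum.top 𝒜))
    (hW : ∀ x : W, f ∉ x.1.asHomogeneousIdeal) : Twist.sectN (𝒜 := 𝒜) (n * d) (op W) :=
  ⟨fun x => ⟨Localization.mk (f ^ n.toNat) ⟨f ^ (-n).toNat, pow_nin 𝒜 f x.1 (hW x) _⟩,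
      Submodule.subset_span ⟨n.toNat * d, (-n).toNat * d, ⟨f ^ n.toNat, pow_mem' 𝒜 d f hf _⟩,
        ⟨f ^ (-n).toNat, pow_mem' 𝒜 d f hf _⟩, pow_nin 𝒜 f x.1 (hW x) _, deg_eq n d, rfl⟩⟩,
    fun x => ⟨W, x.2, 𝟙 _, n.toNat * d, (-n).toNat * d, ⟨f ^ n.toNat, pow_mem' 𝒜 d f hf _⟩,
      ⟨f ^ (-n).toNat, pow_mem' 𝒜 d f hf _⟩, fun y => pow_nin 𝒜 f y.1 (hW y) _,
      Or.inl (deg_eq n d), fun _ => rfl⟩⟩

theorem uv (d : ℕ) (f : A) (hf : f ∈ 𝒜 d) (n : ℤ) (W : Opens (ProjectiveSpectrum.top 𝒜))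
    (hW : ∀ x : W, f ∉ x.1.asHomogeneousIdeal) (x : W) :
    (Localization.mk (f ^ (-n).toNat) ⟨f ^ n.toNat, pow_nin 𝒜 f x.1 (hW x) _⟩ : Twist.Loc 𝒜 x.1) *
      ((gsec 𝒜 d f hf n W hW).1 x).1 = 1 :=
  mk_mul_mk_swap _ ⟨f ^ (-n).toNat, pow_nin 𝒜 f x.1 (hW x) _⟩
    ⟨f ^ n.toNat, pow_nin 𝒜 f x.1 (hW x) _⟩

theorem smul_val (d : ℕ) (f : A) (hf : f ∈ 𝒜 d) (n : ℤ) (W : Opens (ProjectiveSpectrum.top 𝒜))
    (hW : ∀ x : W, f ∉ x.1.asHomogeneousIdeal) (c : Twist.O (𝒜 := 𝒜) (op W)) (x : W) :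
    (((c • gsec 𝒜 d f hf n W hW).1 x : Twist.twistAt 𝒜 (n * d) x.1) : Twist.Loc 𝒜 x.1) =
      (c.1 x).val * ((gsec 𝒜 d f hf n W hW).1 x).1 :=
  Twist.coe_smul_val (n * d) x.1 (c.1 x) ((gsec 𝒜 d f hf n W hW).1 x)

theorem inj_core (d : ℕ) (f : A) (hf : f ∈ 𝒜 d) (n : ℤ) (W : Opens (ProjectiveSpectrum.top 𝒜))
    (hW : ∀ x : W, f ∉ x.1.asHomogeneousIdeal) (s s' : Twist.O (𝒜 := 𝒜) (op W))
    (h : s • gsec 𝒜 d f hf n W hW = s' • gsec 𝒜 d f hf n W hW) : s = s' := by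
  refine Subtype.ext (funext fun x => ?_)
  have h1 : (((s • gsec 𝒜 d f hf n W hW).1 x : Twist.twistAt 𝒜 (n * d) x.1) : Twist.Loc 𝒜 x.1) =
      (((s' • gsec 𝒜 d f hf n W hW).1 x : Twist.twistAt 𝒜 (n * d) x.1) : Twist.Loc 𝒜 x.1) := by
    rw [h]
  rw [smul_val, smul_val] at h1
  have huv := uv 𝒜 d f hf n W hW x
  have h3 : (s.1 x).val = (s'.1 x).val := by
    calc (s.1 x).val
        = (s.1 x).val * ((gsec 𝒜 d f hf n W hW).1 x).1 *
            Localization.mk (f ^ (-n).toNat) ⟨f ^ n.toNat, pow_nin 𝒜 f x.1 (hW x) _⟩ := by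
          rw [mul_assoc, mul_comm ((gsec 𝒜 d f hf n W hW).1 x).1, huv, mul_one]
      _ = (s'.1 x).val * ((gsec 𝒜 d f hf n W hW).1 x).1 *
            Localization.mk (f ^ (-n).toNat) ⟨f ^ n.toNat, pow_nin 𝒜 f x.1 (hW x) _⟩ := by
          rw [h1]
      _ = (s'.1 x).val := by
          rw [mul_assoc, mul_comm ((gsec 𝒜 d f hf n W hW).1 x).1, huv, mul_one]
  exact HomogeneousLocalization.val_injective _ h3

theorem local_form (d : ℕ) (f : A) (hf : f ∈ 𝒜 d) (n : ℤ) (W : Opens (ProjectiveSpectrum.top 𝒜))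
    (hW : ∀ x : W, f ∉ x.1.asHomogeneousIdeal) (t : Twist.sectN (𝒜 := 𝒜) (n * d) (op W)) (x : W) :
    ∃ (V : Opens (ProjectiveSpectrum.top 𝒜)) (_ : x.1 ∈ V) (iV : V ⟶ W) (k : ℕ) (r b : 𝒜 k)
      (nin : ∀ y : V, (b : A) ∉ y.1.asHomogeneousIdeal),
      ∀ y : V, (t.1 (iV y)).1 *
          Localization.mk (f ^ (-n).toNat) ⟨f ^ n.toNat, pow_nin 𝒜 f (iV y).1 (hW (iV y)) _⟩ =
        Localization.mk (r : A) ⟨b, nin y⟩ := by
  obtain ⟨V, hxV, iV, i, j, ⟨a, ha⟩, ⟨b, hb⟩, hnin, hdeg, hw⟩ :=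
    (show (Twist.isLocFracN 𝒜 (n * d)).pred t.1 from t.2) x
  have hdeg' : (i : ℤ) = j + n * d ∨ a = 0 := hdeg
  have hmem : a * f ^ (-n).toNat ∈ 𝒜 (j + n.toNat * d) := by
    rcases hdeg' with h | h
    · have e : i + (-n).toNat * d = j + n.toNat * d := by
        have h0 := deg_eq n d
        have h5 : ((i + (-n).toNat * d : ℕ) : ℤ) = ((j + n.toNat * d : ℕ) : ℤ) := by
          rw [Nat.cast_add, Nat.cast_add, h0, h]; ring
        exact_mod_cast h5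
      rw [← e]
      exact SetLike.mul_mem_graded ha (pow_mem' 𝒜 d f hf _)
    · rw [h, zero_mul]; exact zero_mem _
  refine ⟨V, hxV, iV, j + n.toNat * d, ⟨a * f ^ (-n).toNat, hmem⟩,
    ⟨b * f ^ n.toNat, SetLike.mul_mem_graded hb (pow_mem' 𝒜 d f hf _)⟩, fun y h => ?_, fun y => ?_⟩
  · exact (y.1.isPrime.mem_or_mem h).elim (hnin y) (pow_nin 𝒜 f y.1 (hW (iV y)) _)
  · have e1 : (t.1 (iV y)).1 = Localization.mk a ⟨b, hnin y⟩ := hw y
    rw [e1, Localization.mk_mul]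
    rfl

theorem surj_core (d : ℕ) (f : A) (hf : f ∈ 𝒜 d) (n : ℤ) (W : Opens (ProjectiveSpectrum.top 𝒜))
    (hW : ∀ x : W, f ∉ x.1.asHomogeneousIdeal) (t : Twist.sectN (𝒜 := 𝒜) (n * d) (op W)) :
    ∃ s : Twist.O (𝒜 := 𝒜) (op W), s • gsec 𝒜 d f hf n W hW = t := by
  classical
  have hex : ∀ x : W, ∃ c : Twist.A0 𝒜 x.1, c.val = (t.1 x).1 *
      Localization.mk (f ^ (-n).toNat) ⟨f ^ n.toNat, pow_nin 𝒜 f x.1 (hW x) _⟩ := by
    intro x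
    obtain ⟨V, hxV, iV, k, r, b, nin, hV⟩ := local_form 𝒜 d f hf n W hW t x
    refine ⟨HomogeneousLocalization.mk ⟨k, r, b, nin ⟨x.1, hxV⟩⟩, ?_⟩
    rw [HomogeneousLocalization.val_mk]
    exact (hV ⟨x.1, hxV⟩).symm
  choose c hc using hex
  have hloc : (ProjectiveSpectrum.StructureSheaf.isLocallyFraction 𝒜).pred c := by
    intro x
    obtain ⟨V, hxV, iV, k, r, b, nin, hV⟩ := local_form 𝒜 d f hf n W hW t x
    refine ⟨V, hxV, iV, k, r, b, nin, fun y => ?_⟩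
    apply HomogeneousLocalization.val_injective
    rw [HomogeneousLocalization.val_mk]
    exact (hc (iV y)).trans (hV y)
  let s0 : Twist.O (𝒜 := 𝒜) (op W) :=
    (Subtype.mk c hloc : {g : ∀ x : W, Twist.A0 𝒜 x.1 //
      (ProjectiveSpectrum.StructureSheaf.isLocallyFraction 𝒜).pred g})
  refine ⟨s0, ?_⟩
  refine Subtype.ext (funext fun x => Subtype.ext ?_)
  refine (smul_val 𝒜 d f hf n W hW s0 x).trans ?_
  have h2 : (s0.1 x).val = (t.1 x).1 *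
      Localization.mk (f ^ (-n).toNat) ⟨f ^ n.toNat, pow_nin 𝒜 f x.1 (hW x) _⟩ := hc x
  rw [h2, mul_assoc, uv 𝒜 d f hf n W hW x, mul_one]

theorem bij_core (d : ℕ) (f : A) (hf : f ∈ 𝒜 d) (n : ℤ) (W : Opens (ProjectiveSpectrum.top 𝒜))
    (hW : ∀ x : W, f ∉ x.1.asHomogeneousIdeal) :
    Function.Bijective (fun s : Twist.O (𝒜 := 𝒜) (op W) =>
      (s • gsec 𝒜 d f hf n W hW : Twist.sectN (𝒜 := 𝒜) (n * d) (op W))) :=
  ⟨fun s s' h => inj_core 𝒜 d f hf n W hW s s' h, fun t => surj_core 𝒜 d f hf n W hW t⟩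

theorem triv (d : ℕ) (f : A) (hf : f ∈ 𝒜 d) (n : ℤ) {X : Scheme.{u}} (j : X ⟶ Proj 𝒜)
    [IsOpenImmersion j] (hj : ∀ x : X, j x ∈ Proj.basicOpen 𝒜 f) :
    Nonempty ((Twist.twist 𝒜 (n * d)).restrict j ≅ Coh.structureModule X) := by
  have hW : ∀ V : X.Opens, ∀ x : (j ''ᵁ V : (Proj 𝒜).Opens), f ∉ x.1.asHomogeneousIdeal := by
    rintro V ⟨_, y, hy, rfl⟩
    exact (Proj.mem_basicOpen 𝒜 f _).mp (hj y)
  let N := (Twist.twist 𝒜 (n * d)).restrict j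
  let σ : N.sections := PresheafOfModules.sectionsMk
    (fun V => gsec 𝒜 d f hf n (j ''ᵁ V.unop) (hW V.unop)) (fun _ _ _ => rfl)
  let φ : Coh.structureModule X ⟶ N := N.unitHomEquiv.symm σ
  have hφ : IsIso φ := by
    refine Scheme.Modules.Hom.isIso_iff_isIso_app.mpr ?_
    intro V
    refine (ConcreteCategory.isIso_iff_bijective (φ.app V)).mpr ?_
    show Function.Bijective ((fun s : Twist.O (𝒜 := 𝒜) (op (j ''ᵁ V)) =>
        (s • gsec 𝒜 d f hf n (j ''ᵁ V) (hW V) : Twist.sectN (𝒜 := 𝒜) (n * d) (op (j ''ᵁ V)))) ∘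
      (fun r : Γ(X, V) => ((j.appIso V).inv r : Γ(Proj 𝒜, j ''ᵁ V))))
    exact (bij_core 𝒜 d f hf n (j ''ᵁ V) (hW V)).comp
      (ConcreteCategory.bijective_of_isIso (j.appIso V).inv)
  exact ⟨(asIso φ).symm⟩

end Aux


/-- Let A be a graded ring, X = Proj A, and f homogeneous of degree d > 0. For every integer n the
restriction of the twisting sheaf O(nd) to the standard open D_+(f) is isomorphic to the structure
sheaf (in particular invertible). -/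
theorem result {R A : Type u} [CommRing R] [CommRing A] [Algebra R A] (𝒜 : ℕ → Submodule R A) [GradedAlgebra 𝒜]
    (d : ℕ) (hd : 0 < d) (f : A) (hf : f ∈ 𝒜 d) (n : ℤ) :
    Nonempty ((Twist.twist 𝒜 (n * d)).restrict (Proj.basicOpen 𝒜 f).ι ≅ Coh.structureModule ↑(Proj.basicOpen 𝒜 f)) :=
  triv 𝒜 d f hf n (Proj.basicOpen 𝒜 f).ι (fun x => x.2)

end Groth.Agent.S1614
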