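import Groth.Statements.S9575
import Mathlib
import Groth.Agent.S1614

set_option autoImplicit false
universe u
open CategoryTheory CategoryTheory.Limits AlgebraicGeometry TopologicalSpace Opposite
open Constr

namespace Groth.Agent.S9575


open CategoryTheory AlgebraicGeometry TopologicalSpace Opposite

section Aux

variable {R A : Type u} [CommRing R] [CommRing A] [Algebra R A]
  (𝒜 : ℕ → Submodule R A) [GradedAlgebra 𝒜]

/-- the section `u/v` of `O(m)` over an open inside `D_+(u) ∩ D_+(v)` -/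
def gsec (m : ℤ) (i j : ℕ) (u v : A) (hu : u ∈ 𝒜 i) (hv : v ∈ 𝒜 j) (hm : (i : ℤ) = j + m)
    (W : Opens (ProjectiveSpectrum.top 𝒜))
    (hW : ∀ x : W, u ∉ x.1.asHomogeneousIdeal ∧ v ∉ x.1.asHomogeneousIdeal) :
    Twist.sectN (𝒜 := 𝒜) m (op W) :=
  ⟨fun x => ⟨Localization.mk u ⟨v, (hW x).2⟩,
      Submodule.subset_span ⟨i, j, ⟨u, hu⟩, ⟨v, hv⟩, (hW x).2, hm, rfl⟩⟩,
    fun x => ⟨W, x.2, 𝟙 _, i, j, ⟨u, hu⟩, ⟨v, hv⟩, fun y => (hW y).2, Or.inl hm, fun _ => rfl⟩⟩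

theorem uv (m : ℤ) (i j : ℕ) (u v : A) (hu : u ∈ 𝒜 i) (hv : v ∈ 𝒜 j) (hm : (i : ℤ) = j + m)
    (W : Opens (ProjectiveSpectrum.top 𝒜))
    (hW : ∀ x : W, u ∉ x.1.asHomogeneousIdeal ∧ v ∉ x.1.asHomogeneousIdeal) (x : W) :
    (Localization.mk v ⟨u, (hW x).1⟩ : Twist.Loc 𝒜 x.1) *
      ((gsec 𝒜 m i j u v hu hv hm W hW).1 x).1 = 1 :=
  Groth.Agent.S1614.mk_mul_mk_swap _ ⟨v, (hW x).2⟩ ⟨u, (hW x).1⟩

theorem smul_val (m : ℤ) (i j : ℕ) (u v : A) (hu : u ∈ 𝒜 i) (hv : v ∈ 𝒜 j) (hm : (i : ℤ) = j + m)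
    (W : Opens (ProjectiveSpectrum.top 𝒜))
    (hW : ∀ x : W, u ∉ x.1.asHomogeneousIdeal ∧ v ∉ x.1.asHomogeneousIdeal)
    (c : Twist.O (𝒜 := 𝒜) (op W)) (x : W) :
    (((c • gsec 𝒜 m i j u v hu hv hm W hW).1 x : Twist.twistAt 𝒜 m x.1) : Twist.Loc 𝒜 x.1) =
      (c.1 x).val * ((gsec 𝒜 m i j u v hu hv hm W hW).1 x).1 :=
  Twist.coe_smul_val m x.1 (c.1 x) ((gsec 𝒜 m i j u v hu hv hm W hW).1 x)

theorem inj_core (m : ℤ) (i j : ℕ) (u v : A) (hu : u ∈ 𝒜 i) (hv : v ∈ 𝒜 j) (hm : (i : ℤ) = j + m)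
    (W : Opens (ProjectiveSpectrum.top 𝒜))
    (hW : ∀ x : W, u ∉ x.1.asHomogeneousIdeal ∧ v ∉ x.1.asHomogeneousIdeal)
    (s s' : Twist.O (𝒜 := 𝒜) (op W))
    (h : s • gsec 𝒜 m i j u v hu hv hm W hW = s' • gsec 𝒜 m i j u v hu hv hm W hW) : s = s' := by
  refine Subtype.ext (funext fun x => ?_)
  have h1 : (((s • gsec 𝒜 m i j u v hu hv hm W hW).1 x : Twist.twistAt 𝒜 m x.1) : Twist.Loc 𝒜 x.1) =
      (((s' • gsec 𝒜 m i j u v hu hv hm W hW).1 x : Twist.twistAt 𝒜 m x.1) : Twist.Loc 𝒜 x.1) := by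
    rw [h]
  rw [smul_val, smul_val] at h1
  have huv := uv 𝒜 m i j u v hu hv hm W hW x
  have h3 : (s.1 x).val = (s'.1 x).val := by
    calc (s.1 x).val
        = (s.1 x).val * ((gsec 𝒜 m i j u v hu hv hm W hW).1 x).1 *
            Localization.mk v ⟨u, (hW x).1⟩ := by
          rw [mul_assoc, mul_comm ((gsec 𝒜 m i j u v hu hv hm W hW).1 x).1, huv, mul_one]
      _ = (s'.1 x).val * ((gsec 𝒜 m i j u v hu hv hm W hW).1 x).1 *
            Localization.mk v ⟨u, (hW x).1⟩ := by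
          rw [h1]
      _ = (s'.1 x).val := by
          rw [mul_assoc, mul_comm ((gsec 𝒜 m i j u v hu hv hm W hW).1 x).1, huv, mul_one]
  exact HomogeneousLocalization.val_injective _ h3

theorem local_form (m : ℤ) (i j : ℕ) (u v : A) (hu : u ∈ 𝒜 i) (hv : v ∈ 𝒜 j)
    (hm : (i : ℤ) = j + m) (W : Opens (ProjectiveSpectrum.top 𝒜))
    (hW : ∀ x : W, u ∉ x.1.asHomogeneousIdeal ∧ v ∉ x.1.asHomogeneousIdeal)
    (t : Twist.sectN (𝒜 := 𝒜) m (op W)) (x : W) :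
    ∃ (V : Opens (ProjectiveSpectrum.top 𝒜)) (_ : x.1 ∈ V) (iV : V ⟶ W) (k : ℕ) (r b : 𝒜 k)
      (nin : ∀ y : V, (b : A) ∉ y.1.asHomogeneousIdeal),
      ∀ y : V, (t.1 (iV y)).1 * Localization.mk v ⟨u, (hW (iV y)).1⟩ =
        Localization.mk (r : A) ⟨b, nin y⟩ := by
  obtain ⟨V, hxV, iV, i₁, j₁, ⟨a, ha⟩, ⟨b, hb⟩, hnin, hdeg, hw⟩ :=
    (show (Twist.isLocFracN 𝒜 m).pred t.1 from t.2) x
  have hdeg' : (i₁ : ℤ) = j₁ + m ∨ a = 0 := hdeg
  have hmem : a * v ∈ 𝒜 (j₁ + i) := by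
    rcases hdeg' with h | h
    · have e : i₁ + j = j₁ + i := by omega
      rw [← e]
      exact SetLike.mul_mem_graded ha hv
    · rw [h, zero_mul]; exact zero_mem _
  refine ⟨V, hxV, iV, j₁ + i, ⟨a * v, hmem⟩,
    ⟨b * u, SetLike.mul_mem_graded hb hu⟩, fun y h => ?_, fun y => ?_⟩
  · exact (y.1.isPrime.mem_or_mem h).elim (hnin y) (hW (iV y)).1
  · have e1 : (t.1 (iV y)).1 = Localization.mk a ⟨b, hnin y⟩ := hw y
    rw [e1, Localization.mk_mul]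
    rfl

theorem surj_core (m : ℤ) (i j : ℕ) (u v : A) (hu : u ∈ 𝒜 i) (hv : v ∈ 𝒜 j)
    (hm : (i : ℤ) = j + m) (W : Opens (ProjectiveSpectrum.top 𝒜))
    (hW : ∀ x : W, u ∉ x.1.asHomogeneousIdeal ∧ v ∉ x.1.asHomogeneousIdeal)
    (t : Twist.sectN (𝒜 := 𝒜) m (op W)) :
    ∃ s : Twist.O (𝒜 := 𝒜) (op W), s • gsec 𝒜 m i j u v hu hv hm W hW = t := by
  classical
  have hex : ∀ x : W, ∃ c : Twist.A0 𝒜 x.1, c.val = (t.1 x).1 *
      Localization.mk v ⟨u, (hW x).1⟩ := by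
    intro x
    obtain ⟨V, hxV, iV, k, r, b, nin, hV⟩ := local_form 𝒜 m i j u v hu hv hm W hW t x
    refine ⟨HomogeneousLocalization.mk ⟨k, r, b, nin ⟨x.1, hxV⟩⟩, ?_⟩
    rw [HomogeneousLocalization.val_mk]
    exact (hV ⟨x.1, hxV⟩).symm
  choose c hc using hex
  have hloc : (ProjectiveSpectrum.StructureSheaf.isLocallyFraction 𝒜).pred c := by
    intro x
    obtain ⟨V, hxV, iV, k, r, b, nin, hV⟩ := local_form 𝒜 m i j u v hu hv hm W hW t x
    refine ⟨V, hxV, iV, k, r, b, nin, fun y => ?_⟩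
    apply HomogeneousLocalization.val_injective
    rw [HomogeneousLocalization.val_mk]
    exact (hc (iV y)).trans (hV y)
  let s0 : Twist.O (𝒜 := 𝒜) (op W) :=
    (Subtype.mk c hloc : {g : ∀ x : W, Twist.A0 𝒜 x.1 //
      (ProjectiveSpectrum.StructureSheaf.isLocallyFraction 𝒜).pred g})
  refine ⟨s0, ?_⟩
  refine Subtype.ext (funext fun x => Subtype.ext ?_)
  refine (smul_val 𝒜 m i j u v hu hv hm W hW s0 x).trans ?_
  have h2 : (s0.1 x).val = (t.1 x).1 * Localization.mk v ⟨u, (hW x).1⟩ := hc x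
  rw [h2, mul_assoc, uv 𝒜 m i j u v hu hv hm W hW x, mul_one]

theorem bij_core (m : ℤ) (i j : ℕ) (u v : A) (hu : u ∈ 𝒜 i) (hv : v ∈ 𝒜 j)
    (hm : (i : ℤ) = j + m) (W : Opens (ProjectiveSpectrum.top 𝒜))
    (hW : ∀ x : W, u ∉ x.1.asHomogeneousIdeal ∧ v ∉ x.1.asHomogeneousIdeal) :
    Function.Bijective (fun s : Twist.O (𝒜 := 𝒜) (op W) =>
      (s • gsec 𝒜 m i j u v hu hv hm W hW : Twist.sectN (𝒜 := 𝒜) m (op W))) :=
  ⟨fun s s' h => inj_core 𝒜 m i j u v hu hv hm W hW s s' h,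
    fun t => surj_core 𝒜 m i j u v hu hv hm W hW t⟩

theorem trivG (m : ℤ) (i j : ℕ) (u v : A) (hu : u ∈ 𝒜 i) (hv : v ∈ 𝒜 j)
    (hm : (i : ℤ) = j + m) {X : Scheme.{u}} (f : X ⟶ Proj 𝒜)
    [IsOpenImmersion f]
    (hf : ∀ x : X, u ∉ (f x).asHomogeneousIdeal ∧ v ∉ (f x).asHomogeneousIdeal) :
    Nonempty ((Twist.twist 𝒜 m).restrict f ≅ Coh.structureModule X) := by
  have hW : ∀ V : X.Opens, ∀ x : (f ''ᵁ V : (Proj 𝒜).Opens),
      u ∉ x.1.asHomogeneousIdeal ∧ v ∉ x.1.asHomogeneousIdeal := by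
    rintro V ⟨_, y, hy, rfl⟩
    exact hf y
  let N := (Twist.twist 𝒜 m).restrict f
  let σ : N.sections := PresheafOfModules.sectionsMk
    (fun V => gsec 𝒜 m i j u v hu hv hm (f ''ᵁ V.unop) (hW V.unop)) (fun _ _ _ => rfl)
  let φ : Coh.structureModule X ⟶ N := N.unitHomEquiv.symm σ
  have hφ : IsIso φ := by
    refine Scheme.Modules.Hom.isIso_iff_isIso_app.mpr ?_
    intro V
    refine (ConcreteCategory.isIso_iff_bijective (φ.app V)).mpr ?_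
    show Function.Bijective ((fun s : Twist.O (𝒜 := 𝒜) (op (f ''ᵁ V)) =>
        (s • gsec 𝒜 m i j u v hu hv hm (f ''ᵁ V) (hW V) :
          Twist.sectN (𝒜 := 𝒜) m (op (f ''ᵁ V)))) ∘
      (fun r : Γ(X, V) => ((f.appIso V).inv r : Γ(Proj 𝒜, f ''ᵁ V))))
    exact (bij_core 𝒜 m i j u v hu hv hm (f ''ᵁ V) (hW V)).comp
      (ConcreteCategory.bijective_of_isIso (f.appIso V).inv)
  exact ⟨(asIso φ).symm⟩

end Aux


/-- Let S be a graded ring, X = Proj S, d ≥ 1, and a, b homogeneous elements with deg a = deg b + d.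
Then for every integer n the restriction of the twisting sheaf O_X(nd) to the standard open D_+(ab)
is isomorphic to the structure sheaf of D_+(ab): it is free of rank one, generated by the section
(a/b)^n. (This is the invertibility half of the fact that D_+(ab) lies in the open W_d where the
O_X(nd) are invertible with compatible multiplications; existence of an isomorphism only. The
compatibility of the multiplication maps O_X(nd) ⊗ O_X(md) → O_X(nd+md) on this open, and the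
converse statement that the largest such open is the union of the D_+(ab), are not stated here.) -/
theorem result {R A : Type u} [CommRing R] [CommRing A] [Algebra R A] (𝒜 : ℕ → Submodule R A) [GradedAlgebra 𝒜]
    {d : ℕ} (hd : 0 < d) {i j : ℕ} {a b : A} (ha : a ∈ 𝒜 i) (hb : b ∈ 𝒜 j) (hij : i = j + d) (n : ℤ) :
    Nonempty ((Twist.twist 𝒜 (n * d)).restrict (Proj.basicOpen 𝒜 (a * b)).ι ≅
      Coh.structureModule ↑(Proj.basicOpen 𝒜 (a * b))) := by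
  have hab : ∀ x : ProjectiveSpectrum 𝒜, a * b ∉ x.asHomogeneousIdeal →
      a ∉ x.asHomogeneousIdeal ∧ b ∉ x.asHomogeneousIdeal := fun x h =>
    ⟨fun h1 => h (Ideal.mul_mem_right _ _ h1), fun h1 => h (Ideal.mul_mem_left _ _ h1)⟩
  have hpq : ∀ (x : ProjectiveSpectrum 𝒜) (p q : ℕ) (c e : A), c ∉ x.asHomogeneousIdeal →
      e ∉ x.asHomogeneousIdeal → c ^ p * e ^ q ∉ x.asHomogeneousIdeal := fun x p q c e hc he h =>
    (x.isPrime.mem_or_mem h).elim (fun h1 => hc (x.isPrime.mem_of_pow_mem _ h1))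
      (fun h1 => he (x.isPrime.mem_of_pow_mem _ h1))
  have hm : ((n.toNat * i + (-n).toNat * j : ℕ) : ℤ) =
      ((n.toNat * j + (-n).toNat * i : ℕ) : ℤ) + n * d := by
    subst hij
    push_cast
    linear_combination (d : ℤ) * Int.toNat_sub_toNat_neg n
  refine trivG 𝒜 (n * d) (n.toNat * i + (-n).toNat * j) (n.toNat * j + (-n).toNat * i)
    (a ^ n.toNat * b ^ (-n).toNat) (b ^ n.toNat * a ^ (-n).toNat)
    (SetLike.mul_mem_graded (Groth.Agent.S1614.pow_mem' 𝒜 i a ha _)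
      (Groth.Agent.S1614.pow_mem' 𝒜 j b hb _))
    (SetLike.mul_mem_graded (Groth.Agent.S1614.pow_mem' 𝒜 j b hb _)
      (Groth.Agent.S1614.pow_mem' 𝒜 i a ha _)) hm (Proj.basicOpen 𝒜 (a * b)).ι (fun x => ?_)
  have hx := hab x.1 ((Proj.mem_basicOpen 𝒜 _ x.1).mp x.2)
  exact ⟨hpq x.1 _ _ a b hx.1 hx.2, hpq x.1 _ _ b a hx.2 hx.1⟩

end Groth.Agent.S9575
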