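import Groth.Statements.S3584
import Mathlib
import Groth.Agent.S9575

set_option autoImplicit false
universe u
open CategoryTheory CategoryTheory.Limits AlgebraicGeometry
open EGA2

namespace Groth.Agent.S3584


open CategoryTheory CategoryTheory.Limits AlgebraicGeometry TopologicalSpace Opposite MonoidalCategory

section Aux

noncomputable def lam (X : Scheme.{u}) (L : X.Modules) :
    (𝟙_ (CohB1.PMod X)) ⊗ CohB1.toPMod L ≅ CohB1.toPMod L := λ_ (CohB1.toPMod L)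

noncomputable def lam2 (X : Scheme.{u}) (L : X.Modules) :
    (show X.PresheafOfModules from CohB1.tensorPre (Coh.structureModule X) L) ≅ L.val := lam X L

noncomputable def ea (X : Scheme.{u}) (L : X.Modules) :
    CohB1.tensorPow L 1 ≅ (CohB1.sheafifyMod X).obj L.val :=
  (CohB1.sheafifyMod X).mapIso (lam2 X L)

noncomputable def eb (X : Scheme.{u}) (L : X.Modules) :
    (CohB1.sheafifyMod X).obj L.val ≅ L :=
  (asIso (PresheafOfModules.sheafificationAdjunction (𝟙 X.ringCatSheaf.obj)).counit).app L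

noncomputable def e1 {X : Scheme.{u}} (L : X.Modules) : CohB1.tensorPow L 1 ≅ L :=
  ea X L ≪≫ eb X L

variable {R A : Type u} [CommRing R] [CommRing A] [Algebra R A]
  (𝒜 : ℕ → Submodule R A) [GradedAlgebra 𝒜]

theorem one_nin (x : ProjectiveSpectrum 𝒜) : (1 : A) ∉ x.asHomogeneousIdeal :=
  fun h => x.isPrime.ne_top ((Ideal.eq_top_iff_one _).mpr h)

theorem hm1 : (((1 : ℕ) : ℤ)) = ((0 : ℕ) : ℤ) + 1 := by norm_num

/-- the section `a/1` of `O(1)` over `W`, for `a ∈ 𝒜 1`. -/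
def g1 (a : A) (ha : a ∈ 𝒜 1) (W : Opens (ProjectiveSpectrum.top 𝒜)) :
    Twist.sectN (𝒜 := 𝒜) 1 (op W) :=
  ⟨fun x => ⟨Localization.mk a ⟨1, one_nin 𝒜 x.1⟩,
      Submodule.subset_span ⟨1, 0, ⟨a, ha⟩, ⟨1, SetLike.GradedOne.one_mem⟩, one_nin 𝒜 x.1,
        hm1, rfl⟩⟩,
    fun x => ⟨W, x.2, 𝟙 _, 1, 0, ⟨a, ha⟩, ⟨1, SetLike.GradedOne.one_mem⟩,
      fun y => one_nin 𝒜 y.1, Or.inl hm1, fun _ => rfl⟩⟩

/-- the morphism `O → O(1)` given by `a ∈ 𝒜 1` -/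
noncomputable def psi (a : A) (ha : a ∈ 𝒜 1) :
    Coh.structureModule (Proj 𝒜) ⟶ Twist.twist 𝒜 1 :=
  (Twist.twist 𝒜 1).unitHomEquiv.symm
    (PresheafOfModules.sectionsMk (fun V => g1 𝒜 a ha V.unop) (fun _ _ _ => rfl))

theorem isIso_restrict_psi (f : A) (hf : f ∈ 𝒜 1) {X : Scheme.{u}} (j : X ⟶ Proj 𝒜)
    [IsOpenImmersion j] (hj : ∀ x : X, f ∉ (j x).asHomogeneousIdeal) :
    IsIso ((Scheme.Modules.restrictFunctor j).map (psi 𝒜 f hf)) := by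
  have hW : ∀ V : X.Opens, ∀ x : (j ''ᵁ V : (Proj 𝒜).Opens),
      f ∉ x.1.asHomogeneousIdeal ∧ (1 : A) ∉ x.1.asHomogeneousIdeal := by
    rintro V ⟨_, y, hy, rfl⟩
    exact ⟨hj y, one_nin 𝒜 _⟩
  refine Scheme.Modules.Hom.isIso_iff_isIso_app.mpr ?_
  intro V
  refine (ConcreteCategory.isIso_iff_bijective _).mpr ?_
  show Function.Bijective (fun s : Twist.O (𝒜 := 𝒜) (op (j ''ᵁ V)) =>
    (s • Groth.Agent.S9575.gsec 𝒜 1 1 0 f 1 hf SetLike.GradedOne.one_mem hm1 (j ''ᵁ V) (hW V) :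
      Twist.sectN (𝒜 := 𝒜) 1 (op (j ''ᵁ V))))
  exact Groth.Agent.S9575.bij_core 𝒜 1 1 0 f 1 hf SetLike.GradedOne.one_mem hm1 (j ''ᵁ V) (hW V)

theorem not_isIso_of_mem (f g : A) (hf : f ∈ 𝒜 1) (hg : g ∈ 𝒜 1) (U : (Proj 𝒜).Opens)
    (hiso : IsIso ((Scheme.Modules.restrictFunctor U.ι).map (psi 𝒜 f hf)))
    (x : Proj 𝒜) (hxU : x ∈ U) (hgx : g ∉ x.asHomogeneousIdeal) :
    f ∉ x.asHomogeneousIdeal := by
  intro hfx
  let V' : (U : Scheme.{u}).Opens := U.ι ⁻¹ᵁ Proj.basicOpen 𝒜 g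
  have hV' : (⟨x, hxU⟩ : (U : Scheme.{u})) ∈ V' :=
    (Scheme.Hom.mem_preimage _).mpr ((Proj.mem_basicOpen 𝒜 g _).mpr hgx)
  have hxW : x ∈ U.ι ''ᵁ V' := by
    show x ∈ ((U.ι ''ᵁ V' : (Proj 𝒜).Opens) : Set (Proj 𝒜))
    rw [Scheme.Hom.coe_image]
    exact ⟨⟨x, hxU⟩, hV', rfl⟩
  have hiV : IsIso (((Scheme.Modules.restrictFunctor U.ι).map (psi 𝒜 f hf)).app V') :=
    inferInstance
  have hbij := (ConcreteCategory.isIso_iff_bijective _).mp hiV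
  obtain ⟨r, hr⟩ := hbij.2 (g1 𝒜 g hg (U.ι ''ᵁ V'))
  have hr' : ((r : Twist.O (𝒜 := 𝒜) (op (U.ι ''ᵁ V'))) • g1 𝒜 f hf (U.ι ''ᵁ V') :
      Twist.sectN (𝒜 := 𝒜) 1 (op (U.ι ''ᵁ V'))) = g1 𝒜 g hg (U.ι ''ᵁ V') := hr
  have h1 := congrArg (fun t : Twist.sectN (𝒜 := 𝒜) 1 (op (U.ι ''ᵁ V')) =>
    ((t.1 ⟨x, hxW⟩ : Twist.twistAt 𝒜 1 x) : Twist.Loc 𝒜 x)) hr'
  have h2 : ((((r : Twist.O (𝒜 := 𝒜) (op (U.ι ''ᵁ V'))) • g1 𝒜 f hf (U.ι ''ᵁ V')).1 ⟨x, hxW⟩ :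
      Twist.twistAt 𝒜 1 x) : Twist.Loc 𝒜 x) =
      ((r : Twist.O (𝒜 := 𝒜) (op (U.ι ''ᵁ V'))).1 ⟨x, hxW⟩).val *
        Localization.mk f ⟨1, one_nin 𝒜 x⟩ :=
    Twist.coe_smul_val 1 x ((r : Twist.O (𝒜 := 𝒜) (op (U.ι ''ᵁ V'))).1 ⟨x, hxW⟩)
      ((g1 𝒜 f hf (U.ι ''ᵁ V')).1 ⟨x, hxW⟩)
  have h3 : ((r : Twist.O (𝒜 := 𝒜) (op (U.ι ''ᵁ V'))).1 ⟨x, hxW⟩).val *
      Localization.mk f ⟨1, one_nin 𝒜 x⟩ = Localization.mk g ⟨1, one_nin 𝒜 x⟩ :=
    h2.symm.trans h1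
  obtain ⟨a, b, hab⟩ := IsLocalization.exists_mk'_eq x.asHomogeneousIdeal.toIdeal.primeCompl
    (((r : Twist.O (𝒜 := 𝒜) (op (U.ι ''ᵁ V'))).1 ⟨x, hxW⟩).val)
  have hab' : ((r : Twist.O (𝒜 := 𝒜) (op (U.ι ''ᵁ V'))).1 ⟨x, hxW⟩).val = Localization.mk a b := by
    rw [Localization.mk_eq_mk'_apply]; exact hab.symm
  have h4 : (Localization.mk (a * f) (b * ⟨1, one_nin 𝒜 x⟩) : Twist.Loc 𝒜 x) =
      Localization.mk g ⟨1, one_nin 𝒜 x⟩ := by
    rw [← Localization.mk_mul, ← hab']; exact h3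
  obtain ⟨c, hc⟩ := Localization.r_iff_exists.mp (Localization.mk_eq_mk_iff.mp h4)
  have hc' : (c : A) * (1 * (a * f)) = (c : A) * (((b : A) * 1) * g) := hc
  have hL : (c : A) * (1 * (a * f)) ∈ x.asHomogeneousIdeal.toIdeal :=
    Ideal.mul_mem_left _ _ (Ideal.mul_mem_left _ _ (Ideal.mul_mem_left _ _ hfx))
  rw [hc', mul_one] at hL
  rcases x.isPrime.mem_or_mem hL with h | h
  · exact c.2 h
  · rcases x.isPrime.mem_or_mem h with h' | h'
    · exact b.2 h'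
    · exact hgx h'

end Aux


/-- Let S be a graded ring whose irrelevant ideal S_+ is generated by finitely many elements of degree
one. Then the twisting sheaf O_X(1) on X = Proj S is ample (X is quasi-compact and covered by the
affine non-vanishing loci of sections of the positive powers of O_X(1)). -/
theorem result {R A : Type u} [CommRing R] [CommRing A] [Algebra R A] (𝒜 : ℕ → Submodule R A) [GradedAlgebra 𝒜]
    (s : Finset A) (hs1 : ∀ f ∈ s, f ∈ 𝒜 1)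
    (hs : (HomogeneousIdeal.irrelevant 𝒜).toIdeal = Ideal.span (s : Set A)) :
    CohB1.IsAmple (Twist.twist 𝒜 1) := by
  classical
  have hcov : ∀ x : Proj 𝒜, ∃ f ∈ s, f ∉ x.asHomogeneousIdeal := by
    intro x
    by_contra hcon
    push Not at hcon
    refine x.not_irrelevant_le (SetLike.le_def.mpr fun a ha => ?_)
    have ha' : a ∈ Ideal.span (s : Set A) := by rw [← hs]; exact ha
    show a ∈ x.asHomogeneousIdeal.toIdeal
    exact (Ideal.span_le.mpr (fun b hb => hcon b (Finset.mem_coe.mp hb))) ha'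
  refine ⟨?_, ?_, ?_⟩
  · intro y
    obtain ⟨f, hfs, hfy⟩ := hcov y
    refine ⟨Proj.basicOpen 𝒜 f, (Proj.mem_basicOpen 𝒜 f y).mpr hfy, ?_⟩
    exact Groth.Agent.S9575.trivG 𝒜 1 1 0 f 1 (hs1 f hfs) SetLike.GradedOne.one_mem hm1
      (Proj.basicOpen 𝒜 f).ι
      (fun x => ⟨(Proj.mem_basicOpen 𝒜 f x.1).mp x.2, one_nin 𝒜 _⟩)
  · rw [← isCompact_univ_iff]
    have huniv : (Set.univ : Set (Proj 𝒜)) =
        ⋃ f ∈ s, ((Proj.basicOpen 𝒜 f : (Proj 𝒜).Opens) : Set (Proj 𝒜)) := by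
      symm
      apply Set.eq_univ_of_forall
      intro x
      obtain ⟨f, hfs, hfx⟩ := hcov x
      exact Set.mem_iUnion₂.mpr ⟨f, hfs, (Proj.mem_basicOpen 𝒜 f x).mpr hfx⟩
    rw [huniv]
    exact s.isCompact_biUnion
      (fun f hfs => (Proj.isAffineOpen_basicOpen 𝒜 f (hs1 f hfs) one_pos).isCompact)
  · intro x
    obtain ⟨f, hfs, hfx⟩ := hcov x
    have hf := hs1 f hfs
    let e := e1 (Twist.twist 𝒜 1)
    let sec : Coh.structureModule (Proj 𝒜) ⟶ CohB1.tensorPow (Twist.twist 𝒜 1) (0 + 1) :=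
      psi 𝒜 f hf ≫ e.inv
    have hgl : CohB1.genLocus _ sec = Proj.basicOpen 𝒜 f := by
      unfold CohB1.genLocus
      apply le_antisymm
      · apply sSup_le
        intro U hU
        have hU' : IsIso ((Scheme.Modules.restrictFunctor U.ι).map sec) := hU
        have hψ : IsIso ((Scheme.Modules.restrictFunctor U.ι).map (psi 𝒜 f hf)) := by
          have h5 : (Scheme.Modules.restrictFunctor U.ι).map (psi 𝒜 f hf) =
              (Scheme.Modules.restrictFunctor U.ι).map sec ≫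
                (Scheme.Modules.restrictFunctor U.ι).map e.hom := by
            rw [← Functor.map_comp]
            congr 1
            show _ = (psi 𝒜 f hf ≫ e.inv) ≫ e.hom
            rw [Category.assoc, Iso.inv_hom_id, Category.comp_id]
          rw [h5]; infer_instance
        refine SetLike.le_def.mpr fun y hyU => ?_
        obtain ⟨g, hgs, hgy⟩ := hcov y
        exact (Proj.mem_basicOpen 𝒜 f y).mpr
          (not_isIso_of_mem 𝒜 f g hf (hs1 g hgs) U hψ y hyU hgy)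
      · apply le_sSup
        show IsIso ((Scheme.Modules.restrictFunctor (Proj.basicOpen 𝒜 f).ι).map sec)
        have h6 := isIso_restrict_psi 𝒜 f hf (Proj.basicOpen 𝒜 f).ι
          (fun x => (Proj.mem_basicOpen 𝒜 f x.1).mp x.2)
        have h7 : (Scheme.Modules.restrictFunctor (Proj.basicOpen 𝒜 f).ι).map sec =
            (Scheme.Modules.restrictFunctor (Proj.basicOpen 𝒜 f).ι).map (psi 𝒜 f hf) ≫
              (Scheme.Modules.restrictFunctor (Proj.basicOpen 𝒜 f).ι).map e.inv :=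
          Functor.map_comp _ _ _
        rw [h7]; infer_instance
    refine ⟨0, sec, ?_, ?_⟩
    · rw [hgl]; exact (Proj.mem_basicOpen 𝒜 f x).mpr hfx
    · rw [hgl]; exact Proj.isAffineOpen_basicOpen 𝒜 f hf one_pos

end Groth.Agent.S3584
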