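import Groth.Statements.S4401
import Mathlib
import Groth.Agent.S1614

set_option autoImplicit false
universe u
open CategoryTheory CategoryTheory.Limits AlgebraicGeometry
open EGA2

namespace Groth.Agent.S4401


open CategoryTheory CategoryTheory.Limits AlgebraicGeometry TopologicalSpace Opposite

section Aux

variable {R A : Type u} [CommRing R] [CommRing A] [Algebra R A]
  (𝒜 : ℕ → Submodule R A) [GradedAlgebra 𝒜]

theorem one_nin (x : ProjectiveSpectrum 𝒜) : (1 : A) ∉ x.asHomogeneousIdeal :=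
  fun h => x.isPrime.ne_top ((Ideal.eq_top_iff_one _).mpr h)

/-- the section `a/1` of `O(n)` over `W`, `a ∈ 𝒜 n` -/
def gN (n : ℕ) (a : A) (ha : a ∈ 𝒜 n) (W : Opens (ProjectiveSpectrum.top 𝒜)) :
    Twist.sectN (𝒜 := 𝒜) (n : ℤ) (op W) :=
  ⟨fun x => ⟨Localization.mk a ⟨1, one_nin 𝒜 x.1⟩,
      Submodule.subset_span ⟨n, 0, ⟨a, ha⟩, ⟨1, SetLike.GradedOne.one_mem⟩, one_nin 𝒜 x.1,
        by simp, rfl⟩⟩,
    fun x => ⟨W, x.2, 𝟙 _, n, 0, ⟨a, ha⟩, ⟨1, SetLike.GradedOne.one_mem⟩,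
      fun y => one_nin 𝒜 y.1, Or.inl (by simp), fun _ => rfl⟩⟩

theorem surjB (d : ℕ) (f : A) (hf : f ∈ 𝒜 d) (n : ℤ) (m : ℤ) (hm : m = n * d)
    (W : Opens (ProjectiveSpectrum.top 𝒜)) (hW : ∀ x : W, f ∉ x.1.asHomogeneousIdeal)
    (g : Twist.sectN (𝒜 := 𝒜) m (op W))
    (hg : ∀ x : W, (g.1 x).1 = Localization.mk (f ^ n.toNat)
      ⟨f ^ (-n).toNat, Groth.Agent.S1614.pow_nin 𝒜 f x.1 (hW x) _⟩)
    (t : Twist.sectN (𝒜 := 𝒜) m (op W)) : ∃ s : Twist.O (𝒜 := 𝒜) (op W), s • g = t := by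
  subst hm
  have hgg : g = Groth.Agent.S1614.gsec 𝒜 d f hf n W hW :=
    Subtype.ext (funext fun x => Subtype.ext (hg x))
  rw [hgg]
  exact Groth.Agent.S1614.surj_core 𝒜 d f hf n W hW t

theorem injB (d : ℕ) (f : A) (hf : f ∈ 𝒜 d) (n : ℤ) (m : ℤ) (hm : m = n * d)
    (W : Opens (ProjectiveSpectrum.top 𝒜)) (hW : ∀ x : W, f ∉ x.1.asHomogeneousIdeal)
    (g : Twist.sectN (𝒜 := 𝒜) m (op W))
    (hg : ∀ x : W, (g.1 x).1 = Localization.mk (f ^ n.toNat)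
      ⟨f ^ (-n).toNat, Groth.Agent.S1614.pow_nin 𝒜 f x.1 (hW x) _⟩)
    (s s' : Twist.O (𝒜 := 𝒜) (op W)) (h : s • g = s' • g) : s = s' := by
  subst hm
  have hgg : g = Groth.Agent.S1614.gsec 𝒜 d f hf n W hW :=
    Subtype.ext (funext fun x => Subtype.ext (hg x))
  rw [hgg] at h
  exact Groth.Agent.S1614.inj_core 𝒜 d f hf n W hW s s' h

theorem hgN (f : A) (k : ℕ) (x : ProjectiveSpectrum 𝒜) (hx : f ∉ x.asHomogeneousIdeal) :
    (Localization.mk (f ^ k) ⟨1, one_nin 𝒜 x⟩ : Twist.Loc 𝒜 x) =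
      Localization.mk (f ^ ((k : ℤ)).toNat)
        ⟨f ^ (-(k : ℤ)).toNat, Groth.Agent.S1614.pow_nin 𝒜 f x hx _⟩ := by
  have e1 : ((k : ℤ)).toNat = k := by omega
  have e2 : (-(k : ℤ)).toNat = 0 := by omega
  rw [Localization.mk_eq_mk_iff, Localization.r_iff_exists]
  refine ⟨1, ?_⟩
  show (1 : A) * (f ^ (-(k : ℤ)).toNat * f ^ k) = 1 * (1 * f ^ ((k : ℤ)).toNat)
  rw [e1, e2, pow_zero]

theorem local_eq (n : ℕ) (f : A) (hf1 : f ∈ 𝒜 1) (hfn : f ^ n ∈ 𝒜 n) {Z : (Proj 𝒜).Modules}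
    (ψ : Coh.structureModule (Proj 𝒜) ⟶ Twist.twist 𝒜 (n : ℤ))
    (hψ : ∀ (W : (Proj 𝒜).Opens) (r : Twist.O (𝒜 := 𝒜) (op W)),
      ψ.app W r = (r • gN 𝒜 n (f ^ n) hfn W : Twist.sectN (𝒜 := 𝒜) (n : ℤ) (op W)))
    (g h : Twist.twist 𝒜 (n : ℤ) ⟶ Z) (hgh : ψ ≫ g = ψ ≫ h) (U W : (Proj 𝒜).Opens) (hle : W ≤ U)
    (hWf : ∀ x : W, f ∉ x.1.asHomogeneousIdeal) (t : Γ(Twist.twist 𝒜 (n : ℤ), U)) :
    Z.presheaf.map (homOfLE hle).op (g.app U t) = Z.presheaf.map (homOfLE hle).op (h.app U t) := by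
  obtain ⟨r, hr⟩ := surjB 𝒜 1 f hf1 (n : ℤ) (n : ℤ) (by simp) W hWf (gN 𝒜 n (f ^ n) hfn W)
    (fun x => hgN 𝒜 f n x.1 (hWf x)) ((Twist.twist 𝒜 (n : ℤ)).presheaf.map (homOfLE hle).op t)
  have key : ∀ q : Twist.twist 𝒜 (n : ℤ) ⟶ Z,
      Z.presheaf.map (homOfLE hle).op (q.app U t) = (ψ ≫ q).app W r := by
    intro q
    have nat := ConcreteCategory.congr_hom (q.mapPresheaf.naturality (homOfLE hle).op) t
    refine nat.symm.trans ?_
    show q.app W ((Twist.twist 𝒜 (n : ℤ)).presheaf.map (homOfLE hle).op t) = q.app W (ψ.app W r)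
    rw [hψ W r, hr]
  have e3 : (ψ ≫ g).app W r = (ψ ≫ h).app W r := by rw [hgh]
  exact (key g).trans (e3.trans (key h).symm)

end Aux


/-- Let S be a ring graded in nonnegative degrees whose irrelevant ideal S_+ is generated by finitely
many elements of degree one, and X = Proj S. Then for every integer n ≥ 0 there exist an integer k
and an epimorphism of O_X-modules O_X^k → O_X(n). -/
theorem result {R A : Type u} [CommRing R] [CommRing A] [Algebra R A] (𝒜 : ℕ → Submodule R A) [GradedAlgebra 𝒜]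
    (s : Finset A) (hs1 : ∀ f ∈ s, f ∈ 𝒜 1)
    (hs : (HomogeneousIdeal.irrelevant 𝒜).toIdeal = Ideal.span (s : Set A)) (n : ℕ) :
    ∃ (k : ℕ) (p : FlatMod.freeMod (Proj 𝒜) k ⟶ Twist.twist 𝒜 (n : ℤ)), Epi p := by
  classical
  let e : Fin s.card ≃ s := s.equivFin.symm
  let fs : Fin s.card → A := fun i => (e i).1
  have hfs1 : ∀ i, fs i ∈ 𝒜 1 := fun i => hs1 _ (e i).2
  have hfsn : ∀ i, fs i ^ n ∈ 𝒜 n := fun i => by
    have h0 := Groth.Agent.S1614.pow_mem' 𝒜 1 (fs i) (hfs1 i) n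
    rwa [mul_one] at h0
  let σ : Fin s.card → (Twist.twist 𝒜 (n : ℤ)).sections := fun i =>
    PresheafOfModules.sectionsMk (fun V => gN 𝒜 n (fs i ^ n) (hfsn i) V.unop) (fun _ _ _ => rfl)
  let ψ : Fin s.card → (Coh.structureModule (Proj 𝒜) ⟶ Twist.twist 𝒜 (n : ℤ)) := fun i =>
    (Twist.twist 𝒜 (n : ℤ)).unitHomEquiv.symm (σ i)
  refine ⟨s.card, Sigma.desc ψ, ⟨fun {Z} g h hgh => ?_⟩⟩
  have hψ : ∀ i, ψ i ≫ g = ψ i ≫ h := fun i => by
    have h1 : Sigma.ι (fun _ : Fin s.card => Coh.structureModule (Proj 𝒜)) i ≫ Sigma.desc ψ ≫ g =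
        Sigma.ι (fun _ : Fin s.card => Coh.structureModule (Proj 𝒜)) i ≫ Sigma.desc ψ ≫ h := by
      rw [hgh]
    rwa [← Category.assoc, ← Category.assoc, Sigma.ι_desc] at h1
  apply Scheme.Modules.hom_ext
  intro U
  ext t
  have hcover : U ≤ ⨆ i : Fin s.card, U ⊓ Proj.basicOpen 𝒜 (fs i) := by
    intro x hxU
    have hx : ∃ i, fs i ∉ x.asHomogeneousIdeal := by
      by_contra hcon
      push Not at hcon
      refine x.not_irrelevant_le (SetLike.le_def.mpr fun a ha => ?_)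
      have ha' : a ∈ Ideal.span (s : Set A) := by rw [← hs]; exact ha
      show a ∈ x.asHomogeneousIdeal.toIdeal
      refine (Ideal.span_le.mpr ?_) ha'
      intro b hb
      have h2 := hcon (e.symm ⟨b, Finset.mem_coe.mp hb⟩)
      simpa [fs] using h2
    obtain ⟨i, hi⟩ := hx
    exact Opens.mem_iSup.mpr ⟨i, hxU, (Proj.mem_basicOpen 𝒜 _ x).mpr hi⟩
  refine TopCat.Sheaf.eq_of_locally_eq' ⟨Z.presheaf, Z.isSheaf⟩
    (fun i : Fin s.card => U ⊓ Proj.basicOpen 𝒜 (fs i)) U (fun i => homOfLE inf_le_left) hcover _ _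
    (fun i => ?_)
  exact local_eq 𝒜 n (fs i) (hfs1 i) (hfsn i) (ψ i) (fun W r => rfl) g h (hψ i) U
    (U ⊓ Proj.basicOpen 𝒜 (fs i)) inf_le_left
    (fun x => (Proj.mem_basicOpen 𝒜 _ x.1).mp ((inf_le_right : U ⊓ Proj.basicOpen 𝒜 (fs i) ≤ _) x.2)) t

end Groth.Agent.S4401
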