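import Groth.Statements.S12453
import Mathlib
import Groth.Agent.S9575
import Groth.Agent.S4401
import Groth.Agent.S3584

set_option autoImplicit false
universe u
open CategoryTheory CategoryTheory.Limits AlgebraicGeometry
open Constr

namespace Groth.Agent.S12453


open CategoryTheory CategoryTheory.Limits AlgebraicGeometry TopologicalSpace Opposite MonoidalCategory

section Aux

theorem isIso_sheafify_map {X : Scheme.{u}} {P Q : X.PresheafOfModules} (μ : P ⟶ Q)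
    (hinj : Presheaf.IsLocallyInjective (Opens.grothendieckTopology X)
      ((PresheafOfModules.toPresheaf _).map μ))
    (hsurj : Presheaf.IsLocallySurjective (Opens.grothendieckTopology X)
      ((PresheafOfModules.toPresheaf _).map μ)) :
    IsIso ((CohB1.sheafifyMod X).map μ) := by
  have hW : (Opens.grothendieckTopology X).W ((PresheafOfModules.toPresheaf _).map μ) :=
    (GrothendieckTopology.W_iff_isLocallyBijective _ _).mpr ⟨hinj, hsurj⟩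
  have h1 : IsIso ((presheafToSheaf (Opens.grothendieckTopology X) AddCommGrpCat.{u}).map
      ((PresheafOfModules.toPresheaf _).map μ)) :=
    (GrothendieckTopology.W_iff _ _).mp hW
  have h2 : IsIso ((SheafOfModules.toSheaf.{u} X.ringCatSheaf).map
      ((CohB1.sheafifyMod X).map μ)) := h1
  have h3 : IsIso ((Scheme.Modules.toPresheaf X).map ((CohB1.sheafifyMod X).map μ)) :=
    (inferInstance : IsIso ((sheafToPresheaf _ _).map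
      ((SheafOfModules.toSheaf.{u} X.ringCatSheaf).map ((CohB1.sheafifyMod X).map μ))))
  exact isIso_of_reflects_iso _ (Scheme.Modules.toPresheaf X)

noncomputable def wr {X : Scheme.{u}} {M M' : X.Modules} (e : M ≅ M') (N : X.Modules) :
    CohB1.tensorPre M N ≅ CohB1.tensorPre M' N :=
  whiskerRightIso (show CohB1.toPMod M ≅ CohB1.toPMod M' from (SheafOfModules.forget _).mapIso e)
    (CohB1.toPMod N)

noncomputable def wr2 {X : Scheme.{u}} {M M' : X.Modules} (e : M ≅ M') (N : X.Modules) :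
    (show X.PresheafOfModules from CohB1.tensorPre M N) ≅
      (show X.PresheafOfModules from CohB1.tensorPre M' N) := wr e N

noncomputable def tensorModIsoLeft {X : Scheme.{u}} {M M' : X.Modules} (e : M ≅ M')
    (N : X.Modules) : CohB1.tensorMod M N ≅ CohB1.tensorMod M' N :=
  (CohB1.sheafifyMod X).mapIso (wr2 e N)

variable {R A : Type u} [CommRing R] [CommRing A] [Algebra R A]
  (𝒜 : ℕ → Submodule R A) [GradedAlgebra 𝒜]

theorem mul_mem_twistAt (m n : ℤ) (x : ProjectiveSpectrum 𝒜) (q q' : Twist.Loc 𝒜 x)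
    (hq : q ∈ Twist.twistAt 𝒜 m x) (hq' : q' ∈ Twist.twistAt 𝒜 n x) :
    q * q' ∈ Twist.twistAt 𝒜 (m + n) x := by
  induction hq using Submodule.span_induction with
  | mem q hq =>
    obtain ⟨i, j, a, s, hs, hdeg, rfl⟩ := hq
    induction hq' using Submodule.span_induction with
    | mem q' hq' =>
      obtain ⟨i', j', a', s', hs', hdeg', rfl⟩ := hq'
      rw [Localization.mk_mul]
      refine Submodule.subset_span ⟨i + i', j + j', ⟨a * a', SetLike.mul_mem_graded a.2 a'.2⟩,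
        ⟨s * s', SetLike.mul_mem_graded s.2 s'.2⟩, ?_, ?_, rfl⟩
      · exact fun h => (x.isPrime.mem_or_mem h).elim hs hs'
      · push_cast; linarith
    | zero => rw [mul_zero]; exact zero_mem _
    | add y z _ _ hy hz => rw [mul_add]; exact add_mem hy hz
    | smul c y _ hy =>
      have e : Localization.mk (a : A) ⟨s, hs⟩ * (c • y) =
          c • (Localization.mk (a : A) ⟨s, hs⟩ * y) := by
        rw [Algebra.smul_def, Algebra.smul_def]; ring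
      rw [e]; exact Submodule.smul_mem _ c hy
  | zero => rw [zero_mul]; exact zero_mem _
  | add y z _ _ hy hz => rw [add_mul]; exact add_mem hy hz
  | smul c y _ hy =>
    have e : (c • y) * q' = c • (y * q') := by
      rw [Algebra.smul_def, Algebra.smul_def]; ring
    rw [e]; exact Submodule.smul_mem _ c hy

/-- the product of a section of `O(m)` and a section of `O(n)` -/
def mulSec (m n : ℤ) (U : (Opens (ProjectiveSpectrum.top 𝒜))ᵒᵖ)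
    (s : Twist.sectN (𝒜 := 𝒜) m U) (t : Twist.sectN (𝒜 := 𝒜) n U) :
    Twist.sectN (𝒜 := 𝒜) (m + n) U :=
  ⟨fun x => ⟨(s.1 x).1 * (t.1 x).1,
      mul_mem_twistAt 𝒜 m n x.1 _ _ (s.1 x).2 (t.1 x).2⟩, by
    intro x
    obtain ⟨V₁, hx₁, i₁, i, j, ⟨a, ha⟩, ⟨b, hb⟩, hnin, hdeg, hw⟩ :=
      (show (Twist.isLocFracN 𝒜 m).pred s.1 from s.2) x
    obtain ⟨V₂, hx₂, i₂, i', j', ⟨a', ha'⟩, ⟨b', hb'⟩, hnin', hdeg', hw'⟩ :=
      (show (Twist.isLocFracN 𝒜 n).pred t.1 from t.2) x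
    have hd1 : (i : ℤ) = j + m ∨ a = 0 := hdeg
    have hd2 : (i' : ℤ) = j' + n ∨ a' = 0 := hdeg'
    refine ⟨V₁ ⊓ V₂, ⟨hx₁, hx₂⟩, Opens.infLELeft _ _ ≫ i₁, i + i', j + j',
      ⟨a * a', SetLike.mul_mem_graded ha ha'⟩, ⟨b * b', SetLike.mul_mem_graded hb hb'⟩,
      fun y h => ?_, ?_, fun y => ?_⟩
    · exact (y.1.isPrime.mem_or_mem h).elim (hnin ⟨y.1, y.2.1⟩) (hnin' ⟨y.1, y.2.2⟩)
    · rcases hd1 with h | h
      · rcases hd2 with h' | h'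
        · exact Or.inl (by push_cast; linarith)
        · exact Or.inr (show a * a' = 0 by rw [h', mul_zero])
      · exact Or.inr (show a * a' = 0 by rw [h, zero_mul])
    · have e1 : (s.1 ((Opens.infLELeft V₁ V₂ ≫ i₁) y)).1 =
          Localization.mk a ⟨b, hnin ⟨y.1, y.2.1⟩⟩ := hw ⟨y.1, y.2.1⟩
      have e2 : (t.1 ((Opens.infLELeft V₁ V₂ ≫ i₁) y)).1 =
          Localization.mk a' ⟨b', hnin' ⟨y.1, y.2.2⟩⟩ := hw' ⟨y.1, y.2.2⟩
      show (s.1 ((Opens.infLELeft V₁ V₂ ≫ i₁) y)).1 * (t.1 ((Opens.infLELeft V₁ V₂ ≫ i₁) y)).1 = _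
      rw [e1, e2, Localization.mk_mul]
      rfl⟩

theorem mulSec_val (m n : ℤ) (U : (Opens (ProjectiveSpectrum.top 𝒜))ᵒᵖ)
    (s : Twist.sectN (𝒜 := 𝒜) m U) (t : Twist.sectN (𝒜 := 𝒜) n U) (x : U.unop) :
    ((mulSec 𝒜 m n U s t).1 x).1 = (s.1 x).1 * (t.1 x).1 := rfl

theorem mulSec_add_left (m n : ℤ) (U : (Opens (ProjectiveSpectrum.top 𝒜))ᵒᵖ)
    (s s' : Twist.sectN (𝒜 := 𝒜) m U) (t : Twist.sectN (𝒜 := 𝒜) n U) :
    mulSec 𝒜 m n U (s + s') t = mulSec 𝒜 m n U s t + mulSec 𝒜 m n U s' t :=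
  Subtype.ext (funext fun x => Subtype.ext (add_mul _ _ _))

theorem mulSec_add_right (m n : ℤ) (U : (Opens (ProjectiveSpectrum.top 𝒜))ᵒᵖ)
    (s : Twist.sectN (𝒜 := 𝒜) m U) (t t' : Twist.sectN (𝒜 := 𝒜) n U) :
    mulSec 𝒜 m n U s (t + t') = mulSec 𝒜 m n U s t + mulSec 𝒜 m n U s t' :=
  Subtype.ext (funext fun x => Subtype.ext (mul_add _ _ _))

theorem mulSec_smul_left (m n : ℤ) (U : (Opens (ProjectiveSpectrum.top 𝒜))ᵒᵖ)
    (c : Twist.O (𝒜 := 𝒜) U) (s : Twist.sectN (𝒜 := 𝒜) m U) (t : Twist.sectN (𝒜 := 𝒜) n U) :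
    mulSec 𝒜 m n U (c • s) t = c • mulSec 𝒜 m n U s t := by
  refine Subtype.ext (funext fun x => Subtype.ext ?_)
  have h1 : (((c • mulSec 𝒜 m n U s t).1 x : Twist.twistAt 𝒜 (m + n) x.1) : Twist.Loc 𝒜 x.1) =
      (c.1 x).val * ((mulSec 𝒜 m n U s t).1 x).1 :=
    Twist.coe_smul_val (m + n) x.1 (c.1 x) ((mulSec 𝒜 m n U s t).1 x)
  have h2 : (((c • s).1 x : Twist.twistAt 𝒜 m x.1) : Twist.Loc 𝒜 x.1) =
      (c.1 x).val * (s.1 x).1 := Twist.coe_smul_val m x.1 (c.1 x) (s.1 x)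
  show ((c • s).1 x).1 * (t.1 x).1 = ((c • mulSec 𝒜 m n U s t).1 x).1
  rw [h1, h2, mulSec_val, mul_assoc]

theorem mulSec_smul_right (m n : ℤ) (U : (Opens (ProjectiveSpectrum.top 𝒜))ᵒᵖ)
    (c : Twist.O (𝒜 := 𝒜) U) (s : Twist.sectN (𝒜 := 𝒜) m U) (t : Twist.sectN (𝒜 := 𝒜) n U) :
    mulSec 𝒜 m n U s (c • t) = c • mulSec 𝒜 m n U s t := by
  refine Subtype.ext (funext fun x => Subtype.ext ?_)
  have h1 : (((c • mulSec 𝒜 m n U s t).1 x : Twist.twistAt 𝒜 (m + n) x.1) : Twist.Loc 𝒜 x.1) =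
      (c.1 x).val * ((mulSec 𝒜 m n U s t).1 x).1 :=
    Twist.coe_smul_val (m + n) x.1 (c.1 x) ((mulSec 𝒜 m n U s t).1 x)
  have h2 : (((c • t).1 x : Twist.twistAt 𝒜 n x.1) : Twist.Loc 𝒜 x.1) =
      (c.1 x).val * (t.1 x).1 := Twist.coe_smul_val n x.1 (c.1 x) (t.1 x)
  show (s.1 x).1 * ((c • t).1 x).1 = ((c • mulSec 𝒜 m n U s t).1 x).1
  rw [h1, h2, mulSec_val, mul_left_comm]

/-- multiplication as a linear map out of the tensor product -/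
noncomputable def mulLin (m n : ℤ) (U : (Opens (ProjectiveSpectrum.top 𝒜))ᵒᵖ) :
    TensorProduct (Twist.O (𝒜 := 𝒜) U) (Twist.sectN (𝒜 := 𝒜) m U) (Twist.sectN (𝒜 := 𝒜) n U)
      →ₗ[Twist.O (𝒜 := 𝒜) U] Twist.sectN (𝒜 := 𝒜) (m + n) U :=
  TensorProduct.lift (LinearMap.mk₂ (Twist.O (𝒜 := 𝒜) U) (mulSec 𝒜 m n U)
    (mulSec_add_left 𝒜 m n U) (mulSec_smul_left 𝒜 m n U) (mulSec_add_right 𝒜 m n U)
    (mulSec_smul_right 𝒜 m n U))

theorem powmem1 (f : A) (hf : f ∈ 𝒜 1) (k : ℕ) : f ^ k ∈ 𝒜 k := by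
  have h := Groth.Agent.S1614.pow_mem' 𝒜 1 f hf k
  rwa [mul_one] at h

theorem hk (k : ℤ) : ((k.toNat : ℕ) : ℤ) = (((-k).toNat : ℕ) : ℤ) + k := by
  have := Int.toNat_sub_toNat_neg k
  linarith

/-- the generator `f^k` of `O(k)` over an open inside `D_+(f)`, `f` of degree one -/
def gen (k : ℤ) (f : A) (hf : f ∈ 𝒜 1) (V : Opens (ProjectiveSpectrum.top 𝒜))
    (hV : ∀ x : V, f ∉ x.1.asHomogeneousIdeal) : Twist.sectN (𝒜 := 𝒜) k (op V) :=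
  Groth.Agent.S9575.gsec 𝒜 k k.toNat (-k).toNat (f ^ k.toNat) (f ^ (-k).toNat)
    (powmem1 𝒜 f hf _) (powmem1 𝒜 f hf _) (hk k) V
    (fun x => ⟨Groth.Agent.S1614.pow_nin 𝒜 f x.1 (hV x) _,
      Groth.Agent.S1614.pow_nin 𝒜 f x.1 (hV x) _⟩)

theorem gen_bij (k : ℤ) (f : A) (hf : f ∈ 𝒜 1) (V : Opens (ProjectiveSpectrum.top 𝒜))
    (hV : ∀ x : V, f ∉ x.1.asHomogeneousIdeal) :
    Function.Bijective (fun s : Twist.O (𝒜 := 𝒜) (op V) =>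
      (s • gen 𝒜 k f hf V hV : Twist.sectN (𝒜 := 𝒜) k (op V))) :=
  Groth.Agent.S9575.bij_core 𝒜 k k.toNat (-k).toNat _ _ _ _ (hk k) V _

theorem genmul_bij (m n : ℤ) (f : A) (hf : f ∈ 𝒜 1) (V : Opens (ProjectiveSpectrum.top 𝒜))
    (hV : ∀ x : V, f ∉ x.1.asHomogeneousIdeal) :
    Function.Bijective (fun s : Twist.O (𝒜 := 𝒜) (op V) =>
      (s • mulSec 𝒜 m n (op V) (gen 𝒜 m f hf V hV) (gen 𝒜 n f hf V hV) :
        Twist.sectN (𝒜 := 𝒜) (m + n) (op V))) := by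
  have hmn : (((m.toNat + n.toNat : ℕ)) : ℤ) = (((-m).toNat + (-n).toNat : ℕ) : ℤ) + (m + n) := by
    have h1 := hk m
    have h2 := hk n
    push_cast
    linarith
  have hnin : ∀ x : V, f ^ m.toNat * f ^ n.toNat ∉ x.1.asHomogeneousIdeal ∧
      f ^ (-m).toNat * f ^ (-n).toNat ∉ x.1.asHomogeneousIdeal := fun x =>
    ⟨fun h => (x.1.isPrime.mem_or_mem h).elim (Groth.Agent.S1614.pow_nin 𝒜 f x.1 (hV x) _)
        (Groth.Agent.S1614.pow_nin 𝒜 f x.1 (hV x) _),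
      fun h => (x.1.isPrime.mem_or_mem h).elim (Groth.Agent.S1614.pow_nin 𝒜 f x.1 (hV x) _)
        (Groth.Agent.S1614.pow_nin 𝒜 f x.1 (hV x) _)⟩
  have hG : mulSec 𝒜 m n (op V) (gen 𝒜 m f hf V hV) (gen 𝒜 n f hf V hV) =
      Groth.Agent.S9575.gsec 𝒜 (m + n) (m.toNat + n.toNat) ((-m).toNat + (-n).toNat)
        (f ^ m.toNat * f ^ n.toNat) (f ^ (-m).toNat * f ^ (-n).toNat)
        (SetLike.mul_mem_graded (powmem1 𝒜 f hf _) (powmem1 𝒜 f hf _))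
        (SetLike.mul_mem_graded (powmem1 𝒜 f hf _) (powmem1 𝒜 f hf _)) hmn V hnin :=
    Subtype.ext (funext fun x => Subtype.ext (Localization.mk_mul _ _ _ _))
  rw [hG]
  exact Groth.Agent.S9575.bij_core 𝒜 (m + n) _ _ _ _ _ _ hmn V hnin

theorem tform (m n : ℤ) (f : A) (hf : f ∈ 𝒜 1) (V : Opens (ProjectiveSpectrum.top 𝒜))
    (hV : ∀ x : V, f ∉ x.1.asHomogeneousIdeal)
    (z : TensorProduct (Twist.O (𝒜 := 𝒜) (op V)) (Twist.sectN (𝒜 := 𝒜) m (op V))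
      (Twist.sectN (𝒜 := 𝒜) n (op V))) : ∃ r : Twist.O (𝒜 := 𝒜) (op V),
      z = r • ((gen 𝒜 m f hf V hV) ⊗ₜ[Twist.O (𝒜 := 𝒜) (op V)] (gen 𝒜 n f hf V hV)) := by
  induction z using TensorProduct.induction_on with
  | zero => exact ⟨0, (zero_smul _ _).symm⟩
  | tmul a b =>
    obtain ⟨r₁, h₁⟩ := (gen_bij 𝒜 m f hf V hV).2 a
    obtain ⟨r₂, h₂⟩ := (gen_bij 𝒜 n f hf V hV).2 b
    have h₁' : r₁ • gen 𝒜 m f hf V hV = a := h₁
    have h₂' : r₂ • gen 𝒜 n f hf V hV = b := h₂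
    refine ⟨r₁ * r₂, ?_⟩
    rw [← h₁', ← h₂']
    exact TensorProduct.smul_tmul_smul r₁ r₂ _ _
  | add z z' hz hz' =>
    obtain ⟨r, rfl⟩ := hz
    obtain ⟨r', rfl⟩ := hz'
    exact ⟨r + r', (add_smul r r' _).symm⟩

theorem mulLin_tmul (m n : ℤ) (U : (Opens (ProjectiveSpectrum.top 𝒜))ᵒᵖ)
    (s : Twist.sectN (𝒜 := 𝒜) m U) (t : Twist.sectN (𝒜 := 𝒜) n U) :
    mulLin 𝒜 m n U (s ⊗ₜ[Twist.O (𝒜 := 𝒜) U] t) = mulSec 𝒜 m n U s t :=
  TensorProduct.lift.tmul _ _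

theorem hval (m n : ℤ) (U : (Opens (ProjectiveSpectrum.top 𝒜))ᵒᵖ)
    (s : Twist.sectN (𝒜 := 𝒜) m U) (t : Twist.sectN (𝒜 := 𝒜) n U) (r : Twist.O (𝒜 := 𝒜) U) :
    mulLin 𝒜 m n U (r • (s ⊗ₜ[Twist.O (𝒜 := 𝒜) U] t)) = r • mulSec 𝒜 m n U s t :=
  (LinearMap.map_smul (mulLin 𝒜 m n U) r _).trans
    (congrArg (fun w => r • w) (mulLin_tmul 𝒜 m n U s t))

theorem mulLin_inj (m n : ℤ) (f : A) (hf : f ∈ 𝒜 1) (V : Opens (ProjectiveSpectrum.top 𝒜))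
    (hV : ∀ x : V, f ∉ x.1.asHomogeneousIdeal) :
    Function.Injective (mulLin 𝒜 m n (op V)) := by
  intro z z' h
  obtain ⟨r, hr⟩ := tform 𝒜 m n f hf V hV z
  obtain ⟨r', hr'⟩ := tform 𝒜 m n f hf V hV z'
  have h' : r • mulSec 𝒜 m n (op V) (gen 𝒜 m f hf V hV) (gen 𝒜 n f hf V hV) =
      r' • mulSec 𝒜 m n (op V) (gen 𝒜 m f hf V hV) (gen 𝒜 n f hf V hV) :=
    (hval 𝒜 m n (op V) (gen 𝒜 m f hf V hV) (gen 𝒜 n f hf V hV) r).symm.trans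
      ((congrArg (mulLin 𝒜 m n (op V)) hr.symm).trans
        (h.trans ((congrArg (mulLin 𝒜 m n (op V)) hr').trans
          (hval 𝒜 m n (op V) (gen 𝒜 m f hf V hV) (gen 𝒜 n f hf V hV) r'))))
  have hrr : r = r' := (genmul_bij 𝒜 m n f hf V hV).1 h'
  subst hrr
  exact hr.trans hr'.symm

theorem mulLin_surj (m n : ℤ) (f : A) (hf : f ∈ 𝒜 1) (V : Opens (ProjectiveSpectrum.top 𝒜))
    (hV : ∀ x : V, f ∉ x.1.asHomogeneousIdeal) :
    Function.Surjective (mulLin 𝒜 m n (op V)) := by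
  intro t
  obtain ⟨r, hr⟩ := (genmul_bij 𝒜 m n f hf V hV).2 t
  exact ⟨r • ((gen 𝒜 m f hf V hV) ⊗ₜ[Twist.O (𝒜 := 𝒜) (op V)] (gen 𝒜 n f hf V hV)),
    (hval 𝒜 m n (op V) _ _ r).trans hr⟩

theorem mulLin_bij (m n : ℤ) (f : A) (hf : f ∈ 𝒜 1) (V : Opens (ProjectiveSpectrum.top 𝒜))
    (hV : ∀ x : V, f ∉ x.1.asHomogeneousIdeal) :
    Function.Bijective (mulLin 𝒜 m n (op V)) :=
  ⟨mulLin_inj 𝒜 m n f hf V hV, mulLin_surj 𝒜 m n f hf V hV⟩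

/-- the multiplication map on sections as a map out of the tensor product in `ModuleCat` -/
noncomputable def muApp (m n : ℤ) (U : (Opens (Proj 𝒜))ᵒᵖ) :
    (CohB1.toPMod (Twist.twist 𝒜 m)).obj U ⊗ (CohB1.toPMod (Twist.twist 𝒜 n)).obj U ⟶
      (CohB1.toPMod (Twist.twist 𝒜 (m + n))).obj U :=
  ModuleCat.MonoidalCategory.tensorLift (fun s t => mulSec 𝒜 m n U s t)
    (fun s s' t => mulSec_add_left 𝒜 m n U s s' t) (fun c s t => mulSec_smul_left 𝒜 m n U c s t)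
    (fun s t t' => mulSec_add_right 𝒜 m n U s t t') (fun c s t => mulSec_smul_right 𝒜 m n U c s t)

/-- the multiplication `O(m) ⊗ O(n) → O(m+n)` of presheaves of modules -/
noncomputable def mu (m n : ℤ) :
    CohB1.tensorPre (Twist.twist 𝒜 m) (Twist.twist 𝒜 n) ⟶ CohB1.toPMod (Twist.twist 𝒜 (m + n)) where
  app U := muApp 𝒜 m n U
  naturality {U V} i := ModuleCat.MonoidalCategory.tensor_ext (fun s t => rfl)

noncomputable def mu' (m n : ℤ) :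
    (show (Proj 𝒜).PresheafOfModules from
      CohB1.tensorPre (Twist.twist 𝒜 m) (Twist.twist 𝒜 n)) ⟶ (Twist.twist 𝒜 (m + n)).val :=
  mu 𝒜 m n

theorem mu_locSurj (hcov : ∀ y : ProjectiveSpectrum 𝒜, ∃ f ∈ 𝒜 1, f ∉ y.asHomogeneousIdeal)
    (m n : ℤ) :
    Presheaf.IsLocallySurjective (Opens.grothendieckTopology (Proj 𝒜))
      ((PresheafOfModules.toPresheaf _).map (mu' 𝒜 m n)) := by
  constructor
  intro U s
  rw [Opens.mem_grothendieckTopology]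
  intro x hxU
  obtain ⟨f, hf, hfx⟩ := hcov x
  have hV : ∀ y : (U ⊓ Proj.basicOpen 𝒜 f : (Proj 𝒜).Opens), f ∉ y.1.asHomogeneousIdeal :=
    fun y => (Proj.mem_basicOpen 𝒜 f y.1).mp
      ((inf_le_right : U ⊓ Proj.basicOpen 𝒜 f ≤ Proj.basicOpen 𝒜 f) y.2)
  refine ⟨U ⊓ Proj.basicOpen 𝒜 f, homOfLE inf_le_left, ?_,
    ⟨hxU, (Proj.mem_basicOpen 𝒜 f x).mpr hfx⟩⟩
  obtain ⟨z, hz⟩ := (mulLin_bij 𝒜 m n f hf (U ⊓ Proj.basicOpen 𝒜 f) hV).2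
    ((Twist.twist 𝒜 (m + n)).presheaf.map
      (homOfLE (inf_le_left : U ⊓ Proj.basicOpen 𝒜 f ≤ U)).op s)
  exact ⟨z, hz⟩

theorem mu_locInj (hcov : ∀ y : ProjectiveSpectrum 𝒜, ∃ f ∈ 𝒜 1, f ∉ y.asHomogeneousIdeal)
    (m n : ℤ) :
    Presheaf.IsLocallyInjective (Opens.grothendieckTopology (Proj 𝒜))
      ((PresheafOfModules.toPresheaf _).map (mu' 𝒜 m n)) := by
  constructor
  intro U z z' h
  rw [Opens.mem_grothendieckTopology]
  intro x hxU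
  obtain ⟨f, hf, hfx⟩ := hcov x
  have hV : ∀ y : (U.unop ⊓ Proj.basicOpen 𝒜 f : (Proj 𝒜).Opens), f ∉ y.1.asHomogeneousIdeal :=
    fun y => (Proj.mem_basicOpen 𝒜 f y.1).mp
      ((inf_le_right : U.unop ⊓ Proj.basicOpen 𝒜 f ≤ Proj.basicOpen 𝒜 f) y.2)
  refine ⟨U.unop ⊓ Proj.basicOpen 𝒜 f, homOfLE inf_le_left, ?_,
    ⟨hxU, (Proj.mem_basicOpen 𝒜 f x).mpr hfx⟩⟩
  apply (mulLin_bij 𝒜 m n f hf (U.unop ⊓ Proj.basicOpen 𝒜 f) hV).1
  have nat := fun w => ConcreteCategory.congr_hom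
    (((PresheafOfModules.toPresheaf _).map (mu' 𝒜 m n)).naturality
      (homOfLE (inf_le_left : U.unop ⊓ Proj.basicOpen 𝒜 f ≤ U.unop)).op) w
  have e3 := congrArg (fun w => ((Twist.twist 𝒜 (m + n)).presheaf.map
      (homOfLE (inf_le_left : U.unop ⊓ Proj.basicOpen 𝒜 f ≤ U.unop)).op) w) h
  exact (nat z).trans (e3.trans (nat z').symm)

theorem tensIso (hcov : ∀ y : ProjectiveSpectrum 𝒜, ∃ f ∈ 𝒜 1, f ∉ y.asHomogeneousIdeal)
    (m n : ℤ) :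
    Nonempty (CohB1.tensorMod (Twist.twist 𝒜 m) (Twist.twist 𝒜 n) ≅ Twist.twist 𝒜 (m + n)) := by
  have hiso := isIso_sheafify_map (mu' 𝒜 m n) (mu_locInj 𝒜 hcov m n) (mu_locSurj 𝒜 hcov m n)
  exact ⟨(@asIso _ _ _ _ _ hiso) ≪≫
    Groth.Agent.S3584.eb (Proj 𝒜) (Twist.twist 𝒜 (m + n))⟩

theorem main (hcov : ∀ y : ProjectiveSpectrum 𝒜, ∃ f ∈ 𝒜 1, f ∉ y.asHomogeneousIdeal) :
    (∀ n : ℤ, PicF.IsInvertible (Twist.twist 𝒜 n)) ∧
      (∀ m n : ℤ, Nonempty (CohB1.tensorMod (Twist.twist 𝒜 m) (Twist.twist 𝒜 n) ≅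
        Twist.twist 𝒜 (m + n))) ∧
      ∀ n : ℕ, Nonempty (Twist.twist 𝒜 (n : ℤ) ≅ CohB1.tensorPow (Twist.twist 𝒜 1) n) := by
  have h2 := tensIso 𝒜 hcov
  refine ⟨fun n y => ?_, h2, fun n => ?_⟩
  · obtain ⟨f, hf, hfy⟩ := hcov y
    refine ⟨Proj.basicOpen 𝒜 f, (Proj.mem_basicOpen 𝒜 f y).mpr hfy, ?_⟩
    exact Groth.Agent.S9575.trivG 𝒜 n n.toNat (-n).toNat (f ^ n.toNat) (f ^ (-n).toNat)
      (powmem1 𝒜 f hf _) (powmem1 𝒜 f hf _) (hk n) (Proj.basicOpen 𝒜 f).ι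
      (fun x => ⟨Groth.Agent.S1614.pow_nin 𝒜 f x.1 ((Proj.mem_basicOpen 𝒜 f x.1).mp x.2) _,
        Groth.Agent.S1614.pow_nin 𝒜 f x.1 ((Proj.mem_basicOpen 𝒜 f x.1).mp x.2) _⟩)
  · induction n with
    | zero =>
      obtain ⟨e⟩ := Groth.Agent.S9575.trivG 𝒜 ((0 : ℕ) : ℤ) 0 0 1 1 SetLike.GradedOne.one_mem
        SetLike.GradedOne.one_mem (by simp) (𝟙 (Proj 𝒜))
        (fun x => ⟨Groth.Agent.S4401.one_nin 𝒜 _, Groth.Agent.S4401.one_nin 𝒜 _⟩)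
      exact ⟨(Scheme.Modules.restrictFunctorId.app (Twist.twist 𝒜 ((0 : ℕ) : ℤ))).symm ≪≫ e⟩
    | succ n ih =>
      obtain ⟨e⟩ := ih
      obtain ⟨t⟩ := h2 (n : ℤ) 1
      exact ⟨eqToIso (by rw [Nat.cast_succ]) ≪≫ t.symm ≪≫ tensorModIsoLeft e (Twist.twist 𝒜 1)⟩

end Aux


/-- Let S be a graded ring such that X = Proj S is covered by the standard opens D_+(f) with f
homogeneous of degree one (for instance S generated by S_1 over S_0). Then every O_X(n) is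
invertible, O_X(m) ⊗ O_X(n) ≅ O_X(m+n), and O_X(n) ≅ O_X(1)^{⊗n} for n ≥ 0. (Existence of
isomorphisms only; the published isomorphisms are the multiplication maps.) -/
theorem result {R A : Type u} [CommRing R] [CommRing A] [Algebra R A] (𝒜 : ℕ → Submodule R A) [GradedAlgebra 𝒜]
    (hcov : (⨆ f : 𝒜 1, Proj.basicOpen 𝒜 (f : A)) = ⊤) :
    (∀ n : ℤ, PicF.IsInvertible (Twist.twist 𝒜 n)) ∧
      (∀ m n : ℤ, Nonempty (CohB1.tensorMod (Twist.twist 𝒜 m) (Twist.twist 𝒜 n) ≅ Twist.twist 𝒜 (m + n))) ∧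
      ∀ n : ℕ, Nonempty (Twist.twist 𝒜 (n : ℤ) ≅ CohB1.tensorPow (Twist.twist 𝒜 1) n) := by
  apply main
  intro y
  have hy : y ∈ (⊤ : (Proj 𝒜).Opens) := trivial
  rw [← hcov] at hy
  obtain ⟨f, hf⟩ := Opens.mem_iSup.mp hy
  exact ⟨f.1, f.2, (Proj.mem_basicOpen 𝒜 _ y).mp hf⟩

end Groth.Agent.S12453
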