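import Groth.Statements.S12459
import Mathlib
import Groth.Agent.Lib.Helper5.Catenary
import Groth.Agent.S12445

set_option autoImplicit false
universe u
open CategoryTheory AlgebraicGeometry
open Props

namespace Groth.Agent.S12459

open Groth.Agent.S12444 Groth.Agent.Helper5.Catenary

section Loc
variable {R S : Type u} [CommRing R] [CommRing S] [Algebra R S] (M : Submonoid R)
  [IsLocalization M S]

include M in
lemma locMap_le_iff' (a b : (PrimeSpectrum S)ᵒᵈ) :
    locMap (R := R) a ≤ locMap (R := R) b ↔ a ≤ b := by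
  constructor
  · intro h
    have h' : (OrderDual.ofDual b).asIdeal.comap (algebraMap R S) ≤
        (OrderDual.ofDual a).asIdeal.comap (algebraMap R S) := h
    show (OrderDual.ofDual b).asIdeal ≤ (OrderDual.ofDual a).asIdeal
    rw [← IsLocalization.map_under M S (OrderDual.ofDual b).asIdeal,
      ← IsLocalization.map_under M S (OrderDual.ofDual a).asIdeal]
    exact Ideal.map_mono h'
  · intro h
    exact Ideal.comap_mono (show (OrderDual.ofDual b).asIdeal ≤ (OrderDual.ofDual a).asIdeal from h)

include M in
lemma exists_locMap_eq' (b : (PrimeSpectrum R)ᵒᵈ)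
    (hb : Disjoint (M : Set R) ((OrderDual.ofDual b).asIdeal : Set R)) :
    ∃ b' : (PrimeSpectrum S)ᵒᵈ, locMap (R := R) b' = b := by
  have : OrderDual.ofDual b ∈ Set.range (PrimeSpectrum.comap (algebraMap R S)) := by
    rw [PrimeSpectrum.localization_comap_range S M]
    exact hb
  obtain ⟨q, hq⟩ := this
  exact ⟨OrderDual.toDual q, congrArg OrderDual.toDual hq⟩

include M in
lemma disjoint_comap' (a : PrimeSpectrum S) :
    Disjoint (M : Set R) ((PrimeSpectrum.comap (algebraMap R S) a).asIdeal : Set R) := by
  have : PrimeSpectrum.comap (algebraMap R S) a ∈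
      Set.range (PrimeSpectrum.comap (algebraMap R S)) := ⟨a, rfl⟩
  rw [PrimeSpectrum.localization_comap_range S M] at this
  exact this

include M in
lemma locMap_conv' (a c : (PrimeSpectrum S)ᵒᵈ) (b : (PrimeSpectrum R)ᵒᵈ)
    (h1 : locMap (R := R) a ≤ b) (_h2 : b ≤ locMap (R := R) c) :
    ∃ b' : (PrimeSpectrum S)ᵒᵈ, locMap (R := R) b' = b := by
  apply exists_locMap_eq' M b
  have h1' : (OrderDual.ofDual b).asIdeal ≤
      (PrimeSpectrum.comap (algebraMap R S) (OrderDual.ofDual a)).asIdeal := h1
  exact (disjoint_comap' M (OrderDual.ofDual a)).mono_right (SetLike.coe_subset_coe.mpr h1')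

include M in
lemma catD_localization' (h : CatD R) : CatD S := by
  intro a b hab
  exact (catPair_iff (locMap (R := R) (S := S)) (locMap_le_iff' M) (locMap_conv' M) a b).mp
    (h _ _ ((locMap_le_iff' M a b).mpr hab))

include M in
lemma catPair_of_localization' (h : CatD S) (a b : (PrimeSpectrum R)ᵒᵈ) (hab : a ≤ b)
    (ha : Disjoint (M : Set R) ((OrderDual.ofDual a).asIdeal : Set R)) : CatPair a b := by
  have hb : Disjoint (M : Set R) ((OrderDual.ofDual b).asIdeal : Set R) := by
    have hab' : (OrderDual.ofDual b).asIdeal ≤ (OrderDual.ofDual a).asIdeal := hab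
    exact ha.mono_right (SetLike.coe_subset_coe.mpr hab')
  obtain ⟨a', rfl⟩ := exists_locMap_eq' (S := S) M a ha
  obtain ⟨b', rfl⟩ := exists_locMap_eq' (S := S) M b hb
  exact (catPair_iff (locMap (R := R) (S := S)) (locMap_le_iff' M) (locMap_conv' M) a' b').mpr
    (h a' b' ((locMap_le_iff' M a' b').mp hab))

end Loc

/-- a finite type algebra over a localization `R = M⁻¹B` is a localization of a finite type
`B`-algebra -/
lemma exists_finiteType_localization {B R A : Type u} [CommRing B] [CommRing R] [CommRing A]
    [Algebra B R] [Algebra R A] (M : Submonoid B) [IsLocalization M R]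
    [Algebra.FiniteType R A] :
    ∃ (A₀ : Type u) (_ : CommRing A₀) (_ : Algebra B A₀) (_ : Algebra A₀ A),
      Algebra.FiniteType B A₀ ∧ IsLocalization (Algebra.algebraMapSubmonoid A₀ M) A := by
  classical
  letI : Algebra B A := ((algebraMap R A).comp (algebraMap B R)).toAlgebra
  obtain ⟨s, hs⟩ := (Algebra.FiniteType.out : (⊤ : Subalgebra R A).FG)
  refine ⟨↥(Algebra.adjoin B (s : Set A)), inferInstance, inferInstance, inferInstance, ?_, ?_⟩
  · exact (Subalgebra.fg_iff_finiteType _).mp ⟨s, rfl⟩
  · have hunit : ∀ m ∈ M, IsUnit (algebraMap B A m) := fun m hm => by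
      have : algebraMap B A m = algebraMap R A (algebraMap B R m) := rfl
      rw [this]
      exact (IsLocalization.map_units R ⟨m, hm⟩).map _
    have hsurj : ∀ a : A, ∃ m ∈ M, a * algebraMap B A m ∈ Algebra.adjoin B (s : Set A) := by
      intro a
      have ha : a ∈ Algebra.adjoin R (s : Set A) := by rw [hs]; trivial
      induction ha using Algebra.adjoin_induction with
      | mem a has =>
        exact ⟨1, M.one_mem, by rw [map_one, mul_one]; exact Algebra.subset_adjoin has⟩
      | algebraMap r =>
        obtain ⟨⟨b, m⟩, hbm⟩ := IsLocalization.surj M r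
        refine ⟨m.1, m.2, ?_⟩
        have : algebraMap R A r * algebraMap B A m.1 = algebraMap B A b := by
          show algebraMap R A r * algebraMap R A (algebraMap B R m.1) =
            algebraMap R A (algebraMap B R b)
          rw [← map_mul]
          exact congrArg _ hbm
        rw [this]
        exact Subalgebra.algebraMap_mem _ b
      | add a a' _ _ ih ih' =>
        obtain ⟨m, hm, h⟩ := ih
        obtain ⟨m', hm', h'⟩ := ih'
        refine ⟨m * m', M.mul_mem hm hm', ?_⟩
        have : (a + a') * algebraMap B A (m * m') =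
            (a * algebraMap B A m) * algebraMap B A m' +
              (a' * algebraMap B A m') * algebraMap B A m := by
          rw [map_mul]; ring
        rw [this]
        exact Subalgebra.add_mem _ (Subalgebra.mul_mem _ h (Subalgebra.algebraMap_mem _ m'))
          (Subalgebra.mul_mem _ h' (Subalgebra.algebraMap_mem _ m))
      | mul a a' _ _ ih ih' =>
        obtain ⟨m, hm, h⟩ := ih
        obtain ⟨m', hm', h'⟩ := ih'
        refine ⟨m * m', M.mul_mem hm hm', ?_⟩
        have : (a * a') * algebraMap B A (m * m') =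
            (a * algebraMap B A m) * (a' * algebraMap B A m') := by
          rw [map_mul]; ring
        rw [this]
        exact Subalgebra.mul_mem _ h h'
    refine (isLocalization_iff _ _).mpr ⟨?_, ?_, ?_⟩
    · rintro ⟨_, m, hm, rfl⟩
      exact hunit m hm
    · intro a
      obtain ⟨m, hm, h⟩ := hsurj a
      exact ⟨(⟨a * algebraMap B A m, h⟩,
        ⟨algebraMap B (↥(Algebra.adjoin B (s : Set A))) m, m, hm, rfl⟩), rfl⟩
    · intro x y hxy
      exact ⟨1, by rw [Subtype.ext hxy]⟩

lemma isCatenary_of_finiteType {B A₀ : Type u} [CommRing B] [CommRing A₀] (φ : B →+* A₀)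
    (hφ : φ.FiniteType)
    (hR : ∀ p : PrimeSpectrum B, ∃ (R : Type u) (_ : CommRing R) (_ : Algebra B R),
      IsLocalization.AtPrime R p.asIdeal ∧ CAlg.IsUniversallyCatenary R) :
    CAlg.IsCatenary A₀ := by
  rw [← catD_iff]
  intro a b hab
  obtain ⟨R, _, _, hloc, hcat⟩ := hR (PrimeSpectrum.comap φ (OrderDual.ofDual a))
  haveI : IsLocalization (PrimeSpectrum.comap φ (OrderDual.ofDual a)).asIdeal.primeCompl R := hloc
  have hψ : (IsLocalization.map
      (Localization ((PrimeSpectrum.comap φ (OrderDual.ofDual a)).asIdeal.primeCompl.map φ)) φ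
      (Submonoid.le_comap_map
        (PrimeSpectrum.comap φ (OrderDual.ofDual a)).asIdeal.primeCompl) : R →+* _).FiniteType :=
    RingHom.finiteType_localizationPreserves φ
      (PrimeSpectrum.comap φ (OrderDual.ofDual a)).asIdeal.primeCompl R _ hφ
  letI : Algebra R
      (Localization ((PrimeSpectrum.comap φ (OrderDual.ofDual a)).asIdeal.primeCompl.map φ)) :=
    (IsLocalization.map
      (Localization ((PrimeSpectrum.comap φ (OrderDual.ofDual a)).asIdeal.primeCompl.map φ)) φ
      (Submonoid.le_comap_map
        (PrimeSpectrum.comap φ (OrderDual.ofDual a)).asIdeal.primeCompl) : R →+* _).toAlgebra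
  have hA : CAlg.IsCatenary
      (Localization ((PrimeSpectrum.comap φ (OrderDual.ofDual a)).asIdeal.primeCompl.map φ)) :=
    hcat.2 _ hψ
  have hD := (catD_iff _).mpr hA
  refine catPair_of_localization'
    ((PrimeSpectrum.comap φ (OrderDual.ofDual a)).asIdeal.primeCompl.map φ) hD a b hab ?_
  rw [Set.disjoint_left]
  rintro _ ⟨m, hm, rfl⟩ hmem
  exact hm hmem

/-- For a locally Noetherian scheme S, the scheme S is universally catenary — every scheme X locally of
finite type over S has catenary underlying topological space — if and only if all local rings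
O_{S,s} are universally catenary rings. (Schemes X over S are taken in the universe of S.) -/
theorem result (S : Scheme.{u}) [IsLocallyNoetherian S] :
    (∀ (X : Scheme.{u}) (f : X ⟶ S), LocallyOfFiniteType f → PtTop.IsCatenarySpace X) ↔
      ∀ s : S, CAlg.IsUniversallyCatenary (S.presheaf.stalk s) := by
  constructor
  · intro H s
    obtain ⟨U, hU, hsU, -⟩ := exists_isAffineOpen_mem_and_subset (x := s) (U := ⊤) trivial
    obtain ⟨s', rfl⟩ : ∃ s' : U, (s' : S) = s := ⟨⟨s, hsU⟩, rfl⟩
    refine ⟨inferInstance, ?_⟩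
    intro A _ _ hA
    haveI := hU.isLocalization_stalk s'
    haveI := hA
    obtain ⟨A₀, _, _, _, hft, hloc⟩ := exists_finiteType_localization (B := Γ(S, U))
      (R := S.presheaf.stalk (s' : S)) (A := A) (hU.primeIdealOf s').asIdeal.primeCompl
    let φ' : Γ(S, U) ⟶ CommRingCat.of A₀ := CommRingCat.ofHom (algebraMap Γ(S, U) A₀)
    haveI : LocallyOfFiniteType (Spec.map φ') := by
      rw [HasRingHomProperty.Spec_iff (P := @LocallyOfFiniteType)]
      exact RingHom.finiteType_algebraMap.mpr hft
    have hg : LocallyOfFiniteType (Spec.map φ' ≫ hU.fromSpec) := inferInstance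
    have h1 : PtTop.IsCatenarySpace (PrimeSpectrum A₀) := H _ (Spec.map φ' ≫ hU.fromSpec) hg
    have h2 : CatD A₀ := (catSpace_iff_catD A₀).mp h1
    haveI := hloc
    have h3 : CatD A := catD_localization'
      (Algebra.algebraMapSubmonoid A₀ (hU.primeIdealOf s').asIdeal.primeCompl) h2
    exact (catD_iff A).mp h3
  · intro hstalk X f hf
    haveI := hf
    apply (Groth.Agent.S12445.result X).2.mpr
    intro x
    obtain ⟨U, hU, hfxU, -⟩ := exists_isAffineOpen_mem_and_subset (x := f x) (U := ⊤) trivial
    obtain ⟨V, hV, hxV, e⟩ :=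
      exists_isAffineOpen_mem_and_subset (x := x) (U := f ⁻¹ᵁ U) hfxU
    refine ⟨⟨V, hV⟩, hxV, ?_⟩
    apply isCatenary_of_finiteType (f.appLE U V e).hom (f.finiteType_appLE hU hV e)
    intro p
    have hrange : Set.range hU.fromSpec = U := hU.range_fromSpec
    have hsU : hU.fromSpec p ∈ U := by
      have : hU.fromSpec p ∈ Set.range hU.fromSpec := ⟨_, rfl⟩
      rw [hrange] at this
      exact this
    obtain ⟨s', hs'⟩ : ∃ s' : U, hU.primeIdealOf s' = p := by
      refine ⟨⟨hU.fromSpec p, hsU⟩, ?_⟩
      apply hU.fromSpec.isOpenEmbedding.injective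
      exact hU.fromSpec_primeIdealOf ⟨_, hsU⟩
    refine ⟨S.presheaf.stalk (s' : S), inferInstance, inferInstance, ?_, hstalk _⟩
    rw [← hs']
    exact hU.isLocalization_stalk s'

end Groth.Agent.S12459
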