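import Groth.Statements.S12460
import Mathlib

set_option autoImplicit false
universe u
open CategoryTheory AlgebraicGeometry
open Props

namespace Groth.Agent.S12460

open AlgebraicGeometry CategoryTheory in
lemma reg_iff_of_eq {Y : Scheme.{u}} {V : Y.Opens} (hV : IsAffineOpen V) (y : Y) (y' : V)
    (h : (y' : Y) = y) :
    IsRegularLocalRing (Y.presheaf.stalk y) ↔
      IsRegularLocalRing (Localization.AtPrime (hV.primeIdealOf y').asIdeal) := by
  subst h
  haveI := hV.isLocalization_stalk y'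
  have e : Y.presheaf.stalk (y' : Y) ≃+* Localization.AtPrime (hV.primeIdealOf y').asIdeal :=
    (IsLocalization.algEquiv (hV.primeIdealOf y').asIdeal.primeCompl _ _).toRingEquiv
  exact ⟨fun _ => IsRegularLocalRing.of_ringEquiv e, fun _ => IsRegularLocalRing.of_ringEquiv e.symm⟩

open AlgebraicGeometry CategoryTheory in
lemma preimage_reg_eq {Y : Scheme.{u}} {V : Y.Opens} (hV : IsAffineOpen V) :
    hV.fromSpec ⁻¹' {y : Y | IsRegularLocalRing (Y.presheaf.stalk y)} =
      EGA4.regLocus Γ(Y, V) := by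
  ext q
  have hrange : Set.range hV.fromSpec = V := hV.range_fromSpec
  have hyV : hV.fromSpec q ∈ V := by
    have : hV.fromSpec q ∈ Set.range hV.fromSpec := ⟨_, rfl⟩
    rw [hrange] at this
    exact this
  obtain ⟨y', hy'⟩ : ∃ y' : V, hV.primeIdealOf y' = q := by
    refine ⟨⟨hV.fromSpec q, hyV⟩, ?_⟩
    apply hV.fromSpec.isOpenEmbedding.injective
    exact hV.fromSpec_primeIdealOf ⟨_, hyV⟩
  subst hy'
  exact reg_iff_of_eq hV _ y' (hV.fromSpec_primeIdealOf y').symm

open AlgebraicGeometry CategoryTheory in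
lemma reg_spec_eq (S : Type u) [CommRing S] :
    {y : Spec (CommRingCat.of S) |
      IsRegularLocalRing ((Spec (CommRingCat.of S)).presheaf.stalk y)} = EGA4.regLocus S := by
  ext q
  letI : Algebra S ((Spec (CommRingCat.of S)).presheaf.stalk q) :=
    StructureSheaf.stalkAlgebra (R := S) q
  haveI : IsLocalization.AtPrime ((Spec (CommRingCat.of S)).presheaf.stalk q) q.asIdeal :=
    StructureSheaf.IsLocalization.to_stalk S q
  have e : (Spec (CommRingCat.of S)).presheaf.stalk q ≃+* Localization.AtPrime q.asIdeal :=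
    (IsLocalization.algEquiv q.asIdeal.primeCompl _ _).toRingEquiv
  have key : IsRegularLocalRing ((Spec (CommRingCat.of S)).presheaf.stalk q) ↔
      IsRegularLocalRing (Localization.AtPrime q.asIdeal) :=
    ⟨fun _ => IsRegularLocalRing.of_ringEquiv e, fun _ => IsRegularLocalRing.of_ringEquiv e.symm⟩
  exact key

/-- (1) ⇔ (3) ⇔ (4): let X be a locally Noetherian scheme. Then X is J-2 — for every morphism Y → X
locally of finite type the set of points y with O_{Y,y} a regular local ring is open in Y — if and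
only if for every affine open U of X the ring Γ(X, U) is J-2 (every finite type algebra over it has
open regular locus), if and only if every point of X lies in such an affine open. (Schemes Y over X
are taken in the universe of X.) -/
theorem result (X : Scheme.{u}) [IsLocallyNoetherian X] :
    ((∀ (Y : Scheme.{u}) (g : Y ⟶ X), LocallyOfFiniteType g →
        IsOpen {y : Y | IsRegularLocalRing (Y.presheaf.stalk y)}) ↔
      ∀ U : X.affineOpens, EGA4.IsJ2 Γ(X, U)) ∧
    ((∀ (Y : Scheme.{u}) (g : Y ⟶ X), LocallyOfFiniteType g →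
        IsOpen {y : Y | IsRegularLocalRing (Y.presheaf.stalk y)}) ↔
      ∀ x : X, ∃ U : X.affineOpens, x ∈ (U : X.Opens) ∧ EGA4.IsJ2 Γ(X, U)) := by
  have A : (∀ (Y : Scheme.{u}) (g : Y ⟶ X), LocallyOfFiniteType g →
      IsOpen {y : Y | IsRegularLocalRing (Y.presheaf.stalk y)}) →
      ∀ U : X.affineOpens, EGA4.IsJ2 Γ(X, U) := by
    intro H U S _ _ hft
    let φ' : Γ(X, U.1) ⟶ CommRingCat.of S := CommRingCat.ofHom (algebraMap Γ(X, U.1) S)
    haveI : LocallyOfFiniteType (Spec.map φ') := by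
      rw [HasRingHomProperty.Spec_iff (P := @LocallyOfFiniteType)]
      exact RingHom.finiteType_algebraMap.mpr hft
    have hg : LocallyOfFiniteType (Spec.map φ' ≫ U.2.fromSpec) := inferInstance
    have h1 := H _ (Spec.map φ' ≫ U.2.fromSpec) hg
    rw [reg_spec_eq] at h1
    exact h1
  have C : (∀ U : X.affineOpens, EGA4.IsJ2 Γ(X, U)) →
      ∀ x : X, ∃ U : X.affineOpens, x ∈ (U : X.Opens) ∧ EGA4.IsJ2 Γ(X, U) := by
    intro h x
    obtain ⟨U, hU, hxU, -⟩ := exists_isAffineOpen_mem_and_subset (x := x) (U := ⊤) trivial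
    exact ⟨⟨U, hU⟩, hxU, h ⟨U, hU⟩⟩
  have B : (∀ x : X, ∃ U : X.affineOpens, x ∈ (U : X.Opens) ∧ EGA4.IsJ2 Γ(X, U)) →
      ∀ (Y : Scheme.{u}) (g : Y ⟶ X), LocallyOfFiniteType g →
        IsOpen {y : Y | IsRegularLocalRing (Y.presheaf.stalk y)} := by
    intro h Y g hg
    haveI := hg
    rw [isOpen_iff_forall_mem_open]
    intro y hy
    obtain ⟨U, hgyU, hJ⟩ := h (g y)
    obtain ⟨V, hV, hyV, e⟩ :=
      exists_isAffineOpen_mem_and_subset (x := y) (U := g ⁻¹ᵁ U.1) hgyU
    have hft : (g.appLE U.1 V e).hom.FiniteType := g.finiteType_appLE U.2 hV e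
    have hopen : IsOpen (EGA4.regLocus Γ(Y, V)) := by
      letI : Algebra Γ(X, U.1) Γ(Y, V) := (g.appLE U.1 V e).hom.toAlgebra
      exact hJ Γ(Y, V) hft
    rw [← preimage_reg_eq hV] at hopen
    refine ⟨hV.fromSpec '' (hV.fromSpec ⁻¹' {y : Y | IsRegularLocalRing (Y.presheaf.stalk y)}),
      ?_, ?_, ?_⟩
    · rintro _ ⟨q, hq, rfl⟩
      exact hq
    · exact hV.fromSpec.isOpenEmbedding.isOpenMap _ hopen
    · have hrange : Set.range hV.fromSpec = V := hV.range_fromSpec
      obtain ⟨q, hq⟩ : y ∈ Set.range hV.fromSpec := by rw [hrange]; exact hyV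
      refine ⟨q, ?_, hq⟩
      show hV.fromSpec q ∈ {y : Y | IsRegularLocalRing (Y.presheaf.stalk y)}
      rw [hq]
      exact hy
  exact ⟨⟨A, fun h => B (C h)⟩, ⟨fun h => C (A h), B⟩⟩

end Groth.Agent.S12460
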