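import Groth.Statements.S12462
import Mathlib

set_option autoImplicit false
universe u
open CategoryTheory CategoryTheory.Limits
open SpecSp

namespace Groth.Agent.S12462

open TopologicalSpace Opposite

instance t0Prop : T0Space Prop := ⟨fun p q h => by
  have := h.mem_open_iff isOpen_singleton_true
  simp only [Set.mem_singleton_iff, eq_iff_iff, iff_true] at this
  exact propext this⟩

theorem quasiSober_of_finite (Y : Type*) [TopologicalSpace Y] [Finite Y] : QuasiSober Y := by
  constructor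
  intro S hS hSc
  classical
  have hfin : S.Finite := Set.toFinite S
  have := isIrreducible_iff_sUnion_isClosed.mp hS (hfin.toFinset.image (fun y => closure {y}))
    (by intro z hz; obtain ⟨y, _, rfl⟩ := Finset.mem_image.mp hz; exact isClosed_closure)
    (by intro y hy
        refine Set.mem_sUnion.mpr ⟨closure {y}, ?_, subset_closure (Set.mem_singleton y)⟩
        exact Finset.mem_coe.mpr (Finset.mem_image.mpr ⟨y, hfin.mem_toFinset.mpr hy, rfl⟩))
  obtain ⟨z, hz, hSz⟩ := this
  obtain ⟨y, hy, rfl⟩ := Finset.mem_image.mp hz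
  refine ⟨y, ?_⟩
  rw [isGenericPoint_def]
  apply Set.Subset.antisymm
  · exact hSc.closure_subset_iff.mpr (Set.singleton_subset_iff.mpr (hfin.mem_toFinset.mp hy))
  · exact hSz

theorem key (X : Type u) [TopologicalSpace X] [SpectralSpace X]
    (P : CompactOpens X → Prop)
    (hP : ∀ j : Finset (CompactOpens X), ∃ x : X, ∀ U ∈ j, (x ∈ (U : Set X) ↔ P U)) :
    ∃ x : X, ∀ U : CompactOpens X, x ∈ (U : Set X) ↔ P U := by
  classical
  obtain ⟨Z, hZdef⟩ : ∃ Z : Set X,
      Z = {x | ∀ U : CompactOpens X, ¬ P U → x ∉ (U : Set X)} := ⟨_, rfl⟩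
  have hZclosed : IsClosed Z := by
    have : Z = ⋂ (U : CompactOpens X) (_ : ¬ P U), ((U : Set X))ᶜ := by
      rw [hZdef]; ext x; simp only [Set.mem_setOf_eq, Set.mem_iInter, Set.mem_compl_iff]
    rw [this]
    exact isClosed_iInter fun U => isClosed_iInter fun _ => U.isOpen.isClosed_compl
  have hcov : ∀ K : Set X, IsCompact K → Disjoint K Z →
      ∃ t : Finset (CompactOpens X), (∀ U ∈ t, ¬ P U) ∧ K ⊆ ⋃ U ∈ t, (U : Set X) := by
    intro K hK hKZ
    have hsub : K ⊆ ⋃ U : {U : CompactOpens X // ¬ P U}, ((U.1 : CompactOpens X) : Set X) := by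
      intro x hx
      have hxZ : x ∉ Z := fun h => Set.disjoint_left.mp hKZ hx h
      rw [hZdef] at hxZ
      simp only [Set.mem_setOf_eq, not_forall, not_not] at hxZ
      obtain ⟨U, hU, hxU⟩ := hxZ
      exact Set.mem_iUnion.mpr ⟨⟨U, hU⟩, hxU⟩
    obtain ⟨t, ht⟩ := hK.elim_finite_subcover
      (fun U : {U : CompactOpens X // ¬ P U} => ((U.1 : CompactOpens X) : Set X))
      (fun U => U.1.isOpen) hsub
    refine ⟨t.image Subtype.val, ?_, ?_⟩
    · intro U hU
      obtain ⟨V, _, rfl⟩ := Finset.mem_image.mp hU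
      exact V.2
    · intro x hx
      obtain ⟨V, hV, hxV⟩ := Set.mem_iUnion₂.mp (ht hx)
      exact Set.mem_iUnion₂.mpr ⟨V.1, Finset.mem_image_of_mem _ hV, hxV⟩
  have hmeet : ∀ W : CompactOpens X, P W → ((W : Set X) ∩ Z).Nonempty := by
    intro W hW
    by_contra hne
    rw [Set.not_nonempty_iff_eq_empty] at hne
    obtain ⟨t, ht, hWt⟩ := hcov W W.isCompact (Set.disjoint_iff_inter_eq_empty.mpr hne)
    obtain ⟨x, hx⟩ := hP (insert W t)
    have hxW : x ∈ (W : Set X) := (hx W (Finset.mem_insert_self W t)).mpr hW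
    obtain ⟨V, hV, hxV⟩ := Set.mem_iUnion₂.mp (hWt hxW)
    exact ht V hV ((hx V (Finset.mem_insert_of_mem hV)).mp hxV)
  have hZne : Z.Nonempty := by
    have hPtop : P ⊤ := by
      obtain ⟨x, hx⟩ := hP {⊤}
      exact (hx ⊤ (Finset.mem_singleton_self _)).mp (by simp)
    obtain ⟨x, -, hxZ⟩ := hmeet ⊤ hPtop
    exact ⟨x, hxZ⟩
  have hZirr : IsIrreducible Z := by
    refine ⟨hZne, ?_⟩
    rintro u v hu hv ⟨a, haZ, hau⟩ ⟨b, hbZ, hbv⟩
    obtain ⟨W₁, ⟨hW₁o, hW₁c⟩, haW₁, hW₁u⟩ :=
      (PrespectralSpace.isTopologicalBasis (X := X)).exists_subset_of_mem_open hau hu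
    obtain ⟨W₂, ⟨hW₂o, hW₂c⟩, hbW₂, hW₂v⟩ :=
      (PrespectralSpace.isTopologicalBasis (X := X)).exists_subset_of_mem_open hbv hv
    obtain ⟨C₁, hC₁⟩ : ∃ C : CompactOpens X, (C : Set X) = W₁ := ⟨⟨⟨W₁, hW₁c⟩, hW₁o⟩, rfl⟩
    obtain ⟨C₂, hC₂⟩ : ∃ C : CompactOpens X, (C : Set X) = W₂ := ⟨⟨⟨W₂, hW₂c⟩, hW₂o⟩, rfl⟩
    have hP₁ : P C₁ := by
      by_contra h
      rw [hZdef] at haZ
      exact haZ C₁ h (by rw [hC₁]; exact haW₁)
    have hP₂ : P C₂ := by
      by_contra h
      rw [hZdef] at hbZ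
      exact hbZ C₂ h (by rw [hC₂]; exact hbW₂)
    have hcomp : IsCompact (W₁ ∩ W₂) :=
      QuasiSeparatedSpace.inter_isCompact W₁ W₂ hW₁o hW₁c hW₂o hW₂c
    by_contra hne
    rw [Set.not_nonempty_iff_eq_empty] at hne
    have hdisj : Disjoint (W₁ ∩ W₂) Z := by
      rw [Set.disjoint_iff_inter_eq_empty]
      apply Set.eq_empty_of_subset_empty
      rw [← hne]
      rintro x ⟨⟨h1, h2⟩, hz⟩
      exact ⟨hz, hW₁u h1, hW₂v h2⟩
    obtain ⟨t, ht, hWt⟩ := hcov _ hcomp hdisj
    obtain ⟨x, hx⟩ := hP (insert C₁ (insert C₂ t))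
    have hx1 : x ∈ W₁ := by
      rw [← hC₁]; exact (hx C₁ (Finset.mem_insert_self _ _)).mpr hP₁
    have hx2 : x ∈ W₂ := by
      rw [← hC₂]
      exact (hx C₂ (Finset.mem_insert_of_mem (Finset.mem_insert_self _ _))).mpr hP₂
    obtain ⟨V, hV, hxV⟩ := Set.mem_iUnion₂.mp (hWt ⟨hx1, hx2⟩)
    exact ht V hV ((hx V (Finset.mem_insert_of_mem (Finset.mem_insert_of_mem hV))).mp hxV)
  obtain ⟨ξ, hξ⟩ := QuasiSober.sober hZirr hZclosed
  refine ⟨ξ, fun U => ⟨fun hξU => ?_, fun hPU => ?_⟩⟩
  · by_contra h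
    have hmem : ξ ∈ Z := hξ.mem
    rw [hZdef] at hmem
    exact hmem U h hξU
  · have := (hξ.mem_open_set_iff U.isOpen).mpr
      (by obtain ⟨x, hxU, hxZ⟩ := hmeet U hPU; exact ⟨x, hxZ, hxU⟩)
    exact this

theorem eq_of_forall_compactOpens (X : Type u) [TopologicalSpace X] [SpectralSpace X]
    (x y : X) (h : ∀ U : CompactOpens X, x ∈ (U : Set X) ↔ y ∈ (U : Set X)) : x = y := by
  apply Inseparable.eq
  rw [inseparable_iff_forall_isOpen]
  intro s hs
  constructor
  · intro hx
    obtain ⟨W, ⟨hWo, hWc⟩, hxW, hWs⟩ :=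
      (PrespectralSpace.isTopologicalBasis (X := X)).exists_subset_of_mem_open hx hs
    exact hWs ((h ⟨⟨W, hWc⟩, hWo⟩).mp hxW)
  · intro hy
    obtain ⟨W, ⟨hWo, hWc⟩, hyW, hWs⟩ :=
      (PrespectralSpace.isTopologicalBasis (X := X)).exists_subset_of_mem_open hy hs
    exact hWs ((h ⟨⟨W, hWc⟩, hWo⟩).mpr hyW)

variable (X : Type u) [TopologicalSpace X]

/-- characteristic map of a finite family of compact opens -/
def phi (j : Finset (CompactOpens X)) (x : X) : {U // U ∈ j} → Prop :=
  fun U => x ∈ ((U.1 : CompactOpens X) : Set X)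

theorem phi_continuous (j : Finset (CompactOpens X)) : Continuous (phi X j) :=
  continuous_pi_iff.2 fun U => continuous_Prop.2 U.1.isOpen

/-- the inverse system of finite T0 spaces -/
noncomputable def F : (Finset (CompactOpens X))ᵒᵖ ⥤ TopCat.{u} where
  obj j := TopCat.of (Set.range (phi X j.unop))
  map {j j'} f := TopCat.ofHom
    ⟨fun p => ⟨fun U => p.1 ⟨U.1, (leOfHom f.unop) U.2⟩, by
        obtain ⟨p, x, rfl⟩ := p
        exact ⟨x, rfl⟩⟩,
      by
        apply Continuous.subtype_mk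
        apply continuous_pi
        intro U
        exact (continuous_apply _).comp continuous_subtype_val⟩
  map_id j := by
    ext p
    rfl
  map_comp f g := by
    ext p
    rfl

/-- the cone with vertex `X` -/
noncomputable def cone : Cone (F X) where
  pt := TopCat.of X
  π :=
    { app := fun j => TopCat.ofHom
        ⟨fun x => ⟨phi X j.unop x, x, rfl⟩, (phi_continuous X j.unop).subtype_mk _⟩
      naturality := by
        intro j j' f
        ext x
        rfl }

theorem compat (s : Cone (F X)) (t : s.pt) (j j' : Finset (CompactOpens X)) (h : j ≤ j')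
    (U : CompactOpens X) (hU : U ∈ j) :
    (s.π.app (op j) t).1 ⟨U, hU⟩ = (s.π.app (op j') t).1 ⟨U, h hU⟩ := by
  have := ConcreteCategory.congr_hom (s.w (homOfLE h).op) t
  rw [← this]
  rfl

/-- the predicate on compact opens defined by a point of a cone -/
def PP (s : Cone (F X)) (t : s.pt) (U : CompactOpens X) : Prop :=
  (s.π.app (op {U}) t).1 ⟨U, Finset.mem_singleton_self U⟩

theorem PP_eq (s : Cone (F X)) (t : s.pt) (j : Finset (CompactOpens X))
    (U : CompactOpens X) (hU : U ∈ j) :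
    (s.π.app (op j) t).1 ⟨U, hU⟩ = PP X s t U :=
  (compat X s t {U} j (Finset.singleton_subset_iff.mpr hU) U (Finset.mem_singleton_self U)).symm

theorem hPP (s : Cone (F X)) (t : s.pt) (j : Finset (CompactOpens X)) :
    ∃ x : X, ∀ U ∈ j, (x ∈ (U : Set X) ↔ PP X s t U) := by
  obtain ⟨x, hx⟩ := (s.π.app (op j) t).2
  refine ⟨x, fun U hU => ?_⟩
  rw [← PP_eq X s t j U hU, ← hx]
  rfl

variable [SpectralSpace X]

/-- the lift map -/
noncomputable def L (s : Cone (F X)) (t : s.pt) : X :=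
  Classical.choose (key X (PP X s t) (hPP X s t))

theorem L_spec (s : Cone (F X)) (t : s.pt) (U : CompactOpens X) :
    L X s t ∈ (U : Set X) ↔ PP X s t U :=
  Classical.choose_spec (key X (PP X s t) (hPP X s t)) U

theorem L_continuous (s : Cone (F X)) : Continuous (L X s) := by
  rw [(PrespectralSpace.isTopologicalBasis (X := X)).continuous_iff]
  rintro W ⟨hWo, hWc⟩
  have hcont : Continuous (fun t : s.pt => PP X s t ⟨⟨W, hWc⟩, hWo⟩) := by
    unfold PP
    exact (continuous_apply _).comp (continuous_subtype_val.comp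
      (s.π.app (op {⟨⟨W, hWc⟩, hWo⟩})).hom.continuous)
  have := continuous_Prop.1 hcont
  convert this using 1
  ext t
  exact L_spec X s t ⟨⟨W, hWc⟩, hWo⟩

/-- the cone is a limit cone -/
noncomputable def isLimit : IsLimit (cone X) where
  lift s := TopCat.ofHom ⟨L X s, L_continuous X s⟩
  fac s j := by
    ext t
    apply Subtype.ext
    funext U
    show (L X s t ∈ ((U.1 : CompactOpens X) : Set X)) = (s.π.app j t).1 U
    rw [show (s.π.app j t).1 U = PP X s t U.1 from PP_eq X s t j.unop U.1 U.2]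
    exact propext (L_spec X s t U.1)
  uniq s m hm := by
    ext t
    refine eq_of_forall_compactOpens X _ _ ?_
    intro U
    show m t ∈ (U : Set X) ↔ L X s t ∈ (U : Set X)
    rw [L_spec]
    have := ConcreteCategory.congr_hom (hm (op {U})) t
    unfold PP
    rw [← this]
    rfl


/-- A spectral space is a directed inverse limit of finite sober topological spaces. Precisely: for X
spectral there exist a nonempty directed preordered index set J, a functor from the opposite of J to
topological spaces whose values are finite sober (T0, every irreducible closed subset has a generic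
point) spaces, and a limit cone of it whose vertex is isomorphic to X. -/
theorem result (X : Type u) [TopologicalSpace X] [SpectralSpace X] :
    ∃ (J : Type u) (_ : Preorder J) (_ : Nonempty J) (_ : IsDirected J (· ≤ ·)) (F : Jᵒᵖ ⥤ TopCat.{u})
      (c : Cone F), Nonempty (IsLimit c) ∧
        (∀ j : Jᵒᵖ, Finite (F.obj j) ∧ T0Space (F.obj j) ∧ QuasiSober (F.obj j)) ∧
        Nonempty (c.pt ≅ TopCat.of X) := by
  classical
  refine ⟨Finset (CompactOpens X), inferInstance, ⟨∅⟩,
    ⟨fun a b => ⟨a ∪ b, Finset.subset_union_left, Finset.subset_union_right⟩⟩,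
    F X, cone X, ⟨isLimit X⟩, ?_, ⟨Iso.refl _⟩⟩
  intro j
  show Finite (Set.range (phi X j.unop)) ∧ T0Space (Set.range (phi X j.unop)) ∧
    QuasiSober (Set.range (phi X j.unop))
  haveI : Finite (Set.range (phi X j.unop)) := inferInstance
  exact ⟨inferInstance, inferInstance, quasiSober_of_finite _⟩

end Groth.Agent.S12462
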