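import Mathlib
import Groth.Statements.S7651
import Groth.Agent.Lib.Helper9.Dim1
-- import your own Groth.Agent.* helpers here

set_option autoImplicit false
universe u
open CategoryTheory CategoryTheory.Limits AlgebraicGeometry
open Variety

namespace Groth.Agent.S7651


open IsLocalRing Groth.Agent.Helper9.Dim1

section
variable {A : Type u} [CommRing A] [IsLocalRing A] [IsNoetherianRing A]

theorem prime_cases (hdim : ringKrullDim A = 1) (q : Ideal A) [q.IsPrime] :
    q ∈ minimalPrimes A ∨ q = maximalIdeal A :=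
  or_iff_not_imp_left.mpr (eq_maximalIdeal_of_notMem_minimalPrimes hdim q)

theorem exists_avoid (hdim : ringKrullDim A = 1) :
    ∃ f ∈ maximalIdeal A, ∀ p ∈ minimalPrimes A, f ∉ p := by
  classical
  have hfin : (minimalPrimes A).Finite := minimalPrimes.finite_of_isNoetherianRing A
  by_contra hcon
  push_neg at hcon
  have hsub : ((maximalIdeal A : Ideal A) : Set A) ⊆
      ⋃ i ∈ (↑hfin.toFinset : Set (Ideal A)), ((fun p : Ideal A => p) i : Set A) := by
    intro f hf
    obtain ⟨p, hp, hfp⟩ := hcon f hf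
    simp only [Set.mem_iUnion]
    exact ⟨p, by simpa using hp, hfp⟩
  obtain ⟨p, hp, hmp⟩ := (Ideal.subset_union_prime (s := hfin.toFinset)
    (f := fun p : Ideal A => p) ⊤ ⊤
    (fun p hp _ _ => Ideal.minimalPrimes_isPrime (hfin.mem_toFinset.mp hp))).mp hsub
  have hp' : p ∈ minimalPrimes A := hfin.mem_toFinset.mp hp
  haveI := Ideal.minimalPrimes_isPrime hp'
  have : p = maximalIdeal A := le_antisymm (le_maximalIdeal (Ideal.IsPrime.ne_top ‹_›)) hmp
  exact maximalIdeal_notMem_minimalPrimes hdim (this ▸ hp')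

theorem rad_iff (hdim : ringKrullDim A = 1) (f : A) (hf : f ∈ maximalIdeal A) :
    maximalIdeal A = (Ideal.span {f}).radical ↔ ∀ p ∈ minimalPrimes A, f ∉ p := by
  constructor
  · intro h p hp hfp
    haveI := Ideal.minimalPrimes_isPrime hp
    have h1 : maximalIdeal A ≤ p := by
      rw [h]
      exact (Ideal.IsPrime.radical_le_iff ‹_›).mpr ((Ideal.span_singleton_le_iff_mem _).mpr hfp)
    have h2 : p = maximalIdeal A := le_antisymm (le_maximalIdeal (Ideal.IsPrime.ne_top ‹_›)) h1
    exact maximalIdeal_notMem_minimalPrimes hdim (h2 ▸ hp)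
  · intro h
    apply le_antisymm
    · rw [Ideal.radical_eq_sInf, le_sInf_iff]
      rintro q ⟨hfq, hq⟩
      haveI := hq
      rcases prime_cases hdim q with hmin | hqm
      · exact absurd ((Ideal.span_singleton_le_iff_mem _).mp hfq) (h q hmin)
      · exact hqm.ge
    · exact (Ideal.IsPrime.radical_le_iff (maximalIdeal.isMaximal A).isPrime).mpr
        ((Ideal.span_singleton_le_iff_mem _).mpr hf)

theorem isUnit_of_algEquiv_pi {ι : Type*} (X : ι → Type*) [∀ i, CommRing (X i)]
    [∀ i, Algebra A (X i)] (f : A) (e : Localization.Away f ≃ₐ[A] (∀ i, X i)) (i : ι) :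
    IsUnit (algebraMap A (X i) f) := by
  have h1 : IsUnit (algebraMap A (Localization.Away f) f) :=
    IsLocalization.Away.algebraMap_isUnit f
  have h2 : IsUnit (e (algebraMap A _ f)) := h1.map e
  rw [e.commutes] at h2
  exact h2.map (Pi.evalRingHom X i)

theorem exists_nzd_of_depth (hdepth : LocCoh.depth A A = 1) :
    ∃ r ∈ maximalIdeal A, r ∈ nonZeroDivisors A := by
  classical
  by_contra hcon
  push_neg at hcon
  unfold LocCoh.depth LocCoh.idealDepth at hdepth
  split_ifs at hdepth with htop
  · exact absurd hdepth (by decide)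
  · have hle : (⨆ (rs : List A) (_ : RingTheory.Sequence.IsWeaklyRegular A rs ∧
        ∀ r ∈ rs, r ∈ maximalIdeal A), (rs.length : ℕ∞)) ≤ 0 := by
      refine iSup_le fun rs => iSup_le fun hrs => ?_
      cases rs with
      | nil => simp
      | cons r rs' =>
        exfalso
        have hreg : IsSMulRegular A r :=
          ((RingTheory.Sequence.isWeaklyRegular_cons_iff A r rs').mp hrs.1).1
        have hrm : r ∈ maximalIdeal A := hrs.2 r (by simp)
        apply hcon r hrm
        rw [mem_nonZeroDivisors_iff_right]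
        intro x hx
        apply hreg
        show r • x = r • 0
        rw [smul_eq_mul, smul_eq_mul, mul_comm, hx, mul_zero]
    rw [hdepth] at hle
    exact absurd hle (by decide)

theorem nzd_of_avoid (hdim : ringKrullDim A = 1) (H : LocCoh.depth A A = 1 ∨ IsReduced A)
    (f : A) (hf : f ∈ maximalIdeal A) (h2 : ∀ p ∈ minimalPrimes A, f ∉ p) :
    f ∈ nonZeroDivisors A := by
  rw [mem_nonZeroDivisors_iff_right]
  intro x hx
  rcases H with hdepth | hred
  · obtain ⟨r, hrm, hr⟩ := exists_nzd_of_depth hdepth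
    have hrad := (rad_iff hdim f hf).mpr h2
    have hr' : r ∈ (Ideal.span {f}).radical := hrad ▸ hrm
    obtain ⟨n, hn⟩ := hr'
    obtain ⟨g, hg⟩ := Ideal.mem_span_singleton'.mp hn
    have hrn : r ^ n ∈ nonZeroDivisors A := pow_mem hr n
    apply (mem_nonZeroDivisors_iff_right.mp hrn) x
    rw [← hg, mul_comm g f, ← mul_assoc, hx, zero_mul]
  · have hmem : x ∈ sInf (minimalPrimes A) := by
      rw [Ideal.mem_sInf]
      intro p hp
      haveI := Ideal.minimalPrimes_isPrime hp
      have : x * f ∈ p := hx ▸ p.zero_mem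
      exact (Ideal.IsPrime.mem_or_mem ‹_› this).resolve_right (h2 p hp)
    have hnil : sInf (minimalPrimes A) = (⊥ : Ideal A) := by
      show sInf ((⊥ : Ideal A).minimalPrimes) = ⊥
      rw [Ideal.sInf_minimalPrimes]
      exact nilradical_eq_zero A
    rw [hnil] at hmem
    exact hmem

theorem avoid_of_nzd (f : A) (hf : f ∈ nonZeroDivisors A) : ∀ p ∈ minimalPrimes A, f ∉ p :=
  fun p hp hfp =>
    Set.disjoint_left.mp (Ideal.disjoint_nonZeroDivisors_of_mem_minimalPrimes hp) hfp hf

/-- the main construction: `A_f ≅ ∏ A_p` -/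
theorem exists_equiv_pi (hdim : ringKrullDim A = 1) (f : A) (hf : f ∈ maximalIdeal A)
    (h2 : ∀ p ∈ minimalPrimes A, f ∉ p) :
    Nonempty (Localization.Away f ≃ₐ[A]
      (∀ p : {p : PrimeSpectrum A // p.asIdeal ∈ minimalPrimes A},
        Localization.AtPrime p.1.asIdeal)) := by
  classical
  have hrange := PrimeSpectrum.localization_away_comap_range (Localization.Away f) f
  have hmin : ∀ 𝔮 : PrimeSpectrum (Localization.Away f),
      (PrimeSpectrum.comap (algebraMap A (Localization.Away f)) 𝔮).asIdeal ∈ minimalPrimes A := by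
    intro 𝔮
    have hmem : PrimeSpectrum.comap (algebraMap A (Localization.Away f)) 𝔮 ∈
        (PrimeSpectrum.basicOpen f : Set (PrimeSpectrum A)) := by
      rw [← hrange]; exact ⟨𝔮, rfl⟩
    have hfq : f ∉ (PrimeSpectrum.comap (algebraMap A (Localization.Away f)) 𝔮).asIdeal :=
      (PrimeSpectrum.mem_basicOpen _ _).mp hmem
    rcases prime_cases hdim (PrimeSpectrum.comap (algebraMap A (Localization.Away f)) 𝔮).asIdeal
      with h | h
    · exact h
    · exact absurd (h ▸ hf) hfq
  let σ₀ : PrimeSpectrum (Localization.Away f) →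
      {p : PrimeSpectrum A // p.asIdeal ∈ minimalPrimes A} :=
    fun 𝔮 => ⟨PrimeSpectrum.comap (algebraMap A (Localization.Away f)) 𝔮, hmin 𝔮⟩
  have hinj : Function.Injective σ₀ := by
    intro 𝔮 𝔮' h
    exact PrimeSpectrum.localization_comap_injective (Localization.Away f) (Submonoid.powers f)
      (congrArg Subtype.val h)
  have hsurj : Function.Surjective σ₀ := by
    intro p
    have hmem : p.1 ∈ (PrimeSpectrum.basicOpen f : Set (PrimeSpectrum A)) :=
      (PrimeSpectrum.mem_basicOpen _ _).mpr (h2 _ p.2)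
    rw [← hrange] at hmem
    obtain ⟨𝔮, h𝔮⟩ := hmem
    exact ⟨𝔮, Subtype.ext h𝔮⟩
  let σ := Equiv.ofBijective σ₀ ⟨hinj, hsurj⟩
  haveI hfinA : Finite {p : PrimeSpectrum A // p.asIdeal ∈ minimalPrimes A} := by
    haveI : Finite (minimalPrimes A) := (minimalPrimes.finite_of_isNoetherianRing A).to_subtype
    exact Finite.of_injective
      (fun p : {p : PrimeSpectrum A // p.asIdeal ∈ minimalPrimes A} =>
        (⟨p.1.asIdeal, p.2⟩ : minimalPrimes A))
      (fun p p' h => Subtype.ext (PrimeSpectrum.ext (congrArg Subtype.val h)))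
  haveI : Finite (PrimeSpectrum (Localization.Away f)) := Finite.of_injective σ₀ hinj
  haveI : Ring.KrullDimLE 0 (Localization.Away f) := by
    refine Ring.KrullDimLE.mk₀ fun 𝔮 h𝔮 => ?_
    obtain ⟨𝔮', hmax, hle⟩ := Ideal.exists_le_maximal 𝔮 h𝔮.ne_top
    haveI := hmax.isPrime
    have h1 := hmin ⟨𝔮, h𝔮⟩
    have h2' := hmin ⟨𝔮', hmax.isPrime⟩
    have hle' : (PrimeSpectrum.comap (algebraMap A (Localization.Away f)) ⟨𝔮, h𝔮⟩).asIdeal ≤
        (PrimeSpectrum.comap (algebraMap A (Localization.Away f)) ⟨𝔮', hmax.isPrime⟩).asIdeal :=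
      Ideal.comap_mono hle
    have heq : (PrimeSpectrum.comap (algebraMap A (Localization.Away f)) ⟨𝔮, h𝔮⟩) =
        (PrimeSpectrum.comap (algebraMap A (Localization.Away f)) ⟨𝔮', hmax.isPrime⟩) :=
      PrimeSpectrum.ext (le_antisymm hle' (h2'.2 ⟨(PrimeSpectrum.comap _ _).isPrime, bot_le⟩ hle'))
    have := PrimeSpectrum.localization_comap_injective (Localization.Away f)
      (Submonoid.powers f) heq
    have h𝔮eq : 𝔮 = 𝔮' := congrArg PrimeSpectrum.asIdeal this
    exact h𝔮eq ▸ hmax
  haveI : DiscreteTopology (PrimeSpectrum (Localization.Away f)) :=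
    PrimeSpectrum.discreteTopology_iff_finite_and_krullDimLE_zero.mpr ⟨inferInstance, inferInstance⟩
  let e₁ : Localization.Away f ≃ₐ[Localization.Away f]
      PrimeSpectrum.PiLocalization (Localization.Away f) :=
    AlgEquiv.ofBijective (PrimeSpectrum.toPiLocalization (Localization.Away f))
      PrimeSpectrum.toPiLocalization_bijective
  let e₁' : Localization.Away f ≃ₐ[A] PrimeSpectrum.PiLocalization (Localization.Away f) :=
    e₁.restrictScalars A
  let Y : {p : PrimeSpectrum A // p.asIdeal ∈ minimalPrimes A} → Type u :=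
    fun p => Localization.AtPrime p.1.asIdeal
  let e₂ : PrimeSpectrum.PiLocalization (Localization.Away f) ≃ₐ[A]
      (∀ 𝔮 : PrimeSpectrum (Localization.Away f), Y (σ 𝔮)) :=
    AlgEquiv.piCongrRight (fun 𝔮 =>
      (IsLocalization.localizationLocalizationAtPrimeIsoLocalization
        (Submonoid.powers f) 𝔮.asIdeal).symm)
  let e₃ : (∀ 𝔮 : PrimeSpectrum (Localization.Away f), Y (σ 𝔮)) ≃ₐ[A] (∀ p, Y p) :=
    AlgEquiv.piCongrLeft A Y σ
  exact ⟨e₁'.trans (e₂.trans e₃)⟩

theorem residue_equiv [IsReduced A] (P : Ideal A) [P.IsPrime] (hP : P ∈ minimalPrimes A) :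
    Nonempty (Localization.AtPrime P ≃ₐ[A] P.ResidueField) := by
  haveI : Ring.KrullDimLE 0 (Localization.AtPrime P) := by
    rw [Ring.krullDimLE_iff, IsLocalization.AtPrime.ringKrullDim_eq_height P,
      Ideal.height_eq_zero_iff.mpr hP]
    simp
  have hmax : maximalIdeal (Localization.AtPrime P) = ⊥ := by
    rw [← Ring.KrullDimLE.nilradical_eq_maximalIdeal]
    exact nilradical_eq_zero _
  refine ⟨AlgEquiv.ofBijective
    (IsScalarTower.toAlgHom A (Localization.AtPrime P) P.ResidueField) ⟨?_, ?_⟩⟩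
  · rw [injective_iff_map_eq_zero]
    intro x hx
    have : x ∈ maximalIdeal (Localization.AtPrime P) :=
      (IsLocalRing.residue_eq_zero_iff x).mp hx
    rw [hmax] at this
    exact this
  · exact IsLocalRing.residue_surjective

end

/-- Let (A, m) be a Noetherian local ring of dimension one and f ∈ m. Then (1) m = √(f), (2) f lies in
no minimal prime of A, and (3) A_f ≅ ∏_{p minimal} A_p as A-algebras, are equivalent; such an f
exists; if A has depth one, for instance if A is reduced, they are also equivalent to (4) f is a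
nonzerodivisor and to (5) A → A_f is the localization of A at all its nonzerodivisors; and if A is
reduced they are also equivalent to (6) A_f ≅ ∏_{p minimal} κ(p) as A-algebras. -/
theorem result (A : Type u) [CommRing A] [IsLocalRing A]
    [IsNoetherianRing A] (hdim : ringKrullDim A = 1) :
    (∃ f ∈ IsLocalRing.maximalIdeal A, ∀ p ∈ minimalPrimes A, f ∉ p) ∧
    ∀ f ∈ IsLocalRing.maximalIdeal A,
      ((IsLocalRing.maximalIdeal A = (Ideal.span {f}).radical) ↔ (∀ p ∈ minimalPrimes A, f ∉ p)) ∧
      ((∀ p ∈ minimalPrimes A, f ∉ p) ↔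
        Nonempty (Localization.Away f ≃ₐ[A] (∀ p : {p : PrimeSpectrum A // p.asIdeal ∈ minimalPrimes A}, Localization.AtPrime p.1.asIdeal))) ∧
      ((LocCoh.depth A A = 1 ∨ IsReduced A) →
        ((∀ p ∈ minimalPrimes A, f ∉ p) ↔ f ∈ nonZeroDivisors A) ∧
        ((∀ p ∈ minimalPrimes A, f ∉ p) ↔ IsLocalization (nonZeroDivisors A) (Localization.Away f))) ∧
      (IsReduced A →
        ((∀ p ∈ minimalPrimes A, f ∉ p) ↔
          Nonempty (Localization.Away f ≃ₐ[A] (∀ p : {p : PrimeSpectrum A // p.asIdeal ∈ minimalPrimes A}, p.1.asIdeal.ResidueField)))) := by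
  refine ⟨exists_avoid hdim, fun f hf => ⟨rad_iff hdim f hf, ⟨?_, ?_⟩, ?_, ?_⟩⟩
  · exact exists_equiv_pi hdim f hf
  · rintro ⟨e⟩ p hp
    haveI := Ideal.minimalPrimes_isPrime hp
    have hu := isUnit_of_algEquiv_pi
      (fun p : {p : PrimeSpectrum A // p.asIdeal ∈ minimalPrimes A} =>
        Localization.AtPrime p.1.asIdeal) f e ⟨⟨p, inferInstance⟩, hp⟩
    exact fun hfp => ((IsLocalization.AtPrime.isUnit_to_map_iff (Localization.AtPrime p) p f).mp hu) hfp
  · intro H
    refine ⟨⟨nzd_of_avoid hdim H f hf, avoid_of_nzd f⟩, ⟨?_, ?_⟩⟩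
    · intro h2
      have hfn := nzd_of_avoid hdim H f hf h2
      refine IsLocalization.of_le (M := Submonoid.powers f) (S := Localization.Away f)
        (nonZeroDivisors A) ((Submonoid.powers_le).mpr hfn) ?_
      intro r hr
      by_cases hrm : r ∈ IsLocalRing.maximalIdeal A
      · have hrad := (rad_iff hdim r hrm).mpr (avoid_of_nzd r hr)
        have hf' : f ∈ (Ideal.span {r}).radical := hrad ▸ hf
        obtain ⟨n, hn⟩ := hf'
        rw [IsLocalization.Away.algebraMap_isUnit_iff (x := f)]
        exact ⟨n, Ideal.mem_span_singleton.mp hn⟩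
      · have : IsUnit r := by
          by_contra h
          exact hrm ((IsLocalRing.mem_maximalIdeal r).mpr h)
        exact this.map _
    · intro hloc
      apply avoid_of_nzd
      have hu : IsUnit (algebraMap A (Localization.Away f) f) :=
        IsLocalization.Away.algebraMap_isUnit f
      obtain ⟨u, hu⟩ := hu.exists_right_inv
      obtain ⟨⟨a, s⟩, has⟩ := IsLocalization.surj (nonZeroDivisors A) u
      have hinj := IsLocalization.injective (Localization.Away f) (le_refl (nonZeroDivisors A))
      have heq : f * a = s := by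
        apply hinj
        rw [map_mul, ← has, ← mul_assoc, hu, one_mul]
      have hmem : f * a ∈ nonZeroDivisors A := heq ▸ s.2
      exact (mul_mem_nonZeroDivisors.mp hmem).1
  · intro hred
    constructor
    · intro h2
      obtain ⟨e⟩ := exists_equiv_pi hdim f hf h2
      have hres : ∀ p : {p : PrimeSpectrum A // p.asIdeal ∈ minimalPrimes A},
          Nonempty (Localization.AtPrime p.1.asIdeal ≃ₐ[A] p.1.asIdeal.ResidueField) :=
        fun p => residue_equiv p.1.asIdeal p.2
      exact ⟨e.trans (AlgEquiv.piCongrRight (fun p => (hres p).some))⟩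
    · rintro ⟨e⟩ p hp
      haveI := Ideal.minimalPrimes_isPrime hp
      have hu := isUnit_of_algEquiv_pi
        (fun p : {p : PrimeSpectrum A // p.asIdeal ∈ minimalPrimes A} =>
          p.1.asIdeal.ResidueField) f e ⟨⟨p, inferInstance⟩, hp⟩
      intro hfp
      have h0 : algebraMap A p.ResidueField f = 0 := Ideal.algebraMap_residueField_eq_zero.mpr hfp
      rw [h0] at hu
      exact not_isUnit_zero hu

end Groth.Agent.S7651
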