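import Mathlib
import Groth.Statements.S7652
import Groth.Agent.Lib.Helper9.TotFrac
import Groth.Agent.Lib.Helper9.Dim1
-- import your own Groth.Agent.* helpers here

set_option autoImplicit false
universe u
open CategoryTheory CategoryTheory.Limits AlgebraicGeometry
open Variety

namespace Groth.Agent.S7652


open Groth.Agent.Helper9.TotFrac Groth.Agent.Helper9.Dim1 TensorProduct

theorem finite_intClosure (A : Type u) [CommRing A] [IsReduced A] (hN : CAlg.IsNagata A) :
    Module.Finite A (integralClosure A (FractionRing A)) := by
  classical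
  haveI : IsNoetherianRing A := hN.1
  haveI : Finite (MinP A) := (minimalPrimes.finite_of_isNoetherianRing A).to_subtype
  let T : ∀ i : MinP A, Submodule A (Kf A i) := fun i =>
    (integralClosure (A ⧸ i.1) (Kf A i)).toSubmodule.restrictScalars A
  have hT : ∀ i, (T i).FG := fun i => by
    have h1 : Module.Finite (A ⧸ i.1) (integralClosure (A ⧸ i.1) (Kf A i)) :=
      hN.2 i.1 (Kf A i) inferInstance
    have h2 : (integralClosure (A ⧸ i.1) (Kf A i)).toSubmodule.FG := Module.Finite.iff_fg.mp h1
    exact Submodule.FG.restrictScalars h2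
  haveI : ∀ i, Module.Finite A (T i) := fun i => Module.Finite.iff_fg.mpr (hT i)
  let Ψ : integralClosure A (FractionRing A) →ₗ[A] (∀ i, T i) :=
    LinearMap.pi (fun i => LinearMap.codRestrict (T i)
      ((phi i).toLinearMap.comp (integralClosure A (FractionRing A)).val.toLinearMap)
      (fun x => by
        show IsIntegral (A ⧸ i.1) (phi i x.1)
        exact (x.2.map (phi i)).tower_top))
  have hΨ : Function.Injective Ψ := by
    rw [injective_iff_map_eq_zero]
    intro x hx
    apply Subtype.ext
    apply phi_inj
    intro i
    exact congrArg Subtype.val (congrFun hx i)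
  exact Module.Finite.of_injective Ψ hΨ

theorem local_normal (A : Type u) [CommRing A] [Nontrivial A] [IsNoetherianRing A] [IsReduced A]
    (p : PrimeSpectrum (integralClosure A (FractionRing A))) :
    IsDomain (Localization.AtPrime p.asIdeal) ∧
      IsIntegrallyClosed (Localization.AtPrime p.asIdeal) := by
  classical
  haveI : Finite (MinP A) := (minimalPrimes.finite_of_isNoetherianRing A).to_subtype
  haveI : Fintype (MinP A) := Fintype.ofFinite _
  choose e he1 he0 using fun i : MinP A => exists_lift i (1 : Kf A i)
  have heint : ∀ i, IsIntegral A (e i) := by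
    intro i
    have hidem : e i * e i = e i := phi_ext _ _ (fun j => by
      rw [map_mul]
      by_cases hj : j = i
      · subst hj; rw [he1, mul_one]
      · rw [he0 i j hj, mul_zero])
    refine ⟨Polynomial.X ^ 2 - Polynomial.X,
      Polynomial.monic_X_pow_sub (by rw [Polynomial.degree_X]; norm_num), ?_⟩
    simp [Polynomial.eval₂_sub, pow_two, hidem]
  let e' : MinP A → integralClosure A (FractionRing A) := fun i => ⟨e i, heint i⟩
  have hprod : ∏ i, (1 - e' i) = 0 := by
    apply Subtype.ext
    apply phi_ext
    intro j
    have hcoe : ((∏ i, (1 - e' i) : integralClosure A (FractionRing A)) : FractionRing A) =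
        ∏ i, (1 - e i) := by
      rw [← Subalgebra.coe_val, map_prod]
      rfl
    rw [hcoe, map_prod]
    show _ = phi j 0
    rw [map_zero]
    exact Finset.prod_eq_zero (Finset.mem_univ j) (by rw [map_sub, map_one, he1, sub_self])
  obtain ⟨i, hi⟩ : ∃ i, e' i ∉ p.asIdeal := by
    by_contra hcon
    push_neg at hcon
    have h0 : ∏ i, (1 - e' i) ∈ p.asIdeal := hprod ▸ p.asIdeal.zero_mem
    obtain ⟨i, -, hi⟩ := (Ideal.IsPrime.prod_mem_iff).mp h0
    have h1 : (1 : integralClosure A (FractionRing A)) ∈ p.asIdeal := by
      have := Ideal.add_mem _ hi (hcon i)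
      simpa using this
    exact p.isPrime.ne_top ((Ideal.eq_top_iff_one _).mpr h1)
  have hK : ∀ a : integralClosure A (FractionRing A), phi i a.1 = 0 → e' i * a = 0 := by
    intro a ha
    apply Subtype.ext
    apply phi_ext
    intro j
    show phi j (e i * a.1) = phi j 0
    rw [map_mul, map_zero]
    by_cases hj : j = i
    · subst hj; rw [ha, mul_zero]
    · rw [he0 i j hj, zero_mul]
  let g : integralClosure A (FractionRing A) →+* Kf A i :=
    (phi i).toRingHom.comp (algebraMap (integralClosure A (FractionRing A)) (FractionRing A))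
  have hgne : ∀ s : integralClosure A (FractionRing A), s ∉ p.asIdeal → g s ≠ 0 := by
    intro s hs h0
    have h1 : e' i * s = 0 := hK s h0
    have h2 : e' i * s ∈ p.asIdeal := h1 ▸ p.asIdeal.zero_mem
    rcases p.isPrime.mem_or_mem h2 with h | h
    exacts [hi h, hs h]
  have hunits : ∀ s : p.asIdeal.primeCompl, IsUnit (g s) := fun s =>
    isUnit_iff_ne_zero.mpr (hgne s.1 s.2)
  let ψ : Localization.AtPrime p.asIdeal →+* Kf A i := IsLocalization.lift hunits
  have hψeq : ∀ a, ψ (algebraMap _ (Localization.AtPrime p.asIdeal) a) = g a :=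
    fun a => IsLocalization.lift_eq hunits a
  have hψinj : Function.Injective ψ := by
    rw [injective_iff_map_eq_zero]
    intro l hl
    obtain ⟨a, s, rfl⟩ := IsLocalization.exists_mk'_eq p.asIdeal.primeCompl l
    have h1 : ψ (IsLocalization.mk' (Localization.AtPrime p.asIdeal) a s) *
        ψ (algebraMap _ (Localization.AtPrime p.asIdeal) (s : integralClosure A (FractionRing A)))
        = ψ (algebraMap _ (Localization.AtPrime p.asIdeal) a) := by
      rw [← map_mul, IsLocalization.mk'_spec]
    rw [hl, zero_mul, hψeq] at h1
    rw [IsLocalization.mk'_eq_zero_iff]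
    exact ⟨⟨e' i, hi⟩, hK a h1.symm⟩
  have hdom : IsDomain (Localization.AtPrime p.asIdeal) := Function.Injective.isDomain ψ hψinj
  refine ⟨hdom, ?_⟩
  haveI := hdom
  letI : Algebra (Localization.AtPrime p.asIdeal) (Kf A i) := ψ.toAlgebra
  have hψA : ∀ a : A, ψ (algebraMap A (Localization.AtPrime p.asIdeal) a) =
      algebraMap (A ⧸ i.1) (Kf A i) (Ideal.Quotient.mk i.1 a) := by
    intro a
    rw [IsScalarTower.algebraMap_apply A (integralClosure A (FractionRing A))
      (Localization.AtPrime p.asIdeal), hψeq]
    show phi i (algebraMap A (FractionRing A) a) = _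
    rw [AlgHom.commutes]
    rfl
  haveI : FaithfulSMul (Localization.AtPrime p.asIdeal) (Kf A i) :=
    (faithfulSMul_iff_algebraMap_injective _ _).mpr hψinj
  haveI : IsFractionRing (Localization.AtPrime p.asIdeal) (Kf A i) :=
    IsFractionRing.of_field (Localization.AtPrime p.asIdeal) (Kf A i) (fun z => by
      obtain ⟨a', b', hb', rfl⟩ := IsFractionRing.div_surjective (A := A ⧸ i.1) z
      obtain ⟨a, rfl⟩ := Ideal.Quotient.mk_surjective a'
      obtain ⟨b, rfl⟩ := Ideal.Quotient.mk_surjective b'
      refine ⟨algebraMap A _ a, algebraMap A _ b, ?_⟩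
      show _ = ψ _ / ψ _
      rw [hψA, hψA])
  rw [isIntegrallyClosed_iff (Kf A i)]
  intro z hz
  letI : Algebra (integralClosure A (FractionRing A)) (Kf A i) := g.toAlgebra
  haveI : IsScalarTower (integralClosure A (FractionRing A)) (Localization.AtPrime p.asIdeal)
      (Kf A i) := IsScalarTower.of_algebraMap_eq (fun a => (hψeq a).symm)
  obtain ⟨⟨s, hs⟩, hsz⟩ := IsIntegral.exists_multiple_integral_of_isLocalization
    p.asIdeal.primeCompl z hz
  haveI : IsScalarTower A (integralClosure A (FractionRing A)) (Kf A i) :=
    IsScalarTower.of_algebraMap_eq (fun a => by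
      show algebraMap A (Kf A i) a = phi i (algebraMap A (FractionRing A) a)
      rw [AlgHom.commutes])
  have hw : IsIntegral A (s • z) := isIntegral_trans _ hsz
  have hsmul : s • z = g s * z := by
    rw [Algebra.smul_def]; rfl
  obtain ⟨q, hq1, hq0⟩ := exists_lift i (s • z)
  have hqint : IsIntegral A q := by
    obtain ⟨P, hPm, hP⟩ := hw
    refine ⟨Polynomial.X * P, Polynomial.monic_X.mul hPm, ?_⟩
    apply phi_ext
    intro j
    rw [map_zero]
    have := Polynomial.hom_eval₂ (Polynomial.X * P) (algebraMap A (FractionRing A))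
      (phi j).toRingHom q
    have hcomp : (phi j).toRingHom.comp (algebraMap A (FractionRing A)) =
        algebraMap A (Kf A j) := (phi j).comp_algebraMap
    rw [hcomp] at this
    show (phi j).toRingHom _ = 0
    rw [this, Polynomial.eval₂_mul, Polynomial.eval₂_X]
    by_cases hj : j = i
    · subst hj
      show phi j q * Polynomial.eval₂ (algebraMap A (Kf A j)) (phi j q) P = 0
      rw [hq1, hP, mul_zero]
    · show phi j q * _ = 0
      rw [hq0 j hj, zero_mul]
  refine ⟨IsLocalization.mk' (Localization.AtPrime p.asIdeal)
    (⟨q, hqint⟩ : integralClosure A (FractionRing A)) ⟨s, hs⟩, ?_⟩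
  show ψ _ = z
  have h1 : ψ (IsLocalization.mk' (Localization.AtPrime p.asIdeal)
      (⟨q, hqint⟩ : integralClosure A (FractionRing A)) ⟨s, hs⟩) *
      ψ (algebraMap _ (Localization.AtPrime p.asIdeal) s)
      = ψ (algebraMap _ (Localization.AtPrime p.asIdeal)
        (⟨q, hqint⟩ : integralClosure A (FractionRing A))) := by
    rw [← map_mul, IsLocalization.mk'_spec]
  rw [hψeq, hψeq] at h1
  have h2 : g (⟨q, hqint⟩ : integralClosure A (FractionRing A)) = g s * z := by
    show phi i q = _
    rw [hq1, hsmul]
  rw [h2, mul_comm] at h1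
  exact mul_left_cancel₀ (hgne s hs) h1

theorem delta_lt_top (A : Type u) [CommRing A] [IsLocalRing A] [IsNoetherianRing A] [IsReduced A]
    (hdim : ringKrullDim A = 1) (hfin : Module.Finite A (integralClosure A (FractionRing A))) :
    Curv2.deltaInv A < ⊤ := by
  classical
  obtain ⟨G, hG⟩ := hfin.fg_top
  obtain ⟨⟨s, hs⟩, hsG⟩ := IsLocalization.exist_integer_multiples_of_finset (nonZeroDivisors A)
    (G.image (fun g : integralClosure A (FractionRing A) => (g : FractionRing A)))
  have hsA' : ∀ x : integralClosure A (FractionRing A),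
      s • x ∈ LinearMap.range (Algebra.linearMap A (integralClosure A (FractionRing A))) := by
    intro x
    have hx : x ∈ Submodule.span A (G : Set (integralClosure A (FractionRing A))) :=
      hG ▸ Submodule.mem_top
    induction hx using Submodule.span_induction with
    | mem g hg =>
      obtain ⟨a, ha⟩ := hsG (g : FractionRing A) (Finset.mem_image_of_mem _ hg)
      exact ⟨a, Subtype.ext ha⟩
    | zero => rw [smul_zero]; exact zero_mem _
    | add x y _ _ hx hy => rw [smul_add]; exact add_mem hx hy
    | smul c x _ hx => rw [smul_comm]; exact Submodule.smul_mem _ _ hx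
  have hsN : ∀ n : (integralClosure A (FractionRing A)) ⧸
      LinearMap.range (Algebra.linearMap A (integralClosure A (FractionRing A))), s • n = 0 := by
    intro n
    obtain ⟨x, rfl⟩ := Submodule.Quotient.mk_surjective _ n
    rw [← Submodule.Quotient.mk_smul, Submodule.Quotient.mk_eq_zero]
    exact hsA' x
  haveI : Ring.KrullDimLE 0 (A ⧸ Ideal.span {s}) := by
    rw [Ideal.krullDimLE_zero_quotient_iff_forall_minimalPrimes_isMaximal]
    intro J hJ
    haveI := hJ.1.1
    have hsJ : s ∈ J := hJ.1.2 (Ideal.subset_span rfl)
    have hJm : J ∉ minimalPrimes A := fun hmin =>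
      Set.disjoint_left.mp (Ideal.disjoint_nonZeroDivisors_of_mem_minimalPrimes hmin) hsJ hs
    rw [eq_maximalIdeal_of_notMem_minimalPrimes hdim J hJm]
    exact IsLocalRing.maximalIdeal.isMaximal A
  haveI : IsArtinianRing (A ⧸ Ideal.span {s}) := IsNoetherianRing.isArtinianRing_of_krullDimLE_zero
  have hIN : Ideal.span {s} • (⊤ : Submodule A ((integralClosure A (FractionRing A)) ⧸
      LinearMap.range (Algebra.linearMap A (integralClosure A (FractionRing A))))) = ⊥ := by
    rw [eq_bot_iff, Submodule.smul_le]
    intro r hr n _
    obtain ⟨c, rfl⟩ := Ideal.mem_span_singleton'.mp hr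
    rw [Submodule.mem_bot, mul_smul, hsN, smul_zero]
  let eq1 := (TensorProduct.quotTensorEquivQuotSMul ((integralClosure A (FractionRing A)) ⧸
      LinearMap.range (Algebra.linearMap A (integralClosure A (FractionRing A))))
      (Ideal.span {s})).trans
    ((Submodule.quotEquivOfEq _ _ hIN).trans (Submodule.quotEquivOfEqBot ⊥ rfl))
  unfold Curv2.deltaInv
  rw [lt_top_iff_ne_top, ← eq1.length_eq,
    Module.length_eq_of_surjective (S := A) (R := A ⧸ Ideal.span {s})
      Ideal.Quotient.mk_surjective]
  exact Module.length_ne_top

/-- For a reduced local Nagata ring (A, m) of Krull dimension one, write A' for the integral closure of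
A in its total fraction ring. Then A' is a finite A-module, every localization of A' at a prime is
an integrally closed domain, and the quotient A'/A is an A-module of finite length. (The published
statement also says that A' is Nagata, which follows from the finiteness of A' over A; this row does
not restate it.) -/
theorem result (A : Type u) [CommRing A] [IsLocalRing A]
    [IsReduced A] (hN : CAlg.IsNagata A) (hdim : ringKrullDim A = 1) :
    Module.Finite A (integralClosure A (FractionRing A)) ∧
      (∀ p : PrimeSpectrum (integralClosure A (FractionRing A)),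
        IsDomain (Localization.AtPrime p.asIdeal) ∧ IsIntegrallyClosed (Localization.AtPrime p.asIdeal)) ∧
      Curv2.deltaInv A < ⊤ := by
  haveI : IsNoetherianRing A := hN.1
  have h1 := finite_intClosure A hN
  exact ⟨h1, fun p => local_normal A p, delta_lt_top A hdim h1⟩

end Groth.Agent.S7652
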