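import Mathlib
import Groth.Statements.S7655
-- import your own Groth.Agent.* helpers here

set_option autoImplicit false
universe u
open CategoryTheory CategoryTheory.Limits AlgebraicGeometry
open Variety

namespace Groth.Agent.S7655


theorem span_range_eq_top {C L : Type*} [CommRing C] [Field L] {ι : Type*} [Fintype ι]
    (ψ : ι → C →+* L) (hψ : Function.Injective ψ) :
    Submodule.span L (Set.range fun c : C => fun j => ψ j c) = ⊤ := by
  classical
  by_contra hne
  obtain ⟨f, hf0, hfle⟩ := Submodule.exists_le_ker_of_lt_top _ (lt_top_iff_ne_top.mpr hne)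
  have hli : LinearIndependent L
      ((fun g : C →* L => (g : C → L)) ∘ fun j => (ψ j).toMonoidHom) :=
    (linearIndependent_monoidHom C L).comp (fun j => (ψ j).toMonoidHom)
      (fun j j' h => hψ (RingHom.ext fun c => DFunLike.congr_fun h c))
  have hzero : ∀ j, f (fun j' => if j = j' then 1 else 0) = 0 := by
    refine Fintype.linearIndependent_iff.mp hli
      (fun j => f (fun j' => if j = j' then 1 else 0)) ?_
    funext c
    have hc : f (fun j => ψ j c) = 0 := hfle (Submodule.subset_span ⟨c, rfl⟩)
    rw [LinearMap.pi_apply_eq_sum_univ f] at hc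
    rw [Finset.sum_apply, Pi.zero_apply]
    refine Eq.trans (Finset.sum_congr rfl fun j _ => ?_) hc
    show (f (fun j' => if j = j' then 1 else 0)) * ψ j c =
      ψ j c * f (fun j' => if j = j' then 1 else 0)
    exact mul_comm _ _
  refine hf0 (LinearMap.ext fun x => ?_)
  rw [LinearMap.pi_apply_eq_sum_univ f x]
  simp only [hzero, smul_zero, Finset.sum_const_zero, LinearMap.zero_apply]

theorem card_le_length_add_one {A C L : Type u} [CommRing A] [IsLocalRing A] [CommRing C]
    [Algebra A C] [Field L] (τ : A →+* L) (hτ : ∀ a ∈ IsLocalRing.maximalIdeal A, τ a = 0)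
    {ι : Type u} [Fintype ι] (ψ : ι → C →+* L) (hψ : Function.Injective ψ)
    (hcomp : ∀ j, (ψ j).comp (algebraMap A C) = τ) :
    (Fintype.card ι : ℕ∞) ≤
      Module.length A (C ⧸ LinearMap.range (Algebra.linearMap A C)) + 1 := by
  classical
  let m := IsLocalRing.maximalIdeal A
  let k := A ⧸ m
  letI : Field k := Ideal.Quotient.field m
  let τ' : k →+* L := Ideal.Quotient.lift m τ hτ
  letI algkL : Algebra k L := τ'.toAlgebra
  letI algAL : Algebra A L := τ.toAlgebra
  haveI : IsScalarTower A k L := IsScalarTower.of_algebraMap_eq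
    (fun a => (Ideal.Quotient.lift_mk m τ hτ).symm)
  let ψl : ι → C →ₗ[A] L := fun j =>
    { toFun := ψ j
      map_add' := map_add _
      map_smul' := fun a c => by
        show ψ j (a • c) = τ a * ψ j c
        rw [Algebra.smul_def, map_mul, ← hcomp j]; rfl }
  let Φ : C →ₗ[A] (ι → L) := LinearMap.pi ψl
  obtain ⟨b, hbsub, hbspan, hbli⟩ :=
    exists_linearIndependent L (Set.range fun c : C => fun j => ψ j c)
  rw [span_range_eq_top ψ hψ] at hbspan
  let Bb : Module.Basis b L (ι → L) :=
    Module.Basis.mk hbli (by rw [Subtype.range_coe]; exact hbspan.ge)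
  let e : ι ≃ b := (Pi.basisFun L ι).indexEquiv Bb
  let w : ι → (ι → L) := fun j => ((e j : b) : ι → L)
  have hwli : LinearIndependent L w := hbli.comp e e.injective
  have hwmem : ∀ j, ∃ c : C, Φ c = w j := fun j => hbsub (e j).2
  have hwk : LinearIndependent k w := hwli.restrict_scalars (by
    intro r r' h
    have h' : algebraMap k L r = algebraMap k L r' := by
      simpa [Algebra.smul_def] using h
    exact (algebraMap k L).injective h')
  let g0 : (ι → k) →ₗ[A] (ι → L) := (Fintype.linearCombination k w).restrictScalars A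
  have hg0inj : Function.Injective g0 := hwk.fintypeLinearCombination_injective
  let W : Submodule A (ι → L) := LinearMap.range Φ
  have hg0W : ∀ x, g0 x ∈ W := by
    intro x
    show ∑ j, x j • w j ∈ W
    refine Submodule.sum_mem _ fun j _ => ?_
    obtain ⟨a, ha⟩ := Ideal.Quotient.mk_surjective (x j)
    obtain ⟨c, hc⟩ := hwmem j
    rw [← ha, ← hc]
    have h1 : (Ideal.Quotient.mk m a : k) • Φ c = a • Φ c := algebraMap_smul k a (Φ c)
    rw [h1, ← map_smul]
    exact ⟨_, rfl⟩
  haveI : IsSimpleModule A k :=
    isSimpleModule_iff_isCoatom.mpr (Ideal.isMaximal_def.mp inferInstance)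
  have hlen1 : (Fintype.card ι : ℕ∞) ≤ Module.length A W := by
    have h1 := Module.length_le_of_injective (g0.codRestrict W hg0W)
      (fun x y h => hg0inj (congrArg Subtype.val h))
    have h2 : Module.length A (ι → k) = Fintype.card ι := by
      rw [Module.length_pi_of_fintype]; simp
    rw [h2] at h1; exact h1
  let R : Submodule A C := LinearMap.range (Algebra.linearMap A C)
  let Φr : C →ₗ[A] W := Φ.rangeRestrict
  have hΦr : Function.Surjective Φr := Φ.surjective_rangeRestrict
  let ρ : A →ₗ[A] W := Φr.comp (Algebra.linearMap A C)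
  let U : Submodule A W := LinearMap.range ρ
  have hlenU : Module.length A U ≤ 1 := by
    have hker : m ≤ LinearMap.ker ρ := by
      intro a ha
      rw [LinearMap.mem_ker]
      apply Subtype.ext
      funext j
      show ψ j (algebraMap A C a) = 0
      rw [← RingHom.comp_apply, hcomp j]; exact hτ a ha
    let ρ' : k →ₗ[A] W := Submodule.liftQ m ρ hker
    have h1 : Module.length A U ≤ Module.length A k :=
      Module.length_le_of_surjective (ρ'.codRestrict U (fun x => by
          obtain ⟨a, rfl⟩ := Submodule.Quotient.mk_surjective _ x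
          exact ⟨a, rfl⟩)) (by
          rintro ⟨u, a, rfl⟩
          exact ⟨Submodule.Quotient.mk a, Subtype.ext rfl⟩)
    rw [Module.length_eq_one A k] at h1
    exact h1
  have hlenQ : Module.length A (W ⧸ U) ≤ Module.length A (C ⧸ R) := by
    have hRU : R ≤ Submodule.comap Φr U := by
      rintro _ ⟨a, rfl⟩
      exact ⟨a, rfl⟩
    refine Module.length_le_of_surjective (Submodule.mapQ R U Φr hRU) ?_
    intro y
    obtain ⟨y, rfl⟩ := Submodule.Quotient.mk_surjective _ y
    obtain ⟨c, rfl⟩ := hΦr y
    exact ⟨Submodule.Quotient.mk c, rfl⟩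
  have hadd : Module.length A W = Module.length A U + Module.length A (W ⧸ U) :=
    Module.length_eq_add_of_exact U.subtype U.mkQ (Submodule.subtype_injective _)
      (Submodule.mkQ_surjective _) (LinearMap.exact_subtype_mkQ U)
  calc (Fintype.card ι : ℕ∞) ≤ Module.length A W := hlen1
    _ = Module.length A U + Module.length A (W ⧸ U) := hadd
    _ ≤ 1 + Module.length A (C ⧸ R) := add_le_add hlenU hlenQ
    _ = Module.length A (C ⧸ R) + 1 := add_comm _ _

theorem enat_card_le_of_finset {X : Type*} (c : ℕ∞) (h : ∀ S : Finset X, (S.card : ℕ∞) ≤ c) :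
    ENat.card X ≤ c := by
  classical
  rcases finite_or_infinite X with hfin | hinf
  · haveI := Fintype.ofFinite X
    rw [ENat.card_eq_coe_fintype_card]
    exact h Finset.univ
  · rcases eq_or_ne c ⊤ with rfl | hc
    · exact le_top
    · exfalso
      obtain ⟨k, rfl⟩ := ENat.ne_top_iff_exists.mp hc
      obtain ⟨S, hS⟩ := Infinite.exists_subset_card_eq X (k+1)
      have h1 := h S
      rw [hS] at h1
      have h2 : k + 1 ≤ k := by exact_mod_cast h1
      omega

theorem exists_theta (A : Type u) [CommRing A] [IsReduced A] :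
    ∃ θ : integralClosure A (FractionRing A) →+* CAlg2.normRed A, Function.Surjective θ ∧
      θ.comp (algebraMap A (integralClosure A (FractionRing A))) =
        (algebraMap (CAlg2.red A) (CAlg2.normRed A)).comp (Ideal.Quotient.mk (nilradical A)) := by
  let e : A ≃+* CAlg2.red A := RingEquiv.ofBijective (Ideal.Quotient.mk (nilradical A))
    ⟨by
      rw [injective_iff_map_eq_zero]
      intro a ha
      rw [Ideal.Quotient.eq_zero_iff_mem, nilradical_eq_zero] at ha
      exact ha, Ideal.Quotient.mk_surjective⟩
  let F : FractionRing A ≃+* FractionRing (CAlg2.red A) := IsFractionRing.ringEquivOfRingEquiv e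
  have hF : ∀ a, F (algebraMap A (FractionRing A) a) =
      algebraMap (CAlg2.red A) (FractionRing (CAlg2.red A)) (e a) :=
    IsFractionRing.ringEquivOfRingEquiv_algebraMap e
  have hFs : ∀ r, F.symm (algebraMap (CAlg2.red A) (FractionRing (CAlg2.red A)) r) =
      algebraMap A (FractionRing A) (e.symm r) := by
    intro r
    rw [RingEquiv.symm_apply_eq, hF, RingEquiv.apply_symm_apply]
  have hint : ∀ x : FractionRing A, IsIntegral A x → IsIntegral (CAlg2.red A) (F x) :=
    fun x hx => hx.map_of_comp_eq (e : A →+* CAlg2.red A)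
      (F : FractionRing A →+* FractionRing (CAlg2.red A)) (RingHom.ext fun a => (hF a).symm)
  have hint' : ∀ y : FractionRing (CAlg2.red A), IsIntegral (CAlg2.red A) y →
      IsIntegral A (F.symm y) :=
    fun y hy => hy.map_of_comp_eq (e.symm : CAlg2.red A →+* A)
      (F.symm : FractionRing (CAlg2.red A) →+* FractionRing A)
      (RingHom.ext fun r => (hFs r).symm)
  let θ : integralClosure A (FractionRing A) →+* CAlg2.normRed A :=
    { toFun := fun x => ⟨F x.1, hint x.1 x.2⟩
      map_one' := Subtype.ext (map_one F)
      map_mul' := fun x y => Subtype.ext (map_mul F x.1 y.1)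
      map_zero' := Subtype.ext (map_zero F)
      map_add' := fun x y => Subtype.ext (map_add F x.1 y.1) }
  refine ⟨θ, ?_, ?_⟩
  · intro y
    exact ⟨⟨F.symm y.1, hint' y.1 y.2⟩, Subtype.ext (F.apply_symm_apply y.1)⟩
  · apply RingHom.ext
    intro a
    apply Subtype.ext
    show F (algebraMap A (FractionRing A) a) =
      algebraMap (CAlg2.red A) (FractionRing (CAlg2.red A)) (Ideal.Quotient.mk (nilradical A) a)
    exact hF a

/-- Let (A, m) be a reduced Nagata local ring of dimension one. Then the δ-invariant of A is at least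
the number of geometric branches of A minus one. -/
theorem result (A : Type u) [CommRing A] [IsLocalRing A]
    [IsReduced A] (hN : CAlg.IsNagata A) (hdim : ringKrullDim A = 1) :
    Brnch.numGeomBranches A ≤ Curv2.deltaInv A + 1 := by
  classical
  haveI : IsNoetherianRing A := hN.1
  unfold Brnch.numGeomBranches
  rw [if_pos (minimalPrimes.finite_of_isNoetherianRing A)]
  apply enat_card_le_of_finset
  intro S
  obtain ⟨θ, hθsurj, hθcomp⟩ := exists_theta A
  have hker : ∀ (m' : MaximalSpectrum (CAlg2.normRed A)) (σ : Brnch.Emb A m')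
      (b : CAlg2.normRed A), σ.1 (Ideal.Quotient.mk m'.asIdeal b) = 0 ↔ b ∈ m'.asIdeal := by
    intro m' σ b
    letI := Ideal.Quotient.field m'.asIdeal
    rw [map_eq_zero_iff _ σ.1.injective, Ideal.Quotient.eq_zero_iff_mem]
  have key := card_le_length_add_one (A := A) (C := integralClosure A (FractionRing A))
    (L := AlgebraicClosure (IsLocalRing.ResidueField A)) (Brnch.toClosure A)
    (fun a ha => by
      unfold Brnch.toClosure
      rw [RingHom.comp_apply, (IsLocalRing.residue_eq_zero_iff a).mpr ha, map_zero])
    (ι := S)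
    (fun x => (x.1.2.1.comp (Ideal.Quotient.mk x.1.1.asIdeal)).comp θ)
    (by
      rintro ⟨⟨mx, σx⟩, hx⟩ ⟨⟨my, σy⟩, hy⟩ h
      have h1 : σx.1.comp (Ideal.Quotient.mk mx.asIdeal) =
          σy.1.comp (Ideal.Quotient.mk my.asIdeal) := (RingHom.cancel_right hθsurj).mp h
      have hm : mx = my := by
        apply MaximalSpectrum.ext
        ext b
        rw [← hker mx σx b, ← hker my σy b]
        have h2 := DFunLike.congr_fun h1 b
        simp only [RingHom.comp_apply] at h2
        rw [h2]
      subst hm
      have hσ : σx = σy := by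
        apply Subtype.ext
        apply RingHom.ext
        intro z
        obtain ⟨b, rfl⟩ := Ideal.Quotient.mk_surjective z
        exact DFunLike.congr_fun h1 b
      subst hσ
      rfl)
    (by
      intro x
      have h2 := x.1.2.2
      refine (RingHom.ext fun a => ?_ : _ = x.1.2.1.comp (Brnch.toResidue A x.1.1)).trans h2
      show x.1.2.1 (Ideal.Quotient.mk _ (θ (algebraMap A _ a))) =
        x.1.2.1 (Brnch.toResidue A x.1.1 a)
      have h3 : θ (algebraMap A _ a) = algebraMap (CAlg2.red A) (CAlg2.normRed A)
          (Ideal.Quotient.mk (nilradical A) a) := DFunLike.congr_fun hθcomp a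
      rw [h3]; rfl)
  rw [Fintype.card_coe] at key
  exact key

end Groth.Agent.S7655
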