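import Mathlib
import Groth.Statements.S9810
import Groth.Agent.Lib.Helper9.BrnchLib
-- import your own Groth.Agent.* helpers here

set_option autoImplicit false
universe u
open Brnch

namespace Groth.Agent.S9810


open Groth.Agent.Helper9.TotFrac

/-- number of maximal ideals of the normalization -/
noncomputable def nb (D : Type u) [CommRing D] : ℕ∞ :=
  ENat.card (MaximalSpectrum (integralClosure D (FractionRing D)))

theorem nb_congr {D D' : Type u} [CommRing D] [CommRing D'] (e : D ≃+* D') : nb D = nb D' := by
  obtain ⟨θ, -⟩ := exists_intClEquiv e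
  exact ENat.card_congr (maxSpecEquivOfRingEquiv θ)

theorem nb_eq_sum (R : Type u) [CommRing R] [IsReduced R] (hfin : (minimalPrimes R).Finite) :
    nb R = ∑ᶠ i : MinP R, nb (R ⧸ i.1) := by
  classical
  haveI : Finite (MinP R) := hfin.to_subtype
  haveI : Fintype (MinP R) := Fintype.ofFinite _
  rw [finsum_eq_sum_of_fintype]
  unfold nb
  rw [ENat.card_congr (maxSpecEquivOfRingEquiv (PsiEquiv hfin)),
    ← ENat.card_congr (Equiv.ofBijective _ (maxSpec_sigma_bijective
      (fun i : MinP R => integralClosure (R ⧸ i.1) (Kf R i)))),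
    enat_card_sigma]

theorem minimalPrimes_eq_image (A : Type u) [CommRing A] :
    minimalPrimes A =
      Ideal.comap (Ideal.Quotient.mk (nilradical A)) '' minimalPrimes (CAlg2.red A) := by
  have h1 := Ideal.comap_minimalPrimes_eq_of_surjective
    (f := Ideal.Quotient.mk (nilradical A)) Ideal.Quotient.mk_surjective ⊥
  rw [← RingHom.ker_eq_comap_bot, Ideal.mk_ker] at h1
  have h2 : (nilradical A).minimalPrimes = minimalPrimes A := by
    rw [nilradical, Ideal.radical_minimalPrimes]; rfl
  rw [← h2, h1]

theorem key (A : Type u) [CommRing A] (h : (minimalPrimes A).Finite) :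
    nb (CAlg2.red A) = ∑ᶠ p : minimalPrimes A, nb (CAlg2.red (A ⧸ p.1)) := by
  have hmin := minimalPrimes_eq_image A
  have hcinj : Function.Injective (Ideal.comap (Ideal.Quotient.mk (nilradical A))) :=
    Ideal.comap_injective_of_surjective _ Ideal.Quotient.mk_surjective
  have hfin' : (minimalPrimes (CAlg2.red A)).Finite := by
    rw [hmin] at h
    exact Set.Finite.of_finite_image h hcinj.injOn
  haveI : IsReduced (CAlg2.red A) :=
    (Ideal.isRadical_iff_quotient_reduced (nilradical A)).mp (Ideal.radical_isRadical _)
  rw [nb_eq_sum (CAlg2.red A) hfin']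
  let e : MinP (CAlg2.red A) → minimalPrimes A := fun i =>
    ⟨i.1.comap (Ideal.Quotient.mk (nilradical A)), by rw [hmin]; exact ⟨i.1, i.2, rfl⟩⟩
  have he : Function.Bijective e := by
    constructor
    · intro i j hij
      exact Subtype.ext (hcinj (congrArg Subtype.val hij))
    · rintro ⟨p, hp⟩
      have hp' := hp
      rw [hmin] at hp'
      obtain ⟨q, hq, rfl⟩ := hp'
      exact ⟨⟨q, hq⟩, rfl⟩
  refine finsum_eq_of_bijective e he (fun i => ?_)
  haveI : (e i).1.IsPrime := (e i).2.1.1
  let f₁ : A →+* CAlg2.red A ⧸ i.1 :=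
    (Ideal.Quotient.mk i.1).comp (Ideal.Quotient.mk (nilradical A))
  let f₂ : A →+* CAlg2.red (A ⧸ (e i).1) :=
    (Ideal.Quotient.mk (nilradical (A ⧸ (e i).1))).comp (Ideal.Quotient.mk (e i).1)
  have hk1 : RingHom.ker f₁ = (e i).1 := by
    ext a
    rw [RingHom.mem_ker]
    show Ideal.Quotient.mk i.1 (Ideal.Quotient.mk (nilradical A) a) = 0 ↔ _
    rw [Ideal.Quotient.eq_zero_iff_mem]
    rfl
  have hk2 : RingHom.ker f₂ = (e i).1 := by
    ext a
    rw [RingHom.mem_ker]
    show Ideal.Quotient.mk (nilradical (A ⧸ (e i).1)) (Ideal.Quotient.mk (e i).1 a) = 0 ↔ _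
    rw [Ideal.Quotient.eq_zero_iff_mem, nilradical_eq_zero, Ideal.zero_eq_bot, Ideal.mem_bot,
      Ideal.Quotient.eq_zero_iff_mem]
  obtain ⟨ε, -⟩ := exists_ringEquiv_of_surjective f₁ f₂
    (Ideal.Quotient.mk_surjective.comp Ideal.Quotient.mk_surjective)
    (Ideal.Quotient.mk_surjective.comp Ideal.Quotient.mk_surjective) (hk1.trans hk2.symm)
  exact nb_congr ε

/-- Branches, in terms of the local ring: for a local ring A with finitely many minimal prime ideals,
the number of branches of A is the sum over the minimal primes p of the numbers of branches of the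
local domains A/p. Geometrically: the number of branches of a scheme at a point is the sum of the
numbers of branches at that point of the irreducible components passing through it. -/
theorem result (A : Type u) [CommRing A] [IsLocalRing A]
    (h : (minimalPrimes A).Finite) :
    Brnch.numBranches A =
      ∑ᶠ p : minimalPrimes A,
        haveI : p.1.IsPrime := p.2.1.1
        Brnch.numBranches (A ⧸ p.1) := by
  classical
  unfold Brnch.numBranches
  rw [if_pos h]
  have hk := key A h
  unfold nb at hk
  rw [hk]
  apply finsum_congr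
  intro p
  haveI : p.1.IsPrime := p.2.1.1
  have hsing : minimalPrimes (A ⧸ p.1) = {⊥} := IsDomain.minimalPrimes_eq_singleton_bot _
  rw [if_pos (by rw [hsing]; exact Set.finite_singleton _)]

end Groth.Agent.S9810
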