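import Mathlib
import Groth.Statements.S9235
import Groth.Agent.Lib.Helper9.BrnchLib
import Groth.Agent.S9810
-- import your own Groth.Agent.* helpers here

set_option autoImplicit false
universe u
open Brnch

namespace Groth.Agent.S9235


open Groth.Agent.Helper9.TotFrac Groth.Agent.S9810

theorem one_le_nb (D : Type u) [CommRing D] [Nontrivial D] : 1 ≤ nb D := by
  unfold nb
  rw [ENat.one_le_card_iff_nonempty]
  haveI : Nontrivial (FractionRing D) := IsFractionRing.nontrivial D (FractionRing D)
  haveI : Nontrivial (integralClosure D (FractionRing D)) :=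
    ⟨⟨0, 1, fun h => zero_ne_one (congrArg Subtype.val h)⟩⟩
  obtain ⟨m, hm⟩ := Ideal.exists_maximal (integralClosure D (FractionRing D))
  exact ⟨⟨m, hm⟩⟩

theorem isDomain_of_bot_isPrime (R : Type u) [CommRing R] (h : (⊥ : Ideal R).IsPrime) :
    IsDomain R := by
  haveI : Nontrivial R := ⟨⟨0, 1, fun h01 => h.ne_top ((Ideal.eq_top_iff_one _).mpr (by
    rw [Ideal.mem_bot]; exact h01.symm))⟩⟩
  haveI : NoZeroDivisors R := ⟨fun {a b} hab => by
    have h1 : a * b ∈ (⊥ : Ideal R) := by rw [Ideal.mem_bot]; exact hab
    simpa [Ideal.mem_bot] using h.mem_or_mem h1⟩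
  exact NoZeroDivisors.to_isDomain R

theorem finite_minimalPrimes_red (A : Type u) [CommRing A] (h : (minimalPrimes A).Finite) :
    (minimalPrimes (CAlg2.red A)).Finite := by
  have hmin := minimalPrimes_eq_image A
  have hcinj : Function.Injective (Ideal.comap (Ideal.Quotient.mk (nilradical A))) :=
    Ideal.comap_injective_of_surjective _ Ideal.Quotient.mk_surjective
  rw [hmin] at h
  exact Set.Finite.of_finite_image h hcinj.injOn

/-- A local ring A has exactly one branch if and only if it is unibranch. Here the number of branches is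
computed as the number of maximal ideals of the integral closure of A_red in its total ring of
fractions (infinity when A has infinitely many minimal primes). -/
theorem result (A : Type u) [CommRing A] [IsLocalRing A] :
    Brnch.numBranches A = 1 ↔ CAlg2.IsUnibranch A := by
  classical
  haveI : IsReduced (CAlg2.red A) :=
    (Ideal.isRadical_iff_quotient_reduced (nilradical A)).mp (Ideal.radical_isRadical _)
  constructor
  · intro h1
    unfold Brnch.numBranches at h1
    by_cases hfin : (minimalPrimes A).Finite
    · rw [if_pos hfin] at h1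
      have hloc : IsLocalRing (CAlg2.normRed A) := by
        obtain ⟨hu⟩ := ENat.card_eq_one_iff_unique.mp h1
        apply IsLocalRing.of_unique_max_ideal
        refine ⟨hu.default.asIdeal, hu.default.isMaximal, fun I hI => ?_⟩
        exact congrArg MaximalSpectrum.asIdeal (hu.uniq ⟨I, hI⟩)
      refine ⟨?_, hloc⟩
      have hfin' := finite_minimalPrimes_red A hfin
      have hk := nb_eq_sum (CAlg2.red A) hfin'
      have hnb : nb (CAlg2.red A) = 1 := h1
      haveI : Finite (MinP (CAlg2.red A)) := hfin'.to_subtype
      haveI : Fintype (MinP (CAlg2.red A)) := Fintype.ofFinite _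
      rw [hnb, finsum_eq_sum_of_fintype] at hk
      have hcard : (Fintype.card (MinP (CAlg2.red A)) : ℕ∞) ≤ 1 := by
        calc (Fintype.card (MinP (CAlg2.red A)) : ℕ∞)
            = ∑ _i : MinP (CAlg2.red A), (1 : ℕ∞) := by simp
          _ ≤ ∑ i : MinP (CAlg2.red A), nb (CAlg2.red A ⧸ i.1) :=
            Finset.sum_le_sum (fun i _ => one_le_nb _)
          _ = 1 := hk.symm
      have hsub : Subsingleton (MinP (CAlg2.red A)) :=
        Fintype.card_le_one_iff_subsingleton.mp (by exact_mod_cast hcard)
      haveI : Nontrivial (CAlg2.red A) := Ideal.Quotient.nontrivial_iff.mpr (fun htop => by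
        have hle : nilradical A ≤ IsLocalRing.maximalIdeal A := nilradical_le_prime _
        exact (IsLocalRing.maximalIdeal.isMaximal A).ne_top (top_le_iff.mp (htop ▸ hle)))
      obtain ⟨m, hm⟩ := Ideal.exists_maximal (CAlg2.red A)
      obtain ⟨p₀, hp₀, -⟩ := Ideal.exists_minimalPrimes_le (show (⊥ : Ideal (CAlg2.red A)) ≤ m from bot_le)
      have hall : minimalPrimes (CAlg2.red A) = {p₀} := by
        ext q
        constructor
        · intro hq
          have := hsub.elim (⟨q, hq⟩ : MinP (CAlg2.red A)) ⟨p₀, hp₀⟩
          exact congrArg Subtype.val this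
        · rintro rfl
          exact hp₀
      have hbot : p₀ = ⊥ := by
        have := sInf_minimalPrimes_eq_bot (A := CAlg2.red A)
        rw [hall, sInf_singleton] at this
        exact this
      have hprime : (⊥ : Ideal (CAlg2.red A)).IsPrime := hbot ▸ Ideal.minimalPrimes_isPrime hp₀
      exact isDomain_of_bot_isPrime _ hprime
    · rw [if_neg hfin] at h1
      exact absurd h1 (by simp)
  · rintro ⟨hdom, hloc⟩
    haveI := hdom
    haveI := hloc
    have hfin : (minimalPrimes A).Finite := by
      rw [minimalPrimes_eq_image]
      have hsing : minimalPrimes (CAlg2.red A) = {⊥} := IsDomain.minimalPrimes_eq_singleton_bot _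
      rw [hsing]
      exact (Set.finite_singleton _).image _
    unfold Brnch.numBranches
    rw [if_pos hfin, ENat.card_eq_one_iff_unique]
    exact ⟨{ default := ⟨IsLocalRing.maximalIdeal _, inferInstance⟩
             uniq := fun m => MaximalSpectrum.ext (IsLocalRing.eq_maximalIdeal m.isMaximal) }⟩

end Groth.Agent.S9235
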