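import Mathlib
import Groth.Statements.S9811
import Groth.Agent.Lib.Helper9.BrnchLib
import Groth.Agent.S9810
import Groth.Agent.S9235
-- import your own Groth.Agent.* helpers here

set_option autoImplicit false
universe u
open Brnch

namespace Groth.Agent.S9811


open Groth.Agent.Helper9.TotFrac Groth.Agent.S9810 Groth.Agent.S9235

/-- ring maps to a field with prescribed restriction -/
def ChrG {A₀ B L : Type u} [CommRing A₀] [CommRing B] [Field L] (ι : A₀ →+* B) (τ : A₀ →+* L) :
    Type u :=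
  {χ : B →+* L // χ.comp ι = τ}

/-- the structure map to the normalization of the reduction -/
noncomputable def iotaD (D : Type u) [CommRing D] : D →+* CAlg2.normRed D :=
  (algebraMap (CAlg2.red D) (CAlg2.normRed D)).comp (Ideal.Quotient.mk (nilradical D))

theorem chrG_card_congr {A₀ A₁ B B' L L' : Type u} [CommRing A₀] [CommRing A₁] [CommRing B]
    [CommRing B'] [Field L] [Field L']
    (θ : B ≃+* B') (ε : L ≃+* L') (π : A₁ →+* A₀) (hπ : Function.Surjective π)
    (ι : A₀ →+* B) (τ : A₀ →+* L) (ι' : A₁ →+* B') (τ' : A₁ →+* L')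
    (hι : ∀ a, θ (ι (π a)) = ι' a) (hτ : ∀ a, ε (τ (π a)) = τ' a) :
    ENat.card (ChrG ι τ) = ENat.card (ChrG ι' τ') := by
  refine ENat.card_congr
    { toFun := fun χ => ⟨((ε : L →+* L').comp χ.1).comp (θ.symm : B' →+* B), ?_⟩
      invFun := fun χ' => ⟨((ε.symm : L' →+* L).comp χ'.1).comp (θ : B →+* B'), ?_⟩
      left_inv := fun χ => Subtype.ext (RingHom.ext fun b => by simp)
      right_inv := fun χ' => Subtype.ext (RingHom.ext fun b => by simp) }
  · apply RingHom.ext
    intro a
    show ε (χ.1 (θ.symm (ι' a))) = τ' a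
    rw [← hι a, RingEquiv.symm_apply_apply, ← hτ a]
    congr 1
    exact DFunLike.congr_fun χ.2 (π a)
  · apply (RingHom.cancel_right hπ).mp
    apply RingHom.ext
    intro a
    show ε.symm (χ'.1 (θ (ι (π a)))) = τ (π a)
    rw [hι a, RingEquiv.symm_apply_eq, hτ a]
    exact DFunLike.congr_fun χ'.2 a

theorem chrG_sigma {ι₀ : Type u} [Fintype ι₀] (B : ι₀ → Type u) [∀ i, CommRing (B i)]
    {A₀ L : Type u} [CommRing A₀] [Field L] (ι : A₀ →+* ∀ i, B i) (τ : A₀ →+* L) :
    ENat.card (ChrG ι τ) = ∑ i, ENat.card (ChrG ((Pi.evalRingHom B i).comp ι) τ) := by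
  classical
  rw [← enat_card_sigma]
  symm
  refine ENat.card_congr (Equiv.ofBijective
    (fun x : Σ i, ChrG ((Pi.evalRingHom B i).comp ι) τ =>
      (⟨x.2.1.comp (Pi.evalRingHom B x.1), by rw [RingHom.comp_assoc]; exact x.2.2⟩ :
        ChrG ι τ)) ⟨?_, ?_⟩)
  · rintro ⟨i, χ⟩ ⟨j, χ'⟩ hx
    have hx' : χ.1.comp (Pi.evalRingHom B i) = χ'.1.comp (Pi.evalRingHom B j) :=
      congrArg Subtype.val hx
    have hij : i = j := by
      by_contra hne
      have h1 := DFunLike.congr_fun hx' (Pi.single i 1)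
      have e1 : (Pi.evalRingHom B i) (Pi.single i 1) = 1 := Pi.single_eq_same i 1
      have e2 : (Pi.evalRingHom B j) (Pi.single i (1 : B i)) = 0 :=
        Pi.single_eq_of_ne (Ne.symm hne) 1
      rw [RingHom.comp_apply, RingHom.comp_apply, e1, e2, map_one, map_zero] at h1
      exact one_ne_zero h1
    subst hij
    have hχ : χ = χ' := Subtype.ext (RingHom.ext fun b => by
      have h1 := DFunLike.congr_fun hx' (Pi.single i b)
      have e1 : (Pi.evalRingHom B i) (Pi.single i b) = b := Pi.single_eq_same i b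
      rw [RingHom.comp_apply, RingHom.comp_apply, e1] at h1
      exact h1)
    rw [hχ]
  · intro χ
    have hprime : (RingHom.ker χ.1).IsPrime := RingHom.ker_isPrime χ.1
    obtain ⟨i, q, hq⟩ := PrimeSpectrum.exists_comap_evalRingHom_eq
      (⟨RingHom.ker χ.1, hprime⟩ : PrimeSpectrum (∀ i, B i))
    have hker : RingHom.ker (Pi.evalRingHom B i) ≤ RingHom.ker χ.1 := by
      intro x hx
      have hmem : x ∈ (PrimeSpectrum.comap (Pi.evalRingHom B i) q).asIdeal := by
        show Pi.evalRingHom B i x ∈ q.asIdeal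
        rw [RingHom.mem_ker.mp hx]
        exact q.asIdeal.zero_mem
      rw [hq] at hmem
      exact hmem
    let χi : B i →+* L := (Pi.evalRingHom B i).liftOfRightInverse (Pi.single i)
      (fun b => Pi.single_eq_same i b) ⟨χ.1, hker⟩
    have hχi : χi.comp (Pi.evalRingHom B i) = χ.1 := RingHom.liftOfRightInverse_comp _ _ _ _
    refine ⟨⟨i, ⟨χi, ?_⟩⟩, Subtype.ext hχi⟩
    rw [← RingHom.comp_assoc, hχi]
    exact χ.2

theorem ker_toClosure (D : Type u) [CommRing D] [IsLocalRing D] :
    RingHom.ker (Brnch.toClosure D) = IsLocalRing.maximalIdeal D := by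
  ext x
  rw [RingHom.mem_ker]
  unfold Brnch.toClosure
  rw [RingHom.comp_apply, map_eq_zero_iff _ (RingHom.injective _), IsLocalRing.residue_eq_zero_iff]

theorem iotaD_isIntegral (D : Type u) [CommRing D] : (iotaD D).IsIntegral :=
  RingHom.IsIntegral.trans _ _ (RingHom.isIntegral_of_surjective _ Ideal.Quotient.mk_surjective)
    (algebraMap_isIntegral_iff.mpr inferInstance)

theorem card_sigma_emb (D : Type u) [CommRing D] [IsLocalRing D] :
    ENat.card (Σ m' : MaximalSpectrum (CAlg2.normRed D), Brnch.Emb D m') =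
      ENat.card (ChrG (iotaD D) (Brnch.toClosure D)) := by
  have hker : ∀ (m' : MaximalSpectrum (CAlg2.normRed D)) (σ : Brnch.Emb D m')
      (b : CAlg2.normRed D), σ.1 (Ideal.Quotient.mk m'.asIdeal b) = 0 ↔ b ∈ m'.asIdeal := by
    intro m' σ b
    letI := Ideal.Quotient.field m'.asIdeal
    rw [map_eq_zero_iff _ σ.1.injective, Ideal.Quotient.eq_zero_iff_mem]
  refine ENat.card_congr (Equiv.ofBijective
    (fun x : Σ m' : MaximalSpectrum (CAlg2.normRed D), Brnch.Emb D m' =>
      (⟨x.2.1.comp (Ideal.Quotient.mk x.1.asIdeal), x.2.2⟩ :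
        ChrG (iotaD D) (Brnch.toClosure D))) ⟨?_, ?_⟩)
  · rintro ⟨mx, σx⟩ ⟨my, σy⟩ h
    have h1 : σx.1.comp (Ideal.Quotient.mk mx.asIdeal) =
        σy.1.comp (Ideal.Quotient.mk my.asIdeal) := congrArg Subtype.val h
    have hm : mx = my := by
      apply MaximalSpectrum.ext
      ext b
      rw [← hker mx σx b, ← hker my σy b]
      have h2 := DFunLike.congr_fun h1 b
      simp only [RingHom.comp_apply] at h2
      rw [h2]
    subst hm
    have hσ : σx = σy := by
      apply Subtype.ext
      apply RingHom.ext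
      intro z
      obtain ⟨b, rfl⟩ := Ideal.Quotient.mk_surjective z
      exact DFunLike.congr_fun h1 b
    subst hσ
    rfl
  · intro χ
    haveI hprime : (RingHom.ker χ.1).IsPrime := RingHom.ker_isPrime χ.1
    have hmax : (RingHom.ker χ.1).IsMaximal := by
      apply Ideal.isMaximal_of_isIntegral_of_isMaximal_comap' (iotaD D) (iotaD_isIntegral D)
      rw [RingHom.comap_ker, χ.2, ker_toClosure]
      exact IsLocalRing.maximalIdeal.isMaximal D
    let m' : MaximalSpectrum (CAlg2.normRed D) := ⟨RingHom.ker χ.1, hmax⟩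
    let σ : CAlg2.normRed D ⧸ m'.asIdeal →+* AlgebraicClosure (IsLocalRing.ResidueField D) :=
      Ideal.Quotient.lift m'.asIdeal χ.1 (fun a ha => ha)
    have hσ : σ.comp (Ideal.Quotient.mk m'.asIdeal) = χ.1 :=
      RingHom.ext fun b => rfl
    refine ⟨⟨m', ⟨σ, ?_⟩⟩, Subtype.ext hσ⟩
    show σ.comp ((Ideal.Quotient.mk m'.asIdeal).comp (iotaD D)) = Brnch.toClosure D
    rw [← RingHom.comp_assoc, hσ]
    exact χ.2

theorem exists_eps (A : Type u) [CommRing A] [IsLocalRing A] (p : Ideal A)
    [IsLocalRing (A ⧸ p)] :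
    ∃ ε : AlgebraicClosure (IsLocalRing.ResidueField (A ⧸ p)) ≃+*
        AlgebraicClosure (IsLocalRing.ResidueField A),
      ∀ a : A, ε (Brnch.toClosure (A ⧸ p) (Ideal.Quotient.mk p a)) = Brnch.toClosure A a := by
  haveI : IsLocalHom (Ideal.Quotient.mk p) :=
    IsLocalHom.of_surjective _ Ideal.Quotient.mk_surjective
  let r : IsLocalRing.ResidueField A →+* IsLocalRing.ResidueField (A ⧸ p) :=
    IsLocalRing.ResidueField.map (Ideal.Quotient.mk p)
  have hr : ∀ a, r (IsLocalRing.residue A a) =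
      IsLocalRing.residue (A ⧸ p) (Ideal.Quotient.mk p a) :=
    fun a => IsLocalRing.ResidueField.map_residue _ a
  have hrbij : Function.Bijective r := ⟨r.injective, fun y => by
    obtain ⟨b, rfl⟩ := IsLocalRing.residue_surjective y
    obtain ⟨a, rfl⟩ := Ideal.Quotient.mk_surjective b
    exact ⟨IsLocalRing.residue A a, hr a⟩⟩
  let re : IsLocalRing.ResidueField A ≃+* IsLocalRing.ResidueField (A ⧸ p) :=
    RingEquiv.ofBijective r hrbij
  let ε := IsAlgClosure.equivOfEquiv (AlgebraicClosure (IsLocalRing.ResidueField (A ⧸ p)))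
    (AlgebraicClosure (IsLocalRing.ResidueField A)) re.symm
  refine ⟨ε, fun a => ?_⟩
  show ε (algebraMap _ _ (IsLocalRing.residue (A ⧸ p) (Ideal.Quotient.mk p a))) =
    algebraMap _ _ (IsLocalRing.residue A a)
  rw [IsAlgClosure.equivOfEquiv_algebraMap]
  congr 1
  rw [RingEquiv.symm_apply_eq]
  exact (hr a).symm

theorem exists_theta_i (A : Type u) [CommRing A] (i : MinP (CAlg2.red A)) (p : Ideal A)
    [p.IsPrime] (hp : ∀ a, a ∈ p ↔ Ideal.Quotient.mk (nilradical A) a ∈ i.1) :
    ∃ θ : integralClosure (CAlg2.red A ⧸ i.1) (Kf (CAlg2.red A) i) ≃+* CAlg2.normRed (A ⧸ p),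
      ∀ a : A, θ (algebraMap (CAlg2.red A ⧸ i.1) _
          (Ideal.Quotient.mk i.1 (Ideal.Quotient.mk (nilradical A) a))) =
        iotaD (A ⧸ p) (Ideal.Quotient.mk p a) := by
  let f₁ : A →+* CAlg2.red A ⧸ i.1 :=
    (Ideal.Quotient.mk i.1).comp (Ideal.Quotient.mk (nilradical A))
  let f₂ : A →+* CAlg2.red (A ⧸ p) :=
    (Ideal.Quotient.mk (nilradical (A ⧸ p))).comp (Ideal.Quotient.mk p)
  have hk1 : RingHom.ker f₁ = p := by
    ext a
    rw [RingHom.mem_ker]
    show Ideal.Quotient.mk i.1 (Ideal.Quotient.mk (nilradical A) a) = 0 ↔ _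
    rw [Ideal.Quotient.eq_zero_iff_mem, hp]
  have hk2 : RingHom.ker f₂ = p := by
    ext a
    rw [RingHom.mem_ker]
    show Ideal.Quotient.mk (nilradical (A ⧸ p)) (Ideal.Quotient.mk p a) = 0 ↔ _
    rw [Ideal.Quotient.eq_zero_iff_mem, nilradical_eq_zero, Ideal.zero_eq_bot, Ideal.mem_bot,
      Ideal.Quotient.eq_zero_iff_mem]
  obtain ⟨ε, hε⟩ := exists_ringEquiv_of_surjective f₁ f₂
    (Ideal.Quotient.mk_surjective.comp Ideal.Quotient.mk_surjective)
    (Ideal.Quotient.mk_surjective.comp Ideal.Quotient.mk_surjective) (hk1.trans hk2.symm)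
  obtain ⟨θ, hθ⟩ := exists_intClEquiv ε
  refine ⟨θ, fun a => ?_⟩
  have h1 := hθ (f₁ a)
  rw [hε a] at h1
  exact h1

theorem keyG (A : Type u) [CommRing A] [IsLocalRing A] (h : (minimalPrimes A).Finite)
    (inst : ∀ p : minimalPrimes A, IsLocalRing (A ⧸ p.1)) :
    ENat.card (ChrG (iotaD A) (Brnch.toClosure A)) =
      ∑ᶠ p : minimalPrimes A,
        ENat.card (ChrG (iotaD (A ⧸ p.1)) (@Brnch.toClosure (A ⧸ p.1) _ (inst p))) := by
  classical
  have hmin := minimalPrimes_eq_image A
  have hcinj : Function.Injective (Ideal.comap (Ideal.Quotient.mk (nilradical A))) :=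
    Ideal.comap_injective_of_surjective _ Ideal.Quotient.mk_surjective
  have hfin' := finite_minimalPrimes_red A h
  haveI : IsReduced (CAlg2.red A) :=
    (Ideal.isRadical_iff_quotient_reduced (nilradical A)).mp (Ideal.radical_isRadical _)
  haveI : Finite (MinP (CAlg2.red A)) := hfin'.to_subtype
  haveI : Fintype (MinP (CAlg2.red A)) := Fintype.ofFinite _
  have h1 : ENat.card (ChrG (iotaD A) (Brnch.toClosure A)) =
      ENat.card (ChrG ((Psi (A := CAlg2.red A)).comp (iotaD A)) (Brnch.toClosure A)) :=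
    chrG_card_congr (PsiEquiv hfin') (RingEquiv.refl _) (RingHom.id A) Function.surjective_id
      _ _ _ _ (fun a => rfl) (fun a => rfl)
  rw [h1, chrG_sigma, ← finsum_eq_sum_of_fintype]
  let e : MinP (CAlg2.red A) → minimalPrimes A := fun i =>
    ⟨i.1.comap (Ideal.Quotient.mk (nilradical A)), by rw [hmin]; exact ⟨i.1, i.2, rfl⟩⟩
  have he : Function.Bijective e := by
    constructor
    · intro i j hij
      exact Subtype.ext (hcinj (congrArg Subtype.val hij))
    · rintro ⟨p, hp⟩
      have hp' := hp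
      rw [hmin] at hp'
      obtain ⟨q, hq, rfl⟩ := hp'
      exact ⟨⟨q, hq⟩, rfl⟩
  refine finsum_eq_of_bijective e he (fun i => ?_)
  haveI : (e i).1.IsPrime := (e i).2.1.1
  haveI := inst (e i)
  obtain ⟨θ, hθ⟩ := exists_theta_i A i (e i).1 (fun a => Iff.rfl)
  obtain ⟨ε, hε⟩ := exists_eps A (e i).1
  symm
  exact chrG_card_congr θ.symm ε (Ideal.Quotient.mk (e i).1) Ideal.Quotient.mk_surjective _ _ _ _
    (fun a => by
      rw [RingEquiv.symm_apply_eq, ← hθ a]
      congr 1
      exact (Psi_algebraMap (A := CAlg2.red A) (Ideal.Quotient.mk (nilradical A) a) i).symm)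
    (fun a => hε a)

/-- Geometric branches, in terms of the local ring: for a local ring A with finitely many minimal prime
ideals, the number of geometric branches of A is the sum over the minimal primes p of the numbers of
geometric branches of the local domains A/p. -/
theorem result (A : Type u) [CommRing A] [IsLocalRing A]
    (h : (minimalPrimes A).Finite) :
    Brnch.numGeomBranches A =
      ∑ᶠ p : minimalPrimes A,
        haveI : p.1.IsPrime := p.2.1.1
        Brnch.numGeomBranches (A ⧸ p.1) := by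
  classical
  unfold Brnch.numGeomBranches
  rw [if_pos h, card_sigma_emb A,
    keyG A h (fun p => by haveI : p.1.IsPrime := p.2.1.1; infer_instance)]
  apply finsum_congr
  intro p
  haveI : p.1.IsPrime := p.2.1.1
  have hsing : minimalPrimes (A ⧸ p.1) = {⊥} := IsDomain.minimalPrimes_eq_singleton_bot _
  rw [if_pos (by rw [hsing]; exact Set.finite_singleton _)]
  exact (card_sigma_emb _).symm

end Groth.Agent.S9811
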