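import Mathlib
import Groth.Statements.S9236
import Groth.Agent.Lib.Helper9.BrnchLib
import Groth.Agent.S9811
-- import your own Groth.Agent.* helpers here

set_option autoImplicit false
universe u
open Brnch

namespace Groth.Agent.S9236


open Groth.Agent.Helper9.TotFrac Groth.Agent.S9811

theorem lemmaP {F E K : Type u} [Field F] [Field E] [Field K] [Algebra F K] [IsAlgClosed K]
    (g : F →+* E) (hg : g.IsIntegral) :
    Nonempty {σ : E →+* K // σ.comp g = algebraMap F K} ∧
    (Subsingleton {σ : E →+* K // σ.comp g = algebraMap F K} ↔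
      ∀ x : E, ∃ n : ℕ, x ^ (ringExpChar E) ^ n ∈ g.range) := by
  letI : Algebra F E := g.toAlgebra
  haveI : Algebra.IsIntegral F E := ⟨hg⟩
  haveI : Algebra.IsAlgebraic F E := Algebra.IsIntegral.isAlgebraic
  let toX : (E →ₐ[F] K) → {σ : E →+* K // σ.comp g = algebraMap F K} :=
    fun φ => ⟨φ.toRingHom, φ.comp_algebraMap⟩
  let ofX : {σ : E →+* K // σ.comp g = algebraMap F K} → (E →ₐ[F] K) :=
    fun σ => { σ.1 with commutes' := fun c => DFunLike.congr_fun σ.2 c }
  constructor
  · exact ⟨toX IsAlgClosed.lift⟩
  · have hiff : Subsingleton {σ : E →+* K // σ.comp g = algebraMap F K} ↔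
        Subsingleton (E →ₐ[F] K) := by
      constructor
      · intro h
        refine ⟨fun φ ψ => ?_⟩
        have h1 := h.elim (toX φ) (toX ψ)
        exact AlgHom.coe_ringHom_injective (congrArg Subtype.val h1)
      · intro h
        refine ⟨fun σ σ' => ?_⟩
        have h1 := h.elim (ofX σ) (ofX σ')
        apply Subtype.ext
        apply RingHom.ext
        intro x
        exact DFunLike.congr_fun h1 x
    rw [hiff, ← (Field.embEquivOfIsAlgClosed F E K).subsingleton_congr,
      ← isPurelyInseparable_iff_subsingleton_emb]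
    haveI : ExpChar E (ringExpChar F) :=
      expChar_of_injective_algebraMap (algebraMap F E).injective (ringExpChar F)
    have hq : ringExpChar E = ringExpChar F := ringExpChar.eq E (ringExpChar F)
    rw [hq]
    exact isPurelyInseparable_iff_pow_mem F (ringExpChar F)

section
variable (D : Type u) [CommRing D] [IsLocalRing D] (m' : MaximalSpectrum (CAlg2.normRed D))

theorem toResidue_kills (a : D) (ha : a ∈ IsLocalRing.maximalIdeal D) :
    Brnch.toResidue D m' a = 0 := by
  have hmax : (m'.asIdeal.comap (iotaD D)).IsMaximal :=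
    Ideal.isMaximal_comap_of_isIntegral_of_isMaximal' (iotaD D) (iotaD_isIntegral D) m'.asIdeal
  have heq : m'.asIdeal.comap (iotaD D) = IsLocalRing.maximalIdeal D :=
    IsLocalRing.eq_maximalIdeal hmax
  have hmem : iotaD D a ∈ m'.asIdeal := by
    rw [← heq] at ha
    exact ha
  exact Ideal.Quotient.eq_zero_iff_mem.mpr hmem

/-- the residue field extension -/
noncomputable def gRes : IsLocalRing.ResidueField D →+* CAlg2.normRed D ⧸ m'.asIdeal :=
  Ideal.Quotient.lift (IsLocalRing.maximalIdeal D) (Brnch.toResidue D m') (toResidue_kills D m')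

theorem gRes_residue (a : D) : gRes D m' (IsLocalRing.residue D a) = Brnch.toResidue D m' a := rfl

theorem gRes_isIntegral : (gRes D m').IsIntegral := by
  have h1 : ((gRes D m').comp (IsLocalRing.residue D)).IsIntegral := by
    have h2 : (gRes D m').comp (IsLocalRing.residue D) =
        (Ideal.Quotient.mk m'.asIdeal).comp (iotaD D) := rfl
    rw [h2]
    have hs : Function.Surjective (Ideal.Quotient.mk m'.asIdeal) := Ideal.Quotient.mk_surjective
    have hmk : (Ideal.Quotient.mk m'.asIdeal).IsIntegral :=
      @RingHom.isIntegral_of_surjective (CAlg2.normRed D) (CAlg2.normRed D ⧸ m'.asIdeal) _ _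
        (Ideal.Quotient.mk m'.asIdeal) hs
    exact @RingHom.IsIntegral.trans D (CAlg2.normRed D) (CAlg2.normRed D ⧸ m'.asIdeal) _ _ _
      (iotaD D) (Ideal.Quotient.mk m'.asIdeal) (iotaD_isIntegral D) hmk
  intro x
  obtain ⟨P, hPm, hP⟩ := h1 x
  exact ⟨P.map (IsLocalRing.residue D), hPm.map _, by rwa [← Polynomial.eval₂_map] at hP⟩

theorem emb_iff (σ : CAlg2.normRed D ⧸ m'.asIdeal →+* AlgebraicClosure (IsLocalRing.ResidueField D)) :
    σ.comp (Brnch.toResidue D m') = Brnch.toClosure D ↔
      σ.comp (gRes D m') = algebraMap (IsLocalRing.ResidueField D)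
        (AlgebraicClosure (IsLocalRing.ResidueField D)) := by
  constructor
  · intro h
    apply (RingHom.cancel_right (IsLocalRing.residue_surjective (R := D))).mp
    exact h
  · intro h
    have h1 : σ.comp (Brnch.toResidue D m') =
        (σ.comp (gRes D m')).comp (IsLocalRing.residue D) := rfl
    rw [h1, h]
    rfl

theorem emb_nonempty : Nonempty (Brnch.Emb D m') := by
  letI := Ideal.Quotient.field m'.asIdeal
  obtain ⟨σ⟩ := (lemmaP (K := AlgebraicClosure (IsLocalRing.ResidueField D)) (gRes D m')
    (gRes_isIntegral D m')).1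
  exact ⟨⟨σ.1, (emb_iff D m' σ.1).mpr σ.2⟩⟩

theorem emb_subsingleton_iff :
    Subsingleton (Brnch.Emb D m') ↔
      ∀ x : CAlg2.normRed D ⧸ m'.asIdeal, ∃ n : ℕ,
        x ^ (ringExpChar (CAlg2.normRed D ⧸ m'.asIdeal)) ^ n ∈ (Brnch.toResidue D m').range := by
  letI := Ideal.Quotient.field m'.asIdeal
  have h2 := (lemmaP (K := AlgebraicClosure (IsLocalRing.ResidueField D)) (gRes D m')
    (gRes_isIntegral D m')).2
  have hrange : (gRes D m').range = (Brnch.toResidue D m').range := by
    ext y
    constructor
    · rintro ⟨c, rfl⟩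
      obtain ⟨a, rfl⟩ := IsLocalRing.residue_surjective c
      exact ⟨a, rfl⟩
    · rintro ⟨a, rfl⟩
      exact ⟨IsLocalRing.residue D a, rfl⟩
  rw [hrange] at h2
  rw [← h2]
  exact (Equiv.subtypeEquivRight (fun σ => emb_iff D m' σ)).subsingleton_congr

end

/-- A local ring A has exactly one geometric branch if and only if it is geometrically unibranch
(unibranch with purely inseparable residue field extension of the integral closure). The number of
geometric branches counts the maximal ideals of the integral closure of A_red in its total ring of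
fractions with multiplicity the separable degree of the residue field extension. -/
theorem result (A : Type u) [CommRing A] [IsLocalRing A] :
    Brnch.numGeomBranches A = 1 ↔ CAlg2.IsGeomUnibranch A := by
  classical
  constructor
  · intro h1
    by_cases hfin : (minimalPrimes A).Finite
    · have h1' := h1
      unfold Brnch.numGeomBranches at h1'
      rw [if_pos hfin] at h1'
      obtain ⟨hu⟩ := ENat.card_eq_one_iff_unique.mp h1'
      have hsub : ∀ m₁ m₂ : MaximalSpectrum (CAlg2.normRed A), m₁ = m₂ := by
        intro m₁ m₂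
        obtain ⟨σ₁⟩ := emb_nonempty A m₁
        obtain ⟨σ₂⟩ := emb_nonempty A m₂
        have h2 : (⟨m₁, σ₁⟩ : Σ m' : MaximalSpectrum (CAlg2.normRed A), Brnch.Emb A m') =
            ⟨m₂, σ₂⟩ := (hu.uniq _).trans (hu.uniq _).symm
        exact congrArg Sigma.fst h2
      have hnb : Brnch.numBranches A = 1 := by
        unfold Brnch.numBranches
        rw [if_pos hfin, ENat.card_eq_one_iff_unique]
        exact ⟨{ default := hu.default.1, uniq := fun m => hsub _ _ }⟩
      refine ⟨(Groth.Agent.S9235.result A).mp hnb, ?_⟩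
      intro m' hm' x
      have hss : Subsingleton (Brnch.Emb A ⟨m', hm'⟩) := by
        refine ⟨fun σ σ' => ?_⟩
        have h2 : (⟨⟨m', hm'⟩, σ⟩ : Σ m' : MaximalSpectrum (CAlg2.normRed A), Brnch.Emb A m') =
            ⟨⟨m', hm'⟩, σ'⟩ := (hu.uniq _).trans (hu.uniq _).symm
        exact eq_of_heq (Sigma.mk.inj h2).2
      exact (emb_subsingleton_iff A ⟨m', hm'⟩).mp hss x
    · unfold Brnch.numGeomBranches at h1
      rw [if_neg hfin] at h1
      exact absurd h1 (by simp)
  · rintro ⟨hub, hpi⟩
    have hnb := (Groth.Agent.S9235.result A).mpr hub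
    have hfin : (minimalPrimes A).Finite := by
      by_contra hfin
      unfold Brnch.numBranches at hnb
      rw [if_neg hfin] at hnb
      exact absurd hnb (by simp)
    unfold Brnch.numBranches at hnb
    rw [if_pos hfin] at hnb
    obtain ⟨hu⟩ := ENat.card_eq_one_iff_unique.mp hnb
    unfold Brnch.numGeomBranches
    rw [if_pos hfin, ENat.card_eq_one_iff_unique]
    have hss : ∀ m : MaximalSpectrum (CAlg2.normRed A), Subsingleton (Brnch.Emb A m) := fun m =>
      (emb_subsingleton_iff A m).mpr (fun x => @hpi m.asIdeal m.isMaximal x)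
    refine ⟨{ default := ⟨hu.default, Classical.choice (emb_nonempty A hu.default)⟩
              uniq := ?_ }⟩
    rintro ⟨m, σ⟩
    have hm : m = hu.default := hu.uniq m
    subst hm
    congr 1
    exact (hss _).elim _ _

end Groth.Agent.S9236
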