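import Mathlib
import Groth.Statements.S12463
import Groth.Agent.S7652
import Groth.Agent.S7651
import Groth.Agent.S9236
import Groth.Agent.S9811
import Groth.Agent.S7655
import Groth.Agent.Lib.Helper9.BrnchLib
-- import your own Groth.Agent.* helpers here

set_option autoImplicit false
universe u
open Variety

namespace Groth.Agent.S12463

open Groth.Agent.Helper9.TotFrac Groth.Agent.S9811

theorem enat_aux (n : ℕ) (lW lU lQ lC : ℕ∞) (h1 : (n:ℕ∞) ≤ lW) (h2 : lW = lU + lQ) (h3 : lU ≤ 1)
    (h4 : lQ ≤ lC) (h5 : lC + 1 ≤ n) : lW = n ∧ lQ = lC ∧ lC ≠ ⊤ := by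
  have hC : lC ≠ ⊤ := by
    rintro rfl
    rw [top_add, top_le_iff] at h5
    exact ENat.coe_ne_top n h5
  lift lC to ℕ using hC
  have hQ : lQ ≠ ⊤ := ne_top_of_le_ne_top (ENat.coe_ne_top _) h4
  lift lQ to ℕ using hQ
  have hU : lU ≠ ⊤ := ne_top_of_le_ne_top ENat.one_ne_top h3
  lift lU to ℕ using hU
  have hW : lW ≠ ⊤ := by rw [h2, ← Nat.cast_add]; exact ENat.coe_ne_top _
  lift lW to ℕ using hW
  norm_cast at h1 h2 h3 h4 h5
  refine ⟨?_, ?_, ENat.coe_ne_top _⟩
  · norm_cast; omega
  · norm_cast; omega

theorem enat_aux2 (n : ℕ) (x : ℕ∞) (h : (n:ℕ∞) = n + x) : x = 0 := by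
  have hx : x ≠ ⊤ := by
    rintro rfl
    rw [add_top] at h
    exact ENat.coe_ne_top n h
  lift x to ℕ using hx
  norm_cast at h ⊢
  omega

theorem enat_aux3 (a b c : ℕ∞) (h : a = b + c) (hca : c = a) (ha : a ≠ ⊤) : b = 0 := by
  subst hca
  lift c to ℕ using ha
  have hb : b ≠ ⊤ := by
    rintro rfl
    rw [top_add] at h
    exact ENat.coe_ne_top c h
  lift b to ℕ using hb
  norm_cast at h ⊢
  omega

theorem core2 {A C L : Type u} [CommRing A] [IsLocalRing A] [CommRing C]
    [Algebra A C] [Field L] (τ : A →+* L) (hτ : ∀ a ∈ IsLocalRing.maximalIdeal A, τ a = 0)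
    {ι : Type u} [Fintype ι] [DecidableEq ι] (ψ : ι → C →+* L)
    (hcomp : ∀ j, (ψ j).comp (algebraMap A C) = τ)
    (e : ι → C) (he : ∀ i j, ψ i (e j) = if i = j then 1 else 0)
    (hlen : Module.length A (C ⧸ LinearMap.range (Algebra.linearMap A C)) + 1 ≤
      (Fintype.card ι : ℕ∞)) :
    (∀ c : C, (∀ j, ψ j c = 0) → c ∈ LinearMap.range (Algebra.linearMap A C)) ∧
    (∀ (c : C) (j : ι), ∃ a : A, ψ j c = τ a) := by
  classical
  let m := IsLocalRing.maximalIdeal A
  let k := A ⧸ m
  letI : Field k := Ideal.Quotient.field m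
  let τ' : k →+* L := Ideal.Quotient.lift m τ hτ
  letI algkL : Algebra k L := τ'.toAlgebra
  letI algAL : Algebra A L := τ.toAlgebra
  haveI : IsScalarTower A k L := IsScalarTower.of_algebraMap_eq
    (fun a => (Ideal.Quotient.lift_mk m τ hτ).symm)
  let ψl : ι → C →ₗ[A] L := fun j =>
    { toFun := ψ j
      map_add' := map_add _
      map_smul' := fun a c => by
        show ψ j (a • c) = τ a * ψ j c
        rw [Algebra.smul_def, map_mul, ← hcomp j]; rfl }
  let Φ : C →ₗ[A] (ι → L) := LinearMap.pi ψl
  let w : ι → (ι → L) := fun j => Φ (e j)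
  have hw : w = ⇑(Pi.basisFun L ι) := by
    funext j i
    show ψ i (e j) = (Pi.basisFun L ι) j i
    rw [Pi.basisFun_apply, he, Pi.single_apply]
  have hwli : LinearIndependent L w := hw ▸ (Pi.basisFun L ι).linearIndependent
  have hwk : LinearIndependent k w := hwli.restrict_scalars (by
    intro r r' h
    have h' : algebraMap k L r = algebraMap k L r' := by
      simpa [Algebra.smul_def] using h
    exact (algebraMap k L).injective h')
  let g0 : (ι → k) →ₗ[A] (ι → L) := (Fintype.linearCombination k w).restrictScalars A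
  have hg0inj : Function.Injective g0 := hwk.fintypeLinearCombination_injective
  have hg0app : ∀ x i, g0 x i = τ' (x i) := by
    intro x i
    show (∑ j, x j • w j) i = _
    rw [Finset.sum_apply, Finset.sum_eq_single i]
    · show x i • (w i i) = τ' (x i)
      have : w i i = 1 := by show ψ i (e i) = 1; rw [he, if_pos rfl]
      rw [this, Algebra.smul_def, mul_one]; rfl
    · intro j _ hji
      show x j • (w j i) = 0
      have : w j i = 0 := by show ψ i (e j) = 0; rw [he, if_neg (Ne.symm hji)]
      rw [this, smul_zero]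
    · intro h; exact absurd (Finset.mem_univ i) h
  let W : Submodule A (ι → L) := LinearMap.range Φ
  have hg0W : ∀ x, g0 x ∈ W := by
    intro x
    show ∑ j, x j • w j ∈ W
    refine Submodule.sum_mem _ fun j _ => ?_
    obtain ⟨a, ha⟩ := Ideal.Quotient.mk_surjective (x j)
    rw [← ha]
    have h1 : (Ideal.Quotient.mk m a : k) • Φ (e j) = a • Φ (e j) := algebraMap_smul k a (Φ (e j))
    show (Ideal.Quotient.mk m a : k) • Φ (e j) ∈ W
    rw [h1, ← map_smul]
    exact ⟨_, rfl⟩
  haveI : IsSimpleModule A k :=
    isSimpleModule_iff_isCoatom.mpr (Ideal.isMaximal_def.mp inferInstance)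
  have hlenk : Module.length A (ι → k) = Fintype.card ι := by
    rw [Module.length_pi_of_fintype]; simp
  have hlen1 : (Fintype.card ι : ℕ∞) ≤ Module.length A W := by
    have h1 := Module.length_le_of_injective (g0.codRestrict W hg0W)
      (fun x y h => hg0inj (congrArg Subtype.val h))
    rw [hlenk] at h1; exact h1
  let R : Submodule A C := LinearMap.range (Algebra.linearMap A C)
  let Φr : C →ₗ[A] W := Φ.rangeRestrict
  have hΦr : Function.Surjective Φr := Φ.surjective_rangeRestrict
  let ρ : A →ₗ[A] W := Φr.comp (Algebra.linearMap A C)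
  let U : Submodule A W := LinearMap.range ρ
  have hlenU : Module.length A U ≤ 1 := by
    have hker : m ≤ LinearMap.ker ρ := by
      intro a ha
      rw [LinearMap.mem_ker]
      apply Subtype.ext
      funext j
      show ψ j (algebraMap A C a) = 0
      rw [← RingHom.comp_apply, hcomp j]; exact hτ a ha
    let ρ' : k →ₗ[A] W := Submodule.liftQ m ρ hker
    have h1 : Module.length A U ≤ Module.length A k :=
      Module.length_le_of_surjective (ρ'.codRestrict U (fun x => by
          obtain ⟨a, rfl⟩ := Submodule.Quotient.mk_surjective _ x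
          exact ⟨a, rfl⟩)) (by
          rintro ⟨u, a, rfl⟩
          exact ⟨Submodule.Quotient.mk a, Subtype.ext rfl⟩)
    rw [Module.length_eq_one A k] at h1
    exact h1
  have hRU : R ≤ Submodule.comap Φr U := by
    rintro _ ⟨a, rfl⟩
    exact ⟨a, rfl⟩
  let mQ : (C ⧸ R) →ₗ[A] (W ⧸ U) := Submodule.mapQ R U Φr hRU
  have hmQsurj : Function.Surjective mQ := by
    intro y
    obtain ⟨y, rfl⟩ := Submodule.Quotient.mk_surjective _ y
    obtain ⟨c, rfl⟩ := hΦr y
    exact ⟨Submodule.Quotient.mk c, rfl⟩
  have hlenQ : Module.length A (W ⧸ U) ≤ Module.length A (C ⧸ R) :=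
    Module.length_le_of_surjective mQ hmQsurj
  have hadd : Module.length A W = Module.length A U + Module.length A (W ⧸ U) :=
    Module.length_eq_add_of_exact U.subtype U.mkQ (Submodule.subtype_injective _)
      (Submodule.mkQ_surjective _) (LinearMap.exact_subtype_mkQ U)
  obtain ⟨hWn, hQC, hCtop⟩ := enat_aux (Fintype.card ι) _ _ _ _ hlen1 hadd hlenU hlenQ hlen
  constructor
  · intro c hc
    let K : Submodule A (C ⧸ R) := LinearMap.ker mQ
    have haddK : Module.length A (C ⧸ R) = Module.length A K + Module.length A (W ⧸ U) :=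
      Module.length_eq_add_of_exact K.subtype mQ (Submodule.subtype_injective _) hmQsurj
        (LinearMap.exact_subtype_ker_map mQ)
    have hK0 : Module.length A K = 0 := enat_aux3 _ _ _ haddK hQC hCtop
    haveI : Subsingleton K := Module.length_eq_zero_iff.mp hK0
    have hmem : (Submodule.Quotient.mk c : C ⧸ R) ∈ K := by
      show mQ (Submodule.Quotient.mk c) = 0
      show (Submodule.Quotient.mk (Φr c) : W ⧸ U) = 0
      have : Φr c = 0 := Subtype.ext (funext fun j => hc j)
      rw [this, Submodule.Quotient.mk_zero]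
    have h0 : (⟨_, hmem⟩ : K) = 0 := Subsingleton.elim _ _
    have h1 : (Submodule.Quotient.mk c : C ⧸ R) = 0 := congrArg Subtype.val h0
    exact (Submodule.Quotient.mk_eq_zero R).mp h1
  · intro c j
    let g0W : (ι → k) →ₗ[A] W := g0.codRestrict W hg0W
    have hg0Winj : Function.Injective g0W := fun x y h => hg0inj (congrArg Subtype.val h)
    let V : Submodule A W := LinearMap.range g0W
    have hlenV : Module.length A V = Fintype.card ι := by
      rw [← (LinearEquiv.ofInjective g0W hg0Winj).length_eq, hlenk]
    have haddV : Module.length A W = Module.length A V + Module.length A (W ⧸ V) :=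
      Module.length_eq_add_of_exact V.subtype V.mkQ (Submodule.subtype_injective _)
        (Submodule.mkQ_surjective _) (LinearMap.exact_subtype_mkQ V)
    have hV0 : Module.length A (W ⧸ V) = 0 := by
      rw [hWn, hlenV] at haddV
      exact enat_aux2 _ _ haddV
    haveI : Subsingleton (W ⧸ V) := Module.length_eq_zero_iff.mp hV0
    have hVtop : V = ⊤ := Submodule.Quotient.subsingleton_iff.mp inferInstance
    have hcV : Φr c ∈ V := hVtop ▸ Submodule.mem_top
    obtain ⟨x, hx⟩ := hcV
    obtain ⟨a, ha⟩ := Ideal.Quotient.mk_surjective (x j)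
    refine ⟨a, ?_⟩
    have h1 : g0 x j = ψ j c := congrFun (congrArg Subtype.val hx) j
    rw [← h1, hg0app, ← ha]
    rfl

theorem emb_unique (A : Type u) [CommRing A] [IsLocalRing A]
    [IsSepClosed (IsLocalRing.ResidueField A)]
    (m : MaximalSpectrum (CAlg2.normRed A)) : Nonempty (Unique (Brnch.Emb A m)) := by
  obtain ⟨σ₀⟩ := Groth.Agent.S9236.emb_nonempty A m
  refine ⟨⟨⟨σ₀⟩, fun σ => ?_⟩⟩
  letI : Field (CAlg2.normRed A ⧸ m.asIdeal) := Ideal.Quotient.field m.asIdeal
  letI : Algebra (IsLocalRing.ResidueField A) (CAlg2.normRed A ⧸ m.asIdeal) :=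
    (Groth.Agent.S9236.gRes A m).toAlgebra
  haveI : Algebra.IsIntegral (IsLocalRing.ResidueField A) (CAlg2.normRed A ⧸ m.asIdeal) :=
    ⟨Groth.Agent.S9236.gRes_isIntegral A m⟩
  haveI : Algebra.IsAlgebraic (IsLocalRing.ResidueField A) (CAlg2.normRed A ⧸ m.asIdeal) :=
    Algebra.IsIntegral.isAlgebraic
  haveI : IsPurelyInseparable (IsLocalRing.ResidueField A) (CAlg2.normRed A ⧸ m.asIdeal) :=
    inferInstance
  apply Subtype.ext
  apply IsPurelyInseparable.injective_comp_algebraMap (IsLocalRing.ResidueField A)
    (CAlg2.normRed A ⧸ m.asIdeal) (AlgebraicClosure (IsLocalRing.ResidueField A))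
  show σ.1.comp (Groth.Agent.S9236.gRes A m) = σ₀.1.comp (Groth.Agent.S9236.gRes A m)
  rw [(Groth.Agent.S9236.emb_iff A m σ.1).mp σ.2, (Groth.Agent.S9236.emb_iff A m σ₀.1).mp σ₀.2]


/-- Let (A, m) be a strictly henselian reduced Nagata local ring of dimension one with δ-invariant equal
to the number of geometric branches minus one, and A' the integral closure of A in its total ring of
fractions. Then A is a wedge of discrete valuation rings: for every maximal ideal m' of A' the
localization A'_{m'} is a discrete valuation ring whose residue field is the image of A, and A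
consists exactly of the elements of A' congruent to an element of A modulo every maximal ideal of A'
(the displayed inclusion; the reverse inclusion is trivial). (The inequality δ ≥ branches − 1 of the
published statement holds for every reduced Nagata local ring of dimension one and is not restated.) -/
theorem result (A : Type u) [CommRing A] [HenselianLocalRing A]
    [IsSepClosed (IsLocalRing.ResidueField A)] [IsReduced A] (hN : CAlg.IsNagata A) (hdim : ringKrullDim A = 1)
    (heq : Curv2.deltaInv A + 1 = Brnch.numGeomBranches A) :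
    (∀ m' : MaximalSpectrum ↥(integralClosure A (FractionRing A)),
        (∃ _ : IsDomain (Localization.AtPrime m'.asIdeal), IsDiscreteValuationRing (Localization.AtPrime m'.asIdeal)) ∧
        Function.Surjective (⇑(IsLocalRing.residue (Localization.AtPrime m'.asIdeal)) ∘
          ⇑(algebraMap ↥(integralClosure A (FractionRing A)) (Localization.AtPrime m'.asIdeal)) ∘
          ⇑(algebraMap A ↥(integralClosure A (FractionRing A))))) ∧
    ∀ a' : ↥(integralClosure A (FractionRing A)),
      (∃ a : A, ∀ m' : MaximalSpectrum ↥(integralClosure A (FractionRing A)),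
          a' - algebraMap A _ a ∈ m'.asIdeal) →
      a' ∈ (algebraMap A ↥(integralClosure A (FractionRing A))).range := by
  classical
  haveI : IsNoetherianRing A := hN.1
  obtain ⟨hfinA', hnormal, hδ⟩ := Groth.Agent.S7652.result A hN hdim
  let e : A ≃+* CAlg2.red A := RingEquiv.ofBijective (Ideal.Quotient.mk (nilradical A))
    ⟨by
      rw [injective_iff_map_eq_zero]
      intro a ha
      rw [Ideal.Quotient.eq_zero_iff_mem, nilradical_eq_zero] at ha
      exact ha, Ideal.Quotient.mk_surjective⟩
  obtain ⟨θ, hθ⟩ := exists_intClEquiv e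
  have huniq : ∀ m : MaximalSpectrum (CAlg2.normRed A), Nonempty (Unique (Brnch.Emb A m)) :=
    emb_unique A
  letI : ∀ m, Unique (Brnch.Emb A m) := fun m => (huniq m).some
  have hcard : Brnch.numGeomBranches A = ENat.card (MaximalSpectrum (CAlg2.normRed A)) := by
    unfold Brnch.numGeomBranches
    rw [if_pos (minimalPrimes.finite_of_isNoetherianRing A)]
    exact ENat.card_congr (Equiv.sigmaUnique _ _)
  rw [hcard] at heq
  haveI : Finite (MaximalSpectrum (CAlg2.normRed A)) := by
    rw [← ENat.card_lt_top, ← heq]
    exact WithTop.add_lt_top.mpr ⟨hδ, ENat.coe_lt_top 1⟩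
  letI : Fintype (MaximalSpectrum (CAlg2.normRed A)) := Fintype.ofFinite _
  rw [ENat.card_eq_coe_fintype_card] at heq
  let σ : ∀ m : MaximalSpectrum (CAlg2.normRed A), Brnch.Emb A m := fun m => default
  let ψ : MaximalSpectrum (CAlg2.normRed A) → (integralClosure A (FractionRing A)) →+*
      AlgebraicClosure (IsLocalRing.ResidueField A) :=
    fun m => ((σ m).1.comp (Ideal.Quotient.mk m.asIdeal)).comp (θ : _ →+* CAlg2.normRed A)
  have hψ0 : ∀ m c, ψ m c = 0 ↔ θ c ∈ m.asIdeal := by
    intro m c
    letI := Ideal.Quotient.field m.asIdeal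
    show (σ m).1 (Ideal.Quotient.mk m.asIdeal (θ c)) = 0 ↔ _
    rw [map_eq_zero_iff _ (σ m).1.injective, Ideal.Quotient.eq_zero_iff_mem]
  have hτ : ∀ a ∈ IsLocalRing.maximalIdeal A, Brnch.toClosure A a = 0 := fun a ha => by
    unfold Brnch.toClosure
    rw [RingHom.comp_apply, (IsLocalRing.residue_eq_zero_iff a).mpr ha, map_zero]
  have hcomp : ∀ m, (ψ m).comp (algebraMap A (integralClosure A (FractionRing A))) =
      Brnch.toClosure A := by
    intro m
    refine (RingHom.ext fun a => ?_ : _ = (σ m).1.comp (Brnch.toResidue A m)).trans (σ m).2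
    show (σ m).1 (Ideal.Quotient.mk _ (θ (algebraMap A _ a))) = (σ m).1 (Brnch.toResidue A m a)
    rw [hθ a]; rfl
  have hcop : Pairwise (Function.onFun IsCoprime fun m : MaximalSpectrum (CAlg2.normRed A) => m.asIdeal) := by
    intro m m' hne
    haveI := m.isMaximal
    haveI := m'.isMaximal
    exact Ideal.isCoprime_of_isMaximal (fun h => hne (MaximalSpectrum.ext h))
  have hex : ∀ j : MaximalSpectrum (CAlg2.normRed A), ∃ b : CAlg2.normRed A,
      ∀ i : MaximalSpectrum (CAlg2.normRed A), b - (if i = j then 1 else 0) ∈ i.asIdeal :=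
    fun j => Ideal.exists_forall_sub_mem_ideal hcop (fun i => if i = j then 1 else 0)
  choose b hb using hex
  let ee : MaximalSpectrum (CAlg2.normRed A) → integralClosure A (FractionRing A) :=
    fun j => θ.symm (b j)
  have hee : ∀ i j, ψ i (ee j) = if i = j then 1 else 0 := by
    intro i j
    show (σ i).1 (Ideal.Quotient.mk i.asIdeal (θ (θ.symm (b j)))) = _
    rw [RingEquiv.apply_symm_apply]
    have h1 : Ideal.Quotient.mk i.asIdeal (b j) =
        Ideal.Quotient.mk i.asIdeal (if i = j then 1 else 0) :=
      Ideal.Quotient.eq.mpr (hb j i)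
    rw [h1]
    split_ifs
    · rw [map_one, map_one]
    · rw [map_zero, map_zero]
  have hlen : Module.length A (integralClosure A (FractionRing A) ⧸
      LinearMap.range (Algebra.linearMap A (integralClosure A (FractionRing A)))) + 1 ≤
      (Fintype.card (MaximalSpectrum (CAlg2.normRed A)) : ℕ∞) := le_of_eq heq
  obtain ⟨hI, hII⟩ := core2 (Brnch.toClosure A) hτ ψ hcomp ee hee hlen
  have hmaxcomap : ∀ m : MaximalSpectrum (CAlg2.normRed A),
      (m.asIdeal.comap (θ : integralClosure A (FractionRing A) →+* CAlg2.normRed A)).IsMaximal := fun m => by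
    haveI := m.isMaximal
    exact Ideal.comap_isMaximal_of_surjective (θ : integralClosure A (FractionRing A) →+* CAlg2.normRed A) θ.surjective
  have hmaxcomap' : ∀ m' : MaximalSpectrum (integralClosure A (FractionRing A)),
      (m'.asIdeal.comap (θ.symm : CAlg2.normRed A →+* integralClosure A (FractionRing A))).IsMaximal := fun m' => by
    haveI := m'.isMaximal
    exact Ideal.comap_isMaximal_of_surjective (θ.symm : CAlg2.normRed A →+* integralClosure A (FractionRing A)) θ.symm.surjective
  refine ⟨fun m' => ?_, fun a' ⟨a, ha⟩ => ?_⟩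
  swap
  · have hc : a' - algebraMap A _ a ∈
        LinearMap.range (Algebra.linearMap A (integralClosure A (FractionRing A))) := by
      apply hI
      intro m
      rw [hψ0]
      exact ha ⟨_, hmaxcomap m⟩
    obtain ⟨a₀, ha₀⟩ := hc
    refine ⟨a₀ + a, ?_⟩
    rw [map_add]
    have : algebraMap A (integralClosure A (FractionRing A)) a₀ = a' - algebraMap A _ a := ha₀
    rw [this, sub_add_cancel]
  · let m : MaximalSpectrum (CAlg2.normRed A) := ⟨_, hmaxcomap' m'⟩
    have hψm : ∀ c, ψ m c = 0 ↔ c ∈ m'.asIdeal := by
      intro c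
      rw [hψ0]
      show θ.symm (θ c) ∈ m'.asIdeal ↔ _
      rw [RingEquiv.symm_apply_apply]
    constructor
    · obtain ⟨hdom, hic⟩ := hnormal ⟨m'.asIdeal, inferInstance⟩
      haveI : IsDomain (Localization.AtPrime m'.asIdeal) := hdom
      haveI : IsIntegrallyClosed (Localization.AtPrime m'.asIdeal) := hic
      refine ⟨hdom, ?_⟩
      haveI : IsNoetherianRing (integralClosure A (FractionRing A)) :=
        IsNoetherianRing.of_finite A _
      haveI : IsNoetherianRing (Localization.AtPrime m'.asIdeal) :=
        IsLocalization.isNoetherianRing m'.asIdeal.primeCompl _ inferInstance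
      have hdimA' : ringKrullDim (integralClosure A (FractionRing A)) ≤ 1 := by
        rw [← hdim]
        apply Order.krullDim_le_of_strictMono
          (PrimeSpectrum.comap (algebraMap A (integralClosure A (FractionRing A))))
        intro P Q hPQ
        rw [← PrimeSpectrum.asIdeal_lt_asIdeal] at hPQ ⊢
        exact Ideal.IsIntegral.comap_lt_comap hPQ
      haveI : Ring.KrullDimLE 1 (Localization.AtPrime m'.asIdeal) := by
        rw [Ring.krullDimLE_iff, Nat.cast_one,
          IsLocalization.AtPrime.ringKrullDim_eq_height m'.asIdeal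
            (Localization.AtPrime m'.asIdeal)]
        exact (Ideal.height_le_ringKrullDim_of_ne_top m'.isMaximal.ne_top).trans hdimA'
      have hne : IsLocalRing.maximalIdeal (Localization.AtPrime m'.asIdeal) ≠ ⊥ := by
        obtain ⟨t, htm, htavoid⟩ := Groth.Agent.S7651.exists_avoid hdim
        have htnzd : t ∈ nonZeroDivisors A := nzd_of_avoid_reduced t htavoid
        have htm' : algebraMap A (integralClosure A (FractionRing A)) t ∈ m'.asIdeal := by
          have hmax : (m'.asIdeal.comap
              (algebraMap A (integralClosure A (FractionRing A)))).IsMaximal :=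
            Ideal.isMaximal_comap_of_isIntegral_of_isMaximal m'.asIdeal
          have heq' := IsLocalRing.eq_maximalIdeal hmax
          have : t ∈ m'.asIdeal.comap (algebraMap A _) := heq' ▸ htm
          exact this
        intro hbot
        have h1 : algebraMap _ (Localization.AtPrime m'.asIdeal) (algebraMap A _ t) ∈
            IsLocalRing.maximalIdeal (Localization.AtPrime m'.asIdeal) :=
          (IsLocalization.AtPrime.to_map_mem_maximal_iff _ m'.asIdeal _).mpr htm'
        rw [hbot, Ideal.mem_bot, IsLocalization.map_eq_zero_iff m'.asIdeal.primeCompl] at h1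
        obtain ⟨s, hs⟩ := h1
        have hs0 : (s : integralClosure A (FractionRing A)) = 0 := by
          apply Subtype.ext
          have h2 : ((s : integralClosure A (FractionRing A)) : FractionRing A) *
              algebraMap A (FractionRing A) t = 0 := congrArg Subtype.val hs
          have hu : IsUnit (algebraMap A (FractionRing A) t) :=
            IsLocalization.map_units (FractionRing A) ⟨t, htnzd⟩
          exact (hu.mul_left_eq_zero).mp h2
        exact s.2 (hs0 ▸ Ideal.zero_mem _)
      have h4 : IsIntegrallyClosed (Localization.AtPrime m'.asIdeal) ∧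
          ∀ P : Ideal (Localization.AtPrime m'.asIdeal), P ≠ ⊥ → P.IsPrime →
            P = IsLocalRing.maximalIdeal (Localization.AtPrime m'.asIdeal) :=
        ⟨hic, fun P hP hPp => IsLocalRing.eq_maximalIdeal (hPp.isMaximal_of_ne_bot hP)⟩
      have hPID : IsPrincipalIdealRing (Localization.AtPrime m'.asIdeal) :=
        ((tfae_of_isNoetherianRing_of_isLocalRing_of_isDomain
          (Localization.AtPrime m'.asIdeal)).out 3 0).mp h4
      exact { hPID with not_a_field' := hne }
    · intro y
      let ρ : integralClosure A (FractionRing A) →+*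
          IsLocalRing.ResidueField (Localization.AtPrime m'.asIdeal) :=
        (IsLocalRing.residue (Localization.AtPrime m'.asIdeal)).comp (algebraMap _ _)
      have hρ : ∀ c, ρ c = 0 ↔ c ∈ m'.asIdeal := by
        intro c
        show IsLocalRing.residue (Localization.AtPrime m'.asIdeal)
          (algebraMap _ (Localization.AtPrime m'.asIdeal) c) = 0 ↔ _
        rw [IsLocalRing.residue_eq_zero_iff,
          IsLocalization.AtPrime.to_map_mem_maximal_iff (Localization.AtPrime m'.asIdeal)
            m'.asIdeal]
      have hρA : ∀ c, ∃ a : A, ρ c = ρ (algebraMap A _ a) := by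
        intro c
        obtain ⟨a, ha⟩ := hII c m
        refine ⟨a, ?_⟩
        rw [← sub_eq_zero, ← map_sub, hρ, ← hψm, map_sub, ha, sub_eq_zero]
        exact (DFunLike.congr_fun (hcomp m) a).symm
      obtain ⟨x, rfl⟩ := IsLocalRing.residue_surjective y
      obtain ⟨⟨c, s⟩, hcs⟩ := IsLocalization.surj m'.asIdeal.primeCompl x
      have hcs' : IsLocalRing.residue (Localization.AtPrime m'.asIdeal) x * ρ s.1 = ρ c := by
        show IsLocalRing.residue _ x * IsLocalRing.residue _ (algebraMap _ _ s.1) =
          IsLocalRing.residue _ (algebraMap _ _ c)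
        rw [← map_mul]; exact congrArg _ hcs
      obtain ⟨ac, hac⟩ := hρA c
      obtain ⟨as, has⟩ := hρA s.1
      have hsne : ρ s.1 ≠ 0 := fun h => (Ideal.mem_primeCompl_iff.mp s.2) ((hρ _).mp h)
      have hasu : IsUnit as := by
        by_contra hnu
        have h1 : as ∈ IsLocalRing.maximalIdeal A := (IsLocalRing.mem_maximalIdeal _).mpr hnu
        apply hsne
        rw [has, hρ, ← hψm, ← RingHom.comp_apply, hcomp m]
        exact hτ _ h1
      obtain ⟨u, hu⟩ := hasu.exists_right_inv
      refine ⟨ac * u, ?_⟩
      show ρ (algebraMap A _ (ac * u)) = IsLocalRing.residue _ x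
      apply mul_right_cancel₀ hsne
      have h3 : ac * u * as = ac := by rw [mul_assoc, mul_comm u as, hu, mul_one]
      rw [hcs', hac, has, ← map_mul, ← map_mul, h3]

end Groth.Agent.S12463
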