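import Groth.Statements.S12465
import Groth.Agent.H10.BCIso
import Mathlib
import Mathlib

set_option autoImplicit false
universe u
open CategoryTheory AlgebraicGeometry
open BigSite

namespace Groth.Agent.S12465

/-- On the big étale sites, for a cartesian square g' : T' → T, f' : T' → S', f : T → S, g : S' → S of
schemes, i_g⁻¹ ∘ f_big,* ≅ f'_small,* ∘ i_{g'}⁻¹ as functors from abelian sheaves on (Sch/T)_ét to
abelian sheaves on the small étale site of S'. (Existence of a natural isomorphism; both sides send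
F to U' ↦ F(U' ×_{S'} T'). The binder BCCont f' holds for every morphism.) -/
theorem result {S T S' T' : Scheme.{u}} (f : T ⟶ S) (g : S' ⟶ S) (g' : T' ⟶ T)
    (f' : T' ⟶ S') (hsq : IsPullback g' f' f g) [EtCoh.BCCont f'] :
    Nonempty (BigSite.pushBig Scheme.etalePrecoverage f AddCommGrpCat.{u + 1} ⋙
        BigSite.resEtAlong Scheme.etalePrecoverage g ≅
      BigSite.resEtAlong Scheme.etalePrecoverage g' ⋙ EtCoh.push f') := by
  let JS := QuotSh.J Scheme.etalePrecoverage S
  let JT := QuotSh.J Scheme.etalePrecoverage T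
  let JS' := QuotSh.J Scheme.etalePrecoverage S'
  let JT' := QuotSh.J Scheme.etalePrecoverage T'
  let H1 : S'.Etale ⥤ Over S := EtFppf.a S' ⋙ Over.map g
  let H2 : T'.Etale ⥤ Over T := EtFppf.a T' ⋙ Over.map g'
  haveI : H1.IsContinuous S'.smallEtaleTopology JS := Functor.isContinuous_comp _ _ _ JS' _
  haveI : H2.IsContinuous T'.smallEtaleTopology JT := Functor.isContinuous_comp _ _ _ JT' _
  haveI : (EtCoh.bc f' ⋙ H2).IsContinuous S'.smallEtaleTopology JT :=
    Functor.isContinuous_comp _ _ _ T'.smallEtaleTopology _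
  let e0 : EtCoh.bc f' ⋙ EtFppf.a T' ≅ EtFppf.a S' ⋙ Over.pullback f' :=
    MorphismProperty.Over.pullbackCompForgetIso (P := EtCoh.etaleMP) (Q := ⊤) f'
  let e : H1 ⋙ Over.pullback f ≅ EtCoh.bc f' ⋙ H2 :=
    Functor.associator _ _ _ ≪≫
      Functor.isoWhiskerLeft (EtFppf.a S') (Groth.Agent.H10.BCIso.bcIso hsq).symm ≪≫
      (Functor.associator _ _ _).symm ≪≫ Functor.isoWhiskerRight e0.symm (Over.map g') ≪≫
      Functor.associator _ _ _
  let i1 : BigSite.pullBig Scheme.etalePrecoverage g AddCommGrpCat.{u + 1} ⋙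
      BigSite.resEt Scheme.etalePrecoverage S' ≅
      H1.sheafPushforwardContinuous AddCommGrpCat.{u + 1} S'.smallEtaleTopology JS :=
    Functor.sheafPushforwardContinuousComp' (F := EtFppf.a S') (G := Over.map g) (Iso.refl _)
      AddCommGrpCat.{u + 1} S'.smallEtaleTopology JS' JS
  let i2 : BigSite.pushBig Scheme.etalePrecoverage f AddCommGrpCat.{u + 1} ⋙
      H1.sheafPushforwardContinuous AddCommGrpCat.{u + 1} S'.smallEtaleTopology JS ≅
      (EtCoh.bc f' ⋙ H2).sheafPushforwardContinuous AddCommGrpCat.{u + 1}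
        S'.smallEtaleTopology JT :=
    Functor.sheafPushforwardContinuousComp' (F := H1) (G := Over.pullback f) e
      AddCommGrpCat.{u + 1} S'.smallEtaleTopology JS JT
  let i3 : BigSite.pullBig Scheme.etalePrecoverage g' AddCommGrpCat.{u + 1} ⋙
      BigSite.resEt Scheme.etalePrecoverage T' ≅
      H2.sheafPushforwardContinuous AddCommGrpCat.{u + 1} T'.smallEtaleTopology JT :=
    Functor.sheafPushforwardContinuousComp' (F := EtFppf.a T') (G := Over.map g') (Iso.refl _)
      AddCommGrpCat.{u + 1} T'.smallEtaleTopology JT' JT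
  let i4 : H2.sheafPushforwardContinuous AddCommGrpCat.{u + 1} T'.smallEtaleTopology JT ⋙
      EtCoh.push f' ≅
      (EtCoh.bc f' ⋙ H2).sheafPushforwardContinuous AddCommGrpCat.{u + 1}
        S'.smallEtaleTopology JT :=
    Functor.sheafPushforwardContinuousComp' (F := EtCoh.bc f') (G := H2) (Iso.refl _)
      AddCommGrpCat.{u + 1} S'.smallEtaleTopology T'.smallEtaleTopology JT
  exact ⟨Functor.isoWhiskerLeft _ i1 ≪≫ i2 ≪≫ i4.symm ≪≫ Functor.isoWhiskerRight i3.symm _⟩

end Groth.Agent.S12465
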