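import Groth.Statements.S12482
import Mathlib

set_option autoImplicit false
universe u
open Dual

namespace Groth.Agent.S12482

/-- truncated family -/
private def xk {A : Type u} [CommRing A] {p : ℕ} (x : Fin p → A) (k : ℕ) : Fin p → A :=
  fun i => if i.val < k then x i else 0

private theorem xk_succ {A : Type u} [CommRing A] {p : ℕ} (x : Fin p → A) (k : ℕ) (h : k < p)
    (i : Fin p) :
    xk x (k + 1) i = xk x k i + (if i = ⟨k, h⟩ then x i else 0) := by
  unfold xk
  by_cases h1 : i.val < k
  · have h2 : i.val < k + 1 := by omega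
    have h3 : i ≠ ⟨k, h⟩ := by
      intro e
      rw [e] at h1
      simp at h1
    rw [if_pos h1, if_pos h2, if_neg h3, add_zero]
  · by_cases h4 : i = ⟨k, h⟩
    · subst h4
      simp
    · have h5 : ¬ i.val < k + 1 := by
        intro h6
        apply h4
        ext
        simp only
        omega
      rw [if_neg h1, if_neg h5, if_neg h4, add_zero]

private theorem xk_top {A : Type u} [CommRing A] {p : ℕ} (x : Fin p → A) : xk x p = x := by
  funext i
  unfold xk
  rw [if_pos i.isLt]

private theorem stepA {A : Type u} [CommRing A] {p : ℕ} (x : Fin p → A)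
    (hreg : RingTheory.Sequence.IsWeaklyRegular A (List.ofFn x))
    (k : ℕ) (h : k < p) (a : A) (ha : x ⟨k, h⟩ * a ∈ Ideal.span (Set.range (xk x k))) :
    a ∈ Ideal.span (Set.range (xk x k)) := by
  have hlen : k < (List.ofFn x).length := by simpa using h
  have h1 := hreg.regular_mod_prev k hlen
  have h2 : (List.ofFn x)[k] = x ⟨k, h⟩ := by simp
  have h3 : (Ideal.ofList ((List.ofFn x).take k) • (⊤ : Submodule A A) : Submodule A A) =
      Ideal.span (Set.range (xk x k)) := by
    have e0 : (Ideal.ofList ((List.ofFn x).take k) • (⊤ : Submodule A A) : Submodule A A) =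
        Ideal.ofList ((List.ofFn x).take k) := by
      show Ideal.ofList _ • (⊤ : Ideal A) = _
      rw [Ideal.smul_eq_mul, Ideal.mul_top]
    rw [e0]
    apply le_antisymm
    · rw [Ideal.ofList, Ideal.span_le]
      intro r hr
      obtain ⟨i, hi, rfl⟩ := List.mem_take_iff_getElem.mp hr
      have hi' : i < k ∧ i < p := by simpa using hi
      apply Ideal.subset_span
      refine ⟨⟨i, hi'.2⟩, ?_⟩
      simp [xk, hi'.1]
    · rw [Ideal.span_le]
      rintro r ⟨i, rfl⟩
      unfold xk
      split_ifs with hik
      · apply Ideal.subset_span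
        show x i ∈ (List.ofFn x).take k
        rw [List.mem_take_iff_getElem]
        exact ⟨i.val, by simp [hik], by simp⟩
      · exact zero_mem _
  have h4 := (isSMulRegular_quotient_iff_mem_of_smul_mem _ _).mp h1 a
  rw [h2, h3, smul_eq_mul] at h4
  exact h4 ha

private theorem keyB {A : Type u} [CommRing A] {p : ℕ} (x : Fin p → A)
    (hreg : RingTheory.Sequence.IsWeaklyRegular A (List.ofFn x)) :
    ∀ k, k ≤ p → ∀ a : Fin p → A, ∑ i, a i * xk x k i = 0 →
      ∀ i : Fin p, i.val < k → a i ∈ Ideal.span (Set.range (xk x k)) := by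
  intro k
  induction k with
  | zero => intro _ a _ i hi; exact absurd hi (Nat.not_lt_zero _)
  | succ k ih =>
    intro hk a hsum i hi
    have h : k < p := hk
    have hle : Ideal.span (Set.range (xk x k)) ≤ Ideal.span (Set.range (xk x (k + 1))) := by
      rw [Ideal.span_le]
      rintro r ⟨i', rfl⟩
      by_cases h1 : i'.val < k
      · have e1 : xk x k i' = xk x (k + 1) i' := by
          unfold xk
          rw [if_pos h1, if_pos (by omega)]
        rw [e1]
        exact Ideal.subset_span ⟨i', rfl⟩
      · have e1 : xk x k i' = 0 := by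
          unfold xk
          rw [if_neg h1]
        rw [e1]
        exact zero_mem _
    have hxik : x ⟨k, h⟩ ∈ Ideal.span (Set.range (xk x (k + 1))) := by
      have e1 : x ⟨k, h⟩ = xk x (k + 1) ⟨k, h⟩ := by
        unfold xk
        rw [if_pos (by simp)]
      rw [e1]
      exact Ideal.subset_span ⟨_, rfl⟩
    have hsplit : ∑ i, a i * xk x (k + 1) i =
        ∑ i, a i * xk x k i + a ⟨k, h⟩ * x ⟨k, h⟩ := by
      simp_rw [xk_succ x k h, mul_add, Finset.sum_add_distrib]
      congr 1
      simp [mul_ite, Finset.sum_ite_eq']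
    have h1 : x ⟨k, h⟩ * a ⟨k, h⟩ ∈ Ideal.span (Set.range (xk x k)) := by
      have e1 : x ⟨k, h⟩ * a ⟨k, h⟩ = -∑ i, a i * xk x k i := by
        rw [hsplit] at hsum
        linear_combination hsum
      rw [e1]
      apply neg_mem
      exact Ideal.sum_mem _ (fun i _ => Ideal.mul_mem_left _ _ (Ideal.subset_span ⟨i, rfl⟩))
    have h2 : a ⟨k, h⟩ ∈ Ideal.span (Set.range (xk x k)) := stepA x hreg k h _ h1
    obtain ⟨c, hc⟩ := Ideal.mem_span_range_iff_exists_fun.mp h2
    have h3 : ∑ i, (a i + c i * x ⟨k, h⟩) * xk x k i = 0 := by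
      have e1 : ∑ i, (a i + c i * x ⟨k, h⟩) * xk x k i =
          ∑ i, a i * xk x k i + x ⟨k, h⟩ * ∑ i, c i * xk x k i := by
        rw [Finset.mul_sum, ← Finset.sum_add_distrib]
        refine Finset.sum_congr rfl (fun i _ => ?_)
        ring
      rw [e1, hc]
      rw [hsplit] at hsum
      linear_combination hsum
    rcases Nat.lt_succ_iff_lt_or_eq.mp hi with hlt | heq
    · have h4 := ih (le_of_lt h) _ h3 i hlt
      have h5 : a i = (a i + c i * x ⟨k, h⟩) - c i * x ⟨k, h⟩ := by ring
      rw [h5]
      exact sub_mem (hle h4) (Ideal.mul_mem_left _ _ hxik)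
    · have e1 : i = ⟨k, h⟩ := Fin.ext heq
      rw [e1]
      exact hle h2

private theorem key {A : Type u} [CommRing A] {p : ℕ} (x : Fin p → A)
    (hreg : RingTheory.Sequence.IsWeaklyRegular A (List.ofFn x)) (a : Fin p → A)
    (h : ∑ i, a i * x i ∈ (Ideal.span (Set.range x)) ^ 2) (i : Fin p) :
    a i ∈ Ideal.span (Set.range x) := by
  have h1 : ∑ i, a i * x i ∈
      (Ideal.span (Set.range x)) • Submodule.span A (Set.range x) := by
    have e1 : ((Ideal.span (Set.range x)) ^ 2 : Ideal A) =
        (Ideal.span (Set.range x)) • Submodule.span A (Set.range x) := by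
      rw [pow_two]
      exact (Ideal.smul_eq_mul _ _).symm
    rw [← e1]
    exact h
  obtain ⟨b, hb, hbs⟩ := (Submodule.mem_ideal_smul_span_iff_exists_sum _ x _).mp h1
  rw [Finsupp.sum_fintype b (fun i c => c • x i) (fun i => zero_smul _ _)] at hbs
  have h2 : ∑ i, (a i - b i) * xk x p i = 0 := by
    rw [xk_top]
    simp_rw [sub_mul]
    rw [Finset.sum_sub_distrib, ← hbs]
    simp [smul_eq_mul]
  have h3 := keyB x hreg p le_rfl _ h2 i i.isLt
  rw [xk_top] at h3
  have e2 : a i = (a i - b i) + b i := by ring
  rw [e2]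
  exact add_mem h3 (hb i)

/-- Let `A` be a commutative ring, `x_1, …, x_p` a sequence of elements of `A` such that each `x_i` is a
non-zero-divisor on `A/(x_1, …, x_{i-1})`, and `J` the ideal generated by the `x_i`. Then `J/J²` is
a free `(A/J)`-module with basis the classes of the `x_i`: there is a basis of `J/J²` over `A/J`,
indexed by `1, …, p`, whose `i`-th vector is the class of `x_i`. (The other assertions of the
published statement, on the Koszul complex and on Ext and Tor against `A/J`, are stated separately.) -/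
theorem result (A : Type u) [CommRing A] (p : ℕ) (x : Fin p → A)
    (hreg : RingTheory.Sequence.IsWeaklyRegular A (List.ofFn x)) :
    ∃ b : Module.Basis (Fin p) (A ⧸ Ideal.span (Set.range x)) (Ideal.span (Set.range x)).Cotangent,
      ∀ i, b i = (Ideal.span (Set.range x)).toCotangent ⟨x i, Ideal.subset_span (Set.mem_range_self i)⟩ := by
  classical
  set J := Ideal.span (Set.range x) with hJ
  let v : Fin p → J.Cotangent :=
    fun i => J.toCotangent ⟨x i, Ideal.subset_span (Set.mem_range_self i)⟩
  have hmk : ∀ (a : A) (m : J.Cotangent), (Ideal.Quotient.mk J a) • m = a • m :=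
    fun a m => algebraMap_smul (A ⧸ J) a m
  have hli : LinearIndependent (A ⧸ J) v := by
    rw [Fintype.linearIndependent_iff]
    intro g hg i
    choose a ha using fun i => Ideal.Quotient.mk_surjective (g i)
    have h0 : J.toCotangent
        (∑ i, a i • (⟨x i, Ideal.subset_span (Set.mem_range_self i)⟩ : J)) = 0 := by
      rw [map_sum, ← hg]
      refine Finset.sum_congr rfl (fun i _ => ?_)
      rw [map_smul, ← ha i, hmk]
    rw [Ideal.toCotangent_eq_zero] at h0
    have h1 : ((∑ i, a i • (⟨x i, Ideal.subset_span (Set.mem_range_self i)⟩ : J) : J) : A) =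
        ∑ i, a i * x i := by
      simp [Submodule.coe_sum]
    rw [h1] at h0
    have := key x hreg a h0 i
    rw [← ha i]
    exact Ideal.Quotient.eq_zero_iff_mem.mpr this
  have hsp : ⊤ ≤ Submodule.span (A ⧸ J) (Set.range v) := by
    rintro m -
    obtain ⟨⟨y, hy⟩, rfl⟩ := J.toCotangent_surjective m
    obtain ⟨c, hc⟩ := Ideal.mem_span_range_iff_exists_fun.mp hy
    have e : (⟨y, hy⟩ : J) =
        ∑ i, c i • (⟨x i, Ideal.subset_span (Set.mem_range_self i)⟩ : J) :=
      Subtype.ext (by simp [Submodule.coe_sum, ← hc])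
    rw [e, map_sum]
    refine Submodule.sum_mem _ (fun i _ => ?_)
    rw [map_smul, ← hmk]
    exact Submodule.smul_mem _ _ (Submodule.subset_span ⟨i, rfl⟩)
  exact ⟨Module.Basis.mk hli hsp, fun i => Module.Basis.mk_apply hli hsp i⟩

end Groth.Agent.S12482
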