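import Groth.Statements.S12498
import Mathlib

set_option autoImplicit false
universe u
open Deform

namespace Groth.Agent.S12498

private theorem T_mul_eq_zero {A B : Type u} [CommRing A] [CommRing B] [Algebra A B] (m : Ideal A)
    (t : A) (htm : ∀ a ∈ m, a * t = 0) (x : B) (hx : x ∈ m.map (algebraMap A B)) :
    algebraMap A B t * x = 0 := by
  refine Submodule.span_induction (p := fun y _ => algebraMap A B t * y = 0) ?_ ?_ ?_ ?_ hx
  · rintro _ ⟨a, ha, rfl⟩
    rw [← map_mul, mul_comm, htm a ha, map_zero]
  · exact mul_zero _
  · intro y z _ _ hy hz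
    rw [mul_add, hy, hz, add_zero]
  · intro b y _ hy
    rw [smul_eq_mul, mul_left_comm, hy, mul_zero]

private theorem mem_of_T_mul_eq_zero {A B : Type u} [CommRing A] [IsLocalRing A] [CommRing B]
    [Algebra A B] [Module.Flat A B]
    (t : A) (ht0 : t ≠ 0) (x : B) (hx : algebraMap A B t * x = 0) :
    x ∈ (IsLocalRing.maximalIdeal A).map (algebraMap A B) := by
  have hrel : ∑ i : Fin 1, (fun _ => t) i • (fun _ => x) i = 0 := by
    simp [Algebra.smul_def, hx]
  obtain ⟨l, a, y, hy1, hy2⟩ := Module.Flat.isTrivialRelation_of_sum_smul_eq_zero (R := A) (M := B)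
    (f := fun _ => t) (x := fun _ => x) hrel
  have h1 := hy1 0
  simp only at h1
  rw [h1]
  refine Ideal.sum_mem _ fun j _ => ?_
  have h2 := hy2 j
  simp only [Finset.univ_unique, Finset.sum_singleton] at h2
  have ham : a default j ∈ IsLocalRing.maximalIdeal A := by
    by_contra hn
    have hu : IsUnit (a default j) := by
      rwa [IsLocalRing.mem_maximalIdeal, mem_nonunits_iff, not_not] at hn
    exact ht0 (hu.mul_left_eq_zero.mp h2)
  rw [Algebra.smul_def]
  exact Ideal.mul_mem_right _ _ (Ideal.mem_map_of_mem _ ham)

/-- Let k be an algebraically closed field, A a local Artinian k-algebra with residue field k, and t a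
nonzero element of the maximal ideal m_A annihilated by m_A, so that A → A/tA is a small extension.
Let B be a flat A-algebra (a deformation over A of its closed fibre B_0 = B/m_A B), and σ an
A-algebra automorphism of B/tB inducing the identity on B_0. Fix an A-algebra automorphism τ of B
inducing σ (so τ induces the identity on B_0). Then the A-algebra automorphisms η of B inducing σ
correspond bijectively to the k-derivations d of B_0 through the rule η = τ + t·d, meaning η(b) =
τ(b) + t b′ for all b ∈ B and all b′ ∈ B lifting d applied to the image of b in B_0: every such η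
determines a unique d, and every d comes from some such η. (The published statement phrases the
conclusion as a free and transitive action of Der_k(B_0, B_0) on the nonempty set of lifts of σ; the
condition that σ induces the identity on B_0 is expressed here through the chosen lift τ.) -/
theorem result
    {k : Type u} [Field k] [IsAlgClosed k]
    {A : Type u} [CommRing A] [Algebra k A] [IsLocalRing A] [IsArtinianRing A]
    (hres : ∀ a : A, ∃ c : k, a - algebraMap k A c ∈ IsLocalRing.maximalIdeal A)
    (t : A) (ht : t ∈ IsLocalRing.maximalIdeal A) (ht0 : t ≠ 0)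
    (htm : ∀ a ∈ IsLocalRing.maximalIdeal A, a * t = 0)
    {B : Type u} [CommRing B] [Algebra A B] [Module.Flat A B] [Algebra k B] [IsScalarTower k A B]
    (σ : (B ⧸ Ideal.span {algebraMap A B t}) ≃ₐ[A] (B ⧸ Ideal.span {algebraMap A B t}))
    (τ : B ≃ₐ[A] B)
    (hτ : ∀ b : B, Ideal.Quotient.mk (Ideal.span {algebraMap A B t}) (τ b) =
      σ (Ideal.Quotient.mk (Ideal.span {algebraMap A B t}) b))
    (hτ0 : ∀ b : B, τ b - b ∈ (IsLocalRing.maximalIdeal A).map (algebraMap A B)) :
    (∀ η : B ≃ₐ[A] B, (∀ b : B, Ideal.Quotient.mk (Ideal.span {algebraMap A B t}) (η b) =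
        σ (Ideal.Quotient.mk (Ideal.span {algebraMap A B t}) b)) →
      ∃! d : Derivation k (B ⧸ (IsLocalRing.maximalIdeal A).map (algebraMap A B))
          (B ⧸ (IsLocalRing.maximalIdeal A).map (algebraMap A B)),
        ∀ b b' : B, Ideal.Quotient.mk ((IsLocalRing.maximalIdeal A).map (algebraMap A B)) b' =
            d (Ideal.Quotient.mk ((IsLocalRing.maximalIdeal A).map (algebraMap A B)) b) →
          η b = τ b + algebraMap A B t * b') ∧
    (∀ d : Derivation k (B ⧸ (IsLocalRing.maximalIdeal A).map (algebraMap A B))
        (B ⧸ (IsLocalRing.maximalIdeal A).map (algebraMap A B)),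
      ∃ η : B ≃ₐ[A] B, (∀ b : B, Ideal.Quotient.mk (Ideal.span {algebraMap A B t}) (η b) =
          σ (Ideal.Quotient.mk (Ideal.span {algebraMap A B t}) b)) ∧
        ∀ b b' : B, Ideal.Quotient.mk ((IsLocalRing.maximalIdeal A).map (algebraMap A B)) b' =
            d (Ideal.Quotient.mk ((IsLocalRing.maximalIdeal A).map (algebraMap A B)) b) →
          η b = τ b + algebraMap A B t * b') := by

  classical
  have hT0 : ∀ x ∈ (IsLocalRing.maximalIdeal A).map (algebraMap A B), algebraMap A B t * x = 0 :=
    fun x hx => T_mul_eq_zero _ t htm x hx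
  have hTinj : ∀ x : B, algebraMap A B t * x = 0 →
      x ∈ (IsLocalRing.maximalIdeal A).map (algebraMap A B) :=
    fun x hx => mem_of_T_mul_eq_zero t ht0 x hx
  have hTT : algebraMap A B t * algebraMap A B t = 0 := by
    rw [← map_mul, htm t ht, map_zero]
  have hTmem : algebraMap A B t ∈ (IsLocalRing.maximalIdeal A).map (algebraMap A B) :=
    Ideal.mem_map_of_mem _ ht
  have hτT : ∀ b : B, algebraMap A B t * τ b = algebraMap A B t * b := by
    intro b
    have := hT0 _ (hτ0 b)
    rw [mul_sub, sub_eq_zero] at this
    exact this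
  have hTcongr : ∀ z w : B, Ideal.Quotient.mk ((IsLocalRing.maximalIdeal A).map (algebraMap A B)) z =
      Ideal.Quotient.mk ((IsLocalRing.maximalIdeal A).map (algebraMap A B)) w →
      algebraMap A B t * z = algebraMap A B t * w := by
    intro z w hzw
    have := hT0 _ (Ideal.Quotient.eq.mp hzw)
    rw [mul_sub, sub_eq_zero] at this
    exact this
  have hmk0 : ∀ z : B, algebraMap A B t * z = 0 →
      Ideal.Quotient.mk ((IsLocalRing.maximalIdeal A).map (algebraMap A B)) z = 0 :=
    fun z hz => Ideal.Quotient.eq_zero_iff_mem.mpr (hTinj z hz)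
  choose rep hrep using (Ideal.Quotient.mk_surjective :
    Function.Surjective (Ideal.Quotient.mk ((IsLocalRing.maximalIdeal A).map (algebraMap A B))))
  have hmkt : ∀ z : B, Ideal.Quotient.mk (Ideal.span {algebraMap A B t}) (algebraMap A B t * z) = 0 :=
    fun z => Ideal.Quotient.eq_zero_iff_mem.mpr
      (Ideal.mul_mem_right _ _ (Ideal.subset_span (Set.mem_singleton _)))
  -- residue classes of scalars
  have hresB : ∀ a : A, ∃ c : k,
      Ideal.Quotient.mk ((IsLocalRing.maximalIdeal A).map (algebraMap A B)) (algebraMap A B a) =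
      algebraMap k (B ⧸ (IsLocalRing.maximalIdeal A).map (algebraMap A B)) c := by
    intro a
    obtain ⟨c, hc⟩ := hres a
    refine ⟨c, ?_⟩
    have h1 : Ideal.Quotient.mk ((IsLocalRing.maximalIdeal A).map (algebraMap A B))
        (algebraMap A B (a - algebraMap k A c)) = 0 :=
      Ideal.Quotient.eq_zero_iff_mem.mpr (Ideal.mem_map_of_mem _ hc)
    rw [map_sub, map_sub, sub_eq_zero, ← IsScalarTower.algebraMap_apply k A B] at h1
    rw [h1]
    rfl
  refine ⟨?_, ?_⟩
  · -- part 1
    intro η hη
    have hex : ∀ b : B, ∃ b' : B, η b = τ b + algebraMap A B t * b' := by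
      intro b
      have h0 : Ideal.Quotient.mk (Ideal.span {algebraMap A B t}) (η b - τ b) = 0 := by
        rw [map_sub, hη, hτ, sub_self]
      obtain ⟨b', hb'⟩ := Ideal.mem_span_singleton'.mp (Ideal.Quotient.eq_zero_iff_mem.mp h0)
      exact ⟨b', by rw [mul_comm, hb']; ring⟩
    choose δ hδ using hex
    have hδ' : ∀ b, algebraMap A B t * δ b = η b - τ b := fun b => by rw [hδ b]; ring
    have hηI : ∀ y ∈ (IsLocalRing.maximalIdeal A).map (algebraMap A B), η y = τ y := by
      intro y hy
      refine Submodule.span_induction (p := fun y _ => η y = τ y) ?_ ?_ ?_ ?_ hy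
      · rintro _ ⟨a, _, rfl⟩
        rw [AlgEquiv.commutes, AlgEquiv.commutes]
      · rw [map_zero, map_zero]
      · intro y z _ _ h1 h2
        rw [map_add, map_add, h1, h2]
      · intro c y hy' h1
        have hy'' : y ∈ (IsLocalRing.maximalIdeal A).map (algebraMap A B) := hy'
        rw [smul_eq_mul, map_mul, map_mul, h1, hδ c, add_mul, mul_assoc, mul_left_comm, hτT y,
          hT0 y hy'', mul_zero, add_zero]
    have hδcongr : ∀ b₁ b₂ : B,
        Ideal.Quotient.mk ((IsLocalRing.maximalIdeal A).map (algebraMap A B)) b₁ =
        Ideal.Quotient.mk ((IsLocalRing.maximalIdeal A).map (algebraMap A B)) b₂ →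
        Ideal.Quotient.mk ((IsLocalRing.maximalIdeal A).map (algebraMap A B)) (δ b₁) =
        Ideal.Quotient.mk ((IsLocalRing.maximalIdeal A).map (algebraMap A B)) (δ b₂) := by
      intro b₁ b₂ h12
      rw [← sub_eq_zero, ← map_sub]
      apply hmk0
      have := hηI _ (Ideal.Quotient.eq.mp h12)
      rw [map_sub, map_sub] at this
      rw [mul_sub, hδ', hδ']
      linear_combination this
    -- the derivation
    have hd₀ : ∀ b : B, Ideal.Quotient.mk ((IsLocalRing.maximalIdeal A).map (algebraMap A B))
        (δ (rep (Ideal.Quotient.mk ((IsLocalRing.maximalIdeal A).map (algebraMap A B)) b))) =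
        Ideal.Quotient.mk ((IsLocalRing.maximalIdeal A).map (algebraMap A B)) (δ b) :=
      fun b => hδcongr _ _ (hrep _)
    have hadd : ∀ b c : B, Ideal.Quotient.mk ((IsLocalRing.maximalIdeal A).map (algebraMap A B))
        (δ (b + c)) = Ideal.Quotient.mk ((IsLocalRing.maximalIdeal A).map (algebraMap A B)) (δ b) +
        Ideal.Quotient.mk ((IsLocalRing.maximalIdeal A).map (algebraMap A B)) (δ c) := by
      intro b c
      rw [← map_add, ← sub_eq_zero, ← map_sub]
      apply hmk0
      rw [mul_sub, mul_add, hδ', hδ', hδ', map_add, map_add]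
      ring
    have hsmulA : ∀ (a : A) (b : B), Ideal.Quotient.mk ((IsLocalRing.maximalIdeal A).map (algebraMap A B))
        (δ (a • b)) = Ideal.Quotient.mk ((IsLocalRing.maximalIdeal A).map (algebraMap A B)) (a • δ b) := by
      intro a b
      rw [← sub_eq_zero, ← map_sub]
      apply hmk0
      rw [mul_sub, mul_smul_comm, hδ', hδ', map_smul, map_smul, smul_sub]
      ring
    have hmul : ∀ b c : B, Ideal.Quotient.mk ((IsLocalRing.maximalIdeal A).map (algebraMap A B))
        (δ (b * c)) = Ideal.Quotient.mk ((IsLocalRing.maximalIdeal A).map (algebraMap A B))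
        (b * δ c + c * δ b) := by
      intro b c
      rw [← sub_eq_zero, ← map_sub]
      apply hmk0
      have e1 := hδ' (b * c)
      have e2 := hδ' b
      have e3 := hδ' c
      have e4 := hτT b
      have e5 := hτT c
      rw [map_mul, map_mul] at e1
      have e6 : η b = τ b + algebraMap A B t * δ b := hδ b
      have e7 : η c = τ c + algebraMap A B t * δ c := hδ c
      rw [e6, e7] at e1
      linear_combination e1 + (δ b * δ c) * hTT + (δ b) * e5 + (δ c) * e4
    let D : (B ⧸ (IsLocalRing.maximalIdeal A).map (algebraMap A B)) →ₗ[k]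
        (B ⧸ (IsLocalRing.maximalIdeal A).map (algebraMap A B)) :=
      { toFun := fun x => Ideal.Quotient.mk ((IsLocalRing.maximalIdeal A).map (algebraMap A B))
          (δ (rep x))
        map_add' := by
          intro x y
          obtain ⟨b, rfl⟩ := Ideal.Quotient.mk_surjective x
          obtain ⟨c, rfl⟩ := Ideal.Quotient.mk_surjective y
          rw [← map_add, hd₀, hd₀, hd₀, hadd]
        map_smul' := by
          intro c x
          obtain ⟨b, rfl⟩ := Ideal.Quotient.mk_surjective x
          have e1 : c • Ideal.Quotient.mk ((IsLocalRing.maximalIdeal A).map (algebraMap A B)) b =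
              Ideal.Quotient.mk ((IsLocalRing.maximalIdeal A).map (algebraMap A B))
                ((algebraMap k A c) • b) := by
            rw [IsScalarTower.algebraMap_smul]
            rfl
          rw [e1, hd₀, hd₀, hsmulA, IsScalarTower.algebraMap_smul]
          rfl }
    have hDmk : ∀ b : B, D (Ideal.Quotient.mk ((IsLocalRing.maximalIdeal A).map (algebraMap A B)) b) =
        Ideal.Quotient.mk ((IsLocalRing.maximalIdeal A).map (algebraMap A B)) (δ b) := hd₀
    have hleib : ∀ x y : B ⧸ (IsLocalRing.maximalIdeal A).map (algebraMap A B),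
        D (x * y) = x • D y + y • D x := by
      intro x y
      obtain ⟨b, rfl⟩ := Ideal.Quotient.mk_surjective x
      obtain ⟨c, rfl⟩ := Ideal.Quotient.mk_surjective y
      rw [← map_mul, hDmk, hDmk, hDmk, hmul, smul_eq_mul, smul_eq_mul, map_add, map_mul, map_mul]
    refine ⟨Derivation.mk' D hleib, ?_, ?_⟩
    · intro b b' hb'
      have hb'' : Ideal.Quotient.mk ((IsLocalRing.maximalIdeal A).map (algebraMap A B)) b' =
          Ideal.Quotient.mk ((IsLocalRing.maximalIdeal A).map (algebraMap A B)) (δ b) := by
        rw [hb', ← hDmk b]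
        rfl
      rw [hTcongr _ _ hb'', hδ b]
    · intro d' hd'
      apply Derivation.ext
      intro x
      obtain ⟨b, rfl⟩ := Ideal.Quotient.mk_surjective x
      have h1 := hd' b (rep (d' (Ideal.Quotient.mk _ b))) (hrep _)
      have h2 : algebraMap A B t * (rep (d' (Ideal.Quotient.mk _ b)) - δ b) = 0 := by
        rw [mul_sub, hδ', h1]
        ring
      have h3 := hmk0 _ h2
      rw [map_sub, sub_eq_zero, hrep] at h3
      rw [h3]
      exact (hDmk b).symm
  · -- part 2
    -- the endomorphism attached to a derivation
    have hε : ∀ d : Derivation k (B ⧸ (IsLocalRing.maximalIdeal A).map (algebraMap A B))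
        (B ⧸ (IsLocalRing.maximalIdeal A).map (algebraMap A B)),
        ∃ ε : B →ₐ[A] B, ∀ b b' : B,
          Ideal.Quotient.mk ((IsLocalRing.maximalIdeal A).map (algebraMap A B)) b' =
            d (Ideal.Quotient.mk ((IsLocalRing.maximalIdeal A).map (algebraMap A B)) b) →
          ε b = b + algebraMap A B t * b' := by
      intro d
      have hg : ∀ b : B, Ideal.Quotient.mk ((IsLocalRing.maximalIdeal A).map (algebraMap A B))
          (rep (d (Ideal.Quotient.mk _ b))) = d (Ideal.Quotient.mk _ b) := fun b => hrep _
      refine ⟨{ toFun := fun b => b + algebraMap A B t * rep (d (Ideal.Quotient.mk _ b))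
                map_one' := ?_
                map_mul' := ?_
                map_zero' := ?_
                map_add' := ?_
                commutes' := ?_ }, ?_⟩
      · show (1 : B) + algebraMap A B t * rep (d (Ideal.Quotient.mk _ 1)) = 1
        have : algebraMap A B t * rep (d (Ideal.Quotient.mk _ 1)) = algebraMap A B t * 0 := by
          apply hTcongr
          rw [hg, map_one, Derivation.map_one_eq_zero, map_zero]
        rw [this, mul_zero, add_zero]
      · intro b c
        show b * c + algebraMap A B t * rep (d (Ideal.Quotient.mk _ (b * c))) =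
          (b + algebraMap A B t * rep (d (Ideal.Quotient.mk _ b))) *
          (c + algebraMap A B t * rep (d (Ideal.Quotient.mk _ c)))
        have e : algebraMap A B t * rep (d (Ideal.Quotient.mk _ (b * c))) =
            algebraMap A B t * (b * rep (d (Ideal.Quotient.mk _ c)) +
              c * rep (d (Ideal.Quotient.mk _ b))) := by
          apply hTcongr
          rw [hg, map_mul, Derivation.leibniz, map_add, map_mul, map_mul, hg, hg, smul_eq_mul,
            smul_eq_mul]
        rw [e]
        linear_combination (-(rep (d (Ideal.Quotient.mk _ b)) * rep (d (Ideal.Quotient.mk _ c)))) * hTT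
      · show (0 : B) + algebraMap A B t * rep (d (Ideal.Quotient.mk _ 0)) = 0
        have : algebraMap A B t * rep (d (Ideal.Quotient.mk _ 0)) = algebraMap A B t * 0 := by
          apply hTcongr
          rw [hg, map_zero, map_zero]
        rw [this, mul_zero, add_zero]
      · intro b c
        show b + c + algebraMap A B t * rep (d (Ideal.Quotient.mk _ (b + c))) =
          (b + algebraMap A B t * rep (d (Ideal.Quotient.mk _ b))) +
          (c + algebraMap A B t * rep (d (Ideal.Quotient.mk _ c)))
        have e : algebraMap A B t * rep (d (Ideal.Quotient.mk _ (b + c))) =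
            algebraMap A B t * (rep (d (Ideal.Quotient.mk _ b)) +
              rep (d (Ideal.Quotient.mk _ c))) := by
          apply hTcongr
          rw [hg, map_add, map_add, map_add, hg, hg]
        rw [e]
        ring
      · intro a
        show algebraMap A B a + algebraMap A B t * rep (d (Ideal.Quotient.mk _ (algebraMap A B a))) =
          algebraMap A B a
        have : algebraMap A B t * rep (d (Ideal.Quotient.mk _ (algebraMap A B a))) =
            algebraMap A B t * 0 := by
          apply hTcongr
          obtain ⟨c, hc⟩ := hresB a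
          rw [hg, hc, Derivation.map_algebraMap, map_zero]
        rw [this, mul_zero, add_zero]
      · intro b b' hb'
        show b + algebraMap A B t * rep (d (Ideal.Quotient.mk _ b)) = b + algebraMap A B t * b'
        rw [hTcongr _ _ ((hg b).trans hb'.symm)]
    choose ε hεs using hε
    have hcompose : ∀ d : Derivation k (B ⧸ (IsLocalRing.maximalIdeal A).map (algebraMap A B))
        (B ⧸ (IsLocalRing.maximalIdeal A).map (algebraMap A B)), ∀ b : B,
        ε d (ε (-d) b) = b := by
      intro d b
      have h1 := hεs (-d) b (rep ((-d) (Ideal.Quotient.mk _ b))) (hrep _)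
      have h2 := hεs d (ε (-d) b) (-(rep ((-d) (Ideal.Quotient.mk _ b)))) (by
        rw [h1, map_add, map_mul, Ideal.Quotient.eq_zero_iff_mem.mpr hTmem, zero_mul, add_zero,
          map_neg, hrep, Derivation.neg_apply, neg_neg])
      rw [h2, h1]
      ring
    intro d
    let E : B ≃ₐ[A] B := AlgEquiv.ofAlgHom (ε d) (ε (-d))
      (AlgHom.ext fun b => hcompose d b)
      (AlgHom.ext fun b => by
        have := hcompose (-d) b
        rw [neg_neg] at this
        exact this)
    have hE : ∀ b, E b = ε d b := fun b => rfl
    have hform : ∀ b b' : B,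
        Ideal.Quotient.mk ((IsLocalRing.maximalIdeal A).map (algebraMap A B)) b' =
          d (Ideal.Quotient.mk ((IsLocalRing.maximalIdeal A).map (algebraMap A B)) b) →
        (E.trans τ) b = τ b + algebraMap A B t * b' := by
      intro b b' hb'
      rw [AlgEquiv.trans_apply, hE, hεs d b b' hb', map_add, map_mul, AlgEquiv.commutes, hτT]
    refine ⟨E.trans τ, ?_, hform⟩
    intro b
    rw [hform b (rep (d (Ideal.Quotient.mk _ b))) (hrep _), map_add, hmkt, add_zero, hτ]


end Groth.Agent.S12498
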