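import Groth.Statements.S12513
import Mathlib

set_option autoImplicit false
universe u
open Mero

namespace Groth.Agent.S12513

open AlgebraicGeometry in
/-- For a scheme X and an affine open U of X, the sections of O_X over U with nonzerodivisor germ at
every point of U are exactly the nonzerodivisors of the ring O_X(U). No Noetherian hypothesis is
needed. -/
theorem result (X : Scheme.{u}) (U : X.Opens)
    (hU : IsAffineOpen U) : Mero.regSub X U = nonZeroDivisors Γ(X, U) := by
  ext f
  constructor
  · intro hf
    rw [mem_nonZeroDivisors_iff_right]
    intro a haf
    -- a has zero germs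
    apply TopCat.Presheaf.section_ext X.sheaf U
    intro x hx
    have h1 := hf ⟨x, hx⟩
    have h2 : X.presheaf.germ U x hx a * X.presheaf.germ U x hx f = 0 := by
      rw [← map_mul, haf, map_zero]
    have h3 := (mem_nonZeroDivisors_iff_right.mp h1) _ h2
    exact h3.trans (map_zero _).symm
  · intro hf x
    letI := X.presheaf.algebra_section_stalk x
    haveI := hU.isLocalization_stalk x
    have := IsLocalization.map_nonZeroDivisors_le (hU.primeIdealOf x).asIdeal.primeCompl (X.presheaf.stalk x.1)
    exact this ⟨f, hf, rfl⟩

end Groth.Agent.S12513
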