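import Groth.Statements.S12517
import Mathlib

set_option autoImplicit false
open FunFld

namespace Groth.Agent.S12517

open Polynomial IntermediateField in
theorem quad_gen (F K : Type*) [Field F] [Field K] [Algebra F K] (hdeg : Module.finrank F K = 2) :
    ∃ z : K, F⟮z⟯ = ⊤ ∧ (minpoly F z).natDegree = 2 ∧ (minpoly F z).Monic := by
  haveI : FiniteDimensional F K := Module.finite_of_finrank_pos (by omega)
  obtain ⟨z, hz⟩ : ∃ z : K, z ∉ (⊥ : IntermediateField F K) := by
    by_contra hcon
    push_neg at hcon
    have h1 : (⊥ : IntermediateField F K) = ⊤ := by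
      ext x; simp [hcon x]
    have h2 : Module.finrank F K = 1 := by
      rw [← IntermediateField.finrank_top', ← h1]
      exact IntermediateField.finrank_bot
    omega
  have hint : IsIntegral F z := Algebra.IsIntegral.isIntegral z
  have h3 : Module.finrank F F⟮z⟯ * Module.finrank F⟮z⟯ K = 2 := by
    rw [Module.finrank_mul_finrank, hdeg]
  have h4 : Module.finrank F F⟮z⟯ ≠ 1 := by
    intro h
    rw [IntermediateField.finrank_adjoin_simple_eq_one_iff] at h
    exact hz h
  have h5 : Module.finrank F F⟮z⟯ ∣ 2 := ⟨_, h3.symm⟩
  have h6 : Module.finrank F F⟮z⟯ = 2 := by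
    rcases (Nat.dvd_prime Nat.prime_two).mp h5 with h | h
    · exact absurd h h4
    · exact h
  have h7 : Module.finrank F⟮z⟯ K = 1 := by
    rw [h6] at h3; omega
  refine ⟨z, IntermediateField.finrank_eq_one_iff_eq_top.mp h7, ?_, minpoly.monic hint⟩
  rw [← IntermediateField.adjoin.finrank hint, h6]

open Polynomial in
theorem quad_form {F : Type*} [Field F] (p : F[X]) (hd : p.natDegree = 2) (hm : p.Monic) :
    p = X ^ 2 + C (p.coeff 1) * X + C (p.coeff 0) := by
  have h1 := Polynomial.as_sum_range' p 3 (by omega)
  have h2 : p.coeff 2 = 1 := by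
    have := hm.coeff_natDegree
    rwa [hd] at this
  conv_lhs => rw [h1]
  simp only [Finset.sum_range_succ, Finset.range_zero, Finset.sum_empty, zero_add, h2]
  rw [← Polynomial.C_mul_X_pow_eq_monomial, ← Polynomial.C_mul_X_pow_eq_monomial,
    ← Polynomial.C_mul_X_pow_eq_monomial]
  simp
  ring

/-- If `k` is perfect of characteristic `2` and `K` is a separable extension of degree `2` of the
rational function field `k(x)`, then `K = k(x)(y)` for some `y` with `y² + y = f(x)`, `f ∈ k(x)`.
The correspondence between such extensions and cosets of `{a² + a}` in `k(x)` is not stated. -/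
theorem result (k K : Type*) [Field k] [Field K] [PerfectField k]
    (h2 : ringChar k = 2) [Algebra (RatFunc k) K] (hdeg : Module.finrank (RatFunc k) K = 2)
    [Algebra.IsSeparable (RatFunc k) K] :
    ∃ (y : K) (f : RatFunc k), y ^ 2 + y = algebraMap (RatFunc k) K f ∧
      IntermediateField.adjoin (RatFunc k) ({y} : Set K) = ⊤ := by
  classical
  obtain ⟨z, hz, hd, hm⟩ := Groth.Agent.S12517.quad_gen (RatFunc k) K hdeg
  haveI : CharP k 2 := by
    have := ringChar.charP k
    rwa [h2] at this
  haveI : CharP (RatFunc k) 2 :=
    charP_of_injective_algebraMap (algebraMap k (RatFunc k)).injective 2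
  haveI : CharP K 2 :=
    charP_of_injective_algebraMap (algebraMap (RatFunc k) K).injective 2
  set p := minpoly (RatFunc k) z with hp
  set a := p.coeff 1 with ha
  set b := p.coeff 0 with hb
  have hform := Groth.Agent.S12517.quad_form p hd hm
  have hsep : p.Separable := Algebra.IsSeparable.isSeparable (RatFunc k) z
  have ha0 : a ≠ 0 := by
    intro h0
    rw [← ha, ← hb, h0] at hform
    have hder : Polynomial.derivative p = 0 := by
      rw [hform]
      simp only [Polynomial.derivative_add, Polynomial.derivative_X_pow, Polynomial.derivative_C,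
        Polynomial.derivative_mul, Polynomial.derivative_X, map_zero, zero_mul, mul_one, add_zero]
      have : ((2 : ℕ) : RatFunc k) = 0 := CharP.cast_eq_zero (RatFunc k) 2
      simp
      first
        | exact_mod_cast this
        | (have h22 : (2 : RatFunc k) = 0 := by exact_mod_cast this
           simp [h22])
    have hu : IsUnit p := by
      have := hsep
      rw [Polynomial.separable_def, hder, isCoprime_zero_right] at this
      exact this
    have := Polynomial.natDegree_eq_zero_of_isUnit hu
    omega
  have hrel : z ^ 2 + algebraMap (RatFunc k) K a * z + algebraMap (RatFunc k) K b = 0 := by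
    have := minpoly.aeval (RatFunc k) z
    rw [← hp, hform] at this
    simpa using this
  have haK : algebraMap (RatFunc k) K a ≠ 0 := by
    intro h
    exact ha0 ((algebraMap (RatFunc k) K).injective (by rw [h, map_zero]))
  refine ⟨z / algebraMap (RatFunc k) K a, -b / a ^ 2, ?_, ?_⟩
  · rw [map_div₀, map_neg, map_pow]
    field_simp
    linear_combination hrel
  · rw [eq_top_iff, ← hz]
    rw [IntermediateField.adjoin_simple_le_iff]
    have h1 : z / algebraMap (RatFunc k) K a ∈
        IntermediateField.adjoin (RatFunc k) ({z / algebraMap (RatFunc k) K a} : Set K) :=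
      IntermediateField.mem_adjoin_simple_self _ _
    have h2 : algebraMap (RatFunc k) K a ∈
        IntermediateField.adjoin (RatFunc k) ({z / algebraMap (RatFunc k) K a} : Set K) :=
      IntermediateField.algebraMap_mem _ _
    have h3 := mul_mem h1 h2
    rwa [div_mul_cancel₀ _ haK] at h3

end Groth.Agent.S12517
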