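import Groth.Statements.S12515
import Mathlib
import Groth.Agent.S12517

set_option autoImplicit false
open FunFld

namespace Groth.Agent.S12515

open Polynomial in
theorem sq_mul_squarefree {k : Type*} [Field k] :
    ∀ (N : ℕ) (h : k[X]), h ≠ 0 → h.natDegree ≤ N → ∃ s f : k[X], s ≠ 0 ∧ h = s ^ 2 * f ∧ Squarefree f := by
  intro N
  induction N with
  | zero =>
    intro h h0 hN
    refine ⟨1, h, one_ne_zero, by ring, ?_⟩
    have hu : IsUnit h := by
      rw [Polynomial.isUnit_iff]
      have := Polynomial.eq_C_of_natDegree_le_zero hN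
      refine ⟨h.coeff 0, ?_, this.symm⟩
      rw [isUnit_iff_ne_zero]
      intro hc
      rw [hc, map_zero] at this
      exact h0 this
    exact hu.squarefree
  | succ N ih =>
    intro h h0 hN
    by_cases hsq : Squarefree h
    · exact ⟨1, h, one_ne_zero, by ring, hsq⟩
    · unfold Squarefree at hsq
      push_neg at hsq
      obtain ⟨d, ⟨h', hh'⟩, hdu⟩ := hsq
      have hd0 : d ≠ 0 := by
        rintro rfl
        apply h0
        rw [hh']; ring
      have hh'0 : h' ≠ 0 := by
        rintro rfl
        apply h0
        rw [hh']; ring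
      have hdeg : 1 ≤ d.natDegree := by
        by_contra hlt
        push_neg at hlt
        have h1 : d.natDegree = 0 := by omega
        have := Polynomial.eq_C_of_natDegree_eq_zero h1
        apply hdu
        rw [Polynomial.isUnit_iff]
        refine ⟨d.coeff 0, ?_, this.symm⟩
        rw [isUnit_iff_ne_zero]
        intro hc
        rw [hc, map_zero] at this
        exact hd0 this
      have hdeg' : h'.natDegree ≤ N := by
        have : h.natDegree = d.natDegree + d.natDegree + h'.natDegree := by
          rw [hh', Polynomial.natDegree_mul (mul_ne_zero hd0 hd0) hh'0, Polynomial.natDegree_mul hd0 hd0]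
        omega
      obtain ⟨s, f, hs0, hsf, hf⟩ := ih h' hh'0 hdeg'
      refine ⟨d * s, f, mul_ne_zero hd0 hs0, ?_, hf⟩
      rw [hh', hsf]; ring

open IntermediateField in
theorem adjoin_eq_of_mul {F K : Type*} [Field F] [Field K] [Algebra F K] (c : F) (hc : c ≠ 0) (w : K) :
    F⟮algebraMap F K c * w⟯ = F⟮w⟯ := by
  apply le_antisymm
  · rw [IntermediateField.adjoin_simple_le_iff]
    exact mul_mem (IntermediateField.algebraMap_mem _ _) (IntermediateField.mem_adjoin_simple_self _ _)
  · rw [IntermediateField.adjoin_simple_le_iff]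
    have h1 : algebraMap F K c * w ∈ F⟮algebraMap F K c * w⟯ := IntermediateField.mem_adjoin_simple_self _ _
    have h2 : algebraMap F K c⁻¹ ∈ F⟮algebraMap F K c * w⟯ := IntermediateField.algebraMap_mem _ _
    have h3 := mul_mem h2 h1
    rwa [← mul_assoc, ← map_mul, inv_mul_cancel₀ hc, map_one, one_mul] at h3

open IntermediateField in
theorem adjoin_eq_of_add {F K : Type*} [Field F] [Field K] [Algebra F K] (c : F) (w : K) :
    F⟮w + algebraMap F K c⟯ = F⟮w⟯ := by
  apply le_antisymm
  · rw [IntermediateField.adjoin_simple_le_iff]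
    exact add_mem (IntermediateField.mem_adjoin_simple_self _ _) (IntermediateField.algebraMap_mem _ _)
  · rw [IntermediateField.adjoin_simple_le_iff]
    have h1 : w + algebraMap F K c ∈ F⟮w + algebraMap F K c⟯ := IntermediateField.mem_adjoin_simple_self _ _
    have h2 : algebraMap F K c ∈ F⟮w + algebraMap F K c⟯ := IntermediateField.algebraMap_mem _ _
    have h3 := sub_mem h1 h2
    rwa [add_sub_cancel_right] at h3

/-- If `char k ≠ 2` and `K` has degree `2` over the rational function field `k(x)`, then `K = k(x)(y)`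
for some `y` with `y² = f(x)`, `f` a squarefree polynomial over `k`. -/
theorem result (k K : Type*) [Field k] [Field K] (h2 : ringChar k ≠ 2)
    [Algebra (RatFunc k) K] (hdeg : Module.finrank (RatFunc k) K = 2) :
    ∃ (y : K) (f : Polynomial k), Squarefree f ∧
      y ^ 2 = algebraMap (RatFunc k) K (algebraMap (Polynomial k) (RatFunc k) f) ∧
      IntermediateField.adjoin (RatFunc k) ({y} : Set K) = ⊤ := by
  classical
  obtain ⟨z, hz, hd, hm⟩ := Groth.Agent.S12517.quad_gen (RatFunc k) K hdeg
  have h2k : (2 : k) ≠ 0 := by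
    intro h
    apply h2
    have h3 : ((2 : ℕ) : k) = 0 := by exact_mod_cast h
    have h4 := (ringChar.spec k 2).mp h3
    have h5 := Nat.le_of_dvd (by norm_num) h4
    have h6 : ringChar k ≠ 1 := by
      intro h1
      haveI := ringChar.charP k
      rw [h1] at this
      exact CharP.ringChar_ne_one h1
    have h7 : ringChar k ≠ 0 := by
      intro h0
      rw [h0] at h4
      omega
    omega
  have h2F : (2 : (RatFunc k)) ≠ 0 := by
    intro h
    apply h2k
    apply (algebraMap k (RatFunc k)).injective
    rw [map_ofNat, map_zero]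
    exact h
  have h2K : (2 : K) ≠ 0 := by
    intro h
    apply h2F
    apply (algebraMap (RatFunc k) K).injective
    rw [map_ofNat, map_zero]
    exact h
  set p := minpoly (RatFunc k) z with hp
  set a := p.coeff 1 with ha
  set b := p.coeff 0 with hb
  have hform := Groth.Agent.S12517.quad_form p hd hm
  have hrel : z ^ 2 + algebraMap (RatFunc k) K a * z + algebraMap (RatFunc k) K b = 0 := by
    have := minpoly.aeval (RatFunc k) z
    rw [← hp, hform] at this
    simpa using this
  -- y₀
  set y₀ : K := z + algebraMap (RatFunc k) K (a / 2) with hy₀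
  set g : (RatFunc k) := a ^ 2 / 4 - b with hg
  have h4F : (4 : (RatFunc k)) ≠ 0 := by
    have : (4 : (RatFunc k)) = 2 * 2 := by norm_num
    rw [this]; exact mul_ne_zero h2F h2F
  have hy₀sq : y₀ ^ 2 = algebraMap (RatFunc k) K g := by
    rw [hy₀, hg, map_sub, map_div₀, map_div₀, map_pow, map_ofNat, map_ofNat]
    have h4K : (4 : K) ≠ 0 := by
      have : (4 : K) = 2 * 2 := by norm_num
      rw [this]; exact mul_ne_zero h2K h2K
    field_simp
    linear_combination 16 * hrel
  have hy₀top : IntermediateField.adjoin (RatFunc k) ({y₀} : Set K) = ⊤ := by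
    rw [hy₀, Groth.Agent.S12515.adjoin_eq_of_add, hz]
  have hg0 : g ≠ 0 := by
    intro h0
    rw [h0, map_zero] at hy₀sq
    have hy0 : y₀ = 0 := pow_eq_zero_iff (two_ne_zero) |>.mp hy₀sq
    have h1 : IntermediateField.adjoin (RatFunc k) ({y₀} : Set K) = ⊥ := by
      rw [hy0]
      exact IntermediateField.adjoin_zero
    rw [hy₀top] at h1
    have h3 : Module.finrank (RatFunc k) K = 1 := by
      rw [← IntermediateField.finrank_top', h1]
      exact IntermediateField.finrank_bot
    omega
  set P : Polynomial k := g.num with hP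
  set Q : Polynomial k := g.denom with hQ
  have hQ0 : Q ≠ 0 := RatFunc.denom_ne_zero g
  have hP0 : P ≠ 0 := by
    intro h
    apply hg0
    rw [← RatFunc.num_div_denom g, ← hP, h, map_zero, zero_div]
  have hgPQ : algebraMap (Polynomial k) (RatFunc k) P / algebraMap (Polynomial k) (RatFunc k) Q = g :=
    RatFunc.num_div_denom g
  have hQF : algebraMap (Polynomial k) (RatFunc k) Q ≠ 0 := by
    intro h
    exact hQ0 ((IsFractionRing.injective (Polynomial k) (RatFunc k)) (by rw [h, map_zero]))
  obtain ⟨s, f, hs0, hsf, hf⟩ := Groth.Agent.S12515.sq_mul_squarefree (P * Q).natDegree (P * Q)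
    (mul_ne_zero hP0 hQ0) le_rfl
  have hsF : algebraMap (Polynomial k) (RatFunc k) s ≠ 0 := by
    intro h
    exact hs0 ((IsFractionRing.injective (Polynomial k) (RatFunc k)) (by rw [h, map_zero]))
  set cc : (RatFunc k) := algebraMap (Polynomial k) (RatFunc k) Q / algebraMap (Polynomial k) (RatFunc k) s with hcc
  have hcc0 : cc ≠ 0 := div_ne_zero hQF hsF
  refine ⟨algebraMap (RatFunc k) K cc * y₀, f, hf, ?_, ?_⟩
  · rw [mul_pow, hy₀sq, ← map_pow, ← map_mul]
    congr 1
    rw [hcc, ← hgPQ]
    have : algebraMap (Polynomial k) (RatFunc k) (P * Q) = algebraMap (Polynomial k) (RatFunc k) (s ^ 2 * f) := by rw [hsf]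
    rw [map_mul, map_mul, map_pow] at this
    field_simp
    linear_combination this
  · rw [Groth.Agent.S12515.adjoin_eq_of_mul cc hcc0, hy₀top]

end Groth.Agent.S12515
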