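import Groth.Statements.S12520
import Groth.Agent.Lib.Helper17.FFSep2
-- import your own Groth.Agent.* helpers here

set_option autoImplicit false
universe u v
open FunFld

namespace Groth.Agent.S12520

/-- For a geometric function field of one variable `K/k` of characteristic `p > 0` and a geometric
function field `K₀/k₀` with `K₀ ⊆ K` of finite index (and `k₀ ⊆ k` compatibly), the map `Ω_{K₀/k₀} →
Ω_{K/k}` induced by the inclusion vanishes when `K₀ ⊆ kK^p` and is injective otherwise. -/
theorem result (k₀ k : Type u) (K₀ K : Type v) [Field k₀] [Field k] [Field K₀] [Field K]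
    [Algebra k₀ k] [Algebra k₀ K₀] [Algebra k₀ K] [Algebra k K] [Algebra K₀ K]
    [IsScalarTower k₀ k K] [IsScalarTower k₀ K₀ K] [FiniteDimensional K₀ K]
    (p : ℕ) [Fact p.Prime] [CharP K p]
    (hK : FunFld.IsFunctionField k K) (hg : FunFld.IsGeometric k K)
    (hK₀ : FunFld.IsFunctionField k₀ K₀) (hg₀ : FunFld.IsGeometric k₀ K₀) :
    (Set.range (algebraMap K₀ K) ⊆ ↑(IntermediateField.adjoin k (Set.range fun y : K => y ^ p)) →
      KaehlerDifferential.map k₀ k K₀ K = 0) ∧
    (¬ Set.range (algebraMap K₀ K) ⊆ ↑(IntermediateField.adjoin k (Set.range fun y : K => y ^ p)) →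
      Function.Injective (KaehlerDifferential.map k₀ k K₀ K)) := by
  classical
  constructor
  · intro hsub
    apply LinearMap.ext_on (KaehlerDifferential.span_range_derivation k₀ K₀)
    rintro _ ⟨x, rfl⟩
    rw [KaehlerDifferential.map_D, LinearMap.zero_apply]
    exact (Groth.Agent.Helper17.FF.mem_kKp_iff_D_eq_zero p hK hg _).1 (hsub ⟨x, rfl⟩)
  · intro hnot
    rw [Set.not_subset] at hnot
    obtain ⟨_, ⟨x₀, rfl⟩, hx₀⟩ := hnot
    have hD : KaehlerDifferential.D k K (algebraMap K₀ K x₀) ≠ 0 := fun h0 =>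
      hx₀ ((Groth.Agent.Helper17.FF.mem_kKp_iff_D_eq_zero p hK hg _).2 h0)
    have hmap : KaehlerDifferential.map k₀ k K₀ K (KaehlerDifferential.D k₀ K₀ x₀) ≠ 0 := by
      rw [KaehlerDifferential.map_D]; exact hD
    have hD₀ : KaehlerDifferential.D k₀ K₀ x₀ ≠ 0 := by
      intro h0
      rw [h0, map_zero] at hmap
      exact hmap rfl
    have hfr := Groth.Agent.Helper17.FF.finrank_kaehler hK₀ hg₀
    have hspan := (finrank_eq_one_iff_of_nonzero' _ hD₀).1 hfr
    rw [injective_iff_map_eq_zero]
    intro ω hω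
    obtain ⟨c, rfl⟩ := hspan ω
    rw [map_smul] at hω
    rcases smul_eq_zero.1 hω with hc | hc
    · rw [hc, zero_smul]
    · exact absurd hc hmap

end Groth.Agent.S12520
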