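import Groth.Statements.S12545
import Mathlib
import Groth.Agent.H19.GITMu

set_option autoImplicit false
universe u
open TensorProduct LaurentPolynomial
open GIT

namespace Groth.Agent.S12545

/-- Let a commutative bialgebra A over a field k coact linearly on affine ι-space, let λ be a
one-parameter subgroup (a bialgebra map to the Laurent polynomial ring) and v ≠ 0 a vector; write
μ(v, λ) = m when t^m · (v moved by λ(t)) extends to the affine line with non-zero value at t = 0.
Then v moved by λ(t) has no limit as t → 0 exactly when μ(v, λ) > 0, has a limit different from the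
origin exactly when μ(v, λ) = 0, and tends to the origin exactly when μ(v, λ) < 0. -/
theorem result (k : Type u) [Field k] (A : Type u) [CommRing A] [Bialgebra k A]
    (ι : Type u) [Fintype ι] [HopfRep.Comod k A (MvPolynomial ι k)] [GLin.IsCoactAlg k A (MvPolynomial ι k)]
    (hlin : GLin.IsLinear k A ι) (lam : A →ₐc[k] k[T;T⁻¹]) (v : ι → k) (hv : v ≠ 0) :
    (¬ GLin.HasLimit k A lam (GLin.vecPt k ι v) ↔ ∃ m : ℤ, GLin.IsMu k A lam v m ∧ 0 < m) ∧
      ((GLin.HasLimit k A lam (GLin.vecPt k ι v) ∧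
          ¬ GLin.IsLimit k A lam (GLin.vecPt k ι v) (GLin.vecPt k ι (fun _ => (0 : k)))) ↔
        GLin.IsMu k A lam v 0) ∧
      (GLin.IsLimit k A lam (GLin.vecPt k ι v) (GLin.vecPt k ι (fun _ => (0 : k))) ↔
        ∃ m : ℤ, GLin.IsMu k A lam v m ∧ m < 0) := by
  have hS := Groth.Agent.H19.GITMu.supp_nonempty _
    (Groth.Agent.H19.GITMu.exists_w_ne_zero k A ι lam v hv)
  have hMu : ∀ m : ℤ, GLin.IsMu k A lam v m ↔
      m = -(Groth.Agent.H19.GITMu.supp (Groth.Agent.H19.GITMu.w k A ι lam v)).min' hS := fun m =>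
    (Groth.Agent.H19.GITMu.isMu_iff_muProp k A ι lam v m).trans
      (Groth.Agent.H19.GITMu.muProp_iff _ hS m)
  have hHas : GLin.HasLimit k A lam (GLin.vecPt k ι v) ↔
      0 ≤ (Groth.Agent.H19.GITMu.supp (Groth.Agent.H19.GITMu.w k A ι lam v)).min' hS :=
    (Groth.Agent.H19.GITMu.hasLimit_iff k A ι lam v).trans (Groth.Agent.H19.GITMu.hasLim_iff _ hS)
  have hLim : GLin.IsLimit k A lam (GLin.vecPt k ι v) (GLin.vecPt k ι (fun _ => (0 : k))) ↔
      0 < (Groth.Agent.H19.GITMu.supp (Groth.Agent.H19.GITMu.w k A ι lam v)).min' hS :=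
    (Groth.Agent.H19.GITMu.isLimit_zero_iff k A ι lam v).trans
      (Groth.Agent.H19.GITMu.limZero_iff _ hS)
  generalize (Groth.Agent.H19.GITMu.supp (Groth.Agent.H19.GITMu.w k A ι lam v)).min' hS = N at hMu hHas hLim
  refine ⟨?_, ?_, ?_⟩
  · rw [hHas]
    constructor
    · intro h
      exact ⟨-N, (hMu _).mpr rfl, by omega⟩
    · rintro ⟨m, hm, hpos⟩
      have := (hMu m).mp hm
      omega
  · rw [hHas, hLim, hMu]
    omega
  · rw [hLim]
    constructor
    · intro h
      exact ⟨-N, (hMu _).mpr rfl, by omega⟩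
    · rintro ⟨m, hm, hneg⟩
      have := (hMu m).mp hm
      omega

end Groth.Agent.S12545
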