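import Groth.Statements.S12549
import Mathlib

set_option autoImplicit false
universe u
open GIT

namespace Groth.Agent.S12549

section Helpers
open Finset



/-- sample points -/
noncomputable def u (n g : ℕ) (i : ℕ) : ℝ := if i ≤ n - g then (i : ℝ) else (i : ℝ) + g

noncomputable def Hs (n g : ℕ) (τ : ℝ) : ℝ := ∑ i ∈ Finset.range (n + 1), max (τ - u n g i) 0

theorem Hs_ge (n g k : ℕ) (hk : k ≤ n + 1) (τ : ℝ) :
    ∑ i ∈ Finset.range k, (τ - u n g i) ≤ Hs n g τ := by
  unfold Hs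
  calc ∑ i ∈ Finset.range k, (τ - u n g i)
      ≤ ∑ i ∈ Finset.range k, max (τ - u n g i) 0 :=
        Finset.sum_le_sum (fun i _ => le_max_left _ _)
    _ ≤ ∑ i ∈ Finset.range (n + 1), max (τ - u n g i) 0 :=
        Finset.sum_le_sum_of_subset_of_nonneg (Finset.range_mono hk)
          (fun i _ _ => le_max_right _ _)

theorem sum_low (n g k : ℕ) (hk : k ≤ n - g + 1) (τ : ℝ) :
    2 * ∑ i ∈ Finset.range k, (τ - u n g i) = 2 * k * τ - k * (k - 1) := by
  induction k with
  | zero => simp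
  | succ k ih =>
    rw [Finset.sum_range_succ, mul_add, ih (by omega)]
    have : u n g k = k := if_pos (by omega)
    rw [this]; push_cast; ring

theorem sum_high (n g j : ℕ) (hg : g ≤ n) (τ : ℝ) :
    2 * ∑ i ∈ Finset.range (n - g + 1 + j), (τ - u n g i) =
      (2 * ((n - g + 1 : ℕ) : ℝ) * τ - ((n - g + 1 : ℕ) : ℝ) * (((n - g + 1 : ℕ) : ℝ) - 1)) +
      (2 * j * τ - 2 * j * (((n - g + 1 : ℕ) : ℝ) + g) - j * (j - 1)) := by
  induction j with
  | zero =>
    rw [add_zero, sum_low n g (n - g + 1) le_rfl τ]; push_cast; ring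
  | succ j ih =>
    rw [← add_assoc, Finset.sum_range_succ, mul_add, ih]
    have : u n g (n - g + 1 + j) = ((n - g + 1 + j : ℕ) : ℝ) + g := if_neg (by omega)
    rw [this]; push_cast; ring

theorem hinge (n g : ℕ) (hg : 1 ≤ g) (hn : 2 * g ≤ n) (τ : ℕ) (h1 : 1 ≤ τ) (h2 : τ ≤ n + g) :
    ((n : ℝ) + 1) * (τ : ℝ) ^ 2 < ((n : ℝ) + g) * (2 * Hs n g τ) := by
  obtain ⟨m, hm⟩ : ∃ m, m = n - g + 1 := ⟨_, rfl⟩
  have hmn : (n : ℝ) = m + g - 1 := by
    have : n = m + g - 1 := by omega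
    rw [this]; push_cast [Nat.cast_sub (by omega : 1 ≤ m + g)]; ring
  have hG1 : (1 : ℝ) ≤ g := by exact_mod_cast hg
  have hmg : (g : ℝ) + 1 ≤ m := by
    have : g + 1 ≤ m := by omega
    exact_mod_cast this
  have ht1 : (1 : ℝ) ≤ τ := by exact_mod_cast h1
  have hpos : (0 : ℝ) < (n : ℝ) + g := by rw [hmn]; linarith
  rcases le_or_gt τ m with hc1 | hc1
  · -- case 1
    have hb := Hs_ge n g τ (by omega) τ
    have hs := sum_low n g τ (by omega) τ
    have h2H : (τ : ℝ) ^ 2 + τ ≤ 2 * Hs n g τ := by nlinarith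
    have : ((n : ℝ) + 1) * (τ : ℝ) ^ 2 < ((n : ℝ) + g) * ((τ : ℝ) ^ 2 + τ) := by
      rw [hmn]; nlinarith
    calc _ < _ := this
      _ ≤ _ := mul_le_mul_of_nonneg_left h2H hpos.le
  · rcases le_or_gt τ (m + g) with hc2 | hc2
    · -- case 2
      have hb := Hs_ge n g m (by omega) τ
      have hs := sum_low n g m (by omega) τ
      have h2H : 2 * (m : ℝ) * τ - m * (m - 1) ≤ 2 * Hs n g τ := by nlinarith
      obtain ⟨k, hk⟩ : ∃ k, τ = m + k := ⟨τ - m, by omega⟩
      have hkg : (k : ℝ) ≤ g := by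
        have : k ≤ g := by omega
        exact_mod_cast this
      have hk0 : (0 : ℝ) ≤ k := Nat.cast_nonneg k
      have hτ : (τ : ℝ) = m + k := by rw [hk]; push_cast; ring
      have key : ((n : ℝ) + 1) * (τ : ℝ) ^ 2 < ((n : ℝ) + g) * (2 * (m : ℝ) * τ - m * (m - 1)) := by
        rw [hmn, hτ]
        -- f(k) = (m+2g-1) m (m+2k+1) - (m+g)(m+k)^2 > 0
        have f0 : (0 : ℝ) < ((m : ℝ) + 2 * g - 1) * m * (m + 1) - (m + g) * m ^ 2 := by nlinarith
        have fg : (0 : ℝ) < ((m : ℝ) + 2 * g - 1) * m * (m + 2 * g + 1) - (m + g) * (m + g) ^ 2 := by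
          nlinarith [mul_pos (by linarith : (0:ℝ) < g) (by linarith : (0:ℝ) < g), mul_nonneg (by linarith : (0:ℝ) ≤ m - g - 1) (by linarith : (0:ℝ) ≤ g)]
        have hid : (g : ℝ) * (((m : ℝ) + 2 * g - 1) * m * (m + 2 * k + 1) - (m + g) * (m + k) ^ 2) =
            (g - k) * (((m : ℝ) + 2 * g - 1) * m * (m + 1) - (m + g) * m ^ 2) +
            k * (((m : ℝ) + 2 * g - 1) * m * (m + 2 * g + 1) - (m + g) * (m + g) ^ 2) +
            g * (m + g) * k * (g - k) := by ring
        have hpos2 : (0 : ℝ) < (g : ℝ) * (((m : ℝ) + 2 * g - 1) * m * (m + 2 * k + 1) - (m + g) * (m + k) ^ 2) := by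
          rw [hid]
          rcases eq_or_lt_of_le hk0 with h0 | h0
          · rw [← h0]; nlinarith
          · have : (0:ℝ) < k * (((m : ℝ) + 2 * g - 1) * m * (m + 2 * g + 1) - (m + g) * (m + g) ^ 2) := mul_pos h0 fg
            have h3 : (0:ℝ) ≤ (g - k) * (((m : ℝ) + 2 * g - 1) * m * (m + 1) - (m + g) * m ^ 2) :=
              mul_nonneg (by linarith) f0.le
            have h4 : (0:ℝ) ≤ g * (m + g) * k * (g - k) := by
              apply mul_nonneg (mul_nonneg (mul_nonneg _ _) _) _ <;> linarith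
            linarith
        have hfk := (mul_pos_iff_of_pos_left (by linarith : (0:ℝ) < g)).1 hpos2
        nlinarith [hfk]
      calc _ < _ := key
        _ ≤ _ := mul_le_mul_of_nonneg_left h2H hpos.le
    · -- case 3
      obtain ⟨j, hj⟩ : ∃ j, τ = m + g + j := ⟨τ - m - g, by omega⟩
      have hb := Hs_ge n g (n - g + 1 + j) (by omega) τ
      have hs := sum_high n g j (by omega) τ
      rw [← hm] at hs hb
      have hτ : (τ : ℝ) = m + g + j := by rw [hj]; push_cast; ring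
      have hjg : (j : ℝ) ≤ g - 1 := by
        have : j + 1 ≤ g := by omega
        have : ((j + 1 : ℕ) : ℝ) ≤ g := by exact_mod_cast this
        push_cast at this; linarith
      have hj0 : (0 : ℝ) ≤ j := Nat.cast_nonneg j
      have h2H : (2 * (m : ℝ) * τ - m * (m - 1)) + ((j : ℝ) ^ 2 + j) ≤ 2 * Hs n g τ := by
        have h5 : 2 * (j : ℝ) * τ - 2 * j * ((m : ℝ) + g) = 2 * (j : ℝ) ^ 2 := by rw [hτ]; ring
        linarith
      have key : ((n : ℝ) + 1) * (τ : ℝ) ^ 2 <
          ((n : ℝ) + g) * ((2 * (m : ℝ) * τ - m * (m - 1)) + ((j : ℝ) ^ 2 + j)) := by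
        rw [hmn, hτ]
        -- F(j) ≥ F(g-1) > 0
        nlinarith [mul_nonneg hj0 (by linarith : (0:ℝ) ≤ g - 1 - j), mul_nonneg (by linarith : (0:ℝ) ≤ g - 1 - j) (by linarith : (0:ℝ) ≤ g - 1), mul_nonneg (by linarith : (0:ℝ) ≤ m - g - 1) (by linarith : (0:ℝ) ≤ g), mul_nonneg (by linarith : (0:ℝ) ≤ g - 1 - j) (by linarith : (0:ℝ) ≤ m)]
      calc _ < _ := key
        _ ≤ _ := mul_le_mul_of_nonneg_left h2H hpos.le



section PL
variable (μ : ℕ) (X Y : ℕ → ℝ)

noncomputable def sl (j : ℕ) : ℝ := if j < μ then (Y (j + 1) - Y j) / (X (j + 1) - X j) else 0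

noncomputable def aa (j : ℕ) : ℝ := sl μ X Y j - sl μ X Y (j - 1)

noncomputable def gg (x : ℝ) : ℝ :=
  Y μ + ∑ j ∈ Finset.Ico 1 (μ + 1), aa μ X Y j * max (X j - x) 0

noncomputable def GG (m : ℕ) (x : ℝ) : ℝ :=
  Y μ + ∑ j ∈ Finset.Ico (m + 1) (μ + 1), aa μ X Y j * (X j - x)

theorem X_mono (hX : ∀ j < μ, X j < X (j + 1)) (i j : ℕ) (hij : i ≤ j) (hj : j ≤ μ) :
    X i ≤ X j := by
  induction j with
  | zero =>
    have : i = 0 := by omega
    subst this; exact le_rfl
  | succ j ih =>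
    rcases Nat.eq_or_lt_of_le hij with h | h
    · subst h; exact le_rfl
    · exact (ih (by omega) (by omega)).trans (hX j (by omega)).le

theorem GG_eq (hX : ∀ j < μ, X j < X (j + 1)) (m : ℕ) (hm : m ≤ μ) (x : ℝ) :
    GG μ X Y m x = Y m + sl μ X Y m * (x - X m) := by
  obtain ⟨k, hk⟩ : ∃ k, m + k = μ := ⟨μ - m, by omega⟩
  induction k generalizing m with
  | zero =>
    have : m = μ := by omega
    subst this
    simp [GG, sl]
  | succ k ih =>
    have hlt : m < μ := by omega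
    have h1 := ih (m + 1) (by omega) (by omega)
    have hsplit : GG μ X Y m x = GG μ X Y (m + 1) x + aa μ X Y (m + 1) * (X (m + 1) - x) := by
      unfold GG
      rw [Finset.sum_eq_sum_Ico_succ_bot (by omega : m + 1 < μ + 1)]
      ring
    rw [hsplit, h1]
    have hsl : sl μ X Y m = (Y (m + 1) - Y m) / (X (m + 1) - X m) := if_pos hlt
    have hne : X (m + 1) - X m ≠ 0 := by have := hX m hlt; linarith
    have haa : aa μ X Y (m + 1) = sl μ X Y (m + 1) - sl μ X Y m := by
      unfold aa; simp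
    rw [haa, hsl]
    field_simp
    ring

theorem gg_eq_GG (hX : ∀ j < μ, X j < X (j + 1)) (m : ℕ) (hm : m ≤ μ) (x : ℝ)
    (h1 : X m ≤ x) (h2 : m < μ → x ≤ X (m + 1)) : gg μ X Y x = GG μ X Y m x := by
  unfold gg GG
  rw [← Finset.sum_Ico_consecutive _ (by omega : 1 ≤ m + 1) (by omega : m + 1 ≤ μ + 1)]
  have hz : ∑ j ∈ Finset.Ico 1 (m + 1), aa μ X Y j * max (X j - x) 0 = 0 := by
    refine Finset.sum_eq_zero (fun j hj => ?_)
    have hj' := Finset.mem_Ico.1 hj
    have : X j ≤ X m := X_mono μ X hX j m (by omega) hm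
    rw [max_eq_right (by linarith), mul_zero]
  rw [hz, zero_add]
  congr 1
  refine Finset.sum_congr rfl (fun j hj => ?_)
  have hj' := Finset.mem_Ico.1 hj
  have hmμ : m < μ := by omega
  have : X (m + 1) ≤ X j := X_mono μ X hX (m + 1) j (by omega) (by omega)
  rw [max_eq_left (by linarith [h2 hmμ])]

theorem gg_antitone (ha : ∀ j ∈ Finset.Ico 1 (μ + 1), 0 ≤ aa μ X Y j) : Antitone (gg μ X Y) := by
  intro x x' hxx'
  unfold gg
  refine add_le_add_right (Finset.sum_le_sum (fun j hj => ?_)) _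
  exact mul_le_mul_of_nonneg_left (max_le_max (by linarith) le_rfl) (ha j hj)

theorem area_aux (hX : ∀ j < μ, X j < X (j + 1)) (m : ℕ) (hm : m ≤ μ) :
    ∑ j ∈ Finset.Ico m μ, (X (j + 1) - X j) * (Y j + Y (j + 1)) =
      2 * (X μ - X m) * Y μ + ∑ j ∈ Finset.Ico (m + 1) (μ + 1), aa μ X Y j * (X j - X m) ^ 2 := by
  obtain ⟨k, hk⟩ : ∃ k, m + k = μ := ⟨μ - m, by omega⟩
  induction k generalizing m with
  | zero =>
    have : m = μ := by omega
    subst this
    simp
  | succ k ih =>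
    have hlt : m < μ := by omega
    have h1 := ih (m + 1) (by omega) (by omega)
    have hG0 := GG_eq μ X Y hX m hm (X m)
    have hG1 := GG_eq μ X Y hX (m + 1) (by omega) (X (m + 1))
    unfold GG at hG0 hG1
    rw [sub_self, mul_zero, add_zero] at hG0 hG1
    rw [Finset.sum_eq_sum_Ico_succ_bot (by omega : m + 1 < μ + 1)] at hG0
    rw [Finset.sum_eq_sum_Ico_succ_bot hlt, h1,
      Finset.sum_eq_sum_Ico_succ_bot (by omega : m + 1 < μ + 1)]
    have hsq : ∑ j ∈ Finset.Ico (m + 1 + 1) (μ + 1), aa μ X Y j * (X j - X m) ^ 2 =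
        ∑ j ∈ Finset.Ico (m + 1 + 1) (μ + 1), aa μ X Y j * (X j - X (m + 1)) ^ 2 +
        (X (m + 1) - X m) * (∑ j ∈ Finset.Ico (m + 1 + 1) (μ + 1), aa μ X Y j * (X j - X m) +
          ∑ j ∈ Finset.Ico (m + 1 + 1) (μ + 1), aa μ X Y j * (X j - X (m + 1))) := by
      rw [← Finset.sum_add_distrib, Finset.mul_sum, ← Finset.sum_add_distrib]
      refine Finset.sum_congr rfl (fun j _ => ?_)
      ring
    rw [hsq]
    linear_combination (-(X (m + 1) - X m)) * hG0 + (-(X (m + 1) - X m)) * hG1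

theorem area (hX : ∀ j < μ, X j < X (j + 1)) (hX0 : X 0 = 0) :
    ∑ j ∈ Finset.range μ, (X (j + 1) - X j) * (Y j + Y (j + 1)) =
      2 * X μ * Y μ + ∑ j ∈ Finset.Ico 1 (μ + 1), aa μ X Y j * (X j) ^ 2 := by
  have := area_aux μ X Y hX 0 (Nat.zero_le _)
  rw [hX0] at this
  simp only [sub_zero, zero_add] at this
  rw [Finset.range_eq_Ico]
  exact this

end PL



section Hull
variable {n : ℕ} (e : Fin (n + 1) → ℕ) (r : Fin (n + 1) → ℝ)

noncomputable def slp (a b : Fin (n + 1)) : ℝ := (r b - r a) / ((e b : ℝ) - e a)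

noncomputable def cand (a : Fin (n + 1)) : Finset (Fin (n + 1)) :=
  Finset.univ.filter (fun b => e a < e b)

noncomputable def nxt (a : Fin (n + 1)) : Fin (n + 1) :=
  if h : (cand e a).Nonempty then
    Classical.choose (Finset.exists_min_image (cand e a) (slp e r a) h) else a

theorem nxt_spec (a : Fin (n + 1)) (h : (cand e a).Nonempty) :
    nxt e r a ∈ cand e a ∧ ∀ b ∈ cand e a, slp e r a (nxt e r a) ≤ slp e r a b := by
  unfold nxt
  rw [dif_pos h]
  exact Classical.choose_spec (Finset.exists_min_image (cand e a) (slp e r a) h)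

theorem exists_hull (g : ℕ) (he0 : e 0 = 0) (hen : e (Fin.last n) = n + g) (hmono : Monotone e)
    (hlt : ∀ i, i ≠ Fin.last n → e i < n + g) :
    ∃ (μ : ℕ) (c : ℕ → Fin (n + 1)), e (c 0) = 0 ∧ (∀ i, e i = 0 → i ≤ c 0) ∧
      c μ = Fin.last n ∧ (∀ j < μ, e (c j) < e (c (j + 1))) ∧
      (∀ j < μ, ∀ i, e (c j) < e i → slp e r (c j) (c (j + 1)) ≤ slp e r (c j) i) := by
  classical
  obtain ⟨i0, hi0, hi0max⟩ := Finset.exists_max_image (Finset.univ.filter (fun i => e i = 0))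
    (fun i => i) ⟨0, by simp [he0]⟩
  have hi0e : e i0 = 0 := (Finset.mem_filter.1 hi0).2
  let c : ℕ → Fin (n + 1) := fun j => (nxt e r)^[j] i0
  have hc0 : c 0 = i0 := rfl
  have hcs : ∀ j, c (j + 1) = nxt e r (c j) := fun j => Function.iterate_succ_apply' _ _ _
  have hle : ∀ i, e i ≤ n + g := fun i => hen ▸ hmono (Fin.le_last i)
  have hstep : ∀ a, e a < n + g → e a < e (nxt e r a) ∧
      ∀ i, e a < e i → slp e r a (nxt e r a) ≤ slp e r a i := by
    intro a ha
    have hne : (cand e a).Nonempty := ⟨Fin.last n, by simp [cand, hen, ha]⟩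
    obtain ⟨h1, h2⟩ := nxt_spec e r a hne
    refine ⟨(Finset.mem_filter.1 h1).2, fun i hi => h2 i (by simp [cand, hi])⟩
  have hex : ∃ j, e (c j) = n + g := by
    by_contra hcon
    push_neg at hcon
    have hlow : ∀ j, j ≤ e (c j) := by
      intro j
      induction j with
      | zero => exact Nat.zero_le _
      | succ j ih =>
        have h1 := (hstep (c j) (lt_of_le_of_ne (hle _) (hcon j))).1
        rw [hcs]; omega
    have := hlow (n + g + 1)
    have := hle (c (n + g + 1))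
    omega
  refine ⟨Nat.find hex, c, hi0e, fun i hi => hi0max i (by simp [hi]), ?_, ?_, ?_⟩
  · by_contra hne
    have := hlt _ hne
    have := Nat.find_spec hex
    omega
  · intro j hj
    have hne := Nat.find_min hex hj
    rw [hcs]
    exact (hstep (c j) (lt_of_le_of_ne (hle _) hne)).1
  · intro j hj i hi
    have hne := Nat.find_min hex hj
    rw [hcs]
    exact (hstep (c j) (lt_of_le_of_ne (hle _) hne)).2 i hi

end Hull


theorem main (n g : ℕ) (hg : 1 ≤ g) (hn : 2 * g ≤ n)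
    (e : Fin (n + 1) → ℕ) (he0 : e 0 = 0) (hen : e (Fin.last n) = n + g) (hmono : Monotone e)
    (hle : ∀ i : Fin (n + 1), (i : ℕ) ≤ n - g → e i ≤ (i : ℕ)) (hle' : ∀ i : Fin (n + 1), e i ≤ (i : ℕ) + g)
    (r : Fin (n + 1) → ℝ) (hanti : Antitone r) (hsum : ∑ i, r i = 0) (hr : r ≠ 0) :
    ∃ (μ : ℕ) (c : ℕ → Fin (n + 1)), e (c 0) = 0 ∧ c μ = Fin.last n ∧ (∀ j < μ, c j < c (j + 1)) ∧
      ∑ j ∈ Finset.range μ, ((e (c (j + 1)) : ℝ) - (e (c j) : ℝ)) * (r (c (j + 1)) + r (c j)) < 0 := by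
  classical
  have hlt : ∀ i, i ≠ Fin.last n → e i < n + g := by
    intro i hi
    have h1 := hle' i
    have h2 : (i : ℕ) < n := Fin.val_lt_last hi
    omega
  obtain ⟨μ, c, hc0, hc0max, hcμ, hcinc, hchull⟩ := exists_hull e r g he0 hen hmono hlt
  refine ⟨μ, c, hc0, hcμ, ?_, ?_⟩
  · intro j hj
    by_contra hcon
    have := hmono (not_lt.1 hcon)
    have := hcinc j hj
    omega
  have hcidx : ∀ j < μ, c j < c (j + 1) := by
    intro j hj
    by_contra hcon
    have := hmono (not_lt.1 hcon)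
    have := hcinc j hj
    omega
  set X : ℕ → ℝ := fun j => (e (c j) : ℝ) with hXdef
  set Y : ℕ → ℝ := fun j => r (c j) with hYdef
  have hX : ∀ j < μ, X j < X (j + 1) := fun j hj => by
    simp only [hXdef]; exact_mod_cast hcinc j hj
  have hX0 : X 0 = 0 := by simp only [hXdef]; exact_mod_cast hc0
  have hXμ : X μ = (n : ℝ) + g := by simp only [hXdef]; rw [hcμ, hen]; push_cast; ring
  have hμ1 : 1 ≤ μ := by
    by_contra h
    have : μ = 0 := by omega
    rw [this, hX0] at hXμ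
    have : (0 : ℝ) < (n : ℝ) + g := by
      have : (1 : ℝ) ≤ g := by exact_mod_cast hg
      have : (0 : ℝ) ≤ n := Nat.cast_nonneg n
      linarith
    linarith
  -- slopes
  have hsl : ∀ j < μ, sl μ X Y j = slp e r (c j) (c (j + 1)) := fun j hj => by
    unfold sl slp; rw [if_pos hj]
  have hconv : ∀ j, j + 1 < μ → sl μ X Y j ≤ sl μ X Y (j + 1) := by
    intro j hj
    have h1 := hchull j (by omega) (c (j + 1 + 1)) ((hcinc j (by omega)).trans (hcinc (j + 1) hj))
    rw [hsl j (by omega), hsl (j + 1) hj]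
    unfold slp at h1 ⊢
    have hd1 : (0 : ℝ) < (e (c (j + 1)) : ℝ) - e (c j) := sub_pos.2 (hX j (by omega))
    have hd2 : (0 : ℝ) < (e (c (j + 1 + 1)) : ℝ) - e (c (j + 1)) := sub_pos.2 (hX (j + 1) hj)
    have hd3 : (0 : ℝ) < (e (c (j + 1 + 1)) : ℝ) - e (c j) := by linarith
    rw [div_le_div_iff₀ hd1 hd3] at h1
    rw [div_le_div_iff₀ hd1 hd2]
    nlinarith
  have hlast : sl μ X Y (μ - 1) ≤ 0 := by
    rw [hsl (μ - 1) (by omega)]
    unfold slp
    have hd1 : (0 : ℝ) < (e (c (μ - 1 + 1)) : ℝ) - e (c (μ - 1)) := sub_pos.2 (hX (μ - 1) (by omega))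
    have : r (c (μ - 1 + 1)) ≤ r (c (μ - 1)) := hanti (hcidx (μ - 1) (by omega)).le
    exact div_nonpos_of_nonpos_of_nonneg (by linarith) hd1.le
  have hslμ : sl μ X Y μ = 0 := if_neg (lt_irrefl _)
  have ha : ∀ j ∈ Finset.Ico 1 (μ + 1), 0 ≤ aa μ X Y j := by
    intro j hj
    have hj' := Finset.mem_Ico.1 hj
    unfold aa
    rcases Nat.lt_or_ge j μ with h | h
    · have := hconv (j - 1) (by omega)
      rw [show j - 1 + 1 = j by omega] at this
      linarith
    · have : j = μ := by omega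
      subst this
      rw [hslμ]; linarith
  -- hull property
  have hhull : ∀ i : Fin (n + 1), gg μ X Y (e i) ≤ r i := by
    intro i
    rcases Nat.eq_zero_or_pos (e i) with h0 | hpos
    · rw [h0, Nat.cast_zero, gg_eq_GG μ X Y hX 0 (Nat.zero_le _) 0 (by rw [hX0])
        (fun h => by have := hX 0 h; rw [hX0] at this; exact this.le), GG_eq μ X Y hX 0 (Nat.zero_le _)]
      rw [hX0, sub_zero, mul_zero, add_zero]
      exact hanti (hc0max i h0)
    · have hex : ∃ m, (e i : ℝ) ≤ X (m + 1) := ⟨μ - 1, by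
        rw [show μ - 1 + 1 = μ by omega, hXμ]
        have := hen ▸ hmono (Fin.le_last i)
        exact_mod_cast this⟩
      have hm1 := Nat.find_spec hex
      have hmμ : Nat.find hex < μ := by
        have : Nat.find hex ≤ μ - 1 := Nat.find_min' hex (by
          rw [show μ - 1 + 1 = μ by omega, hXμ]
          have := hen ▸ hmono (Fin.le_last i)
          exact_mod_cast this)
        omega
      have hm0 : X (Nat.find hex) < e i := by
        rcases Nat.eq_zero_or_pos (Nat.find hex) with hz | hp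
        · rw [hz, hX0]; exact_mod_cast hpos
        · have := Nat.find_min hex (show Nat.find hex - 1 < Nat.find hex by omega)
          rw [show Nat.find hex - 1 + 1 = Nat.find hex by omega] at this
          exact not_le.1 this
      obtain ⟨m, hm⟩ : ∃ m, m = Nat.find hex := ⟨_, rfl⟩
      rw [← hm] at hm1 hmμ hm0
      rw [gg_eq_GG μ X Y hX m hmμ.le (e i) hm0.le (fun _ => hm1), GG_eq μ X Y hX m hmμ.le,
        hsl m hmμ]
      have hlt' : e (c m) < e i := by
        have : ((e (c m) : ℕ) : ℝ) < e i := hm0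
        exact_mod_cast this
      have h1 := hchull m hmμ i hlt'
      unfold slp at h1 ⊢
      have hd : (0 : ℝ) < (e i : ℝ) - e (c m) := sub_pos.2 hm0
      have h2 := (le_div_iff₀ hd).1 h1
      simp only [hXdef, hYdef]
      linarith
  -- sample points dominate e
  have hu : ∀ i : Fin (n + 1), (e i : ℝ) ≤ u n g i := by
    intro i
    unfold u
    split_ifs with h
    · exact_mod_cast hle i h
    · have := hle' i
      have : ((e i : ℕ) : ℝ) ≤ ((i : ℕ) + g : ℕ) := by exact_mod_cast this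
      push_cast at this; exact this
  have hganti := gg_antitone μ X Y ha
  have hsumg : ∑ i : Fin (n + 1), gg μ X Y (u n g i) ≤ 0 := by
    rw [← hsum]
    exact Finset.sum_le_sum (fun i _ => (hganti (hu i)).trans (hhull i))
  have hsumg2 : ∑ i : Fin (n + 1), gg μ X Y (u n g i) =
      ((n : ℝ) + 1) * Y μ + ∑ j ∈ Finset.Ico 1 (μ + 1), aa μ X Y j * Hs n g (X j) := by
    unfold gg Hs
    rw [Finset.sum_add_distrib, Finset.sum_const, Finset.card_univ, Fintype.card_fin, nsmul_eq_mul,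
      Finset.sum_comm]
    push_cast
    congr 1
    refine Finset.sum_congr rfl (fun j _ => ?_)
    rw [Finset.mul_sum, Fin.sum_univ_eq_sum_range (fun i => aa μ X Y j * max (X j - u n g i) 0)]
  have harea := area μ X Y hX hX0
  -- the trapezoid sum in the statement equals the area sum
  have hS : ∑ j ∈ Finset.range μ, ((e (c (j + 1)) : ℝ) - (e (c j) : ℝ)) * (r (c (j + 1)) + r (c j)) =
      ∑ j ∈ Finset.range μ, (X (j + 1) - X j) * (Y j + Y (j + 1)) := by
    refine Finset.sum_congr rfl (fun j _ => ?_)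
    simp only [hXdef, hYdef]; ring
  rw [hS, harea, hXμ]
  -- hinge inequalities
  have hhinge : ∀ j ∈ Finset.Ico 1 (μ + 1),
      ((n : ℝ) + 1) * (X j) ^ 2 - ((n : ℝ) + g) * (2 * Hs n g (X j)) < 0 := by
    intro j hj
    have hj' := Finset.mem_Ico.1 hj
    have h1 : 1 ≤ e (c j) := by
      have h0 : X 0 < X j := by
        have := X_mono μ X hX 1 j (by omega) (by omega)
        have := hX 0 (by omega)
        linarith
      rw [hX0] at h0
      have : (0 : ℝ) < ((e (c j) : ℕ) : ℝ) := h0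
      have : 0 < e (c j) := by exact_mod_cast this
      omega
    have h2 : e (c j) ≤ n + g := hen ▸ hmono (Fin.le_last _)
    have := hinge n g hg hn (e (c j)) h1 h2
    simp only [hXdef]
    linarith
  have hpos : (0 : ℝ) < (n : ℝ) + 1 := by positivity
  have hposd : (0 : ℝ) < (n : ℝ) + g := by
    have : (1 : ℝ) ≤ g := by exact_mod_cast hg
    have : (0 : ℝ) ≤ n := Nat.cast_nonneg n
    linarith
  by_cases hall : ∀ j ∈ Finset.Ico 1 (μ + 1), aa μ X Y j = 0
  · -- constant case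
    rw [Finset.sum_eq_zero (fun j hj => by rw [hall j hj, zero_mul]), add_zero]
    have hrn : r (Fin.last n) < 0 := by
      by_contra hcon
      have hnn : ∀ i ∈ Finset.univ, 0 ≤ r i := fun i _ => (not_lt.1 hcon).trans (hanti (Fin.le_last i))
      have := (Finset.sum_eq_zero_iff_of_nonneg hnn).1 hsum
      exact hr (funext (fun i => this i (Finset.mem_univ i)))
    have hYμ : Y μ = r (Fin.last n) := by simp only [hYdef, hcμ]
    rw [hYμ]
    nlinarith
  · push_neg at hall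
    obtain ⟨j0, hj0, hj0ne⟩ := hall
    have hj0pos : 0 < aa μ X Y j0 := lt_of_le_of_ne (ha j0 hj0) (Ne.symm hj0ne)
    have hkey : ∑ j ∈ Finset.Ico 1 (μ + 1), aa μ X Y j *
        (((n : ℝ) + 1) * (X j) ^ 2 - ((n : ℝ) + g) * (2 * Hs n g (X j))) < 0 := by
      refine Finset.sum_neg' (fun j hj => mul_nonpos_of_nonneg_of_nonpos (ha j hj) (hhinge j hj).le)
        ⟨j0, hj0, mul_neg_of_pos_of_neg hj0pos (hhinge j0 hj0)⟩
    have hexp : ∑ j ∈ Finset.Ico 1 (μ + 1), aa μ X Y j *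
        (((n : ℝ) + 1) * (X j) ^ 2 - ((n : ℝ) + g) * (2 * Hs n g (X j))) =
        ((n : ℝ) + 1) * ∑ j ∈ Finset.Ico 1 (μ + 1), aa μ X Y j * (X j) ^ 2 -
          2 * ((n : ℝ) + g) * ∑ j ∈ Finset.Ico 1 (μ + 1), aa μ X Y j * Hs n g (X j) := by
      rw [Finset.mul_sum, Finset.mul_sum, ← Finset.sum_sub_distrib]
      refine Finset.sum_congr rfl (fun j _ => ?_)
      ring
    rw [hexp] at hkey
    rw [hsumg2] at hsumg
    have : ((n : ℝ) + 1) * (2 * ((n : ℝ) + g) * Y μ +
        ∑ j ∈ Finset.Ico 1 (μ + 1), aa μ X Y j * (X j) ^ 2) < 0 := by nlinarith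
    rcases mul_neg_iff.1 this with ⟨_, h⟩ | ⟨h, _⟩
    · exact h
    · linarith


end Helpers

/-- Let g ≥ 1 and n ≥ 2g, and let e_0, …, e_n be natural numbers with e_0 = 0, e_n = n + g, e_0 ≤ … ≤
e_n, e_i ≤ i for i ≤ n − g and e_i ≤ i + g for all i. Then for all real r_0 ≥ r_1 ≥ … ≥ r_n with Σ
r_i = 0, not all zero, some chain 0 = c_0 < c_1 < … < c_μ = n has Σ_j (e_(c_(j+1)) − e_(c_j)) ·
(r_(c_(j+1)) + r_(c_j)) < 0. -/
theorem result (n g : ℕ) (hg : 1 ≤ g) (hn : 2 * g ≤ n)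
    (e : Fin (n + 1) → ℕ) (he0 : e 0 = 0) (hen : e (Fin.last n) = n + g) (hmono : Monotone e)
    (hle : ∀ i : Fin (n + 1), (i : ℕ) ≤ n - g → e i ≤ (i : ℕ)) (hle' : ∀ i : Fin (n + 1), e i ≤ (i : ℕ) + g)
    (r : Fin (n + 1) → ℝ) (hanti : Antitone r) (hsum : ∑ i, r i = 0) (hr : r ≠ 0) :
    ∃ (μ : ℕ) (c : Fin (μ + 1) → Fin (n + 1)), StrictMono c ∧ c 0 = 0 ∧ c (Fin.last μ) = Fin.last n ∧
      ∑ j : Fin μ, ((e (c j.succ) : ℝ) - (e (c j.castSucc) : ℝ)) * (r (c j.succ) + r (c j.castSucc)) < 0 := by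
  obtain ⟨μ, c, hc0, hcμ, hcinc, hS⟩ := Groth.Agent.S12549.main n g hg hn e he0 hen hmono hle hle' r hanti hsum hr
  by_cases h0 : c 0 = 0
  · refine ⟨μ, fun j => c j, ?_, ?_, ?_, ?_⟩
    · exact Fin.strictMono_iff_lt_succ.2 (fun j => hcinc j j.isLt)
    · simpa using h0
    · simpa using hcμ
    · have := Fin.sum_univ_eq_sum_range
        (fun j => ((e (c (j + 1)) : ℝ) - (e (c j) : ℝ)) * (r (c (j + 1)) + r (c j))) μ
      simp only [Fin.val_succ, Fin.val_castSucc]
      rw [this]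
      exact hS
  · refine ⟨μ + 1, fun j => if (j : ℕ) = 0 then 0 else c ((j : ℕ) - 1), ?_, ?_, ?_, ?_⟩
    · refine Fin.strictMono_iff_lt_succ.2 (fun j => ?_)
      simp only [Fin.val_succ, Fin.val_castSucc]
      have h2 : ¬ ((j : ℕ) + 1 = 0) := by omega
      rw [if_neg h2, Nat.add_sub_cancel]
      by_cases hj : (j : ℕ) = 0
      · rw [if_pos hj, hj]
        exact Fin.pos_iff_ne_zero.2 h0
      · rw [if_neg hj]
        have := hcinc ((j : ℕ) - 1) (by have := j.isLt; omega)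
        rw [show (j : ℕ) - 1 + 1 = (j : ℕ) by omega] at this
        exact this
    · simp
    · simp [hcμ]
    · rw [Fin.sum_univ_succ]
      simp only [Fin.val_succ, Fin.val_castSucc, Fin.val_zero]
      simp only [if_true, Nat.add_sub_cancel, if_neg (Nat.succ_ne_zero _), zero_add]
      rw [hc0, he0]
      simp only [Nat.cast_zero, sub_self, zero_mul, zero_add]
      have := Fin.sum_univ_eq_sum_range
        (fun j => ((e (c (j + 1)) : ℝ) - (e (c j) : ℝ)) * (r (c (j + 1)) + r (c j))) μ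
      convert hS using 1

end Groth.Agent.S12549
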