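import Groth.Statements.S12550
import Mathlib

set_option autoImplicit false
universe u
open GIT

namespace Groth.Agent.S12550

/-- Let V be a finite-dimensional vector space over a field K and x_0, …, x_m non-zero vectors, a
configuration of m + 1 points of the projective space P(V). If for every subspace L with 0 ≠ L ≠ V
the number of indices i with x_i ∈ L, multiplied by dim V, is less than dim L · (m + 1) (the
configuration is stable), then no two proper subspaces L', L'' with L' ∩ L'' = 0 contain between
them all the x_i. -/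
theorem result (K : Type u) [Field K]
    (V : Type u) [AddCommGroup V] [Module K V] [FiniteDimensional K V]
    (m : ℕ) (x : Fin (m + 1) → V) (hx : ∀ i, x i ≠ 0)
    (hst : ∀ L : Submodule K V, L ≠ ⊥ → L ≠ ⊤ →
      Set.ncard {i : Fin (m + 1) | x i ∈ L} * Module.finrank K V < Module.finrank K L * (m + 1)) :
    ¬ ∃ L' L'' : Submodule K V, L' ≠ ⊤ ∧ L'' ≠ ⊤ ∧ Disjoint L' L'' ∧ ∀ i, x i ∈ L' ∨ x i ∈ L'' := by
  rintro ⟨L', L'', hL', hL'', hdisj, hcov⟩
  set n := Module.finrank K V with hn
  have hab : Module.finrank K L' + Module.finrank K L'' ≤ n := by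
    have h1 := Submodule.finrank_sup_add_finrank_inf_eq L' L''
    rw [hdisj.eq_bot, finrank_bot, add_zero] at h1
    rw [← h1]
    exact Submodule.finrank_le _
  have hcard : m + 1 ≤ Set.ncard {i : Fin (m + 1) | x i ∈ L'} + Set.ncard {i : Fin (m + 1) | x i ∈ L''} := by
    have hun : {i : Fin (m + 1) | x i ∈ L'} ∪ {i : Fin (m + 1) | x i ∈ L''} = Set.univ := by
      ext i; simpa using hcov i
    calc m + 1 = Set.ncard (Set.univ : Set (Fin (m + 1))) := by simp
      _ = _ := by rw [hun]
      _ ≤ _ := Set.ncard_union_le _ _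
  have hle' : Module.finrank K L' ≤ n := Submodule.finrank_le _
  have hle'' : Module.finrank K L'' ≤ n := Submodule.finrank_le _
  have hsub : ∀ L : Submodule K V, Set.ncard {i : Fin (m + 1) | x i ∈ L} ≤ m + 1 := by
    intro L
    calc _ ≤ Set.ncard (Set.univ : Set (Fin (m + 1))) := Set.ncard_le_ncard (Set.subset_univ _)
      _ = m + 1 := by simp
  by_cases h' : L' = ⊥
  · have h0 : Set.ncard {i : Fin (m + 1) | x i ∈ L'} = 0 := by
      rw [h']; simp [hx]
    have hne : L'' ≠ ⊥ := by
      intro h
      rcases hcov 0 with h1 | h1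
      · rw [h'] at h1; exact hx 0 (by simpa using h1)
      · rw [h] at h1; exact hx 0 (by simpa using h1)
    have := hst L'' hne hL''
    have h2 : Set.ncard {i : Fin (m + 1) | x i ∈ L''} = m + 1 := le_antisymm (hsub _) (by omega)
    rw [h2] at this
    nlinarith
  by_cases h'' : L'' = ⊥
  · have h0 : Set.ncard {i : Fin (m + 1) | x i ∈ L''} = 0 := by
      rw [h'']; simp [hx]
    have := hst L' h' hL'
    have h2 : Set.ncard {i : Fin (m + 1) | x i ∈ L'} = m + 1 := le_antisymm (hsub _) (by omega)
    rw [h2] at this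
    nlinarith
  have h1 := hst L' h' hL'
  have h2 := hst L'' h'' hL''
  nlinarith

end Groth.Agent.S12550
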