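import Groth.Statements.S12553
import Mathlib
import Groth.Agent.H19.GITMu

set_option autoImplicit false
universe u
open TensorProduct LaurentPolynomial
open GIT

namespace Groth.Agent.S12553

section Core
variable {k : Type u} [Field k] {A : Type u} [CommRing A] [HopfAlgebra k A]
  {ι : Type u} [Fintype ι] [HopfRep.Comod k A (MvPolynomial ι k)]
variable (b : Module.Basis (GroupLike k A) k A) (hb : ∀ g, b g = g.val)
variable (m : ι → ι → A)
  (hm : ∀ i, HopfRep.Comod.coact (k := k) (A := A) (MvPolynomial.X i : MvPolynomial ι k) =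
    ∑ j, (MvPolynomial.X j : MvPolynomial ι k) ⊗ₜ[k] m i j)

theorem lcoeff_X [DecidableEq ι] (j l : ι) :
    MvPolynomial.lcoeff k (Finsupp.single l 1) (MvPolynomial.X j : MvPolynomial ι k) =
      if j = l then 1 else 0 := by
  rw [MvPolynomial.lcoeff_apply, MvPolynomial.coeff_X']
  by_cases h : j = l
  · subst h; simp
  · rw [if_neg h, if_neg]
    intro h2
    exact h (Finsupp.single_left_injective one_ne_zero h2)

include hm in
theorem counit_m [DecidableEq ι] (i j : ι) :
    Coalgebra.counit (R := k) (m i j) = if i = j then 1 else 0 := by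
  have h := congrArg (fun φ => φ (MvPolynomial.X i : MvPolynomial ι k))
    (HopfRep.Comod.counit_comp (k := k) (A := A) (V := MvPolynomial ι k))
  simp only [LinearMap.comp_apply, hm, map_sum, LinearMap.lTensor_tmul, LinearMap.flip_apply,
    TensorProduct.mk_apply] at h
  have h2 := congrArg (fun z => (TensorProduct.lid k k)
    (TensorProduct.map (MvPolynomial.lcoeff k (Finsupp.single j 1)) LinearMap.id z)) h
  simp only [map_sum, TensorProduct.map_tmul, TensorProduct.lid_tmul, lcoeff_X, LinearMap.id_apply,
    smul_eq_mul] at h2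
  simp only [ite_mul, one_mul, zero_mul, Finset.sum_ite_eq', Finset.mem_univ, if_true] at h2
  rw [h2]

include hb in
theorem coord_comul (g g' : GroupLike k A) [DecidableEq (GroupLike k A)] (a : A) :
    (TensorProduct.lid k k) (TensorProduct.map (b.coord g) (b.coord g')
      (CoalgebraStruct.comul (R := k) a)) = if g = g' then b.coord g a else 0 := by
  have key : (TensorProduct.lid k k).toLinearMap ∘ₗ (TensorProduct.map (b.coord g) (b.coord g')) ∘ₗ
      (CoalgebraStruct.comul (R := k) (A := A)) = if g = g' then b.coord g else 0 := by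
    apply b.ext
    intro h
    rw [hb h]
    simp only [LinearMap.comp_apply, h.2.comul_eq_tmul_self, TensorProduct.map_tmul,
      LinearEquiv.coe_coe, TensorProduct.lid_tmul, smul_eq_mul]
    rw [← hb h, Module.Basis.coord_apply, Module.Basis.coord_apply, Module.Basis.repr_self]
    by_cases hgg : g = g'
    · subst hgg
      rw [if_pos rfl, Module.Basis.coord_apply, Module.Basis.repr_self]
      by_cases hh : h = g
      · subst hh; simp
      · simp [Finsupp.single_apply, hh]
    · rw [if_neg hgg]
      simp only [Finsupp.single_apply, LinearMap.zero_apply]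
      by_cases hh : h = g
      · subst hh; rw [if_neg hgg]; simp
      · rw [if_neg hh]; simp
  have := congrArg (fun φ => φ a) key
  simp only [LinearMap.comp_apply, LinearEquiv.coe_coe] at this
  rw [this]
  split_ifs <;> rfl

include hb hm in
theorem cc_orth [DecidableEq ι] [DecidableEq (GroupLike k A)] (i l : ι) (g g' : GroupLike k A) :
    ∑ j, b.coord g (m j l) * b.coord g' (m i j) = if g = g' then b.coord g (m i l) else 0 := by
  have h := congrArg (fun φ => φ (MvPolynomial.X i : MvPolynomial ι k))
    (HopfRep.Comod.coassoc (k := k) (A := A) (V := MvPolynomial ι k))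
  simp only [LinearMap.comp_apply, hm, map_sum, LinearMap.rTensor_tmul, LinearMap.lTensor_tmul,
    TensorProduct.sum_tmul, LinearEquiv.coe_coe, TensorProduct.assoc_tmul] at h
  have h2 := congrArg (fun z => (TensorProduct.lid k k)
    (TensorProduct.map (MvPolynomial.lcoeff k (Finsupp.single l 1))
      ((TensorProduct.lid k k).toLinearMap ∘ₗ (TensorProduct.map (b.coord g) (b.coord g'))) z)) h
  simp only [map_sum, TensorProduct.map_tmul, TensorProduct.lid_tmul, lcoeff_X, LinearMap.comp_apply,
    LinearEquiv.coe_coe, smul_eq_mul, coord_comul b hb] at h2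
  simp only [ite_mul, one_mul, zero_mul, Finset.sum_ite_eq', Finset.mem_univ, if_true] at h2
  exact h2


/-- matrix of the `g`-isotypic projector -/
noncomputable def Mg (g : GroupLike k A) : Matrix ι ι k := fun i j => b.coord g (m i j)

include hb hm in
theorem Mg_mul [DecidableEq ι] [DecidableEq (GroupLike k A)] (g g' : GroupLike k A) :
    Mg b m g' * Mg b m g = if g = g' then Mg b m g else 0 := by
  ext i l
  rw [Matrix.mul_apply]
  have := cc_orth b hb m hm i l g g'
  simp only [Mg]
  rw [show (∑ j, b.coord g' (m i j) * b.coord g (m j l)) =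
    ∑ j, b.coord g (m j l) * b.coord g' (m i j) from
      Finset.sum_congr rfl (fun _ _ => mul_comm _ _), this]
  split_ifs <;> rfl

include hb in
theorem sum_coord_smul (a : A) (S : Finset (GroupLike k A)) (hS : (b.repr a).support ⊆ S) :
    ∑ g ∈ S, b.coord g a • g.val = a := by
  conv_rhs => rw [← b.linearCombination_repr a]
  rw [Finsupp.linearCombination_apply, Finsupp.sum]
  rw [← Finset.sum_subset hS]
  · apply Finset.sum_congr rfl
    intro g _
    rw [hb g]; rfl
  · intro g _ hg
    rw [Finsupp.notMem_support_iff] at hg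
    rw [Module.Basis.coord_apply, hg, zero_smul]

include hb in
theorem sum_coord (a : A) (S : Finset (GroupLike k A)) (hS : (b.repr a).support ⊆ S) :
    ∑ g ∈ S, b.coord g a = Coalgebra.counit (R := k) a := by
  conv_rhs => rw [← sum_coord_smul b hb a S hS]
  rw [map_sum]
  apply Finset.sum_congr rfl
  intro g _
  rw [map_smul, g.2.counit_eq_one, smul_eq_mul, mul_one]

include hb hm in
theorem sum_Mg [DecidableEq ι] (S : Finset (GroupLike k A))
    (hS : ∀ i j, (b.repr (m i j)).support ⊆ S) : ∑ g ∈ S, Mg b m g = 1 := by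
  ext i j
  rw [Matrix.sum_apply]
  simp only [Mg]
  rw [sum_coord b hb _ S (hS i j), counit_m m hm, Matrix.one_apply]

variable [GLin.IsCoactAlg k A (MvPolynomial ι k)]

include hm in
theorem orbit_X (v : ι → k) (i : ι) :
    GLin.orbitHom k A (GLin.vecPt k ι v) (MvPolynomial.X i) = ∑ j, v j • m i j := by
  change (Algebra.TensorProduct.lid k A) (Algebra.TensorProduct.map (GLin.vecPt k ι v)
    (AlgHom.id k A) (HopfRep.Comod.coact (k := k) (A := A) (MvPolynomial.X i))) = _
  rw [hm, map_sum, map_sum]
  apply Finset.sum_congr rfl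
  intro j _
  simp [GLin.vecPt]

include hb hm in
theorem w_eq (lam : A →ₐc[k] k[T;T⁻¹]) (v : ι → k) (S : Finset (GroupLike k A))
    (hS : ∀ i j, (b.repr (m i j)).support ⊆ S) (i : ι) :
    Groth.Agent.H19.GITMu.w k A ι lam v i =
      ∑ g ∈ S, (Mg b m g).mulVec v i • lam g.val := by
  change lam (GLin.orbitHom k A (GLin.vecPt k ι v) (MvPolynomial.X i)) = _
  rw [orbit_X m hm, map_sum]
  have h1 : ∀ j, lam (v j • m i j) = ∑ g ∈ S, (v j * b.coord g (m i j)) • lam g.val := by
    intro j
    conv_lhs => rw [← sum_coord_smul b hb (m i j) S (hS i j)]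
    rw [Finset.smul_sum, map_sum]
    apply Finset.sum_congr rfl
    intro g _
    rw [smul_smul, map_smul]
  simp only [h1]
  rw [Finset.sum_comm]
  apply Finset.sum_congr rfl
  intro g _
  rw [← Finset.sum_smul]
  congr 1
  simp only [Matrix.mulVec, dotProduct, Mg]
  apply Finset.sum_congr rfl
  intro j _
  rw [mul_comm]

end Core

theorem exists_fin_enum {G : Type*} [DecidableEq G] (S : Finset G) :
    ∃ (N : ℕ) (gn : Fin N → G), Function.Injective gn ∧ Finset.univ.image gn = S := by
  refine ⟨S.card, fun n => (S.equivFin.symm n).1, ?_, ?_⟩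
  · exact Subtype.val_injective.comp (Equiv.injective _)
  · ext g
    simp only [Finset.mem_image, Finset.mem_univ, true_and]
    constructor
    · rintro ⟨n, rfl⟩; exact (S.equivFin.symm n).2
    · intro hg; exact ⟨S.equivFin ⟨g, hg⟩, by simp⟩

theorem coeff_sum_smul_T {k : Type u} [Field k] {N : ℕ} (c : Fin N → k) (e : Fin N → ℤ) (z : ℤ) :
    (∑ n, c n • (LaurentPolynomial.T (e n) : k[T;T⁻¹])).coeff z =
      ∑ n ∈ Finset.univ.filter (fun n => e n = z), c n := by
  rw [AddMonoidAlgebra.coeff_sum, Finsupp.finsetSum_apply, Finset.sum_filter]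
  apply Finset.sum_congr rfl
  intro n _
  rw [AddMonoidAlgebra.coeff_smul_apply]
  unfold LaurentPolynomial.T
  rw [AddMonoidAlgebra.coeff_single, Finsupp.single_apply]
  split_ifs <;> simp

/-- Let k be a field and T = Spec A a diagonalizable affine group (A a commutative Hopf algebra spanned
by its group-like elements, e.g. a torus) acting linearly on affine ι-space. Then there are finitely
many characters χ_1, …, χ_N of T (group-like elements of A) such that every vector v ≠ 0 has a
non-empty set I of indices for which, for every one-parameter subgroup λ of T with λ(χ_j) = t^(e_j),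
the numerical function μ(v, λ) (the m for which t^m · (v moved by λ(t)) tends to a non-zero vector)
equals the maximum of −e_j over j ∈ I: μ is the maximum of finitely many linear functionals on
one-parameter subgroups. (The published proposition concerns a maximal torus of a reductive group
acting on a proper scheme with an ample linearised invertible sheaf; this row is the case of
projective space with the hyperplane bundle, for any diagonalizable group acting linearly, stated on
the affine cone.) -/
theorem result (k : Type u) [Field k]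
    (A : Type u) [CommRing A] [HopfAlgebra k A] (hdiag : HopfRep.IsDiagonalizable k A)
    (ι : Type u) [Fintype ι] [HopfRep.Comod k A (MvPolynomial ι k)] [GLin.IsCoactAlg k A (MvPolynomial ι k)]
    (hlin : GLin.IsLinear k A ι) :
    ∃ (N : ℕ) (χ : Fin N → A), (∀ j, IsGroupLikeElem k (χ j)) ∧
      ∀ v : ι → k, v ≠ 0 → ∃ I : Finset (Fin N), I.Nonempty ∧
        ∀ (lam : A →ₐc[k] k[T;T⁻¹]) (e : Fin N → ℤ), (∀ j, lam (χ j) = LaurentPolynomial.T (e j)) →
          ∀ m : ℤ, GLin.IsMu k A lam v m ↔ ((∀ j ∈ I, -e j ≤ m) ∧ ∃ j ∈ I, m = -e j) := by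
  classical
  have hspan : ⊤ ≤ Submodule.span k (Set.range (GroupLike.val (R := k) (A := A))) := by
    rw [top_le_iff]
    have h0 : Submodule.span k {a : A | IsGroupLikeElem k a} = ⊤ := hdiag
    rw [← h0]
    congr 1
    ext a
    constructor
    · rintro ⟨g, rfl⟩; exact g.2
    · intro ha; exact ⟨⟨a, ha⟩, rfl⟩
  let b : Module.Basis (GroupLike k A) k A := Module.Basis.mk linearIndep_groupLikeVal hspan
  have hb : ∀ g, b g = g.val := fun g => Module.Basis.mk_apply _ _ g
  choose m hm using hlin
  let S : Finset (GroupLike k A) :=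
    Finset.univ.biUnion fun i => Finset.univ.biUnion fun j => (b.repr (m i j)).support
  have hS : ∀ i j, (b.repr (m i j)).support ⊆ S := by
    intro i j g hg
    simp only [S, Finset.mem_biUnion, Finset.mem_univ, true_and]
    exact ⟨i, j, hg⟩
  obtain ⟨N, gn, hinj, himg⟩ := Groth.Agent.S12553.exists_fin_enum S
  refine ⟨N, fun n => (gn n).val, fun n => (gn n).2, ?_⟩
  intro v hv
  -- isotypic components
  have hsum1 : ∑ n, Groth.Agent.S12553.Mg b m (gn n) = 1 := by
    rw [← Groth.Agent.S12553.sum_Mg b hb m hm S hS, ← himg, Finset.sum_image (fun x _ y _ h => hinj h)]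
  have hsumv : ∑ n, (Groth.Agent.S12553.Mg b m (gn n)).mulVec v = v := by
    rw [← Matrix.sum_mulVec, hsum1, Matrix.one_mulVec]
  have horth : ∀ n n', (Groth.Agent.S12553.Mg b m (gn n')).mulVec ((Groth.Agent.S12553.Mg b m (gn n)).mulVec v) =
      if n = n' then (Groth.Agent.S12553.Mg b m (gn n)).mulVec v else 0 := by
    intro n n'
    rw [Matrix.mulVec_mulVec, Groth.Agent.S12553.Mg_mul b hb m hm]
    by_cases h : n = n'
    · subst h; simp
    · rw [if_neg h, if_neg (fun h2 => h (hinj h2)), Matrix.zero_mulVec]
  refine ⟨Finset.univ.filter (fun n => (Groth.Agent.S12553.Mg b m (gn n)).mulVec v ≠ 0), ?_, ?_⟩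
  · by_contra hemp
    rw [Finset.not_nonempty_iff_eq_empty, Finset.filter_eq_empty_iff] at hemp
    apply hv
    rw [← hsumv]
    apply Finset.sum_eq_zero
    intro n hn
    have := hemp hn
    push Not at this
    exact this
  intro lam e hlam mm
  -- the orbit coordinates
  have hw : ∀ i, Groth.Agent.H19.GITMu.w k A ι lam v i =
      ∑ n, (Groth.Agent.S12553.Mg b m (gn n)).mulVec v i • (LaurentPolynomial.T (e n) : k[T;T⁻¹]) := by
    intro i
    rw [Groth.Agent.S12553.w_eq b hb m hm lam v S hS i, ← himg, Finset.sum_image (fun x _ y _ h => hinj h)]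
    apply Finset.sum_congr rfl
    intro n _
    rw [← hlam n]
  have hcoeff : ∀ i z, (Groth.Agent.H19.GITMu.w k A ι lam v i).coeff z =
      ∑ n ∈ Finset.univ.filter (fun n => e n = z), (Groth.Agent.S12553.Mg b m (gn n)).mulVec v i := by
    intro i z
    rw [hw i, Groth.Agent.S12553.coeff_sum_smul_T]
  have hmem : ∀ z, z ∈ Groth.Agent.H19.GITMu.supp (Groth.Agent.H19.GITMu.w k A ι lam v) ↔
      ∃ n, (Groth.Agent.S12553.Mg b m (gn n)).mulVec v ≠ 0 ∧ e n = z := by
    intro z
    rw [Groth.Agent.H19.GITMu.mem_supp]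
    constructor
    · rintro ⟨i, hi⟩
      rw [hcoeff] at hi
      obtain ⟨n, hn, hne⟩ := Finset.exists_ne_zero_of_sum_ne_zero hi
      refine ⟨n, fun h0 => hne (by rw [h0]; rfl), (Finset.mem_filter.mp hn).2⟩
    · rintro ⟨n₀, hne, hz⟩
      by_contra hcon
      push Not at hcon
      apply hne
      have hzero : ∑ n ∈ Finset.univ.filter (fun n => e n = z), (Groth.Agent.S12553.Mg b m (gn n)).mulVec v = 0 := by
        ext i
        rw [Finset.sum_apply, ← hcoeff, hcon i]
        rfl
      have := congrArg (fun u => (Groth.Agent.S12553.Mg b m (gn n₀)).mulVec u) hzero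
      simp only [Matrix.mulVec_sum, horth, Matrix.mulVec_zero] at this
      have hmem0 : n₀ ∈ Finset.univ.filter (fun n => e n = z) :=
        Finset.mem_filter.mpr ⟨Finset.mem_univ _, hz⟩
      rw [Finset.sum_ite_eq', if_pos hmem0] at this
      exact this
  have hSne : (Groth.Agent.H19.GITMu.supp (Groth.Agent.H19.GITMu.w k A ι lam v)).Nonempty :=
    Groth.Agent.H19.GITMu.supp_nonempty _ (Groth.Agent.H19.GITMu.exists_w_ne_zero k A ι lam v hv)
  rw [Groth.Agent.H19.GITMu.isMu_iff_muProp, Groth.Agent.H19.GITMu.muProp_iff _ hSne]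
  have hmin_mem := Finset.min'_mem _ hSne
  obtain ⟨n₁, hn₁, hen₁⟩ := (hmem _).mp hmin_mem
  constructor
  · intro hm'
    refine ⟨fun j hj => ?_, n₁, Finset.mem_filter.mpr ⟨Finset.mem_univ _, hn₁⟩, by rw [hm', hen₁]⟩
    have hj' := (Finset.mem_filter.mp hj).2
    have := Finset.min'_le _ _ ((hmem (e j)).mpr ⟨j, hj', rfl⟩)
    omega
  · rintro ⟨hle, j₀, hj₀, hmj⟩
    have hj' := (Finset.mem_filter.mp hj₀).2
    have h1 := Finset.min'_le _ _ ((hmem (e j₀)).mpr ⟨j₀, hj', rfl⟩)
    have h2 := hle n₁ (Finset.mem_filter.mpr ⟨Finset.mem_univ _, hn₁⟩)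
    omega

end Groth.Agent.S12553
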