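import Groth.Statements.S12555
import Mathlib
import Groth.Agent.Lib.Helper7.Reyn7
-- import your own Groth.Agent.* helpers here

set_option autoImplicit false
universe u
open TensorProduct
open GIT

namespace Groth.Agent.S12555

open TensorProduct Groth.Agent.H29 Groth.Agent.Helper4.LinRed Groth.Agent.Helper7.Reyn7

attribute [local instance] Groth.Agent.H29.dualModule


/-- Let k be a field, G = Spec A a linearly reductive affine group (A a commutative Hopf algebra whose
finite-dimensional comodules are all semisimple) and V a representation of G of any dimension (an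
A-comodule). Then there is exactly one linear map E : V → V commuting with the coaction, with E ∘ E
= E, and with E x = x exactly for the invariant vectors x. -/
theorem result (k : Type u) [Field k] (A : Type u) [CommRing A] [HopfAlgebra k A]
    (hG : HopfRep.IsLinearlyReductive k A) (V : Type u) [AddCommGroup V] [Module k V] [HopfRep.Comod k A V] :
    ∃! E : V →ₗ[k] V, Hoch.IsComodHom A E ∧ E ∘ₗ E = E ∧ ∀ x : V, E x = x ↔ x ∈ HopfRep.fixedPts k A V := by
  have hssC : HopfRep.IsSemisimpleComod k A V := isSemisimpleComod_of_linRed hG V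
  have hss : IsSemisimpleModule (DualAlg k A) V := isSemisimpleModule_of_isSemisimpleComod k A V hssC
  have hfix : HopfRep.IsSubcomod (k := k) (A := A) (HopfRep.fixedPts k A V) := isSubcomod_fixedPts
  obtain ⟨V', hV', hc⟩ := hssC _ hfix
  have hV'st := (isSubcomod_iff V').mp hV'
  let P := Submodule.linearProjOfIsCompl (HopfRep.fixedPts k A V) V' hc
  let E : V →ₗ[k] V := (HopfRep.fixedPts k A V).subtype ∘ₗ P
  have hE : ∀ a ∈ HopfRep.fixedPts k A V, ∀ b ∈ V', E (a + b) = a := by
    intro a ha b hb
    show ((P (a + b) : HopfRep.fixedPts k A V) : V) = a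
    rw [map_add]
    have h1 : P a = ⟨a, ha⟩ := Submodule.linearProjOfIsCompl_apply_left hc ⟨a, ha⟩
    have h2 : P b = 0 := Submodule.linearProjOfIsCompl_apply_right hc ⟨b, hb⟩
    rw [h1, h2, add_zero]
  have hEmem : ∀ x, E x ∈ HopfRep.fixedPts k A V := fun x => (P x).2
  have hdec : ∀ x : V, ∃ a ∈ HopfRep.fixedPts k A V, ∃ b ∈ V', a + b = x := by
    intro x
    have hx : x ∈ HopfRep.fixedPts k A V ⊔ V' := by rw [hc.sup_eq_top]; exact Submodule.mem_top
    exact Submodule.mem_sup.mp hx
  have hE1 : Hoch.IsComodHom A E := by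
    rw [isComodHom_iff]
    intro φ x
    obtain ⟨a, ha, b, hb, rfl⟩ := hdec x
    rw [hE a ha b hb, map_add, (mem_fixedPts_iff a).mp ha φ]
    exact hE _ (Submodule.smul_mem _ _ ha) _ (hV'st φ b hb)
  have hE2 : E ∘ₗ E = E := by
    apply LinearMap.ext
    intro x
    obtain ⟨a, ha, b, hb, rfl⟩ := hdec x
    show E (E (a + b)) = E (a + b)
    rw [hE a ha b hb]
    have h0 := hE a ha 0 V'.zero_mem
    rw [add_zero] at h0
    exact h0
  have hE3 : ∀ x : V, E x = x ↔ x ∈ HopfRep.fixedPts k A V := by
    intro x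
    constructor
    · intro hx
      rw [← hx]
      exact hEmem x
    · intro hx
      have h0 := hE x hx 0 V'.zero_mem
      rw [add_zero] at h0
      exact h0
  refine ⟨E, ⟨hE1, hE2, hE3⟩, ?_⟩
  rintro E' ⟨hE'1, hE'2, hE'3⟩
  have hE'mem : ∀ x, E' x ∈ HopfRep.fixedPts k A V := by
    intro x
    rw [← hE'3]
    exact LinearMap.congr_fun hE'2 x
  have hD : Hoch.IsComodHom A (E' - E) := by
    rw [isComodHom_iff]
    intro φ v
    rw [LinearMap.sub_apply, LinearMap.sub_apply, (isComodHom_iff E').mp hE'1,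
      (isComodHom_iff E).mp hE1, map_sub]
  have hDinv : ∀ x, (E' - E) x ∈ HopfRep.fixedPts k A V := by
    intro x
    rw [LinearMap.sub_apply]
    exact Submodule.sub_mem _ (hE'mem x) (hEmem x)
  have hV'0 : ∀ x ∈ V', x ∈ HopfRep.fixedPts k A V → x = 0 := by
    intro x hx hx'
    have h1 : x ∈ HopfRep.fixedPts k A V ⊓ V' := ⟨hx', hx⟩
    rw [hc.inf_eq_bot] at h1
    exact (Submodule.mem_bot k).mp h1
  have hzero := hom_to_invariants_zero hss (E' - E) hD hDinv V' hV' hV'0
  apply LinearMap.ext
  intro x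
  obtain ⟨a, ha, b, hb, rfl⟩ := hdec x
  have h1 : (E' - E) b = 0 := hzero b hb
  rw [LinearMap.sub_apply, sub_eq_zero] at h1
  rw [map_add, map_add, h1, (hE'3 a).mpr ha, (hE3 a).mpr ha]

end Groth.Agent.S12555
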