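import Groth.Statements.S12556
import Mathlib
import Groth.Agent.Lib.Helper7.Reyn7
-- import your own Groth.Agent.* helpers here

set_option autoImplicit false
universe u
open TensorProduct
open GIT

namespace Groth.Agent.S12556

open TensorProduct Groth.Agent.H29 Groth.Agent.Helper4.LinRed Groth.Agent.Helper7.Reyn7

attribute [local instance] Groth.Agent.H29.dualModule


/-- Let k be a field, G = Spec A a linearly reductive affine group (A a commutative Hopf algebra whose
finite-dimensional comodules are all semisimple) acting on the affine scheme Spec R (a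
multiplicative coaction of A on the commutative k-algebra R), and E : R → R a linear map commuting
with the coaction, idempotent, and fixing exactly the invariant elements. Then E(x · y) = E(x) · y
for all x in R and all invariant y. -/
theorem result (k : Type u) [Field k] (A : Type u) [CommRing A] [HopfAlgebra k A]
    (hG : HopfRep.IsLinearlyReductive k A)
    (R : Type u) [CommRing R] [Algebra k R] [HopfRep.Comod k A R] [GLin.IsCoactAlg k A R]
    (E : R →ₗ[k] R) (h₁ : Hoch.IsComodHom A E) (h₂ : E ∘ₗ E = E)
    (h₃ : ∀ x : R, E x = x ↔ x ∈ GLin.invariants k A R)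
    (x y : R) (hy : y ∈ GLin.invariants k A R) : E (x * y) = E x * y := by
  have hssC : HopfRep.IsSemisimpleComod k A R := isSemisimpleComod_of_linRed hG R
  have hss : IsSemisimpleModule (DualAlg k A) R := isSemisimpleModule_of_isSemisimpleComod k A R hssC
  have hEE : ∀ z, E (E z) = E z := fun z => LinearMap.congr_fun h₂ z
  have hEmem : ∀ z, E z ∈ HopfRep.fixedPts k A R := fun z => (h₃ (E z)).mp (hEE z)
  let my : R →ₗ[k] R := LinearMap.mulRight k y
  have hmy : Hoch.IsComodHom A my := by
    apply LinearMap.ext
    intro z
    show HopfRep.Comod.coact (k := k) (A := A) (z * y) =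
      my.rTensor A (HopfRep.Comod.coact (k := k) (A := A) z)
    rw [GLin.IsCoactAlg.coact_mul,
      (show HopfRep.Comod.coact (k := k) (A := A) y = y ⊗ₜ[k] (1 : A) from hy)]
    generalize HopfRep.Comod.coact (k := k) (A := A) z = t
    induction t using TensorProduct.induction_on with
    | zero => simp
    | tmul a b =>
      rw [Algebra.TensorProduct.tmul_mul_tmul, mul_one, LinearMap.rTensor_tmul]
      rfl
    | add s t hs ht => simp only [add_mul, map_add, hs, ht]
  let D : R →ₗ[k] R := E ∘ₗ my
  have hD : Hoch.IsComodHom A D := isComodHom_comp my E hmy h₁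
  have hDinv : ∀ z, D z ∈ HopfRep.fixedPts k A R := fun z => hEmem _
  have hker : HopfRep.IsSubcomod (k := k) (A := A) (LinearMap.ker E) := isSubcomod_ker E h₁
  have hker0 : ∀ z ∈ LinearMap.ker E, z ∈ HopfRep.fixedPts k A R → z = 0 := by
    intro z hz hz'
    rw [← (h₃ z).mpr hz']
    exact LinearMap.mem_ker.mp hz
  have hzero := hom_to_invariants_zero hss D hD hDinv _ hker hker0
  have hx1 : x - E x ∈ LinearMap.ker E := by
    rw [LinearMap.mem_ker, map_sub, hEE, sub_self]
  have h5 : E ((x - E x) * y) = 0 := hzero _ hx1
  have h6 : E (E x * y) = E x * y :=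
    (h₃ _).mpr ((GLin.invariants k A R).mul_mem ((h₃ (E x)).mp (hEE x)) hy)
  have h7 : x * y = E x * y + (x - E x) * y := by ring
  rw [h7, map_add, h6, h5, add_zero]

end Groth.Agent.S12556
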