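import Groth.Statements.S12557
import Mathlib
import Groth.Agent.Lib.Helper7.Reyn7
-- import your own Groth.Agent.* helpers here

set_option autoImplicit false
universe u
open TensorProduct
open GIT

namespace Groth.Agent.S12557

open TensorProduct Groth.Agent.H29 Groth.Agent.Helper4.LinRed Groth.Agent.Helper7.Reyn7

attribute [local instance] Groth.Agent.H29.dualModule


/-- Let k be a field, G = Spec A a linearly reductive affine group (A a commutative Hopf algebra whose
finite-dimensional comodules are all semisimple) acting on the affine scheme Spec R, R_0 ⊆ R the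
ring of invariants, and (𝔄_i) a family of ideals of R each stable under the coaction. Then the sum
of the 𝔄_i meets R_0 in the sum of the intersections 𝔄_i ∩ R_0. -/
theorem result (k : Type u) [Field k] (A : Type u) [CommRing A] [HopfAlgebra k A]
    (hG : HopfRep.IsLinearlyReductive k A)
    (R : Type u) [CommRing R] [Algebra k R] [HopfRep.Comod k A R] [GLin.IsCoactAlg k A R]
    (ι : Type u) (𝔄 : ι → Ideal R) (h𝔄 : ∀ i, HopfRep.IsSubcomod (k := k) (A := A) ((𝔄 i).restrictScalars k)) :
    (⨆ i, (𝔄 i).restrictScalars k) ⊓ Subalgebra.toSubmodule (GLin.invariants k A R) =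
      ⨆ i, ((𝔄 i).restrictScalars k ⊓ Subalgebra.toSubmodule (GLin.invariants k A R)) := by
  obtain ⟨E, hE1, hE2, hE3, hE4⟩ := exists_reynolds' hG R
  apply le_antisymm
  · rintro x ⟨hx1, hx2⟩
    have hclaim : ∀ z ∈ ⨆ i, (𝔄 i).restrictScalars k, E z ∈ ⨆ i, ((𝔄 i).restrictScalars k ⊓
        Subalgebra.toSubmodule (GLin.invariants k A R)) := by
      intro z hz
      refine Submodule.iSup_induction (fun i => (𝔄 i).restrictScalars k)
        (motive := fun z => E z ∈ ⨆ i, ((𝔄 i).restrictScalars k ⊓
          Subalgebra.toSubmodule (GLin.invariants k A R))) hz ?_ ?_ ?_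
      · intro i z hz
        exact Submodule.mem_iSup_of_mem i ⟨hE4 _ (h𝔄 i) z hz, hE1 z⟩
      · rw [map_zero]
        exact Submodule.zero_mem _
      · intro a b ha hb
        rw [map_add]
        exact Submodule.add_mem _ ha hb
    have h8 := hclaim x hx1
    rwa [hE2 x hx2] at h8
  · exact iSup_le fun i => inf_le_inf_right _ (le_iSup (fun i => (𝔄 i).restrictScalars k) i)

end Groth.Agent.S12557
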