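import Groth.Statements.S12583
import Groth.Agent.H16.Leibniz
import Groth.Agent.Lib.Helper17.Hasse
-- import your own Groth.Agent.* helpers here

set_option autoImplicit false
universe u v w
open FunFld

namespace Groth.Agent.S12583

/-- The Taylor-shift homomorphism `y ↦ ∑ₙ hasseDeriv n (φ y) Tⁿ`. -/
noncomputable def taylorHom {k : Type u} {K : Type v} {F : Type w} [Field k] [Field K] [Algebra k K]
    [Field F] [Algebra k F] (φ : K →ₐ[k] LaurentSeries F) : K →ₐ[k] PowerSeries (LaurentSeries F) where
  toFun y := PowerSeries.mk (fun n => LaurentSeries.hasseDeriv F n (φ y))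
  map_one' := by
    apply PowerSeries.ext
    intro n
    rw [PowerSeries.coeff_mk, map_one, PowerSeries.coeff_one]
    have h1 : (1 : LaurentSeries F) = HahnSeries.single 0 1 := rfl
    rw [h1, LaurentSeries.hasseDeriv_single, Ring.choose_zero_ite]
    split_ifs with hn
    · rw [hn]; simp
    · simp
  map_mul' a b := by
    apply PowerSeries.ext
    intro n
    rw [PowerSeries.coeff_mk, map_mul, Groth.Agent.Helper16.Leibniz.hasseDeriv_mul, PowerSeries.coeff_mul]
    apply Finset.sum_congr rfl
    intro ij _
    rw [PowerSeries.coeff_mk, PowerSeries.coeff_mk]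
  map_zero' := by
    apply PowerSeries.ext
    intro n
    rw [PowerSeries.coeff_mk, map_zero, map_zero, map_zero]
  map_add' a b := by
    apply PowerSeries.ext
    intro n
    rw [PowerSeries.coeff_mk, map_add, map_add, map_add, PowerSeries.coeff_mk, PowerSeries.coeff_mk]
  commutes' c := by
    apply PowerSeries.ext
    intro n
    rw [PowerSeries.coeff_mk, LocRes.map_algebraMap, PowerSeries.algebraMap_apply,
      PowerSeries.coeff_C]
    have h1 : (HahnSeries.C (algebraMap k F c) : LaurentSeries F) = HahnSeries.single 0 (algebraMap k F c) := rfl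
    rw [h1, LaurentSeries.hasseDeriv_single, Ring.choose_zero_ite]
    split_ifs with hn
    · rw [hn]
      simp only [Nat.cast_zero, sub_zero, one_smul]
      rw [← h1, ← LocRes.map_algebraMap φ c, AlgHom.commutes]
    · simp

theorem taylorHom_apply {k : Type u} {K : Type v} {F : Type w} [Field k] [Field K] [Algebra k K]
    [Field F] [Algebra k F] (φ : K →ₐ[k] LaurentSeries F) (y : K) :
    taylorHom φ y = PowerSeries.mk (fun n => LaurentSeries.hasseDeriv F n (φ y)) := rfl


/-- At a separable place `P` of a geometric function field of one variable `K/k` with local parameter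
`t`, if `x ∈ O_P` has expansion `∑ a_m t^m` then the Hasse derivative `D_t^{(n)}(x)` expands as the
series with coefficients `C(m,n) a_m` in degree `m - n`; in particular `D_t^{(n)}(O_P) ⊆ O_P`. Here
`φ` is a Laurent expansion over `k` at `P` with `φ t = X` and `H` is the total Hasse derivative with
respect to `t`. -/
theorem result (k : Type u) (K : Type v) [Field k] [Field K] [Algebra k K] (hK : FunFld.IsFunctionField k K) (hg : FunFld.IsGeometric k K)
    (P : FunFld.Place k K) (F : Type w) [Field F] [Algebra k F]
    (φ : K →ₐ[k] LaurentSeries F) (hφ : LocRes.IsExpansionAt P.1 φ)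
    (t : K) (ht : φ t = HahnSeries.single 1 1)
    (H : K →ₐ[k] PowerSeries K) (hH : LocRes.IsHasseFamily t H)
    (x : K) (hx : P.1 x ≤ 1) (n : ℕ) :
    φ (LocRes.hasseD H n x) = LaurentSeries.hasseDeriv F n (φ x) := by
  have hsep := Groth.Agent.Helper17.Hasse.isSeparable_of_isHasseFamily hK hg hH
  have key : (PowerSeries.mapAlgHom φ).comp H = taylorHom φ := by
    apply Groth.Agent.Helper17.Hasse.hasse_unique hsep
    · rw [AlgHom.comp_apply, hH.1, PowerSeries.mapAlgHom_apply, map_add, PowerSeries.map_C, PowerSeries.map_X,
        taylorHom_apply]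
      apply PowerSeries.ext
      intro m
      rw [PowerSeries.coeff_mk, map_add, PowerSeries.coeff_C, PowerSeries.coeff_X, RingHom.coe_coe, ht,
        LaurentSeries.hasseDeriv_single]
      have h1 : (1 : ℤ) = ((1 : ℕ) : ℤ) := by norm_num
      rw [h1, Ring.choose_natCast]
      rcases m with _ | _ | m
      · simp
      · simp
      · simp
    · intro y
      rw [AlgHom.comp_apply, PowerSeries.mapAlgHom_apply, taylorHom_apply]
      rw [← PowerSeries.coeff_zero_eq_constantCoeff_apply, ← PowerSeries.coeff_zero_eq_constantCoeff_apply,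
        PowerSeries.coeff_map, PowerSeries.coeff_mk, LaurentSeries.hasseDeriv_zero,
        PowerSeries.coeff_zero_eq_constantCoeff_apply, hH.2]
      rfl
  have h2 := congrArg (fun G => PowerSeries.coeff n (G x)) key
  simp only [AlgHom.comp_apply, PowerSeries.mapAlgHom_apply, PowerSeries.coeff_map] at h2
  rw [LocRes.hasseD_apply]
  rw [RingHom.coe_coe] at h2
  rw [h2, taylorHom_apply, PowerSeries.coeff_mk]

end Groth.Agent.S12583
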