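import Groth.Statements.S12591
import Groth.Agent.H16.SP5
import Groth.Agent.H16.RH8
-- import your own Groth.Agent.* helpers here

set_option autoImplicit false
universe u v
open FunFld

namespace Groth.Agent.S12591

attribute [local instance] Algebra.TensorProduct.rightAlgebra in
theorem aux (k : Type u) (K : Type v) [Field k] [Field K] [Algebra k K]
    (kb : Type u) [Field kb] [Algebra k kb] [IsAlgClosed kb] [Algebra.IsAlgebraic k kb]
    (hK : FunFld.IsFunctionField k K) (hg : FunFld.IsGeometric k K) (P : FunFld.Place k K) :
    ∃ F : IntermediateField k kb, FiniteDimensional k F ∧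
      ∀ (K' : Type v) [Field K'] [Algebra K K'] [Algebra F K'] [Algebra k K']
        [IsScalarTower k F K'] [IsScalarTower k K K'],
        Function.Bijective (Algebra.TensorProduct.productMap
          (IsScalarTower.toAlgHom k F K') (IsScalarTower.toAlgHom k K K')) →
        ∀ Q : FunFld.Place F K', P.1.HasExtension Q.1 → Q.deg = 1 := by
  have hf : IsField (TensorProduct k kb K) :=
    Groth.Agent.Helper16.RH.isField_tensor_of_isGeometric hg
  letI : Field (TensorProduct k kb K) := hf.toField
  have hbij : Function.Bijective (Algebra.TensorProduct.productMap
      (IsScalarTower.toAlgHom k kb (TensorProduct k kb K))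
      (IsScalarTower.toAlgHom k K (TensorProduct k kb K))) := by
    have : (Algebra.TensorProduct.productMap
      (IsScalarTower.toAlgHom k kb (TensorProduct k kb K))
      (IsScalarTower.toAlgHom k K (TensorProduct k kb K))) =
        AlgHom.id k (TensorProduct k kb K) := by
      apply Algebra.TensorProduct.ext'
      intro a b
      rw [Algebra.TensorProduct.productMap_apply_tmul]
      show TensorProduct.tmul k a (1 : K) * TensorProduct.tmul k (1 : kb) b = _
      rw [Algebra.TensorProduct.tmul_mul_tmul, mul_one, one_mul]
      rfl
    rw [this]
    exact Function.bijective_id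
  exact Groth.Agent.H16.SP.exists_splitting_abstract hbij hK hg P


/-- Every place `P` of a geometric function field of one variable `K/k` has a splitting field of finite
degree over `k`: a finite extension `k'` such that every place of `k' ⊗_k K` above `P` has degree
one over `k'`. (The finiteness of the set of singular places and the existence of a purely
inseparable `k'` making `k' ⊗_k K` nonsingular are not stated here.) -/
theorem result (k : Type u) (K : Type v) [Field k] [Field K] [Algebra k K]
    (hK : FunFld.IsFunctionField k K) (hg : FunFld.IsGeometric k K) (P : FunFld.Place k K) :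
    ∃ (k' : Type u) (_ : Field k') (_ : Algebra k k'), FiniteDimensional k k' ∧
      ∀ (K' : Type v) [Field K'] [Algebra K K'] [Algebra k' K'] [Algebra k K']
        [IsScalarTower k k' K'] [IsScalarTower k K K'],
        Function.Bijective (Algebra.TensorProduct.productMap
          (IsScalarTower.toAlgHom k k' K') (IsScalarTower.toAlgHom k K K')) →
        ∀ Q : FunFld.Place k' K', P.1.HasExtension Q.1 → Q.deg = 1 := by
  obtain ⟨F, hF, hFS⟩ := aux k K (AlgebraicClosure k) hK hg P
  exact ⟨F, inferInstance, inferInstance, hF, fun K' _ _ _ _ _ _ h Q hQ => hFS K' h Q hQ⟩

end Groth.Agent.S12591
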