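import Groth.Statements.S12593
import Groth.Agent.H16.RH7
import Groth.Agent.Lib.Helper17.FFW
-- import your own Groth.Agent.* helpers here

set_option autoImplicit false
universe u v
open FunFld

namespace Groth.Agent.S12593

theorem exists_fin_level {k kbar : Type u} {K Kbar : Type v} [Field k] [Field kbar] [Field K]
    [Field Kbar] [Algebra k kbar] [Algebra.IsAlgebraic k kbar] [Algebra k K] [Algebra K Kbar]
    [Algebra kbar Kbar] [Algebra k Kbar] [IsScalarTower k kbar Kbar] [IsScalarTower k K Kbar]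
    (hgen : Algebra.adjoin K (Set.range (algebraMap kbar Kbar)) = ⊤) (z : Kbar) :
    ∃ k' : IntermediateField k kbar, FiniteDimensional k k' ∧
      z ∈ Algebra.adjoin K (Set.range fun c : k' => algebraMap kbar Kbar c) := by
  have hmono : ∀ k₁ k₂ : IntermediateField k kbar, k₁ ≤ k₂ →
      Algebra.adjoin K (Set.range fun c : k₁ => algebraMap kbar Kbar c) ≤
        Algebra.adjoin K (Set.range fun c : k₂ => algebraMap kbar Kbar c) := by
    intro k₁ k₂ h12
    apply Algebra.adjoin_mono
    rintro _ ⟨c, rfl⟩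
    exact ⟨⟨c.1, h12 c.2⟩, rfl⟩
  have hz : z ∈ Algebra.adjoin K (Set.range (algebraMap kbar Kbar)) := by rw [hgen]; trivial
  induction hz using Algebra.adjoin_induction with
  | mem w hw =>
    obtain ⟨c, rfl⟩ := hw
    have hc : IsIntegral k c := (Algebra.IsAlgebraic.isAlgebraic c).isIntegral
    refine ⟨IntermediateField.adjoin k {c}, IntermediateField.adjoin.finiteDimensional hc, ?_⟩
    apply Algebra.subset_adjoin
    exact ⟨⟨c, IntermediateField.mem_adjoin_simple_self k c⟩, rfl⟩
  | algebraMap y => exact ⟨⊥, inferInstance, Subalgebra.algebraMap_mem _ y⟩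
  | add a b _ _ ha hb =>
    obtain ⟨k₁, hf₁, h₁⟩ := ha
    obtain ⟨k₂, hf₂, h₂⟩ := hb
    haveI := hf₁
    haveI := hf₂
    exact ⟨k₁ ⊔ k₂, IntermediateField.finiteDimensional_sup k₁ k₂,
      Subalgebra.add_mem _ (hmono _ _ le_sup_left h₁) (hmono _ _ le_sup_right h₂)⟩
  | mul a b _ _ ha hb =>
    obtain ⟨k₁, hf₁, h₁⟩ := ha
    obtain ⟨k₂, hf₂, h₂⟩ := hb
    haveI := hf₁
    haveI := hf₂
    exact ⟨k₁ ⊔ k₂, IntermediateField.finiteDimensional_sup k₁ k₂,
      Subalgebra.mul_mem _ (hmono _ _ le_sup_left h₁) (hmono _ _ le_sup_right h₂)⟩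


/-- Every divisor of `K̄ = k̄ ⊗_k K`, for a geometric function field of one variable `K/k`, is defined
over a finite extension `k'` of `k`; stated for a single place `Q` of `K̄/k̄`: for some finite `k' ⊆
k̄`, the field `K' = k'K ⊆ K̄` contains a local parameter at `Q` and `Q` is the only place of `K̄`
above its restriction to `K'` (so `Q` is the conorm of the point `Q ∩ K'`). -/
theorem result (k kbar : Type u) (K Kbar : Type v) [Field k] [Field kbar] [Field K] [Field Kbar]
    [Algebra k kbar] [IsAlgClosure k kbar] [Algebra k K] [Algebra K Kbar] [Algebra kbar Kbar] [Algebra k Kbar]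
    [IsScalarTower k kbar Kbar] [IsScalarTower k K Kbar]
    (h : Function.Bijective (Algebra.TensorProduct.productMap
      (IsScalarTower.toAlgHom k kbar Kbar) (IsScalarTower.toAlgHom k K Kbar)))
    (hK : FunFld.IsFunctionField k K) (hg : FunFld.IsGeometric k K) (Q : FunFld.Place kbar Kbar) :
    ∃ k' : IntermediateField k kbar, FiniteDimensional k k' ∧
      (∃ z ∈ Algebra.adjoin K (Set.range fun c : k' => algebraMap kbar Kbar c), Q.1 z = WithZero.exp (-1)) ∧
      ∀ Q' : FunFld.Place kbar Kbar,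
        (∃ e : ℕ, ∀ z ∈ Algebra.adjoin K (Set.range fun c : k' => algebraMap kbar Kbar c), Q'.1 z = Q.1 z ^ e) → Q' = Q := by
  classical
  haveI : IsAlgClosed kbar := IsAlgClosure.isAlgClosed k
  haveI : Algebra.IsAlgebraic k kbar := IsAlgClosure.isAlgebraic
  have hKb : FunFld.IsFunctionField kbar Kbar := Groth.Agent.Helper16.RH.isFunctionField_bar h hK
  have hgen := Groth.Agent.Helper16.RH.hgen_of_surjective (k := k) h.2
  obtain ⟨t, ht⟩ := Q.2.2 (WithZero.exp (-1))
  obtain ⟨y, -, hyQ', hyQ⟩ := Groth.Agent.Helper17.FF.exists_only_pole hKb Q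
  obtain ⟨k₁, hf₁, h₁⟩ := exists_fin_level (k := k) hgen t
  obtain ⟨k₂, hf₂, h₂⟩ := exists_fin_level (k := k) hgen y
  haveI := hf₁
  haveI := hf₂
  have hmono : ∀ k₁ k₂ : IntermediateField k kbar, k₁ ≤ k₂ →
      Algebra.adjoin K (Set.range fun c : k₁ => algebraMap kbar Kbar c) ≤
        Algebra.adjoin K (Set.range fun c : k₂ => algebraMap kbar Kbar c) := by
    intro k₁ k₂ h12
    apply Algebra.adjoin_mono
    rintro _ ⟨c, rfl⟩
    exact ⟨⟨c.1, h12 c.2⟩, rfl⟩
  refine ⟨k₁ ⊔ k₂, IntermediateField.finiteDimensional_sup k₁ k₂,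
    ⟨t, hmono _ _ le_sup_left h₁, ht⟩, ?_⟩
  rintro Q' ⟨e, he⟩
  by_contra hne
  have he0 : e ≠ 0 := by
    intro h0
    have := he 0 (Subalgebra.zero_mem _)
    rw [h0, pow_zero, map_zero] at this
    exact zero_ne_one this
  have h3 := he y (hmono _ _ le_sup_right h₂)
  have h4 := hyQ' Q' hne
  rw [h3] at h4
  exact absurd (one_lt_pow₀ hyQ he0) (not_lt.2 h4)

end Groth.Agent.S12593
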