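import Groth.Statements.S12599
import Groth.Agent.H16.Taylor2
-- import your own Groth.Agent.* helpers here

set_option autoImplicit false
open FunFld

namespace Groth.Agent.S12599

/-- Over an algebraically closed constant field, for a place `P` with local parameter `t`, and a
linearly independent tuple `φ = (φ₀, …, φₙ)` of functions integral at `P`, the matrix of values at
`P` of the Hasse derivatives `D_t^(j)(φᵢ)`, `j = 0, 1, …`, has rank `n + 1`: its rows are linearly
independent over the residue field. -/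
theorem result
    (k K : Type*) [Field k] [IsAlgClosed k] [Field K] [Algebra k K]
    (hK : FunFld.IsFunctionField k K) {n : ℕ} (φ : Fin (n + 1) → K) (hφ : LinearIndependent k φ)
    (P : FunFld.Place k K) (hint : ∀ i, P.1 (φ i) ≤ 1) (t : K) (ht : P.1 t = WithZero.exp (-1))
    (Ht : K →ₐ[k] PowerSeries K) (hHt : LocRes.IsHasseFamily t Ht) :
    LinearIndependent (IsLocalRing.ResidueField P.O)
      (fun i : Fin (n + 1) => fun j : ℕ => FunFld.evalP P (LocRes.hasseD Ht j (φ i))) := by
  classical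
  rw [Fintype.linearIndependent_iff]
  intro β hβ
  have hsurj := (Groth.Agent.Helper16.Hasse.algebraMap_bijective hK P).2
  choose c hc using fun i => hsurj (β i)
  obtain ⟨f, hf⟩ : ∃ f : K, f = ∑ i, c i • φ i := ⟨_, rfl⟩
  have hD : ∀ (j : ℕ) (i : Fin (n + 1)), P.1 (LocRes.hasseD Ht j (φ i)) ≤ 1 := fun j i =>
    Groth.Agent.Helper16.Hasse.hasse_mem_SP hK P ht Ht hHt (hint i) j
  have hsm : ∀ (j : ℕ) (i : Fin (n + 1)), P.1 (c i • LocRes.hasseD Ht j (φ i)) ≤ 1 := by
    intro j i
    rw [Algebra.smul_def, map_mul]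
    calc P.1 (algebraMap k K (c i)) * P.1 (LocRes.hasseD Ht j (φ i)) ≤ 1 * 1 :=
          mul_le_mul' (P.2.1 (c i)) (hD j i)
      _ = 1 := one_mul _
  have hfle : P.1 f ≤ 1 := by
    rw [hf]
    apply Valuation.map_sum_le
    intro i _
    have := hsm 0 i
    rwa [Groth.Agent.Helper16.Hasse.hasseD_zero Ht hHt] at this
  have hev : ∀ j : ℕ, FunFld.evalP P (LocRes.hasseD Ht j f) = 0 := by
    intro j
    rw [hf, Groth.Agent.Helper16.Hasse.hasseD_sum_smul,
      Groth.Agent.Helper16.Hasse.evalP_sum P _ _ (fun i _ => hsm j i)]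
    have h1 := congrFun hβ j
    simp only [Finset.sum_apply, Pi.smul_apply, smul_eq_mul, Pi.zero_apply] at h1
    rw [← h1]
    refine Finset.sum_congr rfl fun i _ => ?_
    rw [Groth.Agent.Helper16.Hasse.evalP_smul P _ (hD j i), Algebra.smul_def, hc]
  have hall : ∀ j : ℕ, P.1 f ≤ WithZero.exp (-(j : ℤ)) := fun j =>
    Groth.Agent.Helper16.Hasse.val_le_of_taylor_zero hK P ht Ht hHt hfle j (fun m _ => hev m)
  have hf0 : f = 0 := by
    by_contra hne
    have hv : P.1 f ≠ 0 := (map_ne_zero P.1).mpr hne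
    obtain ⟨a, ha⟩ : ∃ a : ℤ, P.1 f = WithZero.exp a := ⟨_, (WithZero.exp_log hv).symm⟩
    have h1 := hall ((-a).toNat + 1)
    rw [ha, WithZero.exp_le_exp] at h1
    have h2 := Int.self_le_toNat (-a)
    push_cast at h1
    omega
  rw [hf] at hf0
  have hc0 := Fintype.linearIndependent_iff.mp hφ c hf0
  intro i
  rw [← hc i, hc0 i, map_zero]

end Groth.Agent.S12599
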