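import Groth.Statements.S12602
import Groth.Agent.H21.Orders2

set_option autoImplicit false
open FunFld

namespace Groth.Agent.S12602

/-- Over an algebraically closed constant field, for a birational projective map `φ = (φ₀, …, φₙ)`, `n ≥
1`, with orders `j₁ < ⋯ < jₙ`, and `τ ≠ 1`, the `τ`-orders of `φ` are `(0, j₁, …, j_{m-1}, j_{m+1},
…, jₙ)` for some `m`: the jump indices of `[τ(φ) | D^(0) φ | D^(1) φ | ⋯]` after the leading column
are `0` and the `jₗ` with `l ≠ m`. -/
theorem result
    (k K : Type*) [Field k] [IsAlgClosed k] [Field K] [Algebra k K]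
    (hK : FunFld.IsFunctionField k K) {n : ℕ} (hn : 0 < n) (φ : Fin (n + 1) → K) (hφ : LinearIndependent k φ)
    (h0 : φ 0 ≠ 0) (hbir : IntermediateField.adjoin k (Set.range fun i => φ i / φ 0) = ⊤)
    (τ : K →ₐ[k] K) (hτ : τ ≠ AlgHom.id k K) (s : K) (H : K →ₐ[k] PowerSeries K) (hH : LocRes.IsHasseFamily s H)
    (J : Fin n → ℕ) (hJ : FunFld.IsOrders K (FunFld.hcol (AlgHom.id k K) H φ) J) :
    ∃ m : Fin n, ∀ j : ℕ,
      FunFld.IsJump K (FunFld.hcol τ H φ) (j + 1) ↔ (j = 0 ∨ ∃ l, l ≠ m ∧ J l = j) := by
  have hfd : FiniteDimensional K (Fin (n + 1) → K) := inferInstance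
  have hτinj : Function.Injective τ := τ.toRingHom.injective
  -- τφ and φ are linearly independent over K
  have hind : LinearIndependent K ![FunFld.hcol τ H φ 0, FunFld.hcol (AlgHom.id k K) H φ 0] := by
    rw [LinearIndependent.pair_iff]
    intro a b hab
    have hi : ∀ i, a * τ (φ i) + b * φ i = 0 := by
      intro i
      have := congrFun hab i
      simpa [FunFld.hcol] using this
    by_cases ha : a = 0
    · refine ⟨ha, ?_⟩
      have := hi 0
      rw [ha, zero_mul, zero_add] at this
      exact (mul_eq_zero.mp this).resolve_right h0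
    · exfalso
      apply hτ
      have hτ0 : τ (φ 0) ≠ 0 := by
        intro h
        apply h0
        apply hτinj
        rw [h, map_zero]
      have hfix : ∀ i, τ (φ i / φ 0) = φ i / φ 0 := by
        intro i
        rw [map_div₀]
        rw [div_eq_div_iff hτ0 h0]
        have e1 : τ (φ i) = -(b / a) * φ i := by
          have := hi i
          field_simp
          linear_combination this
        have e0 : τ (φ 0) = -(b / a) * φ 0 := by
          have := hi 0
          field_simp
          linear_combination this
        rw [e1, e0]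
        ring
      have hall : ∀ x : K, τ x = x := by
        intro x
        have hx : x ∈ IntermediateField.adjoin k (Set.range fun i => φ i / φ 0) := by
          rw [hbir]; trivial
        induction hx using IntermediateField.adjoin_induction with
        | mem x hx =>
          obtain ⟨i, rfl⟩ := hx
          exact hfix i
        | algebraMap x => exact τ.commutes x
        | add x y _ _ hx hy => rw [map_add, hx, hy]
        | inv x _ hx => rw [map_inv₀, hx]
        | mul x y _ _ hx hy => rw [map_mul, hx, hy]
      ext x
      exact hall x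
  have h01 : FunFld.hcol (AlgHom.id k K) H φ 1 = FunFld.hcol (AlgHom.id k K) H φ 0 := by
    funext i
    show LocRes.hasseD H 0 (φ i) = (AlgHom.id k K) (φ i)
    rw [LocRes.hasseD_apply, PowerSeries.coeff_zero_eq_constantCoeff_apply, hH.2]
    rfl
  exact Groth.Agent.H21.Orders.orders_tau (R := K) (M := Fin (n + 1) → K)
    (FunFld.hcol (AlgHom.id k K) H φ) (FunFld.hcol τ H φ) (by simp) h01 (fun j => rfl) hind J hJ

end Groth.Agent.S12602
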