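import Groth.Statements.S12608
import Groth.Agent.H16.SV6
import Groth.Agent.H16.Cond
import Groth.Agent.S12605
import Groth.Agent.S12601
-- import your own Groth.Agent.* helpers here

set_option autoImplicit false
open FunFld

namespace Groth.Agent.S12608

/-- Over an algebraically closed constant field, let `φ = (φ₀, …, φₙ)` be an effective projective map
normalized at the place `P`, `t` a local parameter at `P`, `j₁, …, jₙ` the orders of `φ` and `j'₁,
…, j'ₙ` the orders of `φ` at `P`. Then `jₗ ≤ j'ₗ` for all `l`, and the following are equivalent: all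
`j'ₗ = jₗ`; the Wronskian `w_t(φ)` does not vanish at `P`; the Weierstrass divisor `W(φ)` has
coefficient `0` at `P` (the divisor of `dt` in it read through a family of Laurent expansions). -/
theorem result
    (k K : Type*) [Field k] [IsAlgClosed k] [Field K] [Algebra k K]
    (hK : FunFld.IsFunctionField k K) (P : FunFld.Place k K) {n : ℕ} (φ : Fin (n + 1) → K) (hφ : LinearIndependent k φ)
    (heff : (1 : K) ∈ Submodule.span k (Set.range φ)) (hnorm : ∀ i, P.1 (φ i) ≤ 1)
    (t : K) (ht : P.1 t = WithZero.exp (-1))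
    (Ht : K →ₐ[k] PowerSeries K) (hHt : LocRes.IsHasseFamily t Ht)
    (J : Fin n → ℕ) (hJ : FunFld.IsOrders K (FunFld.hcol (AlgHom.id k K) Ht φ) J)
    (J' : Fin n → ℕ) (hJ' : FunFld.IsOrders (IsLocalRing.ResidueField P.O) (FunFld.hcolAt P Ht φ) J')
    (Φ : FunFld.Place k K → (K →ₐ[k] LaurentSeries k))
    (hΦ : ∀ P : FunFld.Place k K, LocRes.IsExpansionAt P.1 (Φ P)) :
    (∀ l, J l ≤ J' l) ∧
    ((∀ l, J' l = J l) ↔ FunFld.evalP P (FunFld.wrMat (AlgHom.id k K) Ht φ J).det ≠ 0) ∧
    ((∀ l, J' l = J l) ↔ FunFld.wDiv (AlgHom.id k K) Ht Φ t φ J P = 0) := by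
  classical
  have hid : FunFld.IsFixedPt (AlgHom.id k K) P := fun z hz => hz
  have h0' : (0 : ℕ) ∉ Set.range J' := by
    rw [hJ'.2 0]
    unfold FunFld.IsJump
    rw [not_not]
    apply Submodule.subset_span
    refine ⟨0, by simp, ?_⟩
    exact Groth.Agent.Helper16.Hasse.hcolAt_zero_eq P Ht hHt φ
  have hpos' : ∀ l, 0 < J' l := fun l => Nat.pos_of_ne_zero (fun h => h0' ⟨l, h⟩)
  have h0 : (0 : ℕ) ∉ Set.range J := by
    rw [hJ.2 0]
    unfold FunFld.IsJump
    rw [not_not]
    apply Submodule.subset_span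
    refine ⟨0, by simp, ?_⟩
    funext i
    show (AlgHom.id k K) (φ i) = LocRes.hasseD Ht 0 (φ i)
    rw [Groth.Agent.Helper16.Hasse.hasseD_zero Ht hHt]
    rfl
  have hpos : ∀ l, 0 < J l := fun l => Nat.pos_of_ne_zero (fun h => h0 ⟨l, h⟩)
  have key' := Groth.Agent.S12605.result k K hK (AlgHom.id k K) P hid φ hφ heff hnorm t ht Ht hHt
    J' hJ' J' hJ'.1
  have hdet' : (FunFld.wrMat (AlgHom.id k K) Ht φ J').det ≠ 0 := by
    have h1 := (key'.2 (Or.inl hpos')).mpr (by
      rw [Groth.Agent.Helper16.Hasse.det_binomMat_self k J' hJ'.1]; exact one_ne_zero)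
    intro h0
    rw [h0, map_zero] at h1
    exact WithZero.exp_ne_zero h1.symm
  have hle : ∀ l, J l ≤ J' l :=
    Groth.Agent.S12601.result k K hK φ hφ (AlgHom.id k K) t Ht hHt J hJ J' hJ'.1 hdet'
  have hdet : (FunFld.wrMat (AlgHom.id k K) Ht φ J).det ≠ 0 :=
    Groth.Agent.Helper16.Hasse.det_wrMat_ne_zero _ Ht φ J hJ J' hdet'
  have key := Groth.Agent.S12605.result k K hK (AlgHom.id k K) P hid φ hφ heff hnorm t ht Ht hHt
    J' hJ' J hJ.1
  obtain ⟨E, hE⟩ : ∃ E : ℤ, E = ∑ l, ((J' l : ℤ) - J l) := ⟨_, rfl⟩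
  have hE0 : 0 ≤ E := by
    rw [hE]
    apply Finset.sum_nonneg
    intro l _
    have := hle l
    omega
  have hEiff : E = 0 ↔ ∀ l, J' l = J l := by
    rw [hE, Finset.sum_eq_zero_iff_of_nonneg (fun l _ => by have := hle l; omega)]
    constructor
    · intro h l
      have := h l (Finset.mem_univ l)
      omega
    · intro h l _
      rw [h l]
      ring
  rw [← hE] at key
  have hval1 : P.1 (FunFld.wrMat (AlgHom.id k K) Ht φ J).det = 1 ↔ ∀ l, J' l = J l := by
    constructor
    · intro h1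
      have h2 := key.1
      rw [h1] at h2
      have h3 : (0 : ℤ) ≤ -E := by
        rw [← WithZero.exp_le_exp, WithZero.exp_zero]
        exact h2
      exact hEiff.mp (by omega)
    · intro h
      have hJJ : J' = J := funext h
      have h1 := (key.2 (Or.inl hpos)).mpr (by
        rw [hJJ, Groth.Agent.Helper16.Hasse.det_binomMat_self k J hJ.1]; exact one_ne_zero)
      rw [h1, hEiff.mpr h]
      simp
  have hle1 : P.1 (FunFld.wrMat (AlgHom.id k K) Ht φ J).det ≤ 1 := by
    refine key.1.trans ?_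
    calc WithZero.exp (-E) ≤ WithZero.exp (0 : ℤ) := WithZero.exp_le_exp.mpr (by omega)
      _ = 1 := WithZero.exp_zero
  refine ⟨hle, ?_, ?_⟩
  · rw [← hval1, Ne, Groth.Agent.Helper16.Hasse.evalP_eq_zero_iff P hle1, not_lt]
    constructor
    · intro h; rw [h]
    · intro h; exact le_antisymm hle1 h
  · rw [← hval1]
    have hφ0 : ∀ i, φ i ≠ 0 := fun i => hφ.ne_zero i
    have hmd : FunFld.mapDiv k φ P = 0 := by
      apply le_antisymm
      · obtain ⟨i, hi⟩ := Groth.Agent.Helper16.Emb.exists_val_eq_mapDiv hK φ hφ0 P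
        have h1 := hnorm i
        rw [hi] at h1
        have h2 : WithZero.exp (FunFld.mapDiv k φ P) ≤ WithZero.exp (0 : ℤ) := by
          rw [WithZero.exp_zero]; exact h1
        exact WithZero.exp_le_exp.mp h2
      · obtain ⟨c, hc⟩ := (Submodule.mem_span_range_iff_exists_fun k).mp heff
        have h1 : P.1 (∑ i, c i • φ i) ≤ WithZero.exp (FunFld.mapDiv k φ P) := by
          apply Valuation.map_sum_le
          intro i _
          rw [Algebra.smul_def, map_mul]
          calc P.1 (algebraMap k K (c i)) * P.1 (φ i) ≤ 1 * WithZero.exp (FunFld.mapDiv k φ P) :=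
                mul_le_mul' (P.2.1 (c i)) (Groth.Agent.Helper16.Emb.val_le_mapDiv hK φ hφ0 P i)
            _ = _ := one_mul _
        rw [hc, map_one] at h1
        have h2 : WithZero.exp (0 : ℤ) ≤ WithZero.exp (FunFld.mapDiv k φ P) := by
          rw [WithZero.exp_zero]; exact h1
        exact WithZero.exp_le_exp.mp h2
    have hcomp : (⇑(AlgHom.id k K) ∘ φ) = φ := rfl
    have hord : P.1 (FunFld.wrMat (AlgHom.id k K) Ht φ J).det = 1 ↔
        P.ord (FunFld.wrMat (AlgHom.id k K) Ht φ J).det = 0 := by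
      have := Groth.Agent.Helper17.FF.val_eq_exp_iff P hdet 0
      rwa [WithZero.exp_zero, neg_zero] at this
    unfold FunFld.wDiv
    rw [Finsupp.add_apply, Finsupp.add_apply, Finsupp.add_apply, Finsupp.smul_apply,
      Finsupp.smul_apply, hcomp, hmd, Groth.Agent.Helper16.Hasse.divDiff_param Φ P (hΦ P) ht,
      Groth.Agent.Helper17.FF.div_apply hK, hord]
    simp only [smul_zero, add_zero]

end Groth.Agent.S12608
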