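import Groth.Statements.S12610
import Groth.Agent.H16.SV15
import Groth.Agent.S12595
import Groth.Agent.S12597
import Groth.Agent.S12598
import Groth.Agent.S12601
import Groth.Agent.S12605
import Groth.Agent.S12614
import Groth.Agent.S12615
-- import your own Groth.Agent.* helpers here

set_option autoImplicit false
open FunFld

namespace Groth.Agent.S12610

/-- Over an algebraically closed constant field, for a birational projective map `φ`, a `k`-endomorphism
`τ ≠ 1` and a place `P` fixed by `τ`, the place `P` is a Weierstrass point of `φ` with respect to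
`τ`: the Weierstrass divisor `W(φ, τ) = [w_s(φ, τ)] + [τ(φ)] + n[φ] + j(φ, τ)[ds]` has positive
coefficient at `P` (the divisor of `ds` read through a family of Laurent expansions). -/
theorem result
    (k K : Type*) [Field k] [IsAlgClosed k] [Field K] [Algebra k K]
    (hK : FunFld.IsFunctionField k K) {n : ℕ} (φ : Fin (n + 1) → K) (hφ : LinearIndependent k φ)
    (h0 : φ 0 ≠ 0) (hbir : IntermediateField.adjoin k (Set.range fun i => φ i / φ 0) = ⊤)
    (τ : K →ₐ[k] K) (hτ : τ ≠ AlgHom.id k K) (P : FunFld.Place k K) (hP : FunFld.IsFixedPt τ P)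
    (s : K) (H : K →ₐ[k] PowerSeries K) (hH : LocRes.IsHasseFamily s H)
    (J : Fin n → ℕ) (hJ : FunFld.IsOrders K (FunFld.hcol τ H φ) J)
    (Φ : FunFld.Place k K → (K →ₐ[k] LaurentSeries k))
    (hΦ : ∀ P : FunFld.Place k K, LocRes.IsExpansionAt P.1 (Φ P)) :
    0 < FunFld.wDiv τ H Φ s φ J P := by
  classical
  obtain ⟨t, ht⟩ := P.2.2 (WithZero.exp (-1 : ℤ))
  have hDt := Groth.Agent.Helper16.Hasse.hasseD_one_ne_zero hK P H hH ht
  obtain ⟨Ht, hHt⟩ := Groth.Agent.Helper16.Hasse.exists_hasse H hH t hDt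
  have hφ0 : ∀ i, φ i ≠ 0 := fun i => hφ.ne_zero i
  obtain ⟨j₀, -, hmax⟩ := Finset.exists_max_image Finset.univ (fun i => P.1 (φ i))
    ⟨0, Finset.mem_univ _⟩
  obtain ⟨y, hy⟩ : ∃ y : K, y = (φ j₀)⁻¹ := ⟨_, rfl⟩
  have hy0 : y ≠ 0 := by rw [hy]; exact inv_ne_zero (hφ0 j₀)
  obtain ⟨ψ, hψdef⟩ : ∃ ψ : Fin (n + 1) → K, ψ = y • φ := ⟨_, rfl⟩
  have hψi : ∀ i, ψ i = y * φ i := fun i => by rw [hψdef]; rfl
  have hint : ∀ i, P.1 (ψ i) ≤ 1 := by
    intro i
    rw [hψi, hy, map_mul, map_inv₀,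
      inv_mul_le_one₀ (zero_lt_iff.mpr ((map_ne_zero P.1).mpr (hφ0 j₀)))]
    exact hmax i (Finset.mem_univ _)
  have hψ : LinearIndependent k ψ := by
    have h1 := hφ.map' (LinearMap.mulLeft k y) (by
      rw [LinearMap.ker_eq_bot]
      intro a b hab
      exact mul_left_cancel₀ hy0 hab)
    rw [hψdef]
    exact h1
  have hψj₀ : ψ j₀ = 1 := by rw [hψi, hy, inv_mul_cancel₀ (hφ0 j₀)]
  have heff : (1 : K) ∈ Submodule.span k (Set.range ψ) := by
    rw [← hψj₀]
    exact Submodule.subset_span (Set.mem_range_self j₀)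
  -- transfer to the local parameter and the normalized map
  have hone : (1 : Matrix (Fin (n + 1)) (Fin (n + 1)) k).det ≠ 0 := by
    rw [Matrix.det_one]; exact one_ne_zero
  have hψ' : ∀ i, ψ i = y * ∑ j, (1 : Matrix (Fin (n + 1)) (Fin (n + 1)) k) i j • φ j := by
    intro i
    rw [hψi]
    congr 1
    simp [Matrix.one_apply, ite_smul]
  have htr := Groth.Agent.S12614.result k K hK φ hφ τ s H hH t Ht hHt J hJ 1 hone y hy0 ψ hψ' Φ hΦ
  rw [← htr]
  -- orders
  obtain ⟨h98a, -⟩ := Groth.Agent.S12598.result k K hK φ hφ τ s H hH t Ht hHt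
  have hJt : FunFld.IsOrders K (FunFld.hcol τ Ht φ) J := (h98a J).mpr hJ
  obtain ⟨h97a, -⟩ := Groth.Agent.S12597.result k K hK φ hφ τ t Ht hHt y hy0
  have hJψ : FunFld.IsOrders K (FunFld.hcol τ Ht ψ) J := by
    rw [hψdef]; exact (h97a J).mpr hJt
  obtain ⟨J', hJ'⟩ := Groth.Agent.Helper16.Hasse.exists_orders_at hK P ht Ht hHt ψ hψ hint
    ⟨j₀, by rw [hψj₀, map_one]⟩
  have h0' : (0 : ℕ) ∉ Set.range J' := by
    rw [hJ'.2 0]
    unfold FunFld.IsJump
    rw [not_not]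
    apply Submodule.subset_span
    refine ⟨0, by simp, ?_⟩
    exact Groth.Agent.Helper16.Hasse.hcolAt_zero_eq P Ht hHt ψ
  have hpos' : ∀ l, 0 < J' l := fun l => Nat.pos_of_ne_zero (fun h => h0' ⟨l, h⟩)
  have key' := Groth.Agent.S12605.result k K hK τ P hP ψ hψ heff hint t ht Ht hHt
    J' hJ' J' hJ'.1
  have hdet' : (FunFld.wrMat τ Ht ψ J').det ≠ 0 := by
    have h1 := (key'.2 (Or.inl hpos')).mpr (by
      rw [Groth.Agent.Helper16.Hasse.det_binomMat_self k J' hJ'.1]; exact one_ne_zero)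
    intro h0
    rw [h0, map_zero] at h1
    exact WithZero.exp_ne_zero h1.symm
  have hle : ∀ l, J l ≤ J' l :=
    Groth.Agent.S12601.result k K hK ψ hψ τ t Ht hHt J hJψ J' hJ'.1 hdet'
  have hjump : FunFld.IsJump K (FunFld.hcol τ H φ) 1 := by
    by_contra hno
    exact hτ ((Groth.Agent.S12595.result k K hK φ h0 hbir τ s H hH).mp hno)
  obtain ⟨l₀, hl₀⟩ := (hJ.2 0).mpr hjump
  have h615 := (Groth.Agent.S12615.result k K hK τ P hP ψ hψ heff hint t ht Ht hHt J hJψ J' hJ'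
    Φ hΦ).1
  have hsum : (1 : ℤ) ≤ ∑ l, ((J' l : ℤ) - J l) := by
    have h1 : ((J' l₀ : ℤ) - J l₀) ≤ ∑ l, ((J' l : ℤ) - J l) :=
      Finset.single_le_sum (f := fun l => ((J' l : ℤ) - J l))
        (fun l _ => by have := hle l; omega) (Finset.mem_univ l₀)
    have h2 := hpos' l₀
    rw [hl₀] at h1
    omega
  omega

end Groth.Agent.S12610
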