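import Groth.Statements.S12613
import Groth.Agent.H16.WA8
-- import your own Groth.Agent.* helpers here

set_option autoImplicit false
open FunFld

namespace Groth.Agent.S12613

/-- Over an algebraically closed constant field, for a birational plane map `φ = (1 : x : y)` of degree
`e` with irreducible relation `f̂(x, y) = 0`, the adjoint divisor `Δ(φ) = (e - 3)[φ] - [dx/f̂_y]`
has nonnegative coefficient at every place `Q`, and the coefficient is `0` exactly when `φ` is
nonsingular at `Q`. The order of `dx/f̂_y` at `Q` is read through a Laurent expansion at `Q`,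
through which that differential is assumed nonzero. -/
theorem result
    (k K : Type*) [Field k] [IsAlgClosed k] [Field K] [Algebra k K]
    (hK : FunFld.IsFunctionField k K) (x y : K) (hxy : IntermediateField.adjoin k ({x, y} : Set K) = ⊤)
    (f : MvPolynomial (Fin 2) k) (hf : Irreducible f) (hfxy : MvPolynomial.aeval ![x, y] f = 0)
    (Q : FunFld.Place k K) (ΦQ : K →ₐ[k] LaurentSeries k) (hΦQ : LocRes.IsExpansionAt Q.1 ΦQ)
    (hne : LocRes.vDiff ΦQ (MvPolynomial.aeval ![x, y] (MvPolynomial.pderiv 1 f))⁻¹ x ≠ 0) :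
    0 ≤ ((FunFld.mapDiv k ![(1 : K), x, y]).deg - 3) * FunFld.mapDiv k ![(1 : K), x, y] Q -
        LocRes.ordDiff ΦQ (MvPolynomial.aeval ![x, y] (MvPolynomial.pderiv 1 f))⁻¹ x ∧
    (((FunFld.mapDiv k ![(1 : K), x, y]).deg - 3) * FunFld.mapDiv k ![(1 : K), x, y] Q -
        LocRes.ordDiff ΦQ (MvPolynomial.aeval ![x, y] (MvPolynomial.pderiv 1 f))⁻¹ x = 0 ↔
      FunFld.IsNonsingularAt ![(1 : K), x, y] Q) := by
  classical
  obtain ⟨hGinv0, hdx⟩ := Groth.Agent.Helper16.WA.D_ne_zero_of_vDiff ΦQ hne
  have hG0 : MvPolynomial.aeval ![x, y] (MvPolynomial.pderiv 1 f) ≠ 0 := fun h =>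
    hGinv0 (by rw [h, inv_zero])
  haveI : Infinite k := IsAlgClosed.instInfinite
  have h1 := Groth.Agent.Helper16.Plane.finite_bad_coord hK y x
  have h2 := Groth.Agent.Helper16.Plane.finite_bad_shear f hf.ne_zero
  have hD : ∀ c : k, KaehlerDifferential.D k K (y + algebraMap k K c * x) =
      KaehlerDifferential.D k K y + c • KaehlerDifferential.D k K x := by
    intro c
    rw [map_add, ← Algebra.smul_def, Derivation.map_smul]
  have h3 : {c : k | KaehlerDifferential.D k K (y + algebraMap k K c * x) = 0}.Subsingleton := by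
    intro c₁ h₁ c₂ h₂
    have h₁' : KaehlerDifferential.D k K (y + algebraMap k K c₁ * x) = 0 := h₁
    have h₂' : KaehlerDifferential.D k K (y + algebraMap k K c₂ * x) = 0 := h₂
    rw [hD] at h₁' h₂'
    have h4 : (c₁ - c₂) • KaehlerDifferential.D k K x =
        (KaehlerDifferential.D k K y + c₁ • KaehlerDifferential.D k K x) -
          (KaehlerDifferential.D k K y + c₂ • KaehlerDifferential.D k K x) := by
      rw [sub_smul]; abel
    rw [h₁', h₂', sub_zero, ← algebraMap_smul K (c₁ - c₂), smul_eq_zero] at h4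
    rcases h4 with h4 | h4
    · rw [map_eq_zero] at h4
      exact sub_eq_zero.mp h4
    · exact absurd h4 hdx
  obtain ⟨c, hc⟩ := ((h1.union h2).union h3.finite).exists_notMem
  rw [Set.mem_union, Set.mem_union, not_or, not_or] at hc
  obtain ⟨⟨hc1, hc2⟩, hc3⟩ := hc
  have hgood : ∀ P : FunFld.Place k K, P.1 x ≤ max 1 (P.1 (y + algebraMap k K c * x)) := by
    by_contra h
    exact hc1 h
  have hdeg : MvPolynomial.degreeOf 0 (Groth.Agent.Helper16.Plane.shear c f) = f.totalDegree := by
    by_contra h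
    exact hc2 h
  have hdy' : KaehlerDifferential.D k K (y + algebraMap k K c * x) ≠ 0 := fun h => hc3 h
  obtain ⟨hG'0, hordid⟩ := Groth.Agent.Helper16.WA.ord_identity hK x y f hfxy c Q ΦQ hΦQ hdx hdy'
    hG0
  obtain ⟨y', hy'⟩ : ∃ y' : K, y' = y + algebraMap k K c * x := ⟨_, rfl⟩
  rw [← hy'] at hgood hdy' hG'0 hordid
  have hxy' : IntermediateField.adjoin k ({y', x} : Set K) = ⊤ := by
    rw [hy']; exact Groth.Agent.Helper16.Plane.adjoin_shear x y c hxy
  have hrel : MvPolynomial.aeval ![x, y'] (Groth.Agent.Helper16.Plane.shear c f) = 0 := by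
    rw [Groth.Agent.Helper16.Plane.aeval_shear, hy']
    have e : y + algebraMap k K c * x - algebraMap k K c * x = y := by ring
    rw [e, hfxy]
  have htot : (Groth.Agent.Helper16.Plane.shear c f).totalDegree = f.totalDegree :=
    Groth.Agent.Helper16.Plane.totalDegree_shear c f
  have he : (FunFld.mapDiv k ![(1 : K), x, y]).deg = f.totalDegree :=
    Groth.Agent.Helper16.Plane.deg_mapDiv_eq_totalDegree hK x y hxy f hf hfxy
  have hδ : LocRes.ordDiff ΦQ (MvPolynomial.aeval ![x, y] (MvPolynomial.pderiv 1 f))⁻¹ x =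
      -Q.ord (MvPolynomial.aeval ![x, y] (MvPolynomial.pderiv 1 f)) + LocRes.ordDiff ΦQ 1 x := by
    rw [Groth.Agent.Helper16.AdjInv.ordDiff_eq_add hK hdx hGinv0 Q ΦQ hΦQ,
      Groth.Agent.Helper17.FF.ord_inv]
  have hmd : WithZero.exp (FunFld.mapDiv k ![(1 : K), x, y] Q) = max 1 (Q.1 y') := by
    rw [← Groth.Agent.Helper16.Plane.mapDiv_shear hK x y c, ← hy',
      Groth.Agent.Helper16.Plane.exp_mapDiv_one_xy hK y' x Q]
    apply le_antisymm
    · exact max_le (le_max_left _ _) (max_le (le_max_right _ _) (hgood Q))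
    · exact max_le (le_max_left _ _) ((le_max_left _ _).trans (le_max_right _ _))
  have hyy' : y = y' - c • x := by rw [hy', Algebra.smul_def]; ring
  have hφ1 : ∀ i, (![(1 : K), x, y] : Fin 3 → K) i ∈ Submodule.span k ({1, x, y'} : Set K) := by
    intro i
    fin_cases i
    · exact Submodule.subset_span (by simp)
    · exact Submodule.subset_span (by simp)
    · show y ∈ Submodule.span k ({1, x, y'} : Set K)
      rw [hyy']
      exact Submodule.sub_mem _ (Submodule.subset_span (by simp))
        (Submodule.smul_mem _ c (Submodule.subset_span (by simp)))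
  have hs1 : (1 : K) ∈ Submodule.span k (Set.range (![(1 : K), x, y] : Fin 3 → K)) :=
    Submodule.subset_span ⟨0, rfl⟩
  have hsx : x ∈ Submodule.span k (Set.range (![(1 : K), x, y] : Fin 3 → K)) :=
    Submodule.subset_span ⟨1, rfl⟩
  have hsy : y ∈ Submodule.span k (Set.range (![(1 : K), x, y] : Fin 3 → K)) :=
    Submodule.subset_span ⟨2, rfl⟩
  have hsy' : y' ∈ Submodule.span k (Set.range (![(1 : K), x, y] : Fin 3 → K)) := by
    have e : y' = y + c • x := by rw [hy', Algebra.smul_def]
    rw [e]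
    exact Submodule.add_mem _ hsy (Submodule.smul_mem _ c hsx)
  rw [he, hδ]
  rcases le_or_gt (Q.1 y') 1 with hQy' | hQy'
  · have hm0 : FunFld.mapDiv k ![(1 : K), x, y] Q = 0 := by
      rw [max_eq_left hQy'] at hmd
      exact WithZero.exp_injective (hmd.trans WithZero.exp_zero.symm)
    obtain ⟨hA1, hA2⟩ := Groth.Agent.Helper16.WA.case_finite hK x y' hxy'
      (Groth.Agent.Helper16.Plane.shear c f) (Groth.Agent.Helper16.Plane.shear_irreducible c hf)
      hrel hgood f.totalDegree hdeg htot hdy' Q ΦQ hΦQ hQy' ![(1 : K), x, y] hφ1 hs1 hsx hsy'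
    rw [hm0, ← hA2]
    constructor
    · linarith
    · constructor
      · intro h; linarith
      · intro h; linarith
  · have hy'0 : y' ≠ 0 := by
      rintro h
      rw [h, map_zero] at hQy'
      exact not_lt.mpr zero_le_one hQy'
    have hmy : FunFld.mapDiv k ![(1 : K), x, y] Q = -Q.ord y' := by
      rw [max_eq_right hQy'.le, Groth.Agent.Helper17.FF.val_eq_exp_neg_ord Q hy'0] at hmd
      exact WithZero.exp_injective hmd
    obtain ⟨hB1, hB2⟩ := Groth.Agent.Helper16.WA.case_infinite hK x y' hxy'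
      (Groth.Agent.Helper16.Plane.shear c f) (Groth.Agent.Helper16.Plane.shear_irreducible c hf)
      hrel hgood f.totalDegree hdeg htot hdy' hG'0 Q ΦQ hΦQ hQy' ![(1 : K), x, y] hφ1 hs1 hsx hsy'
    rw [hmy, ← hB2]
    constructor
    · linarith
    · constructor
      · intro h; linarith
      · intro h; linarith

end Groth.Agent.S12613
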