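import Groth.Statements.S12616
import Groth.Agent.H16.AdjInv5
-- import your own Groth.Agent.* helpers here

set_option autoImplicit false
open FunFld

namespace Groth.Agent.S12616

/-- Over an algebraically closed constant field, the adjoint divisor `Δ(φ) = (e - 3)[φ] - [dx/f̂_y]` of
an effective plane map `φ = (1 : x : y)` of degree `e`, with a homogeneous relation `f` of the same
degree `e` satisfying `f(1, x, y) = 0`, depends only on the equivalence class of `φ`: it is
unchanged under a change of projective coordinates `X = AX'`, with `x' = u₁/u₀`, `y' = u₂/u₀`, `u =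
A⁻¹(1, x, y)ᵗ`, `f'(X') = f(AX')`. Here `dx ≠ 0`, both `f̂_y` and `f̂'_{y'}` are nonzero, and
divisors of differentials are read through a family of Laurent expansions. (The published statement
takes `f` to be the minimal relation of `x` and `y` for a plane model `K = k(x, y)`, where the
degree of the map equals the degree of `f`; this row assumes only that `f` is homogeneous of degree
equal to the degree of the map, which is all the change-of-coordinates computation uses — when the
two degrees differ the two sides differ by a multiple of the divisor of `u₀`.) -/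
theorem result
    (k K : Type*) [Field k] [IsAlgClosed k] [Field K] [Algebra k K]
    (hK : FunFld.IsFunctionField k K) (f : MvPolynomial (Fin 3) k) (e : ℕ) (hf : f.IsHomogeneous e)
    (x y : K) (hfxy : MvPolynomial.aeval ![(1 : K), x, y] f = 0)
    (hdx : KaehlerDifferential.D k K x ≠ 0)
    (he : (FunFld.mapDiv k ![(1 : K), x, y]).deg = e)
    (A : Matrix (Fin 3) (Fin 3) k) (hA : A.det ≠ 0)
    (u : Fin 3 → K) (hu : ∀ i, ∑ j, algebraMap k K (A i j) * u j = ![(1 : K), x, y] i)
    (hu0 : u 0 ≠ 0)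
    (hfy : (MvPolynomial.aeval ![(1 : K), x, y] (MvPolynomial.pderiv 2 f)) ≠ 0)
    (hfy' : (MvPolynomial.aeval ![(1 : K), u 1 / u 0, u 2 / u 0] (MvPolynomial.pderiv 2 (MvPolynomial.aeval (fun i : Fin 3 => ∑ j, MvPolynomial.C (A i j) * MvPolynomial.X j) f))) ≠ 0)
    (Φ : FunFld.Place k K → (K →ₐ[k] LaurentSeries k))
    (hΦ : ∀ P : FunFld.Place k K, LocRes.IsExpansionAt P.1 (Φ P)) :
    ((FunFld.mapDiv k ![(1 : K), x, y]).deg - 3) • FunFld.mapDiv k ![(1 : K), x, y] -
        FunFld.divDiff Φ (MvPolynomial.aeval ![(1 : K), x, y] (MvPolynomial.pderiv 2 f))⁻¹ x =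
      ((FunFld.mapDiv k ![(1 : K), u 1 / u 0, u 2 / u 0]).deg - 3) •
          FunFld.mapDiv k ![(1 : K), u 1 / u 0, u 2 / u 0] -
        FunFld.divDiff Φ (MvPolynomial.aeval ![(1 : K), u 1 / u 0, u 2 / u 0] (MvPolynomial.pderiv 2 (MvPolynomial.aeval (fun i : Fin 3 => ∑ j, MvPolynomial.C (A i j) * MvPolynomial.X j) f)))⁻¹ (u 1 / u 0) := by
  classical
  have hlin : (fun i : Fin 3 => ∑ j, MvPolynomial.C (A i j) * MvPolynomial.X j) =
      Groth.Agent.Helper16.AdjInv.lin A := rfl
  rw [hlin] at hfy' ⊢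
  obtain ⟨G, hG⟩ : ∃ G, G = MvPolynomial.aeval ![(1 : K), x, y] (MvPolynomial.pderiv 2 f) :=
    ⟨_, rfl⟩
  obtain ⟨G', hG'⟩ : ∃ G', G' = MvPolynomial.aeval ![(1 : K), u 1 / u 0, u 2 / u 0]
      (MvPolynomial.pderiv 2 (MvPolynomial.aeval (Groth.Agent.Helper16.AdjInv.lin A) f)) :=
    ⟨_, rfl⟩
  have hpt : ∀ P : FunFld.Place k K, LocRes.ordDiff (Φ P) G'⁻¹ (u 1 / u 0) =
      LocRes.ordDiff (Φ P) G⁻¹ x + ((e : ℤ) - 3) * P.ord (u 0) := by
    intro P
    rw [hG, hG']
    exact Groth.Agent.Helper16.AdjInv.ordDiff_change hK f e hf x y hfxy hdx A hA u hu hu0 hfy hfy'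
      P (Φ P) (hΦ P)
  rw [← hG, ← hG']
  rw [← hG] at hfy
  rw [← hG'] at hfy'
  have hfin1 := Groth.Agent.Helper16.AdjInv.finite_support_ordDiff_gen hK hdx G⁻¹
    (inv_ne_zero hfy) Φ hΦ
  have hfin2 : (Function.support fun P : FunFld.Place k K =>
      LocRes.ordDiff (Φ P) G'⁻¹ (u 1 / u 0)).Finite := by
    refine (hfin1.union (Groth.Agent.Helper17.FF.finite_support_ord hK (u 0))).subset ?_
    intro P hP
    rw [Function.mem_support, hpt P] at hP
    by_contra hnot
    simp only [Set.mem_union, Function.mem_support, not_or, not_not] at hnot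
    apply hP
    rw [hnot.1, hnot.2, mul_zero, add_zero]
  have hd1 : ∀ P, FunFld.divDiff Φ G⁻¹ x P = LocRes.ordDiff (Φ P) G⁻¹ x := by
    intro P
    unfold FunFld.divDiff
    rw [dif_pos hfin1]
    rfl
  have hd2 : ∀ P, FunFld.divDiff Φ G'⁻¹ (u 1 / u 0) P =
      LocRes.ordDiff (Φ P) G'⁻¹ (u 1 / u 0) := by
    intro P
    unfold FunFld.divDiff
    rw [dif_pos hfin2]
    rfl
  have hmap : FunFld.mapDiv k ![(1 : K), u 1 / u 0, u 2 / u 0] =
      FunFld.mapDiv k ![(1 : K), x, y] + FunFld.div k (u 0) := by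
    apply Finsupp.ext
    intro P
    rw [Groth.Agent.Helper16.AdjInv.mapDiv_change hK A hA x y u hu hu0 P, Finsupp.add_apply,
      Groth.Agent.Helper17.FF.div_apply hK]
  have hdeg : (FunFld.mapDiv k ![(1 : K), u 1 / u 0, u 2 / u 0]).deg = e := by
    rw [hmap, Groth.Agent.Helper17.FF.deg_add, Groth.Agent.Helper17.FF.deg_div hK, add_zero, he]
  rw [hdeg, he]
  apply Finsupp.ext
  intro P
  rw [Finsupp.sub_apply, Finsupp.sub_apply, Finsupp.smul_apply, Finsupp.smul_apply, hd1, hd2,
    hpt P, Groth.Agent.Helper16.AdjInv.mapDiv_change hK A hA x y u hu hu0 P, smul_eq_mul,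
    smul_eq_mul]
  ring

end Groth.Agent.S12616
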