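import Groth.Statements.S12617
import Groth.Agent.H16.SV8
import Groth.Agent.H16.Cond6
import Groth.Agent.S12607
-- import your own Groth.Agent.* helpers here

set_option autoImplicit false
open FunFld

namespace Groth.Agent.S12617

/-- Over an algebraically closed constant field, if the effective projective map `φ = (φ₀, …, φₙ)`, `n ≥
1`, normalized at `P`, is nonsingular at `P`, then its first order at `P` is `1`. -/
theorem result
    (k K : Type*) [Field k] [IsAlgClosed k] [Field K] [Algebra k K]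
    (hK : FunFld.IsFunctionField k K) (P : FunFld.Place k K) {n : ℕ} (hn : 0 < n) (φ : Fin (n + 1) → K)
    (hφ : LinearIndependent k φ)
    (heff : (1 : K) ∈ Submodule.span k (Set.range φ)) (hnorm : ∀ i, P.1 (φ i) ≤ 1) (hns : FunFld.IsNonsingularAt φ P)
    (t : K) (ht : P.1 t = WithZero.exp (-1))
    (Ht : K →ₐ[k] PowerSeries K) (hHt : LocRes.IsHasseFamily t Ht)
    (J' : Fin n → ℕ) (hJ' : FunFld.IsOrders (IsLocalRing.ResidueField P.O) (FunFld.hcolAt P Ht φ) J') :
    J' ⟨0, hn⟩ = 1 := by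
  classical
  have hφ0 : ∀ i, φ i ≠ 0 := fun i => hφ.ne_zero i
  have hmd : FunFld.mapDiv k φ P = 0 :=
    Groth.Agent.Helper16.Hasse.mapDiv_eq_zero_of_norm hK P φ hφ0 heff hnorm
  obtain ⟨j, hj⟩ := Groth.Agent.Helper16.Emb.exists_val_eq_mapDiv hK φ hφ0 P
  rw [hmd, WithZero.exp_zero] at hj
  have hjP : ∀ i, P.1 (φ i) ≤ P.1 (φ j) := fun i => by rw [hj]; exact hnorm i
  have hex : ∀ i, ∃ c : k, P.1 (φ i / φ j - algebraMap k K c) < 1 := fun i =>
    Groth.Agent.Helper16.LLS.exists_const_sub_lt hK P (by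
      rw [map_div₀, hj, div_one]; exact hnorm i)
  choose c hc using hex
  have ht1 : P.1 t ≤ 1 := by
    rw [ht]
    exact le_of_lt (Groth.Agent.Helper16.Hasse.exp_neg_pos_lt_one (j := 1) (by norm_num))
  have htL : Groth.Agent.Helper16.Emb.LocJ φ j P t :=
    Groth.Agent.Helper16.Emb.locJ_of_inLocRing (hφ0 j) hjP (hns t ht1)
  obtain ⟨i, hi⟩ := Groth.Agent.Helper16.Emb.exists_section_param φ hjP c hc htL ht
  have hf : P.1 (φ i - algebraMap k K (c i) * φ j) = WithZero.exp (-((1 : ℕ) : ℤ)) := by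
    have e : φ i - algebraMap k K (c i) * φ j = (φ i / φ j - algebraMap k K (c i)) * φ j := by
      have := hφ0 j
      field_simp
    rw [e, map_mul, hi, hj, mul_one]
    rfl
  have hmem := Groth.Agent.Helper16.Emb.g_mem_W (k := k) φ i j (c i)
  have h0' : (0 : ℕ) ∉ Set.range J' := by
    rw [hJ'.2 0]
    unfold FunFld.IsJump
    rw [not_not]
    apply Submodule.subset_span
    refine ⟨0, by simp, ?_⟩
    exact Groth.Agent.Helper16.Hasse.hcolAt_zero_eq P Ht hHt φ
  have hpos' : ∀ l, 0 < J' l := fun l => Nat.pos_of_ne_zero (fun h => h0' ⟨l, h⟩)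
  have h1 := ((Groth.Agent.S12607.result k K hK P φ hφ heff hnorm t ht Ht hHt J' hJ').2 1).mpr
    ⟨_, hmem, hf⟩
  rcases h1 with h | ⟨l, hl⟩
  · omega
  · have hle : J' ⟨0, hn⟩ ≤ J' l := hJ'.1.monotone (Fin.mk_le_of_le_val (Nat.zero_le _))
    have := hpos' ⟨0, hn⟩
    omega

end Groth.Agent.S12617
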