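import Groth.Statements.S12728
import Groth.Agent.H15.ArtHR

set_option autoImplicit false
universe u v
open CategoryTheory
open ArtFun

namespace Groth.Agent.S12728

/-- For functors, let F be a functor on Artinian local Λ-algebras with residue field k with F(k) a
point, satisfying (S1) and (S2), and ξ a family of F over a complete local Noetherian R with residue
field k. Then ξ is versal if and only if (1) the map h_R(k[ε]) → F(k[ε]) on tangent spaces is
surjective, and (2) whenever μ : B → A is a small extension, φ : R → A, and y ∈ F(B) lies over ξ(φ),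
the map φ lifts to some R → B. -/
theorem result {Λ : Type u} {k : Type u} [CommRing Λ] [Field k] [Algebra Λ k]
    [IsNoetherianRing Λ] [Module.Finite Λ k]
    {F : ArtFun.Art Λ k ⥤ Type v} (h0 : ArtFun.H0 F) (h1 : ArtFun.S1 F) (h2 : ArtFun.Heps F)
    (R : ArtFun.CRing Λ k) (ξ : ArtFun.Family R.carrier R.res F) :
    ArtFun.IsVersal ξ ↔
      (Function.Surjective (ArtFun.TangentSpace.ofFamily ξ) ∧
        ∀ ⦃B A : ArtFun.Art Λ k⦄ (μ : B ⟶ A), ArtFun.Art.IsSmallExt μ →
          ∀ (φ : ArtFun.HomSet R.carrier R.res A) (y : F.obj B), F.map μ y = ξ.app A φ →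
            ∃ ψ : ArtFun.HomSet R.carrier R.res B, ArtFun.HomSet.map μ ψ = φ) := by
  constructor
  · intro hξ
    refine ⟨fun v => ?_, fun B A μ hμ φ y hy => ?_⟩
    · obtain ⟨ψ, _, hψ⟩ := hξ (ArtFun.Art.toBase (ArtFun.Art.dual Λ k)) (ArtFun.Art.dual Λ k).res_surjective
        (Groth.Agent.H15.ArtHR.basePt R.carrier R.res) v (@Subsingleton.elim _ h0.2 _ _)
      exact ⟨ψ, hψ⟩
    · obtain ⟨ψ, hψ, _⟩ := hξ μ hμ.1 φ y hy
      exact ⟨ψ, hψ⟩
  · rintro ⟨hd, hl⟩
    exact Groth.Agent.H15.ArtHR.isVersal_of_tangent_of_lift h1 h2 ξ hd hl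

end Groth.Agent.S12728
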