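import Groth.Statements.S12748
import Groth.Agent.H15.PSSurj

set_option autoImplicit false
universe u v
open CategoryTheory
open ArtFun ArtFun.CRing

namespace Groth.Agent.S12748

theorem result {Λ : Type u} {k : Type u} [CommRing Λ] [Field k] [Algebra Λ k]
    [IsNoetherianRing Λ] [Module.Finite Λ k]
    (R' R : ArtFun.CRing Λ k) [Algebra R'.carrier R.carrier] [IsScalarTower Λ R'.carrier R.carrier]
    (hc : R.res.comp (IsScalarTower.toAlgHom Λ R'.carrier R.carrier) = R'.res)
    (ρ : R.carrier →ₐ[R'.carrier] R'.carrier)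
    (r : ℕ) (x : Fin r → R.carrier) (hxI : ∀ i, ρ (x i) = 0)
    (hspan : Ideal.span (Set.range x) ⊔ IsLocalRing.maximalIdeal R.carrier * RingHom.ker ρ = RingHom.ker ρ)
    (hli : ∀ c : Fin r → R.carrier, (∑ i, c i * x i) ∈ IsLocalRing.maximalIdeal R.carrier * RingHom.ker ρ →
      ∀ i, c i ∈ IsLocalRing.maximalIdeal R.carrier)
    (φ : MvPowerSeries (Fin r) R'.carrier →ₐ[R'.carrier] R.carrier) (hφ : ∀ i, φ (MvPowerSeries.X i) = x i)
    (hinv : ∃ N : ℕ, ∀ n, N ≤ n →
      ∃ g : R.carrier →ₐ[Λ] (MvPowerSeries (Fin r) R'.carrier ⧸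
          IsLocalRing.maximalIdeal (MvPowerSeries (Fin r) R'.carrier) ^ n),
        ∀ s, g (φ s) = Ideal.Quotient.mk _ s) :
    Function.Bijective φ := by
  classical
  have hker : RingHom.ker ρ ≤ Ideal.span (Set.range x) := by
    have hfg : (RingHom.ker ρ).FG := IsNoetherian.noetherian _
    refine Submodule.le_of_le_smul_of_le_jacobson_bot (I := IsLocalRing.maximalIdeal R.carrier)
      hfg (IsLocalRing.maximalIdeal_le_jacobson _) ?_
    rw [smul_eq_mul]
    exact hspan.ge
  refine ⟨?_, ?_⟩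
  · rw [injective_iff_map_eq_zero]
    intro f hf
    obtain ⟨N, hN⟩ := hinv
    have hmem : f ∈ ⨅ i, IsLocalRing.maximalIdeal (MvPowerSeries (Fin r) R'.carrier) ^ i := by
      rw [Ideal.mem_iInf]
      intro n
      obtain ⟨g, hg⟩ := hN (max n N) (le_max_right _ _)
      have h1 := hg f
      rw [hf, map_zero] at h1
      have h2 : f ∈ IsLocalRing.maximalIdeal (MvPowerSeries (Fin r) R'.carrier) ^ (max n N) :=
        Ideal.Quotient.eq_zero_iff_mem.1 h1.symm
      exact Ideal.pow_le_pow_right (le_max_left _ _) h2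
    rw [Ideal.iInf_pow_eq_bot_of_isLocalRing _ (IsLocalRing.maximalIdeal.isMaximal _).ne_top] at hmem
    exact hmem
  · exact Groth.Agent.H15.PSSurj.surjective_of_retraction (algebraMap R'.carrier R.carrier)
      (ρ : R.carrier →+* R'.carrier) (fun a => ρ.commutes a) x hxI hker
      (φ : MvPowerSeries (Fin r) R'.carrier →+* R.carrier)
      (fun a => by
        rw [MvPowerSeries.c_eq_algebraMap]
        exact φ.commutes a) hφ

end Groth.Agent.S12748
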