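import Groth.Statements.S12754

set_option autoImplicit false
universe u
open CategoryTheory
open ArtFun

namespace Groth.Agent.S12754


section helpers
open CategoryTheory MonoidalCategory

variable {K : Type u} [Field K]

/-- underlying linear map, as an additive hom -/
def homAdd (V W : FGModuleCat.{u} K) : (V ⟶ W) →+ (V →ₗ[K] W) where
  toFun f := f.hom.hom
  map_zero' := rfl
  map_add' _ _ := rfl

/-- the map `K → V`, `1 ↦ v` -/
noncomputable def fv (V : FGModuleCat.{u} K) (v : V) : FGModuleCat.of K K ⟶ V :=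
  ObjectProperty.homMk (ModuleCat.ofHom (LinearMap.toSpanSingleton K V v))

lemma fv_add (V : FGModuleCat.{u} K) (v w : V) : fv V (v + w) = fv V v + fv V w := by
  apply FGModuleCat.hom_ext
  apply LinearMap.ext; intro c
  exact smul_add c v w

lemma fv_smul (V : FGModuleCat.{u} K) (a : K) (v : V) : fv V (a • v) = a • fv V v := by
  apply FGModuleCat.hom_ext
  apply LinearMap.ext; intro c
  exact smul_comm c a v

lemma fv_comp {V W : FGModuleCat.{u} K} (h : V ⟶ W) (v : V) :
    fv V v ≫ h = fv W (h.hom.hom v) := by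
  apply FGModuleCat.hom_ext
  apply LinearMap.ext; intro c
  exact map_smul h.hom.hom c v

lemma fv_K (c : K) : fv (FGModuleCat.of K K) c = c • 𝟙 (FGModuleCat.of K K) := by
  apply FGModuleCat.hom_ext
  apply LinearMap.ext; intro a
  exact mul_comm a c

variable (L : FGModuleCat.{u} K ⥤ ModuleCat.{u} K) [L.Additive] [Functor.Linear K L]

noncomputable def bil (V : FGModuleCat.{u} K) :
    L.obj (FGModuleCat.of K K) →ₗ[K] V →ₗ[K] L.obj V :=
  LinearMap.mk₂ K (fun x v => (L.map (fv V v)).hom x)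
    (fun x y v => map_add _ x y)
    (fun c x v => map_smul _ c x)
    (fun x v w => by
      show (L.map (fv V (v + w))).hom x = (L.map (fv V v)).hom x + (L.map (fv V w)).hom x
      rw [fv_add, L.map_add]; rfl)
    (fun c x v => by
      show (L.map (fv V (c • v))).hom x = c • (L.map (fv V v)).hom x
      rw [fv_smul, L.map_smul]; rfl)

noncomputable def τ (V : FGModuleCat.{u} K) :
    (tensorLeft (L.obj (FGModuleCat.of K K))).obj V.obj ⟶ L.obj V :=
  ModuleCat.ofHom (TensorProduct.lift (bil L V))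

lemma τ_tmul (V : FGModuleCat.{u} K) (x : L.obj (FGModuleCat.of K K)) (v : V) :
    (τ L V).hom (x ⊗ₜ[K] v) = (L.map (fv V v)).hom x :=
  TensorProduct.lift.tmul _ _

lemma τ_nat {V W : FGModuleCat.{u} K} (h : V ⟶ W) :
    ((ModuleCat.isFG.{u} K).ι ⋙ tensorLeft (L.obj (FGModuleCat.of K K))).map h ≫ τ L W =
      τ L V ≫ L.map h := by
  apply ModuleCat.MonoidalCategory.tensor_ext
  intro x v
  have e1 : (τ L V ≫ L.map h).hom (x ⊗ₜ[K] v) = (L.map (fv V v ≫ h)).hom x := by
    rw [L.map_comp]; rfl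
  rw [e1, fv_comp]
  rfl

noncomputable def coordHom (V : FGModuleCat.{u} K) {n : ℕ} (b : Module.Basis (Fin n) K V)
    (i : Fin n) : V ⟶ FGModuleCat.of K K :=
  ObjectProperty.homMk (ModuleCat.ofHom (b.coord i))

lemma sum_coord_fv (V : FGModuleCat.{u} K) {n : ℕ} (b : Module.Basis (Fin n) K V) :
    ∑ i, coordHom V b i ≫ fv V (b i) = 𝟙 V := by
  apply FGModuleCat.hom_ext
  apply LinearMap.ext; intro v
  have h1 : (∑ i, coordHom V b i ≫ fv V (b i)).hom.hom =
      ∑ i, (coordHom V b i ≫ fv V (b i)).hom.hom := map_sum (homAdd V V) _ _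
  rw [h1, LinearMap.sum_apply]
  exact b.sum_repr v

noncomputable def σ (V : FGModuleCat.{u} K) {n : ℕ} (b : Module.Basis (Fin n) K V) :
    L.obj V →ₗ[K] TensorProduct K (L.obj (FGModuleCat.of K K)) V :=
  ∑ i, ((TensorProduct.mk K (L.obj (FGModuleCat.of K K)) V).flip (b i)).comp
    (L.map (coordHom V b i)).hom

lemma σ_apply (V : FGModuleCat.{u} K) {n : ℕ} (b : Module.Basis (Fin n) K V) (y : L.obj V) :
    σ L V b y = ∑ i, (L.map (coordHom V b i)).hom y ⊗ₜ[K] b i := by
  unfold σ
  rw [LinearMap.sum_apply]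
  rfl

lemma τ_σ (V : FGModuleCat.{u} K) {n : ℕ} (b : Module.Basis (Fin n) K V) (y : L.obj V) :
    (τ L V).hom (σ L V b y) = y := by
  rw [σ_apply, map_sum]
  have h0 : ∀ i, (τ L V).hom ((L.map (coordHom V b i)).hom y ⊗ₜ[K] b i) =
      (L.map (coordHom V b i ≫ fv V (b i))).hom y := by
    intro i
    rw [L.map_comp]; rfl
  simp only [h0]
  have h2 : ∑ i, (L.map (coordHom V b i ≫ fv V (b i))).hom y =
      (L.map (∑ i, coordHom V b i ≫ fv V (b i))).hom y := by
    rw [L.map_sum, ModuleCat.hom_sum, LinearMap.sum_apply]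
  rw [h2, sum_coord_fv, L.map_id]; rfl

lemma σ_τ (V : FGModuleCat.{u} K) {n : ℕ} (b : Module.Basis (Fin n) K V)
    (t : TensorProduct K (L.obj (FGModuleCat.of K K)) V) :
    σ L V b ((τ L V).hom t) = t := by
  induction t using TensorProduct.induction_on with
  | zero => rw [map_zero, map_zero]
  | add a c ha hc => rw [map_add, map_add, ha, hc]
  | tmul x v =>
    rw [σ_apply]
    have h0 : ∀ i, (L.map (coordHom V b i)).hom ((τ L V).hom (x ⊗ₜ[K] v)) = (b.repr v i) • x := by
      intro i
      have e1 : fv V v ≫ coordHom V b i = (b.repr v i) • 𝟙 (FGModuleCat.of K K) :=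
        (fv_comp (coordHom V b i) v).trans (fv_K (b.repr v i))
      have e2 : (L.map (coordHom V b i)).hom ((τ L V).hom (x ⊗ₜ[K] v)) =
          (L.map (fv V v ≫ coordHom V b i)).hom x := by
        rw [L.map_comp]; rfl
      rw [e2, e1, L.map_smul, L.map_id]; rfl
    simp only [h0]
    calc ∑ i, (b.repr v i • x) ⊗ₜ[K] b i = ∑ i, x ⊗ₜ[K] (b.repr v i • b i) := by
          refine Finset.sum_congr rfl fun i _ => ?_
          rw [TensorProduct.smul_tmul]
      _ = x ⊗ₜ[K] ∑ i, b.repr v i • b i := (TensorProduct.tmul_sum _ _ _).symm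
      _ = x ⊗ₜ[K] v := by rw [b.sum_repr]

lemma τ_isIso (V : FGModuleCat.{u} K) : IsIso (τ L V) := by
  let b := Module.finBasis K V
  refine ⟨ModuleCat.ofHom (σ L V b), ?_, ?_⟩
  · apply ModuleCat.hom_ext; apply LinearMap.ext; intro t; exact σ_τ L V b t
  · apply ModuleCat.hom_ext; apply LinearMap.ext; intro y; exact τ_σ L V b y

end helpers

/-- A K-linear functor L from finite-dimensional K-vector spaces to K-vector spaces (K a field) is
isomorphic to the functor V ↦ L(K) ⊗_K V. (Existence of an isomorphism of functors, which is how the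
published statement reads; the natural choice sends x ⊗ v to L(f_v)(x) with f_v : K → V, 1 ↦ v.) -/
theorem result (K : Type u) [Field K]
    (L : FGModuleCat.{u} K ⥤ ModuleCat.{u} K) [L.Additive] [Functor.Linear K L] :
    Nonempty (L ≅ (ModuleCat.isFG.{u} K).ι ⋙ MonoidalCategory.tensorLeft (L.obj (FGModuleCat.of K K))) := by
  haveI : ∀ V, IsIso (τ L V) := fun V => τ_isIso L V
  let t : ((ModuleCat.isFG.{u} K).ι ⋙ MonoidalCategory.tensorLeft (L.obj (FGModuleCat.of K K))) ⟶ L :=
    { app := fun V => τ L V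
      naturality := fun V W h => τ_nat L h }
  haveI : IsIso t := NatIso.isIso_of_isIso_app t
  exact ⟨(asIso t).symm⟩

end Groth.Agent.S12754
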