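import Groth.Statements.S1276
import Mathlib
import Groth.Agent.Lib.Helper26.SupportBaseChange

set_option autoImplicit false
set_option linter.style.haveILetI false
universe u
open FlatMor

namespace Groth.Agent.S1276

attribute [local instance] Algebra.TensorProduct.rightAlgebra in
/-- Let B be a finite type A-algebra, N a finite B-module and p a prime of A. Then there is a finitely
generated ideal J of B annihilating N (so N is a module on the finitely presented closed subscheme
V(J) of Spec B) such that a point of the fibre Spec(κ(p) ⊗ B) lies in V(J) if and only if it lies in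
the support of the fibre module of N. -/
theorem result {A B : Type u} [CommRing A] [CommRing B] [Algebra A B] [Algebra.FiniteType A B]
    (N : Type u) [AddCommGroup N] [Module B N] [Module A N] [IsScalarTower A B N] [Module.Finite B N] (p : Ideal A) [p.IsPrime] :
    ∃ J : Ideal B, J.FG ∧ J ≤ Module.annihilator B N ∧
      ∀ x : PrimeSpectrum (p.Fiber B), FlatCA.fiberIdeal p J ≤ x.asIdeal ↔ x ∈ Module.support (p.Fiber B) (FlatCA.fiberMod p B N) := by
  classical
  haveI : IsNoetherianRing (p.Fiber B) :=
    Algebra.FiniteType.isNoetherianRing p.ResidueField (p.Fiber B)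
  have hfg : (Submodule.span (p.Fiber B)
      ((algebraMap B (p.Fiber B)) '' (Module.annihilator B N : Set B))).FG :=
    IsNoetherian.noetherian _
  obtain ⟨s', hs'sub, hs'eq⟩ := (Submodule.fg_span_iff_fg_span_finset_subset _).mp hfg
  obtain ⟨t, htsub, hts'⟩ := Finset.subset_set_image_iff.mp hs'sub
  refine ⟨Ideal.span (t : Set B), ⟨t, rfl⟩, Ideal.span_le.mpr htsub, fun x => ?_⟩
  have hJ : (Ideal.span (t : Set B)).map (algebraMap B (p.Fiber B)) =
      (Module.annihilator B N).map (algebraMap B (p.Fiber B)) := by
    rw [Ideal.map_span, Ideal.map]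
    show Submodule.span (p.Fiber B) _ = Submodule.span (p.Fiber B) _
    rw [hs'eq, ← hts', Finset.coe_image]
  show (Ideal.span (t : Set B)).map (algebraMap B (p.Fiber B)) ≤ x.asIdeal ↔
    x ∈ Module.support (p.Fiber B) (TensorProduct B (p.Fiber B) N)
  rw [hJ, H26.mem_support_baseChange_iff, Module.mem_support_iff_of_finite,
    Ideal.map_le_iff_le_comap]
  rfl

end Groth.Agent.S1276
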