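import Groth.Statements.S12783
import Groth.Agent.Lib.Helper22.RepDiag

set_option autoImplicit false
open CategoryTheory CategoryTheory.Limits
universe v u
open FibCat


set_option backward.isDefEq.respectTransparency false
set_option backward.isDefEq.respectTransparency.types false

namespace Groth.Agent.S12783aux

open CategoryTheory CategoryTheory.Limits FibCat
open Groth.Agent.Helper22.RepDiag

lemma hom_ext_of_lift {C : Type u} [Category.{v} C] {Y : C} {x y : Over Y} {R S : C} (w : R ⟶ S)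
    (k k' : x ⟶ y) (h : (FibCat.overCat Y).p.IsHomLift w k)
    (h' : (FibCat.overCat Y).p.IsHomLift w k') : k = k' := by
  apply Over.OverMorphism.ext
  haveI := h
  haveI := h'
  exact (IsHomLift.fac' (FibCat.overCat Y).p w k).trans
    (IsHomLift.fac' (FibCat.overCat Y).p w k').symm

theorem main {C : Type u} [Category.{v} C] [HasPullbacks C] {X Y : C} (f : X ⟶ Y) :
    FibCat.IsRepresentable1
      (⟨Over.map f, Over.mapForget_eq f⟩ : FibCat.overCat X ⥤ᵇ FibCat.overCat Y) := by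
  intro U G
  let F : FibCat.overCat X ⥤ᵇ FibCat.overCat Y := ⟨Over.map f, Over.mapForget_eq f⟩
  have hfg : FibCat.IsFibGrpd (FibCat.fp G F).p :=
    Groth.Agent.H13.fp_isFibGrpd G F (Groth.Agent.Helper22.OverFib.isFibGrpd_over U)
      (Groth.Agent.Helper22.OverFib.isFibGrpd_over X)
      (Groth.Agent.Helper22.OverFib.isFibGrpd_over Y)
  show FibCat.IsRepresentable (FibCat.fp G F)
  rw [rep_iff _ hfg]
  let γ : Over Y := G.obj (Over.mk (𝟙 U))
  have hγ : γ.left = U := G.w_obj (Over.mk (𝟙 U))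
  obtain ⟨g₀, hg₀⟩ : ∃ g : U ⟶ Y, g = eqToHom hγ.symm ≫ γ.hom := ⟨_, rfl⟩
  have hG : ∀ (a : Over U) (h : (G.obj a).left = a.left),
      (G.obj a).hom = eqToHom h ≫ a.hom ≫ g₀ := by
    intro a h
    let m : a ⟶ Over.mk (𝟙 U) := Over.homMk a.hom (by simp)
    have h1 : (G.map m).left ≫ γ.hom = (G.obj a).hom := Over.w (G.map m)
    have h2 : (G.map m).left = eqToHom h ≫ a.hom ≫ eqToHom hγ.symm :=
      Functor.congr_hom G.w m
    rw [← h1, h2, hg₀]
    simp only [Category.assoc]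
  have hcond : pullback.fst g₀ f ≫ g₀ = pullback.snd g₀ f ≫ f := pullback.condition
  let a₀ : Over U := Over.mk (pullback.fst g₀ f)
  let b₀ : Over X := Over.mk (pullback.snd g₀ f)
  have ha₀ : (G.obj a₀).left = pullback g₀ f := G.w_obj a₀
  let θ₀ : G.obj a₀ ≅ F.obj b₀ := Over.isoMk (eqToIso ha₀) (by
    show eqToHom ha₀ ≫ (pullback.snd g₀ f ≫ f) = (G.obj a₀).hom
    rw [← hcond]
    exact (hG a₀ ha₀).symm)
  have hθ₀ : (FibCat.overCat Y).p.IsHomLift (𝟙 (pullback g₀ f)) θ₀.hom := by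
    have h1 : (FibCat.overCat Y).p.map θ₀.hom = eqToHom ha₀ := rfl
    refine IsHomLift.of_fac' _ _ _ ha₀ rfl (h1.trans ?_)
    simp
  let ξ : (FibCat.fp G F).obj := ⟨⟨a₀, b₀, θ₀⟩, hθ₀⟩
  refine ⟨ξ, ?_⟩
  intro ρ
  let a : Over U := ρ.obj.fst
  let b : Over X := ρ.obj.snd
  let θ : G.obj a ≅ F.obj b := ρ.obj.iso
  have hθ : (FibCat.overCat Y).p.IsHomLift (𝟙 a.left) θ.hom := ρ.property
  have hb : b.left = a.left := Groth.Agent.H13.fp_obj_snd_proj G F ρ
  have hGa : (G.obj a).left = a.left := G.w_obj a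
  obtain ⟨hθe, hθl⟩ := isEq_map θ.hom hθ
  have hθe' : (G.obj a).left = b.left := hθe
  have h1 : θ.hom.left = eqToHom hθe' := hθl
  have hw : θ.hom.left ≫ (b.hom ≫ f) = (G.obj a).hom := Over.w θ.hom
  have hcomm : a.hom ≫ g₀ = (eqToHom hb.symm ≫ b.hom) ≫ f := by
    have h2 : eqToHom hθe' ≫ (b.hom ≫ f) = eqToHom hGa ≫ a.hom ≫ g₀ :=
      (congrArg (fun z : (G.obj a).left ⟶ b.left => z ≫ (b.hom ≫ f)) h1.symm).trans
        (hw.trans (hG a hGa))
    have h3 := congrArg (fun z => eqToHom hGa.symm ≫ z) h2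
    simp only [eqToHom_trans_assoc, eqToHom_refl, Category.id_comp] at h3
    rw [Category.assoc]
    exact h3.symm
  let κ : a.left ⟶ pullback g₀ f := pullback.lift a.hom (eqToHom hb.symm ≫ b.hom) hcomm
  have hκ₁ : κ ≫ pullback.fst g₀ f = a.hom := pullback.lift_fst _ _ _
  have hκ₂ : κ ≫ pullback.snd g₀ f = eqToHom hb.symm ≫ b.hom := pullback.lift_snd _ _ _
  let k₁ : a ⟶ a₀ := Over.homMk κ hκ₁
  let k₂ : b ⟶ b₀ := Over.homMk (eqToHom hb ≫ κ) (by
    show (eqToHom hb ≫ κ) ≫ pullback.snd g₀ f = b.hom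
    rw [Category.assoc, hκ₂, eqToHom_trans_assoc, eqToHom_refl, Category.id_comp])
  have compat : G.map k₁ ≫ θ₀.hom = θ.hom ≫ F.map k₂ := by
    apply hom_ext_of_lift κ
    · haveI h1 : (FibCat.overCat Y).p.IsHomLift κ (G.map k₁) := over_map_lift G k₁
      haveI := hθ₀
      infer_instance
    · haveI h1 : (FibCat.overCat Y).p.IsHomLift κ (F.map k₂) :=
        (IsHomLift.lift_eqToHom_comp_iff (FibCat.overCat Y).p κ (F.map k₂) hb).1
          (over_map_lift F k₂)
      haveI := hθ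
      infer_instance
  let d₀ : ρ ⟶ ξ := ObjectProperty.homMk ⟨k₁, k₂, compat⟩
  refine ⟨{ default := d₀, uniq := ?_ }⟩
  intro g
  let g₁ : a ⟶ a₀ := g.hom.fst
  let g₂ : b ⟶ b₀ := g.hom.snd
  have hg : g₂.left = eqToHom hb ≫ g₁.left :=
    over_left_eq_dom g₂ g₁.left hb (FibCat.fp_isHomLift_snd G F g)
  have hl : g₁.left = κ := by
    apply pullback.hom_ext
    · exact (Over.w g₁).trans hκ₁.symm
    · have h2 : g₂.left ≫ pullback.snd g₀ f = b.hom := Over.w g₂
      rw [hg, Category.assoc] at h2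
      rw [hκ₂, ← h2, eqToHom_trans_assoc, eqToHom_refl, Category.id_comp]
  apply ObjectProperty.hom_ext
  apply CategoryTheory.Limits.CategoricalPullback.hom_ext
  · apply Over.OverMorphism.ext
    exact hl
  · apply Over.OverMorphism.ext
    show g₂.left = eqToHom hb ≫ κ
    rw [hg, hl]

end Groth.Agent.S12783aux

namespace Groth.Agent.S12783

/-- For a morphism `f : X ⟶ Y` in a category `C` with fibre products, the induced functor `C/X ⟶ C/Y`
over `C` is a representable 1-morphism. (The published statement is for schemes over a base; this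
row holds in any category with fibre products.) -/
theorem result {C : Type u} [Category.{v} C] [HasPullbacks C] {X Y : C} (f : X ⟶ Y) :
    FibCat.IsRepresentable1 (⟨Over.map f, Over.mapForget_eq f⟩ : FibCat.overCat X ⥤ᵇ FibCat.overCat Y) := by
  exact Groth.Agent.S12783aux.main f

end Groth.Agent.S12783
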