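import Groth.Statements.S12784
import Groth.Agent.Lib.Helper22.FpSq

set_option autoImplicit false
open CategoryTheory CategoryTheory.Limits
universe v u
open FibCat

namespace Groth.Agent.S12784

/-- Consider a 2-commutative square of functors over `C` with vertical arrows `f' : 𝒳' ⟶ 𝒴'`, `f : 𝒳 ⟶
𝒴` and horizontal arrows equivalences over `C`. Then `f` is a representable 1-morphism if and only
if `f'` is. (The published statement is for categories fibred in groupoids over schemes over a base;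
this row is stated for categories over any base category.) -/
theorem result {C : Type u} [Category.{v} C] {𝒳 𝒴 𝒳' 𝒴' : BasedCategory.{v, max u v} C}
    (f : 𝒳 ⥤ᵇ 𝒴) (f' : 𝒳' ⥤ᵇ 𝒴') (a : 𝒳' ⥤ᵇ 𝒳) (b : 𝒴' ⥤ᵇ 𝒴)
    (ha : FibCat.IsEquivOver a) (hb : FibCat.IsEquivOver b) (e : BasedFunctor.comp f' b ≅ BasedFunctor.comp a f) :
    FibCat.IsRepresentable1 f ↔ FibCat.IsRepresentable1 f' := by
  constructor
  · intro hf U y'
    exact Groth.Agent.Helper22.FpEquiv.isRepresentable_of_equiv'
      (Groth.Agent.Helper22.FpSq.sqFun (BasedFunctor.comp y' b) f y' f' a b (Iso.refl _) e)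
      (Groth.Agent.Helper22.FpSq.isEquivOver_sqFun (BasedFunctor.comp y' b) f y' f' a b
        (Iso.refl _) e ha hb)
      (hf U (BasedFunctor.comp y' b))
  · intro hf' U y
    obtain ⟨b', ⟨e₁⟩, ⟨e₂⟩⟩ := hb
    have hb : FibCat.IsEquivOver b := ⟨b', ⟨e₁⟩, ⟨e₂⟩⟩
    let ι : BasedFunctor.comp (BasedFunctor.comp y b') b ≅ y :=
      (Groth.Agent.Helper22.PostEquiv.postCompIso (FibCat.overCat U) b' b e₂).app y
    exact Groth.Agent.Helper22.EquivComp.isRepresentable_of_equiv
      (Groth.Agent.Helper22.FpSq.sqFun y f (BasedFunctor.comp y b') f' a b ι e)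
      (Groth.Agent.Helper22.FpSq.isEquivOver_sqFun y f (BasedFunctor.comp y b') f' a b ι e ha hb)
      (hf' U (BasedFunctor.comp y b'))

end Groth.Agent.S12784
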