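import Groth.Statements.S12786
import Groth.Agent.Lib.Helper22.EquivComp
import Groth.Agent.Lib.Helper22.RepDiag

set_option autoImplicit false
open CategoryTheory CategoryTheory.Limits
universe v u
open FibCat


set_option backward.isDefEq.respectTransparency false
set_option backward.isDefEq.respectTransparency.types false

namespace Groth.Agent.S12786aux

open CategoryTheory CategoryTheory.Limits FibCat
open Groth.Agent.Helper22 Groth.Agent.Helper22.EquivComp

section
variable {C : Type u} [Category.{v} C] {𝒳 𝒴 𝒵 : BasedCategory.{v, max u v} C}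
  (f : 𝒳 ⥤ᵇ 𝒴) (g : 𝒵 ⥤ᵇ 𝒴) {U : C} (z : FibCat.overCat U ⥤ᵇ 𝒵)

lemma hinner (X : (FibCat.fp (BasedFunctor.comp z g) f).obj) :
    𝒴.p.IsHomLift (𝟙 (𝒵.p.obj (z.obj X.obj.fst))) X.obj.iso.hom :=
  lift_id_congr 𝒴.p _ (z.w_obj X.obj.fst).symm X.property

/-- the comparison functor `(C/U) ×_𝒴 𝒳 ⟶ (C/U) ×_𝒵 (𝒵 ×_𝒴 𝒳)`. -/
def Φ : FibCat.fp (BasedFunctor.comp z g) f ⥤ᵇ FibCat.fp z (FibCat.fpFst g f) where
  toFunctor :=
    { obj := fun X =>
        ⟨{ fst := X.obj.fst
           snd := ⟨{ fst := z.obj X.obj.fst, snd := X.obj.snd, iso := X.obj.iso }, hinner f g z X⟩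
           iso := Iso.refl (z.obj X.obj.fst) },
          IsHomLift.id (z.w_obj X.obj.fst)⟩
      map := fun {X Y} m => ObjectProperty.homMk
          { fst := m.hom.fst
            snd := ObjectProperty.homMk
              { fst := z.map m.hom.fst, snd := m.hom.snd, w := m.hom.w }
            w := (Category.comp_id _).trans (Category.id_comp _).symm }
      map_id := fun X => by
        apply ObjectProperty.hom_ext
        apply CategoryTheory.Limits.CategoricalPullback.hom_ext
        · rfl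
        · apply ObjectProperty.hom_ext
          apply CategoryTheory.Limits.CategoricalPullback.hom_ext
          · exact z.toFunctor.map_id _
          · rfl
      map_comp := fun m n => by
        apply ObjectProperty.hom_ext
        apply CategoryTheory.Limits.CategoricalPullback.hom_ext
        · rfl
        · apply ObjectProperty.hom_ext
          apply CategoryTheory.Limits.CategoricalPullback.hom_ext
          · exact z.toFunctor.map_comp _ _
          · rfl }
  w := rfl

instance faithfulΦ : (Φ f g z).toFunctor.Faithful := by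
  refine ⟨?_⟩
  intro X Y m m' h
  apply ObjectProperty.hom_ext
  apply CategoryTheory.Limits.CategoricalPullback.hom_ext
  · exact congrArg (fun t => t.hom.fst) h
  · exact congrArg (fun t => t.hom.snd.hom.snd) h

instance fullΦ : (Φ f g z).toFunctor.Full := by
  refine ⟨?_⟩
  intro X Y n
  let k : X.obj.fst ⟶ Y.obj.fst := n.hom.fst
  let inner := n.hom.snd
  have hw := n.hom.w
  have hz : z.map k = inner.hom.fst := by
    have h1 : z.map k ≫ 𝟙 _ = 𝟙 _ ≫ inner.hom.fst := hw
    rw [Category.comp_id, Category.id_comp] at h1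
    exact h1
  have hiw : g.map inner.hom.fst ≫ Y.obj.iso.hom = X.obj.iso.hom ≫ f.map inner.hom.snd :=
    inner.hom.w
  have w : (BasedFunctor.comp z g).map k ≫ Y.obj.iso.hom = X.obj.iso.hom ≫ f.map inner.hom.snd := by
    rw [← hz] at hiw
    exact hiw
  let m : X ⟶ Y := ObjectProperty.homMk ⟨k, inner.hom.snd, w⟩
  refine ⟨m, ?_⟩
  apply ObjectProperty.hom_ext
  apply CategoryTheory.Limits.CategoricalPullback.hom_ext
  · rfl
  · apply ObjectProperty.hom_ext
    apply CategoryTheory.Limits.CategoricalPullback.hom_ext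
    · exact hz
    · rfl

lemma isEquivOverΦ : FibCat.IsEquivOver (Φ f g z) := by
  apply FibLift.isEquivOver_of_ff
  intro η
  let a : Over U := η.obj.fst
  let inner : (FibCat.fp g f).obj := η.obj.snd
  let ζ : 𝒵.obj := inner.obj.fst
  let x : 𝒳.obj := inner.obj.snd
  let θ' : g.obj ζ ≅ f.obj x := inner.obj.iso
  let τ : z.obj a ≅ ζ := η.obj.iso
  have hτ : 𝒵.p.IsHomLift (𝟙 a.left) τ.hom := η.property
  have hθ' : 𝒴.p.IsHomLift (𝟙 (𝒵.p.obj ζ)) θ'.hom := inner.property
  haveI := hτ
  haveI := hθ'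
  haveI hgτ : 𝒴.p.IsHomLift (𝟙 a.left) (g.map τ.hom) := inferInstance
  have hξ : 𝒴.p.IsHomLift (𝟙 a.left) (g.map τ.hom ≫ θ'.hom) :=
    IsHomLift.comp_lift_id_right' 𝒴.p (𝟙 a.left) (g.map τ.hom) (𝒵.p.obj ζ) θ'.hom
  let ξ : (FibCat.fp (BasedFunctor.comp z g) f).obj :=
    ⟨⟨a, x, g.toFunctor.mapIso τ ≪≫ θ'⟩, hξ⟩
  let innerIso : ((Φ f g z).obj ξ).obj.snd ≅ inner :=
    ObjectProperty.isoMk _ (CategoryTheory.Limits.CategoricalPullback.mkIso τ (Iso.refl x) (by
      show g.map τ.hom ≫ θ'.hom = (g.map τ.hom ≫ θ'.hom) ≫ f.map (𝟙 x)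
      rw [f.toFunctor.map_id, Category.comp_id]))
  let e : (Φ f g z).obj ξ ≅ η :=
    ObjectProperty.isoMk _ (CategoryTheory.Limits.CategoricalPullback.mkIso (Iso.refl a) innerIso (by
      show z.map (𝟙 a) ≫ τ.hom = 𝟙 _ ≫ τ.hom
      rw [z.toFunctor.map_id]))
  refine ⟨ξ, e, ?_⟩
  rw [Groth.Agent.H13.fp_isHomLift_iff z (FibCat.fpFst g f) e.hom]
  exact IsHomLift.id rfl

end

end Groth.Agent.S12786aux

namespace Groth.Agent.S12786

/-- For a representable 1-morphism `f : 𝒳 ⟶ 𝒴` of categories over `C` and any `g : 𝒵 ⟶ 𝒴` over `C`, the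
base change `𝒵 ×_𝒴 𝒳 ⟶ 𝒵` is a representable 1-morphism. (The published statement is for categories
fibred in groupoids over schemes over a base; this row is stated for categories over any base
category.) -/
theorem result {C : Type u} [Category.{v} C] {𝒳 𝒴 𝒵 : BasedCategory.{v, max u v} C}
    (f : 𝒳 ⥤ᵇ 𝒴) (g : 𝒵 ⥤ᵇ 𝒴) (hf : FibCat.IsRepresentable1 f) :
    FibCat.IsRepresentable1 (FibCat.fpFst g f) := by
  intro U z
  exact Groth.Agent.Helper22.EquivComp.isRepresentable_of_equiv
    (Groth.Agent.S12786aux.Φ f g z) (Groth.Agent.S12786aux.isEquivOverΦ f g z)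
    (hf U (BasedFunctor.comp z g))

end Groth.Agent.S12786
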