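import Groth.Statements.S12787
import Groth.Agent.H13.EquivOver

set_option autoImplicit false
open CategoryTheory AlgebraicGeometry
universe u
open AlgSt

namespace Groth.Agent.S12787

/-- A category fibred in groupoids over `(Sch/S)` which is representable by an algebraic space is fibred
in setoids. -/
theorem result {S : Scheme.{u}} {𝒳 : AlgSt.Cat S}
    (h𝒳 : FibCat.IsFibGrpd 𝒳.p) (hr : AlgSt.RepByAlgSp 𝒳) :
    FibCat.IsFibSetoid 𝒳.p := by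
  refine ⟨h𝒳, fun U => fun a b => ⟨fun φ ψ => ?_⟩⟩
  obtain ⟨F, e, G, ⟨e₁⟩, ⟨e₂⟩⟩ := hr
  haveI : G.toFunctor.IsEquivalence :=
    Groth.Agent.H13.isEquivalence_of_isEquivOver G ⟨e, ⟨e₂⟩, ⟨e₁⟩⟩
  apply Subtype.ext
  apply G.toFunctor.map_injective
  apply Stk.EltObj.hom_ext
  haveI h1 : 𝒳.p.IsHomLift (𝟙 U) φ.1 := φ.2
  haveI h2 : 𝒳.p.IsHomLift (𝟙 U) ψ.1 := ψ.2
  have h3 : (AlgSt.ofSp F.obj).p.IsHomLift (𝟙 U) (G.map φ.1) :=
    @BasedFunctor.preserves_isHomLift _ _ _ _ G _ _ _ _ (𝟙 U) φ.1 h1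
  have h4 : (AlgSt.ofSp F.obj).p.IsHomLift (𝟙 U) (G.map ψ.1) :=
    @BasedFunctor.preserves_isHomLift _ _ _ _ G _ _ _ _ (𝟙 U) ψ.1 h2
  exact (IsHomLift.fac' (AlgSt.ofSp F.obj).p (𝟙 U) (G.map φ.1)).trans
    (IsHomLift.fac' (AlgSt.ofSp F.obj).p (𝟙 U) (G.map ψ.1)).symm

end Groth.Agent.S12787
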