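import Groth.Statements.S12794
import Groth.Agent.Lib.Helper22.FibLift
import Groth.Agent.S6409
import Groth.Agent.S6406
import Groth.Agent.S12792
import Mathlib

set_option autoImplicit false
open CategoryTheory
universe w v u
open Stk

set_option backward.isDefEq.respectTransparency false
set_option backward.isDefEq.respectTransparency.types false

namespace Groth.Agent.S12794aux

open CategoryTheory CategoryTheory.Limits FibCat Stk
open Groth.Agent.Helper22.FibLift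

section
variable {C : Type u} [Category.{v} C] (J : GrothendieckTopology C)
  {𝒳 𝒴 : BasedCategory.{v, max u v} C}

lemma exists_preimage_of_local (h𝒳 : Stk.IsStack J 𝒳) (h𝒴 : Stk.IsStack J 𝒴) (F : 𝒳 ⥤ᵇ 𝒴)
    [F.toFunctor.Full] [F.toFunctor.Faithful] (y : 𝒴.obj) (R : Sieve (𝒴.p.obj y))
    (hR : R ∈ J (𝒴.p.obj y))
    (hloc : ∀ ⦃V : C⦄ (f : V ⟶ 𝒴.p.obj y), R f →
      ∃ (x : 𝒳.obj) (φ : F.obj x ⟶ y), 𝒴.p.IsHomLift f φ) :
    ∃ (ξ : 𝒳.obj) (e : F.toFunctor.obj ξ ≅ y), 𝒴.p.IsHomLift (𝟙 (𝒴.p.obj y)) e.hom := by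
  obtain ⟨hY1, hY2⟩ := h𝒴
  obtain ⟨hX1, hX2⟩ := h𝒳
  haveI : (FibCat.evalAtId 𝒴 (𝒴.p.obj y)).IsEquivalence := Groth.Agent.S6409.result hY1 (𝒴.p.obj y)
  let y0 : 𝒴.p.Fiber (𝒴.p.obj y) := ⟨y, rfl⟩
  let Y : FibCat.overCat (𝒴.p.obj y) ⥤ᵇ 𝒴 := (FibCat.evalAtId 𝒴 (𝒴.p.obj y)).objPreimage y0
  let τ0 : (FibCat.evalAtId 𝒴 (𝒴.p.obj y)).obj Y ≅ y0 :=
    (FibCat.evalAtId 𝒴 (𝒴.p.obj y)).objObjPreimageIso y0
  let τ : Y.obj (Over.mk (𝟙 (𝒴.p.obj y))) ≅ y := Functor.Fiber.fiberInclusion.mapIso τ0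
  haveI hτ : 𝒴.p.IsHomLift (𝟙 (𝒴.p.obj y)) τ.hom :=
    (inferInstance : 𝒴.p.IsHomLift (𝟙 (𝒴.p.obj y)) (Functor.Fiber.fiberInclusion.map τ0.hom))
  have key : ∀ b : (Stk.sieveCat R).obj, ∃ (x : 𝒳.obj)
      (χ : F.obj x ≅ (BasedFunctor.comp (Stk.sieveIncl R) Y).obj b),
      𝒴.p.IsHomLift (𝟙 ((Stk.sieveCat R).p.obj b)) χ.hom := by
    intro b
    obtain ⟨f, hf⟩ : ∃ f : b.obj.left ⟶ 𝒴.p.obj y, f = b.obj.hom := ⟨_, rfl⟩
    have hRf : R f := by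
      rw [hf]
      exact b.property
    obtain ⟨x, φ, hφ⟩ := hloc f hRf
    haveI := hφ
    let m : b.obj ⟶ Over.mk (𝟙 (𝒴.p.obj y)) := Over.homMk f (by simp [hf])
    haveI hm : (FibCat.overCat (𝒴.p.obj y)).p.IsHomLift f m := by
      show (FibCat.overCat (𝒴.p.obj y)).p.IsHomLift ((FibCat.overCat (𝒴.p.obj y)).p.map m) m
      infer_instance
    haveI hYm : 𝒴.p.IsHomLift f (Y.map m) := inferInstance
    haveI hψ : 𝒴.p.IsHomLift f (Y.map m ≫ τ.hom) := inferInstance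
    haveI hsc : 𝒴.p.IsStronglyCartesian f (Y.map m ≫ τ.hom) := sc_of_lift 𝒴.p hY1 f _
    obtain ⟨χ0, ⟨hχ1, hχ2⟩, -⟩ := CategoryTheory.Functor.IsStronglyCartesian.universal_property 𝒴.p f
      (Y.map m ≫ τ.hom) (𝟙 b.obj.left) f (Category.id_comp f).symm φ
    haveI := hχ1
    haveI : IsIso χ0 := Groth.Agent.S6406aux.isIso_of_lift_id hY1 b.obj.left χ0
    exact ⟨x, asIso χ0, hχ1⟩
  choose xx χ hχ using key
  let XR : Stk.sieveCat R ⥤ᵇ 𝒳 := liftB F (BasedFunctor.comp (Stk.sieveIncl R) Y) xx χ hχ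
  let ER : BasedFunctor.comp XR F ≅ BasedFunctor.comp (Stk.sieveIncl R) Y :=
    liftIso F (BasedFunctor.comp (Stk.sieveIncl R) Y) xx χ hχ
  haveI eX : (Stk.restr (Stk.sieveIncl R) 𝒳).IsEquivalence := hX2 R hR
  haveI eY : (Stk.restr (Stk.sieveIncl R) 𝒴).IsEquivalence := hY2 R hR
  let X : FibCat.overCat (𝒴.p.obj y) ⥤ᵇ 𝒳 := (Stk.restr (Stk.sieveIncl R) 𝒳).objPreimage XR
  let e : (Stk.restr (Stk.sieveIncl R) 𝒳).obj X ≅ XR :=
    (Stk.restr (Stk.sieveIncl R) 𝒳).objObjPreimageIso XR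
  let ω : (Stk.restr (Stk.sieveIncl R) 𝒴).obj (BasedFunctor.comp X F) ≅
      (Stk.restr (Stk.sieveIncl R) 𝒴).obj Y := Groth.Agent.S12792aux.wrIso e F ≪≫ ER
  let ε : BasedFunctor.comp X F ≅ Y := (Stk.restr (Stk.sieveIncl R) 𝒴).preimageIso ω
  haveI h1 : 𝒴.p.IsHomLift (𝟙 (𝒴.p.obj y)) (ε.hom.toNatTrans.app (Over.mk (𝟙 (𝒴.p.obj y)))) :=
    ε.hom.isHomLift' (Over.mk (𝟙 (𝒴.p.obj y)))
  refine ⟨X.obj (Over.mk (𝟙 (𝒴.p.obj y))),
    ((BasedNatTrans.forgetful _ _).mapIso ε).app (Over.mk (𝟙 (𝒴.p.obj y))) ≪≫ τ, ?_⟩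
  show 𝒴.p.IsHomLift (𝟙 (𝒴.p.obj y)) (ε.hom.toNatTrans.app (Over.mk (𝟙 (𝒴.p.obj y))) ≫ τ.hom)
  infer_instance

end

end Groth.Agent.S12794aux

namespace Groth.Agent.S12794

/-- Let `𝒳`, `𝒴` be stacks in groupoids over `C` for the topology `J` and `F : 𝒳 ⟶ 𝒴` a functor over `C`
whose underlying functor is fully faithful. Then `F` is an equivalence over `C` if and only if every
object `y` of `𝒴` is locally in the essential image: there is a covering sieve `R` of the object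
under `y` such that for every arrow `f` of `R` some object `x` of `𝒳` has a morphism `F x ⟶ y` lying
over `f` (equivalently, the pullback of `y` along `f` is isomorphic in its fibre to an object in the
image of `F`). (The published statement is for stacks over the site, not necessarily in groupoids,
and 1-morphisms of stacks; this row treats stacks in groupoids.) -/
theorem result {C : Type u} [Category.{v} C] (J : GrothendieckTopology C) {𝒳 𝒴 : BasedCategory.{v, max u v} C}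
    (h𝒳 : Stk.IsStack J 𝒳) (h𝒴 : Stk.IsStack J 𝒴) (F : 𝒳 ⥤ᵇ 𝒴) [F.toFunctor.Full] [F.toFunctor.Faithful] :
    FibCat.IsEquivOver F ↔
      ∀ y : 𝒴.obj, ∃ R ∈ J (𝒴.p.obj y), ∀ ⦃V : C⦄ (f : V ⟶ 𝒴.p.obj y), R f →
        ∃ (x : 𝒳.obj) (φ : F.obj x ⟶ y), 𝒴.p.IsHomLift f φ := by
  constructor
  · rintro ⟨G, ⟨i1⟩, ⟨i2⟩⟩
    intro y
    refine ⟨⊤, J.top_mem _, ?_⟩
    intro V f _
    obtain ⟨y', φ0, hφ0⟩ := h𝒴.1.exists_lift (x := y) f
    haveI := hφ0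
    haveI h1 : 𝒴.p.IsHomLift (𝟙 V) (i2.hom.toNatTrans.app y') :=
      i2.hom.isHomLift (IsHomLift.domain_eq 𝒴.p f φ0)
    exact ⟨G.obj y', i2.hom.toNatTrans.app y' ≫ φ0, inferInstance⟩
  · intro h
    apply Groth.Agent.Helper22.FibLift.isEquivOver_of_ff F
    intro η
    obtain ⟨R, hR, hloc⟩ := h η
    exact Groth.Agent.S12794aux.exists_preimage_of_local J h𝒳 h𝒴 F η R hR hloc

end Groth.Agent.S12794
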