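import Groth.Statements.S12795
import Groth.Agent.Lib.Helper22.PostFF
import Groth.Agent.Lib.Helper22.RepDiag
import Groth.Agent.H13.HomLiftComp

set_option autoImplicit false
open CategoryTheory
universe w v u
open Stk


set_option backward.isDefEq.respectTransparency false
set_option backward.isDefEq.respectTransparency.types false

namespace Groth.Agent.S12795aux

open CategoryTheory Stk FibCat
open Groth.Agent.Helper22

universe v₂ u₂ v₃ u₃

section gen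
variable {C : Type u} [Category.{v} C]

lemma sc_reflect {𝒳 : BasedCategory.{v₂, u₂} C} {𝒴 : BasedCategory.{v₃, u₃} C} (F : 𝒳 ⥤ᵇ 𝒴)
    [F.toFunctor.Full] [F.toFunctor.Faithful] {R S : C} (f : R ⟶ S) {a b : 𝒳.obj} (φ : a ⟶ b)
    [𝒳.p.IsHomLift f φ] (h : 𝒴.p.IsStronglyCartesian f (F.map φ)) :
    𝒳.p.IsStronglyCartesian f φ := by
  refine { toIsHomLift := inferInstance, universal_property' := ?_ }
  intro a' g φ' hφ'
  haveI := hφ'
  haveI : 𝒴.p.IsHomLift (g ≫ f) (F.map φ') := inferInstance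
  haveI := h
  obtain ⟨χ', ⟨hχ'l, hχ'⟩, huniq⟩ :=
    Functor.IsStronglyCartesian.universal_property 𝒴.p f (F.map φ) g (g ≫ f) rfl (F.map φ')
  refine ⟨F.toFunctor.preimage χ', ⟨?_, ?_⟩, ?_⟩
  · rw [← BasedFunctor.isHomLift_iff F]
    show 𝒴.p.IsHomLift g (F.toFunctor.map (F.toFunctor.preimage χ'))
    rw [F.toFunctor.map_preimage]
    exact hχ'l
  · apply F.toFunctor.map_injective
    rw [Functor.map_comp, F.toFunctor.map_preimage]
    exact hχ'
  · rintro χ ⟨hχl, hχ⟩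
    apply F.toFunctor.map_injective
    rw [F.toFunctor.map_preimage]
    haveI := hχl
    apply huniq
    refine ⟨inferInstance, ?_⟩
    show F.toFunctor.map χ ≫ F.toFunctor.map φ = F.toFunctor.map φ'
    rw [← Functor.map_comp, hχ]

lemma lift_id_congr {X : Type u₂} [Category.{v₂} X] (p : X ⥤ C) {a b : X} (χ : a ⟶ b) {T T' : C}
    (e : T = T') (h : p.IsHomLift (𝟙 T) χ) : p.IsHomLift (𝟙 T') χ := by
  subst e
  exact h

lemma iso_of_two_lifts {X : Type u₂} [Category.{v₂} X] (p : X ⥤ C) (hp : FibCat.IsFibGrpd p)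
    {V S : C} (f : V ⟶ S) {y y' x : X} (φ : y ⟶ x) (φ' : y' ⟶ x) (h : p.IsHomLift f φ)
    (h' : p.IsHomLift f φ') : ∃ e : y ≅ y', p.IsHomLift (𝟙 V) e.hom ∧ e.hom ≫ φ' = φ := by
  haveI := h
  haveI := h'
  haveI : p.IsStronglyCartesian f φ' := FibLift.sc_of_lift p hp f φ'
  have hu : f = 𝟙 V ≫ f := (Category.id_comp f).symm
  let χ := Functor.IsStronglyCartesian.map p f φ' hu φ
  haveI hχ : p.IsHomLift (𝟙 V) χ := inferInstance
  have hfac : χ ≫ φ' = φ := Functor.IsStronglyCartesian.fac p f φ' hu φ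
  haveI : IsIso χ := Groth.Agent.H13.FibGrpd.isIso_of_lift_id hp (S := V) χ
  exact ⟨asIso χ, hχ, hfac⟩

end gen

section main
variable {C : Type u} [Category.{v} C] (J : GrothendieckTopology C)
  {𝒳 : BasedCategory.{v, max u v} C} (Q : ObjectProperty 𝒳.obj)

/-- the full subcategory as a category over the base. -/
abbrev sub : BasedCategory.{v, max u v} C := BasedCategory.ofFunctor (Q.ι ⋙ 𝒳.p)

/-- inclusion of the full subcategory as a functor over `C`. -/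
def incl : sub Q ⥤ᵇ 𝒳 where
  toFunctor := Q.ι
  w := rfl

instance inclFull : (incl Q).toFunctor.Full := by
  show Q.ι.Full
  infer_instance

instance inclFaithful : (incl Q).toFunctor.Faithful := by
  show Q.ι.Faithful
  infer_instance

theorem fibGrpd (h𝒳 : FibCat.IsFibGrpd 𝒳.p)
    (h1 : ∀ ⦃y x : 𝒳.obj⦄ (φ : y ⟶ x), Q x →
      ∃ (y' : 𝒳.obj) (e : y ≅ y'), Q y' ∧ 𝒳.p.IsHomLift (𝟙 (𝒳.p.obj y)) e.hom) :
    FibCat.IsFibGrpd (sub Q).p := by
  refine ⟨?_, ?_⟩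
  · intro x V f₀
    obtain ⟨f, hff⟩ : ∃ f : V ⟶ 𝒳.p.obj x.obj, f = f₀ := ⟨f₀, rfl⟩
    subst hff
    obtain ⟨y₀, φ₀, hφ₀⟩ := h𝒳.exists_lift (x := x.obj) f
    obtain ⟨y', e, hy', he⟩ := h1 φ₀ x.property
    haveI := hφ₀
    haveI := he
    haveI hinv : 𝒳.p.IsHomLift (𝟙 (𝒳.p.obj y₀)) e.inv := inferInstance
    have hcomp : 𝒳.p.IsHomLift f (e.inv ≫ φ₀) :=
      IsHomLift.comp_lift_id_left' 𝒳.p (𝒳.p.obj y₀) e.inv f φ₀
    let y : Q.FullSubcategory := ⟨y', hy'⟩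
    let φ : y ⟶ x := ObjectProperty.homMk (e.inv ≫ φ₀)
    refine ⟨y, φ, ?_⟩
    exact (Groth.Agent.H13.isHomLift_comp_iff Q.ι 𝒳.p f φ).2 hcomp
  · intro y x φ
    haveI hsc : 𝒳.p.IsStronglyCartesian (𝒳.p.map φ.hom) φ.hom := h𝒳.isStronglyCartesian φ.hom
    exact sc_reflect (incl Q) ((sub Q).p.map φ) φ hsc

theorem stackFor (h𝒳 : FibCat.IsFibGrpd 𝒳.p) {U : C} (R : Sieve U) (hR : R ∈ J U)
    (hst : Stk.IsStackFor R 𝒳)
    (h1 : ∀ ⦃y x : 𝒳.obj⦄ (φ : y ⟶ x), Q x →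
      ∃ (y' : 𝒳.obj) (e : y ≅ y'), Q y' ∧ 𝒳.p.IsHomLift (𝟙 (𝒳.p.obj y)) e.hom)
    (h3 : ∀ ⦃U : C⦄ (R : Sieve U), R ∈ J U → ∀ (x : 𝒳.obj), 𝒳.p.obj x = U →
      (∀ ⦃V : C⦄ (f : V ⟶ U), R f → ∀ (y : 𝒳.obj) (φ : y ⟶ x), 𝒳.p.IsHomLift f φ →
        ∃ (y' : 𝒳.obj) (e : y ≅ y'), Q y' ∧ 𝒳.p.IsHomLift (𝟙 V) e.hom) →
      ∃ (x' : 𝒳.obj) (e : x ≅ x'), Q x' ∧ 𝒳.p.IsHomLift (𝟙 U) e.hom) :
    Stk.IsStackFor R (sub Q) := by
  haveI pf1 : (PostEquiv.post (FibCat.overCat U) (incl Q)).Full := PostFF.post_full _ (incl Q)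
  haveI pf2 : (PostEquiv.post (FibCat.overCat U) (incl Q)).Faithful :=
    PostFF.post_faithful _ (incl Q)
  haveI pf3 : (PostEquiv.post (Stk.sieveCat R) (incl Q)).Full := PostFF.post_full _ (incl Q)
  haveI pf4 : (PostEquiv.post (Stk.sieveCat R) (incl Q)).Faithful :=
    PostFF.post_faithful _ (incl Q)
  haveI hres : (Stk.restr (Stk.sieveIncl R) 𝒳).IsEquivalence := hst
  have sq := PostEquiv.sqIso (Stk.sieveIncl R) (incl Q)
  have hfu : (Stk.restr (Stk.sieveIncl R) (sub Q)).Full :=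
    Functor.Full.of_comp_faithful_iso sq.symm
  have hfa : (Stk.restr (Stk.sieveIncl R) (sub Q)).Faithful :=
    Functor.Faithful.of_comp_iso sq.symm
  have hes : (Stk.restr (Stk.sieveIncl R) (sub Q)).EssSurj := by
    refine ⟨fun H => ?_⟩
    let HI : Stk.sieveCat R ⥤ᵇ 𝒳 := BasedFunctor.comp H (incl Q)
    let G : FibCat.overCat U ⥤ᵇ 𝒳 := (Stk.restr (Stk.sieveIncl R) 𝒳).objPreimage HI
    let e : (Stk.restr (Stk.sieveIncl R) 𝒳).obj G ≅ HI :=
      (Stk.restr (Stk.sieveIncl R) 𝒳).objObjPreimageIso HI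
    let tU : Over U := Over.mk (𝟙 U)
    have hxU : 𝒳.p.obj (G.obj tU) = U := G.w_obj tU
    obtain ⟨x', e₀, hx', he₀⟩ := h3 R hR (G.obj tU) hxU (by
      intro V f hf y φ hφ
      let s : (Stk.sieveCat R).obj := ⟨Over.mk f, hf⟩
      let m : Over.mk f ⟶ tU := Over.homMk f (by simp [tU])
      have hm : 𝒳.p.IsHomLift f (G.map m) := RepDiag.over_map_lift G m
      obtain ⟨e₁, he₁, -⟩ := iso_of_two_lifts 𝒳.p h𝒳 f φ (G.map m) hφ hm
      let e₂ : G.obj (Over.mk f) ≅ (H.obj s).obj := PostEquiv.appIso e s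
      have he₂ : 𝒳.p.IsHomLift (𝟙 V) e₂.hom := e.hom.isHomLift' s
      refine ⟨(H.obj s).obj, e₁ ≪≫ e₂, (H.obj s).property, ?_⟩
      haveI := he₁
      haveI := he₂
      exact IsHomLift.comp_lift_id_right 𝒳.p (𝟙 V) e₁.hom e₂.hom)
    have hch : ∀ a : Over U, ∃ (y' : 𝒳.obj) (ε : G.obj a ≅ y'),
        Q y' ∧ 𝒳.p.IsHomLift (𝟙 (𝒳.p.obj (G.obj a))) ε.hom := by
      intro a
      let m : a ⟶ tU := Over.homMk a.hom (by simp [tU])
      exact h1 (G.map m ≫ e₀.hom) hx'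
    choose yy εε hQ hε using hch
    let xx : (FibCat.overCat U).obj → (sub Q).obj := fun a => ⟨yy a, hQ a⟩
    let χ : ∀ a, (incl Q).obj (xx a) ≅ G.obj a := fun a => (εε a).symm
    have hχ : ∀ a, 𝒳.p.IsHomLift (𝟙 ((FibCat.overCat U).p.obj a)) (χ a).hom := by
      intro a
      haveI := hε a
      have h0 : 𝒳.p.IsHomLift (𝟙 (𝒳.p.obj (G.obj a))) (εε a).inv := inferInstance
      exact lift_id_congr 𝒳.p _ (G.w_obj a) h0
    let G' : FibCat.overCat U ⥤ᵇ sub Q := FibLift.liftB (incl Q) G xx χ hχ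
    let lI : BasedFunctor.comp G' (incl Q) ≅ G := FibLift.liftIso (incl Q) G xx χ hχ
    refine ⟨G', ⟨?_⟩⟩
    exact (PostEquiv.post (Stk.sieveCat R) (incl Q)).preimageIso
      ((sq.app G').symm ≪≫ (Stk.restr (Stk.sieveIncl R) 𝒳).mapIso lI ≪≫ e)
  exact { faithful := hfa, full := hfu, essSurj := hes }

end main

end Groth.Agent.S12795aux

namespace Groth.Agent.S12795

/-- Let `𝒳` be a stack in groupoids over `C` for the topology `J` and `Q` a property of objects of `𝒳`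
such that (1) for every morphism `y ⟶ x` of `𝒳` whose target satisfies `Q`, `y` is isomorphic, by an
isomorphism lying over an identity, to an object satisfying `Q`, and (3) for every covering sieve
`R` on `U` and every object `x` over `U`: if every source of a morphism to `x` lying over an arrow
of `R` is isomorphic over an identity to an object satisfying `Q`, then so is `x`. Then the full
subcategory of `𝒳` on `Q`, with the restricted structure functor, is a stack in groupoids for `J`.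
(The published statement has a further condition (2), fullness of the subcategory, which is built
into the full subcategory here; and its word isomorphic is read as isomorphic by an isomorphism
lying over an identity; the published statement is for stacks that are not necessarily in groupoids,
this row treats stacks in groupoids.) -/
theorem result {C : Type u} [Category.{v} C] (J : GrothendieckTopology C) {𝒳 : BasedCategory.{v, max u v} C}
    (h𝒳 : Stk.IsStack J 𝒳) (Q : ObjectProperty 𝒳.obj)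
    (h1 : ∀ ⦃y x : 𝒳.obj⦄ (φ : y ⟶ x), Q x → ∃ (y' : 𝒳.obj) (e : y ≅ y'), Q y' ∧ 𝒳.p.IsHomLift (𝟙 (𝒳.p.obj y)) e.hom)
    (h3 : ∀ ⦃U : C⦄ (R : Sieve U), R ∈ J U → ∀ (x : 𝒳.obj), 𝒳.p.obj x = U →
      (∀ ⦃V : C⦄ (f : V ⟶ U), R f → ∀ (y : 𝒳.obj) (φ : y ⟶ x), 𝒳.p.IsHomLift f φ →
        ∃ (y' : 𝒳.obj) (e : y ≅ y'), Q y' ∧ 𝒳.p.IsHomLift (𝟙 V) e.hom) →
      ∃ (x' : 𝒳.obj) (e : x ≅ x'), Q x' ∧ 𝒳.p.IsHomLift (𝟙 U) e.hom) :
    Stk.IsStack J (BasedCategory.ofFunctor (Q.ι ⋙ 𝒳.p)) := by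
  refine ⟨Groth.Agent.S12795aux.fibGrpd Q h𝒳.1 h1, ?_⟩
  intro U R hR
  exact Groth.Agent.S12795aux.stackFor J Q h𝒳.1 R hR (h𝒳.2 R hR) h1 h3

end Groth.Agent.S12795
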