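import Groth.Statements.S12797
import Groth.Agent.S12796
import Groth.Agent.Lib.Helper22.PostEquiv

set_option autoImplicit false
open CategoryTheory
universe w v u
open Stk


set_option backward.isDefEq.respectTransparency false
set_option backward.isDefEq.respectTransparency.types false

namespace Groth.Agent.S12797aux

open CategoryTheory Opposite Stk FibCat

section
variable {C : Type u} [Category.{v} C]

/-- the slice over `U` as the category of elements of the representable presheaf. -/
def Φ (U : C) : FibCat.overCat U ⥤ᵇ Stk.ofPsh (yoneda.obj U) where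
  toFunctor :=
    { obj := fun a => ⟨a.left, a.hom⟩
      map := fun {a b} k => ⟨k.left, by
        show k.left ≫ b.hom = a.hom
        exact Over.w k⟩
      map_id := fun a => EltObj.hom_ext rfl
      map_comp := fun k l => EltObj.hom_ext rfl }
  w := rfl

instance faithfulΦ (U : C) : (Φ U).toFunctor.Faithful := by
  refine ⟨?_⟩
  intro a b k l h
  apply Over.OverMorphism.ext
  exact congrArg EltObj.Hom.hom h

instance fullΦ (U : C) : (Φ U).toFunctor.Full := by
  refine ⟨?_⟩
  intro a b m
  have hm : m.hom ≫ b.hom = a.hom := m.map_sec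
  refine ⟨Over.homMk m.hom hm, ?_⟩
  exact EltObj.hom_ext rfl

lemma isEquivOverΦ (U : C) : FibCat.IsEquivOver (Φ U) := by
  apply Groth.Agent.Helper22.FibLift.isEquivOver_of_ff
  intro η
  refine ⟨Over.mk η.sec, Iso.refl _, ?_⟩
  exact IsHomLift.id rfl

theorem main (J : GrothendieckTopology C) (U : C) :
    Stk.IsStack J (FibCat.overCat U) ↔ Presieve.IsSheaf J (yoneda.obj U) := by
  rw [← Groth.Agent.S12796.result J (yoneda.obj U)]
  have hΦ : FibCat.IsEquivOver (Φ U) := isEquivOverΦ U
  obtain ⟨G, ⟨e₁⟩, ⟨e₂⟩⟩ := isEquivOverΦ U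
  have hG : FibCat.IsEquivOver G := ⟨Φ U, ⟨e₂⟩, ⟨e₁⟩⟩
  exact ⟨Groth.Agent.Helper22.PostEquiv.isStack_of_equiv J (Φ U) hΦ,
    Groth.Agent.Helper22.PostEquiv.isStack_of_equiv J G hG⟩

end

end Groth.Agent.S12797aux

namespace Groth.Agent.S12797

/-- For an object `U` of `C`, the slice category `C/U` with its forgetful functor to `C` is a stack in
groupoids for the topology `J` if and only if the representable presheaf `h_U` is a sheaf for `J`. -/
theorem result {C : Type u} [Category.{v} C] (J : GrothendieckTopology C) (U : C) :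
    Stk.IsStack J (FibCat.overCat U) ↔ Presieve.IsSheaf J (yoneda.obj U) := by
  exact Groth.Agent.S12797aux.main J U

end Groth.Agent.S12797
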