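import Groth.Statements.S12798
import Groth.Agent.Lib.Helper22.StkLocal
import Groth.Agent.H13.FpFibGrpd

set_option autoImplicit false
open CategoryTheory
universe w v u
open Stk


namespace Groth.Agent.S12798aux

open Groth.Agent.Helper22.StkLocal

set_option backward.isDefEq.respectTransparency false
set_option backward.isDefEq.respectTransparency.types false

theorem faithful_aux {C : Type u} [Category.{v} C] (J : GrothendieckTopology C)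
    {𝒮₁ 𝒮₂ 𝒯₁ : BasedCategory.{v, max u v} C}
    (h₁ : Stk.IsStack J 𝒮₁) (h₃ : Stk.IsStack J 𝒯₁) (F : 𝒮₂ ⥤ᵇ 𝒮₁) (G : 𝒯₁ ⥤ᵇ 𝒮₁)
    (hF : ∀ y : 𝒮₁.obj, ∃ R ∈ J (𝒮₁.p.obj y), ∀ ⦃V : C⦄ (f : V ⟶ 𝒮₁.p.obj y), R f →
      ∃ (x : 𝒮₂.obj) (φ : F.obj x ⟶ y), 𝒮₁.p.IsHomLift f φ)
    (hG' : (FibCat.fpFst F G).toFunctor.Faithful)
    {T S : C} (f : T ⟶ S) {s s' : 𝒯₁.obj} (k k' : s ⟶ s')
    [hk : 𝒯₁.p.IsHomLift f k] [hk' : 𝒯₁.p.IsHomLift f k']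
    (hkk : G.map k = G.map k') : k = k' := by
  have hfg₁ : FibCat.IsFibGrpd 𝒮₁.p := h₁.1
  have hfg₃ : FibCat.IsFibGrpd 𝒯₁.p := h₃.1
  have hpre : Stk.IsPrestack J 𝒯₁ := isPrestack_of_isStack J h₃
  haveI hsk : 𝒯₁.p.IsStronglyCartesian f k :=
    Groth.Agent.Helper22.FibLift.sc_of_lift 𝒯₁.p hfg₃ f k
  have hf : f = 𝟙 T ≫ f := (Category.id_comp f).symm
  let χ : s ⟶ s := Functor.IsStronglyCartesian.map 𝒯₁.p f k hf k'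
  haveI hχl : 𝒯₁.p.IsHomLift (𝟙 T) χ := Functor.IsStronglyCartesian.map_isHomLift 𝒯₁.p f k hf k'
  have hχk : χ ≫ k = k' := Functor.IsStronglyCartesian.fac 𝒯₁.p f k hf k'
  have hsT : 𝒯₁.p.obj s = T := IsHomLift.domain_eq 𝒯₁.p f k
  have hGsT : 𝒮₁.p.obj (G.obj s) = T := (G.w_obj s).trans hsT
  suffices hχ1 : χ = 𝟙 s by rw [← hχk, hχ1, Category.id_comp]
  have hGχ : G.map χ = 𝟙 (G.obj s) := by
    haveI : 𝒮₁.p.IsHomLift f (G.map k) := inferInstance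
    haveI : 𝒮₁.p.IsStronglyCartesian f (G.map k) :=
      Groth.Agent.Helper22.FibLift.sc_of_lift 𝒮₁.p hfg₁ f (G.map k)
    haveI : 𝒮₁.p.IsHomLift (𝟙 T) (G.map χ) := inferInstance
    haveI : 𝒮₁.p.IsHomLift (𝟙 T) (𝟙 (G.obj s)) := IsHomLift.id hGsT
    apply Functor.IsStronglyCartesian.ext 𝒮₁.p f (G.map k) (𝟙 T)
    rw [Category.id_comp, ← G.toFunctor.map_comp, hχk, hkk]
  haveI hids : 𝒯₁.p.IsHomLift (𝟙 T) (𝟙 s) := IsHomLift.id hsT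
  obtain ⟨R, hR, hRF⟩ := hF_transport J F hF (G.obj s) hGsT
  apply eq_of_locally_eq J hpre hsT hsT χ (𝟙 s) R hR
  intro V f₁ hf₁ s₁ ψ hψ
  obtain ⟨x, φ, hφ⟩ := hRF f₁ hf₁
  haveI := hφ
  haveI := hψ
  obtain ⟨θ, hxV, hθV, hθl, hθ⟩ := exists_iso_of_lifts hfg₁ F G f₁ φ ψ
  haveI hscψ : 𝒯₁.p.IsStronglyCartesian f₁ ψ :=
    Groth.Agent.Helper22.FibLift.sc_of_lift 𝒯₁.p hfg₃ f₁ ψ
  have hf₁' : f₁ = 𝟙 V ≫ f₁ := (Category.id_comp f₁).symm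
  haveI hψχ : 𝒯₁.p.IsHomLift f₁ (ψ ≫ χ) := inferInstance
  let χ₁ : s₁ ⟶ s₁ := Functor.IsStronglyCartesian.map 𝒯₁.p f₁ ψ hf₁' (ψ ≫ χ)
  haveI hχ₁l : 𝒯₁.p.IsHomLift (𝟙 V) χ₁ :=
    Functor.IsStronglyCartesian.map_isHomLift 𝒯₁.p f₁ ψ hf₁' (ψ ≫ χ)
  have hχ₁ : χ₁ ≫ ψ = ψ ≫ χ := Functor.IsStronglyCartesian.fac 𝒯₁.p f₁ ψ hf₁' (ψ ≫ χ)
  have hs₁V : 𝒯₁.p.obj s₁ = V := IsHomLift.domain_eq 𝒯₁.p f₁ ψ
  have hGχ₁ : G.map χ₁ = 𝟙 (G.obj s₁) := by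
    haveI : 𝒮₁.p.IsHomLift f₁ (G.map ψ) := inferInstance
    haveI : 𝒮₁.p.IsStronglyCartesian f₁ (G.map ψ) :=
      Groth.Agent.Helper22.FibLift.sc_of_lift 𝒮₁.p hfg₁ f₁ (G.map ψ)
    haveI : 𝒮₁.p.IsHomLift (𝟙 V) (G.map χ₁) := inferInstance
    haveI : 𝒮₁.p.IsHomLift (𝟙 V) (𝟙 (G.obj s₁)) := IsHomLift.id ((G.w_obj s₁).trans hs₁V)
    apply Functor.IsStronglyCartesian.ext 𝒮₁.p f₁ (G.map ψ) (𝟙 V)
    rw [Category.id_comp, ← G.toFunctor.map_comp, hχ₁, G.toFunctor.map_comp, hGχ, Category.comp_id]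
  let X₀ : (FibCat.fp F G).obj := ⟨⟨x, s₁, θ⟩, hθl⟩
  have w : F.map (𝟙 x) ≫ θ.hom = θ.hom ≫ G.map χ₁ := by
    rw [hGχ₁, F.toFunctor.map_id, Category.id_comp, Category.comp_id]
  let e : X₀ ⟶ X₀ := ObjectProperty.homMk ⟨𝟙 x, χ₁, w⟩
  have he : e = 𝟙 X₀ := by
    haveI := hG'
    apply (FibCat.fpFst F G).toFunctor.map_injective
    rfl
  have hχ₁1 : χ₁ = 𝟙 s₁ := congrArg (fun z : X₀ ⟶ X₀ => z.hom.snd) he
  rw [← hχ₁, hχ₁1, Category.id_comp, Category.comp_id]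

end Groth.Agent.S12798aux

namespace Groth.Agent.S12798

/-- Let `𝒮₁`, `𝒮₂`, `𝒯₁` be stacks in groupoids over `C` for the topology `J`, and `F : 𝒮₂ ⟶ 𝒮₁`, `G :
𝒯₁ ⟶ 𝒮₁` functors over `C` such that every object of `𝒮₁` is locally in the essential image of `F`.
If the first projection `𝒮₂ ×_{𝒮₁} 𝒯₁ ⟶ 𝒮₂` of the 2-fibre product over `C` is faithful, then `G` is
faithful. (The published statement is for any 2-cartesian square of stacks in groupoids; this row is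
the case of the explicit 2-fibre product, to which the general case reduces because faithfulness is
invariant under equivalence.) -/
theorem result {C : Type u} [Category.{v} C] (J : GrothendieckTopology C) {𝒮₁ 𝒮₂ 𝒯₁ : BasedCategory.{v, max u v} C}
    (h₁ : Stk.IsStack J 𝒮₁) (h₂ : Stk.IsStack J 𝒮₂) (h₃ : Stk.IsStack J 𝒯₁) (F : 𝒮₂ ⥤ᵇ 𝒮₁) (G : 𝒯₁ ⥤ᵇ 𝒮₁)
    (hF : ∀ y : 𝒮₁.obj, ∃ R ∈ J (𝒮₁.p.obj y), ∀ ⦃V : C⦄ (f : V ⟶ 𝒮₁.p.obj y), R f →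
      ∃ (x : 𝒮₂.obj) (φ : F.obj x ⟶ y), 𝒮₁.p.IsHomLift f φ)
    (hG' : (FibCat.fpFst F G).toFunctor.Faithful) : G.toFunctor.Faithful := by
  constructor
  intro s s' k k' hkk
  exact Groth.Agent.S12798aux.faithful_aux J h₁ h₃ F G hF hG' (𝒯₁.p.map k) k k'
    (hk' := (BasedFunctor.isHomLift_iff G (𝒯₁.p.map k) k').1 (by
      have e : G.map k' = G.map k := hkk.symm
      rw [e]
      infer_instance)) hkk

end Groth.Agent.S12798
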