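import Groth.Statements.S12799
import Groth.Agent.Lib.Helper22.StkLocal
import Groth.Agent.H13.FpFibGrpd

set_option autoImplicit false
open CategoryTheory
universe w v u
open Stk


namespace Groth.Agent.S12799aux

open Groth.Agent.Helper22.StkLocal

set_option backward.isDefEq.respectTransparency false
set_option backward.isDefEq.respectTransparency.types false

theorem setoid_aux {C : Type u} [Category.{v} C] (J : GrothendieckTopology C)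
    {𝒮₁ 𝒮₂ 𝒯₁ : BasedCategory.{v, max u v} C}
    (h₁ : Stk.IsStack J 𝒮₁) (h₃ : Stk.IsStack J 𝒯₁) (F : 𝒮₂ ⥤ᵇ 𝒮₁) [F.toFunctor.Full]
    (hF : ∀ y : 𝒮₁.obj, ∃ R ∈ J (𝒮₁.p.obj y), ∀ ⦃V : C⦄ (f : V ⟶ 𝒮₁.p.obj y), R f →
      ∃ (x : 𝒮₂.obj) (φ : F.obj x ⟶ y), 𝒮₁.p.IsHomLift f φ)
    (G : 𝒯₁ ⥤ᵇ 𝒮₁) (h : FibCat.IsFibSetoid (FibCat.fp F G).p)
    {T : C} {t t' : 𝒯₁.obj} (ht : 𝒯₁.p.obj t = T) (ht' : 𝒯₁.p.obj t' = T) (a b : t ⟶ t')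
    [ha : 𝒯₁.p.IsHomLift (𝟙 T) a] [hb : 𝒯₁.p.IsHomLift (𝟙 T) b] : a = b := by
  have hfg₁ : FibCat.IsFibGrpd 𝒮₁.p := h₁.1
  have hfg₃ : FibCat.IsFibGrpd 𝒯₁.p := h₃.1
  have hpre : Stk.IsPrestack J 𝒯₁ := isPrestack_of_isStack J h₃
  have hGtT : 𝒮₁.p.obj (G.obj t) = T := (G.w_obj t).trans ht
  obtain ⟨R, hR, hRF⟩ := hF_transport J F hF (G.obj t) hGtT
  apply eq_of_locally_eq J hpre ht ht' a b R hR
  intro V f₁ hf₁ s₁ ψ hψ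
  obtain ⟨x, φ, hφ⟩ := hRF f₁ hf₁
  haveI := hφ
  haveI := hψ
  obtain ⟨θ, hxV, hθV, hθl, hθ⟩ := exists_iso_of_lifts hfg₁ F G f₁ φ ψ
  haveI := hθV
  obtain ⟨s₁', ψ', hψ'⟩ := Groth.Agent.H13.FibGrpd.exists_lift' hfg₃ ht' f₁
  haveI := hψ'
  haveI hscψ' : 𝒯₁.p.IsStronglyCartesian f₁ ψ' :=
    Groth.Agent.Helper22.FibLift.sc_of_lift 𝒯₁.p hfg₃ f₁ ψ'
  have hf₁' : f₁ = 𝟙 V ≫ f₁ := (Category.id_comp f₁).symm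
  haveI hψa : 𝒯₁.p.IsHomLift f₁ (ψ ≫ a) := inferInstance
  haveI hψb : 𝒯₁.p.IsHomLift f₁ (ψ ≫ b) := inferInstance
  let a₁ : s₁ ⟶ s₁' := Functor.IsStronglyCartesian.map 𝒯₁.p f₁ ψ' hf₁' (ψ ≫ a)
  let b₁ : s₁ ⟶ s₁' := Functor.IsStronglyCartesian.map 𝒯₁.p f₁ ψ' hf₁' (ψ ≫ b)
  haveI ha₁l : 𝒯₁.p.IsHomLift (𝟙 V) a₁ :=
    Functor.IsStronglyCartesian.map_isHomLift 𝒯₁.p f₁ ψ' hf₁' (ψ ≫ a)
  haveI hb₁l : 𝒯₁.p.IsHomLift (𝟙 V) b₁ :=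
    Functor.IsStronglyCartesian.map_isHomLift 𝒯₁.p f₁ ψ' hf₁' (ψ ≫ b)
  have ha₁ : a₁ ≫ ψ' = ψ ≫ a := Functor.IsStronglyCartesian.fac 𝒯₁.p f₁ ψ' hf₁' (ψ ≫ a)
  have hb₁ : b₁ ≫ ψ' = ψ ≫ b := Functor.IsStronglyCartesian.fac 𝒯₁.p f₁ ψ' hf₁' (ψ ≫ b)
  suffices hab : a₁ = b₁ by rw [← ha₁, ← hb₁, hab]
  haveI hGa₁l : 𝒮₁.p.IsHomLift (𝟙 V) (G.map a₁) := inferInstance
  haveI hGb₁l : 𝒮₁.p.IsHomLift (𝟙 V) (G.map b₁) := inferInstance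
  haveI hGa₁iso : IsIso (G.map a₁) :=
    Groth.Agent.H13.FibGrpd.isIso_of_lift_id hfg₁ (S := V) (G.map a₁)
  let θ' : F.obj x ≅ G.obj s₁' := θ ≪≫ asIso (G.map a₁)
  have hθ'l : 𝒮₁.p.IsHomLift (𝟙 (𝒮₂.p.obj x)) θ'.hom := by
    rw [hxV]
    show 𝒮₁.p.IsHomLift (𝟙 V) (θ.hom ≫ G.map a₁)
    infer_instance
  let X₀ : (FibCat.fp F G).obj := ⟨⟨x, s₁, θ⟩, hθl⟩
  let X₀' : (FibCat.fp F G).obj := ⟨⟨x, s₁', θ'⟩, hθ'l⟩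
  have w₁ : F.map (𝟙 x) ≫ θ'.hom = θ.hom ≫ G.map a₁ := by
    rw [F.toFunctor.map_id, Category.id_comp]
    rfl
  let c : x ⟶ x := F.toFunctor.preimage (θ.hom ≫ G.map b₁ ≫ inv (G.map a₁) ≫ θ.inv)
  have hFc : F.map c = θ.hom ≫ G.map b₁ ≫ inv (G.map a₁) ≫ θ.inv := F.toFunctor.map_preimage _
  have w₂ : F.map c ≫ θ'.hom = θ.hom ≫ G.map b₁ := by
    rw [hFc]
    show (θ.hom ≫ G.map b₁ ≫ inv (G.map a₁) ≫ θ.inv) ≫ (θ.hom ≫ G.map a₁) = θ.hom ≫ G.map b₁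
    simp
  let e₁ : X₀ ⟶ X₀' := ObjectProperty.homMk ⟨𝟙 x, a₁, w₁⟩
  let e₂ : X₀ ⟶ X₀' := ObjectProperty.homMk ⟨c, b₁, w₂⟩
  have hc : 𝒮₂.p.IsHomLift (𝟙 V) c := by
    rw [← BasedFunctor.isHomLift_iff F, hFc]
    haveI : 𝒮₁.p.IsHomLift (𝟙 V) (inv (G.map a₁)) := inferInstance
    haveI : 𝒮₁.p.IsHomLift (𝟙 V) θ.inv := inferInstance
    haveI : 𝒮₁.p.IsHomLift (𝟙 V) (inv (G.map a₁) ≫ θ.inv) := inferInstance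
    haveI : 𝒮₁.p.IsHomLift (𝟙 V) (G.map b₁ ≫ inv (G.map a₁) ≫ θ.inv) := inferInstance
    infer_instance
  haveI he₁ : (FibCat.fp F G).p.IsHomLift (𝟙 V) e₁ := by
    rw [Groth.Agent.H13.fp_isHomLift_iff F G e₁ (𝟙 V)]
    show 𝒮₂.p.IsHomLift (𝟙 V) (𝟙 x)
    exact IsHomLift.id hxV
  haveI he₂ : (FibCat.fp F G).p.IsHomLift (𝟙 V) e₂ := by
    rw [Groth.Agent.H13.fp_isHomLift_iff F G e₂ (𝟙 V)]
    exact hc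
  have he : e₁ = e₂ := Groth.Agent.H13.FibSetoid.hom_ext_of_lift h (𝟙 V) e₁ e₂
  exact congrArg (fun z : X₀ ⟶ X₀' => z.hom.snd) he

end Groth.Agent.S12799aux

namespace Groth.Agent.S12799

/-- Let `𝒮₁`, `𝒮₂`, `𝒯₁` be stacks in groupoids over `C` for the topology `J`, `F : 𝒮₂ ⟶ 𝒮₁` a functor
over `C` whose underlying functor is fully faithful and such that every object of `𝒮₁` is locally in
the essential image of `F`, and `G : 𝒯₁ ⟶ 𝒮₁` a functor over `C`. If the 2-fibre product `𝒮₂ ×_{𝒮₁}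
𝒯₁` over `C` is fibred in setoids, then `𝒯₁` is fibred in setoids, hence a stack in setoids. (The
published statement is for any 2-cartesian square of stacks in groupoids; this row is the case of
the explicit 2-fibre product, to which the general case reduces because being fibred in setoids is
invariant under equivalence over `C`.) -/
theorem result {C : Type u} [Category.{v} C] (J : GrothendieckTopology C) {𝒮₁ 𝒮₂ 𝒯₁ : BasedCategory.{v, max u v} C}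
    (h₁ : Stk.IsStack J 𝒮₁) (h₂ : Stk.IsStack J 𝒮₂) (h₃ : Stk.IsStack J 𝒯₁) (F : 𝒮₂ ⥤ᵇ 𝒮₁) [F.toFunctor.Full] [F.toFunctor.Faithful]
    (hF : ∀ y : 𝒮₁.obj, ∃ R ∈ J (𝒮₁.p.obj y), ∀ ⦃V : C⦄ (f : V ⟶ 𝒮₁.p.obj y), R f →
      ∃ (x : 𝒮₂.obj) (φ : F.obj x ⟶ y), 𝒮₁.p.IsHomLift f φ)
    (G : 𝒯₁ ⥤ᵇ 𝒮₁) (h : FibCat.IsFibSetoid (FibCat.fp F G).p) : FibCat.IsFibSetoid 𝒯₁.p := by
  refine ⟨h₃.1, ?_⟩
  intro T a b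
  constructor
  intro m m'
  apply Subtype.ext
  haveI := m.2
  haveI := m'.2
  exact Groth.Agent.S12799aux.setoid_aux J h₁ h₃ F hF G h a.2 b.2 m.1 m'.1

end Groth.Agent.S12799
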