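import Groth.Statements.S12800
import Groth.Agent.H13.FpFibGrpd

set_option autoImplicit false
open CategoryTheory
universe v u
open FibCat

namespace Groth.Agent.S12800

/-- For categories `𝒮`, `𝒯` fibred in groupoids over `C`, a category `ℛ` fibred in setoids over `C`, a
functor `f : 𝒯 ⟶ 𝒮` over `C` with faithful underlying functor and a functor `g : ℛ ⟶ 𝒮` over `C`,
the 2-fibre product `𝒯 ×_𝒮 ℛ` over `C` is fibred in setoids. (The published statement takes stacks
in groupoids over a site and concludes a stack in setoids; the stack property of the 2-fibre product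
is the separate result on 2-fibre products of stacks in groupoids, and the setoid property stated
here needs no topology.) -/
theorem result {C : Type u} [Category.{v} C] {𝒮 𝒯 ℛ : BasedCategory.{v, max u v} C}
    (h𝒮 : FibCat.IsFibGrpd 𝒮.p) (h𝒯 : FibCat.IsFibGrpd 𝒯.p) (hℛ : FibCat.IsFibSetoid ℛ.p) (f : 𝒯 ⥤ᵇ 𝒮) [f.toFunctor.Faithful] (g : ℛ ⥤ᵇ 𝒮) :
    FibCat.IsFibSetoid (FibCat.fp f g).p := by
  refine ⟨Groth.Agent.H13.fp_isFibGrpd f g h𝒯 hℛ.1 h𝒮, ?_⟩
  intro U a b
  constructor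
  intro m m'
  apply Subtype.ext
  haveI hm : (FibCat.fp f g).p.IsHomLift (𝟙 U) m.1 := m.2
  haveI hm' : (FibCat.fp f g).p.IsHomLift (𝟙 U) m'.1 := m'.2
  have hpm : (FibCat.fp f g).p.map m.1 = (FibCat.fp f g).p.map m'.1 :=
    (IsHomLift.fac' (FibCat.fp f g).p (𝟙 U) m.1).trans
      (IsHomLift.fac' (FibCat.fp f g).p (𝟙 U) m'.1).symm
  haveI l1 : ℛ.p.IsHomLift ((FibCat.fp f g).p.map m.1) m.1.hom.snd :=
    FibCat.fp_isHomLift_snd f g m.1
  haveI l2 : ℛ.p.IsHomLift ((FibCat.fp f g).p.map m.1) m'.1.hom.snd := by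
    rw [hpm]
    exact FibCat.fp_isHomLift_snd f g m'.1
  have hsnd : m.1.hom.snd = m'.1.hom.snd :=
    Groth.Agent.H13.FibSetoid.hom_ext_of_lift hℛ ((FibCat.fp f g).p.map m.1) _ _
  have hfst : m.1.hom.fst = m'.1.hom.fst := by
    apply f.toFunctor.map_injective
    have w1 := m.1.hom.w
    have w2 := m'.1.hom.w
    rw [← hsnd] at w2
    exact (cancel_mono b.1.obj.iso.hom).1 (w1.trans w2.symm)
  apply ObjectProperty.hom_ext
  exact CategoryTheory.Limits.CategoricalPullback.hom_ext hfst hsnd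

end Groth.Agent.S12800
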