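import Groth.Statements.S12806
import Groth.Agent.H13.FpFibGrpd
import Groth.Agent.Lib.Helper22.SelfOver

set_option autoImplicit false
open CategoryTheory
universe v u
open FibCat

namespace Groth.Agent.S12806

/-- Let `𝒮` be fibred in groupoids over `C`, `U` an object of `C` and `x, y : C/U ⟶ 𝒮` two functors over
`C` (objects over `U` in 2-Yoneda form), with `e` the 2-isomorphism identifying their composites
with the structure functor. Then the 2-fibre product over `C` of `(x, y) : C/U ⟶ 𝒮 ×_C 𝒮` with the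
diagonal `𝒮 ⟶ 𝒮 ×_C 𝒮` is fibred in setoids over `C/U` through its first projection. (The published
statement is for a fibred category with `x`, `y` the functors given by chosen pullbacks; this row is
the case of a category fibred in groupoids, where every functor over `C` out of `C/U` is of that
kind.) -/
theorem result {C : Type u} [Category.{v} C] {𝒮 : BasedCategory.{v, max u v} C} (h𝒮 : FibCat.IsFibGrpd 𝒮.p)
    (U : C) (x y : FibCat.overCat U ⥤ᵇ 𝒮)
    (e : BasedFunctor.comp x (FibCat.toSelf 𝒮) ≅ BasedFunctor.comp y (FibCat.toSelf 𝒮)) :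
    FibCat.IsFibSetoid (FibCat.fpFst (FibCat.fpLift x y e) (FibCat.diag (FibCat.toSelf 𝒮))).toFunctor := by
  have hself : FibCat.IsFibGrpd (FibCat.selfOver C).p := Groth.Agent.Helper22.SelfOver.isFibGrpd_self
  have hfp : FibCat.IsFibGrpd (FibCat.fp (FibCat.toSelf 𝒮) (FibCat.toSelf 𝒮)).p :=
    Groth.Agent.H13.fp_isFibGrpd _ _ h𝒮 h𝒮 hself
  refine ⟨Groth.Agent.H13.fpFst_isFibGrpd (FibCat.fpLift x y e)
    (FibCat.diag (FibCat.toSelf 𝒮)) h𝒮 hfp, ?_⟩
  intro a X Y
  constructor
  intro m m'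
  apply Subtype.ext
  haveI hm : (FibCat.fpFst (FibCat.fpLift x y e)
      (FibCat.diag (FibCat.toSelf 𝒮))).toFunctor.IsHomLift (𝟙 a) m.1 := m.2
  haveI hm' : (FibCat.fpFst (FibCat.fpLift x y e)
      (FibCat.diag (FibCat.toSelf 𝒮))).toFunctor.IsHomLift (𝟙 a) m'.1 := m'.2
  have hfst : m.1.hom.fst = m'.1.hom.fst :=
    (IsHomLift.fac' (FibCat.fpFst (FibCat.fpLift x y e)
      (FibCat.diag (FibCat.toSelf 𝒮))).toFunctor (𝟙 a) m.1).trans
    (IsHomLift.fac' (FibCat.fpFst (FibCat.fpLift x y e)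
      (FibCat.diag (FibCat.toSelf 𝒮))).toFunctor (𝟙 a) m'.1).symm
  have hsnd : m.1.hom.snd = m'.1.hom.snd := by
    have w1 := m.1.hom.w
    have w2 := m'.1.hom.w
    rw [← hfst] at w2
    have h3 : (FibCat.diag (FibCat.toSelf 𝒮)).map m.1.hom.snd =
        (FibCat.diag (FibCat.toSelf 𝒮)).map m'.1.hom.snd :=
      (cancel_epi X.1.obj.iso.hom).1 (w1.symm.trans w2)
    exact congrArg (fun t => t.hom.fst) h3
  apply ObjectProperty.hom_ext
  exact CategoryTheory.Limits.CategoricalPullback.hom_ext hfst hsnd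

end Groth.Agent.S12806
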