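import Groth.Statements.S12807
import Groth.Agent.Lib.Helper22.RepDiag

set_option autoImplicit false
open CategoryTheory CategoryTheory.Limits
universe v₃ u₃ v₂ u₂ v u
open FibCat

namespace Groth.Agent.S12807

/-- Let `u : C ⥤ D` be a functor and `𝒮` a category over `D` whose structure functor is a fibred
category. Then the 2-fibre product `C ×_D 𝒮` of `u` and the structure functor (triples `(U, y, u U ≅
p y)`), with its first projection, is a fibred category over `C`. (The published statement uses the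
strict fibre product, pairs with `u U = p y`; for `𝒮` fibred over `D` it is equivalent over `C` to
the 2-fibre product used here.) -/
theorem result {C : Type u} [Category.{v} C] {D : Type u₂} [Category.{v₂} D] (u : C ⥤ D)
    (𝒮 : BasedCategory.{v₃, u₃} D) [𝒮.p.IsFibered] :
    (CategoricalPullback.π₁ u 𝒮.p).IsFibered := by
  apply Functor.IsFibered.of_exists_isStronglyCartesian
  intro X R f
  let U : C := X.fst
  let y : 𝒮.obj := X.snd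
  let e : u.obj U ≅ 𝒮.p.obj y := X.iso
  let f₀ : R ⟶ U := f
  let f' : u.obj R ⟶ 𝒮.p.obj y := u.map f₀ ≫ e.hom
  obtain ⟨y', φ, hφ⟩ := CategoryTheory.IsPreFibered.exists_isCartesian 𝒮.p rfl f'
  haveI := hφ
  haveI hsc : 𝒮.p.IsStronglyCartesian f' φ := inferInstance
  have hy' : 𝒮.p.obj y' = u.obj R := IsHomLift.domain_eq 𝒮.p f' φ
  have hφmap : 𝒮.p.map φ = eqToHom hy' ≫ f' :=
    Groth.Agent.Helper22.RepDiag.map_eq_of_lift_dom 𝒮.p φ f' hy' inferInstance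
  let Y : CategoricalPullback u 𝒮.p := ⟨R, y', eqToIso hy'.symm⟩
  have wΦ : u.map f₀ ≫ e.hom = (eqToIso hy'.symm).hom ≫ 𝒮.p.map φ := by
    rw [hφmap]
    show f' = eqToHom hy'.symm ≫ eqToHom hy' ≫ f'
    rw [eqToHom_trans_assoc, eqToHom_refl, Category.id_comp]
  let Φ : Y ⟶ X := ⟨f₀, φ, wΦ⟩
  refine ⟨Y, Φ, ?_⟩
  haveI hΦl : (CategoricalPullback.π₁ u 𝒮.p).IsHomLift f Φ :=
    IsHomLift.map (CategoricalPullback.π₁ u 𝒮.p) Φ
  refine { universal_property' := ?_ }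
  intro Z g Ψ hΨ
  let W : C := Z.fst
  let z : 𝒮.obj := Z.snd
  let e'' : u.obj W ≅ 𝒮.p.obj z := Z.iso
  let g₀ : W ⟶ R := g
  have hΨfst : Ψ.fst = g₀ ≫ f₀ := by
    haveI := hΨ
    exact (IsHomLift.eq_of_isHomLift (CategoricalPullback.π₁ u 𝒮.p) (g ≫ f) Ψ).symm
  let g' : 𝒮.p.obj z ⟶ u.obj R := e''.inv ≫ u.map g₀
  have hΨsnd : 𝒮.p.map Ψ.snd = g' ≫ f' := by
    have hw : u.map Ψ.fst ≫ e.hom = e''.hom ≫ 𝒮.p.map Ψ.snd := Ψ.w
    rw [hΨfst, u.map_comp, Category.assoc] at hw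
    show 𝒮.p.map Ψ.snd = (e''.inv ≫ u.map g₀) ≫ u.map f₀ ≫ e.hom
    rw [Category.assoc, hw, Iso.inv_hom_id_assoc]
  haveI hΨl : 𝒮.p.IsHomLift (g' ≫ f') Ψ.snd := by
    rw [← hΨsnd]
    infer_instance
  obtain ⟨χ₂, ⟨hχ₂l, hχ₂⟩, hχ₂u⟩ :=
    Functor.IsStronglyCartesian.universal_property 𝒮.p f' φ g' (g' ≫ f') rfl Ψ.snd
  have hχ₂map : 𝒮.p.map χ₂ = g' ≫ eqToHom hy'.symm :=
    Groth.Agent.Helper22.RepDiag.map_eq_of_lift_cod 𝒮.p χ₂ g' hy' hχ₂l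
  have wχ : u.map g₀ ≫ (eqToIso hy'.symm).hom = e''.hom ≫ 𝒮.p.map χ₂ := by
    rw [hχ₂map]
    show u.map g₀ ≫ eqToHom hy'.symm = e''.hom ≫ (e''.inv ≫ u.map g₀) ≫ eqToHom hy'.symm
    rw [Category.assoc, Iso.hom_inv_id_assoc]
  let χ : Z ⟶ Y := ⟨g₀, χ₂, wχ⟩
  refine ⟨χ, ⟨IsHomLift.map (CategoricalPullback.π₁ u 𝒮.p) χ, ?_⟩, ?_⟩
  · apply CategoryTheory.Limits.CategoricalPullback.hom_ext
    · exact hΨfst.symm
    · exact hχ₂
  · rintro χ' ⟨hχ'l, hχ'⟩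
    haveI := hχ'l
    have h1 : χ'.fst = g₀ :=
      (@IsHomLift.eq_of_isHomLift _ _ _ _ (CategoricalPullback.π₁ u 𝒮.p) Z Y g χ' hχ'l).symm
    have h2 : χ'.snd ≫ φ = Ψ.snd := congrArg (fun m : Z ⟶ X => m.snd) hχ'
    have hw' : u.map χ'.fst ≫ (eqToIso hy'.symm).hom = e''.hom ≫ 𝒮.p.map χ'.snd := χ'.w
    have h3 : 𝒮.p.map χ'.snd = g' ≫ eqToHom hy'.symm := by
      rw [h1] at hw'
      show 𝒮.p.map χ'.snd = (e''.inv ≫ u.map g₀) ≫ eqToHom hy'.symm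
      rw [Category.assoc]
      show 𝒮.p.map χ'.snd = e''.inv ≫ u.map g₀ ≫ (eqToIso hy'.symm).hom
      rw [hw', Iso.inv_hom_id_assoc]
    haveI h4 : 𝒮.p.IsHomLift g' χ'.snd := by
      apply IsHomLift.of_fac' 𝒮.p g' χ'.snd rfl hy'
      rw [eqToHom_refl, Category.id_comp]
      exact h3
    have h5 : χ'.snd = χ₂ := hχ₂u χ'.snd ⟨h4, h2⟩
    apply CategoryTheory.Limits.CategoricalPullback.hom_ext
    · exact h1
    · exact h5

end Groth.Agent.S12807
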