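import Groth.Statements.S12810
import Groth.Agent.Lib.Helper22.PostEquiv

set_option autoImplicit false
open CategoryTheory
universe v u
open Stk

namespace Groth.Agent.S12810aux
open CategoryTheory FibCat

lemma setoid_of_equiv {C : Type u} [Category.{v} C] {𝒳 𝒴 : BasedCategory.{v, max u v} C}
    (F : 𝒳 ⥤ᵇ 𝒴) (hF : FibCat.IsEquivOver F) (h : FibCat.IsFibSetoid 𝒳.p) :
    FibCat.IsFibSetoid 𝒴.p := by
  obtain ⟨G, e₁, e₂⟩ := hF
  have hF' : FibCat.IsEquivOver F := ⟨G, e₁, e₂⟩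
  have hG' : FibCat.IsEquivOver G := ⟨F, e₂, e₁⟩
  haveI := Groth.Agent.Helper12.isEquivalence_of_isEquivOver G hG'
  haveI : G.toFunctor.Faithful := inferInstance
  refine ⟨Groth.Agent.Helper22.PostEquiv.isFibGrpd_of_equiv F hF' h.1, ?_⟩
  intro U a b
  constructor
  intro m m'
  apply Subtype.ext
  haveI hm : 𝒴.p.IsHomLift (𝟙 U) m.1 := m.2
  haveI hm' : 𝒴.p.IsHomLift (𝟙 U) m'.1 := m'.2
  haveI k1 : 𝒳.p.IsHomLift (𝟙 U) (G.map m.1) := inferInstance
  haveI k2 : 𝒳.p.IsHomLift (𝟙 U) (G.map m'.1) := inferInstance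
  apply G.toFunctor.map_injective
  exact Groth.Agent.H13.FibSetoid.hom_ext_of_lift h (𝟙 U) _ _

end Groth.Agent.S12810aux

namespace Groth.Agent.S12810

/-- If two categories over `C` are equivalent in the 2-category of categories over `C`, then one is a
stack in setoids for the topology `J` (a stack in groupoids fibred in setoids) if and only if the
other is. -/
theorem result {C : Type u} [Category.{v} C] (J : GrothendieckTopology C) {𝒳 𝒴 : BasedCategory.{v, max u v} C}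
    (F : 𝒳 ⥤ᵇ 𝒴) (hF : FibCat.IsEquivOver F) :
    (Stk.IsStack J 𝒳 ∧ FibCat.IsFibSetoid 𝒳.p) ↔ (Stk.IsStack J 𝒴 ∧ FibCat.IsFibSetoid 𝒴.p) := by
  obtain ⟨G, e₁, e₂⟩ := hF
  have hF' : FibCat.IsEquivOver F := ⟨G, e₁, e₂⟩
  have hG' : FibCat.IsEquivOver G := ⟨F, e₂, e₁⟩
  constructor
  · rintro ⟨h1, h2⟩
    exact ⟨Groth.Agent.Helper22.PostEquiv.isStack_of_equiv J F hF' h1,
      Groth.Agent.S12810aux.setoid_of_equiv F hF' h2⟩
  · rintro ⟨h1, h2⟩
    exact ⟨Groth.Agent.Helper22.PostEquiv.isStack_of_equiv J G hG' h1,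
      Groth.Agent.S12810aux.setoid_of_equiv G hG' h2⟩

end Groth.Agent.S12810
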