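import Groth.Statements.S12811
import Groth.Agent.H13.FpFibGrpd
import Groth.Agent.S12792

set_option autoImplicit false
open CategoryTheory
universe v u
open Stk

namespace Groth.Agent.S12811

/-- For stacks in setoids `𝒳`, `𝒴`, `𝒮` over `C` for the topology `J` (stacks in groupoids that are
fibred in setoids) and functors `F : 𝒳 ⟶ 𝒮`, `G : 𝒴 ⟶ 𝒮` over `C`, the 2-fibre product `𝒳 ×_𝒮 𝒴`
over `C` is again a stack in setoids for `J`. -/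
theorem result {C : Type u} [Category.{v} C] (J : GrothendieckTopology C) {𝒳 𝒴 𝒮 : BasedCategory.{v, max u v} C}
    (F : 𝒳 ⥤ᵇ 𝒮) (G : 𝒴 ⥤ᵇ 𝒮) (h𝒳 : Stk.IsStack J 𝒳 ∧ FibCat.IsFibSetoid 𝒳.p) (h𝒴 : Stk.IsStack J 𝒴 ∧ FibCat.IsFibSetoid 𝒴.p)
    (h𝒮 : Stk.IsStack J 𝒮 ∧ FibCat.IsFibSetoid 𝒮.p) :
    Stk.IsStack J (FibCat.fp F G) ∧ FibCat.IsFibSetoid (FibCat.fp F G).p := by
  obtain ⟨hX, hXs⟩ := h𝒳
  obtain ⟨hY, hYs⟩ := h𝒴
  obtain ⟨hS, hSs⟩ := h𝒮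
  have hSp : Stk.IsPrestack J 𝒮 := by
    refine ⟨hS.1, ?_⟩
    intro U R hR
    haveI : (Stk.resSieve R 𝒮).IsEquivalence := hS.2 R hR
    exact ⟨inferInstance, inferInstance⟩
  refine ⟨Groth.Agent.S12792.result J F G hX hY hSp, ?_⟩
  refine ⟨Groth.Agent.H13.fp_isFibGrpd F G hX.1 hY.1 hS.1, ?_⟩
  intro U a b
  constructor
  intro m m'
  apply Subtype.ext
  haveI hm : (FibCat.fp F G).p.IsHomLift (𝟙 U) m.1 := m.2
  haveI hm' : (FibCat.fp F G).p.IsHomLift (𝟙 U) m'.1 := m'.2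
  have hpm : (FibCat.fp F G).p.map m.1 = (FibCat.fp F G).p.map m'.1 :=
    (IsHomLift.fac' (FibCat.fp F G).p (𝟙 U) m.1).trans
      (IsHomLift.fac' (FibCat.fp F G).p (𝟙 U) m'.1).symm
  haveI k1 : 𝒳.p.IsHomLift ((FibCat.fp F G).p.map m.1) m.1.hom.fst := by
    show 𝒳.p.IsHomLift (𝒳.p.map m.1.hom.fst) m.1.hom.fst
    infer_instance
  haveI k2 : 𝒳.p.IsHomLift ((FibCat.fp F G).p.map m.1) m'.1.hom.fst := by
    rw [hpm]
    show 𝒳.p.IsHomLift (𝒳.p.map m'.1.hom.fst) m'.1.hom.fst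
    infer_instance
  have hfst : m.1.hom.fst = m'.1.hom.fst :=
    Groth.Agent.H13.FibSetoid.hom_ext_of_lift hXs ((FibCat.fp F G).p.map m.1) _ _
  haveI l1 : 𝒴.p.IsHomLift ((FibCat.fp F G).p.map m.1) m.1.hom.snd :=
    FibCat.fp_isHomLift_snd F G m.1
  haveI l2 : 𝒴.p.IsHomLift ((FibCat.fp F G).p.map m.1) m'.1.hom.snd := by
    rw [hpm]
    exact FibCat.fp_isHomLift_snd F G m'.1
  have hsnd : m.1.hom.snd = m'.1.hom.snd :=
    Groth.Agent.H13.FibSetoid.hom_ext_of_lift hYs ((FibCat.fp F G).p.map m.1) _ _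
  apply ObjectProperty.hom_ext
  exact CategoryTheory.Limits.CategoricalPullback.hom_ext hfst hsnd

end Groth.Agent.S12811
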