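import Groth.Statements.S12812
import Mathlib

set_option autoImplicit false
open CategoryTheory CategoryTheory.Limits
universe v₃ u₃ v₂ u₂ v u
open Stk

namespace Groth.Agent.S12812aux

set_option backward.isDefEq.respectTransparency false
set_option backward.isDefEq.respectTransparency.types false

open CategoryTheory CategoryTheory.Limits Stk

variable {C : Type u} [Category.{v} C] {D : Type u₂} [Category.{v₂} D] (u : C ⥤ D)
  (𝒮 : BasedCategory.{v₃, u₃} C)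

theorem isMult : (uppR u 𝒮).IsMultiplicative where
  id_mem a := by
    refine ⟨?_, ?_⟩
    · show 𝒮.p.IsStronglyCartesian (𝒮.p.map (𝟙 a.x)) (𝟙 a.x)
      infer_instance
    · show IsIso (𝟙 a.V)
      infer_instance
  comp_mem f g hf hg := by
    refine ⟨?_, ?_⟩
    · haveI := hf.1
      haveI := hg.1
      have h3 : 𝒮.p.IsStronglyCartesian (𝒮.p.map f.top ≫ 𝒮.p.map g.top) (f.top ≫ g.top) :=
        inferInstance
      show 𝒮.p.IsStronglyCartesian (𝒮.p.map (f.top ≫ g.top)) (f.top ≫ g.top)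
      rw [Functor.map_comp]
      exact h3
    · haveI := hf.2
      haveI := hg.2
      show IsIso (f.bot ≫ g.bot)
      infer_instance

theorem ore [𝒮.p.IsFibered] {X Y Y' : UppObj u 𝒮} (f : X ⟶ Y') (s : Y ⟶ Y')
    (hs : uppR u 𝒮 s) {P : C} (pr₁ : P ⟶ 𝒮.p.obj X.x) (pr₂ : P ⟶ 𝒮.p.obj Y.x)
    (hP : IsPullback pr₁ pr₂ (𝒮.p.map f.top) (𝒮.p.map s.top))
    (hPu : IsPullback (u.map pr₁) (u.map pr₂) (u.map (𝒮.p.map f.top))
      (u.map (𝒮.p.map s.top))) :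
    ∃ (X' : UppObj u 𝒮) (t : X' ⟶ X) (_ : uppR u 𝒮 t) (g : X' ⟶ Y), t ≫ f = g ≫ s := by
  obtain ⟨x', t₀, hcart⟩ := CategoryTheory.IsPreFibered.exists_isCartesian 𝒮.p
    (rfl : 𝒮.p.obj X.x = 𝒮.p.obj X.x) pr₁
  haveI := hcart
  have hdom : 𝒮.p.obj x' = P := IsHomLift.domain_eq 𝒮.p pr₁ t₀
  subst hdom
  have ht₀ : 𝒮.p.map t₀ = pr₁ := (IsHomLift.eq_of_isHomLift 𝒮.p pr₁ t₀).symm
  haveI hsc : 𝒮.p.IsStronglyCartesian pr₁ t₀ := inferInstance
  haveI hssc : 𝒮.p.IsStronglyCartesian (𝒮.p.map s.top) s.top := hs.1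
  haveI hsiso : IsIso s.bot := hs.2
  haveI hl : 𝒮.p.IsHomLift (pr₁ ≫ 𝒮.p.map f.top) (t₀ ≫ f.top) := inferInstance
  have hcomm : pr₁ ≫ 𝒮.p.map f.top = pr₂ ≫ 𝒮.p.map s.top := hP.w
  let g₀ : x' ⟶ Y.x :=
    Functor.IsStronglyCartesian.map 𝒮.p (𝒮.p.map s.top) s.top hcomm (t₀ ≫ f.top)
  haveI hg₀ : 𝒮.p.IsHomLift pr₂ g₀ :=
    Functor.IsStronglyCartesian.map_isHomLift 𝒮.p (𝒮.p.map s.top) s.top hcomm (t₀ ≫ f.top)
  have hg₀' : 𝒮.p.map g₀ = pr₂ := (IsHomLift.eq_of_isHomLift 𝒮.p pr₂ g₀).symm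
  have hfac : g₀ ≫ s.top = t₀ ≫ f.top :=
    Functor.IsStronglyCartesian.fac 𝒮.p (𝒮.p.map s.top) s.top hcomm (t₀ ≫ f.top)
  have hcomp : X.φ ≫ u.map (𝒮.p.map f.top) =
      (f.bot ≫ inv s.bot ≫ Y.φ) ≫ u.map (𝒮.p.map s.top) := by
    rw [f.w, Category.assoc, Category.assoc, s.w, IsIso.inv_hom_id_assoc]
  let ℓ : X.V ⟶ u.obj (𝒮.p.obj x') := hPu.lift X.φ (f.bot ≫ inv s.bot ≫ Y.φ) hcomp
  have hℓ₁ : ℓ ≫ u.map pr₁ = X.φ := hPu.lift_fst _ _ _
  have hℓ₂ : ℓ ≫ u.map pr₂ = f.bot ≫ inv s.bot ≫ Y.φ := hPu.lift_snd _ _ _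
  let X' : UppObj u 𝒮 := ⟨x', X.V, ℓ⟩
  let t : X' ⟶ X := ⟨t₀, 𝟙 X.V, by
    show ℓ ≫ u.map (𝒮.p.map t₀) = 𝟙 X.V ≫ X.φ
    rw [ht₀, hℓ₁, Category.id_comp]⟩
  let g : X' ⟶ Y := ⟨g₀, f.bot ≫ inv s.bot, by
    show ℓ ≫ u.map (𝒮.p.map g₀) = (f.bot ≫ inv s.bot) ≫ Y.φ
    rw [hg₀', hℓ₂, Category.assoc]⟩
  refine ⟨X', t, ⟨?_, ?_⟩, g, ?_⟩
  · show 𝒮.p.IsStronglyCartesian (𝒮.p.map t₀) t₀
    rw [ht₀]
    exact hsc
  · show IsIso (𝟙 X.V)
    infer_instance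
  · apply UppObj.hom_ext
    · show t₀ ≫ f.top = g₀ ≫ s.top
      exact hfac.symm
    · show 𝟙 X.V ≫ f.bot = (f.bot ≫ inv s.bot) ≫ s.bot
      rw [Category.id_comp, Category.assoc, IsIso.inv_hom_id, Category.comp_id]

theorem ext_aux [𝒮.p.IsFibered] {X Y Y' : UppObj u 𝒮} (f₁ f₂ : X ⟶ Y) (s : Y ⟶ Y')
    (hs : uppR u 𝒮 s) (h : f₁ ≫ s = f₂ ≫ s) {E : C} (e : E ⟶ 𝒮.p.obj X.x)
    (he : e ≫ 𝒮.p.map f₁.top = e ≫ 𝒮.p.map f₂.top)
    (hEu : ∀ {W : D} (k : W ⟶ u.obj (𝒮.p.obj X.x)),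
      k ≫ u.map (𝒮.p.map f₁.top) = k ≫ u.map (𝒮.p.map f₂.top) →
        ∃ l : W ⟶ u.obj E, l ≫ u.map e = k) :
    ∃ (X' : UppObj u 𝒮) (t : X' ⟶ X) (_ : uppR u 𝒮 t), t ≫ f₁ = t ≫ f₂ := by
  obtain ⟨x', t₀, hcart⟩ := CategoryTheory.IsPreFibered.exists_isCartesian 𝒮.p
    (rfl : 𝒮.p.obj X.x = 𝒮.p.obj X.x) e
  haveI := hcart
  have hdom : 𝒮.p.obj x' = E := IsHomLift.domain_eq 𝒮.p e t₀
  subst hdom
  have ht₀ : 𝒮.p.map t₀ = e := (IsHomLift.eq_of_isHomLift 𝒮.p e t₀).symm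
  haveI hsc : 𝒮.p.IsStronglyCartesian e t₀ := inferInstance
  haveI hssc : 𝒮.p.IsStronglyCartesian (𝒮.p.map s.top) s.top := hs.1
  haveI hsiso : IsIso s.bot := hs.2
  have htop : f₁.top ≫ s.top = f₂.top ≫ s.top := congrArg UppObj.Hom.top h
  have hbot : f₁.bot ≫ s.bot = f₂.bot ≫ s.bot := congrArg UppObj.Hom.bot h
  have hbot' : f₁.bot = f₂.bot := (cancel_mono s.bot).1 hbot
  haveI h1 : 𝒮.p.IsHomLift (e ≫ 𝒮.p.map f₁.top) (t₀ ≫ f₁.top) := inferInstance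
  haveI h2 : 𝒮.p.IsHomLift (e ≫ 𝒮.p.map f₁.top) (t₀ ≫ f₂.top) := by
    rw [he]
    infer_instance
  have hkey : t₀ ≫ f₁.top = t₀ ≫ f₂.top :=
    Functor.IsStronglyCartesian.ext 𝒮.p (𝒮.p.map s.top) s.top (e ≫ 𝒮.p.map f₁.top)
      (by rw [Category.assoc, Category.assoc, htop])
  have hk : X.φ ≫ u.map (𝒮.p.map f₁.top) = X.φ ≫ u.map (𝒮.p.map f₂.top) := by
    rw [f₁.w, f₂.w, hbot']
  obtain ⟨ℓ, hℓ⟩ := hEu X.φ hk
  let X' : UppObj u 𝒮 := ⟨x', X.V, ℓ⟩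
  let t : X' ⟶ X := ⟨t₀, 𝟙 X.V, by
    show ℓ ≫ u.map (𝒮.p.map t₀) = 𝟙 X.V ≫ X.φ
    rw [ht₀, hℓ, Category.id_comp]⟩
  refine ⟨X', t, ⟨?_, ?_⟩, ?_⟩
  · show 𝒮.p.IsStronglyCartesian (𝒮.p.map t₀) t₀
    rw [ht₀]
    exact hsc
  · show IsIso (𝟙 X.V)
    infer_instance
  · apply UppObj.hom_ext
    · exact hkey
    · show 𝟙 X.V ≫ f₁.bot = 𝟙 X.V ≫ f₂.bot
      rw [hbot']

theorem main [𝒮.p.IsFibered]
    (hC : ∀ (I : Type) [SmallCategory I] [FinCategory I], Nonempty I → HasLimitsOfShape I C)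
    (hu : ∀ (I : Type) [SmallCategory I] [FinCategory I], Nonempty I →
      PreservesLimitsOfShape I u) :
    (Stk.uppR u 𝒮).HasRightCalculusOfFractions := by
  haveI : HasLimitsOfShape WalkingCospan C := hC WalkingCospan ⟨WalkingCospan.one⟩
  haveI : PreservesLimitsOfShape WalkingCospan u := hu WalkingCospan ⟨WalkingCospan.one⟩
  haveI : HasLimitsOfShape WalkingParallelPair C :=
    hC WalkingParallelPair ⟨WalkingParallelPair.zero⟩
  haveI : PreservesLimitsOfShape WalkingParallelPair u :=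
    hu WalkingParallelPair ⟨WalkingParallelPair.zero⟩
  refine { toIsMultiplicative := isMult u 𝒮, exists_rightFraction := ?_, ext := ?_ }
  · intro X Y φ
    obtain ⟨X', t, ht, g, hfg⟩ := ore u 𝒮 φ.f φ.s φ.hs
      (pullback.fst (𝒮.p.map φ.f.top) (𝒮.p.map φ.s.top))
      (pullback.snd (𝒮.p.map φ.f.top) (𝒮.p.map φ.s.top))
      (IsPullback.of_hasPullback _ _) ((IsPullback.of_hasPullback _ _).map u)
    exact ⟨⟨t, ht, g⟩, hfg⟩
  · intro X Y Y' f₁ f₂ s hs h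
    refine ext_aux u 𝒮 f₁ f₂ s hs h (equalizer.ι (𝒮.p.map f₁.top) (𝒮.p.map f₂.top))
      (equalizer.condition _ _) ?_
    intro W k hk
    have hl := isLimitForkMapOfIsLimit u
      (equalizer.condition (𝒮.p.map f₁.top) (𝒮.p.map f₂.top)) (equalizerIsEqualizer _ _)
    exact ⟨(Fork.IsLimit.lift' hl k hk).1, (Fork.IsLimit.lift' hl k hk).2⟩

end Groth.Agent.S12812aux

namespace Groth.Agent.S12812

/-- Let `u : C ⥤ D` be a functor, where `C` has all nonempty finite limits and `u` preserves them, and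
let `𝒮` be a fibred category over `C`. In the category `u_pp 𝒮` over `D` — objects `(x, V, φ : V ⟶ u
(p x))`, morphisms the pairs `(x ⟶ x', V ⟶ V')` compatible with the structure morphisms — the class
`R` of morphisms whose component in `𝒮` is strongly cartesian and whose component in `D` is an
isomorphism is a right multiplicative system: it contains identities, is stable under composition,
and satisfies the two right Ore conditions. (The published statement takes the class with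
`D`-component an identity; the class used here consists of those morphisms composed with
isomorphisms of `u_pp 𝒮` and has the same localisation.) -/
theorem result {C : Type u} [Category.{v} C] {D : Type u₂} [Category.{v₂} D] (u : C ⥤ D)
    (𝒮 : BasedCategory.{v₃, u₃} C) [𝒮.p.IsFibered]
    (hC : ∀ (I : Type) [SmallCategory I] [FinCategory I], Nonempty I → HasLimitsOfShape I C)
    (hu : ∀ (I : Type) [SmallCategory I] [FinCategory I], Nonempty I → PreservesLimitsOfShape I u) :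
    (Stk.uppR u 𝒮).HasRightCalculusOfFractions := by
  exact Groth.Agent.S12812aux.main u 𝒮 hC hu

end Groth.Agent.S12812
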