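import Groth.Statements.S12813
import Mathlib
import Groth.Agent.S12812

set_option autoImplicit false
open CategoryTheory CategoryTheory.Limits
universe v₃ u₃ v₂ u₂ v u
open Stk

namespace Groth.Agent.S12813aux

set_option backward.isDefEq.respectTransparency false
set_option backward.isDefEq.respectTransparency.types false

open CategoryTheory CategoryTheory.Limits Stk

variable {C : Type u} [Category.{v} C] {D : Type u₂} [Category.{v₂} D] (u : C ⥤ D)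
  (𝒮 : BasedCategory.{v₃, u₃} C)

/-- the structure functor of the localised category. -/
noncomputable abbrev P : (uppR u 𝒮).Localization ⥤ D :=
  Localization.Construction.lift (UppObj.forget u 𝒮) (uppR_isInvertedBy u 𝒮)

theorem P_map {X Y : UppObj u 𝒮} (f : X ⟶ Y) :
    (P u 𝒮).map ((uppR u 𝒮).Q.map f) = f.bot := by
  have h := Functor.congr_hom
    (Localization.Construction.fac (UppObj.forget u 𝒮) (uppR_isInvertedBy u 𝒮)) f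
  simpa using h

/-- the source of the canonical lift. -/
abbrev liftObj (X : UppObj u 𝒮) {R : D} (f : R ⟶ X.V) : UppObj u 𝒮 := ⟨X.x, R, f ≫ X.φ⟩

/-- the canonical lift. -/
def liftHom (X : UppObj u 𝒮) {R : D} (f : R ⟶ X.V) : liftObj u 𝒮 X f ⟶ X :=
  ⟨𝟙 X.x, f, by
    show (f ≫ X.φ) ≫ u.map (𝒮.p.map (𝟙 X.x)) = f ≫ X.φ
    rw [CategoryTheory.Functor.map_id, CategoryTheory.Functor.map_id, Category.comp_id]⟩

theorem fraction_bot {Z Y : UppObj u 𝒮} (ρ : (uppR u 𝒮).RightFraction Z Y) :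
    ρ.s.bot ≫ (P u 𝒮).map (ρ.map (uppR u 𝒮).Q (Localization.inverts _ _)) = ρ.f.bot := by
  have h1 : (uppR u 𝒮).Q.map ρ.s ≫ ρ.map (uppR u 𝒮).Q (Localization.inverts _ _) =
      (uppR u 𝒮).Q.map ρ.f := ρ.map_s_comp_map _ _
  have h2 : (P u 𝒮).map ((uppR u 𝒮).Q.map ρ.s) ≫
      (P u 𝒮).map (ρ.map (uppR u 𝒮).Q (Localization.inverts _ _)) =
      (P u 𝒮).map ((uppR u 𝒮).Q.map ρ.f) := by
    rw [← Functor.map_comp, h1]
  rw [P_map, P_map] at h2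
  exact h2

theorem uniq [(uppR u 𝒮).HasRightCalculusOfFractions] (X : UppObj u 𝒮) {R : D} (f : R ⟶ X.V)
    (Z : UppObj u 𝒮)
    (χ₁ χ₂ : (uppR u 𝒮).Q.obj Z ⟶ (uppR u 𝒮).Q.obj (liftObj u 𝒮 X f))
    (hP : (P u 𝒮).map χ₁ = (P u 𝒮).map χ₂)
    (hm : χ₁ ≫ (uppR u 𝒮).Q.map (liftHom u 𝒮 X f) =
      χ₂ ≫ (uppR u 𝒮).Q.map (liftHom u 𝒮 X f)) : χ₁ = χ₂ := by
  obtain ⟨ρ₁, h₁⟩ := Localization.exists_rightFraction (uppR u 𝒮).Q (uppR u 𝒮) χ₁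
  obtain ⟨ρ₂, h₂⟩ := Localization.exists_rightFraction (uppR u 𝒮).Q (uppR u 𝒮) χ₂
  subst h₁
  subst h₂
  rw [MorphismProperty.RightFraction.map_eq_iff]
  let σ₁ : (uppR u 𝒮).RightFraction Z X := ⟨ρ₁.s, ρ₁.hs, ρ₁.f ≫ liftHom u 𝒮 X f⟩
  let σ₂ : (uppR u 𝒮).RightFraction Z X := ⟨ρ₂.s, ρ₂.hs, ρ₂.f ≫ liftHom u 𝒮 X f⟩
  have e₁ : σ₁.map (uppR u 𝒮).Q (Localization.inverts _ _) =
      ρ₁.map (uppR u 𝒮).Q (Localization.inverts _ _) ≫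
        (uppR u 𝒮).Q.map (liftHom u 𝒮 X f) := by
    haveI : IsIso ((uppR u 𝒮).Q.map ρ₁.s) := Localization.inverts _ (uppR u 𝒮) ρ₁.s ρ₁.hs
    show inv ((uppR u 𝒮).Q.map ρ₁.s) ≫ (uppR u 𝒮).Q.map (ρ₁.f ≫ liftHom u 𝒮 X f) =
      (inv ((uppR u 𝒮).Q.map ρ₁.s) ≫ (uppR u 𝒮).Q.map ρ₁.f) ≫ _
    rw [Functor.map_comp, Category.assoc]
  have e₂ : σ₂.map (uppR u 𝒮).Q (Localization.inverts _ _) =
      ρ₂.map (uppR u 𝒮).Q (Localization.inverts _ _) ≫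
        (uppR u 𝒮).Q.map (liftHom u 𝒮 X f) := by
    haveI : IsIso ((uppR u 𝒮).Q.map ρ₂.s) := Localization.inverts _ (uppR u 𝒮) ρ₂.s ρ₂.hs
    show inv ((uppR u 𝒮).Q.map ρ₂.s) ≫ (uppR u 𝒮).Q.map (ρ₂.f ≫ liftHom u 𝒮 X f) =
      (inv ((uppR u 𝒮).Q.map ρ₂.s) ≫ (uppR u 𝒮).Q.map ρ₂.f) ≫ _
    rw [Functor.map_comp, Category.assoc]
  have hσ : σ₁.map (uppR u 𝒮).Q (Localization.inverts _ _) =
      σ₂.map (uppR u 𝒮).Q (Localization.inverts _ _) := by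
    rw [e₁, e₂]
    exact hm
  obtain ⟨Z₃, t₁, t₂, hst, hft, ht⟩ :=
    (MorphismProperty.RightFraction.map_eq_iff (uppR u 𝒮).Q (uppR u 𝒮) σ₁ σ₂).1 hσ
  have hst' : t₁ ≫ ρ₁.s = t₂ ≫ ρ₂.s := hst
  have hft' : t₁ ≫ ρ₁.f ≫ liftHom u 𝒮 X f = t₂ ≫ ρ₂.f ≫ liftHom u 𝒮 X f := hft
  refine ⟨Z₃, t₁, t₂, hst', ?_, ht⟩
  apply UppObj.hom_ext
  · have h3 : t₁.top ≫ ρ₁.f.top ≫ 𝟙 X.x = t₂.top ≫ ρ₂.f.top ≫ 𝟙 X.x :=
      congrArg UppObj.Hom.top hft'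
    rw [Category.comp_id, Category.comp_id] at h3
    exact h3
  · have k₁ := fraction_bot u 𝒮 ρ₁
    have k₂ := fraction_bot u 𝒮 ρ₂
    have hsb : t₁.bot ≫ ρ₁.s.bot = t₂.bot ≫ ρ₂.s.bot := congrArg UppObj.Hom.bot hst'
    show t₁.bot ≫ ρ₁.f.bot = t₂.bot ≫ ρ₂.f.bot
    rw [← k₁, ← k₂, ← Category.assoc, ← Category.assoc, hsb, hP]

theorem sc_liftHom [(uppR u 𝒮).HasRightCalculusOfFractions] (X : UppObj u 𝒮) {R : D}
    (f : R ⟶ X.V) :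
    (P u 𝒮).IsStronglyCartesian f ((uppR u 𝒮).Q.map (liftHom u 𝒮 X f)) := by
  have hPm : (P u 𝒮).map ((uppR u 𝒮).Q.map (liftHom u 𝒮 X f)) = f := P_map u 𝒮 _
  have hlift : (P u 𝒮).IsHomLift f ((uppR u 𝒮).Q.map (liftHom u 𝒮 X f)) := by
    have h0 : (P u 𝒮).IsHomLift ((P u 𝒮).map ((uppR u 𝒮).Q.map (liftHom u 𝒮 X f)))
      ((uppR u 𝒮).Q.map (liftHom u 𝒮 X f)) := IsHomLift.map _ _
    rw [hPm] at h0
    exact h0
  refine { toIsHomLift := hlift, universal_property' := ?_ }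
  intro a' g φ' hφ'
  obtain ⟨Z, hZ⟩ := (Localization.Construction.objEquiv (uppR u 𝒮)).surjective a'
  have hZ' : (uppR u 𝒮).Q.obj Z = a' := hZ
  subst hZ'
  have hPφ' : g ≫ f = (P u 𝒮).map φ' :=
    @IsHomLift.eq_of_isHomLift _ _ _ _ (P u 𝒮) ((uppR u 𝒮).Q.obj Z) ((uppR u 𝒮).Q.obj X)
      (g ≫ f) φ' hφ'
  obtain ⟨ρ, hρ⟩ := Localization.exists_rightFraction (uppR u 𝒮).Q (uppR u 𝒮) φ'
  subst hρ
  haveI hsiso : IsIso ρ.s.bot := ρ.hs.2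
  haveI hLs : IsIso ((uppR u 𝒮).Q.map ρ.s) := Localization.inverts _ (uppR u 𝒮) ρ.s ρ.hs
  have hbot : ρ.s.bot ≫ g ≫ f = ρ.f.bot := by
    rw [hPφ']
    exact fraction_bot u 𝒮 ρ
  let k' : ρ.X' ⟶ liftObj u 𝒮 X f := ⟨ρ.f.top, ρ.s.bot ≫ g, by
    show ρ.X'.φ ≫ u.map (𝒮.p.map ρ.f.top) = (ρ.s.bot ≫ g) ≫ f ≫ X.φ
    rw [ρ.f.w, ← hbot]
    simp only [Category.assoc]⟩
  have hk'm : k' ≫ liftHom u 𝒮 X f = ρ.f := by
    apply UppObj.hom_ext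
    · show ρ.f.top ≫ 𝟙 X.x = ρ.f.top
      exact Category.comp_id _
    · show (ρ.s.bot ≫ g) ≫ f = ρ.f.bot
      rw [Category.assoc]
      exact hbot
  let χ : (uppR u 𝒮).Q.obj Z ⟶ (uppR u 𝒮).Q.obj (liftObj u 𝒮 X f) :=
    inv ((uppR u 𝒮).Q.map ρ.s) ≫ (uppR u 𝒮).Q.map k'
  have hPχ : (P u 𝒮).map χ = g := by
    have h1 : (P u 𝒮).map ((uppR u 𝒮).Q.map ρ.s) ≫ (P u 𝒮).map χ =
        (P u 𝒮).map ((uppR u 𝒮).Q.map k') := by
      rw [← Functor.map_comp]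
      congr 1
      exact IsIso.hom_inv_id_assoc _ _
    rw [P_map, P_map] at h1
    exact (cancel_epi ρ.s.bot).1 h1
  have hχlift : (P u 𝒮).IsHomLift g χ := by
    have h0 : (P u 𝒮).IsHomLift ((P u 𝒮).map χ) χ := IsHomLift.map _ _
    rw [hPχ] at h0
    exact h0
  have hχm : χ ≫ (uppR u 𝒮).Q.map (liftHom u 𝒮 X f) =
      ρ.map (uppR u 𝒮).Q (Localization.inverts _ _) := by
    show (inv ((uppR u 𝒮).Q.map ρ.s) ≫ (uppR u 𝒮).Q.map k') ≫ _ =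
      inv ((uppR u 𝒮).Q.map ρ.s) ≫ (uppR u 𝒮).Q.map ρ.f
    rw [Category.assoc, ← Functor.map_comp, hk'm]
  refine ⟨χ, ⟨hχlift, hχm⟩, ?_⟩
  rintro χ' ⟨hχ'lift, hχ'm⟩
  have hPχ' : g = (P u 𝒮).map χ' :=
    @IsHomLift.eq_of_isHomLift _ _ _ _ (P u 𝒮) ((uppR u 𝒮).Q.obj Z)
      ((uppR u 𝒮).Q.obj (liftObj u 𝒮 X f)) g χ' hχ'lift
  exact uniq u 𝒮 X f Z χ' χ (hPχ'.symm.trans hPχ.symm) (hχ'm.trans hχm.symm)

theorem main13 [(uppR u 𝒮).HasRightCalculusOfFractions] : (P u 𝒮).IsFibered := by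
  apply Functor.IsFibered.of_exists_isStronglyCartesian
  intro a R f
  obtain ⟨X, hX⟩ := (Localization.Construction.objEquiv (uppR u 𝒮)).surjective a
  have hX' : (uppR u 𝒮).Q.obj X = a := hX
  subst hX'
  exact ⟨_, _, sc_liftHom u 𝒮 X f⟩

theorem main14 (h𝒮 : FibCat.IsFibGrpd 𝒮.p) [(uppR u 𝒮).HasRightCalculusOfFractions] :
    FibCat.IsFibGrpd (P u 𝒮) where
  exists_lift := by
    intro a R f
    obtain ⟨X, hX⟩ := (Localization.Construction.objEquiv (uppR u 𝒮)).surjective a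
    have hX' : (uppR u 𝒮).Q.obj X = a := hX
    subst hX'
    have h := sc_liftHom u 𝒮 X f
    exact ⟨_, (uppR u 𝒮).Q.map (liftHom u 𝒮 X f), h.toIsHomLift⟩
  isStronglyCartesian := by
    intro y x φ
    obtain ⟨X, hX⟩ := (Localization.Construction.objEquiv (uppR u 𝒮)).surjective x
    have hX' : (uppR u 𝒮).Q.obj X = x := hX
    subst hX'
    obtain ⟨Y, hY⟩ := (Localization.Construction.objEquiv (uppR u 𝒮)).surjective y
    have hY' : (uppR u 𝒮).Q.obj Y = y := hY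
    subst hY'
    obtain ⟨ρ, hρ⟩ := Localization.exists_rightFraction (uppR u 𝒮).Q (uppR u 𝒮) φ
    subst hρ
    let k₁ : ρ.X' ⟶ liftObj u 𝒮 X ρ.f.bot := ⟨ρ.f.top, 𝟙 _, by
      show ρ.X'.φ ≫ u.map (𝒮.p.map ρ.f.top) = 𝟙 _ ≫ ρ.f.bot ≫ X.φ
      rw [Category.id_comp]
      exact ρ.f.w⟩
    have hk₁ : uppR u 𝒮 k₁ :=
      ⟨h𝒮.isStronglyCartesian ρ.f.top, (inferInstance : IsIso (𝟙 ρ.X'.V))⟩
    have hfac : k₁ ≫ liftHom u 𝒮 X ρ.f.bot = ρ.f := by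
      apply UppObj.hom_ext
      · exact Category.comp_id _
      · exact Category.id_comp _
    haveI i1 : IsIso ((uppR u 𝒮).Q.map ρ.s) := Localization.inverts _ (uppR u 𝒮) ρ.s ρ.hs
    haveI i2 : IsIso ((uppR u 𝒮).Q.map k₁) := Localization.inverts _ (uppR u 𝒮) k₁ hk₁
    let θ : (uppR u 𝒮).Q.obj Y ⟶ (uppR u 𝒮).Q.obj (liftObj u 𝒮 X ρ.f.bot) :=
      inv ((uppR u 𝒮).Q.map ρ.s) ≫ (uppR u 𝒮).Q.map k₁
    haveI i3 : IsIso θ := inferInstance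
    have hθ : ρ.map (uppR u 𝒮).Q (Localization.inverts _ _) =
        θ ≫ (uppR u 𝒮).Q.map (liftHom u 𝒮 X ρ.f.bot) := by
      show inv ((uppR u 𝒮).Q.map ρ.s) ≫ (uppR u 𝒮).Q.map ρ.f =
        (inv ((uppR u 𝒮).Q.map ρ.s) ≫ (uppR u 𝒮).Q.map k₁) ≫ _
      rw [Category.assoc, ← Functor.map_comp, hfac]
    rw [hθ]
    haveI h1 : (P u 𝒮).IsStronglyCartesian ((P u 𝒮).map θ) θ := inferInstance
    haveI h2 : (P u 𝒮).IsStronglyCartesian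
        ((P u 𝒮).map ((uppR u 𝒮).Q.map (liftHom u 𝒮 X ρ.f.bot)))
        ((uppR u 𝒮).Q.map (liftHom u 𝒮 X ρ.f.bot)) := by
      rw [P_map]
      exact sc_liftHom u 𝒮 X ρ.f.bot
    rw [Functor.map_comp]
    infer_instance

end Groth.Agent.S12813aux

namespace Groth.Agent.S12813

/-- Let `u : C ⥤ D` be a functor, where `C` has all nonempty finite limits and `u` preserves them, and
let `𝒮` be a fibred category over `C`. Then the localisation `u_p 𝒮 = R⁻¹ (u_pp 𝒮)` of the category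
`u_pp 𝒮` at the class `R` of morphisms with strongly cartesian `𝒮`-component and invertible
`D`-component, with the functor to `D` induced by `(x, V, φ) ↦ V`, is a fibred category over `D`.
(The published statement takes `R` with `D`-component an identity, which has the same localisation.) -/
theorem result {C : Type u} [Category.{v} C] {D : Type u₂} [Category.{v₂} D] (u : C ⥤ D)
    (𝒮 : BasedCategory.{v₃, u₃} C) [𝒮.p.IsFibered]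
    (hC : ∀ (I : Type) [SmallCategory I] [FinCategory I], Nonempty I → HasLimitsOfShape I C)
    (hu : ∀ (I : Type) [SmallCategory I] [FinCategory I], Nonempty I → PreservesLimitsOfShape I u) :
    (Stk.up u 𝒮).p.IsFibered := by
  haveI := Groth.Agent.S12812.result u 𝒮 hC hu
  exact Groth.Agent.S12813aux.main13 u 𝒮

end Groth.Agent.S12813
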