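import Groth.Statements.S12815
import Mathlib
import Groth.Agent.S6409
import Groth.Agent.H13.FibGrpd
import Groth.Agent.Lib.Helper22.FibLift

set_option autoImplicit false
open CategoryTheory
universe v u
open Stk

namespace Groth.Agent.S12815aux

set_option backward.isDefEq.respectTransparency false
set_option backward.isDefEq.respectTransparency.types false

open CategoryTheory FibCat Stk

variable {C : Type u} [Category.{v} C]

section LE
variable {𝒯 : BasedCategory.{v, max u v} C}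

/-- sieve-level version of "locally equal implies equal" for morphisms over an identity. -/
theorem eq_of_locally_eq' (hfg : FibCat.IsFibGrpd 𝒯.p) {T : C} (R : Sieve T)
    (hfaith : (Stk.resSieve R 𝒯).Faithful) {t t' : 𝒯.obj}
    (ht : 𝒯.p.obj t = T) (ht' : 𝒯.p.obj t' = T) (a b : t ⟶ t')
    [ha : 𝒯.p.IsHomLift (𝟙 T) a] [hb : 𝒯.p.IsHomLift (𝟙 T) b]
    (hloc : ∀ ⦃V : C⦄ (f : V ⟶ T), R f → ∀ (s : 𝒯.obj) (ψ : s ⟶ t), 𝒯.p.IsHomLift f ψ →
      ψ ≫ a = ψ ≫ b) : a = b := by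
  haveI : (FibCat.evalAtId 𝒯 T).IsEquivalence := Groth.Agent.S6409.result hfg T
  let E := FibCat.evalAtId 𝒯 T
  let X : 𝒯.p.Fiber T := ⟨t, ht⟩
  let X' : 𝒯.p.Fiber T := ⟨t', ht'⟩
  let P : FibCat.overCat T ⥤ᵇ 𝒯 := E.objPreimage X
  let P' : FibCat.overCat T ⥤ᵇ 𝒯 := E.objPreimage X'
  let τ : E.obj P ≅ X := E.objObjPreimageIso X
  let τ' : E.obj P' ≅ X' := E.objObjPreimageIso X'
  let A : X ⟶ X' := ⟨a, ha⟩
  let B : X ⟶ X' := ⟨b, hb⟩
  let α : P ⟶ P' := E.preimage (τ.hom ≫ A ≫ τ'.inv)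
  let β : P ⟶ P' := E.preimage (τ.hom ≫ B ≫ τ'.inv)
  have hEα : E.map α = τ.hom ≫ A ≫ τ'.inv := E.map_preimage _
  have hEβ : E.map β = τ.hom ≫ B ≫ τ'.inv := E.map_preimage _
  let τh : P.obj (Over.mk (𝟙 T)) ⟶ t := τ.hom.1
  let τi' : t' ⟶ P'.obj (Over.mk (𝟙 T)) := τ'.inv.1
  haveI hτh : 𝒯.p.IsHomLift (𝟙 T) τh := τ.hom.2
  have hα1 : α.toNatTrans.app (Over.mk (𝟙 T)) = τh ≫ a ≫ τi' := congrArg Subtype.val hEα
  have hβ1 : β.toNatTrans.app (Over.mk (𝟙 T)) = τh ≫ b ≫ τi' := congrArg Subtype.val hEβ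
  have hαβ : α = β := by
    apply (Stk.resSieve R 𝒯).map_injective
    apply BasedNatTrans.homCategory.ext
    ext c
    show α.toNatTrans.app c.obj = β.toNatTrans.app c.obj
    let o : Over T := c.obj
    let g : o.left ⟶ T := o.hom
    have ho : R g := c.property
    let m : o ⟶ Over.mk (𝟙 T) := Over.homMk o.hom (by simp)
    have nα : P.map m ≫ α.toNatTrans.app (Over.mk (𝟙 T)) = α.toNatTrans.app o ≫ P'.map m :=
      α.toNatTrans.naturality m
    have nβ : P.map m ≫ β.toNatTrans.app (Over.mk (𝟙 T)) = β.toNatTrans.app o ≫ P'.map m :=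
      β.toNatTrans.naturality m
    haveI h1 : 𝒯.p.IsHomLift g (P.map m) := by
      have h0 : 𝒯.p.IsHomLift ((FibCat.overCat T).p.map m) (P.map m) := inferInstance
      exact h0
    haveI h1' : 𝒯.p.IsHomLift g (P'.map m) := by
      have h0 : 𝒯.p.IsHomLift ((FibCat.overCat T).p.map m) (P'.map m) := inferInstance
      exact h0
    haveI h3 : 𝒯.p.IsHomLift g (P.map m ≫ τh) := inferInstance
    have hl : (P.map m ≫ τh) ≫ a = (P.map m ≫ τh) ≫ b :=
      hloc g ho (P.obj o) (P.map m ≫ τh) h3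
    have key : α.toNatTrans.app o ≫ P'.map m = β.toNatTrans.app o ≫ P'.map m := by
      rw [← nα, ← nβ, hα1, hβ1]
      have := congrArg (fun z => z ≫ τi') hl
      simpa only [Category.assoc] using this
    haveI hsc : 𝒯.p.IsStronglyCartesian g (P'.map m) :=
      Groth.Agent.Helper22.FibLift.sc_of_lift 𝒯.p hfg g (P'.map m)
    haveI hαl : 𝒯.p.IsHomLift (𝟙 o.left) (α.toNatTrans.app o) := BasedNatTrans.isHomLift α rfl
    haveI hβl : 𝒯.p.IsHomLift (𝟙 o.left) (β.toNatTrans.app o) := BasedNatTrans.isHomLift β rfl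
    exact Functor.IsStronglyCartesian.ext 𝒯.p g (P'.map m) (𝟙 o.left) key
  have h2 : τ.hom ≫ A ≫ τ'.inv = τ.hom ≫ B ≫ τ'.inv := by
    rw [← hEα, ← hEβ, hαβ]
  have h3 : A ≫ τ'.inv = B ≫ τ'.inv := (cancel_epi τ.hom).1 h2
  have h4 : A = B := (cancel_mono τ'.inv).1 h3
  exact congrArg Subtype.val h4

/-- the same for two morphisms lying over a common morphism of the base. -/
theorem eq_of_locally_eq_over (hfg : FibCat.IsFibGrpd 𝒯.p) {T : C} (R : Sieve T)
    (hfaith : (Stk.resSieve R 𝒯).Faithful) {t t' : 𝒯.obj} {T' : C} (g : T ⟶ T')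
    (a b : t ⟶ t') [ha : 𝒯.p.IsHomLift g a] [hb : 𝒯.p.IsHomLift g b]
    (hloc : ∀ ⦃V : C⦄ (f : V ⟶ T), R f → ∀ (s : 𝒯.obj) (ψ : s ⟶ t), 𝒯.p.IsHomLift f ψ →
      ψ ≫ a = ψ ≫ b) : a = b := by
  haveI hsc : 𝒯.p.IsStronglyCartesian g b :=
    Groth.Agent.Helper22.FibLift.sc_of_lift 𝒯.p hfg g b
  have hg : g = 𝟙 T ≫ g := (Category.id_comp g).symm
  let θ : t ⟶ t := Functor.IsStronglyCartesian.map 𝒯.p g b hg a
  haveI hθ : 𝒯.p.IsHomLift (𝟙 T) θ := Functor.IsStronglyCartesian.map_isHomLift 𝒯.p g b hg a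
  have hfac : θ ≫ b = a := Functor.IsStronglyCartesian.fac 𝒯.p g b hg a
  have ht : 𝒯.p.obj t = T := IsHomLift.domain_eq 𝒯.p g a
  haveI h1 : 𝒯.p.IsHomLift (𝟙 T) (𝟙 t) := IsHomLift.id ht
  have hθ1 : θ = 𝟙 t := by
    apply eq_of_locally_eq' hfg R hfaith ht ht θ (𝟙 t)
    intro V f hf s ψ hψ
    haveI := hψ
    haveI l1 : 𝒯.p.IsHomLift f (ψ ≫ θ) := inferInstance
    haveI l2 : 𝒯.p.IsHomLift f (ψ ≫ 𝟙 t) := inferInstance
    apply Functor.IsStronglyCartesian.ext 𝒯.p g b f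
    rw [Category.assoc, hfac, Category.assoc, Category.id_comp]
    exact hloc f hf s ψ hψ
  rw [← hfac, hθ1, Category.id_comp]

end LE

variable {𝒳 : BasedCategory.{v, max u v} C} {U : C}

/-- inclusion of sieves as a functor over `C`. -/
def jj {S R : Sieve U} (hSR : S ≤ R) : sieveCat S ⥤ᵇ sieveCat R where
  toFunctor :=
    { obj := fun s => ⟨s.obj, hSR _ s.property⟩
      map := fun f => ObjectProperty.homMk f.hom
      map_id := fun _ => rfl
      map_comp := fun _ _ => rfl }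
  w := rfl

/-- composition with `f ∈ R` as a functor `C/V ⟶ R` over `C`. -/
def Lr (R : Sieve U) {V : C} (f : V ⟶ U) (hf : R f) : FibCat.overCat V ⥤ᵇ sieveCat R where
  toFunctor :=
    { obj := fun b => ⟨(Over.map f).obj b, R.downward_closed hf b.hom⟩
      map := fun g => ObjectProperty.homMk ((Over.map f).map g)
      map_id := fun b => ObjectProperty.hom_ext _ ((Over.map f).map_id b)
      map_comp := fun g h => ObjectProperty.hom_ext _ ((Over.map f).map_comp g h) }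
  w := rfl

/-- composition with `f` as a functor `f^*S ⟶ S` over `C`. -/
def lsObj (S : Sieve U) {V : C} (f : V ⟶ U) : sieveCat (S.pullback f) ⥤ᵇ sieveCat S where
  toFunctor :=
    { obj := fun c => ⟨(Over.map f).obj c.obj, c.property⟩
      map := fun g => ObjectProperty.homMk ((Over.map f).map g.hom)
      map_id := fun c => ObjectProperty.hom_ext _ ((Over.map f).map_id c.obj)
      map_comp := fun g h => ObjectProperty.hom_ext _ ((Over.map f).map_comp g.hom h.hom) }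
  w := rfl

/-- the canonical isomorphism `L_r(𝟙) ⟶ r`. -/
def vr (R : Sieve U) (r : (sieveCat R).obj) :
    (Lr R r.obj.hom r.property).obj (Over.mk (𝟙 r.obj.left)) ⟶ r :=
  ObjectProperty.homMk (Over.homMk (𝟙 r.obj.left) rfl)

theorem Hvr_lift {R : Sieve U} (H : sieveCat R ⥤ᵇ 𝒳) (r : (sieveCat R).obj) :
    𝒳.p.IsHomLift (𝟙 r.obj.left) (H.map (vr R r)) := by
  have h0 : 𝒳.p.IsHomLift ((sieveCat R).p.map (vr R r)) (H.map (vr R r)) := inferInstance
  exact h0

theorem isIso_Hvr (h𝒳 : FibCat.IsFibGrpd 𝒳.p) {R : Sieve U} (H : sieveCat R ⥤ᵇ 𝒳)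
    (r : (sieveCat R).obj) : IsIso (H.map (vr R r)) := by
  haveI := Hvr_lift H r
  exact Groth.Agent.H13.FibGrpd.isIso_of_lift_id h𝒳 (S := r.obj.left) (H.map (vr R r))

section full
variable (h𝒳 : FibCat.IsFibGrpd 𝒳.p) {S R : Sieve U} (hSR : S ≤ R)
  (H H' : sieveCat R ⥤ᵇ 𝒳)
  (γ : BasedFunctor.comp (jj hSR) H ⟶ BasedFunctor.comp (jj hSR) H')
  (δ : ∀ r : (sieveCat R).obj, BasedFunctor.comp (Lr R r.obj.hom r.property) H ⟶
    BasedFunctor.comp (Lr R r.obj.hom r.property) H')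

/-- the component of the glued 2-morphism. -/
noncomputable def αc (r : (sieveCat R).obj) : H.obj r ⟶ H'.obj r :=
  haveI := isIso_Hvr h𝒳 H r
  inv (H.map (vr R r)) ≫ (δ r).toNatTrans.app (Over.mk (𝟙 r.obj.left)) ≫ H'.map (vr R r)

theorem αc_lift (r : (sieveCat R).obj) :
    𝒳.p.IsHomLift (𝟙 r.obj.left) (αc h𝒳 H H' δ r) := by
  haveI := isIso_Hvr h𝒳 H r
  haveI h1 : 𝒳.p.IsHomLift (𝟙 r.obj.left) (H.map (vr R r)) := Hvr_lift H r
  haveI h1' : 𝒳.p.IsHomLift (𝟙 r.obj.left) (H'.map (vr R r)) := Hvr_lift H' r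
  haveI h2 : 𝒳.p.IsHomLift (𝟙 r.obj.left) (inv (H.map (vr R r))) := inferInstance
  haveI h3 : 𝒳.p.IsHomLift (𝟙 r.obj.left)
      ((δ r).toNatTrans.app (Over.mk (𝟙 r.obj.left))) := BasedNatTrans.isHomLift (δ r) rfl
  show 𝒳.p.IsHomLift (𝟙 r.obj.left) (inv (H.map (vr R r)) ≫
    (δ r).toNatTrans.app (Over.mk (𝟙 r.obj.left)) ≫ H'.map (vr R r))
  infer_instance

variable (hδ : ∀ (r : (sieveCat R).obj) (c : (sieveCat (S.pullback r.obj.hom)).obj),
    (δ r).toNatTrans.app c.obj = γ.toNatTrans.app ((lsObj S r.obj.hom).obj c))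

include hδ in
theorem P_prop (r : (sieveCat R).obj) (t : (sieveCat S).obj) (l : (jj hSR).obj t ⟶ r) :
    H.map l ≫ αc h𝒳 H H' δ r = γ.toNatTrans.app t ≫ H'.map l := by
  haveI := isIso_Hvr h𝒳 H r
  show H.map l ≫ (inv (H.map (vr R r)) ≫ (δ r).toNatTrans.app (Over.mk (𝟙 r.obj.left)) ≫
    H'.map (vr R r)) = γ.toNatTrans.app t ≫ H'.map l
  let g : t.obj.left ⟶ r.obj.left := l.hom.left
  have hw : g ≫ r.obj.hom = t.obj.hom := Over.w l.hom
  have hc : (S.pullback r.obj.hom) g := by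
    show S (g ≫ r.obj.hom)
    rw [hw]
    exact t.property
  let c : (sieveCat (S.pullback r.obj.hom)).obj := ⟨Over.mk g, hc⟩
  let m : Over.mk g ⟶ Over.mk (𝟙 r.obj.left) := Over.homMk g (by simp)
  let t' : (sieveCat S).obj := (lsObj S r.obj.hom).obj c
  let e : t' ⟶ t := ObjectProperty.homMk (Over.homMk (𝟙 t.obj.left)
    ((Category.id_comp _).trans hw.symm))
  have hE : (jj hSR).map e ≫ l = (Lr R r.obj.hom r.property).map m ≫ vr R r := by
    apply ObjectProperty.hom_ext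
    apply Over.OverMorphism.ext
    show 𝟙 t.obj.left ≫ g = g ≫ 𝟙 r.obj.left
    rw [Category.id_comp, Category.comp_id]
  have hEH : H.map ((jj hSR).map e) ≫ H.map l =
      H.map ((Lr R r.obj.hom r.property).map m) ≫ H.map (vr R r) := by
    rw [← Functor.map_comp, ← Functor.map_comp, hE]
  have hEH' : H'.map ((jj hSR).map e) ≫ H'.map l =
      H'.map ((Lr R r.obj.hom r.property).map m) ≫ H'.map (vr R r) := by
    rw [← Functor.map_comp, ← Functor.map_comp, hE]
  have hδc : (δ r).toNatTrans.app (Over.mk g) = γ.toNatTrans.app t' := hδ r c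
  have nδ : H.map ((Lr R r.obj.hom r.property).map m) ≫
      (δ r).toNatTrans.app (Over.mk (𝟙 r.obj.left)) =
      (δ r).toNatTrans.app (Over.mk g) ≫ H'.map ((Lr R r.obj.hom r.property).map m) :=
    (δ r).toNatTrans.naturality m
  have nγ : H.map ((jj hSR).map e) ≫ γ.toNatTrans.app t =
      γ.toNatTrans.app t' ≫ H'.map ((jj hSR).map e) := γ.toNatTrans.naturality e
  haveI hiso : IsIso (H.map ((jj hSR).map e)) := by
    have h0 : 𝒳.p.IsHomLift ((sieveCat R).p.map ((jj hSR).map e)) (H.map ((jj hSR).map e)) :=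
      inferInstance
    have h1 : 𝒳.p.IsHomLift (𝟙 t.obj.left) (H.map ((jj hSR).map e)) := h0
    exact Groth.Agent.H13.FibGrpd.isIso_of_lift_id h𝒳 (S := t.obj.left) (H.map ((jj hSR).map e))
  have s1 : H.map ((jj hSR).map e) ≫ (H.map l ≫ (inv (H.map (vr R r)) ≫
      (δ r).toNatTrans.app (Over.mk (𝟙 r.obj.left)) ≫ H'.map (vr R r))) =
      H.map ((Lr R r.obj.hom r.property).map m) ≫
        ((δ r).toNatTrans.app (Over.mk (𝟙 r.obj.left)) ≫ H'.map (vr R r)) := by
    rw [← Category.assoc, hEH, Category.assoc, IsIso.hom_inv_id_assoc]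
  have s2 : H.map ((Lr R r.obj.hom r.property).map m) ≫
        ((δ r).toNatTrans.app (Over.mk (𝟙 r.obj.left)) ≫ H'.map (vr R r)) =
      γ.toNatTrans.app t' ≫ (H'.map ((Lr R r.obj.hom r.property).map m) ≫ H'.map (vr R r)) := by
    rw [← Category.assoc, nδ, hδc, Category.assoc]
  have s3 : γ.toNatTrans.app t' ≫
      (H'.map ((Lr R r.obj.hom r.property).map m) ≫ H'.map (vr R r)) =
      H.map ((jj hSR).map e) ≫ (γ.toNatTrans.app t ≫ H'.map l) := by
    rw [← hEH', ← Category.assoc, ← nγ, Category.assoc]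
  exact (cancel_epi (H.map ((jj hSR).map e))).1 (s1.trans (s2.trans s3))

include hδ in
theorem αc_naturality {r' r : (sieveCat R).obj} (m : r' ⟶ r)
    (hfaith : (Stk.resSieve (S.pullback r'.obj.hom) 𝒳).Faithful) :
    H.map m ≫ αc h𝒳 H H' δ r = αc h𝒳 H H' δ r' ≫ H'.map m := by
  let g' : r'.obj.left ⟶ r.obj.left := m.hom.left
  haveI hl1 : 𝒳.p.IsHomLift g' (H.map m) := by
    have h0 : 𝒳.p.IsHomLift ((sieveCat R).p.map m) (H.map m) := inferInstance
    exact h0
  haveI hl2 : 𝒳.p.IsHomLift g' (H'.map m) := by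
    have h0 : 𝒳.p.IsHomLift ((sieveCat R).p.map m) (H'.map m) := inferInstance
    exact h0
  haveI hl3 : 𝒳.p.IsHomLift (𝟙 r.obj.left) (αc h𝒳 H H' δ r) := αc_lift h𝒳 H H' δ r
  haveI hl4 : 𝒳.p.IsHomLift (𝟙 r'.obj.left) (αc h𝒳 H H' δ r') := αc_lift h𝒳 H H' δ r'
  haveI la : 𝒳.p.IsHomLift g' (H.map m ≫ αc h𝒳 H H' δ r) := inferInstance
  haveI lb : 𝒳.p.IsHomLift g' (αc h𝒳 H H' δ r' ≫ H'.map m) := inferInstance
  refine eq_of_locally_eq_over h𝒳 (S.pullback r'.obj.hom) hfaith g'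
    (H.map m ≫ αc h𝒳 H H' δ r) (αc h𝒳 H H' δ r' ≫ H'.map m) (fun W k hk s ψ hψ => ?_)
  let tk : (sieveCat S).obj := ⟨Over.mk (k ≫ r'.obj.hom), hk⟩
  let lk : (jj hSR).obj tk ⟶ r' := ObjectProperty.homMk (Over.homMk k rfl)
  haveI hlk : 𝒳.p.IsHomLift k (H.map lk) := by
    have h0 : 𝒳.p.IsHomLift ((sieveCat R).p.map lk) (H.map lk) := inferInstance
    exact h0
  haveI hsc : 𝒳.p.IsStronglyCartesian k (H.map lk) :=
    Groth.Agent.Helper22.FibLift.sc_of_lift 𝒳.p h𝒳 k (H.map lk)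
  haveI := hψ
  have hk' : k = 𝟙 W ≫ k := (Category.id_comp k).symm
  let ι : s ⟶ H.obj ((jj hSR).obj tk) :=
    Functor.IsStronglyCartesian.map 𝒳.p k (H.map lk) hk' ψ
  have hι : ι ≫ H.map lk = ψ := Functor.IsStronglyCartesian.fac 𝒳.p k (H.map lk) hk' ψ
  have P1 : H.map (lk ≫ m) ≫ αc h𝒳 H H' δ r = γ.toNatTrans.app tk ≫ H'.map (lk ≫ m) :=
    P_prop h𝒳 hSR H H' γ δ hδ r tk (lk ≫ m)
  have P2 : H.map lk ≫ αc h𝒳 H H' δ r' = γ.toNatTrans.app tk ≫ H'.map lk :=
    P_prop h𝒳 hSR H H' γ δ hδ r' tk lk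
  have e1 : H.map lk ≫ H.map m ≫ αc h𝒳 H H' δ r =
      γ.toNatTrans.app tk ≫ H'.map lk ≫ H'.map m := by
    rw [← Category.assoc, ← Functor.map_comp, P1, Functor.map_comp]
  have e2 : H.map lk ≫ αc h𝒳 H H' δ r' ≫ H'.map m =
      γ.toNatTrans.app tk ≫ H'.map lk ≫ H'.map m := by
    rw [← Category.assoc, P2, Category.assoc]
  rw [← hι, Category.assoc, Category.assoc, e1, e2]

end full

theorem full_restr (h𝒳 : FibCat.IsFibGrpd 𝒳.p) {S R : Sieve U} (hSR : S ≤ R)
    (hR : ∀ ⦃V : C⦄ (f : V ⟶ U), R f → Stk.IsPrestackFor (S.pullback f) 𝒳) :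
    (Stk.restr (jj hSR) 𝒳).Full := by
  constructor
  intro H H' γ
  have hδ : ∀ r : (sieveCat R).obj,
      ∃ δ : BasedFunctor.comp (Lr R r.obj.hom r.property) H ⟶
          BasedFunctor.comp (Lr R r.obj.hom r.property) H',
        ∀ c : (sieveCat (S.pullback r.obj.hom)).obj,
          δ.toNatTrans.app c.obj = γ.toNatTrans.app ((lsObj S r.obj.hom).obj c) := by
    intro r
    haveI : (Stk.resSieve (S.pullback r.obj.hom) 𝒳).Full := (hR r.obj.hom r.property).1
    let γ' : (Stk.resSieve (S.pullback r.obj.hom) 𝒳).obj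
        (BasedFunctor.comp (Lr R r.obj.hom r.property) H) ⟶
        (Stk.resSieve (S.pullback r.obj.hom) 𝒳).obj
          (BasedFunctor.comp (Lr R r.obj.hom r.property) H') :=
      BasedCategory.whiskerLeft (lsObj S r.obj.hom) γ
    refine ⟨(Stk.resSieve (S.pullback r.obj.hom) 𝒳).preimage γ', fun c => ?_⟩
    have h := (Stk.resSieve (S.pullback r.obj.hom) 𝒳).map_preimage γ'
    exact congrArg (fun z => z.toNatTrans.app c) h
  choose δ hδ using hδ
  refine ⟨{ toNatTrans :=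
      { app := αc h𝒳 H H' δ
        naturality := fun r' r m => αc_naturality h𝒳 hSR H H' γ δ hδ m
          (hR r'.obj.hom r'.property).2 }
            isHomLift' := fun r => αc_lift h𝒳 H H' δ r }, ?_⟩
  apply BasedNatTrans.homCategory.ext
  apply NatTrans.ext
  funext t
  have h := P_prop h𝒳 hSR H H' γ δ hδ ((jj hSR).obj t) t (𝟙 _)
  have e1 : H.map (𝟙 ((jj hSR).obj t)) = 𝟙 (H.obj ((jj hSR).obj t)) := H.toFunctor.map_id _
  have e2 : H'.map (𝟙 ((jj hSR).obj t)) = 𝟙 (H'.obj ((jj hSR).obj t)) := H'.toFunctor.map_id _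
  have h3 : 𝟙 (H.obj ((jj hSR).obj t)) ≫ αc h𝒳 H H' δ ((jj hSR).obj t) =
      γ.toNatTrans.app t ≫ 𝟙 (H'.obj ((jj hSR).obj t)) := by
    rw [← e1, ← e2]
    exact h
  exact (Category.id_comp _).symm.trans (h3.trans (Category.comp_id _))

theorem faithful_restr (h𝒳 : FibCat.IsFibGrpd 𝒳.p) {S R : Sieve U} (hSR : S ≤ R)
    (hR : ∀ ⦃V : C⦄ (f : V ⟶ U), R f → Stk.IsPrestackFor (S.pullback f) 𝒳) :
    (Stk.restr (jj hSR) 𝒳).Faithful := by
  constructor
  intro H H' α β h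
  apply BasedNatTrans.homCategory.ext
  apply NatTrans.ext
  funext r
  haveI hfaith : (Stk.resSieve (S.pullback r.obj.hom) 𝒳).Faithful :=
    (hR r.obj.hom r.property).2
  let A := BasedCategory.whiskerLeft (Lr R r.obj.hom r.property) α
  let B := BasedCategory.whiskerLeft (Lr R r.obj.hom r.property) β
  have hAB : A = B := by
    apply (Stk.resSieve (S.pullback r.obj.hom) 𝒳).map_injective
    apply BasedNatTrans.homCategory.ext
    apply NatTrans.ext
    funext c
    exact congrArg (fun z => z.toNatTrans.app ((lsObj S r.obj.hom).obj c)) h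
  have h1 : α.toNatTrans.app ((Lr R r.obj.hom r.property).obj (Over.mk (𝟙 r.obj.left))) =
      β.toNatTrans.app ((Lr R r.obj.hom r.property).obj (Over.mk (𝟙 r.obj.left))) :=
    congrArg (fun z => z.toNatTrans.app (Over.mk (𝟙 r.obj.left))) hAB
  haveI := isIso_Hvr h𝒳 H r
  have nα := α.toNatTrans.naturality (vr R r)
  have nβ := β.toNatTrans.naturality (vr R r)
  apply (cancel_epi (H.map (vr R r))).1
  rw [nα, nβ, h1]

theorem main (h𝒳 : FibCat.IsFibGrpd 𝒳.p) {S R : Sieve U} (hSR : S ≤ R)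
    (hS : Stk.IsStackFor S 𝒳)
    (hR : ∀ ⦃V : C⦄ (f : V ⟶ U), R f → Stk.IsPrestackFor (S.pullback f) 𝒳) :
    Stk.IsStackFor R 𝒳 := by
  haveI hSe : (Stk.resSieve S 𝒳).IsEquivalence := hS
  haveI hfull : (Stk.restr (jj hSR) 𝒳).Full := full_restr h𝒳 hSR hR
  haveI hfaith : (Stk.restr (jj hSR) 𝒳).Faithful := faithful_restr h𝒳 hSR hR
  haveI hess : (Stk.restr (jj hSR) 𝒳).EssSurj := by
    constructor
    intro Y
    exact ⟨(Stk.resSieve R 𝒳).obj ((Stk.resSieve S 𝒳).objPreimage Y),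
      ⟨(Stk.resSieve S 𝒳).objObjPreimageIso Y⟩⟩
  haveI hje : (Stk.restr (jj hSR) 𝒳).IsEquivalence :=
    { faithful := hfaith, full := hfull, essSurj := hess }
  haveI hcomp : (Stk.resSieve R 𝒳 ⋙ Stk.restr (jj hSR) 𝒳).IsEquivalence := hS
  exact Functor.isEquivalence_of_comp_right (Stk.resSieve R 𝒳) (Stk.restr (jj hSR) 𝒳)

end Groth.Agent.S12815aux

namespace Groth.Agent.S12815

/-- Let `𝒳` be fibred in groupoids over `C` and let `S ≤ R` be sieves on an object `U` (a family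
refining another with the same target). If the gluing functor for `S` is an equivalence (restriction
of functors `C/U ⟶ 𝒳` over `C` to `S`), and for every arrow `f : V ⟶ U` of `R` restriction of
functors `C/V ⟶ 𝒳` over `C` to the pulled-back sieve `f^*S` is fully faithful, then the gluing
functor for `R` is an equivalence. (The published statement is for two families of maps with chosen
pullbacks and asks full faithfulness only over the members `U_i` of the coarser family and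
faithfulness over the products `U_i ×_U U_{i'}`; this row asks full faithfulness over every arrow of
the sieve they generate, a stronger hypothesis, and needs no fibre products; the published statement
is for a fibred category, this row for a category fibred in groupoids, the setting in which the
sieve form of the descent condition is the stack condition.) -/
theorem result {C : Type u} [Category.{v} C] {𝒳 : BasedCategory.{v, max u v} C}
    (h𝒳 : FibCat.IsFibGrpd 𝒳.p) {U : C} {S R : Sieve U} (hSR : S ≤ R) (hS : Stk.IsStackFor S 𝒳)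
    (hR : ∀ ⦃V : C⦄ (f : V ⟶ U), R f → Stk.IsPrestackFor (S.pullback f) 𝒳) :
    Stk.IsStackFor R 𝒳 := by
  exact Groth.Agent.S12815aux.main h𝒳 hSR hS hR

end Groth.Agent.S12815
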