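import Groth.Statements.S12816
import Groth.Agent.Lib.Helper22.PostFF
import Groth.Agent.S11726

set_option autoImplicit false
open CategoryTheory
universe v u
open Stk

namespace Groth.Agent.S12816

/-- Let `𝒳`, `𝒴` be fibred in groupoids over `C` and `F : 𝒳 ⟶ 𝒴` a functor over `C`. Then the underlying
functor of `F` is fully faithful if and only if, for every object `U` of `C`, postcomposition with
`F` is a fully faithful functor from the category of functors `C/U ⟶ 𝒳` over `C` to that of functors
`C/U ⟶ 𝒴` over `C`; under the 2-Yoneda lemma the latter says that `F` induces bijections between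
morphisms of pullbacks `x|_V ⟶ y|_V` and `F(x)|_V ⟶ F(y)|_V` for all objects `x, y` over `U` and all
`V ⟶ U`, that is, isomorphisms of the presheaves of morphisms. (The published statement is for
stacks over a site, not necessarily in groupoids; the stack property plays no role and is not
assumed here, and this row treats categories fibred in groupoids.) -/
theorem result {C : Type u} [Category.{v} C] {𝒳 𝒴 : BasedCategory.{v, max u v} C}
    (h𝒳 : FibCat.IsFibGrpd 𝒳.p) (h𝒴 : FibCat.IsFibGrpd 𝒴.p) (F : 𝒳 ⟶ 𝒴) :
    (F.toFunctor.Full ∧ F.toFunctor.Faithful) ↔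
      ∀ U : C, (Bicategory.postcomp (FibCat.overCat U) F).Full ∧ (Bicategory.postcomp (FibCat.overCat U) F).Faithful := by
  constructor
  · rintro ⟨hfu, hfa⟩ U
    haveI := hfu
    haveI := hfa
    exact ⟨Groth.Agent.Helper22.PostFF.post_full (FibCat.overCat U) F,
      Groth.Agent.Helper22.PostFF.post_faithful (FibCat.overCat U) F⟩
  · intro hU
    haveI : 𝒳.p.IsFibered := Groth.Agent.H13.FibGrpd.isFibered h𝒳
    haveI : 𝒴.p.IsFibered := Groth.Agent.H13.FibGrpd.isFibered h𝒴
    have key : ∀ U, (FibCat.fiberFunctor F U).Full ∧ (FibCat.fiberFunctor F U).Faithful :=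
      fun U => by
        obtain ⟨a, b⟩ := hU U
        haveI : (Groth.Agent.Helper22.PostEquiv.post (FibCat.overCat U) F).Full := a
        haveI : (Groth.Agent.Helper22.PostEquiv.post (FibCat.overCat U) F).Faithful := b
        exact Groth.Agent.Helper22.PostFF.fiber_ff_of_post_ff h𝒳 h𝒴 F U
    exact Groth.Agent.S11726.result F
      (fun a b φ _ => Groth.Agent.Helper22.FibLift.sc_of_lift 𝒴.p h𝒴 (𝒳.p.map φ)
        (F.toFunctor.map φ))
      (fun U => FibCat.fiberFunctor F U) (fun U => rfl)
      (fun U => (key U).1) (fun U => (key U).2)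

end Groth.Agent.S12816
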