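import Groth.Statements.S12849
import Groth.Agent.H28.CompFactor

set_option autoImplicit false
open CategoryTheory AlgebraicGeometry
universe u
open AlgSt

namespace Groth.Agent.S12849

/-- Let `P` be a property of morphisms of algebraic spaces over `S` which is stable under base change,
fppf local on the base and local on the source in the smooth topology; let `x : 𝒳 ⟶ 𝒴` and `y : 𝒴 ⟶
𝒵` be 1-morphisms of algebraic stacks over `S` representable by algebraic spaces with `x` surjective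
and smooth. If `y ∘ x` has `P` then `y` has `P`. (Stability under base change is asked for every
pullback square of fppf sheaves whose four corners are algebraic spaces.) -/
theorem result {S : Scheme.{u}} {𝒳 𝒴 𝒵 : AlgSt.Cat S}
    (h𝒳 : AlgSt.IsAlgStack Scheme.fppfPrecoverage 𝒳) (h𝒴 : AlgSt.IsAlgStack Scheme.fppfPrecoverage 𝒴) (h𝒵 : AlgSt.IsAlgStack Scheme.fppfPrecoverage 𝒵)
    (P : MorphismProperty (AlgSp.Sp S))
    (hPb : ∀ ⦃X₁ Y₁ X₂ Y₂ : AlgSp.Sp S⦄, AlgSp.IsAlgSpace X₁ → AlgSp.IsAlgSpace Y₁ → AlgSp.IsAlgSpace X₂ →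
      AlgSp.IsAlgSpace Y₂ → ∀ (a : X₁ ⟶ Y₁) (b : Y₂ ⟶ Y₁) (a' : X₂ ⟶ Y₂) (b' : X₂ ⟶ X₁),
      IsPullback b' a' a b → P a → P a')
    (hP : AlgSp.IsLocalOnBase AlgSp.IsFppfCover P) (hP' : AlgSp.IsLocalOnSource AlgSp.IsSmCover P)
    (x : 𝒳 ⥤ᵇ 𝒴) (y : 𝒴 ⥤ᵇ 𝒵) (hy : AlgSt.RepByAlgSp1 y)
    (hx₁ : AlgSt.RepByAlgSpWith (AlgSp.LocP @Smooth) x) (hx₂ : AlgSt.RepByAlgSpWith AlgSp.IsSurjectiveMor x)
    (h : AlgSt.RepByAlgSpWith P (BasedFunctor.comp x y)) : AlgSt.RepByAlgSpWith P y := by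
  open Groth.Agent.H28.RepComp Groth.Agent.H25.AS in
  exact repByAlgSpWith_of_comp_cover h𝒳.isStack.1 h𝒴.isStack.1
    (AlgSp.LocP @Smooth ⊓ AlgSp.IsSurjectiveMor)
    (cancelIso_inf (goodP_locP etLoc_smooth).cancelIso goodP_surj.cancelIso)
    (descendsP_inf (goodP_locP etLoc_smooth).descends descendsP_surj)
    P (cancelIso_of_baseChange P hPb)
    (fun X Y Z hX hY hZ w b hw hwb =>
      (hP' (fun _ : PUnit.{u + 1} => X) (fun _ => w) hY (fun _ => hX)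
        ⟨fun _ => hw.1, fun pt => ⟨PUnit.unit, hw.2 pt⟩⟩ b hZ).2 (fun _ => hwb))
    x y hy (repByAlgSpWith_inf goodP_surj.cancelIso x hx₁ hx₂) h

end Groth.Agent.S12849
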