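import Groth.Statements.S12903
import Mathlib
import Groth.Agent.Lead.QCoh9
import Groth.Agent.Lib.Helper4.HartogsMod

set_option autoImplicit false
universe u
open CategoryTheory CategoryTheory.Limits AlgebraicGeometry Opposite
open Coherent

namespace Groth.Agent.S12903

/-- Let X be a scheme, j : U → X a quasi-compact open immersion with closed complement Z, F a
quasi-coherent O_X-module, V an affine open of X and I a finitely generated ideal of Γ(V, O_X)
cutting out Z ∩ V (a point of V lies outside U if and only if it lies in no basic open X_f with f ∈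
I). Then a section s of F over V belongs to the subsheaf Γ_Z(F) of sections supported in Z (the
kernel of F → j_*(F|_U)) if and only if I^n s = 0 for some n. -/
theorem result {U X : Scheme.{u}} (j : U ⟶ X) [IsOpenImmersion j] [QuasiCompact j]
    (F : X.Modules) (hF : Coh.IsQCoh F) (V : X.Opens) (hV : IsAffineOpen V)
    (I : Ideal (X.ringCatSheaf.obj.obj (op V))) (hI : I.FG)
    (hZ : ∀ x : X, x ∈ V → (x ∉ Set.range j.base ↔ ∀ f ∈ I, x ∉ X.basicOpen (f : Γ(X, V))))
    (s : F.val.obj (op V)) :
    s ∈ Set.range ((((CxOX.gammaZι j).app F).val.app (op V)).hom) ↔ ∃ n : ℕ, ∀ a ∈ I ^ n, a • s = 0 := by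
  classical
  have hF' : F.IsQuasicoherent := hF
  let φ := (Scheme.Modules.restrictAdjunction j).unit.app F
  have hWV : j ''ᵁ j ⁻¹ᵁ V ≤ V := j.image_preimage_le V
  have hA : s ∈ Set.range ((((CxOX.gammaZι j).app F).val.app (op V)).hom) ↔
      F.presheaf.map (homOfLE hWV).op s = 0 := by
    let S : ShortComplex X.Modules := ShortComplex.mk (kernel.ι φ) φ (kernel.condition φ)
    have hS : S.Exact := ShortComplex.exact_of_f_is_kernel _ (kernelIsKernel φ)
    have hmono : Mono S.f := by dsimp [S]; infer_instance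
    have h := hS.map_of_mono_of_preservesKernel
      (Groth.Agent.Lead.QCoh.sectionsFunctor X V) hmono inferInstance
    rw [ShortComplex.ab_exact_iff] at h
    constructor
    · rintro ⟨t, rfl⟩
      have := congrArg (fun ψ => Scheme.Modules.Hom.app ψ V t) (kernel.condition φ)
      exact this
    · intro h0
      obtain ⟨t, ht⟩ := h s h0
      exact ⟨t, ht⟩
  rw [hA]
  have hmemW : ∀ x : X, x ∈ j ''ᵁ j ⁻¹ᵁ V ↔ x ∈ V ∧ x ∈ Set.range j.base := by
    intro x
    rw [Scheme.Hom.image_preimage_eq_opensRange_inf]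
    constructor
    · rintro ⟨h1, h2⟩; exact ⟨h2, h1⟩
    · rintro ⟨h1, h2⟩; exact ⟨h2, h1⟩
  let s' : Γ(F, V) := s
  let I' : Ideal Γ(X, V) := I
  constructor
  · intro h0
    have hrad : I' ≤ (Ideal.torsionOf Γ(X, V) Γ(F, V) s').radical := by
      intro f hf
      have hDf : X.basicOpen f ≤ j ''ᵁ j ⁻¹ᵁ V := by
        intro x hx
        have hxV : x ∈ V := X.basicOpen_le f hx
        refine (hmemW x).mpr ⟨hxV, ?_⟩
        by_contra hnot
        exact ((hZ x hxV).mp hnot) f hf hx
      have h1 : F.presheaf.map (homOfLE (X.basicOpen_le f)).op s' = 0 := by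
        have : F.presheaf.map (homOfLE (X.basicOpen_le f)).op s' =
            F.presheaf.map (homOfLE hDf).op (F.presheaf.map (homOfLE hWV).op s') := by
          rw [← ConcreteCategory.comp_apply, ← Functor.map_comp]; rfl
        rw [this]
        exact (congrArg (F.presheaf.map (homOfLE hDf).op) h0).trans (map_zero _)
      obtain ⟨n, hn⟩ := Groth.Agent.Lead.QCoh.exists_pow_smul_eq_zero F hV f s' h1
      exact ⟨n, (Ideal.mem_torsionOf_iff _ _).mpr hn⟩
    obtain ⟨k, hk⟩ := Ideal.exists_pow_le_of_le_radical_of_fg hrad hI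
    refine ⟨k, fun a ha => ?_⟩
    exact (Ideal.mem_torsionOf_iff _ _).mp (hk ha)
  · rintro ⟨n, hn⟩
    apply Groth.Agent.Helper4.HartogsMod.sec_ext F (j ''ᵁ j ⁻¹ᵁ V) _ 0
    intro x hx
    rw [map_zero]
    obtain ⟨hxV, hxr⟩ := (hmemW x).mp hx
    have hex : ∃ f ∈ I, x ∈ X.basicOpen (f : Γ(X, V)) := by
      by_contra hcon
      push Not at hcon
      exact ((hZ x hxV).mpr hcon) hxr
    obtain ⟨f0, hfI, hxf⟩ := hex
    let f : Γ(X, V) := f0
    have hfn0 : f ^ n ∈ I' ^ n := Ideal.pow_mem_pow hfI n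
    have hfn : (f ^ n) • s' = 0 := hn _ hfn0
    have hg : F.presheaf.germ (j ''ᵁ j ⁻¹ᵁ V) x hx (F.presheaf.map (homOfLE hWV).op s) =
        F.presheaf.germ V x hxV s' :=
      TopCat.Presheaf.germ_res_apply F.presheaf (homOfLE hWV) x hx s
    rw [hg]
    have h2 := Groth.Agent.Lead.QCoh.germ_smul F V x hxV (f ^ n) s'
    rw [hfn, map_zero] at h2
    have hunit : IsUnit (X.presheaf.germ V x hxV (f ^ n)) := by
      rw [map_pow]
      exact ((X.mem_basicOpen f x hxV).mp hxf).pow n
    exact (hunit.smul_eq_zero).mp h2.symm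

end Groth.Agent.S12903
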