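import Groth.Statements.S12916
import Mathlib.RingTheory.Ideal.AssociatedPrime.Finiteness
import Mathlib.RingTheory.Ideal.AssociatedPrime.Localization
import Mathlib.RingTheory.HopkinsLevitzki
import Mathlib.RingTheory.Length
import Mathlib.GroupTheory.CosetCover
import Mathlib.Algebra.Module.Torsion.Basic
import Mathlib.RingTheory.MvPolynomial.Homogeneous
import Mathlib.RingTheory.Polynomial.Basic
import Mathlib.RingTheory.Ideal.MinimalPrime.Basic
import Mathlib.Tactic

set_option autoImplicit false
universe u
open CAlgX

namespace Groth.Agent.S12916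

theorem isFiniteLength_of_associatedPrimes_isMaximal {S : Type u} [CommRing S] [IsNoetherianRing S]
    {N : Type u} [AddCommGroup N] [Module S N] [Module.Finite S N]
    (h : ∀ p ∈ associatedPrimes S N, p.IsMaximal) : IsFiniteLength S N := by
  letI : Module (S ⧸ Module.annihilator S N) N := Module.quotientAnnihilator
  haveI : IsScalarTower S (S ⧸ Module.annihilator S N) N :=
    Module.IsTorsionBySet.isScalarTower (Module.isTorsionBySet_annihilator S N)
  haveI : Module.Finite (S ⧸ Module.annihilator S N) N :=
    Module.Finite.of_restrictScalars_finite S _ N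
  have hdim : Ring.KrullDimLE 0 (S ⧸ Module.annihilator S N) := by
    rw [Ring.krullDimLE_zero_iff]
    intro q' hq'
    have hq : (q'.comap (Ideal.Quotient.mk (Module.annihilator S N))).IsPrime := hq'.comap _
    have hle : Module.annihilator S N ≤ q'.comap (Ideal.Quotient.mk _) := by
      intro a ha
      rw [Ideal.mem_comap, Ideal.Quotient.eq_zero_iff_mem.mpr ha]
      exact q'.zero_mem
    obtain ⟨p, hp, hpq⟩ := Ideal.exists_minimalPrimes_le hle
    have hpmax : p.IsMaximal := h p (Module.associatedPrimes.minimalPrimes_annihilator_subset_associatedPrimes S N hp)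
    have heq : p = q'.comap (Ideal.Quotient.mk _) := hpmax.eq_of_le hq.ne_top hpq
    have hmap : Ideal.map (Ideal.Quotient.mk (Module.annihilator S N))
        (q'.comap (Ideal.Quotient.mk _)) = q' :=
      Ideal.map_comap_of_surjective _ Ideal.Quotient.mk_surjective q'
    rcases Ideal.map_eq_top_or_isMaximal_of_surjective
      (Ideal.Quotient.mk (Module.annihilator S N)) Ideal.Quotient.mk_surjective
      (heq ▸ hpmax) with h1 | h1
    · rw [hmap] at h1; exact absurd h1 hq'.ne_top
    · rwa [hmap] at h1
  have : IsArtinianRing (S ⧸ Module.annihilator S N) :=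
    isArtinianRing_iff_krullDimLE_zero.mpr hdim
  have hfl : IsFiniteLength (S ⧸ Module.annihilator S N) N := by
    rw [isFiniteLength_iff_isNoetherian_isArtinian]
    exact ⟨inferInstance, inferInstance⟩
  rw [← Module.length_ne_top_iff] at hfl ⊢
  rwa [Module.length_eq_of_surjective (S := S) (R := S ⧸ Module.annihilator S N)
    Ideal.Quotient.mk_surjective]

theorem mem_of_mem_associatedPrimes_torsionBy {S : Type u} [CommRing S] [IsNoetherianRing S]
    {M : Type u} [AddCommGroup M] [Module S M] (f : S) (p : Ideal S)
    (hp : p ∈ associatedPrimes S ↥(Submodule.torsionBy S M f)) :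
    f ∈ p ∧ p ∈ associatedPrimes S M := by
  refine ⟨?_, associatedPrimes.subset_of_injective
    (f := (Submodule.torsionBy S M f).subtype) (Submodule.subtype_injective _) hp⟩
  obtain ⟨_, x, rfl⟩ := isAssociatedPrime_iff.mp hp
  rw [Submodule.mem_colon_singleton, Submodule.mem_bot]
  exact Subtype.ext ((Submodule.mem_torsionBy_iff _ _).mp x.2)


/-- Let k be an infinite field, S = k[x_0, …, x_r], M a finitely generated S-module and d a natural
number. Then some nonzero homogeneous polynomial f of degree d is quasi-regular on M: the submodule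
(0 :_M f) of elements of M annihilated by f has finite length. (The published statement assumes M
graded; this row assumes only that M is finitely generated.) -/
theorem result (k : Type u) [Field k] [Infinite k] (r d : ℕ)
    (M : Type u) [AddCommGroup M] [Module (MvPolynomial (Fin (r + 1)) k) M] [Module.Finite (MvPolynomial (Fin (r + 1)) k) M] :
    ∃ f : MvPolynomial (Fin (r + 1)) k, f.IsHomogeneous d ∧ f ≠ 0 ∧
      IsFiniteLength (MvPolynomial (Fin (r + 1)) k) ↥(Submodule.torsionBy (MvPolynomial (Fin (r + 1)) k) M f) := by
  classical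
  have hfin : (associatedPrimes (MvPolynomial (Fin (r + 1)) k) M).Finite :=
    associatedPrimes.finite _ M
  set T : Set (Ideal (MvPolynomial (Fin (r + 1)) k)) :=
    {p | p ∈ associatedPrimes (MvPolynomial (Fin (r + 1)) k) M ∧ ¬ p.IsMaximal} with hT
  have hTfin : T.Finite := hfin.subset (fun p hp => hp.1)
  have : Finite ↥T := hTfin.to_subtype
  let V := MvPolynomial.homogeneousSubmodule (Fin (r + 1)) k d
  let W : Option ↥T → Subspace k ↥V := fun o => match o with
    | none => ⊥
    | some p => Submodule.comap V.subtype (p.1.restrictScalars k)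
  have hXd : ∀ i, (MvPolynomial.X i : MvPolynomial (Fin (r + 1)) k) ^ d ∈ V := by
    intro i
    have := (MvPolynomial.isHomogeneous_X k i).pow d
    rw [one_mul] at this
    exact (MvPolynomial.mem_homogeneousSubmodule _ _).mpr this
  have hW : ∀ o, W o ≠ ⊤ := by
    intro o
    cases o with
    | none =>
      intro h
      have h1 : (⟨_, hXd 0⟩ : ↥V) ∈ (⊥ : Subspace k ↥V) := by
        rw [show (⊥ : Subspace k ↥V) = ⊤ from h]; trivial
      have h2 : (MvPolynomial.X 0 : MvPolynomial (Fin (r + 1)) k) ^ d = 0 :=
        congrArg Subtype.val ((Submodule.mem_bot k).mp h1)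
      exact (pow_ne_zero d (MvPolynomial.X_ne_zero 0)) h2
    | some p =>
      intro htop
      obtain ⟨hpA, hpmax⟩ := p.2
      have hprime : p.1.IsPrime := IsAssociatedPrime.isPrime hpA
      have hX : ∀ i, (MvPolynomial.X i : MvPolynomial (Fin (r + 1)) k) ∈ p.1 := by
        intro i
        have h1 : (⟨_, hXd i⟩ : ↥V) ∈ W (some p) := by rw [htop]; trivial
        have h2 : (MvPolynomial.X i : MvPolynomial (Fin (r + 1)) k) ^ d ∈ p.1 := h1
        exact hprime.mem_of_pow_mem d h2
      apply hpmax
      have hker : RingHom.ker (MvPolynomial.eval (0 : Fin (r + 1) → k)) ≤ p.1 := by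
        intro g hg
        have hφ : (Ideal.Quotient.mk p.1) =
            (Ideal.Quotient.mk p.1).comp
              (MvPolynomial.C.comp (MvPolynomial.eval (0 : Fin (r + 1) → k))) := by
          apply MvPolynomial.ringHom_ext
          · intro a; simp
          · intro i
            simp only [RingHom.comp_apply, MvPolynomial.eval_X, Pi.zero_apply, map_zero]
            exact Ideal.Quotient.eq_zero_iff_mem.mpr (hX i)
        have h3 := RingHom.congr_fun hφ g
        rw [RingHom.comp_apply, RingHom.comp_apply, (RingHom.mem_ker).mp hg, map_zero,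
          map_zero] at h3
        exact Ideal.Quotient.eq_zero_iff_mem.mp h3
      have hkmax : (RingHom.ker (MvPolynomial.eval (0 : Fin (r + 1) → k))).IsMaximal :=
        RingHom.ker_isMaximal_of_surjective _
          (fun a => ⟨MvPolynomial.C a, MvPolynomial.eval_C _⟩)
      rw [← hkmax.eq_of_le hprime.ne_top hker]
      exact hkmax
  have hcov : ⋃ o, (W o : Set ↥V) ≠ Set.univ := fun h => by
    obtain ⟨o, ho⟩ := Subspace.exists_eq_top_of_iUnion_eq_univ h
    exact hW o ho
  obtain ⟨v, hv⟩ := (Set.ne_univ_iff_exists_notMem _).mp hcov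
  rw [Set.mem_iUnion, not_exists] at hv
  refine ⟨v.1, (MvPolynomial.mem_homogeneousSubmodule _ _).mp v.2, ?_, ?_⟩
  · intro h0
    exact hv none ((Submodule.mem_bot k).mpr (Subtype.ext h0))
  · apply isFiniteLength_of_associatedPrimes_isMaximal
    intro p hp
    obtain ⟨hfp, hpM⟩ := mem_of_mem_associatedPrimes_torsionBy v.1 p hp
    by_contra hmax
    exact hv (some ⟨p, hpM, hmax⟩) hfp

end Groth.Agent.S12916
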