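import Groth.Statements.S12923
import Groth.Agent.H27.HopfInt

set_option autoImplicit false
universe u v w
open HopfRep

namespace Groth.Agent.S12923

/-- Let `k` be a commutative ring, `A` a commutative Hopf algebra over `k`, flat as a `k`-module, `B` a
commutative `k`-algebra with a coaction of `A` that is an algebra map and admits a total integral (a
comodule map `α : A → B` with `α 1 = 1`), `C = B^A`, and `b` an ideal of `B` which is a subcomodule
(a closed subscheme of `Spec B` stable under the action). Then the image of `V(b)` under `Spec B →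
Spec C` is the closed set `V(b ∩ C)`. (The published statement assumes only that taking invariants
is exact on `(B, A)`-modules; a total integral, assumed here, gives that exactness.) -/
theorem result
    (k : Type u) [CommRing k] (A : Type v) [CommRing A] [HopfAlgebra k A] [Module.Flat k A]
    (B : Type w) [CommRing B] [Algebra k B] [HopfRep.Comod k A B] [GLin.IsCoactAlg k A B]
    (htame : ∃ α : A →ₗ[k] B, Hoch.IsComodHom A α ∧ α 1 = 1)
    (b : Ideal B) (hb : HopfRep.IsSubcomod (k := k) (A := A) (b.restrictScalars k)) :
    PrimeSpectrum.comap (algebraMap (GLin.invariants k A B) B) '' PrimeSpectrum.zeroLocus (b : Set B) =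
      PrimeSpectrum.zeroLocus ((b.comap (algebraMap (GLin.invariants k A B) B) : Ideal (GLin.invariants k A B)) : Set (GLin.invariants k A B)) := by
  obtain ⟨α, hα, hα1⟩ := htame
  have hH := Groth.Agent.H27.HopfInt.isHopfMod_self (k := k) (A := A) (B := B)
  ext p
  constructor
  · rintro ⟨q, hq, rfl⟩
    rw [PrimeSpectrum.mem_zeroLocus] at hq ⊢
    intro x hx
    exact hq (show algebraMap (GLin.invariants k A B) B x ∈ (b : Set B) from hx)
  · intro hp
    rw [PrimeSpectrum.mem_zeroLocus] at hp
    have hJ : (b ⊔ p.asIdeal.map (algebraMap (GLin.invariants k A B) B)).comap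
        (algebraMap (GLin.invariants k A B) B) ≤ p.asIdeal := by
      intro x hx
      obtain ⟨β, hβ, y, hy, e⟩ := Submodule.mem_sup.mp (Ideal.mem_comap.mp hx)
      have hRx : TameAct.reynolds k A B B α (algebraMap (GLin.invariants k A B) B x) =
          algebraMap (GLin.invariants k A B) B x :=
        Groth.Agent.H27.HopfInt.reynolds_of_mem_fixedPts α hα1 _ x.2
      have hRβ : TameAct.reynolds k A B B α β ∈ b :=
        Groth.Agent.H27.HopfInt.reynolds_mem_of_isSubcomod α b hb β hβ
      obtain ⟨z, hz, ez⟩ :=
        Groth.Agent.H27.HopfInt.exists_mem_eq_reynolds_mul α hα p.asIdeal y hy 1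
      rw [one_mul] at ez
      have hr : (⟨TameAct.reynolds k A B B α β,
          Groth.Agent.H27.HopfInt.reynolds_mem_fixedPts α hα β⟩ : GLin.invariants k A B) ∈
          p.asIdeal := hp (show _ ∈ b from hRβ)
      have hxe : (x : B) = TameAct.reynolds k A B B α β + (z : B) := by
        rw [ez, ← map_add, e]; exact hRx.symm
      have hx2 : x = (⟨TameAct.reynolds k A B B α β,
          Groth.Agent.H27.HopfInt.reynolds_mem_fixedPts α hα β⟩ : GLin.invariants k A B) + z :=
        Subtype.ext hxe
      rw [hx2]
      exact p.asIdeal.add_mem hr hz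
    obtain ⟨q, hq₁, hq₂, hq₃⟩ := Ideal.exists_le_prime_disjoint
      (b ⊔ p.asIdeal.map (algebraMap (GLin.invariants k A B) B))
      (p.asIdeal.primeCompl.map (algebraMap (GLin.invariants k A B) B))
      (Ideal.disjoint_map_primeCompl_iff_comap_le.mpr hJ)
    refine ⟨⟨q, hq₁⟩, ?_, ?_⟩
    · rw [PrimeSpectrum.mem_zeroLocus]
      exact fun x hx => hq₂ (Ideal.mem_sup_left hx)
    · apply PrimeSpectrum.ext
      apply le_antisymm
      · exact Ideal.disjoint_map_primeCompl_iff_comap_le.mp hq₃
      · exact Ideal.map_le_iff_le_comap.mp (le_sup_right.trans hq₂)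

end Groth.Agent.S12923
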