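import Groth.Statements.S12926
import Mathlib

set_option autoImplicit false
universe u v
open HopfRep

namespace Groth.Agent.S12926

/-- Let `k` be a commutative ring and `A` a commutative bialgebra over `k`, flat as a `k`-module. If the
submodule `k · 1` of the regular comodule `A` has a complement `H` which is a subcomodule — the case
used when `A` is cosemisimple, i.e. every subcomodule of every comodule is a direct summand as a
comodule — then the trivial action of `Spec A` on `Spec k` is tame: there is a comodule map `α : A →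
k`, for the regular coaction on `A` and the trivial coaction `r ↦ r ⊗ 1` on `k`, with `α 1 = 1`. -/
theorem result
    (k : Type u) [CommRing k] (A : Type v) [CommRing A] [Bialgebra k A] [Module.Flat k A]
    (H : Submodule k A) (hH : HopfRep.IsSubcomod (k := k) (A := A) H)
    (hc : IsCompl (Submodule.span k {(1 : A)}) H) :
    ∃ α : A →ₗ[k] k, @Hoch.IsComodHom k _ A _ _ _ A _ _ _ k _ _ (HopfRep.Comod.trivial k A k) α ∧ α 1 = 1 := by
  classical
  let S1 : Submodule k A := Submodule.span k {(1 : A)}
  have h1mem : (1 : A) ∈ S1 := Submodule.mem_span_singleton_self 1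
  let proj : A →ₗ[k] S1 := Submodule.linearProjOfIsCompl S1 H hc
  let α : A →ₗ[k] k := (Coalgebra.counit (R := k) (A := A)) ∘ₗ S1.subtype ∘ₗ proj
  have hα1 : α 1 = 1 := by
    have : proj 1 = ⟨1, h1mem⟩ := Submodule.linearProjOfIsCompl_apply_left hc ⟨1, h1mem⟩
    simp only [α, LinearMap.comp_apply, this, Submodule.subtype_apply, Bialgebra.counit_one]
  have hαH : ∀ h ∈ H, α h = 0 := by
    intro h hh
    have : proj h = 0 := Submodule.linearProjOfIsCompl_apply_right hc ⟨h, hh⟩
    simp only [α, LinearMap.comp_apply, this, map_zero]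
  have hαH' : α ∘ₗ H.subtype = 0 := by
    ext ⟨h, hh⟩
    exact hαH h hh
  refine ⟨α, ?_, hα1⟩
  unfold Hoch.IsComodHom
  ext a
  simp only [LinearMap.comp_apply]
  change (α a) ⊗ₜ[k] (1 : A) = (α.rTensor A) (Coalgebra.comul (R := k) a)
  have hsup : a ∈ S1 ⊔ H := by rw [hc.sup_eq_top]; exact Submodule.mem_top
  obtain ⟨p, hp, h, hh, rfl⟩ := Submodule.mem_sup.mp hsup
  obtain ⟨r, rfl⟩ := Submodule.mem_span_singleton.mp hp
  rw [map_add, map_add, map_add, TensorProduct.add_tmul]
  congr 1
  · rw [map_smul, map_smul, map_smul, hα1, Bialgebra.comul_one, Algebra.TensorProduct.one_def,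
      LinearMap.rTensor_tmul, hα1, TensorProduct.smul_tmul']
  · rw [hαH h hh, TensorProduct.zero_tmul]
    obtain ⟨z, hz⟩ := hH h hh
    change (H.subtype.rTensor A) z = Coalgebra.comul (R := k) h at hz
    rw [← hz, ← LinearMap.comp_apply, ← LinearMap.rTensor_comp, hαH', LinearMap.rTensor_zero,
      LinearMap.zero_apply]

end Groth.Agent.S12926
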