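import Groth.Statements.S12929
import Mathlib

set_option autoImplicit false
universe u v w w'
open HopfRep

namespace Groth.Agent.S12929

open TensorProduct

variable {k : Type u} [CommRing k] {A : Type v} [CommRing A] [HopfAlgebra k A]
  {M : Type w} [AddCommGroup M] [Module k M] [HopfRep.Comod k A M]
  {N : Type w'} [AddCommGroup N] [Module k N]

/-- naturality of `coactAux` in the module variable -/
lemma coactAux_natural (h : M →ₗ[k] N) :
    Hoch.Ind.coactAux k A N ∘ₗ h.rTensor A =
      ((h.rTensor A).rTensor A) ∘ₗ Hoch.Ind.coactAux k A M := by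
  refine TensorProduct.ext' fun m a => ?_
  simp only [LinearMap.comp_apply, LinearMap.rTensor_tmul, Hoch.Ind.coactAux_tmul]
  generalize Coalgebra.comul (R := k) a = z
  induction z using TensorProduct.induction_on with
  | zero => simp
  | tmul x y => simp
  | add x y hx hy => simp only [TensorProduct.tmul_add, map_add, hx, hy]

/-- the comodule coassociativity, rewritten -/
lemma coact_coact (m : M) :
    (HopfRep.Comod.coact (k := k) (A := A) (V := M)).rTensor A (HopfRep.Comod.coact (k := k) (A := A) m) =
      Hoch.Ind.coactAux k A M (HopfRep.Comod.coact (k := k) (A := A) m) := by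
  have h := LinearMap.congr_fun (HopfRep.Comod.coassoc (k := k) (A := A) (V := M)) m
  simp only [LinearMap.comp_apply, LinearEquiv.coe_coe] at h
  unfold Hoch.Ind.coactAux
  rw [LinearMap.comp_apply, ← h, LinearEquiv.coe_coe, LinearEquiv.symm_apply_apply]

/-- `(id ⊗ ε ⊗ id) ∘ (id ⊗ Δ) = id` on `N ⊗ A`. -/
lemma counit_rTensor_coactAux (x : N ⊗[k] A) :
    ((Hoch.Ind.counit k A N ∘ₗ (Hoch.Ind.equiv k A N).toLinearMap).rTensor A)
      (Hoch.Ind.coactAux k A N x) = x := by
  induction x using TensorProduct.induction_on with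
  | zero => simp
  | add x y hx hy => simp only [map_add, hx, hy]
  | tmul n a =>
    rw [Hoch.Ind.coactAux_tmul]
    have key : ∀ z : A ⊗[k] A,
        ((Hoch.Ind.counit k A N ∘ₗ (Hoch.Ind.equiv k A N).toLinearMap).rTensor A)
          ((TensorProduct.assoc k N A A).symm (n ⊗ₜ[k] z)) =
        n ⊗ₜ[k] (TensorProduct.lid k A ((Coalgebra.counit (R := k) (A := A)).rTensor A z)) := by
      intro z
      induction z using TensorProduct.induction_on with
      | zero => simp
      | add x y hx hy => simp only [TensorProduct.tmul_add, map_add, hx, hy]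
      | tmul x y =>
        simp only [TensorProduct.assoc_symm_tmul, LinearMap.rTensor_tmul, LinearMap.comp_apply,
          LinearEquiv.coe_coe, Hoch.Ind.counit_equiv_tmul, TensorProduct.lid_tmul,
          TensorProduct.smul_tmul]
    rw [key, Coalgebra.rTensor_counit_comul, TensorProduct.lid_tmul, one_smul]


/-- Let `k` be a commutative ring, `A` a commutative Hopf algebra over `k`, `M` a right `A`-comodule and
`N` a `k`-module; give `N ⊗ A` the coaction `id ⊗ Δ`. Then for every `k`-linear map `h : M → N` the
composite `(h ⊗ id_A) ∘ ρ_M : M → N ⊗ A` is a comodule map, and every comodule map `f : M → N ⊗ A`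
is of this form for exactly one `h` (which is `(id_N ⊗ ε) ∘ f`): comodule maps `M → N ⊗ A`
correspond bijectively to linear maps `M → N`. -/
theorem result
    (k : Type u) [CommRing k] (A : Type v) [CommRing A] [HopfAlgebra k A]
    (M : Type w) [AddCommGroup M] [Module k M] [HopfRep.Comod k A M]
    (N : Type w') [AddCommGroup N] [Module k N] :
    (∀ h : M →ₗ[k] N, Hoch.IsComodHom A
        ((Hoch.Ind.equiv k A N).toLinearMap ∘ₗ h.rTensor A ∘ₗ HopfRep.Comod.coact (k := k) (A := A))) ∧
      ∀ f : M →ₗ[k] Hoch.Ind k A N, Hoch.IsComodHom A f →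
        ∃! h : M →ₗ[k] N,
          f = (Hoch.Ind.equiv k A N).toLinearMap ∘ₗ h.rTensor A ∘ₗ HopfRep.Comod.coact (k := k) (A := A) := by
  constructor
  · intro h
    unfold Hoch.IsComodHom
    ext m
    simp only [LinearMap.comp_apply]
    rw [Hoch.Ind.coact_eq]
    change Hoch.Ind.coactAux k A N ((h.rTensor A) (HopfRep.Comod.coact (k := k) (A := A) m)) =
      ((h.rTensor A ∘ₗ HopfRep.Comod.coact (k := k) (A := A)).rTensor A)
        (HopfRep.Comod.coact (k := k) (A := A) m)
    rw [LinearMap.rTensor_comp, LinearMap.comp_apply, coact_coact, ← LinearMap.comp_apply,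
      coactAux_natural, LinearMap.comp_apply]
  · intro f hf
    have hf' : ∀ m, Hoch.Ind.coactAux k A N ((Hoch.Ind.equiv k A N).symm (f m)) =
        (((Hoch.Ind.equiv k A N).symm.toLinearMap ∘ₗ f).rTensor A)
          (HopfRep.Comod.coact (k := k) (A := A) m) := by
      intro m
      have := LinearMap.congr_fun hf m
      simp only [LinearMap.comp_apply] at this
      exact this
    refine ⟨Hoch.Ind.counit k A N ∘ₗ f, ?_, ?_⟩
    · ext m
      simp only [LinearMap.comp_apply, LinearEquiv.coe_coe]
      have h1 := counit_rTensor_coactAux (k := k) (A := A) (N := N)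
        ((Hoch.Ind.equiv k A N).symm (f m))
      rw [hf' m, ← LinearMap.comp_apply, ← LinearMap.rTensor_comp] at h1
      have h2 : (Hoch.Ind.counit k A N ∘ₗ (Hoch.Ind.equiv k A N).toLinearMap) ∘ₗ
          ((Hoch.Ind.equiv k A N).symm.toLinearMap ∘ₗ f) = Hoch.Ind.counit k A N ∘ₗ f := by
        ext m; simp
      rw [h2] at h1
      rw [h1, LinearEquiv.apply_symm_apply]
    · intro h' hh'
      ext m
      rw [hh']
      simp only [LinearMap.comp_apply, LinearEquiv.coe_coe]
      have hc := LinearMap.congr_fun (HopfRep.Comod.counit_comp (k := k) (A := A) (V := M)) m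
      simp only [LinearMap.comp_apply, LinearMap.flip_apply, TensorProduct.mk_apply] at hc
      unfold Hoch.Ind.counit
      simp only [LinearMap.comp_apply, LinearEquiv.coe_coe, LinearEquiv.symm_apply_apply]
      rw [← LinearMap.comp_apply (f := (Coalgebra.counit (R := k) (A := A)).lTensor N),
        LinearMap.lTensor_comp_rTensor, ← LinearMap.rTensor_comp_lTensor, LinearMap.comp_apply, hc,
        LinearMap.rTensor_tmul, TensorProduct.rid_tmul, one_smul]

end Groth.Agent.S12929
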