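import Groth.Statements.S12931
import Mathlib.Algebra.BigOperators.Pi
import Mathlib.Algebra.Algebra.Pi
import Mathlib.Data.Fintype.EquivFin

set_option autoImplicit false
universe u v w
open HopfRep

namespace Groth.Agent.S12931

/-- Let `R` be a commutative ring, `Γ` a finite set and `T` a commutative `R`-algebra which is
connected: nonzero, with no idempotents other than `0` and `1`. Then `γ ↦ (evaluation at γ : (Γ → R)
→ R → T)` is a bijection from `Γ` onto the `R`-algebra maps `(Γ → R) → T`: every such map sends
exactly one of the indicator functions to `1` and the others to `0`. (Only the bijection of sets is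
stated; when `Γ` is a group, the compatibility with the group structures on both sides is not.) -/
theorem result
    (R : Type u) [CommRing R] (Γ : Type v) [Finite Γ]
    (T : Type w) [CommRing T] [Algebra R T] [Nontrivial T]
    (hT : ∀ e : T, IsIdempotentElem e → e = 0 ∨ e = 1) :
    Function.Bijective (fun γ : Γ => (Algebra.ofId R T).comp (Pi.evalAlgHom R (fun _ : Γ => R) γ)) := by
  classical
  haveI : Fintype Γ := Fintype.ofFinite Γ
  constructor
  · intro γ γ' h
    by_contra hne
    have h1 := congrArg (fun φ : (Γ → R) →ₐ[R] T => φ (Pi.single γ 1)) h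
    simp [Algebra.ofId_apply, Pi.single_apply, Ne.symm hne] at h1
  · intro φ
    -- the images of the indicator functions
    have hidem : ∀ γ, IsIdempotentElem (φ (Pi.single γ 1)) := by
      intro γ
      unfold IsIdempotentElem
      rw [← map_mul]
      congr 1
      ext x
      by_cases hx : x = γ <;> simp [Pi.single_apply, hx]
    have hsum : ∑ γ, φ (Pi.single γ (1 : R)) = 1 := by
      rw [← map_sum, Finset.univ_sum_single (fun _ : Γ => (1 : R))]
      exact map_one φ
    have hex : ∃ γ₀, φ (Pi.single γ₀ (1 : R)) = 1 := by
      by_contra hno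
      push Not at hno
      have : ∀ γ, φ (Pi.single γ (1 : R)) = 0 := fun γ => (hT _ (hidem γ)).resolve_right (hno γ)
      rw [Finset.sum_eq_zero (fun γ _ => this γ)] at hsum
      exact zero_ne_one hsum
    obtain ⟨γ₀, hγ₀⟩ := hex
    have hother : ∀ γ, γ ≠ γ₀ → φ (Pi.single γ (1 : R)) = 0 := by
      intro γ hγ
      have : φ (Pi.single γ (1 : R)) * φ (Pi.single γ₀ (1 : R)) = 0 := by
        rw [← map_mul]
        have : (Pi.single γ (1 : R) * Pi.single γ₀ (1 : R) : Γ → R) = 0 := by
          ext x
          by_cases hx : x = γ
          · subst hx; simp [Pi.single_apply, hγ]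
          · simp [Pi.single_apply, hx]
        rw [this, map_zero]
      rwa [hγ₀, mul_one] at this
    refine ⟨γ₀, ?_⟩
    apply AlgHom.ext
    intro f
    have hf : f = ∑ γ, f γ • Pi.single γ (1 : R) := by
      conv_lhs => rw [← Finset.univ_sum_single f]
      refine Finset.sum_congr rfl fun γ _ => ?_
      ext x
      by_cases hx : x = γ <;> simp [Pi.single_apply, hx]
    conv_rhs => rw [hf]
    rw [map_sum, Finset.sum_eq_single γ₀]
    · simp [hγ₀, Algebra.ofId_apply, Algebra.algebraMap_eq_smul_one]
    · intro γ _ hγ
      rw [map_smul, hother γ hγ, smul_zero]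
    · intro h; exact absurd (Finset.mem_univ _) h

end Groth.Agent.S12931
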