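import Groth.Statements.S12932
import Mathlib
import Groth.Agent.H27.Inertia

set_option autoImplicit false
universe u v
open scoped BigOperators
open InvTh

namespace Groth.Agent.S12932

open Groth.Agent.H27

/-- Let `B` be a commutative ring with an action of a finite group `Γ` by ring automorphisms, and call a
prime ideal `P` of `B` tame when the order of its inertia group `{γ | γ • x - x ∈ P for all x}` is
not divisible by the characteristic of `B/P` (its ramification group is trivial). Then every prime
of `B` is tame if and only if the trace `b ↦ Σ_γ γ • b`, which takes values in the invariant ring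
`B^Γ` and is `B^Γ`-linear, is onto `B^Γ` — equivalently, some element of `B` has trace `1`. -/
theorem result
    (B : Type u) [CommRing B] (Γ : Type v) [Group Γ] [Fintype Γ] [MulSemiringAction Γ B] :
    (∃ b : B, ∑ γ : Γ, γ • b = 1) ↔
      ∀ P : Ideal B, P.IsPrime → ((Nat.card (P.inertia Γ) : ℕ) : B ⧸ P) ≠ 0 := by
  classical
  constructor
  · rintro ⟨b, hb⟩ P hP h0
    have h1 := sum_rho P (Finset.univ : Finset Γ) (fun _ _ _ _ => Finset.mem_univ _) b
    rw [← map_sum, hb, map_one, h0, zero_mul] at h1
    exact one_ne_zero h1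
  · intro H
    by_contra hne
    -- the invariant subring
    let A := FixedPoints.subring B Γ
    have : Algebra.IsInvariant A B Γ := ⟨fun b hb => ⟨⟨b, hb⟩, rfl⟩⟩
    have : Algebra.IsIntegral A B := Algebra.IsInvariant.isIntegral A B Γ
    have htr_mem : ∀ b : B, ∑ γ : Γ, γ • b ∈ A := by
      intro b g
      rw [Finset.smul_sum]
      exact Fintype.sum_equiv (Equiv.mulLeft g) _ _ (fun γ => by simp [mul_smul])
    -- ideal of traces
    let J : Ideal A :=
      { carrier := {a | ∃ b : B, ∑ γ : Γ, γ • b = (a : B)}
        add_mem' := by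
          rintro a a' ⟨b, hb⟩ ⟨b', hb'⟩
          refine ⟨b + b', ?_⟩
          simp only [smul_add, Finset.sum_add_distrib, hb, hb']
          rfl
        zero_mem' := ⟨0, by simp⟩
        smul_mem' := by
          rintro c a ⟨b, hb⟩
          refine ⟨(c : B) * b, ?_⟩
          have hc : ∀ γ : Γ, γ • (c : B) = c := fun γ => c.2 γ
          simp only [smul_mul', hc, ← Finset.mul_sum, hb]
          rfl }
    have hJ : J ≠ ⊤ := by
      intro h
      have : (1 : A) ∈ J := h ▸ Submodule.mem_top
      obtain ⟨b, hb⟩ := this
      exact hne ⟨b, hb⟩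
    obtain ⟨m, hm, hJm⟩ := Ideal.exists_le_maximal J hJ
    have hker : RingHom.ker (algebraMap A B) ≤ m := by
      intro a ha
      have : a = 0 := Subtype.ext (by simpa using ha)
      rw [this]; exact m.zero_mem
    obtain ⟨P, hPmax, hPm⟩ := Ideal.exists_ideal_over_maximal_of_isIntegral m hker
    have := hPmax
    have hPprime : P.IsPrime := hPmax.isPrime
    obtain ⟨q, hq1, hq2⟩ := exists_crt_elem (Γ := Γ) P
    let Dp : Γ → Prop := fun γ => ∀ y : B, y ∈ P ↔ γ • y ∈ P
    let D : Finset Γ := Finset.univ.filter Dp
    have hD : ∀ i ∈ P.inertia Γ, ∀ γ ∈ D, i * γ ∈ D := by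
      intro i hi γ hγ
      have hγ' : Dp γ := (Finset.mem_filter.mp hγ).2
      refine Finset.mem_filter.mpr ⟨Finset.mem_univ _, fun y => ?_⟩
      rw [mul_smul, hγ' y]
      have := hi (γ • y)
      constructor
      · intro h
        have := P.add_mem this h
        simpa using this
      · intro h
        have := P.sub_mem h this
        simpa using this
    have h1D : (1 : Γ) ∈ D := Finset.mem_filter.mpr ⟨Finset.mem_univ _, fun y => by simp⟩
    -- key computation
    have key : ∀ x : B, ((Nat.card (P.inertia Γ) : ℕ) : B ⧸ P) * ∑ r ∈ D.image (rho P), r x = 0 := by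
      intro x
      rw [← sum_rho P D hD x]
      have hmem : (∑ γ : Γ, γ • (x * q)) ∈ P := by
        have h1 : (⟨_, htr_mem (x * q)⟩ : A) ∈ J := ⟨x * q, rfl⟩
        have h2 := hJm h1
        rw [← hPm] at h2
        exact h2
      have h0 : Ideal.Quotient.mk P (∑ γ : Γ, γ • (x * q)) = 0 :=
        Ideal.Quotient.eq_zero_iff_mem.mpr hmem
      rw [map_sum] at h0
      rw [← h0]
      rw [← Finset.sum_filter_add_sum_filter_not Finset.univ Dp]
      have hz : ∑ γ ∈ Finset.univ.filter (fun γ => ¬ Dp γ), Ideal.Quotient.mk P (γ • (x * q)) = 0 := by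
        apply Finset.sum_eq_zero
        intro γ hγ
        have hγ' : ¬ Dp γ := (Finset.mem_filter.mp hγ).2
        rw [Ideal.Quotient.eq_zero_iff_mem, smul_mul']
        exact P.mul_mem_left _ (hq2 γ hγ')
      rw [hz, add_zero]
      refine Finset.sum_congr rfl fun γ hγ => ?_
      have hγ' : Dp γ := (Finset.mem_filter.mp hγ).2
      rw [Ideal.Quotient.eq, smul_mul']
      have h3 : γ • (q - 1) ∈ P := (hγ' _).mp hq1
      have : γ • x - γ • x * γ • q = -(γ • x * γ • (q - 1)) := by
        rw [smul_sub, smul_one]; ring
      rw [this]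
      exact P.neg_mem (P.mul_mem_left _ h3)
    have key2 : ∀ x : B, ∑ r ∈ D.image (rho P), r x = 0 := by
      intro x
      exact (mul_eq_zero.mp (key x)).resolve_left (H P hPprime)
    -- Dedekind independence
    have hli := linearIndependent_monoidHom B (B ⧸ P)
    rw [linearIndependent_iff'] at hli
    let T : Finset (B →* B ⧸ P) := (D.image (rho P)).image (fun r : B →+* B ⧸ P => r.toMonoidHom)
    have hsum : ∑ f ∈ T, (fun _ => (1 : B ⧸ P)) f • (f : B → B ⧸ P) = 0 := by
      funext x
      simp only [one_smul, Finset.sum_apply, Pi.zero_apply]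
      rw [Finset.sum_image]
      · exact key2 x
      · intro r _ r' _ h
        exact RingHom.coe_monoidHom_injective h
    have h10 := hli T (fun _ => 1) hsum (rho P (1 : Γ)).toMonoidHom
      (Finset.mem_image_of_mem _ (Finset.mem_image_of_mem _ h1D))
    exact one_ne_zero h10

end Groth.Agent.S12932
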