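import Groth.Statements.S12933
import Mathlib

set_option autoImplicit false
universe u v w w'
open TensorProduct
open InvTh

namespace Groth.Agent.S12933

/-- Let `R` be a commutative ring, `B` a commutative `R`-algebra with an action of a finite group `Γ` by
`R`-algebra automorphisms, and `R'` a flat commutative `R`-algebra; let `Γ` act on `R' ⊗_R B`
through the factor `B`. Then an element of `R' ⊗_R B` is fixed by every element of `Γ` if and only
if it lies in the `R'`-submodule spanned by the tensors `1 ⊗ b` with `b ∈ B^Γ`: taking invariants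
commutes with flat base change (the map `R' ⊗_R B^Γ → R' ⊗_R B` being moreover injective by
flatness). -/
theorem result
    (R : Type u) [CommRing R] (B : Type v) [CommRing B] [Algebra R B]
    (Γ : Type w) [Group Γ] [Finite Γ] [MulSemiringAction Γ B] [SMulCommClass Γ R B]
    (R' : Type w') [CommRing R'] [Algebra R R'] [Module.Flat R R']
    (x : R' ⊗[R] B) :
    (∀ γ : Γ, Algebra.TensorProduct.map (AlgHom.id R R') (MulSemiringAction.toAlgHom R B γ) x = x) ↔
      x ∈ Submodule.span R' ((fun b : B => (1 : R') ⊗ₜ[R] b) '' {b : B | ∀ γ : Γ, γ • b = b}) := by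
  classical
  cases nonempty_fintype Γ
  let φ : B →ₗ[R] (Γ → B) :=
    LinearMap.pi (fun γ => (MulSemiringAction.toAlgHom R B γ).toLinearMap - LinearMap.id)
  have hφ : ∀ b, b ∈ LinearMap.ker φ ↔ ∀ γ : Γ, γ • b = b := by
    intro b
    rw [LinearMap.mem_ker]
    constructor
    · intro h γ
      have := congrFun h γ
      simpa [φ, sub_eq_zero] using this
    · intro h
      ext γ
      simp [φ, h γ]
  have hex : Function.Exact ((LinearMap.ker φ).subtype.lTensor R') (φ.lTensor R') :=
    Module.Flat.lTensor_exact R' (LinearMap.exact_subtype_ker_map φ)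
  -- step 1
  have h1 : (∀ γ : Γ, Algebra.TensorProduct.map (AlgHom.id R R') (MulSemiringAction.toAlgHom R B γ) x = x)
      ↔ φ.lTensor R' x = 0 := by
    have hproj : ∀ γ : Γ, ((LinearMap.proj γ : (Γ → B) →ₗ[R] B).lTensor R') (φ.lTensor R' x) =
        Algebra.TensorProduct.map (AlgHom.id R R') (MulSemiringAction.toAlgHom R B γ) x - x := by
      intro γ
      induction x using TensorProduct.induction_on with
      | zero => simp
      | tmul r b => simp [φ, tmul_sub]
      | add a b ha hb =>
        simp only [map_add, ha, hb]
        abel
    have hpi : ∀ y : R' ⊗[R] (Γ → B), ∀ γ : Γ,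
        TensorProduct.piRight R R R' (fun _ : Γ => B) y γ =
          (LinearMap.proj γ : (Γ → B) →ₗ[R] B).lTensor R' y := by
      intro y γ
      induction y using TensorProduct.induction_on with
      | zero => simp
      | tmul r b => simp
      | add a b ha hb =>
        simp only [map_add, Pi.add_apply, ha, hb]
    constructor
    · intro h
      apply (TensorProduct.piRight R R R' (fun _ : Γ => B)).injective
      rw [map_zero]
      ext γ
      rw [hpi, hproj, h γ, sub_self]
      rfl
    · intro h γ
      have := hproj γ
      rw [h, map_zero] at this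
      exact (sub_eq_zero.mp this.symm)
  rw [h1, hex x]
  clear h1
  -- step 2
  constructor
  · rintro ⟨z, rfl⟩
    induction z using TensorProduct.induction_on with
    | zero => simp
    | tmul r b =>
      simp only [LinearMap.lTensor_tmul, Submodule.subtype_apply]
      have : r ⊗ₜ[R] (b : B) = r • ((1 : R') ⊗ₜ[R] (b : B)) := by
        rw [TensorProduct.smul_tmul', smul_eq_mul, mul_one]
      rw [this]
      apply Submodule.smul_mem
      apply Submodule.subset_span
      exact ⟨b, (hφ b).mp b.2, rfl⟩
    | add a b ha hb =>
      rw [map_add]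
      exact Submodule.add_mem _ ha hb
  · intro hx
    have hsm : ∀ (r : R') (a' : R' ⊗[R] (LinearMap.ker φ)),
        (LinearMap.ker φ).subtype.lTensor R' (r • a') =
          r • (LinearMap.ker φ).subtype.lTensor R' a' := by
      intro r a'
      induction a' using TensorProduct.induction_on with
      | zero => simp
      | tmul s b => simp [TensorProduct.smul_tmul']
      | add a b ha hb =>
        simp only [smul_add, map_add, ha, hb]
    induction hx using Submodule.span_induction with
    | mem y hy =>
      obtain ⟨b, hb, rfl⟩ := hy
      exact ⟨(1 : R') ⊗ₜ[R] ⟨b, (hφ b).mpr hb⟩, by simp⟩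
    | zero => exact ⟨0, by simp⟩
    | add a b _ _ ha hb =>
      obtain ⟨a', rfl⟩ := ha
      obtain ⟨b', rfl⟩ := hb
      exact ⟨a' + b', by simp⟩
    | smul r a _ ha =>
      obtain ⟨a', rfl⟩ := ha
      exact ⟨r • a', hsm r a'⟩

end Groth.Agent.S12933
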