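import Groth.Statements.S12934
import Mathlib.Tactic
import Mathlib.Algebra.CharP.Lemmas
import Mathlib.RingTheory.RootsOfUnity.Basic
import Mathlib.RingTheory.LocalRing.ResidueField.Basic
import Mathlib.GroupTheory.SpecificGroups.Cyclic

set_option autoImplicit false
universe u v
open InvTh

namespace Groth.Agent.S12934

/-- Let `B` be a local commutative ring with maximal ideal `m` and residue field `k`, and `Γ` a finite
group acting faithfully on `B` by ring automorphisms, such that every element of `Γ` acts trivially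
modulo `m` (the whole group is inertia) and maps each principal ideal of `B` into itself (every
ideal is stable). Let `S ⊆ Γ` be the set of `γ` with `γ b ∈ b + b m` for all `b`. Then: if `k` has
characteristic `0`, `S = {1}`; if `k` has characteristic `p > 0`, `S` is (the underlying set of) a
Sylow `p`-subgroup; every commutator of `Γ` lies in `S`, so `Γ/S` is abelian; and whenever the class
of `γ` in `Γ/S` has order `n` (`γ^n ∈ S`, no smaller positive power in `S`), `k` contains a
primitive `n`-th root of unity. (The published statement also bounds the number of generators of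
`Γ/S` by the number of generators of the monoid of principal ideals; that clause is not included.) -/
theorem result
    (B : Type u) [CommRing B] [IsLocalRing B]
    (Γ : Type v) [Group Γ] [Finite Γ] [MulSemiringAction Γ B] [FaithfulSMul Γ B]
    (hin : ∀ (γ : Γ) (b : B), γ • b - b ∈ IsLocalRing.maximalIdeal B)
    (hst : ∀ (γ : Γ) (b : B), ∃ u : B, γ • b = b * u)
    (S : Set Γ)
    (hS : ∀ γ : Γ, γ ∈ S ↔ ∀ b : B, ∃ x ∈ IsLocalRing.maximalIdeal B, γ • b = b + b * x) :
    (ringChar (IsLocalRing.ResidueField B) = 0 → S = {1}) ∧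
      (∀ (p : ℕ) [Fact p.Prime], ringChar (IsLocalRing.ResidueField B) = p →
        ∃ Q : Sylow p Γ, (Q : Set Γ) = S) ∧
      (∀ γ δ : Γ, γ * δ * γ⁻¹ * δ⁻¹ ∈ S) ∧
      (∀ (γ : Γ) (n : ℕ), 0 < n → γ ^ n ∈ S → (∀ i : ℕ, 0 < i → i < n → γ ^ i ∉ S) →
        ∃ ζ : IsLocalRing.ResidueField B, IsPrimitiveRoot ζ n) := by
  classical
  let k := IsLocalRing.ResidueField B
  let res : B →+* k := IsLocalRing.residue B
  have hres0 : ∀ x : B, res x = 0 ↔ x ∈ IsLocalRing.maximalIdeal B :=
    fun x => IsLocalRing.residue_eq_zero_iff x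
  have hgm : ∀ (g : Γ) (z : B), z ∈ IsLocalRing.maximalIdeal B →
      g • z ∈ IsLocalRing.maximalIdeal B := by
    intro g z hz
    have : g • z = (g • z - z) + z := by ring
    rw [this]
    exact Ideal.add_mem _ (hin g z) hz
  have hresg : ∀ (g : Γ) (u : B), res (g • u) = res u := by
    intro g u
    have : res (g • u - u) = 0 := (hres0 _).2 (hin g u)
    rw [map_sub, sub_eq_zero] at this
    exact this
  let c : Γ → B → k := fun g b => res (Classical.choose (hst g b))
  have P1 : ∀ (g : Γ) (b : B), b ≠ 0 → ∀ u : B, g • b = b * u → res u = c g b := by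
    intro g b hb u hu
    have hu' := Classical.choose_spec (hst g b)
    by_contra hne
    have h1 : b * (u - Classical.choose (hst g b)) = 0 := by
      rw [mul_sub, ← hu, ← hu', sub_self]
    have h2 : IsUnit (u - Classical.choose (hst g b)) := by
      rw [← IsLocalRing.notMem_maximalIdeal, ← hres0, map_sub, sub_eq_zero]
      exact hne
    exact hb (h2.mul_left_eq_zero.1 h1)
  have P2 : ∀ (g h : Γ) (b : B), b ≠ 0 → c (g * h) b = c g b * c h b := by
    intro g h b hb
    obtain ⟨u, hu⟩ := hst g b
    obtain ⟨v, hv⟩ := hst h b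
    have h1 : (g * h) • b = b * (u * g • v) := by
      rw [mul_smul, hv, smul_mul', hu, mul_assoc]
    rw [← P1 (g * h) b hb _ h1, ← P1 g b hb u hu, ← P1 h b hb v hv, map_mul, hresg]
  have P3 : ∀ b : B, b ≠ 0 → c 1 b = 1 := by
    intro b hb
    rw [← P1 1 b hb 1 (by rw [one_smul, mul_one]), map_one]
  have P4 : ∀ g : Γ, g ∈ S ↔ ∀ b : B, b ≠ 0 → c g b = 1 := by
    intro g
    rw [hS]
    constructor
    · intro h b hb
      obtain ⟨x, hx, hgb⟩ := h b
      rw [← P1 g b hb (1 + x) (by rw [hgb]; ring), map_add, map_one, (hres0 x).2 hx, add_zero]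
    · intro h b
      by_cases hb : b = 0
      · exact ⟨0, Ideal.zero_mem _, by rw [hb, smul_zero]; ring⟩
      · have hu := Classical.choose_spec (hst g b)
        refine ⟨Classical.choose (hst g b) - 1, ?_, hu.trans (by ring)⟩
        rw [← hres0, map_sub, map_one, sub_eq_zero]
        exact h b hb
  have Ppow : ∀ (g : Γ) (j : ℕ) (b : B), b ≠ 0 → c (g ^ j) b = (c g b) ^ j := by
    intro g j b hb
    induction j with
    | zero => rw [pow_zero, pow_zero, P3 b hb]
    | succ j ih => rw [pow_succ, pow_succ, P2 _ _ b hb, ih]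
  -- key lemma
  have keyA : ∀ (γ : Γ) (N : ℕ), γ ∈ S → γ ^ N = 1 → (N : k) ≠ 0 → γ = 1 := by
    intro γ N hγ hN hNk
    apply FaithfulSMul.eq_of_smul_eq_smul (α := B)
    intro b
    rw [one_smul]
    obtain ⟨y, hy, hγc⟩ := (hS γ).1 hγ (γ • b - b)
    have hstep : ∀ i : ℕ, ∃ z ∈ IsLocalRing.maximalIdeal B,
        γ ^ i • b = b + (i : B) * (γ • b - b) + (γ • b - b) * z := by
      intro i
      induction i with
      | zero => exact ⟨0, Ideal.zero_mem _, by rw [pow_zero, one_smul]; push_cast; ring⟩
      | succ i ih =>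
        obtain ⟨z, hz, hi⟩ := ih
        refine ⟨(i : B) * y + (1 + y) * γ • z, ?_, ?_⟩
        · exact Ideal.add_mem _ (Ideal.mul_mem_left _ _ hy) (Ideal.mul_mem_left _ _ (hgm γ z hz))
        · rw [pow_succ', mul_smul, hi, smul_add, smul_add, smul_mul', smul_mul', hγc]
          have hcast : γ • (i : B) = (i : B) := by
            have := map_natCast (MulSemiringAction.toRingHom Γ B γ) i
            exact this
          rw [hcast]
          push_cast
          ring
    obtain ⟨z, hz, hN'⟩ := hstep N
    rw [hN, one_smul] at hN'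
    have h1 : (γ • b - b) * ((N : B) + z) = 0 := by
      have : b + (N : B) * (γ • b - b) + (γ • b - b) * z - b = 0 := by rw [← hN', sub_self]
      rw [← this]; ring
    have h2 : IsUnit ((N : B) + z) := by
      rw [← IsLocalRing.notMem_maximalIdeal, ← hres0, map_add, map_natCast, (hres0 z).2 hz,
        add_zero]
      exact hNk
    exact sub_eq_zero.1 (h2.mul_left_eq_zero.1 h1)
  have h1S : (1 : Γ) ∈ S := (P4 1).2 (fun b hb => P3 b hb)
  refine ⟨?_, ?_, ?_, ?_⟩
  · intro h0
    haveI : CharP k 0 := h0 ▸ ringChar.charP k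
    ext γ
    constructor
    · intro hγ
      refine keyA γ (orderOf γ) hγ (pow_orderOf_eq_one γ) ?_
      intro h
      have := (CharP.cast_eq_zero_iff k 0 (orderOf γ)).1 h
      exact (orderOf_pos γ).ne' (zero_dvd_iff.1 this)
    · intro hγ
      rw [Set.mem_singleton_iff] at hγ
      rw [hγ]; exact h1S
  · intro p _ hp
    haveI : CharP k p := hp ▸ ringChar.charP k
    have hpprime : p.Prime := Fact.out
    let Ssub : Subgroup Γ :=
      { carrier := S
        mul_mem' := by
          intro a b ha hb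
          rw [P4] at ha hb ⊢
          intro x hx
          rw [P2 a b x hx, ha x hx, hb x hx, mul_one]
        one_mem' := h1S
        inv_mem' := by
          intro a ha
          rw [P4] at ha ⊢
          intro x hx
          have := P2 a⁻¹ a x hx
          rw [inv_mul_cancel, P3 x hx, ha x hx, mul_one] at this
          exact this.symm }
    have hpg : IsPGroup p Ssub := by
      rintro ⟨g, hg⟩
      obtain ⟨a, N', hN', hord⟩ := Nat.exists_eq_pow_mul_and_not_dvd (orderOf_pos g).ne' p
        hpprime.ne_one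
      refine ⟨a, ?_⟩
      apply Subtype.ext
      rw [Subgroup.coe_pow, Subgroup.coe_one]
      change g ^ p ^ a = 1
      refine keyA (g ^ p ^ a) N' (Ssub.pow_mem hg _) ?_ ?_
      · rw [← pow_mul, ← hord, pow_orderOf_eq_one]
      · intro h
        exact hN' ((CharP.cast_eq_zero_iff k p N').1 h)
    obtain ⟨Q, hQ⟩ := hpg.exists_le_sylow
    refine ⟨Q, Set.Subset.antisymm ?_ (fun g hg => hQ hg)⟩
    intro g hg
    obtain ⟨a, ha⟩ := Q.isPGroup' ⟨g, hg⟩
    have ha' : g ^ p ^ a = 1 := by
      have := congrArg Subtype.val ha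
      rwa [Subgroup.coe_pow, Subgroup.coe_one] at this
    change g ∈ S
    rw [P4]
    intro b hb
    have h1 : (c g b) ^ p ^ a = 1 := by rw [← Ppow g _ b hb, ha', P3 b hb]
    have h2 : (c g b - 1) ^ p ^ a = 0 := by rw [sub_pow_char_pow, h1, one_pow, sub_self]
    exact sub_eq_zero.1 (pow_eq_zero_iff (pow_pos hpprime.pos a).ne' |>.1 h2)
  · intro γ δ
    rw [P4]
    intro b hb
    have h1 := P2 γ γ⁻¹ b hb
    rw [mul_inv_cancel, P3 b hb] at h1
    have h2 := P2 δ δ⁻¹ b hb
    rw [mul_inv_cancel, P3 b hb] at h2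
    rw [P2 _ _ b hb, P2 _ _ b hb, P2 _ _ b hb]
    calc c γ b * c δ b * c γ⁻¹ b * c δ⁻¹ b = (c γ b * c γ⁻¹ b) * (c δ b * c δ⁻¹ b) := by ring
      _ = 1 := by rw [← h1, ← h2, one_mul]
  · intro γ n hn hγn hmin
    haveI : NeZero n := ⟨hn.ne'⟩
    obtain ⟨ζ, hζ⟩ := IsCyclic.exists_generator (α := rootsOfUnity n k)
    have hpowall : ∀ x : rootsOfUnity n k, x ^ orderOf ζ = 1 := by
      intro x
      obtain ⟨j, rfl⟩ := Subgroup.mem_zpowers_iff.1 (hζ x)
      rw [← zpow_natCast, ← zpow_mul, mul_comm, zpow_mul, zpow_natCast, pow_orderOf_eq_one,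
        one_zpow]
    have hm'pos : 0 < orderOf ζ := orderOf_pos ζ
    have hm'dvd : orderOf ζ ∣ n := by
      apply orderOf_dvd_of_pow_eq_one
      apply Subtype.ext
      rw [Subgroup.coe_pow, Subgroup.coe_one]
      exact (mem_rootsOfUnity _ _).1 ζ.2
    have hvals : ∀ b : B, b ≠ 0 → (c γ b) ^ orderOf ζ = 1 := by
      intro b hb
      have h1 : (c γ b) ^ n = 1 := by rw [← Ppow γ n b hb]; exact (P4 _).1 hγn b hb
      have hne : c γ b ≠ 0 := by
        intro h0
        rw [h0, zero_pow hn.ne'] at h1
        exact zero_ne_one h1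
      have hmem : Units.mk0 (c γ b) hne ∈ rootsOfUnity n k := by
        rw [mem_rootsOfUnity]
        apply Units.ext
        rw [Units.val_pow_eq_pow_val, Units.val_mk0, h1, Units.val_one]
      have h2 := hpowall ⟨Units.mk0 (c γ b) hne, hmem⟩
      have h3 := congrArg (fun x : rootsOfUnity n k => ((x : kˣ) : k)) h2
      simpa using h3
    have hγm' : γ ^ orderOf ζ ∈ S := by
      rw [P4]
      intro b hb
      rw [Ppow γ _ b hb, hvals b hb]
    have hle : n ≤ orderOf ζ := by
      by_contra hlt
      exact hmin (orderOf ζ) hm'pos (not_le.1 hlt) hγm'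
    have heq : orderOf ζ = n := le_antisymm (Nat.le_of_dvd hn hm'dvd) hle
    refine ⟨((ζ : kˣ) : k), ?_⟩
    rw [IsPrimitiveRoot.coe_units_iff]
    have h1 : orderOf (ζ : kˣ) = n := by rw [Subgroup.orderOf_coe, heq]
    have h2 := IsPrimitiveRoot.orderOf (ζ : kˣ)
    rwa [h1] at h2

end Groth.Agent.S12934
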