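import Groth.Statements.S12935
import Mathlib

set_option autoImplicit false
universe u v
open InvTh

namespace Groth.Agent.S12935

open Pointwise in
/-- Let `B` be a commutative ring with an action of a finite group `Γ` by ring automorphisms, `Ω` a
normal subgroup of `Γ`, `B^Ω` the subring of `Ω`-invariants (stable under `Γ`, with the induced
action of `Γ/Ω`), and `P` a prime ideal of `B`. Then (decomposition groups) an element `γ` maps `P ∩
B^Ω` onto itself if and only if `γω` maps `P` onto itself for some `ω ∈ Ω`; and (inertia groups) `γ`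
fixes `B^Ω` modulo `P ∩ B^Ω` if and only if `γω` fixes `B` modulo `P` for some `ω ∈ Ω`. In other
words the decomposition and inertia groups of `P ∩ B^Ω` under `Γ/Ω` are the images of those of `P`.
(The published statement also asserts the same for the ramification groups, the Sylow subgroups of
the inertia groups at the residue characteristic; that clause is not included here.) -/
theorem result
    (B : Type u) [CommRing B] (Γ : Type v) [Group Γ] [Finite Γ] [MulSemiringAction Γ B]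
    (Ω : Subgroup Γ) [Ω.Normal] (P : Ideal B) [P.IsPrime] (γ : Γ) :
    ((∀ x : B, (∀ ω ∈ Ω, ω • x = x) → (x ∈ P ↔ γ • x ∈ P)) ↔
        ∃ ω ∈ Ω, ∀ x : B, x ∈ P ↔ (γ * ω) • x ∈ P) ∧
      ((∀ x : B, (∀ ω ∈ Ω, ω • x = x) → γ • x - x ∈ P) ↔
        ∃ ω ∈ Ω, ∀ x : B, (γ * ω) • x - x ∈ P) := by
  classical
  let A := FixedPoints.subring B Ω
  haveI : Algebra.IsInvariant A B Ω := ⟨fun b hb => ⟨⟨b, hb⟩, rfl⟩⟩
  have hA : ∀ x : B, (∀ ω ∈ Ω, ω • x = x) → x ∈ A := by
    intro x hx ω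
    exact hx ω.1 ω.2
  have hA' : ∀ a : A, ∀ ω ∈ Ω, ω • (a : B) = a := by
    intro a ω hω
    exact a.2 ⟨ω, hω⟩
  have key1 : (∀ x : B, (∀ ω ∈ Ω, ω • x = x) → (x ∈ P ↔ γ • x ∈ P)) →
      ∃ ω ∈ Ω, ∀ x : B, x ∈ P ↔ (γ * ω) • x ∈ P := by
    intro h
    have hPQ : P.under A = (γ⁻¹ • P).under A := by
      ext a
      simp only [Ideal.under_def, Ideal.mem_comap, Ideal.mem_inv_pointwise_smul_iff]
      exact h a.1 (hA' a)
    obtain ⟨ω, hω⟩ := Algebra.IsInvariant.exists_smul_of_under_eq A B Ω P (γ⁻¹ • P) hPQ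
    refine ⟨ω, ω.2, fun x => ?_⟩
    rw [mul_smul, ← Ideal.mem_inv_pointwise_smul_iff, hω, Ideal.mem_pointwise_smul_iff_inv_smul_mem]
    have : ω⁻¹ • ((ω : Γ) • x) = x := by
      change ((ω⁻¹ : Ω) : Γ) • ((ω : Γ) • x) = x
      simp
    rw [this]
  refine ⟨⟨key1, ?_⟩, ⟨?_, ?_⟩⟩
  · rintro ⟨ω, hω, h⟩ x hx
    rw [h x, mul_smul, hx ω hω]
  · intro h2
    have h1 : ∀ x : B, (∀ ω ∈ Ω, ω • x = x) → (x ∈ P ↔ γ • x ∈ P) := by
      intro x hx
      have := h2 x hx
      constructor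
      · intro hxP
        have : γ • x = (γ • x - x) + x := by ring
        rw [this]
        exact P.add_mem (h2 x hx) hxP
      · intro hxP
        have : x = γ • x - (γ • x - x) := by ring
        rw [this]
        exact P.sub_mem hxP (h2 x hx)
    obtain ⟨ω1, hω1, hγ'⟩ := key1 h1
    set γ' := γ * ω1 with hγ'def
    have hstab : P = γ' • P := by
      ext x
      rw [Ideal.mem_pointwise_smul_iff_inv_smul_mem, hγ' (γ'⁻¹ • x), smul_inv_smul]
    let σ0 : (B ⧸ P) ≃+* (B ⧸ P) :=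
      Ideal.quotientEquiv P P (MulSemiringAction.toRingEquiv Γ B γ') hstab
    have hσ0 : ∀ b : B, σ0 (Ideal.Quotient.mk P b) = Ideal.Quotient.mk P (γ' • b) := fun b => rfl
    let σ : (B ⧸ P) ≃ₐ[A ⧸ P.under A] (B ⧸ P) := AlgEquiv.ofRingEquiv (f := σ0) (by
      intro a
      obtain ⟨a0, rfl⟩ := Ideal.Quotient.mk_surjective a
      rw [Ideal.Quotient.algebraMap_mk_of_liesOver, hσ0, Ideal.Quotient.eq]
      have : γ' • (algebraMap A B a0) = γ • (a0 : B) := by
        rw [hγ'def, mul_smul]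
        congr 1
        exact hA' a0 ω1 hω1
      rw [this]
      exact h2 a0 (hA' a0))
    obtain ⟨ω2, hω2⟩ := Ideal.Quotient.stabilizerHom_surjective Ω (P.under A) P σ
    have hω2' : ∀ b : B, ((ω2 : Ω) : Γ) • b - γ' • b ∈ P := by
      intro b
      have := congrArg (fun f => f (Ideal.Quotient.mk P b)) hω2
      simp only [Ideal.Quotient.stabilizerHom_apply] at this
      rw [← Ideal.Quotient.eq]
      exact this
    refine ⟨ω1 * ((ω2 : Ω) : Γ)⁻¹, Ω.mul_mem hω1 (Ω.inv_mem (ω2 : Ω).2), fun x => ?_⟩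
    have := hω2' ((((ω2 : Ω) : Γ))⁻¹ • x)
    rw [smul_inv_smul] at this
    have h3 : (γ * (ω1 * (((ω2 : Ω) : Γ))⁻¹)) • x - x = -(x - γ' • (((ω2 : Ω) : Γ))⁻¹ • x) := by
      rw [hγ'def, ← mul_assoc, mul_smul (γ * ω1)]
      ring
    rw [h3]
    exact P.neg_mem this
  · rintro ⟨ω, hω, h⟩ x hx
    have := h x
    rwa [mul_smul, hx ω hω] at this

end Groth.Agent.S12935
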