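import Groth.Statements.S12936
import Mathlib

set_option autoImplicit false
universe u v
open InvTh

namespace Groth.Agent.S12936

/-- Let `B` be a commutative ring with an action of a finite group `Γ` by ring automorphisms and `P` a
maximal ideal of `B`, with decomposition group `D_P = {γ | γP = P}` and decomposition ring `D =
B^{D_P}`. Then `D = B^Γ + (P ∩ D)`: every element of `B` fixed by `D_P` is congruent modulo `P` to a
`Γ`-invariant element. Hence the residue field of `D` at `P ∩ D` is that of `B^Γ` at `P ∩ B^Γ`; for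
an arbitrary prime `P` the same equality of residue fields follows by localising at `P ∩ B^Γ`. (The
published statement prints this residue field as `k(P)`; the proof establishes the equality with the
residue field of `B^Γ` stated here.) -/
theorem result
    (B : Type u) [CommRing B] (Γ : Type v) [Group Γ] [Finite Γ] [MulSemiringAction Γ B]
    (P : Ideal B) [P.IsMaximal] (x : B)
    (hx : ∀ γ : Γ, (∀ y : B, y ∈ P ↔ γ • y ∈ P) → γ • x = x) :
    ∃ c : B, (∀ γ : Γ, γ • c = c) ∧ x - c ∈ P := by
  classical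
  cases nonempty_fintype Γ
  -- the conjugate ideals
  let Q : Γ → Ideal B := fun γ => P.comap (MulSemiringAction.toRingHom Γ B γ)
  have hQmem : ∀ γ y, y ∈ Q γ ↔ γ • y ∈ P := fun γ y => Iff.rfl
  have hQmax : ∀ γ, (Q γ).IsMaximal := by
    intro γ
    exact Ideal.comap_isMaximal_of_surjective _ (MulSemiringAction.toRingEquiv Γ B γ).surjective
  -- decomposition predicate
  let Dp : Γ → Prop := fun γ => ∀ y : B, y ∈ P ↔ γ • y ∈ P
  have hDQ : ∀ γ, Dp γ ↔ Q γ = P := by
    intro γ
    constructor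
    · intro h
      ext y
      rw [hQmem]
      exact (h y).symm
    · intro h y
      rw [← hQmem, h]
  have hD1 : Dp 1 := fun y => by simp
  have hDmul : ∀ a b, Dp a → Dp b → Dp (a * b) := by
    intro a b ha hb y
    rw [mul_smul, ← ha, ← hb]
  have hDinv : ∀ a, Dp a → Dp a⁻¹ := by
    intro a ha y
    rw [ha (a⁻¹ • y), smul_inv_smul]
  -- CRT element
  let s : Finset Γ := Finset.univ.filter (fun γ => ¬ Dp γ)
  have hsup : P ⊔ ⨅ γ ∈ s, Q γ = ⊤ := by
    apply Ideal.sup_iInf_eq_top
    intro γ hγ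
    have hγ' : ¬ Dp γ := (Finset.mem_filter.mp hγ).2
    apply Ideal.IsMaximal.coprime_of_ne ‹_› (hQmax γ)
    intro h
    exact hγ' ((hDQ γ).mpr h.symm)
  obtain ⟨p, hp, q, hq, hpq⟩ := Submodule.mem_sup.mp (hsup ▸ Submodule.mem_top : (1 : B) ∈ P ⊔ ⨅ γ ∈ s, Q γ)
  have hq' : ∀ γ, ¬ Dp γ → γ • q ∈ P := by
    intro γ hγ
    have := (Ideal.mem_iInf.mp hq) γ
    have := (Ideal.mem_iInf.mp this) (Finset.mem_filter.mpr ⟨Finset.mem_univ _, hγ⟩)
    exact this
  have hq1 : q - 1 ∈ P := by
    have : q - 1 = -p := by rw [← hpq]; ring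
    rw [this]; exact P.neg_mem hp
  -- the D-invariant idempotent-like element
  let t : Finset Γ := Finset.univ.filter (fun γ => Dp γ)
  let e : B := ∏ δ ∈ t, δ • q
  have he_inv : ∀ δ', Dp δ' → δ' • e = e := by
    intro δ' hδ'
    simp only [e, Finset.smul_prod', smul_smul]
    apply Finset.prod_bij (fun δ _ => δ' * δ)
    · intro a ha
      simp only [t, Finset.mem_filter, Finset.mem_univ, true_and] at ha ⊢
      exact hDmul _ _ hδ' ha
    · intro a _ b _ h
      exact mul_left_cancel h
    · intro b hb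
      simp only [t, Finset.mem_filter, Finset.mem_univ, true_and] at hb ⊢
      refine ⟨δ'⁻¹ * b, hDmul _ _ (hDinv _ hδ') hb, by simp⟩
    · intro a _
      rfl
  have he1 : e - 1 ∈ P := by
    rw [← Ideal.Quotient.eq, map_one]
    simp only [e, map_prod]
    apply Finset.prod_eq_one
    intro δ hδ
    have hδ' : Dp δ := (Finset.mem_filter.mp hδ).2
    rw [← map_one (Ideal.Quotient.mk P), Ideal.Quotient.eq]
    have : δ • q - 1 = δ • (q - 1) := by simp [smul_sub]
    rw [this]
    exact (hδ' _).mp hq1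
  have he_mem : ∀ γ, ¬ Dp γ → γ • e ∈ P := by
    intro γ hγ
    have h1 : (1 : Γ) ∈ t := Finset.mem_filter.mpr ⟨Finset.mem_univ _, hD1⟩
    have : e = q * ∏ δ ∈ t.erase 1, δ • q := by
      simp only [e]
      rw [← Finset.mul_prod_erase t _ h1, one_smul]
    rw [this, smul_mul']
    exact P.mul_mem_right _ (hq' γ hγ)
  -- y
  let y : B := x * e
  have hy_inv : ∀ δ, Dp δ → δ • y = y := by
    intro δ hδ
    simp only [y, smul_mul', hx δ hδ, he_inv δ hδ]
  have hy_mem : ∀ γ, ¬ Dp γ → γ • y ∈ P := by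
    intro γ hγ
    simp only [y, smul_mul']
    exact P.mul_mem_left _ (he_mem γ hγ)
  have hxy : x - y ∈ P := by
    have : x - y = -(x * (e - 1)) := by simp only [y]; ring
    rw [this]
    exact P.neg_mem (P.mul_mem_left _ he1)
  -- orbit sum
  let O : Finset B := Finset.univ.image (fun γ : Γ => γ • y)
  refine ⟨∑ z ∈ O, z, ?_, ?_⟩
  · intro γ
    rw [Finset.smul_sum]
    apply Finset.sum_bij (fun z _ => γ • z)
    · intro a ha
      simp only [O, Finset.mem_image, Finset.mem_univ, true_and] at ha ⊢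
      obtain ⟨g, rfl⟩ := ha
      exact ⟨γ * g, mul_smul _ _ _⟩
    · intro a _ b _ h
      exact smul_left_cancel γ h
    · intro b hb
      simp only [O, Finset.mem_image, Finset.mem_univ, true_and] at hb ⊢
      obtain ⟨g, rfl⟩ := hb
      exact ⟨γ⁻¹ • g • y, ⟨γ⁻¹ * g, mul_smul _ _ _⟩, smul_inv_smul _ _⟩
    · intro a _
      rfl
  · have hyO : y ∈ O := Finset.mem_image.mpr ⟨1, Finset.mem_univ _, one_smul _ _⟩
    rw [← Finset.add_sum_erase O _ hyO]
    have hrest : ∑ z ∈ O.erase y, z ∈ P := by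
      apply Ideal.sum_mem
      intro z hz
      obtain ⟨hzy, hzO⟩ := Finset.mem_erase.mp hz
      obtain ⟨g, -, rfl⟩ := Finset.mem_image.mp hzO
      apply hy_mem
      intro hg
      exact hzy (hy_inv g hg)
    have : x - (y + ∑ z ∈ O.erase y, z) = (x - y) - ∑ z ∈ O.erase y, z := by ring
    rw [this]
    exact P.sub_mem hxy hrest

end Groth.Agent.S12936
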