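import Groth.Statements.S12944
import Groth.Agent.H28.DiagSep

set_option autoImplicit false
universe u
open CategoryTheory AlgebraicGeometry
open AlgSt

namespace Groth.Agent.S12944

/-- For a morphism f of algebraic stacks that is representable by algebraic spaces, these three
conditions coincide: f is quasi-separated (every base change to a scheme is a quasi-separated
morphism of algebraic spaces); the diagonal of f is quasi-compact; the diagonal of f is of finite
type. -/
theorem result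
    (S : Scheme.{u}) (𝒳 : AlgSt.Cat S) (𝒴 : AlgSt.Cat S)
    (h𝒳 : AlgSt.IsAlgStack Scheme.fppfPrecoverage 𝒳)
    (h𝒴 : AlgSt.IsAlgStack Scheme.fppfPrecoverage 𝒴)
    (f : 𝒳 ⥤ᵇ 𝒴)
    (hf : AlgSt.RepByAlgSp1 f) :
    [AlgSt.RepByAlgSpWith AlgSp.IsQuasiSeparatedMor f,
      AlgSt.RepByAlgSpWith AlgSp.IsQuasiCompactMor (FibCat.diag f),
      AlgSt.RepByAlgSpWith AlgSp.IsFiniteTypeMor (FibCat.diag f)].TFAE := by
  tfae_have 1 ↔ 2 := Groth.Agent.H28.RepComp.repByAlgSpWith_qs_iff_diag_qc f hf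
  tfae_have 2 → 3 := by
    intro h T ζ
    obtain ⟨F, e, he, hqc⟩ := h T ζ
    have hlft := Groth.Agent.H28.RepComp.repByAlgSpWith_any
      (Groth.Agent.H28.RepComp.goodP_locP Groth.Agent.H25.AS.etLoc_locallyOfFiniteType).cancelIso
      (FibCat.diag f) (Groth.Agent.H28.RepComp.repByAlgSpWith_lft_diag h𝒳 h𝒴 f) ζ F e he
    exact ⟨F, e, he, ⟨hlft, hqc⟩⟩
  tfae_have 3 → 2 := fun h =>
    Groth.Agent.H28.RepComp.repByAlgSpWith_mono (fun _ _ _ ha => ha.2) _ h
  tfae_finish


end Groth.Agent.S12944
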