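import Groth.Statements.S12971
import Groth.Agent.H28.DiagRep4

set_option autoImplicit false
universe u
open CategoryTheory AlgebraicGeometry
open AlgSt

namespace Groth.Agent.S12971

/-- A monomorphism of algebraic stacks (representable by algebraic spaces and a monomorphism) is
separated and DM. -/
theorem result
    (S : Scheme.{u}) (𝒳 : AlgSt.Cat S) (𝒴 : AlgSt.Cat S)
    (h𝒳 : AlgSt.IsAlgStack Scheme.fppfPrecoverage 𝒳)
    (h𝒴 : AlgSt.IsAlgStack Scheme.fppfPrecoverage 𝒴)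
    (f : 𝒳 ⥤ᵇ 𝒴) :
    AlgSt.IsMono f → AlgSt.IsSeparatedMor f ∧ AlgSt.IsDMMor f := by
  intro hf
  exact ⟨Groth.Agent.H28.DiagRep.isSeparatedMor_of_isMono f h𝒳.isStack.1 h𝒴.isStack.1 hf,
    Groth.Agent.H28.DiagRep.isDMMor_of_rep f h𝒳.isStack.1 h𝒴.isStack.1
      (Groth.Agent.H28.MonoFF.repByAlgSp1_of_with hf)⟩

end Groth.Agent.S12971
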