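import Groth.Statements.S12972
import Groth.Agent.H28.InertiaSep

set_option autoImplicit false
universe u
open CategoryTheory AlgebraicGeometry
open AlgSt

namespace Groth.Agent.S12972

/-- For a morphism f : 𝒳 → 𝒴 of algebraic stacks the following are equivalent: the relative inertia
𝓘_{𝒳/𝒴} → 𝒳 is separated; the diagonal of f is separated; the neutral section 𝒳 → 𝓘_{𝒳/𝒴} (the
second diagonal) is a closed immersion. All three morphisms are representable by algebraic spaces
and the properties are the ones of such morphisms. -/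
theorem result
    (S : Scheme.{u}) (𝒳 : AlgSt.Cat S) (𝒴 : AlgSt.Cat S)
    (h𝒳 : AlgSt.IsAlgStack Scheme.fppfPrecoverage 𝒳)
    (h𝒴 : AlgSt.IsAlgStack Scheme.fppfPrecoverage 𝒴)
    (f : 𝒳 ⥤ᵇ 𝒴) :
    [AlgSt.RepByAlgSpWith AlgSp.IsSeparatedMor (FibCat.inertiaToBase f),
      AlgSt.RepByAlgSpWith AlgSp.IsSeparatedMor (FibCat.diag f),
      AlgSt.IsClosedImm (FibCat.inertiaNeutral f)].TFAE := by
  have hΔ : AlgSt.RepByAlgSp1 (FibCat.diag f) :=
    Groth.Agent.H28.RepComp.repByAlgSp1_diag_of_toSelf f h𝒳.diag h𝒴.diag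
  tfae_have 2 → 1 := fun h => Groth.Agent.H28.RepComp.repByAlgSpWith_inertiaToBase f _ h
  tfae_have 1 → 3 := fun h =>
    Groth.Agent.H28.RepComp.repByAlgSpWith_inertiaNeutral_of_diag f (AlgSp.RepWith @IsClosedImmersion)
      (Groth.Agent.H28.RepComp.repByAlgSpWith_sep_imp_diag_closedImm (FibCat.inertiaToBase f) h)
  tfae_have 3 → 2 := fun h => by
    have h1 : AlgSt.RepByAlgSpWith (AlgSp.RepWith @IsClosedImmersion)
        (FibCat.diag (FibCat.diag f)) :=
      (Groth.Agent.H28.RepComp.repByAlgSpWith_inertiaNeutral_iff f (AlgSp.RepWith @IsClosedImmersion)).1 h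
    have h2 : AlgSt.RepByAlgSpWith AlgSp.IsUnivClosedMor (FibCat.diag (FibCat.diag f)) :=
      Groth.Agent.H28.RepComp.repByAlgSpWith_mono
        (fun _ _ a ha =>
          (Groth.Agent.H25.AS.isProperMor_of_repWith_isClosedImmersion a ha).2.2) _ h1
    exact Groth.Agent.H28.RepComp.repByAlgSpWith_sep_of_diag_univClosed (FibCat.diag f) hΔ h2
  tfae_finish


end Groth.Agent.S12972
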