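import Groth.Statements.S12979
import Groth.Agent.H28.DiagSep
import Groth.Agent.H25.AlgSp61

set_option autoImplicit false
universe u
open CategoryTheory AlgebraicGeometry
open AlgSt

namespace Groth.Agent.S12979

/-- If the first and second diagonals of a morphism f of algebraic stacks are both universally closed
(as morphisms representable by algebraic spaces), then f is separated. (The published statement is
an equivalence; this row states the implication from the two diagonals to separatedness.) -/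
theorem result
    (S : Scheme.{u}) (𝒳 : AlgSt.Cat S) (𝒴 : AlgSt.Cat S)
    (h𝒳 : AlgSt.IsAlgStack Scheme.fppfPrecoverage 𝒳)
    (h𝒴 : AlgSt.IsAlgStack Scheme.fppfPrecoverage 𝒴)
    (f : 𝒳 ⥤ᵇ 𝒴) :
    AlgSt.RepByAlgSpWith AlgSp.IsUnivClosedMor (FibCat.diag f) →
      AlgSt.RepByAlgSpWith AlgSp.IsUnivClosedMor (FibCat.diag (FibCat.diag f)) → AlgSt.IsSeparatedMor f := by
  intro h1 h2
  have hΔ : AlgSt.RepByAlgSp1 (FibCat.diag f) :=
    Groth.Agent.H28.RepComp.repByAlgSp1_diag_of_toSelf f h𝒳.diag h𝒴.diag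
  have hsep := Groth.Agent.H28.RepComp.repByAlgSpWith_sep_of_diag_univClosed (FibCat.diag f) hΔ h2
  intro T ζ
  obtain ⟨F, e, he, huc⟩ := h1 T ζ
  have h3 := Groth.Agent.H28.RepComp.repByAlgSpWith_any Groth.Agent.H28.RepComp.cancelIso_sep (FibCat.diag f) hsep ζ F e he
  have hlft := Groth.Agent.H28.RepComp.repByAlgSpWith_any
    (Groth.Agent.H28.RepComp.goodP_locP Groth.Agent.H25.AS.etLoc_locallyOfFiniteType).cancelIso
    (FibCat.diag f) (Groth.Agent.H28.RepComp.repByAlgSpWith_lft_diag h𝒳 h𝒴 f) ζ F e he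
  exact ⟨F, e, he, ⟨h3, ⟨hlft, Groth.Agent.H25.AS.isQuasiCompactMor_of_isUnivClosedMor F.property
    (AlgSp.IsAlgSpace.yon_obj T) _ huc⟩, huc⟩⟩


end Groth.Agent.S12979
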