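import Groth.Statements.S12980
import Groth.Agent.H28.DiagSep

set_option autoImplicit false
universe u
open CategoryTheory AlgebraicGeometry
open AlgSt

namespace Groth.Agent.S12980

/-- A morphism f of algebraic stacks is quasi-separated if and only if its first and second diagonals
are both quasi-compact (as morphisms representable by algebraic spaces). -/
theorem result
    (S : Scheme.{u}) (𝒳 : AlgSt.Cat S) (𝒴 : AlgSt.Cat S)
    (h𝒳 : AlgSt.IsAlgStack Scheme.fppfPrecoverage 𝒳)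
    (h𝒴 : AlgSt.IsAlgStack Scheme.fppfPrecoverage 𝒴)
    (f : 𝒳 ⥤ᵇ 𝒴) :
    AlgSt.IsQuasiSeparatedMor f ↔
      AlgSt.RepByAlgSpWith AlgSp.IsQuasiCompactMor (FibCat.diag f) ∧
        AlgSt.RepByAlgSpWith AlgSp.IsQuasiCompactMor (FibCat.diag (FibCat.diag f)) := by
  have hΔ : AlgSt.RepByAlgSp1 (FibCat.diag f) :=
    Groth.Agent.H28.RepComp.repByAlgSp1_diag_of_toSelf f h𝒳.diag h𝒴.diag
  constructor
  · intro h
    exact ⟨Groth.Agent.H28.RepComp.repByAlgSpWith_mono (fun _ _ _ ha => ha.1) _ h,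
      (Groth.Agent.H28.RepComp.repByAlgSpWith_qs_iff_diag_qc (FibCat.diag f) hΔ).1
        (Groth.Agent.H28.RepComp.repByAlgSpWith_mono (fun _ _ _ ha => ha.2) _ h)⟩
  · rintro ⟨h1, h2⟩
    have hqs := (Groth.Agent.H28.RepComp.repByAlgSpWith_qs_iff_diag_qc (FibCat.diag f) hΔ).2 h2
    intro T ζ
    obtain ⟨F, e, he, hqc⟩ := h1 T ζ
    have h3 := Groth.Agent.H28.RepComp.repByAlgSpWith_any Groth.Agent.H28.RepComp.cancelIso_qs (FibCat.diag f) hqs ζ F e he
    exact ⟨F, e, he, ⟨hqc, h3⟩⟩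


end Groth.Agent.S12980
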