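import Groth.Statements.S12982
import Groth.Agent.H28.FpBase3

set_option autoImplicit false
universe u
open CategoryTheory AlgebraicGeometry
open AlgSt

namespace Groth.Agent.S12982

/-- The base change of a quasi-compact morphism of algebraic stacks along any morphism of algebraic
stacks is quasi-compact (quasi-compact: base change to any quasi-compact algebraic stack is
quasi-compact). -/
theorem result
    (S : Scheme.{u}) (𝒳 : AlgSt.Cat S) (𝒴 : AlgSt.Cat S) (𝒴' : AlgSt.Cat S)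
    (h𝒳 : AlgSt.IsAlgStack Scheme.fppfPrecoverage 𝒳)
    (h𝒴 : AlgSt.IsAlgStack Scheme.fppfPrecoverage 𝒴)
    (h𝒴' : AlgSt.IsAlgStack Scheme.fppfPrecoverage 𝒴')
    (f : 𝒳 ⥤ᵇ 𝒴) (g : 𝒴' ⥤ᵇ 𝒴) :
    AlgSt.IsQuasiCompactMor Scheme.fppfPrecoverage f → AlgSt.IsQuasiCompactMor Scheme.fppfPrecoverage (FibCat.fpFst g f) := by
  intro hf 𝒵 h𝒵 hq h
  obtain ⟨U, x, hU, h1, h2⟩ := hf 𝒵 h𝒵 hq (BasedFunctor.comp h g)
  have hb := Groth.Agent.H28.FpBase.isEquivOver_fpBase h g f
  exact ⟨U, BasedFunctor.comp x (Groth.Agent.H28.FpBase.fpBase h g f), hU,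
    Groth.Agent.H28.FpBase.repByAlgSpWith_of_sq _
      (BasedFunctor.comp x (Groth.Agent.H28.FpBase.fpBase h g f)) x (BasedFunctor.id _) _
      Groth.Agent.H28.FpBase.isEquivOver_id hb (Iso.refl _) h1,
    Groth.Agent.H28.FpBase.repByAlgSpWith_of_sq _
      (BasedFunctor.comp x (Groth.Agent.H28.FpBase.fpBase h g f)) x (BasedFunctor.id _) _
      Groth.Agent.H28.FpBase.isEquivOver_id hb (Iso.refl _) h2⟩

end Groth.Agent.S12982
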