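import Groth.Statements.S12992
import Groth.Agent.H28.LocQSp

set_option autoImplicit false
universe u
open CategoryTheory AlgebraicGeometry
open AlgSt

namespace Groth.Agent.S12992

/-- Let P be smooth local on the source-and-target and a : F → G a morphism of algebraic spaces. Then
the associated functor of categories over the base has P read on smooth scheme charts if and only if
a has P. -/
theorem result
    (S : Scheme.{u}) (P : MorphismProperty (AlgSp.Sp S)) (hP : AlgSp.IsSmoothLocalST P)
    (F G : AlgSp.Space S) (a : F ⟶ G) :
    AlgSt.LocQ P (AlgSt.ofSpMap a.hom) ↔ P a.hom := by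
  exact ⟨fun h => Groth.Agent.H28.RepComp.prop_of_locQ_ofSpMap P hP F G a h,
    fun h => Groth.Agent.H28.RepComp.locQ_ofSpMap_of_prop P hP F G a h⟩

end Groth.Agent.S12992
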