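import Groth.Statements.S12997
import Groth.Agent.H28.LocQRep

set_option autoImplicit false
universe u
open CategoryTheory AlgebraicGeometry
open AlgSt

namespace Groth.Agent.S12997

/-- An open immersion of algebraic stacks is locally of finite presentation. -/
theorem result
    (S : Scheme.{u}) (𝒳 : AlgSt.Cat S) (𝒴 : AlgSt.Cat S)
    (h𝒳 : AlgSt.IsAlgStack Scheme.fppfPrecoverage 𝒳)
    (h𝒴 : AlgSt.IsAlgStack Scheme.fppfPrecoverage 𝒴)
    (f : 𝒳 ⥤ᵇ 𝒴) :
    AlgSt.IsOpenImm f → AlgSt.LocQ (AlgSp.LocP @LocallyOfFinitePresentation) f := by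
  intro hf
  exact Groth.Agent.H28.RepComp.locQ_of_repByAlgSpWith Groth.Agent.H25.AS.etLoc_locallyOfFinitePresentation
    Groth.Agent.H28.RepComp.smooth_le_lfp h𝒳 h𝒴 f (Groth.Agent.H28.RepComp.openImm_lfp hf)

end Groth.Agent.S12997
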