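import Groth.Statements.S12999
import Groth.Agent.H28.LocQRep

set_option autoImplicit false
universe u
open CategoryTheory AlgebraicGeometry
open AlgSt

namespace Groth.Agent.S12999

/-- A morphism of algebraic stacks which is locally of finite type with locally Noetherian target is
locally of finite presentation. (Part (2), for finite type and quasi-separated, only adds the
quasi-compactness clauses.) -/
theorem result
    (S : Scheme.{u}) (𝒳 : AlgSt.Cat S) (𝒴 : AlgSt.Cat S)
    (h𝒳 : AlgSt.IsAlgStack Scheme.fppfPrecoverage 𝒳)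
    (h𝒴 : AlgSt.IsAlgStack Scheme.fppfPrecoverage 𝒴)
    (f : 𝒳 ⥤ᵇ 𝒴) :
    AlgSt.SmoothLocally (fun T ↦ IsLocallyNoetherian T) 𝒴 → AlgSt.LocQ (AlgSp.LocP @LocallyOfFiniteType) f → AlgSt.LocQ (AlgSp.LocP @LocallyOfFinitePresentation) f := by
  intro h𝒴N hf
  obtain ⟨U, V, x, y, h, α, hx₁, hx₂, hy₁, hh⟩ := hf
  have : IsLocallyNoetherian V.left := h𝒴N V y hy₁
  have : LocallyOfFiniteType h.left := AlgSp.locP_yon_map hh
  have hfp : LocallyOfFinitePresentation h.left := inferInstance
  exact ⟨U, V, x, y, h, α, hx₁, hx₂, hy₁,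
    Groth.Agent.H25.AS.locP_of_chart Groth.Agent.H25.AS.etLoc_locallyOfFinitePresentation _
      (𝟙 _) (𝟙 _) h (AlgSp.repWith_id _ U) (AlgSp.repWith_id _ U) (AlgSp.repWith_id _ V)
      (by simp) hfp⟩

end Groth.Agent.S12999
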