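import Groth.Statements.S13019
import Groth.Agent.H28.PtsOpen

set_option autoImplicit false
universe u
open CategoryTheory AlgebraicGeometry
open AlgSt

namespace Groth.Agent.S13019

/-- If 𝒳 is a locally Noetherian algebraic stack then its space of points is a locally Noetherian
topological space: every point has an open neighbourhood which is a Noetherian topological space. -/
theorem result
    (S : Scheme.{u}) (𝒳 : AlgSt.Cat S)
    (h𝒳 : AlgSt.IsAlgStack Scheme.fppfPrecoverage 𝒳) :
    AlgSt.SmoothLocally (fun T ↦ IsLocallyNoetherian T) 𝒳 → ∀ x : AlgSt.Points 𝒳, ∃ U : Set (AlgSt.Points 𝒳), IsOpen U ∧ x ∈ U ∧ TopologicalSpace.NoetherianSpace U := by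
  intro hN p
  obtain ⟨U, x, hx₁, hx₂⟩ := h𝒳.atlas
  haveI : IsLocallyNoetherian U.left := hN U x hx₁
  have hc : Continuous (AlgSt.Points.ofChart x) :=
    Groth.Agent.H28.RepComp.continuous_ofChart h𝒳 x
  have hs : Function.Surjective (AlgSt.Points.ofChart x) :=
    Groth.Agent.H28.RepComp.ofChart_surjective x
      (Groth.Agent.H28.RepComp.isSurjective_of_repByAlgSpWith_surj h𝒳.isStack.1 x hx₂)
  have ho : IsOpenMap (AlgSt.Points.ofChart x) :=
    Groth.Agent.H28.RepComp.isOpenMap_ofChart h𝒳 x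
      (Groth.Agent.H28.RepComp.repByAlgSpWith_mono_le
        (Groth.Agent.H28.RepComp.locP_mono Groth.Agent.H28.RepComp.smooth_le_flat) hx₁)
      (Groth.Agent.H28.RepComp.repByAlgSpWith_mono_le
        (Groth.Agent.H28.RepComp.locP_mono Groth.Agent.H28.RepComp.smooth_le_lfp) hx₁)
  obtain ⟨u, rfl⟩ := hs p
  obtain ⟨W, hW, huW, -⟩ := exists_isAffineOpen_mem_and_subset (x := u) (U := ⊤) trivial
  haveI : IsNoetherianRing Γ(U.left, W) := IsLocallyNoetherian.component_noetherian ⟨W, hW⟩
  have hWN := noetherianSpace_of_isAffineOpen W hW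
  refine ⟨AlgSt.Points.ofChart x '' (W : Set U.left), ho _ W.isOpen, ⟨u, huW, rfl⟩, ?_⟩
  have hr : AlgSt.Points.ofChart x '' (W : Set U.left) =
      Set.range (fun w : W => AlgSt.Points.ofChart x w.1) := by
    ext z
    constructor
    · rintro ⟨a, ha, rfl⟩
      exact ⟨⟨a, ha⟩, rfl⟩
    · rintro ⟨a, rfl⟩
      exact ⟨a.1, a.2, rfl⟩
  rw [hr]
  exact @TopologicalSpace.NoetherianSpace.range _ _ _ _ hWN _ (hc.comp continuous_subtype_val)

end Groth.Agent.S13019
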