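import Groth.Statements.S13021
import Groth.Agent.H28.PtsOpen
import Groth.Agent.H28.SoberDesc

set_option autoImplicit false
universe u
open CategoryTheory AlgebraicGeometry
open AlgSt

namespace Groth.Agent.S13021

/-- The space of points of a locally Noetherian algebraic stack is quasi-sober: every irreducible closed
subset has a generic point. -/
theorem result
    (S : Scheme.{u}) (𝒳 : AlgSt.Cat S)
    (h𝒳 : AlgSt.IsAlgStack Scheme.fppfPrecoverage 𝒳) :
    AlgSt.SmoothLocally (fun T ↦ IsLocallyNoetherian T) 𝒳 → QuasiSober (AlgSt.Points 𝒳) := by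
  intro hN
  obtain ⟨U, x, hx₁, hx₂⟩ := h𝒳.atlas
  haveI : IsLocallyNoetherian U.left := hN U x hx₁
  have hc : Continuous (AlgSt.Points.ofChart x) :=
    Groth.Agent.H28.RepComp.continuous_ofChart h𝒳 x
  have hs : Function.Surjective (AlgSt.Points.ofChart x) :=
    Groth.Agent.H28.RepComp.ofChart_surjective x
      (Groth.Agent.H28.RepComp.isSurjective_of_repByAlgSpWith_surj h𝒳.isStack.1 x hx₂)
  have ho : IsOpenMap (AlgSt.Points.ofChart x) :=
    Groth.Agent.H28.RepComp.isOpenMap_ofChart h𝒳 x
      (Groth.Agent.H28.RepComp.repByAlgSpWith_mono_le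
        (Groth.Agent.H28.RepComp.locP_mono Groth.Agent.H28.RepComp.smooth_le_flat) hx₁)
      (Groth.Agent.H28.RepComp.repByAlgSpWith_mono_le
        (Groth.Agent.H28.RepComp.locP_mono Groth.Agent.H28.RepComp.smooth_le_lfp) hx₁)
  refine Groth.Agent.H28.SoberDesc.quasiSober_of_open_surj (AlgSt.Points.ofChart x) hc ho hs
    (fun u => ?_)
  obtain ⟨W, hW, huW, -⟩ := exists_isAffineOpen_mem_and_subset (x := u) (U := ⊤) trivial
  haveI : IsNoetherianRing Γ(U.left, W) := IsLocallyNoetherian.component_noetherian ⟨W, hW⟩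
  exact ⟨(W : Set U.left), W.isOpen, huW, noetherianSpace_of_isAffineOpen W hW,
    W.isOpen.isOpenEmbedding_subtypeVal.quasiSober⟩

end Groth.Agent.S13021
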