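import Groth.Statements.S13042
import Mathlib

set_option autoImplicit false
universe u
open MaxMod

namespace Groth.Agent.S13042


open MvPolynomial

section Aux
variable (p : ℕ) [Fact p.Prime] {R : Type u} [CommRing R] [CharP R p]

theorem add_pow_p {S : Type u} [CommRing S] [Algebra R S] (a b : S) :
    (a + b) ^ p = a ^ p + b ^ p := by
  obtain ⟨r, hr⟩ := exists_add_pow_prime_eq (Fact.out : p.Prime) a b
  have hp0 : (p : S) = 0 := by
    rw [← map_natCast (algebraMap R S), CharP.cast_eq_zero R p, map_zero]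
  rw [hr, hp0]
  ring

theorem sub_pow_p {S : Type u} [CommRing S] [Algebra R S] (a b : S) :
    (a - b) ^ p = a ^ p - b ^ p := by
  have h := add_pow_p p (R := R) (a - b) b
  rw [sub_add_cancel] at h
  rw [h]
  ring

noncomputable abbrev I1 (f : R) : Ideal (MvPolynomial (Fin 2) R) :=
  Ideal.span {(X 0 ^ p - C f : MvPolynomial (Fin 2) R), X 1 ^ p - C f}

noncomputable abbrev I2 (f : R) : Ideal (MvPolynomial (Fin 2) R) :=
  Ideal.span {(X 0 ^ p : MvPolynomial (Fin 2) R), X 1 ^ p - C f}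

theorem x1_pow (f : R) : (Ideal.Quotient.mk (I1 p f) (X 0 : MvPolynomial (Fin 2) R)) ^ p =
    Ideal.Quotient.mk (I1 p f) (C f) := by
  rw [← map_pow, ← sub_eq_zero, ← map_sub, Ideal.Quotient.eq_zero_iff_mem]
  exact Ideal.subset_span (Set.mem_insert _ _)

theorem y1_pow (f : R) : (Ideal.Quotient.mk (I1 p f) (X 1 : MvPolynomial (Fin 2) R)) ^ p =
    Ideal.Quotient.mk (I1 p f) (C f) := by
  rw [← map_pow, ← sub_eq_zero, ← map_sub, Ideal.Quotient.eq_zero_iff_mem]
  exact Ideal.subset_span (Set.mem_insert_of_mem _ rfl)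

theorem x2_pow (f : R) : (Ideal.Quotient.mk (I2 p f) (X 0 : MvPolynomial (Fin 2) R)) ^ p = 0 := by
  rw [← map_pow, Ideal.Quotient.eq_zero_iff_mem]
  exact Ideal.subset_span (Set.mem_insert _ _)

theorem y2_pow (f : R) : (Ideal.Quotient.mk (I2 p f) (X 1 : MvPolynomial (Fin 2) R)) ^ p =
    Ideal.Quotient.mk (I2 p f) (C f) := by
  rw [← map_pow, ← sub_eq_zero, ← map_sub, Ideal.Quotient.eq_zero_iff_mem]
  exact Ideal.subset_span (Set.mem_insert_of_mem _ rfl)

noncomputable def phi (lam f : R) :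
    MvPolynomial (Fin 2) R →ₐ[R] (MvPolynomial (Fin 2) R ⧸ I2 p f) :=
  aeval ![Ideal.Quotient.mk (I2 p f) (X 0 + X 1 + C lam * X 0 * X 1),
    Ideal.Quotient.mk (I2 p f) (X 1)]

theorem phi_X0 (lam f : R) : phi p lam f (X 0) =
    Ideal.Quotient.mk (I2 p f) (X 0 + X 1 + C lam * X 0 * X 1) := by
  unfold phi
  rw [aeval_X]
  rfl

theorem phi_X1 (lam f : R) : phi p lam f (X 1) = Ideal.Quotient.mk (I2 p f) (X 1) := by
  unfold phi
  rw [aeval_X]
  rfl

theorem phi_C (lam f r : R) : phi p lam f (C r) = Ideal.Quotient.mk (I2 p f) (C r) := by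
  unfold phi
  rw [aeval_C]
  rfl

theorem phi_I1 (lam f : R) : ∀ a ∈ I1 p f, phi p lam f a = 0 := by
  intro a ha
  have hle : I1 p f ≤ RingHom.ker (phi p lam f).toRingHom := by
    apply Ideal.span_le.2
    rintro g (rfl | rfl)
    · show phi p lam f (X 0 ^ p - C f) = 0
      rw [map_sub, map_pow, phi_X0, phi_C, map_add, map_add, map_mul, map_mul,
        add_pow_p p (R := R), add_pow_p p (R := R), mul_pow, mul_pow, x2_pow, y2_pow]
      ring
    · show phi p lam f (X 1 ^ p - C f) = 0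
      rw [map_sub, map_pow, phi_X1, phi_C, y2_pow, sub_self]
  exact hle ha

noncomputable def e1 (lam f : R) :
    (MvPolynomial (Fin 2) R ⧸ I1 p f) →ₐ[R] (MvPolynomial (Fin 2) R ⧸ I2 p f) :=
  Ideal.Quotient.liftₐ (I1 p f) (phi p lam f) (phi_I1 p lam f)

theorem e1_mk (lam f : R) (a : MvPolynomial (Fin 2) R) :
    e1 p lam f (Ideal.Quotient.mk (I1 p f) a) = phi p lam f a := rfl

noncomputable def psi (f : R) (u : MvPolynomial (Fin 2) R ⧸ I1 p f) :
    MvPolynomial (Fin 2) R →ₐ[R] (MvPolynomial (Fin 2) R ⧸ I1 p f) :=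
  aeval ![(Ideal.Quotient.mk (I1 p f) (X 0) - Ideal.Quotient.mk (I1 p f) (X 1)) * u,
    Ideal.Quotient.mk (I1 p f) (X 1)]

theorem psi_X0 (f : R) (u : MvPolynomial (Fin 2) R ⧸ I1 p f) : psi p f u (X 0) =
    (Ideal.Quotient.mk (I1 p f) (X 0) - Ideal.Quotient.mk (I1 p f) (X 1)) * u := by
  unfold psi
  rw [aeval_X]
  rfl

theorem psi_X1 (f : R) (u : MvPolynomial (Fin 2) R ⧸ I1 p f) : psi p f u (X 1) =
    Ideal.Quotient.mk (I1 p f) (X 1) := by
  unfold psi
  rw [aeval_X]
  rfl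

theorem psi_C (f : R) (u : MvPolynomial (Fin 2) R ⧸ I1 p f) (r : R) : psi p f u (C r) =
    Ideal.Quotient.mk (I1 p f) (C r) := by
  unfold psi
  rw [aeval_C]
  rfl

theorem psi_I2 (f : R) (u : MvPolynomial (Fin 2) R ⧸ I1 p f) : ∀ a ∈ I2 p f, psi p f u a = 0 := by
  intro a ha
  have hle : I2 p f ≤ RingHom.ker (psi p f u).toRingHom := by
    apply Ideal.span_le.2
    rintro g (rfl | rfl)
    · show psi p f u (X 0 ^ p) = 0
      rw [map_pow, psi_X0, mul_pow, sub_pow_p p (R := R), x1_pow, y1_pow, sub_self, zero_mul]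
    · show psi p f u (X 1 ^ p - C f) = 0
      rw [map_sub, map_pow, psi_X1, psi_C, y1_pow, sub_self]
  exact hle ha

noncomputable def e2 (f : R) (u : MvPolynomial (Fin 2) R ⧸ I1 p f) :
    (MvPolynomial (Fin 2) R ⧸ I2 p f) →ₐ[R] (MvPolynomial (Fin 2) R ⧸ I1 p f) :=
  Ideal.Quotient.liftₐ (I2 p f) (psi p f u) (psi_I2 p f u)

theorem e2_mk (f : R) (u : MvPolynomial (Fin 2) R ⧸ I1 p f) (a : MvPolynomial (Fin 2) R) :
    e2 p f u (Ideal.Quotient.mk (I2 p f) a) = psi p f u a := rfl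

theorem comp21 (lam f : R) (u : MvPolynomial (Fin 2) R ⧸ I1 p f)
    (hu : (1 + Ideal.Quotient.mk (I1 p f) (C lam) * Ideal.Quotient.mk (I1 p f) (X 1)) * u = 1) :
    (e2 p f u).comp (e1 p lam f) = AlgHom.id R _ := by
  apply Ideal.Quotient.algHom_ext
  apply MvPolynomial.algHom_ext
  intro i
  fin_cases i
  · show e2 p f u (e1 p lam f (Ideal.Quotient.mk (I1 p f) (X 0))) = Ideal.Quotient.mk (I1 p f) (X 0)
    rw [e1_mk, phi_X0, e2_mk, map_add, map_add, map_mul, map_mul, psi_X0, psi_X1, psi_C]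
    linear_combination
      (Ideal.Quotient.mk (I1 p f) (X 0) - Ideal.Quotient.mk (I1 p f) (X 1)) * hu
  · show e2 p f u (e1 p lam f (Ideal.Quotient.mk (I1 p f) (X 1))) = Ideal.Quotient.mk (I1 p f) (X 1)
    rw [e1_mk, phi_X1, e2_mk, psi_X1]

theorem comp12 (lam f : R) (u : MvPolynomial (Fin 2) R ⧸ I1 p f)
    (hu : (1 + Ideal.Quotient.mk (I1 p f) (C lam) * Ideal.Quotient.mk (I1 p f) (X 1)) * u = 1) :
    (e1 p lam f).comp (e2 p f u) = AlgHom.id R _ := by
  have hu2 : (1 + Ideal.Quotient.mk (I2 p f) (C lam) * Ideal.Quotient.mk (I2 p f) (X 1)) *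
      e1 p lam f u = 1 := by
    have h := congrArg (e1 p lam f) hu
    rw [map_mul, map_add, map_one, map_mul, e1_mk, e1_mk, phi_C, phi_X1] at h
    exact h
  apply Ideal.Quotient.algHom_ext
  apply MvPolynomial.algHom_ext
  intro i
  fin_cases i
  · show e1 p lam f (e2 p f u (Ideal.Quotient.mk (I2 p f) (X 0))) = Ideal.Quotient.mk (I2 p f) (X 0)
    rw [e2_mk, psi_X0, map_mul, map_sub, e1_mk, e1_mk, phi_X0, phi_X1, map_add, map_add, map_mul,
      map_mul]
    linear_combination (Ideal.Quotient.mk (I2 p f) (X 0)) * hu2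
  · show e1 p lam f (e2 p f u (Ideal.Quotient.mk (I2 p f) (X 1))) = Ideal.Quotient.mk (I2 p f) (X 1)
    rw [e2_mk, psi_X1, e1_mk, phi_X1]

end Aux


open MvPolynomial in
/-- Let p be a prime, R a local ring of characteristic p, λ an element of the maximal ideal of R and f ∈
R. Then there is an isomorphism of R-algebras R[W₁, W₂]/(W₁^p − f, W₂^p − f) ≅ R[x, W]/(x^p, W^p −
f) with W₁ ↦ x + W + λ·x·W and W₂ ↦ W; that is, Spec R[W]/(W^p − f) with the action w ↦ x + w + λxw
is a torsor under the group scheme Spec R[x]/(x^p) with law x₁ ∘ x₂ = x₁ + x₂ + λx₁x₂. (The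
published statement is over a complete discrete valuation ring of characteristic p with λ a nonzero
nonunit, and also asserts that for f in the fraction field with negative valuation v(f) > −p·v(λ)
the torsor W^p = f extends to a torsor over R, using the coordinate 1/W; that second case fails: for
p = 2, λ = π a uniformizer and f = 1/π, every model is Spec R[π^a t] with t² = π, and none of these
is a torsor since the coaction sends t to t − π(1 + t)x. Only the case f ∈ R is stated, and the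
argument there uses only that R is local of characteristic p.) -/
theorem result
    (p : ℕ) [Fact p.Prime] (R : Type u) [CommRing R] [IsLocalRing R] [CharP R p]
    (lam f : R) (hlam : lam ∈ IsLocalRing.maximalIdeal R) :
    ∃ e : (MvPolynomial (Fin 2) R ⧸ Ideal.span {(X 0 ^ p - C f : MvPolynomial (Fin 2) R), X 1 ^ p - C f}) ≃ₐ[R]
        (MvPolynomial (Fin 2) R ⧸ Ideal.span {(X 0 ^ p : MvPolynomial (Fin 2) R), X 1 ^ p - C f}),
      e (Ideal.Quotient.mk _ (X 0)) = Ideal.Quotient.mk _ (X 0 + X 1 + C lam * X 0 * X 1) ∧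
      e (Ideal.Quotient.mk _ (X 1)) = Ideal.Quotient.mk _ (X 1) := by
  have hp1 : 1 ≤ p := (Fact.out : p.Prime).one_le
  have hr : IsUnit (1 + lam ^ p * f) := by
    have hmem : -(lam ^ p * f) ∈ nonunits R := by
      rw [← IsLocalRing.mem_maximalIdeal]
      apply neg_mem
      apply Ideal.mul_mem_right
      exact Ideal.pow_mem_of_mem _ hlam p (by omega)
    have h := IsLocalRing.isUnit_one_sub_self_of_mem_nonunits _ hmem
    rwa [sub_neg_eq_add] at h
  obtain ⟨r', hr'⟩ := hr.exists_right_inv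
  have hC : (C (1 + lam ^ p * f) : MvPolynomial (Fin 2) R) = 1 + C lam ^ p * C f := by
    rw [map_add, map_one, map_mul, map_pow]
  have ht : (1 + Ideal.Quotient.mk (I1 p f) (C lam) * Ideal.Quotient.mk (I1 p f) (X 1)) ^ p =
      Ideal.Quotient.mk (I1 p f) (C (1 + lam ^ p * f)) := by
    rw [hC, map_add, map_one, map_mul, map_pow, add_pow_p p (R := R), one_pow, mul_pow, y1_pow]
  obtain ⟨u, hu0⟩ : ∃ u : MvPolynomial (Fin 2) R ⧸ I1 p f, u =
      (1 + Ideal.Quotient.mk (I1 p f) (C lam) * Ideal.Quotient.mk (I1 p f) (X 1)) ^ (p - 1) *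
        Ideal.Quotient.mk (I1 p f) (C r') := ⟨_, rfl⟩
  have hu : (1 + Ideal.Quotient.mk (I1 p f) (C lam) * Ideal.Quotient.mk (I1 p f) (X 1)) * u = 1 := by
    rw [hu0, ← mul_assoc, ← pow_succ', Nat.sub_add_cancel hp1, ht, ← map_mul, ← map_mul, hr', map_one,
      map_one]
  refine ⟨AlgEquiv.ofAlgHom (e1 p lam f) (e2 p f u) (comp12 p lam f u hu) (comp21 p lam f u hu),
    ?_, ?_⟩
  · exact (e1_mk p lam f _).trans (phi_X0 p lam f)
  · exact (e1_mk p lam f _).trans (phi_X1 p lam f)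

end Groth.Agent.S13042
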