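import Groth.Statements.S13043
import Mathlib
import Groth.Agent.S2851

set_option autoImplicit false
universe u
open CoPerf

namespace Groth.Agent.S13043

section Helpers
open CategoryTheory AlgebraicGeometry TopologicalSpace Topology

lemma affineHom_iff13043 {S : Scheme.{u}} (V : S.Opens) :
    IsAffineHom V.ι ↔ ∀ W : S.Opens, IsAffineOpen W → IsAffineOpen (V ⊓ W) := by
  have h3 : ∀ W : S.Opens, V.ι ''ᵁ (V.ι ⁻¹ᵁ W) = V ⊓ W := by
    intro W
    rw [Scheme.Hom.image_preimage_eq_opensRange_inf, Scheme.Opens.opensRange_ι]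
  constructor
  · intro h W hW
    have h1 : IsAffineOpen (V.ι ⁻¹ᵁ W) := hW.preimage V.ι
    have h2 : IsAffineOpen (V.ι ''ᵁ (V.ι ⁻¹ᵁ W)) := h1.image_of_isOpenImmersion V.ι
    rwa [h3] at h2
  · intro h
    refine ⟨fun W hW => ?_⟩
    rw [← Scheme.Hom.isAffineOpen_iff_of_isOpenImmersion V.ι, h3]
    exact h W hW

lemma maxpts13043 {X : Type*} [TopologicalSpace X] [NoetherianSpace X] [QuasiSober X] [T0Space X]
    (Y : Set X) (hY : IsClosed Y) :
    {γ : X | γ ∈ Y ∧ ∀ η ∈ Y, η ⤳ γ → η = γ}.Finite ∧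
      ∀ z ∈ Y, ∃ ξ ∈ Y, (∀ η ∈ Y, η ⤳ ξ → η = ξ) ∧ ξ ⤳ z := by
  classical
  obtain ⟨T, hTfin, hTcl, hTirr, hYT⟩ := NoetherianSpace.exists_finite_set_isClosed_irreducible hY
  have hcinj : Function.Injective (fun x : X => closure ({x} : Set X)) :=
    fun x y h => (inseparable_iff_closure_eq.mpr h).eq
  have hPfin : ((fun x : X => closure ({x} : Set X)) ⁻¹' T).Finite := hTfin.preimage hcinj.injOn
  have hPY : ∀ p : X, closure ({p} : Set X) ∈ T → p ∈ Y := by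
    intro p hp
    rw [hYT]
    exact Set.mem_sUnion.mpr ⟨closure {p}, hp, subset_closure (Set.mem_singleton p)⟩
  have hgen : ∀ y ∈ Y, ∃ p : X, closure ({p} : Set X) ∈ T ∧ p ⤳ y := by
    intro y hy
    rw [hYT] at hy
    obtain ⟨t, ht, hyt⟩ := Set.mem_sUnion.mp hy
    have hg : closure {(hTirr t ht).genericPoint} = t :=
      ((hTirr t ht).isGenericPoint_genericPoint (hTcl t ht)).def
    refine ⟨(hTirr t ht).genericPoint, ?_, ?_⟩
    · rw [hg]; exact ht
    · rw [specializes_iff_mem_closure, hg]; exact hyt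
  refine ⟨hPfin.subset ?_, ?_⟩
  · rintro γ ⟨hγY, hγmax⟩
    obtain ⟨p, hp, hpγ⟩ := hgen γ hγY
    have h := hγmax p (hPY p hp) hpγ
    show closure ({γ} : Set X) ∈ T
    rw [← h]; exact hp
  · intro z hz
    obtain ⟨p₀, hp₀, hp₀z⟩ := hgen z hz
    have hP'fin : {p : X | closure ({p} : Set X) ∈ T ∧ p ⤳ z}.Finite :=
      hPfin.subset (fun p hp => hp.1)
    have hP'ne : {p : X | closure ({p} : Set X) ∈ T ∧ p ⤳ z}.Nonempty := ⟨p₀, hp₀, hp₀z⟩
    obtain ⟨ξ, ⟨hξP, hξz⟩, hξmax⟩ :=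
      hP'fin.exists_maximalFor (fun x : X => closure ({x} : Set X)) _ hP'ne
    refine ⟨ξ, hPY ξ hξP, ?_, hξz⟩
    intro η hηY hηξ
    obtain ⟨p, hp, hpη⟩ := hgen η hηY
    have hpξ : p ⤳ ξ := hpη.trans hηξ
    have hpz : p ⤳ z := hpξ.trans hξz
    have hle : closure ({ξ} : Set X) ≤ closure ({p} : Set X) :=
      specializes_iff_closure_subset.mp hpξ
    have hge : closure ({p} : Set X) ≤ closure ({ξ} : Set X) := hξmax ⟨hp, hpz⟩ hle
    have hξp : ξ ⤳ p := specializes_iff_closure_subset.mpr hge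
    have hξη : ξ ⤳ η := hξp.trans hpη
    exact (hηξ.antisymm hξη).eq

lemma gen13043 {X : Type*} [TopologicalSpace X] [NoetherianSpace X] [QuasiSober X]
    (U : Set X) (hUo : IsOpen U) (hU : Dense U) (η : X) (hη : η ∉ U) :
    ∃ β : X, β ⤳ η ∧ β ≠ η := by
  have hZirr : IsIrreducible (irreducibleComponent η) := isIrreducible_irreducibleComponent
  have hZcl : IsClosed (irreducibleComponent η) := isClosed_irreducibleComponent
  have hg : closure {hZirr.genericPoint} = irreducibleComponent η :=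
    (hZirr.isGenericPoint_genericPoint hZcl).def
  refine ⟨hZirr.genericPoint, ?_, ?_⟩
  · rw [specializes_iff_mem_closure, hg]; exact mem_irreducibleComponent
  · intro heq
    obtain ⟨o, ho, hone, hoZ⟩ :=
      NoetherianSpace.exists_isOpen_nonempty_subset_irreducibleComponent
        (irreducibleComponent η) (irreducibleComponent_mem_irreducibleComponents η)
    obtain ⟨w, hwo, hwU⟩ := hU.inter_open_nonempty o ho hone
    have h1 : w ∈ irreducibleComponent η := hoZ hwo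
    rw [← hg, heq] at h1
    have h2 : η ⤳ w := specializes_iff_mem_closure.mpr h1
    exact hη (h2.mem_open hUo hwU)

lemma dim13043 (S : Scheme.{u}) (ξ η β : S) (h1 : η ⤳ ξ) (h2 : β ⤳ η) (hne1 : ¬ η = ξ)
    (hne2 : β ≠ η) (hdim : ringKrullDim (S.presheaf.stalk ξ) ≤ 1) : False := by
  have hr := S.range_fromSpecStalk (x := ξ)
  have hη : η ∈ Set.range (S.fromSpecStalk ξ) := by rw [hr]; exact h1
  have hβ : β ∈ Set.range (S.fromSpecStalk ξ) := by rw [hr]; exact h2.trans h1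
  obtain ⟨qη, rfl⟩ := hη
  obtain ⟨qβ, rfl⟩ := hβ
  have hemb := (S.fromSpecStalk ξ).isEmbedding
  have hsp : qβ ⤳ qη := hemb.isInducing.specializes_iff.mp h2
  have hle' : qβ.asIdeal ≤ qη.asIdeal := (PrimeSpectrum.le_iff_specializes qβ qη).mpr hsp
  have hK : Ring.KrullDimLE 1 (S.presheaf.stalk ξ) :=
    Ring.krullDimLE_iff.mpr (by exact_mod_cast hdim)
  rcases Ring.krullDimLE_one_iff.mp hK qη.asIdeal qη.isPrime with hmin | hmaxi
  · have hmin' : Minimal (fun q : Ideal (S.presheaf.stalk ξ) => q.IsPrime ∧ ⊥ ≤ q) qη.asIdeal :=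
      hmin
    have h3 : qη.asIdeal ≤ qβ.asIdeal := hmin'.le_of_le ⟨qβ.isPrime, bot_le⟩ hle'
    have h4 : qβ = qη := PrimeSpectrum.ext (le_antisymm hle' h3)
    exact hne2 (by rw [h4])
  · have h4 : qη.asIdeal = IsLocalRing.maximalIdeal _ := IsLocalRing.eq_maximalIdeal hmaxi
    have h5 : qη = IsLocalRing.closedPoint (S.presheaf.stalk ξ) := PrimeSpectrum.ext h4
    apply hne1
    rw [h5]
    exact Scheme.fromSpecStalk_closedPoint

lemma finite13043 (S : Scheme.{u}) [IsNoetherian S] (U : S.Opens) (hU : Dense (U : Set S)) :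
    Set.Finite {V : S.Opens | U ≤ V ∧ IsAffineHom V.ι} := by
  classical
  have hGfin := (maxpts13043 ((U : Set S)ᶜ) U.isOpen.isClosed_compl).1
  have key : ∀ V : S.Opens, U ≤ V → IsAffineHom V.ι →
      ((V : Set S)ᶜ) = {z | ∃ ξ ∈ {γ : S | γ ∈ (U : Set S)ᶜ ∧
        ∀ η ∈ (U : Set S)ᶜ, η ⤳ γ → η = γ} ∩ (V : Set S)ᶜ, ξ ⤳ z} := by
    intro V hUV hV
    have : IsAffineHom V.ι := hV
    ext z
    constructor
    · intro hz
      obtain ⟨ξ, hξV, hξmax, hξz⟩ :=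
        (maxpts13043 ((V : Set S)ᶜ) V.isOpen.isClosed_compl).2 z hz
      refine ⟨ξ, ⟨⟨fun h => hξV (hUV h), ?_⟩, hξV⟩, hξz⟩
      intro η hηU hηξ
      by_contra hne
      have hdim : ringKrullDim (S.presheaf.stalk ξ) ≤ 1 :=
        Groth.Agent.S2851.result S V ξ hξV (fun η' hη' h => hξmax η' hη' h)
      obtain ⟨β, hβη, hβne⟩ := gen13043 (U : Set S) U.isOpen hU η hηU
      exact dim13043 S ξ η β hηξ hβη hne hβne hdim
    · rintro ⟨ξ, ⟨_, hξV⟩, hξz⟩ hzV
      exact hξV (hξz.mem_open V.isOpen hzV)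
  refine Set.Finite.of_injOn (f := fun V : S.Opens => {γ : S | γ ∈ (U : Set S)ᶜ ∧
        ∀ η ∈ (U : Set S)ᶜ, η ⤳ γ → η = γ} ∩ (V : Set S)ᶜ)
    (t := {t | t ⊆ {γ : S | γ ∈ (U : Set S)ᶜ ∧ ∀ η ∈ (U : Set S)ᶜ, η ⤳ γ → η = γ}})
    ?_ ?_ hGfin.finite_subsets
  · intro V _
    exact Set.inter_subset_left
  · rintro V₁ ⟨h1, h1'⟩ V₂ ⟨h2, h2'⟩ h
    have e1 := key V₁ h1 h1'
    have e2 := key V₂ h2 h2'
    have h' : {γ : S | γ ∈ (U : Set S)ᶜ ∧ ∀ η ∈ (U : Set S)ᶜ, η ⤳ γ → η = γ} ∩ (V₁ : Set S)ᶜ =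
        {γ : S | γ ∈ (U : Set S)ᶜ ∧ ∀ η ∈ (U : Set S)ᶜ, η ⤳ γ → η = γ} ∩ (V₂ : Set S)ᶜ := h
    have e3 : ((V₁ : Set S)ᶜ) = ((V₂ : Set S)ᶜ) := by
      refine e1.trans (Eq.trans ?_ e2.symm)
      rw [h']
    exact SetLike.coe_injective (compl_injective e3)

end Helpers

open AlgebraicGeometry in
/-- For a Noetherian scheme S that is separated, and a dense open subset U ⊆ S that is not empty, only
finitely many open subsets V ⊇ U have an affine inclusion morphism V → S, and among them there is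
one contained in all the others (a least element for inclusion). -/
theorem result
    (S : Scheme.{u}) [IsNoetherian S] [S.IsSeparated] (U : S.Opens)
    (hne : (U : Set S).Nonempty) (hU : Dense (U : Set S)) :
    Set.Finite {V : S.Opens | U ≤ V ∧ IsAffineHom V.ι} ∧
      ∃ V₀ : S.Opens, (U ≤ V₀ ∧ IsAffineHom V₀.ι) ∧
        ∀ V : S.Opens, U ≤ V → IsAffineHom V.ι → V₀ ≤ V := by
  classical
  have hchar := fun V : S.Opens => affineHom_iff13043 (S := S) V
  have hinf : ∀ V₁ V₂ : S.Opens, IsAffineHom V₁.ι → IsAffineHom V₂.ι →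
      IsAffineHom (V₁ ⊓ V₂).ι := by
    intro V₁ V₂ h₁ h₂
    rw [hchar] at h₁ h₂ ⊢
    intro W hW
    have h3 := h₂ _ (h₁ W hW)
    have e : V₁ ⊓ V₂ ⊓ W = V₂ ⊓ (V₁ ⊓ W) := by
      rw [inf_comm V₁ V₂, inf_assoc]
    rw [e]; exact h3
  have htop : IsAffineHom (⊤ : S.Opens).ι := by
    rw [hchar]; intro W hW; rwa [top_inf_eq]
  have hfin : Set.Finite {V : S.Opens | U ≤ V ∧ IsAffineHom V.ι} := finite13043 S U hU
  refine ⟨hfin, hfin.toFinset.inf id, ?_, ?_⟩
  · refine Finset.inf_induction (p := fun V : S.Opens => U ≤ V ∧ IsAffineHom V.ι)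
      ⟨le_top, htop⟩ ?_ ?_
    · rintro a ⟨ha1, ha2⟩ b ⟨hb1, hb2⟩
      exact ⟨le_inf ha1 hb1, hinf a b ha2 hb2⟩
    · intro b hb
      exact (Set.Finite.mem_toFinset hfin).mp hb
  · intro V hV1 hV2
    exact Finset.inf_le (f := id) ((Set.Finite.mem_toFinset hfin).mpr ⟨hV1, hV2⟩)

end Groth.Agent.S13043
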