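import Mathlib
import Groth.Statements.S13044
-- import your own Groth.Agent.* helpers here

set_option autoImplicit false
universe u
open MaxMod

namespace Groth.Agent.S13044


open CategoryTheory CategoryTheory.Limits AlgebraicGeometry

theorem lift_of_std {W A B Z : Scheme.{u}} (j : W ⟶ A) [IsSchemeTheoreticallyDominant j]
    (g : A ⟶ B) (i : Z ⟶ B) [IsClosedImmersion i] (c : W ⟶ Z) (hc : c ≫ i = j ≫ g) :
    ∃ δ : A ⟶ Z, δ ≫ i = g := by
  obtain ⟨k, hk⟩ : ∃ k, k = pullback.fst g i := ⟨_, rfl⟩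
  haveI : IsClosedImmersion k := by rw [hk]; infer_instance
  obtain ⟨l, hl⟩ : ∃ l, l ≫ k = j :=
    ⟨pullback.lift j c hc.symm, by rw [hk]; exact pullback.lift_fst _ _ _⟩
  haveI : IsIso k := by
    rw [IsClosedImmersion.isIso_iff_ker_eq_bot, ← le_bot_iff]
    calc k.ker ≤ (l ≫ k).ker := Scheme.Hom.le_ker_comp _ _
      _ = j.ker := by rw [hl]
      _ = ⊥ := Scheme.Hom.ker_eq_bot j
  refine ⟨inv k ≫ pullback.snd g i, ?_⟩
  rw [Category.assoc, ← pullback.condition, ← hk, IsIso.inv_hom_id_assoc]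

open CategoryTheory Limits AlgebraicGeometry in
/-- Let R be a discrete valuation ring with fraction field K, let Y be a flat separated R-scheme and let
Γ → Y ×_R Y be a closed subscheme, with projections p₁, p₂ : Γ → Y, such that Γ is flat over R
(equivalently, Γ is the schematic closure of its generic fibre) and p₁, p₂ are flat. If for every
scheme T over Spec K the relation on the T-valued points of Y defined by the T-valued points of Γ is
an equivalence relation, then for every scheme T over Spec R that relation is an equivalence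
relation: Γ is a flat equivalence relation on Y. -/
theorem result
    (R K : Type u) [CommRing R] [IsDomain R] [IsDiscreteValuationRing R]
    [Field K] [Algebra R K] [IsFractionRing R K]
    (Y Γ : Scheme.{u}) (f : Y ⟶ Spec (CommRingCat.of R)) [IsSeparated f] [Flat f]
    (p₁ p₂ : Γ ⟶ Y) (h : p₁ ≫ f = p₂ ≫ f)
    (hΓ : IsClosedImmersion (pullback.lift p₁ p₂ h))
    [Flat (p₁ ≫ f)] [Flat p₁] [Flat p₂]
    (hK : ∀ (T : Scheme.{u}) (t : T ⟶ Spec (CommRingCat.of R)),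
      (∃ s : T ⟶ Spec (CommRingCat.of K), t = s ≫ Spec.map (CommRingCat.ofHom (algebraMap R K))) →
      _root_.Equivalence fun a b : {a : T ⟶ Y // a ≫ f = t} =>
        ∃ c : T ⟶ Γ, c ≫ p₁ = a.1 ∧ c ≫ p₂ = b.1) :
    ∀ (T : Scheme.{u}) (t : T ⟶ Spec (CommRingCat.of R)),
      _root_.Equivalence fun a b : {a : T ⟶ Y // a ≫ f = t} =>
        ∃ c : T ⟶ Γ, c ≫ p₁ = a.1 ∧ c ≫ p₂ = b.1 := by
  obtain ⟨η, hη⟩ : ∃ η, η = Spec.map (CommRingCat.ofHom (algebraMap R K)) := ⟨_, rfl⟩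
  rw [← hη] at hK
  haveI hdom : IsDominant η := by
    rw [hη]
    constructor
    have hinj : Function.Injective (algebraMap R K) := IsFractionRing.injective R K
    refine (PrimeSpectrum.denseRange_comap_iff_ker_le_nilRadical (f := algebraMap R K)).mpr ?_
    rw [(RingHom.injective_iff_ker_eq_bot _).mp hinj]
    exact bot_le
  haveI hqc : QuasiCompact η := by rw [hη]; infer_instance
  haveI : IsSchemeTheoreticallyDominant η := IsSchemeTheoreticallyDominant.of_isDominant _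
  obtain ⟨i, hi⟩ : ∃ i, i = pullback.lift p₁ p₂ h := ⟨_, rfl⟩
  haveI : IsClosedImmersion i := by rw [hi]; exact hΓ
  have hi1 : i ≫ pullback.fst f f = p₁ := by rw [hi]; exact pullback.lift_fst _ _ _
  have hi2 : i ≫ pullback.snd f f = p₂ := by rw [hi]; exact pullback.lift_snd _ _ _
  have key : ∀ (X : Scheme.{u}) (q : X ⟶ Spec (CommRingCat.of R)) [Flat q] (a b : X ⟶ Y)
      (ha : a ≫ f = q) (hb : b ≫ f = q),
      (∃ c : pullback q η ⟶ Γ, c ≫ p₁ = pullback.fst q η ≫ a ∧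
        c ≫ p₂ = pullback.fst q η ≫ b) →
      ∃ δ : X ⟶ Γ, δ ≫ p₁ = a ∧ δ ≫ p₂ = b := by
    intro X q _ a b ha hb ⟨c, hc1, hc2⟩
    haveI : IsSchemeTheoreticallyDominant (pullback.fst q η) := inferInstance
    obtain ⟨δ, hδ⟩ := lift_of_std (pullback.fst q η)
      (pullback.lift a b (by rw [ha, hb])) i c (by
        apply pullback.hom_ext
        · rw [Category.assoc, hi1, Category.assoc, pullback.lift_fst, hc1]
        · rw [Category.assoc, hi2, Category.assoc, pullback.lift_snd, hc2])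
    refine ⟨δ, ?_, ?_⟩
    · rw [← hi1, ← Category.assoc, hδ, pullback.lift_fst]
    · rw [← hi2, ← Category.assoc, hδ, pullback.lift_snd]
  -- reflexivity section
  obtain ⟨δ, hδ1, hδ2⟩ : ∃ δ : Y ⟶ Γ, δ ≫ p₁ = 𝟙 Y ∧ δ ≫ p₂ = 𝟙 Y := by
    apply key Y f (𝟙 Y) (𝟙 Y) (Category.id_comp _) (Category.id_comp _)
    have hE := hK (pullback f η) (pullback.fst f η ≫ f) ⟨pullback.snd f η, pullback.condition⟩
    obtain ⟨c, hc1, hc2⟩ := hE.refl ⟨pullback.fst f η, rfl⟩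
    exact ⟨c, by rw [hc1, Category.comp_id], by rw [hc2, Category.comp_id]⟩
  -- symmetry
  obtain ⟨σ, hσ1, hσ2⟩ : ∃ σ : Γ ⟶ Γ, σ ≫ p₁ = p₂ ∧ σ ≫ p₂ = p₁ := by
    apply key Γ (p₁ ≫ f) p₂ p₁ h.symm rfl
    have hE := hK (pullback (p₁ ≫ f) η) (pullback.fst (p₁ ≫ f) η ≫ p₁ ≫ f)
      ⟨pullback.snd _ η, pullback.condition⟩
    exact hE.symm (x := ⟨pullback.fst (p₁ ≫ f) η ≫ p₁, by rw [Category.assoc]⟩)
      (y := ⟨pullback.fst (p₁ ≫ f) η ≫ p₂, by rw [Category.assoc, h]⟩)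
      ⟨pullback.fst _ η, rfl, rfl⟩
  -- transitivity
  haveI : Flat (pullback.fst p₂ p₁ ≫ p₁ ≫ f) := inferInstance
  have hcond2 : pullback.snd p₂ p₁ ≫ p₂ ≫ f = pullback.fst p₂ p₁ ≫ p₁ ≫ f := by
    rw [← h, ← Category.assoc, ← pullback.condition, Category.assoc, ← h]
  obtain ⟨τ, hτ1, hτ2⟩ : ∃ τ : pullback p₂ p₁ ⟶ Γ,
      τ ≫ p₁ = pullback.fst p₂ p₁ ≫ p₁ ∧ τ ≫ p₂ = pullback.snd p₂ p₁ ≫ p₂ := by
    apply key (pullback p₂ p₁) (pullback.fst p₂ p₁ ≫ p₁ ≫ f) _ _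
      (by rw [Category.assoc]) (by rw [Category.assoc, hcond2])
    obtain ⟨P, hP⟩ : ∃ P, P = pullback.fst (pullback.fst p₂ p₁ ≫ p₁ ≫ f) η := ⟨_, rfl⟩
    rw [← hP]
    have hE := hK _ (P ≫ pullback.fst p₂ p₁ ≫ p₁ ≫ f)
      ⟨pullback.snd _ η, by rw [hP]; exact pullback.condition⟩
    exact hE.trans (x := ⟨P ≫ pullback.fst p₂ p₁ ≫ p₁, by simp only [Category.assoc]⟩)
      (y := ⟨P ≫ pullback.fst p₂ p₁ ≫ p₂, by simp only [Category.assoc, h]⟩)
      (z := ⟨P ≫ pullback.snd p₂ p₁ ≫ p₂, by simp only [Category.assoc, hcond2]⟩)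
      ⟨P ≫ pullback.fst p₂ p₁, by
        show (P ≫ pullback.fst p₂ p₁) ≫ p₁ = P ≫ pullback.fst p₂ p₁ ≫ p₁
        rw [Category.assoc], by
        show (P ≫ pullback.fst p₂ p₁) ≫ p₂ = P ≫ pullback.fst p₂ p₁ ≫ p₂
        rw [Category.assoc]⟩
      ⟨P ≫ pullback.snd p₂ p₁, by
        show (P ≫ pullback.snd p₂ p₁) ≫ p₁ = P ≫ pullback.fst p₂ p₁ ≫ p₂
        rw [Category.assoc, pullback.condition], by
        show (P ≫ pullback.snd p₂ p₁) ≫ p₂ = P ≫ pullback.snd p₂ p₁ ≫ p₂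
        rw [Category.assoc]⟩
  intro T t
  refine ⟨fun a => ⟨a.1 ≫ δ, by rw [Category.assoc, hδ1, Category.comp_id],
    by rw [Category.assoc, hδ2, Category.comp_id]⟩, ?_, ?_⟩
  · rintro a b ⟨c, hc1, hc2⟩
    exact ⟨c ≫ σ, by rw [Category.assoc, hσ1, hc2], by rw [Category.assoc, hσ2, hc1]⟩
  · rintro a b c ⟨c₁, h11, h12⟩ ⟨c₂, h21, h22⟩
    refine ⟨pullback.lift c₁ c₂ (by rw [h12, h21]) ≫ τ, ?_, ?_⟩
    · rw [Category.assoc, hτ1, pullback.lift_fst_assoc, h11]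
    · rw [Category.assoc, hτ2, pullback.lift_snd_assoc, h22]

end Groth.Agent.S13044
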