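import Groth.Statements.S13049
import Mathlib

set_option autoImplicit false
universe u
open FrobAlg

namespace Groth.Agent.S13049

/-- Let p be a prime and A a commutative ring of characteristic p whose nilradical N satisfies x^(p^e) =
0 for all x ∈ N and some fixed e (for instance A Noetherian). Then the map between the inverse-limit
perfections along the absolute Frobenius, lim (⋯ → A → A) → lim (⋯ → A/N → A/N), induced by the
projection A → A/N, is bijective. (The published argument takes A of finite type over a field, where
the nilradical is finitely generated; this row assumes only that the nilradical is killed by one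
fixed iterate of Frobenius, which is all that argument uses.) -/
theorem result
    (p : ℕ) [Fact p.Prime] (A : Type u) [CommRing A] [CharP A p]
    [CharP (A ⧸ nilradical A) p] (e : ℕ) (he : ∀ x ∈ nilradical A, x ^ p ^ e = 0) :
    Function.Bijective (Perfection.map p (Ideal.Quotient.mk (nilradical A))) := by
  have hpow : ∀ a b : A, a - b ∈ nilradical A → a ^ p ^ e = b ^ p ^ e := by
    intro a b hab
    have h := he _ hab
    rw [sub_pow_char_pow] at h
    exact sub_eq_zero.mp h
  have hcoeff : ∀ (f : Perfection A p) (n : ℕ),
      Perfection.coeff A p (n + e) f ^ p ^ e = Perfection.coeff A p n f := fun f n =>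
    Perfection.coeffMonoidHom_pow_p_pow' (M := A) (p := p) f n e
  have hcoeff' : ∀ (g : Perfection (A ⧸ nilradical A) p) (n : ℕ),
      Perfection.coeff (A ⧸ nilradical A) p (n + e) g ^ p ^ e =
        Perfection.coeff (A ⧸ nilradical A) p n g := fun g n =>
    Perfection.coeffMonoidHom_pow_p_pow' (M := A ⧸ nilradical A) (p := p) g n e
  constructor
  · intro f g hfg
    apply Perfection.ext
    intro n
    rw [← hcoeff f n, ← hcoeff g n]
    apply hpow
    have h := congrArg (Perfection.coeff (A ⧸ nilradical A) p (n + e)) hfg
    rw [Perfection.coeff_map, Perfection.coeff_map] at h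
    exact Ideal.Quotient.eq.mp h
  · intro g
    choose a ha using fun n =>
      Ideal.Quotient.mk_surjective (Perfection.coeff (A ⧸ nilradical A) p n g)
    refine ⟨⟨fun n => a (n + e) ^ p ^ e, ?_⟩, ?_⟩
    · intro n
      show (a (n + 1 + e) ^ p ^ e) ^ p = a (n + e) ^ p ^ e
      rw [← pow_mul, mul_comm, pow_mul]
      apply hpow
      rw [← Ideal.Quotient.eq, map_pow, ha, ha]
      have h1 : n + 1 + e = (n + e) + 1 := by ring
      rw [h1]
      exact Perfection.coeff_pow_p' g (n + e)
    · apply Perfection.ext
      intro n
      rw [Perfection.coeff_map, Perfection.coeff_mk, map_pow, ha]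
      exact hcoeff' g n

end Groth.Agent.S13049
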