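import Groth.Statements.S13051
import Mathlib
import Groth.Agent.Lib.Helper8.ZetaFormal

set_option autoImplicit false
universe u
open CategoryTheory AlgebraicGeometry
open Zeta

namespace Groth.Agent.S13051

/-- For a scheme X of finite type over a finite field k, Z(X, t) = ∏ over the closed points x of (1 −
t^{deg x})^{−1}, that is ∏_{r ≥ 1} (1 − t^r)^{−a_r} with a_r the number of closed points of residue
degree r; equivalently, for every n the product Z(X, t) · ∏_{r = 1}^{n} (1 − t^r)^{a_r} is ≡ 1
modulo t^{n+1}. In particular Z(X, t) has integer coefficients. (Stated for any scheme of finite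
type over k; reducedness plays no role.) -/
theorem result {k : Type u} [Field k] [Finite k] {X : Scheme.{u}}
    (f : X ⟶ Spec (CommRingCat.of k)) [LocallyOfFiniteType f] [QuasiCompact f] :
    (∀ n : ℕ, PowerSeries.trunc (n + 1)
        (Zeta.zetaFun f * ∏ r ∈ Finset.Icc 1 n, (1 - PowerSeries.X ^ r) ^ Zeta.degCount f r) = 1) ∧
      ∀ n : ℕ, ∃ z : ℤ, PowerSeries.coeff n (Zeta.zetaFun f) = (z : ℚ) := by
  classical
  open Groth.Agent.Helper8.ZetaFormal in
  set Lg : PowerSeries ℚ := Zeta.logZeta f with hLg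
  have hLg0 : PowerSeries.constantCoeff Lg = 0 := by
    simp [hLg, Zeta.logZeta]
  have hZ : Zeta.zetaFun f = PowerSeries.subst Lg (PowerSeries.exp ℚ) := rfl
  have hdLg : ∀ n, PowerSeries.coeff n (PowerSeries.derivative ℚ Lg) = (Zeta.nPts f (n + 1) : ℚ) := by
    intro n
    rw [PowerSeries.coeff_derivative, hLg, Zeta.logZeta, PowerSeries.coeff_mk]
    have h3 : ((n : ℚ) + 1) ≠ 0 := Nat.cast_add_one_ne_zero n
    push_cast
    field_simp
  have hdZ : PowerSeries.derivative ℚ (Zeta.zetaFun f) =
      PowerSeries.derivative ℚ Lg * Zeta.zetaFun f := by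
    rw [hZ]; exact derivative_exp_subst hLg0
  set v : ℕ → PowerSeries ℚ :=
    fun r => PowerSeries.mk (fun j => if r ∣ j then (1 : ℚ) else 0) with hv
  set g : ℕ → PowerSeries ℚ := fun r => 1 - PowerSeries.X ^ r with hg
  set c : ℕ → PowerSeries ℚ :=
    fun r => PowerSeries.C (-(r : ℚ)) * PowerSeries.X ^ (r - 1) * v r with hc
  have hgc : ∀ r, 1 ≤ r → PowerSeries.derivative ℚ (g r) = c r * g r :=
    fun r hr => derivative_one_sub_X_pow r hr
  have hW : ∀ n, PowerSeries.derivative ℚ
      (Zeta.zetaFun f * ∏ r ∈ Finset.Icc 1 n, g r ^ Zeta.degCount f r) =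
      (PowerSeries.derivative ℚ Lg +
        ∑ r ∈ Finset.Icc 1 n, (Zeta.degCount f r : PowerSeries ℚ) * c r) *
        (Zeta.zetaFun f * ∏ r ∈ Finset.Icc 1 n, g r ^ Zeta.degCount f r) :=
    fun n => ld_mul hdZ (ld_prod _ _ _ fun r hr =>
      ld_pow (hgc r (Finset.mem_Icc.mp hr).1) (Zeta.degCount f r))
  have hG : ∀ n j, j < n → PowerSeries.coeff j (PowerSeries.derivative ℚ Lg +
        ∑ r ∈ Finset.Icc 1 n, (Zeta.degCount f r : PowerSeries ℚ) * c r) = 0 := by
    intro n j hj
    rw [map_add, hdLg, map_sum]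
    have h1 : ∀ r ∈ Finset.Icc 1 n,
        PowerSeries.coeff j ((Zeta.degCount f r : PowerSeries ℚ) * c r) =
          if r ∣ j + 1 then -((r : ℚ) * (Zeta.degCount f r : ℚ)) else 0 := by
      intro r hr
      have hr1 := (Finset.mem_Icc.mp hr).1
      rw [← map_natCast (PowerSeries.C (R := ℚ)) (Zeta.degCount f r), hc]
      simp only []
      rw [mul_assoc, PowerSeries.coeff_C_mul, PowerSeries.coeff_C_mul,
        coeff_X_pow_pred_mul_dvdSeries r hr1 j]
      split_ifs <;> ring
    rw [Finset.sum_congr rfl h1, Finset.sum_ite, Finset.sum_const_zero, add_zero]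
    have h2 : (Finset.Icc 1 n).filter (fun r => r ∣ j + 1) = (j + 1).divisors := by
      ext r
      simp only [Finset.mem_filter, Finset.mem_Icc, Nat.mem_divisors]
      constructor
      · rintro ⟨_, h⟩; exact ⟨h, by omega⟩
      · rintro ⟨h, _⟩
        have h3 := Nat.le_of_dvd (Nat.succ_pos j) h
        have h4 : r ≠ 0 := by
          rintro rfl
          simp at h
        exact ⟨⟨by omega, by omega⟩, h⟩
    rw [h2, Zeta.nPts]
    push_cast
    rw [← Finset.sum_add_distrib]
    apply Finset.sum_eq_zero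
    intro r _
    ring
  have hg0 : ∀ n, ∀ r ∈ Finset.Icc 1 n,
      PowerSeries.constantCoeff (g r ^ Zeta.degCount f r) = 1 := by
    intro n r hr
    have hr1 := (Finset.mem_Icc.mp hr).1
    have : PowerSeries.constantCoeff (g r) = 1 := by
      rw [hg]
      simp only [map_sub, map_one, map_pow, PowerSeries.constantCoeff_X]
      rw [zero_pow (by omega), sub_zero]
    rw [map_pow, this, one_pow]
  have hW0 : ∀ n, PowerSeries.constantCoeff
      (Zeta.zetaFun f * ∏ r ∈ Finset.Icc 1 n, g r ^ Zeta.degCount f r) = 1 := by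
    intro n
    rw [map_mul, map_prod, hZ, constantCoeff_exp_subst hLg0, Finset.prod_congr rfl (hg0 n),
      Finset.prod_const_one, one_mul]
  have hWj : ∀ n j, 1 ≤ j → j ≤ n → PowerSeries.coeff j
      (Zeta.zetaFun f * ∏ r ∈ Finset.Icc 1 n, g r ^ Zeta.degCount f r) = 0 :=
    fun n => coeff_eq_zero_of_ld (hW n) n (hG n)
  refine ⟨fun n => ?_, fun n => ?_⟩
  · ext j
    rw [PowerSeries.coeff_trunc, Polynomial.coeff_one]
    split_ifs with h1 h2 h2
    · subst h2
      rw [PowerSeries.coeff_zero_eq_constantCoeff_apply]; exact hW0 n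
    · exact hWj n j (by omega) (by omega)
    · omega
    · rfl
  · set W := Zeta.zetaFun f * ∏ r ∈ Finset.Icc 1 n, g r ^ Zeta.degCount f r with hWdef
    set Vn := ∏ r ∈ Finset.Icc 1 n, v r ^ Zeta.degCount f r with hVn
    have hgv : (∏ r ∈ Finset.Icc 1 n, g r ^ Zeta.degCount f r) * Vn = 1 := by
      rw [hVn, ← Finset.prod_mul_distrib]
      apply Finset.prod_eq_one
      intro r hr
      rw [← mul_pow]
      have := one_sub_X_pow_mul_dvdSeries r (Finset.mem_Icc.mp hr).1
      rw [show g r * v r = 1 from this, one_pow]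
    have hZW : Zeta.zetaFun f = W * Vn := by rw [hWdef, mul_assoc, hgv, mul_one]
    have hcoef : PowerSeries.coeff n (Zeta.zetaFun f) = PowerSeries.coeff n Vn := by
      rw [hZW, PowerSeries.coeff_mul, Finset.sum_eq_single (0, n)]
      · rw [PowerSeries.coeff_zero_eq_constantCoeff_apply, hW0 n, one_mul]
      · intro p hp hne
        have hp' := Finset.HasAntidiagonal.mem_antidiagonal.mp hp
        have h1 : p.1 ≠ 0 := by
          intro h
          apply hne
          have h2 : p.2 = n := by omega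
          exact Prod.ext h h2
        rw [hWj n p.1 (by omega) (by omega), zero_mul]
      · intro h
        exact absurd (Finset.HasAntidiagonal.mem_antidiagonal.mpr (by simp)) h
    set VZ : PowerSeries ℤ := ∏ r ∈ Finset.Icc 1 n,
      (PowerSeries.mk (fun j => if r ∣ j then (1 : ℤ) else 0)) ^ Zeta.degCount f r with hVZ
    have hmap : PowerSeries.map (Int.castRingHom ℚ) VZ = Vn := by
      rw [hVZ, hVn, map_prod]
      refine Finset.prod_congr rfl fun r _ => ?_
      rw [map_pow]
      congr 1
      ext j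
      rw [PowerSeries.coeff_map, PowerSeries.coeff_mk, hv]
      simp only [PowerSeries.coeff_mk]
      split_ifs <;> simp
    refine ⟨PowerSeries.coeff n VZ, ?_⟩
    rw [hcoef, ← hmap, PowerSeries.coeff_map]
    rfl

end Groth.Agent.S13051
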