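import Groth.Statements.S13055
import Mathlib
import Groth.Agent.Lib.Helper8.ZetaFormal

set_option autoImplicit false
universe u
open CategoryTheory AlgebraicGeometry
open Zeta

namespace Groth.Agent.S13055

/-- Let X be a scheme of finite type over a finite field k with q elements and P = a_d y^d + ⋯ + a_0 ∈
ℤ[y] with N_m = P(q^m) for every m ≥ 1 (X is of polynomial count). Then Z(X, t) = ∏_{i = 0}^{d} (1 −
q^i t)^{−a_i}; stated cleared of denominators, with the factors of positive exponent moved to the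
left. -/
theorem result {k : Type u} [Field k] [Finite k] {X : Scheme.{u}}
    (f : X ⟶ Spec (CommRingCat.of k)) [LocallyOfFiniteType f] [QuasiCompact f] (P : Polynomial ℤ)
    (hP : ∀ m : ℕ, 1 ≤ m → (Zeta.nPts f m : ℤ) = P.eval ((Nat.card k : ℤ) ^ m)) :
    Zeta.zetaFun f * ∏ i ∈ Finset.range (P.natDegree + 1),
        (1 - PowerSeries.C ((Nat.card k : ℚ) ^ i) * PowerSeries.X) ^ (P.coeff i).toNat =
      ∏ i ∈ Finset.range (P.natDegree + 1),
        (1 - PowerSeries.C ((Nat.card k : ℚ) ^ i) * PowerSeries.X) ^ (-P.coeff i).toNat := by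
  classical
  open Groth.Agent.Helper8.ZetaFormal in
  open PowerSeries in
  set q : ℚ := (Nat.card k : ℚ) with hq
  set Lg : PowerSeries ℚ := Zeta.logZeta f with hLg
  have hLg0 : PowerSeries.constantCoeff Lg = 0 := by
    simp [hLg, Zeta.logZeta]
  have hZ : Zeta.zetaFun f = PowerSeries.subst Lg (PowerSeries.exp ℚ) := rfl
  -- derivative of the log
  have hdLg : ∀ n, PowerSeries.coeff n (PowerSeries.derivative ℚ Lg) = (Zeta.nPts f (n + 1) : ℚ) := by
    intro n
    rw [PowerSeries.coeff_derivative, hLg, Zeta.logZeta, PowerSeries.coeff_mk]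
    have h3 : ((n : ℚ) + 1) ≠ 0 := Nat.cast_add_one_ne_zero n
    push_cast
    field_simp
  have hN : ∀ n : ℕ, (Zeta.nPts f (n + 1) : ℚ) =
      ∑ i ∈ Finset.range (P.natDegree + 1), (P.coeff i : ℚ) * (q ^ (n + 1)) ^ i := by
    intro n
    have h1 := hP (n + 1) (by omega)
    have h2 : ((Zeta.nPts f (n + 1) : ℤ) : ℚ) = ((P.eval ((Nat.card k : ℤ) ^ (n + 1)) : ℤ) : ℚ) := by
      rw [h1]
    rw [Polynomial.eval_eq_sum_range] at h2
    push_cast at h2
    rw [h2]
  set g : ℕ → PowerSeries ℚ := fun i => 1 - PowerSeries.C (q ^ i) * PowerSeries.X with hg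
  set c : ℕ → PowerSeries ℚ :=
    fun i => PowerSeries.C (-(q ^ i)) * PowerSeries.mk (fun n => (q ^ i) ^ n) with hc
  have hgc : ∀ i, PowerSeries.derivative ℚ (g i) = c i * g i := fun i =>
    derivative_one_sub_C_mul_X (q ^ i)
  set α : ℕ → ℕ := fun i => (P.coeff i).toNat with hα
  set β : ℕ → ℕ := fun i => (-P.coeff i).toNat with hβ
  have hab : ∀ i, (P.coeff i : ℚ) = (α i : ℚ) - (β i : ℚ) := by
    intro i
    have := Int.toNat_sub_toNat_neg (P.coeff i)
    have h2 := congrArg (Int.cast : ℤ → ℚ) this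
    push_cast at h2
    show (P.coeff i : ℚ) = ((P.coeff i).toNat : ℚ) - ((-P.coeff i).toNat : ℚ)
    exact h2.symm
  have hdA : PowerSeries.derivative ℚ (∏ i ∈ Finset.range (P.natDegree + 1), g i ^ α i) =
      (∑ i ∈ Finset.range (P.natDegree + 1), (α i : PowerSeries ℚ) * c i) *
        ∏ i ∈ Finset.range (P.natDegree + 1), g i ^ α i :=
    ld_prod _ _ _ fun i _ => ld_pow (hgc i) (α i)
  have hdB : PowerSeries.derivative ℚ (∏ i ∈ Finset.range (P.natDegree + 1), g i ^ β i) =
      (∑ i ∈ Finset.range (P.natDegree + 1), (β i : PowerSeries ℚ) * c i) *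
        ∏ i ∈ Finset.range (P.natDegree + 1), g i ^ β i :=
    ld_prod _ _ _ fun i _ => ld_pow (hgc i) (β i)
  have hdZ : PowerSeries.derivative ℚ (Zeta.zetaFun f) =
      PowerSeries.derivative ℚ Lg * Zeta.zetaFun f := by
    rw [hZ]; exact derivative_exp_subst hLg0
  have hdy := ld_mul hdZ hdA
  have hcoef : ∀ (γ : ℕ → ℕ) (n : ℕ), PowerSeries.coeff n
      (∑ i ∈ Finset.range (P.natDegree + 1), (γ i : PowerSeries ℚ) * c i) =
      ∑ i ∈ Finset.range (P.natDegree + 1), (γ i : ℚ) * (-(q ^ i) * (q ^ i) ^ n) := by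
    intro γ n
    rw [map_sum]
    refine Finset.sum_congr rfl fun i _ => ?_
    rw [← map_natCast (PowerSeries.C (R := ℚ)) (γ i), hc]
    simp only [PowerSeries.coeff_C_mul, PowerSeries.coeff_mk]
  have hkey : PowerSeries.derivative ℚ Lg +
      ∑ i ∈ Finset.range (P.natDegree + 1), (α i : PowerSeries ℚ) * c i =
      ∑ i ∈ Finset.range (P.natDegree + 1), (β i : PowerSeries ℚ) * c i := by
    ext n
    rw [map_add, hdLg, hN, hcoef, hcoef, ← Finset.sum_add_distrib]
    refine Finset.sum_congr rfl fun i _ => ?_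
    rw [hab i]
    ring
  rw [hkey] at hdy
  apply Groth.Agent.Helper8.CharpolyRevTrace.ode_unique _ _ _ hdy hdB
  have hg0 : ∀ i, PowerSeries.constantCoeff (g i) = 1 := by
    intro i; simp [hg]
  rw [PowerSeries.coeff_zero_eq_constantCoeff_apply, PowerSeries.coeff_zero_eq_constantCoeff_apply,
    map_mul, map_prod, map_prod, hZ, constantCoeff_exp_subst hLg0]
  simp [hg0]

end Groth.Agent.S13055
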