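import Groth.Statements.S13056
import Mathlib
import Groth.Agent.Lib.Helper8.CharpolyRevTrace

set_option autoImplicit false
universe u v
open Zeta

namespace Groth.Agent.S13056

/-- For an endomorphism φ of a finite-dimensional vector space over a field K, det(Id − tφ) = exp(−∑_{m
≥ 1} tr(φ^m) t^m / m) as power series in t. Stated for a square matrix M, with det(1 − tM) Mathlib's
reversed characteristic polynomial, and over a field of characteristic zero (the exponential series
needs ℚ ⊆ K; this is the case in which the identity is used). -/
theorem result {K : Type u} [Field K] [CharZero K]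
    {n : Type v} [Fintype n] [DecidableEq n] (M : Matrix n n K) :
    ((M.charpolyRev : Polynomial K) : PowerSeries K) =
      PowerSeries.subst (PowerSeries.mk fun m : ℕ => -(Matrix.trace (M ^ m)) / (m : K))
        (PowerSeries.exp K) := by
  classical
  set g : PowerSeries K := PowerSeries.mk fun m : ℕ => -(Matrix.trace (M ^ m)) / (m : K) with hg
  have hg0 : PowerSeries.constantCoeff g = 0 := by
    simp [hg]
  have hsub : PowerSeries.HasSubst g := PowerSeries.HasSubst.of_constantCoeff_zero' hg0
  set τ : PowerSeries K := PowerSeries.mk (fun n => (M ^ (n + 1)).trace) with hτ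
  have hdg : PowerSeries.derivative K g = -τ := by
    ext n
    rw [PowerSeries.coeff_derivative, hg, hτ, map_neg, PowerSeries.coeff_mk, PowerSeries.coeff_mk]
    have h3 : ((n : K) + 1) ≠ 0 := Nat.cast_add_one_ne_zero n
    push_cast
    field_simp
  have hdF : PowerSeries.derivative K (PowerSeries.subst g (PowerSeries.exp K)) =
      (-τ) * PowerSeries.subst g (PowerSeries.exp K) := by
    rw [PowerSeries.derivative_subst hsub, PowerSeries.derivative_exp, hdg, mul_comm]
  have hdP : PowerSeries.derivative K ((M.charpolyRev : Polynomial K) : PowerSeries K) =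
      (-τ) * ((M.charpolyRev : Polynomial K) : PowerSeries K) := by
    rw [PowerSeries.derivative_coe,
      Groth.Agent.Helper8.CharpolyRevTrace.coe_derivative_charpolyRev M]
    ring
  apply Groth.Agent.Helper8.CharpolyRevTrace.ode_unique (-τ) _ _ hdP hdF
  rw [Polynomial.coeff_coe, Polynomial.coeff_zero_eq_eval_zero, Matrix.eval_charpolyRev]
  have h5 : PowerSeries.constantCoeff (PowerSeries.subst g (PowerSeries.exp K)) = 1 := by
    have h6 := PowerSeries.constantCoeff_subst hsub (PowerSeries.exp K)
    rw [finsum_eq_single _ 0] at h6
    · have h9 : MvPowerSeries.constantCoeff (PowerSeries.subst g (PowerSeries.exp K)) = 1 := by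
        simpa using h6
      exact h9
    · intro d hd
      have h7 : MvPowerSeries.constantCoeff (g ^ d) = 0 := by
        rw [map_pow]
        have h8 : MvPowerSeries.constantCoeff g = 0 := hg0
        rw [h8, zero_pow hd]
      rw [h7, smul_zero]
  rw [← PowerSeries.coeff_zero_eq_constantCoeff_apply] at h5
  exact h5.symm

end Groth.Agent.S13056
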