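import Groth.Statements.S13057
import Mathlib.RingTheory.PowerSeries.Trunc
import Mathlib.LinearAlgebra.Basis.VectorSpace
import Mathlib.Tactic

set_option autoImplicit false
universe u
open Zeta

namespace Groth.Agent.S13057

theorem coeff_mul_sum {L : Type u} [Field L] (f : PowerSeries L) {ι : Type*} (s : Finset ι)
    (c : ι → L) (e : ι → ℕ) (m : ℕ) :
    PowerSeries.coeff m (f * ((∑ j ∈ s, Polynomial.C (c j) * Polynomial.X ^ (e j) : Polynomial L) :
        PowerSeries L)) =
      ∑ j ∈ s, c j * (if e j ≤ m then PowerSeries.coeff (m - e j) f else 0) := by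
  have h1 : ((∑ j ∈ s, Polynomial.C (c j) * Polynomial.X ^ (e j) : Polynomial L) : PowerSeries L)
      = ∑ j ∈ s, PowerSeries.C (c j) * PowerSeries.X ^ (e j) := by
    rw [← Polynomial.coeToPowerSeries.ringHom_apply, map_sum]
    refine Finset.sum_congr rfl fun j _ => ?_
    simp
  rw [h1, Finset.mul_sum, map_sum]
  refine Finset.sum_congr rfl fun j _ => ?_
  rw [mul_left_comm, PowerSeries.coeff_C_mul, PowerSeries.coeff_mul_X_pow']

/-- A power series f = ∑_{m ≥ 0} a_m t^m over a field L lies in L(t), i.e. f · Q = P for some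
polynomials P, Q with Q ≠ 0, if and only if there are natural numbers M, N such that the vectors
(a_i, a_{i+1}, …, a_{i+N}) ∈ L^{N+1}, i ≥ M, span a proper subspace. -/
theorem result {L : Type u} [Field L]
    (f : PowerSeries L) :
    (∃ P Q : Polynomial L, Q ≠ 0 ∧ f * (Q : PowerSeries L) = (P : PowerSeries L)) ↔
      ∃ M N : ℕ, Submodule.span L
          {v : Fin (N + 1) → L | ∃ i : ℕ, M ≤ i ∧ v = fun j : Fin (N + 1) => PowerSeries.coeff (i + (j : ℕ)) f} ≠ ⊤ := by
  constructor
  · rintro ⟨P, Q, hQ, hPQ⟩
    refine ⟨P.natDegree + 1, Q.natDegree, ?_⟩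
    intro htop
    let lam : (Fin (Q.natDegree + 1) → L) →ₗ[L] L :=
      ∑ k : Fin (Q.natDegree + 1), Q.coeff (k : ℕ) • LinearMap.proj (Fin.rev k)
    have hlam : ∀ v, lam v = ∑ k : Fin (Q.natDegree + 1), Q.coeff (k : ℕ) * v (Fin.rev k) := by
      intro v
      simp [lam, LinearMap.sum_apply]
    have hker : Submodule.span L {v : Fin (Q.natDegree + 1) → L | ∃ i : ℕ, P.natDegree + 1 ≤ i ∧
        v = fun j : Fin (Q.natDegree + 1) => PowerSeries.coeff (i + (j : ℕ)) f} ≤
        LinearMap.ker lam := by
      rw [Submodule.span_le]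
      rintro v ⟨i, hi, rfl⟩
      rw [SetLike.mem_coe, LinearMap.mem_ker, hlam]
      have h2 : PowerSeries.coeff (i + Q.natDegree) (f * (Q : PowerSeries L)) = 0 := by
        rw [hPQ, Polynomial.coeff_coe]
        exact Polynomial.coeff_eq_zero_of_natDegree_lt (by omega)
      have h3 : PowerSeries.coeff (i + Q.natDegree) (f * ((∑ k ∈ Finset.range (Q.natDegree + 1),
          Polynomial.C (Q.coeff k) * Polynomial.X ^ k : Polynomial L) : PowerSeries L)) = 0 := by
        rw [← Q.as_sum_range_C_mul_X_pow]; exact h2
      rw [coeff_mul_sum, Finset.sum_range] at h3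
      rw [← h3]
      refine Finset.sum_congr rfl fun k _ => ?_
      have hk := k.2
      rw [if_pos (by omega), Fin.val_rev]
      have e1 : i + (Q.natDegree + 1 - ((k : ℕ) + 1)) = i + Q.natDegree - (k : ℕ) := by omega
      rw [e1]
    have h0 : lam (Pi.single 0 1) = 0 := by
      have : (Pi.single 0 1 : Fin (Q.natDegree + 1) → L) ∈ LinearMap.ker lam :=
        hker (htop ▸ Submodule.mem_top)
      exact this
    rw [hlam, Finset.sum_eq_single (Fin.last Q.natDegree)] at h0
    · rw [Fin.rev_last, Pi.single_eq_same, mul_one, Fin.val_last] at h0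
      exact hQ (Polynomial.leadingCoeff_eq_zero.mp h0)
    · intro k _ hk
      have : Fin.rev k ≠ 0 := by
        intro h
        apply hk
        rw [← Fin.rev_last] at h
        exact Fin.rev_injective h
      rw [Pi.single_eq_of_ne this, mul_zero]
    · intro h; exact absurd (Finset.mem_univ _) h
  · rintro ⟨M, N, hne⟩
    obtain ⟨lam, hlam0, hle⟩ := Submodule.exists_le_ker_of_lt_top _ (lt_top_iff_ne_top.mpr hne)
    set c : Fin (N + 1) → L := fun j => lam (Pi.single j 1) with hc
    have hlam : ∀ v, lam v = ∑ j, c j * v j := by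
      intro v
      rw [LinearMap.pi_apply_eq_sum_univ lam v]
      refine Finset.sum_congr rfl fun j _ => ?_
      rw [smul_eq_mul, mul_comm]
      congr 2
      ext j'
      simp [Pi.single_apply, eq_comm]
    have hcne : ∃ j, c j ≠ 0 := by
      by_contra hcon
      push Not at hcon
      apply hlam0
      refine LinearMap.ext fun v => ?_
      rw [hlam]; simp [hcon]
    obtain ⟨j0, hj0⟩ := hcne
    let Q : Polynomial L := ∑ j : Fin (N + 1), Polynomial.C (c j) * Polynomial.X ^ (N - (j : ℕ))
    have hQcoeff : Q.coeff (N - (j0 : ℕ)) = c j0 := by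
      simp only [Q, Polynomial.finsetSum_coeff, Polynomial.coeff_C_mul, Polynomial.coeff_X_pow]
      rw [Finset.sum_eq_single j0]
      · simp
      · intro j _ hj
        have : N - (j0:ℕ) ≠ N - (j:ℕ) := by
          intro h
          apply hj
          ext
          have := j.2; have := j0.2
          omega
        simp [this]
      · simp
    refine ⟨PowerSeries.trunc (M + N) (f * (Q : PowerSeries L)), Q, ?_, ?_⟩
    · intro hQ0
      rw [hQ0] at hQcoeff
      simp at hQcoeff
      exact hj0 hQcoeff.symm
    · ext m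
      rw [Polynomial.coeff_coe, PowerSeries.coeff_trunc]
      split_ifs with hm
      · rfl
      · push Not at hm
        obtain ⟨i, rfl⟩ : ∃ i, m = i + N := ⟨m - N, by omega⟩
        have hi : M ≤ i := by omega
        rw [coeff_mul_sum]
        have := hle (Submodule.subset_span ⟨i, hi, rfl⟩)
        rw [LinearMap.mem_ker, hlam] at this
        rw [← this]
        refine Finset.sum_congr rfl fun j _ => ?_
        have hj := j.2
        rw [if_pos (by omega)]
        have e1 : i + N - (N - (j : ℕ)) = i + (j : ℕ) := by omega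
        rw [e1]
end Groth.Agent.S13057
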