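import Groth.Statements.S13058
import Groth.Agent.S13057
import Mathlib.Tactic

set_option autoImplicit false
universe u v
open Zeta

namespace Groth.Agent.S13058

/-- If L'/L is a field extension, a power series f ∈ L⟦t⟧ belongs to L(t) exactly when it belongs to
L'(t); here membership in L(t) means f · Q = P for polynomials P, Q over the field in question with
Q ≠ 0. -/
theorem result {L : Type u} {L' : Type v} [Field L] [Field L']
    [Algebra L L'] (f : PowerSeries L) :
    (∃ P Q : Polynomial L', Q ≠ 0 ∧
        PowerSeries.map (algebraMap L L') f * (Q : PowerSeries L') = (P : PowerSeries L')) ↔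
      ∃ P Q : Polynomial L, Q ≠ 0 ∧ f * (Q : PowerSeries L) = (P : PowerSeries L) := by
  constructor
  · intro h
    rw [Groth.Agent.S13057.result] at h ⊢
    obtain ⟨M, N, hne⟩ := h
    refine ⟨M, N, fun htop => hne ?_⟩
    let φ : (Fin (N + 1) → L) →ₗ[L] (Fin (N + 1) → L') :=
      (Algebra.linearMap L L').compLeft (Fin (N + 1))
    set T := Submodule.span L' {v : Fin (N + 1) → L' | ∃ i : ℕ, M ≤ i ∧
      v = fun j : Fin (N + 1) =>
        PowerSeries.coeff (i + (j : ℕ)) (PowerSeries.map (algebraMap L L') f)} with hT
    have hle : Submodule.span L {v : Fin (N + 1) → L | ∃ i : ℕ, M ≤ i ∧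
        v = fun j : Fin (N + 1) => PowerSeries.coeff (i + (j : ℕ)) f} ≤
        (T.restrictScalars L).comap φ := by
      rw [Submodule.span_le]
      rintro v ⟨i, hi, rfl⟩
      show φ _ ∈ T
      apply Submodule.subset_span
      refine ⟨i, hi, ?_⟩
      ext j
      simp [φ, PowerSeries.coeff_map]
    rw [htop] at hle
    rw [Submodule.eq_top_iff']
    intro w
    have hw : w = ∑ j, w j • (Pi.single j (1 : L') : Fin (N + 1) → L') := by
      ext k
      simp [Finset.sum_apply, Pi.single_apply]
    rw [hw]
    refine Submodule.sum_mem _ fun j _ => Submodule.smul_mem _ _ ?_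
    have : φ (Pi.single j 1) ∈ T :=
      hle (Submodule.mem_top : (Pi.single j (1:L) : Fin (N+1) → L) ∈ ⊤)
    convert this using 1
    ext k
    simp only [φ, LinearMap.compLeft_apply, Function.comp_apply, Pi.single_apply,
      Algebra.linearMap_apply]
    split_ifs <;> simp
  · rintro ⟨P, Q, hQ, hPQ⟩
    refine ⟨P.map (algebraMap L L'), Q.map (algebraMap L L'), ?_, ?_⟩
    · rwa [Ne, Polynomial.map_eq_zero]
    · rw [Polynomial.polynomial_map_coe, Polynomial.polynomial_map_coe, ← map_mul, hPQ]
end Groth.Agent.S13058
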