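import Groth.Statements.S13059
import Mathlib.LinearAlgebra.Charpoly.ToMatrix
import Mathlib.LinearAlgebra.Matrix.Charpoly.Coeff
import Mathlib.LinearAlgebra.Dual.Basis
import Mathlib.LinearAlgebra.Dimension.Free

set_option autoImplicit false
universe u
open Zeta

namespace Groth.Agent.S13059

open Polynomial Matrix

/-- The polynomial identity at the level of matrices. -/
theorem matrix_identity {K : Type u} [Field K] {n : Type*} [Fintype n] [DecidableEq n]
    (F G : Matrix n n K) (c : K) (hc : c ≠ 0) (h : Fᵀ * G = c • (1 : Matrix n n K)) :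
    F.det • G.charpoly.reverse =
      ((-1) ^ Fintype.card n * c ^ Fintype.card n) • (c⁻¹ • F).charpoly := by
  rw [Matrix.reverse_charpoly, Matrix.charpolyRev, Matrix.charpoly, Matrix.charmatrix]
  -- left side
  have hL : F.det • det (1 - (X : K[X]) • G.map C) =
      det ((F.map C)ᵀ - (C c * X) • (1 : Matrix n n K[X])) := by
    have h1 : (C (F.det) : K[X]) = det ((F.map C)ᵀ) := by
      rw [Matrix.det_transpose]
      exact (RingHom.map_det C F)
    rw [Polynomial.smul_eq_C_mul, h1, ← Matrix.det_mul]
    congr 1
    rw [Matrix.mul_sub, Matrix.mul_one, Matrix.mul_smul]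
    have h2 : (F.map C)ᵀ * G.map C = (C c) • (1 : Matrix n n K[X]) := by
      have e : ((Fᵀ * G).map (C : K → K[X])) = (C c) • (1 : Matrix n n K[X]) := by
        rw [h]
        ext i j
        by_cases hij : i = j
        · subst hij; simp
        · simp [hij]
      rw [← e, Matrix.map_mul, Matrix.transpose_map]
    rw [h2, smul_smul, mul_comm]
  -- right side
  have hR : ((-1) ^ Fintype.card n * c ^ Fintype.card n) •
      det (Matrix.scalar n (X : K[X]) - (C : K →+* K[X]).mapMatrix (c⁻¹ • F)) =
      det (F.map C - (C c * X) • (1 : Matrix n n K[X])) := by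
    rw [Polynomial.smul_eq_C_mul, ← mul_pow, map_pow, ← Matrix.det_smul]
    congr 1
    refine Matrix.ext fun i j => ?_
    simp only [Matrix.smul_apply, Matrix.sub_apply, Matrix.scalar_apply, Matrix.diagonal_apply,
      RingHom.mapMatrix_apply, Matrix.map_apply, Matrix.one_apply, smul_eq_mul]
    split_ifs with hij
    · simp only [map_mul, map_neg, map_one]
      have : C c * C c⁻¹ = (1 : K[X]) := by rw [← C_mul, mul_inv_cancel₀ hc, C_1]
      linear_combination (C (F i j)) * this
    · simp only [map_mul, map_neg, map_one]
      have : C c * C c⁻¹ = (1 : K[X]) := by rw [← C_mul, mul_inv_cancel₀ hc, C_1]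
      linear_combination (C (F i j)) * this
  rw [hL, hR, ← Matrix.det_transpose]
  congr 1
  refine Matrix.ext fun i j => ?_
  by_cases hij : i = j
  · subst hij; simp
  · have : ¬ j = i := fun h => hij h.symm
    simp [hij, this]

/-- Let B : V × W → K be a perfect pairing of finite-dimensional vector spaces over a field K, c ∈ K
nonzero, and f, g endomorphisms of V, W with B(f v, g w) = c · B(v, w) for all v, w. Then det(Id − t
g) = (−1)^r c^r t^r det(f)^{−1} det(Id − c^{−1} t^{−1} f) with r the common dimension; stated
cleared of denominators as det(f) · det(Id − t g) = (−1)^r c^r · det(t Id − c^{−1} f) in K[t],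
det(Id − t g) being the reverse of the characteristic polynomial of g. -/
theorem result (K : Type u) [Field K] (V W : Type u)
    [AddCommGroup V] [Module K V] [FiniteDimensional K V] [AddCommGroup W] [Module K W]
    [FiniteDimensional K W] (B : V →ₗ[K] W →ₗ[K] K) [B.IsPerfPair] (f : V →ₗ[K] V) (g : W →ₗ[K] W)
    (c : K) (hc : c ≠ 0) (hfg : ∀ (v : V) (w : W), B (f v) (g w) = c * B v w) :
    LinearMap.det f • (LinearMap.charpoly g).reverse =
      ((-1) ^ Module.finrank K W * c ^ Module.finrank K W) • (c⁻¹ • f).charpoly := by
  classical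
  let bW : Module.Basis (Fin (Module.finrank K W)) K W := Module.finBasis K W
  let φ : V ≃ₗ[K] Module.Dual K W :=
    LinearEquiv.ofBijective B (LinearMap.IsPerfPair.bijective_left B)
  let bV : Module.Basis (Fin (Module.finrank K W)) K V := bW.dualBasis.map φ.symm
  have hB : ∀ i j, B (bV i) (bW j) = if j = i then 1 else 0 := by
    intro i j
    have : B (bV i) = bW.dualBasis i := by
      change φ (bV i) = _
      simp [bV]
    rw [this, Module.Basis.dualBasis_apply_self]
  let F := LinearMap.toMatrix bV bV f
  let G := LinearMap.toMatrix bW bW g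
  have hFG : Fᵀ * G = c • (1 : Matrix _ _ K) := by
    ext i j
    have hf : f (bV i) = ∑ k, F k i • bV k := by
      conv_lhs => rw [← bV.sum_repr (f (bV i))]
      simp [F, LinearMap.toMatrix_apply]
    have hg : g (bW j) = ∑ l, G l j • bW l := by
      conv_lhs => rw [← bW.sum_repr (g (bW j))]
      simp [G, LinearMap.toMatrix_apply]
    have h1 := hfg (bV i) (bW j)
    rw [hf, hg] at h1
    simp only [map_sum, map_smul, LinearMap.sum_apply, LinearMap.smul_apply, smul_eq_mul, hB] at h1
    have h2 : ∑ x, F x i * G x j = c * if j = i then 1 else 0 := by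
      rw [← h1]
      refine Finset.sum_congr rfl fun k _ => ?_
      simp [mul_comm]
    simp only [Matrix.mul_apply, Matrix.transpose_apply, Matrix.smul_apply, Matrix.one_apply,
      smul_eq_mul]
    rw [h2]
    by_cases hij : i = j
    · subst hij; simp
    · have : ¬ j = i := fun h => hij h.symm
      simp [hij, this]
  have key := matrix_identity F G c hc hFG
  rw [Fintype.card_fin] at key
  have e1 : F.det = LinearMap.det f := LinearMap.det_toMatrix bV f
  have e2 : G.charpoly = g.charpoly := LinearMap.charpoly_toMatrix g bW
  have e3 : (c⁻¹ • F).charpoly = (c⁻¹ • f).charpoly := by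
    rw [← LinearMap.charpoly_toMatrix (c⁻¹ • f) bV, map_smul]
  rw [e1, e2, e3] at key
  exact key

end Groth.Agent.S13059
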