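import Groth.Statements.S13061
import Mathlib

set_option autoImplicit false
universe u v w
open Zeta

namespace Groth.Agent.S13061

open Polynomial in
theorem choose_ne_zero {k : Type u} [Field k] (N : ℕ) (hN : 0 < N) :
    ((N.choose (N - ringChar k ^ N.factorization (ringChar k)) : ℕ) : k) ≠ 0 ∧
      ringChar k ^ N.factorization (ringChar k) ≤ N := by
  rcases (CharP.char_is_prime_or_zero k (ringChar k)) with hp | hp
  · have : Fact (ringChar k).Prime := ⟨hp⟩
    set p := ringChar k with hpdef
    have hdvd : p ^ N.factorization p ∣ N := Nat.ordProj_dvd N p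
    have hle : p ^ N.factorization p ≤ N := Nat.le_of_dvd hN hdvd
    refine ⟨?_, hle⟩
    rw [Ne, CharP.cast_eq_zero_iff k p, Nat.choose_symm hle]
    obtain ⟨m, hm⟩ := hdvd
    have hpm : ¬ p ∣ m := by
      intro hpm
      have : p ^ (N.factorization p + 1) ∣ N := by
        obtain ⟨m', hm'⟩ := hpm
        rw [hm'] at hm
        exact Dvd.intro m' (by rw [pow_succ, mul_assoc]; exact hm.symm)
      exact Nat.pow_succ_factorization_not_dvd hN.ne' hp this
    have h := Choose.choose_pow_mul_pow_mul_modEq_choose_nat (p := p) (k := N.factorization p)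
      (a := m) (b := 1)
    rw [mul_one, ← hm, Nat.choose_one_right] at h
    intro hd
    apply hpm
    rw [← Nat.modEq_zero_iff_dvd] at hd ⊢
    exact h.symm.trans hd
  · rw [hp]
    have : CharZero k := by
      have : CharP k 0 := by rw [← hp]; exact ringChar.charP k
      exact CharP.charP_to_charZero k
    simp only [Nat.factorization_zero_right, pow_zero]
    refine ⟨?_, hN⟩
    have : N.choose (N - 1) = N := by
      rw [Nat.choose_symm hN]; simp
    rw [this]
    exact_mod_cast hN.ne'

open Polynomial in
/-- Let A be a commutative algebra over a field k, G a finite group acting on A by k-algebra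
automorphisms and I ⊆ A an ideal preserved by G. If p^n is the largest power of p = char(k) dividing
|G| (with p^n = 1 when char(k) = 0), then for every G-invariant b ∈ A/I the power b^{p^n} lies in
the image of A^G → (A/I)^G. (The published statement takes A finitely generated over k, which the
proof does not use.) -/
theorem result {k : Type u} [Field k]
    {A : Type v} [CommRing A] [Algebra k A] {G : Type w} [Group G] [Finite G]
    [MulSemiringAction G A] [SMulCommClass G k A] (I : Ideal A)
    (hI : ∀ (g : G) (a : A), a ∈ I → g • a ∈ I) (u : A) (hu : ∀ g : G, g • u - u ∈ I) :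
    ∃ a : A, (∀ g : G, g • a = a) ∧
      Ideal.Quotient.mk I a =
        Ideal.Quotient.mk I u ^ (ringChar k ^ (Nat.card G).factorization (ringChar k)) := by
  classical
  have : Fintype G := Fintype.ofFinite G
  set N := Nat.card G with hNdef
  have hNcard : N = Fintype.card G := Nat.card_eq_fintype_card
  have hN : 0 < N := Nat.card_pos
  set j := ringChar k ^ N.factorization (ringChar k) with hjdef
  obtain ⟨hc, hjN⟩ := choose_ne_zero (k := k) N hN
  rw [← hjdef] at hc hjN
  set c : k := ((N.choose (N - j) : ℕ) : k) with hcdef
  let F : A[X] := ∏ g : G, (X + C (g • u))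
  have hFinv : ∀ h : G, F.map (MulSemiringAction.toRingHom G A h) = F := by
    intro h
    simp only [F, Polynomial.map_prod, Polynomial.map_add, Polynomial.map_X, Polynomial.map_C,
      MulSemiringAction.toRingHom_apply, ← mul_smul]
    exact Fintype.prod_equiv (Equiv.mulLeft h) _ _ (fun g => rfl)
  have hFmk : F.map (Ideal.Quotient.mk I) = (X + C (Ideal.Quotient.mk I u)) ^ N := by
    simp only [F, Polynomial.map_prod, Polynomial.map_add, Polynomial.map_X, Polynomial.map_C]
    have : ∀ g : G, Ideal.Quotient.mk I (g • u) = Ideal.Quotient.mk I u := by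
      intro g
      rw [← sub_eq_zero, ← map_sub, Ideal.Quotient.eq_zero_iff_mem]
      exact hu g
    simp only [this, Finset.prod_const, Finset.card_univ, hNcard]
  refine ⟨algebraMap k A c⁻¹ * F.coeff (N - j), ?_, ?_⟩
  · intro g
    rw [smul_mul', smul_algebraMap]
    congr 1
    have := congrArg (fun P => P.coeff (N - j)) (hFinv g)
    simpa [Polynomial.coeff_map] using this
  · rw [map_mul, ← Polynomial.coeff_map, hFmk, Polynomial.coeff_X_add_C_pow,
      Nat.sub_sub_self hjN]
    have h1 : ((N.choose (N - j) : ℕ) : A ⧸ I) = Ideal.Quotient.mk I (algebraMap k A c) := by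
      rw [hcdef, map_natCast, map_natCast]
    rw [h1, mul_comm, mul_assoc, ← map_mul, ← map_mul, mul_inv_cancel₀ hc]
    simp

end Groth.Agent.S13061
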