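import Mathlib
import Groth.Statements.S13071
import Groth.Agent.Lib.Helper9.SigmaFin
import Groth.Agent.Lib.Helper9.QuotGeom
-- import your own Groth.Agent.* helpers here

set_option autoImplicit false
universe u
open CategoryTheory AlgebraicGeometry Limits
open Zeta

namespace Groth.Agent.S13071

theorem aux {k : Type u} [Field k]
    {X : Scheme.{u}} (f : X ⟶ Spec (CommRingCat.of k))
    (j : Spec (CommRingCat.of (AlgebraicClosure k)) ⟶ Spec (CommRingCat.of k))
    (hj : j = Spec.map (CommRingCat.ofHom (algebraMap k (AlgebraicClosure k))))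
    (τ : (AlgebraicClosure k ≃ₐ[k] AlgebraicClosure k) → (pullback f j ⟶ pullback f j))
    (hτ1 : ∀ σ, τ σ ≫ pullback.fst f j = pullback.fst f j)
    (hτ2 : ∀ σ, τ σ ≫ pullback.snd f j =
        pullback.snd f j ≫ Spec.map (CommRingCat.ofHom (σ : AlgebraicClosure k →+* AlgebraicClosure k)))
    (x y : ↑(pullback f j)) :
    (pullback.fst f j).base x = (pullback.fst f j).base y ↔ ∃ σ, (τ σ).base x = y := by
  constructor
  · intro hxy
    obtain ⟨w, hw1, hw2⟩ := Scheme.Pullback.exists_preimage_pullback x y hxy
    obtain ⟨Ω, _, _, c, hc⟩ := Groth.Agent.Helper9.SigmaFin.exists_geomPoint w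
    obtain ⟨a, ha⟩ : ∃ a, a = c ≫ pullback.fst (pullback.fst f j) (pullback.fst f j) := ⟨_, rfl⟩
    obtain ⟨b, hb⟩ : ∃ b, b = c ≫ pullback.snd (pullback.fst f j) (pullback.fst f j) := ⟨_, rfl⟩
    have hab : a ≫ pullback.fst f j = b ≫ pullback.fst f j := by
      rw [ha, hb, Category.assoc, Category.assoc, pullback.condition]
    have h12 : CommRingCat.ofHom (algebraMap k (AlgebraicClosure k)) ≫
          Spec.preimage (a ≫ pullback.snd f j) =
        CommRingCat.ofHom (algebraMap k (AlgebraicClosure k)) ≫
          Spec.preimage (b ≫ pullback.snd f j) := by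
      apply Spec.map_injective
      rw [Spec.map_comp, Spec.map_comp, Spec.map_preimage, Spec.map_preimage, ← hj,
        Category.assoc, Category.assoc, ← pullback.condition, ← Category.assoc, hab,
        Category.assoc]
    obtain ⟨σ, hσ⟩ := Groth.Agent.Helper9.QuotGeom.exists_aut_of_emb (F := k)
      (Spec.preimage (a ≫ pullback.snd f j)).hom (Spec.preimage (b ≫ pullback.snd f j)).hom
      (RingHom.ext fun t => by
        have := congrArg (fun φ => φ.hom t) h12
        exact this)
    have claim : b ≫ pullback.snd f j = (a ≫ pullback.snd f j) ≫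
        Spec.map (CommRingCat.ofHom (σ : AlgebraicClosure k →+* AlgebraicClosure k)) := by
      conv_lhs => rw [← Spec.map_preimage (b ≫ pullback.snd f j)]
      conv_rhs => rw [← Spec.map_preimage (a ≫ pullback.snd f j)]
      rw [← Spec.map_comp]
      congr 1
      ext t
      exact (hσ t).symm
    have key : a ≫ τ σ = b := by
      apply pullback.hom_ext
      · rw [Category.assoc, hτ1, hab]
      · rw [Category.assoc, hτ2, ← Category.assoc, ← claim]
    refine ⟨σ, ?_⟩
    have h0 : (a ≫ τ σ) (IsLocalRing.closedPoint Ω) = b (IsLocalRing.closedPoint Ω) := by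
      rw [key]
    rw [ha, hb, Scheme.Hom.comp_apply, Scheme.Hom.comp_apply, Scheme.Hom.comp_apply, hc, hw1,
      hw2] at h0
    exact h0
  · rintro ⟨σ, rfl⟩
    have h0 : (τ σ ≫ pullback.fst f j) x = (pullback.fst f j) x := by rw [hτ1]
    rw [Scheme.Hom.comp_apply] at h0
    exact h0.symm


/-- For a variety X over a perfect field k with algebraic closure k̄, the fibres of the projection π :
X_{k̄} → X are exactly the orbits of G(k̄/k) acting on X_{k̄} (σ acting as id × Spec σ). Stated for
any scheme of finite type over k; each τ_σ is pinned by τ_σ ≫ pr_1 = pr_1 and τ_σ ≫ pr_2 = pr_2 ≫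
Spec σ. -/
theorem result {k : Type u} [Field k] [PerfectField k]
    {X : Scheme.{u}} (f : X ⟶ Spec (CommRingCat.of k)) [LocallyOfFiniteType f] [QuasiCompact f]
    (τ : (AlgebraicClosure k ≃ₐ[k] AlgebraicClosure k) →
      (pullback f (Spec.map (CommRingCat.ofHom (algebraMap k (AlgebraicClosure k)))) ⟶
        pullback f (Spec.map (CommRingCat.ofHom (algebraMap k (AlgebraicClosure k))))))
    (hτ1 : ∀ σ, τ σ ≫ pullback.fst f _ = pullback.fst f _)
    (hτ2 : ∀ σ, τ σ ≫ pullback.snd f (Spec.map (CommRingCat.ofHom (algebraMap k (AlgebraicClosure k)))) =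
        pullback.snd f _ ≫ Spec.map (CommRingCat.ofHom (σ : AlgebraicClosure k →+* AlgebraicClosure k)))
    (x y : ↑(pullback f (Spec.map (CommRingCat.ofHom (algebraMap k (AlgebraicClosure k)))))) :
    (pullback.fst f (Spec.map (CommRingCat.ofHom (algebraMap k (AlgebraicClosure k))))).base x =
        (pullback.fst f (Spec.map (CommRingCat.ofHom (algebraMap k (AlgebraicClosure k))))).base y ↔
      ∃ σ, (τ σ).base x = y := by
  exact aux f _ rfl τ hτ1 hτ2 x y

end Groth.Agent.S13071
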