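import Groth.Statements.S13075
import Mathlib

set_option autoImplicit false
open Zeta

namespace Groth.Agent.S13075

open PowerSeries

/-- the geometric series `1/(1+X)`. -/
noncomputable def G : ℚ⟦X⟧ := PowerSeries.mk fun n : ℕ => ((-1 : ℚ) ^ n)

theorem G_mul : G * (1 + X) = 1 := by
  ext n
  rw [mul_add, mul_one, map_add]
  cases n with
  | zero => simp [G]
  | succ n =>
    rw [coeff_succ_mul_X]
    simp [G, pow_succ]

theorem deriv_log' : d⁄dX ℚ (log ℚ) = G := by
  rw [deriv_log]; ext n; simp [G]

theorem log_eq : (PowerSeries.mk fun m : ℕ => if m = 0 then (0 : ℚ) else (-1) ^ (m + 1) / (m : ℚ))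
    = log ℚ := by
  ext n; simp [log]

theorem part1 : (log ℚ).subst (exp ℚ - 1) = X := by
  have hs : HasSubst (exp ℚ - 1) := HasSubst.exp_sub_one
  apply derivative.ext
  · rw [derivative_subst hs, deriv_log', derivative_X, map_sub, derivative_exp, derivative_one,
      sub_zero]
    have h := congrArg (PowerSeries.subst (exp ℚ - 1)) G_mul
    rw [subst_mul hs, subst_add hs, subst_X hs, ← coe_substAlgHom hs, map_one] at h
    rw [← coe_substAlgHom hs]
    have h3 : (1 + (exp ℚ - 1)) = exp ℚ := by ring
    rw [h3] at h
    exact h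
  · have h0 : constantCoeff (subst (exp ℚ - 1) (log ℚ)) = 0 :=
      constantCoeff_subst_eq_zero
        (by change constantCoeff (exp ℚ - 1) = 0; simp [constantCoeff_exp]) _ constantCoeff_log
    rw [h0]
    simp

theorem part2 : (exp ℚ).subst (log ℚ) = 1 + X := by
  have hs : HasSubst (log ℚ) := HasSubst.log
  set F := (exp ℚ).subst (log ℚ) with hF
  have hF' : d⁄dX ℚ F = F * G := by
    rw [hF, derivative_subst hs, derivative_exp, deriv_log']
  have hG' : d⁄dX ℚ G = - (G * G) := by
    have h := congrArg (d⁄dX ℚ) G_mul
    rw [Derivation.leibniz, map_add, derivative_one, derivative_X, zero_add] at h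
    simp only [smul_eq_mul, mul_one] at h
    have h2 : d⁄dX ℚ G * ((1 + X) * G) = - (G * G) := by linear_combination G * h
    rw [mul_comm (1 + X) G, G_mul, mul_one] at h2
    exact h2
  have hFG : F * G = 1 := by
    have : F * G = C (1 : ℚ) := by
      apply derivative.ext
      · rw [Derivation.leibniz, hF', hG', derivative_C]
        simp only [smul_eq_mul]
        ring
      · rw [map_mul, hF]
        have h1 : constantCoeff ((exp ℚ).subst (log ℚ)) = 1 := by
          have h0 : constantCoeff (subst (log ℚ) (exp ℚ - 1)) = 0 :=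
            constantCoeff_subst_eq_zero (f := exp ℚ - 1) (a := log ℚ) constantCoeff_log
              (by simp [constantCoeff_exp])
          rw [subst_sub hs, map_sub] at h0
          rw [← coe_substAlgHom hs, map_one, map_one] at h0
          rw [← coe_substAlgHom hs]
          linear_combination h0
        rw [h1]
        simp [G]
    rw [this]; simp
  calc F = F * (G * (1 + X)) := by rw [G_mul, mul_one]
    _ = (F * G) * (1 + X) := by ring
    _ = 1 + X := by rw [hFG, one_mul]

theorem result :
    PowerSeries.subst (PowerSeries.exp ℚ - 1)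
        (PowerSeries.mk fun m : ℕ => if m = 0 then (0 : ℚ) else (-1) ^ (m + 1) / (m : ℚ)) =
      PowerSeries.X ∧
    PowerSeries.subst (PowerSeries.mk fun m : ℕ => if m = 0 then (0 : ℚ) else (-1) ^ (m + 1) / (m : ℚ))
        (PowerSeries.exp ℚ) = 1 + PowerSeries.X := by
  rw [log_eq]
  exact ⟨part1, part2⟩

end Groth.Agent.S13075
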