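import Mathlib
import Groth.Statements.S2925
import Groth.Agent.Lib.Helper9.QuotAct
import Groth.Agent.S2908
-- import your own Groth.Agent.* helpers here

set_option autoImplicit false
open CategoryTheory CategoryTheory.Limits AlgebraicGeometry
universe u
open SGA1

namespace Groth.Agent.S2925

open Groth.Agent.Helper9

/-- Let a finite group G act on a scheme X and let p : X ⟶ Y be a quotient of X by G. Then every
G-invariant morphism X ⟶ Z factors uniquely through p. -/
theorem result {X Y : Scheme.{u}} {G : Type u} [Group G] [Finite G] (ρ : G →* Aut X)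
    (p : X ⟶ Y) (hp : SGA1.IsQuot ρ p) (Z : Scheme.{u}) (h : X ⟶ Z) (hh : ∀ g : G, (ρ g).hom ≫ h = h) :
    ∃! h' : Y ⟶ Z, p ≫ h' = h := by
  obtain ⟨hsurj, horb, -⟩ := Groth.Agent.S2908.result ρ p hp
  haveI : Surjective p := ⟨hsurj⟩
  haveI hint : IsIntegralHom p := QuotAct.isIntegralHom ρ p hp
  haveI : UniversallyClosed p := (IsIntegralHom.iff_universallyClosed_and_isAffineHom.mp hint).1
  have hloc : ∀ y : Y, ∃ (V : Y.Opens) (f : (V : Scheme.{u}) ⟶ Z), y ∈ V ∧
      (p ∣_ V) ≫ f = (p ⁻¹ᵁ V).ι ≫ h := by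
    intro y
    obtain ⟨x, rfl⟩ := hsurj y
    obtain ⟨_, ⟨W, hW, rfl⟩, hxW, -⟩ := Z.isBasis_affineOpens.exists_subset_of_mem_open
      (Set.mem_univ (h x)) isOpen_univ
    have hcl : IsClosed (p '' ((h ⁻¹ᵁ W : Set X)ᶜ)) :=
      p.isClosedMap _ (h ⁻¹ᵁ W).isOpen.isClosed_compl
    let V : Y.Opens := ⟨(p '' ((h ⁻¹ᵁ W : Set X)ᶜ))ᶜ, hcl.isOpen_compl⟩
    have hVW : p ⁻¹ᵁ V ≤ h ⁻¹ᵁ W := by
      intro x' hx'
      by_contra hn
      exact hx' ⟨x', hn, rfl⟩
    have hyV : p x ∈ V := by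
      rintro ⟨x', hx', hpx'⟩
      obtain ⟨g, rfl⟩ := (horb x x').mp hpx'.symm
      apply hx'
      show h ((ρ g).hom x) ∈ W
      have h1 : ((ρ g).hom ≫ h) x = h x := by rw [hh g]
      rw [Scheme.Hom.comp_apply] at h1
      rw [h1]; exact hxW
    have hrange : ∀ c : Γ(Z, W), (h.appLE W (p ⁻¹ᵁ V) hVW).hom c ∈ Set.range (p.app V).hom := by
      intro c
      rw [hp.range_iff]
      intro g
      have h1 := Scheme.Hom.appLE_comp_appLE (ρ g).hom h W (p ⁻¹ᵁ V) (p ⁻¹ᵁ V) hVW
        (SGA1.preimage_le_of_inv ρ p hp.inv g V)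
      have h2 := QuotAct.appLE_of_eq (hh g) W (p ⁻¹ᵁ V)
        (show p ⁻¹ᵁ V ≤ ((ρ g).hom ≫ h) ⁻¹ᵁ W by rw [hh g]; exact hVW)
      exact congrArg (fun φ => φ.hom c) (h1.trans h2)
    choose ψ0 hψ0 using hrange
    let ψ : Γ(Z, W) →+* Γ(Y, V) :=
      { toFun := ψ0
        map_one' := hp.injective V (by rw [hψ0, map_one, map_one])
        map_mul' := fun a b => hp.injective V (by rw [hψ0, map_mul, map_mul, hψ0, hψ0])
        map_zero' := hp.injective V (by rw [hψ0, map_zero, map_zero])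
        map_add' := fun a b => hp.injective V (by rw [hψ0, map_add, map_add, hψ0, hψ0]) }
    have hψ : CommRingCat.ofHom ψ ≫ p.app V = h.appLE W (p ⁻¹ᵁ V) hVW := by
      ext c; exact hψ0 c
    refine ⟨V, V.toSpecΓ ≫ Spec.map (CommRingCat.ofHom ψ) ≫ hW.fromSpec, hyV, ?_⟩
    rw [← Scheme.Opens.toSpecΓ_naturality_assoc, ← Spec.map_comp_assoc, hψ,
      ← QuotAct.ι_comp_eq]
  choose V f hyV hf using hloc
  have hcov : TopologicalSpace.IsOpenCover V :=
    eq_top_iff.mpr (fun y _ => TopologicalSpace.Opens.mem_iSup.mpr ⟨y, hyV y⟩)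
  -- key: morphisms agree after pulling back along p
  have hM : ∀ (T : Scheme.{u}) (j : T ⟶ Y) [IsOpenImmersion j] (y : Y) (k : T ⟶ (V y : Scheme.{u}))
      (hk : k ≫ (V y).ι = j), pullback.snd p j ≫ k ≫ f y = pullback.fst p j ≫ h := by
    intro T j _ y k hk
    have hr : Set.range (pullback.fst p j) ⊆ Set.range (p ⁻¹ᵁ V y).ι := by
      rintro _ ⟨z, rfl⟩
      rw [Scheme.Opens.range_ι]
      show p ((pullback.fst p j) z) ∈ V y
      have hc : (pullback.fst p j ≫ p) z = (pullback.snd p j ≫ j) z := by rw [pullback.condition]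
      rw [Scheme.Hom.comp_apply, Scheme.Hom.comp_apply] at hc
      rw [hc]
      have hk2 : j ((pullback.snd p j) z) = (V y).ι (k ((pullback.snd p j) z)) := by
        have hk3 : (k ≫ (V y).ι) ((pullback.snd p j) z) = j ((pullback.snd p j) z) := by rw [hk]
        rw [Scheme.Hom.comp_apply] at hk3
        exact hk3.symm
      rw [hk2]
      exact (k ((pullback.snd p j) z)).2
    have h1 : IsOpenImmersion.lift (p ⁻¹ᵁ V y).ι (pullback.fst p j) hr ≫ (p ∣_ V y) =
        pullback.snd p j ≫ k := by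
      rw [← cancel_mono (V y).ι, Category.assoc, morphismRestrict_ι,
        IsOpenImmersion.lift_fac_assoc, Category.assoc, hk, pullback.condition]
    rw [← Category.assoc, ← h1, Category.assoc, hf y, IsOpenImmersion.lift_fac_assoc]
  have hcompat : ∀ x y : Y, pullback.fst (V x).ι (V y).ι ≫ f x =
      pullback.snd (V x).ι (V y).ι ≫ f y := by
    intro x y
    apply QuotAct.hom_ext_snd p hp.injective
      (pullback.fst (V x).ι (V y).ι ≫ (V x).ι)
    rw [hM _ _ x (pullback.fst (V x).ι (V y).ι) rfl,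
      hM _ _ y (pullback.snd (V x).ι (V y).ι) pullback.condition.symm]
  refine ⟨(Y.openCoverOfIsOpenCover V hcov).glueMorphisms f hcompat, ?_, ?_⟩
  · show p ≫ _ = h
    apply Scheme.hom_ext_of_forall
    intro x
    refine ⟨p ⁻¹ᵁ V (p x), hyV (p x), ?_⟩
    have h2 := (Y.openCoverOfIsOpenCover V hcov).ι_glueMorphisms f hcompat (p x)
    rw [← morphismRestrict_ι_assoc]
    have h3 : (V (p x)).ι ≫ (Y.openCoverOfIsOpenCover V hcov).glueMorphisms f hcompat =
        f (p x) := h2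
    rw [h3, hf]
  · intro h₁ hh₁
    apply QuotAct.hom_ext_snd p hp.injective (𝟙 Y)
    have hc : pullback.snd p (𝟙 Y) = pullback.fst p (𝟙 Y) ≫ p := by
      rw [pullback.condition, Category.comp_id]
    rw [hc, Category.assoc, Category.assoc, hh₁]
    have h4 : p ≫ (Y.openCoverOfIsOpenCover V hcov).glueMorphisms f hcompat = h := by
      apply Scheme.hom_ext_of_forall
      intro x
      refine ⟨p ⁻¹ᵁ V (p x), hyV (p x), ?_⟩
      have h2 := (Y.openCoverOfIsOpenCover V hcov).ι_glueMorphisms f hcompat (p x)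
      rw [← morphismRestrict_ι_assoc]
      have h3 : (V (p x)).ι ≫ (Y.openCoverOfIsOpenCover V hcov).glueMorphisms f hcompat =
          f (p x) := h2
      rw [h3, hf]
    rw [h4]

end Groth.Agent.S2925
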