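import Mathlib
import Groth.Statements.S13081
import Groth.Agent.Lib.Helper9.QuotAff
import Groth.Agent.S2925
-- import your own Groth.Agent.* helpers here

set_option autoImplicit false
universe u
open CategoryTheory AlgebraicGeometry Limits
open Zeta

namespace Groth.Agent.S13081


/-- Let G be a finite group acting by algebraic automorphisms over k on a scheme X of finite type over k
admitting a quotient X → X/G, and H a normal subgroup of G. Then X/H carries an induced action of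
G/H and its quotient by this action is X/G: the induced morphism r : X/H → X/G is a quotient of X/H
by G/H. The induced action ρ̄ is pinned by p_H ≫ ρ̄(ḡ) = ρ(g) ≫ p_H and r by p_H ≫ r = p. -/
theorem result {k : Type u} [Field k] {G : Type u} [Group G]
    [Finite G] {X XG XH : Scheme.{u}} (fX : X ⟶ Spec (CommRingCat.of k)) [LocallyOfFiniteType fX]
    [QuasiCompact fX] (ρ : G →* Aut X) (hρ : ∀ g, (ρ g).hom ≫ fX = fX) (p : X ⟶ XG)
    (hP : SGA1.IsQuot ρ p) (H : Subgroup G) [H.Normal] (pH : X ⟶ XH)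
    (hPH : SGA1.IsQuot (ρ.comp H.subtype) pH) (ρbar : G ⧸ H →* Aut XH)
    (hρbar : ∀ g : G, pH ≫ (ρbar (QuotientGroup.mk g)).hom = (ρ g).hom ≫ pH)
    (r : XH ⟶ XG) (hr : pH ≫ r = p) :
    SGA1.IsQuot ρbar r := by
  subst hr
  have hepi : ∀ {T : Scheme.{u}} (a b : XH ⟶ T), pH ≫ a = pH ≫ b → a = b := by
    intro T a b hab
    obtain ⟨c, -, hc⟩ := Groth.Agent.S2925.result (ρ.comp H.subtype) pH hPH T (pH ≫ a)
      (fun h => by rw [← Category.assoc, hPH.inv h])
    exact (hc a rfl).trans (hc b hab.symm).symm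
  have hinv : ∀ γ : G ⧸ H, (ρbar γ).hom ≫ r = r := by
    intro γ
    obtain ⟨g, rfl⟩ := QuotientGroup.mk_surjective γ
    apply hepi
    rw [← Category.assoc, hρbar g, Category.assoc]
    exact hP.inv g
  have h1 : ∀ U : XG.Opens, (pH ≫ r).app U = r.app U ≫ pH.app (r ⁻¹ᵁ U) :=
    fun U => Scheme.Hom.comp_app pH r U
  refine ⟨?_, hinv, ?_, ?_⟩
  · refine ⟨fun U hU => ?_⟩
    apply Groth.Agent.Helper9.QuotAff.isAffineOpen_of_preimage (ρ.comp H.subtype) pH hPH
    exact hP.affine.isAffine_preimage U hU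
  · intro U
    have h2 := hP.injective U
    rw [h1] at h2
    exact Function.Injective.of_comp h2
  · intro U s
    constructor
    · rintro ⟨a, rfl⟩ γ
      exact Groth.Agent.Helper9.QuotBasis.σ_app' ρbar r hinv U γ a
    · intro hs
      have ht : ∀ g : G, ((ρ g).hom.appLE ((pH ≫ r) ⁻¹ᵁ U) ((pH ≫ r) ⁻¹ᵁ U)
          (SGA1.preimage_le_of_inv ρ (pH ≫ r) hP.inv g U)).hom ((pH.app (r ⁻¹ᵁ U)).hom s) =
          (pH.app (r ⁻¹ᵁ U)).hom s := by
        intro g
        have e1 := Scheme.Hom.appLE_comp_appLE (ρ g).hom pH (r ⁻¹ᵁ U) (pH ⁻¹ᵁ (r ⁻¹ᵁ U))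
          (pH ⁻¹ᵁ (r ⁻¹ᵁ U)) le_rfl (SGA1.preimage_le_of_inv ρ (pH ≫ r) hP.inv g U)
        have e2 := Scheme.Hom.appLE_comp_appLE pH (ρbar (QuotientGroup.mk g)).hom (r ⁻¹ᵁ U)
          (r ⁻¹ᵁ U) (pH ⁻¹ᵁ (r ⁻¹ᵁ U))
          (SGA1.preimage_le_of_inv ρbar r hinv (QuotientGroup.mk g) U) le_rfl
        rw [Groth.Agent.Helper9.QuotAct.appLE_of_eq (hρbar g)] at e2
        have e3 := (congrArg (fun φ => φ.hom s) e1).trans (congrArg (fun φ => φ.hom s) e2).symm
        have h4 : pH.appLE (r ⁻¹ᵁ U) (pH ⁻¹ᵁ (r ⁻¹ᵁ U)) le_rfl = pH.app (r ⁻¹ᵁ U) :=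
          Scheme.Hom.appLE_eq_app pH
        simp only [h4, CommRingCat.hom_comp, RingHom.comp_apply] at e3
        exact e3.trans (congrArg (pH.app (r ⁻¹ᵁ U)).hom (hs (QuotientGroup.mk g)))
      obtain ⟨a, ha⟩ := (hP.range_iff U _).mpr ht
      refine ⟨a, ?_⟩
      apply hPH.injective (r ⁻¹ᵁ U)
      have h5 := congrArg (fun φ => φ.hom a) (h1 U)
      exact h5.symm.trans ha

end Groth.Agent.S13081
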