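import Groth.Statements.S1309
import Mathlib
set_option linter.style.haveILetI false

set_option autoImplicit false
universe u
open FlatMor

namespace Groth.Agent.S1309

section Aux
open AlgebraicGeometry CategoryTheory Limits TensorProduct

theorem nak {R M : Type*} [CommRing R] [AddCommGroup M] [Module R M] (I : Ideal R)
    (hI : IsNilpotent I) (N : Submodule R M) (h : N ⊔ I • (⊤ : Submodule R M) = ⊤) : N = ⊤ := by
  obtain ⟨n, hn⟩ := hI
  have h6 : ∀ k : ℕ, N ⊔ I ^ k • (⊤ : Submodule R M) = ⊤ := by
    intro k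
    induction k with
    | zero => simp
    | succ k ih =>
      have h7 : N ⊔ I ^ k • (⊤ : Submodule R M) ≤ N ⊔ I ^ (k + 1) • (⊤ : Submodule R M) := by
        refine sup_le le_sup_left ?_
        calc I ^ k • (⊤ : Submodule R M) = I ^ k • (N ⊔ I • (⊤ : Submodule R M)) := by rw [h]
          _ = I ^ k • N ⊔ I ^ k • I • (⊤ : Submodule R M) := Submodule.smul_sup _ _ _
          _ ≤ N ⊔ I ^ (k + 1) • (⊤ : Submodule R M) := by
            refine sup_le_sup Submodule.smul_le_right ?_
            rw [pow_succ, Submodule.mul_smul]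
      exact eq_top_iff.mpr (ih.ge.trans h7)
  have := h6 n
  rwa [hn, Ideal.zero_eq_bot, Submodule.bot_smul, sup_bot_eq] at this

theorem ring_key {R S A B : Type u} [CommRing R] [CommRing S] [CommRing A] [CommRing B]
    [Algebra R S] [Algebra R A] [Algebra R B] [Algebra A B] [Algebra S B]
    [IsScalarTower R A B] [IsScalarTower R S B] [hP : Algebra.IsPushout R S A B]
    (hs : Function.Surjective (algebraMap R S)) (hn : IsNilpotent (RingHom.ker (algebraMap R S)))
    [hft : Algebra.FiniteType S B] : Algebra.FiniteType R A := by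
  have hbc : IsBaseChange S (IsScalarTower.toAlgHom R A B).toLinearMap := hP.out
  have hAB : Function.Surjective (algebraMap A B) := by
    intro b
    refine hbc.inductionOn b (fun b => ∃ a, algebraMap A B a = b) ⟨0, map_zero _⟩
      (fun m => ⟨m, rfl⟩) ?_ ?_
    · rintro s _ ⟨a, rfl⟩
      obtain ⟨r, rfl⟩ := hs s
      refine ⟨algebraMap R A r * a, ?_⟩
      rw [map_mul, Algebra.smul_def, ← IsScalarTower.algebraMap_apply R A B,
        ← IsScalarTower.algebraMap_apply R S B]
    · rintro _ _ ⟨a₁, rfl⟩ ⟨a₂, rfl⟩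
      exact ⟨a₁ + a₂, map_add _ _ _⟩
  have hker : ∀ a : A, algebraMap A B a = 0 →
      a ∈ (RingHom.ker (algebraMap R S) • ⊤ : Submodule R A) := by
    intro a ha
    have h1 : (1 : S) ⊗ₜ[R] a = 0 := by
      have h := hbc.equiv_symm_apply a
      rw [← h]
      have : (IsScalarTower.toAlgHom R A B).toLinearMap a = 0 := ha
      rw [this, map_zero]
    let f : R →ₐ[R] S := Algebra.ofId R S
    have hf : Function.Surjective f := hs
    let eS : (R ⧸ RingHom.ker f) ≃ₗ[R] S := (Ideal.quotientKerAlgEquivOfSurjective hf).toLinearEquiv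
    have h0 : RingHom.ker f = RingHom.ker (algebraMap R S) := by
      ext x; simp [RingHom.mem_ker, f]
    have h2 : (1 : R ⧸ RingHom.ker f) ⊗ₜ[R] a = 0 := by
      have := congrArg (TensorProduct.congr eS.symm (LinearEquiv.refl R A)) h1
      simpa [eS] using this
    have h3 := congrArg (TensorProduct.quotTensorEquivQuotSMul A (RingHom.ker f)) h2
    rw [← map_one (Ideal.Quotient.mk _), TensorProduct.quotTensorEquivQuotSMul_mk_tmul, map_zero,
      one_smul] at h3
    rw [← h0]
    exact (Submodule.Quotient.mk_eq_zero _).mp h3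
  obtain ⟨n, f, hf⟩ := Algebra.FiniteType.iff_quotient_mvPolynomial''.mp hft
  choose a ha using fun i => hAB (f (MvPolynomial.X i))
  let g : MvPolynomial (Fin n) R →ₐ[R] A := MvPolynomial.aeval a
  have hcomp : ∀ q : MvPolynomial (Fin n) R,
      algebraMap A B (g q) = f (MvPolynomial.map (algebraMap R S) q) := by
    intro q
    have : (algebraMap A B).comp g.toRingHom =
        f.toRingHom.comp (MvPolynomial.map (algebraMap R S)) := by
      apply MvPolynomial.ringHom_ext
      · intro r
        show algebraMap A B (g (MvPolynomial.C r)) =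
          f (MvPolynomial.map (algebraMap R S) (MvPolynomial.C r))
        rw [MvPolynomial.map_C, MvPolynomial.algHom_C, MvPolynomial.algHom_C,
          ← IsScalarTower.algebraMap_apply R A B, ← IsScalarTower.algebraMap_apply R S B]
      · intro i
        show algebraMap A B (g (MvPolynomial.X i)) =
          f (MvPolynomial.map (algebraMap R S) (MvPolynomial.X i))
        rw [MvPolynomial.map_X, MvPolynomial.aeval_X, ha]
    exact DFunLike.congr_fun this q
  have hg : Function.Surjective g := by
    have hN : LinearMap.range g.toLinearMap = ⊤ := by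
      apply nak _ hn
      rw [eq_top_iff]
      intro x _
      obtain ⟨p, hp⟩ := hf (algebraMap A B x)
      obtain ⟨q, rfl⟩ := MvPolynomial.map_surjective (algebraMap R S) hs p
      have hx : x - g q ∈ (RingHom.ker (algebraMap R S) • ⊤ : Submodule R A) :=
        hker _ (by rw [map_sub, hcomp, hp, sub_self])
      have : x = g q + (x - g q) := by ring
      rw [this]
      exact Submodule.add_mem_sup (LinearMap.mem_range_self g.toLinearMap q) hx
    intro x
    have : x ∈ LinearMap.range g.toLinearMap := hN ▸ Submodule.mem_top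
    obtain ⟨y, hy⟩ := LinearMap.mem_range.mp this
    exact ⟨y, hy⟩
  exact Algebra.FiniteType.of_surjective g hg

theorem cat_key {R S T P : CommRingCat.{u}} {f : R ⟶ S} {g : R ⟶ T} {inl : S ⟶ P} {inr : T ⟶ P}
    (h : CategoryTheory.IsPushout f g inl inr) (hg : Function.Surjective g.hom)
    (hn : IsNilpotent (RingHom.ker g.hom)) (hu : inr.hom.FiniteType) :
    f.hom.FiniteType := by
  algebraize [f.hom, g.hom, inl.hom, inr.hom, inl.hom.comp f.hom]
  have : IsScalarTower R T P := .of_algebraMap_eq' <| congr($(h.1.1).hom)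
  have h1 : Algebra.IsPushout R S T P := CommRingCat.isPushout_iff_isPushout.mp h
  have h2 : Algebra.IsPushout R T S P := h1.symm
  have : Algebra.FiniteType T P := hu
  exact ring_key (R := R) (S := T) (A := S) (B := P) hg hn

end Aux

open AlgebraicGeometry CategoryTheory Limits in
/-- Let S ⟶ S' be a finite order thickening and let X be the base change of a scheme X' over S' to S (so
X ⟶ X' is again a thickening). Then X ⟶ S is locally of finite type if and only if X' ⟶ S' is. -/
theorem result {X X' S S' : Scheme.{u}} (iX : X ⟶ X') (iS : S ⟶ S') (f : X ⟶ S) (f' : X' ⟶ S')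
    (hS : MoreMor.IsFiniteOrderThickening iS) (hc : IsPullback iX f f' iS) :
    LocallyOfFiniteType f ↔ LocallyOfFiniteType f' := by
  constructor
  · intro hf
    obtain ⟨⟨hci, hsurj⟩, hnil⟩ := hS
    haveI := hci
    refine ⟨fun {U'} hU' {V'} hV' e => ?_⟩
    have hUT : IsAffineOpen (iS ⁻¹ᵁ U') := hU'.preimage iS
    have hiso := isIso_pushoutSection_of_isAffineOpen hc (le_refl (iS ⁻¹ᵁ U')) e rfl hU' hUT hV'
    have hpo := (isIso_pushoutSection_iff hc (le_refl (iS ⁻¹ᵁ U')) e rfl).mp hiso
    have hUY : IsAffineOpen (iX ⁻¹ᵁ V' ⊓ f ⁻¹ᵁ (iS ⁻¹ᵁ U')) := by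
      have : IsAffine _ := hU'
      have : IsAffine _ := hUT
      have : IsAffine _ := hV'
      exact .of_isIso (Scheme.Hom.isPullback_resLE hc (le_refl (iS ⁻¹ᵁ U')) e rfl).isoPullback.hom
    refine cat_key hpo ?_ ?_ (f.finiteType_appLE hUT hUY _)
    · rw [Scheme.Hom.appLE_eq_app]; exact iS.app_surjective U' hU'
    · rw [Scheme.Hom.appLE_eq_app]
      obtain ⟨n, hn⟩ := hnil
      exact ⟨n, by simpa using congr(($hn).ideal ⟨U', hU'⟩)⟩
  · intro hf'
    exact MorphismProperty.of_isPullback (P := @LocallyOfFiniteType) hc hf'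

end Groth.Agent.S1309
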