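import Groth.Statements.S13093
import Groth.Agent.Helper1.Lie3Chart

set_option autoImplicit false
universe u
open Lie3Mod

namespace Groth.Agent.S13093

/-- Let k be an algebraically closed field and D = k[a,b,c,d,e,f,g,h,i]. Then the ideal J = (Q1, Q2, Q3,
det M) (Q1 = ah + di − fg − bg, Q2 = ie + bd − fh − ae, Q3 = hc + dc − af − bi, det M = −ch² + gbf +
ei² − gec + hbi − ihf) is minimal among the prime ideals of D containing the Jacobi ideal I = (Q1,
Q2, Q3). (The published statement is made with a regular base ring in force; primality of J is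
established there over an algebraically closed field, which is the case stated here.) -/
theorem result (k : Type u) [Field k] [IsAlgClosed k] :
    Lie3Mod.idJ k ∈ (Lie3Mod.idI k).minimalPrimes := by
  open Groth.Agent.Helper1.Lie3Chart in
  have hJ : (Lie3Mod.idJ k).IsPrime := idJ_isPrime k
  have hev : Lie3Mod.idJ k ≤
      RingHom.ker (MvPolynomial.eval (Pi.single (0 : Fin 9) (1 : k))) := by
    rw [Lie3Mod.idJ, Ideal.span_le]
    intro y hy
    simp only [Set.mem_insert_iff, Set.mem_singleton_iff] at hy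
    rcases hy with rfl | rfl | rfl | rfl <;>
      simp [Lie3Mod.Q1, Lie3Mod.Q2, Lie3Mod.Q3, Lie3Mod.detM, RingHom.mem_ker, Pi.single_apply]
  have hL1 : Lie3Mod.L1 k ∉ Lie3Mod.idJ k := by
    intro h
    have h1 := hev h
    simp [Lie3Mod.L1, RingHom.mem_ker, Pi.single_apply] at h1
  refine ⟨⟨hJ, Groth.Agent.Helper1.Lie3Chart.idI_le_idJ k⟩, ?_⟩
  rintro P ⟨hP, hIP⟩ hPJ
  have hdet : Lie3Mod.detM k ∈ P := by
    have h1 : Lie3Mod.L1 k * Lie3Mod.detM k ∈ P :=
      hIP (Groth.Agent.Helper1.Lie3Chart.L1_mul_detM_mem k)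
    rcases hP.mem_or_mem h1 with h2 | h2
    · exact absurd (hPJ h2) hL1
    · exact h2
  rw [Lie3Mod.idJ, Ideal.span_le]
  intro y hy
  simp only [Set.mem_insert_iff, Set.mem_singleton_iff] at hy
  have hQ : ∀ z ∈ ({Lie3Mod.Q1 k, Lie3Mod.Q2 k, Lie3Mod.Q3 k} : Set (Lie3Mod.D k)), z ∈ P :=
    fun z hz => hIP (Ideal.subset_span hz)
  rcases hy with rfl | rfl | rfl | rfl
  · exact hQ _ (by simp)
  · exact hQ _ (by simp)
  · exact hQ _ (by simp)
  · exact hdet

end Groth.Agent.S13093
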