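import Groth.Statements.S13094
import Groth.Agent.Helper1.Lie3Cert

set_option autoImplicit false
open Lie3Mod

namespace Groth.Agent.S13094

/-- The second component of the moduli scheme of based three-dimensional Lie algebras is flat over the
integers: the ring Z[a,b,c,d,e,f,g,h,i]/J, where J = (Q1, Q2, Q3, det M) with Q1 = ah + di − fg −
bg, Q2 = ie + bd − fh − ae, Q3 = hc + dc − af − bi and det M = −ch² + gbf + ei² − gec + hbi − ihf,
is a flat Z-module. -/
theorem result :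
    Module.Flat ℤ (Lie3Mod.D ℤ ⧸ Lie3Mod.idJ ℤ) := by
  rw [Module.Flat.flat_iff_torsion_eq_bot_of_isBezout]
  rw [Submodule.eq_bot_iff]
  intro x hx
  rw [Submodule.mem_torsion_iff] at hx
  obtain ⟨⟨n, hn⟩, hnx⟩ := hx
  obtain ⟨y, rfl⟩ := Ideal.Quotient.mk_surjective x
  have hn0 : n ≠ 0 := nonZeroDivisors.ne_zero hn
  change n • (Ideal.Quotient.mk (Lie3Mod.idJ ℤ) y) = 0 at hnx
  have hmem : n • y ∈ Lie3Mod.idJ ℤ := by
    rw [← Ideal.Quotient.eq_zero_iff_mem, map_zsmul]
    exact hnx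
  exact Ideal.Quotient.eq_zero_iff_mem.mpr
    (Groth.Agent.Helper1.Lie3Free.mem_idJ_of_zsmul_mem n hn0 y hmem)

end Groth.Agent.S13094
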