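import Groth.Statements.S13095
import Groth.Agent.Helper1.Lie3L

set_option autoImplicit false
open Lie3Mod

namespace Groth.Agent.S13095

/-- The moduli scheme of based three-dimensional Lie algebras is flat over the integers and reduced:
with I = (Q1, Q2, Q3) the Jacobi ideal of Z[a,b,c,d,e,f,g,h,i] (Q1 = ah + di − fg − bg, Q2 = ie + bd
− fh − ae, Q3 = hc + dc − af − bi), the ring Z[a,b,c,d,e,f,g,h,i]/I is a flat Z-module and I is a
radical ideal. -/
theorem result :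
    Module.Flat ℤ (Lie3Mod.D ℤ ⧸ Lie3Mod.idI ℤ) ∧ (Lie3Mod.idI ℤ).IsRadical := by
  open Groth.Agent.Helper1.Lie3L Groth.Agent.Helper1.Lie3Chart in
  have hL : (Lie3Mod.idL ℤ).IsPrime := idL_isPrime ℤ
  have hJ : (Lie3Mod.idJ ℤ).IsPrime := idJ_isPrime ℤ
  have hI : Lie3Mod.idI ℤ = Lie3Mod.idL ℤ ⊓ Lie3Mod.idJ ℤ := idI_eq_inf ℤ
  refine ⟨?_, ?_⟩
  · rw [Module.Flat.flat_iff_torsion_eq_bot_of_isBezout]
    rw [Submodule.eq_bot_iff]
    intro x hx
    rw [Submodule.mem_torsion_iff] at hx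
    obtain ⟨⟨n, hn⟩, hnx⟩ := hx
    obtain ⟨y, rfl⟩ := Ideal.Quotient.mk_surjective x
    have hn0 : n ≠ 0 := nonZeroDivisors.ne_zero hn
    change n • (Ideal.Quotient.mk (Lie3Mod.idI ℤ) y) = 0 at hnx
    have hmem : n • y ∈ Lie3Mod.idI ℤ := by
      rw [← Ideal.Quotient.eq_zero_iff_mem, map_zsmul]
      exact hnx
    rw [hI] at hmem
    obtain ⟨hmL, hmJ⟩ := hmem
    apply Ideal.Quotient.eq_zero_iff_mem.mpr
    rw [hI]
    refine ⟨?_, Groth.Agent.Helper1.Lie3Free.mem_idJ_of_zsmul_mem n hn0 y hmJ⟩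
    have h1 : (n : Lie3Mod.D ℤ) * y ∈ Lie3Mod.idL ℤ := by
      rw [← zsmul_eq_mul]; exact hmL
    rcases hL.mem_or_mem h1 with h2 | h2
    · exfalso
      have h3 := idL_le_ker_eval ℤ h2
      rw [RingHom.mem_ker, map_intCast] at h3
      exact hn0 (by exact_mod_cast h3)
    · exact h2
  · rw [hI]
    exact hL.isRadical.inf hJ.isRadical

end Groth.Agent.S13095
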