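import Groth.Statements.S13096
import Mathlib

set_option autoImplicit false
universe u v
open CAlg

namespace Groth.Agent.S13096

/-- Let R be a commutative ring and R' a commutative R-algebra of finite presentation. Then every
surjective R-algebra endomorphism α : R' → R' is bijective (an automorphism). -/
theorem result (R : Type u) [CommRing R]
    (R' : Type v) [CommRing R'] [Algebra R R'] [Algebra.FinitePresentation R R']
    (α : R' →ₐ[R] R') (hα : Function.Surjective α) : Function.Bijective α := by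
  classical
  refine ⟨?_, hα⟩
  obtain ⟨n, π, hπ, hker⟩ := Algebra.FinitePresentation.out (R := R) (A := R')
  obtain ⟨m, f, hf⟩ := Submodule.fg_iff_exists_fin_generating_family.mp hker
  have hf' : Ideal.span (Set.range f) = RingHom.ker π.toRingHom := hf
  have hfker : ∀ j, π (f j) = 0 := fun j => by
    have : f j ∈ RingHom.ker π.toRingHom := by
      rw [← hf']; exact Ideal.subset_span ⟨j, rfl⟩
    exact this
  have hrel : ∀ x : MvPolynomial (Fin n) R, π x = 0 →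
      ∃ c : Fin m → MvPolynomial (Fin n) R, ∑ k, c k * f k = x := by
    intro x hx
    have : x ∈ Ideal.span (Set.range f) := by
      rw [hf']; exact hx
    exact Ideal.mem_span_range_iff_exists_fun.mp this
  -- lift of α
  have hp' : ∀ i, ∃ p, π p = α (π (MvPolynomial.X i)) := fun i => hπ _
  choose p hp using hp'
  obtain ⟨φ, hφdef⟩ : ∃ φ : MvPolynomial (Fin n) R →ₐ[R] MvPolynomial (Fin n) R,
      φ = MvPolynomial.aeval p := ⟨_, rfl⟩
  have hφX : ∀ i, φ (MvPolynomial.X i) = p i := fun i => by rw [hφdef, MvPolynomial.aeval_X]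
  have hφ : ∀ a, π (φ a) = α (π a) := by
    have : π.comp φ = α.comp π := MvPolynomial.algHom_ext (fun i => by
      simp only [AlgHom.comp_apply, hφX, hp])
    exact fun a => DFunLike.congr_fun this a
  have hq' : ∀ i, ∃ q, α (π q) = π (MvPolynomial.X i) := fun i => by
    obtain ⟨y, hy⟩ := hα (π (MvPolynomial.X i))
    obtain ⟨q, rfl⟩ := hπ y
    exact ⟨q, hy⟩
  choose q hq using hq'
  have hR1 : ∀ j, ∃ c : Fin m → MvPolynomial (Fin n) R, ∑ k, c k * f k = φ (f j) := fun j =>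
    hrel _ (by rw [hφ, hfker, map_zero])
  choose h hh using hR1
  have hR2 : ∀ i, ∃ c : Fin m → MvPolynomial (Fin n) R,
      ∑ k, c k * f k = φ (q i) - MvPolynomial.X i := fun i =>
    hrel _ (by rw [map_sub, hφ, hq, sub_self])
  choose g hg using hR2
  rw [injective_iff_map_eq_zero]
  intro y hy
  obtain ⟨a, rfl⟩ := hπ y
  obtain ⟨c, hc⟩ := hrel (φ a) (by rw [hφ, hy])
  -- the coefficient ring
  obtain ⟨C1, hC1⟩ : ∃ C1 : Set R, C1 = ⋃ j, ((f j).coeffs : Set R) := ⟨_, rfl⟩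
  obtain ⟨C2, hC2⟩ : ∃ C2 : Set R, C2 = ⋃ i, ((p i).coeffs : Set R) := ⟨_, rfl⟩
  obtain ⟨C3, hC3⟩ : ∃ C3 : Set R, C3 = ⋃ i, ((q i).coeffs : Set R) := ⟨_, rfl⟩
  obtain ⟨C4, hC4⟩ : ∃ C4 : Set R, C4 = ⋃ i, ⋃ k, ((g i k).coeffs : Set R) := ⟨_, rfl⟩
  obtain ⟨C5, hC5⟩ : ∃ C5 : Set R, C5 = ⋃ j, ⋃ k, ((h j k).coeffs : Set R) := ⟨_, rfl⟩
  obtain ⟨C6, hC6⟩ : ∃ C6 : Set R, C6 = (a.coeffs : Set R) := ⟨_, rfl⟩
  obtain ⟨C7, hC7⟩ : ∃ C7 : Set R, C7 = ⋃ k, ((c k).coeffs : Set R) := ⟨_, rfl⟩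
  have hfin : (C1 ∪ C2 ∪ C3 ∪ C4 ∪ C5 ∪ C6 ∪ C7).Finite := by
    refine Set.Finite.union (Set.Finite.union (Set.Finite.union (Set.Finite.union
      (Set.Finite.union (Set.Finite.union ?_ ?_) ?_) ?_) ?_) ?_) ?_
    · rw [hC1]; exact Set.finite_iUnion fun _ => Finset.finite_toSet _
    · rw [hC2]; exact Set.finite_iUnion fun _ => Finset.finite_toSet _
    · rw [hC3]; exact Set.finite_iUnion fun _ => Finset.finite_toSet _
    · rw [hC4]; exact Set.finite_iUnion fun _ => Set.finite_iUnion fun _ => Finset.finite_toSet _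
    · rw [hC5]; exact Set.finite_iUnion fun _ => Set.finite_iUnion fun _ => Finset.finite_toSet _
    · rw [hC6]; exact Finset.finite_toSet _
    · rw [hC7]; exact Set.finite_iUnion fun _ => Finset.finite_toSet _
  obtain ⟨R₀, hR₀⟩ : ∃ R₀ : Subalgebra ℤ R,
      R₀ = Algebra.adjoin ℤ (C1 ∪ C2 ∪ C3 ∪ C4 ∪ C5 ∪ C6 ∪ C7) := ⟨_, rfl⟩
  have hfg : R₀.FG := Subalgebra.fg_def.mpr ⟨_, hfin, hR₀.symm⟩
  have hft : Algebra.FiniteType ℤ ↥R₀ := (Subalgebra.fg_iff_finiteType R₀).mp hfg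
  haveI hNoeth : IsNoetherianRing ↥R₀ := @Algebra.FiniteType.isNoetherianRing ℤ ↥R₀ _ _ _ hft _
  have hsub : ∀ x, x ∈ C1 ∪ C2 ∪ C3 ∪ C4 ∪ C5 ∪ C6 ∪ C7 → x ∈ R₀ := fun x hx => by
    rw [hR₀]; exact Algebra.subset_adjoin hx
  obtain ⟨ι, hι⟩ : ∃ ι : MvPolynomial (Fin n) ↥R₀ →+* MvPolynomial (Fin n) R,
      ι = MvPolynomial.map (algebraMap ↥R₀ R) := ⟨_, rfl⟩
  have hιinj : Function.Injective ι := by
    rw [hι]; exact MvPolynomial.map_injective _ (fun x y hxy => Subtype.ext hxy)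
  have hlift : ∀ t : MvPolynomial (Fin n) R,
      (∀ x ∈ t.coeffs, x ∈ C1 ∪ C2 ∪ C3 ∪ C4 ∪ C5 ∪ C6 ∪ C7) → ∃ t0, ι t0 = t := by
    intro t ht
    have : t ∈ Set.range (MvPolynomial.map (algebraMap ↥R₀ R)) := by
      rw [MvPolynomial.mem_range_map_iff_coeffs_subset]
      intro x hx
      exact ⟨⟨x, hsub x (ht x hx)⟩, rfl⟩
    rw [hι]; exact this
  have hf0' : ∀ j, ∃ t0, ι t0 = f j := fun j => hlift _ (fun x hx => by
    have : x ∈ C1 := by rw [hC1]; exact Set.mem_iUnion.mpr ⟨j, hx⟩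
    simp only [Set.mem_union]; tauto)
  have hp0' : ∀ i, ∃ t0, ι t0 = p i := fun i => hlift _ (fun x hx => by
    have : x ∈ C2 := by rw [hC2]; exact Set.mem_iUnion.mpr ⟨i, hx⟩
    simp only [Set.mem_union]; tauto)
  have hq0' : ∀ i, ∃ t0, ι t0 = q i := fun i => hlift _ (fun x hx => by
    have : x ∈ C3 := by rw [hC3]; exact Set.mem_iUnion.mpr ⟨i, hx⟩
    simp only [Set.mem_union]; tauto)
  have hg0' : ∀ i k, ∃ t0, ι t0 = g i k := fun i k => hlift _ (fun x hx => by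
    have : x ∈ C4 := by rw [hC4]; exact Set.mem_iUnion.mpr ⟨i, Set.mem_iUnion.mpr ⟨k, hx⟩⟩
    simp only [Set.mem_union]; tauto)
  have hh0' : ∀ j k, ∃ t0, ι t0 = h j k := fun j k => hlift _ (fun x hx => by
    have : x ∈ C5 := by rw [hC5]; exact Set.mem_iUnion.mpr ⟨j, Set.mem_iUnion.mpr ⟨k, hx⟩⟩
    simp only [Set.mem_union]; tauto)
  have ha0' : ∃ t0, ι t0 = a := hlift _ (fun x hx => by
    have : x ∈ C6 := by rw [hC6]; exact hx
    simp only [Set.mem_union]; tauto)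
  have hc0' : ∀ k, ∃ t0, ι t0 = c k := fun k => hlift _ (fun x hx => by
    have : x ∈ C7 := by rw [hC7]; exact Set.mem_iUnion.mpr ⟨k, hx⟩
    simp only [Set.mem_union]; tauto)
  choose f0 hf0 using hf0'
  choose p0 hp0 using hp0'
  choose q0 hq0 using hq0'
  choose g0 hg0 using hg0'
  choose h0 hh0 using hh0'
  obtain ⟨a0, ha0⟩ := ha0'
  choose c0 hc0 using hc0'
  obtain ⟨φ₀, hφ₀⟩ : ∃ φ₀ : MvPolynomial (Fin n) ↥R₀ →+* MvPolynomial (Fin n) ↥R₀,
      φ₀ = ((MvPolynomial.aeval p0 : MvPolynomial (Fin n) ↥R₀ →ₐ[↥R₀] MvPolynomial (Fin n) ↥R₀) :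
        MvPolynomial (Fin n) ↥R₀ →+* MvPolynomial (Fin n) ↥R₀) := ⟨_, rfl⟩
  have hφ₀C : ∀ r, φ₀ (MvPolynomial.C r) = MvPolynomial.C r := fun r => by
    rw [hφ₀]; simp
  have hφ₀X : ∀ i, φ₀ (MvPolynomial.X i) = p0 i := fun i => by
    rw [hφ₀]; simp
  have hcomm : ∀ b, ι (φ₀ b) = φ (ι b) := by
    have : ι.comp φ₀ = (φ : MvPolynomial (Fin n) R →+* MvPolynomial (Fin n) R).comp ι := by
      refine MvPolynomial.ringHom_ext (fun r => ?_) (fun i => ?_)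
      · simp only [RingHom.comp_apply, hφ₀C]
        rw [hι]; simp [hφdef]
      · simp only [RingHom.comp_apply, hφ₀X, hp0]
        rw [hι]; simp [hφX]
    exact fun b => DFunLike.congr_fun this b
  have hιX : ∀ i, ι (MvPolynomial.X i) = MvPolynomial.X i := fun i => by rw [hι]; simp
  have hR1₀ : ∀ j, φ₀ (f0 j) = ∑ k, h0 j k * f0 k := fun j => hιinj (by
    rw [hcomm, hf0, map_sum]
    simp only [map_mul, hh0, hf0]
    exact (hh j).symm)
  have hR2₀ : ∀ i, φ₀ (q0 i) - MvPolynomial.X i = ∑ k, g0 i k * f0 k := fun i => hιinj (by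
    rw [map_sub, hcomm, hq0, hιX, map_sum]
    simp only [map_mul, hg0, hf0]
    exact (hg i).symm)
  have hR3₀ : φ₀ a0 = ∑ k, c0 k * f0 k := hιinj (by
    rw [hcomm, ha0, map_sum]
    simp only [map_mul, hc0, hf0]
    exact hc.symm)
  obtain ⟨I₀, hI₀⟩ : ∃ I₀ : Ideal (MvPolynomial (Fin n) ↥R₀), I₀ = Ideal.span (Set.range f0) :=
    ⟨_, rfl⟩
  have hsum_mem : ∀ d : Fin m → MvPolynomial (Fin n) ↥R₀, ∑ k, d k * f0 k ∈ I₀ := fun d =>
    Ideal.sum_mem _ (fun k _ => Ideal.mul_mem_left _ _ (by rw [hI₀]; exact Ideal.subset_span ⟨k, rfl⟩))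
  have hN1 : ∀ b ∈ I₀, φ₀ b ∈ I₀ := by
    have : I₀ ≤ Ideal.comap φ₀ I₀ := by
      rw [hI₀, Ideal.span_le]
      rintro _ ⟨j, rfl⟩
      show φ₀ (f0 j) ∈ Ideal.span (Set.range f0)
      rw [hR1₀, ← hI₀]; exact hsum_mem _
    exact fun b hb => this hb
  have hN2 : ∀ b, ∃ b', b - φ₀ b' ∈ I₀ := by
    intro b
    induction b using MvPolynomial.induction_on with
    | C r => exact ⟨MvPolynomial.C r, by rw [hφ₀C, sub_self]; exact I₀.zero_mem⟩
    | add b1 b2 h1 h2 =>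
      obtain ⟨b1', h1⟩ := h1
      obtain ⟨b2', h2⟩ := h2
      refine ⟨b1' + b2', ?_⟩
      rw [map_add]
      have := I₀.add_mem h1 h2
      have e : b1 + b2 - (φ₀ b1' + φ₀ b2') = b1 - φ₀ b1' + (b2 - φ₀ b2') := by ring
      rw [e]; exact this
    | mul_X b i hb =>
      obtain ⟨b', hb⟩ := hb
      refine ⟨b' * q0 i, ?_⟩
      rw [map_mul]
      have h3 : φ₀ (q0 i) - MvPolynomial.X i ∈ I₀ := by rw [hR2₀]; exact hsum_mem _
      have e : b * MvPolynomial.X i - φ₀ b' * φ₀ (q0 i)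
          = (b - φ₀ b') * MvPolynomial.X i - φ₀ b' * (φ₀ (q0 i) - MvPolynomial.X i) := by ring
      rw [e]; exact I₀.sub_mem (I₀.mul_mem_right _ hb) (I₀.mul_mem_left _ h3)
  have hN1k : ∀ (k : ℕ) b, b ∈ I₀ → φ₀^[k] b ∈ I₀ := by
    intro k
    induction k with
    | zero => intro b hb; simpa using hb
    | succ k ih => intro b hb; rw [Function.iterate_succ_apply']; exact hN1 _ (ih b hb)
  have hN3 : ∀ (k : ℕ) b, ∃ b', b - φ₀^[k] b' ∈ I₀ := by
    intro k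
    induction k with
    | zero => intro b; exact ⟨b, by simp⟩
    | succ k ih =>
      intro b
      obtain ⟨b1, h1⟩ := ih b
      obtain ⟨b2, h2⟩ := hN2 b1
      refine ⟨b2, ?_⟩
      rw [Function.iterate_succ_apply]
      have h3 : φ₀^[k] b1 - φ₀^[k] (φ₀ b2) ∈ I₀ := by
        rw [← iterate_map_sub]; exact hN1k k _ h2
      have e : b - φ₀^[k] (φ₀ b2) = (b - φ₀^[k] b1) + (φ₀^[k] b1 - φ₀^[k] (φ₀ b2)) := by ring
      rw [e]; exact I₀.add_mem h1 h3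
  -- the stabilizing chain
  have hJmem : ∀ (k : ℕ) b, b ∈ Ideal.comap (φ₀ ^ k) I₀ ↔ φ₀^[k] b ∈ I₀ := fun k b => by
    rw [Ideal.mem_comap, RingHom.coe_pow]
  obtain ⟨J, hJ⟩ : ∃ J : ℕ →o Ideal (MvPolynomial (Fin n) ↥R₀),
      ∀ k, J k = Ideal.comap (φ₀ ^ k) I₀ := by
    refine ⟨⟨fun k => Ideal.comap (φ₀ ^ k) I₀, monotone_nat_of_le_succ (fun k b hb => ?_)⟩,
      fun k => rfl⟩
    rw [hJmem] at hb ⊢
    rw [Function.iterate_succ_apply']; exact hN1 _ hb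
  obtain ⟨k, hk⟩ := monotone_stabilizes_iff_noetherian.mpr
    (inferInstance : IsNoetherian (MvPolynomial (Fin n) ↥R₀) (MvPolynomial (Fin n) ↥R₀)) J
  obtain ⟨y, hy'⟩ := hN3 k a0
  have h5 : φ₀ (φ₀^[k] y) ∈ I₀ := by
    have h51 : φ₀ a0 ∈ I₀ := by rw [hR3₀]; exact hsum_mem _
    have := I₀.sub_mem h51 (hN1 _ hy')
    rwa [map_sub, sub_sub_cancel] at this
  have h6 : y ∈ J (k + 1) := by
    rw [hJ, hJmem, Function.iterate_succ_apply']; exact h5
  rw [← hk (k + 1) (Nat.le_succ k), hJ, hJmem] at h6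
  have h8 : a0 ∈ I₀ := by
    have := I₀.add_mem hy' h6
    rwa [sub_add_cancel] at this
  have h9 : I₀ ≤ Ideal.comap ι (RingHom.ker π.toRingHom) := by
    rw [hI₀, Ideal.span_le]
    rintro _ ⟨j, rfl⟩
    show ι (f0 j) ∈ RingHom.ker π.toRingHom
    rw [hf0, ← hf']; exact Ideal.subset_span ⟨j, rfl⟩
  have h10 : ι a0 ∈ RingHom.ker π.toRingHom := h9 h8
  rw [ha0] at h10
  exact h10

end Groth.Agent.S13096
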