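import Groth.Statements.S13097
import Mathlib

set_option autoImplicit false
universe u
open FlatMor

namespace Groth.Agent.S13097

open CategoryTheory AlgebraicGeometry in
/-- Let f : X → S be a quasi-compact, separated morphism of schemes with a section e : S → X (e followed
by f is the identity of S), and U ⊆ S an open subscheme such that f⁻¹(U) is schematically dense in X
(for every open V of X, restriction of functions from V to V ∩ f⁻¹(U) is injective) and such that
the restriction f⁻¹(U) → U of f is a homeomorphism of underlying spaces. Then f is universally a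
homeomorphism (every base change of f is a homeomorphism), and f is finite as soon as it is locally
of finite type. (The published statement also lists surjectivity of f, which a section forces, and
offers as an alternative to the section the hypothesis that f be flat, still with f⁻¹(U) → U only a
homeomorphism; that flat alternative fails: the spectrum of a separable quadratic field extension
over the spectrum of the ground field, with U the whole base, is flat, surjective, quasi-compact,
separated and a homeomorphism over U, yet not universally injective. Only the case of a section,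
whose published proof is complete, is stated here.) -/
theorem result {X S : Scheme.{u}} (f : X ⟶ S)
    [QuasiCompact f] [IsSeparated f] (U : S.Opens)
    (hdense : CInt.IsSchematicallyDense (f ⁻¹ᵁ U)) (hU : IsHomeomorph (f ∣_ U).base)
    (e : S ⟶ X) (he : e ≫ f = 𝟙 S) :
    FlatMor.IsUnivHomeo f ∧ (LocallyOfFiniteType f → IsFinite f) := by
  have hcef : IsClosedImmersion (e ≫ f) := by rw [he]; infer_instance
  have hce : IsClosedImmersion e := IsClosedImmersion.of_comp e f
  -- `f⁻¹(U)` is contained in the image of `e`
  have hsub : ((f ⁻¹ᵁ U : X.Opens) : Set X) ⊆ Set.range e.base := by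
    intro x hx
    refine ⟨f.base x, ?_⟩
    have hfe : f.base (e.base (f.base x)) = f.base x := by
      rw [← Scheme.Hom.comp_apply, he]; rfl
    have hx' : e.base (f.base x) ∈ f ⁻¹ᵁ U := by
      show f.base _ ∈ U
      rw [hfe]; exact hx
    have h1 : (⟨e.base (f.base x), hx'⟩ : ↥(f ⁻¹ᵁ U)) = ⟨x, hx⟩ := by
      apply hU.injective
      apply Subtype.ext
      rw [morphismRestrict_base_coe, morphismRestrict_base_coe]; exact hfe
    exact congrArg Subtype.val h1
  -- density
  have hd : Dense ((f ⁻¹ᵁ U : X.Opens) : Set X) := by
    rw [dense_iff_inter_open]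
    intro V hV hVne
    by_contra hempty
    rw [Set.not_nonempty_iff_eq_empty] at hempty
    have hbot : (⟨V, hV⟩ : X.Opens) ⊓ f ⁻¹ᵁ U = ⊥ := by
      ext y
      simp only [TopologicalSpace.Opens.coe_inf, TopologicalSpace.Opens.coe_mk,
        TopologicalSpace.Opens.coe_bot]
      rw [hempty]
    have hinj := hdense ⟨V, hV⟩
    have h10 : (1 : Γ(X, (⟨V, hV⟩ : X.Opens))) = 0 := by
      apply hinj
      have : Subsingleton Γ(X, (⟨V, hV⟩ : X.Opens) ⊓ f ⁻¹ᵁ U) := by rw [hbot]; infer_instance
      exact Subsingleton.elim _ _
    have hVbot : (⟨V, hV⟩ : X.Opens) = ⊥ := by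
      rw [← X.basicOpen_of_isUnit (isUnit_one : IsUnit (1 : Γ(X, (⟨V, hV⟩ : X.Opens)))), h10,
        X.basicOpen_zero]
    obtain ⟨y, hy⟩ := hVne
    have : y ∈ (⟨V, hV⟩ : X.Opens) := hy
    rw [hVbot] at this
    exact this
  have hsurj : Function.Surjective e.base := by
    rw [← Set.range_eq_univ]
    have hcl : IsClosed (Set.range e.base) := e.isClosedEmbedding.isClosed_range
    rw [← hcl.closure_eq]
    exact (hd.mono hsub).closure_eq
  have hse : Surjective e := ⟨hsurj⟩
  -- `e` is a universal homeomorphism
  have hPe : FlatMor.IsUnivHomeo e := by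
    intro X' Y' i₁ i₂ e' hpb
    have h1 : IsClosedImmersion e' :=
      MorphismProperty.of_isPullback (P := @IsClosedImmersion) hpb.flip hce
    have h2 : Surjective e' := MorphismProperty.of_isPullback (P := @Surjective) hpb.flip hse
    exact isHomeomorph_iff_isEmbedding_surjective.mpr
      ⟨e'.isClosedEmbedding.isEmbedding, e'.surjective⟩
  have hPf : FlatMor.IsUnivHomeo f := by
    intro X' S' i₁ i₂ f' hpb
    let e' : S' ⟶ X' := hpb.lift (𝟙 S') (i₂ ≫ e) (by rw [Category.id_comp, Category.assoc, he,
      Category.comp_id])
    have he'1 : e' ≫ f' = 𝟙 S' := hpb.lift_fst _ _ _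
    have he'2 : e' ≫ i₁ = i₂ ≫ e := hpb.lift_snd _ _ _
    have hbig : IsPullback (e' ≫ f') i₂ i₂ (e ≫ f) := by
      rw [he'1, he]
      exact IsPullback.of_horiz_isIso ⟨by simp⟩
    have hleft : IsPullback e' i₂ i₁ e := IsPullback.of_right hbig he'2 hpb
    have hhe' : IsHomeomorph e'.base := hPe _ _ _ hleft
    have hcomp : f'.base ∘ e'.base = id := by
      ext s
      show f'.base (e'.base s) = s
      rw [← Scheme.Hom.comp_apply, he'1]; rfl
    show IsHomeomorph f'.base
    let h := hhe'.homeomorph
    have hf'eq : (f'.base : X' → S') = h.symm := by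
      ext x
      obtain ⟨s, rfl⟩ := hhe'.surjective x
      have h3 : f'.base (e'.base s) = s := congrFun hcomp s
      rw [h3]
      exact (h.symm_apply_apply s).symm
    rw [hf'eq]
    exact h.symm.isHomeomorph
  refine ⟨hPf, fun hft => ?_⟩
  have hinj : Function.Injective f.base :=
    (hPf (𝟙 X) (𝟙 S) f (IsPullback.of_vert_isIso ⟨by simp⟩)).injective
  have huc : UniversallyClosed f := by
    rw [universallyClosed_eq]
    exact MorphismProperty.universally_mono (fun _ _ g hg => hg.isClosedMap) _ hPf
  have hprop : IsProper f := {}
  have hqf : LocallyQuasiFinite f := LocallyQuasiFinite.of_injective hinj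
  exact IsFinite.of_isProper_of_locallyQuasiFinite f

end Groth.Agent.S13097
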