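import Groth.Statements.S13098
import Mathlib

set_option autoImplicit false
universe u v
open Lie3Mod

namespace Groth.Agent.S13098

theorem result (R : Type u) [CommRing R] (M : Type v) [AddCommGroup M] [Module R M]
    (bs : Module.Basis (Fin 3) R M) (B : M →ₗ[R] M →ₗ[R] M) (halt : ∀ m : M, B m m = 0)
    (a b c d e f g h i : R)
    (hxy : B (bs 0) (bs 1) = a • bs 0 + b • bs 1 + c • bs 2)
    (hxz : B (bs 0) (bs 2) = d • bs 0 + e • bs 1 + f • bs 2)
    (hyz : B (bs 1) (bs 2) = g • bs 0 + h • bs 1 + i • bs 2) :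
    (∀ u v w : M, B u (B v w) + B v (B w u) + B w (B u v) = 0) ↔
      (a * h + d * i - f * g - b * g = 0 ∧ i * e + b * d - f * h - a * e = 0 ∧
        h * c + d * c - a * f - b * i = 0) := by
  have hanti : ∀ m n : M, B m n = - B n m := by
    intro m n
    have h1 := halt (m + n)
    simp only [map_add, LinearMap.add_apply, halt, zero_add, add_zero] at h1
    exact eq_neg_of_add_eq_zero_right h1
  have hyx : B (bs 1) (bs 0) = -(a • bs 0 + b • bs 1 + c • bs 2) := by rw [hanti, hxy]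
  have hzx : B (bs 2) (bs 0) = -(d • bs 0 + e • bs 1 + f • bs 2) := by rw [hanti, hxz]
  have hzy : B (bs 2) (bs 1) = -(g • bs 0 + h • bs 1 + i • bs 2) := by rw [hanti, hyz]
  have key : ∀ v0 v1 v2 w0 w1 w2 : R,
      B (v0 • bs 0 + v1 • bs 1 + v2 • bs 2) (w0 • bs 0 + w1 • bs 1 + w2 • bs 2) =
        (a * (v0 * w1 - v1 * w0) + d * (v0 * w2 - v2 * w0) + g * (v1 * w2 - v2 * w1)) • bs 0 +
        (b * (v0 * w1 - v1 * w0) + e * (v0 * w2 - v2 * w0) + h * (v1 * w2 - v2 * w1)) • bs 1 +
        (c * (v0 * w1 - v1 * w0) + f * (v0 * w2 - v2 * w0) + i * (v1 * w2 - v2 * w1)) • bs 2 := by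
    intro v0 v1 v2 w0 w1 w2
    simp only [map_add, map_smul, LinearMap.add_apply, LinearMap.smul_apply, halt, hxy, hxz, hyz,
      hyx, hzx, hzy]
    module
  have hdecomp : ∀ m : M, m = bs.repr m 0 • bs 0 + bs.repr m 1 • bs 1 + bs.repr m 2 • bs 2 := by
    intro m
    conv_lhs => rw [← bs.sum_repr m]
    rw [Fin.sum_univ_three]
  have hJ : B (bs 0) (B (bs 1) (bs 2)) + B (bs 1) (B (bs 2) (bs 0)) + B (bs 2) (B (bs 0) (bs 1)) =
      (a * h + d * i - f * g - b * g) • bs 0 + (i * e + b * d - f * h - a * e) • bs 1 +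
        (h * c + d * c - a * f - b * i) • bs 2 := by
    rw [hyz, hzx, hxy]
    simp only [map_add, map_smul, map_neg, LinearMap.add_apply, LinearMap.smul_apply, halt, hxy,
      hxz, hyz, hyx, hzx, hzy]
    module
  constructor
  · intro hjac
    have h0 := hjac (bs 0) (bs 1) (bs 2)
    rw [hJ] at h0
    have h1 := congrArg bs.repr h0
    simp only [map_add, map_smul, Module.Basis.repr_self, map_zero] at h1
    refine ⟨?_, ?_, ?_⟩
    · have := DFunLike.congr_fun h1 0
      simpa using this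
    · have := DFunLike.congr_fun h1 1
      simpa using this
    · have := DFunLike.congr_fun h1 2
      simpa using this
  · rintro ⟨hQ1, hQ2, hQ3⟩ u v w
    rw [hdecomp u, hdecomp v, hdecomp w]
    generalize bs.repr u 0 = u0
    generalize bs.repr u 1 = u1
    generalize bs.repr u 2 = u2
    generalize bs.repr v 0 = v0
    generalize bs.repr v 1 = v1
    generalize bs.repr v 2 = v2
    generalize bs.repr w 0 = w0
    generalize bs.repr w 1 = w1
    generalize bs.repr w 2 = w2
    rw [key v0 v1 v2 w0 w1 w2, key w0 w1 w2 u0 u1 u2, key u0 u1 u2 v0 v1 v2, key, key, key]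
    have hQ1x : (a * h + d * i - f * g - b * g) • bs 0 = 0 := by rw [hQ1, zero_smul]
    have hQ2y : (i * e + b * d - f * h - a * e) • bs 1 = 0 := by rw [hQ2, zero_smul]
    have hQ3z : (h * c + d * c - a * f - b * i) • bs 2 = 0 := by rw [hQ3, zero_smul]
    linear_combination (norm := module)
      (u0 * (v1 * w2 - v2 * w1) - u1 * (v0 * w2 - v2 * w0) + u2 * (v0 * w1 - v1 * w0)) • hQ1x +
      (u0 * (v1 * w2 - v2 * w1) - u1 * (v0 * w2 - v2 * w0) + u2 * (v0 * w1 - v1 * w0)) • hQ2y +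
      (u0 * (v1 * w2 - v2 * w1) - u1 * (v0 * w2 - v2 * w0) + u2 * (v0 * w1 - v1 * w0)) • hQ3z

end Groth.Agent.S13098
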