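import Groth.Statements.S1310
import Mathlib
set_option linter.style.haveILetI false

set_option autoImplicit false
universe u
open FlatMor

namespace Groth.Agent.S1310

section Aux
open AlgebraicGeometry CategoryTheory Limits TensorProduct

theorem ring_key {R S A B : Type u} [CommRing R] [CommRing S] [CommRing A] [CommRing B]
    [Algebra R S] [Algebra R A] [Algebra R B] [Algebra A B] [Algebra S B]
    [IsScalarTower R A B] [IsScalarTower R S B] [Algebra.IsPushout R S A B]
    (hs : Function.Surjective (algebraMap R S)) (hn : IsNilpotent (RingHom.ker (algebraMap R S)))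
    [Algebra.FormallyUnramified S B] : Algebra.FormallyUnramified R A := by
  constructor
  have h2 : Subsingleton (S ⊗[R] Ω[A⁄R]) :=
    (KaehlerDifferential.tensorKaehlerEquivBase R S A B).toEquiv.subsingleton
  let f : R →ₐ[R] S := Algebra.ofId R S
  have hf : Function.Surjective f := hs
  let eS : (R ⧸ RingHom.ker f) ≃ₗ[R] S := (Ideal.quotientKerAlgEquivOfSurjective hf).toLinearEquiv
  have h3 : Subsingleton ((R ⧸ RingHom.ker f) ⊗[R] Ω[A⁄R]) :=
    (TensorProduct.congr eS (LinearEquiv.refl R Ω[A⁄R])).toEquiv.subsingleton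
  have h4 : Subsingleton (Ω[A⁄R] ⧸ (RingHom.ker f • ⊤ : Submodule R Ω[A⁄R])) :=
    (TensorProduct.quotTensorEquivQuotSMul Ω[A⁄R] (RingHom.ker f)).symm.toEquiv.subsingleton
  have h5 : (RingHom.ker f • ⊤ : Submodule R Ω[A⁄R]) = ⊤ :=
    Submodule.Quotient.subsingleton_iff.mp h4
  obtain ⟨n, hn⟩ := hn
  have h6 : ∀ k : ℕ, ((RingHom.ker f) ^ k • ⊤ : Submodule R Ω[A⁄R]) = ⊤ := by
    intro k
    induction k with
    | zero => simp
    | succ k ih => rw [pow_succ, Submodule.mul_smul, h5, ih]
  have hk : RingHom.ker f ^ n = ⊥ := by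
    have h0 : RingHom.ker f = RingHom.ker (algebraMap R S) := by
      ext x; simp [RingHom.mem_ker, f]
    rw [h0]; exact hn
  have h7 : (⊥ : Submodule R Ω[A⁄R]) = ⊤ := by
    rw [← h6 n, hk, Submodule.bot_smul]
  exact (Submodule.subsingleton_iff R).mp (subsingleton_of_bot_eq_top h7)

theorem cat_key {R S T P : CommRingCat.{u}} {f : R ⟶ S} {g : R ⟶ T} {inl : S ⟶ P} {inr : T ⟶ P}
    (h : CategoryTheory.IsPushout f g inl inr) (hg : Function.Surjective g.hom)
    (hn : IsNilpotent (RingHom.ker g.hom)) (hu : inr.hom.FormallyUnramified) :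
    f.hom.FormallyUnramified := by
  algebraize [f.hom, g.hom, inl.hom, inr.hom, inl.hom.comp f.hom]
  have : IsScalarTower R T P := .of_algebraMap_eq' <| congr($(h.1.1).hom)
  have h1 : Algebra.IsPushout R S T P := CommRingCat.isPushout_iff_isPushout.mp h
  have h2 : Algebra.IsPushout R T S P := h1.symm
  have : Algebra.FormallyUnramified T P := hu
  exact ring_key (R := R) (S := T) (A := S) (B := P) hg hn

end Aux

open AlgebraicGeometry CategoryTheory Limits in
/-- Let S ⟶ S' be a finite order thickening and let X be the base change of a scheme X' over S' to S (so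
X ⟶ X' is again a thickening). Then X ⟶ S is formally unramified if and only if X' ⟶ S' is. (The
source states this as the vanishing of the sheaf of relative differentials; formal unramifiedness is
the equivalent phrasing available here.) -/
theorem result {X X' S S' : Scheme.{u}} (iX : X ⟶ X') (iS : S ⟶ S') (f : X ⟶ S) (f' : X' ⟶ S')
    (hS : MoreMor.IsFiniteOrderThickening iS) (hc : IsPullback iX f f' iS) :
    FormallyUnramified f ↔ FormallyUnramified f' := by
  constructor
  · intro hf
    obtain ⟨⟨hci, hsurj⟩, hnil⟩ := hS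
    haveI := hci
    refine ⟨fun {U'} hU' {V'} hV' e => ?_⟩
    have hUT : IsAffineOpen (iS ⁻¹ᵁ U') := hU'.preimage iS
    have hiso := isIso_pushoutSection_of_isAffineOpen hc (le_refl (iS ⁻¹ᵁ U')) e rfl hU' hUT hV'
    have hpo := (isIso_pushoutSection_iff hc (le_refl (iS ⁻¹ᵁ U')) e rfl).mp hiso
    have hUY : IsAffineOpen (iX ⁻¹ᵁ V' ⊓ f ⁻¹ᵁ (iS ⁻¹ᵁ U')) := by
      have : IsAffine _ := hU'
      have : IsAffine _ := hUT
      have : IsAffine _ := hV'
      exact .of_isIso (Scheme.Hom.isPullback_resLE hc (le_refl (iS ⁻¹ᵁ U')) e rfl).isoPullback.hom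
    refine cat_key hpo ?_ ?_ (f.formallyUnramified_appLE hUT hUY _)
    · rw [Scheme.Hom.appLE_eq_app]; exact iS.app_surjective U' hU'
    · rw [Scheme.Hom.appLE_eq_app]
      obtain ⟨n, hn⟩ := hnil
      exact ⟨n, by simpa using congr(($hn).ideal ⟨U', hU'⟩)⟩
  · intro hf'
    exact MorphismProperty.of_isPullback (P := @FormallyUnramified) hc hf'

end Groth.Agent.S1310
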