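import Groth.Statements.S13100
import Mathlib

set_option autoImplicit false
universe u
open GrpSch

namespace Groth.Agent.S13100

open Polynomial in
/-- square roots of power series with nonzero constant coefficient. -/
theorem exists_sqrt {k : Type u} [Field k] [IsAlgClosed k] (h2 : (2 : k) ≠ 0)
    (p : PowerSeries k) (hp : PowerSeries.constantCoeff p ≠ 0) : ∃ q : PowerSeries k, q * q = p := by
  obtain ⟨s, hs⟩ := IsAlgClosed.exists_pow_nat_eq (PowerSeries.constantCoeff p) (n := 2) (by norm_num)
  have hs0 : s ≠ 0 := by
    rintro rfl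
    apply hp; rw [← hs]; simp
  have hH : HenselianRing (PowerSeries k) (Ideal.span {PowerSeries.X}) := inferInstance
  obtain ⟨a, ha, -⟩ := hH.is_henselian (X ^ 2 - C p) (monic_X_pow_sub_C p (by norm_num))
    (PowerSeries.C s) (by
      rw [Ideal.mem_span_singleton, PowerSeries.X_dvd_iff]
      simp [hs]) (by
      have : (derivative (X ^ 2 - C p : (PowerSeries k)[X])).eval (PowerSeries.C s)
          = PowerSeries.C (2 * s) := by
        simp only [derivative_sub, derivative_X_pow, derivative_C, sub_zero, eval_mul, eval_C,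
          eval_pow, eval_X, map_mul]
        simp [map_ofNat]
      rw [this]
      apply IsUnit.map
      apply IsUnit.map
      exact (mul_ne_zero h2 hs0).isUnit)
  refine ⟨a, ?_⟩
  have := ha
  simp only [IsRoot, eval_sub, eval_pow, eval_X, eval_C] at this
  rw [← pow_two]
  exact sub_eq_zero.mp this

theorem result (k : Type u) [Field k] [IsAlgClosed k] (h2 : (2 : k) ≠ 0)
    (f : LaurentSeries k) (hf : f ≠ 0) : IsSquare f ↔ Even f.order := by
  constructor
  · rintro ⟨g, rfl⟩
    have hg : g ≠ 0 := by rintro rfl; simp at hf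
    rw [HahnSeries.order_mul hg hg]
    exact ⟨_, rfl⟩
  · rintro ⟨m, hm⟩
    have hc : PowerSeries.constantCoeff f.powerSeriesPart ≠ 0 := by
      rw [← PowerSeries.coeff_zero_eq_constantCoeff_apply, LaurentSeries.powerSeriesPart_coeff]
      simpa using (HahnSeries.coeff_order_eq_zero (x := f)).not.mpr hf
    obtain ⟨q, hq⟩ := exists_sqrt h2 _ hc
    refine ⟨HahnSeries.single m 1 * HahnSeries.ofPowerSeries ℤ k q, ?_⟩
    have h1 := LaurentSeries.single_order_mul_powerSeriesPart f
    rw [← hq, hm] at h1
    rw [← h1]
    have : (HahnSeries.single (m + m) (1 : k)) = HahnSeries.single m 1 * HahnSeries.single m 1 := by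
      rw [HahnSeries.single_mul_single]; simp
    rw [this, map_mul]
    ring

end Groth.Agent.S13100
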