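import Groth.Statements.S13101
import Mathlib.Tactic

set_option autoImplicit false
universe u v
open GrpSch

namespace Groth.Agent.S13101

/-- Let A be a commutative ring in which 2 is a unit, and L a Lie algebra over A, free as a module with
basis x = bs 0, y = bs 1, z = bs 2 and brackets [x,y] = y, [x,z] = y + z, [y,z] = 0. Then for every
Lie algebra automorphism φ of L over A there are b, c, h ∈ A and a unit i of A with φ(x) = x + b y +
c z, φ(y) = i y and φ(z) = h y + i z. Only the form of an automorphism is stated, not that every map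
of this form is one. (The published statement identifies the automorphism group scheme with a
semidirect product of two additive groups by the product of the multiplicative and additive group,
for algebras over a field of Laurent series of characteristic not 2, and deduces the vanishing of
its first cohomology; this row records the determination of the automorphisms, over any base ring
with 2 invertible; the cohomological consequence is not restated.) -/
theorem result (A : Type u) [CommRing A] (h2 : IsUnit (2 : A))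
    (L : Type v) [LieRing L] [LieAlgebra A L] (bs : Module.Basis (Fin 3) A L)
    (hxy : ⁅bs 0, bs 1⁆ = bs 1) (hxz : ⁅bs 0, bs 2⁆ = bs 1 + bs 2) (hyz : ⁅bs 1, bs 2⁆ = 0)
    (φ : L ≃ₗ⁅A⁆ L) :
    ∃ b c h i : A, IsUnit i ∧ φ (bs 0) = bs 0 + b • bs 1 + c • bs 2 ∧ φ (bs 1) = i • bs 1 ∧
      φ (bs 2) = h • bs 1 + i • bs 2 := by
  classical
  -- coordinates
  have hexp : ∀ w : L, w = bs.repr w 0 • bs 0 + bs.repr w 1 • bs 1 + bs.repr w 2 • bs 2 := by
    intro w
    conv_lhs => rw [← bs.sum_repr w]
    rw [Fin.sum_univ_three]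
  have hyx : ⁅bs 1, bs 0⁆ = -bs 1 := by rw [← lie_skew, hxy]
  have hzx : ⁅bs 2, bs 0⁆ = -(bs 1 + bs 2) := by rw [← lie_skew, hxz]
  have hzy : ⁅bs 2, bs 1⁆ = 0 := by rw [← lie_skew, hyz, neg_zero]
  have hbr : ∀ α β γ α' β' γ' : A,
      ⁅α • bs 0 + β • bs 1 + γ • bs 2, α' • bs 0 + β' • bs 1 + γ' • bs 2⁆ =
        (α * β' - β * α' + α * γ' - γ * α') • bs 1 + (α * γ' - γ * α') • bs 2 := by
    intro α β γ α' β' γ'
    simp only [add_lie, lie_add, smul_lie, lie_smul, lie_self, hxy, hxz, hyz, hyx, hzx, hzy,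
      smul_zero, add_zero, zero_add, smul_neg, smul_add]
    module
  have hcoord : ∀ α β γ : A, bs.repr (α • bs 0 + β • bs 1 + γ • bs 2) 0 = α ∧
      bs.repr (α • bs 0 + β • bs 1 + γ • bs 2) 1 = β ∧
      bs.repr (α • bs 0 + β • bs 1 + γ • bs 2) 2 = γ := by
    intro α β γ
    simp
  set a1 := bs.repr (φ (bs 0)) 0 with ha1
  set b := bs.repr (φ (bs 0)) 1 with hb
  set c := bs.repr (φ (bs 0)) 2 with hc
  set a2 := bs.repr (φ (bs 1)) 0 with ha2
  set e := bs.repr (φ (bs 1)) 1 with he
  set f := bs.repr (φ (bs 1)) 2 with hf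
  set a3 := bs.repr (φ (bs 2)) 0 with ha3
  set h := bs.repr (φ (bs 2)) 1 with hh
  set i := bs.repr (φ (bs 2)) 2 with hi
  have hX := hexp (φ (bs 0))
  have hY := hexp (φ (bs 1))
  have hZ := hexp (φ (bs 2))
  rw [← ha1, ← hb, ← hc] at hX
  rw [← ha2, ← he, ← hf] at hY
  rw [← ha3, ← hh, ← hi] at hZ
  -- φ y = [φ x, φ y]
  have e1 : φ (bs 1) = ⁅φ (bs 0), φ (bs 1)⁆ := by rw [← LieEquiv.map_lie, hxy]
  have e2 : φ (bs 1) + φ (bs 2) = ⁅φ (bs 0), φ (bs 2)⁆ := by rw [← LieEquiv.map_lie, hxz, map_add]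
  rw [hX, hY, hbr] at e1
  rw [hX, hY, hZ, hbr] at e2
  have e1' : a2 • bs 0 + e • bs 1 + f • bs 2 = (0 : A) • bs 0 + (a1 * e - b * a2 + a1 * f - c * a2) • bs 1 + (a1 * f - c * a2) • bs 2 := by
    rw [zero_smul, zero_add]; exact e1
  have e2' : (a2 + a3) • bs 0 + (e + h) • bs 1 + (f + i) • bs 2 = (0 : A) • bs 0 + (a1 * h - b * a3 + a1 * i - c * a3) • bs 1 + (a1 * i - c * a3) • bs 2 := by
    rw [zero_smul, zero_add, ← e2]; module
  have c1 := congrArg bs.repr e1'
  have c2 := congrArg bs.repr e2'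
  have q1 : a2 = 0 := by
    have := congrArg (fun g => g 0) c1
    simp only [(hcoord _ _ _).1] at this
    exact this
  have q2 : e = a1 * e - b * a2 + a1 * f - c * a2 := by
    have := congrArg (fun g => g 1) c1
    simp only [(hcoord _ _ _).2.1] at this
    exact this
  have q3 : f = a1 * f - c * a2 := by
    have := congrArg (fun g => g 2) c1
    simp only [(hcoord _ _ _).2.2] at this
    exact this
  have q4 : a2 + a3 = 0 := by
    have := congrArg (fun g => g 0) c2
    simp only [(hcoord _ _ _).1] at this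
    exact this
  have q5 : e + h = a1 * h - b * a3 + a1 * i - c * a3 := by
    have := congrArg (fun g => g 1) c2
    simp only [(hcoord _ _ _).2.1] at this
    exact this
  have q6 : f + i = a1 * i - c * a3 := by
    have := congrArg (fun g => g 2) c2
    simp only [(hcoord _ _ _).2.2] at this
    exact this
  have q7 : a3 = 0 := by rw [q1, zero_add] at q4; exact q4
  rw [q1] at q2 q3
  rw [q7] at q5 q6
  -- determinant
  have hdet := LinearEquiv.isUnit_det (φ : L ≃ₗ[A] L) bs bs
  rw [Matrix.det_fin_three] at hdet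
  simp only [LinearMap.toMatrix_apply, LinearEquiv.coe_coe] at hdet
  have hφ0 : ((φ : L ≃ₗ[A] L) (bs 0)) = φ (bs 0) := rfl
  have hφ1 : ((φ : L ≃ₗ[A] L) (bs 1)) = φ (bs 1) := rfl
  have hφ2 : ((φ : L ≃ₗ[A] L) (bs 2)) = φ (bs 2) := rfl
  rw [hφ0, hφ1, hφ2] at hdet
  rw [← ha1, ← hb, ← hc, ← ha2, ← he, ← hf, ← ha3, ← hh, ← hi, q1, q7] at hdet
  have hU : IsUnit (a1 * (e * i - f * h)) := by
    convert hdet using 1; ring
  obtain ⟨ha1u, hD⟩ := IsUnit.mul_iff.mp hU
  set t := a1 - 1 with ht
  have r1 : t * f = 0 := by linear_combination f * ht - q3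
  have r2 : t * e = -f := by linear_combination e * ht - q2 - r1 + f * ht
  have r3 : t * i = f := by linear_combination i * ht - q6
  have r4 : t * h = e - i - f := by linear_combination h * ht - q5 + q6
  have r5 : t ^ 2 * (e * i - f * h) = 0 := by
    linear_combination (t * i) * r2 - i * r1 - (t * h) * r1
  have r6 : t ^ 2 = 0 := (IsUnit.mul_left_eq_zero hD).mp r5
  have r7 : (2 : A) * f = 0 := by
    linear_combination t * r4 - h * r6 - r1 - r3 + r2
  have r8 : f = 0 := (IsUnit.mul_right_eq_zero h2).mp r7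
  have r9 : t * (e * i - f * h) = 0 := by
    rw [r8] at r2 r3 ⊢
    linear_combination i * r2
  have r10 : t = 0 := (IsUnit.mul_left_eq_zero hD).mp r9
  have r11 : e = i := by
    rw [r10, r8] at r4
    linear_combination -r4
  have r12 : a1 = 1 := by rw [ht] at r10; linear_combination r10
  refine ⟨b, c, h, i, ?_, ?_, ?_, ?_⟩
  · rw [r8, r11] at hD
    have : IsUnit (i * i) := by convert hD using 1; ring
    exact (IsUnit.mul_iff.mp this).1
  · rw [hX, r12, one_smul]
  · rw [hY, q1, r8, r11]; simp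
  · rw [hZ, q7]; simp

end Groth.Agent.S13101
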