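import Groth.Statements.S13102
import Mathlib.Tactic

set_option autoImplicit false
universe u v w
open GrpSch

namespace Groth.Agent.S13102

/-- Let K be a field, α ∈ K, A a commutative K-algebra and L a Lie algebra over A which is free as an
A-module with basis x = bs 0, y = bs 1, z = bs 2 and brackets [x,y] = y, [x,z] = α z, [y,z] = 0. If
α² ≠ 1 then every Lie algebra automorphism φ of L over A satisfies φ(x) = x + b y + c z, φ(y) = e y,
φ(z) = i z for some b, c ∈ A and units e, i of A. If α = 1 then every such φ satisfies φ(x) = x + b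
y + c z, φ(y) = e y + f z, φ(z) = h y + i z with e i − f h a unit of A. (The printed statement
identifies the automorphism group schemes with the corresponding semidirect products, treats also α
= −1 in characteristic not 2, and computes first cohomology over a field of Laurent series; those
clauses are not restated here.) -/
theorem result (K : Type u) [Field K] (α : K) (A : Type v) [CommRing A] [Algebra K A]
    (L : Type w) [LieRing L] [LieAlgebra A L] (bs : Module.Basis (Fin 3) A L)
    (hxy : ⁅bs 0, bs 1⁆ = bs 1) (hxz : ⁅bs 0, bs 2⁆ = algebraMap K A α • bs 2) (hyz : ⁅bs 1, bs 2⁆ = 0)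
    (φ : L ≃ₗ⁅A⁆ L) :
    (α ^ 2 ≠ 1 → ∃ b c e i : A, IsUnit e ∧ IsUnit i ∧ φ (bs 0) = bs 0 + b • bs 1 + c • bs 2 ∧
        φ (bs 1) = e • bs 1 ∧ φ (bs 2) = i • bs 2) ∧
    (α = 1 → ∃ b c e f h i : A, IsUnit (e * i - f * h) ∧ φ (bs 0) = bs 0 + b • bs 1 + c • bs 2 ∧
        φ (bs 1) = e • bs 1 + f • bs 2 ∧ φ (bs 2) = h • bs 1 + i • bs 2) := by
  classical
  set al : A := algebraMap K A α with hal
  have hexp : ∀ w : L, w = bs.repr w 0 • bs 0 + bs.repr w 1 • bs 1 + bs.repr w 2 • bs 2 := by
    intro w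
    conv_lhs => rw [← bs.sum_repr w]
    rw [Fin.sum_univ_three]
  have hyx : ⁅bs 1, bs 0⁆ = -bs 1 := by rw [← lie_skew, hxy]
  have hzx : ⁅bs 2, bs 0⁆ = -(al • bs 2) := by rw [← lie_skew, hxz]
  have hzy : ⁅bs 2, bs 1⁆ = 0 := by rw [← lie_skew, hyz, neg_zero]
  have hbr : ∀ α β γ α' β' γ' : A,
      ⁅α • bs 0 + β • bs 1 + γ • bs 2, α' • bs 0 + β' • bs 1 + γ' • bs 2⁆ =
        (α * β' - β * α') • bs 1 + (al * (α * γ' - γ * α')) • bs 2 := by
    intro α β γ α' β' γ'
    simp only [add_lie, lie_add, smul_lie, lie_smul, lie_self, hxy, hxz, hyz, hyx, hzx, hzy,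
      smul_zero, add_zero, zero_add, smul_neg, smul_add]
    module
  have hcoord : ∀ α β γ : A, bs.repr (α • bs 0 + β • bs 1 + γ • bs 2) 0 = α ∧
      bs.repr (α • bs 0 + β • bs 1 + γ • bs 2) 1 = β ∧
      bs.repr (α • bs 0 + β • bs 1 + γ • bs 2) 2 = γ := by
    intro α β γ
    simp
  set a1 := bs.repr (φ (bs 0)) 0 with ha1
  set b := bs.repr (φ (bs 0)) 1 with hb
  set c := bs.repr (φ (bs 0)) 2 with hc
  set a2 := bs.repr (φ (bs 1)) 0 with ha2
  set e := bs.repr (φ (bs 1)) 1 with he
  set f := bs.repr (φ (bs 1)) 2 with hf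
  set a3 := bs.repr (φ (bs 2)) 0 with ha3
  set h := bs.repr (φ (bs 2)) 1 with hh
  set i := bs.repr (φ (bs 2)) 2 with hi
  have hX := hexp (φ (bs 0))
  have hY := hexp (φ (bs 1))
  have hZ := hexp (φ (bs 2))
  rw [← ha1, ← hb, ← hc] at hX
  rw [← ha2, ← he, ← hf] at hY
  rw [← ha3, ← hh, ← hi] at hZ
  have e1 : φ (bs 1) = ⁅φ (bs 0), φ (bs 1)⁆ := by rw [← LieEquiv.map_lie, hxy]
  have e2 : al • φ (bs 2) = ⁅φ (bs 0), φ (bs 2)⁆ := by rw [← LieEquiv.map_lie, hxz, map_smul]
  have e3 : (0 : L) = ⁅φ (bs 1), φ (bs 2)⁆ := by rw [← LieEquiv.map_lie, hyz, map_zero]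
  rw [hX, hY, hbr] at e1
  rw [hX, hZ, hbr] at e2
  rw [hY, hZ, hbr] at e3
  have e1' : a2 • bs 0 + e • bs 1 + f • bs 2 = (0 : A) • bs 0 + (a1 * e - b * a2) • bs 1 + (al * (a1 * f - c * a2)) • bs 2 := by
    rw [zero_smul, zero_add]; exact e1
  have e2' : (al * a3) • bs 0 + (al * h) • bs 1 + (al * i) • bs 2 = (0 : A) • bs 0 + (a1 * h - b * a3) • bs 1 + (al * (a1 * i - c * a3)) • bs 2 := by
    rw [zero_smul, zero_add, ← e2]; module
  have e3' : (0 : A) • bs 0 + (0 : A) • bs 1 + (0 : A) • bs 2 = (0 : A) • bs 0 + (a2 * h - e * a3) • bs 1 + (al * (a2 * i - f * a3)) • bs 2 := by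
    simp only [zero_smul, zero_add]; exact e3
  have c1 := congrArg bs.repr e1'
  have c2 := congrArg bs.repr e2'
  have c3 := congrArg bs.repr e3'
  have q1 : a2 = 0 := by
    have := congrArg (fun g => g 0) c1
    simp only [(hcoord _ _ _).1] at this
    exact this
  have q2 : e = a1 * e - b * a2 := by
    have := congrArg (fun g => g 1) c1
    simp only [(hcoord _ _ _).2.1] at this
    exact this
  have q3 : f = al * (a1 * f - c * a2) := by
    have := congrArg (fun g => g 2) c1
    simp only [(hcoord _ _ _).2.2] at this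
    exact this
  have q4 : al * a3 = 0 := by
    have := congrArg (fun g => g 0) c2
    simp only [(hcoord _ _ _).1] at this
    exact this
  have q5 : al * h = a1 * h - b * a3 := by
    have := congrArg (fun g => g 1) c2
    simp only [(hcoord _ _ _).2.1] at this
    exact this
  have q6 : al * i = al * (a1 * i - c * a3) := by
    have := congrArg (fun g => g 2) c2
    simp only [(hcoord _ _ _).2.2] at this
    exact this
  have q7 : 0 = a2 * h - e * a3 := by
    have := congrArg (fun g => g 1) c3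
    simp only [(hcoord _ _ _).2.1] at this
    exact this
  rw [q1] at q2 q3 q7
  -- determinant
  have hdet := LinearEquiv.isUnit_det (φ : L ≃ₗ[A] L) bs bs
  rw [Matrix.det_fin_three] at hdet
  simp only [LinearMap.toMatrix_apply, LinearEquiv.coe_coe] at hdet
  have hφ0 : ((φ : L ≃ₗ[A] L) (bs 0)) = φ (bs 0) := rfl
  have hφ1 : ((φ : L ≃ₗ[A] L) (bs 1)) = φ (bs 1) := rfl
  have hφ2 : ((φ : L ≃ₗ[A] L) (bs 2)) = φ (bs 2) := rfl
  rw [hφ0, hφ1, hφ2] at hdet
  rw [← ha1, ← hb, ← hc, ← ha2, ← he, ← hf, ← ha3, ← hh, ← hi, q1] at hdet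
  set t := a1 - 1 with ht
  have r1 : t * e = 0 := by linear_combination e * ht - q2
  constructor
  · intro hα
    have hu : IsUnit (1 - al ^ 2) := by
      have : (1 - al ^ 2) = algebraMap K A (1 - α ^ 2) := by simp [hal]
      rw [this]
      apply IsUnit.map
      exact isUnit_iff_ne_zero.mpr (sub_ne_zero.mpr (Ne.symm hα))
    have hu1 : IsUnit (1 - al) := by
      have : (1 - al) = algebraMap K A (1 - α) := by simp [hal]
      rw [this]
      apply IsUnit.map
      refine isUnit_iff_ne_zero.mpr (sub_ne_zero.mpr ?_)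
      rintro rfl
      exact hα (by ring)
    have s1 : f * a3 = 0 := by
      have : f * a3 = (a1 * f) * (al * a3) := by linear_combination a3 * q3
      rw [this, q4, mul_zero]
    have s2 : (1 - al ^ 2) * (f * h) = 0 := by
      linear_combination h * q3 - (al * f) * q5 + (al * b) * s1
    have s3 : f * h = 0 := (IsUnit.mul_right_eq_zero hu).mp s2
    have hU : IsUnit (a1 * (e * i)) := by
      convert hdet using 1
      linear_combination a1 * s3 - b * s1 + c * q7
    obtain ⟨ha1u, hei⟩ := IsUnit.mul_iff.mp hU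
    obtain ⟨heu, hiu⟩ := IsUnit.mul_iff.mp hei
    have s4 : a3 = 0 := by
      have : e * a3 = 0 := by linear_combination q7
      exact (IsUnit.mul_right_eq_zero heu).mp this
    have s5 : t = 0 := (IsUnit.mul_left_eq_zero heu).mp r1
    have s6 : a1 = 1 := by linear_combination s5 - ht
    have s7 : (1 - al) * h = 0 := by
      rw [s4, s6] at q5; linear_combination -q5
    have s8 : h = 0 := (IsUnit.mul_right_eq_zero hu1).mp s7
    have s9 : (1 - al) * f = 0 := by
      rw [s6] at q3; linear_combination q3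
    have s10 : f = 0 := (IsUnit.mul_right_eq_zero hu1).mp s9
    refine ⟨b, c, e, i, heu, hiu, ?_, ?_, ?_⟩
    · rw [hX, s6, one_smul]
    · rw [hY, q1, s10]; simp
    · rw [hZ, s4, s8]; simp
  · intro hα
    have hal1 : al = 1 := by rw [hal, hα, map_one]
    rw [hal1] at q3 q4 q5 q6
    have s4 : a3 = 0 := by linear_combination q4
    rw [s4] at q5 q6 hdet
    have hU : IsUnit (a1 * (e * i - f * h)) := by
      convert hdet using 1; ring
    obtain ⟨ha1u, hD⟩ := IsUnit.mul_iff.mp hU
    have r2 : t * f = 0 := by linear_combination f * ht - q3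
    have r3 : t * h = 0 := by linear_combination h * ht - q5
    have r4 : t * i = 0 := by linear_combination i * ht - q6
    have r5 : t * (e * i - f * h) = 0 := by linear_combination i * r1 - h * r2
    have s5 : t = 0 := (IsUnit.mul_left_eq_zero hD).mp r5
    have s6 : a1 = 1 := by linear_combination s5 - ht
    refine ⟨b, c, e, f, h, i, hD, ?_, ?_, ?_⟩
    · rw [hX, s6, one_smul]
    · rw [hY, q1]; simp
    · rw [hZ, s4]; simp

end Groth.Agent.S13102
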