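import Groth.Statements.S13104
import Mathlib

set_option autoImplicit false
universe u
open GrpSch

namespace Groth.Agent.S13104

open CategoryTheory AlgebraicGeometry in
/-- Let B be a commutative ring, B[ε] the ring of dual numbers (ε² = 0) and B[α, β]/(α², β²) the double
dual numbers, realised as dual numbers over the dual numbers with α the inner and β the outer
generator, and let ψ : B[ε] → B[α, β]/(α², β²) be the B-algebra homomorphism with ψ(ε) = αβ. Then
for every scheme G the map u ↦ Spec(ψ) ≫ u from morphisms Spec B[ε] → G to morphisms Spec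
B[α,β]/(α²,β²) → G is injective. (The printed statement is its consequence for a group scheme G: the
map Lie(G)(B) → G(B[α,β]/(α²,β²)), x ↦ exp(αβ x), is injective; the injectivity on all B[ε]-points
stated here is what the printed argument establishes.) -/
theorem result (B : Type u) [CommRing B]
    (ψ : DualNumber B →+* DualNumber (DualNumber B))
    (hψB : ∀ b : B, ψ (algebraMap B (DualNumber B) b) = algebraMap B (DualNumber (DualNumber B)) b)
    (hψ : ψ DualNumber.eps = algebraMap (DualNumber B) (DualNumber (DualNumber B)) DualNumber.eps * DualNumber.eps)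
    (G : Scheme.{u}) :
    Function.Injective (fun u : Spec (CommRingCat.of (DualNumber B)) ⟶ G =>
      Spec.map (CommRingCat.ofHom (R := DualNumber B) (S := DualNumber (DualNumber B)) ψ) ≫ u) := by
  intro u v huv
  let φ : CommRingCat.of (DualNumber B) ⟶ CommRingCat.of (DualNumber (DualNumber B)) :=
    CommRingCat.ofHom (R := DualNumber B) (S := DualNumber (DualNumber B)) ψ
  have hφ : ∀ x : DualNumber B, φ.hom x = ψ x := fun _ => rfl
  have huv' : Spec.map φ ≫ u = Spec.map φ ≫ v := huv
  -- the augmentation
  let r : DualNumber (DualNumber B) →+* B :=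
    ((TrivSqZeroExt.fstHom B B B).toRingHom).comp
      (TrivSqZeroExt.fstHom (DualNumber B) (DualNumber B) (DualNumber B)).toRingHom
  have hrdef : ∀ z : DualNumber (DualNumber B), r z = TrivSqZeroExt.fst (TrivSqZeroExt.fst z) :=
    fun _ => rfl
  have hdecomp : ∀ x : DualNumber B, x = algebraMap B (DualNumber B) (TrivSqZeroExt.fst x)
        + algebraMap B (DualNumber B) (TrivSqZeroExt.snd x) * DualNumber.eps := by
    intro x
    apply TrivSqZeroExt.ext <;> simp [TrivSqZeroExt.algebraMap_eq_inl]
  have hr : ∀ x : DualNumber B, r (ψ x) = TrivSqZeroExt.fst x := by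
    intro x
    conv_lhs => rw [hdecomp x]
    rw [map_add, map_mul, hψB, hψB, hψ, map_add, map_mul, map_mul]
    have h1 : r (DualNumber.eps : DualNumber (DualNumber B)) = 0 := by
      rw [hrdef]; rfl
    have h2 : ∀ b : B, r (algebraMap B (DualNumber (DualNumber B)) b) = b := by
      intro b
      rw [hrdef]; rfl
    rw [h1, h2, mul_zero, mul_zero, add_zero]
  have hpsurj : Function.Surjective (PrimeSpectrum.comap φ.hom) := by
    intro p
    refine ⟨PrimeSpectrum.comap r (PrimeSpectrum.comap (algebraMap B (DualNumber B)) p), ?_⟩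
    ext x
    simp only [PrimeSpectrum.comap_asIdeal, Ideal.mem_comap]
    rw [hφ, hr x]
    have hnil : x - algebraMap B (DualNumber B) (TrivSqZeroExt.fst x) ∈ p.asIdeal := by
      apply p.isPrime.mem_of_pow_mem 2
      have : (x - algebraMap B (DualNumber B) (TrivSqZeroExt.fst x)) ^ 2 = 0 := by
        apply TrivSqZeroExt.ext <;> simp [TrivSqZeroExt.algebraMap_eq_inl, pow_two]
      rw [this]; exact p.asIdeal.zero_mem
    constructor
    · intro h
      have := p.asIdeal.add_mem hnil h
      simpa using this
    · intro h
      have := p.asIdeal.sub_mem h hnil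
      simpa using this
  have hl : Limits.equalizer.lift _ huv' ≫ Limits.equalizer.ι u v = Spec.map φ :=
    Limits.equalizer.lift_ι _ _
  have hιsurj : Function.Surjective (Limits.equalizer.ι u v) := by
    intro x
    obtain ⟨w, hw⟩ := hpsurj x
    refine ⟨Limits.equalizer.lift _ huv' w, ?_⟩
    rw [← Scheme.Hom.comp_apply, hl]
    exact hw
  have hcl : IsClosedImmersion (Limits.equalizer.ι u v) :=
    IsClosedImmersion.of_isPreimmersion _ (by rw [hιsurj.range_eq]; exact isClosed_univ)
  have hψinj : Function.Injective ψ := by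
    intro x y hxy
    have h1 : r (ψ x) = r (ψ y) := by rw [hxy]
    rw [hr, hr] at h1
    -- second component: apply snd ∘ snd
    have h3 : ∀ x : DualNumber B, TrivSqZeroExt.snd (TrivSqZeroExt.snd (ψ x)) = TrivSqZeroExt.snd x := by
      intro x
      conv_lhs => rw [hdecomp x]
      rw [map_add, map_mul, hψB, hψB, hψ]
      have e1 : ∀ b : B, algebraMap B (DualNumber (DualNumber B)) b =
          TrivSqZeroExt.inl (TrivSqZeroExt.inl b) := fun _ => rfl
      have e2 : algebraMap (DualNumber B) (DualNumber (DualNumber B)) DualNumber.eps =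
          TrivSqZeroExt.inl DualNumber.eps := rfl
      have e3 : (DualNumber.eps : DualNumber (DualNumber B)) = TrivSqZeroExt.inr 1 := rfl
      have e4 : (DualNumber.eps : DualNumber B) = TrivSqZeroExt.inr 1 := rfl
      rw [e1, e1, e2, e3, TrivSqZeroExt.inl_mul_inr, TrivSqZeroExt.inl_mul_inr, TrivSqZeroExt.snd_add,
        TrivSqZeroExt.snd_inl, TrivSqZeroExt.snd_inr, zero_add, smul_eq_mul, smul_eq_mul, mul_one, e4,
        TrivSqZeroExt.inl_mul_inr, TrivSqZeroExt.snd_inr, smul_eq_mul, mul_one]
    have h2 : TrivSqZeroExt.snd x = TrivSqZeroExt.snd y := by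
      rw [← h3 x, ← h3 y, hxy]
    exact TrivSqZeroExt.ext h1 h2
  have hsinj : Function.Injective (Spec.map φ).appTop := by
    have hnat := Scheme.ΓSpecIso_inv_naturality φ
    intro a b hab
    have ha : a = (Scheme.ΓSpecIso _).inv ((Scheme.ΓSpecIso _).hom a) := by simp
    have hb : b = (Scheme.ΓSpecIso _).inv ((Scheme.ΓSpecIso _).hom b) := by simp
    rw [ha, hb] at hab
    have h4 : ∀ c, (Spec.map φ).appTop ((Scheme.ΓSpecIso _).inv c) = (Scheme.ΓSpecIso _).inv (φ c) := by
      intro c
      have := congrArg (fun f => f.hom c) hnat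
      exact this.symm
    rw [h4, h4] at hab
    have h5 : φ ((Scheme.ΓSpecIso _).hom a) = φ ((Scheme.ΓSpecIso _).hom b) := by
      have := congrArg (Scheme.ΓSpecIso _).hom hab
      simpa using this
    have h6 := hψinj h5
    rw [ha, hb, h6]
  have hinj : Function.Injective (Limits.equalizer.ι u v).appTop := by
    intro a b hab
    apply hsinj
    rw [← hl, Scheme.Hom.comp_appTop]
    simp only [CommRingCat.hom_comp, RingHom.coe_comp, Function.comp_apply]
    rw [hab]
  have := IsClosedImmersion.isIso_of_injective_of_isAffine hinj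
  rw [← cancel_epi (Limits.equalizer.ι u v), Limits.equalizer.condition]

end Groth.Agent.S13104
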