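import Groth.Statements.S13106
import Mathlib.AlgebraicGeometry.Morphisms.Separated
import Mathlib.AlgebraicGeometry.Morphisms.ClosedImmersion
import Mathlib.AlgebraicGeometry.IdealSheaf.Subscheme

set_option autoImplicit false
universe u
open GrpSch

namespace Groth.Agent.S13106

open CategoryTheory AlgebraicGeometry in
/-- Let f : X → Y be a morphism of schemes and U ⊆ Y a schematically dense open subscheme (for every
open V of Y, restriction of functions from V to V ∩ U is injective) such that the restriction f⁻¹(U)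
→ U of f is an isomorphism. Then two morphisms from Y to a scheme separated over a base T that agree
after composing with f and have the same composite to T are equal: if Z → T is separated and v₁, v₂
: Y → Z satisfy v₁ ≫ (Z → T) = v₂ ≫ (Z → T) and f ≫ v₁ = f ≫ v₂, then v₁ = v₂. (The published
statement is the case of a morphism between two prolongations over A[[t]] of a finite group scheme
over A((t)), where U is the generic fibre, schematically dense by flatness; uniqueness of
prolongation maps follows.) -/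
theorem result {X Y Z T : Scheme.{u}} (f : X ⟶ Y)
    (U : Y.Opens) (hU : CInt.IsSchematicallyDense U) [IsIso (f ∣_ U)]
    (z : Z ⟶ T) [IsSeparated z] (v₁ v₂ : Y ⟶ Z) (hz : v₁ ≫ z = v₂ ≫ z) (h : f ≫ v₁ = f ≫ v₂) :
    v₁ = v₂ := by
  let Y' : Over T := Over.mk (v₁ ≫ z)
  let Z' : Over T := Over.mk z
  let a₁ : Y' ⟶ Z' := Over.homMk v₁ rfl
  let a₂ : Y' ⟶ Z' := Over.homMk v₂ hz.symm
  have hsep : IsSeparated Z'.hom := ‹IsSeparated z›
  have hcl : IsClosedImmersion (Limits.equalizer.ι a₁ a₂).left := inferInstance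
  have hcond : (Limits.equalizer.ι a₁ a₂).left ≫ v₁ = (Limits.equalizer.ι a₁ a₂).left ≫ v₂ :=
    congrArg (fun q => q.left) (Limits.equalizer.condition a₁ a₂)
  have hU1 : U.ι ≫ v₁ = U.ι ≫ v₂ := by
    have h0 : (f ∣_ U) ≫ U.ι = (f ⁻¹ᵁ U).ι ≫ f := morphismRestrict_ι f U
    have h1 : U.ι = inv (f ∣_ U) ≫ (f ⁻¹ᵁ U).ι ≫ f := by rw [← h0, IsIso.inv_hom_id_assoc]
    rw [h1]; simp only [Category.assoc]; rw [h]
  let U' : Over T := Over.mk (U.ι ≫ v₁ ≫ z)
  let j : U' ⟶ Y' := Over.homMk U.ι rfl
  have hj : j ≫ a₁ = j ≫ a₂ := by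
    apply Over.OverMorphism.ext
    exact hU1
  have hl : (Limits.equalizer.lift j hj).left ≫ (Limits.equalizer.ι a₁ a₂).left = U.ι :=
    congrArg (fun q => q.left) (Limits.equalizer.lift_ι j hj)
  have hker : (Limits.equalizer.ι a₁ a₂).left.ker = ⊥ := by
    apply Scheme.IdealSheafData.ext
    funext V
    rw [Scheme.Hom.ker_apply, Scheme.IdealSheafData.ideal_bot, Pi.bot_apply, eq_bot_iff]
    intro s hs
    rw [RingHom.mem_ker] at hs
    have h1 : (((Limits.equalizer.lift j hj).left ≫ (Limits.equalizer.ι a₁ a₂).left).app V.1).hom s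
        = 0 := by
      change (Scheme.Hom.app (Limits.equalizer.ι a₁ a₂).left V.1 ≫
        Scheme.Hom.app (Limits.equalizer.lift j hj).left ((Limits.equalizer.ι a₁ a₂).left ⁻¹ᵁ V.1)).hom s = 0
      rw [CommRingCat.hom_comp, RingHom.comp_apply, hs, map_zero]
    have h2 : ∀ g : U.toScheme ⟶ Y, g = U.ι → (g.app V.1).hom s = 0 → (U.ι.app V.1).hom s = 0 := by
      rintro g rfl h; exact h
    have h3 := h2 _ hl h1
    rw [Scheme.Opens.ι_app] at h3
    have hle : V.1 ⊓ U ≤ U.ι ''ᵁ U.ι ⁻¹ᵁ V.1 := by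
      rw [Scheme.Hom.image_preimage_eq_opensRange_inf, Scheme.Opens.opensRange_ι]
      exact le_of_eq (inf_comm _ _)
    have h4 : Y.presheaf.map (homOfLE (inf_le_left : V.1 ⊓ U ≤ V.1)).op =
        Y.presheaf.map (homOfLE (x := U.ι ''ᵁ U.ι ⁻¹ᵁ V.1) (Set.image_preimage_subset _ _)).op ≫
          Y.presheaf.map (homOfLE hle).op := by
      rw [← Functor.map_comp]; rfl
    have h5 : (Y.presheaf.map (homOfLE (inf_le_left : V.1 ⊓ U ≤ V.1)).op).hom s = 0 := by
      rw [h4, CommRingCat.hom_comp, RingHom.comp_apply]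
      exact (congrArg (Y.presheaf.map (homOfLE hle).op).hom h3).trans (map_zero _)
    have h6 := hU V.1
    rw [Ideal.mem_bot]
    apply h6
    rw [map_zero]
    exact h5
  have hiso : IsIso (Limits.equalizer.ι a₁ a₂).left := IsClosedImmersion.isIso_iff_ker_eq_bot.mpr hker
  exact (cancel_epi _).mp hcond

end Groth.Agent.S13106
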