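import Groth.Statements.S13107
import Mathlib.Tactic
import Mathlib.LinearAlgebra.Determinant
import Mathlib.RingTheory.LaurentSeries

set_option autoImplicit false
universe u v w
open GrpSch

namespace Groth.Agent.S13107

theorem aux {R : Type*} [Field R] (T : R)
    {F : Type*} [LieRing F] [LieAlgebra R F] (bF : Module.Basis (Fin 3) R F)
    (hF01 : ⁅bF 0, bF 1⁆ = bF 2) (hF02 : ⁅bF 0, bF 2⁆ = T • bF 1)
    (hF12 : ⁅bF 1, bF 2⁆ = 0)
    {L : Type*} [LieRing L] [LieAlgebra R L] (bL : Module.Basis (Fin 3) R L)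
    (hL01 : ⁅bL 0, bL 1⁆ = bL 1) (hL02 : ⁅bL 0, bL 2⁆ = -bL 2) (hL12 : ⁅bL 1, bL 2⁆ = 0)
    (φ : L ≃ₗ⁅R⁆ F) : ∃ a1 : R, a1 ≠ 0 ∧ T * a1 ^ 2 = 1 := by
  classical
  have hexp : ∀ w : F, w = bF.repr w 0 • bF 0 + bF.repr w 1 • bF 1 + bF.repr w 2 • bF 2 := by
    intro w
    conv_lhs => rw [← bF.sum_repr w]
    rw [Fin.sum_univ_three]
  have hyx : ⁅bF 1, bF 0⁆ = -bF 2 := by rw [← lie_skew, hF01]
  have hzx : ⁅bF 2, bF 0⁆ = -(T • bF 1) := by rw [← lie_skew, hF02]
  have hzy : ⁅bF 2, bF 1⁆ = 0 := by rw [← lie_skew, hF12, neg_zero]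
  have hbr : ∀ α β γ α' β' γ' : R,
      ⁅α • bF 0 + β • bF 1 + γ • bF 2, α' • bF 0 + β' • bF 1 + γ' • bF 2⁆ =
        (T * (α * γ' - γ * α')) • bF 1 + (α * β' - β * α') • bF 2 := by
    intro α β γ α' β' γ'
    simp only [add_lie, lie_add, smul_lie, lie_smul, lie_self, hF01, hF02, hF12, hyx, hzx, hzy,
      smul_zero, add_zero, zero_add, smul_neg, smul_add]
    module
  have hcoord : ∀ α β γ : R, bF.repr (α • bF 0 + β • bF 1 + γ • bF 2) 0 = α ∧
      bF.repr (α • bF 0 + β • bF 1 + γ • bF 2) 1 = β ∧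
      bF.repr (α • bF 0 + β • bF 1 + γ • bF 2) 2 = γ := by
    intro α β γ
    simp
  set a1 := bF.repr (φ (bL 0)) 0 with ha1
  set bb := bF.repr (φ (bL 0)) 1 with hb
  set c := bF.repr (φ (bL 0)) 2 with hc
  set a2 := bF.repr (φ (bL 1)) 0 with ha2
  set e := bF.repr (φ (bL 1)) 1 with he
  set f := bF.repr (φ (bL 1)) 2 with hf
  set a3 := bF.repr (φ (bL 2)) 0 with ha3
  set h := bF.repr (φ (bL 2)) 1 with hh
  set i := bF.repr (φ (bL 2)) 2 with hi
  have hX := hexp (φ (bL 0))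
  have hY := hexp (φ (bL 1))
  have hZ := hexp (φ (bL 2))
  rw [← ha1, ← hb, ← hc] at hX
  rw [← ha2, ← he, ← hf] at hY
  rw [← ha3, ← hh, ← hi] at hZ
  have e1 : φ (bL 1) = ⁅φ (bL 0), φ (bL 1)⁆ := by rw [← LieEquiv.map_lie, hL01]
  have e2 : -φ (bL 2) = ⁅φ (bL 0), φ (bL 2)⁆ := by rw [← LieEquiv.map_lie, hL02, map_neg]
  rw [hX, hY, hbr] at e1
  rw [hX, hZ, hbr] at e2
  have e1' : a2 • bF 0 + e • bF 1 + f • bF 2 = (0 : R) • bF 0 + (T * (a1 * f - c * a2)) • bF 1 + (a1 * e - bb * a2) • bF 2 := by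
    rw [zero_smul, zero_add]; exact e1
  have e2' : (-a3) • bF 0 + (-h) • bF 1 + (-i) • bF 2 = (0 : R) • bF 0 + (T * (a1 * i - c * a3)) • bF 1 + (a1 * h - bb * a3) • bF 2 := by
    rw [zero_smul, zero_add, ← e2]; module
  have c1 := congrArg bF.repr e1'
  have c2 := congrArg bF.repr e2'
  have q1 : a2 = 0 := by
    have := congrArg (fun g => g 0) c1
    simp only [(hcoord _ _ _).1] at this
    exact this
  have q2 : e = T * (a1 * f - c * a2) := by
    have := congrArg (fun g => g 1) c1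
    simp only [(hcoord _ _ _).2.1] at this
    exact this
  have q3 : f = a1 * e - bb * a2 := by
    have := congrArg (fun g => g 2) c1
    simp only [(hcoord _ _ _).2.2] at this
    exact this
  have q4 : -a3 = 0 := by
    have := congrArg (fun g => g 0) c2
    simp only [(hcoord _ _ _).1] at this
    exact this
  have q7 : a3 = 0 := neg_eq_zero.mp q4
  rw [q1] at q2 q3
  have hdet := LinearEquiv.isUnit_det (φ : L ≃ₗ[R] F) bL bF
  rw [Matrix.det_fin_three] at hdet
  simp only [LinearMap.toMatrix_apply, LinearEquiv.coe_coe] at hdet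
  have hφ0 : ((φ : L ≃ₗ[R] F) (bL 0)) = φ (bL 0) := rfl
  have hφ1 : ((φ : L ≃ₗ[R] F) (bL 1)) = φ (bL 1) := rfl
  have hφ2 : ((φ : L ≃ₗ[R] F) (bL 2)) = φ (bL 2) := rfl
  rw [hφ0, hφ1, hφ2] at hdet
  rw [← ha1, ← hb, ← hc, ← ha2, ← he, ← hf, ← ha3, ← hh, ← hi, q1, q7] at hdet
  have hU : a1 * (e * i - f * h) ≠ 0 := by
    have := hdet.ne_zero
    intro h0
    apply this
    linear_combination h0
  have ha10 : a1 ≠ 0 := left_ne_zero_of_mul hU
  have hD : e * i - f * h ≠ 0 := right_ne_zero_of_mul hU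
  -- (e, f) ≠ 0, so T * a1^2 = 1
  have w1 : e * (T * a1 ^ 2 - 1) = 0 := by linear_combination -q2 - (T * a1) * q3
  have w2 : f * (T * a1 ^ 2 - 1) = 0 := by linear_combination -q3 - a1 * q2
  have w3 : T * a1 ^ 2 = 1 := by
    by_contra hne
    have hne' : T * a1 ^ 2 - 1 ≠ 0 := sub_ne_zero.mpr hne
    have he0 : e = 0 := by
      rcases mul_eq_zero.mp w1 with h | h
      · exact h
      · exact absurd h hne'
    have hf0 : f = 0 := by
      rcases mul_eq_zero.mp w2 with h | h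
      · exact h
      · exact absurd h hne'
    apply hD
    rw [he0, hf0]; ring
  exact ⟨a1, ha10, w3⟩

/-- Let k be a field, K = k((t)) the field of Laurent series over k, F a Lie algebra over K with a basis
x' = bF 0, y' = bF 1, z' = bF 2 and brackets [x',y'] = z', [x',z'] = t y', [y',z'] = 0, and L a Lie
algebra over K with a basis x = bL 0, y = bL 1, z = bL 2 and brackets [x,y] = y, [x,z] = −z, [y,z] =
0. Then there is no K-linear isomorphism of Lie algebras between L and F: F is a non-trivial form of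
L over K. (The published result is the classification of three-dimensional Lie algebras over k((t))
for k algebraically closed of characteristic not 2, with F its only non-split entry; this row states
the non-isomorphism of F and L over k((t)) for every field k.) -/
theorem result (k : Type u) [Field k]
    (F : Type v) [LieRing F] [LieAlgebra (LaurentSeries k) F] (bF : Module.Basis (Fin 3) (LaurentSeries k) F)
    (hF01 : ⁅bF 0, bF 1⁆ = bF 2) (hF02 : ⁅bF 0, bF 2⁆ = (HahnSeries.single 1 (1 : k) : LaurentSeries k) • bF 1)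
    (hF12 : ⁅bF 1, bF 2⁆ = 0)
    (L : Type w) [LieRing L] [LieAlgebra (LaurentSeries k) L] (bL : Module.Basis (Fin 3) (LaurentSeries k) L)
    (hL01 : ⁅bL 0, bL 1⁆ = bL 1) (hL02 : ⁅bL 0, bL 2⁆ = -bL 2) (hL12 : ⁅bL 1, bL 2⁆ = 0) :
    IsEmpty (L ≃ₗ⁅LaurentSeries k⁆ F) := by
  classical
  refine ⟨fun φ => ?_⟩
  obtain ⟨a1, ha10, w3⟩ := aux (HahnSeries.single 1 (1 : k) : LaurentSeries k) bF hF01 hF02 hF12 bL hL01 hL02 hL12 φ
  have hT0 : (HahnSeries.single 1 (1 : k) : LaurentSeries k) ≠ 0 := by simp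
  have hord := congrArg HahnSeries.order w3
  rw [HahnSeries.order_mul hT0 (pow_ne_zero 2 ha10), pow_two, HahnSeries.order_mul ha10 ha10,
    HahnSeries.order_one, HahnSeries.order_single one_ne_zero] at hord
  omega

end Groth.Agent.S13107
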