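import Groth.Statements.S13108
import Mathlib.Tactic
import Groth.Agent.H2.LieBasis
import Mathlib.LinearAlgebra.Determinant

set_option autoImplicit false
universe u v w
open GrpSch

namespace Groth.Agent.S13108

/-- Let k be a field and t, t' ∈ k both non-zero; let L be a Lie algebra over k with a basis x = b 0, y
= b 1, z = b 2 and brackets [x,y] = y, [x,z] = t z, [y,z] = 0, and L' a Lie algebra over k with a
basis x' = b' 0, y' = b' 1, z' = b' 2 and brackets [x',y'] = y', [x',z'] = t' z', [y',z'] = 0. Then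
L and L' are isomorphic Lie algebras over k if and only if t' = t or t' = t⁻¹. -/
theorem result (k : Type u) [Field k] (t t' : k) (ht : t ≠ 0) (ht' : t' ≠ 0)
    (L : Type v) [LieRing L] [LieAlgebra k L] (b : Module.Basis (Fin 3) k L)
    (h01 : ⁅b 0, b 1⁆ = b 1) (h02 : ⁅b 0, b 2⁆ = t • b 2) (h12 : ⁅b 1, b 2⁆ = 0)
    (L' : Type w) [LieRing L'] [LieAlgebra k L'] (b' : Module.Basis (Fin 3) k L')
    (h01' : ⁅b' 0, b' 1⁆ = b' 1) (h02' : ⁅b' 0, b' 2⁆ = t' • b' 2) (h12' : ⁅b' 1, b' 2⁆ = 0) :
    Nonempty (L ≃ₗ⁅k⁆ L') ↔ (t' = t ∨ t' = t⁻¹) := by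
  classical
  constructor
  · rintro ⟨φ⟩
    have hexp : ∀ w : L', w = b'.repr w 0 • b' 0 + b'.repr w 1 • b' 1 + b'.repr w 2 • b' 2 := by
      intro w
      conv_lhs => rw [← b'.sum_repr w]
      rw [Fin.sum_univ_three]
    have hyx : ⁅b' 1, b' 0⁆ = -b' 1 := by rw [← lie_skew, h01']
    have hzx : ⁅b' 2, b' 0⁆ = -(t' • b' 2) := by rw [← lie_skew, h02']
    have hzy : ⁅b' 2, b' 1⁆ = 0 := by rw [← lie_skew, h12', neg_zero]
    have hbr : ∀ α β γ α' β' γ' : k,
        ⁅α • b' 0 + β • b' 1 + γ • b' 2, α' • b' 0 + β' • b' 1 + γ' • b' 2⁆ =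
          (α * β' - β * α') • b' 1 + (t' * (α * γ' - γ * α')) • b' 2 := by
      intro α β γ α' β' γ'
      simp only [add_lie, lie_add, smul_lie, lie_smul, lie_self, h01', h02', h12', hyx, hzx, hzy,
        smul_zero, add_zero, zero_add, smul_neg, smul_add]
      module
    have hcoord : ∀ α β γ : k, b'.repr (α • b' 0 + β • b' 1 + γ • b' 2) 0 = α ∧
        b'.repr (α • b' 0 + β • b' 1 + γ • b' 2) 1 = β ∧
        b'.repr (α • b' 0 + β • b' 1 + γ • b' 2) 2 = γ := by
      intro α β γ
      simp
    set a1 := b'.repr (φ (b 0)) 0 with ha1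
    set bb := b'.repr (φ (b 0)) 1 with hb
    set c := b'.repr (φ (b 0)) 2 with hc
    set a2 := b'.repr (φ (b 1)) 0 with ha2
    set e := b'.repr (φ (b 1)) 1 with he
    set f := b'.repr (φ (b 1)) 2 with hf
    set a3 := b'.repr (φ (b 2)) 0 with ha3
    set h := b'.repr (φ (b 2)) 1 with hh
    set i := b'.repr (φ (b 2)) 2 with hi
    have hX := hexp (φ (b 0))
    have hY := hexp (φ (b 1))
    have hZ := hexp (φ (b 2))
    rw [← ha1, ← hb, ← hc] at hX
    rw [← ha2, ← he, ← hf] at hY
    rw [← ha3, ← hh, ← hi] at hZ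
    have e1 : φ (b 1) = ⁅φ (b 0), φ (b 1)⁆ := by rw [← LieEquiv.map_lie, h01]
    have e2 : t • φ (b 2) = ⁅φ (b 0), φ (b 2)⁆ := by rw [← LieEquiv.map_lie, h02, map_smul]
    rw [hX, hY, hbr] at e1
    rw [hX, hZ, hbr] at e2
    have e1' : a2 • b' 0 + e • b' 1 + f • b' 2 = (0 : k) • b' 0 + (a1 * e - bb * a2) • b' 1 + (t' * (a1 * f - c * a2)) • b' 2 := by
      rw [zero_smul, zero_add]; exact e1
    have e2' : (t * a3) • b' 0 + (t * h) • b' 1 + (t * i) • b' 2 = (0 : k) • b' 0 + (a1 * h - bb * a3) • b' 1 + (t' * (a1 * i - c * a3)) • b' 2 := by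
      rw [zero_smul, zero_add, ← e2]; module
    have c1 := congrArg b'.repr e1'
    have c2 := congrArg b'.repr e2'
    have q1 : a2 = 0 := by
      have := congrArg (fun g => g 0) c1
      simp only [(hcoord _ _ _).1] at this
      exact this
    have q2 : e = a1 * e - bb * a2 := by
      have := congrArg (fun g => g 1) c1
      simp only [(hcoord _ _ _).2.1] at this
      exact this
    have q3 : f = t' * (a1 * f - c * a2) := by
      have := congrArg (fun g => g 2) c1
      simp only [(hcoord _ _ _).2.2] at this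
      exact this
    have q4 : t * a3 = 0 := by
      have := congrArg (fun g => g 0) c2
      simp only [(hcoord _ _ _).1] at this
      exact this
    have q5 : t * h = a1 * h - bb * a3 := by
      have := congrArg (fun g => g 1) c2
      simp only [(hcoord _ _ _).2.1] at this
      exact this
    have q6 : t * i = t' * (a1 * i - c * a3) := by
      have := congrArg (fun g => g 2) c2
      simp only [(hcoord _ _ _).2.2] at this
      exact this
    have q7 : a3 = 0 := by
      rcases mul_eq_zero.mp q4 with h | h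
      · exact absurd h ht
      · exact h
    rw [q1] at q2 q3
    rw [q7] at q5 q6
    have hdet := LinearEquiv.isUnit_det (φ : L ≃ₗ[k] L') b b'
    rw [Matrix.det_fin_three] at hdet
    simp only [LinearMap.toMatrix_apply, LinearEquiv.coe_coe] at hdet
    have hφ0 : ((φ : L ≃ₗ[k] L') (b 0)) = φ (b 0) := rfl
    have hφ1 : ((φ : L ≃ₗ[k] L') (b 1)) = φ (b 1) := rfl
    have hφ2 : ((φ : L ≃ₗ[k] L') (b 2)) = φ (b 2) := rfl
    rw [hφ0, hφ1, hφ2] at hdet
    rw [← ha1, ← hb, ← hc, ← ha2, ← he, ← hf, ← ha3, ← hh, ← hi, q1, q7] at hdet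
    have hU : a1 * (e * i - f * h) ≠ 0 := by
      have := hdet.ne_zero
      intro h0
      apply this
      linear_combination h0
    have ha1 : a1 ≠ 0 := left_ne_zero_of_mul hU
    have hD : e * i - f * h ≠ 0 := right_ne_zero_of_mul hU
    by_cases he0 : e = 0
    · right
      have hfh : f * h ≠ 0 := by
        intro h0
        apply hD
        rw [he0, h0]; ring
      have hf0 : f ≠ 0 := left_ne_zero_of_mul hfh
      have hh0 : h ≠ 0 := right_ne_zero_of_mul hfh
      have w1 : t' * a1 = 1 := by
        have : f * (t' * a1 - 1) = 0 := by linear_combination -q3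
        rcases mul_eq_zero.mp this with h | h
        · exact absurd h hf0
        · linear_combination h
      have w2 : t = a1 := by
        have : h * (t - a1) = 0 := by linear_combination q5
        rcases mul_eq_zero.mp this with h | h
        · exact absurd h hh0
        · linear_combination h
      rw [← w2] at w1
      exact eq_inv_of_mul_eq_one_left w1
    · left
      have w1 : a1 = 1 := by
        have : e * (a1 - 1) = 0 := by linear_combination -q2
        rcases mul_eq_zero.mp this with h | h
        · exact absurd h he0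
        · linear_combination h
      rw [w1] at q3 q5 q6
      by_cases hi0 : i = 0
      · have hfh : f * h ≠ 0 := by
          intro h0
          apply hD
          rw [hi0, h0]; ring
        have hf0 : f ≠ 0 := left_ne_zero_of_mul hfh
        have hh0 : h ≠ 0 := right_ne_zero_of_mul hfh
        have w2 : t' = 1 := by
          have : f * (t' - 1) = 0 := by linear_combination -q3
          rcases mul_eq_zero.mp this with h | h
          · exact absurd h hf0
          · linear_combination h
        have w3 : t = 1 := by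
          have : h * (t - 1) = 0 := by linear_combination q5
          rcases mul_eq_zero.mp this with h | h
          · exact absurd h hh0
          · linear_combination h
        rw [w2, w3]
      · have : i * (t' - t) = 0 := by linear_combination -q6
        rcases mul_eq_zero.mp this with h | h
        · exact absurd h hi0
        · linear_combination h
  · intro hcase
    have hyx : ⁅b 1, b 0⁆ = -b 1 := by rw [← lie_skew, h01]
    have hzx : ⁅b 2, b 0⁆ = -(t • b 2) := by rw [← lie_skew, h02]
    have hzy : ⁅b 2, b 1⁆ = 0 := by rw [← lie_skew, h12, neg_zero]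
    have hyx' : ⁅b' 1, b' 0⁆ = -b' 1 := by rw [← lie_skew, h01']
    have hzx' : ⁅b' 2, b' 0⁆ = -(t' • b' 2) := by rw [← lie_skew, h02']
    have hzy' : ⁅b' 2, b' 1⁆ = 0 := by rw [← lie_skew, h12', neg_zero]
    rcases hcase with rfl | rfl
    · -- t' = t
      let ψ : L ≃ₗ[k] L' := b.equiv b' (Equiv.refl _)
      have hψ : ∀ j, ψ (b j) = b' j := fun j => by simp [ψ]
      have hlie : ∀ x y, ψ ⁅x, y⁆ = ⁅ψ x, ψ y⁆ := by
        intro x y
        have := Groth.Agent.H2.map_lie_of_basis b (ψ : L →ₗ[k] L') (by
          intro i j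
          simp only [LinearEquiv.coe_coe]
          fin_cases i <;> fin_cases j <;>
            simp [hψ, h01, h02, h12, hyx, hzx, hzy, h01', h02', h12', hyx', hzx', hzy']) x y
        simpa using this
      exact ⟨{ ψ with map_lie' := fun {x y} => hlie x y }⟩
    · -- t' = t⁻¹
      let v : Fin 3 → L' := ![t • b' 0, b' 2, b' 1]
      let v' : Fin 3 → L := ![t⁻¹ • b 0, b 2, b 1]
      let ψ : L →ₗ[k] L' := b.constr k v
      let ψ' : L' →ₗ[k] L := b'.constr k v'
      have hψ : ∀ j, ψ (b j) = v j := fun j => by simp [ψ]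
      have hψ' : ∀ j, ψ' (b' j) = v' j := fun j => by simp [ψ']
      have h1 : ψ' ∘ₗ ψ = LinearMap.id := by
        apply b.ext
        intro j
        fin_cases j <;> simp [hψ, hψ', v, v', ht]
      have h2 : ψ ∘ₗ ψ' = LinearMap.id := by
        apply b'.ext
        intro j
        fin_cases j <;> simp [hψ, hψ', v, v', ht]
      let Ψ : L ≃ₗ[k] L' := LinearEquiv.ofLinearMap ψ ψ' h2 h1
      have hlie : ∀ x y, Ψ ⁅x, y⁆ = ⁅Ψ x, Ψ y⁆ := by
        intro x y
        have := Groth.Agent.H2.map_lie_of_basis b ψ (by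
          intro i j
          fin_cases i <;> fin_cases j <;>
            simp [hψ, v, h01, h02, h12, hyx, hzx, hzy, h01', h02', h12', hyx', hzx', hzy', ht, smul_smul]) x y
        simpa [Ψ] using this
      exact ⟨{ Ψ with map_lie' := fun {x y} => hlie x y }⟩

end Groth.Agent.S13108
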