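import Groth.Statements.S13112
import Groth.Agent.H25.SecSN
open Groth.Agent.H25 Groth.Agent.H25.SecSN

set_option autoImplicit false
universe u
open HTop

namespace Groth.Agent.S13112

open CategoryTheory AlgebraicGeometry in
/-- Let k be a field, T a seminormal scheme of finite type over k, and f : X → Y a proper universally
injective k-morphism of schemes locally of finite type over k. If a morphism of schemes g : T → Y
lifts through f at every point of T, i.e. for every t the composite Spec κ(t) → T → Y factors
through f, then g itself factors through f. -/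
theorem result
    {k : Type u} [Field k] {T X Y : Scheme.{u}}
    (sT : T ⟶ Spec (CommRingCat.of k)) (sX : X ⟶ Spec (CommRingCat.of k)) (sY : Y ⟶ Spec (CommRingCat.of k))
    [LocallyOfFiniteType sT] [QuasiCompact sT] [LocallyOfFiniteType sX] [LocallyOfFiniteType sY]
    (hT : HTop.IsSeminormal T)
    (f : X ⟶ Y) (hf : f ≫ sY = sX) [IsProper f] [UniversallyInjective f]
    (g : T ⟶ Y)
    (hlift : ∀ t : T, ∃ l : Spec (T.residueField t) ⟶ X, l ≫ f = T.fromSpecResidueField t ≫ g) :
    ∃ h : T ⟶ X, h ≫ f = g := by
  have hσ : ∀ t : T, ∃ σ : Spec (T.residueField t) ⟶ Limits.pullback f g,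
      σ ≫ Limits.pullback.snd f g = T.fromSpecResidueField t := by
    intro t
    obtain ⟨l, hl⟩ := hlift t
    exact ⟨Limits.pullback.lift l (T.fromSpecResidueField t) hl, Limits.pullback.lift_snd _ _ _⟩
  haveI : UniversallyInjective (Limits.pullback.snd f g) :=
    MorphismProperty.pullback_snd (P := @UniversallyInjective) f g inferInstance
  haveI : UniversallyClosed (Limits.pullback.snd f g) :=
    MorphismProperty.pullback_snd (P := @UniversallyClosed) f g inferInstance
  haveI : Surjective (Limits.pullback.snd f g) := by
    refine ⟨fun t => ?_⟩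
    obtain ⟨σ, hσt⟩ := hσ t
    refine ⟨σ (IsLocalRing.closedPoint (T.residueField t)), ?_⟩
    rw [← Scheme.Hom.comp_apply, hσt, Scheme.fromSpecResidueField_apply]
  have hp : FlatMor.IsUnivHomeo (Limits.pullback.snd f g) := by
    intro X' Y' i₁ i₂ f' sq
    haveI : UniversallyInjective f' :=
      MorphismProperty.of_isPullback (P := @UniversallyInjective) sq.flip inferInstance
    haveI : UniversallyClosed f' :=
      MorphismProperty.of_isPullback (P := @UniversallyClosed) sq.flip inferInstance
    haveI : Surjective f' :=
      MorphismProperty.of_isPullback (P := @Surjective) sq.flip inferInstance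
    change IsHomeomorph f'
    rw [isHomeomorph_iff_continuous_isClosedMap_bijective]
    exact ⟨f'.continuous, f'.isClosedMap, f'.injective, f'.surjective⟩
  have hrs : RS (Limits.pullback.snd f g) :=
    rs_of_pointLifts _ (Limits.pullback.snd f g).injective hσ
  obtain ⟨s, hs⟩ := exists_section_sn hT _ hp hrs
  refine ⟨s ≫ Limits.pullback.fst f g, ?_⟩
  rw [Category.assoc, Limits.pullback.condition, ← Category.assoc, hs, Category.id_comp]

end Groth.Agent.S13112
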