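import Groth.Statements.S13114
import Mathlib

set_option autoImplicit false
universe u
open HilbChow

namespace Groth.Agent.S13114

/-- Let k be an algebraically closed field, A a commutative local k-algebra of finite dimension n over k
and u a unit of A. Then the determinant of multiplication by u on the k-vector space A, mapped to
the residue field of A, equals the n-th power of the residue class of u. -/
theorem result
    (k A : Type u) [Field k] [IsAlgClosed k] [CommRing A] [Algebra k A] [IsLocalRing A]
    [Module.Finite k A] (u : Aˣ) :
    algebraMap k (IsLocalRing.ResidueField A) (Algebra.norm k (u : A)) =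
      IsLocalRing.residue A (u : A) ^ Module.finrank k A := by
  classical
  haveI : Module.Finite k (IsLocalRing.ResidueField A) :=
    Module.Finite.of_surjective ((IsScalarTower.toAlgHom k A (IsLocalRing.ResidueField A)).toLinearMap)
      IsLocalRing.residue_surjective
  obtain ⟨c, hc⟩ := (IsAlgClosed.algebraMap_bijective_of_isIntegral (k := k)
    (K := IsLocalRing.ResidueField A)).2 (IsLocalRing.residue A (u : A))
  set x : A := algebraMap k A c - u with hx
  have hxm : x ∈ IsLocalRing.maximalIdeal A := by
    rw [← IsLocalRing.residue_eq_zero_iff, hx, map_sub, ← hc]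
    rw [← IsLocalRing.ResidueField.algebraMap_eq, ← IsScalarTower.algebraMap_apply, sub_self]
  haveI : IsArtinianRing A := IsArtinianRing.of_finite k A
  have hxn : IsNilpotent x := by
    obtain ⟨N, hN⟩ := IsArtinianRing.isNilpotent_jacobson_bot (R := A)
    rw [IsLocalRing.jacobson_eq_maximalIdeal ⊥ bot_ne_top] at hN
    refine ⟨N, ?_⟩
    have := Ideal.pow_mem_pow hxm N
    rw [hN] at this
    simpa using this
  let b := Module.finBasis k A
  set L := Algebra.leftMulMatrix b with hL
  have hnil : IsNilpotent (L x) := hxn.map L
  have hcp : (L x).charpoly = Polynomial.X ^ (Fintype.card (Fin (Module.finrank k A))) := by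
    have h := Matrix.isNilpotent_charpoly_sub_pow_of_isNilpotent hnil
    exact sub_eq_zero.mp (isNilpotent_iff_eq_zero.mp h)
  have hu : L (u : A) = Matrix.scalar _ c - L x := by
    have h1 : (u : A) = algebraMap k A c - x := by rw [hx]; ring
    rw [h1, map_sub, AlgHom.commutes]
    simp [Matrix.algebraMap_eq_diagonal]
  have hnorm : Algebra.norm k (u : A) = c ^ Module.finrank k A := by
    rw [Algebra.norm_eq_matrix_det b, ← hL, hu, ← Matrix.eval_charpoly, hcp]
    simp
  rw [hnorm, map_pow, hc]

end Groth.Agent.S13114
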