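import Groth.Statements.S13120
import Groth.Agent.H2.KumKer

set_option autoImplicit false
universe u
open KumFam

namespace Groth.Agent.S13120

open MvPolynomial in
/-- Let R be a commutative ring of characteristic 2 and l0, l2, l4, s0, s2, s4, τ ∈ R with τ a unit.
Inside R[u, v] (u = X 0, v = X 1) let A = R[u², u³, v², v³] be the coordinate ring of the product of
two cuspidal curves, and let D be the R-derivation of R[u, v] with D(u) = v²(l0 u⁴ + τ u³ + l2 u² +
l4) and D(v) = u²(s0 v⁴ + τ v³ + s2 v² + s4); D is u²v² times the rational vector field (l0 u² + τ u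
+ l2 + l4 u⁻²) ∂_u + (s0 v² + τ v + s2 + s4 v⁻²) ∂_v, which maps A into itself, and u²v² is a
non-zero-divisor, so the kernel of that vector field on A is the set of a ∈ A with D(a) = 0. Then
for a ∈ A: D(a) = 0 if and only if a ∈ R[u², v², g], where g = (s0 v⁴ + s2 v² + s4) u³ + (l0 u⁴ + l2
u² + l4) v³ + τ u³ v³. (The published statement identifies this kernel with the ring of invariants
of the corresponding action of the group scheme of square roots of unity; this row states the kernel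
computation that is actually carried out.) -/
theorem result (R : Type u) [CommRing R] [CharP R 2]
    (l0 l2 l4 s0 s2 s4 τ : R) (hτ : IsUnit τ) (a : MvPolynomial (Fin 2) R)
    (ha : a ∈ Algebra.adjoin R
      ({X 0 ^ 2, X 0 ^ 3, X 1 ^ 2, X 1 ^ 3} : Set (MvPolynomial (Fin 2) R))) :
    MvPolynomial.mkDerivation R
        (![X 1 ^ 2 * (C l0 * X 0 ^ 4 + C τ * X 0 ^ 3 + C l2 * X 0 ^ 2 + C l4),
          X 0 ^ 2 * (C s0 * X 1 ^ 4 + C τ * X 1 ^ 3 + C s2 * X 1 ^ 2 + C s4)] :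
          Fin 2 → MvPolynomial (Fin 2) R) a = 0 ↔
      a ∈ Algebra.adjoin R
        ({X 0 ^ 2, X 1 ^ 2,
          (C s0 * X 1 ^ 4 + C s2 * X 1 ^ 2 + C s4) * X 0 ^ 3 +
            (C l0 * X 0 ^ 4 + C l2 * X 0 ^ 2 + C l4) * X 1 ^ 3 +
            C τ * X 0 ^ 3 * X 1 ^ 3} : Set (MvPolynomial (Fin 2) R)) := by
  classical
  obtain ⟨ti, hti⟩ := hτ.exists_right_inv
  have h2 : (2:R) = 0 := CharTwo.two_eq_zero
  have h2C : (2 : MvPolynomial (Fin 2) R) = 0 := by
    have : (2 : MvPolynomial (Fin 2) R) = C (2:R) := (map_ofNat C 2).symm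
    rw [this, h2, map_zero]
  have hTC : (C τ : MvPolynomial (Fin 2) R) * C ti = 1 := by rw [← map_mul, hti, map_one]
  obtain ⟨g, hg⟩ : ∃ g : MvPolynomial (Fin 2) R, g =
      (C s0 * X 1 ^ 4 + C s2 * X 1 ^ 2 + C s4) * X 0 ^ 3 +
        (C l0 * X 0 ^ 4 + C l2 * X 0 ^ 2 + C l4) * X 1 ^ 3 + C τ * X 0 ^ 3 * X 1 ^ 3 := ⟨_, rfl⟩
  obtain ⟨D, hD⟩ : ∃ D : Derivation R (MvPolynomial (Fin 2) R) (MvPolynomial (Fin 2) R), D =
      MvPolynomial.mkDerivation R
        (![X 1 ^ 2 * (C l0 * X 0 ^ 4 + C τ * X 0 ^ 3 + C l2 * X 0 ^ 2 + C l4),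
          X 0 ^ 2 * (C s0 * X 1 ^ 4 + C τ * X 1 ^ 3 + C s2 * X 1 ^ 2 + C s4)] :
          Fin 2 → MvPolynomial (Fin 2) R) := ⟨_, rfl⟩
  rw [← hg, ← hD]
  obtain ⟨U₂, hU₂⟩ : ∃ U₂ : MvPolynomial (Fin 2) R, U₂ = C l0 * X 0 ^ 2 + C l2 * X 0 + C l4 :=
    ⟨_, rfl⟩
  obtain ⟨V₂, hV₂⟩ : ∃ V₂ : MvPolynomial (Fin 2) R, V₂ = C s0 * X 1 ^ 2 + C s2 * X 1 + C s4 :=
    ⟨_, rfl⟩
  have hEU : expand 2 U₂ = C l0 * X 0 ^ 4 + C l2 * X 0 ^ 2 + C l4 := by
    rw [hU₂]; simp only [map_add, map_mul, map_pow, expand_X, expand_C]; ring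
  have hEV : expand 2 V₂ = C s0 * X 1 ^ 4 + C s2 * X 1 ^ 2 + C s4 := by
    rw [hV₂]; simp only [map_add, map_mul, map_pow, expand_X, expand_C]; ring
  have hDx : D (X 0) = X 1 ^ 2 * expand 2 U₂ + C τ * X 0 ^ 2 * X 1 ^ 2 * X 0 := by
    rw [hD, mkDerivation_X, hEU]
    show (X 1 ^ 2 * (C l0 * X 0 ^ 4 + C τ * X 0 ^ 3 + C l2 * X 0 ^ 2 + C l4) :
      MvPolynomial (Fin 2) R) = _
    ring
  have hDy : D (X 1) = X 0 ^ 2 * expand 2 V₂ + C τ * X 0 ^ 2 * X 1 ^ 2 * X 1 := by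
    rw [hD, mkDerivation_X, hEV]
    show (X 0 ^ 2 * (C s0 * X 1 ^ 4 + C τ * X 1 ^ 3 + C s2 * X 1 ^ 2 + C s4) :
      MvPolynomial (Fin 2) R) = _
    ring
  have hg' : g = expand 2 V₂ * X 0 ^ 2 * X 0 + expand 2 U₂ * X 1 ^ 2 * X 1
      + C τ * X 0 ^ 2 * X 1 ^ 2 * (X 0 * X 1) := by
    rw [hg, hEU, hEV]; ring
  have hgT : g = Groth.Agent.H2.KumKer.T 0 (V₂ * X 0) (U₂ * X 1) (C τ * X 0 * X 1) := by
    rw [hg', Groth.Agent.H2.KumKer.T]
    simp only [map_zero, map_mul, expand_C, expand_X]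
    ring
  have hDg : D g = 0 := by
    rw [hgT, Groth.Agent.H2.KumKer.derivation_T h2C, hDx, hDy]
    simp only [map_mul, expand_C, expand_X]
    linear_combination (expand 2 U₂ * expand 2 V₂ * X 0 ^ 2 * X 1 ^ 2
      + C τ * X 0 ^ 5 * X 1 ^ 2 * expand 2 V₂
      + C τ * X 0 ^ 2 * X 1 ^ 5 * expand 2 U₂ + C τ ^ 2 * X 0 ^ 5 * X 1 ^ 5) * h2C
  constructor
  · intro hp
    have hno := Groth.Agent.H2.KumKer.noOne_of_mem_adjoin ha
    obtain ⟨q00, q10, q01, q11, rfl⟩ := Groth.Agent.H2.KumKer.exists_T a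
    obtain ⟨r', hr'⟩ := Groth.Agent.H2.KumKer.exists_eq_mul_of_noOne hno
    rw [Groth.Agent.H2.KumKer.derivation_T h2C, hDx, hDy] at hp
    have hT0 : Groth.Agent.H2.KumKer.T (q10 * (X 1 * U₂) + q01 * (X 0 * V₂))
        (q10 * (C τ * X 0 * X 1) + q11 * (X 0 * V₂))
        (q01 * (C τ * X 0 * X 1) + q11 * (X 1 * U₂)) 0 = 0 := by
      simp only [Groth.Agent.H2.KumKer.T, map_add, map_mul, expand_C, expand_X, map_zero]
      linear_combination hp + (-(expand 2 q11 * C τ * X 0 ^ 3 * X 1 ^ 3)) * h2C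
    obtain ⟨-, e1, e2, -⟩ := Groth.Agent.H2.KumKer.T_eq_zero hT0
    have c1 : C τ * q10 + r' * V₂ * X 0 = 0 := by
      apply Groth.Agent.H2.KumKer.monomial_one_mul_eq_zero
        (s := Finsupp.single 0 1 + Finsupp.single 1 1)
      rw [← Groth.Agent.H2.KumKer.mono2, map_one, pow_one, pow_one, one_mul]
      rw [hr'] at e1
      linear_combination e1
    have c2 : C τ * q01 + r' * U₂ * X 1 = 0 := by
      apply Groth.Agent.H2.KumKer.monomial_one_mul_eq_zero
        (s := Finsupp.single 0 1 + Finsupp.single 1 1)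
      rw [← Groth.Agent.H2.KumKer.mono2, map_one, pow_one, pow_one, one_mul]
      rw [hr'] at e2
      linear_combination e2
    have c1' : C τ * expand 2 q10 + expand 2 r' * expand 2 V₂ * X 0 ^ 2 = 0 := by
      have := congrArg (expand 2) c1
      simpa only [map_add, map_mul, expand_C, expand_X, map_zero] using this
    have c2' : C τ * expand 2 q01 + expand 2 r' * expand 2 U₂ * X 1 ^ 2 = 0 := by
      have := congrArg (expand 2) c2
      simpa only [map_add, map_mul, expand_C, expand_X, map_zero] using this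
    have hq11' : expand 2 q11 = X 0 ^ 2 * X 1 ^ 2 * expand 2 r' := by
      rw [hr']; simp only [map_mul, expand_X]
    have hfinal : Groth.Agent.H2.KumKer.T q00 q10 q01 q11 =
        expand 2 q00 + expand 2 (C ti * r') * g := by
      rw [hg']
      simp only [Groth.Agent.H2.KumKer.T, map_mul, expand_C]
      linear_combination (-(C ti * X 0)) * c1' + (-(C ti * X 1)) * c2' + (X 0 * X 1) * hq11'
        + (expand 2 q10 * X 0 + expand 2 q01 * X 1 - X 0 ^ 3 * X 1 ^ 3 * expand 2 r') * hTC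
        + (expand 2 q10 * X 0 + expand 2 q01 * X 1) * h2C
    rw [hfinal]
    have hS0 : (X 0 ^ 2 : MvPolynomial (Fin 2) R) ∈ Algebra.adjoin R
        ({X 0 ^ 2, X 1 ^ 2, g} : Set (MvPolynomial (Fin 2) R)) :=
      Algebra.subset_adjoin (by simp)
    have hS1 : (X 1 ^ 2 : MvPolynomial (Fin 2) R) ∈ Algebra.adjoin R
        ({X 0 ^ 2, X 1 ^ 2, g} : Set (MvPolynomial (Fin 2) R)) :=
      Algebra.subset_adjoin (by simp)
    have hSg : g ∈ Algebra.adjoin R
        ({X 0 ^ 2, X 1 ^ 2, g} : Set (MvPolynomial (Fin 2) R)) :=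
      Algebra.subset_adjoin (by simp)
    exact Subalgebra.add_mem _ (Groth.Agent.H2.KumKer.expand_two_mem _ hS0 hS1 _)
      (Subalgebra.mul_mem _ (Groth.Agent.H2.KumKer.expand_two_mem _ hS0 hS1 _) hSg)
  · intro hmem
    clear ha
    induction hmem using Algebra.adjoin_induction with
    | mem x hx =>
      simp only [Set.mem_insert_iff, Set.mem_singleton_iff] at hx
      rcases hx with rfl | rfl | rfl
      · rw [← expand_X]; exact Groth.Agent.H2.KumKer.derivation_expand_two h2C D _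
      · rw [← expand_X]; exact Groth.Agent.H2.KumKer.derivation_expand_two h2C D _
      · exact hDg
    | algebraMap r => rw [MvPolynomial.algebraMap_eq, derivation_C]
    | add x y _ _ hx hy => rw [map_add, hx, hy, add_zero]
    | mul x y _ _ hx hy => rw [Derivation.leibniz, hx, hy, smul_zero, smul_zero, add_zero]

end Groth.Agent.S13120
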