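import Groth.Statements.S13121
import Groth.Agent.H2.KumKer

set_option autoImplicit false
universe u
open KumFam

namespace Groth.Agent.S13121

open MvPolynomial in
/-- Let R be a commutative ring of characteristic 2 and l0, l2, l4, s0, s2, s4, τ ∈ R with τ a unit. In
R[u, v] (u = X 0, v = X 1) put g = (s0 v⁴ + s2 v² + s4) u³ + (l0 u⁴ + l2 u² + l4) v³ + τ u³ v³. Then
the kernel of the R-algebra homomorphism R[a, b, c] → R[u, v] (a = X 0, b = X 1, c = X 2) with a ↦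
u², b ↦ v², c ↦ g is the ideal generated by c² + s0² a³ b⁴ + s2² a³ b² + s4² a³ + l0² a⁴ b³ + l2² a²
b³ + l4² b³ + τ² a³ b³; its image is the subalgebra R[u², v², g], which is therefore presented by
this one equation. -/
theorem result (R : Type u) [CommRing R] [CharP R 2]
    (l0 l2 l4 s0 s2 s4 τ : R) (hτ : IsUnit τ) :
    RingHom.ker (MvPolynomial.aeval (R := R) (S₁ := MvPolynomial (Fin 2) R)
        ![X 0 ^ 2, X 1 ^ 2,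
          (C s0 * X 1 ^ 4 + C s2 * X 1 ^ 2 + C s4) * X 0 ^ 3 +
            (C l0 * X 0 ^ 4 + C l2 * X 0 ^ 2 + C l4) * X 1 ^ 3 +
            C τ * X 0 ^ 3 * X 1 ^ 3]) =
      Ideal.span {(X 2 ^ 2 + C (s0 ^ 2) * X 0 ^ 3 * X 1 ^ 4 + C (s2 ^ 2) * X 0 ^ 3 * X 1 ^ 2 +
        C (s4 ^ 2) * X 0 ^ 3 + C (l0 ^ 2) * X 0 ^ 4 * X 1 ^ 3 + C (l2 ^ 2) * X 0 ^ 2 * X 1 ^ 3 +
        C (l4 ^ 2) * X 1 ^ 3 + C (τ ^ 2) * X 0 ^ 3 * X 1 ^ 3 : MvPolynomial (Fin 3) R)} := by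
  classical
  have h2 : (2:R) = 0 := CharTwo.two_eq_zero
  have h2C : (2 : MvPolynomial (Fin 2) R) = 0 := by
    have : (2 : MvPolynomial (Fin 2) R) = C (2:R) := (map_ofNat C 2).symm
    rw [this, h2, map_zero]
  obtain ⟨g, hg⟩ : ∃ g : MvPolynomial (Fin 2) R, g =
      (C s0 * X 1 ^ 4 + C s2 * X 1 ^ 2 + C s4) * X 0 ^ 3 +
        (C l0 * X 0 ^ 4 + C l2 * X 0 ^ 2 + C l4) * X 1 ^ 3 + C τ * X 0 ^ 3 * X 1 ^ 3 := ⟨_, rfl⟩
  obtain ⟨G₂, hG₂⟩ : ∃ G₂ : MvPolynomial (Fin 2) R, G₂ =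
      C (s0 ^ 2) * X 0 ^ 3 * X 1 ^ 4 + C (s2 ^ 2) * X 0 ^ 3 * X 1 ^ 2 +
        C (s4 ^ 2) * X 0 ^ 3 + C (l0 ^ 2) * X 0 ^ 4 * X 1 ^ 3 + C (l2 ^ 2) * X 0 ^ 2 * X 1 ^ 3 +
        C (l4 ^ 2) * X 1 ^ 3 + C (τ ^ 2) * X 0 ^ 3 * X 1 ^ 3 := ⟨_, rfl⟩
  have hg2 : g ^ 2 + expand 2 G₂ = 0 := by
    rw [hg, hG₂]
    simp only [map_add, map_mul, map_pow, expand_X, expand_C]
    linear_combination (C l0*C l2*X 0^6*X 1^6 + C l0*C l4*X 0^4*X 1^6 + C l0*C s0*X 0^7*X 1^7 + C l0*C s2*X 0^7*X 1^5 + C l0*C s4*X 0^7*X 1^3 + C l0*C τ*X 0^7*X 1^6 + C l0^2*X 0^8*X 1^6 + C l2*C l4*X 0^2*X 1^6 + C l2*C s0*X 0^5*X 1^7 + C l2*C s2*X 0^5*X 1^5 + C l2*C s4*X 0^5*X 1^3 + C l2*C τ*X 0^5*X 1^6 + C l2^2*X 0^4*X 1^6 + C l4*C s0*X 0^3*X 1^7 + C l4*C s2*X 0^3*X 1^5 + C l4*C s4*X 0^3*X 1^3 + C l4*C τ*X 0^3*X 1^6 + C l4^2*X 1^6 + C s0*C s2*X 0^6*X 1^6 + C s0*C s4*X 0^6*X 1^4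 + C s0*C τ*X 0^6*X 1^7 + C s0^2*X 0^6*X 1^8 + C s2*C s4*X 0^6*X 1^2 + C s2*C τ*X 0^6*X 1^5 + C s2^2*X 0^6*X 1^4 + C s4*C τ*X 0^6*X 1^3 + C s4^2*X 0^6 + C τ^2*X 0^6*X 1^6) * h2C
  have hgm : g = monomial (Finsupp.single 0 3 + Finsupp.single 1 4) s0
      + monomial (Finsupp.single 0 3 + Finsupp.single 1 2) s2
      + monomial (Finsupp.single 0 3 + Finsupp.single 1 0) s4
      + monomial (Finsupp.single 0 4 + Finsupp.single 1 3) l0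
      + monomial (Finsupp.single 0 2 + Finsupp.single 1 3) l2
      + monomial (Finsupp.single 0 0 + Finsupp.single 1 3) l4
      + monomial (Finsupp.single 0 3 + Finsupp.single 1 3) τ := by
    simp only [← Groth.Agent.H2.KumKer.mono2]
    rw [hg]; ring
  have hcoef : ∀ (q : MvPolynomial (Fin 2) R) (n : Fin 2 →₀ ℕ),
      coeff (2 • n + (Finsupp.single 0 3 + Finsupp.single 1 3)) (expand 2 q * g) =
        coeff n q * τ := by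
    intro q n
    rw [hgm]
    simp only [mul_add, coeff_add]
    rw [Groth.Agent.H2.KumKer.lemA2 q n 3 3 3 4 s0 (by decide),
      Groth.Agent.H2.KumKer.lemA2 q n 3 3 3 2 s2 (by decide),
      Groth.Agent.H2.KumKer.lemA2 q n 3 3 3 0 s4 (by decide),
      Groth.Agent.H2.KumKer.lemA2 q n 3 3 4 3 l0 (by decide),
      Groth.Agent.H2.KumKer.lemA2 q n 3 3 2 3 l2 (by decide),
      Groth.Agent.H2.KumKer.lemA2 q n 3 3 0 3 l4 (by decide),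
      Groth.Agent.H2.KumKer.lemB2 q n 3 3 τ]
    simp
  have key := Groth.Agent.H2.KumKer.ker_aeval_eq_span g G₂ 3 3 (by decide) τ hτ hg2 hcoef
  rw [hg] at key
  rw [key]
  congr 2
  rw [hG₂]
  have e0 : (![X 0, X 1] : Fin 2 → MvPolynomial (Fin 3) R) 0 = X 0 := rfl
  have e1 : (![X 0, X 1] : Fin 2 → MvPolynomial (Fin 3) R) 1 = X 1 := rfl
  simp only [map_add, map_mul, map_pow, aeval_X, aeval_C, e0, e1, MvPolynomial.algebraMap_eq]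
  ring

end Groth.Agent.S13121
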