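import Groth.Statements.S13122
import Groth.Agent.H2.KumKer

set_option autoImplicit false
universe u
open KumFam

namespace Groth.Agent.S13122

open MvPolynomial in
/-- Let R be a commutative ring of characteristic 2 and l0, l2, l4, s0, s2, s4, τ ∈ R with τ a unit. On
R[x, y] (x = X 0, y = X 1; the coordinates u⁻¹, v⁻¹ of the smooth chart of the product of two
cuspidal curves) let D be the R-derivation with D(x) = l4 x⁴ + l2 x² + τ x + l0 and D(y) = s4 y⁴ +
s2 y² + τ y + s0, and put h = (s4 y⁴ + s2 y² + s0) x + (l4 x⁴ + l2 x² + l0) y + τ x y. Then: (1) for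
p ∈ R[x, y], D(p) = 0 if and only if p lies in the image of the R-algebra homomorphism R[a, b, c] →
R[x, y] (a = X 0, b = X 1, c = X 2) with a ↦ x², b ↦ y², c ↦ h; (2) the kernel of that homomorphism
is the ideal generated by c² + τ² a b + (s4² b⁴ + s2² b² + s0²) a + (l4² a⁴ + l2² a² + l0²) b. (The
published statement asserts that the ring of invariants of the action of the group scheme of square
roots of unity given by this vector field is R[a, b, c] modulo this equation, by the same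
computation as on the other chart; this row pins the generator h and states the kernel computation.) -/
theorem result (R : Type u) [CommRing R]
    [CharP R 2] (l0 l2 l4 s0 s2 s4 τ : R) (hτ : IsUnit τ) :
    (∀ p : MvPolynomial (Fin 2) R,
      MvPolynomial.mkDerivation R
          (![C l4 * X 0 ^ 4 + C l2 * X 0 ^ 2 + C τ * X 0 + C l0,
            C s4 * X 1 ^ 4 + C s2 * X 1 ^ 2 + C τ * X 1 + C s0] :
            Fin 2 → MvPolynomial (Fin 2) R) p = 0 ↔
        p ∈ (MvPolynomial.aeval (R := R) (S₁ := MvPolynomial (Fin 2) R)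
          ![X 0 ^ 2, X 1 ^ 2,
            (C s4 * X 1 ^ 4 + C s2 * X 1 ^ 2 + C s0) * X 0 +
              (C l4 * X 0 ^ 4 + C l2 * X 0 ^ 2 + C l0) * X 1 + C τ * X 0 * X 1]).range) ∧
    RingHom.ker (MvPolynomial.aeval (R := R) (S₁ := MvPolynomial (Fin 2) R)
        ![X 0 ^ 2, X 1 ^ 2,
          (C s4 * X 1 ^ 4 + C s2 * X 1 ^ 2 + C s0) * X 0 +
            (C l4 * X 0 ^ 4 + C l2 * X 0 ^ 2 + C l0) * X 1 + C τ * X 0 * X 1]) =
      Ideal.span {(X 2 ^ 2 + C (τ ^ 2) * X 0 * X 1 +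
        (C (s4 ^ 2) * X 1 ^ 4 + C (s2 ^ 2) * X 1 ^ 2 + C (s0 ^ 2)) * X 0 +
        (C (l4 ^ 2) * X 0 ^ 4 + C (l2 ^ 2) * X 0 ^ 2 + C (l0 ^ 2)) * X 1 : MvPolynomial (Fin 3) R)} := by
  classical
  obtain ⟨ti, hti⟩ := hτ.exists_right_inv
  have h2 : (2:R) = 0 := CharTwo.two_eq_zero
  have h2C : (2 : MvPolynomial (Fin 2) R) = 0 := by
    have : (2 : MvPolynomial (Fin 2) R) = C (2:R) := (map_ofNat C 2).symm
    rw [this, h2, map_zero]
  have hTC : (C τ : MvPolynomial (Fin 2) R) * C ti = 1 := by rw [← map_mul, hti, map_one]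
  obtain ⟨h, hh⟩ : ∃ h : MvPolynomial (Fin 2) R, h =
      (C s4 * X 1 ^ 4 + C s2 * X 1 ^ 2 + C s0) * X 0 +
        (C l4 * X 0 ^ 4 + C l2 * X 0 ^ 2 + C l0) * X 1 + C τ * X 0 * X 1 := ⟨_, rfl⟩
  obtain ⟨D, hD⟩ : ∃ D : Derivation R (MvPolynomial (Fin 2) R) (MvPolynomial (Fin 2) R), D =
      MvPolynomial.mkDerivation R
          (![C l4 * X 0 ^ 4 + C l2 * X 0 ^ 2 + C τ * X 0 + C l0,
            C s4 * X 1 ^ 4 + C s2 * X 1 ^ 2 + C τ * X 1 + C s0] :
            Fin 2 → MvPolynomial (Fin 2) R) := ⟨_, rfl⟩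
  rw [← hh, ← hD]
  obtain ⟨A₂, hA₂⟩ : ∃ A₂ : MvPolynomial (Fin 2) R, A₂ = C l4 * X 0 ^ 2 + C l2 * X 0 + C l0 :=
    ⟨_, rfl⟩
  obtain ⟨B₂, hB₂⟩ : ∃ B₂ : MvPolynomial (Fin 2) R, B₂ = C s4 * X 1 ^ 2 + C s2 * X 1 + C s0 :=
    ⟨_, rfl⟩
  have hEA : expand 2 A₂ = C l4 * X 0 ^ 4 + C l2 * X 0 ^ 2 + C l0 := by
    rw [hA₂]; simp only [map_add, map_mul, map_pow, expand_X, expand_C]; ring
  have hEB : expand 2 B₂ = C s4 * X 1 ^ 4 + C s2 * X 1 ^ 2 + C s0 := by
    rw [hB₂]; simp only [map_add, map_mul, map_pow, expand_X, expand_C]; ring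
  have hDx : D (X 0) = expand 2 A₂ + C τ * X 0 := by
    rw [hD, mkDerivation_X, hEA]
    show (C l4 * X 0 ^ 4 + C l2 * X 0 ^ 2 + C τ * X 0 + C l0 : MvPolynomial (Fin 2) R) = _
    ring
  have hDy : D (X 1) = expand 2 B₂ + C τ * X 1 := by
    rw [hD, mkDerivation_X, hEB]
    show (C s4 * X 1 ^ 4 + C s2 * X 1 ^ 2 + C τ * X 1 + C s0 : MvPolynomial (Fin 2) R) = _
    ring
  have hh' : h = expand 2 B₂ * X 0 + expand 2 A₂ * X 1 + C τ * X 0 * X 1 := by
    rw [hh, hEA, hEB]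
  have hhT : h = Groth.Agent.H2.KumKer.T 0 B₂ A₂ (C τ) := by
    rw [hh', Groth.Agent.H2.KumKer.T, map_zero, expand_C]; ring
  have hDh : D h = 0 := by
    rw [hhT, Groth.Agent.H2.KumKer.derivation_T h2C, hDx, hDy, expand_C]
    linear_combination (expand 2 A₂ * expand 2 B₂ + C τ * X 0 * expand 2 B₂
      + C τ * X 1 * expand 2 A₂ + C τ ^ 2 * X 0 * X 1) * h2C
  obtain ⟨ψ, hψ⟩ : ∃ ψ : MvPolynomial (Fin 3) R →ₐ[R] MvPolynomial (Fin 2) R,
      ψ = aeval (R := R) (S₁ := MvPolynomial (Fin 2) R) ![X 0 ^ 2, X 1 ^ 2, h] := ⟨_, rfl⟩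
  rw [← hψ]
  have ψ0 : ψ (X 0) = X 0 ^ 2 := by rw [hψ, aeval_X]; rfl
  have ψ1 : ψ (X 1) = X 1 ^ 2 := by rw [hψ, aeval_X]; rfl
  have ψ2 : ψ (X 2) = h := by rw [hψ, aeval_X]; rfl
  have hψι : ∀ q : MvPolynomial (Fin 2) R,
      ψ (aeval (R := R) (![X 0, X 1] : Fin 2 → MvPolynomial (Fin 3) R) q) = expand 2 q := by
    intro q; rw [hψ]; exact Groth.Agent.H2.KumKer.aeval_aeval_eq_expand h q
  refine ⟨?_, ?_⟩
  · intro p
    constructor
    · intro hp
      obtain ⟨q00, q10, q01, q11, rfl⟩ := Groth.Agent.H2.KumKer.exists_T p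
      rw [Groth.Agent.H2.KumKer.derivation_T h2C, hDx, hDy] at hp
      have hT0 : Groth.Agent.H2.KumKer.T (q10 * A₂ + q01 * B₂) (C τ * q10 + q11 * B₂)
          (C τ * q01 + q11 * A₂) 0 = 0 := by
        simp only [Groth.Agent.H2.KumKer.T, map_add, map_mul, expand_C, map_zero]
        linear_combination hp + (-(expand 2 q11 * C τ * X 0 * X 1)) * h2C
      obtain ⟨-, e1, e2, -⟩ := Groth.Agent.H2.KumKer.T_eq_zero hT0
      have e1' : C τ * expand 2 q10 + expand 2 q11 * expand 2 B₂ = 0 := by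
        have := congrArg (expand 2) e1
        simpa only [map_add, map_mul, expand_C, map_zero] using this
      have e2' : C τ * expand 2 q01 + expand 2 q11 * expand 2 A₂ = 0 := by
        have := congrArg (expand 2) e2
        simpa only [map_add, map_mul, expand_C, map_zero] using this
      refine ⟨aeval (R := R) (![X 0, X 1] : Fin 2 → MvPolynomial (Fin 3) R) q00
        + aeval (R := R) (![X 0, X 1] : Fin 2 → MvPolynomial (Fin 3) R) (C ti * q11) * X 2, ?_⟩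
      show ψ _ = _
      rw [map_add, map_mul, hψι, hψι, ψ2, hh']
      simp only [Groth.Agent.H2.KumKer.T, map_mul, expand_C]
      linear_combination (C ti * X 0) * e1' + (C ti * X 1) * e2'
        + (-(X 0 * expand 2 q10 + X 1 * expand 2 q01 - expand 2 q11 * X 0 * X 1)) * hTC
        + (-(expand 2 q10 * X 0 + expand 2 q01 * X 1)) * h2C
    · rintro ⟨P, rfl⟩
      show D (ψ P) = 0
      induction P using MvPolynomial.induction_on with
      | C r =>
        have : ψ (C r) = C r := by rw [hψ, aeval_C]; rfl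
        rw [this, derivation_C]
      | add p q hp hq => rw [map_add, map_add, hp, hq, add_zero]
      | mul_X p i hp =>
        rw [map_mul, Derivation.leibniz, hp, smul_zero, add_zero]
        have hi : i = 0 ∨ i = 1 ∨ i = 2 := by fin_cases i <;> simp
        have hz : D (ψ (X i)) = 0 := by
          rcases hi with rfl | rfl | rfl
          · rw [ψ0, ← expand_X]; exact Groth.Agent.H2.KumKer.derivation_expand_two h2C D _
          · rw [ψ1, ← expand_X]; exact Groth.Agent.H2.KumKer.derivation_expand_two h2C D _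
          · rw [ψ2]; exact hDh
        rw [hz, smul_zero]
  · obtain ⟨G₂, hG₂⟩ : ∃ G₂ : MvPolynomial (Fin 2) R, G₂ =
        C (τ ^ 2) * X 0 * X 1 +
        (C (s4 ^ 2) * X 1 ^ 4 + C (s2 ^ 2) * X 1 ^ 2 + C (s0 ^ 2)) * X 0 +
        (C (l4 ^ 2) * X 0 ^ 4 + C (l2 ^ 2) * X 0 ^ 2 + C (l0 ^ 2)) * X 1 := ⟨_, rfl⟩
    have hg2 : h ^ 2 + expand 2 G₂ = 0 := by
      rw [hh, hG₂]
      simp only [map_add, map_mul, map_pow, expand_X, expand_C]
      linear_combination (C l0*C l2*X 0^2*X 1^2 + C l0*C l4*X 0^4*X 1^2 + C l0*C s0*X 0*X 1 + C l0*C s2*X 0*X 1^3 + C l0*C s4*X 0*X 1^5 + C l0*C τ*X 0*X 1^2 + C l0^2*X 1^2 + C l2*C l4*X 0^6*X 1^2 + C l2*C s0*X 0^3*X 1 + C l2*C s2*X 0^3*X 1^3 + C l2*C s4*X 0^3*X 1^5 + C l2*C τ*X 0^3*X 1^2 + C l2^2*X 0^4*X 1^2 + C l4*C s0*X 0^5*X 1 + C l4*C s2*X 0^5*X 1^3 + C l4*C s4*X 0^5*X 1^5 + C l4*C τ*X 0^5*X 1^2 + C l4^2*X 0^8*X 1^2 + C s0*C s2*X 0^2*X 1^2 + C s0*C s4*X 0^2*X 1^4 + C s0*C τ*X 0^2*X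 1 + C s0^2*X 0^2 + C s2*C s4*X 0^2*X 1^6 + C s2*C τ*X 0^2*X 1^3 + C s2^2*X 0^2*X 1^4 + C s4*C τ*X 0^2*X 1^5 + C s4^2*X 0^2*X 1^8 + C τ^2*X 0^2*X 1^2) * h2C
    have hgm : h = monomial (Finsupp.single 0 1 + Finsupp.single 1 4) s4
        + monomial (Finsupp.single 0 1 + Finsupp.single 1 2) s2
        + monomial (Finsupp.single 0 1 + Finsupp.single 1 0) s0
        + monomial (Finsupp.single 0 4 + Finsupp.single 1 1) l4
        + monomial (Finsupp.single 0 2 + Finsupp.single 1 1) l2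
        + monomial (Finsupp.single 0 0 + Finsupp.single 1 1) l0
        + monomial (Finsupp.single 0 1 + Finsupp.single 1 1) τ := by
      simp only [← Groth.Agent.H2.KumKer.mono2]
      rw [hh]; ring
    have hcoef : ∀ (q : MvPolynomial (Fin 2) R) (n : Fin 2 →₀ ℕ),
        coeff (2 • n + (Finsupp.single 0 1 + Finsupp.single 1 1)) (expand 2 q * h) =
          coeff n q * τ := by
      intro q n
      rw [hgm]
      simp only [mul_add, coeff_add]
      rw [Groth.Agent.H2.KumKer.lemA2 q n 1 1 1 4 s4 (by decide),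
        Groth.Agent.H2.KumKer.lemA2 q n 1 1 1 2 s2 (by decide),
        Groth.Agent.H2.KumKer.lemA2 q n 1 1 1 0 s0 (by decide),
        Groth.Agent.H2.KumKer.lemA2 q n 1 1 4 1 l4 (by decide),
        Groth.Agent.H2.KumKer.lemA2 q n 1 1 2 1 l2 (by decide),
        Groth.Agent.H2.KumKer.lemA2 q n 1 1 0 1 l0 (by decide),
        Groth.Agent.H2.KumKer.lemB2 q n 1 1 τ]
      simp
    have key := Groth.Agent.H2.KumKer.ker_aeval_eq_span h G₂ 1 1 (by decide) τ hτ hg2 hcoef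
    rw [hψ, key]
    congr 2
    rw [hG₂]
    have e0 : (![X 0, X 1] : Fin 2 → MvPolynomial (Fin 3) R) 0 = X 0 := rfl
    have e1 : (![X 0, X 1] : Fin 2 → MvPolynomial (Fin 3) R) 1 = X 1 := rfl
    simp only [map_add, map_mul, map_pow, aeval_X, aeval_C, e0, e1, MvPolynomial.algebraMap_eq]
    ring

end Groth.Agent.S13122
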