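import Groth.Statements.S13124
import Mathlib
-- import your own Groth.Agent.* helpers here

set_option autoImplicit false
universe u v w
open KumFam

namespace Groth.Agent.S13124

open TensorProduct

/-- Let k be a commutative ring, A a commutative k-bialgebra that is flat over k, and R a commutative
k-algebra which is an integrally closed domain, with a coaction R → R ⊗ A that is an algebra
homomorphism. Then the ring of invariants (the elements f with coaction f ⊗ 1) is an integrally
closed domain. (The published statement is for a finite group scheme acting on a normal scheme whose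
quotient is, locally, the spectrum of the ring of invariants; this row is the affine integral case
and allows any commutative bialgebra flat over k, flatness being automatic over a field.) -/
theorem result (k : Type u) [CommRing k]
    (A : Type v) [CommRing A] [Bialgebra k A] [Module.Flat k A]
    (R : Type w) [CommRing R] [Algebra k R] [IsDomain R] [IsIntegrallyClosed R]
    [HopfRep.Comod k A R] [GLin.IsCoactAlg k A R] :
    IsIntegrallyClosed (GLin.invariants k A R) := by
  classical
  obtain ⟨S, hS⟩ : ∃ S : Subalgebra k R, S = GLin.invariants k A R := ⟨_, rfl⟩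
  rw [← hS]
  have hmem : ∀ r : R, r ∈ S ↔
      HopfRep.Comod.coact (k := k) (A := A) r = r ⊗ₜ[k] (1 : A) := by
    intro r; rw [hS]; exact Iff.rfl
  rw [isIntegrallyClosed_iff (FractionRing S)]
  intro x hx
  obtain ⟨g, hgdef⟩ : ∃ g : S →+* FractionRing R,
      g = (algebraMap R (FractionRing R)).comp S.val.toRingHom := ⟨_, rfl⟩
  have hgapp : ∀ s : S, g s = algebraMap R (FractionRing R) (s : R) := by
    intro s; rw [hgdef]; rfl
  have hg : Function.Injective g := by
    intro s t hst
    rw [hgapp, hgapp] at hst
    exact Subtype.ext (IsFractionRing.injective R (FractionRing R) hst)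
  obtain ⟨j, hj⟩ : ∃ j : FractionRing S →+* FractionRing R,
      ∀ s : S, j (algebraMap S (FractionRing S) s) = g s :=
    ⟨IsFractionRing.lift hg, fun s => IsFractionRing.lift_algebraMap hg s⟩
  have hint : IsIntegral R (j x) := by
    refine IsIntegral.map_of_comp_eq S.val.toRingHom j ?_ hx
    ext s
    rw [RingHom.comp_apply, RingHom.comp_apply, hj, hgapp]
    rfl
  obtain ⟨r, hr⟩ := IsIntegrallyClosed.isIntegral_iff.mp hint
  obtain ⟨a, b, hb, hab⟩ := IsFractionRing.div_surjective (A := S) x
  have hb0 : (b : R) ≠ 0 := fun h0 => nonZeroDivisors.ne_zero hb (Subtype.ext h0)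
  have hrel : r * (b : R) = (a : R) := by
    apply IsFractionRing.injective R (FractionRing R)
    have h1 : j x = g a / g b := by
      rw [← hab, map_div₀, hj, hj]
    rw [map_mul, hr, h1, hgapp, hgapp]
    have hgb : algebraMap R (FractionRing R) (b : R) ≠ 0 := by
      intro h0
      apply hb0
      apply IsFractionRing.injective R (FractionRing R)
      rw [h0, map_zero]
    exact div_mul_cancel₀ _ hgb
  have hinj : Function.Injective ((LinearMap.mulLeft k (b : R)).rTensor A) := by
    apply Module.Flat.rTensor_preserves_injective_linearMap
    intro y z hyz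
    rw [LinearMap.mulLeft_apply, LinearMap.mulLeft_apply] at hyz
    exact mul_left_cancel₀ hb0 hyz
  have hmulb : ∀ z : R ⊗[k] A,
      ((b : R) ⊗ₜ[k] (1 : A)) * z = (LinearMap.mulLeft k (b : R)).rTensor A z := by
    intro z
    induction z using TensorProduct.induction_on with
    | zero => rw [mul_zero, map_zero]
    | tmul r' a' =>
      rw [Algebra.TensorProduct.tmul_mul_tmul, one_mul, LinearMap.rTensor_tmul,
        LinearMap.mulLeft_apply]
    | add z w hz hw => rw [mul_add, map_add, hz, hw]
  have hrS : r ∈ S := by
    rw [hmem]
    apply hinj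
    rw [← hmulb, ← hmulb, Algebra.TensorProduct.tmul_mul_tmul, one_mul, ← (hmem b).mp b.2,
      ← GLin.IsCoactAlg.coact_mul (k := k) (A := A), mul_comm (b : R) r, hrel]
    exact (hmem a).mp a.2
  refine ⟨⟨r, hrS⟩, ?_⟩
  apply j.injective
  rw [hj, hgapp]
  exact hr

end Groth.Agent.S13124
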