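import Groth.Statements.S13125
import Mathlib

set_option autoImplicit false
universe u v
open KumFam

namespace Groth.Agent.S13125

/-- Let A be a commutative ring graded by an additive monoid ι (an abelian group in the published
statement) through additive subgroups 𝒜 i, and I an ideal of A. Then I is a homogeneous ideal if and
only if A/I carries a structure of ι-graded ring ℬ for which the quotient map sends 𝒜 i into ℬ i for
all i. -/
theorem result (ι : Type u) [DecidableEq ι] [AddMonoid ι]
    (A : Type v) [CommRing A] (𝒜 : ι → AddSubgroup A) [GradedRing 𝒜] (I : Ideal A) :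
    I.IsHomogeneous 𝒜 ↔
      ∃ ℬ : ι → AddSubgroup (A ⧸ I), Nonempty (GradedRing ℬ) ∧
        ∀ i : ι, (𝒜 i).map (Ideal.Quotient.mk I : A →+ A ⧸ I) ≤ ℬ i := by
  classical
  let π : A →+* A ⧸ I := Ideal.Quotient.mk I
  constructor
  · intro hI
    let ℬ : ι → AddSubgroup (A ⧸ I) := fun i => (𝒜 i).map (π : A →+ A ⧸ I)
    -- componentwise maps
    let φ : ∀ i, 𝒜 i →+ ℬ i := fun i =>
      { toFun := fun x => ⟨π x, ⟨x, x.2, rfl⟩⟩
        map_zero' := by ext; simp
        map_add' := by intro x y; ext; simp }
    have hφ : ∀ i, Function.Surjective (φ i) := by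
      rintro i ⟨y, x, hx, rfl⟩
      exact ⟨⟨x, hx⟩, rfl⟩
    let Φ : (DirectSum ι fun i => 𝒜 i) →+ (DirectSum ι fun i => ℬ i) := DirectSum.map φ
    have hΦ : Function.Surjective Φ := (DirectSum.map_surjective φ).mpr hφ
    have hcomm : ∀ w, DirectSum.coeAddMonoidHom ℬ (Φ w) = π (DirectSum.coeAddMonoidHom 𝒜 w) := by
      intro w
      have : (DirectSum.coeAddMonoidHom ℬ).comp Φ =
          (π : A →+ A ⧸ I).comp (DirectSum.coeAddMonoidHom 𝒜) := by
        apply DirectSum.addHom_ext
        intro i x
        simp [Φ, φ]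
      exact DFunLike.congr_fun this w
    have hint : DirectSum.IsInternal ℬ := by
      constructor
      · -- injective
        rw [injective_iff_map_eq_zero]
        intro z hz
        obtain ⟨w, rfl⟩ := hΦ z
        rw [hcomm] at hz
        have hx : DirectSum.coeAddMonoidHom 𝒜 w ∈ I := Ideal.Quotient.eq_zero_iff_mem.mp hz
        ext i
        have h1 := hI i hx
        have h2 : DirectSum.decompose 𝒜 (DirectSum.coeAddMonoidHom 𝒜 w) = w :=
          (DirectSum.decompose 𝒜).right_inv w
        rw [h2] at h1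
        have h3 : π (w i : A) = 0 := Ideal.Quotient.eq_zero_iff_mem.mpr h1
        simp [Φ, φ, h3]
      · intro y
        obtain ⟨x, rfl⟩ := Ideal.Quotient.mk_surjective y
        refine ⟨Φ (DirectSum.decompose 𝒜 x), ?_⟩
        rw [hcomm]
        congr 1
        exact (DirectSum.decompose 𝒜).left_inv x
    refine ⟨ℬ, ⟨?_⟩, fun i => le_rfl⟩
    letI : DirectSum.Decomposition ℬ := hint.chooseDecomposition
    exact
      { one_mem := ⟨1, SetLike.GradedOne.one_mem, map_one π⟩
        mul_mem := by
          rintro i j _ _ ⟨a, ha, rfl⟩ ⟨b, hb, rfl⟩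
          exact ⟨a * b, SetLike.GradedMul.mul_mem ha hb, map_mul π a b⟩ }
  · rintro ⟨ℬ, ⟨hℬ⟩, hle⟩
    intro i r hr
    have hπr : π r = 0 := Ideal.Quotient.eq_zero_iff_mem.mpr hr
    have hmem : ∀ j, π (DirectSum.decompose 𝒜 r j : A) ∈ ℬ j := fun j =>
      hle j ⟨_, (DirectSum.decompose 𝒜 r j).2, rfl⟩
    have hsum : r = ∑ j ∈ (DirectSum.decompose 𝒜 r).support, (DirectSum.decompose 𝒜 r j : A) :=
      (DirectSum.sum_support_decompose 𝒜 r).symm
    have h1 : DirectSum.decompose ℬ (π r) =
        ∑ j ∈ (DirectSum.decompose 𝒜 r).support,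
          DirectSum.of (fun j => ℬ j) j ⟨π (DirectSum.decompose 𝒜 r j : A), hmem j⟩ := by
      conv_lhs => rw [hsum]
      rw [map_sum, DirectSum.decompose_sum]
      refine Finset.sum_congr rfl fun j _ => ?_
      exact DirectSum.decompose_of_mem ℬ (hmem j)
    rw [hπr, DirectSum.decompose_zero] at h1
    have h2 := congrArg (fun z => (z i : A ⧸ I)) h1
    simp only [DirectSum.zero_apply, ZeroMemClass.coe_zero] at h2
    rw [DFinsupp.finsetSum_apply] at h2
    by_cases hi : i ∈ (DirectSum.decompose 𝒜 r).support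
    · rw [AddSubmonoidClass.coe_finsetSum, Finset.sum_eq_single i] at h2
      · rw [DirectSum.of_eq_same] at h2
        exact Ideal.Quotient.eq_zero_iff_mem.mp h2.symm
      · intro j _ hji
        rw [DirectSum.of_eq_of_ne _ _ _ hji.symm]
        rfl
      · intro hni
        exact absurd hi hni
    · have : DirectSum.decompose 𝒜 r i = 0 := by
        simpa [DFinsupp.mem_support_iff] using hi
      rw [this]
      exact I.zero_mem

end Groth.Agent.S13125
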