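import Groth.Statements.S13126
import Mathlib.Tactic
import Mathlib.LinearAlgebra.Vandermonde
import Mathlib.LinearAlgebra.Matrix.NonsingularInverse
import Mathlib.Algebra.Polynomial.Div
import Mathlib.RingTheory.Polynomial.Basic

set_option autoImplicit false
universe u
open KumFam

namespace Groth.Agent.S13126

open Polynomial in
/-- Let R be a commutative ring, n a natural number which is a unit in R, and ζ ∈ R with ζ^n = 1 and 1 −
ζ^i a unit for 0 < i < n (a primitive n-th root of unity in the fibrewise sense: the powers ζ^0, …,
ζ^(n−1) are roots of X^n − 1 with pairwise unit differences; over an integral domain in which n is a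
unit this is the same as ζ having multiplicative order n). Then the R-algebra homomorphism R[X] →
(Fin n → R) sending a polynomial to its values at ζ^0, …, ζ^(n−1) is surjective and its kernel is
the ideal generated by X^n − 1; hence R[X]/(X^n − 1) ≅ R^n as R-algebras, i.e. the scheme of n-th
roots of unity over Spec R is the disjoint union of n copies of Spec R. (The published statement
asks that R contain a primitive n-th root of unity without defining the term; its Chinese-remainder
argument uses that the ideals (X − ζ^i), i < n, are pairwise comaximal, which is the unit-difference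
condition taken as the hypothesis here, whereas under the reading 'ζ has multiplicative order n'
alone the surjectivity fails over a product of two fields. The published statement also asserts that
the isomorphism respects the group-scheme structures of the n-th roots of unity and of the constant
group ℤ/n; this row does not state that.) -/
theorem result (R : Type u) [CommRing R]
    (n : ℕ) (hn : IsUnit (n : R)) (ζ : R) (hζ : ζ ^ n = 1)
    (hprim : ∀ i : ℕ, 0 < i → i < n → IsUnit (1 - ζ ^ i)) :
    Function.Surjective (AlgHom.pi (fun i : Fin n => Polynomial.aeval (R := R) (ζ ^ (i : ℕ)))) ∧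
      RingHom.ker (AlgHom.pi (fun i : Fin n => Polynomial.aeval (R := R) (ζ ^ (i : ℕ)))) =
        Ideal.span {(X ^ n - 1 : R[X])} := by
  classical
  rcases subsingleton_or_nontrivial R with hsub | hnt
  · have hsubP : Subsingleton R[X] := inferInstance
    refine ⟨fun c => ⟨0, Subsingleton.elim _ _⟩, ?_⟩
    ext p
    have hp : p = 0 := Subsingleton.elim _ _
    subst hp
    simp
  have hnpos : 0 < n := by
    rcases Nat.eq_zero_or_pos n with hn0 | hnpos
    · subst hn0
      have h0 : IsUnit (0 : R) := by simpa using hn
      exact absurd (isUnit_zero_iff.mp h0) zero_ne_one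
    · exact hnpos
  set v : Fin n → R := fun i => ζ ^ (i : ℕ) with hv
  have hζu : IsUnit ζ := by
    refine IsUnit.of_mul_eq_one (ζ ^ (n - 1)) ?_
    rw [← pow_succ', Nat.sub_add_cancel hnpos, hζ]
  have hdiff : ∀ i j : Fin n, i < j → IsUnit (v j - v i) := by
    intro i j hij
    have hlt : (i : ℕ) < (j : ℕ) := hij
    have h1 : v j - v i = -(ζ ^ (i : ℕ) * (1 - ζ ^ ((j : ℕ) - (i : ℕ)))) := by
      simp only [hv]
      have : (j : ℕ) = (i : ℕ) + ((j : ℕ) - (i : ℕ)) := by omega
      conv_lhs => rw [this, pow_add]
      ring
    rw [h1]
    exact ((hζu.pow _).mul (hprim _ (by omega) (by omega))).neg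
  have hdet : IsUnit (Matrix.vandermonde v).det := by
    rw [Matrix.det_vandermonde]
    refine Finset.prod_induction _ IsUnit (fun a b => IsUnit.mul) isUnit_one ?_
    intro i _
    refine Finset.prod_induction _ IsUnit (fun a b => IsUnit.mul) isUnit_one ?_
    intro j hj
    exact hdiff i j (Finset.mem_Ioi.mp hj)
  -- evaluation of a polynomial with coefficient vector `a`
  have heval : ∀ (a : Fin n → R) (i : Fin n),
      Polynomial.aeval (v i) (∑ j : Fin n, C (a j) * X ^ (j : ℕ)) = (Matrix.vandermonde v).mulVec a i := by
    intro a i
    simp only [map_sum, map_mul, Polynomial.aeval_C, Polynomial.aeval_X, map_pow, Matrix.mulVec,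
      dotProduct, Matrix.vandermonde_apply, Algebra.algebraMap_self, RingHom.id_apply]
    apply Finset.sum_congr rfl
    intro j _
    ring
  constructor
  · intro c
    refine ⟨∑ j : Fin n, C (((Matrix.vandermonde v)⁻¹).mulVec c j) * X ^ (j : ℕ), ?_⟩
    funext i
    simp only [AlgHom.pi_apply]
    rw [heval, Matrix.mulVec_mulVec, Matrix.mul_nonsing_inv _ hdet, Matrix.one_mulVec]
  · have hmonic : (X ^ n - 1 : R[X]).Monic := by
      have := Polynomial.monic_X_pow_sub_C (1 : R) hnpos.ne'
      simpa using this
    apply le_antisymm
    · intro p hp
      rw [RingHom.mem_ker] at hp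
      have hpi : ∀ i : Fin n, Polynomial.aeval (v i) p = 0 := fun i => by
        have := congrFun hp i
        simpa using this
      set r := p %ₘ (X ^ n - 1 : R[X]) with hr
      have hdecomp : r + (X ^ n - 1 : R[X]) * (p /ₘ (X ^ n - 1 : R[X])) = p :=
        Polynomial.modByMonic_add_div p _
      have hXn : ∀ i : Fin n, Polynomial.aeval (v i) (X ^ n - 1 : R[X]) = 0 := by
        intro i
        simp only [map_sub, map_pow, Polynomial.aeval_X, map_one, hv]
        rw [← pow_mul, mul_comm, pow_mul, hζ, one_pow, sub_self]
      have hri : ∀ i : Fin n, Polynomial.aeval (v i) r = 0 := by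
        intro i
        have := hpi i
        rw [← hdecomp, map_add, map_mul, hXn, zero_mul, add_zero] at this
        exact this
      have hdeg : r.natDegree < n := by
        have h1 : r.degree < (X ^ n - 1 : R[X]).degree := Polynomial.degree_modByMonic_lt p hmonic
        have h2 : (X ^ n - 1 : R[X]).degree = n := by
          have := Polynomial.degree_X_pow_sub_C hnpos (1 : R)
          simpa using this
        rw [h2] at h1
        by_cases hr0 : r = 0
        · rw [hr0]; simpa using hnpos
        · exact (Polynomial.natDegree_lt_iff_degree_lt hr0).mpr h1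
      have hrsum : r = ∑ j : Fin n, C (r.coeff j) * X ^ (j : ℕ) := by
        conv_lhs => rw [Polynomial.as_sum_range' r n hdeg]
        rw [← Fin.sum_univ_eq_sum_range (fun j => Polynomial.monomial j (r.coeff j)) n]
        apply Finset.sum_congr rfl
        intro j _
        rw [Polynomial.C_mul_X_pow_eq_monomial]
      have hvec : (Matrix.vandermonde v).mulVec (fun j : Fin n => r.coeff j) = 0 := by
        funext i
        rw [← heval, ← hrsum, hri]; rfl
      have hcoeff : (fun j : Fin n => r.coeff j) = 0 := by
        have := congrArg ((Matrix.vandermonde v)⁻¹).mulVec hvec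
        rwa [Matrix.mulVec_mulVec, Matrix.nonsing_inv_mul _ hdet, Matrix.one_mulVec,
          Matrix.mulVec_zero] at this
      have hr0 : r = 0 := by
        rw [hrsum]
        apply Finset.sum_eq_zero
        intro j _
        have := congrFun hcoeff j
        simp only [Pi.zero_apply] at this
        rw [this, map_zero, zero_mul]
      rw [Ideal.mem_span_singleton]
      exact ⟨p /ₘ (X ^ n - 1 : R[X]), hdecomp.symm.trans (by rw [hr0, zero_add])⟩
    · rw [Ideal.span_le]
      intro p hp
      rw [Set.mem_singleton_iff] at hp
      subst hp
      rw [SetLike.mem_coe, RingHom.mem_ker]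
      funext i
      simp only [AlgHom.pi_apply, Pi.zero_apply, map_sub, map_pow, Polynomial.aeval_X, map_one]
      rw [← pow_mul, mul_comm, pow_mul, hζ, one_pow, sub_self]

end Groth.Agent.S13126
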