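import Groth.Statements.S13127
import Mathlib.Algebra.CharP.Two
import Groth.Agent.H2.IFT
import Groth.Agent.H2.CubeRoot

set_option autoImplicit false
universe u
open KumFam

namespace Groth.Agent.S13127

open MvPowerSeries in
/-- Let R be a commutative ring of characteristic 2 and l0, l2, l4, s0, s2, s4, τ, lam, sig ∈ R with l4,
s4, lam, sig units, and let κ₁, κ₂ ∈ R satisfy s4² κ₁³ = sig² and l4² κ₂³ = lam² (cube roots of
sig²/s4² and lam²/l4²). In the power series ring R[[a, b, c]] (a = X 0, b = X 1, c = X 2) put F = c²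
+ s0² a³ b⁴ + s2² a³ b² + s4² a³ + l0² a⁴ b³ + l2² a² b³ + l4² b³ + τ² a³ b³ and F₀ = c² + sig² a³ +
lam² b³. Then some R-algebra automorphism of R[[a, b, c]] maps F to F₀; consequently R[[a, b,
c]]/(F) ≅ R[[a, b, c]]/(F₀). (In the published statement lam, sig are the representatives in the
ground field of the residues of l4, s4 at a rational point, so that F₀ is the equation of the
special fibre made constant; this row takes them to be arbitrary units.) -/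
theorem result (R : Type u) [CommRing R] [CharP R 2]
    (l0 l2 l4 s0 s2 s4 τ lam sig κ₁ κ₂ : R) (hl4 : IsUnit l4) (hs4 : IsUnit s4) (hlam : IsUnit lam)
    (hsig : IsUnit sig) (h₁ : s4 ^ 2 * κ₁ ^ 3 = sig ^ 2) (h₂ : l4 ^ 2 * κ₂ ^ 3 = lam ^ 2) :
    ∃ φ : MvPowerSeries (Fin 3) R ≃ₐ[R] MvPowerSeries (Fin 3) R,
      φ ((X 2 ^ 2 + C (s0 ^ 2) * X 0 ^ 3 * X 1 ^ 4 + C (s2 ^ 2) * X 0 ^ 3 * X 1 ^ 2 +
          C (s4 ^ 2) * X 0 ^ 3 + C (l0 ^ 2) * X 0 ^ 4 * X 1 ^ 3 + C (l2 ^ 2) * X 0 ^ 2 * X 1 ^ 3 +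
          C (l4 ^ 2) * X 1 ^ 3 + C (τ ^ 2) * X 0 ^ 3 * X 1 ^ 3 : MvPowerSeries (Fin 3) R)) =
        (X 2 ^ 2 + C (sig ^ 2) * X 0 ^ 3 + C (lam ^ 2) * X 1 ^ 3 : MvPowerSeries (Fin 3) R) := by
  classical
  obtain ⟨l4i, hl4i⟩ := hl4.exists_right_inv
  obtain ⟨s4i, hs4i⟩ := hs4.exists_right_inv
  obtain ⟨lami, hlami⟩ := hlam.exists_right_inv
  obtain ⟨sigi, hsigi⟩ := hsig.exists_right_inv
  have h2 : (2:R) = 0 := CharTwo.two_eq_zero
  have h3 : IsUnit (3:R) := by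
    have : (3:R) = 1 := by linear_combination h2
    rw [this]; exact isUnit_one
  obtain ⟨k1i, hk1⟩ : ∃ k1i : R, κ₁ * k1i = 1 := ⟨κ₁ ^ 2 * s4 ^ 2 * sigi ^ 2, by
    linear_combination (sigi ^ 2) * h₁ + (sig * sigi + 1) * hsigi⟩
  obtain ⟨k2i, hk2⟩ : ∃ k2i : R, κ₂ * k2i = 1 := ⟨κ₂ ^ 2 * l4 ^ 2 * lami ^ 2, by
    linear_combination (lami ^ 2) * h₂ + (lam * lami + 1) * hlami⟩
  have r1 : sig ^ 2 * k1i ^ 3 = s4 ^ 2 := by
    linear_combination (-(k1i ^ 3)) * h₁ + (s4 ^ 2 * ((κ₁ * k1i) ^ 2 + κ₁ * k1i + 1)) * hk1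
  have r3 : lam ^ 2 * k2i ^ 3 = l4 ^ 2 := by
    linear_combination (-(k2i ^ 3)) * h₂ + (l4 ^ 2 * ((κ₂ * k2i) ^ 2 + κ₂ * k2i + 1)) * hk2
  have R1 : (C sig : MvPowerSeries (Fin 3) R) ^ 2 * C k1i ^ 3 = C s4 ^ 2 := by
    simp only [← map_pow, ← map_mul, r1]
  have R3 : (C lam : MvPowerSeries (Fin 3) R) ^ 2 * C k2i ^ 3 = C l4 ^ 2 := by
    simp only [← map_pow, ← map_mul, r3]
  have R2 : (C s4 : MvPowerSeries (Fin 3) R) * C s4i = 1 := by rw [← map_mul, hs4i, map_one]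
  have R4 : (C l4 : MvPowerSeries (Fin 3) R) * C l4i = 1 := by rw [← map_mul, hl4i, map_one]
  have K1 : (C κ₁ : MvPowerSeries (Fin 3) R) * C k1i = 1 := by rw [← map_mul, hk1, map_one]
  have K2 : (C κ₂ : MvPowerSeries (Fin 3) R) * C k2i = 1 := by rw [← map_mul, hk2, map_one]
  -- cube roots
  obtain ⟨ρ₁, hρ₁, hρ₁c⟩ := Groth.Agent.H2.CubeRoot.exists_cube_root h3
    (C s4i ^ 2 * (C s2 ^ 2 * X 1 ^ 2 + C s0 ^ 2 * X 1 ^ 4 + C τ ^ 2 * X 1 ^ 3) :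
      MvPowerSeries (Fin 3) R) (by simp)
  obtain ⟨ρ₂, hρ₂, hρ₂c⟩ := Groth.Agent.H2.CubeRoot.exists_cube_root h3
    (C l4i ^ 2 * (C l2 ^ 2 * X 0 ^ 2 + C l0 ^ 2 * X 0 ^ 4) :
      MvPowerSeries (Fin 3) R) (by simp)
  -- the linear part
  obtain ⟨av, hav⟩ : ∃ av : Fin 3 → MvPowerSeries (Fin 3) R, av =
      ![C k1i * X 0, C k2i * X 1, X 2] := ⟨_, rfl⟩
  obtain ⟨bv, hbv⟩ : ∃ bv : Fin 3 → MvPowerSeries (Fin 3) R, bv =
      ![C κ₁ * X 0, C κ₂ * X 1, X 2] := ⟨_, rfl⟩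
  have av0 : av 0 = C k1i * X 0 := by rw [hav]; rfl
  have av1 : av 1 = C k2i * X 1 := by rw [hav]; rfl
  have av2 : av 2 = X 2 := by rw [hav]; rfl
  have bv0 : bv 0 = C κ₁ * X 0 := by rw [hbv]; rfl
  have bv1 : bv 1 = C κ₂ * X 1 := by rw [hbv]; rfl
  have bv2 : bv 2 = X 2 := by rw [hbv]; rfl
  have hsa : HasSubst av :=
    hasSubst_of_constantCoeff_zero fun s => by fin_cases s <;> simp [hav]
  have hsb : HasSubst bv :=
    hasSubst_of_constantCoeff_zero fun s => by fin_cases s <;> simp [hbv]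
  have hab : ∀ s : Fin 3, subst bv (av s) = X s := by
    intro s
    fin_cases s
    · show subst bv (av 0) = X 0
      rw [av0]
      simp only [subst_mul hsb, subst_X hsb, subst_C, bv0]
      linear_combination (X 0) * K1
    · show subst bv (av 1) = X 1
      rw [av1]
      simp only [subst_mul hsb, subst_X hsb, subst_C, bv1]
      linear_combination (X 1) * K2
    · show subst bv (av 2) = X 2
      rw [av2, subst_X hsb, bv2]
  have hba : ∀ s : Fin 3, subst av (bv s) = X s := by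
    intro s
    fin_cases s
    · show subst av (bv 0) = X 0
      rw [bv0]
      simp only [subst_mul hsa, subst_X hsa, subst_C, av0]
      linear_combination (X 0) * K1
    · show subst av (bv 1) = X 1
      rw [bv1]
      simp only [subst_mul hsa, subst_X hsa, subst_C, av1]
      linear_combination (X 1) * K2
    · show subst av (bv 2) = X 2
      rw [bv2, subst_X hsa, av2]
  obtain ⟨Λ, hΛ, -⟩ := Groth.Agent.H2.IFT.exists_algEquiv_of_inverse av bv hsa hsb hab hba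
  -- the nonlinear part
  obtain ⟨gv, hgv⟩ : ∃ gv : Fin 3 → MvPowerSeries (Fin 3) R, gv =
      ![X 0 * ρ₁, X 1 * ρ₂, X 2] := ⟨_, rfl⟩
  have gv0 : gv 0 = X 0 * ρ₁ := by rw [hgv]; rfl
  have gv1 : gv 1 = X 1 * ρ₂ := by rw [hgv]; rfl
  have gv2 : gv 2 = X 2 := by rw [hgv]; rfl
  have hX : ∀ i : Fin 3, constantCoeff (X i : MvPowerSeries (Fin 3) R) = 0 :=
    fun i => constantCoeff_X i
  have hgord : ∀ s : Fin 3, (2:ℕ∞) ≤ (gv s - X s).order := by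
    intro s
    fin_cases s
    · show (2:ℕ∞) ≤ (gv 0 - X 0).order
      have : gv 0 - X 0 = X 0 * (ρ₁ - 1) := by rw [gv0]; ring
      rw [this]
      exact Groth.Agent.H2.IFT.two_le_order_mul (hX 0) (by rw [map_sub, hρ₁c, map_one, sub_self])
    · show (2:ℕ∞) ≤ (gv 1 - X 1).order
      have : gv 1 - X 1 = X 1 * (ρ₂ - 1) := by rw [gv1]; ring
      rw [this]
      exact Groth.Agent.H2.IFT.two_le_order_mul (hX 1) (by rw [map_sub, hρ₂c, map_one, sub_self])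
    · show (2:ℕ∞) ≤ (gv 2 - X 2).order
      rw [gv2, sub_self, order_zero]
      exact le_top
  obtain ⟨Ψ, hΨ, -⟩ := Groth.Agent.H2.IFT.exists_algEquiv gv hgord
  have hC : ∀ r : R, Ψ (C r) = C r := Groth.Agent.H2.IFT.algEquiv_C Ψ
  have hCΛ : ∀ r : R, Λ (C r) = C r := Groth.Agent.H2.IFT.algEquiv_C Λ
  refine ⟨(Λ.trans Ψ).symm, ?_⟩
  rw [AlgEquiv.symm_apply_eq, AlgEquiv.trans_apply]
  simp only [map_add, map_mul, map_pow, hΛ, hCΛ, av0, av1, av2, hΨ, hC, gv0, gv1, gv2]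
  linear_combination (-(C sig ^ 2 * C k1i ^ 3 * X 0 ^ 3)) * hρ₁
    + (-(X 0 ^ 3 * (1 + C s4i ^ 2 * (C s2 ^ 2 * X 1 ^ 2 + C s0 ^ 2 * X 1 ^ 4 + C τ ^ 2 * X 1 ^ 3)))) * R1
    + (-(X 0 ^ 3 * (C s2 ^ 2 * X 1 ^ 2 + C s0 ^ 2 * X 1 ^ 4 + C τ ^ 2 * X 1 ^ 3) * (C s4 * C s4i + 1))) * R2
    + (-(C lam ^ 2 * C k2i ^ 3 * X 1 ^ 3)) * hρ₂
    + (-(X 1 ^ 3 * (1 + C l4i ^ 2 * (C l2 ^ 2 * X 0 ^ 2 + C l0 ^ 2 * X 0 ^ 4)))) * R3
    + (-(X 1 ^ 3 * (C l2 ^ 2 * X 0 ^ 2 + C l0 ^ 2 * X 0 ^ 4) * (C l4 * C l4i + 1))) * R4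

end Groth.Agent.S13127
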