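import Groth.Statements.S13128
import Mathlib.Algebra.CharP.Two
import Groth.Agent.H2.IFT
import Groth.Agent.H2.KumNormal

set_option autoImplicit false
universe u
open KumFam

namespace Groth.Agent.S13128

open MvPowerSeries in
/-- Let R be a commutative ring of characteristic 2, l0, l2, l4, s0, s2, s4, τ ∈ R with τ a unit, and α,
β ∈ R with l4² α⁴ + l2² α² + τ² α + l0² = 0 and s4² β⁴ + s2² β² + τ² β + s0² = 0. In characteristic
2 these relations give τ² α = (l4 α² + l2 α + l0)² and τ² β = (s4 β² + s2 β + s0)², so α = α′² and β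
= β′² with α′ = (l4 α² + l2 α + l0)/τ and β′ = (s4 β² + s2 β + s0)/τ. In R[[a, b, c]] (a = X 0, b =
X 1, c = X 2) put h = c² + τ² a b + (s4² b⁴ + s2² b²) a + (l4² a⁴ + l2² a²) b + l4² β a⁴ + l2² β a²
+ s4² α b⁴ + s2² α b²; this is the chart equation c² + τ² a b + (s4² b⁴ + s2² b² + s0²) a + (l4² a⁴
+ l2² a² + l0²) b after the substitution a ↦ a + α, b ↦ b + β, c ↦ c + τ α′ β′, which moves the
point (α, β, τ α′ β′) of that surface, where all partial derivatives vanish, to the origin. Then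
some R-algebra automorphism of R[[a, b, c]] maps h to c² + a b; consequently R[[a, b, c]]/(h) ≅
R[[a, b, c]]/(c² + a b), the completed local ring of an ordinary double point, constant over R. (The
published statement translates only a and b, so that its h carries the additional constant term τ² α
β; with that term h is a unit of R[[a, b, c]] whenever τ α β is a unit, for instance c² + a b + 1
over the field with two elements with l0 = s0 = τ = α = β = 1 and l2 = l4 = s2 = s4 = 0, and no ring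
automorphism carries a unit to c² + a b. The published proof begins by shifting c by a polynomial in
a, b whose constant term is τ α′ β′, a substitution of the polynomial ring which removes the term τ²
α β, and the rest of its argument takes place in R[[a, b, c]]; this row states the result for the
fully translated equation, which is what that argument proves.) -/
theorem result (R : Type u) [CommRing R] [CharP R 2]
    (l0 l2 l4 s0 s2 s4 τ α β : R) (hτ : IsUnit τ)
    (hα : l4 ^ 2 * α ^ 4 + l2 ^ 2 * α ^ 2 + τ ^ 2 * α + l0 ^ 2 = 0)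
    (hβ : s4 ^ 2 * β ^ 4 + s2 ^ 2 * β ^ 2 + τ ^ 2 * β + s0 ^ 2 = 0) :
    ∃ φ : MvPowerSeries (Fin 3) R ≃ₐ[R] MvPowerSeries (Fin 3) R,
      φ ((X 2 ^ 2 + C (τ ^ 2) * X 0 * X 1 + (C (s4 ^ 2) * X 1 ^ 4 + C (s2 ^ 2) * X 1 ^ 2) * X 0 +
          (C (l4 ^ 2) * X 0 ^ 4 + C (l2 ^ 2) * X 0 ^ 2) * X 1 + C (l4 ^ 2 * β) * X 0 ^ 4 +
          C (l2 ^ 2 * β) * X 0 ^ 2 + C (s4 ^ 2 * α) * X 1 ^ 4 + C (s2 ^ 2 * α) * X 1 ^ 2 :
          MvPowerSeries (Fin 3) R)) =
        (X 2 ^ 2 + X 0 * X 1 : MvPowerSeries (Fin 3) R) := by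
  classical
  obtain ⟨ti, hti⟩ := hτ.exists_right_inv
  have h2 : (2:R) = 0 := CharTwo.two_eq_zero
  obtain ⟨a', ha'⟩ : ∃ a' : R, a' ^ 2 = α := ⟨(l4 * α ^ 2 + l2 * α + l0) * ti, by
    linear_combination (ti^2) * hα + (-ti*α*τ - α) * hti
      + (l0*l2*ti^2*α + l0*l4*ti^2*α^2 + l2*l4*ti^2*α^3 - α) * h2⟩
  obtain ⟨b', hb'⟩ : ∃ b' : R, b' ^ 2 = β := ⟨(s4 * β ^ 2 + s2 * β + s0) * ti, by
    linear_combination (ti^2) * hβ + (-ti*β*τ - β) * hti
      + (s0*s2*ti^2*β + s0*s4*ti^2*β^2 + s2*s4*ti^2*β^3 - β) * h2⟩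
  have h2C : (2 : MvPowerSeries (Fin 3) R) = 0 := by
    have : (2 : MvPowerSeries (Fin 3) R) = C (2:R) := (map_ofNat C 2).symm
    rw [this, h2, map_zero]
  have hTC : (C τ : MvPowerSeries (Fin 3) R) * C ti = 1 := by
    rw [← map_mul, hti, map_one]
  have hAC : (C a' : MvPowerSeries (Fin 3) R) ^ 2 = C α := by rw [← map_pow, ha']
  have hBC : (C b' : MvPowerSeries (Fin 3) R) ^ 2 = C β := by rw [← map_pow, hb']
  -- the linear part
  obtain ⟨av, hav⟩ : ∃ av : Fin 3 → MvPowerSeries (Fin 3) R, av =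
      ![C τ * X 0, C τ * X 1, X 2 + C l2 * C b' * X 0 + C s2 * C a' * X 1] := ⟨_, rfl⟩
  obtain ⟨bv, hbv⟩ : ∃ bv : Fin 3 → MvPowerSeries (Fin 3) R, bv =
      ![C ti * X 0, C ti * X 1,
        X 2 - C l2 * C b' * (C ti * X 0) - C s2 * C a' * (C ti * X 1)] := ⟨_, rfl⟩
  have av0 : av 0 = C τ * X 0 := by rw [hav]; rfl
  have av1 : av 1 = C τ * X 1 := by rw [hav]; rfl
  have av2 : av 2 = X 2 + C l2 * C b' * X 0 + C s2 * C a' * X 1 := by rw [hav]; rfl
  have bv0 : bv 0 = C ti * X 0 := by rw [hbv]; rfl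
  have bv1 : bv 1 = C ti * X 1 := by rw [hbv]; rfl
  have bv2 : bv 2 = X 2 - C l2 * C b' * (C ti * X 0) - C s2 * C a' * (C ti * X 1) := by
    rw [hbv]; rfl
  have hsa : HasSubst av :=
    hasSubst_of_constantCoeff_zero fun s => by fin_cases s <;> simp [hav]
  have hsb : HasSubst bv :=
    hasSubst_of_constantCoeff_zero fun s => by fin_cases s <;> simp [hbv]
  have hab : ∀ s : Fin 3, subst bv (av s) = X s := by
    intro s
    fin_cases s
    · show subst bv (av 0) = X 0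
      rw [av0]
      simp only [subst_mul hsb, subst_X hsb, subst_C, bv0]
      linear_combination (X 0) * hTC
    · show subst bv (av 1) = X 1
      rw [av1]
      simp only [subst_mul hsb, subst_X hsb, subst_C, bv1]
      linear_combination (X 1) * hTC
    · show subst bv (av 2) = X 2
      rw [av2]
      simp only [subst_add hsb, subst_mul hsb, subst_X hsb, subst_C, bv0, bv1, bv2]
      ring
  have hba : ∀ s : Fin 3, subst av (bv s) = X s := by
    intro s
    fin_cases s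
    · show subst av (bv 0) = X 0
      rw [bv0]
      simp only [subst_mul hsa, subst_X hsa, subst_C, av0]
      linear_combination (X 0) * hTC
    · show subst av (bv 1) = X 1
      rw [bv1]
      simp only [subst_mul hsa, subst_X hsa, subst_C, av1]
      linear_combination (X 1) * hTC
    · show subst av (bv 2) = X 2
      rw [bv2]
      simp only [subst_sub hsa, subst_mul hsa, subst_X hsa, subst_C, av0, av1, av2]
      linear_combination (-(C l2 * C b' * X 0) - C s2 * C a' * X 1) * hTC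
  obtain ⟨Λ, hΛ, -⟩ := Groth.Agent.H2.IFT.exists_algEquiv_of_inverse av bv hsa hsb hab hba
  -- the nonlinear part
  obtain ⟨P, hP⟩ : ∃ P : MvPowerSeries (Fin 3) R, P = C s4 * X 1 ^ 2 + C s2 * X 1 := ⟨_, rfl⟩
  obtain ⟨Q, hQ⟩ : ∃ Q : MvPowerSeries (Fin 3) R, Q = C l4 * X 0 ^ 2 + C l2 * X 0 := ⟨_, rfl⟩
  have hP0 : constantCoeff P = 0 := by simp [hP]
  have hQ0 : constantCoeff Q = 0 := by simp [hQ]
  obtain ⟨gv, hgv⟩ : ∃ gv : Fin 3 → MvPowerSeries (Fin 3) R, gv =
      ![X 0 + C ti ^ 2 * Q ^ 2, X 1 + C ti ^ 2 * P ^ 2,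
        X 2 + (C l4 * C b' * X 0 ^ 2 + C s4 * C a' * X 1 ^ 2 + C ti * P * Q
          - C l2 * C b' * C ti ^ 2 * Q ^ 2 - C s2 * C a' * C ti ^ 2 * P ^ 2)] := ⟨_, rfl⟩
  have gv0 : gv 0 = X 0 + C ti ^ 2 * Q ^ 2 := by rw [hgv]; rfl
  have gv1 : gv 1 = X 1 + C ti ^ 2 * P ^ 2 := by rw [hgv]; rfl
  have gv2 : gv 2 = X 2 + (C l4 * C b' * X 0 ^ 2 + C s4 * C a' * X 1 ^ 2 + C ti * P * Q
          - C l2 * C b' * C ti ^ 2 * Q ^ 2 - C s2 * C a' * C ti ^ 2 * P ^ 2) := by rw [hgv]; rfl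
  have hX : ∀ i : Fin 3, constantCoeff (X i : MvPowerSeries (Fin 3) R) = 0 :=
    fun i => constantCoeff_X i
  have hgord : ∀ s : Fin 3, (2:ℕ∞) ≤ (gv s - X s).order := by
    intro s
    fin_cases s
    · show (2:ℕ∞) ≤ (gv 0 - X 0).order
      rw [gv0, add_sub_cancel_left]
      exact Groth.Agent.H2.IFT.le_order_mul_left _ (Groth.Agent.H2.IFT.two_le_order_sq hQ0)
    · show (2:ℕ∞) ≤ (gv 1 - X 1).order
      rw [gv1, add_sub_cancel_left]
      exact Groth.Agent.H2.IFT.le_order_mul_left _ (Groth.Agent.H2.IFT.two_le_order_sq hP0)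
    · show (2:ℕ∞) ≤ (gv 2 - X 2).order
      rw [gv2, add_sub_cancel_left]
      refine Groth.Agent.H2.IFT.le_order_sub (Groth.Agent.H2.IFT.le_order_sub
        (Groth.Agent.H2.IFT.le_order_add (Groth.Agent.H2.IFT.le_order_add ?_ ?_) ?_) ?_) ?_
      · exact Groth.Agent.H2.IFT.le_order_mul_left _ (Groth.Agent.H2.IFT.two_le_order_sq (hX 0))
      · exact Groth.Agent.H2.IFT.le_order_mul_left _ (Groth.Agent.H2.IFT.two_le_order_sq (hX 1))
      · exact Groth.Agent.H2.IFT.two_le_order_mul (by simp [hP0]) hQ0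
      · exact Groth.Agent.H2.IFT.le_order_mul_left _ (Groth.Agent.H2.IFT.two_le_order_sq hQ0)
      · exact Groth.Agent.H2.IFT.le_order_mul_left _ (Groth.Agent.H2.IFT.two_le_order_sq hP0)
  obtain ⟨Ψ, hΨ, -⟩ := Groth.Agent.H2.IFT.exists_algEquiv gv hgord
  have hC : ∀ r : R, Ψ (C r) = C r := Groth.Agent.H2.IFT.algEquiv_C Ψ
  refine ⟨(Λ.trans Ψ).symm, ?_⟩
  rw [AlgEquiv.symm_apply_eq, AlgEquiv.trans_apply]
  simp only [map_add, map_mul, map_pow, hΛ, av0, av1, av2, hΨ, hC, gv0, gv1, gv2, hP, hQ]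
  have key := Groth.Agent.H2.KumNormal.fixedPoint_identity (C τ) (C ti) (C l2) (C l4) (C s2)
    (C s4) (C a') (C b') (C α) (C β) (X 0 : MvPowerSeries (Fin 3) R) (X 1) (X 2) h2C hTC hAC hBC
  linear_combination (-1 : MvPowerSeries (Fin 3) R) * key

end Groth.Agent.S13128
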