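import Groth.Statements.S13130
import Mathlib.Tactic
import Mathlib.RingTheory.IntegralClosure.IsIntegralClosure.Basic
import Mathlib.Algebra.MonoidAlgebra.Basic

set_option autoImplicit false
universe u v
open KumFam

namespace Groth.Agent.S13130

/-- Let R be a nontrivial commutative ring and M a commutative group, with group algebra R[M], the
coordinate ring of the diagonalizable group scheme D(M) over Spec R. Then D(M) is integral over Spec
R, i.e. R[M] is an integral R-algebra, if and only if M is a torsion group. (The published statement
is over an arbitrary base scheme; the question is local and this row is the affine form, with R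
nontrivial so that the elements of M are R-linearly independent.) -/
theorem result (R : Type u) [CommRing R] [Nontrivial R]
    (M : Type v) [CommGroup M] :
    Algebra.IsIntegral R (MonoidAlgebra R M) ↔ IsMulTorsion M := by
  classical
  constructor
  · intro h g
    by_contra hg
    have hinj := injective_pow_iff_not_isOfFinOrder.mpr hg
    obtain ⟨p, hp, hpe⟩ := h.isIntegral (MonoidAlgebra.of R M g)
    rw [Polynomial.eval₂_eq_sum_range] at hpe
    have hterm : ∀ i : ℕ, algebraMap R (MonoidAlgebra R M) (p.coeff i) * (MonoidAlgebra.of R M g) ^ i
        = MonoidAlgebra.single (g ^ i) (p.coeff i) := by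
      intro i
      rw [MonoidAlgebra.coe_algebraMap, MonoidAlgebra.of_apply, MonoidAlgebra.single_pow]
      simp [MonoidAlgebra.single_mul_single]
    simp_rw [hterm] at hpe
    have h2 := congrArg (fun f : MonoidAlgebra R M => f.coeff (g ^ p.natDegree)) hpe
    simp only [MonoidAlgebra.coeff_sum, Finsupp.finset_sum_apply, MonoidAlgebra.coeff_single,
      MonoidAlgebra.coeff_zero, Finsupp.zero_apply] at h2
    rw [Finset.sum_eq_single p.natDegree] at h2
    · simp only [Finsupp.single_apply, if_true] at h2
      rw [Polynomial.Monic.coeff_natDegree hp] at h2
      exact one_ne_zero h2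
    · intro i _ hi
      rw [Finsupp.single_apply, if_neg]
      intro heq
      exact hi (hinj heq)
    · intro hn
      simp at hn
  · intro h
    refine ⟨fun x => ?_⟩
    induction x using MonoidAlgebra.induction_on with
    | of g =>
      obtain ⟨n, hn, hgn⟩ := (h g).exists_pow_eq_one
      apply IsIntegral.of_pow hn
      rw [← map_pow, hgn, map_one]
      exact isIntegral_one
    | add f g hf hg => exact hf.add hg
    | smul r f hf => exact hf.smul r

end Groth.Agent.S13130
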