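import Groth.Statements.S13131

set_option autoImplicit false
universe u
open CategoryTheory CategoryTheory.Limits AlgebraicGeometry
open KumFam

namespace Groth.Agent.S13131

/-- Let S be a scheme, M a set and p : T → S a scheme over S. The S-morphisms T → ∐_{m ∈ M} S (the
constant S-scheme on M, with its structure map the codiagonal) are in bijection with the locally
constant maps T → M, a morphism f corresponding to the function sending t to the index of the copy
of S containing f(t). (In the published statement M is a group and ∐_M S the constant group scheme;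
the group structures play no role in this description of T-points.) -/
theorem result (S : Scheme.{u}) (M : Type u)
    (T : Scheme.{u}) (p : T ⟶ S) :
    ∃ e : {f : T ⟶ ∐ (fun _ : M => S) // f ≫ Sigma.desc (fun _ : M => 𝟙 S) = p} ≃
        LocallyConstant T M,
      ∀ (f : {f : T ⟶ ∐ (fun _ : M => S) // f ≫ Sigma.desc (fun _ : M => 𝟙 S) = p}) (t : T),
        e f t = ((sigmaMk (fun _ : M => S)).symm (f.1.base t)).1 := by
  classical
  let X : M → Scheme.{u} := fun _ => S
  let idx : (T ⟶ ∐ X) → T → M := fun f t => ((sigmaMk X).symm (f.base t)).1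
  have hidx : ∀ f, IsLocallyConstant (idx f) := fun f => by
    intro s
    have : idx f ⁻¹' s = (fun t => (sigmaMk X).symm (f.base t)) ⁻¹' (Sigma.fst ⁻¹' s) := rfl
    rw [this]
    exact (isOpen_sigma_fst_preimage s).preimage ((sigmaMk X).symm.continuous.comp f.continuous)
  have hidx_mk : ∀ (f : T ⟶ ∐ X) (t : T) (m : M) (y : S),
      f.base t = (Sigma.ι X m).base y → idx f t = m := by
    intro f t m y h
    show ((sigmaMk X).symm (f.base t)).1 = m
    rw [h]
    have := sigmaMk_mk X m y
    rw [← this, Homeomorph.symm_apply_apply]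
  have hidx_range : ∀ (f : T ⟶ ∐ X) (t : T),
      f.base t ∈ Set.range (Sigma.ι X (idx f t)).base := by
    intro f t
    refine ⟨((sigmaMk X).symm (f.base t)).2, ?_⟩
    have := sigmaMk_mk X ((sigmaMk X).symm (f.base t)).1 ((sigmaMk X).symm (f.base t)).2
    rw [Sigma.eta, Homeomorph.apply_symm_apply] at this
    exact this.symm
  let U : LocallyConstant T M → M → T.Opens := fun c m =>
    ⟨c ⁻¹' {m}, c.isLocallyConstant.isOpen_fiber m⟩
  have hU : ∀ c, TopologicalSpace.IsOpenCover (U c) := fun c => by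
    rw [TopologicalSpace.IsOpenCover, eq_top_iff]
    intro t _
    exact TopologicalSpace.Opens.mem_iSup.mpr ⟨c t, rfl⟩
  let 𝒰 : ∀ c, T.OpenCover := fun c => T.openCoverOfIsOpenCover (U c) (hU c)
  have compat : ∀ c (m m' : M), pullback.fst ((𝒰 c).f m) ((𝒰 c).f m') ≫
      ((U c m).ι ≫ p ≫ Sigma.ι X m) = pullback.snd ((𝒰 c).f m) ((𝒰 c).f m') ≫
      ((U c m').ι ≫ p ≫ Sigma.ι X m') := by
    intro c m m'
    by_cases h : m = m'
    · subst h
      have := pullback.condition (f := (𝒰 c).f m) (g := (𝒰 c).f m)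
      exact (reassoc_of% this) _
    · have : IsEmpty ↥(pullback ((𝒰 c).f m) ((𝒰 c).f m')) := ⟨fun z => h (by
        have h1 : c (((𝒰 c).f m).base (pullback.fst ((𝒰 c).f m) ((𝒰 c).f m') z)) = m :=
          (pullback.fst ((𝒰 c).f m) ((𝒰 c).f m') z).2
        have h2 : c (((𝒰 c).f m').base (pullback.snd ((𝒰 c).f m) ((𝒰 c).f m') z)) = m' :=
          (pullback.snd ((𝒰 c).f m) ((𝒰 c).f m') z).2
        have h3 : ((𝒰 c).f m).base (pullback.fst ((𝒰 c).f m) ((𝒰 c).f m') z) =
            ((𝒰 c).f m').base (pullback.snd ((𝒰 c).f m) ((𝒰 c).f m') z) := by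
          rw [← Scheme.Hom.comp_apply, ← Scheme.Hom.comp_apply, pullback.condition]
        exact h1.symm.trans ((congrArg c h3).trans h2))⟩
      exact (isInitialOfIsEmpty).hom_ext _ _
  let glue : LocallyConstant T M → (T ⟶ ∐ X) := fun c =>
    (𝒰 c).glueMorphisms (fun m => (U c m).ι ≫ p ≫ Sigma.ι X m) (compat c)
  have hglue : ∀ c m, (U c m).ι ≫ glue c = (U c m).ι ≫ p ≫ Sigma.ι X m :=
    fun c m => (𝒰 c).ι_glueMorphisms _ _ m
  have hglue_p : ∀ c, glue c ≫ Sigma.desc (fun _ : M => 𝟙 S) = p := fun c => by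
    refine (𝒰 c).hom_ext _ _ fun m => ?_
    show (U c m).ι ≫ glue c ≫ _ = (U c m).ι ≫ p
    rw [reassoc_of% (hglue c m)]
    simp only [X, Sigma.ι_desc, Category.comp_id]
  refine ⟨{ toFun := fun f => ⟨idx f.1, hidx f.1⟩
            invFun := fun c => ⟨glue c, hglue_p c⟩
            left_inv := ?_
            right_inv := ?_ }, fun f t => rfl⟩
  · rintro ⟨f, hf⟩
    apply Subtype.ext
    show glue ⟨idx f, hidx f⟩ = f
    set c : LocallyConstant T M := ⟨idx f, hidx f⟩ with hc
    refine (𝒰 c).hom_ext _ _ fun m => ?_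
    show (U c m).ι ≫ glue c = (U c m).ι ≫ f
    rw [hglue]
    have hr : Set.range ((U c m).ι ≫ f).base ⊆ Set.range (Sigma.ι X m).base := by
      rintro _ ⟨t, rfl⟩
      have h1 : idx f ((U c m).ι.base t) = m := t.2
      have h2 := hidx_range f ((U c m).ι.base t)
      rw [h1] at h2
      exact h2
    let l := IsOpenImmersion.lift (Sigma.ι X m) ((U c m).ι ≫ f) hr
    have hl : l ≫ Sigma.ι X m = (U c m).ι ≫ f := IsOpenImmersion.lift_fac _ _ _
    have hl2 : l = (U c m).ι ≫ p := by
      calc l = l ≫ Sigma.ι X m ≫ Sigma.desc (fun _ : M => 𝟙 S) := by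
            simp only [X, Sigma.ι_desc, Category.comp_id]
        _ = (U c m).ι ≫ p := by rw [reassoc_of% hl, hf]
    rw [← hl, hl2, Category.assoc]
  · intro c
    ext t
    show idx (glue c) t = c t
    have ht : t ∈ U c (c t) := rfl
    have h1 : (glue c).base t = ((U c (c t)).ι ≫ glue c).base ⟨t, ht⟩ := rfl
    rw [hglue] at h1
    exact hidx_mk (glue c) t (c t) (p.base t) h1

end Groth.Agent.S13131
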