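import Groth.Statements.S13132
import Groth.Agent.H27.ArtFlat

set_option autoImplicit false
universe u v
open CAlg

namespace Groth.Agent.S13132

/-- Let A' be an Artinian local ring, I a proper ideal of A' and S' a flat A'-algebra. An element f' of
S' is a non-zero-divisor exactly when its image in S'/IS' is one; and when f' is a non-zero-divisor,
the quotient S'/(f') is flat over A'. (The published statement is for local Artinian algebras with a
fixed residue field over a ring of Witt vectors and a surjection between two of them; the argument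
uses only that A' is Artinian local and I is a proper ideal, which is the form taken here.) -/
theorem result
    {A' : Type u} [CommRing A'] [IsArtinianRing A'] [IsLocalRing A'] (I : Ideal A') (hI : I ≠ ⊤)
    {S' : Type v} [CommRing S'] [Algebra A' S'] [Module.Flat A' S'] (f' : S') :
    (f' ∈ nonZeroDivisors S' ↔
      Ideal.Quotient.mk (I.map (algebraMap A' S')) f' ∈ nonZeroDivisors (S' ⧸ I.map (algebraMap A' S'))) ∧
    (f' ∈ nonZeroDivisors S' → Module.Flat A' (S' ⧸ Ideal.span {f'})) := by
  classical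
  set 𝔪 := IsLocalRing.maximalIdeal A' with h𝔪
  obtain ⟨N, hN⟩ : ∃ N, 𝔪 ^ N = ⊥ := by
    have h := IsArtinianRing.isNilpotent_jacobson_bot (R := A')
    rw [IsLocalRing.jacobson_eq_maximalIdeal ⊥ bot_ne_top] at h
    obtain ⟨N, hN⟩ := h
    exact ⟨N, hN⟩
  have hI𝔪 : I ≤ 𝔪 := IsLocalRing.le_maximalIdeal hI
  set φ : S' →ₗ[A'] S' := LinearMap.mulLeft A' f' with hφ
  have hmain := Groth.Agent.H27.ArtFlat.main 𝔪 N hN I hI𝔪 φ
  have hinj : f' ∈ nonZeroDivisors S' ↔ Function.Injective φ := by
    rw [mem_nonZeroDivisors_iff_left, injective_iff_map_eq_zero]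
    rfl
  have hmem : ∀ x : S', x ∈ (I • ⊤ : Submodule A' S') ↔ x ∈ I.map (algebraMap A' S') := by
    intro x
    rw [Ideal.smul_top_eq_map]
    rfl
  have hquot : Ideal.Quotient.mk (I.map (algebraMap A' S')) f' ∈
      nonZeroDivisors (S' ⧸ I.map (algebraMap A' S')) ↔
      ∀ x, φ x ∈ (I • ⊤ : Submodule A' S') → x ∈ (I • ⊤ : Submodule A' S') := by
    rw [mem_nonZeroDivisors_iff_left]
    constructor
    · intro h x hx
      rw [hmem] at hx ⊢
      have := h (Ideal.Quotient.mk _ x)
        (by rw [← map_mul]; exact Ideal.Quotient.eq_zero_iff_mem.2 hx)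
      exact Ideal.Quotient.eq_zero_iff_mem.1 this
    · intro h y hy
      obtain ⟨x, rfl⟩ := Ideal.Quotient.mk_surjective y
      rw [← map_mul] at hy
      have := h x ((hmem _).2 (Ideal.Quotient.eq_zero_iff_mem.1 hy))
      exact Ideal.Quotient.eq_zero_iff_mem.2 ((hmem _).1 this)
  refine ⟨by rw [hinj, hquot]; exact hmain.1, fun hf => ?_⟩
  have hflat := hmain.2 (hinj.1 hf)
  let g : (S' ⧸ LinearMap.range φ) →ₗ[A'] (S' ⧸ Ideal.span {f'}) :=
    (LinearMap.range φ).liftQ ((Ideal.Quotient.mkₐ A' (Ideal.span {f'})).toLinearMap) (by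
      rintro _ ⟨y, rfl⟩
      rw [LinearMap.mem_ker]
      show Ideal.Quotient.mk _ (f' * y) = 0
      exact Ideal.Quotient.eq_zero_iff_mem.2
        (Ideal.mul_mem_right _ _ (Ideal.mem_span_singleton_self f')))
  have hg : Function.Bijective g := by
    constructor
    · rw [injective_iff_map_eq_zero]
      intro y hy
      obtain ⟨x, rfl⟩ := (LinearMap.range φ).mkQ_surjective y
      have hx : Ideal.Quotient.mk (Ideal.span {f'}) x = 0 := hy
      rw [Ideal.Quotient.eq_zero_iff_mem, Ideal.mem_span_singleton'] at hx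
      obtain ⟨a, rfl⟩ := hx
      exact (Submodule.Quotient.mk_eq_zero _).2 ⟨a, by rw [mul_comm]; rfl⟩
    · intro y
      obtain ⟨x, rfl⟩ := Ideal.Quotient.mk_surjective y
      exact ⟨(LinearMap.range φ).mkQ x, rfl⟩
  exact Module.Flat.of_linearEquiv (LinearEquiv.ofBijective g hg).symm

end Groth.Agent.S13132
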