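import Groth.Statements.S13134
import Groth.Agent.H27.ArtLift

set_option autoImplicit false
universe u v
open CAlg

namespace Groth.Agent.S13134

/-- Let A' be an Artinian local ring, I a proper ideal, A = A'/I and f_1, …, f_m ∈ A[x_1, …, x_n]. Every
flat A'-algebra B' equipped with a surjection π onto A[x]/(f_1, …, f_m) with kernel I·B', compatible
with A' → A, is a quotient of A'[x_1, …, x_n] by the ideal generated by some lifts f'_1, …, f'_m of
the f_i, compatibly with π and with reduction of polynomials modulo I. (The published statement is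
for a surjection of local Artinian algebras with a fixed residue field over a ring of Witt vectors;
only the Artinian local base and the proper ideal are used, which is the form taken here.) -/
theorem result
    {A' : Type u} [CommRing A'] [IsArtinianRing A'] [IsLocalRing A'] (I : Ideal A') (hI : I ≠ ⊤)
    {n m : ℕ} (f : Fin m → MvPolynomial (Fin n) (A' ⧸ I))
    {B' : Type v} [CommRing B'] [Algebra A' B'] [Module.Flat A' B']
    (π : B' →+* MvPolynomial (Fin n) (A' ⧸ I) ⧸ Ideal.span (Set.range f))
    (hπ : Function.Surjective π) (hker : RingHom.ker π = I.map (algebraMap A' B'))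
    (hcomp : π.comp (algebraMap A' B') =
      ((Ideal.Quotient.mk (Ideal.span (Set.range f))).comp MvPolynomial.C).comp (Ideal.Quotient.mk I)) :
    ∃ (f' : Fin m → MvPolynomial (Fin n) A') (ψ : MvPolynomial (Fin n) A' →ₐ[A'] B'),
      (∀ i, MvPolynomial.map (Ideal.Quotient.mk I) (f' i) = f i) ∧
      Function.Surjective ψ ∧ RingHom.ker ψ.toRingHom = Ideal.span (Set.range f') ∧
      ∀ q, π (ψ q) = Ideal.Quotient.mk (Ideal.span (Set.range f)) (MvPolynomial.map (Ideal.Quotient.mk I) q) := by
  classical
  obtain ⟨N, hN⟩ : ∃ N, (IsLocalRing.maximalIdeal A') ^ N = ⊥ := by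
    have h := IsArtinianRing.isNilpotent_jacobson_bot (R := A')
    rw [IsLocalRing.jacobson_eq_maximalIdeal ⊥ bot_ne_top] at h
    obtain ⟨N, hN⟩ := h
    exact ⟨N, hN⟩
  have hI𝔪 : I ≤ IsLocalRing.maximalIdeal A' := IsLocalRing.le_maximalIdeal hI
  have hIN : I ^ N = ⊥ := le_bot_iff.1 (by rw [← hN]; exact Ideal.pow_right_mono hI𝔪 N)
  choose b hb using fun j : Fin n =>
    hπ (Ideal.Quotient.mk (Ideal.span (Set.range f)) (MvPolynomial.X j))
  let ψ : MvPolynomial (Fin n) A' →ₐ[A'] B' := MvPolynomial.aeval b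
  have hψC : ∀ a, ψ (MvPolynomial.C a) = algebraMap A' B' a := fun a => by simp [ψ]
  have hψX : ∀ j, ψ (MvPolynomial.X j) = b j := fun j => by simp [ψ]
  have hπψ : π.comp ψ.toRingHom = (Ideal.Quotient.mk (Ideal.span (Set.range f))).comp
      (MvPolynomial.map (Ideal.Quotient.mk I)) := by
    apply MvPolynomial.ringHom_ext
    · intro a
      have h1 := RingHom.congr_fun hcomp a
      simp only [RingHom.comp_apply] at h1
      simp only [RingHom.comp_apply, AlgHom.toRingHom_eq_coe, RingHom.coe_coe,
        MvPolynomial.map_C]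
      rw [hψC]
      exact h1
    · intro j
      simp only [RingHom.comp_apply, AlgHom.toRingHom_eq_coe, RingHom.coe_coe,
        MvPolynomial.map_X]
      rw [hψX]
      exact hb j
  have hπψ' : ∀ q, π (ψ q) = Ideal.Quotient.mk (Ideal.span (Set.range f))
      (MvPolynomial.map (Ideal.Quotient.mk I) q) := fun q => RingHom.congr_fun hπψ q
  have hmapsurj : Function.Surjective (MvPolynomial.map (σ := Fin n) (Ideal.Quotient.mk I)) :=
    MvPolynomial.map_surjective _ Ideal.Quotient.mk_surjective
  have hkerπ : ∀ x, π x = 0 → x ∈ (I • ⊤ : Submodule A' B') := by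
    intro x hx
    rw [Ideal.smul_top_eq_map]
    have : x ∈ RingHom.ker π := hx
    rw [hker] at this
    exact this
  have hsup : ∀ k, (⊤ : Submodule A' B') ≤ LinearMap.range ψ.toLinearMap ⊔ I ^ k • ⊤ := by
    intro k
    induction k with
    | zero => rw [pow_zero, Ideal.one_eq_top, Submodule.top_smul]; exact le_sup_right
    | succ k ih =>
      have h1 : (⊤ : Submodule A' B') ≤ LinearMap.range ψ.toLinearMap ⊔ I • ⊤ := by
        intro x _
        obtain ⟨g', hg'⟩ := Ideal.Quotient.mk_surjective (π x)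
        obtain ⟨g, rfl⟩ := hmapsurj g'
        have h2 : π (x - ψ g) = 0 := by rw [map_sub, hπψ', hg', sub_self]
        exact Submodule.mem_sup.2 ⟨ψ g, ⟨g, rfl⟩, x - ψ g, hkerπ _ h2, by ring⟩
      calc (⊤ : Submodule A' B') ≤ LinearMap.range ψ.toLinearMap ⊔ I • ⊤ := h1
        _ ≤ LinearMap.range ψ.toLinearMap ⊔
            I • (LinearMap.range ψ.toLinearMap ⊔ I ^ k • ⊤) :=
          sup_le_sup_left (Submodule.smul_mono le_rfl ih) _
        _ ≤ LinearMap.range ψ.toLinearMap ⊔ I ^ (k + 1) • ⊤ := by
          rw [Submodule.smul_sup, ← Submodule.mul_smul, ← pow_succ']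
          exact sup_le le_sup_left
            (sup_le (Submodule.smul_le_right.trans le_sup_left) le_sup_right)
  have hψsurj : Function.Surjective ψ := by
    intro x
    have := hsup N (Submodule.mem_top : x ∈ ⊤)
    rw [hIN, Submodule.bot_smul, sup_bot_eq] at this
    obtain ⟨g, hg⟩ := this
    exact ⟨g, hg⟩
  have hlift : ∀ i, ∃ f'i : MvPolynomial (Fin n) A',
      MvPolynomial.map (Ideal.Quotient.mk I) f'i = f i ∧ ψ f'i = 0 := by
    intro i
    obtain ⟨g, hg⟩ := hmapsurj (f i)
    have h1 : π (ψ g) = 0 := by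
      rw [hπψ', hg]; exact Ideal.Quotient.eq_zero_iff_mem.2 (Ideal.subset_span ⟨i, rfl⟩)
    obtain ⟨l, c, u, hc, hrep⟩ := Groth.Agent.H27.ArtFlat.exists_rep I _ (hkerπ _ h1)
    choose p hp using fun j => hψsurj (u j)
    refine ⟨g - ∑ j, MvPolynomial.C (c j) * p j, ?_, ?_⟩
    · rw [map_sub, hg, map_sum]
      have : ∀ j, MvPolynomial.map (Ideal.Quotient.mk I) (MvPolynomial.C (c j) * p j) = 0 := by
        intro j
        rw [map_mul, MvPolynomial.map_C, Ideal.Quotient.eq_zero_iff_mem.2 (hc j), map_zero,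
          zero_mul]
      rw [Finset.sum_congr rfl (fun j _ => this j), Finset.sum_const_zero, sub_zero]
    · rw [map_sub, map_sum, hrep]
      have : ∀ j, ψ (MvPolynomial.C (c j) * p j) = c j • u j := by
        intro j
        rw [map_mul, hp j, Algebra.smul_def, hψC]
      rw [Finset.sum_congr rfl (fun j _ => this j), sub_self]
  choose f' hf'map hf'ψ using hlift
  have hker_eq : RingHom.ker ψ.toRingHom = Ideal.span (Set.range f') := by
    have hflatker : Module.Flat A' (MvPolynomial (Fin n) A' ⧸ RingHom.ker ψ.toRingHom) :=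
      Module.Flat.of_linearEquiv (Ideal.quotientKerAlgEquivOfSurjective hψsurj).toLinearEquiv
    apply Groth.Agent.H27.ArtLift.ideal_eq_of_flat (IsLocalRing.maximalIdeal A') N hN I hI𝔪
    · exact Ideal.span_le.2 (by rintro _ ⟨i, rfl⟩; exact hf'ψ i)
    · intro w hw
      have hw0 : ψ w = 0 := hw
      have h1 : Ideal.Quotient.mk (Ideal.span (Set.range f))
          (MvPolynomial.map (Ideal.Quotient.mk I) w) = 0 := by rw [← hπψ', hw0, map_zero]
      rw [Ideal.Quotient.eq_zero_iff_mem] at h1
      have h2 : MvPolynomial.map (Ideal.Quotient.mk I) w ∈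
          (Ideal.span (Set.range f')).map (MvPolynomial.map (Ideal.Quotient.mk I)) := by
        rw [Ideal.map_span, ← Set.range_comp,
          (funext hf'map : MvPolynomial.map (Ideal.Quotient.mk I) ∘ f' = f)]
        exact h1
      obtain ⟨y, hy, hyw⟩ := (Ideal.mem_map_iff_of_surjective _ hmapsurj).1 h2
      have h3 : w - y ∈ I.map (algebraMap A' (MvPolynomial (Fin n) A')) := by
        rw [MvPolynomial.algebraMap_eq]
        have : w - y ∈ RingHom.ker (MvPolynomial.map (σ := Fin n) (Ideal.Quotient.mk I)) := by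
          rw [RingHom.mem_ker, map_sub, hyw, sub_self]
        rwa [MvPolynomial.ker_map, Ideal.mk_ker] at this
      exact Submodule.mem_sup.2 ⟨y, hy, w - y, h3, by ring⟩
  exact ⟨f', ψ, hf'map, hψsurj, hker_eq, hπψ'⟩

end Groth.Agent.S13134
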