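import Groth.Statements.S13135
import Groth.Agent.H27.ArtReg

set_option autoImplicit false
universe u
open CAlg

namespace Groth.Agent.S13135

/-- Let A' be an Artinian local ring, I a proper ideal, A = A'/I and f_1, …, f_m a regular sequence in
A[x_1, …, x_n]. For every choice of lifts f'_1, …, f'_m in A'[x_1, …, x_n] the quotient A'[x]/(f'_1,
…, f'_m) is flat over A' (so it is a flat lifting of A[x]/(f_1, …, f_m)). (The published statement
is for a surjection of local Artinian algebras with a fixed residue field over a ring of Witt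
vectors; only the Artinian local base and the proper ideal are used, which is the form taken here.) -/
theorem result
    {A' : Type u} [CommRing A'] [IsArtinianRing A'] [IsLocalRing A'] (I : Ideal A') (hI : I ≠ ⊤)
    {n m : ℕ} (f : Fin m → MvPolynomial (Fin n) (A' ⧸ I))
    (hreg : RingTheory.Sequence.IsRegular (MvPolynomial (Fin n) (A' ⧸ I)) (List.ofFn f))
    (f' : Fin m → MvPolynomial (Fin n) A') (hf' : ∀ i, MvPolynomial.map (Ideal.Quotient.mk I) (f' i) = f i) :
    Module.Flat A' (MvPolynomial (Fin n) A' ⧸ Ideal.span (Set.range f')) := by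
  classical
  set 𝔪 := IsLocalRing.maximalIdeal A' with h𝔪
  obtain ⟨N, hN⟩ : ∃ N, 𝔪 ^ N = ⊥ := by
    have h := IsArtinianRing.isNilpotent_jacobson_bot (R := A')
    rw [IsLocalRing.jacobson_eq_maximalIdeal ⊥ bot_ne_top] at h
    obtain ⟨N, hN⟩ := h
    exact ⟨N, hN⟩
  have hI𝔪 : I ≤ 𝔪 := IsLocalRing.le_maximalIdeal hI
  let e := MvPolynomial.quotientEquivQuotientMvPolynomial (σ := Fin n) I
  have he : ∀ p : MvPolynomial (Fin n) A',
      e (MvPolynomial.map (Ideal.Quotient.mk I) p) = Ideal.Quotient.mk _ p := by
    intro p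
    have h1 : e.symm (Ideal.Quotient.mk (Ideal.map MvPolynomial.C I) p) =
        MvPolynomial.map (Ideal.Quotient.mk I) p := by
      have : (e.symm.toAlgHom.toRingHom.comp (Ideal.Quotient.mk (Ideal.map MvPolynomial.C I))) =
          MvPolynomial.map (Ideal.Quotient.mk I) := by
        apply MvPolynomial.ringHom_ext
        · intro a
          simp [e, MvPolynomial.quotientEquivQuotientMvPolynomial]
        · intro i
          simp [e, MvPolynomial.quotientEquivQuotientMvPolynomial]
      exact RingHom.congr_fun this p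
    rw [← h1, AlgEquiv.apply_symm_apply]
  have hreg2 : RingTheory.Sequence.IsRegular
      (MvPolynomial (Fin n) A' ⧸ Ideal.map MvPolynomial.C I) ((List.ofFn f).map e) :=
    (AddEquiv.isRegular_congr (e := e.toRingEquiv.toAddEquiv)
      (List.forall₂_map_right_iff.mpr (List.forall₂_same.mpr
        (by intro r _ x; exact map_mul e r x)))).1 hreg
  have hlist : (List.ofFn f).map e =
      (List.ofFn f').map (Ideal.Quotient.mk (Ideal.map MvPolynomial.C I)) := by
    rw [List.map_ofFn, List.map_ofFn]
    congr 1
    funext i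
    simp only [Function.comp_apply, ← hf' i, he]
  rw [hlist] at hreg2
  have hiff := Groth.Agent.H27.ArtReg.isRegular_ring_iff 𝔪 N hN I hI𝔪
    (S := MvPolynomial (Fin n) A') (List.ofFn f')
  rw [MvPolynomial.algebraMap_eq] at hiff
  have hregP := hiff.2 hreg2
  have hflatq := Groth.Agent.H27.ArtReg.flat_quot_ofList' 𝔪 N hN (List.ofFn f')
    (MvPolynomial (Fin n) A') hregP.toIsWeaklyRegular
  set q : Submodule (MvPolynomial (Fin n) A') (MvPolynomial (Fin n) A') :=
    (Ideal.ofList (List.ofFn f') • ⊤ : Submodule (MvPolynomial (Fin n) A') (MvPolynomial (Fin n) A'))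
    with hq
  have hqmem : ∀ x, x ∈ q ↔ x ∈ Ideal.span (Set.range f') := by
    intro x
    have : q = Ideal.span (Set.range f') := by
      rw [hq, Ideal.smul_eq_mul, Ideal.mul_top]
      show Ideal.span _ = _
      congr 1
      ext y
      simp [List.mem_ofFn]
    rw [this]
  let g : (MvPolynomial (Fin n) A' ⧸ q.restrictScalars A') →ₗ[A']
      (MvPolynomial (Fin n) A' ⧸ Ideal.span (Set.range f')) :=
    (q.restrictScalars A').liftQ
      ((Ideal.Quotient.mkₐ A' (Ideal.span (Set.range f'))).toLinearMap) (by
      intro x hx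
      rw [LinearMap.mem_ker]
      exact Ideal.Quotient.eq_zero_iff_mem.2 ((hqmem x).1 hx))
  have hg : Function.Bijective g := by
    constructor
    · rw [injective_iff_map_eq_zero]
      intro y hy
      obtain ⟨x, rfl⟩ := (q.restrictScalars A').mkQ_surjective y
      have hx : Ideal.Quotient.mk (Ideal.span (Set.range f')) x = 0 := hy
      rw [Ideal.Quotient.eq_zero_iff_mem] at hx
      exact (Submodule.Quotient.mk_eq_zero _).2 ((hqmem x).2 hx)
    · intro y
      obtain ⟨x, rfl⟩ := Ideal.Quotient.mk_surjective y
      exact ⟨(q.restrictScalars A').mkQ x, rfl⟩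
  exact Module.Flat.of_linearEquiv (LinearEquiv.ofBijective g hg).symm

end Groth.Agent.S13135
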