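import Groth.Statements.S13137
import Groth.Agent.H2.W2

set_option autoImplicit false
universe u v
open FrobAlg

namespace Groth.Agent.S13137

/-- For a perfect field k of characteristic p, a flat W₂(k)-algebra B and an ideal J of B, the quotient
B/J is flat over W₂(k) if and only if (p) ∩ J = pJ in B. (With B a flat lifting of A = B/pB this
says: B/J is a flat lifting of A modulo the image of J exactly when (p) ∩ J = pJ.) -/
theorem result
    (p : ℕ) [Fact p.Prime] (k : Type u) [Field k] [CharP k p] [PerfectRing k p]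
    (B : Type v) [CommRing B] [Algebra (FrobAlg.W2 p k) B] [Module.Flat (FrobAlg.W2 p k) B]
    (J : Ideal B) :
    Module.Flat (FrobAlg.W2 p k) (B ⧸ J) ↔
      Ideal.span {(p : B)} ⊓ J = Ideal.span {(p : B)} * J := by
  have hsm : ∀ b : B, (p : FrobAlg.W2 p k) • b = (p : B) * b := by
    intro b; rw [Nat.cast_smul_eq_nsmul, nsmul_eq_mul]
  have hsmq : ∀ b : B, (p : FrobAlg.W2 p k) • (Ideal.Quotient.mk J b) =
      Ideal.Quotient.mk J ((p : B) * b) := by
    intro b; rw [Nat.cast_smul_eq_nsmul, nsmul_eq_mul, map_mul, map_natCast]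
  have hpp : (p : B) * (p : B) = 0 :=
    Groth.Agent.H2.W2.natCast_mul_natCast p k (algebraMap (FrobAlg.W2 p k) B)
  rw [Groth.Agent.H2.W2.flat_iff p k]
  constructor
  · intro h
    apply le_antisymm
    · rintro x ⟨hx1, hx2⟩
      obtain ⟨b, rfl⟩ := Ideal.mem_span_singleton'.mp hx1
      have h1 : (p : FrobAlg.W2 p k) • (Ideal.Quotient.mk J b) = 0 := by
        rw [hsmq, Ideal.Quotient.eq_zero_iff_mem, mul_comm]; exact hx2
      obtain ⟨m', hm'⟩ := h _ h1
      obtain ⟨b', rfl⟩ := Ideal.Quotient.mk_surjective m'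
      rw [hsmq, Ideal.Quotient.eq] at hm'
      rw [Ideal.mem_span_singleton_mul]
      refine ⟨b - (p : B) * b', hm', ?_⟩
      linear_combination (-b') * hpp
    · exact Ideal.mul_le_inf
  · intro h m hm
    obtain ⟨b, rfl⟩ := Ideal.Quotient.mk_surjective m
    rw [hsmq, Ideal.Quotient.eq_zero_iff_mem] at hm
    have h1 : (p : B) * b ∈ Ideal.span {(p : B)} ⊓ J :=
      ⟨Ideal.mem_span_singleton'.mpr ⟨b, mul_comm _ _⟩, hm⟩
    rw [h, Ideal.mem_span_singleton_mul] at h1
    obtain ⟨z, hz, hzb⟩ := h1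
    have h2 : (p : FrobAlg.W2 p k) • (b - z) = 0 := by
      rw [hsm, mul_sub, hzb, sub_self]
    obtain ⟨b', hb'⟩ := Groth.Agent.H2.W2.exists_eq_p_smul p k (b - z) h2
    refine ⟨Ideal.Quotient.mk J b', ?_⟩
    rw [hsmq, Ideal.Quotient.eq]
    have hbz : b - (p : B) * b' = z := by rw [← hsm, ← hb']; ring
    rw [hbz]; exact hz

end Groth.Agent.S13137
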