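import Groth.Statements.S13140
import Mathlib.Tactic
import Mathlib.RepresentationTheory.Maschke
import Mathlib.Algebra.Module.Projective

set_option autoImplicit false
universe u v w
open GrpAlg

namespace Groth.Agent.S13140

/-- Let G be a finite group, R a commutative ring in which |G| is a unit, and M a module over the group
algebra R[G] whose underlying R-module is projective. Then M is a projective R[G]-module. -/
theorem result
    (R : Type u) [CommRing R] (G : Type v) [Group G] [Finite G] (hG : IsUnit ((Nat.card G : ℕ) : R))
    (M : Type w) [AddCommGroup M] [Module R M] [Module (MonoidAlgebra R G) M]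
    [IsScalarTower R (MonoidAlgebra R G) M] [Module.Projective R M] :
    Module.Projective (MonoidAlgebra R G) M := by
  classical
  have : Fintype G := Fintype.ofFinite G
  let p : (M →₀ MonoidAlgebra R G) →ₗ[MonoidAlgebra R G] M :=
    Finsupp.linearCombination (MonoidAlgebra R G) id
  have hp : Function.Surjective p := Finsupp.linearCombination_id_surjective (MonoidAlgebra R G) M
  obtain ⟨s, hs⟩ := Module.projective_lifting_property (p.restrictScalars R) LinearMap.id hp
  let s' : M →ₗ[MonoidAlgebra R G] (M →₀ MonoidAlgebra R G) := s.equivariantProjection G
  have hps : ∀ m : M, p (s m) = m := fun m => by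
    have := LinearMap.congr_fun hs m
    simpa using this
  have hs' : p ∘ₗ s' = LinearMap.id := by
    ext m
    simp only [LinearMap.comp_apply, LinearMap.id_apply, s']
    rw [LinearMap.equivariantProjection_apply]
    have h1 : p (Ring.inverse (Nat.card G : R) • ∑ g : G, s.conjugate g m)
        = Ring.inverse (Nat.card G : R) • ∑ g : G, p (s.conjugate g m) := by
      rw [← map_sum]
      exact (p.restrictScalars R).map_smul _ _
    rw [h1]
    have h2 : ∀ g : G, p (s.conjugate g m) = m := by
      intro g
      rw [LinearMap.conjugate_apply, map_smul, hps, ← mul_smul, MonoidAlgebra.single_mul_single,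
        mul_one, inv_mul_cancel, ← MonoidAlgebra.one_def, one_smul]
    simp only [h2]
    rw [Finset.sum_const, Finset.card_univ, ← Nat.cast_smul_eq_nsmul R, smul_smul,
      Fintype.card_eq_nat_card, Ring.inverse_mul_cancel _ hG, one_smul]
  exact Module.Projective.of_split s' p hs'

end Groth.Agent.S13140
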