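import Groth.Statements.S13141
import Mathlib.Tactic
import Mathlib.RepresentationTheory.Invariants
import Mathlib.LinearAlgebra.Projection

set_option autoImplicit false
universe u v w w'
open scoped TensorProduct
open GrpAlg

namespace Groth.Agent.S13141

/-- Let G be a finite group, R a commutative ring with |G| invertible in R, M a projective R-module with
an R-linear G-action and S an R-algebra. The natural map M^G ⊗_R S → M ⊗_R S is injective and its
image is the submodule of G-invariants of M ⊗_R S (G acting on the first factor); that is, M^G ⊗_R S
→ (M ⊗_R S)^G is bijective. -/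
theorem result
    (R : Type u) [CommRing R] (G : Type v) [Group G] [Finite G] (hG : IsUnit ((Nat.card G : ℕ) : R))
    (M : Type w) [AddCommGroup M] [Module R M] [Module.Projective R M] (ρ : Representation R G M)
    (S : Type w') [CommRing S] [Algebra R S] :
    Function.Injective (TensorProduct.map ρ.invariants.subtype (LinearMap.id : S →ₗ[R] S)) ∧
    LinearMap.range (TensorProduct.map ρ.invariants.subtype (LinearMap.id : S →ₗ[R] S)) =
      ⨅ g : G, LinearMap.eqLocus (LinearMap.rTensor S (ρ g)) LinearMap.id := by
  classical
  have : Fintype G := Fintype.ofFinite G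
  haveI : Invertible ((Fintype.card G : ℕ) : R) := by
    rw [Fintype.card_eq_nat_card]; exact hG.invertible
  have hproj := ρ.isProj_averageMap
  let e : M →ₗ[R] M := ρ.averageMap
  let r : M →ₗ[R] ρ.invariants := hproj.codRestrict
  have hr : r ∘ₗ ρ.invariants.subtype = LinearMap.id := by
    ext x; simp [r, hproj.codRestrict_apply_cod]
  have hre : ρ.invariants.subtype ∘ₗ r = e := rfl
  have heq : e = (⅟((Fintype.card G : ℕ) : R)) • ∑ g : G, (ρ g : M →ₗ[R] M) := by
    simp only [e, Representation.averageMap, GroupAlgebra.average, map_smul, map_sum,
      Representation.asAlgebraHom_of]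
  constructor
  · have h1 : (TensorProduct.map r (LinearMap.id : S →ₗ[R] S)) ∘ₗ
        (TensorProduct.map ρ.invariants.subtype LinearMap.id) = LinearMap.id := by
      rw [← TensorProduct.map_comp, hr, LinearMap.id_comp, TensorProduct.map_id]
    exact Function.LeftInverse.injective (g := TensorProduct.map r LinearMap.id)
      (fun x => LinearMap.congr_fun h1 x)
  · apply le_antisymm
    · rintro _ ⟨x, rfl⟩
      simp only [Submodule.mem_iInf, LinearMap.mem_eqLocus]
      intro g
      have h2 : (ρ g) ∘ₗ ρ.invariants.subtype = ρ.invariants.subtype := by
        ext v; exact v.2 g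
      rw [LinearMap.rTensor, ← LinearMap.comp_apply, ← TensorProduct.map_comp, h2]
      simp
    · intro x hx
      simp only [Submodule.mem_iInf, LinearMap.mem_eqLocus, LinearMap.id_apply] at hx
      have hex : LinearMap.rTensor S e x = x := by
        rw [heq, LinearMap.rTensor_smul, ← LinearMap.coe_rTensorHom, map_sum]
        simp only [LinearMap.coe_rTensorHom, LinearMap.smul_apply, LinearMap.sum_apply, hx]
        rw [Finset.sum_const, Finset.card_univ, ← Nat.cast_smul_eq_nsmul R, smul_smul,
          invOf_mul_self, one_smul]
      refine ⟨TensorProduct.map r LinearMap.id x, ?_⟩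
      rw [← LinearMap.comp_apply, ← TensorProduct.map_comp, hre, LinearMap.id_comp]
      exact hex

end Groth.Agent.S13141
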