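import Groth.Statements.S13149
import Groth.Agent.H2.ProjPlane

set_option autoImplicit false
universe u
open CAlg

namespace Groth.Agent.S13149

/-- Let A be a local ring and ρ a map from the points of the projective plane over F_p to the points of
the projective plane over A (vectors with a unit coordinate, up to units) taking collinear triples
to collinear triples (three points are collinear when a vector with a unit coordinate is orthogonal
to all three). If ρ sends the standard frame (1:0:0), (0:1:0), (0:0:1), (1:1:1) to four points in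
general position, then p = 0 in A. (The published statement asks only that ρ preserve collinearity;
a constant map does so over any ring, and the published argument begins by moving the images of the
standard frame to the standard frame, which needs them in general position — that condition is made
a hypothesis here.) -/
theorem result
    (p : ℕ) [Fact p.Prime] (A : Type u) [CommRing A] [IsLocalRing A]
    (ρ : (Fin 3 → ZMod p) → (Fin 3 → A))
    (hpt : ∀ v : Fin 3 → ZMod p, v ≠ 0 → ∃ i, IsUnit (ρ v i))
    (hcol : ∀ u v w : Fin 3 → ZMod p, u ≠ 0 → v ≠ 0 → w ≠ 0 →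
      Matrix.det (Matrix.of ![u, v, w]) = 0 →
      ∃ n : Fin 3 → A, (∃ i, IsUnit (n i)) ∧
        dotProduct (ρ u) n = 0 ∧ dotProduct (ρ v) n = 0 ∧ dotProduct (ρ w) n = 0)
    (hgen : IsUnit (Matrix.det (Matrix.of ![ρ (Pi.single 0 1), ρ (Pi.single 1 1), ρ (Pi.single 2 1)])) ∧
      IsUnit (Matrix.det (Matrix.of ![ρ (Pi.single 0 1), ρ (Pi.single 1 1), ρ (fun _ => 1)])) ∧
      IsUnit (Matrix.det (Matrix.of ![ρ (Pi.single 0 1), ρ (Pi.single 2 1), ρ (fun _ => 1)])) ∧
      IsUnit (Matrix.det (Matrix.of ![ρ (Pi.single 1 1), ρ (Pi.single 2 1), ρ (fun _ => 1)]))) :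
    (p : A) = 0 := by
  obtain ⟨hE, hg2, hg3, hg4⟩ := hgen
  have e0eq : (Pi.single 0 1 : Fin 3 → ZMod p) = ![1, 0, 0] := by
    ext i; fin_cases i <;> simp
  have e1eq : (Pi.single 1 1 : Fin 3 → ZMod p) = ![0, 1, 0] := by
    ext i; fin_cases i <;> simp
  have e2eq : (Pi.single 2 1 : Fin 3 → ZMod p) = ![0, 0, 1] := by
    ext i; fin_cases i <;> simp
  have ueq : ((fun _ => 1) : Fin 3 → ZMod p) = ![1, 1, 1] := by
    ext i; fin_cases i <;> simp
  rw [e0eq, e1eq, e2eq] at hE
  rw [e0eq, e1eq, ueq] at hg2
  rw [e0eq, e2eq, ueq] at hg3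
  rw [e1eq, e2eq, ueq] at hg4
  exact Groth.Agent.H2.ProjPlane.main p A ρ hpt hcol hE hg2 hg3 hg4

end Groth.Agent.S13149
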