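import Groth.Statements.S13151
import Mathlib

set_option autoImplicit false
universe u
open CAlg

namespace Groth.Agent.S13151

theorem result {A B : Type u} [CommRing A] [CommRing B]
    [IsDomain A] [IsDomain B] [IsIntegrallyClosed A] [Algebra A B] [Algebra.IsIntegral A B]
    (hinj : Function.Injective (algebraMap A B)) (π : A) :
    (Ideal.span {algebraMap A B π}).comap (algebraMap A B) = Ideal.span {π} ∧
      (IsDomain (B ⧸ Ideal.span {algebraMap A B π}) → IsDomain (A ⧸ Ideal.span {π})) := by
  have key : (Ideal.span {algebraMap A B π}).comap (algebraMap A B) = Ideal.span {π} := by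
    apply le_antisymm
    · intro a ha
      rw [Ideal.mem_comap, Ideal.mem_span_singleton'] at ha
      obtain ⟨b, hb⟩ := ha
      rw [Ideal.mem_span_singleton']
      by_cases hπ : π = 0
      · subst hπ
        rw [map_zero, mul_zero] at hb
        have : a = 0 := hinj (by rw [← hb, map_zero])
        exact ⟨0, by rw [this, zero_mul]⟩
      · let K := FractionRing A
        let L := FractionRing B
        have hinjL : Function.Injective (algebraMap A L) := by
          rw [IsScalarTower.algebraMap_eq A B L]
          exact (IsFractionRing.injective B L).comp hinj
        haveI : FaithfulSMul A L := (faithfulSMul_iff_algebraMap_injective A L).mpr hinjL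
        letI : Algebra K L := FractionRing.liftAlgebra A L
        haveI : IsScalarTower A K L := FractionRing.isScalarTower_liftAlgebra A L
        have hπK : algebraMap A K π ≠ 0 := by
          simpa using (IsFractionRing.injective A K).ne hπ
        set x : K := algebraMap A K a / algebraMap A K π with hx
        have hxL : algebraMap K L x = algebraMap B L b := by
          have hπL : algebraMap K L (algebraMap A K π) ≠ 0 := by
            rw [← IsScalarTower.algebraMap_apply]
            simpa using hinjL.ne hπ
          rw [hx, map_div₀, div_eq_iff hπL, ← IsScalarTower.algebraMap_apply,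
            ← IsScalarTower.algebraMap_apply, IsScalarTower.algebraMap_apply A B L,
            IsScalarTower.algebraMap_apply A B L π, ← map_mul, hb]
        have hbint : IsIntegral A (algebraMap B L b) :=
          (Algebra.IsIntegral.isIntegral b).algebraMap
        have hxint : IsIntegral A x := by
          rw [← isIntegral_algebraMap_iff (algebraMap K L).injective, hxL]
          exact hbint
        obtain ⟨c, hc⟩ := IsIntegrallyClosed.isIntegral_iff.mp hxint
        refine ⟨c, ?_⟩
        apply IsFractionRing.injective A K
        rw [map_mul, hc, hx, div_mul_cancel₀ _ hπK]
    · rw [Ideal.span_le, Set.singleton_subset_iff]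
      exact Ideal.subset_span (Set.mem_singleton _)
  refine ⟨key, fun h => ?_⟩
  rw [Ideal.Quotient.isDomain_iff_prime] at h ⊢
  rw [← key]
  exact Ideal.comap_isPrime _ _

end Groth.Agent.S13151
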