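import Groth.Statements.S13153
import Mathlib

set_option autoImplicit false
universe u
open CAlg

namespace Groth.Agent.S13153

open scoped IntermediateField.algebraAdjoinAdjoin in
theorem aux (K L : Type u) [Field K] [Field L] [Algebra K L] [CharZero K] (g : L)
    (hDg : KaehlerDifferential.D K L g = 0) (t : Set L) (hgt : g ∈ t)
    (ht : IsTranscendenceBasis K ((↑) : t → L)) : False := by
  classical
  let v : t → L := (↑)
  have hb : AlgebraicIndependent K v := ht.1
  haveI : Algebra.IsAlgebraic (IntermediateField.adjoin K (Set.range v)) L := ht.isAlgebraic_field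
  haveI : CharZero (IntermediateField.adjoin K (Set.range v)) :=
    charZero_of_injective_algebraMap
      (algebraMap K (IntermediateField.adjoin K (Set.range v))).injective
  haveI : Algebra.FormallyEtale (IntermediateField.adjoin K (Set.range v)) L :=
    Algebra.FormallyEtale.of_isSeparable _ L
  haveI : Algebra.FormallyEtale (Algebra.adjoin K (Set.range v))
      (IntermediateField.adjoin K (Set.range v)) :=
    Algebra.FormallyEtale.of_isLocalization (nonZeroDivisors (Algebra.adjoin K (Set.range v)))
  haveI : Algebra.FormallyEtale (Algebra.adjoin K (Set.range v)) L :=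
    Algebra.FormallyEtale.comp (Algebra.adjoin K (Set.range v))
      (IntermediateField.adjoin K (Set.range v)) L
  let e := hb.aevalEquiv
  let i₀ : t := ⟨g, hgt⟩
  let φ : MvPolynomial t K →ₐ[K] L := MvPolynomial.aeval v
  have hφe : ∀ x : Algebra.adjoin K (Set.range v), φ (e.symm x) = (x : L) := by
    intro x
    have h := hb.aevalEquiv_apply_coe (e.symm x)
    rw [AlgEquiv.apply_symm_apply] at h
    exact h.symm
  let d₀ : Derivation K (Algebra.adjoin K (Set.range v)) L :=
    Derivation.mk' (φ.toLinearMap ∘ₗ (MvPolynomial.pderiv i₀).toLinearMap ∘ₗ e.symm.toLinearMap)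
      (by
        intro x y
        simp only [LinearMap.comp_apply, AlgEquiv.toLinearMap_apply, AlgHom.toLinearMap_apply,
          Derivation.coeFn_coe, map_mul, Derivation.leibniz, map_add, smul_eq_mul, hφe]
        rfl)
  let g' : Algebra.adjoin K (Set.range v) := ⟨g, Algebra.subset_adjoin ⟨i₀, rfl⟩⟩
  have hg' : e.symm g' = MvPolynomial.X i₀ := by
    rw [AlgEquiv.symm_apply_eq]
    apply Subtype.ext
    rw [hb.aevalEquiv_apply_coe, MvPolynomial.aeval_X]
  have hd₀ : d₀ g' = 1 := by
    show φ (MvPolynomial.pderiv i₀ (e.symm g')) = 1
    rw [hg', MvPolynomial.pderiv_X_self, map_one]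
  have h1 := KaehlerDifferential.tensorKaehlerEquivOfFormallyEtale_symm_D_algebraMap K
    (Algebra.adjoin K (Set.range v)) L g'
  have h2 : algebraMap (Algebra.adjoin K (Set.range v)) L g' = g := rfl
  rw [h2, hDg, map_zero] at h1
  have h3 := congrArg (LinearMap.liftBaseChange L d₀.liftKaehlerDifferential) h1
  rw [map_zero, LinearMap.liftBaseChange_tmul, one_smul,
    Derivation.liftKaehlerDifferential_comp_D, hd₀] at h3
  exact zero_ne_one h3

/-- Let R be a discrete valuation ring whose fraction field K has characteristic zero, A an integral
domain which is a faithfully flat R-algebra, with fraction field L, such that K is algebraically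
closed in L (every element of L algebraic over K is in the image of K). If f ∈ A has vanishing
differential, df = 0 in Ω_{A/R}, then f is the image of an element of R. (The published statement is
the sheaf form: for a faithfully flat morphism X → Spec R with geometrically integral generic fibre,
the kernel of d : O_X → Ω¹_{X/R} is the inverse image of O_{Spec R}; for integral X, geometric
integrality of the generic fibre in characteristic zero amounts to K being algebraically closed in
the function field, which is the form used here, and this row is the case of global sections over an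
affine X = Spec A.) -/
theorem result (R : Type u) [CommRing R] [IsDomain R]
    [IsDiscreteValuationRing R] [CharZero R] (K : Type u) [Field K] [Algebra R K] [IsFractionRing R K]
    (A : Type u) [CommRing A] [IsDomain A] [Algebra R A] [Module.FaithfullyFlat R A]
    (L : Type u) [Field L] [Algebra A L] [IsFractionRing A L] [Algebra R L] [Algebra K L]
    [IsScalarTower R A L] [IsScalarTower R K L]
    (hac : ∀ x : L, IsAlgebraic K x → x ∈ (algebraMap K L).range)
    (f : A) (hf : KaehlerDifferential.D R A f = 0) : f ∈ (algebraMap R A).range := by
  classical
  haveI : CharZero K := charZero_of_injective_algebraMap (IsFractionRing.injective R K)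
  have hAL : Function.Injective (algebraMap A L) := IsFractionRing.injective A L
  set g : L := algebraMap A L f with hg
  have hDg : KaehlerDifferential.D K L g = 0 := by
    have h := KaehlerDifferential.map_D R K A L f
    rw [hf, map_zero] at h
    exact h.symm
  have halg : IsAlgebraic K g := by
    by_contra htr
    have hind : AlgebraicIndepOn K id ({g} : Set L) :=
      (algebraicIndependent_singleton_iff (⟨g, rfl⟩ : ({g} : Set L))).mpr htr
    obtain ⟨t, hst, ht⟩ := exists_isTranscendenceBasis_superset hind
    exact Groth.Agent.S13153.aux K L g hDg t (hst rfl) ht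
  obtain ⟨x, hx⟩ := hac g halg
  -- x is an integer
  have hxint : ∃ r : R, algebraMap R K r = x := by
    rcases ValuationRing.isInteger_or_isInteger R x with h | h
    · exact h
    · obtain ⟨r, hr⟩ := h
      by_cases hx0 : x = 0
      · exact ⟨0, by rw [map_zero, hx0]⟩
      by_cases hru : IsUnit r
      · obtain ⟨u, rfl⟩ := hru
        refine ⟨↑u⁻¹, ?_⟩
        have h1 : algebraMap R K (↑u⁻¹ : R) * algebraMap R K (↑u : R) = 1 := by
          rw [← map_mul, Units.inv_mul, map_one]
        rw [hr] at h1
        exact eq_of_mul_inv_eq_one h1
      · exfalso
        have hrm : r ∈ IsLocalRing.maximalIdeal R := (IsLocalRing.mem_maximalIdeal r).mpr hru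
        have h1 : algebraMap R K r * x = 1 := by rw [hr]; exact inv_mul_cancel₀ hx0
        have h2 : algebraMap A L (algebraMap R A r * f) = 1 := by
          rw [map_mul, ← hg, ← hx, ← IsScalarTower.algebraMap_apply R A L,
            IsScalarTower.algebraMap_apply R K L, ← map_mul, h1, map_one]
        have h3 : algebraMap R A r * f = 1 := hAL (by rw [h2, map_one])
        have h4 := Module.FaithfullyFlat.submodule_ne_top (R := R) (M := A)
          (IsLocalRing.maximalIdeal.isMaximal R)
        apply h4
        rw [eq_top_iff]
        intro a _
        have h5 : a = r • (f * a) := by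
          rw [Algebra.smul_def, ← mul_assoc, h3, one_mul]
        rw [h5]
        exact Submodule.smul_mem_smul hrm Submodule.mem_top
  obtain ⟨r, hr⟩ := hxint
  refine ⟨r, hAL ?_⟩
  rw [← hg, ← hx, ← hr, ← IsScalarTower.algebraMap_apply, ← IsScalarTower.algebraMap_apply]

end Groth.Agent.S13153
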