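import Groth.Statements.S13154
import Mathlib

set_option autoImplicit false
universe u
open scoped TensorProduct
open CAlg

namespace Groth.Agent.S13154

open TensorProduct in
theorem exists_denominator {R K M : Type*} [CommRing R] [IsDomain R] [Field K] [Algebra R K]
    [IsFractionRing R K] [AddCommGroup M] [Module R M] (x : K ⊗[R] M) :
    ∃ (s : R) (m : M), s ≠ 0 ∧ s • x = (1 : K) ⊗ₜ[R] m := by
  induction x using TensorProduct.induction_on with
  | zero => exact ⟨1, 0, one_ne_zero, by simp⟩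
  | tmul k m =>
    obtain ⟨⟨r, s⟩, h⟩ := IsLocalization.surj (nonZeroDivisors R) k
    refine ⟨s, r • m, nonZeroDivisors.coe_ne_zero s, ?_⟩
    rw [TensorProduct.smul_tmul', Algebra.smul_def, mul_comm, h, TensorProduct.tmul_smul,
      TensorProduct.smul_tmul', Algebra.smul_def, mul_one]
  | add x y hx hy =>
    obtain ⟨s, m, hs, h⟩ := hx
    obtain ⟨s', m', hs', h'⟩ := hy
    refine ⟨s * s', s' • m + s • m', mul_ne_zero hs hs', ?_⟩
    rw [smul_add, mul_smul s s' y, h', mul_comm s s', mul_smul s' s x, h,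
      ← TensorProduct.tmul_smul, ← TensorProduct.tmul_smul, ← TensorProduct.tmul_add]

open TensorProduct in
theorem cartesian {R K A M : Type u} [CommRing R] [IsDomain R] [Field K] [Algebra R K]
    [IsFractionRing R K] [CommRing A] [Algebra R A] [Module.FaithfullyFlat R A]
    [AddCommGroup M] [Module R M] [Module.Flat R M]
    (x : K ⊗[R] M) (y : A ⊗[R] M)
    (h : (LinearMap.rTensor M
          (Algebra.TensorProduct.includeLeft : K →ₐ[R] K ⊗[R] A).toLinearMap) x =
         (LinearMap.rTensor M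
          (Algebra.TensorProduct.includeRight : A →ₐ[R] K ⊗[R] A).toLinearMap) y) :
    ∃ m : M, x = (1 : K) ⊗ₜ[R] m ∧ y = (1 : A) ⊗ₜ[R] m := by
  haveI : Module.Flat R K := IsLocalization.flat K (nonZeroDivisors R)
  obtain ⟨s, m₀, hs, hsx⟩ := exists_denominator x
  have hjA : Function.Injective (LinearMap.rTensor M
      (Algebra.TensorProduct.includeRight : A →ₐ[R] K ⊗[R] A).toLinearMap) :=
    Module.Flat.rTensor_preserves_injective_linearMap _
      (Algebra.TensorProduct.includeRight_injective (IsFractionRing.injective R K))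
  have e1 : (LinearMap.rTensor M
      (Algebra.TensorProduct.includeRight : A →ₐ[R] K ⊗[R] A).toLinearMap) (s • y) =
      (LinearMap.rTensor M
      (Algebra.TensorProduct.includeRight : A →ₐ[R] K ⊗[R] A).toLinearMap) ((1 : A) ⊗ₜ[R] m₀) := by
    rw [map_smul, ← h, ← map_smul, hsx]
    simp
  have e2 : s • y = (1 : A) ⊗ₜ[R] m₀ := hjA e1
  let W : Submodule R M := LinearMap.range (LinearMap.lsmul R M s)
  have hkill : ∀ w : A ⊗[R] (M ⧸ W), s • w = 0 := by
    intro w
    induction w using TensorProduct.induction_on with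
    | zero => simp
    | tmul a n =>
      obtain ⟨n, rfl⟩ := Submodule.Quotient.mk_surjective W n
      rw [← TensorProduct.tmul_smul, ← Submodule.Quotient.mk_smul,
        (Submodule.Quotient.mk_eq_zero W).mpr (show s • n ∈ W from ⟨n, rfl⟩),
        TensorProduct.tmul_zero]
    | add x y hx hy => rw [smul_add, hx, hy, add_zero]
  have e3 : (TensorProduct.mk R A (M ⧸ W) 1) (W.mkQ m₀) = 0 := by
    have h3 := congrArg (LinearMap.lTensor A W.mkQ) e2
    rw [map_smul, hkill, LinearMap.lTensor_tmul] at h3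
    exact h3.symm
  have e4 : W.mkQ m₀ = 0 := by
    apply Module.FaithfullyFlat.tensorProduct_mk_injective (A := R) (B := A) (M ⧸ W)
    rw [e3, map_zero]
  obtain ⟨m₁, hm₁⟩ : ∃ m₁, s • m₁ = m₀ := by
    have h4 : m₀ ∈ W := (Submodule.Quotient.mk_eq_zero W).mp e4
    exact h4
  refine ⟨m₁, ?_, ?_⟩
  · have hreg : Function.Injective (fun z : K ⊗[R] M => s • z) :=
      Module.Flat.isSMulRegular_of_nonZeroDivisors (M := K ⊗[R] M)
        (mem_nonZeroDivisors_of_ne_zero hs)
    apply hreg
    show s • x = s • ((1 : K) ⊗ₜ[R] m₁)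
    rw [hsx, ← hm₁, TensorProduct.tmul_smul]
  · have hreg : Function.Injective (fun z : A ⊗[R] M => s • z) :=
      Module.Flat.isSMulRegular_of_nonZeroDivisors (M := A ⊗[R] M)
        (mem_nonZeroDivisors_of_ne_zero hs)
    apply hreg
    show s • y = s • ((1 : A) ⊗ₜ[R] m₁)
    rw [e2, ← hm₁, TensorProduct.tmul_smul]

open TensorProduct in
theorem map_id_eq_rTensor {R X Y M : Type*} [CommRing R] [CommRing X] [CommRing Y] [CommRing M]
    [Algebra R X] [Algebra R Y] [Algebra R M] (f : X →ₐ[R] Y) (z : X ⊗[R] M) :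
    Algebra.TensorProduct.map f (AlgHom.id R M) z = f.toLinearMap.rTensor M z := by
  induction z using TensorProduct.induction_on with
  | zero => simp
  | tmul a b => simp
  | add x y hx hy => rw [map_add, map_add, hx, hy]

/-- Let R be a discrete valuation ring with fraction field K, A a faithfully flat R-algebra (an affine
faithfully flat base change S' → S = Spec R) and B₁, B₂ flat R-algebras (two affine S-schemes X₁ =
Spec B₁, X₂ = Spec B₂, flat over S). Suppose given a K-algebra homomorphism φ_K : K ⊗ B₂ → K ⊗ B₁ (a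
morphism of the generic fibres X₁,K → X₂,K) and an A-algebra homomorphism φ_A : A ⊗ B₂ → A ⊗ B₁ (a
morphism X₁ ×_S S' → X₂ ×_S S' over S') which coincide after base change to K ⊗ A, in the sense that
for every b ∈ B₂ the images of φ_K(1 ⊗ b) and φ_A(1 ⊗ b) in (K ⊗ A) ⊗ B₁ agree. Then there is
exactly one R-algebra homomorphism φ : B₂ → B₁ (a morphism X₁ → X₂) whose base changes to K and to A
are φ_K and φ_A. (The published statement assumes only X₂ flat over S; flatness of X₁ is also
needed: with B₂ = R[t], B₁ = R[e]/(e², πe) for a uniformizer π and A = R[x], the maps t ↦ 0 over K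
and t ↦ e x over A agree over K ⊗ A = K[x] but come from no map over R.) -/
theorem result (R : Type u) [CommRing R] [IsDomain R]
    [IsDiscreteValuationRing R] (K : Type u) [Field K] [Algebra R K] [IsFractionRing R K]
    (A : Type u) [CommRing A] [Algebra R A] [Module.FaithfullyFlat R A]
    (B₁ B₂ : Type u) [CommRing B₁] [CommRing B₂] [Algebra R B₁] [Algebra R B₂]
    [Module.Flat R B₁] [Module.Flat R B₂]
    (φK : K ⊗[R] B₂ →ₐ[K] K ⊗[R] B₁) (φA : A ⊗[R] B₂ →ₐ[A] A ⊗[R] B₁)
    (hcomp : ∀ b : B₂,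
      Algebra.TensorProduct.map (Algebra.TensorProduct.includeLeft : K →ₐ[R] K ⊗[R] A) (AlgHom.id R B₁)
          (φK (1 ⊗ₜ b)) =
        Algebra.TensorProduct.map (Algebra.TensorProduct.includeRight : A →ₐ[R] K ⊗[R] A) (AlgHom.id R B₁)
          (φA (1 ⊗ₜ b))) :
    ∃! φ : B₂ →ₐ[R] B₁, (∀ b : B₂, φK (1 ⊗ₜ b) = 1 ⊗ₜ φ b) ∧ (∀ b : B₂, φA (1 ⊗ₜ b) = 1 ⊗ₜ φ b) := by
  have hinjK : Function.Injective (algebraMap R K) := IsFractionRing.injective R K
  haveI : Module.Flat R K := IsLocalization.flat K (nonZeroDivisors R)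
  have hι : Function.Injective (fun m : B₁ => (1 : K) ⊗ₜ[R] m) :=
    Algebra.TensorProduct.includeRight_injective (R := R) (A := K) (B := B₁) hinjK
  have key : ∀ b : B₂, ∃ m : B₁, φK (1 ⊗ₜ b) = 1 ⊗ₜ m ∧ φA (1 ⊗ₜ b) = 1 ⊗ₜ m := by
    intro b
    apply cartesian
    rw [← map_id_eq_rTensor, ← map_id_eq_rTensor]
    exact hcomp b
  choose φ0 hφK hφA using key
  have huniq : ∀ (b : B₂) (m : B₁), φK (1 ⊗ₜ b) = 1 ⊗ₜ m → φ0 b = m :=
    fun b m h => hι ((hφK b).symm.trans h)
  have halg : ∀ (X : Type u) [CommRing X] [Algebra R X] (r : R),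
      (1 : K) ⊗ₜ[R] (algebraMap R X r) = algebraMap K (K ⊗[R] X) (algebraMap R K r) := by
    intro X _ _ r
    rw [Algebra.TensorProduct.algebraMap_apply, Algebra.algebraMap_self, RingHom.id_apply,
      Algebra.algebraMap_eq_smul_one, Algebra.algebraMap_eq_smul_one r (A := K),
      TensorProduct.smul_tmul]
  let φ : B₂ →ₐ[R] B₁ :=
    { toFun := φ0
      map_one' := huniq 1 1 (by
        rw [← Algebra.TensorProduct.one_def, map_one, Algebra.TensorProduct.one_def])
      map_mul' := fun a b => huniq _ _ (by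
        have h1 : (1 : K) ⊗ₜ[R] (a * b) = ((1 : K) ⊗ₜ[R] a) * ((1 : K) ⊗ₜ[R] b) := by
          rw [Algebra.TensorProduct.tmul_mul_tmul, one_mul]
        rw [h1, map_mul, hφK, hφK, Algebra.TensorProduct.tmul_mul_tmul, one_mul])
      map_zero' := huniq 0 0 (by rw [TensorProduct.tmul_zero, map_zero, TensorProduct.tmul_zero])
      map_add' := fun a b => huniq _ _ (by
        rw [TensorProduct.tmul_add, map_add, hφK, hφK, TensorProduct.tmul_add])
      commutes' := fun r => huniq _ _ (by
        rw [halg B₂ r, AlgHom.commutes, ← halg B₁ r]) }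
  refine ⟨φ, ⟨hφK, hφA⟩, ?_⟩
  rintro φ' ⟨h1, -⟩
  exact AlgHom.ext fun b => (huniq b (φ' b) (h1 b)).symm

end Groth.Agent.S13154
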