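import Groth.Statements.S13156
import Mathlib

set_option autoImplicit false
universe u
open scoped Polynomial
open CAlg

namespace Groth.Agent.S13156


section Aux
variable {A : Type u} [CommRing A]

/-- the substitution `T ↦ 0` -/
noncomputable def eps0 : MvPolynomial (Fin 2) A →ₐ[A] MvPolynomial (Fin 2) A :=
  MvPolynomial.aeval (![MvPolynomial.X 0, 0] : Fin 2 → MvPolynomial (Fin 2) A)

theorem eps0_X0 : eps0 (MvPolynomial.X 0 : MvPolynomial (Fin 2) A) = MvPolynomial.X 0 := by
  simp [eps0]

theorem eps0_X1 : eps0 (MvPolynomial.X 1 : MvPolynomial (Fin 2) A) = 0 := by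
  simp [eps0]

theorem eps0_C (a : A) : eps0 (MvPolynomial.C a : MvPolynomial (Fin 2) A) = MvPolynomial.C a := by
  simp [eps0]

theorem dec (Q : MvPolynomial (Fin 2) A) :
    ∃ Z, Q = eps0 Q + MvPolynomial.X 1 * Z := by
  induction Q using MvPolynomial.induction_on with
  | C a => exact ⟨0, by rw [eps0_C]; ring⟩
  | add p q hp hq =>
    obtain ⟨Z₁, h₁⟩ := hp
    obtain ⟨Z₂, h₂⟩ := hq
    refine ⟨Z₁ + Z₂, ?_⟩
    rw [map_add]
    linear_combination h₁ + h₂
  | mul_X p i hp =>
    obtain ⟨Z, h⟩ := hp
    rw [map_mul]
    fin_cases i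
    · refine ⟨Z * MvPolynomial.X 0, ?_⟩
      show p * MvPolynomial.X 0 = eps0 p * eps0 (MvPolynomial.X 0) + _
      rw [eps0_X0]
      linear_combination (MvPolynomial.X 0 : MvPolynomial (Fin 2) A) * h
    · refine ⟨p, ?_⟩
      show p * MvPolynomial.X 1 = eps0 p * eps0 (MvPolynomial.X 1) + _
      rw [eps0_X1]
      ring

theorem coeff_of_eps0_zero (Q : MvPolynomial (Fin 2) A) (hQ : eps0 Q = 0) (m : Fin 2 →₀ ℕ)
    (hm : m 1 = 0) : MvPolynomial.coeff m Q = 0 := by
  classical
  obtain ⟨Z, hZ⟩ := dec Q
  rw [hZ, hQ, zero_add, MvPolynomial.coeff_X_mul', if_neg]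
  rw [Finsupp.mem_support_iff, not_not]
  exact hm

theorem degOf_aeval (F : A[X]) (q : MvPolynomial (Fin 2) A) :
    MvPolynomial.degreeOf 1 (Polynomial.aeval q F) ≤ F.natDegree * MvPolynomial.degreeOf 1 q := by
  rw [Polynomial.aeval_eq_sum_range]
  refine (MvPolynomial.degreeOf_sum_le _ _ _).trans ?_
  apply Finset.sup_le
  intro j hj
  rw [MvPolynomial.smul_eq_C_mul]
  refine (MvPolynomial.degreeOf_C_mul_le _ _ _).trans ?_
  refine (MvPolynomial.degreeOf_pow_le _ _ _).trans ?_
  apply Nat.mul_le_mul_right
  rw [Finset.mem_range] at hj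
  omega

theorem coeff_zero_of_degOf (Q : MvPolynomial (Fin 2) A) (d : ℕ) (hd : 0 < d)
    (h : MvPolynomial.degreeOf 1 Q < d) (m : Fin 2 →₀ ℕ) (hm : d ≤ m 1) :
    MvPolynomial.coeff m Q = 0 := by
  by_contra hne
  have hmem : m ∈ Q.support := MvPolynomial.mem_support_iff.mpr hne
  have := (MvPolynomial.degreeOf_lt_iff hd).mp h m hmem
  omega

end Aux


/-- Let p be a prime number, A a commutative ring in which (p−1)! is invertible, μ an element of A, and
F ∈ A[X] a polynomial of degree at most p − 1 with coefficients a_0, a_1, …. Then the identity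
F(S)·F(T) − a_0² = F(S + T + μST) − a_0 holds in the polynomial ring A[S, T] if and only if a_1·F(S)
= F′(S)·(1 + μS) holds in A[S], F′ the formal derivative. (The published statement is over the
quotient of a discrete valuation ring of residue characteristic p by a nonzero element of its
maximal ideal; only the invertibility of 1, …, p − 1 is used, so an arbitrary such ring A is allowed
here.) -/
theorem result (A : Type u) [CommRing A] (p : ℕ) [Fact p.Prime]
    (hu : IsUnit ((Nat.factorial (p - 1) : ℕ) : A)) (μ : A) (F : A[X]) (hF : F.natDegree < p) :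
    (Polynomial.aeval (MvPolynomial.X 0 : MvPolynomial (Fin 2) A) F *
          Polynomial.aeval (MvPolynomial.X 1 : MvPolynomial (Fin 2) A) F - MvPolynomial.C (F.coeff 0 ^ 2) =
        Polynomial.aeval (MvPolynomial.X 0 + MvPolynomial.X 1 +
            MvPolynomial.C μ * MvPolynomial.X 0 * MvPolynomial.X 1 : MvPolynomial (Fin 2) A) F -
          MvPolynomial.C (F.coeff 0)) ↔
      F * Polynomial.C (F.coeff 1) = Polynomial.derivative F * (1 + Polynomial.C μ * Polynomial.X) := by
  classical
  -- abbreviations
  set a₀ := F.coeff 0 with ha₀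
  set a₁ := F.coeff 1 with ha₁
  set S : (MvPolynomial (Fin 2) A) := MvPolynomial.X 0 with hS
  set T : (MvPolynomial (Fin 2) A) := MvPolynomial.X 1 with hT
  set U : (MvPolynomial (Fin 2) A) := S + T + MvPolynomial.C μ * S * T with hU
  let D : Derivation A (MvPolynomial (Fin 2) A) (MvPolynomial (Fin 2) A) := MvPolynomial.pderiv 1
  have hDS : D S = 0 := MvPolynomial.pderiv_X_of_ne (by decide)
  have hDT : D T = 1 := MvPolynomial.pderiv_X_self 1
  have hDC : ∀ a : A, D (MvPolynomial.C a) = 0 := fun a => MvPolynomial.pderiv_C
  have hDU : D U = 1 + MvPolynomial.C μ * S := by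
    rw [hU, map_add, map_add, hDS, hDT, Derivation.leibniz, Derivation.leibniz, hDC, hDS, hDT]
    simp only [smul_eq_mul]
    ring
  have hDev : ∀ q : (MvPolynomial (Fin 2) A), D (Polynomial.aeval q F) = Polynomial.aeval q (Polynomial.derivative F) * D q :=
    fun q => by rw [Derivation.map_aeval, smul_eq_mul]
  have hcoefD0 : (Polynomial.derivative F).coeff 0 = a₁ := by
    rw [Polynomial.coeff_derivative]
    simp [ha₁]
  constructor
  · -- (⇒)
    intro hI
    have h1 := congrArg D hI
    rw [map_sub, map_sub, hDC, hDC, sub_zero, sub_zero, Derivation.leibniz, hDev S, hDev T, hDev U,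
      hDS, hDT, hDU] at h1
    simp only [smul_eq_mul, mul_zero, add_zero, mul_one] at h1
    -- h1 : ev S * ev' T = ev' U * (1 + C μ * S)
    let ε : (MvPolynomial (Fin 2) A) →ₐ[A] A[X] := MvPolynomial.aeval (![Polynomial.X, 0] : Fin 2 → A[X])
    have hεS : ε S = Polynomial.X := by simp [ε, hS]
    have hεT : ε T = 0 := by simp [ε, hT]
    have hεC : ∀ a : A, ε (MvPolynomial.C a) = Polynomial.C a := fun a => by
      simp [ε, Polynomial.C_eq_algebraMap]
    have hεU : ε U = Polynomial.X := by
      rw [hU, map_add, map_add, map_mul, map_mul, hεS, hεT]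
      ring
    have hεev : ∀ (q : (MvPolynomial (Fin 2) A)) (G : A[X]), ε (Polynomial.aeval q G) = Polynomial.aeval (ε q) G :=
      fun q G => (Polynomial.aeval_algHom_apply ε q G).symm
    have h2 := congrArg ε h1
    rw [map_mul, map_mul, hεev, hεev, hεev, hεS, hεT, hεU, map_add, map_one, map_mul, hεC, hεS,
      Polynomial.aeval_X_left_apply, Polynomial.aeval_X_left_apply,
      ← Polynomial.coeff_zero_eq_aeval_zero', hcoefD0, ← Polynomial.C_eq_algebraMap] at h2
    exact h2
  · -- (⇐)
    intro hII
    rcases subsingleton_or_nontrivial A with hsub | hnt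
    · apply MvPolynomial.ext
      intro m
      exact Subsingleton.elim _ _
    have hp : p.Prime := Fact.out
    -- units
    have hunit : ∀ t : ℕ, 0 < t → t < p → IsUnit ((t : ℕ) : A) := by
      intro t ht htp
      obtain ⟨k, hk⟩ := Nat.dvd_factorial ht (Nat.le_sub_one_of_lt htp)
      rw [hk, Nat.cast_mul] at hu
      exact isUnit_of_mul_isUnit_left hu
    -- recursion for coefficients
    have hXF : ∀ j : ℕ, (Polynomial.X * Polynomial.derivative F).coeff j = F.coeff j * (j : A) := by
      intro j
      cases j with
      | zero => simp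
      | succ j =>
        rw [Polynomial.coeff_X_mul, Polynomial.coeff_derivative]
        push_cast
        ring
    have hrecF : ∀ j : ℕ, F.coeff j * a₁ =
        F.coeff (j + 1) * ((j : A) + 1) + μ * (F.coeff j * (j : A)) := by
      intro j
      have h : (F * Polynomial.C a₁).coeff j =
          (Polynomial.derivative F * (1 + Polynomial.C μ * Polynomial.X)).coeff j := by rw [hII]
      rw [Polynomial.coeff_mul_C,
        show Polynomial.derivative F * (1 + Polynomial.C μ * Polynomial.X) =
          Polynomial.derivative F + Polynomial.C μ * (Polynomial.X * Polynomial.derivative F) by ring,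
        Polynomial.coeff_add, Polynomial.coeff_C_mul, hXF, Polynomial.coeff_derivative] at h
      exact h
    -- (1 - a₀) a_j = 0 for j ≥ 1
    have hua : ∀ j : ℕ, 1 ≤ j → (1 - a₀) * F.coeff j = 0 := by
      intro j hj
      induction j, hj using Nat.le_induction with
      | base =>
        have h := hrecF 0
        simp only [Nat.cast_zero, zero_add, mul_zero, add_zero, mul_one] at h
        linear_combination -h
      | succ j hj ih =>
        by_cases hjp : j + 1 < p
        · have h := hrecF j
          have h3 : (1 - a₀) * F.coeff (j + 1) * (((j + 1 : ℕ) : A)) = 0 := by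
            push_cast
            linear_combination (-(1 - a₀)) * h + (a₁ - μ * (j : A)) * ih
          exact (hunit (j + 1) (Nat.succ_pos j) hjp).mul_left_eq_zero.mp h3
        · rw [Polynomial.coeff_eq_zero_of_natDegree_lt (by omega), mul_zero]
    -- C (1 - a₀) * F = C ((1 - a₀) * a₀)
    have hCF : Polynomial.C (1 - a₀) * F = Polynomial.C ((1 - a₀) * a₀) := by
      ext j
      rw [Polynomial.coeff_C_mul, Polynomial.coeff_C]
      cases j with
      | zero => simp [ha₀]
      | succ j => rw [hua (j + 1) (Nat.succ_pos j)]; simp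
    -- the polynomial Y
    set Y : (MvPolynomial (Fin 2) A) := Polynomial.aeval U F - Polynomial.aeval S F * Polynomial.aeval T F -
      MvPolynomial.C a₀ + MvPolynomial.C (a₀ ^ 2) with hY
    suffices hY0 : Y = 0 by
      rw [hY] at hY0
      linear_combination -hY0
    -- (II) evaluated at q
    have hIIq : ∀ q : (MvPolynomial (Fin 2) A), Polynomial.aeval q F * MvPolynomial.C a₁ =
        Polynomial.aeval q (Polynomial.derivative F) * (1 + MvPolynomial.C μ * q) := by
      intro q
      have h := congrArg (Polynomial.aeval q) hII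
      rw [map_mul, map_mul, map_add, map_one, map_mul, Polynomial.aeval_C, Polynomial.aeval_C,
        Polynomial.aeval_X] at h
      exact h
    have ha1u : a₁ * (a₀ - a₀ ^ 2) = 0 := by
      have h := hua 1 le_rfl
      linear_combination a₀ * h
    -- ODE for Y
    have hode : (1 + MvPolynomial.C μ * T) * D Y = MvPolynomial.C a₁ * Y := by
      have hDY : D Y = Polynomial.aeval U (Polynomial.derivative F) * (1 + MvPolynomial.C μ * S) -
          Polynomial.aeval S F * Polynomial.aeval T (Polynomial.derivative F) := by
        rw [hY, map_add, map_sub, map_sub, hDC, hDC, Derivation.leibniz, hDev S, hDev T, hDev U,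
          hDS, hDT, hDU]
        simp only [smul_eq_mul, mul_zero, add_zero, mul_one, sub_zero]
      have hUU : (1 + MvPolynomial.C μ * S) * (1 + MvPolynomial.C μ * T) = 1 + MvPolynomial.C μ * U := by
        rw [hU]
        ring
      have hC : (MvPolynomial.C (a₁ * (a₀ - a₀ ^ 2)) : (MvPolynomial (Fin 2) A)) = 0 := by rw [ha1u, map_zero]
      rw [map_mul, map_sub] at hC
      rw [hDY, hY]
      linear_combination (-1 : (MvPolynomial (Fin 2) A)) * hIIq U + Polynomial.aeval S F * hIIq T +
        Polynomial.aeval U (Polynomial.derivative F) * hUU + hC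
    -- coefficient recursion for Y
    have hrecY : ∀ m : Fin 2 →₀ ℕ,
        MvPolynomial.coeff (m + Finsupp.single 1 1) Y * ((m 1 : A) + 1) +
          μ * MvPolynomial.coeff m (T * D Y) = a₁ * MvPolynomial.coeff m Y := by
      intro m
      have h := congrArg (MvPolynomial.coeff m) hode
      rw [show (1 + MvPolynomial.C μ * T) * D Y = D Y + MvPolynomial.C μ * (T * D Y) by ring,
        MvPolynomial.coeff_add, MvPolynomial.coeff_C_mul, MvPolynomial.coeff_C_mul] at h
      have h2 : MvPolynomial.coeff m (D Y) =
          MvPolynomial.coeff (m + Finsupp.single 1 1) Y * ((m 1 : A) + 1) :=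
        MvPolynomial.coeff_pderiv Y m
      rw [h2] at h
      exact h
    -- ε₀ Y = 0
    have he0ev : ∀ (q : (MvPolynomial (Fin 2) A)) (G : A[X]), eps0 (Polynomial.aeval q G) = Polynomial.aeval (eps0 q) G :=
      fun q G => (Polynomial.aeval_algHom_apply eps0 q G).symm
    have he0U : eps0 U = S := by
      rw [hU, map_add, map_add, map_mul, map_mul, hS, hT, eps0_X0, eps0_X1]
      ring
    have hCuS : MvPolynomial.C (1 - a₀) * Polynomial.aeval S F = MvPolynomial.C ((1 - a₀) * a₀) := by
      have h := congrArg (Polynomial.aeval S) hCF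
      rw [map_mul, Polynomial.aeval_C, Polynomial.aeval_C] at h
      exact h
    have he0Y : eps0 Y = 0 := by
      rw [hY, map_add, map_sub, map_sub, map_mul, he0ev, he0ev, he0ev, he0U, eps0_C, eps0_C, hS, hT,
        eps0_X0, eps0_X1, ← Polynomial.coeff_zero_eq_aeval_zero']
      rw [← hS]
      have : (algebraMap A (MvPolynomial (Fin 2) A)) (F.coeff 0) = MvPolynomial.C a₀ := rfl
      rw [this]
      rw [map_mul, map_sub, map_one] at hCuS
      rw [map_pow]
      linear_combination hCuS
    -- degree bound
    have hdS : MvPolynomial.degreeOf 1 S = 0 := MvPolynomial.degreeOf_X_of_ne (by decide)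
    have hdT : MvPolynomial.degreeOf 1 T = 1 := MvPolynomial.degreeOf_X_self 1
    have hdU : MvPolynomial.degreeOf 1 U ≤ 1 := by
      rw [hU]
      refine (MvPolynomial.degreeOf_add_le _ _ _).trans (max_le ?_ ?_)
      · refine (MvPolynomial.degreeOf_add_le _ _ _).trans (max_le ?_ ?_)
        · rw [hdS]; exact Nat.zero_le _
        · rw [hdT]
      · refine (MvPolynomial.degreeOf_mul_le _ _ _).trans ?_
        have h1 : MvPolynomial.degreeOf 1 (MvPolynomial.C μ * S) ≤ 0 := by
          refine (MvPolynomial.degreeOf_C_mul_le _ _ _).trans ?_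
          rw [hdS]
        omega
    have hppos : 0 < p := hp.pos
    have hdeg : ∀ m : Fin 2 →₀ ℕ, p ≤ m 1 → MvPolynomial.coeff m Y = 0 := by
      intro m hm
      have c1 : MvPolynomial.coeff m (Polynomial.aeval U F) = 0 := by
        apply coeff_zero_of_degOf _ p hppos _ m hm
        have := degOf_aeval F U
        have h2 : F.natDegree * MvPolynomial.degreeOf 1 U ≤ F.natDegree := by
          calc F.natDegree * MvPolynomial.degreeOf 1 U ≤ F.natDegree * 1 := Nat.mul_le_mul_left _ hdU
            _ = F.natDegree := mul_one _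
        omega
      have c2 : MvPolynomial.coeff m (Polynomial.aeval S F * Polynomial.aeval T F) = 0 := by
        apply coeff_zero_of_degOf _ p hppos _ m hm
        have h1 := MvPolynomial.degreeOf_mul_le 1 (Polynomial.aeval S F) (Polynomial.aeval T F)
        have h2 := degOf_aeval F S
        have h3 := degOf_aeval F T
        rw [hdS, mul_zero] at h2
        rw [hdT, mul_one] at h3
        omega
      have c3 : ∀ a : A, MvPolynomial.coeff m (MvPolynomial.C a : (MvPolynomial (Fin 2) A)) = 0 := by
        intro a
        apply coeff_zero_of_degOf _ p hppos _ m hm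
        rw [MvPolynomial.degreeOf_C]
        exact hppos
      rw [hY, MvPolynomial.coeff_add, MvPolynomial.coeff_sub, MvPolynomial.coeff_sub, c1, c2, c3, c3]
      ring
    -- induction on the T-degree
    have hind : ∀ t : ℕ, t < p → ∀ m : Fin 2 →₀ ℕ, m 1 = t → MvPolynomial.coeff m Y = 0 := by
      intro t
      induction t with
      | zero =>
        intro _ m hm
        exact coeff_of_eps0_zero Y he0Y m hm
      | succ t ih =>
        intro htp m' hm'
        have iht := ih (by omega)
        set m : Fin 2 →₀ ℕ := m' - Finsupp.single 1 1 with hm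
        have hm1 : m 1 = t := by
          rw [hm, Finsupp.tsub_apply, hm', Finsupp.single_eq_same]
          omega
        have hmm : m + Finsupp.single 1 1 = m' := by
          ext i
          fin_cases i
          · simp [hm]
          · simp only [hm, Finsupp.add_apply, Finsupp.tsub_apply, Finsupp.single_eq_same,
              Fin.mk_one, Fin.isValue]
            omega
        have h := hrecY m
        rw [hmm, iht m hm1, mul_zero] at h
        have hZ : MvPolynomial.coeff m (T * D Y) = 0 := by
          rw [hT, MvPolynomial.coeff_X_mul']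
          split_ifs with hsupp
          · show MvPolynomial.coeff (m - Finsupp.single 1 1) (MvPolynomial.pderiv 1 Y) = 0
            rw [MvPolynomial.coeff_pderiv, iht, zero_mul]
            rw [Finsupp.mem_support_iff, hm1] at hsupp
            rw [Finsupp.add_apply, Finsupp.tsub_apply, Finsupp.single_eq_same, hm1]
            omega
          · rfl
        rw [hZ, mul_zero, add_zero, hm1] at h
        have hu' := hunit (t + 1) (Nat.succ_pos t) htp
        rw [Nat.cast_add, Nat.cast_one] at hu'
        exact hu'.mul_left_eq_zero.mp h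
    apply MvPolynomial.ext
    intro m
    rw [MvPolynomial.coeff_zero]
    by_cases hm : m 1 < p
    · exact hind (m 1) hm m rfl
    · exact hdeg m (by omega)

end Groth.Agent.S13156
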