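import Groth.Statements.S13157
import Mathlib

set_option autoImplicit false
universe u
open scoped Polynomial
open CAlg

namespace Groth.Agent.S13157

/-- (i) ⇔ (ii): let p be a prime number, A a commutative ring in which (p−1)! is invertible, μ ∈ A, and
F ∈ A[X] a polynomial of degree at most p − 1 with constant term a_0 = 1 and coefficients a_1, a_2,
…. Then the relations a_{r−1}·a_1 = (r − 1)μ·a_{r−1} + r·a_r for 1 ≤ r ≤ p (with a_p = 0), written
here as the single identity a_1·F = F′·(1 + μX), hold if and only if r!·a_r = ∏_{k=0}^{r−1} (a_1 −
kμ) for every 1 ≤ r ≤ p − 1 and ∏_{k=0}^{p−1} (a_1 − kμ) = 0. (The published statement lists the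
relations only for 1 ≤ r ≤ p − 1, while its proof uses and derives the relation for r = p as well,
which is needed for the vanishing of the last product; it is included here. The published setting is
the quotient of a discrete valuation ring of residue characteristic p by a nonzero non-unit; only
the invertibility of 1, …, p − 1 is used.) -/
theorem result (A : Type u) [CommRing A] (p : ℕ) [Fact p.Prime]
    (hu : IsUnit ((Nat.factorial (p - 1) : ℕ) : A)) (μ : A) (F : A[X]) (hF : F.natDegree < p)
    (h0 : F.coeff 0 = 1) :
    F * Polynomial.C (F.coeff 1) = Polynomial.derivative F * (1 + Polynomial.C μ * Polynomial.X) ↔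
      ((∀ r : ℕ, 1 ≤ r → r < p →
          (r.factorial : A) * F.coeff r = ∏ k ∈ Finset.range r, (F.coeff 1 - (k : A) * μ)) ∧
        ∏ k ∈ Finset.range p, (F.coeff 1 - (k : A) * μ) = 0) := by
  classical
  have hp : p.Prime := Fact.out
  have hp1 : 1 ≤ p := hp.one_lt.le
  have hcoef : (F * Polynomial.C (F.coeff 1) = Polynomial.derivative F * (1 + Polynomial.C μ * Polynomial.X)) ↔
      ∀ j : ℕ, F.coeff (j+1) * ((j:A)+1) = (F.coeff 1 - (j:A) * μ) * F.coeff j := by
    rw [Polynomial.ext_iff]
    refine forall_congr' fun j => ?_
    have h1 : (F * Polynomial.C (F.coeff 1)).coeff j = F.coeff j * F.coeff 1 :=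
      Polynomial.coeff_mul_C _ _ _
    have h3 : (Polynomial.derivative F * Polynomial.C μ * Polynomial.X).coeff j
        = (j:A) * μ * F.coeff j := by
      cases j with
      | zero => simp
      | succ i =>
        rw [Polynomial.coeff_mul_X, Polynomial.coeff_mul_C, Polynomial.coeff_derivative]
        push_cast; ring
    have h2 : (Polynomial.derivative F * (1 + Polynomial.C μ * Polynomial.X)).coeff j
        = F.coeff (j+1) * ((j:A)+1) + (j:A) * μ * F.coeff j := by
      rw [mul_add, mul_one, Polynomial.coeff_add, Polynomial.coeff_derivative, ← mul_assoc, h3]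
    rw [h1, h2]
    constructor
    · intro h; linear_combination -h
    · intro h; linear_combination -h
  rw [hcoef]
  have hcp : ∀ j, p ≤ j → F.coeff j = 0 := fun j hj =>
    Polynomial.coeff_eq_zero_of_natDegree_lt (lt_of_lt_of_le hF hj)
  constructor
  · intro hrec
    have hall : ∀ r : ℕ, (r.factorial : A) * F.coeff r =
        ∏ k ∈ Finset.range r, (F.coeff 1 - (k : A) * μ) := by
      intro r
      induction r with
      | zero => simp [h0]
      | succ r ih =>
        rw [Finset.prod_range_succ, ← ih, Nat.factorial_succ]
        push_cast
        linear_combination (r.factorial : A) * hrec r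
    refine ⟨fun r _ _ => hall r, ?_⟩
    rw [← hall p, hcp p le_rfl, mul_zero]
  · rintro ⟨hr, hprod⟩ j
    have hall : ∀ r : ℕ, r < p → (r.factorial : A) * F.coeff r =
        ∏ k ∈ Finset.range r, (F.coeff 1 - (k : A) * μ) := by
      intro r hrp
      rcases Nat.eq_zero_or_pos r with rfl | hpos
      · simp [h0]
      · exact hr r hpos hrp
    have hunit : ∀ r : ℕ, r < p → IsUnit ((r.factorial : ℕ) : A) := by
      intro r hrp
      have hdvd : r.factorial ∣ (p-1).factorial := Nat.factorial_dvd_factorial (by omega)
      exact isUnit_of_dvd_unit (Nat.cast_dvd_cast (α := A) hdvd) hu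
    rcases lt_trichotomy (j+1) p with hlt | heq | hgt
    · have hj : j < p := by omega
      apply (hunit j hj).mul_left_cancel
      have e1 := hall (j+1) hlt
      have e2 := hall j hj
      rw [Finset.prod_range_succ, ← e2, Nat.factorial_succ] at e1
      push_cast at e1 ⊢
      linear_combination e1
    · have hj : j < p := by omega
      apply (hunit j hj).mul_left_cancel
      have e2 := hall j hj
      have this : ∏ k ∈ Finset.range (j+1), (F.coeff 1 - (k : A) * μ) = 0 := by
        rw [heq]; exact hprod
      rw [Finset.prod_range_succ, ← e2] at this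
      rw [hcp (j+1) (by omega)]
      linear_combination -this
    · rw [hcp (j+1) (by omega), hcp j (by omega)]; ring

end Groth.Agent.S13157
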