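import Groth.Statements.S13158
import Mathlib

set_option autoImplicit false
universe u
open CAlg

namespace Groth.Agent.S13158


section Helpers

variable {A : Type u} [CommRing A] [IsDomain A] [IsIntegrallyClosed A]

lemma base (p : ℕ) (hp : p.Prime)
    (μ : A) (hμ0 : μ ≠ 0) (hμ : μ ^ (p - 1) ∣ (p : A)) (y : A) :
    μ ^ p ∣ y ^ p - 1 ↔ μ ∣ y - 1 := by
  obtain ⟨p', rfl⟩ : ∃ p', p = p' + 1 := ⟨p - 1, (Nat.sub_add_cancel hp.pos).symm⟩
  rw [Nat.add_sub_cancel] at hμ
  obtain ⟨c, hc⟩ := hμ
  obtain ⟨r, hr⟩ := exists_add_pow_prime_eq hp (y - 1) 1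
  have hy : y ^ (p' + 1) - 1 = (y - 1) ^ (p' + 1) + μ ^ p' * c * (y - 1) * r := by
    have h1 : y - 1 + 1 = y := by ring
    rw [h1, one_pow, mul_one, hc] at hr
    rw [hr]; ring
  constructor
  · rintro ⟨a, ha⟩
    have hinj := IsFractionRing.injective A (FractionRing A)
    have hm0 : algebraMap A (FractionRing A) μ ≠ 0 := fun h =>
      hμ0 (hinj (h.trans (map_zero _).symm))
    have hA : (y - 1) ^ (p' + 1) + μ ^ p' * (c * r) * (y - 1) = μ ^ (p' + 1) * a := by
      rw [← ha, hy]; ring
    have hK := congrArg (algebraMap A (FractionRing A)) hA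
    simp only [map_add, map_mul, map_pow] at hK
    obtain ⟨v, hv⟩ : ∃ v, algebraMap A (FractionRing A) (y - 1) =
        algebraMap A (FractionRing A) μ * v :=
      ⟨algebraMap A (FractionRing A) (y - 1) / algebraMap A (FractionRing A) μ, by field_simp⟩
    rw [hv] at hK
    have hint : IsIntegral A v := by
      refine ⟨Polynomial.X ^ (p' + 1) +
        (Polynomial.C (c * r) * Polynomial.X - Polynomial.C a), ?_, ?_⟩
      · apply Polynomial.monic_X_pow_add
        refine (Polynomial.degree_sub_le _ _).trans_lt (max_lt ?_ ?_)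
        · exact (Polynomial.degree_C_mul_X_le _).trans_lt (by exact_mod_cast hp.one_lt)
        · exact (Polynomial.degree_C_le).trans_lt (by exact_mod_cast hp.pos)
      · rw [← Polynomial.aeval_def]
        simp only [map_add, map_sub, map_mul, map_pow, Polynomial.aeval_X, Polynomial.aeval_C]
        have hpow : algebraMap A (FractionRing A) μ ^ (p' + 1) ≠ 0 := pow_ne_zero _ hm0
        apply mul_left_cancel₀ hpow
        rw [mul_zero]
        linear_combination hK
    obtain ⟨z, hz⟩ := IsIntegrallyClosed.isIntegral_iff.mp hint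
    refine ⟨z, hinj ?_⟩
    rw [hv, ← hz, map_mul]
  · rintro ⟨z, hz⟩
    rw [hy, hz]
    exact ⟨z ^ (p' + 1) + c * z * r, by ring⟩

lemma gen (p : ℕ) (hp : p.Prime) :
    ∀ n : ℕ, 1 ≤ n → ∀ (l : A), l ≠ 0 → l ^ (p ^ (n - 1) * (p - 1)) ∣ (p : A) → ∀ y : A,
      (l ^ p ^ n ∣ y ^ p ^ n - 1 ↔ l ∣ y - 1) := by
  intro n hn
  induction n, hn using Nat.le_induction with
  | base =>
    intro l hl hdvd y
    simp only [Nat.sub_self, pow_zero, one_mul, pow_one] at hdvd ⊢
    exact base p hp l hl hdvd y
  | succ n hn ih =>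
    intro l hl hdvd y
    rw [Nat.add_sub_cancel] at hdvd
    have h1 : (l ^ p ^ n) ^ (p - 1) ∣ (p : A) := by rwa [← pow_mul]
    have hb := base p hp (l ^ p ^ n) (pow_ne_zero _ hl) h1 (y ^ p ^ n)
    rw [← pow_mul, ← pow_mul, ← pow_succ] at hb
    rw [hb]
    apply ih l hl _ y
    refine (pow_dvd_pow l ?_).trans hdvd
    exact Nat.mul_le_mul_right _ (Nat.pow_le_pow_right hp.pos (Nat.sub_le n 1))

end Helpers


/-- Let R be a discrete valuation ring of characteristic zero whose maximal ideal contains the prime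
number p, let n ≥ 1, and let λ be a nonzero element of R such that λ^(p^(n−1)(p−1)) divides p (the
condition v(p) ≥ p^(n−1)(p−1)·v(λ) under which the polynomial ((1 + λT)^(p^n) − 1)/λ^(p^n) has
coefficients in R). Let A be an integrally closed integral domain which is a faithfully flat
R-algebra. Then for every unit x of A, λ^(p^n) divides x^(p^n) − 1 in A if and only if λ divides x −
1 in A. -/
theorem result (R : Type u) [CommRing R]
    [IsDomain R] [IsDiscreteValuationRing R] [CharZero R] (p n : ℕ) [Fact p.Prime] (hn : 1 ≤ n)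
    (hp : (p : R) ∈ IsLocalRing.maximalIdeal R) (lam : R) (hlam : lam ≠ 0)
    (hstar : lam ^ (p ^ (n - 1) * (p - 1)) ∣ (p : R))
    (A : Type u) [CommRing A] [IsDomain A] [IsIntegrallyClosed A] [Algebra R A] [Module.FaithfullyFlat R A]
    (x : Aˣ) :
    (algebraMap R A lam ^ p ^ n ∣ (x : A) ^ p ^ n - 1) ↔ (algebraMap R A lam ∣ (x : A) - 1) := by
  have hp' : p.Prime := Fact.out
  have hinjR : Function.Injective (algebraMap R A) := FaithfulSMul.algebraMap_injective R A
  have hl0 : algebraMap R A lam ≠ 0 := fun h => hlam (hinjR (h.trans (map_zero _).symm))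
  have hdvd : algebraMap R A lam ^ (p ^ (n - 1) * (p - 1)) ∣ (p : A) := by
    have := map_dvd (algebraMap R A) hstar
    rwa [map_pow, map_natCast] at this
  exact gen p hp' n hn _ hl0 hdvd x

end Groth.Agent.S13158
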