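import Groth.Statements.S13159
import Mathlib

set_option autoImplicit false
universe u
open CAlg

namespace Groth.Agent.S13159

theorem result (R : Type u) [CommRing R]
    [IsDomain R] [IsDiscreteValuationRing R] (K : Type u) [Field K] [Algebra R K] [IsFractionRing R K]
    (C : Type u) [CommRing C] [Algebra R C] [Module.Finite R C]
    (A : Type u) [CommRing A] [IsDomain A] [Algebra R A] (hinj : Function.Injective (algebraMap R A))
    (L : Type u) [Field L] [Algebra A L] [IsFractionRing A L] [Algebra R L] [Algebra K L]
    [IsScalarTower R A L] [IsScalarTower R K L]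
    (hac : ∀ x : L, IsAlgebraic K x → x ∈ (algebraMap K L).range)
    (φ : C →ₐ[R] A) : ∃! ψ : C →ₐ[R] R, φ = (Algebra.ofId R A).comp ψ := by
  have hAL : Function.Injective (algebraMap A L) := IsFractionRing.injective A L
  have key : ∀ c : C, ∃ r : R, algebraMap R A r = φ c := by
    intro c
    have hc : IsIntegral R c := Algebra.IsIntegral.isIntegral c
    have hφc : IsIntegral R (φ c) := hc.map φ
    have hx : IsIntegral R (algebraMap A L (φ c)) := hφc.algebraMap
    have hxalg : IsAlgebraic K (algebraMap A L (φ c)) := hx.isAlgebraic.extendScalars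
      (FaithfulSMul.algebraMap_injective R K)
    obtain ⟨k, hk⟩ := hac _ hxalg
    have hkint : IsIntegral R k := by
      rw [← isIntegral_algebraMap_iff (algebraMap K L).injective, hk]
      exact hx
    obtain ⟨r, hr⟩ := IsIntegrallyClosed.isIntegral_iff.mp hkint
    refine ⟨r, hAL ?_⟩
    rw [← hk, ← hr, ← IsScalarTower.algebraMap_apply, ← IsScalarTower.algebraMap_apply]
  choose ψ hψ using key
  have hψ' : ∀ c, algebraMap R A (ψ c) = φ c := hψ
  let Ψ : C →ₐ[R] R :=
    { toFun := ψ
      map_one' := hinj (by rw [hψ', map_one, map_one])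
      map_mul' := fun x y => hinj (by rw [hψ', map_mul, map_mul, hψ', hψ'])
      map_zero' := hinj (by rw [hψ', map_zero, map_zero])
      map_add' := fun x y => hinj (by rw [hψ', map_add, map_add, hψ', hψ'])
      commutes' := fun r => hinj (by rw [hψ', AlgHom.commutes]; rfl) }
  refine ⟨Ψ, ?_, ?_⟩
  · ext c
    simp only [AlgHom.coe_comp, Function.comp_apply]
    exact (hψ' c).symm
  · intro ψ' hψ''
    ext c
    apply hinj
    have := congrArg (fun f : C →ₐ[R] A => f c) hψ''
    simp only [AlgHom.coe_comp, Function.comp_apply] at this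
    show algebraMap R A (ψ' c) = algebraMap R A (ψ c)
    rw [hψ']
    exact this.symm

end Groth.Agent.S13159
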