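import Groth.Statements.S1316
import Mathlib
import Groth.Agent.S1313
set_option linter.style.haveILetI false

set_option autoImplicit false
universe u
open FlatMor

namespace Groth.Agent.S1316

section Aux
open AlgebraicGeometry CategoryTheory Limits

theorem key {X X' Y Y' : Scheme.{u}} (iX : X ⟶ X') (iY : Y ⟶ Y') (f : X ⟶ Y) (f' : X' ⟶ Y')
    (hY : MoreMor.IsThickening iY) (hc : IsPullback iX f f' iY)
    [LocallyOfFiniteType f'] [IsImmersion f] : IsImmersion f' := by
  haveI := hY.1
  haveI := hY.2
  haveI : Surjective iX := MorphismProperty.of_isPullback (P := @Surjective) hc.flip hY.2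
  have hcl : IsClosed (iY '' ((f.coborderRange : Set Y)ᶜ)) :=
    iY.isClosedEmbedding.isClosedMap _ f.coborderRange.isOpen.isClosed_compl
  let U' : Y'.Opens := ⟨(iY '' ((f.coborderRange : Set Y)ᶜ))ᶜ, hcl.isOpen_compl⟩
  have hmem : ∀ y : Y, iY y ∈ U' ↔ y ∈ coborder (Set.range f) := by
    intro y
    constructor
    · intro h
      by_contra hy
      exact h ⟨y, hy, rfl⟩
    · rintro h ⟨z, hz, hzy⟩
      have := iY.isClosedEmbedding.injective hzy
      subst this
      exact hz h
  have hf'U : ∀ x', f' x' ∈ U' := by
    intro x'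
    obtain ⟨x, rfl⟩ := iX.surjective x'
    have : f' (iX x) = iY (f x) := by
      rw [← Scheme.Hom.comp_apply, hc.w, Scheme.Hom.comp_apply]
    rw [this, hmem]
    exact subset_coborder (Set.mem_range_self x)
  let f'' : X' ⟶ U' := IsOpenImmersion.lift U'.ι f' (by
    rw [Scheme.Opens.range_ι]; rintro _ ⟨x', rfl⟩; exact hf'U x')
  have hf'' : f'' ≫ U'.ι = f' := IsOpenImmersion.lift_fac _ _ _
  let g : X ⟶ pullback iY U'.ι := pullback.lift f (iX ≫ f'') (by
    rw [Category.assoc, hf'']; exact hc.w.symm)
  have hg1 : g ≫ pullback.fst iY U'.ι = f := pullback.lift_fst _ _ _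
  have hg2 : g ≫ pullback.snd iY U'.ι = iX ≫ f'' := pullback.lift_snd _ _ _
  have hpb : IsPullback iX g f'' (pullback.snd iY U'.ι) := by
    refine (IsPullback.of_right (h₁₂ := pullback.fst iY U'.ι) (h₂₂ := U'.ι) ?_ hg2
      (IsPullback.of_hasPullback iY U'.ι)).flip
    rw [hg1, hf'']
    exact hc.flip
  haveI : IsImmersion (g ≫ pullback.fst iY U'.ι) := by rw [hg1]; infer_instance
  haveI : IsPreimmersion g := .of_comp g (pullback.fst iY U'.ι)
  haveI : IsClosedImmersion g := by
    refine .of_isPreimmersion _ ?_
    have hrange : Set.range g = (pullback.fst iY U'.ι) ⁻¹' closure (Set.range f) := by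
      ext w
      constructor
      · rintro ⟨z, rfl⟩
        apply subset_closure
        refine ⟨z, ?_⟩
        rw [← hg1, Scheme.Hom.comp_apply]
      · intro hw
        have h1 : (pullback.fst iY U'.ι) w ∈ coborder (Set.range f) := by
          rw [← hmem]
          have : iY ((pullback.fst iY U'.ι) w) = U'.ι ((pullback.snd iY U'.ι) w) := by
            rw [← Scheme.Hom.comp_apply, pullback.condition, Scheme.Hom.comp_apply]
          rw [this]
          exact ((pullback.snd iY U'.ι) w).2
        have h2 : (pullback.fst iY U'.ι) w ∈ Set.range f := by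
          rw [← closure_inter_coborder (s := Set.range f)]
          exact ⟨hw, h1⟩
        obtain ⟨z, hz⟩ := h2
        refine ⟨z, ?_⟩
        apply (pullback.fst iY U'.ι).isOpenEmbedding.injective
        rw [← Scheme.Hom.comp_apply, hg1, hz]
    rw [hrange]
    exact isClosed_closure.preimage (pullback.fst iY U'.ι).continuous
  haveI : LocallyOfFiniteType (f'' ≫ U'.ι) := by rw [hf'']; infer_instance
  haveI : LocallyOfFiniteType f'' := locallyOfFiniteType_of_comp f'' U'.ι
  have hthick : MoreMor.IsThickening (pullback.snd iY U'.ι) := ⟨inferInstance, inferInstance⟩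
  haveI : IsClosedImmersion f'' :=
    (Groth.Agent.S1313.result iX (pullback.snd iY U'.ι) g f'' hthick hpb).mp inferInstance
  rw [← hf'']
  infer_instance

end Aux

open AlgebraicGeometry CategoryTheory Limits in
/-- Let Y ⟶ Y' be a thickening, let X be the base change to Y of a scheme X' over Y', and assume both X
⟶ Y and X' ⟶ Y' are locally of finite type. Then X ⟶ Y is an immersion if and only if X' ⟶ Y' is. -/
theorem result {X X' Y Y' : Scheme.{u}} (iX : X ⟶ X') (iY : Y ⟶ Y') (f : X ⟶ Y) (f' : X' ⟶ Y')
    (hY : MoreMor.IsThickening iY) (hc : IsPullback iX f f' iY) [LocallyOfFiniteType f] [LocallyOfFiniteType f'] :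
    IsImmersion f ↔ IsImmersion f' := by
  constructor
  · intro h
    exact key iX iY f f' hY hc
  · intro h
    exact MorphismProperty.of_isPullback (P := @IsImmersion) hc h

end Groth.Agent.S1316
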