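import Groth.Statements.S13160
import Mathlib

set_option autoImplicit false
universe u
open CAlg

namespace Groth.Agent.S13160

open MvPolynomial

section poly
variable (p : ℕ) [hp : Fact p.Prime]

lemma wittAdd_mem (n : ℕ) : WittVector.wittAdd p n ∈ idealOfVars (Fin 2 × ℕ) ℤ := by
  have h0 : constantCoeff (WittVector.wittAdd p n) = 0 := by
    unfold WittVector.wittAdd
    exact constantCoeff_wittStructureInt p _ (by simp) n
  rw [← pow_one (idealOfVars (Fin 2 × ℕ) ℤ), mem_pow_idealOfVars_iff']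
  intro x hx
  have hx0 : x = 0 := by
    have h1 : Finsupp.degree x = 0 := by omega
    exact (Finsupp.degree_eq_zero_iff x).mp h1
  rw [hx0, ← constantCoeff_eq]
  exact h0

lemma key_sum (n : ℕ) :
    C ((p : ℤ) ^ n) * (WittVector.wittAdd p n - X (0, n) - X (1, n)) =
      ∑ i ∈ Finset.range n, C ((p : ℤ) ^ i) * (X (0, i) ^ p ^ (n - i) + X (1, i) ^ p ^ (n - i) -
        (WittVector.wittAdd p i) ^ p ^ (n - i)) := by
  have h := wittStructureInt_prop p (X (0 : Fin 2) + X 1 : MvPolynomial (Fin 2) ℤ) n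
  rw [wittPolynomial_eq_sum_C_mul_X_pow] at h
  simp only [map_sum, map_mul, map_pow, bind₁_X_right, map_add, rename_C,
    rename_X, algHom_C] at h
  rw [Finset.sum_range_succ, Finset.sum_range_succ, Finset.sum_range_succ, Nat.sub_self, pow_zero,
    pow_one, pow_one, pow_one] at h
  simp only [MvPolynomial.algebraMap_eq] at h
  unfold WittVector.wittAdd
  simp only [mul_sub, mul_add, Finset.sum_sub_distrib, Finset.sum_add_distrib, map_pow]
  linear_combination h

lemma T_mem (n : ℕ) :
    WittVector.wittAdd p n - X (0, n) - X (1, n) ∈ idealOfVars (Fin 2 × ℕ) ℤ ^ p := by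
  have h1 : C ((p : ℤ) ^ n) * (WittVector.wittAdd p n - X (0, n) - X (1, n)) ∈
      idealOfVars (Fin 2 × ℕ) ℤ ^ p := by
    rw [key_sum]
    refine Ideal.sum_mem _ (fun i hi => Ideal.mul_mem_left _ _ ?_)
    have hi' : i < n := Finset.mem_range.mp hi
    have hle : p ≤ p ^ (n - i) := by
      calc p = p ^ 1 := (pow_one p).symm
        _ ≤ p ^ (n - i) := Nat.pow_le_pow_right hp.out.pos (by omega)
    have hX : ∀ j : Fin 2 × ℕ, (X j : MvPolynomial (Fin 2 × ℕ) ℤ) ∈ idealOfVars (Fin 2 × ℕ) ℤ :=
      fun j => Ideal.subset_span ⟨j, rfl⟩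
    refine Ideal.sub_mem _ (Ideal.add_mem _ ?_ ?_) ?_
    · exact Ideal.pow_le_pow_right hle (Ideal.pow_mem_pow (hX _) _)
    · exact Ideal.pow_le_pow_right hle (Ideal.pow_mem_pow (hX _) _)
    · exact Ideal.pow_le_pow_right hle (Ideal.pow_mem_pow (wittAdd_mem p i) _)
  rw [mem_pow_idealOfVars_iff'] at h1 ⊢
  intro x hx
  have h2 := h1 x hx
  rw [coeff_C_mul] at h2
  exact (mul_eq_zero.mp h2).resolve_left (pow_ne_zero _ (by exact_mod_cast hp.out.ne_zero))

end poly

section evalsec
variable {S : Type*} [CommRing S]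

lemma exists_dvd_all (hS : ∀ x y : S, x ∣ y ∨ y ∣ x) {σ : Type*} (v : σ → S) (s : Finset σ)
    (hs : s.Nonempty) : ∃ i₀ ∈ s, ∀ i ∈ s, v i₀ ∣ v i := by
  classical
  induction s using Finset.induction_on with
  | empty => exact absurd hs (by simp)
  | insert a s ha ih =>
    by_cases hse : s.Nonempty
    · obtain ⟨i₀, hi₀, h⟩ := ih hse
      rcases hS (v a) (v i₀) with h1 | h1
      · refine ⟨a, Finset.mem_insert_self _ _, fun i hi => ?_⟩
        rcases Finset.mem_insert.mp hi with hia | hi
        · rw [hia]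
        · exact h1.trans (h i hi)
      · refine ⟨i₀, Finset.mem_insert_of_mem hi₀, fun i hi => ?_⟩
        rcases Finset.mem_insert.mp hi with hia | hi
        · rw [hia]; exact h1
        · exact h i hi
    · rw [Finset.not_nonempty_iff_eq_empty] at hse
      subst hse
      refine ⟨a, by simp, fun i hi => ?_⟩
      have hia : i = a := by simpa using hi
      rw [hia]

lemma monomial_eval_zero (hS : ∀ x y : S, x ∣ y ∨ y ∣ x) (p : ℕ) (hp : 0 < p) {σ : Type*}
    (v : σ → S) (hv : ∀ i, v i ^ p = 0) (d : σ →₀ ℕ) (hd : p ≤ Finsupp.degree d) :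
    ∏ i ∈ d.support, v i ^ d i = 0 := by
  have hne : d.support.Nonempty := by
    rw [Finset.nonempty_iff_ne_empty]
    intro h
    rw [Finsupp.degree_apply, h, Finset.sum_empty] at hd
    omega
  obtain ⟨i₀, hi₀, h⟩ := exists_dvd_all hS v d.support hne
  have h' : ∀ i ∈ d.support, ∃ c, v i = v i₀ * c := h
  choose! c hc using h'
  have h1 : ∏ i ∈ d.support, v i ^ d i =
      v i₀ ^ (Finsupp.degree d) * ∏ i ∈ d.support, c i ^ d i := by
    rw [Finsupp.degree_apply, ← Finset.prod_pow_eq_pow_sum, ← Finset.prod_mul_distrib]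
    refine Finset.prod_congr rfl (fun i hi => ?_)
    rw [← mul_pow, ← hc i hi]
  rw [h1]
  obtain ⟨k, hk⟩ := Nat.exists_eq_add_of_le hd
  rw [hk, pow_add, hv, zero_mul, zero_mul]

lemma aeval_eq_zero (hS : ∀ x y : S, x ∣ y ∨ y ∣ x) (p : ℕ) (hp : 0 < p) {σ : Type*}
    (v : σ → S) (hv : ∀ i, v i ^ p = 0) (q : MvPolynomial σ ℤ)
    (hq : q ∈ idealOfVars σ ℤ ^ p) : aeval v q = 0 := by
  rw [aeval_def, eval₂_eq]
  refine Finset.sum_eq_zero (fun d hd => ?_)
  rw [monomial_eval_zero hS p hp v hv d ((mem_pow_idealOfVars_iff p q).mp hq d hd), mul_zero]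

end evalsec

lemma total_quot (R : Type u) [CommRing R] [IsDomain R] [IsDiscreteValuationRing R] (lam : R)
    (x y : R ⧸ Ideal.span {lam}) : x ∣ y ∨ y ∣ x := by
  obtain ⟨x', rfl⟩ := Ideal.Quotient.mk_surjective x
  obtain ⟨y', rfl⟩ := Ideal.Quotient.mk_surjective y
  rcases ValuationRing.dvd_total x' y' with h | h
  · exact Or.inl (map_dvd _ h)
  · exact Or.inr (map_dvd _ h)

/-- Let R be a discrete valuation ring, p a prime number and λ an element of R dividing p (so that R/λR
is an 𝔽_p-algebra), and let a and b be p-typical Witt vectors with coefficients in R/λR which are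
killed by the Frobenius endomorphism. Then the Witt sum a + b has components a_n + b_n for every n.
(The published statement allows an arbitrary λ ∈ R and is stated for Witt vectors with finitely many
nonzero components; this row assumes that λ divides p, so that p = 0 in R/λR, and allows all Witt
vectors.) -/
theorem result (R : Type u) [CommRing R] [IsDomain R]
    [IsDiscreteValuationRing R] (p : ℕ) [Fact p.Prime] (lam : R) (hlam : lam ∣ (p : R))
    (a b : WittVector p (R ⧸ Ideal.span {lam})) (ha : WittVector.frobenius a = 0)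
    (hb : WittVector.frobenius b = 0) (n : ℕ) : (a + b).coeff n = a.coeff n + b.coeff n := by
  by_cases hsub : Subsingleton (R ⧸ Ideal.span {lam})
  · exact Subsingleton.elim _ _
  rw [not_subsingleton_iff_nontrivial] at hsub
  have hp0 : ((p : ℕ) : R ⧸ Ideal.span {lam}) = 0 := by
    obtain ⟨c, hc⟩ := hlam
    have h1 : ((p : ℕ) : R ⧸ Ideal.span {lam}) = Ideal.Quotient.mk _ ((p : ℕ) : R) := by simp
    rw [h1, hc, Ideal.Quotient.eq_zero_iff_mem]
    exact Ideal.mul_mem_right _ _ (Ideal.mem_span_singleton_self lam)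
  haveI : CharP (R ⧸ Ideal.span {lam}) p :=
    ringChar.of_eq (CharP.ringChar_of_prime_eq_zero (Fact.out) hp0)
  have hav : ∀ i, a.coeff i ^ p = 0 := fun i => by
    rw [← WittVector.coeff_frobenius_charP, ha, WittVector.zero_coeff]
  have hbv : ∀ i, b.coeff i ^ p = 0 := fun i => by
    rw [← WittVector.coeff_frobenius_charP, hb, WittVector.zero_coeff]
  have hv : ∀ j : Fin 2 × ℕ, (Function.uncurry ![a.coeff, b.coeff] j) ^ p = 0 := by
    rintro ⟨j, i⟩
    fin_cases j
    · simpa [Function.uncurry] using hav i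
    · simpa [Function.uncurry] using hbv i
  rw [WittVector.add_coeff, WittVector.peval]
  have hT := T_mem p n
  have hdec : WittVector.wittAdd p n = MvPolynomial.X (0, n) + MvPolynomial.X (1, n) +
      (WittVector.wittAdd p n - MvPolynomial.X (0, n) - MvPolynomial.X (1, n)) := by ring
  rw [hdec, map_add, map_add, MvPolynomial.aeval_X, MvPolynomial.aeval_X,
    aeval_eq_zero (total_quot R lam) p (Fact.out : p.Prime).pos _ hv _ hT, add_zero]
  rfl

end Groth.Agent.S13160
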