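import Groth.Statements.S13161
import Mathlib

set_option autoImplicit false
universe u
open CAlg
open scoped TensorProduct

namespace Groth.Agent.S13161

section
variable (R : Type u) [CommRing R] [IsDomain R] (K : Type u) [Field K] [Algebra R K]
  [IsFractionRing R K] (A : Type u) [CommRing A] [Algebra R A]

lemma exists_smul_eq_tmul_one (x : A ⊗[R] K) :
    ∃ s : R, s ≠ 0 ∧ ∃ a : A, s • x = a ⊗ₜ[R] (1 : K) := by
  induction x using TensorProduct.induction_on with
  | zero => exact ⟨1, one_ne_zero, 0, by simp⟩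
  | tmul a k =>
    obtain ⟨r, s, hs, rfl⟩ := IsFractionRing.div_surjective (A := R) k
    have hs0 : s ≠ 0 := nonZeroDivisors.ne_zero hs
    refine ⟨s, hs0, r • a, ?_⟩
    rw [TensorProduct.smul_tmul', TensorProduct.smul_tmul, TensorProduct.smul_tmul, Algebra.smul_def,
      Algebra.smul_def, mul_one]
    congr 1
    have : algebraMap R K s ≠ 0 := by
      simpa using (IsFractionRing.injective R K).ne hs0
    field_simp
  | add x y hx hy =>
    obtain ⟨s₁, hs₁, a₁, h₁⟩ := hx
    obtain ⟨s₂, hs₂, a₂, h₂⟩ := hy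
    refine ⟨s₁ * s₂, mul_ne_zero hs₁ hs₂, s₂ • a₁ + s₁ • a₂, ?_⟩
    have e1 : (s₁ * s₂) • x = s₂ • (s₁ • x) := by rw [mul_comm, mul_smul]
    have e2 : (s₁ * s₂) • y = s₁ • (s₂ • y) := by rw [mul_smul]
    rw [smul_add, e1, e2, h₁, h₂, TensorProduct.add_tmul, TensorProduct.smul_tmul',
      TensorProduct.smul_tmul']

lemma eq_zero_of_smul_eq_zero (s : R) (hs : s ≠ 0) (x : A ⊗[R] K) (hx : s • x = 0) : x = 0 := by
  have hsK : algebraMap R K s ≠ 0 := by
    simpa using (IsFractionRing.injective R K).ne hs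
  let m : A ⊗[R] K →ₗ[R] A ⊗[R] K :=
    LinearMap.lTensor A (LinearMap.mulLeft R ((algebraMap R K s)⁻¹))
  have hm : ∀ y : A ⊗[R] K, m (s • y) = y := by
    intro y
    induction y using TensorProduct.induction_on with
    | zero => simp
    | tmul a k =>
      rw [map_smul]
      simp only [m, LinearMap.lTensor_tmul, LinearMap.mulLeft_apply]
      rw [TensorProduct.smul_tmul', TensorProduct.smul_tmul, Algebra.smul_def, ← mul_assoc,
        mul_inv_cancel₀ hsK, one_mul]
    | add y z hy hz => rw [smul_add, map_add, hy, hz]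
  rw [← hm x, hx, map_zero]

end

theorem result (R : Type u) [CommRing R] [IsDomain R]
    [IsDiscreteValuationRing R] (K : Type u) [Field K] [Algebra R K] [IsFractionRing R K]
    (A B : Type u) [CommRing A] [CommRing B] [Algebra R A] [Algebra R B] [Algebra A B] [IsScalarTower R A B]
    [Module.Finite A B] [Module.Flat R B]
    (hA : ∀ a : A, a ≠ 0 → ∃ f : A →ₗ[R] R, f a ≠ 0)
    (hBK : ∀ b : B, b ≠ 0 → ∃ g : B →ₗ[A] A ⊗[R] K, g b ≠ 0) :
    ∀ b : B, b ≠ 0 → ∃ h : B →ₗ[R] R, h b ≠ 0 := by
  classical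
  intro b hb
  obtain ⟨g, hg⟩ := hBK b hb
  -- the map `a ↦ a ⊗ 1`
  let ι : A →ₗ[A] A ⊗[R] K := (TensorProduct.mk R A K).flip 1 |>.restrictScalars R |> fun _ =>
    { toFun := fun a => a ⊗ₜ[R] (1 : K)
      map_add' := fun a a' => TensorProduct.add_tmul a a' 1
      map_smul' := fun c a => by
        simp only [RingHom.id_apply, smul_eq_mul]
        rw [TensorProduct.smul_tmul', smul_eq_mul] }
  have hι_apply : ∀ a, ι a = a ⊗ₜ[R] (1 : K) := fun a => rfl
  have hι : Function.Injective ι := by
    rw [injective_iff_map_eq_zero]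
    intro a ha
    by_contra hne
    obtain ⟨f, hf⟩ := hA a hne
    have h1 : (TensorProduct.lid R K) (LinearMap.rTensor K f (ι a)) = 0 := by rw [ha, map_zero, map_zero]
    rw [hι_apply, LinearMap.rTensor_tmul, TensorProduct.lid_tmul, Algebra.smul_def, mul_one] at h1
    exact hf ((IsFractionRing.injective R K) (by rw [h1, map_zero]))
  -- generators of B over A
  obtain ⟨S, hS⟩ := (Module.Finite.fg_top : (⊤ : Submodule A B).FG)
  have hgen : ∀ b' ∈ S, ∃ s : R, s ≠ 0 ∧ ∃ a : A, s • g b' = a ⊗ₜ[R] (1 : K) :=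
    fun b' _ => exists_smul_eq_tmul_one R K A (g b')
  choose! sfun hs0 afun hsa using hgen
  let s : R := ∏ b' ∈ S, sfun b'
  have hs : s ≠ 0 := Finset.prod_ne_zero_iff.mpr (fun b' hb' => hs0 b' hb')
  -- `s • g` lands in the range of ι
  have hrange : ∀ b' : B, s • g b' ∈ LinearMap.range ι := by
    intro b'
    have hmem : b' ∈ Submodule.span A (S : Set B) := by rw [hS]; trivial
    induction hmem using Submodule.span_induction with
    | mem x hx =>
      have hx' : x ∈ S := hx
      obtain ⟨r, hr⟩ : ∃ r, s = r * sfun x := by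
        refine ⟨∏ b'' ∈ S.erase x, sfun b'', ?_⟩
        rw [mul_comm]
        exact (Finset.mul_prod_erase S sfun hx').symm
      refine ⟨r • afun x, ?_⟩
      rw [hι_apply, hr, mul_smul, hsa x hx', TensorProduct.smul_tmul']
    | zero => rw [map_zero, smul_zero]; exact Submodule.zero_mem _
    | add x y _ _ hx hy => rw [map_add, smul_add]; exact Submodule.add_mem _ hx hy
    | smul c x _ hx =>
      rw [map_smul, smul_comm]
      exact Submodule.smul_mem _ c hx
  let e := LinearEquiv.ofInjective ι hι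
  let g₁ : B →ₗ[A] A ⊗[R] K :=
    { toFun := fun b' => s • g b'
      map_add' := fun x y => by rw [map_add, smul_add]
      map_smul' := fun c x => by rw [map_smul, smul_comm]; rfl }
  let g₂ : B →ₗ[A] LinearMap.range ι := g₁.codRestrict _ hrange
  let g' : B →ₗ[A] A := e.symm.toLinearMap.comp g₂
  have hg' : ∀ b', ι (g' b') = s • g b' := by
    intro b'
    have : (e (g' b') : A ⊗[R] K) = ι (g' b') := rfl
    rw [← this]
    simp only [g', LinearMap.coe_comp, LinearEquiv.coe_coe, Function.comp_apply,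
      LinearEquiv.apply_symm_apply]
    rfl
  have hne : g' b ≠ 0 := by
    intro h0
    have := hg' b
    rw [h0, map_zero] at this
    exact hg (eq_zero_of_smul_eq_zero R K A s hs _ this.symm)
  obtain ⟨f, hf⟩ := hA (g' b) hne
  exact ⟨f.comp (g'.restrictScalars R), hf⟩

end Groth.Agent.S13161
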