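import Groth.Statements.S13162
import Mathlib

set_option autoImplicit false
universe u v
open ZeroCyc

namespace Groth.Agent.S13162

theorem result {A : Type u} [CommRing A] {G : Type v} [Group G] [Fintype G]
    [MulSemiringAction G A] (p : ℕ) [Fact p.Prime]
    (hA : ∀ m : ℕ, ¬ p ∣ m → IsUnit (m : A))
    (I : Ideal A) (f : A) (hf : ∀ g : G, g • f - f ∈ I) :
    ∃ a : A, (∀ g : G, g • a = a) ∧ a - f ^ (p ^ (Fintype.card G).factorization p) ∈ I := by
  classical
  have hp : p.Prime := Fact.out
  set n := Fintype.card G with hn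
  set v := n.factorization p with hv
  set k := p ^ v with hk
  set m := n / p ^ v with hm
  have hn0 : n ≠ 0 := Fintype.card_ne_zero
  have hnkm : n = k * m := (Nat.ordProj_mul_ordCompl_eq_self n p).symm
  have hpm : ¬ p ∣ m := Nat.not_dvd_ordCompl hp hn0
  -- the elementary symmetric function of degree `k` in the conjugates of `f`
  set e : A := ∑ T ∈ Finset.powersetCard k (Finset.univ : Finset G), ∏ g ∈ T, g • f with he
  set c : ℕ := n.choose k with hc
  have hcp : ¬ p ∣ c := by
    intro hdvd
    have h1 : (p ^ v * m).choose (p ^ v * 1) ≡ m.choose 1 [MOD p] :=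
      Choose.choose_pow_mul_pow_mul_modEq_choose_nat
    rw [mul_one, Nat.choose_one_right, ← hk, ← hnkm, ← hc] at h1
    have h2 : c ≡ 0 [MOD p] := (Nat.modEq_zero_iff_dvd).mpr hdvd
    exact hpm ((Nat.modEq_zero_iff_dvd).mp (h1.symm.trans h2))
  obtain ⟨u, hu⟩ := hA c hcp
  set d : A := ((u⁻¹ : Aˣ) : A) with hd
  have hdc : d * (c : A) = 1 := by rw [← hu, hd]; exact u.inv_mul
  -- invariance of `e`
  have he_inv : ∀ h : G, h • e = e := by
    intro h
    rw [he, Finset.smul_sum]
    simp_rw [Finset.smul_prod', smul_smul]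
    refine Finset.sum_equiv (Equiv.finsetCongr (Equiv.mulLeft h)) ?_ ?_
    · intro T
      simp only [Finset.mem_powersetCard, Finset.subset_univ, true_and, Equiv.finsetCongr_apply,
        Finset.card_map]
    · intro T _
      simp only [Equiv.finsetCongr_apply, Finset.prod_map, Equiv.coe_toEmbedding,
        Equiv.coe_mulLeft]
  have hc_inv : ∀ h : G, h • (c : A) = c := by
    intro h
    exact map_natCast (MulSemiringAction.toRingHom G A h) c
  have hd_inv : ∀ h : G, h • d = d := by
    intro h
    calc h • d = h • d * ((c : A) * d) := by rw [mul_comm (c : A) d, hdc, mul_one]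
      _ = (h • d * h • (c : A)) * d := by rw [hc_inv h]; ring
      _ = h • (d * (c : A)) * d := by rw [smul_mul']
      _ = d := by rw [hdc, smul_one, one_mul]
  -- `e` modulo `I`
  have he_mod : e - (c : A) * f ^ k ∈ I := by
    rw [← Ideal.Quotient.eq, he, map_sum, map_mul, map_natCast, map_pow]
    have : ∀ T ∈ Finset.powersetCard k (Finset.univ : Finset G),
        Ideal.Quotient.mk I (∏ g ∈ T, g • f) = (Ideal.Quotient.mk I f) ^ k := by
      intro T hT
      rw [map_prod]
      have hTk : T.card = k := (Finset.mem_powersetCard.mp hT).2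
      rw [← hTk, ← Finset.prod_const]
      apply Finset.prod_congr rfl
      intro g _
      rw [Ideal.Quotient.eq]
      exact hf g
    rw [Finset.sum_congr rfl this, Finset.sum_const, Finset.card_powersetCard, Finset.card_univ,
      nsmul_eq_mul]
  refine ⟨d * e, fun g => ?_, ?_⟩
  · rw [smul_mul', hd_inv g, he_inv g]
  · have : d * e - f ^ k = d * (e - (c : A) * f ^ k) := by
      have h1 : d * (e - (c : A) * f ^ k) = d * e - (d * (c : A)) * f ^ k := by ring
      rw [h1, hdc, one_mul]
    rw [this]
    exact I.mul_mem_left d he_mod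

end Groth.Agent.S13162
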