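import Groth.Statements.S13163
import Mathlib

set_option autoImplicit false
universe u
open ZeroCyc

namespace Groth.Agent.S13163

open Polynomial in
/-- Let P_d(T) = ∏_{0 ≤ i < j ≤ d} (T^i − T^j) − 1 ∈ ℤ[T]. Every residue field of ℤ[T]/(P_d), i.e. every
field receiving a ring homomorphism from it, has at least d + 1 elements. -/
theorem result (d : ℕ) (k : Type u) [Field k]
    (φ : (ℤ[X] ⧸ Ideal.span {(∏ j ∈ Finset.range (d + 1), ∏ i ∈ Finset.range j,
        ((X : ℤ[X]) ^ i - X ^ j)) - 1}) →+* k) :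
    ((d + 1 : ℕ) : Cardinal) ≤ Cardinal.mk k := by
  classical
  set P : ℤ[X] := (∏ j ∈ Finset.range (d + 1), ∏ i ∈ Finset.range j,
        ((X : ℤ[X]) ^ i - X ^ j)) - 1 with hP
  set ψ : ℤ[X] →+* k := φ.comp (Ideal.Quotient.mk (Ideal.span {P})) with hψ
  set x : k := ψ X with hx
  have hP0 : ψ P = 0 := by
    simp only [hψ, RingHom.comp_apply]
    rw [Ideal.Quotient.eq_zero_iff_mem.mpr (Ideal.subset_span (Set.mem_singleton P)), map_zero]
  have hprod : (∏ j ∈ Finset.range (d + 1), ∏ i ∈ Finset.range j, (x ^ i - x ^ j)) = 1 := by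
    have : ψ P = (∏ j ∈ Finset.range (d + 1), ∏ i ∈ Finset.range j, (x ^ i - x ^ j)) - 1 := by
      simp [hP, hx, map_prod, map_sub, map_pow]
    rw [this] at hP0
    exact sub_eq_zero.mp hP0
  -- the powers x^0, …, x^d are pairwise distinct
  have hinj : Function.Injective (fun i : Fin (d + 1) => x ^ (i : ℕ)) := by
    intro a b hab
    by_contra hne
    wlog hlt : (a : ℕ) < (b : ℕ) generalizing a b
    · have hne' : (a : ℕ) ≠ (b : ℕ) := fun h => hne (Fin.ext h)
      exact this hab.symm (fun h => hne h.symm) (by omega)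
    have hzero : (∏ j ∈ Finset.range (d + 1), ∏ i ∈ Finset.range j, (x ^ i - x ^ j)) = 0 := by
      apply Finset.prod_eq_zero (i := (b : ℕ)) (Finset.mem_range.mpr b.2)
      apply Finset.prod_eq_zero (i := (a : ℕ)) (Finset.mem_range.mpr hlt)
      simpa using sub_eq_zero.mpr hab
    rw [hprod] at hzero
    exact one_ne_zero hzero
  have := Cardinal.lift_mk_le_lift_mk_of_injective hinj
  simpa using this

end Groth.Agent.S13163
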