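import Groth.Statements.S13165
import Groth.Agent.H3.GradedGen

set_option autoImplicit false
universe u
open AlgebraicGeometry
open ZeroCyc

namespace Groth.Agent.S13165

open Groth.Agent.H3.GradedGen in
theorem result {R A : Type u} [CommRing R] [CommRing A] [Algebra R A] (𝒜 : ℕ → Submodule R A) [GradedAlgebra 𝒜]
    {s : ℕ} (f : Fin s → A) (deg : Fin s → ℕ) (hdeg : ∀ i, 0 < deg i) (hf : ∀ i, f i ∈ 𝒜 (deg i))
    (hgen : Algebra.adjoin R (Set.range f) = ⊤) (a : ℕ) (ha : s - 1 ≤ a) (k : ℕ) :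
    𝒜 (k * (a * Finset.univ.lcm deg)) = 𝒜 (a * Finset.univ.lcm deg) ^ k := by
  induction k with
  | zero =>
    rw [zero_mul, pow_zero]
    exact grade_zero_eq_one f deg 𝒜 hdeg hf hgen
  | succ k ih =>
    rw [pow_succ, ← ih, add_mul, one_mul]
    rcases Nat.eq_zero_or_pos k with hk | hk
    · subst hk
      rw [zero_mul, zero_add, grade_zero_eq_one f deg 𝒜 hdeg hf hgen, one_mul]
    · apply grade_add_mul_lcm f deg 𝒜 hdeg hf hgen
      have hl := lcm_pos deg hdeg
      calc (s - 1) * (Finset.univ.lcm deg - 1) ≤ a * Finset.univ.lcm deg :=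
            Nat.mul_le_mul ha (Nat.sub_le _ _)
        _ ≤ k * (a * Finset.univ.lcm deg) := Nat.le_mul_of_pos_left _ hk

end Groth.Agent.S13165
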