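import Groth.Statements.S13166
import Groth.Agent.H3.SubmoduleUnion

set_option autoImplicit false
universe u
open ZeroCyc

namespace Groth.Agent.S13166

/-- Let k be a field, B a k-algebra generated as an algebra by a k-subspace V, k'/k a field extension
and x_1, …, x_d pairwise distinct k'-points of B ⊗_k k' (equivalently, distinct k-algebra
homomorphisms B → k'). If k has at least d(d − 1)/2 elements, then there is b ∈ V whose values at
x_1, …, x_d are pairwise distinct. -/
theorem result {k : Type u} [Field k] {B : Type u} [CommRing B] [Algebra k B] (V : Submodule k B)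
    (hV : Algebra.adjoin k (V : Set B) = ⊤) {k' : Type u} [Field k'] [Algebra k k']
    {d : ℕ} (x : Fin d → (B →ₐ[k] k')) (hx : Function.Injective x)
    (hk : ((d.choose 2 : ℕ) : Cardinal) ≤ Cardinal.mk k) :
    ∃ b ∈ V, Function.Injective fun i => x i b := by
  classical
  -- index set: 2-element subsets of `Fin d`
  let s : Finset (Finset (Fin d)) := Finset.powersetCard 2 Finset.univ
  let p : Finset (Fin d) → Submodule k V := fun t =>
    { carrier := {b | ∀ i ∈ t, ∀ j ∈ t, x i (b : B) = x j (b : B)}
      add_mem' := by
        intro a b ha hb i hi j hj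
        simp only [Submodule.coe_add, map_add, ha i hi j hj, hb i hi j hj]
      zero_mem' := by
        intro i _ j _
        simp
      smul_mem' := by
        intro c b hb i hi j hj
        simp only [Submodule.coe_smul, map_smul, hb i hi j hj] }
  have hp : ∀ t ∈ s, p t ≠ ⊤ := by
    intro t ht htop
    rw [Finset.mem_powersetCard] at ht
    obtain ⟨i, j, hij, rfl⟩ := Finset.card_eq_two.mp ht.2
    apply hij
    apply hx
    apply AlgHom.ext_of_adjoin_eq_top hV
    intro b hb
    have : (⟨b, hb⟩ : V) ∈ p {i, j} := by rw [htop]; trivial
    exact this i (by simp) j (by simp)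
  have hcard : (s.card : ℕ∞) ≤ ENat.card k := by
    have hs : s.card = d.choose 2 := by
      simp [s, Finset.card_powersetCard]
    rw [hs, ENat.card]
    have := Cardinal.toENat.monotone' hk
    simpa using this
  have hss := Groth.Agent.H3.iUnion_ssubset_of_card_le s p hp hcard
  rw [Set.ssubset_univ_iff, Ne, Set.eq_univ_iff_forall, not_forall] at hss
  obtain ⟨b, hb⟩ := hss
  refine ⟨b, b.2, ?_⟩
  intro i j hij
  by_contra hne
  apply hb
  refine Set.mem_iUnion₂.mpr ⟨{i, j}, ?_, ?_⟩
  · rw [Finset.mem_powersetCard]
    exact ⟨Finset.subset_univ _, Finset.card_pair hne⟩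
  · intro a ha c hc
    simp only [Finset.mem_insert, Finset.mem_singleton] at ha hc
    rcases ha with rfl | rfl <;> rcases hc with rfl | rfl
    · rfl
    · exact hij
    · exact hij.symm
    · rfl

end Groth.Agent.S13166
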