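import Groth.Statements.S13167
import Groth.Agent.H3.SubmoduleUnion

set_option autoImplicit false
universe u
open AlgebraicGeometry
open ZeroCyc

namespace Groth.Agent.S13167

section aux

variable {R A : Type u} [CommRing R] [CommRing A] [Algebra R A]
variable (p : Ideal R) [p.IsPrime] (q : Ideal A) [q.IsPrime]
  (h : p = q.comap (algebraMap R A)) {r : ℕ} (b : Fin r → A)

/-- the evaluation functional on coefficient vectors -/
noncomputable def ev (c : Fin r → p.ResidueField) : q.ResidueField :=
  ∑ j, Ideal.ResidueField.map p q (algebraMap R A) h (c j) * algebraMap A q.ResidueField (b j)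

/-- kernel subspace -/
noncomputable def V : Submodule p.ResidueField (Fin r → p.ResidueField) where
  carrier := {c | ev p q h b c = 0}
  add_mem' := by
    intro c c' hc hc'
    simp only [Set.mem_ofPred_eq, ev] at hc hc' ⊢
    simp only [Pi.add_apply, map_add, add_mul, Finset.sum_add_distrib, hc, hc', add_zero]
  zero_mem' := by
    simp [ev]
  smul_mem' := by
    intro k c hc
    simp only [Set.mem_ofPred_eq, ev] at hc ⊢
    simp only [Pi.smul_apply, smul_eq_mul, map_mul, mul_assoc, ← Finset.mul_sum, hc, mul_zero]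

lemma V_ne_top (j : Fin r) (hj : b j ∉ q) : V p q h b ≠ ⊤ := by
  classical
  intro htop
  have hmem : (Pi.single j 1 : Fin r → p.ResidueField) ∈ V p q h b := by rw [htop]; trivial
  have h1 : ev p q h b (Pi.single j 1) = 0 := hmem
  unfold ev at h1
  rw [Finset.sum_eq_single j] at h1
  · simp only [Pi.single_eq_same, map_one, one_mul] at h1
    exact hj (Ideal.algebraMap_residueField_eq_zero.mp h1)
  · intro j' _ hj'
    simp [Pi.single_eq_of_ne hj']
  · intro hh; exact absurd (Finset.mem_univ j) hh

lemma not_mem_of_not_mem_V (c : Fin r → p.ResidueField) (hc : c ∉ V p q h b)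
    (u : R) (hu : u ∉ p) (t : Fin r → R)
    (ht : ∀ j, algebraMap R p.ResidueField u * c j = algebraMap R p.ResidueField (t j)) :
    ∑ j, t j • b j ∉ q := by
  intro hmem
  apply hc
  show ev p q h b c = 0
  have h1 : algebraMap A q.ResidueField (∑ j, t j • b j) = 0 :=
    Ideal.algebraMap_residueField_eq_zero.mpr hmem
  have h2 : algebraMap A q.ResidueField (∑ j, t j • b j)
      = Ideal.ResidueField.map p q (algebraMap R A) h (algebraMap R p.ResidueField u) *
        ev p q h b c := by
    unfold ev
    rw [map_sum, Finset.mul_sum]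
    refine Finset.sum_congr rfl fun j _ => ?_
    rw [← mul_assoc, ← map_mul (Ideal.ResidueField.map p q (algebraMap R A) h), ht j,
      Ideal.ResidueField.map_algebraMap, Algebra.smul_def, map_mul]
  rw [h2] at h1
  rcases mul_eq_zero.mp h1 with h3 | h3
  · exfalso
    rw [Ideal.ResidueField.map_algebraMap, Ideal.algebraMap_residueField_eq_zero] at h3
    apply hu
    rw [h]
    exact h3
  · exact h3

lemma exists_common_denom (c : Fin r → p.ResidueField) :
    ∃ u : R, u ∉ p ∧ ∃ t : Fin r → R,
      ∀ j, algebraMap R p.ResidueField u * c j = algebraMap R p.ResidueField (t j) := by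
  have hsurj : Function.Surjective (IsLocalRing.residue (Localization.AtPrime p)) :=
    IsLocalRing.residue_surjective
  choose y hy using fun j => hsurj (c j)
  obtain ⟨u, hu⟩ := IsLocalization.exist_integer_multiples_of_finite p.primeCompl y
  refine ⟨u, u.2, ?_⟩
  choose t ht using hu
  refine ⟨t, fun j => ?_⟩
  rw [IsScalarTower.algebraMap_apply R (Localization.AtPrime p) p.ResidueField,
    IsScalarTower.algebraMap_apply R (Localization.AtPrime p) p.ResidueField, ht j, ← hy j,
    Algebra.smul_def, map_mul]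
  rfl

end aux

theorem result {R A : Type u} [CommRing R] [CommRing A] [Algebra R A] (𝒜 : ℕ → Submodule R A) [GradedAlgebra 𝒜]
    (hgen : Algebra.adjoin R (𝒜 1 : Set A) = ⊤) (hfg : (𝒜 1).FG)
    (p : Ideal R) [p.IsPrime] {d : ℕ} (x : Fin d → Proj 𝒜)
    (hx : ∀ i, ((x i).asHomogeneousIdeal.toIdeal).comap (algebraMap R A) = p)
    (hcard : (d : Cardinal) ≤ Cardinal.mk p.ResidueField) :
    ∃ g ∈ 𝒜 1, ∀ i, x i ∈ Proj.basicOpen 𝒜 g := by
  classical
  obtain ⟨r, b, hb⟩ := Submodule.fg_iff_exists_fin_generating_family.mp hfg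
  have hbmem : ∀ j, b j ∈ 𝒜 1 := fun j => hb ▸ Submodule.subset_span ⟨j, rfl⟩
  have hgen' : Algebra.adjoin R (Set.range b) = ⊤ := by
    rw [← Algebra.adjoin_span, hb]; exact hgen
  have h0 : Algebra.adjoin (𝒜 0) (Set.range b) = ⊤ := by
    rw [eq_top_iff]
    intro y hytop
    clear hytop
    have hy : y ∈ Algebra.adjoin R (Set.range b) := by rw [hgen']; trivial
    induction hy using Algebra.adjoin_induction with
    | mem y hy => exact Algebra.subset_adjoin hy
    | algebraMap r =>
      have : algebraMap R A r = algebraMap (𝒜 0) A (algebraMap R (𝒜 0) r) := by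
        rfl
      rw [this]
      exact Subalgebra.algebraMap_mem _ _
    | add y z _ _ hy hz => exact Subalgebra.add_mem _ hy hz
    | mul y z _ _ hy hz => exact Subalgebra.mul_mem _ hy hz
  have hcov := Proj.iSup_basicOpen_eq_top' 𝒜 b (fun j => ⟨1, hbmem j⟩) h0
  have hex : ∀ i, ∃ j, b j ∉ (x i).asHomogeneousIdeal.toIdeal := by
    intro i
    have hmem : x i ∈ (⊤ : (Proj 𝒜).Opens) := trivial
    rw [← hcov, TopologicalSpace.Opens.mem_iSup] at hmem
    obtain ⟨j, hj⟩ := hmem
    exact ⟨j, (Proj.mem_basicOpen 𝒜 _ _).mp hj⟩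
  haveI hq : ∀ i, ((x i).asHomogeneousIdeal.toIdeal).IsPrime := fun i => (x i).isPrime
  let W : Fin d → Submodule p.ResidueField (Fin r → p.ResidueField) := fun i =>
    V p ((x i).asHomogeneousIdeal.toIdeal) (hx i).symm b
  have hW : ∀ i ∈ (Finset.univ : Finset (Fin d)), W i ≠ ⊤ := by
    intro i _
    obtain ⟨j, hj⟩ := hex i
    exact V_ne_top p _ (hx i).symm b j hj
  have hcard' : ((Finset.univ : Finset (Fin d)).card : ℕ∞) ≤ ENat.card p.ResidueField := by
    rw [Finset.card_univ, Fintype.card_fin, ENat.card]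
    have := Cardinal.toENat.monotone' hcard
    simpa using this
  have hss := Groth.Agent.H3.iUnion_ssubset_of_card_le Finset.univ W hW hcard'
  rw [Set.ssubset_univ_iff, Ne, Set.eq_univ_iff_forall, not_forall] at hss
  obtain ⟨c, hc⟩ := hss
  obtain ⟨u, hu, t, ht⟩ := exists_common_denom p c
  refine ⟨∑ j, t j • b j, ?_, fun i => ?_⟩
  · exact Submodule.sum_mem _ fun j _ => Submodule.smul_mem _ _ (hbmem j)
  · rw [Proj.mem_basicOpen]
    apply not_mem_of_not_mem_V p _ (hx i).symm b c _ u hu t ht
    intro hmem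
    apply hc
    exact Set.mem_iUnion₂.mpr ⟨i, Finset.mem_univ i, hmem⟩

end Groth.Agent.S13167
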