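import Groth.Statements.S13168
import Mathlib

set_option autoImplicit false
universe u
open AlgebraicGeometry
open ZeroCyc

namespace Groth.Agent.S13168

theorem result {R A : Type u} [CommRing R] [CommRing A] [Algebra R A] (𝒜 : ℕ → Submodule R A) [GradedAlgebra 𝒜]
    {s : ℕ} (f : Fin s → A) (deg : Fin s → ℕ) (hdeg : ∀ i, 0 < deg i) (hf : ∀ i, f i ∈ 𝒜 (deg i))
    (hgen : Algebra.adjoin R (Set.range f) = ⊤) (a : ℕ) (ha : 0 < a) :
    (⨆ g : 𝒜 (a * Finset.univ.lcm deg), Proj.basicOpen 𝒜 (g : A)) = ⊤ := by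
  have h0 : Algebra.adjoin (𝒜 0) (Set.range f) = ⊤ := by
    rw [eq_top_iff]
    intro x hxtop
    clear hxtop
    have hx : x ∈ Algebra.adjoin R (Set.range f) := by rw [hgen]; trivial
    induction hx using Algebra.adjoin_induction with
    | mem x hx => exact Algebra.subset_adjoin hx
    | algebraMap r =>
      have : algebraMap R A r = algebraMap (𝒜 0) A (algebraMap R (𝒜 0) r) := by
        rfl
      rw [this]
      exact Subalgebra.algebraMap_mem _ _
    | add x y _ _ hx hy => exact Subalgebra.add_mem _ hx hy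
    | mul x y _ _ hx hy => exact Subalgebra.mul_mem _ hx hy
  have h1 := Proj.iSup_basicOpen_eq_top' 𝒜 f (fun i => ⟨deg i, hf i⟩) h0
  rw [eq_top_iff, ← h1]
  refine iSup_le fun i => ?_
  have hdvd : deg i ∣ Finset.univ.lcm deg := Finset.dvd_lcm (Finset.mem_univ i)
  obtain ⟨k, hk⟩ := hdvd
  have hlcm : 0 < Finset.univ.lcm deg := by
    apply Nat.pos_of_ne_zero
    rw [Ne, Finset.lcm_eq_zero_iff]
    rintro ⟨j, _, hj⟩
    exact (hdeg j).ne' hj
  have hkpos : 0 < k := by
    rcases Nat.eq_zero_or_pos k with h | h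
    · subst h; rw [mul_zero] at hk; omega
    · exact h
  have hmem : f i ^ (a * k) ∈ 𝒜 (a * Finset.univ.lcm deg) := by
    have := SetLike.pow_mem_graded (A := 𝒜) (a * k) (hf i)
    convert this using 2
    rw [hk]; simp [mul_comm, mul_left_comm]
  have hle : Proj.basicOpen 𝒜 (f i) = Proj.basicOpen 𝒜 (f i ^ (a * k)) :=
    (Proj.basicOpen_pow 𝒜 (f i) (a * k) (Nat.mul_pos ha hkpos)).symm
  rw [hle]
  exact le_iSup (fun g : 𝒜 (a * Finset.univ.lcm deg) => Proj.basicOpen 𝒜 (g : A)) ⟨_, hmem⟩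

end Groth.Agent.S13168
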