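import Groth.Statements.S9817
import Mathlib
import Groth.Agent.S9575
import Groth.Agent.S4401
import Groth.Agent.S3584
import Groth.Agent.S3586

set_option autoImplicit false
universe u
open CategoryTheory CategoryTheory.Limits AlgebraicGeometry TopologicalSpace
open Props

namespace Groth.Agent.S9817


open CategoryTheory CategoryTheory.Limits AlgebraicGeometry TopologicalSpace Opposite MonoidalCategory

section Aux

theorem isIso_conj {C : Type*} [Category C] {P Q P' Q' : C} (a : P' ⟶ P) (m : P ⟶ Q) (b : Q ⟶ Q')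
    [IsIso a] [IsIso b] : IsIso (a ≫ m ≫ b) ↔ IsIso m := by
  constructor
  · intro h
    have e : m = inv a ≫ (a ≫ m ≫ b) ≫ inv b := by simp
    rw [e]; infer_instance
  · intro h; infer_instance

variable {R A : Type u} [CommRing R] [CommRing A] [Algebra R A]
  (𝒜 : ℕ → Submodule R A) [GradedAlgebra 𝒜]

theorem hmd (d : ℕ) : ((d : ℕ) : ℤ) = ((0 : ℕ) : ℤ) + (d : ℤ) := by simp

/-- the morphism `O → O(d)` given by `a ∈ 𝒜 d` -/
noncomputable def psiD (d : ℕ) (a : A) (ha : a ∈ 𝒜 d) :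
    Coh.structureModule (Proj 𝒜) ⟶ Twist.twist 𝒜 (d : ℤ) :=
  (Twist.twist 𝒜 (d : ℤ)).unitHomEquiv.symm
    (PresheafOfModules.sectionsMk (fun V => Groth.Agent.S4401.gN 𝒜 d a ha V.unop)
      (fun _ _ _ => rfl))

theorem isIso_restrict_psiD (d : ℕ) (f : A) (hf : f ∈ 𝒜 d) {X : Scheme.{u}} (j : X ⟶ Proj 𝒜)
    [IsOpenImmersion j] (hj : ∀ x : X, f ∉ (j x).asHomogeneousIdeal) :
    IsIso ((Scheme.Modules.restrictFunctor j).map (psiD 𝒜 d f hf)) := by
  have hW : ∀ V : X.Opens, ∀ x : (j ''ᵁ V : (Proj 𝒜).Opens),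
      f ∉ x.1.asHomogeneousIdeal ∧ (1 : A) ∉ x.1.asHomogeneousIdeal := by
    rintro V ⟨_, y, hy, rfl⟩
    exact ⟨hj y, Groth.Agent.S4401.one_nin 𝒜 _⟩
  refine Scheme.Modules.Hom.isIso_iff_isIso_app.mpr ?_
  intro V
  refine (ConcreteCategory.isIso_iff_bijective _).mpr ?_
  show Function.Bijective (fun s : Twist.O (𝒜 := 𝒜) (op (j ''ᵁ V)) =>
    (s • Groth.Agent.S9575.gsec 𝒜 (d : ℤ) d 0 f 1 hf SetLike.GradedOne.one_mem (hmd d)
        (j ''ᵁ V) (hW V) : Twist.sectN (𝒜 := 𝒜) (d : ℤ) (op (j ''ᵁ V))))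
  exact Groth.Agent.S9575.bij_core 𝒜 (d : ℤ) d 0 f 1 hf SetLike.GradedOne.one_mem (hmd d)
    (j ''ᵁ V) (hW V)

theorem not_isIso_of_memD (d : ℕ) (f g : A) (hf : f ∈ 𝒜 d) (hg : g ∈ 𝒜 d) {X : Scheme.{u}}
    (j : X ⟶ Proj 𝒜) [IsOpenImmersion j]
    (hiso : IsIso ((Scheme.Modules.restrictFunctor j).map (psiD 𝒜 d f hf)))
    (x : X) (hgx : g ∉ (j x).asHomogeneousIdeal) :
    f ∉ (j x).asHomogeneousIdeal := by
  intro hfx
  let V' : X.Opens := j ⁻¹ᵁ Proj.basicOpen 𝒜 g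
  have hV' : x ∈ V' :=
    (Scheme.Hom.mem_preimage _).mpr ((Proj.mem_basicOpen 𝒜 g _).mpr hgx)
  have hxW : j x ∈ j ''ᵁ V' := by
    show j x ∈ ((j ''ᵁ V' : (Proj 𝒜).Opens) : Set (Proj 𝒜))
    rw [Scheme.Hom.coe_image]
    exact ⟨x, hV', rfl⟩
  have hiV : IsIso (((Scheme.Modules.restrictFunctor j).map (psiD 𝒜 d f hf)).app V') :=
    inferInstance
  have hbij := (ConcreteCategory.isIso_iff_bijective _).mp hiV
  obtain ⟨r, hr⟩ := hbij.2 (Groth.Agent.S4401.gN 𝒜 d g hg (j ''ᵁ V'))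
  have hr' : ((r : Twist.O (𝒜 := 𝒜) (op (j ''ᵁ V'))) • Groth.Agent.S4401.gN 𝒜 d f hf (j ''ᵁ V') :
      Twist.sectN (𝒜 := 𝒜) (d : ℤ) (op (j ''ᵁ V'))) =
      Groth.Agent.S4401.gN 𝒜 d g hg (j ''ᵁ V') := hr
  have h1 := congrArg (fun t : Twist.sectN (𝒜 := 𝒜) (d : ℤ) (op (j ''ᵁ V')) =>
    ((t.1 ⟨j x, hxW⟩ : Twist.twistAt 𝒜 (d : ℤ) (j x)) : Twist.Loc 𝒜 (j x))) hr'
  have h2 : ((((r : Twist.O (𝒜 := 𝒜) (op (j ''ᵁ V'))) •
      Groth.Agent.S4401.gN 𝒜 d f hf (j ''ᵁ V')).1 ⟨j x, hxW⟩ :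
      Twist.twistAt 𝒜 (d : ℤ) (j x)) : Twist.Loc 𝒜 (j x)) =
      ((r : Twist.O (𝒜 := 𝒜) (op (j ''ᵁ V'))).1 ⟨j x, hxW⟩).val *
        Localization.mk f ⟨1, Groth.Agent.S4401.one_nin 𝒜 (j x)⟩ :=
    Twist.coe_smul_val (d : ℤ) (j x) ((r : Twist.O (𝒜 := 𝒜) (op (j ''ᵁ V'))).1 ⟨j x, hxW⟩)
      ((Groth.Agent.S4401.gN 𝒜 d f hf (j ''ᵁ V')).1 ⟨j x, hxW⟩)
  have h3 : ((r : Twist.O (𝒜 := 𝒜) (op (j ''ᵁ V'))).1 ⟨j x, hxW⟩).val *
      Localization.mk f ⟨1, Groth.Agent.S4401.one_nin 𝒜 (j x)⟩ =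
      Localization.mk g ⟨1, Groth.Agent.S4401.one_nin 𝒜 (j x)⟩ :=
    h2.symm.trans h1
  obtain ⟨a, b, hab⟩ := IsLocalization.exists_mk'_eq
    (j x).asHomogeneousIdeal.toIdeal.primeCompl
    (((r : Twist.O (𝒜 := 𝒜) (op (j ''ᵁ V'))).1 ⟨j x, hxW⟩).val)
  have hab' : ((r : Twist.O (𝒜 := 𝒜) (op (j ''ᵁ V'))).1 ⟨j x, hxW⟩).val =
      Localization.mk a b := by
    rw [Localization.mk_eq_mk'_apply]; exact hab.symm
  have h4 : (Localization.mk (a * f) (b * ⟨1, Groth.Agent.S4401.one_nin 𝒜 (j x)⟩) :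
      Twist.Loc 𝒜 (j x)) = Localization.mk g ⟨1, Groth.Agent.S4401.one_nin 𝒜 (j x)⟩ := by
    rw [← Localization.mk_mul, ← hab']; exact h3
  obtain ⟨c, hc⟩ := Localization.r_iff_exists.mp (Localization.mk_eq_mk_iff.mp h4)
  have hc' : (c : A) * (1 * (a * f)) = (c : A) * (((b : A) * 1) * g) := hc
  have hL : (c : A) * (1 * (a * f)) ∈ (j x).asHomogeneousIdeal.toIdeal :=
    Ideal.mul_mem_left _ _ (Ideal.mul_mem_left _ _ (Ideal.mul_mem_left _ _ hfx))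
  rw [hc', mul_one] at hL
  rcases (j x).isPrime.mem_or_mem hL with h | h
  · exact c.2 h
  · rcases (j x).isPrime.mem_or_mem h with h' | h'
    · exact b.2 h'
    · exact hgx h'

end Aux


/-- For a quasi-compact scheme X admitting an open immersion j into Proj of a graded ring, some positive
twist O(d) pulls back along j to an ample invertible module on X. -/
theorem result {R A : Type u} [CommRing R] [CommRing A]
    [Algebra R A] (𝒜 : ℕ → Submodule R A) [GradedAlgebra 𝒜] (X : Scheme.{u}) [CompactSpace X]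
    (j : X ⟶ Proj 𝒜) [IsOpenImmersion j] :
    ∃ d : ℕ, 0 < d ∧ CohB1.IsAmple ((Scheme.Modules.pullback j).obj (Twist.twist 𝒜 (d : ℤ))) := by
  classical
  have hpt : ∀ x : X, ∃ (c : ℕ) (h : A), 0 < c ∧ h ∈ 𝒜 c ∧
      h ∉ (j x).asHomogeneousIdeal.toIdeal ∧
      ∀ y : ProjectiveSpectrum 𝒜, h ∉ y.asHomogeneousIdeal.toIdeal → y ∈ j.opensRange := fun x =>
    Groth.Agent.S3586.basis 𝒜 (j x) j.opensRange (Scheme.Hom.mem_opensRange.mpr ⟨x, rfl⟩)
  choose c h hc hh hx hr using hpt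
  obtain ⟨t, ht⟩ := isCompact_univ.elim_finite_subcover
    (fun x : X => ((j ⁻¹ᵁ Proj.basicOpen 𝒜 (h x) : X.Opens) : Set X))
    (fun x => (j ⁻¹ᵁ Proj.basicOpen 𝒜 (h x)).2)
    (fun y _ => Set.mem_iUnion.mpr ⟨y, (Proj.mem_basicOpen 𝒜 _ _).mpr (hx y)⟩)
  let d := ∏ x ∈ t, c x
  have hdpos : 0 < d := Finset.prod_pos fun x _ => hc x
  have key : ∀ y : X, ∃ f : A, f ∈ 𝒜 d ∧ f ∉ (j y).asHomogeneousIdeal ∧
      Proj.basicOpen 𝒜 f ≤ j.opensRange := by
    intro y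
    obtain ⟨x, hxt, hyx⟩ := Set.mem_iUnion₂.mp (ht (Set.mem_univ y))
    have hdvd : c x ∣ d := Finset.dvd_prod_of_mem c hxt
    obtain ⟨k, hk⟩ := hdvd
    have hk0 : k ≠ 0 := by
      intro h0
      rw [h0, mul_zero] at hk
      exact absurd hk hdpos.ne'
    refine ⟨h x ^ k, ?_, ?_, ?_⟩
    · have h0 := Groth.Agent.S1614.pow_mem' 𝒜 (c x) (h x) (hh x) k
      rwa [hk, mul_comm]
    · exact Groth.Agent.S1614.pow_nin 𝒜 (h x) (j y) ((Proj.mem_basicOpen 𝒜 _ _).mp hyx) k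
    · refine SetLike.le_def.mpr fun z hz => ?_
      apply hr x z
      intro hmem
      apply (Proj.mem_basicOpen 𝒜 _ z).mp hz
      exact Ideal.pow_mem_of_mem _ hmem k (Nat.pos_of_ne_zero hk0)
  refine ⟨d, hdpos, ?_, inferInstance, ?_⟩
  · -- invertible
    intro y
    obtain ⟨f, hf, hfy, -⟩ := key y
    refine ⟨j ⁻¹ᵁ Proj.basicOpen 𝒜 f,
      (Scheme.Hom.mem_preimage _).mpr ((Proj.mem_basicOpen 𝒜 f _).mpr hfy), ?_⟩
    have hj : ∀ x : ((j ⁻¹ᵁ Proj.basicOpen 𝒜 f : X.Opens) : Scheme.{u}),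
        f ∉ (((j ⁻¹ᵁ Proj.basicOpen 𝒜 f).ι ≫ j) x).asHomogeneousIdeal ∧
        (1 : A) ∉ (((j ⁻¹ᵁ Proj.basicOpen 𝒜 f).ι ≫ j) x).asHomogeneousIdeal := by
      intro x
      refine ⟨?_, Groth.Agent.S4401.one_nin 𝒜 _⟩
      rw [Scheme.Hom.comp_apply, Scheme.Opens.ι_apply]
      exact (Proj.mem_basicOpen 𝒜 f _).mp ((Scheme.Hom.mem_preimage _).mp x.2)
    obtain ⟨e⟩ := Groth.Agent.S9575.trivG 𝒜 (d : ℤ) d 0 f 1 hf SetLike.GradedOne.one_mem (hmd d)
      ((j ⁻¹ᵁ Proj.basicOpen 𝒜 f).ι ≫ j) hj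
    exact ⟨(Scheme.Modules.restrictFunctor (j ⁻¹ᵁ Proj.basicOpen 𝒜 f).ι).mapIso
        ((Scheme.Modules.restrictFunctorIsoPullback j).app (Twist.twist 𝒜 (d : ℤ))).symm ≪≫
      ((Scheme.Modules.restrictFunctorComp (j ⁻¹ᵁ Proj.basicOpen 𝒜 f).ι j).app _).symm ≪≫ e⟩
  · intro x
    obtain ⟨f, hf, hfx, hfr⟩ := key x
    let θ := (Scheme.Modules.restrictFunctorIsoPullback j).app (Twist.twist 𝒜 (d : ℤ))
    let e := Groth.Agent.S3584.e1 ((Scheme.Modules.pullback j).obj (Twist.twist 𝒜 (d : ℤ)))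
    let α : Coh.structureModule X ⟶
        (Scheme.Modules.restrictFunctor j).obj (Coh.structureModule (Proj 𝒜)) :=
      (Scheme.Modules.restrictUnitIso j).inv
    let β : (Scheme.Modules.restrictFunctor j).obj (Twist.twist 𝒜 (d : ℤ)) ⟶
        CohB1.tensorPow ((Scheme.Modules.pullback j).obj (Twist.twist 𝒜 (d : ℤ))) (0 + 1) :=
      θ.hom ≫ e.inv
    haveI : IsIso α := by dsimp only [α]; infer_instance
    haveI : IsIso β := by dsimp only [β]; infer_instance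
    let sec : Coh.structureModule X ⟶
        CohB1.tensorPow ((Scheme.Modules.pullback j).obj (Twist.twist 𝒜 (d : ℤ))) (0 + 1) :=
      α ≫ (Scheme.Modules.restrictFunctor j).map (psiD 𝒜 d f hf) ≫ β
    have hiff : ∀ U : X.Opens, IsIso ((Scheme.Modules.restrictFunctor U.ι).map sec) ↔
        IsIso ((Scheme.Modules.restrictFunctor (U.ι ≫ j)).map (psiD 𝒜 d f hf)) := by
      intro U
      have h1 : (Scheme.Modules.restrictFunctor U.ι).map sec =
          (Scheme.Modules.restrictFunctor U.ι).map α ≫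
            (Scheme.Modules.restrictFunctor U.ι).map
              ((Scheme.Modules.restrictFunctor j).map (psiD 𝒜 d f hf)) ≫
            (Scheme.Modules.restrictFunctor U.ι).map β := by
        rw [← Functor.map_comp, ← Functor.map_comp]
      have h2 : (Scheme.Modules.restrictFunctorComp U.ι j).inv.app _ ≫
          (Scheme.Modules.restrictFunctor (U.ι ≫ j)).map (psiD 𝒜 d f hf) ≫
          (Scheme.Modules.restrictFunctorComp U.ι j).hom.app _ =
          (Scheme.Modules.restrictFunctor U.ι).map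
            ((Scheme.Modules.restrictFunctor j).map (psiD 𝒜 d f hf)) :=
        NatIso.naturality_1 (Scheme.Modules.restrictFunctorComp U.ι j) (psiD 𝒜 d f hf)
      constructor
      · intro hh1
        rw [h1] at hh1
        have h3 := (isIso_conj _ _ _).mp hh1
        rw [← h2] at h3
        exact (isIso_conj _ _ _).mp h3
      · intro hh1
        have h3 : IsIso ((Scheme.Modules.restrictFunctor U.ι).map
            ((Scheme.Modules.restrictFunctor j).map (psiD 𝒜 d f hf))) := by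
          rw [← h2]; exact (isIso_conj _ _ _).mpr hh1
        rw [h1]; exact (isIso_conj _ _ _).mpr h3
    have hgl : CohB1.genLocus _ sec = j ⁻¹ᵁ Proj.basicOpen 𝒜 f := by
      unfold CohB1.genLocus
      apply le_antisymm
      · apply sSup_le
        intro U hU
        have hU' : IsIso ((Scheme.Modules.restrictFunctor U.ι).map sec) := hU
        have hψ := (hiff U).mp hU'
        refine SetLike.le_def.mpr fun y hyU => ?_
        obtain ⟨g, hg, hgy, -⟩ := key y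
        have hgy' : g ∉ ((U.ι ≫ j) ⟨y, hyU⟩).asHomogeneousIdeal := by
          rw [Scheme.Hom.comp_apply, Scheme.Opens.ι_apply]; exact hgy
        have h8 := not_isIso_of_memD 𝒜 d f g hf hg (U.ι ≫ j) hψ ⟨y, hyU⟩ hgy'
        rw [Scheme.Hom.comp_apply, Scheme.Opens.ι_apply] at h8
        exact (Scheme.Hom.mem_preimage _).mpr ((Proj.mem_basicOpen 𝒜 f _).mpr h8)
      · apply le_sSup
        show IsIso ((Scheme.Modules.restrictFunctor (j ⁻¹ᵁ Proj.basicOpen 𝒜 f).ι).map sec)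
        refine (hiff _).mpr (isIso_restrict_psiD 𝒜 d f hf _ (fun x => ?_))
        rw [Scheme.Hom.comp_apply, Scheme.Opens.ι_apply]
        exact (Proj.mem_basicOpen 𝒜 f _).mp ((Scheme.Hom.mem_preimage _).mp x.2)
    refine ⟨0, sec, ?_, ?_⟩
    · rw [hgl]
      exact (Scheme.Hom.mem_preimage _).mpr ((Proj.mem_basicOpen 𝒜 f _).mpr hfx)
    · rw [hgl]
      exact (Proj.isAffineOpen_basicOpen 𝒜 f hf hdpos).preimage_of_isOpenImmersion j hfr

end Groth.Agent.S9817
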