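import Groth.Statements.S13172
import Mathlib
import Groth.Agent.S9817
import Groth.Agent.S12453

set_option autoImplicit false
universe u
open AlgebraicGeometry
open ZeroCyc

namespace Groth.Agent.S13172


open CategoryTheory CategoryTheory.Limits AlgebraicGeometry TopologicalSpace Opposite

section Aux

variable {R A : Type u} [CommRing R] [CommRing A] [Algebra R A]
  (𝒜 : ℕ → Submodule R A) [GradedAlgebra 𝒜]

theorem genBy (N : ℕ) (hcn : ∀ y : Proj 𝒜, ∃ F ∈ 𝒜 N, F ∉ y.asHomogeneousIdeal) :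
    ProjUP.GeneratedBy (Twist.twist 𝒜 (N : ℤ))
      (fun b : 𝒜 N => (Twist.globalOf 𝒜 b : ProjUP.Γm (Twist.twist 𝒜 (N : ℤ)))) := by
  intro x
  rw [eq_top_iff]
  intro z _
  obtain ⟨U, hxU, t, rfl⟩ := TopCat.Presheaf.exists_germ_eq (Twist.twist 𝒜 (N : ℤ)).presheaf z
  obtain ⟨F, hF, hFx⟩ := hcn x
  have hxV : x ∈ U ⊓ Proj.basicOpen 𝒜 F := ⟨hxU, (Proj.mem_basicOpen 𝒜 F x).mpr hFx⟩
  have hV : ∀ y : (U ⊓ Proj.basicOpen 𝒜 F : (Proj 𝒜).Opens),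
      F ∉ y.1.asHomogeneousIdeal ∧ (1 : A) ∉ y.1.asHomogeneousIdeal := fun y =>
    ⟨(Proj.mem_basicOpen 𝒜 F y.1).mp
      ((inf_le_right : U ⊓ Proj.basicOpen 𝒜 F ≤ Proj.basicOpen 𝒜 F) y.2),
      Groth.Agent.S4401.one_nin 𝒜 _⟩
  obtain ⟨r, hr⟩ := Groth.Agent.S9575.surj_core 𝒜 (N : ℤ) N 0 F 1 hF SetLike.GradedOne.one_mem
    (Groth.Agent.S9817.hmd N) (U ⊓ Proj.basicOpen 𝒜 F) hV
    ((Twist.twist 𝒜 (N : ℤ)).presheaf.map
      (homOfLE (inf_le_left : U ⊓ Proj.basicOpen 𝒜 F ≤ U)).op t)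
  have h1 : (Twist.twist 𝒜 (N : ℤ)).presheaf.germ U x hxU t =
      (Twist.twist 𝒜 (N : ℤ)).presheaf.germ (U ⊓ Proj.basicOpen 𝒜 F) x hxV
        ((Twist.twist 𝒜 (N : ℤ)).presheaf.map
          (homOfLE (inf_le_left : U ⊓ Proj.basicOpen 𝒜 F ≤ U)).op t) :=
    (TopCat.Presheaf.germ_res_apply _ (homOfLE inf_le_left) x hxV t).symm
  have h2 := PresheafOfModules.germ_smul (R := (Proj 𝒜).presheaf)
    (show PresheafOfModules ((Proj 𝒜).presheaf ⋙ forget₂ CommRingCat RingCat) from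
      (Twist.twist 𝒜 (N : ℤ)).val) x (U ⊓ Proj.basicOpen 𝒜 F) hxV r
    (Groth.Agent.S9575.gsec 𝒜 (N : ℤ) N 0 F 1 hF SetLike.GradedOne.one_mem
      (Groth.Agent.S9817.hmd N) (U ⊓ Proj.basicOpen 𝒜 F) hV)
  have h3 : (Twist.twist 𝒜 (N : ℤ)).presheaf.germ (U ⊓ Proj.basicOpen 𝒜 F) x hxV
      (Groth.Agent.S9575.gsec 𝒜 (N : ℤ) N 0 F 1 hF SetLike.GradedOne.one_mem
        (Groth.Agent.S9817.hmd N) (U ⊓ Proj.basicOpen 𝒜 F) hV) =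
      (Twist.twist 𝒜 (N : ℤ)).presheaf.germ ⊤ x trivial (Twist.globalOf 𝒜 ⟨F, hF⟩) :=
    (congrArg (fun w => (Twist.twist 𝒜 (N : ℤ)).presheaf.germ (U ⊓ Proj.basicOpen 𝒜 F) x hxV w)
      (show Groth.Agent.S9575.gsec 𝒜 (N : ℤ) N 0 F 1 hF SetLike.GradedOne.one_mem
        (Groth.Agent.S9817.hmd N) (U ⊓ Proj.basicOpen 𝒜 F) hV =
        (Twist.twist 𝒜 (N : ℤ)).presheaf.map
          (homOfLE (le_top : U ⊓ Proj.basicOpen 𝒜 F ≤ ⊤)).op (Twist.globalOf 𝒜 ⟨F, hF⟩) from rfl)).trans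
    (TopCat.Presheaf.germ_res_apply (Twist.twist 𝒜 (N : ℤ)).presheaf
      (homOfLE (le_top : U ⊓ Proj.basicOpen 𝒜 F ≤ ⊤)) x hxV (Twist.globalOf 𝒜 ⟨F, hF⟩))
  have hmem : ((Proj 𝒜).presheaf.germ (U ⊓ Proj.basicOpen 𝒜 F) x hxV r) •
      ((Twist.twist 𝒜 (N : ℤ)).presheaf.germ ⊤ x trivial (Twist.globalOf 𝒜 ⟨F, hF⟩)) ∈
      Submodule.span ((Proj 𝒜).presheaf.stalk x)
        (Set.range fun b : 𝒜 N => ((Twist.twist 𝒜 (N : ℤ)).presheaf.germ ⊤ x trivial).hom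
          (Twist.globalOf 𝒜 b : ProjUP.Γm (Twist.twist 𝒜 (N : ℤ)))) :=
    Submodule.smul_mem _ _ (Submodule.subset_span ⟨⟨F, hF⟩, rfl⟩)
  have heq : (Twist.twist 𝒜 (N : ℤ)).presheaf.germ U x hxU t =
      ((Proj 𝒜).presheaf.germ (U ⊓ Proj.basicOpen 𝒜 F) x hxV r) •
      ((Twist.twist 𝒜 (N : ℤ)).presheaf.germ ⊤ x trivial (Twist.globalOf 𝒜 ⟨F, hF⟩)) :=
    h1.trans ((congrArg (fun w => (Twist.twist 𝒜 (N : ℤ)).presheaf.germ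
      (U ⊓ Proj.basicOpen 𝒜 F) x hxV w) hr.symm).trans
      (h2.trans (congrArg (fun w => ((Proj 𝒜).presheaf.germ (U ⊓ Proj.basicOpen 𝒜 F) x hxV r) • w)
        h3)))
  rw [heq]
  exact hmem

end Aux


/-- Let B be a graded R-algebra generated by elements of degree at most d (no finiteness assumed) such
that X = Proj B is covered by the opens D_+(g), g ∈ B_1. Then for every n ≥ 1, O_X(n) is generated
by its global sections b/1, b ∈ B_n. -/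
theorem result {R A : Type u} [CommRing R] [CommRing A] [Algebra R A] (𝒜 : ℕ → Submodule R A) [GradedAlgebra 𝒜]
    (d : ℕ) (hgen : Algebra.adjoin R (⋃ i ∈ Finset.range (d + 1), (𝒜 i : Set A)) = ⊤)
    (hcov : (⨆ g : 𝒜 1, Proj.basicOpen 𝒜 (g : A)) = ⊤) (n : ℕ) (hn : 0 < n) :
    ProjUP.GeneratedBy (Twist.twist 𝒜 (n : ℤ))
      (fun b : 𝒜 n => (Twist.globalOf 𝒜 b : ProjUP.Γm (Twist.twist 𝒜 (n : ℤ)))) := by
  apply genBy
  intro y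
  have hy : y ∈ (⊤ : (Proj 𝒜).Opens) := trivial
  rw [← hcov] at hy
  obtain ⟨g, hg⟩ := Opens.mem_iSup.mp hy
  exact ⟨g.1 ^ n, Groth.Agent.S12453.powmem1 𝒜 g.1 g.2 n,
    Groth.Agent.S1614.pow_nin 𝒜 g.1 y ((Proj.mem_basicOpen 𝒜 _ y).mp hg) n⟩

end Groth.Agent.S13172
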