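import Groth.Statements.S13169
import Mathlib
import Groth.Agent.S9817
import Groth.Agent.S12453
import Groth.Agent.S13172

set_option autoImplicit false
universe u
open AlgebraicGeometry
open ZeroCyc

namespace Groth.Agent.S13169


open CategoryTheory CategoryTheory.Limits AlgebraicGeometry TopologicalSpace Opposite

section Aux

variable {R A : Type u} [CommRing R] [CommRing A] [Algebra R A]
  (𝒜 : ℕ → Submodule R A) [GradedAlgebra 𝒜]

theorem exists_nin {s : ℕ} (f : Fin s → A)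
    (hgen : Algebra.adjoin R (Set.range f) = ⊤)
    (y : Proj 𝒜) : ∃ i, f i ∉ y.asHomogeneousIdeal := by
  by_contra hcon
  push Not at hcon
  have key : ∀ a : A, ∃ r : R, a - algebraMap R A r ∈ y.asHomogeneousIdeal.toIdeal := by
    intro a
    have ha : a ∈ Algebra.adjoin R (Set.range f) := by rw [hgen]; exact Algebra.mem_top
    induction ha using Algebra.adjoin_induction with
    | mem x hx =>
      obtain ⟨i, rfl⟩ := hx
      exact ⟨0, by rw [map_zero, sub_zero]; exact hcon i⟩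
    | algebraMap r => exact ⟨r, by rw [sub_self]; exact Ideal.zero_mem _⟩
    | add x z _ _ hx hz =>
      obtain ⟨r1, h1⟩ := hx
      obtain ⟨r2, h2⟩ := hz
      refine ⟨r1 + r2, ?_⟩
      have h3 : x + z - algebraMap R A (r1 + r2) =
          (x - algebraMap R A r1) + (z - algebraMap R A r2) := by rw [map_add]; ring
      rw [h3]; exact Ideal.add_mem _ h1 h2
    | mul x z _ _ hx hz =>
      obtain ⟨r1, h1⟩ := hx
      obtain ⟨r2, h2⟩ := hz
      refine ⟨r1 * r2, ?_⟩
      have h3 : x * z - algebraMap R A (r1 * r2) =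
          (x - algebraMap R A r1) * z + algebraMap R A r1 * (z - algebraMap R A r2) := by
        rw [map_mul]; ring
      rw [h3]
      exact Ideal.add_mem _ (Ideal.mul_mem_right _ _ h1) (Ideal.mul_mem_left _ _ h2)
  refine y.not_irrelevant_le (SetLike.le_def.mpr fun a ha => ?_)
  show a ∈ y.asHomogeneousIdeal.toIdeal
  obtain ⟨r, hr⟩ := key a
  have h0 : GradedRing.proj 𝒜 0 a = 0 := (HomogeneousIdeal.mem_irrelevant_iff 𝒜 a).mp ha
  have h2 : GradedRing.proj 𝒜 0 (a - algebraMap R A r) = - algebraMap R A r := by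
    rw [map_sub, h0, zero_sub, GradedRing.proj_apply,
      DirectSum.decompose_of_mem_same 𝒜 (SetLike.algebraMap_mem_graded 𝒜 r)]
  have h1 : GradedRing.proj 𝒜 0 (a - algebraMap R A r) ∈ y.asHomogeneousIdeal.toIdeal := by
    rw [GradedRing.proj_apply]
    exact (y.asHomogeneousIdeal.isHomogeneous.mem_iff).mp hr 0
  rw [h2] at h1
  have h3 : algebraMap R A r ∈ y.asHomogeneousIdeal.toIdeal := neg_mem_iff.mp h1
  have h4 := Ideal.add_mem _ hr h3
  rwa [sub_add_cancel] at h4

theorem ampleN (N : ℕ) (hN : 0 < N) [CompactSpace (Proj 𝒜)]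
    (hcn : ∀ y : Proj 𝒜, ∃ F ∈ 𝒜 N, F ∉ y.asHomogeneousIdeal) :
    CohB1.IsAmple (Twist.twist 𝒜 (N : ℤ)) := by
  classical
  refine ⟨?_, inferInstance, ?_⟩
  · intro y
    obtain ⟨f, hf, hfy⟩ := hcn y
    refine ⟨Proj.basicOpen 𝒜 f, (Proj.mem_basicOpen 𝒜 f y).mpr hfy, ?_⟩
    exact Groth.Agent.S9575.trivG 𝒜 (N : ℤ) N 0 f 1 hf SetLike.GradedOne.one_mem
      (Groth.Agent.S9817.hmd N) (Proj.basicOpen 𝒜 f).ι
      (fun x => ⟨(Proj.mem_basicOpen 𝒜 f x.1).mp x.2, Groth.Agent.S4401.one_nin 𝒜 _⟩)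
  · intro x
    obtain ⟨f, hf, hfx⟩ := hcn x
    let e := Groth.Agent.S3584.e1 (Twist.twist 𝒜 (N : ℤ))
    let sec : Coh.structureModule (Proj 𝒜) ⟶ CohB1.tensorPow (Twist.twist 𝒜 (N : ℤ)) (0 + 1) :=
      Groth.Agent.S9817.psiD 𝒜 N f hf ≫ e.inv
    have hgl : CohB1.genLocus _ sec = Proj.basicOpen 𝒜 f := by
      unfold CohB1.genLocus
      apply le_antisymm
      · apply sSup_le
        intro U hU
        have hU' : IsIso ((Scheme.Modules.restrictFunctor U.ι).map sec) := hU
        have hψ : IsIso ((Scheme.Modules.restrictFunctor U.ι).map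
            (Groth.Agent.S9817.psiD 𝒜 N f hf)) := by
          have h5 : (Scheme.Modules.restrictFunctor U.ι).map (Groth.Agent.S9817.psiD 𝒜 N f hf) =
              (Scheme.Modules.restrictFunctor U.ι).map sec ≫
                (Scheme.Modules.restrictFunctor U.ι).map e.hom := by
            rw [← Functor.map_comp]
            congr 1
            show _ = (Groth.Agent.S9817.psiD 𝒜 N f hf ≫ e.inv) ≫ e.hom
            rw [Category.assoc, Iso.inv_hom_id, Category.comp_id]
          rw [h5]; infer_instance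
        refine SetLike.le_def.mpr fun y hyU => ?_
        obtain ⟨g, hg, hgy⟩ := hcn y
        exact (Proj.mem_basicOpen 𝒜 f y).mpr
          (Groth.Agent.S9817.not_isIso_of_memD 𝒜 N f g hf hg U.ι hψ ⟨y, hyU⟩ hgy)
      · apply le_sSup
        show IsIso ((Scheme.Modules.restrictFunctor (Proj.basicOpen 𝒜 f).ι).map sec)
        have h6 := Groth.Agent.S9817.isIso_restrict_psiD 𝒜 N f hf (Proj.basicOpen 𝒜 f).ι
          (fun x => (Proj.mem_basicOpen 𝒜 f x.1).mp x.2)
        have h7 : (Scheme.Modules.restrictFunctor (Proj.basicOpen 𝒜 f).ι).map sec =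
            (Scheme.Modules.restrictFunctor (Proj.basicOpen 𝒜 f).ι).map
              (Groth.Agent.S9817.psiD 𝒜 N f hf) ≫
              (Scheme.Modules.restrictFunctor (Proj.basicOpen 𝒜 f).ι).map e.inv :=
          Functor.map_comp _ _ _
        rw [h7]; infer_instance
    refine ⟨0, sec, ?_, ?_⟩
    · rw [hgl]; exact (Proj.mem_basicOpen 𝒜 f x).mpr hfx
    · rw [hgl]; exact Proj.isAffineOpen_basicOpen 𝒜 f hf hN

end Aux


/-- Let B be a graded R-algebra generated by homogeneous elements f_1, …, f_s of positive degrees d_1,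
…, d_s, let l be the least common multiple of the d_i and X = Proj B. For n = a l with a ≥ 1, the
twisting sheaf O_X(n) is ample and is generated by its global sections b/1, b ∈ B_n. -/
theorem result {R A : Type u} [CommRing R] [CommRing A] [Algebra R A] (𝒜 : ℕ → Submodule R A) [GradedAlgebra 𝒜]
    {s : ℕ} (f : Fin s → A) (deg : Fin s → ℕ) (hdeg : ∀ i, 0 < deg i) (hf : ∀ i, f i ∈ 𝒜 (deg i))
    (hgen : Algebra.adjoin R (Set.range f) = ⊤) (a : ℕ) (ha : 0 < a) :
    CohB1.IsAmple (Twist.twist 𝒜 ((a * Finset.univ.lcm deg : ℕ) : ℤ)) ∧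
      ProjUP.GeneratedBy (Twist.twist 𝒜 ((a * Finset.univ.lcm deg : ℕ) : ℤ))
        (fun b : 𝒜 (a * Finset.univ.lcm deg) =>
          (Twist.globalOf 𝒜 b : ProjUP.Γm (Twist.twist 𝒜 ((a * Finset.univ.lcm deg : ℕ) : ℤ)))) := by
  classical
  have hex := exists_nin 𝒜 f hgen
  have hl : Finset.univ.lcm deg ≠ 0 := by
    intro h
    rw [Finset.lcm_eq_zero_iff] at h
    obtain ⟨i, _, hi⟩ := h
    exact (hdeg i).ne' hi
  have hN : 0 < a * Finset.univ.lcm deg := Nat.mul_pos ha (Nat.pos_of_ne_zero hl)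
  have hdvd : ∀ i, deg i ∣ a * Finset.univ.lcm deg := fun i =>
    Dvd.dvd.mul_left (Finset.dvd_lcm (Finset.mem_univ i)) a
  have hcn : ∀ y : Proj 𝒜, ∃ F ∈ 𝒜 (a * Finset.univ.lcm deg), F ∉ y.asHomogeneousIdeal := by
    intro y
    obtain ⟨i, hi⟩ := hex y
    refine ⟨(f i) ^ (a * Finset.univ.lcm deg / deg i), ?_, Groth.Agent.S1614.pow_nin 𝒜 (f i) y hi _⟩
    have h1 := Groth.Agent.S1614.pow_mem' 𝒜 (deg i) (f i) (hf i) (a * Finset.univ.lcm deg / deg i)
    rwa [Nat.div_mul_cancel (hdvd i)] at h1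
  haveI : CompactSpace (Proj 𝒜) := by
    rw [← isCompact_univ_iff]
    have huniv : (Set.univ : Set (Proj 𝒜)) =
        ⋃ i : Fin s, ((Proj.basicOpen 𝒜 (f i) : (Proj 𝒜).Opens) : Set (Proj 𝒜)) := by
      symm
      apply Set.eq_univ_of_forall
      intro x
      obtain ⟨i, hi⟩ := hex x
      exact Set.mem_iUnion.mpr ⟨i, (Proj.mem_basicOpen 𝒜 (f i) x).mpr hi⟩
    rw [huniv]
    exact isCompact_iUnion
      (fun i => (Proj.isAffineOpen_basicOpen 𝒜 (f i) (hf i) (hdeg i)).isCompact)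
  exact ⟨ampleN 𝒜 _ hN hcn, Groth.Agent.S13172.genBy 𝒜 _ hcn⟩

end Groth.Agent.S13169
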