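import Groth.Statements.S13170
import Mathlib
import Groth.Agent.S9817
import Groth.Agent.S12453
import Groth.Agent.S13169

set_option autoImplicit false
universe u
open AlgebraicGeometry CategoryTheory
open ZeroCyc

namespace Groth.Agent.S13170


open CategoryTheory CategoryTheory.Limits AlgebraicGeometry TopologicalSpace Opposite TensorProduct
open Groth.Agent.S9575 (gsec)
open Groth.Agent.S12453 (mulSec mulLin mu')

section Aux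

variable {R A : Type u} [CommRing R] [CommRing A] [Algebra R A]
  (𝒜 : ℕ → Submodule R A) [GradedAlgebra 𝒜]

/-- product of sections with a flexible target degree -/
def mulSecE (m n e : ℤ) (he : m + n = e) (U : (Opens (ProjectiveSpectrum.top 𝒜))ᵒᵖ)
    (s : Twist.sectN (𝒜 := 𝒜) m U) (t : Twist.sectN (𝒜 := 𝒜) n U) :
    Twist.sectN (𝒜 := 𝒜) e U :=
  cast (congrArg (fun k => ↥(Twist.sectN (𝒜 := 𝒜) k U)) he) (mulSec 𝒜 m n U s t)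

theorem mulSecE_val (m n e : ℤ) (he : m + n = e) (U : (Opens (ProjectiveSpectrum.top 𝒜))ᵒᵖ)
    (s : Twist.sectN (𝒜 := 𝒜) m U) (t : Twist.sectN (𝒜 := 𝒜) n U) (x : U.unop) :
    ((mulSecE 𝒜 m n e he U s t).1 x).1 = (s.1 x).1 * (t.1 x).1 := by
  subst he
  rfl

theorem mulG_bij (m n : ℤ) (i j : ℕ) (u v : A) (hu : u ∈ 𝒜 i) (hv : v ∈ 𝒜 j)
    (hm : (i : ℤ) = j + m) (V : Opens (ProjectiveSpectrum.top 𝒜))
    (hV : ∀ x : V, u ∉ x.1.asHomogeneousIdeal ∧ v ∉ x.1.asHomogeneousIdeal) :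
    Function.Bijective (fun t : Twist.sectN (𝒜 := 𝒜) n (op V) =>
      mulSec 𝒜 m n (op V) (gsec 𝒜 m i j u v hu hv hm V hV) t) := by
  have hm' : (j : ℤ) = i + (-m) := by linarith
  have hV' : ∀ x : V, v ∉ x.1.asHomogeneousIdeal ∧ u ∉ x.1.asHomogeneousIdeal :=
    fun x => ⟨(hV x).2, (hV x).1⟩
  have h1 : ∀ x : V, ((gsec 𝒜 (-m) j i v u hv hu hm' V hV').1 x).1 *
      ((gsec 𝒜 m i j u v hu hv hm V hV).1 x).1 = 1 := fun x =>
    Groth.Agent.S1614.mk_mul_mk_swap _ ⟨v, (hV x).2⟩ ⟨u, (hV x).1⟩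
  refine Function.bijective_iff_has_inverse.mpr
    ⟨fun w => mulSecE 𝒜 (-m) (m + n) n (neg_add_cancel_left m n) (op V)
      (gsec 𝒜 (-m) j i v u hv hu hm' V hV') w, ?_, ?_⟩
  · intro t
    refine Subtype.ext (funext fun x => Subtype.ext ?_)
    refine (mulSecE_val 𝒜 (-m) (m + n) n _ (op V) _ _ x).trans ?_
    show ((gsec 𝒜 (-m) j i v u hv hu hm' V hV').1 x).1 *
      (((gsec 𝒜 m i j u v hu hv hm V hV).1 x).1 * (t.1 x).1) = (t.1 x).1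
    rw [← mul_assoc, h1 x, one_mul]
  · intro w
    refine Subtype.ext (funext fun x => Subtype.ext ?_)
    show ((gsec 𝒜 m i j u v hu hv hm V hV).1 x).1 *
      ((mulSecE 𝒜 (-m) (m + n) n (neg_add_cancel_left m n) (op V)
        (gsec 𝒜 (-m) j i v u hv hu hm' V hV') w).1 x).1 = (w.1 x).1
    rw [mulSecE_val, ← mul_assoc, mul_comm ((gsec 𝒜 m i j u v hu hv hm V hV).1 x).1, h1 x, one_mul]

theorem tform3 (m n : ℤ) (i j : ℕ) (u v : A) (hu : u ∈ 𝒜 i) (hv : v ∈ 𝒜 j)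
    (hm : (i : ℤ) = j + m) (V : Opens (ProjectiveSpectrum.top 𝒜))
    (hV : ∀ x : V, u ∉ x.1.asHomogeneousIdeal ∧ v ∉ x.1.asHomogeneousIdeal)
    (z : TensorProduct (Twist.O (𝒜 := 𝒜) (op V)) (Twist.sectN (𝒜 := 𝒜) m (op V))
      (Twist.sectN (𝒜 := 𝒜) n (op V))) : ∃ t : Twist.sectN (𝒜 := 𝒜) n (op V),
      z = (gsec 𝒜 m i j u v hu hv hm V hV) ⊗ₜ[Twist.O (𝒜 := 𝒜) (op V)] t := by
  induction z using TensorProduct.induction_on with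
  | zero => exact ⟨0, (TensorProduct.tmul_zero _ _).symm⟩
  | tmul a b =>
    obtain ⟨r, hr⟩ := (Groth.Agent.S9575.bij_core 𝒜 m i j u v hu hv hm V hV).2 a
    have hr' : r • gsec 𝒜 m i j u v hu hv hm V hV = a := hr
    refine ⟨r • b, ?_⟩
    rw [← hr']
    exact TensorProduct.smul_tmul r _ b
  | add z z' hz hz' =>
    obtain ⟨t, rfl⟩ := hz
    obtain ⟨t', rfl⟩ := hz'
    exact ⟨t + t', (TensorProduct.tmul_add _ t t').symm⟩

theorem mulLin_inj3 (m n : ℤ) (i j : ℕ) (u v : A) (hu : u ∈ 𝒜 i) (hv : v ∈ 𝒜 j)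
    (hm : (i : ℤ) = j + m) (V : Opens (ProjectiveSpectrum.top 𝒜))
    (hV : ∀ x : V, u ∉ x.1.asHomogeneousIdeal ∧ v ∉ x.1.asHomogeneousIdeal) :
    Function.Injective (mulLin 𝒜 m n (op V)) := by
  intro z z' h
  obtain ⟨t, ht⟩ := tform3 𝒜 m n i j u v hu hv hm V hV z
  obtain ⟨t', ht'⟩ := tform3 𝒜 m n i j u v hu hv hm V hV z'
  have h' : mulSec 𝒜 m n (op V) (gsec 𝒜 m i j u v hu hv hm V hV) t =
      mulSec 𝒜 m n (op V) (gsec 𝒜 m i j u v hu hv hm V hV) t' :=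
    (Groth.Agent.S12453.mulLin_tmul 𝒜 m n (op V) _ t).symm.trans
      ((congrArg (mulLin 𝒜 m n (op V)) ht.symm).trans
        (h.trans ((congrArg (mulLin 𝒜 m n (op V)) ht').trans
          (Groth.Agent.S12453.mulLin_tmul 𝒜 m n (op V) _ t'))))
  have htt : t = t' := (mulG_bij 𝒜 m n i j u v hu hv hm V hV).1 h'
  subst htt
  exact ht.trans ht'.symm

theorem mulLin_surj3 (m n : ℤ) (i j : ℕ) (u v : A) (hu : u ∈ 𝒜 i) (hv : v ∈ 𝒜 j)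
    (hm : (i : ℤ) = j + m) (V : Opens (ProjectiveSpectrum.top 𝒜))
    (hV : ∀ x : V, u ∉ x.1.asHomogeneousIdeal ∧ v ∉ x.1.asHomogeneousIdeal) :
    Function.Surjective (mulLin 𝒜 m n (op V)) := by
  intro w
  obtain ⟨t, ht⟩ := (mulG_bij 𝒜 m n i j u v hu hv hm V hV).2 w
  exact ⟨(gsec 𝒜 m i j u v hu hv hm V hV) ⊗ₜ[Twist.O (𝒜 := 𝒜) (op V)] t,
    (Groth.Agent.S12453.mulLin_tmul 𝒜 m n (op V) _ t).trans ht⟩

theorem mu_locSurj3 (m n : ℤ)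
    (hcov : ∀ y : ProjectiveSpectrum 𝒜, ∃ (i j : ℕ) (u v : A), u ∈ 𝒜 i ∧ v ∈ 𝒜 j ∧
      (i : ℤ) = j + m ∧ u ∉ y.asHomogeneousIdeal ∧ v ∉ y.asHomogeneousIdeal) :
    Presheaf.IsLocallySurjective (Opens.grothendieckTopology (Proj 𝒜))
      ((PresheafOfModules.toPresheaf _).map (mu' 𝒜 m n)) := by
  constructor
  intro U s
  rw [Opens.mem_grothendieckTopology]
  intro x hxU
  obtain ⟨i, j, u, v, hu, hv, hm, hux, hvx⟩ := hcov x
  have hV : ∀ y : (U ⊓ (Proj.basicOpen 𝒜 u ⊓ Proj.basicOpen 𝒜 v) : (Proj 𝒜).Opens),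
      u ∉ y.1.asHomogeneousIdeal ∧ v ∉ y.1.asHomogeneousIdeal := fun y =>
    ⟨(Proj.mem_basicOpen 𝒜 u y.1).mp
      ((le_trans inf_le_right inf_le_left : U ⊓ (Proj.basicOpen 𝒜 u ⊓ Proj.basicOpen 𝒜 v) ≤ Proj.basicOpen 𝒜 u) y.2),
     (Proj.mem_basicOpen 𝒜 v y.1).mp
      ((le_trans inf_le_right inf_le_right : U ⊓ (Proj.basicOpen 𝒜 u ⊓ Proj.basicOpen 𝒜 v) ≤ Proj.basicOpen 𝒜 v) y.2)⟩
  refine ⟨U ⊓ (Proj.basicOpen 𝒜 u ⊓ Proj.basicOpen 𝒜 v), homOfLE inf_le_left, ?_,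
    ⟨hxU, ⟨(Proj.mem_basicOpen 𝒜 u x).mpr hux, (Proj.mem_basicOpen 𝒜 v x).mpr hvx⟩⟩⟩
  obtain ⟨z, hz⟩ := (mulLin_surj3 𝒜 m n i j u v hu hv hm (U ⊓ (Proj.basicOpen 𝒜 u ⊓ Proj.basicOpen 𝒜 v)) hV)
    ((Twist.twist 𝒜 (m + n)).presheaf.map
      (homOfLE (inf_le_left : U ⊓ (Proj.basicOpen 𝒜 u ⊓ Proj.basicOpen 𝒜 v) ≤ U)).op s)
  exact ⟨z, hz⟩

theorem mu_locInj3 (m n : ℤ)
    (hcov : ∀ y : ProjectiveSpectrum 𝒜, ∃ (i j : ℕ) (u v : A), u ∈ 𝒜 i ∧ v ∈ 𝒜 j ∧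
      (i : ℤ) = j + m ∧ u ∉ y.asHomogeneousIdeal ∧ v ∉ y.asHomogeneousIdeal) :
    Presheaf.IsLocallyInjective (Opens.grothendieckTopology (Proj 𝒜))
      ((PresheafOfModules.toPresheaf _).map (mu' 𝒜 m n)) := by
  constructor
  intro U z z' h
  rw [Opens.mem_grothendieckTopology]
  intro x hxU
  obtain ⟨i, j, u, v, hu, hv, hm, hux, hvx⟩ := hcov x
  have hV : ∀ y : (U.unop ⊓ (Proj.basicOpen 𝒜 u ⊓ Proj.basicOpen 𝒜 v) : (Proj 𝒜).Opens),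
      u ∉ y.1.asHomogeneousIdeal ∧ v ∉ y.1.asHomogeneousIdeal := fun y =>
    ⟨(Proj.mem_basicOpen 𝒜 u y.1).mp
      ((le_trans inf_le_right inf_le_left : U.unop ⊓ (Proj.basicOpen 𝒜 u ⊓ Proj.basicOpen 𝒜 v) ≤ Proj.basicOpen 𝒜 u) y.2),
     (Proj.mem_basicOpen 𝒜 v y.1).mp
      ((le_trans inf_le_right inf_le_right : U.unop ⊓ (Proj.basicOpen 𝒜 u ⊓ Proj.basicOpen 𝒜 v) ≤ Proj.basicOpen 𝒜 v) y.2)⟩
  refine ⟨U.unop ⊓ (Proj.basicOpen 𝒜 u ⊓ Proj.basicOpen 𝒜 v), homOfLE inf_le_left, ?_,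
    ⟨hxU, ⟨(Proj.mem_basicOpen 𝒜 u x).mpr hux, (Proj.mem_basicOpen 𝒜 v x).mpr hvx⟩⟩⟩
  apply (mulLin_inj3 𝒜 m n i j u v hu hv hm (U.unop ⊓ (Proj.basicOpen 𝒜 u ⊓ Proj.basicOpen 𝒜 v)) hV)
  have nat := fun w => ConcreteCategory.congr_hom
    (((PresheafOfModules.toPresheaf _).map (mu' 𝒜 m n)).naturality
      (homOfLE (inf_le_left : U.unop ⊓ (Proj.basicOpen 𝒜 u ⊓ Proj.basicOpen 𝒜 v) ≤ U.unop)).op) w
  have e3 := congrArg (fun w => ((Twist.twist 𝒜 (m + n)).presheaf.map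
      (homOfLE (inf_le_left : U.unop ⊓ (Proj.basicOpen 𝒜 u ⊓ Proj.basicOpen 𝒜 v) ≤ U.unop)).op) w) h
  exact (nat z).trans (e3.trans (nat z').symm)

theorem tensIso3 (m n : ℤ)
    (hcov : ∀ y : ProjectiveSpectrum 𝒜, ∃ (i j : ℕ) (u v : A), u ∈ 𝒜 i ∧ v ∈ 𝒜 j ∧
      (i : ℤ) = j + m ∧ u ∉ y.asHomogeneousIdeal ∧ v ∉ y.asHomogeneousIdeal) :
    Nonempty (CohB1.tensorMod (Twist.twist 𝒜 m) (Twist.twist 𝒜 n) ≅ Twist.twist 𝒜 (m + n)) := by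
  have hiso := Groth.Agent.S12453.isIso_sheafify_map (mu' 𝒜 m n) (mu_locInj3 𝒜 m n hcov)
    (mu_locSurj3 𝒜 m n hcov)
  exact ⟨(@asIso _ _ _ _ _ hiso) ≪≫
    Groth.Agent.S3584.eb (Proj 𝒜) (Twist.twist 𝒜 (m + n))⟩

end Aux


/-- Let B be a graded R-algebra generated by homogeneous elements f_1, …, f_s of positive degrees d_1,
…, d_s, let l be the least common multiple of the d_i and X = Proj B. For all integers a and n,
O_X(al) ⊗ O_X(n) ≅ O_X(al + n). (The published statement asserts that the canonical multiplication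
map is an isomorphism; this row asserts only that an isomorphism exists.) -/
theorem result {R A : Type u} [CommRing R] [CommRing A] [Algebra R A] (𝒜 : ℕ → Submodule R A) [GradedAlgebra 𝒜]
    {s : ℕ} (f : Fin s → A) (deg : Fin s → ℕ) (hdeg : ∀ i, 0 < deg i) (hf : ∀ i, f i ∈ 𝒜 (deg i))
    (hgen : Algebra.adjoin R (Set.range f) = ⊤) (a n : ℤ) :
    Nonempty (CohB1.tensorMod (Twist.twist 𝒜 (a * (Finset.univ.lcm deg : ℕ))) (Twist.twist 𝒜 n) ≅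
      Twist.twist 𝒜 (a * (Finset.univ.lcm deg : ℕ) + n)) := by
  classical
  apply tensIso3
  intro y
  obtain ⟨idx, hi⟩ := Groth.Agent.S13169.exists_nin 𝒜 f hgen y
  have hF : (f idx) ^ (Finset.univ.lcm deg / deg idx) ∈ 𝒜 (Finset.univ.lcm deg) := by
    have h1 := Groth.Agent.S1614.pow_mem' 𝒜 (deg idx) (f idx) (hf idx)
      (Finset.univ.lcm deg / deg idx)
    rwa [Nat.div_mul_cancel (Finset.dvd_lcm (Finset.mem_univ idx))] at h1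
  have hFy : (f idx) ^ (Finset.univ.lcm deg / deg idx) ∉ y.asHomogeneousIdeal :=
    Groth.Agent.S1614.pow_nin 𝒜 (f idx) y hi _
  refine ⟨a.toNat * Finset.univ.lcm deg, (-a).toNat * Finset.univ.lcm deg,
    ((f idx) ^ (Finset.univ.lcm deg / deg idx)) ^ a.toNat,
    ((f idx) ^ (Finset.univ.lcm deg / deg idx)) ^ (-a).toNat,
    Groth.Agent.S1614.pow_mem' 𝒜 _ _ hF _, Groth.Agent.S1614.pow_mem' 𝒜 _ _ hF _, ?_,
    Groth.Agent.S1614.pow_nin 𝒜 _ y hFy _, Groth.Agent.S1614.pow_nin 𝒜 _ y hFy _⟩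
  have h := Groth.Agent.S12453.hk a
  rw [Nat.cast_mul, Nat.cast_mul]
  linear_combination ((Finset.univ.lcm deg : ℕ) : ℤ) * h

end Groth.Agent.S13170
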