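import Groth.Statements.S13171
import Mathlib
import Groth.Agent.S9817
import Groth.Agent.S12453
import Groth.Agent.S13169

set_option autoImplicit false
universe u
open AlgebraicGeometry
open ZeroCyc

namespace Groth.Agent.S13171


open CategoryTheory CategoryTheory.Limits AlgebraicGeometry TopologicalSpace Opposite

section Aux

variable {R A : Type u} [CommRing R] [CommRing A] [Algebra R A]
  (𝒜 : ℕ → Submodule R A) [GradedAlgebra 𝒜]

section Alg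

variable {s : ℕ} (f : Fin s → A) (deg : Fin s → ℕ)

theorem sum_bound (i : Fin s) (c : ℕ) (g : Fin s → ℕ) (hi : g i = 0) (hc : ∀ k, g k ≤ c) :
    ∑ k, g k ≤ (s - 1) * c := by
  rw [← Finset.add_sum_erase Finset.univ g (Finset.mem_univ i), hi, zero_add]
  have h := Finset.sum_le_card_nsmul (Finset.univ.erase i) g c (fun k _ => hc k)
  rwa [Finset.card_erase_of_mem (Finset.mem_univ i), Finset.card_univ, Fintype.card_fin,
    smul_eq_mul] at h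

theorem shift (q p n : ℕ) (u w : A) (hu : u ∈ 𝒜 q) (hw : w ∈ 𝒜 p * 𝒜 n) :
    u * w ∈ 𝒜 (q + p) * 𝒜 n := by
  refine Submodule.mul_induction_on hw (fun c hc β hβ => ?_) (fun w1 w2 h1 h2 => ?_)
  · rw [← mul_assoc]
    exact Submodule.mul_mem_mul (SetLike.mul_mem_graded hu hc) hβ
  · rw [mul_add]; exact add_mem h1 h2

theorem MC (hdeg : ∀ i, 0 < deg i) (hf : ∀ i, f i ∈ 𝒜 (deg i)) (i : Fin s) (n k : ℕ)
    (hn : (s - 1) * (Finset.univ.lcm deg - 1) ≤ n) (e : Fin s → ℕ)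
    (he : (∏ j, f j ^ e j) ∈ 𝒜 (k * deg i + n)) :
    ∃ K, f i ^ K * (∏ j, f j ^ e j) ∈ 𝒜 ((K + k) * deg i) * 𝒜 n := by
  classical
  by_cases h0 : (∏ j, f j ^ e j) = 0
  · exact ⟨0, by rw [h0, mul_zero]; exact zero_mem _⟩
  set l := Finset.univ.lcm deg with hl
  have hlpos : 0 < l := by
    apply Nat.pos_of_ne_zero
    intro h
    rw [hl, Finset.lcm_eq_zero_iff] at h
    obtain ⟨j, _, hj⟩ := h
    exact (hdeg j).ne' hj
  have hdvd : ∀ j, deg j ∣ l := fun j => Finset.dvd_lcm (Finset.mem_univ j)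
  let m : Fin s → ℕ := fun j => l / deg j
  have hml : ∀ j, m j * deg j = l := fun j => Nat.div_mul_cancel (hdvd j)
  have hmpos : ∀ j, 0 < m j := fun j => Nat.pos_of_ne_zero (fun h => by
    have h' := hml j
    rw [h, zero_mul] at h'
    exact hlpos.ne h')
  let q : Fin s → ℕ := fun j => if j = i then 0 else e j / m j
  let r : Fin s → ℕ := fun j => if j = i then 0 else e j % m j
  have hk : ∀ j, f j ^ e j =
      (if j = i then f j ^ e i else 1) * ((f j ^ m j) ^ q j * f j ^ r j) := by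
    intro j
    by_cases hji : j = i
    · simp only [q, r, if_pos hji, pow_zero, mul_one]
      rw [hji]
    · simp only [q, r, if_neg hji, one_mul]
      rw [← pow_mul, ← pow_add, Nat.div_add_mod]
  have hprod : (∏ j, f j ^ e j) =
      f i ^ e i * ((∏ j, (f j ^ m j) ^ q j) * ∏ j, f j ^ r j) := by
    have h1 : f i ^ e i = ∏ j, (if j = i then f j ^ e i else 1) := by
      rw [Finset.prod_ite_eq' Finset.univ i (fun j => f j ^ e i)]
      simp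
    rw [h1, ← Finset.prod_mul_distrib, ← Finset.prod_mul_distrib]
    exact Finset.prod_congr rfl (fun j _ => hk j)
  have hFm : ∀ j, f j ^ m j ∈ 𝒜 l := fun j => by
    have h := Groth.Agent.S1614.pow_mem' 𝒜 (deg j) (f j) (hf j) (m j)
    rwa [hml j] at h
  have hC : (∏ j, (f j ^ m j) ^ q j) ∈ 𝒜 (∑ j, q j * l) := by
    have h := SetLike.prod_pow_mem_graded 𝒜 (fun _ : Fin s => l) (fun j => f j ^ m j) q
      (F := Finset.univ) (fun j _ => hFm j)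
    simpa only [smul_eq_mul] using h
  have hP : (∏ j, f j ^ r j) ∈ 𝒜 (∑ j, r j * deg j) := by
    have h := SetLike.prod_pow_mem_graded 𝒜 deg f r (F := Finset.univ) (fun j _ => hf j)
    simpa only [smul_eq_mul] using h
  have hDl : deg i ∣ l := hdvd i
  have hDQ : deg i ∣ ∑ j, q j * l := Finset.dvd_sum (fun j _ => Dvd.dvd.mul_left hDl (q j))
  have hbound : ∑ j, r j * deg j ≤ n := by
    refine le_trans (sum_bound i (l - 1) (fun j => r j * deg j) ?_ ?_) hn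
    · simp [r]
    · intro j
      by_cases hji : j = i
      · simp [r, hji]
      · simp only [r, if_neg hji]
        have h1 : (e j % m j + 1) * deg j ≤ m j * deg j :=
          Nat.mul_le_mul_right _ (Nat.mod_lt _ (hmpos j))
        rw [hml j, add_one_mul] at h1
        have h2 := hdeg j
        omega
  generalize hQ : ∑ j, q j * l = Q at hC hDQ
  generalize hdegP : ∑ j, r j * deg j = degP at hP hbound
  have hmem2 : (∏ j, f j ^ e j) ∈ 𝒜 (e i * deg i + (Q + degP)) := by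
    rw [hprod]
    exact SetLike.mul_mem_graded (Groth.Agent.S1614.pow_mem' 𝒜 (deg i) (f i) (hf i) (e i))
      (SetLike.mul_mem_graded hC hP)
  have hH : k * deg i + n = e i * deg i + (Q + degP) :=
    DirectSum.degree_eq_of_mem_mem 𝒜 he hmem2 h0
  have hsub : n - degP = (e i * deg i + Q) - k * deg i := by omega
  obtain ⟨t, ht⟩ : deg i ∣ n - degP := by
    rw [hsub]
    exact Nat.dvd_sub (Dvd.dvd.add (dvd_mul_left _ _) hDQ) (dvd_mul_left _ _)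
  have htD : t * deg i = deg i * t := Nat.mul_comm _ _
  have hβ : f i ^ t * (∏ j, f j ^ r j) ∈ 𝒜 n := by
    have h := SetLike.mul_mem_graded (Groth.Agent.S1614.pow_mem' 𝒜 (deg i) (f i) (hf i) t) hP
    have hidx : t * deg i + degP = n := by omega
    rwa [hidx] at h
  have hc : f i ^ e i * (∏ j, (f j ^ m j) ^ q j) ∈ 𝒜 ((t + k) * deg i) := by
    have h := SetLike.mul_mem_graded (Groth.Agent.S1614.pow_mem' 𝒜 (deg i) (f i) (hf i) (e i)) hC
    have hidx : e i * deg i + Q = (t + k) * deg i := by rw [add_mul]; omega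
    rwa [hidx] at h
  refine ⟨t, ?_⟩
  have hfin : f i ^ t * (∏ j, f j ^ e j) =
      (f i ^ e i * (∏ j, (f j ^ m j) ^ q j)) * (f i ^ t * (∏ j, f j ^ r j)) := by
    rw [hprod]; ring
  rw [hfin]
  exact Submodule.mul_mem_mul hc hβ

theorem monos_span (hf : ∀ i, f i ∈ 𝒜 (deg i)) (hgen : Algebra.adjoin R (Set.range f) = ⊤)
    (N : ℕ) (a : A) (ha : a ∈ 𝒜 N) :
    a ∈ Submodule.span R {x : A | x ∈ 𝒜 N ∧ ∃ e : Fin s → ℕ, x = ∏ j, f j ^ e j} := by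
  classical
  have hmono : ∀ x ∈ Submonoid.closure (Set.range f), ∃ e : Fin s → ℕ, x = ∏ j, f j ^ e j := by
    intro x hx
    induction hx using Submonoid.closure_induction with
    | mem y hy =>
      obtain ⟨i, rfl⟩ := hy
      refine ⟨Pi.single i 1, ?_⟩
      rw [Finset.prod_eq_single i]
      · rw [Pi.single_eq_same, pow_one]
      · intro j _ hji
        rw [Pi.single_eq_of_ne hji, pow_zero]
      · intro h; exact absurd (Finset.mem_univ i) h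
    | one => exact ⟨0, by simp⟩
    | mul y z _ _ hy hz =>
      obtain ⟨e1, rfl⟩ := hy
      obtain ⟨e2, rfl⟩ := hz
      exact ⟨e1 + e2, by
        rw [← Finset.prod_mul_distrib]
        exact Finset.prod_congr rfl (fun j _ => (pow_add _ _ _).symm)⟩
  have hspan : ∀ x : A,
      x ∈ Submodule.span R {y : A | ∃ e : Fin s → ℕ, y = ∏ j, f j ^ e j} := by
    intro x
    have hx0 : x ∈ Algebra.adjoin R (Set.range f) := by rw [hgen]; exact Algebra.mem_top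
    have hx : x ∈ Subalgebra.toSubmodule (Algebra.adjoin R (Set.range f)) := hx0
    rw [Algebra.adjoin_eq_span] at hx
    exact Submodule.span_mono (fun y hy => hmono y hy) hx
  have hproj : ∀ x ∈ Submodule.span R {y : A | ∃ e : Fin s → ℕ, y = ∏ j, f j ^ e j},
      GradedAlgebra.proj 𝒜 N x ∈
        Submodule.span R {x : A | x ∈ 𝒜 N ∧ ∃ e : Fin s → ℕ, x = ∏ j, f j ^ e j} := by
    intro x hx
    induction hx using Submodule.span_induction with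
    | mem y hy =>
      obtain ⟨e, rfl⟩ := hy
      have hm : (∏ j, f j ^ e j) ∈ 𝒜 (∑ j, e j * deg j) := by
        have h := SetLike.prod_pow_mem_graded 𝒜 deg f e (F := Finset.univ) (fun j _ => hf j)
        simpa only [smul_eq_mul] using h
      by_cases hN : ∑ j, e j * deg j = N
      · rw [GradedAlgebra.proj_apply, DirectSum.decompose_of_mem_same 𝒜 (hN ▸ hm)]
        exact Submodule.subset_span ⟨hN ▸ hm, e, rfl⟩
      · rw [GradedAlgebra.proj_apply, DirectSum.decompose_of_mem_ne 𝒜 hm hN]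
        exact zero_mem _
    | zero => rw [map_zero]; exact zero_mem _
    | add y z _ _ hy hz => rw [map_add]; exact add_mem hy hz
    | smul c y _ hy => rw [map_smul]; exact Submodule.smul_mem _ c hy
  have h := hproj a (hspan a)
  rwa [GradedAlgebra.proj_apply, DirectSum.decompose_of_mem_same 𝒜 ha] at h

theorem AL (hdeg : ∀ i, 0 < deg i) (hf : ∀ i, f i ∈ 𝒜 (deg i))
    (hgen : Algebra.adjoin R (Set.range f) = ⊤) (i : Fin s) (n k : ℕ)
    (hn : (s - 1) * (Finset.univ.lcm deg - 1) ≤ n) (a : A) (ha : a ∈ 𝒜 (k * deg i + n)) :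
    ∃ K, f i ^ K * a ∈ 𝒜 ((K + k) * deg i) * 𝒜 n := by
  have hs := monos_span 𝒜 f deg hf hgen (k * deg i + n) a ha
  clear ha
  induction hs using Submodule.span_induction with
  | mem y hy =>
    obtain ⟨hyN, e, rfl⟩ := hy
    exact MC 𝒜 f deg hdeg hf i n k hn e hyN
  | zero => exact ⟨0, by rw [mul_zero]; exact zero_mem _⟩
  | add y z _ _ hy hz =>
    obtain ⟨K1, h1⟩ := hy
    obtain ⟨K2, h2⟩ := hz
    refine ⟨K1 + K2, ?_⟩
    have e1 : f i ^ (K1 + K2) * (y + z) =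
        f i ^ K2 * (f i ^ K1 * y) + f i ^ K1 * (f i ^ K2 * z) := by
      rw [pow_add]; ring
    rw [e1]
    have g1 := shift 𝒜 (K2 * deg i) ((K1 + k) * deg i) n _ _
      (Groth.Agent.S1614.pow_mem' 𝒜 (deg i) (f i) (hf i) K2) h1
    have g2 := shift 𝒜 (K1 * deg i) ((K2 + k) * deg i) n _ _
      (Groth.Agent.S1614.pow_mem' 𝒜 (deg i) (f i) (hf i) K1) h2
    have i1 : K2 * deg i + (K1 + k) * deg i = (K1 + K2 + k) * deg i := by ring
    have i2 : K1 * deg i + (K2 + k) * deg i = (K1 + K2 + k) * deg i := by ring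
    rw [i1] at g1
    rw [i2] at g2
    exact add_mem g1 g2
  | smul c y _ hy =>
    obtain ⟨K, h⟩ := hy
    exact ⟨K, by rw [mul_smul_comm]; exact Submodule.smul_mem _ c h⟩

end Alg

/-- the section `u/v` of `O(m)` over an open inside `D_+(v)` -/
def fsec (m : ℤ) (i j : ℕ) (u v : A) (hu : u ∈ 𝒜 i) (hv : v ∈ 𝒜 j) (hm : (i : ℤ) = j + m)
    (W : Opens (ProjectiveSpectrum.top 𝒜))
    (hW : ∀ x : W, v ∉ x.1.asHomogeneousIdeal) :
    Twist.sectN (𝒜 := 𝒜) m (op W) :=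
  ⟨fun x => ⟨Localization.mk u ⟨v, hW x⟩,
      Submodule.subset_span ⟨i, j, ⟨u, hu⟩, ⟨v, hv⟩, hW x, hm, rfl⟩⟩,
    fun x => ⟨W, x.2, 𝟙 _, i, j, ⟨u, hu⟩, ⟨v, hv⟩, fun y => hW y, Or.inl hm, fun _ => rfl⟩⟩

/-- the section `c/g` of the structure sheaf over an open inside `D_+(g)` -/
def osec (p : ℕ) (c g : A) (hc : c ∈ 𝒜 p) (hg : g ∈ 𝒜 p)
    (W : Opens (ProjectiveSpectrum.top 𝒜))
    (hW : ∀ x : W, g ∉ x.1.asHomogeneousIdeal) : Twist.O (𝒜 := 𝒜) (op W) :=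
  (Subtype.mk
    (fun x : W => (HomogeneousLocalization.mk ⟨p, ⟨c, hc⟩, ⟨g, hg⟩, hW x⟩ : Twist.A0 𝒜 x.1))
    (fun x => ⟨W, x.2, 𝟙 _, p, ⟨c, hc⟩, ⟨g, hg⟩, fun y => hW y, fun _ => rfl⟩) :
    {g : ∀ x : W, Twist.A0 𝒜 x.1 //
      (ProjectiveSpectrum.StructureSheaf.isLocallyFraction 𝒜).pred g})

theorem hle (p n : ℕ) : 𝒜 p * 𝒜 n ≤ 𝒜 (p + n) :=
  Submodule.mul_le.mpr fun _ ha _ hb => SetLike.mul_mem_graded ha hb

theorem hpn (p n : ℕ) : ((p + n : ℕ) : ℤ) = (p : ℤ) + (n : ℤ) := Nat.cast_add p n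

theorem fsec_add (m : ℤ) (i j : ℕ) (u u' v : A) (hu : u ∈ 𝒜 i) (hu' : u' ∈ 𝒜 i)
    (huu : u + u' ∈ 𝒜 i) (hv : v ∈ 𝒜 j) (hm : (i : ℤ) = j + m)
    (W : Opens (ProjectiveSpectrum.top 𝒜)) (hW : ∀ x : W, v ∉ x.1.asHomogeneousIdeal) :
    fsec 𝒜 m i j (u + u') v huu hv hm W hW =
      fsec 𝒜 m i j u v hu hv hm W hW + fsec 𝒜 m i j u' v hu' hv hm W hW :=
  Subtype.ext (funext fun x => Subtype.ext (Localization.add_mk_self u ⟨v, hW x⟩ u').symm)

theorem fsec_mul (n p : ℕ) (c β g : A) (hc : c ∈ 𝒜 p) (hβ : β ∈ 𝒜 n) (hg : g ∈ 𝒜 p)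
    (hcβ : c * β ∈ 𝒜 (p + n))
    (W : Opens (ProjectiveSpectrum.top 𝒜)) (hW : ∀ x : W, g ∉ x.1.asHomogeneousIdeal) :
    fsec 𝒜 (n : ℤ) (p + n) p (c * β) g hcβ hg (hpn p n) W hW =
      osec 𝒜 p c g hc hg W hW •
        fsec 𝒜 (n : ℤ) n 0 β 1 hβ SetLike.GradedOne.one_mem (Groth.Agent.S9817.hmd n) W
          (fun x => Groth.Agent.S4401.one_nin 𝒜 x.1) := by
  refine Subtype.ext (funext fun x => Subtype.ext ?_)
  refine Eq.trans ?_ (Twist.coe_smul_val (n : ℤ) x.1 ((osec 𝒜 p c g hc hg W hW).1 x)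
    ((fsec 𝒜 (n : ℤ) n 0 β 1 hβ SetLike.GradedOne.one_mem (Groth.Agent.S9817.hmd n) W
      (fun x => Groth.Agent.S4401.one_nin 𝒜 x.1)).1 x)).symm
  show Localization.mk (c * β) ⟨g, hW x⟩ =
    Localization.mk c ⟨g, hW x⟩ * Localization.mk β ⟨1, Groth.Agent.S4401.one_nin 𝒜 x.1⟩
  rw [Localization.mk_mul]
  congr 1
  exact Subtype.ext (mul_one g).symm

/-- the span of the germs of the sections `b/1` -/
noncomputable abbrev Sspan (n : ℕ) (x : Proj 𝒜) :=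
  Submodule.span ((Proj 𝒜).presheaf.stalk x)
    (Set.range fun b : 𝒜 n => ((Twist.twist 𝒜 (n : ℤ)).presheaf.germ ⊤ x trivial).hom
      (Twist.globalOf 𝒜 b : ProjUP.Γm (Twist.twist 𝒜 (n : ℤ))))

theorem germ_mem (n : ℕ) (x : Proj 𝒜) (p : ℕ) (g : A) (hg : g ∈ 𝒜 p)
    (hgx : g ∉ x.asHomogeneousIdeal) (w : A) (hw : w ∈ 𝒜 p * 𝒜 n) :
    (Twist.twist 𝒜 (n : ℤ)).presheaf.germ (Proj.basicOpen 𝒜 g) x
      ((Proj.mem_basicOpen 𝒜 g x).mpr hgx)
      (fsec 𝒜 (n : ℤ) (p + n) p w g (hle 𝒜 p n hw) hg (hpn p n) (Proj.basicOpen 𝒜 g)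
        (fun y => (Proj.mem_basicOpen 𝒜 g y.1).mp y.2)) ∈ Sspan 𝒜 n x := by
  have hxW : x ∈ Proj.basicOpen 𝒜 g := (Proj.mem_basicOpen 𝒜 g x).mpr hgx
  have hW : ∀ y : (Proj.basicOpen 𝒜 g : (Proj 𝒜).Opens), g ∉ y.1.asHomogeneousIdeal :=
    fun y => (Proj.mem_basicOpen 𝒜 g y.1).mp y.2
  refine Submodule.mul_induction_on'
    (C := fun r hr => (Twist.twist 𝒜 (n : ℤ)).presheaf.germ (Proj.basicOpen 𝒜 g) x hxW
      (fsec 𝒜 (n : ℤ) (p + n) p r g (hle 𝒜 p n hr) hg (hpn p n) (Proj.basicOpen 𝒜 g) hW) ∈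
        Sspan 𝒜 n x)
    (fun c hc β hβ => ?_) (fun w1 hw1 w2 hw2 ih1 ih2 => ?_) hw
  · have h2 := PresheafOfModules.germ_smul (R := (Proj 𝒜).presheaf)
      (show PresheafOfModules ((Proj 𝒜).presheaf ⋙ forget₂ CommRingCat RingCat) from
        (Twist.twist 𝒜 (n : ℤ)).val) x (Proj.basicOpen 𝒜 g) hxW
      (osec 𝒜 p c g hc hg (Proj.basicOpen 𝒜 g) hW)
      (fsec 𝒜 (n : ℤ) n 0 β 1 hβ SetLike.GradedOne.one_mem (Groth.Agent.S9817.hmd n)
        (Proj.basicOpen 𝒜 g) (fun x => Groth.Agent.S4401.one_nin 𝒜 x.1))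
    have h3 : (Twist.twist 𝒜 (n : ℤ)).presheaf.germ (Proj.basicOpen 𝒜 g) x hxW
        (fsec 𝒜 (n : ℤ) n 0 β 1 hβ SetLike.GradedOne.one_mem (Groth.Agent.S9817.hmd n)
          (Proj.basicOpen 𝒜 g) (fun x => Groth.Agent.S4401.one_nin 𝒜 x.1)) =
        (Twist.twist 𝒜 (n : ℤ)).presheaf.germ ⊤ x trivial (Twist.globalOf 𝒜 ⟨β, hβ⟩) :=
      (congrArg (fun w => (Twist.twist 𝒜 (n : ℤ)).presheaf.germ (Proj.basicOpen 𝒜 g) x hxW w)
        (show fsec 𝒜 (n : ℤ) n 0 β 1 hβ SetLike.GradedOne.one_mem (Groth.Agent.S9817.hmd n)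
          (Proj.basicOpen 𝒜 g) (fun x => Groth.Agent.S4401.one_nin 𝒜 x.1) =
          (Twist.twist 𝒜 (n : ℤ)).presheaf.map
            (homOfLE (le_top : Proj.basicOpen 𝒜 g ≤ ⊤)).op (Twist.globalOf 𝒜 ⟨β, hβ⟩)
          from rfl)).trans
      (TopCat.Presheaf.germ_res_apply (Twist.twist 𝒜 (n : ℤ)).presheaf
        (homOfLE (le_top : Proj.basicOpen 𝒜 g ≤ ⊤)) x hxW (Twist.globalOf 𝒜 ⟨β, hβ⟩))
    have hmem : ((Proj 𝒜).presheaf.germ (Proj.basicOpen 𝒜 g) x hxW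
        (osec 𝒜 p c g hc hg (Proj.basicOpen 𝒜 g) hW)) •
        ((Twist.twist 𝒜 (n : ℤ)).presheaf.germ ⊤ x trivial (Twist.globalOf 𝒜 ⟨β, hβ⟩)) ∈
        Sspan 𝒜 n x :=
      Submodule.smul_mem _ _ (Submodule.subset_span ⟨⟨β, hβ⟩, rfl⟩)
    have heq : (Twist.twist 𝒜 (n : ℤ)).presheaf.germ (Proj.basicOpen 𝒜 g) x hxW
        (fsec 𝒜 (n : ℤ) (p + n) p (c * β) g (hle 𝒜 p n (Submodule.mul_mem_mul hc hβ)) hg
          (hpn p n) (Proj.basicOpen 𝒜 g) hW) =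
        ((Proj 𝒜).presheaf.germ (Proj.basicOpen 𝒜 g) x hxW
          (osec 𝒜 p c g hc hg (Proj.basicOpen 𝒜 g) hW)) •
        ((Twist.twist 𝒜 (n : ℤ)).presheaf.germ ⊤ x trivial (Twist.globalOf 𝒜 ⟨β, hβ⟩)) :=
      (congrArg (fun w => (Twist.twist 𝒜 (n : ℤ)).presheaf.germ (Proj.basicOpen 𝒜 g) x hxW w)
        (fsec_mul 𝒜 n p c β g hc hβ hg _ (Proj.basicOpen 𝒜 g) hW)).trans
      (h2.trans (congrArg (fun w => ((Proj 𝒜).presheaf.germ (Proj.basicOpen 𝒜 g) x hxW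
          (osec 𝒜 p c g hc hg (Proj.basicOpen 𝒜 g) hW)) • w) h3))
    exact (congrArg (fun z => z ∈ Sspan 𝒜 n x) heq).mpr hmem
  · have heq : (Twist.twist 𝒜 (n : ℤ)).presheaf.germ (Proj.basicOpen 𝒜 g) x hxW
        (fsec 𝒜 (n : ℤ) (p + n) p (w1 + w2) g (hle 𝒜 p n (add_mem hw1 hw2)) hg
          (hpn p n) (Proj.basicOpen 𝒜 g) hW) =
        (Twist.twist 𝒜 (n : ℤ)).presheaf.germ (Proj.basicOpen 𝒜 g) x hxW
          (fsec 𝒜 (n : ℤ) (p + n) p w1 g (hle 𝒜 p n hw1) hg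
            (hpn p n) (Proj.basicOpen 𝒜 g) hW) +
        (Twist.twist 𝒜 (n : ℤ)).presheaf.germ (Proj.basicOpen 𝒜 g) x hxW
          (fsec 𝒜 (n : ℤ) (p + n) p w2 g (hle 𝒜 p n hw2) hg
            (hpn p n) (Proj.basicOpen 𝒜 g) hW) :=
      (congrArg (fun w => (Twist.twist 𝒜 (n : ℤ)).presheaf.germ (Proj.basicOpen 𝒜 g) x hxW w)
        (fsec_add 𝒜 (n : ℤ) (p + n) p w1 w2 g (hle 𝒜 p n hw1) (hle 𝒜 p n hw2) _ hg (hpn p n)
          (Proj.basicOpen 𝒜 g) hW)).trans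
      (map_add ((Twist.twist 𝒜 (n : ℤ)).presheaf.germ (Proj.basicOpen 𝒜 g) x hxW).hom _ _)
    exact (congrArg (fun z => z ∈ Sspan 𝒜 n x) heq).mpr (add_mem ih1 ih2)

theorem genBy2 (n : ℕ)
    (hAL : ∀ (x : Proj 𝒜) (j : ℕ) (a b : A), a ∈ 𝒜 (j + n) → b ∈ 𝒜 j →
      b ∉ x.asHomogeneousIdeal →
      ∃ (p : ℕ) (g w : A), g ∈ 𝒜 p ∧ g ∉ x.asHomogeneousIdeal ∧ w ∈ 𝒜 p * 𝒜 n ∧
        a * g = b * w) :
    ProjUP.GeneratedBy (Twist.twist 𝒜 (n : ℤ))
      (fun b : 𝒜 n => (Twist.globalOf 𝒜 b : ProjUP.Γm (Twist.twist 𝒜 (n : ℤ)))) := by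
  intro x
  rw [eq_top_iff]
  intro z _
  obtain ⟨U, hxU, t, rfl⟩ := TopCat.Presheaf.exists_germ_eq (Twist.twist 𝒜 (n : ℤ)).presheaf z
  have hloc : (Twist.isLocFracN 𝒜 (n : ℤ)).pred
      (show Twist.sectN (𝒜 := 𝒜) (n : ℤ) (op U) from t).1 :=
    (show Twist.sectN (𝒜 := 𝒜) (n : ℤ) (op U) from t).2
  obtain ⟨V, hxV, iV, i₁, j₁, ⟨a, ha⟩, ⟨b, hb⟩, hnin, hdeg, hw⟩ := hloc ⟨x, hxU⟩
  have hdeg' : (i₁ : ℤ) = j₁ + n ∨ a = 0 := hdeg
  have hVU : V ≤ U := iV.le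
  rcases hdeg' with hd | ha0
  · have hi : i₁ = j₁ + n := by exact_mod_cast hd
    subst hi
    obtain ⟨p, g, w, hg, hgx, hw', hag⟩ := hAL x j₁ a b ha hb (hnin ⟨x, hxV⟩)
    have hxW : x ∈ V ⊓ Proj.basicOpen 𝒜 g := ⟨hxV, (Proj.mem_basicOpen 𝒜 g x).mpr hgx⟩
    have hxG : x ∈ Proj.basicOpen 𝒜 g := (Proj.mem_basicOpen 𝒜 g x).mpr hgx
    have hW' : ∀ y : (V ⊓ Proj.basicOpen 𝒜 g : (Proj 𝒜).Opens), g ∉ y.1.asHomogeneousIdeal :=
      fun y => (Proj.mem_basicOpen 𝒜 g y.1).mp y.2.2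
    have e1 : fsec 𝒜 (n : ℤ) (p + n) p w g (hle 𝒜 p n hw') hg (hpn p n)
        (V ⊓ Proj.basicOpen 𝒜 g) hW' =
        (Twist.twist 𝒜 (n : ℤ)).presheaf.map
          (homOfLE (le_trans inf_le_left hVU : V ⊓ Proj.basicOpen 𝒜 g ≤ U)).op t := by
      refine Subtype.ext (funext fun y => Subtype.ext ?_)
      refine Eq.trans ?_ (hw ⟨y.1, y.2.1⟩).symm
      show Localization.mk w ⟨g, _⟩ = Localization.mk a ⟨b, _⟩
      rw [Localization.mk_eq_mk_iff, Localization.r_iff_exists]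
      refine ⟨1, ?_⟩
      show (1 : A) * (b * w) = 1 * (g * a)
      rw [one_mul, one_mul, mul_comm g a]
      exact hag.symm
    have h1 : (Twist.twist 𝒜 (n : ℤ)).presheaf.germ U x hxU t =
        (Twist.twist 𝒜 (n : ℤ)).presheaf.germ (V ⊓ Proj.basicOpen 𝒜 g) x hxW
          ((Twist.twist 𝒜 (n : ℤ)).presheaf.map
            (homOfLE (le_trans inf_le_left hVU : V ⊓ Proj.basicOpen 𝒜 g ≤ U)).op t) :=
      (TopCat.Presheaf.germ_res_apply _
        (homOfLE (le_trans inf_le_left hVU : V ⊓ Proj.basicOpen 𝒜 g ≤ U)) x hxW t).symm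
    have h2 : (Twist.twist 𝒜 (n : ℤ)).presheaf.germ (V ⊓ Proj.basicOpen 𝒜 g) x hxW
        (fsec 𝒜 (n : ℤ) (p + n) p w g (hle 𝒜 p n hw') hg (hpn p n)
          (V ⊓ Proj.basicOpen 𝒜 g) hW') =
        (Twist.twist 𝒜 (n : ℤ)).presheaf.germ (Proj.basicOpen 𝒜 g) x hxG
          (fsec 𝒜 (n : ℤ) (p + n) p w g (hle 𝒜 p n hw') hg (hpn p n) (Proj.basicOpen 𝒜 g)
            (fun y => (Proj.mem_basicOpen 𝒜 g y.1).mp y.2)) :=
      (congrArg (fun w' => (Twist.twist 𝒜 (n : ℤ)).presheaf.germ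
          (V ⊓ Proj.basicOpen 𝒜 g) x hxW w')
        (show fsec 𝒜 (n : ℤ) (p + n) p w g (hle 𝒜 p n hw') hg (hpn p n)
          (V ⊓ Proj.basicOpen 𝒜 g) hW' =
          (Twist.twist 𝒜 (n : ℤ)).presheaf.map
            (homOfLE (inf_le_right : V ⊓ Proj.basicOpen 𝒜 g ≤ Proj.basicOpen 𝒜 g)).op
            (fsec 𝒜 (n : ℤ) (p + n) p w g (hle 𝒜 p n hw') hg (hpn p n) (Proj.basicOpen 𝒜 g)
              (fun y => (Proj.mem_basicOpen 𝒜 g y.1).mp y.2)) from rfl)).trans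
      (TopCat.Presheaf.germ_res_apply (Twist.twist 𝒜 (n : ℤ)).presheaf
        (homOfLE (inf_le_right : V ⊓ Proj.basicOpen 𝒜 g ≤ Proj.basicOpen 𝒜 g)) x hxW
        (fsec 𝒜 (n : ℤ) (p + n) p w g (hle 𝒜 p n hw') hg (hpn p n) (Proj.basicOpen 𝒜 g)
          (fun y => (Proj.mem_basicOpen 𝒜 g y.1).mp y.2)))
    have heq := h1.trans ((congrArg (fun w' => (Twist.twist 𝒜 (n : ℤ)).presheaf.germ
      (V ⊓ Proj.basicOpen 𝒜 g) x hxW w') e1.symm).trans h2)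
    exact (congrArg (fun z => z ∈ Sspan 𝒜 n x) heq).mpr (germ_mem 𝒜 n x p g hg hgx w hw')
  · subst ha0
    have e0 : (0 : Twist.sectN (𝒜 := 𝒜) (n : ℤ) (op V)) =
        (Twist.twist 𝒜 (n : ℤ)).presheaf.map (homOfLE hVU).op t := by
      refine Subtype.ext (funext fun y => Subtype.ext ?_)
      refine Eq.trans ?_ (hw y).symm
      exact (Localization.mk_zero _).symm
    have heq : (Twist.twist 𝒜 (n : ℤ)).presheaf.germ U x hxU t = 0 :=
      (TopCat.Presheaf.germ_res_apply (Twist.twist 𝒜 (n : ℤ)).presheaf (homOfLE hVU) x hxV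
        t).symm.trans
      ((congrArg (fun w' => (Twist.twist 𝒜 (n : ℤ)).presheaf.germ V x hxV w') e0.symm).trans
        (map_zero ((Twist.twist 𝒜 (n : ℤ)).presheaf.germ V x hxV).hom))
    exact (congrArg (fun z => z ∈ Sspan 𝒜 n x) heq).mpr (zero_mem _)

end Aux


/-- Let B be a graded R-algebra generated by homogeneous elements f_1, …, f_s of positive degrees d_1,
…, d_s, let l be the least common multiple of the d_i and X = Proj B. For n ≥ (s − 1)(l − 1), O_X(n)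
is generated by its global sections b/1, b ∈ B_n. -/
theorem result {R A : Type u} [CommRing R] [CommRing A] [Algebra R A] (𝒜 : ℕ → Submodule R A) [GradedAlgebra 𝒜]
    {s : ℕ} (f : Fin s → A) (deg : Fin s → ℕ) (hdeg : ∀ i, 0 < deg i) (hf : ∀ i, f i ∈ 𝒜 (deg i))
    (hgen : Algebra.adjoin R (Set.range f) = ⊤) (n : ℕ) (hn : (s - 1) * (Finset.univ.lcm deg - 1) ≤ n) :
    ProjUP.GeneratedBy (Twist.twist 𝒜 (n : ℤ))
      (fun b : 𝒜 n => (Twist.globalOf 𝒜 b : ProjUP.Γm (Twist.twist 𝒜 (n : ℤ)))) := by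
  classical
  apply genBy2
  intro x j a b ha hb hbx
  obtain ⟨i, hi⟩ := Groth.Agent.S13169.exists_nin 𝒜 f hgen x
  obtain ⟨D', hD'⟩ : ∃ D', deg i = D' + 1 := ⟨deg i - 1, by have := hdeg i; omega⟩
  have ha' : a * b ^ D' ∈ 𝒜 (j * deg i + n) := by
    have h := SetLike.mul_mem_graded ha (Groth.Agent.S1614.pow_mem' 𝒜 j b hb D')
    have hidx : j + n + D' * j = j * deg i + n := by rw [hD']; ring
    rwa [hidx] at h
  obtain ⟨K, hK⟩ := AL 𝒜 f deg hdeg hf hgen i n j hn (a * b ^ D') ha'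
  refine ⟨(K + j) * deg i, f i ^ K * b ^ deg i, f i ^ K * (a * b ^ D'), ?_, ?_, hK, ?_⟩
  · have h := SetLike.mul_mem_graded (Groth.Agent.S1614.pow_mem' 𝒜 (deg i) (f i) (hf i) K)
      (Groth.Agent.S1614.pow_mem' 𝒜 j b hb (deg i))
    have hidx : K * deg i + deg i * j = (K + j) * deg i := by ring
    rwa [hidx] at h
  · exact fun h => (x.isPrime.mem_or_mem h).elim (Groth.Agent.S1614.pow_nin 𝒜 (f i) x hi K)
      (Groth.Agent.S1614.pow_nin 𝒜 b x hbx (deg i))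
  · rw [hD', pow_succ]; ring

end Groth.Agent.S13171
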