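import Groth.Statements.S13173
import Mathlib
import Groth.Agent.S9817
import Groth.Agent.S12453

set_option autoImplicit false
universe u
open AlgebraicGeometry
open ZeroCyc

namespace Groth.Agent.S13173


open CategoryTheory CategoryTheory.Limits AlgebraicGeometry TopologicalSpace Opposite


/-- Let B be a graded R-algebra generated by elements of degree at most d, such that X = Proj B is
quasi-compact and covered by the opens D_+(g), g ∈ B_1. Then O_X(n) is ample for every n ≥ 1. (The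
published statement does not assume X quasi-compact, which ampleness as used here requires and which
fails for a polynomial ring in infinitely many degree-one variables; this row assumes it.) -/
theorem result {R A : Type u} [CommRing R] [CommRing A] [Algebra R A] (𝒜 : ℕ → Submodule R A) [GradedAlgebra 𝒜]
    (d : ℕ) (hgen : Algebra.adjoin R (⋃ i ∈ Finset.range (d + 1), (𝒜 i : Set A)) = ⊤)
    (hcov : (⨆ g : 𝒜 1, Proj.basicOpen 𝒜 (g : A)) = ⊤) [CompactSpace (Proj 𝒜)] (n : ℕ) (hn : 0 < n) :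
    CohB1.IsAmple (Twist.twist 𝒜 (n : ℤ)) := by
  classical
  have hc : ∀ y : Proj 𝒜, ∃ g ∈ 𝒜 1, g ∉ y.asHomogeneousIdeal := by
    intro y
    have hy : y ∈ (⊤ : (Proj 𝒜).Opens) := trivial
    rw [← hcov] at hy
    obtain ⟨g, hg⟩ := Opens.mem_iSup.mp hy
    exact ⟨g.1, g.2, (Proj.mem_basicOpen 𝒜 _ y).mp hg⟩
  have hcn : ∀ y : Proj 𝒜, ∃ f ∈ 𝒜 n, f ∉ y.asHomogeneousIdeal := by
    intro y
    obtain ⟨g, hg, hgy⟩ := hc y
    exact ⟨g ^ n, Groth.Agent.S12453.powmem1 𝒜 g hg n, Groth.Agent.S1614.pow_nin 𝒜 g y hgy n⟩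
  refine ⟨?_, inferInstance, ?_⟩
  · intro y
    obtain ⟨f, hf, hfy⟩ := hcn y
    refine ⟨Proj.basicOpen 𝒜 f, (Proj.mem_basicOpen 𝒜 f y).mpr hfy, ?_⟩
    exact Groth.Agent.S9575.trivG 𝒜 (n : ℤ) n 0 f 1 hf SetLike.GradedOne.one_mem
      (Groth.Agent.S9817.hmd n) (Proj.basicOpen 𝒜 f).ι
      (fun x => ⟨(Proj.mem_basicOpen 𝒜 f x.1).mp x.2, Groth.Agent.S4401.one_nin 𝒜 _⟩)
  · intro x
    obtain ⟨f, hf, hfx⟩ := hcn x
    let e := Groth.Agent.S3584.e1 (Twist.twist 𝒜 (n : ℤ))
    let sec : Coh.structureModule (Proj 𝒜) ⟶ CohB1.tensorPow (Twist.twist 𝒜 (n : ℤ)) (0 + 1) :=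
      Groth.Agent.S9817.psiD 𝒜 n f hf ≫ e.inv
    have hgl : CohB1.genLocus _ sec = Proj.basicOpen 𝒜 f := by
      unfold CohB1.genLocus
      apply le_antisymm
      · apply sSup_le
        intro U hU
        have hU' : IsIso ((Scheme.Modules.restrictFunctor U.ι).map sec) := hU
        have hψ : IsIso ((Scheme.Modules.restrictFunctor U.ι).map
            (Groth.Agent.S9817.psiD 𝒜 n f hf)) := by
          have h5 : (Scheme.Modules.restrictFunctor U.ι).map (Groth.Agent.S9817.psiD 𝒜 n f hf) =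
              (Scheme.Modules.restrictFunctor U.ι).map sec ≫
                (Scheme.Modules.restrictFunctor U.ι).map e.hom := by
            rw [← Functor.map_comp]
            congr 1
            show _ = (Groth.Agent.S9817.psiD 𝒜 n f hf ≫ e.inv) ≫ e.hom
            rw [Category.assoc, Iso.inv_hom_id, Category.comp_id]
          rw [h5]; infer_instance
        refine SetLike.le_def.mpr fun y hyU => ?_
        obtain ⟨g, hg, hgy⟩ := hcn y
        exact (Proj.mem_basicOpen 𝒜 f y).mpr
          (Groth.Agent.S9817.not_isIso_of_memD 𝒜 n f g hf hg U.ι hψ ⟨y, hyU⟩ hgy)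
      · apply le_sSup
        show IsIso ((Scheme.Modules.restrictFunctor (Proj.basicOpen 𝒜 f).ι).map sec)
        have h6 := Groth.Agent.S9817.isIso_restrict_psiD 𝒜 n f hf (Proj.basicOpen 𝒜 f).ι
          (fun x => (Proj.mem_basicOpen 𝒜 f x.1).mp x.2)
        have h7 : (Scheme.Modules.restrictFunctor (Proj.basicOpen 𝒜 f).ι).map sec =
            (Scheme.Modules.restrictFunctor (Proj.basicOpen 𝒜 f).ι).map
              (Groth.Agent.S9817.psiD 𝒜 n f hf) ≫
              (Scheme.Modules.restrictFunctor (Proj.basicOpen 𝒜 f).ι).map e.inv :=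
          Functor.map_comp _ _ _
        rw [h7]; infer_instance
    refine ⟨0, sec, ?_, ?_⟩
    · rw [hgl]; exact (Proj.mem_basicOpen 𝒜 f x).mpr hfx
    · rw [hgl]; exact Proj.isAffineOpen_basicOpen 𝒜 f hf hn

end Groth.Agent.S13173
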