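import Groth.Statements.S13175
import Mathlib

set_option autoImplicit false
universe u v w
open scoped TensorProduct
open ZeroCyc

namespace Groth.Agent.S13175

lemma rTensor_eq_map {A : Type u} [CommRing A] {S T : Type*} [CommRing S] [Algebra A S]
    [CommRing T] [Algebra A T] (M : Type*) [CommRing M] [Algebra A M] (φ : S →ₐ[A] T)
    (z : S ⊗[A] M) :
    φ.toLinearMap.rTensor M z = Algebra.TensorProduct.map φ (AlgHom.id A M) z := by
  induction z using TensorProduct.induction_on with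
  | zero => simp
  | tmul a b => simp
  | add a b ha hb => rw [map_add, map_add, ha, hb]

theorem result {A : Type u} [CommRing A] {B : Type v} [CommRing B] [Algebra A B] {C : Type w} [CommRing C] [Algebra A C]
    (F : B →ₚₗ[A] C)
    (h1 : ∀ n : ℕ, F.toFun' (MvPolynomial (Fin n) A) 1 = 1)
    (hmul : ∀ (n : ℕ) (x y : MvPolynomial (Fin n) A ⊗[A] B),
      F.toFun' (MvPolynomial (Fin n) A) (x * y) = F.toFun' (MvPolynomial (Fin n) A) x * F.toFun' (MvPolynomial (Fin n) A) y) :
    ∀ (S : Type u) [CommRing S] [Algebra A S], F.toFun' S 1 = 1 ∧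
      ∀ x y : S ⊗[A] B, F.toFun' S (x * y) = F.toFun' S x * F.toFun' S y := by
  intro S _ _
  have hcompat : ∀ (n : ℕ) (ψ : MvPolynomial (Fin n) A →ₐ[A] S) (p : MvPolynomial (Fin n) A ⊗[A] B),
      F.toFun' S (ψ.toLinearMap.rTensor B p) =
        ψ.toLinearMap.rTensor C (F.toFun' (MvPolynomial (Fin n) A) p) := by
    intro n ψ p
    exact (congr_fun (F.isCompat' ψ) p).symm
  constructor
  · let ψ : MvPolynomial (Fin 0) A →ₐ[A] S := Algebra.ofId _ _ |>.comp
      (MvPolynomial.isEmptyAlgEquiv A (Fin 0)).toAlgHom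
    have e1 : ψ.toLinearMap.rTensor B 1 = 1 := by
      rw [rTensor_eq_map, map_one]
    have := hcompat 0 ψ 1
    rw [e1, h1 0, rTensor_eq_map, map_one] at this
    exact this
  · intro x y
    -- a common lift of `x` and `y`
    obtain ⟨A₁, hA₁, hx⟩ := TensorProduct.Algebra.exists_of_fg x
    obtain ⟨A₂, hA₂, hy⟩ := TensorProduct.Algebra.exists_of_fg y
    have hfg : (A₁ ⊔ A₂).FG := Subalgebra.FG.sup hA₁ hA₂
    obtain ⟨gen, hgen⟩ := PolynomialLaw.exists_range_φ_eq_of_fg hfg
    have hle₁ : A₁ ≤ (PolynomialLaw.φ A gen).range := by rw [hgen]; exact le_sup_left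
    have hle₂ : A₂ ≤ (PolynomialLaw.φ A gen).range := by rw [hgen]; exact le_sup_right
    obtain ⟨p, hp⟩ := PolynomialLaw.exists_lift_of_mem_range_rTensor A₁ hle₁ hx
    obtain ⟨q, hq⟩ := PolynomialLaw.exists_lift_of_mem_range_rTensor A₂ hle₂ hy
    set ψ := PolynomialLaw.φ A gen with hψ
    have hpq : ψ.toLinearMap.rTensor B (p * q) = x * y := by
      rw [rTensor_eq_map, map_mul, ← rTensor_eq_map, ← rTensor_eq_map, hp, hq]
    rw [← hpq, hcompat, hmul, rTensor_eq_map, map_mul, ← rTensor_eq_map, ← rTensor_eq_map,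
      ← hcompat, ← hcompat, hp, hq]

end Groth.Agent.S13175
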