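import Mathlib
import Groth.Statements.S13176
import Groth.Agent.Lib.Helper9.QuotGeom
import Groth.Agent.Lib.Helper9.QuotAff
import Groth.Agent.S2908
import Groth.Agent.S0415
-- import your own Groth.Agent.* helpers here

set_option autoImplicit false
universe u
open CategoryTheory CategoryTheory.Limits AlgebraicGeometry
open ZeroCyc

namespace Groth.Agent.S13176


/-- Let a finite group G act on a scheme X over S through ρ, let q : X → Y be a quotient of X by G over
S (affine, G-invariant, O_Y = the G-invariant sections of O_X), let S' → S be any morphism and X' =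
X ×_S S' with the induced action ρ', and let r : X' → Y' be a quotient of X' by G. Then the morphism
Y' → Y ×_S S' through which the canonical map X' → Y ×_S S' factors via r is a universal
homeomorphism. (The published statement assumes every G-orbit lies in an affine open, which is what
makes the quotients exist; here the two quotients are hypotheses.) -/
theorem result {X Y S S' Y' : Scheme.{u}} {G : Type u} [Group G] [Finite G]
    (ρ : G →* Aut X) (f : X ⟶ S) (hρ : ∀ σ : G, (ρ σ).hom ≫ f = f)
    (q : X ⟶ Y) (h : Y ⟶ S) (hq : q ≫ h = f) (hquot : SGA1.IsQuot ρ q)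
    (g : S' ⟶ S)
    (ρ' : G →* Aut (pullback f g))
    (hρ' : ∀ σ : G, (ρ' σ).hom ≫ pullback.fst f g = pullback.fst f g ≫ (ρ σ).hom ∧
      (ρ' σ).hom ≫ pullback.snd f g = pullback.snd f g)
    (r : pullback f g ⟶ Y') (hr : SGA1.IsQuot ρ' r)
    (m : Y' ⟶ pullback h g)
    (hm : r ≫ m = pullback.map f g h g q (𝟙 S') (𝟙 S)
      ((Category.comp_id f).trans hq.symm) ((Category.comp_id g).trans (Category.id_comp g).symm)) :
    FlatMor.IsUnivHomeo m := by
  obtain ⟨c, hc⟩ : ∃ c, c = pullback.map f g h g q (𝟙 S') (𝟙 S)
      ((Category.comp_id f).trans hq.symm) ((Category.comp_id g).trans (Category.id_comp g).symm) :=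
    ⟨_, rfl⟩
  rw [← hc] at hm
  have hc1 : c ≫ pullback.fst h g = pullback.fst f g ≫ q := by
    rw [hc]; exact pullback.lift_fst _ _ _
  have hc2 : c ≫ pullback.snd h g = pullback.snd f g := by
    rw [hc]; exact (pullback.lift_snd _ _ _).trans (Category.comp_id _)
  -- c is a base change of q
  have hL : IsPullback c (pullback.fst f g) (pullback.fst h g) q := by
    have houter : IsPullback (c ≫ pullback.snd h g) (pullback.fst f g) g (q ≫ h) := by
      rw [hc2, hq]
      exact (IsPullback.of_hasPullback f g).flip
    exact IsPullback.of_right houter hc1 (IsPullback.of_hasPullback h g).flip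
  have hsurjq : Function.Surjective q.base := (Groth.Agent.S2908.result ρ q hquot).1
  haveI : Surjective q := ⟨hsurjq⟩
  haveI hintq : IsIntegralHom q := Groth.Agent.Helper9.QuotAct.isIntegralHom ρ q hquot
  have hintc : IsIntegralHom c := MorphismProperty.of_isPullback hL.flip hintq
  have hsurjc : Surjective c := MorphismProperty.of_isPullback (P := @Surjective) hL.flip inferInstance
  have hsurjr : Function.Surjective r.base := (Groth.Agent.S2908.result ρ' r hr).1
  haveI : Surjective r := ⟨hsurjr⟩
  rw [Groth.Agent.S0415.result]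
  refine ⟨?_, ?_, ?_⟩
  · rw [IsIntegralHom.iff_universallyClosed_and_isAffineHom]
    constructor
    · haveI : UniversallyClosed (r ≫ m) := by
        rw [hm]
        exact (IsIntegralHom.iff_universallyClosed_and_isAffineHom.mp hintc).1
      exact UniversallyClosed.of_comp_surjective r m
    · refine ⟨fun V hV => ?_⟩
      apply Groth.Agent.Helper9.QuotAff.isAffineOpen_of_preimage ρ' r hr
      have haffc : IsAffineHom c := (IsIntegralHom.iff_universallyClosed_and_isAffineHom.mp hintc).2
      have h1 : IsAffineOpen (c ⁻¹ᵁ V) := haffc.isAffine_preimage V hV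
      rw [← hm] at h1
      exact h1
  · apply Groth.Agent.Helper9.QuotGeom.universallyInjective_of_points r m
    intro L _ b₁ b₂ hb
    rw [hm] at hb
    have hb1 : (b₁ ≫ pullback.fst f g) ≫ q = (b₂ ≫ pullback.fst f g) ≫ q := by
      rw [Category.assoc, Category.assoc, ← hc1, ← Category.assoc, ← Category.assoc, hb]
    have hb2 : b₁ ≫ pullback.snd f g = b₂ ≫ pullback.snd f g := by
      rw [← hc2, ← Category.assoc, ← Category.assoc, hb]
    obtain ⟨σ, hσ⟩ := Groth.Agent.Helper9.QuotGeom.geomOrbit ρ q hquot L _ _ hb1
    have h1 : b₁ ≫ (ρ' σ).hom = b₂ := by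
      apply pullback.hom_ext
      · rw [Category.assoc, (hρ' σ).1, ← Category.assoc]; exact hσ
      · rw [Category.assoc, (hρ' σ).2]; exact hb2
    rw [← h1, Category.assoc, hr.inv σ]
  · constructor
    intro z
    obtain ⟨w, hw⟩ := hsurjc.surj z
    refine ⟨r.base w, ?_⟩
    have h0 : (r ≫ m).base w = c.base w := by rw [hm]
    exact h0.trans hw

end Groth.Agent.S13176
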