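import Mathlib
import Groth.Statements.S13177
import Groth.Agent.Lib.Helper9.QuotGeom
import Groth.Agent.Lib.Helper9.QuotAff
import Groth.Agent.S2908
import Groth.Agent.S0415
-- import your own Groth.Agent.* helpers here

set_option autoImplicit false
universe u
open CategoryTheory CategoryTheory.Limits AlgebraicGeometry
open ZeroCyc

namespace Groth.Agent.S13177


/-- Let a finite group G act on a scheme X with quotient q : X → Y (affine, G-invariant, O_Y = the
invariant sections), let i : Z → X be a G-stable closed subscheme with the induced action and r : Z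
→ W a quotient of Z by G, and let q(Z) be the scheme-theoretic image of Z in Y. Then the morphism W
→ q(Z) through which Z → q(Z) factors via r is a schematically dominant universal homeomorphism.
(The published statement assumes the quotient of X exists; here both quotients are hypotheses.) -/
theorem result {X Y Z W : Scheme.{u}} {G : Type u} [Group G] [Finite G]
    (ρ : G →* Aut X) (q : X ⟶ Y) (hquot : SGA1.IsQuot ρ q)
    (i : Z ⟶ X) [IsClosedImmersion i] (ρZ : G →* Aut Z) (hρZ : ∀ σ : G, (ρZ σ).hom ≫ i = i ≫ (ρ σ).hom)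
    (r : Z ⟶ W) (hr : SGA1.IsQuot ρZ r)
    (m : W ⟶ (i ≫ q).ker.subscheme) (hm : r ≫ m ≫ (i ≫ q).ker.subschemeι = i ≫ q) :
    FlatMor.IsUnivHomeo m ∧ IsSchemeTheoreticallyDominant m := by
  haveI hintq : IsIntegralHom q := Groth.Agent.Helper9.QuotAct.isIntegralHom ρ q hquot
  haveI : IsAffineHom q := hquot.affine
  haveI hqc : QuasiCompact (i ≫ q) := inferInstance
  have hsurjr : Function.Surjective r.base := (Groth.Agent.S2908.result ρZ r hr).1
  haveI : Surjective r := ⟨hsurjr⟩
  obtain ⟨t, htdef⟩ : ∃ t, t = (i ≫ q).toImage := ⟨_, rfl⟩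
  have ht : t ≫ (i ≫ q).ker.subschemeι = i ≫ q := by rw [htdef]; exact (i ≫ q).toImage_imageι
  have hrm : r ≫ m = t := by
    rw [← cancel_mono (i ≫ q).ker.subschemeι, Category.assoc, hm, ht]
  haveI hintt : IsIntegralHom t := by
    apply MorphismProperty.of_postcomp (W := @IsIntegralHom)
      (W' := MorphismProperty.monomorphisms Scheme.{u}) t (i ≫ q).ker.subschemeι
      (inferInstance : Mono (i ≫ q).ker.subschemeι)
    rw [ht]
    infer_instance
  have hdom : IsDominant t := by rw [htdef]; infer_instance
  have hsurjt : Function.Surjective t.base := by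
    have h1 : IsClosed (Set.range t.base) := t.isClosedMap.isClosed_range
    have h2 : closure (Set.range t.base) = Set.univ := t.denseRange.closure_range
    rw [h1.closure_eq] at h2
    exact Set.range_eq_univ.mp h2
  constructor
  · rw [Groth.Agent.S0415.result]
    refine ⟨?_, ?_, ?_⟩
    · rw [IsIntegralHom.iff_universallyClosed_and_isAffineHom]
      constructor
      · haveI : UniversallyClosed (r ≫ m) := by
          rw [hrm]
          exact (IsIntegralHom.iff_universallyClosed_and_isAffineHom.mp hintt).1
        exact UniversallyClosed.of_comp_surjective r m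
      · refine ⟨fun V hV => ?_⟩
        apply Groth.Agent.Helper9.QuotAff.isAffineOpen_of_preimage ρZ r hr
        have hafft : IsAffineHom t := (IsIntegralHom.iff_universallyClosed_and_isAffineHom.mp hintt).2
        have h1 : IsAffineOpen (t ⁻¹ᵁ V) := hafft.isAffine_preimage V hV
        rw [← hrm] at h1
        exact h1
    · apply Groth.Agent.Helper9.QuotGeom.universallyInjective_of_points r m
      intro L _ b₁ b₂ hb
      have hb1 : (b₁ ≫ i) ≫ q = (b₂ ≫ i) ≫ q := by
        have h0 := congrArg (fun φ => φ ≫ (i ≫ q).ker.subschemeι) hb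
        simp only [Category.assoc] at h0
        rw [hm] at h0
        rw [Category.assoc, Category.assoc]
        exact h0
      obtain ⟨σ, hσ⟩ := Groth.Agent.Helper9.QuotGeom.geomOrbit ρ q hquot L _ _ hb1
      have h1 : b₁ ≫ (ρZ σ).hom = b₂ := by
        haveI : Mono i := inferInstance
        rw [← cancel_mono i, Category.assoc, hρZ σ, ← Category.assoc]
        exact hσ
      rw [← h1, Category.assoc, hr.inv σ]
    · constructor
      intro z
      obtain ⟨w, hw⟩ := hsurjt z
      refine ⟨r.base w, ?_⟩
      have h0 : (r ≫ m).base w = t.base w := by rw [hrm]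
      exact h0.trans hw
  · constructor
    have haffι : IsAffineHom (i ≫ q).ker.subschemeι := inferInstance
    apply Scheme.IdealSheafData.ext_of_iSup_eq_top
      (fun U : Y.affineOpens => (⟨(i ≫ q).ker.subschemeι ⁻¹ᵁ U.1,
        haffι.isAffine_preimage U.1 U.2⟩ : (i ≫ q).ker.subscheme.affineOpens))
    · rw [eq_top_iff]
      intro z _
      obtain ⟨_, ⟨U, hU, rfl⟩, hzU, -⟩ := Y.isBasis_affineOpens.exists_subset_of_mem_open
        (Set.mem_univ ((i ≫ q).ker.subschemeι.base z)) isOpen_univ
      exact TopologicalSpace.Opens.mem_iSup.mpr ⟨⟨U, hU⟩, hzU⟩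
    · intro U
      apply le_antisymm _ bot_le
      refine (Scheme.Hom.ideal_ker_le m _).trans ?_
      intro s hs
      rw [RingHom.mem_ker] at hs
      have hinj := (i ≫ q).toImage_app_injective U
      rw [← htdef] at hinj
      subst hrm
      have h5 : (r ≫ m).app ((i ≫ q).ker.subschemeι ⁻¹ᵁ U.1) =
          m.app ((i ≫ q).ker.subschemeι ⁻¹ᵁ U.1) ≫ r.app (m ⁻¹ᵁ ((i ≫ q).ker.subschemeι ⁻¹ᵁ U.1)) :=
        Scheme.Hom.comp_app r m _
      have h6 : ((r ≫ m).app ((i ≫ q).ker.subschemeι ⁻¹ᵁ U.1)).hom s = 0 := by
        rw [h5]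
        change (r.app _).hom ((m.app _).hom s) = 0
        rw [hs, map_zero]
      have h7 : s = 0 := hinj (h6.trans (map_zero _).symm)
      rw [h7]
      exact Submodule.zero_mem _

end Groth.Agent.S13177
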