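import Groth.Statements.S13184
import Mathlib

set_option autoImplicit false
universe u
open ZeroCyc

namespace Groth.Agent.S13184


open Polynomial IntermediateField

section Aux
variable {k : Type u} [Field k] (p : ℕ) [Fact p.Prime] [CharP k p]
  {Ω : Type u} [Field Ω] [Algebra k Ω] [IsAlgClosed Ω] (e : ℕ)

theorem pow_mem_range (y : Ω)
    (hy : y ∈ IntermediateField.adjoin k {y : Ω | y ^ (p ^ e) ∈ Set.range (algebraMap k Ω)}) :
    y ^ (p ^ e) ∈ Set.range (algebraMap k Ω) := by
  haveI : CharP Ω p := charP_of_injective_algebraMap (algebraMap k Ω).injective p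
  induction hy using IntermediateField.adjoin_induction with
  | mem x hx => exact hx
  | algebraMap x => exact ⟨x ^ (p ^ e), by rw [map_pow]⟩
  | add x y hx hy ihx ihy =>
    obtain ⟨a, ha⟩ := ihx
    obtain ⟨b, hb⟩ := ihy
    exact ⟨a + b, by rw [map_add, ha, hb, add_pow_char_pow]⟩
  | inv x hx ih =>
    obtain ⟨a, ha⟩ := ih
    exact ⟨a⁻¹, by rw [map_inv₀, ha, inv_pow]⟩
  | mul x y hx hy ihx ihy =>
    obtain ⟨a, ha⟩ := ihx
    obtain ⟨b, hb⟩ := ihy
    exact ⟨a * b, by rw [map_mul, ha, hb, mul_pow]⟩

theorem sep_of_pow_sep (z : Ω) (hz : IsSeparable k (z ^ (p ^ e))) :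
    IsSeparable (IntermediateField.adjoin k {y : Ω | y ^ (p ^ e) ∈ Set.range (algebraMap k Ω)}) z := by
  haveI : CharP Ω p := charP_of_injective_algebraMap (algebraMap k Ω).injective p
  have hsurj : Function.Surjective (iterateFrobenius Ω p e) := by
    intro c
    obtain ⟨w, hw⟩ := IsAlgClosed.exists_pow_nat_eq c (pow_pos (Fact.out : p.Prime).pos e)
    exact ⟨w, hw⟩
  obtain ⟨f, hf⟩ : ∃ f, f = minpoly k (z ^ (p ^ e)) := ⟨_, rfl⟩
  have hfsep : f.Separable := by rw [hf]; exact hz
  have hfroot : Polynomial.aeval (z ^ (p ^ e)) f = 0 := by rw [hf]; exact minpoly.aeval k _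
  obtain ⟨g, hg⟩ := Polynomial.map_surjective (iterateFrobenius Ω p e) hsurj
    (f.map (algebraMap k Ω))
  have hsep : g.Separable := by
    rw [← Polynomial.separable_map (iterateFrobenius Ω p e), hg]
    exact Polynomial.Separable.map hfsep
  have hroot : g.eval z = 0 := by
    apply (iterateFrobenius Ω p e).injective
    rw [map_zero, ← Polynomial.eval₂_at_apply, ← Polynomial.eval_map, hg]
    show Polynomial.eval (z ^ p ^ e) (f.map (algebraMap k Ω)) = 0
    rw [Polynomial.eval_map, ← Polynomial.aeval_def]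
    exact hfroot
  have hcoef : ∀ n, g.coeff n ∈ Set.range (algebraMap
      (IntermediateField.adjoin k {y : Ω | y ^ (p ^ e) ∈ Set.range (algebraMap k Ω)}) Ω) := by
    intro n
    have h2 : (g.map (iterateFrobenius Ω p e)).coeff n = (f.map (algebraMap k Ω)).coeff n := by
      rw [hg]
    rw [Polynomial.coeff_map, Polynomial.coeff_map] at h2
    have h1 : (g.coeff n) ^ (p ^ e) = algebraMap k Ω (f.coeff n) := h2
    have hmem : g.coeff n ∈
        IntermediateField.adjoin k {y : Ω | y ^ (p ^ e) ∈ Set.range (algebraMap k Ω)} :=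
      IntermediateField.subset_adjoin k _ ⟨f.coeff n, h1.symm⟩
    exact ⟨⟨g.coeff n, hmem⟩, rfl⟩
  obtain ⟨g', hg'⟩ := (Polynomial.mem_lifts g).mp ((Polynomial.lifts_iff_coeff_lifts g).mpr hcoef)
  have hsep' : g'.Separable := by
    rw [← Polynomial.separable_map (algebraMap
      (IntermediateField.adjoin k {y : Ω | y ^ (p ^ e) ∈ Set.range (algebraMap k Ω)}) Ω), hg']
    exact hsep
  have hroot' : Polynomial.aeval z g' = 0 := by
    rw [Polynomial.aeval_def, Polynomial.eval₂_eq_eval_map, hg', hroot]
  exact hsep'.of_dvd (minpoly.dvd _ _ hroot')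

theorem pow_sep_of_sep {K : Type u} [Field K] [Algebra k K] [Algebra K Ω] [IsScalarTower k K Ω]
    (x : K)
    (hx : IsSeparable (IntermediateField.adjoin k {y : Ω | y ^ (p ^ e) ∈ Set.range (algebraMap k Ω)})
      (algebraMap K Ω x)) :
    IsSeparable k (x ^ (p ^ e)) := by
  haveI : CharP Ω p := charP_of_injective_algebraMap (algebraMap k Ω).injective p
  obtain ⟨m, hm⟩ : ∃ m, m = minpoly
    (IntermediateField.adjoin k {y : Ω | y ^ (p ^ e) ∈ Set.range (algebraMap k Ω)})
    (algebraMap K Ω x) := ⟨_, rfl⟩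
  have hmsep : m.Separable := by rw [hm]; exact hx
  have hmroot : Polynomial.aeval (algebraMap K Ω x) m = 0 := by rw [hm]; exact minpoly.aeval _ _
  obtain ⟨m₂, hm₂⟩ : ∃ q : Polynomial Ω, q = (m.map (algebraMap
    (IntermediateField.adjoin k {y : Ω | y ^ (p ^ e) ∈ Set.range (algebraMap k Ω)}) Ω)).map
      (iterateFrobenius Ω p e) := ⟨_, rfl⟩
  have hcoef : ∀ n, m₂.coeff n ∈ Set.range (algebraMap k Ω) := by
    intro n
    rw [hm₂, Polynomial.coeff_map, Polynomial.coeff_map]
    exact pow_mem_range p e _ (SetLike.coe_mem (m.coeff n))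
  obtain ⟨m₃, hm₃⟩ := (Polynomial.mem_lifts m₂).mp ((Polynomial.lifts_iff_coeff_lifts m₂).mpr hcoef)
  have hsep : m₃.Separable := by
    rw [← Polynomial.separable_map (algebraMap k Ω), hm₃, hm₂]
    exact Polynomial.Separable.map (Polynomial.Separable.map hmsep)
  have hroot : Polynomial.aeval (x ^ (p ^ e)) m₃ = 0 := by
    apply (algebraMap K Ω).injective
    rw [map_zero, ← Polynomial.aeval_algebraMap_apply, map_pow, Polynomial.aeval_def,
      Polynomial.eval₂_eq_eval_map, hm₃, hm₂]
    show Polynomial.eval (iterateFrobenius Ω p e (algebraMap K Ω x))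
      ((m.map (algebraMap (IntermediateField.adjoin k
        {y : Ω | y ^ (p ^ e) ∈ Set.range (algebraMap k Ω)}) Ω)).map (iterateFrobenius Ω p e)) = 0
    rw [Polynomial.eval_map, Polynomial.eval₂_at_apply, Polynomial.eval_map,
      ← Polynomial.aeval_def, hmroot, map_zero]
  exact hsep.of_dvd (minpoly.dvd _ _ hroot)

end Aux


/-- Let k ⊆ K be a finite extension of fields of characteristic p > 0, viewed inside an algebraically
closed field Ω, and for e ≥ 0 let k^{p^{-e}} ⊆ Ω be the field of elements whose p^e-th power lies in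
k. Then the compositum k^{p^{-e}}K is separable over k^{p^{-e}} if and only if x^{p^e} is separable
over k for every x ∈ K; hence the exponent of K/k (the least n ≥ 1 with K^n separable over k, a
power of p) is the least p^e for which k^{p^{-e}} ⊆ k^{p^{-e}}K is separable. -/
theorem result {k : Type u} [Field k] (p : ℕ) [Fact p.Prime] [CharP k p]
    {K : Type u} [Field K] [Algebra k K] [FiniteDimensional k K]
    {Ω : Type u} [Field Ω] [Algebra k Ω] [Algebra K Ω] [IsScalarTower k K Ω] [IsAlgClosed Ω] (e : ℕ) :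
    (∀ x : Ω, x ∈ IntermediateField.adjoin k {y : Ω | y ^ (p ^ e) ∈ Set.range (algebraMap k Ω)} ⊔
        IntermediateField.adjoin k (Set.range (algebraMap K Ω)) →
      IsSeparable (IntermediateField.adjoin k {y : Ω | y ^ (p ^ e) ∈ Set.range (algebraMap k Ω)}) x) ↔
    ∀ x : K, x ^ (p ^ e) ∈ separableClosure k K := by
  constructor
  · intro h x
    rw [mem_separableClosure_iff]
    apply pow_sep_of_sep (Ω := Ω) p e x
    apply h
    exact (le_sup_right : IntermediateField.adjoin k (Set.range (algebraMap K Ω)) ≤ _)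
      (IntermediateField.subset_adjoin k _ ⟨x, rfl⟩)
  · intro h x hx
    have hle : IntermediateField.adjoin k {y : Ω | y ^ (p ^ e) ∈ Set.range (algebraMap k Ω)} ⊔
        IntermediateField.adjoin k (Set.range (algebraMap K Ω)) ≤
        (separableClosure (IntermediateField.adjoin k
          {y : Ω | y ^ (p ^ e) ∈ Set.range (algebraMap k Ω)}) Ω).restrictScalars k := by
      apply sup_le
      · intro y hy
        show y ∈ separableClosure (IntermediateField.adjoin k
          {y : Ω | y ^ (p ^ e) ∈ Set.range (algebraMap k Ω)}) Ω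
        exact (separableClosure (IntermediateField.adjoin k
          {y : Ω | y ^ (p ^ e) ∈ Set.range (algebraMap k Ω)}) Ω).algebraMap_mem ⟨y, hy⟩
      · rw [IntermediateField.adjoin_le_iff]
        rintro _ ⟨x, rfl⟩
        show algebraMap K Ω x ∈ separableClosure (IntermediateField.adjoin k
          {y : Ω | y ^ (p ^ e) ∈ Set.range (algebraMap k Ω)}) Ω
        rw [mem_separableClosure_iff]
        apply sep_of_pow_sep p e
        rw [← map_pow]
        show (minpoly k (algebraMap K Ω (x ^ p ^ e))).Separable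
        rw [minpoly.algebraMap_eq (algebraMap K Ω).injective]
        exact h x
    exact mem_separableClosure_iff.mp (hle hx)

end Groth.Agent.S13184
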