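import Groth.Statements.S13185
import Mathlib

set_option autoImplicit false
universe u v w x
open GalCoh

namespace Groth.Agent.S13185

theorem result {G : Type u} {A : Type v} {B : Type w} {C : Type x}
    [Group G] [Group A] [Group B] [Group C]
    [MulDistribMulAction G A] [MulDistribMulAction G B] [MulDistribMulAction G C]
    {ι : A →* B} {π : B →* C} (h : GpH1.IsGExt G ι π)
    (c c' : MulAction.fixedPoints G C) :
    GpH1.delta0 h c = GpH1.delta0 h c' ↔
      ∃ b : B, b ∈ MulAction.fixedPoints G B ∧ (c' : C) = π b * (c : C) := by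
  -- the chosen lifts
  set b₀ := (h.surjective c.1).choose with hb₀
  have hπb₀ : π b₀ = c.1 := (h.surjective c.1).choose_spec
  set b₀' := (h.surjective c'.1).choose with hb₀'
  have hπb₀' : π b₀' = c'.1 := (h.surjective c'.1).choose_spec
  have hfix : π b₀ ∈ MulAction.fixedPoints G C := hπb₀.symm ▸ c.2
  have hfix' : π b₀' ∈ MulAction.fixedPoints G C := hπb₀'.symm ▸ c'.2
  have hdelta : GpH1.delta0 h c = (h.cocycleOfLift b₀ hfix).cl := rfl
  have hdelta' : GpH1.delta0 h c' = (h.cocycleOfLift b₀' hfix').cl := rfl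
  rw [hdelta, hdelta', GpH1.OneCocycle.cl_eq_cl_iff]
  constructor
  · rintro ⟨z, hz⟩
    refine ⟨b₀' * ι z * b₀⁻¹, ?_, ?_⟩
    · intro σ
      have h1 := congrArg ι (hz σ)
      rw [map_mul, map_mul, map_inv, h.smul_ι, h.ι_cocycleOfLift, h.ι_cocycleOfLift] at h1
      -- h1 : b₀⁻¹ * σ • b₀ = (ι z)⁻¹ * (b₀'⁻¹ * σ • b₀') * σ • ι z
      rw [smul_mul', smul_mul', smul_inv']
      have h2 : σ • b₀ = b₀ * (b₀⁻¹ * σ • b₀) := by group
      rw [h2, h1]
      group
    · rw [map_mul, map_mul, map_inv, hπb₀, hπb₀']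
      have : π (ι z) = 1 := (h.exact (ι z)).mpr ⟨z, rfl⟩
      rw [this]
      group
  · rintro ⟨b, hb, hcc⟩
    have hker : π (b₀'⁻¹ * b * b₀) = 1 := by
      rw [map_mul, map_mul, map_inv, hπb₀, hπb₀', hcc]
      group
    obtain ⟨z, hz⟩ := (h.exact _).mp hker
    refine ⟨z, fun σ => ?_⟩
    apply h.injective
    rw [map_mul, map_mul, map_inv, h.smul_ι, h.ι_cocycleOfLift, h.ι_cocycleOfLift, hz]
    rw [smul_mul', smul_mul', smul_inv', hb σ]
    group

end Groth.Agent.S13185
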