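import Groth.Statements.S13186
import Mathlib

set_option autoImplicit false
universe u
open GalCoh

namespace Groth.Agent.S13186


section Aux

variable (K L : Type u) [Field K] [Field L] [Algebra K L] [FiniteDimensional K L] (n : ℕ)

noncomputable def bvec (a : (L ≃ₐ[K] L) → GL (Fin n) L) (x : Fin n → L) : Fin n → L :=
  ∑ τ : L ≃ₐ[K] L, (a τ : Matrix (Fin n) (Fin n) L).mulVec (fun i => τ (x i))

theorem span_bvec_eq_top (a : (L ≃ₐ[K] L) → GL (Fin n) L) (ha1 : a 1 = 1) :
    Submodule.span L (Set.range (bvec K L n a)) = ⊤ := by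
  by_contra hne
  obtain ⟨u, hu0, hu⟩ := Submodule.exists_le_ker_of_lt_top _ (lt_top_iff_ne_top.2 hne)
  apply hu0
  -- independence of characters
  have hind : LinearIndependent L (fun τ : L ≃ₐ[K] L => ((τ : L →* L) : L → L)) := by
    have := linearIndependent_monoidHom L L
    refine this.comp (fun τ : L ≃ₐ[K] L => (τ : L →* L)) ?_
    intro σ τ h
    ext x
    exact DFunLike.congr_fun h x
  rw [Fintype.linearIndependent_iff] at hind
  apply LinearMap.ext
  intro x
  have hx : ∀ h : L, ∑ τ : L ≃ₐ[K] L,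
      u ((a τ : Matrix (Fin n) (Fin n) L).mulVec (fun i => τ (x i))) * τ h = 0 := by
    intro h
    have h1 : bvec K L n a (h • x) ∈ Submodule.span L (Set.range (bvec K L n a)) :=
      Submodule.subset_span ⟨_, rfl⟩
    have h2 := hu h1
    rw [LinearMap.mem_ker, bvec, map_sum] at h2
    rw [← h2]
    refine Finset.sum_congr rfl fun τ _ => ?_
    have : (fun i => τ ((h • x) i)) = τ h • (fun i => τ (x i)) := by
      ext i
      simp
    rw [this, Matrix.mulVec_smul, map_smul, smul_eq_mul, mul_comm]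
  have h3 := hind (fun τ => u ((a τ : Matrix (Fin n) (Fin n) L).mulVec (fun i => τ (x i)))) (by
    ext h
    simpa [Finset.sum_apply] using hx h) 1
  simpa [ha1] using h3


/-- GL_n Hilbert 90 in the form `B σ * σ(M) = M` with `M` invertible. -/
theorem exists_GL (B : (L ≃ₐ[K] L) → GL (Fin n) L)
    (hB : ∀ σ τ : L ≃ₐ[K] L,
      (B σ : Matrix (Fin n) (Fin n) L) * (B τ : Matrix (Fin n) (Fin n) L).map σ =
        (B (σ * τ) : Matrix (Fin n) (Fin n) L)) :
    ∃ M : GL (Fin n) L, ∀ σ : L ≃ₐ[K] L,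
      (B σ : Matrix (Fin n) (Fin n) L) * (M : Matrix (Fin n) (Fin n) L).map σ =
        (M : Matrix (Fin n) (Fin n) L) := by
  classical
  have hB1 : B 1 = 1 := by
    have h11 := hB 1 1
    rw [mul_one] at h11
    have hm : ((B 1 : GL (Fin n) L) : Matrix (Fin n) (Fin n) L).map (1 : L ≃ₐ[K] L) =
        (B 1 : Matrix (Fin n) (Fin n) L) := Matrix.ext (fun i j => rfl)
    rw [hm] at h11
    have h2 : B 1 * B 1 = B 1 := Units.ext h11
    exact mul_left_cancel (h2.trans (mul_one _).symm)
  set s : Set (Fin n → L) := Set.range (bvec K L n B) with hs_def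
  have hs : ⊤ ≤ Submodule.span L s := (span_bvec_eq_top K L n B hB1).ge
  let v0 := Module.Basis.ofSpan hs
  haveI : Fintype ↥((linearIndepOn_empty L id).extend (Set.empty_subset s)) :=
    FiniteDimensional.fintypeBasisIndex v0
  have hcard : Fintype.card ↥((linearIndepOn_empty L id).extend (Set.empty_subset s)) = n := by
    rw [← Module.finrank_eq_card_basis v0]; simp
  let e := Fintype.equivFinOfCardEq hcard
  let v := v0.reindex e
  have hv : ∀ j, ∃ x, bvec K L n B x = v j := by
    intro j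
    have : v j ∈ s := Module.Basis.ofSpan_subset hs ⟨e.symm j, by simp [v, v0]⟩
    exact this
  choose x hx using hv
  let C : Matrix (Fin n) (Fin n) L := Matrix.of (fun i j => x j i)
  let M : Matrix (Fin n) (Fin n) L :=
    ∑ τ : L ≃ₐ[K] L, (B τ : Matrix (Fin n) (Fin n) L) * C.map τ
  have hM : M = (Pi.basisFun L (Fin n)).toMatrix v := by
    ext i j
    rw [Module.Basis.toMatrix_apply, Pi.basisFun_repr, ← hx j]
    show (∑ τ : L ≃ₐ[K] L, (B τ : Matrix (Fin n) (Fin n) L) * C.map τ) i j =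
      (∑ τ : L ≃ₐ[K] L, (B τ : Matrix (Fin n) (Fin n) L).mulVec (fun i => τ (x j i))) i
    rw [Matrix.sum_apply, Finset.sum_apply]
    exact Finset.sum_congr rfl (fun τ _ => rfl)
  have hMu : IsUnit M := by
    rw [hM]
    haveI := (Pi.basisFun L (Fin n)).invertibleToMatrix v
    exact isUnit_of_invertible _
  obtain ⟨Mu, hMu⟩ := hMu
  refine ⟨Mu, fun σ => ?_⟩
  rw [hMu]
  have key : ∀ τ : L ≃ₐ[K] L,
      (B σ : Matrix (Fin n) (Fin n) L) *
        (AlgEquiv.mapMatrix σ) ((B τ : Matrix (Fin n) (Fin n) L) * C.map τ) =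
      (B (σ * τ) : Matrix (Fin n) (Fin n) L) * C.map (σ * τ) := by
    intro τ
    rw [map_mul, ← mul_assoc]
    have h1 : (AlgEquiv.mapMatrix σ) (B τ : Matrix (Fin n) (Fin n) L) =
        (B τ : Matrix (Fin n) (Fin n) L).map σ := rfl
    have h2 : (AlgEquiv.mapMatrix σ) (C.map τ) = C.map (σ * τ) :=
      Matrix.ext (fun i j => rfl)
    rw [h1, hB σ τ, h2]
  calc (B σ : Matrix (Fin n) (Fin n) L) * M.map σ
      = (B σ : Matrix (Fin n) (Fin n) L) * (AlgEquiv.mapMatrix σ)
          (∑ τ : L ≃ₐ[K] L, (B τ : Matrix (Fin n) (Fin n) L) * C.map τ) := rfl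
    _ = ∑ τ : L ≃ₐ[K] L, (B σ : Matrix (Fin n) (Fin n) L) *
          (AlgEquiv.mapMatrix σ) ((B τ : Matrix (Fin n) (Fin n) L) * C.map τ) := by
        rw [map_sum, Finset.mul_sum]
    _ = ∑ τ : L ≃ₐ[K] L, (B (σ * τ) : Matrix (Fin n) (Fin n) L) * C.map (σ * τ) :=
        Finset.sum_congr rfl (fun τ _ => key τ)
    _ = ∑ τ : L ≃ₐ[K] L, (B τ : Matrix (Fin n) (Fin n) L) * C.map τ :=
        Fintype.sum_equiv (Equiv.mulLeft σ) _ _ (fun τ => rfl)
    _ = M := rfl

end Aux


/-- Let L/K be a finite Galois extension of fields, n a natural number, and B a map from the Galois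
group of L over K to the invertible n × n matrices over L such that B(σ) · σ(B(τ)) = B(στ) for all
σ, τ (σ acting on matrices entrywise, στ applying τ first) and det B(σ) = 1 for every σ. Then there
is an invertible matrix A over L of determinant 1 with B(σ) = A⁻¹ · σ(A) for every σ; that is, every
1-cocycle of the Galois group with values in SL_n(L) is the coboundary of an element of SL_n(L), so
H¹ of the Galois group with values in SL_n(L) is a point. (The published statement says that every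
torsor under the special linear group over K is trivial; this row is the finite-Galois-level cocycle
form that its proof establishes.) -/
theorem result (K L : Type u) [Field K] [Field L]
    [Algebra K L] [FiniteDimensional K L] [IsGalois K L] (n : ℕ)
    (B : (L ≃ₐ[K] L) → GL (Fin n) L)
    (hB : ∀ σ τ : L ≃ₐ[K] L,
      (B σ : Matrix (Fin n) (Fin n) L) * (B τ : Matrix (Fin n) (Fin n) L).map σ =
        (B (σ * τ) : Matrix (Fin n) (Fin n) L))
    (hdet : ∀ σ : L ≃ₐ[K] L, Matrix.det (B σ : Matrix (Fin n) (Fin n) L) = 1) :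
    ∃ A : GL (Fin n) L, Matrix.det (A : Matrix (Fin n) (Fin n) L) = 1 ∧ ∀ σ : L ≃ₐ[K] L,
      (B σ : Matrix (Fin n) (Fin n) L) =
        ((A⁻¹ : GL (Fin n) L) : Matrix (Fin n) (Fin n) L) * (A : Matrix (Fin n) (Fin n) L).map σ := by
  classical
  rcases Nat.eq_zero_or_pos n with hn | hn
  · subst hn
    exact ⟨1, Matrix.det_isEmpty, fun σ => Subsingleton.elim _ _⟩
  obtain ⟨m, rfl⟩ : ∃ m, n = m + 1 := Nat.exists_eq_succ_of_ne_zero (Nat.pos_iff_ne_zero.mp hn)
  obtain ⟨Mu, hMu⟩ := exists_GL K L (m + 1) B hB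
  -- P = Mu⁻¹
  set P : Matrix (Fin (m + 1)) (Fin (m + 1)) L := ((Mu⁻¹ : GL (Fin (m + 1)) L) :
    Matrix (Fin (m + 1)) (Fin (m + 1)) L) with hP
  have hPM : P * (Mu : Matrix (Fin (m + 1)) (Fin (m + 1)) L) = 1 := Units.inv_mul Mu
  have hMP : (Mu : Matrix (Fin (m + 1)) (Fin (m + 1)) L) * P = 1 := Units.mul_inv Mu
  have hPσ : ∀ σ : L ≃ₐ[K] L, P * (B σ : Matrix (Fin (m + 1)) (Fin (m + 1)) L) = P.map σ := by
    intro σ
    have h1 : (Mu : Matrix (Fin (m + 1)) (Fin (m + 1)) L).map σ * P.map σ = 1 := by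
      have := congrArg (AlgEquiv.mapMatrix σ) hMP
      rw [map_mul, map_one] at this
      exact this
    calc P * (B σ : Matrix (Fin (m + 1)) (Fin (m + 1)) L)
        = P * (B σ : Matrix (Fin (m + 1)) (Fin (m + 1)) L) *
            ((Mu : Matrix (Fin (m + 1)) (Fin (m + 1)) L).map σ * P.map σ) := by
          rw [h1, mul_one]
      _ = P * ((B σ : Matrix (Fin (m + 1)) (Fin (m + 1)) L) *
            (Mu : Matrix (Fin (m + 1)) (Fin (m + 1)) L).map σ) * P.map σ := by
          simp only [mul_assoc]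
      _ = P.map σ := by rw [hMu σ, hPM, one_mul]
  -- determinant of P is Galois-fixed and non-zero
  set ε : L := P.det with hε
  have hεσ : ∀ σ : L ≃ₐ[K] L, σ ε = ε := by
    intro σ
    have h := congrArg Matrix.det (hPσ σ)
    rw [Matrix.det_mul, hdet σ, mul_one] at h
    rw [hε, AlgEquiv.map_det]
    exact h.symm
  have hε0 : ε ≠ 0 := by
    intro h0
    have h := congrArg Matrix.det hPM
    rw [Matrix.det_mul, Matrix.det_one, ← hε, h0, zero_mul] at h
    exact zero_ne_one h
  -- the diagonal correction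
  let dv : Fin (m + 1) → L := fun i => if i = 0 then ε⁻¹ else 1
  let D : Matrix (Fin (m + 1)) (Fin (m + 1)) L := Matrix.diagonal dv
  have hDdet : D.det = ε⁻¹ := by
    show (Matrix.diagonal dv).det = ε⁻¹
    rw [Matrix.det_diagonal]
    show (∏ i : Fin (m + 1), if i = 0 then ε⁻¹ else 1) = ε⁻¹
    rw [Finset.prod_ite_eq' Finset.univ (0 : Fin (m + 1)) (fun _ => ε⁻¹)]
    simp
  have hDσ : ∀ σ : L ≃ₐ[K] L, D.map σ = D := by
    intro σ
    show (Matrix.diagonal dv).map σ = Matrix.diagonal dv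
    rw [Matrix.diagonal_map (map_zero σ)]
    congr 1
    funext i
    show σ (if i = 0 then ε⁻¹ else 1) = if i = 0 then ε⁻¹ else 1
    split_ifs
    · rw [map_inv₀, hεσ σ]
    · rw [map_one]
  have hdetA : (D * P).det = 1 := by
    rw [Matrix.det_mul, hDdet, ← hε, inv_mul_cancel₀ hε0]
  have hunit : IsUnit (D * P) := by
    rw [Matrix.isUnit_iff_isUnit_det, hdetA]
    exact isUnit_one
  obtain ⟨A, hA⟩ := hunit
  refine ⟨A, by rw [hA]; exact hdetA, fun σ => ?_⟩
  have hkey : (A : Matrix (Fin (m + 1)) (Fin (m + 1)) L) *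
      (B σ : Matrix (Fin (m + 1)) (Fin (m + 1)) L) =
      (A : Matrix (Fin (m + 1)) (Fin (m + 1)) L).map σ := by
    rw [hA, mul_assoc, hPσ σ]
    have : (D * P).map σ = D.map σ * P.map σ := by
      show (AlgEquiv.mapMatrix σ) (D * P) = _
      rw [map_mul]
      rfl
    rw [this, hDσ σ]
  rw [← hkey, ← mul_assoc, Units.inv_mul, one_mul]

end Groth.Agent.S13186
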