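import Groth.Statements.S13189
import Mathlib

set_option autoImplicit false
universe u
open CAlg

namespace Groth.Agent.S13189

theorem result (K : Type u) [Field K] [Fintype K]
    (n : ℕ) (p : MvPolynomial (Fin n) K) :
    (∀ a : Fin n → K, MvPolynomial.eval a p = 0) ↔
      p ∈ Ideal.span (Set.range fun i : Fin n =>
        (MvPolynomial.X i ^ Fintype.card K - MvPolynomial.X i : MvPolynomial (Fin n) K)) := by
  classical
  set q := Fintype.card K with hq
  set J : Ideal (MvPolynomial (Fin n) K) := Ideal.span (Set.range fun i : Fin n =>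
        (MvPolynomial.X i ^ q - MvPolynomial.X i : MvPolynomial (Fin n) K)) with hJ
  have hq2 : 2 ≤ q := Fintype.one_lt_card
  -- elements of `J` vanish everywhere
  have hJeval : ∀ a : Fin n → K, ∀ r ∈ J, MvPolynomial.eval a r = 0 := by
    intro a r hr
    have : J ≤ RingHom.ker (MvPolynomial.eval a) := by
      rw [hJ, Ideal.span_le]
      rintro _ ⟨i, rfl⟩
      simp only [SetLike.mem_coe, RingHom.mem_ker, map_sub, map_pow, MvPolynomial.eval_X]
      rw [hq, FiniteField.pow_card, sub_self]
    exact this hr
  -- reduction of powers of the variables in the quotient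
  have hpow : ∀ (i : Fin n) (k : ℕ), ∃ k' < q,
      Ideal.Quotient.mk J (MvPolynomial.X i ^ k) = Ideal.Quotient.mk J (MvPolynomial.X i ^ k') := by
    intro i k
    induction k using Nat.strong_induction_on with
    | _ k ih =>
      by_cases hk : k < q
      · exact ⟨k, hk, rfl⟩
      · push_neg at hk
        obtain ⟨k', hk', h⟩ := ih (k - q + 1) (by omega)
        refine ⟨k', hk', ?_⟩
        rw [← h]
        have hgen : Ideal.Quotient.mk J (MvPolynomial.X i ^ q) =
            Ideal.Quotient.mk J (MvPolynomial.X i) := by
          rw [Ideal.Quotient.eq]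
          exact Ideal.subset_span ⟨i, rfl⟩
        have : k = (k - q) + q := by omega
        conv_lhs => rw [this]
        rw [pow_add, map_mul, hgen, pow_succ, map_mul]
  -- every polynomial is congruent to one of small degree in each variable
  have hred : ∀ p : MvPolynomial (Fin n) K, ∃ r : MvPolynomial (Fin n) K,
      p - r ∈ J ∧ ∀ i, r.degreeOf i < q := by
    intro p
    induction p using MvPolynomial.induction_on' with
    | monomial m a =>
      choose k' hk' hk'' using fun i => hpow i (m i)
      by_cases ha : a = 0
      · refine ⟨0, by simp [ha], fun i => by simp; omega⟩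
      refine ⟨MvPolynomial.monomial (Finsupp.equivFunOnFinite.symm k') a, ?_, fun i => ?_⟩
      · rw [← Ideal.Quotient.eq, MvPolynomial.monomial_eq, MvPolynomial.monomial_eq, map_mul,
          map_mul, Finsupp.prod_pow, Finsupp.prod_pow, map_prod, map_prod]
        congr 1
        apply Finset.prod_congr rfl
        intro i _
        rw [hk'' i]
        simp
      · rw [MvPolynomial.degreeOf_monomial_eq _ _ ha]
        simpa using hk' i
    | add p₁ p₂ h₁ h₂ =>
      obtain ⟨r₁, hr₁, hd₁⟩ := h₁
      obtain ⟨r₂, hr₂, hd₂⟩ := h₂
      refine ⟨r₁ + r₂, ?_, fun i => ?_⟩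
      · have : p₁ + p₂ - (r₁ + r₂) = (p₁ - r₁) + (p₂ - r₂) := by ring
        rw [this]
        exact J.add_mem hr₁ hr₂
      · exact lt_of_le_of_lt (MvPolynomial.degreeOf_add_le i r₁ r₂) (max_lt (hd₁ i) (hd₂ i))
  constructor
  · intro hp
    obtain ⟨r, hr, hd⟩ := hred p
    have hr0 : r = 0 := by
      apply MvPolynomial.eq_zero_of_eval_zero_at_prod_finset r (fun _ => Finset.univ)
      · intro i
        simpa using hd i
      · intro x _
        have h1 := hJeval x _ hr
        rw [map_sub, hp x, zero_sub, neg_eq_zero] at h1
        exact h1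
    rw [hr0, sub_zero] at hr
    exact hr
  · intro hp a
    exact hJeval a p hp

end Groth.Agent.S13189
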