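import Groth.Statements.S13191
import Mathlib

set_option autoImplicit false
universe u v w x
open GalCoh

namespace Groth.Agent.S13191

theorem result {G : Type u} {A : Type v} {E : Type w} {E' : Type x}
    [Group G] [Group A] [MulDistribMulAction G A]
    [MulAction G E] [MulAction Aᵐᵒᵖ E]
    (hfree : ∀ m₁ m₂ : E, ∃! a : A, m₂ = MulOpposite.op a • m₁)
    (hcompat : ∀ (g : G) (a : A) (m : E), g • (MulOpposite.op a • m) = MulOpposite.op (g • a) • g • m)
    [MulAction G E'] [MulAction Aᵐᵒᵖ E']
    (hfree' : ∀ m₁ m₂ : E', ∃! a : A, m₂ = MulOpposite.op a • m₁)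
    (hcompat' : ∀ (g : G) (a : A) (m : E'), g • (MulOpposite.op a • m) = MulOpposite.op (g • a) • g • m)
    (m : E) (a : G → A) (ha : ∀ g : G, g • m = MulOpposite.op (a g) • m)
    (m' : E') (a' : G → A) (ha' : ∀ g : G, g • m' = MulOpposite.op (a' g) • m') :
    (∃ f : E ≃ E', (∀ (g : G) (e : E), f (g • e) = g • f e) ∧
        ∀ (b : A) (e : E), f (MulOpposite.op b • e) = MulOpposite.op b • f e) ↔
      GpH1.Cohomologous a a' := by
  -- right action composition: (m·x)·y = m·(x*y)
  have hact : ∀ (x y : A) (e : E), MulOpposite.op y • MulOpposite.op x • e = MulOpposite.op (x * y) • e := by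
    intro x y e
    rw [← mul_smul, ← MulOpposite.op_mul]
  have hact' : ∀ (x y : A) (e : E'), MulOpposite.op y • MulOpposite.op x • e = MulOpposite.op (x * y) • e := by
    intro x y e
    rw [← mul_smul, ← MulOpposite.op_mul]
  have hinj' : ∀ (x y : A) (e : E'), MulOpposite.op x • e = MulOpposite.op y • e → x = y := by
    intro x y e h
    exact (hfree' e (MulOpposite.op x • e)).unique rfl h
  have hinj : ∀ (x y : A) (e : E), MulOpposite.op x • e = MulOpposite.op y • e → x = y := by
    intro x y e h
    exact (hfree e (MulOpposite.op x • e)).unique rfl h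
  constructor
  · rintro ⟨f, hfG, hfA⟩
    obtain ⟨c, hc, -⟩ := hfree' m' (f m)
    refine ⟨c, fun g => ?_⟩
    have h1 : g • f m = MulOpposite.op (c * a g) • m' := by
      rw [← hfG, ha g, hfA, hc, hact']
    have h2 : g • f m = MulOpposite.op (a' g * g • c) • m' := by
      rw [hc, hcompat', ha' g, hact']
    have h3 : c * a g = a' g * g • c := hinj' _ _ m' (h1.symm.trans h2)
    have : a g = c⁻¹ * (c * a g) := by group
    rw [this, h3]
    group
  · rintro ⟨c, hc⟩
    have hc' : ∀ g, c * a g = a' g * g • c := by
      intro g
      rw [hc g]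
      group
    choose coord hcoord hcoord_uniq using fun e => hfree m e
    let f : E → E' := fun e => MulOpposite.op (c * coord e) • m'
    have hcoord_smul : ∀ x : A, coord (MulOpposite.op x • m) = x := by
      intro x
      exact hinj _ _ m (hcoord (MulOpposite.op x • m)).symm
    have hfbij : Function.Bijective f := by
      constructor
      · intro e₁ e₂ h
        have h1 : c * coord e₁ = c * coord e₂ := hinj' _ _ m' h
        have h2 : coord e₁ = coord e₂ := mul_left_cancel h1
        rw [hcoord e₁, hcoord e₂, h2]
      · intro e'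
        obtain ⟨y, hy, -⟩ := hfree' m' e'
        refine ⟨MulOpposite.op (c⁻¹ * y) • m, ?_⟩
        simp only [f]
        rw [hcoord_smul, mul_inv_cancel_left, hy]
    refine ⟨Equiv.ofBijective f hfbij, ?_, ?_⟩
    · intro g e
      simp only [Equiv.ofBijective_apply, f]
      have h1 : g • e = MulOpposite.op (a g * g • coord e) • m := by
        conv_lhs => rw [hcoord e]
        rw [hcompat, ha g, hact]
      have h2 : coord (g • e) = a g * g • coord e := by
        rw [h1, hcoord_smul]
      rw [h2, hcompat', ha' g, hact', smul_mul', ← mul_assoc, hc' g, mul_assoc]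
    · intro b e
      simp only [Equiv.ofBijective_apply, f]
      have h1 : MulOpposite.op b • e = MulOpposite.op (coord e * b) • m := by
        conv_lhs => rw [hcoord e]
        rw [hact]
      have h2 : coord (MulOpposite.op b • e) = coord e * b := by
        rw [h1, hcoord_smul]
      rw [h2, hact', mul_assoc]

end Groth.Agent.S13191
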