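import Groth.Statements.S13194
import Groth.Agent.H3.GalDescent

set_option autoImplicit false
universe u
open GalCoh

namespace Groth.Agent.S13194

theorem result (p : ℕ) [Fact p.Prime]
    (K L : Type u) [Field K] [Field L] [Algebra K L] [CharP K p] [IsSepClosure K L]
    (χ : (L ≃ₐ[K] L) → ZMod p) (hχ : ∀ σ τ : L ≃ₐ[K] L, χ (σ * τ) = χ σ + χ τ)
    (hlc : IsLocallyConstant χ) :
    ∃ x : L, x ^ p - x ∈ Set.range (algebraMap K L) ∧
      ∀ σ : L ≃ₐ[K] L, σ x - x = ((χ σ).val : L) := by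
  haveI : CharP L p := charP_of_injective_algebraMap (algebraMap K L).injective p
  let φ : ZMod p →+* L := ZMod.castHom (dvd_refl p) L
  have hφ : ∀ z : ZMod p, ((z.val : ℕ) : L) = φ z := fun z => by
    simp [φ, ZMod.natCast_val]
  let a : (L ≃ₐ[K] L) → L := fun σ => φ (χ σ)
  have hfix : ∀ (σ : L ≃ₐ[K] L) (z : ZMod p), σ (φ z) = φ z := by
    intro σ z
    rw [← hφ, map_natCast]
  have ha : ∀ σ τ : L ≃ₐ[K] L, a (σ * τ) = a σ + σ (a τ) := by
    intro σ τ
    simp only [a]
    rw [hχ, map_add, hfix]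
  have halc : IsLocallyConstant a := hlc.comp _
  obtain ⟨y, hy⟩ := Groth.Agent.H3.additive_hilbert90 a ha halc
  refine ⟨y, ?_, fun σ => ?_⟩
  · rw [InfiniteGalois.mem_range_algebraMap_iff_fixed]
    intro σ
    have h1 : σ y = y + a σ := by rw [hy σ]; ring
    have h2 : (a σ) ^ p = a σ := by
      simp only [a]
      rw [← map_pow, ZMod.pow_card]
    rw [map_sub, map_pow, h1, add_pow_char, h2]
    ring
  · rw [hφ, ← hy σ]

end Groth.Agent.S13194
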