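import Groth.Statements.S13195
import Groth.Agent.H3.GalDescent

set_option autoImplicit false
universe u
open GalCoh

namespace Groth.Agent.S13195

theorem result (K L : Type u) [Field K] [Field L]
    [Algebra K L] [IsSepClosure K L] (a : (L ≃ₐ[K] L) → Lˣ)
    (ha : ∀ σ τ : L ≃ₐ[K] L, a (σ * τ) = a σ * σ • a τ) (hlc : IsLocallyConstant a) :
    ∃ c : Lˣ, ∀ σ : L ≃ₐ[K] L, a σ = c⁻¹ * σ • c :=
  Groth.Agent.H3.hilbert90 a ha hlc

end Groth.Agent.S13195
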