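import Groth.Statements.S13196
import Groth.Agent.H3.GalDescent

set_option autoImplicit false
universe u
open GalCoh

namespace Groth.Agent.S13196

theorem result (K L : Type u) [Field K] [Field L] [Algebra K L]
    [IsSepClosure K L] (a : (L ≃ₐ[K] L) → L)
    (ha : ∀ σ τ : L ≃ₐ[K] L, a (σ * τ) = a σ + σ (a τ)) (hlc : IsLocallyConstant a) :
    ∃ y : L, ∀ σ : L ≃ₐ[K] L, a σ = σ y - y :=
  Groth.Agent.H3.additive_hilbert90 a ha hlc

end Groth.Agent.S13196
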