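import Groth.Statements.S13197
import Groth.Agent.H3.GalDescent

set_option autoImplicit false
universe u
open GalCoh

namespace Groth.Agent.S13197

theorem result (K L : Type u) [Field K] [Field L]
    [Algebra K L] [IsSepClosure K L] (n : ℕ) (hn : 0 < n) (hnK : (n : K) ≠ 0)
    (a : (L ≃ₐ[K] L) → Lˣ)
    (ha : ∀ σ τ : L ≃ₐ[K] L, a (σ * τ) = a σ * σ • a τ) (hroot : ∀ σ : L ≃ₐ[K] L, a σ ^ n = 1)
    (hlc : IsLocallyConstant a) :
    ∃ α : Lˣ, ((α ^ n : Lˣ) : L) ∈ Set.range (algebraMap K L) ∧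
      ∀ σ : L ≃ₐ[K] L, a σ = α⁻¹ * σ • α := by
  obtain ⟨c, hc⟩ := Groth.Agent.H3.hilbert90 a ha hlc
  refine ⟨c, ?_, hc⟩
  rw [InfiniteGalois.mem_range_algebraMap_iff_fixed]
  intro σ
  have h1 := hroot σ
  rw [hc σ, mul_pow, inv_pow, inv_mul_eq_one] at h1
  have h2 : ((σ • c) ^ n : Lˣ) = σ • (c ^ n) := (smul_pow' σ c n).symm
  rw [h2] at h1
  have h3 : ((c ^ n : Lˣ) : L) = ((σ • (c ^ n) : Lˣ) : L) := congrArg (fun u : Lˣ => (u : L)) h1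
  exact h3.symm

end Groth.Agent.S13197
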