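import Mathlib
import Groth.Statements.S13203
-- import your own Groth.Agent.* helpers here

set_option autoImplicit false
universe u
open CategoryTheory AlgebraicGeometry
open Neron

namespace Groth.Agent.S13203


/-- Let S be a scheme, U ⊆ S a schematically dense open subscheme and N → S a smooth S-scheme with the
Néron mapping property with respect to U: for every smooth S-scheme Y, sending an S-morphism Y → N
to its restriction Y ×_S U → N ×_S U is a bijection onto the U-morphisms. Then for every smooth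
morphism g : S' → S the base change N ×_S S' → S' (again smooth) has the Néron mapping property with
respect to g⁻¹(U): for every smooth S'-scheme Y', restriction to g⁻¹(U) is a bijection from
S'-morphisms Y' → N ×_S S' onto g⁻¹(U)-morphisms. (The published statement is for models which are
algebraic spaces, tested against smooth algebraic spaces, and also says that separatedness is
preserved; this row states the case of a smooth scheme model tested against smooth schemes.) -/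
theorem result
    {S S' : Scheme.{u}} (g : S' ⟶ S) [Smooth g]
    (U : S.Opens) (hU : CInt.IsSchematicallyDense U) (N : Over S) [Smooth N.hom]
    (hN : ∀ Y : Over S, Smooth Y.hom →
      Function.Bijective (fun f : Y ⟶ N => (Over.pullback U.ι).map f))
    (Y' : Over S') [Smooth Y'.hom] :
    Function.Bijective (fun f : Y' ⟶ (Over.pullback g).obj N => (Over.pullback (g ⁻¹ᵁ U).ι).map f) := by
  refine ⟨?_, ?_⟩
  · intro f₁ f₂ h
    have h' : (Over.pullback (g ⁻¹ᵁ U).ι).map f₁ = (Over.pullback (g ⁻¹ᵁ U).ι).map f₂ := h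
    have hfst : ∀ φ : Y' ⟶ (Over.pullback g).obj N, ((Over.pullback (g ⁻¹ᵁ U).ι).map φ).left ≫
        Limits.pullback.fst ((Over.pullback g).obj N).hom (g ⁻¹ᵁ U).ι =
        Limits.pullback.fst Y'.hom (g ⁻¹ᵁ U).ι ≫ φ.left := fun φ => Limits.pullback.lift_fst _ _ _
    have hj : Limits.pullback.fst Y'.hom (g ⁻¹ᵁ U).ι ≫ f₁.left =
        Limits.pullback.fst Y'.hom (g ⁻¹ᵁ U).ι ≫ f₂.left := by
      rw [← hfst f₁, ← hfst f₂, h']
    have hrange : Set.range (Limits.pullback.fst (Y'.hom ≫ g) U.ι) ⊆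
        Set.range (Limits.pullback.fst Y'.hom (g ⁻¹ᵁ U).ι) := by
      rw [Scheme.Pullback.range_fst, Scheme.Pullback.range_fst, Scheme.Opens.range_ι,
        Scheme.Opens.range_ι]
      intro y hy
      exact hy
    have hj2 : Limits.pullback.fst (Y'.hom ≫ g) U.ι ≫ f₁.left =
        Limits.pullback.fst (Y'.hom ≫ g) U.ι ≫ f₂.left := by
      rw [← IsOpenImmersion.lift_fac (Limits.pullback.fst Y'.hom (g ⁻¹ᵁ U).ι)
        (Limits.pullback.fst (Y'.hom ≫ g) U.ι) hrange, Category.assoc, Category.assoc, hj]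
    have hw : ∀ φ : Y' ⟶ (Over.pullback g).obj N,
        (φ.left ≫ Limits.pullback.fst N.hom g) ≫ N.hom = Y'.hom ≫ g := by
      intro φ
      have h1 : φ.left ≫ Limits.pullback.snd N.hom g = Y'.hom := Over.w φ
      rw [Category.assoc, Limits.pullback.condition, ← Category.assoc, h1]
    obtain ⟨F₁, hF₁⟩ : ∃ F : Over.mk (Y'.hom ≫ g) ⟶ N,
        F.left = f₁.left ≫ Limits.pullback.fst N.hom g := ⟨Over.homMk _ (hw f₁), rfl⟩
    obtain ⟨F₂, hF₂⟩ : ∃ F : Over.mk (Y'.hom ≫ g) ⟶ N,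
        F.left = f₂.left ≫ Limits.pullback.fst N.hom g := ⟨Over.homMk _ (hw f₂), rfl⟩
    have hsm : Smooth (Over.mk (Y'.hom ≫ g)).hom := (inferInstance : Smooth (Y'.hom ≫ g))
    have hF : F₁ = F₂ := by
      refine (hN (Over.mk (Y'.hom ≫ g)) hsm).1 ?_
      show (Over.pullback U.ι).map F₁ = (Over.pullback U.ι).map F₂
      ext1
      refine Limits.pullback.hom_ext ?_ ?_
      · refine (Limits.pullback.lift_fst _ _ _).trans (Eq.trans ?_ (Limits.pullback.lift_fst _ _ _).symm)
        show Limits.pullback.fst (Y'.hom ≫ g) U.ι ≫ F₁.left = Limits.pullback.fst (Y'.hom ≫ g) U.ι ≫ F₂.left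
        rw [hF₁, hF₂, ← Category.assoc, ← Category.assoc, hj2]
      · exact (Limits.pullback.lift_snd _ _ _).trans (Limits.pullback.lift_snd _ _ _).symm
    have hleft : f₁.left ≫ Limits.pullback.fst N.hom g = f₂.left ≫ Limits.pullback.fst N.hom g := by
      rw [← hF₁, ← hF₂, hF]
    ext1
    refine Limits.pullback.hom_ext hleft ?_
    exact (Over.w f₁).trans (Over.w f₂).symm
  · intro ψ
    have hsm : Smooth (Over.mk (Y'.hom ≫ g)).hom := (inferInstance : Smooth (Y'.hom ≫ g))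
    have hrange : Set.range (Limits.pullback.fst (Y'.hom ≫ g) U.ι) =
        Set.range (Limits.pullback.fst Y'.hom (g ⁻¹ᵁ U).ι) := by
      rw [Scheme.Pullback.range_fst, Scheme.Pullback.range_fst, Scheme.Opens.range_ι,
        Scheme.Opens.range_ι]
      rfl
    obtain ⟨θ, hθ⟩ : ∃ θ : Limits.pullback (Y'.hom ≫ g) U.ι ≅ Limits.pullback Y'.hom (g ⁻¹ᵁ U).ι,
        θ.hom ≫ Limits.pullback.fst Y'.hom (g ⁻¹ᵁ U).ι = Limits.pullback.fst (Y'.hom ≫ g) U.ι :=
      ⟨IsOpenImmersion.isoOfRangeEq _ _ hrange, IsOpenImmersion.isoOfRangeEq_hom_fac _ _ hrange⟩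
    have hψw : ψ.left ≫ Limits.pullback.snd (Limits.pullback.snd N.hom g) (g ⁻¹ᵁ U).ι =
        Limits.pullback.snd Y'.hom (g ⁻¹ᵁ U).ι := Over.w ψ
    have hcond : (θ.hom ≫ ψ.left ≫
        Limits.pullback.fst (Limits.pullback.snd N.hom g) (g ⁻¹ᵁ U).ι ≫
        Limits.pullback.fst N.hom g) ≫ N.hom = Limits.pullback.snd (Y'.hom ≫ g) U.ι ≫ U.ι := by
      have c1 : Limits.pullback.fst N.hom g ≫ N.hom = Limits.pullback.snd N.hom g ≫ g :=
        Limits.pullback.condition
      have c2 : Limits.pullback.fst (Limits.pullback.snd N.hom g) (g ⁻¹ᵁ U).ι ≫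
          Limits.pullback.snd N.hom g =
          Limits.pullback.snd (Limits.pullback.snd N.hom g) (g ⁻¹ᵁ U).ι ≫ (g ⁻¹ᵁ U).ι :=
        Limits.pullback.condition
      have c3 : Limits.pullback.fst Y'.hom (g ⁻¹ᵁ U).ι ≫ Y'.hom =
          Limits.pullback.snd Y'.hom (g ⁻¹ᵁ U).ι ≫ (g ⁻¹ᵁ U).ι := Limits.pullback.condition
      have c4 : Limits.pullback.fst (Y'.hom ≫ g) U.ι ≫ Y'.hom ≫ g =
          Limits.pullback.snd (Y'.hom ≫ g) U.ι ≫ U.ι := Limits.pullback.condition
      rw [Category.assoc, Category.assoc, Category.assoc, c1, reassoc_of% c2, reassoc_of% hψw,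
        ← reassoc_of% c3, reassoc_of% hθ, c4]
    obtain ⟨Ψ, hΨ⟩ : ∃ Ψ : (Over.pullback U.ι).obj (Over.mk (Y'.hom ≫ g)) ⟶
        (Over.pullback U.ι).obj N, Ψ.left = Limits.pullback.lift (θ.hom ≫ ψ.left ≫
        Limits.pullback.fst (Limits.pullback.snd N.hom g) (g ⁻¹ᵁ U).ι ≫
        Limits.pullback.fst N.hom g) (Limits.pullback.snd (Y'.hom ≫ g) U.ι) hcond :=
      ⟨Over.homMk (Limits.pullback.lift _ _ hcond) (Limits.pullback.lift_snd _ _ _), rfl⟩
    obtain ⟨F, hF⟩ := (hN (Over.mk (Y'.hom ≫ g)) hsm).2 Ψ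
    have hF' : (Over.pullback U.ι).map F = Ψ := hF
    have hFw : F.left ≫ N.hom = Y'.hom ≫ g := Over.w F
    obtain ⟨f₀, hf₀⟩ : ∃ f₀ : Y' ⟶ (Over.pullback g).obj N,
        f₀.left = Limits.pullback.lift F.left Y'.hom hFw :=
      ⟨Over.homMk _ (Limits.pullback.lift_snd _ _ _), rfl⟩
    have k1 : Limits.pullback.fst (Y'.hom ≫ g) U.ι ≫ F.left = θ.hom ≫ ψ.left ≫
        Limits.pullback.fst (Limits.pullback.snd N.hom g) (g ⁻¹ᵁ U).ι ≫
        Limits.pullback.fst N.hom g := by
      have e1 : ((Over.pullback U.ι).map F).left ≫ Limits.pullback.fst N.hom U.ι =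
          Limits.pullback.fst (Y'.hom ≫ g) U.ι ≫ F.left := Limits.pullback.lift_fst _ _ _
      have e2 : Ψ.left ≫ Limits.pullback.fst N.hom U.ι = θ.hom ≫ ψ.left ≫
          Limits.pullback.fst (Limits.pullback.snd N.hom g) (g ⁻¹ᵁ U).ι ≫
          Limits.pullback.fst N.hom g := by
        rw [hΨ]; exact Limits.pullback.lift_fst _ _ _
      rw [← e1, hF', e2]
    have k2 : Limits.pullback.fst Y'.hom (g ⁻¹ᵁ U).ι ≫ F.left = ψ.left ≫
        Limits.pullback.fst (Limits.pullback.snd N.hom g) (g ⁻¹ᵁ U).ι ≫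
        Limits.pullback.fst N.hom g := by
      rw [← cancel_epi θ.hom, ← k1, ← Category.assoc, hθ]
    have hfst0 : ((Over.pullback (g ⁻¹ᵁ U).ι).map f₀).left ≫
        Limits.pullback.fst (Limits.pullback.snd N.hom g) (g ⁻¹ᵁ U).ι =
        Limits.pullback.fst Y'.hom (g ⁻¹ᵁ U).ι ≫ f₀.left := Limits.pullback.lift_fst _ _ _
    have hsnd0 : ((Over.pullback (g ⁻¹ᵁ U).ι).map f₀).left ≫
        Limits.pullback.snd (Limits.pullback.snd N.hom g) (g ⁻¹ᵁ U).ι =
        Limits.pullback.snd Y'.hom (g ⁻¹ᵁ U).ι := Limits.pullback.lift_snd _ _ _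
    refine ⟨f₀, ?_⟩
    show (Over.pullback (g ⁻¹ᵁ U).ι).map f₀ = ψ
    ext1
    refine Limits.pullback.hom_ext (f := Limits.pullback.snd N.hom g) (g := (g ⁻¹ᵁ U).ι) ?_ ?_
    · refine Limits.pullback.hom_ext (f := N.hom) (g := g) ?_ ?_
      · rw [hfst0, Category.assoc, Category.assoc, hf₀, Limits.pullback.lift_fst, k2]
      · have c2 : Limits.pullback.fst (Limits.pullback.snd N.hom g) (g ⁻¹ᵁ U).ι ≫
            Limits.pullback.snd N.hom g =
            Limits.pullback.snd (Limits.pullback.snd N.hom g) (g ⁻¹ᵁ U).ι ≫ (g ⁻¹ᵁ U).ι :=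
          Limits.pullback.condition
        rw [hfst0, Category.assoc, Category.assoc, hf₀, Limits.pullback.lift_snd, c2,
          reassoc_of% hψw]
        exact Limits.pullback.condition
    · rw [hsnd0, hψw]

end Groth.Agent.S13203
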