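import Mathlib
import Groth.Statements.S13204
import Groth.Agent.Lib.Helper9.DVRDom
-- import your own Groth.Agent.* helpers here

set_option autoImplicit false
universe u
open Neron

namespace Groth.Agent.S13204

open Groth.Agent.Helper9.DVRDom Polynomial

/-- Let R be a strictly henselian Noetherian local unique factorization domain and Δ₁, Δ₂ two non-units
of R with no common prime factor. Then there are a discrete valuation ring A and an injective local
homomorphism f : R → A — so that Spec A → Spec R sends the closed point to the closed point and the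
generic point to the generic point, which lies in every dense open subset — such that f(Δ₁) is a
non-zero non-unit and f(Δ₁) = u · f(Δ₂) for some unit u of A congruent to 1 modulo the maximal
ideal. (The published statement asks for the images of Δ₁ and Δ₂ in A to be equal, with the generic
point of Spec A sent into a given dense open subset of Spec R; that cannot hold in general — for R =
ℂ[[a,b]], Δ₁ = a, Δ₂ = b and the dense open D(a − b), any local map to a discrete valuation ring
identifying a and b sends the generic point into V(a − b) — so this row asks instead for f(Δ₁) = u ·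
f(Δ₂) with u a unit congruent to 1 modulo the maximal ideal.) -/
theorem result
    (R : Type u) [CommRing R] [IsDomain R] [IsNoetherianRing R] [UniqueFactorizationMonoid R]
    [HenselianLocalRing R] [IsSepClosed (IsLocalRing.ResidueField R)]
    (Δ₁ Δ₂ : R) (h₁ : ¬ IsUnit Δ₁) (h₂ : ¬ IsUnit Δ₂) (hcop : IsRelPrime Δ₁ Δ₂) :
    ∃ (A : Type u) (_ : CommRing A) (_ : IsDomain A) (_ : IsDiscreteValuationRing A) (f : R →+* A),
      IsLocalHom f ∧ Function.Injective f ∧ ¬ IsUnit (f Δ₁) ∧
        ∃ u : Aˣ, (u : A) - 1 ∈ IsLocalRing.maximalIdeal A ∧ f Δ₁ = (u : A) * f Δ₂ := by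
  classical
  obtain ⟨K, hK⟩ : ∃ K : Type u, K = FractionRing R := ⟨_, rfl⟩
  subst hK
  have hιinj : Function.Injective (algebraMap R (FractionRing R)) :=
    IsFractionRing.injective R (FractionRing R)
  have hΔ₂0 : Δ₂ ≠ 0 := by
    rintro rfl
    exact h₁ (hcop (dvd_refl Δ₁) (dvd_zero Δ₁))
  have hΔ₁0 : Δ₁ ≠ 0 := by
    rintro rfl
    exact h₂ (hcop (dvd_zero Δ₂) (dvd_refl Δ₂))
  have hιΔ₂ : algebraMap R (FractionRing R) Δ₂ ≠ 0 := fun h => hΔ₂0 (hιinj (by rw [h, map_zero]))
  have hιΔ₁ : algebraMap R (FractionRing R) Δ₁ ≠ 0 := fun h => hΔ₁0 (hιinj (by rw [h, map_zero]))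
  obtain ⟨t, ht⟩ : ∃ t : FractionRing R,
      t = algebraMap R (FractionRing R) Δ₁ / algebraMap R (FractionRing R) Δ₂ := ⟨_, rfl⟩
  have htΔ : algebraMap R (FractionRing R) Δ₁ = t * algebraMap R (FractionRing R) Δ₂ := by
    rw [ht, div_mul_cancel₀ _ hιΔ₂]
  -- the evaluation map and the residue evaluation map
  obtain ⟨ev, hev⟩ : ∃ ev : R[X] →+* FractionRing R,
      ev = eval₂RingHom (algebraMap R (FractionRing R)) t := ⟨_, rfl⟩
  obtain ⟨ψ, hψ⟩ : ∃ ψ : R[X] →+* IsLocalRing.ResidueField R,
      ψ = eval₂RingHom (IsLocalRing.residue R) 1 := ⟨_, rfl⟩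
  have hevC : ∀ r : R, ev (C r) = algebraMap R (FractionRing R) r := fun r => by
    rw [hev]; simp
  have hevX : ev X = t := by rw [hev]; simp
  have hψC : ∀ r : R, ψ (C r) = IsLocalRing.residue R r := fun r => by rw [hψ]; simp
  have hψX : ψ X = 1 := by rw [hψ]; simp
  -- Gauss: the kernel of `ev` is contained in the kernel of `ψ`
  have hker : RingHom.ker ev ≤ RingHom.ker ψ := by
    intro P hP
    rw [RingHom.mem_ker] at hP ⊢
    have hprim : (C Δ₂ * X - C Δ₁ : R[X]).IsPrimitive := by
      rw [isPrimitive_iff_isUnit_of_C_dvd]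
      intro r hr
      rw [C_dvd_iff_dvd_coeff] at hr
      have h0 := hr 0
      have h1 := hr 1
      simp only [coeff_sub, coeff_C_mul, coeff_X_zero, mul_zero, coeff_C_zero, zero_sub,
        coeff_X_one, mul_one, coeff_C_succ, sub_zero] at h0 h1
      exact hcop ((dvd_neg.mp h0)) h1
    have hdvd : (C Δ₂ * X - C Δ₁ : R[X]).map (algebraMap R (FractionRing R)) ∣
        P.map (algebraMap R (FractionRing R)) := by
      have hroot : (P.map (algebraMap R (FractionRing R))).IsRoot t := by
        rw [IsRoot, eval_map]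
        rw [hev] at hP
        exact hP
      have h1 : (X - C t : (FractionRing R)[X]) ∣ P.map (algebraMap R (FractionRing R)) :=
        dvd_iff_isRoot.mpr hroot
      have h2 : (C Δ₂ * X - C Δ₁ : R[X]).map (algebraMap R (FractionRing R)) =
          C (algebraMap R (FractionRing R) Δ₂) * (X - C t) := by
        simp only [Polynomial.map_sub, Polynomial.map_mul, map_C, map_X]
        rw [mul_sub, ← C_mul, mul_comm _ t, ← htΔ]
      rw [h2]
      exact (IsUnit.mul_left_dvd (isUnit_C.mpr (IsUnit.mk0 _ hιΔ₂))).mpr h1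
    obtain ⟨Q, hQ⟩ := hprim.dvd_of_fraction_map_dvd_fraction_map hdvd
    rw [hQ, map_mul, map_sub, map_mul, hψC, hψC, hψX, mul_one]
    have e1 : IsLocalRing.residue R Δ₁ = 0 := (IsLocalRing.residue_eq_zero_iff _).mpr h₁
    have e2 : IsLocalRing.residue R Δ₂ = 0 := (IsLocalRing.residue_eq_zero_iff _).mpr h₂
    rw [e1, e2, sub_self, zero_mul]
  -- the subring `R[t]`
  haveI : IsNoetherianRing ev.range :=
    isNoetherianRing_of_surjective R[X] _ ev.rangeRestrict ev.rangeRestrict_surjective
  have hJ : Ideal.map ev.rangeRestrict (RingHom.ker ψ) ≠ ⊤ := by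
    intro htop
    have h1 := Ideal.comap_map_of_surjective ev.rangeRestrict ev.rangeRestrict_surjective
      (RingHom.ker ψ)
    rw [htop, Ideal.comap_top] at h1
    have h2 : Ideal.comap ev.rangeRestrict ⊥ ≤ RingHom.ker ψ := by
      intro P hP
      apply hker
      rw [Ideal.mem_comap, Ideal.mem_bot] at hP
      rw [RingHom.mem_ker]
      exact congrArg Subtype.val hP
    rw [sup_eq_left.mpr h2] at h1
    have h3 : (1 : R[X]) ∈ RingHom.ker ψ := h1 ▸ Submodule.mem_top
    rw [RingHom.mem_ker, map_one] at h3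
    exact one_ne_zero h3
  have hCm : ∀ r : R, ¬ IsUnit r → ev.rangeRestrict (C r) ∈
      Ideal.map ev.rangeRestrict (RingHom.ker ψ) := fun r hr =>
    Ideal.mem_map_of_mem _ (by
      rw [RingHom.mem_ker, hψC]; exact (IsLocalRing.residue_eq_zero_iff _).mpr hr)
  have hT : Subfield.closure (((ev.range : Subring (FractionRing R)) : Set (FractionRing R)) ∪
      ((∅ : Finset (FractionRing R)) : Set (FractionRing R))) = ⊤ := by
    rw [eq_top_iff]
    intro z _
    obtain ⟨n, d, -, rfl⟩ := IsFractionRing.div_surjective (A := R) z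
    exact div_mem (Subfield.subset_closure (Or.inl ⟨C n, hevC n⟩))
      (Subfield.subset_closure (Or.inl ⟨C d, hevC d⟩))
  obtain ⟨V, hV, hCV, hJV⟩ := exists_dvr_dominating ev.range _ hJ (ev.rangeRestrict (C Δ₁))
    (hCm Δ₁ h₁)
    (fun h => hιΔ₁ (by rw [← hevC]; exact congrArg Subtype.val h)) ∅ hT
  have hRV : ∀ r : R, algebraMap R (FractionRing R) r ∈ V.toSubring := fun r =>
    hCV ⟨C r, hevC r⟩
  let f : R →+* V := (algebraMap R (FractionRing R)).codRestrict V.toSubring hRV
  have hnonunit : ∀ r : R, ¬ IsUnit r → ¬ IsUnit (f r) := by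
    intro r hr hu
    have h1 : ((ev.rangeRestrict (C r) : ev.range) : FractionRing R) ∈ V.nonunits :=
      hJV _ (hCm r hr)
    have h2 : ((f r : V) : FractionRing R) ∈ V.nonunits := by
      have : ((f r : V) : FractionRing R) = ((ev.rangeRestrict (C r) : ev.range) : FractionRing R) :=
        (hevC r).symm
      rw [this]; exact h1
    rw [ValuationSubring.coe_mem_nonunits_iff, IsLocalRing.mem_maximalIdeal, mem_nonunits_iff] at h2
    exact h2 hu
  have htV : t ∈ V := hCV ⟨X, hevX⟩
  have ht1 : (⟨t, htV⟩ : V) - 1 ∈ IsLocalRing.maximalIdeal V := by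
    have h1 : ((ev.rangeRestrict (X - C 1) : ev.range) : FractionRing R) ∈ V.nonunits :=
      hJV _ (Ideal.mem_map_of_mem _ (by
        rw [RingHom.mem_ker, map_sub, hψX, hψC, map_one, sub_self]))
    rw [← ValuationSubring.coe_mem_nonunits_iff]
    have : (((⟨t, htV⟩ : V) - 1 : V) : FractionRing R) =
        ((ev.rangeRestrict (X - C 1) : ev.range) : FractionRing R) := by
      show t - 1 = ev (X - C 1)
      rw [map_sub, hevX, hevC, map_one]
    rw [this]; exact h1
  have htunit : IsUnit (⟨t, htV⟩ : V) := by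
    by_contra hnu
    have h1 : (⟨t, htV⟩ : V) ∈ IsLocalRing.maximalIdeal V := hnu
    have h2 : (1 : V) ∈ IsLocalRing.maximalIdeal V := by
      have := (IsLocalRing.maximalIdeal V).sub_mem h1 ht1
      simpa using this
    exact (IsLocalRing.maximalIdeal.isMaximal V).ne_top ((Ideal.eq_top_iff_one _).mpr h2)
  refine ⟨V, inferInstance, inferInstance, hV, f, ⟨fun r hr => ?_⟩, ?_, hnonunit Δ₁ h₁,
    htunit.unit, ?_, ?_⟩
  · by_contra hru
    exact hnonunit r hru hr
  · intro a b hab
    exact hιinj (congrArg Subtype.val hab)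
  · exact ht1
  · apply Subtype.ext
    show algebraMap R (FractionRing R) Δ₁ = t * algebraMap R (FractionRing R) Δ₂
    exact htΔ

end Groth.Agent.S13204
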