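import Groth.Statements.S13206
import Mathlib.AlgebraicGeometry.Morphisms.Separated
import Mathlib.AlgebraicGeometry.IdealSheaf.Functorial

set_option autoImplicit false
universe u
open CategoryTheory AlgebraicGeometry
open AlgGrp

namespace Groth.Agent.S13206

/-- Let X → S be a separated morphism of schemes and let a finite group G act on X through
S-automorphisms. Then the functor of G-fixed points is represented by a closed subscheme of X: there
are a scheme Z and a closed immersion i : Z → X with i ∘ g = i for all g ∈ G such that every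
morphism x : T → X with g ∘ x = x for all g ∈ G factors uniquely through i. (The published statement
is for an algebraic space X over S, also treats the locally separated case and notes compatibility
with base change; this row is the separated case for schemes.) -/
theorem result
    {X S : Scheme.{u}} (p : X ⟶ S) [IsSeparated p]
    (G : Type u) [Group G] [Finite G] (ρ : G →* Aut X) (hρ : ∀ g : G, (ρ g).hom ≫ p = p) :
    ∃ (Z : Scheme.{u}) (i : Z ⟶ X), IsClosedImmersion i ∧ (∀ g : G, i ≫ (ρ g).hom = i) ∧
      ∀ (T : Scheme.{u}) (x : T ⟶ X), (∀ g : G, x ≫ (ρ g).hom = x) → ∃! z : T ⟶ Z, z ≫ i = x := by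
  have hsep : IsSeparated (Over.mk p).hom := by
    show IsSeparated p
    infer_instance
  have hcl : ∀ g : G, IsClosedImmersion
      (Limits.equalizer.ι (Over.homMk (ρ g).hom (hρ g) : Over.mk p ⟶ Over.mk p) (𝟙 (Over.mk p))).left :=
    fun g => inferInstance
  have hcond : ∀ g : G,
      (Limits.equalizer.ι (Over.homMk (ρ g).hom (hρ g) : Over.mk p ⟶ Over.mk p) (𝟙 (Over.mk p))).left ≫
        (ρ g).hom =
      (Limits.equalizer.ι (Over.homMk (ρ g).hom (hρ g) : Over.mk p ⟶ Over.mk p) (𝟙 (Over.mk p))).left := by
    intro g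
    have := congrArg (fun k => k.left)
      (Limits.equalizer.condition (Over.homMk (ρ g).hom (hρ g) : Over.mk p ⟶ Over.mk p) (𝟙 (Over.mk p)))
    simpa using this
  let I : X.IdealSheafData := ⨆ g : G,
    (Limits.equalizer.ι (Over.homMk (ρ g).hom (hρ g) : Over.mk p ⟶ Over.mk p) (𝟙 (Over.mk p))).left.ker
  refine ⟨I.subscheme, I.subschemeι, inferInstance, ?_, ?_⟩
  · intro g
    have hle : (Limits.equalizer.ι (Over.homMk (ρ g).hom (hρ g) : Over.mk p ⟶ Over.mk p)
        (𝟙 (Over.mk p))).left.ker ≤ I.subschemeι.ker := by
      rw [Scheme.IdealSheafData.ker_subschemeι]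
      exact le_iSup (fun g : G => (Limits.equalizer.ι (Over.homMk (ρ g).hom (hρ g) :
        Over.mk p ⟶ Over.mk p) (𝟙 (Over.mk p))).left.ker) g
    rw [← IsClosedImmersion.lift_fac _ I.subschemeι hle, Category.assoc, hcond g]
  · intro T x hx
    have hker : I.subschemeι.ker ≤ x.ker := by
      rw [Scheme.IdealSheafData.ker_subschemeι]
      refine iSup_le fun g => ?_
      let xO : Over.mk (x ≫ p) ⟶ Over.mk p := Over.homMk x rfl
      have hxO : xO ≫ (Over.homMk (ρ g).hom (hρ g) : Over.mk p ⟶ Over.mk p) = xO ≫ 𝟙 (Over.mk p) := by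
        ext
        simpa [xO] using hx g
      have hfac : (Limits.equalizer.lift xO hxO).left ≫
          (Limits.equalizer.ι (Over.homMk (ρ g).hom (hρ g) : Over.mk p ⟶ Over.mk p)
            (𝟙 (Over.mk p))).left = x := by
        rw [← Over.comp_left, Limits.equalizer.lift_ι]
        rfl
      rw [← hfac]
      exact Scheme.Hom.le_ker_comp _ _
    refine ⟨IsClosedImmersion.lift I.subschemeι x hker, IsClosedImmersion.lift_fac _ _ _, ?_⟩
    intro z hz
    rw [← cancel_mono I.subschemeι, hz, IsClosedImmersion.lift_fac]

end Groth.Agent.S13206
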