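import Groth.Statements.S13341
import Mathlib
-- import your own Groth.Agent.* helpers here

set_option autoImplicit false
open CategoryTheory
universe u
open FCompl CategoryTheory.Limits AlgebraicGeometry

namespace Groth.Agent.S13341

theorem graph_isPullback {C : Type*} [Category C] {X X' Y Y' P P' : C}
    (ιX : X ⟶ X') (ιY : Y ⟶ Y') [Mono ιY] (ιP : P ⟶ P')
    (fst : P ⟶ X) (snd : P ⟶ Y) (fst' : P' ⟶ X') (snd' : P' ⟶ Y')
    (hext : ∀ {T : C} (a b : T ⟶ P), a ≫ fst = b ≫ fst → a ≫ snd = b ≫ snd → a = b)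
    (hfst : ιP ≫ fst' = fst ≫ ιX) (hsnd : ιP ≫ snd' = snd ≫ ιY)
    (f : X ⟶ Y) (f' : X' ⟶ Y') (hf : f ≫ ιY = ιX ≫ f')
    (γ : X ⟶ P) (γ' : X' ⟶ P') (hγ1 : γ ≫ fst = 𝟙 X) (hγ2 : γ ≫ snd = f)
    (hγ1' : γ' ≫ fst' = 𝟙 X') (hγ2' : γ' ≫ snd' = f')
    (hc : γ ≫ ιP = ιX ≫ γ') :
    IsPullback ιX γ γ' ιP := by
  have fl : ∀ s : PullbackCone γ' ιP, (s.snd ≫ fst) ≫ ιX = s.fst := by
    intro s
    have c := s.condition
    calc (s.snd ≫ fst) ≫ ιX = s.snd ≫ (ιP ≫ fst') := by rw [Category.assoc, hfst]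
      _ = (s.snd ≫ ιP) ≫ fst' := (Category.assoc _ _ _).symm
      _ = (s.fst ≫ γ') ≫ fst' := by rw [c]
      _ = s.fst := by rw [Category.assoc, hγ1', Category.comp_id]
  refine ⟨⟨hc.symm⟩, ⟨PullbackCone.IsLimit.mk _ (fun s => s.snd ≫ fst) fl ?_ ?_⟩⟩
  · intro s
    have c := s.condition
    apply hext
    · rw [Category.assoc, hγ1, Category.comp_id]
    · rw [Category.assoc, hγ2]
      apply (cancel_mono ιY).mp
      calc ((s.snd ≫ fst) ≫ f) ≫ ιY = (s.snd ≫ fst) ≫ ιX ≫ f' := by rw [Category.assoc, hf]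
        _ = s.fst ≫ f' := by rw [← Category.assoc, fl]
        _ = s.fst ≫ γ' ≫ snd' := by rw [hγ2']
        _ = (s.snd ≫ ιP) ≫ snd' := by rw [← Category.assoc, c]
        _ = (s.snd ≫ snd) ≫ ιY := by rw [Category.assoc, hsnd, Category.assoc]
  · intro s m _ hm2
    rw [← hm2, Category.assoc, hγ1, Category.comp_id]


open AlgebraicGeometry in
/-- Formal schemes are presented as locally Noetherian adic systems of thickenings and the fibre product
is taken levelwise (it presents the fibre product of formal schemes since one factor is adic over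
the base). Let 𝔖 be a locally Noetherian formal system, 𝔛 and 𝔜 locally Noetherian formal systems
over 𝔖 such that 𝔛 or 𝔜 is of finite type over 𝔖, and 𝔜 separated over 𝔖 at level 0. Then for every
𝔖-morphism f : 𝔛 → 𝔜 the graph morphism 𝔛 → 𝔛 ×_𝔖 𝔜 is a closed immersion: adic, with level 0 a
closed immersion. -/
theorem result {𝔛 𝔜 𝔖 : FSch.Sys.{u}} (h𝔖 : 𝔖.IsLocNoethFormal) (h𝔛 : 𝔛.IsLocNoethFormal)
    (h𝔜 : 𝔜.IsLocNoethFormal) (p : 𝔛 ⟶ 𝔖) (q : 𝔜 ⟶ 𝔖) (hpq : FSch.IsFiniteTypeHom p ∨ FSch.IsFiniteTypeHom q)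
    (hq : IsSeparated ((q : FSch.Hom 𝔜 𝔖).app 0)) (f : 𝔛 ⟶ 𝔜) (w : f ≫ q = p) :
    FSch.IsClosedImmHom (FSch.graph f p q w) := by
  subst w
  refine ⟨fun n => ?_, ?_⟩
  · haveI : IsClosedImmersion (𝔜.ι n) := (h𝔜.1 n).1
    haveI : Mono (𝔜.ι n) := inferInstance
    exact graph_isPullback (𝔛.ι n) (𝔜.ι n) ((FSch.pullbackSys (f ≫ q) q).ι n)
      (pullback.fst _ _) (pullback.snd _ _) (pullback.fst _ _) (pullback.snd _ _)
      (fun a b h1 h2 => pullback.hom_ext h1 h2)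
      (pullback.lift_fst _ _ _) (pullback.lift_snd _ _ _)
      ((f : FSch.Hom 𝔛 𝔜).app n) ((f : FSch.Hom 𝔛 𝔜).app (n + 1)) ((f : FSch.Hom 𝔛 𝔜).comm n)
      _ _ (pullback.lift_fst _ _ _) (pullback.lift_snd _ _ _)
      (pullback.lift_fst _ _ _) (pullback.lift_snd _ _ _)
      ((FSch.graph f (f ≫ q) q rfl : FSch.Hom _ _).comm n)
  · have sq := pullback_lift_diagonal_isPullback ((f : FSch.Hom 𝔛 𝔜).app 0) ((q : FSch.Hom 𝔜 𝔖).app 0)
    exact MorphismProperty.of_isPullback (P := @IsClosedImmersion) sq inferInstance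

end Groth.Agent.S13341
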