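import Groth.Statements.S13355
import Groth.Agent.Lib.Helper7.GaChar2
-- import your own Groth.Agent.* helpers here

set_option autoImplicit false
universe u
open GaDual

namespace Groth.Agent.S13355

/-- Over a commutative algebra A over the rationals, the formal characters (power series with constant
term 1 satisfying χ(X+Y) = χ(X)χ(Y) in two variables) are exactly the power series exp(aX) for a in
A. -/
theorem result (A : Type u) [CommRing A] [Algebra ℚ A] (χ : PowerSeries A) :
    (PowerSeries.constantCoeff χ = 1 ∧
      PowerSeries.subst (MvPowerSeries.X 0 + MvPowerSeries.X 1 : MvPowerSeries (Fin 2) A) χ =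
        PowerSeries.subst (MvPowerSeries.X 0 : MvPowerSeries (Fin 2) A) χ *
          PowerSeries.subst (MvPowerSeries.X 1 : MvPowerSeries (Fin 2) A) χ) ↔
      ∃ a : A, χ = PowerSeries.rescale a (PowerSeries.exp A) := by
  constructor
  · rintro ⟨h0, hmul⟩
    have h0' : PowerSeries.coeff 0 χ = 1 := by
      rw [PowerSeries.coeff_zero_eq_constantCoeff_apply]; exact h0
    have hstar := (Groth.Agent.Helper7.GaChar.char_iff_ps χ).mp hmul
    refine ⟨PowerSeries.coeff 1 χ, ?_⟩
    ext k
    rw [PowerSeries.coeff_rescale, PowerSeries.coeff_exp]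
    exact Groth.Agent.Helper7.GaChar.rat_seq_formula (fun k => PowerSeries.coeff k χ) h0' hstar k
  · rintro ⟨a, hf⟩
    have hc : ∀ k, PowerSeries.coeff k χ = a ^ k * algebraMap ℚ A (1 / (k.factorial : ℚ)) := by
      intro k
      have := congrArg (PowerSeries.coeff k) hf
      rw [PowerSeries.coeff_rescale, PowerSeries.coeff_exp] at this
      exact this
    refine ⟨?_, (Groth.Agent.Helper7.GaChar.char_iff_ps χ).mpr
      (Groth.Agent.Helper7.GaChar.rat_seq_backward (fun k => PowerSeries.coeff k χ) a hc)⟩
    rw [← PowerSeries.coeff_zero_eq_constantCoeff_apply, hc 0]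
    simp

end Groth.Agent.S13355
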