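import Groth.Statements.S13356
import Groth.Agent.Lib.Helper7.GaChar2
-- import your own Groth.Agent.* helpers here

set_option autoImplicit false
universe u
open GaDual

namespace Groth.Agent.S13356

/-- Over a commutative algebra A over the rationals, the polynomials f with f(0) = 1 and f(X+Y) =
f(X)f(Y) (the characters of the additive group into the multiplicative group over A) are exactly the
polynomials exp(aX) with a in A nilpotent. -/
theorem result (A : Type u) [CommRing A] [Algebra ℚ A] (f : Polynomial A) :
    (f.eval 0 = 1 ∧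
      Polynomial.aeval (MvPolynomial.X 0 + MvPolynomial.X 1 : MvPolynomial (Fin 2) A) f =
        Polynomial.aeval (MvPolynomial.X 0 : MvPolynomial (Fin 2) A) f *
          Polynomial.aeval (MvPolynomial.X 1 : MvPolynomial (Fin 2) A) f) ↔
      ∃ a : A, IsNilpotent a ∧ (f : PowerSeries A) = PowerSeries.rescale a (PowerSeries.exp A) := by
  constructor
  · rintro ⟨h0, hmul⟩
    have h0' : f.coeff 0 = 1 := by rw [Polynomial.coeff_zero_eq_eval_zero]; exact h0
    have hstar := (Groth.Agent.Helper7.GaChar.char_iff f).mp hmul
    refine ⟨f.coeff 1, ⟨f.natDegree + 1, ?_⟩, ?_⟩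
    · have key := Groth.Agent.Helper7.GaChar.rat_seq_forward (fun k => f.coeff k) h0' hstar
        (f.natDegree + 1)
      beta_reduce at key
      rw [← key, Polynomial.coeff_eq_zero_of_natDegree_lt (Nat.lt_succ_self _), zero_mul]
    · ext k
      rw [Polynomial.coeff_coe, PowerSeries.coeff_rescale, PowerSeries.coeff_exp]
      exact Groth.Agent.Helper7.GaChar.rat_seq_formula (fun k => f.coeff k) h0' hstar k
  · rintro ⟨a, _, hf⟩
    have hc : ∀ k, f.coeff k = a ^ k * algebraMap ℚ A (1 / (k.factorial : ℚ)) := by
      intro k
      have := congrArg (PowerSeries.coeff k) hf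
      rw [Polynomial.coeff_coe, PowerSeries.coeff_rescale, PowerSeries.coeff_exp] at this
      exact this
    refine ⟨?_, (Groth.Agent.Helper7.GaChar.char_iff f).mpr
      (Groth.Agent.Helper7.GaChar.rat_seq_backward (fun k => f.coeff k) a hc)⟩
    rw [← Polynomial.coeff_zero_eq_eval_zero, hc 0]
    simp

end Groth.Agent.S13356
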