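import Groth.Statements.S13357
import Groth.Agent.Lib.Helper7.GaChar
-- import your own Groth.Agent.* helpers here

set_option autoImplicit false
universe u
open GaDual

namespace Groth.Agent.S13357

/-- Over a commutative algebra A of prime characteristic p, the polynomials f with f(0) = 1 and f(X+Y) =
f(X)f(Y) (the characters of the additive group into the multiplicative group over A) are exactly the
finite products of truncated exponentials exp_p(a_n X^(p^n)) = Σ_{j<p} a_n^j X^(j p^n)/j! with a_n^p
= 0. -/
theorem result (p : ℕ) [Fact p.Prime] (A : Type u) [CommRing A] [CharP A p]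
    (f : Polynomial A) :
    (f.eval 0 = 1 ∧
      Polynomial.aeval (MvPolynomial.X 0 + MvPolynomial.X 1 : MvPolynomial (Fin 2) A) f =
        Polynomial.aeval (MvPolynomial.X 0 : MvPolynomial (Fin 2) A) f *
          Polynomial.aeval (MvPolynomial.X 1 : MvPolynomial (Fin 2) A) f) ↔
      ∃ (N : ℕ) (a : ℕ → A), (∀ n, a n ^ p = 0) ∧
        f = ∏ n ∈ Finset.range N, ∑ j ∈ Finset.range p,
          Polynomial.C (Ring.inverse (j.factorial : A) * a n ^ j) * Polynomial.X ^ (j * p ^ n) := by
  constructor
  · rintro ⟨h0, hmul⟩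
    have h0' : f.coeff 0 = 1 := by rw [Polynomial.coeff_zero_eq_eval_zero]; exact h0
    have hstar := (Groth.Agent.Helper7.GaChar.char_iff f).mp hmul
    have hdeg : f.natDegree < p ^ f.natDegree := Nat.lt_pow_self (Fact.out : p.Prime).one_lt
    obtain ⟨a, ha, hf⟩ := Groth.Agent.Helper7.GaChar.alphaPn p f.natDegree f hdeg h0'
      (fun i j _ _ => hstar i j)
    exact ⟨f.natDegree, a, ha, hf⟩
  · rintro ⟨N, a, ha, hf⟩
    have := Groth.Agent.Helper7.GaChar.IsChar.prod (Finset.range N)
      (fun n => Groth.Agent.Helper7.GaChar.Ep p (a n) n)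
      (fun n _ => Groth.Agent.Helper7.GaChar.isChar_Ep p (a n) (ha n) n)
    subst hf
    exact this

end Groth.Agent.S13357
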