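import Groth.Statements.S13359
import Mathlib

set_option autoImplicit false
universe u
open UltraProd

namespace Groth.Agent.S13359

section Aux
variable {ι : Type u} {R : ι → Type u} [∀ i, CommRing (R i)]

open Classical in
/-- indicator of the support -/
noncomputable def supp (x : ∀ i, R i) : ∀ i, R i := fun i => if x i = 0 then 0 else 1

lemma one_sub_supp_mul (x : ∀ i, R i) : (1 - supp x) * x = 0 := by
  funext i
  by_cases h : x i = 0 <;> simp [supp, h]

lemma supp_notMem (P : Ideal (∀ i, R i)) [P.IsPrime] (x : ∀ i, R i)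
    (h : ∀ w, w ∉ P → w * x ≠ 0) : supp x ∉ P := by
  intro hs
  have h1 : 1 - supp x ∉ P := by
    intro h'
    apply (Ideal.ne_top_iff_one P).mp (Ideal.IsPrime.ne_top inferInstance)
    have := P.add_mem h' hs
    simpa using this
  exact h _ h1 (one_sub_supp_mul x)

lemma supp_notMem_of_notMem (P : Ideal (∀ i, R i)) [P.IsPrime] (x : ∀ i, R i)
    (hx : x ∉ P) : supp x ∉ P := by
  apply supp_notMem
  intro w hw h0
  have : w * x ∈ P := by rw [h0]; exact P.zero_mem
  rcases Ideal.IsPrime.mem_or_mem inferInstance this with h | h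
  · exact hw h
  · exact hx h

end Aux

/-- If (R_i) is a nonempty family of integrally closed domains, then the localization of the product
ring ∏ R_i at any prime ideal is an integrally closed domain. -/
theorem result {ι : Type u} [Nonempty ι] (R : ι → Type u)
    [∀ i, CommRing (R i)] [∀ i, IsDomain (R i)] [∀ i, IsIntegrallyClosed (R i)]
    (P : Ideal (∀ i, R i)) [P.IsPrime] :
    IsDomain (Localization.AtPrime P) ∧ IsIntegrallyClosed (Localization.AtPrime P) := by
  classical
  have hdom : IsDomain (Localization.AtPrime P) := by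
    haveI : NoZeroDivisors (Localization.AtPrime P) := by
      constructor
      intro a b hab
      obtain ⟨x, s, rfl⟩ := IsLocalization.exists_mk'_eq P.primeCompl a
      obtain ⟨y, t, rfl⟩ := IsLocalization.exists_mk'_eq P.primeCompl b
      rw [← IsLocalization.mk'_mul, IsLocalization.mk'_eq_zero_iff] at hab
      obtain ⟨w, hw⟩ := hab
      by_cases he : (1 - supp y) ∈ P
      · left
        have hs : supp y ∉ P := by
          intro hs
          apply (Ideal.ne_top_iff_one P).mp (Ideal.IsPrime.ne_top inferInstance)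
          have := P.add_mem he hs
          simpa using this
        rw [IsLocalization.mk'_eq_zero_iff]
        refine ⟨⟨supp y * w, P.primeCompl.mul_mem hs w.2⟩, ?_⟩
        funext i
        have h1 := congrFun hw i
        simp only [Pi.mul_apply, Pi.zero_apply] at h1 ⊢
        by_cases hy : y i = 0
        · simp [supp, hy]
        · have h2 : (w : ∀ i, R i) i * x i = 0 := by
            have : ((w : ∀ i, R i) i * x i) * y i = 0 := by rw [mul_assoc]; exact h1
            exact (mul_eq_zero.mp this).resolve_right hy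
          simp [supp, hy, h2]
      · right
        rw [IsLocalization.mk'_eq_zero_iff]
        exact ⟨⟨1 - supp y, he⟩, one_sub_supp_mul y⟩
    exact NoZeroDivisors.to_isDomain _
  refine ⟨hdom, ?_⟩
  haveI := hdom
  rw [isIntegrallyClosed_iff (FractionRing (Localization.AtPrime P))]
  intro z hz
  obtain ⟨σ, q, hqm, hq⟩ :=
    IsIntegral.exists_multiple_integral_of_isLocalization P.primeCompl z hz
  obtain ⟨a, b, hb, rfl⟩ := IsFractionRing.div_surjective (A := Localization.AtPrime P) z
  obtain ⟨x, s, hxs⟩ := IsLocalization.exists_mk'_eq P.primeCompl a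
  obtain ⟨y, t, hyt⟩ := IsLocalization.exists_mk'_eq P.primeCompl b
  set φ := algebraMap (∀ i, R i) (FractionRing (Localization.AtPrime P)) with hφ
  set ψ := algebraMap (Localization.AtPrime P) (FractionRing (Localization.AtPrime P)) with hψ
  set ι' := algebraMap (∀ i, R i) (Localization.AtPrime P) with hι'
  have hφψ : ∀ v, φ v = ψ (ι' v) := fun v =>
    IsScalarTower.algebraMap_apply _ (Localization.AtPrime P) _ v
  have hψinj : Function.Injective ψ := IsFractionRing.injective _ _
  have hunit : ∀ v : (∀ i, R i), v ∉ P → φ v ≠ 0 := by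
    intro v hv
    rw [hφψ]
    have hu : IsUnit (ι' v) := IsLocalization.map_units (Localization.AtPrime P)
      (⟨v, hv⟩ : P.primeCompl)
    intro h0
    have : ι' v = 0 := hψinj (by rw [h0, map_zero])
    rw [this] at hu
    exact not_isUnit_zero hu
  have hb0 : ψ b ≠ 0 := by
    intro h0
    have : b = 0 := hψinj (by rw [h0, map_zero])
    exact nonZeroDivisors.ne_zero hb this
  have hax : ψ a * φ s = φ x := by
    rw [hφψ, hφψ, ← map_mul, ← hxs, IsLocalization.mk'_spec]
  have hby : ψ b * φ t = φ y := by
    rw [hφψ, hφψ, ← map_mul, ← hyt, IsLocalization.mk'_spec]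
  set X : ∀ i, R i := (σ : ∀ i, R i) * x * t with hX
  set Y : ∀ i, R i := y * s with hY
  have hs0 : φ s ≠ 0 := hunit _ s.2
  have ht0 : φ t ≠ 0 := hunit _ t.2
  have hσ0 : φ σ ≠ 0 := hunit _ σ.2
  have hY0 : φ Y ≠ 0 := by
    rw [hY, map_mul, ← hby]
    exact mul_ne_zero (mul_ne_zero hb0 ht0) hs0
  have hrel : φ Y * (σ • (ψ a / ψ b)) = φ X := by
    rw [Submonoid.smul_def, Algebra.smul_def, ← hφ, hY, hX, map_mul, map_mul, map_mul,
      ← hby, ← hax]
    field_simp
  -- the scaled equation
  have h1 : φ (Polynomial.eval X (Polynomial.scaleRoots q Y)) = 0 := by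
    have := Polynomial.scaleRoots_eval₂_eq_zero φ (s := Y) hq
    rw [hrel, Polynomial.eval₂_at_apply] at this
    exact this
  have h2 : ι' (Polynomial.eval X (Polynomial.scaleRoots q Y)) = 0 := by
    apply hψinj
    rw [← hφψ, h1, map_zero]
  obtain ⟨w, hw⟩ := (IsLocalization.map_eq_zero_iff P.primeCompl (Localization.AtPrime P) _).mp h2
  -- coordinatewise
  have hcoord : ∀ i, ∃ d : R i, (w : ∀ i, R i) i ≠ 0 → Y i ≠ 0 → d * Y i = X i := by
    intro i
    by_cases hwi : (w : ∀ i, R i) i = 0
    · exact ⟨0, fun h => absurd hwi h⟩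
    by_cases hYi : Y i = 0
    · exact ⟨0, fun _ h => absurd hYi h⟩
    set qi := q.map (Pi.evalRingHom R i) with hqi
    have hqim : qi.Monic := hqm.map _
    have h3 : Polynomial.eval (X i) (Polynomial.scaleRoots qi (Y i)) = 0 := by
      have h4 := congrFun hw i
      simp only [Pi.mul_apply, Pi.zero_apply] at h4
      have h5 : (Polynomial.eval X (Polynomial.scaleRoots q Y)) i =
          Polynomial.eval (X i) (Polynomial.scaleRoots qi (Y i)) := by
        have := Polynomial.eval_map_apply (p := Polynomial.scaleRoots q Y) (Pi.evalRingHom R i) X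
        rw [Polynomial.map_scaleRoots] at this
        · exact this.symm
        · rw [hqm.leadingCoeff, map_one]; exact one_ne_zero
      rw [h5] at h4
      exact (mul_eq_zero.mp h4).resolve_left hwi
    let f := algebraMap (R i) (FractionRing (R i))
    have hfY : f (Y i) ≠ 0 := by
      intro h0
      exact hYi ((IsFractionRing.injective (R i) (FractionRing (R i))) (by rw [h0, map_zero]))
    have h6 : Polynomial.eval₂ f (f (X i) / f (Y i)) qi = 0 := by
      have := Polynomial.scaleRoots_eval₂_mul (p := qi) f (f (X i) / f (Y i)) (Y i)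
      rw [mul_div_cancel₀ _ hfY, Polynomial.eval₂_at_apply, h3, map_zero] at this
      have h7 := mul_eq_zero.mp this.symm
      exact h7.resolve_left (pow_ne_zero _ hfY)
    have hint : IsIntegral (R i) (f (X i) / f (Y i)) := ⟨qi, hqim, h6⟩
    obtain ⟨d, hd⟩ := IsIntegrallyClosed.algebraMap_eq_of_integral hint
    refine ⟨d, fun _ _ => ?_⟩
    apply IsFractionRing.injective (R i) (FractionRing (R i))
    rw [map_mul, hd, div_mul_cancel₀ _ hfY]
  choose d hd using hcoord
  set e : ∀ i, R i := supp (w : ∀ i, R i) * supp Y with he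
  have heP : e ∉ P := by
    intro h
    rcases Ideal.IsPrime.mem_or_mem inferInstance h with h | h
    · exact supp_notMem_of_notMem P _ w.2 h
    · refine supp_notMem P Y ?_ h
      intro v hv h0
      have : φ (v * Y) = 0 := by rw [h0, map_zero]
      rw [map_mul] at this
      exact (mul_ne_zero (hunit v hv) hY0) this
  have hedY : e * (d * Y) = e * X := by
    funext i
    simp only [Pi.mul_apply, he, supp]
    by_cases hwi : (w : ∀ i, R i) i = 0
    · simp [hwi]
    by_cases hYi : Y i = 0
    · simp [hYi]
    · rw [hd i hwi hYi]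
  have hfinal : φ d * φ Y = φ X := by
    have := congrArg φ hedY
    rw [map_mul φ e (d * Y), map_mul φ d Y, map_mul φ e X] at this
    exact mul_left_cancel₀ (hunit e heP) this
  refine ⟨IsLocalization.mk' (Localization.AtPrime P) d σ, ?_⟩
  have h8 : ψ (IsLocalization.mk' (Localization.AtPrime P) d σ) * φ σ = φ d := by
    rw [hφψ, hφψ, ← map_mul, IsLocalization.mk'_spec]
  have h9 : φ σ * (ψ a / ψ b) = φ d := by
    have : φ Y * (φ σ * (ψ a / ψ b)) = φ Y * φ d := by
      rw [mul_comm (φ Y) (φ d), hfinal, ← hrel, Submonoid.smul_def, Algebra.smul_def]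
    exact mul_left_cancel₀ hY0 this
  rw [← h8] at h9
  have : φ σ * (ψ a / ψ b) = φ σ * ψ (IsLocalization.mk' (Localization.AtPrime P) d σ) := by
    rw [h9, mul_comm]
  exact (mul_left_cancel₀ hσ0 this).symm

end Groth.Agent.S13359
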