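import Groth.Statements.S13360
import Groth.Agent.Lib.Helper7.PiLoc
-- import your own Groth.Agent.* helpers here

set_option autoImplicit false
universe u
open UltraProd

namespace Groth.Agent.S13360

/-- If (R_i) is a nonempty family of valuation rings, then the localization of the product ring ∏ R_i at
any prime ideal is a valuation ring: a domain in which, of any two elements, one divides the other. -/
theorem result {ι : Type u} [Nonempty ι] (R : ι → Type u)
    [∀ i, CommRing (R i)] [∀ i, IsDomain (R i)] [∀ i, ValuationRing (R i)]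
    (P : Ideal (∀ i, R i)) [P.IsPrime] :
    IsDomain (Localization.AtPrime P) ∧ PreValuationRing (Localization.AtPrime P) := by
  classical
  refine ⟨Groth.Agent.Helper7.isDomain_localization_pi R P, ⟨fun x y => ?_⟩⟩
  obtain ⟨⟨a, s⟩, rfl⟩ := IsLocalization.mk'_surjective P.primeCompl x
  obtain ⟨⟨b, t⟩, rfl⟩ := IsLocalization.mk'_surjective P.primeCompl y
  -- componentwise divisibility
  have hcomp : ∀ i, ∃ c : R i, a i * c = b i ∨ b i * c = a i := fun i =>
    PreValuationRing.cond (a i) (b i)
  choose c hc using hcomp
  rcases Groth.Agent.Helper7.ind_not_mem_or R (P := P) (fun i => a i * c i = b i) with he | he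
  · -- a * c = b on the support of e
    refine ⟨IsLocalization.mk' _ (c * (s : ∀ i, R i)) t, Or.inl ?_⟩
    rw [← IsLocalization.mk'_mul, IsLocalization.mk'_eq_iff_eq]
    rw [IsLocalization.eq_iff_exists P.primeCompl]
    refine ⟨⟨_, he⟩, ?_⟩
    funext i
    by_cases h : a i * c i = b i
    · simp only [Groth.Agent.Helper7.ind, h, if_true, Pi.mul_apply, Submonoid.coe_mul, one_mul]
      rw [← h]
      ring
    · simp [Groth.Agent.Helper7.ind, h]
  · refine ⟨IsLocalization.mk' _ (c * (t : ∀ i, R i)) s, Or.inr ?_⟩
    rw [← IsLocalization.mk'_mul, IsLocalization.mk'_eq_iff_eq]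
    rw [IsLocalization.eq_iff_exists P.primeCompl]
    refine ⟨⟨_, he⟩, ?_⟩
    funext i
    by_cases h : a i * c i = b i
    · simp [Groth.Agent.Helper7.ind, h]
    · have h' : b i * c i = a i := (hc i).resolve_left h
      simp only [Groth.Agent.Helper7.ind, h, not_false_eq_true, if_true, Pi.mul_apply,
        Submonoid.coe_mul, one_mul]
      rw [← h']
      ring

end Groth.Agent.S13360
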