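import Groth.Statements.S13361
import Mathlib
-- import your own Groth.Agent.* helpers here

set_option autoImplicit false
universe u
open ProCompl

namespace Groth.Agent.S13361

/-- A finite abelian group with a nonzero element contained in every nonzero subgroup is isomorphic to a
cyclic group of prime-power order Z/p^n. -/
theorem result {A : Type u} [AddCommGroup A] [Finite A]
    (a : A) (ha : a ≠ 0) (h : ∀ B : AddSubgroup A, B ≠ ⊥ → a ∈ B) :
    ∃ p n : ℕ, p.Prime ∧ Nonempty (A ≃+ ZMod (p ^ n)) := by
  classical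
  obtain ⟨ι, _, p, hp, e, ⟨f⟩⟩ := AddCommGroup.equiv_directSum_zmod_of_finite A
  have hfa : f a ≠ 0 := fun h0 => ha (by simpa using h0)
  have key : ∀ i, e i ≠ 0 → ∃ c, f a = DirectSum.of (fun i => ZMod (p i ^ e i)) i c := by
    intro i hi
    let g : ZMod (p i ^ e i) →+ A :=
      f.symm.toAddMonoidHom.comp (DirectSum.of (fun i => ZMod (p i ^ e i)) i)
    have hginj : Function.Injective g :=
      f.symm.injective.comp (DirectSum.of_injective i)
    have : Fact (1 < p i ^ e i) := ⟨Nat.one_lt_pow hi (hp i).one_lt⟩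
    have hB : g.range ≠ ⊥ := by
      intro h0
      have hone : g 1 ∈ g.range := ⟨1, rfl⟩
      rw [h0, AddSubgroup.mem_bot] at hone
      have : (1 : ZMod (p i ^ e i)) = 0 := hginj (by rw [hone, map_zero])
      exact one_ne_zero this
    obtain ⟨c, hc⟩ := h _ hB
    refine ⟨c, ?_⟩
    rw [← hc]
    simp [g]
  -- at most one nontrivial summand
  have huniq : ∀ i j, e i ≠ 0 → e j ≠ 0 → i = j := by
    intro i j hi hj
    by_contra hij
    obtain ⟨c, hc⟩ := key i hi
    obtain ⟨c', hc'⟩ := key j hj
    have h1 : (f a) i = c := by rw [hc, DirectSum.of_eq_same]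
    have h2 : (f a) i = 0 := by rw [hc', DirectSum.of_eq_of_ne _ _ _ hij]
    apply hfa
    rw [hc, ← h1, h2, map_zero]
  -- there is a nontrivial summand
  have hex : ∃ i, e i ≠ 0 := by
    by_contra hne
    push Not at hne
    apply hfa
    apply DFinsupp.ext
    intro i
    have : Subsingleton (ZMod (p i ^ e i)) := by
      rw [hne i, pow_zero]; infer_instance
    exact Subsingleton.elim _ _
  obtain ⟨i₀, hi₀⟩ := hex
  refine ⟨p i₀, e i₀, hp i₀, ⟨f.trans (AddEquiv.ofBijective
    (DFinsupp.evalAddMonoidHom (β := fun i => ZMod (p i ^ e i)) i₀) ⟨?_, ?_⟩)⟩⟩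
  · intro x y hxy
    apply DFinsupp.ext
    intro i
    by_cases hi : i = i₀
    · subst hi; exact hxy
    · have hei : e i = 0 := by
        by_contra hei
        exact hi (huniq i i₀ hei hi₀)
      have : Subsingleton (ZMod (p i ^ e i)) := by
        rw [hei, pow_zero]; infer_instance
      exact Subsingleton.elim _ _
  · intro c
    refine ⟨DirectSum.of (fun i => ZMod (p i ^ e i)) i₀ c, ?_⟩
    change (DirectSum.of (fun i => ZMod (p i ^ e i)) i₀ c) i₀ = c
    exact DirectSum.of_eq_same (β := fun i => ZMod (p i ^ e i)) i₀ c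

end Groth.Agent.S13361
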