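import Groth.Statements.S13365
import Mathlib
-- import your own Groth.Agent.* helpers here

set_option autoImplicit false
universe u
open ProCompl

namespace Groth.Agent.S13365

/-- The quotient of a profinite (compact, Hausdorff, totally disconnected) abelian topological group by
a compact subgroup is profinite. -/
theorem result {A : Type u} [AddCommGroup A] [TopologicalSpace A]
    [IsTopologicalAddGroup A] [CompactSpace A] [T2Space A] [TotallyDisconnectedSpace A]
    (B : AddSubgroup A) (hB : IsCompact (B : Set A)) :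
    CompactSpace (A ⧸ B) ∧ T2Space (A ⧸ B) ∧ TotallyDisconnectedSpace (A ⧸ B) := by
  have hBc : IsClosed (B : Set A) := hB.isClosed
  refine ⟨inferInstance, inferInstance, ?_⟩
  rw [totallyDisconnectedSpace_iff_connectedComponent_zero]
  apply subset_antisymm
  · intro x hx
    by_contra hx0
    have hx0' : x ≠ 0 := hx0
    set W : Set (A ⧸ B) := {x}ᶜ with hW
    have hWo : IsOpen W := isOpen_compl_singleton
    have h0W : (0 : A ⧸ B) ∈ W := fun h => hx0' h.symm
    have hpre : IsOpen ((QuotientAddGroup.mk : A → A ⧸ B) ⁻¹' W) :=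
      hWo.preimage QuotientAddGroup.continuous_mk
    have h0pre : (0 : A) ∈ (QuotientAddGroup.mk : A → A ⧸ B) ⁻¹' W := by
      change ((0 : A) : A ⧸ B) ∈ W
      exact h0W
    obtain ⟨N, hN⟩ := ProfiniteGrp.exist_openNormalAddSubgroup_sub_open_nhds_of_zero hpre h0pre
    set M : AddSubgroup (A ⧸ B) := N.toAddSubgroup.map (QuotientAddGroup.mk' B) with hM
    have hMo : IsOpen (M : Set (A ⧸ B)) := by
      have : (M : Set (A ⧸ B)) = (QuotientAddGroup.mk : A → A ⧸ B) '' (N : Set A) := by
        ext y; simp [hM]; rfl
      rw [this]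
      exact QuotientAddGroup.isOpenMap_coe _ N.isOpen'
    have hMc : IsClopen (M : Set (A ⧸ B)) := ⟨M.isClosed_of_isOpen hMo, hMo⟩
    have hxM : x ∈ (M : Set (A ⧸ B)) := hMc.connectedComponent_subset M.zero_mem hx
    obtain ⟨y, hy, rfl⟩ := hxM
    exact hN hy rfl
  · intro x hx
    rw [Set.mem_singleton_iff] at hx
    rw [hx]
    exact mem_connectedComponent

end Groth.Agent.S13365
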