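import Mathlib
import Groth.Agent.H11.FrobSysCount
import Groth.Statements.S13366

set_option autoImplicit false
universe u v
open FrobMod

namespace Groth.Agent.S13366

/-- Over a strictly Henselian local ring R of prime characteristic p (Henselian, separably closed
residue field), let M be a free module of finite rank n and T an additive Frobenius-semilinear
self-map of M (T(rm) = r^p T(m)) whose values generate M as an R-module; for a basis (e_i) this says
that the matrix of coefficients of the elements T(e_i) is invertible. Then the map T − 1 is
surjective and its kernel has cardinality p^n. (The published statement calls T a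
Frobenius-semilinear isomorphism; this row asks only that the values of T generate M over R, which
is the property of T the published proof uses. Requiring T itself to be bijective would, for M ≠ 0,
force the Frobenius of R to be surjective.) -/
theorem result (p : ℕ) [Fact p.Prime] {R : Type u} [CommRing R]
    [HenselianLocalRing R] [IsSepClosed (IsLocalRing.ResidueField R)] [CharP R p]
    {M : Type v} [AddCommGroup M] [Module R M] [Module.Free R M] [Module.Finite R M]
    (T : M →+ M) (hT : ∀ (r : R) (m : M), T (r • m) = r ^ p • T m)
    (hspan : Submodule.span R (Set.range T) = ⊤) :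
    Function.Surjective (fun m => T m - m) ∧ Nat.card {m : M // T m = m} = p ^ Module.finrank R M := by

  classical
  have hp2 : 2 ≤ p := (Fact.out : p.Prime).two_le
  have hpR : (p : R) = 0 := CharP.cast_eq_zero R p
  let e : Module.Basis (Fin (Module.finrank R M)) R M := Module.finBasis R M
  have hTsum : ∀ x : Fin (Module.finrank R M) → R,
      T (∑ i, x i • e i) = ∑ i, x i ^ p • T (e i) := by
    intro x
    rw [map_sum]
    simp [hT]
  let A : Matrix (Fin (Module.finrank R M)) (Fin (Module.finrank R M)) R :=
    fun j i => e.repr (T (e i)) j
  have hkey : ∀ m b : M, T m - m = b ↔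
      ∀ j, ∑ i, A j i * (e.repr m i) ^ p - e.repr m j = e.repr b j := by
    intro m b
    have hm : ∑ i, e.repr m i • e i = m := e.sum_repr m
    have hTm : ∀ j, e.repr (T m) j = ∑ i, A j i * (e.repr m i) ^ p := by
      intro j
      conv_lhs => rw [← hm, hTsum]
      rw [map_sum, Finsupp.coe_finset_sum, Finset.sum_apply]
      apply Finset.sum_congr rfl
      intro i _
      rw [map_smul, Finsupp.smul_apply, smul_eq_mul, mul_comm]
    constructor
    · intro h j
      rw [← h, map_sub, Finsupp.sub_apply, hTm]
    · intro h
      apply e.repr.injective
      ext j
      rw [map_sub, Finsupp.sub_apply, hTm]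
      exact h j
  have hspan' : ⊤ ≤ Submodule.span R (Set.range fun i => T (e i)) := by
    rw [← hspan]
    apply Submodule.span_le.mpr
    rintro _ ⟨m, rfl⟩
    rw [← e.sum_repr m, hTsum]
    exact Submodule.sum_mem _ (fun i _ => Submodule.smul_mem _ _ (Submodule.subset_span ⟨i, rfl⟩))
  have hli := linearIndependent_of_top_le_span_of_card_eq_finrank hspan' (by simp)
  let bv : Module.Basis (Fin (Module.finrank R M)) R M := Module.Basis.mk hli hspan'
  have hbv : ∀ i, bv i = T (e i) := fun i => by simp [bv]
  have hA : A = e.toMatrix bv := by
    ext j i
    simp [A, Module.Basis.toMatrix_apply, hbv]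
  have hcA : bv.toMatrix e * A = 1 := by
    rw [hA]
    exact Module.Basis.toMatrix_mul_toMatrix_flip bv e
  have hcount := fun b : Fin (Module.finrank R M) → R =>
    Groth.Agent.H11.FrobSysCount.card_sol R p (Module.finrank R M) hp2 hpR A (bv.toMatrix e) hcA b
  have hrepr : ∀ x : Fin (Module.finrank R M) → R, ∀ i, e.repr (∑ k, x k • e k) i = x i := by
    intro x i
    rw [e.repr_sum_self]
  constructor
  · intro b
    have h1 := hcount (fun j => e.repr b j)
    have h2 : 0 < Nat.card {x : Fin (Module.finrank R M) → R //
        ∀ j, ∑ i, A j i * x i ^ p - x j = e.repr b j} := by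
      rw [h1]
      exact pow_pos (by omega) _
    obtain ⟨⟨x, hx⟩⟩ := (Nat.card_pos_iff.mp h2).1
    refine ⟨∑ i, x i • e i, ?_⟩
    show T _ - _ = b
    rw [hkey]
    intro j
    simp only [hrepr]
    exact hx j
  · rw [← hcount 0]
    apply Nat.card_congr
    exact
      { toFun := fun m => ⟨fun i => e.repr m.1 i, by
          have := (hkey m.1 0).mp (by rw [m.2, sub_self])
          simpa using this⟩
        invFun := fun x => ⟨∑ i, x.1 i • e i, by
          have h3 : T (∑ i, x.1 i • e i) - ∑ i, x.1 i • e i = 0 := by
            rw [hkey]
            intro j
            simp only [hrepr]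
            simpa using x.2 j
          exact sub_eq_zero.mp h3⟩
        left_inv := fun m => Subtype.ext (e.sum_repr m.1)
        right_inv := fun x => Subtype.ext (funext fun i => hrepr x.1 i) }

end Groth.Agent.S13366
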