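import Groth.Statements.S13368
import Mathlib

set_option linter.style.haveILetI false

set_option autoImplicit false
universe u
open GaDual

namespace Groth.Agent.S13368

section Aux

open Polynomial

variable {R : Type u} [CommRing R] [IsDomain R] [IsDiscreteValuationRing R]

theorem lemA (p : ℕ) (π : R) (hπ : Irreducible π) (c : Fin p → R)
    (h : π ^ p ∣ ∑ i : Fin p, π ^ (i : ℕ) * c i ^ p) : ∀ i, π ∣ c i := by
  have hπp : Prime π := hπ.prime
  have key : ∀ n : ℕ, n ≤ p → ∀ i : Fin p, (i : ℕ) < n → π ∣ c i := by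
    intro n
    induction n with
    | zero => intro _ i hi; exact absurd hi (Nat.not_lt_zero _)
    | succ n ih =>
      intro hn i hi
      rcases Nat.lt_succ_iff_lt_or_eq.mp hi with hlt | heq
      · exact ih (Nat.le_of_succ_le hn) i hlt
      · have ih' := ih (Nat.le_of_succ_le hn)
        have htot : π ^ (n + 1) ∣ ∑ j : Fin p, π ^ (j : ℕ) * c j ^ p :=
          (pow_dvd_pow π hn).trans h
        rw [← Finset.add_sum_erase Finset.univ _ (Finset.mem_univ i)] at htot
        have hrest : π ^ (n + 1) ∣ ∑ j ∈ Finset.univ.erase i, π ^ (j : ℕ) * c j ^ p := by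
          apply Finset.dvd_sum
          intro j hj
          have hji : j ≠ i := (Finset.mem_erase.mp hj).1
          have hjn : (j : ℕ) ≠ n := fun e => hji (Fin.ext (e.trans heq.symm))
          rcases lt_or_gt_of_ne hjn with hlt | hgt
          · obtain ⟨d, hd⟩ := ih' j hlt
            rw [hd, mul_pow]
            exact Dvd.dvd.mul_left (Dvd.dvd.mul_right (pow_dvd_pow π hn) _) _
          · exact Dvd.dvd.mul_right (pow_dvd_pow π (Nat.succ_le_of_lt hgt)) _
        have hterm : π ^ (n + 1) ∣ π ^ (i : ℕ) * c i ^ p := (dvd_add_left hrest).mp htot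
        rw [heq, pow_succ] at hterm
        have : π ∣ c i ^ p := (mul_dvd_mul_iff_left (pow_ne_zero n hπ.ne_zero)).mp hterm
        exact hπp.dvd_of_dvd_pow this
  intro i
  exact key p le_rfl i i.2

theorem lemC (p : ℕ) (π : R) (hπ : Irreducible π) :
    ∀ (c : Fin p → R), ∑ i : Fin p, π ^ (i : ℕ) * c i ^ p = 0 → ∀ i, c i = 0 := by
  have key : ∀ n : ℕ, ∀ (c : Fin p → R), ∑ i : Fin p, π ^ (i : ℕ) * c i ^ p = 0 →
      ∀ i, π ^ n ∣ c i := by
    intro n
    induction n with
    | zero => intro c _ i; simp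
    | succ n ih =>
      intro c hc i
      have hA := lemA p π hπ c (by rw [hc]; exact dvd_zero _)
      choose c' hc' using hA
      have : ∑ i : Fin p, π ^ (i : ℕ) * c' i ^ p = 0 := by
        have h2 : π ^ p * ∑ i : Fin p, π ^ (i : ℕ) * c' i ^ p = 0 := by
          rw [← hc, Finset.mul_sum]
          refine Finset.sum_congr rfl fun j _ => ?_
          rw [hc' j, mul_pow]; ring
        exact (mul_eq_zero.mp h2).resolve_left (pow_ne_zero p hπ.ne_zero)
      obtain ⟨e, he⟩ := ih c' this i
      exact ⟨e, by rw [hc' i, he, pow_succ']; ring⟩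
  intro c hc i
  by_contra hci
  obtain ⟨n, hn⟩ := FiniteMultiplicity.of_not_isUnit hπ.not_isUnit hci
  exact hn (key (n + 1) c hc i)

theorem lemB (p : ℕ) (π : R) (hπ : Irreducible π) (r : R) :
    ∀ (m : ℕ) (c : Fin p → R), π ^ (p * m) * r = ∑ i : Fin p, π ^ (i : ℕ) * c i ^ p →
      ∃ d : Fin p → R, r = ∑ i : Fin p, π ^ (i : ℕ) * d i ^ p := by
  intro m
  induction m with
  | zero => intro c hc; exact ⟨c, by simpa using hc⟩
  | succ m ih =>
    intro c hc
    have hdvd : π ^ p ∣ ∑ i : Fin p, π ^ (i : ℕ) * c i ^ p := by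
      refine ⟨π ^ (p * m) * r, ?_⟩
      rw [← hc]; ring
    choose c' hc' using lemA p π hπ c hdvd
    apply ih c'
    have h2 : π ^ p * (π ^ (p * m) * r) = π ^ p * ∑ i : Fin p, π ^ (i : ℕ) * c' i ^ p := by
      rw [Finset.mul_sum]
      calc π ^ p * (π ^ (p * m) * r) = π ^ (p * (m + 1)) * r := by ring
        _ = ∑ i : Fin p, π ^ (i : ℕ) * c i ^ p := hc
        _ = _ := Finset.sum_congr rfl fun j _ => by rw [hc' j, mul_pow]; ring
    exact mul_left_cancel₀ (pow_ne_zero p hπ.ne_zero) h2

theorem li (p : ℕ) (hp : p.Prime) (kp : Subfield (FractionRing R))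
    (hkp : ∀ x : FractionRing R, x ∈ kp → ∃ y : FractionRing R, y ^ p = x)
    (π : R) (hπ : Irreducible π) :
    LinearIndependent kp (fun i : Fin p => (algebraMap R (FractionRing R) π) ^ (i : ℕ)) := by
  rw [Fintype.linearIndependent_iff]
  intro g hg i
  have hy : ∀ j, ∃ y : FractionRing R, y ^ p = (g j : FractionRing R) := fun j => hkp _ (g j).2
  choose y hy using hy
  obtain ⟨b, hb⟩ := IsLocalization.exist_integer_multiples_of_finite (nonZeroDivisors R) y
  choose c hc using hb
  have hb0 : (b : R) ≠ 0 := nonZeroDivisors.ne_zero b.2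
  have hsum : ∑ j : Fin p, π ^ (j : ℕ) * c j ^ p = 0 := by
    apply IsFractionRing.injective R (FractionRing R)
    rw [map_zero, map_sum]
    have : ∑ j : Fin p, algebraMap R (FractionRing R) (π ^ (j : ℕ) * c j ^ p) =
        (algebraMap R (FractionRing R) b) ^ p *
          ∑ j : Fin p, g j • (algebraMap R (FractionRing R) π) ^ (j : ℕ) := by
      rw [Finset.mul_sum]
      refine Finset.sum_congr rfl fun j _ => ?_
      have hcj : algebraMap R (FractionRing R) (c j) = algebraMap R (FractionRing R) b * y j := by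
        rw [hc j, Algebra.smul_def]
      rw [map_mul, map_pow, map_pow, hcj, mul_pow, hy j, Subfield.smul_def, smul_eq_mul]
      ring
    rw [this, hg, mul_zero]
  have hcz := lemC p π hπ c hsum
  have hyi : y i = 0 := by
    have h1 := hc i
    rw [hcz i, map_zero, Algebra.smul_def] at h1
    rcases mul_eq_zero.mp h1.symm with h | h
    · exact absurd ((map_eq_zero_iff _ (IsFractionRing.injective R (FractionRing R))).mp h) hb0
    · exact h
  have hgi : (g i : FractionRing R) = 0 := by rw [← hy i, hyi, zero_pow hp.ne_zero]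
  exact Subtype.ext hgi

theorem exists_rep (p : ℕ) (hp : p.Prime) (kp : Subfield (FractionRing R))
    (hkp : ∀ x : FractionRing R, x ∈ kp → ∃ y : FractionRing R, y ^ p = x)
    (hdeg : Module.finrank kp (FractionRing R) = p)
    (π : R) (hπ : Irreducible π) (r : R) :
    ∃ d : Fin p → R, r = ∑ i : Fin p, π ^ (i : ℕ) * d i ^ p := by
  have hli := li p hp kp hkp π hπ
  haveI : Module.Finite kp (FractionRing R) :=
    Module.finite_of_finrank_pos (by rw [hdeg]; exact hp.pos)
  have hspan := hli.span_eq_top_of_card_eq_finrank' (by rw [Fintype.card_fin, hdeg])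
  have hr : algebraMap R (FractionRing R) r ∈ Submodule.span kp
      (Set.range fun i : Fin p => (algebraMap R (FractionRing R) π) ^ (i : ℕ)) := by
    rw [hspan]; trivial
  obtain ⟨g, hg⟩ := (Submodule.mem_span_range_iff_exists_fun kp).mp hr
  have hy : ∀ j, ∃ y : FractionRing R, y ^ p = (g j : FractionRing R) := fun j => hkp _ (g j).2
  choose y hy using hy
  obtain ⟨b, hb⟩ := IsLocalization.exist_integer_multiples_of_finite (nonZeroDivisors R) y
  choose c hc using hb
  have hb0 : (b : R) ≠ 0 := nonZeroDivisors.ne_zero b.2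
  have hsum : (b : R) ^ p * r = ∑ j : Fin p, π ^ (j : ℕ) * c j ^ p := by
    apply IsFractionRing.injective R (FractionRing R)
    rw [map_mul, map_pow, ← hg, Finset.mul_sum, map_sum]
    refine Finset.sum_congr rfl fun j _ => ?_
    have hcj : algebraMap R (FractionRing R) (c j) = algebraMap R (FractionRing R) b * y j := by
      rw [hc j, Algebra.smul_def]
    rw [map_mul, map_pow, map_pow, hcj, mul_pow, hy j, Subfield.smul_def, smul_eq_mul]
    ring
  obtain ⟨m, u, hbu⟩ := IsDiscreteValuationRing.eq_unit_mul_pow_irreducible hb0 hπ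
  apply lemB p π hπ r m (fun j => ↑u⁻¹ * c j)
  have hu : (↑u : R) * ↑u⁻¹ = 1 := Units.mul_inv u
  have h2 : (↑u : R) ^ p * (π ^ (p * m) * r) =
      (↑u : R) ^ p * ∑ j : Fin p, π ^ (j : ℕ) * ((↑u⁻¹ : R) * c j) ^ p := by
    rw [Finset.mul_sum]
    calc (↑u : R) ^ p * (π ^ (p * m) * r) = (b : R) ^ p * r := by rw [hbu]; ring
      _ = ∑ j : Fin p, π ^ (j : ℕ) * c j ^ p := hsum
      _ = _ := Finset.sum_congr rfl fun j _ => by
        calc π ^ (j : ℕ) * c j ^ p = π ^ (j : ℕ) * (((↑u : R) * ↑u⁻¹) * c j) ^ p := by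
              rw [hu, one_mul]
          _ = _ := by ring
  exact mul_left_cancel₀ (pow_ne_zero p u.ne_zero) h2

variable (p : ℕ) [Fact p.Prime] [CharP R p]

/-- Frobenius-twisted evaluation at `π`. -/
noncomputable def psi (π : R) : R[X] →+* R := Polynomial.eval₂RingHom (frobenius R p) π

theorem psi_apply (π : R) (F : R[X]) : psi p π F = eval₂ (frobenius R p) π F := rfl

theorem psi_C (π a : R) : psi p π (C a) = a ^ p := by
  rw [psi_apply, eval₂_C, frobenius_def]

theorem psi_X (π : R) : psi p π X = π := by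
  rw [psi_apply, eval₂_X]

theorem psi_wd (π : R) (hπ : Irreducible π) (H : R[X]) (hH : psi p π H = 0) :
    psi p π (derivative H) = 0 := by
  have hp : p.Prime := Fact.out
  set q : R[X] := X ^ p - C π with hq
  have hqm : q.Monic := monic_X_pow_sub_C π hp.ne_zero
  have hψq : psi p π q = 0 := by
    rw [hq, map_sub, map_pow, psi_X, psi_C, sub_self]
  have hdq : derivative q = 0 := by
    rw [hq, derivative_sub, derivative_C, derivative_X_pow, sub_zero, CharP.cast_eq_zero R p,
      C_0, zero_mul]
  have hq1 : q ≠ 1 := by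
    intro h
    have := congrArg natDegree h
    rw [hq, natDegree_X_pow_sub_C, natDegree_one] at this
    exact hp.ne_zero this
  have hdecomp : H %ₘ q + q * (H /ₘ q) = H := modByMonic_add_div H q
  have hGdeg : (H %ₘ q).natDegree < p := by
    have := natDegree_modByMonic_lt H hqm hq1
    rwa [hq, natDegree_X_pow_sub_C] at this
  have hψG : psi p π (H %ₘ q) = 0 := by
    have h1 : psi p π H = psi p π (H %ₘ q) + psi p π q * psi p π (H /ₘ q) := by
      rw [← map_mul, ← map_add, hdecomp]
    rw [hH, hψq, zero_mul, add_zero] at h1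
    exact h1.symm
  have hG0 : H %ₘ q = 0 := by
    have hsum : ∑ i : Fin p, π ^ (i : ℕ) * ((H %ₘ q).coeff i) ^ p = 0 := by
      rw [Fin.sum_univ_eq_sum_range (fun i => π ^ i * ((H %ₘ q).coeff i) ^ p) p, ← hψG,
        psi_apply, eval₂_eq_sum_range' _ hGdeg]
      refine Finset.sum_congr rfl fun i _ => ?_
      rw [frobenius_def, mul_comm]
    have hc := lemC p π hπ (fun i => (H %ₘ q).coeff i) hsum
    ext n
    by_cases hn : n < p
    · exact hc ⟨n, hn⟩
    · exact coeff_eq_zero_of_natDegree_lt (lt_of_lt_of_le hGdeg (not_lt.mp hn))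
  rw [← hdecomp, hG0, zero_add, derivative_mul, hdq, zero_mul, zero_add, map_mul, hψq, zero_mul]

theorem exists_deriv (π : R) (hπ : Irreducible π)
    (hrep : ∀ r : R, ∃ d : Fin p → R, r = ∑ i : Fin p, π ^ (i : ℕ) * d i ^ p) :
    ∃ δ : Derivation ℤ R R, δ π = 1 := by
  have hsurj : Function.Surjective (psi p π) := by
    intro r
    obtain ⟨d, hd⟩ := hrep r
    refine ⟨∑ i : Fin p, C (d i) * X ^ (i : ℕ), ?_⟩
    rw [hd, map_sum]
    refine Finset.sum_congr rfl fun i _ => ?_
    rw [map_mul, map_pow, psi_C, psi_X, mul_comm]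
  let δfun : R → R := fun r => psi p π (derivative (Function.surjInv hsurj r))
  have hδF : ∀ F : R[X], δfun (psi p π F) = psi p π (derivative F) := by
    intro F
    have h0 : psi p π (Function.surjInv hsurj (psi p π F) - F) = 0 := by
      rw [map_sub, Function.surjInv_eq hsurj, sub_self]
    have := psi_wd p π hπ _ h0
    rw [derivative_sub, map_sub, sub_eq_zero] at this
    exact this
  have hadd : ∀ a b : R, δfun (a + b) = δfun a + δfun b := by
    intro a b
    obtain ⟨F, rfl⟩ := hsurj a
    obtain ⟨G, rfl⟩ := hsurj b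
    rw [← map_add, hδF, hδF, hδF, derivative_add, map_add]
  have hleib : ∀ a b : R, δfun (a * b) = a • δfun b + b • δfun a := by
    intro a b
    obtain ⟨F, rfl⟩ := hsurj a
    obtain ⟨G, rfl⟩ := hsurj b
    rw [← map_mul, hδF, hδF, hδF, derivative_mul, map_add, map_mul, map_mul, smul_eq_mul,
      smul_eq_mul]
    ring
  refine ⟨Derivation.mk' (AddMonoidHom.toIntLinearMap (AddMonoidHom.mk' δfun hadd)) hleib, ?_⟩
  show δfun π = 1
  have := hδF X
  rw [psi_X, derivative_X, map_one] at this
  exact this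

end Aux

/-- Let R be a discrete valuation ring of prime characteristic p whose fraction field k has degree p
over its subfield k^p of p-th powers, and π a uniformizer. Then every element of R is, in a unique
way, a sum of π^i c_i^p over 0 ≤ i < p with c_i in R, and the Kähler differentials of R (absolute,
i.e. over the integers, equivalently over the prime field) form a free module of rank one generated
by dπ. -/
theorem result (p : ℕ) [Fact p.Prime] {R : Type u} [CommRing R]
    [IsDomain R] [IsDiscreteValuationRing R] [CharP R p]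
    (kp : Subfield (FractionRing R)) (hkp : ∀ x : FractionRing R, x ∈ kp ↔ ∃ y : FractionRing R, y ^ p = x)
    (hdeg : Module.finrank kp (FractionRing R) = p)
    (π : R) (hπ : Irreducible π) :
    (∀ r : R, ∃! c : Fin p → R, r = ∑ i : Fin p, π ^ (i : ℕ) * c i ^ p) ∧
      Function.Bijective (fun r : R => r • KaehlerDifferential.D ℤ R π) := by
  have hp : p.Prime := Fact.out
  have hkp' : ∀ x : FractionRing R, x ∈ kp → ∃ y : FractionRing R, y ^ p = x :=
    fun x hx => (hkp x).mp hx
  have hrep : ∀ r : R, ∃ d : Fin p → R, r = ∑ i : Fin p, π ^ (i : ℕ) * d i ^ p :=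
    fun r => exists_rep p hp kp hkp' hdeg π hπ r
  refine ⟨fun r => ?_, ?_, ?_⟩
  · obtain ⟨d, hd⟩ := hrep r
    refine ⟨d, hd, fun d' hd' => ?_⟩
    funext i
    have h0 : ∑ i : Fin p, π ^ (i : ℕ) * (d' i - d i) ^ p = 0 := by
      simp_rw [sub_pow_char, mul_sub, Finset.sum_sub_distrib]
      rw [← hd, ← hd', sub_self]
    exact sub_eq_zero.mp (lemC p π hπ _ h0 i)
  · intro r s hrs
    obtain ⟨δ, hδ⟩ := exists_deriv p π hπ hrep
    have h1 : r • KaehlerDifferential.D ℤ R π = s • KaehlerDifferential.D ℤ R π := hrs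
    have h2 := congrArg δ.liftKaehlerDifferential h1
    simp only [map_smul, Derivation.liftKaehlerDifferential_comp_D, hδ, smul_eq_mul, mul_one] at h2
    exact h2
  · intro ω
    have hspan : Submodule.span R {KaehlerDifferential.D ℤ R π} = ⊤ := by
      rw [eq_top_iff, ← KaehlerDifferential.span_range_derivation ℤ R, Submodule.span_le]
      rintro _ ⟨r, rfl⟩
      obtain ⟨d, hd⟩ := hrep r
      rw [hd, map_sum]
      refine Submodule.sum_mem _ fun i _ => ?_
      rw [Derivation.leibniz, Derivation.leibniz_pow, Derivation.leibniz_pow]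
      have hp0 : (p : ℕ) • (d i ^ (p - 1) • KaehlerDifferential.D ℤ R (d i)) = 0 := by
        rw [← Nat.cast_smul_eq_nsmul R, CharP.cast_eq_zero R p, zero_smul]
      rw [hp0, smul_zero, zero_add]
      exact Submodule.smul_mem _ _ (nsmul_mem
        (Submodule.smul_mem _ _ (Submodule.mem_span_singleton_self _)) _)
    have hω : ω ∈ Submodule.span R {KaehlerDifferential.D ℤ R π} := hspan ▸ Submodule.mem_top
    obtain ⟨a, ha⟩ := Submodule.mem_span_singleton.mp hω
    exact ⟨a, ha⟩

end Groth.Agent.S13368
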