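import Groth.Statements.S13369
import Mathlib

set_option autoImplicit false
universe u
open GaDual

namespace Groth.Agent.S13369

open Polynomial IntermediateField in
theorem field_lemma (p : ℕ) [Fact p.Prime] (K : Type*) [Field K] [CharP K p] (x : K)
    (hx : KaehlerDifferential.D ℤ K x = 0) : ∃ t : K, t ^ p = x := by
  classical
  by_contra hne
  push Not at hne
  have hp : p.Prime := Fact.out
  set F : Subfield K := (frobenius K p).fieldRange with hF
  have hxF : x ∉ F := by
    rw [hF, RingHom.mem_fieldRange]
    rintro ⟨t, ht⟩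
    exact hne t ht
  let s : Set (Subfield K) := {L | F ≤ L ∧ x ∉ L}
  obtain ⟨L, -, hLmax⟩ := zorn_le_nonempty₀ s (by
    intro c hcs hc y hy
    refine ⟨sSup c, ⟨(hcs hy).1.trans (le_sSup hy), ?_⟩, fun z hz => le_sSup hz⟩
    rw [Subfield.mem_sSup_of_directedOn ⟨y, hy⟩ hc.directedOn]
    rintro ⟨L, hL, hxL⟩
    exact (hcs hL).2 hxL) F ⟨le_rfl, hxF⟩
  have hLs : F ≤ L ∧ x ∉ L := hLmax.1
  have hmax : ∀ L' : Subfield K, F ≤ L' → x ∉ L' → L ≤ L' → L' ≤ L :=
    fun L' h1 h2 h3 => hLmax.2 ⟨h1, h2⟩ h3
  have hpow : ∀ z : K, z ^ p ∈ L := fun z => hLs.1 ⟨z, rfl⟩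
  -- key facts about elements outside L
  have key : ∀ z : K, z ∉ L →
      (X ^ p - C (⟨z ^ p, hpow z⟩ : L) : L[X]) = minpoly L z ∧ IsIntegral L z ∧
        Module.finrank L L⟮z⟯ = p := by
    intro z hz
    have hirr : Irreducible (X ^ p - C (⟨z ^ p, hpow z⟩ : L) : L[X]) := by
      apply X_pow_sub_C_irreducible_of_prime hp
      intro b hb
      apply hz
      have h1 : ((b : K)) ^ p = z ^ p := by
        have := congrArg (fun l : L => (l : K)) hb
        simpa using this
      have h2 : (b : K) = z := frobenius_inj K p h1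
      rw [← h2]; exact b.2
    have hev : aeval z (X ^ p - C (⟨z ^ p, hpow z⟩ : L) : L[X]) = 0 := by
      rw [map_sub, map_pow, aeval_X, aeval_C]
      exact sub_self _
    have hmonic : (X ^ p - C (⟨z ^ p, hpow z⟩ : L) : L[X]).Monic :=
      monic_X_pow_sub_C _ hp.ne_zero
    have hmin := minpoly.eq_of_irreducible_of_monic hirr hev hmonic
    have hint : IsIntegral L z := ⟨_, hmonic, hev⟩
    refine ⟨hmin, hint, ?_⟩
    rw [IntermediateField.adjoin.finrank hint, ← hmin, natDegree_X_pow_sub_C]
  obtain ⟨hminx, hintx, hfrx⟩ := key x hLs.2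
  -- K = L(x)
  have htop : ∀ y : K, y ∈ L⟮x⟯ := by
    intro y
    by_cases hy : y ∈ L
    · exact L⟮x⟯.algebraMap_mem (⟨y, hy⟩ : L)
    · obtain ⟨-, hinty, hfry⟩ := key y hy
      have hLle : L ≤ L⟮y⟯.toSubfield := by
        intro l hl
        exact L⟮y⟯.algebraMap_mem (⟨l, hl⟩ : L)
      have hxy : x ∈ L⟮y⟯ := by
        by_contra hcon
        have := hmax L⟮y⟯.toSubfield (hLs.1.trans hLle) hcon hLle
        exact hy (this (mem_adjoin_simple_self L y))
      have hle : L⟮x⟯ ≤ L⟮y⟯ := adjoin_simple_le_iff.mpr hxy
      haveI := IntermediateField.adjoin.finiteDimensional hinty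
      have heq := IntermediateField.eq_of_le_of_finrank_eq hle (hfrx.trans hfry.symm)
      rw [heq]
      exact mem_adjoin_simple_self L y
  have hsurj : Function.Surjective (aeval x : L[X] →ₐ[L] K) := by
    intro y
    have h1 : y ∈ L⟮x⟯.toSubalgebra := htop y
    rw [adjoin_simple_toSubalgebra_of_isAlgebraic hintx.isAlgebraic,
      Algebra.adjoin_singleton_eq_range_aeval] at h1
    exact h1
  have hd : ∀ q : L[X], aeval x q = 0 → aeval x (derivative' q) = 0 := by
    intro q hq
    obtain ⟨h, rfl⟩ := minpoly.dvd L x hq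
    rw [← hminx, derivative'_apply, derivative_mul, map_add, map_mul, map_mul, derivative_sub,
      derivative_C, sub_zero, derivative_X_pow, map_mul, aeval_C, map_natCast,
      CharP.cast_eq_zero K p, zero_mul, zero_mul, zero_add]
    have : aeval x (X ^ p - C (⟨x ^ p, hpow x⟩ : L) : L[X]) = 0 := by
      rw [hminx]; exact minpoly.aeval L x
    rw [this, zero_mul]
  let δ : Derivation L K K := Derivation.liftOfSurjective hsurj hd
  have hδx : δ x = 1 := by
    have := Derivation.liftOfSurjective_apply hsurj hd X
    rw [aeval_X, derivative'_apply, derivative_X, map_one] at this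
    exact this
  have h0 := Derivation.liftKaehlerDifferential_comp_D (δ.restrictScalars ℤ) x
  rw [hx, map_zero, Derivation.restrictScalars_apply, hδx] at h0
  exact zero_ne_one h0

theorem main_frac (p : ℕ) [Fact p.Prime] {A : Type*} [CommRing A] [IsDomain A]
    [IsIntegrallyClosed A] [CharP A p] (K : Type*) [Field K] [Algebra A K] [IsFractionRing A K]
    (s : A) (hs : KaehlerDifferential.D ℤ A s = 0) :
    ∃ f : A, f ^ p = s := by
  have hinj : Function.Injective (algebraMap A K) := IsFractionRing.injective A K
  haveI : CharP K p := charP_of_injective_algebraMap hinj p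
  have hD : KaehlerDifferential.D ℤ K (algebraMap A K s) = 0 := by
    rw [← KaehlerDifferential.map_D ℤ ℤ A K, hs, map_zero]
  obtain ⟨t, ht⟩ := field_lemma p K _ hD
  have hint : IsIntegral A (t ^ p) := by rw [ht]; exact isIntegral_algebraMap
  obtain ⟨f, hf⟩ := IsIntegrallyClosed.exists_algebraMap_eq_of_isIntegral_pow
    (Fact.out : p.Prime).pos hint
  refine ⟨f, hinj ?_⟩
  rw [map_pow, hf, ht]

/-- For a normal Noetherian domain A of prime characteristic p, an element whose differential vanishes
in the absolute Kähler differentials of A is a p-th power; that is, the sequence F : A → A, d : A →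
Ω_A (F the Frobenius) is exact at the middle term. (The published statement is for normal locally
Noetherian schemes of characteristic p; this row is the case of the spectrum of a normal Noetherian
domain.) -/
theorem result (p : ℕ) [Fact p.Prime] {A : Type u} [CommRing A] [IsDomain A]
    [IsNoetherianRing A] [IsIntegrallyClosed A] [CharP A p] (s : A) (hs : KaehlerDifferential.D ℤ A s = 0) :
    ∃ f : A, f ^ p = s := by
  exact main_frac p (FractionRing A) s hs

end Groth.Agent.S13369
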