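import Groth.Statements.S13370
import Mathlib
import Groth.Agent.H26.GaPts
set_option linter.style.haveILetI false

set_option autoImplicit false
universe u
open GaDual

namespace Groth.Agent.S13370

section Aux
open CategoryTheory CategoryTheory.Limits AlgebraicGeometry MvPolynomial
open Groth.Agent.H26.GaPts (specMap_appTop_inv)

namespace H26AU

theorem appTop_comp_apply {X Y Z : Scheme.{u}} (f : X ⟶ Y) (g : Y ⟶ Z) (z : Γ(Z, ⊤)) :
    (f ≫ g).appTop z = f.appTop (g.appTop z) := by
  rw [Scheme.Hom.comp_appTop]; rfl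

variable (n : Type u)

noncomputable abbrev MA (R : CommRingCat.{u}) : CommRingCat.{u} := CommRingCat.of (MvPolynomial n R)

noncomputable abbrev mC (R : CommRingCat.{u}) : R ⟶ MA n R := CommRingCat.ofHom C

noncomputable abbrev mEv (R : CommRingCat.{u}) : MA n R ⟶ R := CommRingCat.ofHom constantCoeff

theorem mC_ev (R : CommRingCat.{u}) : mC n R ≫ mEv n R = 𝟙 R := by
  ext r
  simp

noncomputable def s0 (X : Scheme.{u}) : X ⟶ 𝔸(n; X) := AffineSpace.homOfVector (𝟙 X) (fun _ => 0)

noncomputable def q {X : Scheme.{u}} (R : CommRingCat.{u}) (f : Spec R ⟶ X) : Spec (MA n R) ⟶ 𝔸(n; X) :=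
  (AffineSpace.SpecIso n R).inv ≫ AffineSpace.map n f

set_option backward.isDefEq.respectTransparency.types false in
theorem q_over {X : Scheme.{u}} (R : CommRingCat.{u}) (f : Spec R ⟶ X) :
    q n R f ≫ (𝔸(n; X) ↘ X) = Spec.map (mC n R) ≫ f := by
  rw [q, Category.assoc, AffineSpace.map_over, AffineSpace.SpecIso_inv_over_assoc]

set_option backward.isDefEq.respectTransparency.types false in
theorem q_coord {X : Scheme.{u}} (R : CommRingCat.{u}) (f : Spec R ⟶ X) (i : n) :
    (q n R f).appTop (AffineSpace.coord X i) = (Scheme.ΓSpecIso (MA n R)).inv (MvPolynomial.X i) := by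
  rw [q, appTop_comp_apply, AffineSpace.map_appTop_coord, AffineSpace.SpecIso_inv_appTop_coord]

set_option backward.isDefEq.respectTransparency.types false in
theorem s0_over (X : Scheme.{u}) : s0 n X ≫ (𝔸(n; X) ↘ X) = 𝟙 X := by
  rw [s0, AffineSpace.homOfVector_over]

set_option backward.isDefEq.respectTransparency.types false in
theorem E {X : Scheme.{u}} (R : CommRingCat.{u}) (f : Spec R ⟶ X) :
    f ≫ s0 n X = Spec.map (mEv n R) ≫ q n R f := by
  apply AffineSpace.hom_ext
  · rw [Category.assoc, Category.assoc, q_over, s0_over, Category.comp_id, ← Category.assoc,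
      ← Spec.map_comp, mC_ev, Spec.map_id, Category.id_comp]
  · intro i
    rw [appTop_comp_apply, appTop_comp_apply, q_coord, s0, AffineSpace.homOfVector_appTop_coord,
      map_zero, specMap_appTop_inv]
    have h : (mEv n R) (MvPolynomial.X i) = 0 := MvPolynomial.constantCoeff_X _ i
    rw [h, map_zero]

set_option backward.isDefEq.respectTransparency.types false in
theorem local_eq {X : Scheme.{u}} (R : CommRingCat.{u}) [_root_.IsReduced R] (f : Spec R ⟶ X)
    (w : Γ(𝔸(n; X), ⊤)) (hw : IsUnit w) :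
    (q n R f).appTop ((𝔸(n; X) ↘ X).appTop ((s0 n X).appTop w)) = (q n R f).appTop w := by
  obtain ⟨p, hp⟩ : ∃ p : MvPolynomial n R,
      p = (Scheme.ΓSpecIso (MA n R)).hom ((q n R f).appTop w) := ⟨_, rfl⟩
  have hpu : IsUnit p := by
    rw [hp]
    exact (hw.map (q n R f).appTop.hom).map (Scheme.ΓSpecIso (MA n R)).hom.hom
  have hqp : (q n R f).appTop w = (Scheme.ΓSpecIso (MA n R)).inv p := by
    rw [hp]; exact (Iso.hom_inv_id_apply _ _).symm
  obtain ⟨r, -, hr⟩ := MvPolynomial.isUnit_iff_eq_C_of_isReduced.mp hpu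
  rw [← appTop_comp_apply (q n R f), q_over, appTop_comp_apply, ← appTop_comp_apply f, E,
    appTop_comp_apply (Spec.map (mEv n R)), hqp, specMap_appTop_inv, specMap_appTop_inv, hr]
  congr 1
  change C (constantCoeff (C r)) = C r
  rw [constantCoeff_C]

set_option backward.isDefEq.respectTransparency.types false in
theorem main [Finite n] (X : Scheme.{u}) [IsReduced X] (w : Γ(𝔸(n; X), ⊤)) (hw : IsUnit w) :
    ∃ v : Γ(X, ⊤), IsUnit v ∧ (𝔸(n; X) ↘ X).appTop v = w := by
  refine ⟨(s0 n X).appTop w, hw.map (s0 n X).appTop.hom, ?_⟩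
  let 𝒰 := X.affineOpenCover
  let 𝒲 := 𝒰.openCover.pullback₁ (𝔸(n; X) ↘ X)
  refine Scheme.OpenCover.ext_elem _ _ 𝒲 fun i => ?_
  haveI : IsReduced (Spec (𝒰.X i)) := isReduced_of_isOpenImmersion (𝒰.f i)
  haveI : _root_.IsReduced (𝒰.X i) := (affine_isReduced_iff _).mp inferInstance
  let e := (AffineSpace.isPullback_map (n := n) (𝒰.f i)).isoPullback
  let θ : Spec (MA n (𝒰.X i)) ⟶ 𝒲.X i := (AffineSpace.SpecIso n (𝒰.X i)).inv ≫ e.hom
  have hθ : θ ≫ 𝒲.f i = q n (𝒰.X i) (𝒰.f i) := by
    change ((AffineSpace.SpecIso n (𝒰.X i)).inv ≫ e.hom) ≫ pullback.fst _ _ = _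
    rw [Category.assoc, IsPullback.isoPullback_hom_fst]
    rfl
  haveI : IsIso θ := inferInstance
  haveI : IsIso θ.appTop := inferInstanceAs (IsIso (θ.app ⊤))
  have hinj : Function.Injective θ.appTop := (ConcreteCategory.bijective_of_isIso θ.appTop).1
  apply hinj
  have h := local_eq n (𝒰.X i) (𝒰.f i) w hw
  rw [← hθ, appTop_comp_apply, appTop_comp_apply] at h
  exact h

end H26AU

end Aux

open AlgebraicGeometry in
/-- Over a reduced scheme X, each invertible global function on 𝔸ⁿ_X comes, by pullback along the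
projection to X, from an invertible global function on X. -/
theorem result (n : Type u) [Finite n] (X : Scheme.{u}) [IsReduced X]
    (w : Γ(𝔸(n; X), ⊤)) (hw : IsUnit w) :
    ∃ v : Γ(X, ⊤), IsUnit v ∧ (𝔸(n; X) ↘ X).appTop v = w := by
  exact H26AU.main n X w hw

end Groth.Agent.S13370
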