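import Groth.Statements.S13371
import Mathlib
import Groth.Agent.H26.GaPts2
set_option linter.style.haveILetI false

set_option autoImplicit false
universe u
open GaDual

namespace Groth.Agent.S13371

section Aux
open CategoryTheory CategoryTheory.Limits MonoidalCategory CartesianMonoidalCategory MonObj AlgebraicGeometry Opposite
open Groth.Agent.H26.GaPts

namespace H26GaGm

theorem poly_unit_const {R : Type u} [CommRing R] [_root_.IsReduced R] (p : Polynomial R) (hp : IsUnit p) :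
    p = Polynomial.C (p.coeff 0) := by
  have h := (Polynomial.coeff_isUnit_isNilpotent_of_isUnit hp).2
  ext n
  rw [Polynomial.coeff_C]
  split_ifs with hn
  · rw [hn]
  · exact (h n hn).eq_zero

noncomputable abbrev PA (R : CommRingCat.{u}) : CommRingCat.{u} := CommRingCat.of (Polynomial R)

noncomputable abbrev polyC (R : CommRingCat.{u}) : R ⟶ PA R := CommRingCat.ofHom Polynomial.C

noncomputable abbrev polyEv (R : CommRingCat.{u}) : PA R ⟶ R := CommRingCat.ofHom (Polynomial.evalRingHom 0)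

theorem polyC_ev (R : CommRingCat.{u}) : polyC R ≫ polyEv R = 𝟙 R := by
  ext r
  simp

variable {S : Scheme.{u}}

noncomputable abbrev TX (R : CommRingCat.{u}) (g : Spec R ⟶ S) : Over S := Over.mk (Spec.map (polyC R) ≫ g)

noncomputable def ptX (R : CommRingCat.{u}) (g : Spec R ⟶ S) : TX R g ⟶ Red.Ga S :=
  ptOfFn ((Scheme.ΓSpecIso (PA R)).inv Polynomial.X)

noncomputable def sec0 (R : CommRingCat.{u}) (g : Spec R ⟶ S) : Over.mk g ⟶ TX R g :=
  Over.homMk (Spec.map (polyEv R)) (by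
    change Spec.map (polyEv R) ≫ Spec.map (polyC R) ≫ g = g
    rw [← Category.assoc, ← Spec.map_comp, polyC_ev, Spec.map_id, Category.id_comp])

theorem sec0_ptX (R : CommRingCat.{u}) (g : Spec R ⟶ S) : sec0 R g ≫ ptX R g = 1 := by
  rw [ptX, ptOfFn_comp]
  have h : (sec0 R g).left.appTop ((Scheme.ΓSpecIso (PA R)).inv Polynomial.X) = 0 := by
    change (Spec.map (polyEv R)).appTop _ = 0
    rw [specMap_appTop_inv]
    have h' : (polyEv R) (Polynomial.X) = 0 := Polynomial.eval_X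
    rw [h', map_zero]
  rw [h, ptOfFn_zero]

theorem ptX_phi (φ : Red.Ga S ⟶ Red.Gm S) [IsMonHom φ] (R : CommRingCat.{u}) [_root_.IsReduced R]
    (g : Spec R ⟶ S) : ptX R g ≫ φ = 1 := by
  apply GmPts.gmFn_injective
  change Red.gmFn (ptX R g ≫ φ) = Red.gmFn (1 : TX R g ⟶ Red.Gm S)
  rw [GmPts.gmFn_one]
  obtain ⟨v, hv⟩ : ∃ v, v = Red.gmFn (ptX R g ≫ φ) := ⟨_, rfl⟩
  rw [← hv]
  have hu : IsUnit v := by rw [hv]; exact GmPts.isUnit_gmFn _
  obtain ⟨p, hp⟩ : ∃ p : Polynomial R, p = (Scheme.ΓSpecIso (PA R)).hom v := ⟨_, rfl⟩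
  have hpu : IsUnit p := by rw [hp]; exact hu.map (Scheme.ΓSpecIso (PA R)).hom.hom
  have hvp : v = (Scheme.ΓSpecIso (PA R)).inv p := by
    rw [hp]; exact (Iso.hom_inv_id_apply _ _).symm
  have hconst := poly_unit_const p hpu
  have h1 : sec0 R g ≫ (ptX R g ≫ φ) = 1 := by
    rw [← Category.assoc, sec0_ptX, MonObj.one_comp φ]
  have h2 : (sec0 R g).left.appTop v = 1 := by
    rw [hv, ← GmPts.gmFn_comp, h1, GmPts.gmFn_one]
  have h3 : p.coeff 0 = 1 := by
    rw [hvp] at h2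
    change (Spec.map (polyEv R)).appTop _ = 1 at h2
    rw [specMap_appTop_inv] at h2
    have h4 := congrArg (Scheme.ΓSpecIso R).hom h2
    rw [Iso.inv_hom_id_apply, map_one] at h4
    rw [Polynomial.coeff_zero_eq_eval_zero]
    exact h4
  rw [hvp, hconst, h3, map_one, map_one]

theorem pt_phi (φ : Red.Ga S ⟶ Red.Gm S) [IsMonHom φ] (R B : CommRingCat.{u}) [_root_.IsReduced R]
    (g : Spec R ⟶ S) (ρ : R ⟶ B) (t : Over.mk (Spec.map ρ ≫ g) ⟶ Red.Ga S) : t ≫ φ = 1 := by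
  obtain ⟨b, hb⟩ : ∃ b : B, b = (Scheme.ΓSpecIso B).hom (Red.gaFn t) := ⟨_, rfl⟩
  let e : PA R ⟶ B := CommRingCat.ofHom (Polynomial.eval₂RingHom ρ.hom b)
  have hce : polyC R ≫ e = ρ := by
    ext r
    exact Polynomial.eval₂_C _ _
  let w : Over.mk (Spec.map ρ ≫ g) ⟶ TX R g := Over.homMk (Spec.map e) (by
    change Spec.map e ≫ Spec.map (polyC R) ≫ g = Spec.map ρ ≫ g
    rw [← Category.assoc, ← Spec.map_comp, hce])
  have ht : t = w ≫ ptX R g := by
    apply eq_of_gaFn_eq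
    rw [gaFn_comp, ptX, gaFn_ptOfFn]
    change _ = (Spec.map e).appTop _
    rw [specMap_appTop_inv]
    have h' : e Polynomial.X = b := Polynomial.eval₂_X _ _
    rw [h', hb]
    exact (Iso.hom_inv_id_apply _ _).symm
  rw [ht, Category.assoc, ptX_phi φ R g, MonObj.comp_one]

theorem key2 (φ : Red.Ga S ⟶ Red.Gm S) [IsMonHom φ] (R B : CommRingCat.{u}) [_root_.IsReduced R]
    (g : Spec R ⟶ S) (k : Spec B ⟶ (Red.Ga S).left) (h : Spec B ⟶ Spec R)
    (hk : k ≫ (Red.Ga S).hom = h ≫ g) :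
    k ≫ φ.left = k ≫ (1 : Red.Ga S ⟶ Red.Gm S).left := by
  obtain ⟨ρ, rfl⟩ := Spec.map_surjective h
  let t : Over.mk (Spec.map ρ ≫ g) ⟶ Red.Ga S := Over.homMk k hk
  have h1 : t ≫ φ = 1 := pt_phi φ R B g ρ t
  have h2 : t ≫ (1 : Red.Ga S ⟶ Red.Gm S) = 1 := MonObj.comp_one t
  have h3 := congrArg (fun f => f.left) (h1.trans h2.symm)
  exact h3

theorem main (S : Scheme.{u}) [IsReduced S] (φ : Red.Ga S ⟶ Red.Gm S) [IsMonHom φ] : φ = 1 := by
  apply Over.OverMorphism.ext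
  let 𝒰 := S.affineOpenCover
  let 𝒲 := 𝒰.openCover.pullback₁ (Red.Ga S).hom
  refine Scheme.Cover.hom_ext 𝒲 _ _ fun i => ?_
  let 𝒱 := (𝒲.X i).affineOpenCover
  refine Scheme.Cover.hom_ext 𝒱.openCover _ _ fun j => ?_
  haveI : IsReduced (Spec (𝒰.X i)) := isReduced_of_isOpenImmersion (𝒰.f i)
  haveI : _root_.IsReduced (𝒰.X i) := (affine_isReduced_iff _).mp inferInstance
  have hc : (𝒱.f j ≫ 𝒲.f i) ≫ (Red.Ga S).hom =
      (𝒱.f j ≫ 𝒰.openCover.pullbackHom (Red.Ga S).hom i) ≫ 𝒰.f i := by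
    rw [Category.assoc, Category.assoc]
    congr 1
    exact (Scheme.Cover.pullbackHom_map 𝒰.openCover (Red.Ga S).hom i).symm
  have h := key2 φ (𝒰.X i) (𝒱.X j) (𝒰.f i) (𝒱.f j ≫ 𝒲.f i)
    (𝒱.f j ≫ 𝒰.openCover.pullbackHom (Red.Ga S).hom i) hc
  rw [Category.assoc, Category.assoc] at h
  exact h

end H26GaGm

end Aux

open CategoryTheory AlgebraicGeometry MonObj CartesianMonoidalCategory in
/-- If S is a reduced scheme, every homomorphism of S-group schemes from the additive group to the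
multiplicative group over S is the trivial homomorphism. -/
theorem result (S : Scheme.{u}) [IsReduced S] (φ : Red.Ga S ⟶ Red.Gm S)
    [IsMonHom φ] : φ = 1 := by
  exact H26GaGm.main S φ

end Groth.Agent.S13371
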