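import Groth.Statements.S13373
import Groth.Agent.Lib.Helper7.GaChar2
-- import your own Groth.Agent.* helpers here

set_option autoImplicit false
universe u
open GaDual

namespace Groth.Agent.S13373

/-- Over a commutative algebra A of prime characteristic p, the formal characters (power series χ with
constant term 1 and χ(X+Y) = χ(X)χ(Y)) are exactly the infinite products ∏_n exp_p(a_n X^(p^n)) with
a_n^p = 0, where exp_p(Y) = Σ_{j<p} Y^j/j!; the infinite product is expressed through its
truncations: χ mod X^(p^m) equals the finite product over n < m. -/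
theorem result (p : ℕ) [Fact p.Prime] (A : Type u) [CommRing A] [CharP A p]
    (χ : PowerSeries A) :
    (PowerSeries.constantCoeff χ = 1 ∧
      PowerSeries.subst (MvPowerSeries.X 0 + MvPowerSeries.X 1 : MvPowerSeries (Fin 2) A) χ =
        PowerSeries.subst (MvPowerSeries.X 0 : MvPowerSeries (Fin 2) A) χ *
          PowerSeries.subst (MvPowerSeries.X 1 : MvPowerSeries (Fin 2) A) χ) ↔
      ∃ a : ℕ → A, (∀ n, a n ^ p = 0) ∧ ∀ m : ℕ,
        PowerSeries.trunc (p ^ m) χ = ∏ n ∈ Finset.range m, ∑ j ∈ Finset.range p,
          Polynomial.C (Ring.inverse (j.factorial : A) * a n ^ j) * Polynomial.X ^ (j * p ^ n) := by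
  constructor
  · rintro ⟨h0, hmul⟩
    have h0' : (fun k => PowerSeries.coeff k χ) 0 = 1 := by
      show PowerSeries.coeff 0 χ = 1
      rw [PowerSeries.coeff_zero_eq_constantCoeff_apply]; exact h0
    have hstar := (Groth.Agent.Helper7.GaChar.char_iff_ps χ).mp hmul
    refine ⟨fun n => PowerSeries.coeff (p ^ n) χ, ?_, ?_⟩
    · intro n
      exact (Groth.Agent.Helper7.GaChar.main_seq p (fun k => PowerSeries.coeff k χ) (n + 1) h0'
        (fun i j _ _ => hstar i j)).1 n (Nat.lt_succ_self n)
    · intro m
      obtain ⟨hd, hc⟩ := (Groth.Agent.Helper7.GaChar.main_seq p (fun k => PowerSeries.coeff k χ) m h0'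
        (fun i j _ _ => hstar i j)).2 m le_rfl
      ext k
      rw [PowerSeries.coeff_trunc]
      by_cases hk : k < p ^ m
      · rw [if_pos hk]; exact (hc k hk).symm
      · rw [if_neg hk]
        symm
        apply Polynomial.coeff_eq_zero_of_natDegree_lt
        exact lt_of_lt_of_le hd (not_lt.mp hk)
  · rintro ⟨a, ha, htr⟩
    have h1 := congrArg (fun P => Polynomial.coeff P 0) (htr 0)
    simp [PowerSeries.coeff_trunc] at h1
    refine ⟨h1, ?_⟩
    rw [Groth.Agent.Helper7.GaChar.char_iff_ps]
    intro i j
    obtain ⟨m, hm⟩ : ∃ m, i + j < p ^ m := ⟨i + j, Nat.lt_pow_self (Fact.out : p.Prime).one_lt⟩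
    have hP := Groth.Agent.Helper7.GaChar.IsChar.prod (Finset.range m)
      (fun n => Groth.Agent.Helper7.GaChar.Ep p (a n) n)
      (fun n _ => Groth.Agent.Helper7.GaChar.isChar_Ep p (a n) (ha n) n)
    have hcoef : ∀ k, k < p ^ m → PowerSeries.coeff k χ =
        (∏ n ∈ Finset.range m, Groth.Agent.Helper7.GaChar.Ep p (a n) n).coeff k := by
      intro k hk
      have := congrArg (fun P => Polynomial.coeff P k) (htr m)
      simp only [PowerSeries.coeff_trunc, if_pos hk] at this
      exact this
    have := (Groth.Agent.Helper7.GaChar.char_iff _).mp hP.2 i j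
    rw [hcoef (i + j) hm, hcoef i (by omega), hcoef j (by omega)]
    exact this

end Groth.Agent.S13373
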