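import Groth.Statements.S13375
import Groth.Agent.Lib.Helper7.CechDer
-- import your own Groth.Agent.* helpers here

set_option autoImplicit false
universe u v
open CechDer

namespace Groth.Agent.S13375

open CategoryTheory CategoryTheory.Limits in
/-- In an abelian category, given two degreewise left exact sequences of nonnegatively graded cochain
complexes 0 → C' → C → C'' and 0 → I' → I → I'', each complex exact in positive degrees and the I's
termwise injective, every commutative ladder of maps g', g, g'' between their degree-zero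
cohomologies is induced by chain maps f' : C' → I', f : C → I, f'' : C'' → I'' commuting with the
given maps of complexes. -/
theorem result {V : Type u} [Category.{v} V]
    [Abelian V] (C' C C'' I' I I'' : CochainComplex V ℕ)
    (jC : C' ⟶ C) (πC : C ⟶ C'') (jI : I' ⟶ I) (πI : I ⟶ I'')
    (mC : ∀ n, Mono (jC.f n)) (wC : ∀ n, jC.f n ≫ πC.f n = 0)
    (exC : ∀ n, (ShortComplex.mk (jC.f n) (πC.f n) (wC n)).Exact)
    (mI : ∀ n, Mono (jI.f n)) (wI : ∀ n, jI.f n ≫ πI.f n = 0)
    (exI : ∀ n, (ShortComplex.mk (jI.f n) (πI.f n) (wI n)).Exact)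
    (hC' : ∀ n, 0 < n → C'.ExactAt n) (hC : ∀ n, 0 < n → C.ExactAt n) (hC'' : ∀ n, 0 < n → C''.ExactAt n)
    (hI' : ∀ n, 0 < n → I'.ExactAt n) (hI : ∀ n, 0 < n → I.ExactAt n) (hI'' : ∀ n, 0 < n → I''.ExactAt n)
    (injI' : ∀ n, Injective (I'.X n)) (injI : ∀ n, Injective (I.X n)) (injI'' : ∀ n, Injective (I''.X n))
    (g' : C'.homology 0 ⟶ I'.homology 0) (g : C.homology 0 ⟶ I.homology 0)
    (g'' : C''.homology 0 ⟶ I''.homology 0)
    (hg1 : HomologicalComplex.homologyMap jC 0 ≫ g = g' ≫ HomologicalComplex.homologyMap jI 0)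
    (hg2 : HomologicalComplex.homologyMap πC 0 ≫ g'' = g ≫ HomologicalComplex.homologyMap πI 0) :
    ∃ (f' : C' ⟶ I') (f : C ⟶ I) (f'' : C'' ⟶ I''),
      jC ≫ f = f' ≫ jI ∧ πC ≫ f'' = f ≫ πI ∧
      HomologicalComplex.homologyMap f' 0 = g' ∧ HomologicalComplex.homologyMap f 0 = g ∧
      HomologicalComplex.homologyMap f'' 0 = g'' := by
  obtain ⟨f', hf'⟩ := Groth.Agent.Helper7.CechDer.exists_lift C' I' hC' injI' g'
  obtain ⟨ft, hft⟩ := Groth.Agent.Helper7.CechDer.exists_lift C I hC injI g
  obtain ⟨f, hf1, hf2⟩ := Groth.Agent.Helper7.CechDer.exists_extend_mono C' C I jC mC hC' injI ft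
    (f' ≫ jI) (by
      rw [HomologicalComplex.homologyMap_sub, HomologicalComplex.homologyMap_comp,
        HomologicalComplex.homologyMap_comp, hft, hf', hg1, sub_self])
  obtain ⟨ft'', hft''⟩ := Groth.Agent.Helper7.CechDer.exists_lift C'' I'' hC'' injI'' g''
  have hjπ : jI ≫ πI = 0 := by ext n; exact wI n
  obtain ⟨f'', hf3, hf4⟩ := Groth.Agent.Helper7.CechDer.exists_extend_quot C' C C'' I'' jC πC mC wC
    exC hC' hC injI'' ft'' (f ≫ πI) (by
      rw [← Category.assoc, hf1, Category.assoc, hjπ, comp_zero]) (by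
      rw [HomologicalComplex.homologyMap_sub, HomologicalComplex.homologyMap_comp,
        HomologicalComplex.homologyMap_comp, hft'', hf2, hft, hg2, sub_self])
  exact ⟨f', f, f'', hf1, hf3, hf', hf2.trans hft, hf4.trans hft''⟩

end Groth.Agent.S13375
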