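import Groth.Statements.S13378
import Groth.Agent.Lib.Helper7.ProfCompl
import Groth.Agent.Lib.Helper7.ProfCompl2
-- import your own Groth.Agent.* helpers here

set_option autoImplicit false
universe u
open ProCompl

namespace Groth.Agent.S13378

/-- For an abelian group A (written multiplicatively, discrete) and a subgroup A' such that the quotient
A/A' has no nontrivial divisible element and its torsion elements are killed by one positive
integer, the map induced on profinite completions by the inclusion of A' in A is injective. (The
published statement is for topological abelian groups in which every nA is open, with completions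
formed from open subgroups of finite index; this row is the case of the discrete topology.) -/
theorem result (A : Type u) [CommGroup A] (A' : Subgroup A)
    (hdiv : ∀ x : A ⧸ A', (∀ n : ℕ, 0 < n → ∃ y : A ⧸ A', y ^ n = x) → x = 1)
    (htors : ∃ N : ℕ, 0 < N ∧ ∀ x : A ⧸ A', IsOfFinOrder x → x ^ N = 1) :
    Function.Injective (ProfiniteGrp.profiniteCompletion.map (GrpCat.ofHom A'.subtype)).hom := by
  open ProfiniteGrp ProfiniteGrp.ProfiniteCompletion CategoryTheory Groth.Agent.Helper7.PC in
  classical
  let G : GrpCat.{u} := GrpCat.of A
  let G' : GrpCat.{u} := GrpCat.of A'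
  let i : G' ⟶ G := GrpCat.ofHom A'.subtype
  set I := (profiniteCompletion.map i).hom with hI
  have hIeta : ∀ a : A', I (etaFn G' a) = etaFn G (a : A) := fun a => map_etaFn i a
  suffices main : ∀ x : completion G', I x = 1 → x = 1 by
    intro x y hxy
    have h1 : I (x * y⁻¹) = 1 := by
      rw [map_mul, map_inv, hxy, mul_inv_cancel]
    have h2 := main _ h1
    exact mul_inv_eq_one.1 h2
  intro x hx
  refine ProfiniteGrp.limit_ext _ x 1 (fun H' => ?_)
  rw [ProfiniteGrp.limit_one_val]
  -- the finite index subgroup of A
  obtain ⟨H, hHfin, hH⟩ := exists_finiteIndex_inf_le A' htors H'.toSubgroup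
  let Hn : FiniteIndexNormalSubgroup G := { toSubgroup := H, isFiniteIndex' := hHfin }
  let J' : FiniteIndexNormalSubgroup G' := Hn.comap i.hom
  have hJ'le : J' ≤ H' := by
    intro a ha
    exact hH a ha
  -- it suffices that x.val J' = 1
  suffices hxJ : x.val J' = 1 by
    have := x.property (homOfLE hJ'le)
    rw [← this, hxJ]
    exact map_one _
  -- the injection A'/J' → A/H
  let ι : (A' ⧸ J'.toSubgroup) →* (A ⧸ H) :=
    QuotientGroup.map J'.toSubgroup H A'.subtype (fun a ha => ha)
  have hι : Function.Injective ι := by
    rw [injective_iff_map_eq_one]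
    intro b hb
    obtain ⟨a, rfl⟩ := QuotientGroup.mk_surjective b
    have h1 : (QuotientGroup.mk (a : A) : A ⧸ H) = 1 := hb
    rw [QuotientGroup.eq_one_iff] at h1
    exact (QuotientGroup.eq_one_iff a).2 h1
  let m₁ : completion G' ⟶ (diagram G).obj Hn :=
    profiniteCompletion.map i ≫ (limitCone (diagram G)).π.app Hn
  let m₂ : completion G' ⟶ (diagram G).obj Hn :=
    (limitCone (diagram G')).π.app J' ≫ ofFiniteGrpHom (FiniteGrp.ofHom ι)
  have hm : ∀ y : completion G', m₁.hom y = m₂.hom y := by
    intro y
    have := congrFun (eq_of_eq_on_etaFn (G := G') (fun y => m₁.hom y) (fun y => m₂.hom y)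
      m₁.hom.continuous_toFun m₂.hom.continuous_toFun (by
        intro a
        change ((limitCone (diagram G)).π.app Hn).hom (I (etaFn G' a)) = _
        rw [hIeta]
        rfl)) y
    exact this
  have h1 : m₁.hom x = 1 := by
    change ((limitCone (diagram G)).π.app Hn).hom (I x) = 1
    rw [hx]
    exact map_one _
  rw [hm x] at h1
  have h2 : ι (x.val J') = 1 := h1
  exact hι (h2.trans (map_one ι).symm)

end Groth.Agent.S13378
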