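import Groth.Statements.S13379
import Groth.Agent.Lib.Helper7.ProfCompl
-- import your own Groth.Agent.* helpers here

set_option autoImplicit false
universe u
open ProCompl

namespace Groth.Agent.S13379

/-- Profinite completion is right exact: for an abelian group A (written multiplicatively, discrete) and
a subgroup A', the map on profinite completions induced by A → A/A' is surjective and its kernel is
the image of the completion of A'. (The published statement is right-exactness for topological
abelian groups with completions formed from open subgroups of finite index; this row is the case of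
the discrete topology.) -/
theorem result (A : Type u) [CommGroup A] (A' : Subgroup A) :
    Function.Surjective (ProfiniteGrp.profiniteCompletion.map (GrpCat.ofHom (QuotientGroup.mk' A'))).hom ∧
      (ProfiniteGrp.profiniteCompletion.map (GrpCat.ofHom (QuotientGroup.mk' A'))).hom.toMonoidHom.ker =
        (ProfiniteGrp.profiniteCompletion.map (GrpCat.ofHom A'.subtype)).hom.toMonoidHom.range := by
  open ProfiniteGrp ProfiniteGrp.ProfiniteCompletion CategoryTheory Groth.Agent.Helper7.PC in
  classical
  let G : GrpCat.{u} := GrpCat.of A
  let G' : GrpCat.{u} := GrpCat.of A'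
  let Q : GrpCat.{u} := GrpCat.of (A ⧸ A')
  let f : G ⟶ Q := GrpCat.ofHom (QuotientGroup.mk' A')
  let i : G' ⟶ G := GrpCat.ofHom A'.subtype
  set F := (profiniteCompletion.map f).hom with hF
  set I := (profiniteCompletion.map i).hom with hI
  have hFeta : ∀ a : A, F (etaFn G a) = etaFn Q (QuotientGroup.mk a) := fun a => map_etaFn f a
  have hIeta : ∀ a : A', I (etaFn G' a) = etaFn G (a : A) := fun a => map_etaFn i a
  have hFcont : Continuous F := F.continuous_toFun
  have hIcont : Continuous I := I.continuous_toFun
  -- surjectivity
  have hsurj : Function.Surjective F := by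
    have hclosed : IsClosed (Set.range F) := (isCompact_range hFcont).isClosed
    have hsub : Set.range (etaFn Q) ⊆ Set.range F := by
      rintro _ ⟨b, rfl⟩
      obtain ⟨a, rfl⟩ := QuotientGroup.mk'_surjective A' b
      exact ⟨etaFn G a, hFeta a⟩
    intro y
    have hy : y ∈ closure (Set.range (etaFn Q)) := (denseRange Q) y
    exact closure_minimal hsub hclosed hy
  refine ⟨hsurj, ?_⟩
  apply le_antisymm
  · -- kernel ⊆ range
    suffices main : ∀ x : completion G, F x = 1 → ∃ y : completion G', I y = x by
      intro x hx
      exact main x (MonoidHom.mem_ker.1 hx)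
    intro x hx'
    by_contra hxK0
    have hxK : x ∉ I.toMonoidHom.range := hxK0
    -- commutativity of the completion
    have hcomm1 : ∀ (a : A) (b : completion G), etaFn G a * b = b * etaFn G a := by
      intro a b
      have := congrFun (eq_of_eq_on_etaFn (G := G) (fun b => etaFn G a * b) (fun b => b * etaFn G a)
        (continuous_const.mul continuous_id) (continuous_id.mul continuous_const) (by
          intro c
          change (eta G).hom a * (eta G).hom c = (eta G).hom c * (eta G).hom a
          rw [← map_mul, ← map_mul, mul_comm])) b
      exact this
    have hcomm : ∀ (a b : completion G), a * b = b * a := by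
      intro a b
      have := congrFun (eq_of_eq_on_etaFn (G := G) (fun a => a * b) (fun a => b * a)
        (continuous_id.mul continuous_const) (continuous_const.mul continuous_id) (by
          intro c
          exact hcomm1 c b)) a
      exact this
    -- the closed subgroup K = range I
    let K : ClosedSubgroup (completion G) :=
      { toSubgroup := I.toMonoidHom.range
        isClosed' := (isCompact_range hIcont).isClosed }
    have hxK' : x ∉ (K : Subgroup (completion G)) := hxK
    rw [closedSubgroup_eq_sInf_open K, Subgroup.mem_sInf] at hxK'
    push Not at hxK'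
    obtain ⟨N, ⟨hNopen, hKN⟩, hxN⟩ := hxK'
    have hNn : N.Normal := ⟨fun n hn g => by rw [hcomm g n, mul_inv_cancel_right]; exact hn⟩
    let U : OpenNormalSubgroup (completion G) :=
      { toSubgroup := N
        isOpen' := hNopen
        isNormal' := hNn }
    let q := ProfiniteGrp.proj U
    have hq : ∀ y, q.hom y = (QuotientGroup.mk y : completion G ⧸ N) := fun y => rfl
    let g₀ : A →* (completion G ⧸ N) := (QuotientGroup.mk' N).comp (eta G).hom
    have hg₀ : A' ≤ g₀.ker := by
      intro a ha
      rw [MonoidHom.mem_ker]
      change (QuotientGroup.mk (etaFn G a) : completion G ⧸ N) = 1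
      rw [QuotientGroup.eq_one_iff]
      apply hKN
      exact ⟨etaFn G' ⟨a, ha⟩, hIeta ⟨a, ha⟩⟩
    let g : (A ⧸ A') →* (completion G ⧸ N) := QuotientGroup.lift A' g₀ hg₀
    let gq : Q ⟶ GrpCat.of ((ProfiniteGrp.diagram (completion G)).obj U) := GrpCat.ofHom g
    let ghat := lift gq
    have hkey : ∀ y : completion G, ghat.hom (F y) = q.hom y := by
      intro y
      have := congrFun (eq_of_eq_on_etaFn (G := G) (fun y => ghat.hom (F y)) (fun y => q.hom y)
        (ghat.hom.continuous_toFun.comp hFcont) q.hom.continuous_toFun (by
          intro a
          change ghat.hom (F (etaFn G a)) = q.hom (etaFn G a)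
          rw [hFeta, lift_etaFn]
          rfl)) y
      exact this
    have h1 : q.hom x = 1 := by
      have h2 := hkey x
      have h3 : ghat.hom (F x) = 1 := by
        have h5 : F x = (1 : completion Q) := hx'
        rw [h5]; exact map_one ghat.hom
      exact h2.symm.trans h3
    have h4 : (QuotientGroup.mk x : completion G ⧸ N) = 1 := h1
    exact hxN ((QuotientGroup.eq_one_iff x).1 h4)
  · rintro _ ⟨y, rfl⟩
    rw [MonoidHom.mem_ker]
    have := congrFun (eq_of_eq_on_etaFn (G := G') (fun y => F (I y)) (fun _ => 1)
      (hFcont.comp hIcont) continuous_const (by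
        intro a
        change F (I (etaFn G' a)) = 1
        rw [hIeta, hFeta]
        have : (QuotientGroup.mk (a : A) : A ⧸ A') = 1 := (QuotientGroup.eq_one_iff _).2 a.2
        rw [this]
        rfl)) y
    exact this

end Groth.Agent.S13379
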