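import Groth.Statements.S13387
import Mathlib

set_option autoImplicit false
universe u
open ZeroCyc

namespace Groth.Agent.S13387

open DividedPowerAlgebra

theorem two_var_cramer {A M : Type u} [CommRing A] [AddCommGroup M] [Module A M] (e : ℕ)
    (a : Fin e → A) (x y : M) (c b : ℕ) (hab : c + b = e) :
    (Matrix.vandermonde a).det • (dp A c x * dp A b y) ∈
      Submodule.span A (Set.range (dp A e : M → DividedPowerAlgebra A M)) := by
  classical
  by_cases hbe : b = e
  · have hc : c = 0 := by omega
    subst hc
    rw [dp_zero, one_mul, hbe]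
    exact Submodule.smul_mem _ _ (Submodule.subset_span ⟨y, rfl⟩)
  set V := Matrix.vandermonde a with hV
  let v : Fin e → DividedPowerAlgebra A M := fun k => dp A (k : ℕ) y * dp A (e - k) x
  let u : Fin e → DividedPowerAlgebra A M := fun i => dp A e (a i • y + x) - a i ^ e • dp A e y
  have hu : ∀ i, u i = ∑ k, V i k • v k := by
    intro i
    simp only [u, v, hV, Matrix.vandermonde_apply]
    rw [dp_add, Finset.Nat.sum_antidiagonal_eq_sum_range_succ
      (fun p q => dp A p (a i • y) * dp A q x), Finset.sum_range_succ, Nat.sub_self, dp_zero,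
      mul_one, dp_smul, add_sub_cancel_right, Finset.sum_range]
    refine Finset.sum_congr rfl fun k _ => ?_
    rw [dp_smul, smul_mul_assoc]
  have humem : ∀ i, u i ∈ Submodule.span A (Set.range (dp A e : M → DividedPowerAlgebra A M)) :=
    fun i => Submodule.sub_mem _ (Submodule.subset_span ⟨_, rfl⟩)
      (Submodule.smul_mem _ _ (Submodule.subset_span ⟨_, rfl⟩))
  have hv : ∀ k, V.det • v k = ∑ i, V.adjugate k i • u i := by
    intro k
    have hVV : V.adjugate * V = V.det • 1 := Matrix.adjugate_mul V
    calc V.det • v k = ∑ j, (V.det • (1 : Matrix (Fin e) (Fin e) A)) k j • v j := by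
          simp [Matrix.one_apply, Matrix.smul_apply]
      _ = ∑ j, (V.adjugate * V) k j • v j := by rw [hVV]
      _ = ∑ j, ∑ i, (V.adjugate k i * V i j) • v j := by
          simp [Matrix.mul_apply, Finset.sum_smul]
      _ = ∑ i, V.adjugate k i • ∑ j, V i j • v j := by
          rw [Finset.sum_comm]
          simp [Finset.smul_sum, mul_smul]
      _ = ∑ i, V.adjugate k i • u i := by simp [hu]
  have hb : b < e := by omega
  have : dp A c x * dp A b y = v ⟨b, hb⟩ := by
    simp only [v]
    rw [mul_comm]
    congr 2
    omega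
  rw [this, hv]
  exact Submodule.sum_mem _ fun i _ => Submodule.smul_mem _ _ (humem i)

theorem det_notMem {A : Type u} [CommRing A] (p : Ideal A) [p.IsPrime] (e : ℕ) (a : Fin e → A)
    (ha : ∀ i j, i ≠ j → a i - a j ∉ p) : (Matrix.vandermonde a).det ∉ p := by
  classical
  rw [Matrix.det_vandermonde]
  intro h
  obtain ⟨i, _, hi⟩ := (Ideal.IsPrime.prod_mem_iff).mp h
  obtain ⟨j, hj, hij⟩ := (Ideal.IsPrime.prod_mem_iff).mp hi
  exact ha j i (ne_of_gt (Finset.mem_Ioi.mp hj)) hij

theorem caseA {A M : Type u} [CommRing A] [AddCommGroup M] [Module A M] (p : Ideal A)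
    [p.IsPrime] (d : ℕ) (a : Fin d → A) (ha : ∀ i j, i ≠ j → a i - a j ∉ p) :
    ∀ (n e : ℕ) (_ : e ≤ d) (k : Fin n → ℕ) (m : Fin n → M), ∑ i, k i = e →
      ∃ s, s ∉ p ∧ s • ∏ i, dp A (k i) (m i) ∈
        Submodule.span A (Set.range (dp A e : M → DividedPowerAlgebra A M)) := by
  intro n
  induction n with
  | zero =>
    intro e _ k m hk
    simp only [Finset.univ_eq_empty, Finset.sum_empty, Finset.prod_empty] at hk ⊢
    subst hk
    exact ⟨1, fun h => Ideal.IsPrime.ne_top ‹_› ((Ideal.eq_top_iff_one _).mpr h),
      by rw [one_smul]; exact Submodule.subset_span ⟨0, dp_zero⟩⟩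
  | succ n ih =>
    intro e he k m hk
    rw [Fin.sum_univ_succ] at hk
    rw [Fin.prod_univ_succ]
    obtain ⟨s', hs', h1⟩ :=
      ih (∑ i : Fin n, k i.succ) (by omega) (fun i => k i.succ) (fun i => m i.succ) rfl
    set ae : Fin e → A := fun i => a (Fin.castLE he i) with hae
    have hD : (Matrix.vandermonde ae).det ∉ p := by
      apply det_notMem
      intro i j hij
      apply ha
      intro h
      exact hij (Fin.castLE_injective he h)
    have key : ∀ z ∈ Submodule.span A
        (Set.range (dp A (∑ i : Fin n, k i.succ) : M → DividedPowerAlgebra A M)),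
        (Matrix.vandermonde ae).det • (dp A (k 0) (m 0) * z) ∈
          Submodule.span A (Set.range (dp A e : M → DividedPowerAlgebra A M)) := by
      intro z hz
      refine Submodule.span_induction (p := fun z _ =>
        (Matrix.vandermonde ae).det • (dp A (k 0) (m 0) * z) ∈
          Submodule.span A (Set.range (dp A e : M → DividedPowerAlgebra A M))) ?_ ?_ ?_ ?_ hz
      · rintro _ ⟨y, rfl⟩
        exact two_var_cramer e ae (m 0) y (k 0) _ hk
      · simp
      · intro z w _ _ hz hw
        rw [mul_add, smul_add]
        exact add_mem hz hw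
      · intro c z _ hz
        rw [mul_smul_comm, smul_comm]
        exact Submodule.smul_mem _ _ hz
    refine ⟨(Matrix.vandermonde ae).det * s', fun h => ?_, ?_⟩
    · rcases (Ideal.IsPrime.mem_or_mem ‹_› h) with h | h
      · exact hD h
      · exact hs' h
    · have := key _ h1
      rwa [mul_smul_comm, smul_smul] at this

theorem caseB {A M : Type u} [CommRing A] [AddCommGroup M] [Module A M] (p : Ideal A)
    [p.IsPrime] (m₀ : M) (hcyc : ∀ m : M, ∃ s, s ∉ p ∧ ∃ a : A, s • m = a • m₀)
    (n : ℕ) (k : Fin n → ℕ) (m : Fin n → M) :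
    ∃ s, s ∉ p ∧ s • ∏ i, dp A (k i) (m i) ∈
      Submodule.span A (Set.range (dp A (∑ i, k i) : M → DividedPowerAlgebra A M)) := by
  classical
  choose s hs a hsa using hcyc
  refine ⟨∏ i, s (m i) ^ k i, ?_, ?_⟩
  · intro h
    obtain ⟨i, _, hi⟩ := (Ideal.IsPrime.prod_mem_iff).mp h
    exact hs (m i) (Ideal.IsPrime.mem_of_pow_mem ‹_› _ hi)
  · rw [← Finset.prod_smul]
    have : ∀ i, s (m i) ^ k i • dp A (k i) (m i) = a (m i) ^ k i • dp A (k i) m₀ := by
      intro i
      rw [← dp_smul, hsa, dp_smul]
    simp_rw [this]
    rw [Finset.prod_smul, prod_dp, ← nsmul_eq_mul]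
    exact Submodule.smul_mem _ _ (Submodule.smul_of_tower_mem _ _ (Submodule.subset_span ⟨m₀, rfl⟩))

/-- Let A be a commutative ring, M an A-module and d ≥ 0. Suppose that at each prime p of A either k(p)
has d or more elements, or the localisation M_p is a cyclic A_p-module. Then the degree-d piece
Γ^d_A(M) of the divided power algebra Γ_A(M) is spanned over A by the d-th divided powers γ_d(m), m
∈ M. -/
theorem result {A M : Type u} [CommRing A] [AddCommGroup M]
    [Module A M] (d : ℕ)
    (h : ∀ p : PrimeSpectrum A, (d : Cardinal) ≤ Cardinal.mk p.asIdeal.ResidueField ∨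
      ∃ x : LocalizedModule p.asIdeal.primeCompl M, Submodule.span (Localization.AtPrime p.asIdeal) {x} = ⊤) :
    Submodule.span A (Set.range (DividedPowerAlgebra.dp A d : M → DividedPowerAlgebra A M)) =
      PolLaw.gammaPiece A M d := by
  classical
  apply le_antisymm
  · rw [Submodule.span_le]
    rintro _ ⟨m, rfl⟩
    exact Submodule.subset_span ⟨1, fun _ => d, fun _ => m, by simp, by simp⟩
  · unfold PolLaw.gammaPiece
    rw [Submodule.span_le]
    rintro _ ⟨n, k, m, hk, rfl⟩
    by_contra hg
    set N := Submodule.span A (Set.range (dp A d : M → DividedPowerAlgebra A M)) with hN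
    set g := ∏ i, dp A (k i) (m i) with hgdef
    have hI : N.colon {g} ≠ ⊤ := by
      intro htop
      have h1 : (1 : A) ∈ N.colon {g} := by rw [htop]; trivial
      rw [Submodule.mem_colon_singleton, one_smul] at h1
      exact hg h1
    obtain ⟨P, hPmax, hIP⟩ := Ideal.exists_le_maximal _ hI
    haveI : P.IsPrime := hPmax.isPrime
    have hex : ∃ s, s ∉ P ∧ s • g ∈ N := by
      rcases h ⟨P, inferInstance⟩ with hcard | ⟨x₀, hx₀⟩
      · -- large residue field
        have hc : (d : Cardinal.{u}) ≤ Cardinal.mk (A ⧸ P) := by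
          have h1 := IsLocalization.lift_cardinalMk (R := A ⧸ P) P.ResidueField
            (nonZeroDivisors (A ⧸ P)) le_rfl
          simp only [Cardinal.lift_id] at h1
          rw [← h1]
          exact hcard
        have hemb : Nonempty (Fin d ↪ A ⧸ P) := by
          rw [← Cardinal.lift_mk_le', Cardinal.mk_fin, Cardinal.lift_natCast]
          simpa using hc
        obtain ⟨ι⟩ := hemb
        choose a ha using fun i => Ideal.Quotient.mk_surjective (ι i)
        have hne : ∀ i j, i ≠ j → a i - a j ∉ P := by
          intro i j hij hmem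
          apply hij
          apply ι.injective
          rw [← ha i, ← ha j]
          exact (Ideal.Quotient.eq).mpr hmem
        exact caseA P d a hne n d le_rfl k m hk
      · -- cyclic
        induction x₀ using LocalizedModule.induction_on with
        | h m₀ s₀ =>
        have hcyc : ∀ m' : M, ∃ s, s ∉ P ∧ ∃ a : A, s • m' = a • m₀ := by
          intro m'
          have hm : LocalizedModule.mk m' (1 : P.primeCompl) ∈
              Submodule.span (Localization.AtPrime P) {LocalizedModule.mk m₀ s₀} := by
            rw [hx₀]; trivial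
          obtain ⟨r, hr⟩ := Submodule.mem_span_singleton.mp hm
          induction r using Localization.induction_on with
          | H y =>
          obtain ⟨a, t⟩ := y
          rw [LocalizedModule.mk_smul_mk, LocalizedModule.mk_eq] at hr
          obtain ⟨u, hu⟩ := hr
          refine ⟨(u : A) * ((t : A) * (s₀ : A)), ?_, (u : A) * a, ?_⟩
          · exact (u * (t * s₀)).2
          · simp only [Submonoid.smul_def, one_smul, Submonoid.coe_mul] at hu
            rw [mul_smul, mul_smul, mul_smul]
            rw [hu, mul_smul]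
        have := caseB P m₀ hcyc n k m
        rw [hk] at this
        exact this
    obtain ⟨s, hsP, hs⟩ := hex
    exact hsP (hIP (Submodule.mem_colon_singleton.mpr hs))

end Groth.Agent.S13387
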