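import Groth.Statements.S13389
import Mathlib

set_option autoImplicit false
universe u
open ZeroCyc

namespace Groth.Agent.S13389

open DividedPowerAlgebra

theorem two_var {A M : Type u} [CommRing A] [AddCommGroup M] [Module A M] (t : A) (e : ℕ)
    (hunit : IsUnit (Matrix.vandermonde (fun i : Fin (e + 1) => t ^ (i : ℕ))).det)
    (x y : M) (a b : ℕ) (hab : a + b = e) :
    dp A a x * dp A b y ∈
      Submodule.span A (Set.range (dp A e : M → DividedPowerAlgebra A M)) := by
  classical
  set V := Matrix.vandermonde (fun i : Fin (e + 1) => t ^ (i : ℕ)) with hV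
  let v : Fin (e + 1) → DividedPowerAlgebra A M := fun k => dp A (k : ℕ) y * dp A (e - k) x
  let u : Fin (e + 1) → DividedPowerAlgebra A M := fun i => dp A e (t ^ (i : ℕ) • y + x)
  have hu : ∀ i, u i = ∑ k, V i k • v k := by
    intro i
    simp only [u, v, hV, Matrix.vandermonde_apply]
    rw [dp_add, Finset.Nat.sum_antidiagonal_eq_sum_range_succ
      (fun p q => dp A p (t ^ (i : ℕ) • y) * dp A q x), Finset.sum_range]
    refine Finset.sum_congr rfl fun k _ => ?_
    rw [dp_smul, smul_mul_assoc]
  have hv : ∀ k, v k = ∑ i, V⁻¹ k i • u i := by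
    intro k
    have hVV : V⁻¹ * V = 1 := Matrix.nonsing_inv_mul V hunit
    calc v k = ∑ j, (1 : Matrix (Fin (e + 1)) (Fin (e + 1)) A) k j • v j := by
          simp [Matrix.one_apply]
      _ = ∑ j, (V⁻¹ * V) k j • v j := by rw [hVV]
      _ = ∑ j, ∑ i, (V⁻¹ k i * V i j) • v j := by
          simp [Matrix.mul_apply, Finset.sum_smul]
      _ = ∑ i, V⁻¹ k i • ∑ j, V i j • v j := by
          rw [Finset.sum_comm]
          simp [Finset.smul_sum, mul_smul]
      _ = ∑ i, V⁻¹ k i • u i := by simp [hu]
  have hb : b < e + 1 := by omega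
  have : dp A a x * dp A b y = v ⟨b, hb⟩ := by
    simp only [v]
    rw [mul_comm]
    congr 2
    omega
  rw [this, hv]
  exact Submodule.sum_mem _ fun i _ => Submodule.smul_mem _ _ (Submodule.subset_span ⟨_, rfl⟩)

theorem dp_prod_mem {A M : Type u} [CommRing A] [AddCommGroup M] [Module A M] (t : A) (d : ℕ)
    (hunit : ∀ e ≤ d, IsUnit (Matrix.vandermonde (fun i : Fin (e + 1) => t ^ (i : ℕ))).det) :
    ∀ (n : ℕ) (e : ℕ), e ≤ d → ∀ (k : Fin n → ℕ) (m : Fin n → M), ∑ i, k i = e →
      ∏ i, dp A (k i) (m i) ∈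
        Submodule.span A (Set.range (dp A e : M → DividedPowerAlgebra A M)) := by
  intro n
  induction n with
  | zero =>
    intro e _ k m hk
    simp only [Finset.univ_eq_empty, Finset.sum_empty, Finset.prod_empty] at hk ⊢
    subst hk
    exact Submodule.subset_span ⟨0, dp_zero⟩
  | succ n ih =>
    intro e he k m hk
    rw [Fin.sum_univ_succ] at hk
    rw [Fin.prod_univ_succ]
    have h1 := ih (∑ i : Fin n, k i.succ) (by omega) (fun i => k i.succ) (fun i => m i.succ) rfl
    refine Submodule.span_induction (p := fun z _ => dp A (k 0) (m 0) * z ∈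
        Submodule.span A (Set.range (dp A e : M → DividedPowerAlgebra A M))) ?_ ?_ ?_ ?_ h1
    · rintro _ ⟨y, rfl⟩
      exact two_var t e (hunit e he) (m 0) y (k 0) _ hk
    · simp
    · intro z w _ _ hz hw
      rw [mul_add]
      exact add_mem hz hw
    · intro a z _ hz
      rw [mul_smul_comm]
      exact Submodule.smul_mem _ _ hz

open Polynomial in
/-- Let P_d(T) = ∏_{0 ≤ i < j ≤ d} (T^i − T^j) − 1 ∈ ℤ[T]. If A is an algebra over ℤ[T]/(P_d), i.e.
receives a ring homomorphism from it, then for every A-module M the degree-d piece Γ^d_A(M) of the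
divided power algebra Γ_A(M) is spanned over A by the d-th divided powers γ_d(m), m ∈ M. (The
published statement adds that consequently every ring has a finite faithfully flat extension,
independent of M, over which this holds; that clause is not restated.) -/
theorem result {A M : Type u} [CommRing A] [AddCommGroup M]
    [Module A M] (d : ℕ)
    (φ : (ℤ[X] ⧸ Ideal.span {(∏ j ∈ Finset.range (d + 1), ∏ i ∈ Finset.range j,
        ((X : ℤ[X]) ^ i - X ^ j)) - 1}) →+* A) :
    Submodule.span A (Set.range (DividedPowerAlgebra.dp A d : M → DividedPowerAlgebra A M)) =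
      PolLaw.gammaPiece A M d := by
  classical
  set t : A := φ (Ideal.Quotient.mk _ Polynomial.X) with ht
  have hprod : ∏ j ∈ Finset.range (d + 1), ∏ i ∈ Finset.range j, (t ^ i - t ^ j) = 1 := by
    have h0 : (Ideal.Quotient.mk (Ideal.span {(∏ j ∈ Finset.range (d + 1), ∏ i ∈ Finset.range j,
        ((Polynomial.X : Polynomial ℤ) ^ i - Polynomial.X ^ j)) - 1}))
        ((∏ j ∈ Finset.range (d + 1), ∏ i ∈ Finset.range j,
        ((Polynomial.X : Polynomial ℤ) ^ i - Polynomial.X ^ j)) - 1) = 0 :=
      Ideal.Quotient.eq_zero_iff_mem.mpr (Ideal.subset_span rfl)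
    have h1 := congrArg φ h0
    rw [map_zero, map_sub, map_sub, map_one, map_one, sub_eq_zero] at h1
    simp only [map_prod, map_sub, map_pow] at h1
    exact h1
  have hfac : ∀ i j : ℕ, i < j → j ≤ d → IsUnit (t ^ i - t ^ j) := by
    intro i j hij hjd
    apply isUnit_of_dvd_one
    rw [← hprod]
    exact (Finset.dvd_prod_of_mem _ (Finset.mem_range.mpr hij)).trans
      (Finset.dvd_prod_of_mem (fun j => ∏ i ∈ Finset.range j, (t ^ i - t ^ j))
        (Finset.mem_range.mpr (by omega)))
  have hunit : ∀ e ≤ d, IsUnit (Matrix.vandermonde (fun i : Fin (e + 1) => t ^ (i : ℕ))).det := by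
    intro e he
    rw [Matrix.det_vandermonde]
    refine Finset.prod_induction _ IsUnit (fun _ _ => IsUnit.mul) isUnit_one fun i _ => ?_
    refine Finset.prod_induction _ IsUnit (fun _ _ => IsUnit.mul) isUnit_one fun j hj => ?_
    have hij : (i : ℕ) < j := Fin.lt_def.mp (Finset.mem_Ioi.mp hj)
    have := hfac i j hij (by have := j.2; omega)
    rw [← neg_sub]
    exact this.neg
  apply le_antisymm
  · rw [Submodule.span_le]
    rintro _ ⟨m, rfl⟩
    exact Submodule.subset_span ⟨1, fun _ => d, fun _ => m, by simp, by simp⟩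
  · unfold PolLaw.gammaPiece
    rw [Submodule.span_le]
    rintro _ ⟨n, k, m, hk, rfl⟩
    exact dp_prod_mem t d hunit n d le_rfl k m hk

end Groth.Agent.S13389
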