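import Groth.Statements.S13398
import Mathlib
import Groth.Agent.H14Lib.GamN11

set_option autoImplicit false
universe u
open scoped TensorProduct
open ZeroCyc

namespace Groth.Agent.S13398


/-- Let A be a commutative ring, B an A-algebra, d ≥ 0, and let (C, γ) be the degree-d divided power
algebra Γ^d_A(B) with its universal multiplicative law γ : B → C of degree d (every multiplicative
law of degree d out of B factors uniquely through γ). Let φ : Γ^d_A(B) → TS^d_A(B) be the canonical
homomorphism to the symmetric tensors, taken here as data characterised by: after any base change S,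
φ ∘ γ sends Σ_j s_j ⊗ b_j to Σ_{c : [d] → [n]} (∏_i s_{c(i)}) ⊗ (b_{c(1)} ⊗ ⋯ ⊗ b_{c(d)}), i.e. φ
corresponds to the law x ↦ x ⊗ ⋯ ⊗ x. Then x^{d!} = 0 for every x in the kernel of φ, and y^{d!}
lies in the image of φ for every symmetric tensor y ∈ TS^d_A(B). -/
theorem result {A B C : Type u} [CommRing A] [CommRing B] [Algebra A B] [CommRing C] [Algebra A C] (d : ℕ)
    (γ : PolLaw.MulLaw A B C d) (hγ : PolLaw.IsGammaD γ) (φ : C →ₐ[A] SymTen.TS A B d)
    (hφ : ∀ (S : Type u) [CommSemiring S] [Algebra A S] (n : ℕ) (s : Fin n → S) (b : Fin n → B),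
      ((SymTen.TS A B d).val.comp φ).toLinearMap.lTensor S (γ.law.toFun' S (∑ j, s j ⊗ₜ[A] b j)) =
        ∑ c : Fin d → Fin n, (∏ i, s (c i)) ⊗ₜ[A] PiTensorProduct.tprod A (fun i => b (c i))) :
    (∀ x : C, φ x = 0 → x ^ d.factorial = 0) ∧
      (∀ y : SymTen.TS A B d, y ^ d.factorial ∈ φ.range) := by
  obtain ⟨F, h1, h2⟩ := Groth.Agent.H14Lib.GamN.exists_normLaw γ hγ ((SymTen.TS A B d).val.comp φ) hφ
  constructor
  · intro x hx
    apply Groth.Agent.H14Lib.GamN.normLaw_pow F _ h2 x
    show (SymTen.TS A B d).val (φ x) = 0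
    rw [hx, map_zero]
  · intro y
    refine ⟨F.law.ground y.1, ?_⟩
    apply Subtype.ext
    have h := Groth.Agent.H14Lib.GamN.normLaw_ground F _ h1 y.1
    change (SymTen.TS A B d).val (φ (F.law.ground y.1)) = _ at h
    show (SymTen.TS A B d).val (φ (F.law.ground y.1)) = ((y ^ d.factorial : SymTen.TS A B d) : ⨂[A] _ : Fin d, B)
    rw [h]
    have hy : ∀ σ : Equiv.Perm (Fin d), SymTen.perm A B d σ y.1 = y.1 := by
      intro σ
      rw [SymTen.perm_apply]
      exact y.2 σ
    rw [Finset.prod_congr rfl (fun σ _ => hy σ), Finset.prod_const, Finset.card_univ,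
      Fintype.card_perm, Fintype.card_fin]
    rfl

end Groth.Agent.S13398
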