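import Groth.Statements.S13399
import Mathlib
import Groth.Agent.H14Lib.GammaGen

set_option autoImplicit false
universe u
open scoped TensorProduct
open ZeroCyc

namespace Groth.Agent.S13399

open Groth.Agent.H14Lib.CH MvPolynomial

section Aux
variable {A B Cd Ce : Type u} [CommRing A] [CommRing B] [Algebra A B]
  [CommRing Cd] [Algebra A Cd] [CommRing Ce] [Algebra A Ce]

theorem lid_lTensor' {N N' : Type u} [AddCommGroup N] [Module A N]
    [AddCommGroup N'] [Module A N'] (f : N →ₗ[A] N') (z : A ⊗[A] N) :
    TensorProduct.lid A N' (f.lTensor A z) = f (TensorProduct.lid A N z) := by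
  induction z using TensorProduct.induction_on with
  | zero => simp
  | tmul a n => simp
  | add x y hx hy => simp only [map_add, hx, hy]

/-- coefficients along a finite set are combinations of coefficients along a larger set -/
theorem cf_mem_span_of_subset (γ : B →ₚₗ[A] Ce) {Λ Λ' : Finset B} (hΛ : Λ ⊆ Λ') (ν : B →₀ ℕ) :
    cf γ (fun b => b) Λ ν ∈ Submodule.span A (Set.range fun μ => cf γ (fun b => b) Λ' μ) := by
  classical
  set S := MvPolynomial B A
  let a : B → S := fun b => if b ∈ Λ then (X b : S) else 0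
  have h1 : gen (A := A) (fun b : B => b) Λ = ∑ b ∈ Λ', a b ⊗ₜ[A] b := by
    rw [gen]
    have : ∀ b ∈ Λ, (X b : S) ⊗ₜ[A] b = a b ⊗ₜ[A] b := by
      intro b hb
      simp only [a, if_pos hb]
    rw [Finset.sum_congr rfl this]
    apply Finset.sum_subset hΛ
    intro b _ hb
    simp only [a, if_neg hb, TensorProduct.zero_tmul]
  rw [cf, gval, h1, spadeN γ (fun b => b) Λ' a, map_sum, map_sum]
  refine Submodule.sum_mem _ fun μ _ => ?_
  rw [kap_tmul, TensorProduct.lid_tmul]
  exact Submodule.smul_mem _ _ (Submodule.subset_span ⟨μ, rfl⟩)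

end Aux

/-- Let A be a commutative ring, B an A-algebra and e ≥ 0; let (C_{e+1}, γ_{e+1}) and (C_e, γ_e) be the
divided power algebras Γ^{e+1}_A(B) and Γ^e_A(B) of B with their universal multiplicative laws of
degrees e + 1 and e (every multiplicative law of that degree out of B factors uniquely through
them), and let ω : Γ^{e+1}_A(B) ⊗_A B → Γ^e_A(B) ⊗_A B be Iversen's canonical algebra homomorphism,
taken here as data characterised by ω(γ_{e+1}(x) ⊗ y) = γ_e(x) ⊗ x·y for all x, y ∈ S ⊗_A B and
every base change A → S. Then ω is surjective. -/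
theorem result {A B Cd Ce : Type u} [CommRing A] [CommRing B] [Algebra A B]
    [CommRing Cd] [Algebra A Cd] [CommRing Ce] [Algebra A Ce] (e : ℕ)
    (γd : PolLaw.MulLaw A B Cd (e + 1)) (hγd : PolLaw.IsGammaD γd)
    (γe : PolLaw.MulLaw A B Ce e) (hγe : PolLaw.IsGammaD γe)
    (ω : Cd ⊗[A] B →ₐ[A] Ce ⊗[A] B)
    (hω : ∀ (S : Type u) [CommSemiring S] [Algebra A S] (x y : S ⊗[A] B),
      ω.toLinearMap.lTensor S
        ((Algebra.TensorProduct.includeLeft : Cd →ₐ[A] Cd ⊗[A] B).toLinearMap.lTensor S (γd.law.toFun' S x) *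
          (Algebra.TensorProduct.includeRight : B →ₐ[A] Cd ⊗[A] B).toLinearMap.lTensor S y) =
      (Algebra.TensorProduct.includeLeft : Ce →ₐ[A] Ce ⊗[A] B).toLinearMap.lTensor S (γe.law.toFun' S x) *
        (Algebra.TensorProduct.includeRight : B →ₐ[A] Ce ⊗[A] B).toLinearMap.lTensor S (x * y)) :
    Function.Surjective ω := by
  classical
  -- step 2: `1 ⊗ b` is in the range
  have h1 : ∀ b : B, (1 : Ce) ⊗ₜ[A] b ∈ ω.range := by
    intro b
    have h := hω A 1 ((1 : A) ⊗ₜ[A] b)
    rw [(γd.mult A).1, (γe.mult A).1] at h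
    simp only [PolLaw.lTensor_algHom_apply, map_one, one_mul, Algebra.TensorProduct.map_tmul,
      AlgHom.coe_id, id_eq, Algebra.TensorProduct.includeRight_apply] at h
    have h2 := congrArg (TensorProduct.lid A (Ce ⊗[A] B)) h
    rw [TensorProduct.lid_tmul, TensorProduct.lid_tmul, one_smul, one_smul] at h2
    exact ⟨_, h2⟩
  -- the relation
  have hrel : ∀ (Λ : Finset B) (μ : B →₀ ℕ),
      (∑ b ∈ Λ, if b ∈ μ.support then
        cf γe.law (fun b => b) Λ (μ - Finsupp.single b 1) ⊗ₜ[A] b else 0) ∈ ω.range := by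
    intro Λ μ
    have h := hω (MvPolynomial B A) (gen (A := A) (fun b : B => b) Λ) 1
    have h2 := congrArg (fun z => TensorProduct.lid A (Ce ⊗[A] B)
      (kap (A := A) A B (Ce ⊗[A] B) μ z)) h
    beta_reduce at h2
    rw [kap_lTensor, lid_lTensor'] at h2
    refine ⟨_, h2.trans ?_⟩
    have hg : γe.law.toFun' (MvPolynomial B A) (gen (A := A) (fun b : B => b) Λ) =
        gval γe.law (fun b => b) Λ := rfl
    rw [mul_one, hg, gval_eq, gen, map_sum, map_sum, Finset.sum_mul_sum]
    simp only [map_sum]
    rw [Finset.sum_comm]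
    refine Finset.sum_congr rfl fun b _ => ?_
    have hterm : ∀ ν : B →₀ ℕ, TensorProduct.lid A (Ce ⊗[A] B) (kap (A := A) A B (Ce ⊗[A] B) μ
        ((Algebra.TensorProduct.includeLeft : Ce →ₐ[A] Ce ⊗[A] B).toLinearMap.lTensor
          (MvPolynomial B A) ((monomial ν (1 : A)) ⊗ₜ[A] cf γe.law (fun b => b) Λ ν) *
        (Algebra.TensorProduct.includeRight : B →ₐ[A] Ce ⊗[A] B).toLinearMap.lTensor
          (MvPolynomial B A) ((X b : MvPolynomial B A) ⊗ₜ[A] b))) =
        if b ∈ μ.support then (if ν = μ - Finsupp.single b 1 then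
          cf γe.law (fun b => b) Λ ν ⊗ₜ[A] b else 0) else 0 := by
      intro ν
      rw [LinearMap.lTensor_tmul, LinearMap.lTensor_tmul, Algebra.TensorProduct.tmul_mul_tmul,
        kap_tmul, TensorProduct.lid_tmul, coeff_mul_X', AlgHom.toLinearMap_apply,
        AlgHom.toLinearMap_apply, Algebra.TensorProduct.includeLeft_apply,
        Algebra.TensorProduct.includeRight_apply, Algebra.TensorProduct.tmul_mul_tmul, mul_one,
        one_mul, coeff_monomial]
      by_cases hb : b ∈ μ.support
      · by_cases hν : ν = μ - Finsupp.single b 1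
        · rw [if_pos hb, if_pos hb, if_pos hν, if_pos hν, one_smul]
        · rw [if_pos hb, if_pos hb, if_neg hν, if_neg hν, zero_smul]
      · rw [if_neg hb, if_neg hb, zero_smul]
    rw [Finset.sum_congr rfl (fun ν _ => hterm ν)]
    split_ifs with hb
    · rw [Finset.sum_ite_eq']
      split_ifs with hmem
      · rfl
      · rw [cf_eq_zero γe.law (fun b => b) Λ hmem, TensorProduct.zero_tmul]
    · exact Finset.sum_const_zero
  -- step 3: coefficients along sets containing `1`
  have hkey : ∀ (Λ : Finset B), (1 : B) ∈ Λ → ∀ (n : ℕ) (ν : B →₀ ℕ),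
      (∑ c ∈ Λ.erase 1, ν c) = n → cf γe.law (fun b => b) Λ ν ⊗ₜ[A] (1 : B) ∈ ω.range := by
    intro Λ h1Λ n
    induction n using Nat.strong_induction_on with
    | _ n ih =>
      intro ν hν
      have hr := hrel Λ (ν + Finsupp.single 1 1)
      rw [← Finset.add_sum_erase _ _ h1Λ] at hr
      have h1supp : (1 : B) ∈ (ν + Finsupp.single (1 : B) 1).support := by
        rw [Finsupp.mem_support_iff, Finsupp.add_apply, Finsupp.single_eq_same]
        omega
      rw [if_pos h1supp, add_tsub_cancel_right] at hr
      have hrest : (∑ b ∈ Λ.erase 1, if b ∈ (ν + Finsupp.single (1 : B) 1).support then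
          cf γe.law (fun b => b) Λ (ν + Finsupp.single 1 1 - Finsupp.single b 1) ⊗ₜ[A] b else 0)
          ∈ ω.range := by
        refine Subalgebra.sum_mem _ fun b hb => ?_
        split_ifs with hbs
        · have hb1 : b ≠ 1 := Finset.ne_of_mem_erase hb
          have hνb : 1 ≤ ν b := by
            rw [Finsupp.mem_support_iff, Finsupp.add_apply, Finsupp.single_apply,
              if_neg (Ne.symm hb1), add_zero] at hbs
            omega
          have hlt : (∑ c ∈ Λ.erase 1, ((ν + Finsupp.single (1 : B) 1 - Finsupp.single b 1 : B →₀ ℕ) c)) < n := by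
            rw [← hν]
            apply Finset.sum_lt_sum
            · intro c hc
              have hc1 : c ≠ 1 := Finset.ne_of_mem_erase hc
              rw [Finsupp.tsub_apply, Finsupp.add_apply, Finsupp.single_apply,
                if_neg (Ne.symm hc1), add_zero]
              exact Nat.sub_le _ _
            · refine ⟨b, hb, ?_⟩
              rw [Finsupp.tsub_apply, Finsupp.add_apply, Finsupp.single_apply,
                if_neg (Ne.symm hb1), add_zero, Finsupp.single_eq_same]
              omega
          have := ih _ hlt _ rfl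
          have hmul := Subalgebra.mul_mem _ this (h1 b)
          rw [Algebra.TensorProduct.tmul_mul_tmul, mul_one, one_mul] at hmul
          exact hmul
        · exact Subalgebra.zero_mem _
      have := Subalgebra.sub_mem _ hr hrest
      rw [add_sub_cancel_right] at this
      exact this
  -- step 4: all coefficients
  set j : Ce →ₗ[A] Ce ⊗[A] B := (TensorProduct.mk A Ce B).flip 1 with hj
  have hj' : ∀ c : Ce, j c = c ⊗ₜ[A] (1 : B) := fun c => rfl
  have hall : ∀ (Λ : Finset B) (ν : B →₀ ℕ),
      cf γe.law (fun b => b) Λ ν ∈ Submodule.comap j (Subalgebra.toSubmodule ω.range) := by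
    intro Λ ν
    have hmem := cf_mem_span_of_subset γe.law (Finset.subset_insert (1 : B) Λ) ν
    have hle : Submodule.span A (Set.range fun μ => cf γe.law (fun b => b) (insert 1 Λ) μ) ≤
        Submodule.comap j (Subalgebra.toSubmodule ω.range) := by
      rw [Submodule.span_le]
      rintro _ ⟨μ, rfl⟩
      exact hkey (insert 1 Λ) (Finset.mem_insert_self _ _) _ μ rfl
    exact hle hmem
  have htop : ∀ c : Ce, c ⊗ₜ[A] (1 : B) ∈ ω.range := by
    intro c
    have hc : c ∈ coefSpan γe.law := by rw [coefSpan_eq_top γe hγe]; trivial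
    have hle : coefSpan γe.law ≤ Submodule.comap j (Subalgebra.toSubmodule ω.range) := by
      rw [coefSpan, Submodule.span_le]
      rintro _ ⟨Λ, ν, rfl⟩
      exact hall Λ ν
    exact hle hc
  intro z
  have hz : z ∈ ω.range := by
    induction z using TensorProduct.induction_on with
    | zero => exact Subalgebra.zero_mem _
    | tmul c b =>
      have := Subalgebra.mul_mem _ (htop c) (h1 b)
      rw [Algebra.TensorProduct.tmul_mul_tmul, mul_one, one_mul] at this
      exact this
    | add x y hx hy => exact Subalgebra.add_mem _ hx hy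
  exact hz

end Groth.Agent.S13399
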