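import Groth.Statements.S13409
import Mathlib
import Groth.Agent.Lib.Helper7.Comb7
-- import your own Groth.Agent.* helpers here

set_option autoImplicit false
universe u v
open CombGraph

namespace Groth.Agent.S13409

open Groth.Agent.Lib.Helper7.Comb7

/-- Let `A` be an abelian group and `G` a finite connected simple graph on `V` that is bipartite for a
two-colouring `c : V → Bool` (adjacent vertices get different colours). If `a : V → A` has the same
sum over the vertices of each colour, then some labelling `x` of the edges by elements of `A` has,
at every vertex `v`, the sum of `x` over the edges incident to `v` equal to `a v`. (The published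
statement concerns finite bipartite graphs in general; this row treats simple graphs.) -/
theorem result {V : Type u} [Fintype V] [DecidableEq V]
    (G : SimpleGraph V) [DecidableRel G.Adj] (hconn : G.Connected) (c : V → Bool)
    (hbip : ∀ v w : V, G.Adj v w → c v ≠ c w) (A : Type v) [AddCommGroup A] (a : V → A)
    (hsum : ∑ v ∈ Finset.univ.filter (fun v => c v = true), a v =
      ∑ v ∈ Finset.univ.filter (fun v => c v = false), a v) :
    ∃ x : Sym2 V → A, ∀ v : V, ∑ e ∈ G.incidenceFinset v, x e = a v := by
  classical
  obtain ⟨v0⟩ := hconn.nonempty
  let p : ∀ v, G.Walk v v0 := fun v => (hconn.preconnected v v0).some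
  let x : Sym2 V → A := ∑ v, alt G A (p v) (a v)
  refine ⟨x, fun z => ?_⟩
  have ht : ∑ v, (if c v = c v0 then a v else - a v) = 0 := by
    rw [Finset.sum_filter, Finset.sum_filter] at hsum
    cases h0 : c v0
    · have : ∀ v, (if c v = false then a v else - a v) =
          (if c v = false then a v else 0) - (if c v = true then a v else 0) := by
        intro v; cases c v <;> simp
      simp only [this, Finset.sum_sub_distrib, hsum, sub_self]
    · have : ∀ v, (if c v = true then a v else - a v) =
          (if c v = true then a v else 0) - (if c v = false then a v else 0) := by
        intro v; cases c v <;> simp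
      simp only [this, Finset.sum_sub_distrib, hsum, sub_self]
  have hbd : bd G x = a := by
    simp only [x, map_sum]
    simp only [bd_alt G G le_rfl c hbip]
    rw [Finset.sum_sub_distrib, Finset.univ_sum_single]
    have h2 : ∑ v, (if c v = c v0 then Pi.single v0 (a v) else -Pi.single v0 (a v) : V → A) = 0 := by
      have : ∀ v, (if c v = c v0 then Pi.single v0 (a v) else -Pi.single v0 (a v) : V → A)
           = AddMonoidHom.single (fun _ : V => A) v0 (if c v = c v0 then a v else - a v) := by
        intro v; split_ifs <;> simp [Pi.single_neg]
      simp only [this, ← map_sum]
      rw [ht, map_zero]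
    rw [h2, sub_zero]
  exact congrFun hbd z

end Groth.Agent.S13409
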