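import Groth.Statements.S13410
import Mathlib
import Groth.Agent.Lib.Helper7.Comb7
-- import your own Groth.Agent.* helpers here

set_option autoImplicit false
universe u v
open CombGraph

namespace Groth.Agent.S13410

open Groth.Agent.Lib.Helper7.Comb7

/-- Let `A` be an abelian group and `G` a finite connected simple graph on `V`, bipartite for a
two-colouring `c`. Consider the additive group of labellings `x : Sym2 V → A` vanishing off the edge
set and with `∑_{e ∋ v} x e = 0` at every vertex `v`. If `e₀` is an edge whose deletion leaves `G`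
connected, then evaluation at `e₀` restricted to this group is surjective and split: there is an
additive map `φ : A → (Sym2 V → A)` with values in this group and with `φ a e₀ = a` for all `a`.
(The published statement concerns finite bipartite graphs in general; this row treats simple
graphs.) -/
theorem result {V : Type u} [Fintype V]
    [DecidableEq V] (G : SimpleGraph V) [DecidableRel G.Adj] (hconn : G.Connected) (c : V → Bool)
    (hbip : ∀ v w : V, G.Adj v w → c v ≠ c w) (A : Type v) [AddCommGroup A] (e₀ : Sym2 V)
    (he₀ : e₀ ∈ G.edgeSet) (hdel : (G.deleteEdges {e₀}).Connected) :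
    ∃ φ : A →+ (Sym2 V → A),
      (∀ a : A, (∀ e : Sym2 V, e ∉ G.edgeSet → φ a e = 0) ∧
        ∀ v : V, ∑ e ∈ G.incidenceFinset v, φ a e = 0) ∧
      ∀ a : A, φ a e₀ = a := by
  classical
  induction e₀ using Sym2.ind with
  | _ v w =>
  have hadj : G.Adj v w := (SimpleGraph.mem_edgeSet G).mp he₀
  have hle : G.deleteEdges {s(v, w)} ≤ G := SimpleGraph.deleteEdges_le _
  let q : (G.deleteEdges {s(v, w)}).Walk w v := (hdel.preconnected w v).some
  have hq : ∀ e ∈ q.edges, e ∈ G.edgeSet ∧ e ≠ s(v, w) := by
    intro e he
    have := SimpleGraph.Walk.edges_subset_edgeSet q he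
    rw [SimpleGraph.edgeSet_deleteEdges] at this
    exact ⟨this.1, fun h => this.2 (by simp [h])⟩
  refine ⟨AddMonoidHom.single (fun _ : Sym2 V => A) s(v, w) - alt (G.deleteEdges {s(v, w)}) A q,
    fun a => ⟨fun e he => ?_, fun z => ?_⟩, fun a => ?_⟩
  · simp only [AddMonoidHom.sub_apply, AddMonoidHom.single_apply, Pi.sub_apply]
    have h1 : e ≠ s(v, w) := fun h => he (h ▸ he₀)
    have h2 : e ∉ q.edges := fun h => he (hq e h).1
    rw [Pi.single_eq_of_ne h1, alt_apply_of_not_mem _ a q e h2, sub_zero]
  · have hbd : bd G ((AddMonoidHom.single (fun _ : Sym2 V => A) s(v, w) -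
        alt (G.deleteEdges {s(v, w)}) A q) a) = 0 := by
      simp only [AddMonoidHom.sub_apply, AddMonoidHom.single_apply, map_sub, bd_single G hadj,
        bd_alt G _ hle c hbip a q]
      have hc : c w ≠ c v := hbip w v hadj.symm
      rw [if_neg hc]; abel
    exact congrFun hbd z
  · simp only [AddMonoidHom.sub_apply, AddMonoidHom.single_apply, Pi.sub_apply, Pi.single_eq_same]
    rw [alt_apply_of_not_mem _ a q _ (fun h => (hq _ h).2 rfl), sub_zero]

end Groth.Agent.S13410
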