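import Groth.Statements.S13411
import Mathlib
import Groth.Agent.Lib.Helper7.Comb7
import Groth.Agent.S13410
-- import your own Groth.Agent.* helpers here

set_option autoImplicit false
universe u v
open CombGraph

namespace Groth.Agent.S13411

open Groth.Agent.Lib.Helper7.Comb7

section
variable {V : Type*} [Fintype V] [DecidableEq V] {A : Type*} [AddCommGroup A]

/-- signed sum functional -/
def Lam (U : Finset V) (c : V → Bool) : (V → A) →+ A where
  toFun h := ∑ z ∈ U, (if c z then h z else - h z)
  map_zero' := by simp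
  map_add' f g := by
    simp only [Pi.add_apply]
    rw [← Finset.sum_add_distrib]
    refine Finset.sum_congr rfl (fun z _ => ?_)
    split_ifs
    · rfl
    · rw [neg_add]

theorem Lam_single (U : Finset V) (c : V → Bool) (a : V) (t : A) :
    Lam U c (Pi.single a t) = if a ∈ U then (if c a then t else -t) else 0 := by
  show ∑ z ∈ U, (if c z then (Pi.single a t : V → A) z else - (Pi.single a t : V → A) z) = _
  split_ifs with ha hc
  · rw [Finset.sum_eq_single_of_mem a ha]
    · simp [hc]
    · intro z _ hz; simp [Pi.single_eq_of_ne hz]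
  · rw [Finset.sum_eq_single_of_mem a ha]
    · simp [hc]
    · intro z _ hz; simp [Pi.single_eq_of_ne hz]
  · refine Finset.sum_eq_zero (fun z hz => ?_)
    have : z ≠ a := fun h => ha (h ▸ hz)
    simp [Pi.single_eq_of_ne this]

theorem eq_zero_of_isBridge (G : SimpleGraph V) [DecidableRel G.Adj] (c : V → Bool)
    (hbip : ∀ v w : V, G.Adj v w → c v ≠ c w) (x : Sym2 V → A)
    (hx0 : ∀ e : Sym2 V, e ∉ G.edgeSet → x e = 0) (hbd : bd G x = 0)
    {u v : V} (hadj : G.Adj u v) (hbr : G.IsBridge s(u, v)) : x s(u, v) = 0 := by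
  classical
  rw [SimpleGraph.isBridge_iff] at hbr
  let U : Finset V := Finset.univ.filter (fun z => (G.deleteEdges {s(u, v)}).Reachable u z)
  have hU : ∀ z, z ∈ U ↔ (G.deleteEdges {s(u, v)}).Reachable u z := by intro z; simp [U]
  have h0 : ∑ e : Sym2 V, Lam U c (bd G (Pi.single e (x e))) = 0 := by
    have h1 : Lam U c (bd G (∑ e : Sym2 V, Pi.single e (x e))) = 0 := by
      rw [Finset.univ_sum_single, hbd, map_zero]
    rwa [map_sum, map_sum] at h1
  rw [Finset.sum_eq_single s(u, v)] at h0
  · rw [bd_single G hadj, map_add, Lam_single, Lam_single] at h0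
    have hu : u ∈ U := (hU u).2 (SimpleGraph.Reachable.refl u)
    have hv : v ∉ U := fun h => hbr ((hU v).1 h)
    rw [if_pos hu, if_neg hv, add_zero] at h0
    split_ifs at h0 with hc
    · exact h0
    · exact neg_eq_zero.mp h0
  · intro e _ he
    induction e using Sym2.ind with
    | _ a b =>
    by_cases hab : G.Adj a b
    · have hab' : (G.deleteEdges {s(u, v)}).Adj a b := by
        rw [SimpleGraph.deleteEdges_adj]
        exact ⟨hab, fun h => he (Set.mem_singleton_iff.mp h)⟩
      rw [bd_single G hab, map_add, Lam_single, Lam_single]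
      have hiff : a ∈ U ↔ b ∈ U := by
        rw [hU, hU]
        exact ⟨fun h => h.trans hab'.reachable, fun h => h.trans hab'.symm.reachable⟩
      have hc := hbip a b hab
      by_cases ha : a ∈ U
      · rw [if_pos ha, if_pos (hiff.1 ha)]
        cases hca : c a <;> cases hcb : c b <;> simp_all
      · rw [if_neg ha, if_neg (fun h => ha (hiff.2 h)), add_zero]
    · rw [hx0 _ (fun h => hab ((SimpleGraph.mem_edgeSet G).mp h)), Pi.single_zero, map_zero,
        map_zero]
  · intro h; exact absurd (Finset.mem_univ _) h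

/-- The group of edge labellings with zero vertex sums. -/
def K (G : SimpleGraph V) [DecidableRel G.Adj] (A : Type*) [AddCommGroup A] :
    AddSubgroup (Sym2 V → A) where
  carrier := {x | (∀ e : Sym2 V, e ∉ G.edgeSet → x e = 0) ∧
    ∀ v : V, ∑ e ∈ G.incidenceFinset v, x e = 0}
  zero_mem' := ⟨fun _ _ => rfl, fun _ => by simp⟩
  add_mem' := by
    rintro x y ⟨hx1, hx2⟩ ⟨hy1, hy2⟩
    exact ⟨fun e he => by simp [hx1 e he, hy1 e he],
      fun v => by simp [Finset.sum_add_distrib, hx2 v, hy2 v]⟩
  neg_mem' := by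
    rintro x ⟨hx1, hx2⟩
    exact ⟨fun e he => by simp [hx1 e he], fun v => by simp [hx2 v]⟩

theorem mem_inc (G : SimpleGraph V) [DecidableRel G.Adj] (z : V) (e : Sym2 V) :
    e ∈ G.incidenceFinset z ↔ e ∈ G.edgeSet ∧ z ∈ e := by
  rw [SimpleGraph.mem_incidenceFinset]; rfl

theorem sum_inc_del (G : SimpleGraph V) [DecidableRel G.Adj] (e₀ : Sym2 V)
    [DecidableRel (G.deleteEdges {e₀}).Adj] (y : Sym2 V → A) (hy : y e₀ = 0) (z : V) :
    ∑ e ∈ (G.deleteEdges {e₀}).incidenceFinset z, y e = ∑ e ∈ G.incidenceFinset z, y e := by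
  apply Finset.sum_subset
  · intro e he
    rw [mem_inc] at he ⊢
    rw [SimpleGraph.edgeSet_deleteEdges] at he
    exact ⟨he.1.1, he.2⟩
  · intro e he hne
    rw [mem_inc] at he hne
    rw [SimpleGraph.edgeSet_deleteEdges] at hne
    by_cases h : e = e₀
    · rw [h, hy]
    · exact absurd ⟨⟨he.1, fun h' => h (Set.mem_singleton_iff.mp h')⟩, he.2⟩ hne

theorem K_del_apply (G : SimpleGraph V) [DecidableRel G.Adj] (e₀ : Sym2 V)
    [DecidableRel (G.deleteEdges {e₀}).Adj] (y : Sym2 V → A)
    (hy : y ∈ K (G.deleteEdges {e₀}) A) : y e₀ = 0 :=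
  hy.1 e₀ (by rw [SimpleGraph.edgeSet_deleteEdges]; exact fun h => h.2 rfl)

theorem K_del_le (G : SimpleGraph V) [DecidableRel G.Adj] (e₀ : Sym2 V)
    [DecidableRel (G.deleteEdges {e₀}).Adj] (y : Sym2 V → A)
    (hy : y ∈ K (G.deleteEdges {e₀}) A) : y ∈ K G A :=
  ⟨fun e he => hy.1 e (by rw [SimpleGraph.edgeSet_deleteEdges]; exact fun h => he h.1),
   fun z => by rw [← sum_inc_del G e₀ y (K_del_apply G e₀ y hy) z]; exact hy.2 z⟩

theorem K_of_apply_eq_zero (G : SimpleGraph V) [DecidableRel G.Adj] (e₀ : Sym2 V)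
    [DecidableRel (G.deleteEdges {e₀}).Adj] (x : Sym2 V → A)
    (hx : x ∈ K G A) (h0 : x e₀ = 0) : x ∈ K (G.deleteEdges {e₀}) A :=
  ⟨fun e he => by
      rw [SimpleGraph.edgeSet_deleteEdges] at he
      by_cases h : e = e₀
      · rw [h, h0]
      · exact hx.1 e (fun h' => he ⟨h', fun h'' => h (Set.mem_singleton_iff.mp h'')⟩),
   fun z => by rw [sum_inc_del G e₀ x h0 z]; exact hx.2 z⟩

theorem main (c : V → Bool) : ∀ (n : ℕ) (G : SimpleGraph V) [DecidableRel G.Adj], G.Connected →
    (∀ v w : V, G.Adj v w → c v ≠ c w) → Nat.card G.edgeSet + 1 = Nat.card V + n →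
    ∃ f : (Fin n → A) →+ (Sym2 V → A), Function.Injective f ∧
      Set.range f = ((K G A : AddSubgroup (Sym2 V → A)) : Set (Sym2 V → A)) := by
  classical
  intro n
  induction n with
  | zero =>
    intro G _ hconn hbip hn
    have htree : G.IsTree :=
      SimpleGraph.isTree_iff_connected_and_card.mpr ⟨hconn, by simpa using hn⟩
    have hbr := SimpleGraph.isAcyclic_iff_forall_adj_isBridge.mp htree.isAcyclic
    refine ⟨0, fun a b _ => Subsingleton.elim _ _, ?_⟩
    ext x
    constructor
    · rintro ⟨t, rfl⟩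
      exact (K G A).zero_mem
    · rintro ⟨hx0, hxb⟩
      have hbd : bd G x = 0 := funext hxb
      refine ⟨0, ?_⟩
      funext e
      symm
      induction e using Sym2.ind with
      | _ a b =>
      by_cases hab : G.Adj a b
      · exact eq_zero_of_isBridge G c hbip x hx0 hbd hab (hbr hab)
      · exact hx0 _ (fun h => hab ((SimpleGraph.mem_edgeSet G).mp h))
  | succ n ih =>
    intro G _ hconn hbip hn
    have hnt : ¬ G.IsAcyclic := by
      intro hac
      have h2 := (SimpleGraph.isTree_iff_connected_and_card.mp ⟨hconn, hac⟩).2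
      omega
    rw [SimpleGraph.isAcyclic_iff_forall_adj_isBridge] at hnt
    push_neg at hnt
    obtain ⟨u, v, hadj, hnb⟩ := hnt
    have hdel := hconn.connected_delete_edge_of_not_isBridge hnb
    have he₀ : s(u, v) ∈ G.edgeSet := (SimpleGraph.mem_edgeSet G).mpr hadj
    have hcard : Nat.card (G.deleteEdges {s(u, v)}).edgeSet + 1 = Nat.card G.edgeSet := by
      rw [Nat.card_coe_set_eq, Nat.card_coe_set_eq, SimpleGraph.edgeSet_deleteEdges]
      exact Set.ncard_sdiff_singleton_add_one he₀ (Set.toFinite _)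
    obtain ⟨f', hf'inj, hf'range⟩ := ih (G.deleteEdges {s(u, v)}) hdel
      (fun a b h => hbip a b (SimpleGraph.deleteEdges_le _ h)) (by omega)
    obtain ⟨φ, hφ, hφe⟩ := Groth.Agent.S13410.result G hconn c hbip A s(u, v) he₀ hdel
    have hφK : ∀ a, φ a ∈ K G A := fun a => hφ a
    have hf'K : ∀ t, f' t ∈ K (G.deleteEdges {s(u, v)}) A := fun t => by
      have : f' t ∈ Set.range f' := ⟨t, rfl⟩
      rw [hf'range] at this; exact this
    let pre : (Fin (n+1) → A) →+ (Fin n → A) :=
      AddMonoidHom.mk' (fun t i => t i.succ) (fun a b => rfl)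
    let ev : (Fin (n+1) → A) →+ A := Pi.evalAddMonoidHom (fun _ => A) 0
    refine ⟨f'.comp pre + φ.comp ev, ?_, ?_⟩
    · rw [injective_iff_map_eq_zero]
      intro t ht
      have ht' : f' (pre t) + φ (t 0) = 0 := ht
      have h1 : t 0 = 0 := by
        have := congrFun ht' s(u, v)
        rw [Pi.add_apply, K_del_apply G s(u, v) _ (hf'K (pre t)), hφe, zero_add] at this
        exact this
      rw [h1, map_zero, add_zero] at ht'
      have h2 : pre t = 0 := (injective_iff_map_eq_zero f').mp hf'inj _ ht'
      funext i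
      refine Fin.cases h1 (fun j => ?_) i
      exact congrFun h2 j
    · ext x
      constructor
      · rintro ⟨t, rfl⟩
        show f' (pre t) + φ (t 0) ∈ K G A
        exact (K G A).add_mem (K_del_le G s(u, v) _ (hf'K (pre t))) (hφK (t 0))
      · intro hx
        have hxK : x ∈ K G A := hx
        have hy : x - φ (x s(u, v)) ∈ K (G.deleteEdges {s(u, v)}) A := by
          apply K_of_apply_eq_zero G s(u, v) _ ((K G A).sub_mem hxK (hφK _))
          rw [Pi.sub_apply, hφe, sub_self]
        have hy' : x - φ (x s(u, v)) ∈ Set.range f' := by rw [hf'range]; exact hy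
        obtain ⟨t', ht'⟩ := hy'
        refine ⟨(Fin.cons (x s(u, v)) t' : Fin (n+1) → A), ?_⟩
        show f' (fun i => (Fin.cons (x s(u, v)) t' : Fin (n+1) → A) i.succ) +
          φ ((Fin.cons (x s(u, v)) t' : Fin (n+1) → A) 0) = x
        simp only [Fin.cons_succ, Fin.cons_zero]
        rw [ht']; abel

end


/-- Let `A` be an abelian group and `G` a finite connected simple graph on `V`, bipartite for a
two-colouring `c`, with cyclomatic number `n` (number of edges minus number of vertices plus one).
Then the additive group of labellings `x : Sym2 V → A` vanishing off the edge set and with `∑_{e ∋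
v} x e = 0` at every vertex `v` is isomorphic to `A^n`: it is the range of an injective additive map
`(Fin n → A) → (Sym2 V → A)`. (The published statement concerns finite bipartite graphs in general;
this row treats simple graphs.) -/
theorem result {V : Type u} [Fintype V]
    [DecidableEq V] (G : SimpleGraph V) [DecidableRel G.Adj] (hconn : G.Connected) (c : V → Bool)
    (hbip : ∀ v w : V, G.Adj v w → c v ≠ c w) (A : Type v) [AddCommGroup A] (n : ℕ)
    (hn : G.edgeFinset.card + 1 = Fintype.card V + n) :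
    ∃ f : (Fin n → A) →+ (Sym2 V → A), Function.Injective f ∧
      Set.range f = {x : Sym2 V → A | (∀ e : Sym2 V, e ∉ G.edgeSet → x e = 0) ∧
        ∀ v : V, ∑ e ∈ G.incidenceFinset v, x e = 0} := by
  have hn' : Nat.card G.edgeSet + 1 = Nat.card V + n := by
    rw [Nat.card_eq_card_toFinset, Nat.card_eq_fintype_card]; exact hn
  exact main c n G hconn hbip hn'

end Groth.Agent.S13411
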