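import Mathlib
import Groth.Statements.S13418
-- import your own Groth.Agent.* helpers here

set_option autoImplicit false
universe u
open CategoryTheory AlgebraicGeometry
open NeronHD

namespace Groth.Agent.S13418

open AlgebraicGeometry CategoryTheory CategoryTheory.Limits


/-- Let S be a locally Noetherian scheme over a field of characteristic 0 and S₀ ⊆ S a
scheme-theoretically dense open. If N and M are smooth S-schemes having the Néron mapping property
for S₀ ⊆ S (for every smooth S-scheme Z, restriction to S₀ is a bijection from S-morphisms Z → N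
onto S₀-morphisms Z|S₀ → N|S₀), then the fibre product N ×_S M has the Néron mapping property for S₀
⊆ S (its smoothness over S being automatic). (This row is the case of schemes, with smooth test
schemes, of a statement about algebraic spaces.) -/
theorem result {k : Type u} [Field k] [CharZero k] {S : Scheme.{u}} (σ : S ⟶ Spec (CommRingCat.of k)) [IsLocallyNoetherian S] (S₀ : S.Opens) (hS₀ : CInt.IsSchematicallyDense S₀)
    (N M : Over S) [Smooth N.hom] [Smooth M.hom]
    (hN : ∀ Z : Over S, Smooth Z.hom → Function.Bijective (fun g : Z ⟶ N => (Over.pullback S₀.ι).map g))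
    (hM : ∀ Z : Over S, Smooth Z.hom → Function.Bijective (fun g : Z ⟶ M => (Over.pullback S₀.ι).map g)) :
    ∀ Z : Over S, Smooth Z.hom → Function.Bijective (fun g : Z ⟶ Over.mk (Limits.pullback.fst N.hom M.hom ≫ N.hom) => (Over.pullback S₀.ι).map g) := by
  intro Z hZ
  obtain ⟨πN, hπN⟩ : ∃ πN : Over.mk (Limits.pullback.fst N.hom M.hom ≫ N.hom) ⟶ N,
      πN.left = Limits.pullback.fst N.hom M.hom := ⟨Over.homMk (Limits.pullback.fst N.hom M.hom) rfl, rfl⟩
  obtain ⟨πM, hπM⟩ : ∃ πM : Over.mk (Limits.pullback.fst N.hom M.hom ≫ N.hom) ⟶ M,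
      πM.left = Limits.pullback.snd N.hom M.hom :=
    ⟨Over.homMk (Limits.pullback.snd N.hom M.hom) Limits.pullback.condition.symm, rfl⟩
  constructor
  · intro g₁ g₂ h
    have h2 : (Over.pullback S₀.ι).map g₁ = (Over.pullback S₀.ι).map g₂ := h
    have hN1 : g₁ ≫ πN = g₂ ≫ πN := (hN Z hZ).1 (by
      show (Over.pullback S₀.ι).map (g₁ ≫ πN) = (Over.pullback S₀.ι).map (g₂ ≫ πN)
      rw [Functor.map_comp, Functor.map_comp, h2])
    have hM1 : g₁ ≫ πM = g₂ ≫ πM := (hM Z hZ).1 (by
      show (Over.pullback S₀.ι).map (g₁ ≫ πM) = (Over.pullback S₀.ι).map (g₂ ≫ πM)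
      rw [Functor.map_comp, Functor.map_comp, h2])
    apply Over.OverMorphism.ext
    apply Limits.pullback.hom_ext
    · have := congrArg (fun t => t.left) hN1
      simpa [hπN] using this
    · have := congrArg (fun t => t.left) hM1
      simpa [hπM] using this
  · intro a
    obtain ⟨bN, hbN⟩ := (hN Z hZ).2 (a ≫ (Over.pullback S₀.ι).map πN)
    obtain ⟨bM, hbM⟩ := (hM Z hZ).2 (a ≫ (Over.pullback S₀.ι).map πM)
    have hbN' : (Over.pullback S₀.ι).map bN = a ≫ (Over.pullback S₀.ι).map πN := hbN
    have hbM' : (Over.pullback S₀.ι).map bM = a ≫ (Over.pullback S₀.ι).map πM := hbM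
    have hw : bN.left ≫ N.hom = bM.left ≫ M.hom := by rw [Over.w bN, Over.w bM]
    obtain ⟨g, hg⟩ : ∃ g : Z ⟶ Over.mk (Limits.pullback.fst N.hom M.hom ≫ N.hom),
        g.left = Limits.pullback.lift bN.left bM.left hw :=
      ⟨Over.homMk (Limits.pullback.lift bN.left bM.left hw) (by
        show Limits.pullback.lift bN.left bM.left hw ≫ Limits.pullback.fst N.hom M.hom ≫ N.hom = Z.hom
        rw [Limits.pullback.lift_fst_assoc, Over.w bN]), rfl⟩
    have hgN : g ≫ πN = bN := by
      apply Over.OverMorphism.ext
      rw [Over.comp_left, hg, hπN, Limits.pullback.lift_fst]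
    have hgM : g ≫ πM = bM := by
      apply Over.OverMorphism.ext
      rw [Over.comp_left, hg, hπM, Limits.pullback.lift_snd]
    refine ⟨g, ?_⟩
    show (Over.pullback S₀.ι).map g = a
    have eN : (Over.pullback S₀.ι).map g ≫ (Over.pullback S₀.ι).map πN =
        a ≫ (Over.pullback S₀.ι).map πN := by
      rw [← Functor.map_comp, hgN, hbN']
    have eM : (Over.pullback S₀.ι).map g ≫ (Over.pullback S₀.ι).map πM =
        a ≫ (Over.pullback S₀.ι).map πM := by
      rw [← Functor.map_comp, hgM, hbM']
    have fN : ((Over.pullback S₀.ι).map πN).left ≫ Limits.pullback.fst N.hom S₀.ι =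
        Limits.pullback.fst (Limits.pullback.fst N.hom M.hom ≫ N.hom) S₀.ι ≫ πN.left :=
      Limits.pullback.lift_fst _ _ _
    have fM : ((Over.pullback S₀.ι).map πM).left ≫ Limits.pullback.fst M.hom S₀.ι =
        Limits.pullback.fst (Limits.pullback.fst N.hom M.hom ≫ N.hom) S₀.ι ≫ πM.left :=
      Limits.pullback.lift_fst _ _ _
    apply Over.OverMorphism.ext
    apply Limits.pullback.hom_ext
    · apply Limits.pullback.hom_ext
      · have := congrArg (fun t => t.left ≫ Limits.pullback.fst N.hom S₀.ι) eN
        simp only [Over.comp_left, Category.assoc] at this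
        rw [fN, hπN] at this
        simpa [Category.assoc] using this
      · have := congrArg (fun t => t.left ≫ Limits.pullback.fst M.hom S₀.ι) eM
        simp only [Over.comp_left, Category.assoc] at this
        rw [fM, hπM] at this
        simpa [Category.assoc] using this
    · exact (Over.w ((Over.pullback S₀.ι).map g)).trans (Over.w a).symm

end Groth.Agent.S13418
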