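import Groth.Statements.S1405
import Mathlib
import Groth.Agent.H21.NoethDescent

set_option autoImplicit false
universe u
open FlatMor

namespace Groth.Agent.S1405

section Helpers
open AlgebraicGeometry CategoryTheory Limits TensorProduct

set_option backward.isDefEq.respectTransparency false in
theorem essFiniteType_residue1405 {Y' Y : Scheme.{u}} (g : Y' ⟶ Y) [LocallyOfFiniteType g]
    (y' : Y') : (g.residueFieldMap y').hom.EssFiniteType := by
  algebraize [(g.stalkMap y').hom]
  have : IsLocalHom (algebraMap (Y.presheaf.stalk (g y')) (Y'.presheaf.stalk y')) :=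
    inferInstanceAs <| IsLocalHom (g.stalkMap y').hom
  have : Algebra.EssFiniteType (Y.presheaf.stalk (g y')) (Y'.presheaf.stalk y') := by
    rw [← RingHom.essFiniteType_algebraMap, RingHom.algebraMap_toAlgebra]
    exact LocallyOfFiniteType.stalkMap g y'
  have h1 : Algebra.EssFiniteType (Y.presheaf.stalk (g y'))
      (IsLocalRing.ResidueField (Y'.presheaf.stalk y')) := .comp _ (Y'.presheaf.stalk y') _
  have h2 : Algebra.EssFiniteType (IsLocalRing.ResidueField (Y.presheaf.stalk (g y')))
      (IsLocalRing.ResidueField (Y'.presheaf.stalk y')) :=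
    .of_comp (Y.presheaf.stalk (g y')) _ _
  show @Algebra.EssFiniteType _ _ _ _ (g.residueFieldMap y').hom.toAlgebra
  convert! h2
  refine Algebra.algebra_ext _ _ fun x ↦ ?_
  obtain ⟨x, rfl⟩ := IsLocalRing.residue_surjective x
  rfl

set_option backward.isDefEq.respectTransparency false in
theorem bc_noeth_affine1405 {k K A : CommRingCat.{u}} (φ : k ⟶ K) (hφ : φ.hom.EssFiniteType)
    (ψ : k ⟶ A) [IsNoetherianRing A] {P : Scheme.{u}} (a : P ⟶ Spec K) (b : P ⟶ Spec A)
    (h : IsPullback a b (Spec.map φ) (Spec.map ψ)) : IsLocallyNoetherian P := by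
  algebraize [φ.hom, ψ.hom]
  haveI : Algebra.EssFiniteType k K := hφ
  haveI : Algebra.EssFiniteType A (A ⊗[k] K) := inferInstance
  haveI : IsNoetherianRing (A ⊗[k] K) := Algebra.EssFiniteType.isNoetherianRing A (A ⊗[k] K)
  haveI : IsNoetherianRing (K ⊗[k] A) :=
    isNoetherianRing_of_ringEquiv _ (Algebra.TensorProduct.comm k A K).toRingEquiv
  haveI : IsNoetherianRing (CommRingCat.of (K ⊗[k] A)) := ‹_›
  let e1 : P ≅ pullback (Spec.map (CommRingCat.ofHom (algebraMap k K)))
      (Spec.map (CommRingCat.ofHom (algebraMap k A))) := h.isoPullback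
  let e : P ≅ Spec (CommRingCat.of (K ⊗[k] A)) := e1 ≪≫ pullbackSpecIso k K A
  exact isLocallyNoetherian_of_isOpenImmersion e.hom

set_option backward.isDefEq.respectTransparency false in
theorem bc_noeth1405 {Z Z' : Scheme.{u}} {k K : CommRingCat.{u}} (φ : k ⟶ K)
    (hφ : φ.hom.EssFiniteType) (Φ : Z' ⟶ Z) (q' : Z' ⟶ Spec K) (q : Z ⟶ Spec k)
    (hsq : IsPullback Φ q' q (Spec.map φ)) [IsLocallyNoetherian Z] :
    IsLocallyNoetherian Z' := by
  let 𝒰 := Z.affineOpenCover
  rw [isLocallyNoetherian_iff_openCover (𝒰.openCover.pullback₁ Φ)]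
  intro i
  have hN : IsLocallyNoetherian (Spec (𝒰.X i)) := isLocallyNoetherian_of_isOpenImmersion (𝒰.f i)
  haveI hA : IsNoetherianRing (𝒰.X i) := isLocallyNoetherian_Spec.mp hN
  obtain ⟨ψ, hψ⟩ := Spec.map_surjective (𝒰.f i ≫ q)
  have left := IsPullback.of_hasPullback Φ (𝒰.f i)
  have big := left.paste_horiz hsq.flip
  rw [← hψ] at big
  exact bc_noeth_affine1405 φ hφ ψ _ _ big

set_option backward.isDefEq.respectTransparency false in
theorem main1405 {X Y X' Y' : Scheme.{u}} (f : X ⟶ Y) (f' : X' ⟶ Y') (g' : X' ⟶ X) (g : Y' ⟶ Y)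
    [Flat g] [LocallyOfFinitePresentation g] [Surjective g] (hc : IsPullback g' f' f g) :
    (∀ y : Y, IsLocallyNoetherian (f.fiber y)) ↔
      ∀ y' : Y', IsLocallyNoetherian (f'.fiber y') := by
  constructor
  · intro H y'
    haveI : IsLocallyNoetherian (pullback f (Y.fromSpecResidueField (g y'))) := H (g y')
    show IsLocallyNoetherian (pullback f' (Y'.fromSpecResidueField y'))
    exact bc_noeth1405 (g.residueFieldMap y') (essFiniteType_residue1405 g y') _ _ _
      (isPullback_fiberToSpecResidueField_of_isPullback hc y')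
  · intro H y
    obtain ⟨y', rfl⟩ := g.surjective y
    haveI : IsLocallyNoetherian (pullback f' (Y'.fromSpecResidueField y')) := H y'
    show IsLocallyNoetherian (pullback f (Y.fromSpecResidueField (g y')))
    have sq := isPullback_fiberToSpecResidueField_of_isPullback hc y'
    haveI hfl : Flat (Spec.map (g.residueFieldMap y')) := by
      rw [HasRingHomProperty.Spec_iff (P := @Flat)]
      algebraize [(g.residueFieldMap y').hom]
      show Module.Flat (Y.residueField (g y')) (Y'.residueField y')
      infer_instance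
    haveI hsu : Surjective (Spec.map (g.residueFieldMap y')) :=
      ⟨fun x => ⟨IsLocalRing.closedPoint _, Subsingleton.elim (α := PrimeSpectrum _) _ _⟩⟩
    haveI hqc : QuasiCompact (Spec.map (g.residueFieldMap y')) := inferInstance
    haveI : Flat (pullback.map f' (Y'.fromSpecResidueField y') f (Y.fromSpecResidueField (g y'))
        g' (Spec.map (g.residueFieldMap y')) g hc.w.symm (by simp)) :=
      MorphismProperty.of_isPullback (P := @Flat) sq.flip hfl
    haveI : Surjective (pullback.map f' (Y'.fromSpecResidueField y') f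
        (Y.fromSpecResidueField (g y')) g' (Spec.map (g.residueFieldMap y')) g hc.w.symm
        (by simp)) :=
      MorphismProperty.of_isPullback (P := @Surjective) sq.flip hsu
    haveI : QuasiCompact (pullback.map f' (Y'.fromSpecResidueField y') f
        (Y.fromSpecResidueField (g y')) g' (Spec.map (g.residueFieldMap y')) g hc.w.symm
        (by simp)) :=
      MorphismProperty.of_isPullback (P := @QuasiCompact) sq.flip hqc
    exact Groth.Agent.H21.isLocallyNoetherian_of_flat_surjective
      (pullback.map f' (Y'.fromSpecResidueField y') f (Y.fromSpecResidueField (g y'))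
        g' (Spec.map (g.residueFieldMap y')) g hc.w.symm _)

end Helpers

open AlgebraicGeometry CategoryTheory Limits in
/-- Let Y' → Y be flat, locally of finite presentation and surjective and f' the base change of f : X →
Y. Then all fibres of f are locally Noetherian if and only if all fibres of f' are. -/
theorem result {X Y X' Y' : Scheme.{u}} (f : X ⟶ Y) (f' : X' ⟶ Y') (g' : X' ⟶ X) (g : Y' ⟶ Y) [Flat g] [LocallyOfFinitePresentation g] [Surjective g]
    (hc : IsPullback g' f' f g) :
    (∀ y : Y, IsLocallyNoetherian (f.fiber y)) ↔ ∀ y' : Y', IsLocallyNoetherian (f'.fiber y') := by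
  exact main1405 f f' g' g hc

end Groth.Agent.S1405
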