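import Groth.Statements.S9766
import Mathlib
import Groth.Agent.Lib.Helper24.FiberStalk
import Groth.Agent.Helper1.FlatLocalCM
import Groth.Agent.H29.FibTransport

set_option autoImplicit false
universe u
open FlatMor

namespace Groth.Agent.S9766

section Helpers
open AlgebraicGeometry CategoryTheory Limits IsLocalRing TensorProduct

/-- Ascent of Cohen–Macaulayness along a flat local homomorphism of Noetherian local rings. -/
theorem cm_ascent9766 (A C : Type u) [CommRing A] [CommRing C] [IsNoetherianRing A]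
    [IsLocalRing A] [IsNoetherianRing C] [IsLocalRing C] [Algebra A C]
    [IsLocalHom (algebraMap A C)] [Module.Flat A C]
    (hA : LocCoh.IsCohenMacaulayLocalRing A)
    (hQ : LocCoh.IsCohenMacaulayLocalRing (C ⧸ (maximalIdeal A).map (algebraMap A C))) :
    LocCoh.IsCohenMacaulayLocalRing C := by
  haveI : IsLocalRing (C ⧸ (maximalIdeal A).map (algebraMap A C)) :=
    Groth.Agent.Helper1.CMAscent.isLocalRing_quot A C
  have hdim := Groth.Agent.Helper1.FlatLocalCM.dim_eq_add A C
    ((maximalIdeal A).map (algebraMap A C)) rfl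
  have hdep := Groth.Agent.Helper1.FlatLocalCM.depth_eq_add A C
    ((maximalIdeal A).map (algebraMap A C)) rfl
  have h1 := hA.supportDim_eq_depth
  rw [Module.supportDim_self_eq_ringKrullDim] at h1
  have h2 := hQ.supportDim_eq_depth
  rw [Module.supportDim_self_eq_ringKrullDim] at h2
  refine { supportDim_eq_depth := ?_ }
  rw [Module.supportDim_self_eq_ringKrullDim, hdim, hdep, h1, h2, WithBot.coe_add]

section RelQuot

variable (B C : Type u) [CommRing B] [CommRing C] [IsLocalRing B] [IsLocalRing C] [Algebra B C]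
  [IsLocalHom (algebraMap B C)] (I : Ideal B)

theorem relQuot_flat9766 [Module.Flat B C] :
    Module.Flat (B ⧸ I) (C ⧸ I.map (algebraMap B C)) :=
  Module.Flat.of_linearEquiv
    (Algebra.TensorProduct.quotIdealMapEquivQuotTensor C I).toLinearEquiv

include B in
theorem relQuot_map_le9766 (hI : I ≠ ⊤) : I.map (algebraMap B C) ≤ maximalIdeal C :=
  (Ideal.map_mono (le_maximalIdeal hI)).trans (Groth.Agent.Helper1.CMAscent.map_le B C)

theorem relQuot_ne_top9766 (hI : I ≠ ⊤) : I.map (algebraMap B C) ≠ ⊤ := fun h =>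
  (maximalIdeal.isMaximal C).ne_top (top_le_iff.mp (h.ge.trans (relQuot_map_le9766 B C I hI)))

omit [IsLocalRing C] [Algebra B C] [IsLocalHom (algebraMap B C)] in
theorem quot_local9766 (hI : I ≠ ⊤) : IsLocalRing (B ⧸ I) :=
  haveI : Nontrivial (B ⧸ I) := Ideal.Quotient.nontrivial_iff.mpr hI
  IsLocalRing.of_surjective' (Ideal.Quotient.mk I) Ideal.Quotient.mk_surjective

theorem relQuot_ideal9766 [IsLocalRing (B ⧸ I)] :
    (maximalIdeal (B ⧸ I)).map (algebraMap (B ⧸ I) (C ⧸ I.map (algebraMap B C))) =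
      ((maximalIdeal B).map (algebraMap B C)).map
        (Ideal.Quotient.mk (I.map (algebraMap B C))) := by
  rw [← map_maximalIdeal_of_surjective (Ideal.Quotient.mk I) Ideal.Quotient.mk_surjective,
    Ideal.map_map, Ideal.map_map]
  congr 1

theorem relQuot_isLocalHom9766 [IsLocalRing (B ⧸ I)]
    [IsLocalRing (C ⧸ I.map (algebraMap B C))] :
    IsLocalHom (algebraMap (B ⧸ I) (C ⧸ I.map (algebraMap B C))) := by
  refine ((local_hom_TFAE (algebraMap (B ⧸ I) (C ⧸ I.map (algebraMap B C)))).out 2 0).mp ?_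
  rw [relQuot_ideal9766 B C I,
    ← map_maximalIdeal_of_surjective (Ideal.Quotient.mk (I.map (algebraMap B C)))
      Ideal.Quotient.mk_surjective]
  exact Ideal.map_mono (Groth.Agent.Helper1.CMAscent.map_le B C)

/-- The closed fibre of `B ⧸ I → C ⧸ I C` is the closed fibre of `B → C`. -/
noncomputable def relQuot_fibre9766 [IsLocalRing (B ⧸ I)] (hI : I ≠ ⊤) :
    ((C ⧸ I.map (algebraMap B C)) ⧸
      (maximalIdeal (B ⧸ I)).map (algebraMap (B ⧸ I) (C ⧸ I.map (algebraMap B C)))) ≃+*
      (C ⧸ (maximalIdeal B).map (algebraMap B C)) :=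
  (Ideal.quotEquivOfEq (relQuot_ideal9766 B C I)).trans
    (DoubleQuot.quotQuotEquivQuotOfLE (Ideal.map_mono (le_maximalIdeal hI)))

end RelQuot

/-- Ring-level composition. -/
theorem cm_compose9766 (A B C : Type u) [CommRing A] [CommRing B] [CommRing C]
    [IsLocalRing A] [IsLocalRing B] [IsLocalRing C] [Algebra A B] [Algebra B C] [Algebra A C]
    [IsScalarTower A B C] [IsLocalHom (algebraMap A B)] [IsLocalHom (algebraMap B C)]
    [Module.Flat A B] [Module.Flat B C]
    (hB : LocCoh.IsCohenMacaulayLocalRing (B ⧸ (maximalIdeal A).map (algebraMap A B)))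
    (hC : LocCoh.IsCohenMacaulayLocalRing (C ⧸ (maximalIdeal B).map (algebraMap B C)))
    (hN : IsNoetherianRing (C ⧸ (maximalIdeal A).map (algebraMap A C))) :
    Module.Flat A C ∧
      LocCoh.IsCohenMacaulayLocalRing (C ⧸ (maximalIdeal A).map (algebraMap A C)) := by
  refine ⟨Module.Flat.trans A B C, ?_⟩
  have hI : (maximalIdeal A).map (algebraMap A B) ≠ ⊤ := fun h =>
    (maximalIdeal.isMaximal B).ne_top
      (top_le_iff.mp (h.ge.trans (Groth.Agent.Helper1.CMAscent.map_le A B)))
  have hIC : ((maximalIdeal A).map (algebraMap A B)).map (algebraMap B C) =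
      (maximalIdeal A).map (algebraMap A C) := by
    rw [Ideal.map_map, ← IsScalarTower.algebraMap_eq]
  let eC : (C ⧸ ((maximalIdeal A).map (algebraMap A B)).map (algebraMap B C)) ≃+*
      (C ⧸ (maximalIdeal A).map (algebraMap A C)) := Ideal.quotEquivOfEq hIC
  haveI : IsNoetherianRing (C ⧸ ((maximalIdeal A).map (algebraMap A B)).map (algebraMap B C)) :=
    isNoetherianRing_of_ringEquiv _ eC.symm
  haveI : IsNoetherianRing (B ⧸ (maximalIdeal A).map (algebraMap A B)) := inferInstance
  haveI : IsLocalRing (B ⧸ (maximalIdeal A).map (algebraMap A B)) := quot_local9766 B _ hI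
  haveI : IsLocalRing (C ⧸ ((maximalIdeal A).map (algebraMap A B)).map (algebraMap B C)) :=
    quot_local9766 C _ (relQuot_ne_top9766 B C _ hI)
  haveI := relQuot_isLocalHom9766 B C ((maximalIdeal A).map (algebraMap A B))
  haveI := relQuot_flat9766 B C ((maximalIdeal A).map (algebraMap A B))
  have hQ := Groth.Agent.H29.FibTransport.cmLocal_of_ringEquiv
    (relQuot_fibre9766 B C ((maximalIdeal A).map (algebraMap A B)) hI).symm hC
  have := cm_ascent9766 (B ⧸ (maximalIdeal A).map (algebraMap A B))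
    (C ⧸ ((maximalIdeal A).map (algebraMap A B)).map (algebraMap B C)) hB hQ
  exact Groth.Agent.H29.FibTransport.cmLocal_of_ringEquiv eC this

set_option backward.isDefEq.respectTransparency false in
theorem main9766 {X Y Z : Scheme.{u}} (f : X ⟶ Y) (g : Y ⟶ Z) (x : X)
    (hN : IsLocallyNoetherian ((f ≫ g).fiber (g (f x))))
    (hf : MoreMor.IsCMAt f x) (hg : MoreMor.IsCMAt g (f x)) : MoreMor.IsCMAt (f ≫ g) x := by
  obtain ⟨hf1, hf2⟩ := hf
  obtain ⟨hg1, hg2⟩ := hg
  obtain ⟨ef⟩ := Groth.Agent.Helper24.FiberStalk.fiberStalkQuot f x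
  obtain ⟨eg⟩ := Groth.Agent.Helper24.FiberStalk.fiberStalkQuot g (f x)
  obtain ⟨efg⟩ := Groth.Agent.Helper24.FiberStalk.fiberStalkQuot (f ≫ g) x
  letI : Algebra (Z.presheaf.stalk (g (f x))) (Y.presheaf.stalk (f x)) :=
    (g.stalkMap (f x)).hom.toAlgebra
  letI : Algebra (Y.presheaf.stalk (f x)) (X.presheaf.stalk x) := (f.stalkMap x).hom.toAlgebra
  letI : Algebra (Z.presheaf.stalk (g (f x))) (X.presheaf.stalk x) :=
    ((f ≫ g).stalkMap x).hom.toAlgebra
  haveI : IsScalarTower (Z.presheaf.stalk (g (f x))) (Y.presheaf.stalk (f x))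
      (X.presheaf.stalk x) := IsScalarTower.of_algebraMap_eq' (by
    show ((f ≫ g).stalkMap x).hom = (f.stalkMap x).hom.comp (g.stalkMap (f x)).hom
    rw [Scheme.Hom.stalkMap_comp]; rfl)
  haveI : IsLocalHom (algebraMap (Z.presheaf.stalk (g (f x))) (Y.presheaf.stalk (f x))) :=
    inferInstanceAs (IsLocalHom (g.stalkMap (f x)).hom)
  haveI : IsLocalHom (algebraMap (Y.presheaf.stalk (f x)) (X.presheaf.stalk x)) :=
    inferInstanceAs (IsLocalHom (f.stalkMap x).hom)
  haveI : Module.Flat (Z.presheaf.stalk (g (f x))) (Y.presheaf.stalk (f x)) := hg1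
  haveI : Module.Flat (Y.presheaf.stalk (f x)) (X.presheaf.stalk x) := hf1
  have hB := Groth.Agent.H29.FibTransport.cmLocal_of_ringEquiv eg hg2
  have hC := Groth.Agent.H29.FibTransport.cmLocal_of_ringEquiv ef hf2
  haveI hN' : IsLocallyNoetherian ((f ≫ g).fiber ((f ≫ g) x)) := hN
  have hNst : IsNoetherianRing
      (((f ≫ g).fiber ((f ≫ g) x)).presheaf.stalk ((f ≫ g).asFiber x)) := inferInstance
  have hNq : IsNoetherianRing (X.presheaf.stalk x ⧸
      (maximalIdeal (Z.presheaf.stalk (g (f x)))).map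
        (algebraMap (Z.presheaf.stalk (g (f x))) (X.presheaf.stalk x))) :=
    isNoetherianRing_of_ringEquiv _ efg
  obtain ⟨h1, h2⟩ := cm_compose9766 (Z.presheaf.stalk (g (f x))) (Y.presheaf.stalk (f x))
    (X.presheaf.stalk x) hB hC hNq
  exact ⟨h1, Groth.Agent.H29.FibTransport.cmLocal_of_ringEquiv efg.symm h2⟩

end Helpers

open AlgebraicGeometry CategoryTheory Limits in
/-- For morphisms f : X ⟶ Y, g : Y ⟶ Z and a point x of X whose fibre under f ≫ g is locally Noetherian,
Cohen–Macaulayness of f at x (flat at x with Cohen–Macaulay local ring of the fibre at x) together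
with that of g at f x implies that f ≫ g is Cohen–Macaulay at x. The published statement assumes all
fibres of f, g and g ∘ f locally Noetherian; this row assumes only that the fibre of f ≫ g through x
is, which is all the argument uses. -/
theorem result {X Y Z : Scheme.{u}} (f : X ⟶ Y) (g : Y ⟶ Z) (x : X)
    (hN : IsLocallyNoetherian ((f ≫ g).fiber (g (f x))))
    (hf : MoreMor.IsCMAt f x) (hg : MoreMor.IsCMAt g (f x)) : MoreMor.IsCMAt (f ≫ g) x := by
  exact main9766 f g x hN hf hg

end Groth.Agent.S9766
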