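import Groth.Statements.S14109
import Mathlib
import Groth.Agent.S9766
import Groth.Agent.H29.DimLocalHom

set_option autoImplicit false
universe u
open CategoryTheory CategoryTheory.Limits AlgebraicGeometry Opposite TopologicalSpace
open CInt

namespace Groth.Agent.S14109

section Helpers
open AlgebraicGeometry CategoryTheory Limits IsLocalRing

theorem dim_le_add14109 (A B C : Type u) [CommRing A] [CommRing B] [CommRing C]
    [IsLocalRing A] [IsLocalRing B] [IsLocalRing C] [IsNoetherianRing B] [IsNoetherianRing C]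
    [Algebra A B] [Algebra B C] [Algebra A C]
    [IsScalarTower A B C] [IsLocalHom (algebraMap A B)] [IsLocalHom (algebraMap B C)] :
    ringKrullDim (C ⧸ (maximalIdeal A).map (algebraMap A C)) ≤
      ringKrullDim (B ⧸ (maximalIdeal A).map (algebraMap A B)) +
        ringKrullDim (C ⧸ (maximalIdeal B).map (algebraMap B C)) := by
  have hI : (maximalIdeal A).map (algebraMap A B) ≠ ⊤ := fun h =>
    (maximalIdeal.isMaximal B).ne_top
      (top_le_iff.mp (h.ge.trans (Groth.Agent.Helper1.CMAscent.map_le A B)))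
  have hIC : ((maximalIdeal A).map (algebraMap A B)).map (algebraMap B C) =
      (maximalIdeal A).map (algebraMap A C) := by
    rw [Ideal.map_map, ← IsScalarTower.algebraMap_eq]
  let eC : (C ⧸ ((maximalIdeal A).map (algebraMap A B)).map (algebraMap B C)) ≃+*
      (C ⧸ (maximalIdeal A).map (algebraMap A C)) := Ideal.quotEquivOfEq hIC
  haveI : IsLocalRing (B ⧸ (maximalIdeal A).map (algebraMap A B)) :=
    Groth.Agent.S9766.quot_local9766 B _ hI
  haveI : IsLocalRing (C ⧸ ((maximalIdeal A).map (algebraMap A B)).map (algebraMap B C)) :=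
    Groth.Agent.S9766.quot_local9766 C _ (Groth.Agent.S9766.relQuot_ne_top9766 B C _ hI)
  haveI := Groth.Agent.S9766.relQuot_isLocalHom9766 B C ((maximalIdeal A).map (algebraMap A B))
  rw [← ringKrullDim_eq_of_ringEquiv eC]
  have h := Groth.Agent.H29.ringKrullDim_le_add_fibre
    (algebraMap (B ⧸ (maximalIdeal A).map (algebraMap A B))
      (C ⧸ ((maximalIdeal A).map (algebraMap A B)).map (algebraMap B C)))
  rw [ringKrullDim_eq_of_ringEquiv (Groth.Agent.S9766.relQuot_fibre9766 B C
    ((maximalIdeal A).map (algebraMap A B)) hI)] at h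
  exact h

set_option backward.isDefEq.respectTransparency false in
theorem exists_dim_zero14109 {X' X : Scheme.{u}} (g : X' ⟶ X) (x : X)
    (hx : ∃ x₀ : X', g x₀ = x) :
    ∃ x' : X', g x' = x ∧ ringKrullDim ↑(CInt.fiberStalk g x') = 0 := by
  obtain ⟨x₀, hx₀⟩ := hx
  have hr : Set.range (g.fiberι x) = g ⁻¹' {x} := Scheme.Hom.range_fiberι g x
  obtain ⟨z₀, hz₀⟩ : x₀ ∈ Set.range (g.fiberι x) := by rw [hr]; exact hx₀
  obtain ⟨U, hU, hzU, -⟩ := exists_isAffineOpen_mem_and_subset (x := z₀) (U := ⊤) trivial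
  obtain ⟨p, hp, -⟩ := Ideal.exists_minimalPrimes_le
    (bot_le : (⊥ : Ideal Γ(g.fiber x, U)) ≤ (hU.primeIdealOf ⟨z₀, hzU⟩).asIdeal)
  haveI : p.IsPrime := hp.1.1
  let P : PrimeSpectrum Γ(g.fiber x, U) := ⟨p, inferInstance⟩
  have e1 : (g.fiber x).presheaf.stalk (hU.fromSpec P) ≃+* Localization.AtPrime P.asIdeal :=
    (asIso (hU.fromSpec.stalkMap P) ≪≫ Spec.stalkIso _ P).commRingCatIsoToRingEquiv
  have hd : ringKrullDim ((g.fiber x).presheaf.stalk (hU.fromSpec P)) = 0 := by
    rw [ringKrullDim_eq_of_ringEquiv e1,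
      IsLocalization.AtPrime.ringKrullDim_eq_height P.asIdeal (Localization.AtPrime P.asIdeal)]
    have : P.asIdeal.height = 0 := Ideal.height_eq_zero_iff.mpr hp
    rw [this]; rfl
  have hgz : g (g.fiberι x (hU.fromSpec P)) = x := by
    have : g.fiberι x (hU.fromSpec P) ∈ g ⁻¹' {x} := by rw [← hr]; exact ⟨_, rfl⟩
    exact this
  refine ⟨g.fiberι x (hU.fromSpec P), hgz, ?_⟩
  have key : ∀ y (_ : g (g.fiberι x (hU.fromSpec P)) = y) (w : g.fiber y),
      g.fiberι y w = g.fiberι x (hU.fromSpec P) →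
      Nonempty ((g.fiber (g (g.fiberι x (hU.fromSpec P)))).presheaf.stalk
        (g.asFiber (g.fiberι x (hU.fromSpec P))) ≃+* (g.fiber y).presheaf.stalk w) := by
    intro y e
    subst e
    intro w hw
    have : w = g.asFiber (g.fiberι x (hU.fromSpec P)) :=
      (g.fiberι _).isEmbedding.injective (hw.trans (g.fiberι_asFiber _).symm)
    subst this
    exact ⟨RingEquiv.refl _⟩
  obtain ⟨e2⟩ := key x hgz (hU.fromSpec P) rfl
  rw [show ringKrullDim ↑(CInt.fiberStalk g (g.fiberι x (hU.fromSpec P))) = _ from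
    ringKrullDim_eq_of_ringEquiv e2]
  exact hd

set_option backward.isDefEq.respectTransparency false in
theorem main14109 {X X' S : Scheme.{u}} [IsLocallyNoetherian X] [IsLocallyNoetherian X']
    (f : X ⟶ S) (g : X' ⟶ X) (y' : X') :
    ringKrullDim ↑(CInt.fiberStalk (g ≫ f) y') ≤
      ringKrullDim ↑(CInt.fiberStalk f (g y')) + ringKrullDim ↑(CInt.fiberStalk g y') := by
  obtain ⟨ef⟩ := Groth.Agent.Helper24.FiberStalk.fiberStalkQuot f (g y')
  obtain ⟨egf⟩ := Groth.Agent.Helper24.FiberStalk.fiberStalkQuot (g ≫ f) y'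
  obtain ⟨eg⟩ := Groth.Agent.Helper24.FiberStalk.fiberStalkQuot g y'
  letI : Algebra (S.presheaf.stalk (f (g y'))) (X.presheaf.stalk (g y')) :=
    (f.stalkMap (g y')).hom.toAlgebra
  letI : Algebra (X.presheaf.stalk (g y')) (X'.presheaf.stalk y') := (g.stalkMap y').hom.toAlgebra
  letI : Algebra (S.presheaf.stalk (f (g y'))) (X'.presheaf.stalk y') :=
    ((g ≫ f).stalkMap y').hom.toAlgebra
  haveI : IsScalarTower (S.presheaf.stalk (f (g y'))) (X.presheaf.stalk (g y'))
      (X'.presheaf.stalk y') := IsScalarTower.of_algebraMap_eq' (by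
    show ((g ≫ f).stalkMap y').hom = (g.stalkMap y').hom.comp (f.stalkMap (g y')).hom
    rw [Scheme.Hom.stalkMap_comp]; rfl)
  haveI : IsLocalHom (algebraMap (S.presheaf.stalk (f (g y'))) (X.presheaf.stalk (g y'))) :=
    inferInstanceAs (IsLocalHom (f.stalkMap (g y')).hom)
  haveI : IsLocalHom (algebraMap (X.presheaf.stalk (g y')) (X'.presheaf.stalk y')) :=
    inferInstanceAs (IsLocalHom (g.stalkMap y').hom)
  have h := dim_le_add14109 (S.presheaf.stalk (f (g y'))) (X.presheaf.stalk (g y'))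
    (X'.presheaf.stalk y')
  have e1 : ringKrullDim ↑(CInt.fiberStalk f (g y')) =
      ringKrullDim (X.presheaf.stalk (g y') ⧸ (maximalIdeal (S.presheaf.stalk (f (g y')))).map
        (algebraMap (S.presheaf.stalk (f (g y'))) (X.presheaf.stalk (g y')))) :=
    ringKrullDim_eq_of_ringEquiv ef
  have e2 : ringKrullDim ↑(CInt.fiberStalk (g ≫ f) y') =
      ringKrullDim (X'.presheaf.stalk y' ⧸ (maximalIdeal (S.presheaf.stalk (f (g y')))).map
        (algebraMap (S.presheaf.stalk (f (g y'))) (X'.presheaf.stalk y'))) :=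
    ringKrullDim_eq_of_ringEquiv egf
  have e3 : ringKrullDim ↑(CInt.fiberStalk g y') =
      ringKrullDim (X'.presheaf.stalk y' ⧸ (maximalIdeal (X.presheaf.stalk (g y'))).map
        (algebraMap (X.presheaf.stalk (g y')) (X'.presheaf.stalk y'))) :=
    ringKrullDim_eq_of_ringEquiv eg
  rw [e1, e2, e3]
  exact h

end Helpers

/-- Let f : X → S and g : X' → X be morphisms of locally Noetherian schemes with g surjective, Y a
closed subset of X and Y' its preimage under g. Then the codimension of Y' relative to the composite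
X' → S (the infimum over y' ∈ Y' of the Krull dimension of the local ring at y' of the fibre of that
composite through y') is at most the codimension of Y relative to f (the same infimum over y ∈ Y for
the fibres of f). -/
theorem result {X X' S : Scheme.{u}} [IsLocallyNoetherian X]
    [IsLocallyNoetherian X'] [IsLocallyNoetherian S] (f : X ⟶ S) (g : X' ⟶ X) [Surjective g]
    (Y : Set ↥X) (hY : IsClosed Y) :
    (⨅ y' : (fun x' => g x') ⁻¹' Y, ringKrullDim ↑(CInt.fiberStalk (g ≫ f) y'.1)) ≤
      ⨅ y : Y, ringKrullDim ↑(CInt.fiberStalk f y.1) := by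
  refine le_iInf fun y => ?_
  obtain ⟨y0, hy0⟩ := y
  obtain ⟨y', rfl, hdim⟩ := exists_dim_zero14109 g y0 (g.surjective y0)
  refine (iInf_le (fun y' : (fun x' => g x') ⁻¹' Y =>
    ringKrullDim ↑(CInt.fiberStalk (g ≫ f) y'.1)) ⟨y', hy0⟩).trans ?_
  have := main14109 f g y'
  rw [hdim, add_zero] at this
  exact this

end Groth.Agent.S14109
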