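import Groth.Statements.S14105
import Mathlib
import Groth.Agent.S9766
import Groth.Agent.S14109

set_option autoImplicit false
universe u
open CategoryTheory CategoryTheory.Limits AlgebraicGeometry Opposite TopologicalSpace
open CInt

namespace Groth.Agent.S14105

section Helpers
open AlgebraicGeometry CategoryTheory Limits IsLocalRing

theorem dimflat14105 (A B : Type u) [CommRing A] [CommRing B] [IsNoetherianRing A] [IsLocalRing A]
    [IsNoetherianRing B] [IsLocalRing B] [Algebra A B]
    [IsLocalHom (algebraMap A B)] [Module.Flat A B] :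
    ringKrullDim B = ringKrullDim A +
      ringKrullDim (B ⧸ (maximalIdeal A).map (algebraMap A B)) := by
  haveI : IsLocalRing (B ⧸ (maximalIdeal A).map (algebraMap A B)) :=
    Groth.Agent.Helper1.CMAscent.isLocalRing_quot A B
  exact Groth.Agent.Helper1.FlatLocalCM.dim_eq_add A B _ rfl

set_option backward.isDefEq.respectTransparency false in
theorem noeth14105 {X S : Scheme.{u}} [IsLocallyNoetherian X] (f : X ⟶ S) (x : X) :
    IsNoetherianRing ↑(CInt.fiberStalk f x) := by
  obtain ⟨e⟩ := Groth.Agent.Helper24.FiberStalk.fiberStalkQuot f x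
  exact isNoetherianRing_of_ringEquiv _ e.symm

set_option backward.isDefEq.respectTransparency false in
theorem transport14105 {X S : Scheme.{u}} (f : X ⟶ S) (s : S) (w : f.fiber s) :
    Nonempty ((f.fiber s).presheaf.stalk w ≃+* ↑(CInt.fiberStalk f (f.fiberι s w))) := by
  have hr : Set.range (f.fiberι s) = f ⁻¹' {s} := Scheme.Hom.range_fiberι f s
  have hs : f (f.fiberι s w) = s := by
    have : f.fiberι s w ∈ f ⁻¹' {s} := by rw [← hr]; exact ⟨_, rfl⟩
    exact this
  have key : ∀ t (_ : f (f.fiberι s w) = t) (w' : f.fiber t), f.fiberι t w' = f.fiberι s w →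
      Nonempty ((f.fiber t).presheaf.stalk w' ≃+* ↑(CInt.fiberStalk f (f.fiberι s w))) := by
    intro t e
    subst e
    intro w' hw
    have : w' = f.asFiber (f.fiberι s w) :=
      (f.fiberι _).isEmbedding.injective (hw.trans (f.fiberι_asFiber _).symm)
    subst this
    exact ⟨RingEquiv.refl _⟩
  exact key s hs w rfl

set_option backward.isDefEq.respectTransparency false in
theorem F14105 {X Y X' Y' : Scheme.{u}} (f : X ⟶ Y) (f' : X' ⟶ Y') (g' : X' ⟶ X) (g : Y' ⟶ Y)
    (hc : IsPullback g' f' f g) [IsLocallyNoetherian X] [IsLocallyNoetherian X'] (s' : Y') :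
    ∃ Φ : f'.fiber s' ⟶ f.fiber (g s'), ∀ w : f'.fiber s',
      f.fiberι (g s') (Φ w) = g' (f'.fiberι s' w) ∧
      ringKrullDim ((f'.fiber s').presheaf.stalk w) =
        ringKrullDim ((f.fiber (g s')).presheaf.stalk (Φ w)) +
          ringKrullDim ↑(CInt.fiberStalk Φ w) := by
  have hres : Flat (Spec.map (g.residueFieldMap s')) := by
    rw [HasRingHomProperty.Spec_iff (P := @Flat)]
    algebraize [(g.residueFieldMap s').hom]
    show Module.Flat (Y.residueField (g s')) (Y'.residueField s')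
    infer_instance
  obtain ⟨Φ, pb, hΦι⟩ : ∃ Φ : f'.fiber s' ⟶ f.fiber (g s'),
      IsPullback Φ (f'.fiberToSpecResidueField s')
        (f.fiberToSpecResidueField (g s')) (Spec.map (g.residueFieldMap s')) ∧
      Φ ≫ f.fiberι (g s') = f'.fiberι s' ≫ g' := by
    refine ⟨_, isPullback_fiberToSpecResidueField_of_isPullback hc s', ?_⟩
    simp [Scheme.Hom.fiberι]
  have hΦ : Flat Φ := MorphismProperty.of_isPullback (P := @Flat) pb.flip hres
  refine ⟨Φ, fun w => ⟨?_, ?_⟩⟩
  · show (Φ ≫ f.fiberι (g s')) w = _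
    rw [hΦι]; rfl
  · haveI : IsNoetherianRing ((f.fiber (g s')).presheaf.stalk (Φ w)) := by
      obtain ⟨e⟩ := transport14105 f (g s') (Φ w)
      haveI := noeth14105 f (f.fiberι (g s') (Φ w))
      exact isNoetherianRing_of_ringEquiv _ e.symm
    haveI : IsNoetherianRing ((f'.fiber s').presheaf.stalk w) := by
      obtain ⟨e⟩ := transport14105 f' s' w
      haveI := noeth14105 f' (f'.fiberι s' w)
      exact isNoetherianRing_of_ringEquiv _ e.symm
    letI : Algebra ((f.fiber (g s')).presheaf.stalk (Φ w)) ((f'.fiber s').presheaf.stalk w) :=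
      (Φ.stalkMap w).hom.toAlgebra
    haveI : Module.Flat ((f.fiber (g s')).presheaf.stalk (Φ w))
        ((f'.fiber s').presheaf.stalk w) := Flat.stalkMap Φ w
    haveI : IsLocalHom (algebraMap ((f.fiber (g s')).presheaf.stalk (Φ w))
        ((f'.fiber s').presheaf.stalk w)) :=
      inferInstanceAs (IsLocalHom (Φ.stalkMap w).hom)
    have h := dimflat14105 ((f.fiber (g s')).presheaf.stalk (Φ w))
      ((f'.fiber s').presheaf.stalk w)
    obtain ⟨eq⟩ := Groth.Agent.Helper24.FiberStalk.fiberStalkQuot Φ w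
    rw [h]
    congr 1
    exact (ringKrullDim_eq_of_ringEquiv eq).symm

set_option backward.isDefEq.respectTransparency false in
theorem main14105 {X Y X' Y' : Scheme.{u}} (f : X ⟶ Y) (f' : X' ⟶ Y') (g' : X' ⟶ X) (g : Y' ⟶ Y)
    (hc : IsPullback g' f' f g) [IsLocallyNoetherian X] [IsLocallyNoetherian X'] :
    (∀ y' : X', ringKrullDim ↑(CInt.fiberStalk f (g' y')) ≤
      ringKrullDim ↑(CInt.fiberStalk f' y')) ∧
    (∀ y'₀ : X', ∃ y' : X', g' y' = g' y'₀ ∧
      ringKrullDim ↑(CInt.fiberStalk f' y') = ringKrullDim ↑(CInt.fiberStalk f (g' y'₀))) := by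
  have hcongr : ∀ a b : X, a = b →
      ringKrullDim ↑(CInt.fiberStalk f a) = ringKrullDim ↑(CInt.fiberStalk f b) := by
    rintro a _ rfl; rfl
  constructor
  · intro y'
    obtain ⟨Φ, hΦ⟩ := F14105 f f' g' g hc (f' y')
    obtain ⟨h1, h2⟩ := hΦ (f'.asFiber y')
    obtain ⟨e⟩ := transport14105 f (g (f' y')) (Φ (f'.asFiber y'))
    have hpt : f.fiberι (g (f' y')) (Φ (f'.asFiber y')) = g' y' := by
      rw [h1, Scheme.Hom.fiberι_asFiber]
    calc ringKrullDim ↑(CInt.fiberStalk f (g' y'))
        = ringKrullDim ↑(CInt.fiberStalk f (f.fiberι (g (f' y')) (Φ (f'.asFiber y')))) :=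
          hcongr _ _ hpt.symm
      _ = ringKrullDim ((f.fiber (g (f' y'))).presheaf.stalk (Φ (f'.asFiber y'))) :=
          (ringKrullDim_eq_of_ringEquiv e).symm
      _ ≤ ringKrullDim ((f.fiber (g (f' y'))).presheaf.stalk (Φ (f'.asFiber y'))) +
            ringKrullDim ↑(CInt.fiberStalk Φ (f'.asFiber y')) :=
          le_add_of_nonneg_right ringKrullDim_nonneg_of_nontrivial
      _ = ringKrullDim ↑(CInt.fiberStalk f' y') := h2.symm
  · intro y'₀
    obtain ⟨Φ, hΦ⟩ := F14105 f f' g' g hc (f' y'₀)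
    obtain ⟨w, hw, hdim⟩ := Groth.Agent.S14109.exists_dim_zero14109 Φ (Φ (f'.asFiber y'₀))
      ⟨f'.asFiber y'₀, rfl⟩
    obtain ⟨h1, h2⟩ := hΦ w
    obtain ⟨h10, -⟩ := hΦ (f'.asFiber y'₀)
    have hpt : f.fiberι (g (f' y'₀)) (Φ w) = g' y'₀ := by
      rw [hw, h10, Scheme.Hom.fiberι_asFiber]
    obtain ⟨e⟩ := transport14105 f (g (f' y'₀)) (Φ w)
    obtain ⟨e'⟩ := transport14105 f' (f' y'₀) w
    refine ⟨f'.fiberι (f' y'₀) w, ?_, ?_⟩
    · rw [← h1, hpt]
    · calc ringKrullDim ↑(CInt.fiberStalk f' (f'.fiberι (f' y'₀) w))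
          = ringKrullDim ((f'.fiber (f' y'₀)).presheaf.stalk w) :=
            (ringKrullDim_eq_of_ringEquiv e').symm
        _ = ringKrullDim ((f.fiber (g (f' y'₀))).presheaf.stalk (Φ w)) +
              ringKrullDim ↑(CInt.fiberStalk Φ w) := h2
        _ = ringKrullDim ((f.fiber (g (f' y'₀))).presheaf.stalk (Φ w)) := by
            rw [hdim, add_zero]
        _ = ringKrullDim ↑(CInt.fiberStalk f (f.fiberι (g (f' y'₀)) (Φ w))) :=
            ringKrullDim_eq_of_ringEquiv e
        _ = ringKrullDim ↑(CInt.fiberStalk f (g' y'₀)) := hcongr _ _ hpt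

end Helpers

/-- Let f : X → S be a morphism and g : S' → S a base change, with X, S, S' and X' = X ×_S S' locally
Noetherian, and let Y be a closed subset of X with preimage Y' under the projection X' → X. Writing
the codimension of a closed subset relative to a morphism as the infimum, over its points, of the
Krull dimension of the local ring of the fibre through that point: the codimension of Y' relative to
X' → S' is at least the codimension of Y relative to f, and the two are equal when the projection X'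
→ X maps Y' onto Y. -/
theorem result {X S S' : Scheme.{u}} (f : X ⟶ S) (g : S' ⟶ S)
    [IsLocallyNoetherian X] [IsLocallyNoetherian S] [IsLocallyNoetherian S']
    [IsLocallyNoetherian (pullback f g)] (Y : Set ↥X) (hY : IsClosed Y) :
    ((⨅ y : Y, ringKrullDim ↑(CInt.fiberStalk f y.1)) ≤
      ⨅ y' : (fun x' => (pullback.fst f g) x') ⁻¹' Y,
        ringKrullDim ↑(CInt.fiberStalk (pullback.snd f g) y'.1)) ∧
    (Y ⊆ Set.range (pullback.fst f g).base →
      (⨅ y' : (fun x' => (pullback.fst f g) x') ⁻¹' Y,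
        ringKrullDim ↑(CInt.fiberStalk (pullback.snd f g) y'.1)) =
        ⨅ y : Y, ringKrullDim ↑(CInt.fiberStalk f y.1)) := by
  have hc : IsPullback (pullback.fst f g) (pullback.snd f g) f g := IsPullback.of_hasPullback f g
  obtain ⟨H1, H2⟩ := main14105 f (pullback.snd f g) (pullback.fst f g) g hc
  have part1 : (⨅ y : Y, ringKrullDim ↑(CInt.fiberStalk f y.1)) ≤
      ⨅ y' : (fun x' => (pullback.fst f g) x') ⁻¹' Y,
        ringKrullDim ↑(CInt.fiberStalk (pullback.snd f g) y'.1) := by
    refine le_iInf fun y' => ?_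
    exact (iInf_le (fun y : Y => ringKrullDim ↑(CInt.fiberStalk f y.1))
      ⟨(pullback.fst f g) y'.1, y'.2⟩).trans (H1 y'.1)
  refine ⟨part1, fun hsub => le_antisymm ?_ part1⟩
  refine le_iInf fun y => ?_
  obtain ⟨y0, hy0⟩ := y
  obtain ⟨y'₀, rfl⟩ := hsub hy0
  obtain ⟨y', hy', hd⟩ := H2 y'₀
  refine (iInf_le (fun y' : (fun x' => (pullback.fst f g) x') ⁻¹' Y =>
    ringKrullDim ↑(CInt.fiberStalk (pullback.snd f g) y'.1)) ⟨y', ?_⟩).trans (le_of_eq hd)
  show (pullback.fst f g) y' ∈ Y
  rw [hy']; exact hy0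

end Groth.Agent.S14105
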