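import Groth.Statements.S1345
import Mathlib
import Groth.Agent.S1347
import Groth.Agent.S1405
import Groth.Agent.S2614
import Groth.Agent.S14105

set_option autoImplicit false
universe u
open FlatMor

namespace Groth.Agent.S1345

section Helpers
open AlgebraicGeometry CategoryTheory Limits IsLocalRing TensorProduct

theorem cm_tensor_isField1345 (k K L : Type u) [CommRing k] [CommRing K] [CommRing L]
    (hk : IsField k) (hK : IsField K) (hL : IsField L) [Algebra k K] [Algebra k L]
    [Algebra.EssFiniteType k K] : LocCoh.IsCohenMacaulayRing (K ⊗[k] L) := by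
  letI := hk.toField
  letI := hK.toField
  letI := hL.toField
  exact Groth.Agent.S2614.cm_tensor_field2614 k K L

set_option backward.isDefEq.respectTransparency false in
theorem cm_stalk_affine1345 {k K A : CommRingCat.{u}} (hk : IsField k) (hK : IsField K)
    (hA : IsField A) (φ : k ⟶ K) (hφ : φ.hom.EssFiniteType) (ψ : k ⟶ A) {P : Scheme.{u}}
    (a : P ⟶ Spec K) (b : P ⟶ Spec A)
    (h : IsPullback a b (Spec.map φ) (Spec.map ψ)) (z : P) :
    LocCoh.IsCohenMacaulayLocalRing (P.presheaf.stalk z) := by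
  algebraize [φ.hom, ψ.hom]
  haveI : Algebra.EssFiniteType k K := hφ
  have hCM : LocCoh.IsCohenMacaulayRing (K ⊗[k] A) := cm_tensor_isField1345 k K A hk hK hA
  let e1 : P ≅ pullback (Spec.map (CommRingCat.ofHom (algebraMap k K)))
      (Spec.map (CommRingCat.ofHom (algebraMap k A))) := h.isoPullback
  let e : P ≅ Spec (CommRingCat.of (K ⊗[k] A)) := e1 ≪≫ pullbackSpecIso k K A
  have e2 : P.presheaf.stalk z ≃+* Localization.AtPrime (e.hom z).asIdeal :=
    ((asIso (e.hom.stalkMap z)).symm ≪≫ Spec.stalkIso _ (e.hom z)).commRingCatIsoToRingEquiv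
  exact Groth.Agent.H29.FibTransport.cmLocal_of_ringEquiv e2.symm
    (hCM.isCohenMacaulayLocalRing_localization (e.hom z).asIdeal)

set_option backward.isDefEq.respectTransparency false in
theorem main1345 {X Y X' Y' : Scheme.{u}} (f : X ⟶ Y)
    (hN : ∀ y : Y, IsLocallyNoetherian (f.fiber y))
    (f' : X' ⟶ Y') (g' : X' ⟶ X) (g : Y' ⟶ Y) [LocallyOfFiniteType g]
    (hc : IsPullback g' f' f g) (x' : X')
    (h : MoreMor.IsCMAt f (g' x')) : MoreMor.IsCMAt f' x' := by
  refine ⟨Groth.Agent.S1347.flatBC_at1347 g g' f' f hc.flip x' h.1, ?_⟩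
  have hres : Flat (Spec.map (g.residueFieldMap (f' x'))) := by
    rw [HasRingHomProperty.Spec_iff (P := @Flat)]
    algebraize [(g.residueFieldMap (f' x')).hom]
    show Module.Flat (Y.residueField (g (f' x'))) (Y'.residueField (f' x'))
    infer_instance
  obtain ⟨Φ, pb, hΦι⟩ : ∃ Φ : f'.fiber (f' x') ⟶ f.fiber (g (f' x')),
      IsPullback Φ (f'.fiberToSpecResidueField (f' x'))
        (f.fiberToSpecResidueField (g (f' x'))) (Spec.map (g.residueFieldMap (f' x'))) ∧
      Φ ≫ f.fiberι (g (f' x')) = f'.fiberι (f' x') ≫ g' := by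
    refine ⟨_, isPullback_fiberToSpecResidueField_of_isPullback hc (f' x'), ?_⟩
    simp [Scheme.Hom.fiberι]
  have hΦ : Flat Φ := MorphismProperty.of_isPullback (P := @Flat) pb.flip hres
  haveI : IsLocallyNoetherian (f.fiber (g (f' x'))) := hN (g (f' x'))
  haveI : IsLocallyNoetherian (f'.fiber (f' x')) :=
    Groth.Agent.S1405.bc_noeth1405 (g.residueFieldMap (f' x'))
      (Groth.Agent.S1405.essFiniteType_residue1405 g (f' x')) Φ _ _ pb
  -- the base local ring is CM
  have hpt : f.fiberι (g (f' x')) (Φ (f'.asFiber x')) = g' x' := by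
    show (Φ ≫ f.fiberι (g (f' x'))) (f'.asFiber x') = _
    rw [hΦι]
    show g' ((f'.fiberι (f' x')) (f'.asFiber x')) = _
    rw [Scheme.Hom.fiberι_asFiber]
  obtain ⟨e⟩ := Groth.Agent.S14105.transport14105 f (g (f' x')) (Φ (f'.asFiber x'))
  have hA' : LocCoh.IsCohenMacaulayLocalRing
      ↑(CInt.fiberStalk f (f.fiberι (g (f' x')) (Φ (f'.asFiber x')))) := by
    rw [hpt]; exact h.2
  have hA : LocCoh.IsCohenMacaulayLocalRing
      ((f.fiber (g (f' x'))).presheaf.stalk (Φ (f'.asFiber x'))) :=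
    Groth.Agent.H29.FibTransport.cmLocal_of_ringEquiv e.symm hA'
  -- the fibre of Φ
  obtain ⟨ψ, hψ⟩ := Spec.map_surjective
    ((f.fiber (g (f' x'))).fromSpecResidueField (Φ (f'.asFiber x')) ≫
      f.fiberToSpecResidueField (g (f' x')))
  have top : IsPullback (Φ.fiberToSpecResidueField (Φ (f'.asFiber x')))
      (Φ.fiberι (Φ (f'.asFiber x')))
      ((f.fiber (g (f' x'))).fromSpecResidueField (Φ (f'.asFiber x'))) Φ :=
    (IsPullback.of_hasPullback Φ
      ((f.fiber (g (f' x'))).fromSpecResidueField (Φ (f'.asFiber x')))).flip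
  have big := top.paste_vert pb
  rw [← hψ] at big
  have hfib : LocCoh.IsCohenMacaulayLocalRing
      ((Φ.fiber (Φ (f'.asFiber x'))).presheaf.stalk (Φ.asFiber (f'.asFiber x'))) :=
    cm_stalk_affine1345 (Field.toIsField _) (Field.toIsField _) (Field.toIsField _)
      (g.residueFieldMap (f' x')) (Groth.Agent.S1405.essFiniteType_residue1405 g (f' x')) ψ
      _ _ big.flip _
  obtain ⟨eq⟩ := Groth.Agent.Helper24.FiberStalk.fiberStalkQuot Φ (f'.asFiber x')
  letI : Algebra ((f.fiber (g (f' x'))).presheaf.stalk (Φ (f'.asFiber x')))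
      ((f'.fiber (f' x')).presheaf.stalk (f'.asFiber x')) :=
    (Φ.stalkMap (f'.asFiber x')).hom.toAlgebra
  haveI : Module.Flat ((f.fiber (g (f' x'))).presheaf.stalk (Φ (f'.asFiber x')))
      ((f'.fiber (f' x')).presheaf.stalk (f'.asFiber x')) := Flat.stalkMap Φ (f'.asFiber x')
  haveI : IsLocalHom (algebraMap ((f.fiber (g (f' x'))).presheaf.stalk (Φ (f'.asFiber x')))
      ((f'.fiber (f' x')).presheaf.stalk (f'.asFiber x'))) :=
    inferInstanceAs (IsLocalHom (Φ.stalkMap (f'.asFiber x')).hom)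
  haveI : IsNoetherianRing ((f.fiber (g (f' x'))).presheaf.stalk (Φ (f'.asFiber x'))) := by
    haveI := hA; infer_instance
  have hQ : LocCoh.IsCohenMacaulayLocalRing
      ((f'.fiber (f' x')).presheaf.stalk (f'.asFiber x') ⧸
        (maximalIdeal ((f.fiber (g (f' x'))).presheaf.stalk (Φ (f'.asFiber x')))).map
          (algebraMap ((f.fiber (g (f' x'))).presheaf.stalk (Φ (f'.asFiber x')))
            ((f'.fiber (f' x')).presheaf.stalk (f'.asFiber x')))) :=
    Groth.Agent.H29.FibTransport.cmLocal_of_ringEquiv eq hfib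
  exact Groth.Agent.S9766.cm_ascent9766 _ _ hA hQ

end Helpers

open AlgebraicGeometry CategoryTheory Limits in
/-- Let f have locally Noetherian fibres and let f' be its base change along a morphism locally of
finite type. If f is Cohen–Macaulay at the image of a point x' of the new source, then f' is
Cohen–Macaulay at x'. -/
theorem result {X Y X' Y' : Scheme.{u}} (f : X ⟶ Y) (hN : ∀ y : Y, IsLocallyNoetherian (f.fiber y))
    (f' : X' ⟶ Y') (g' : X' ⟶ X) (g : Y' ⟶ Y) [LocallyOfFiniteType g] (hc : IsPullback g' f' f g) (x' : X')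
    (h : MoreMor.IsCMAt f (g' x')) : MoreMor.IsCMAt f' x' := by
  exact main1345 f hN f' g' g hc x' h

end Groth.Agent.S1345
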