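import Groth.Statements.S1342
import Mathlib
import Groth.Agent.S1345

set_option autoImplicit false
universe u
open FlatMor

namespace Groth.Agent.S1342

section Helpers
open AlgebraicGeometry CategoryTheory Limits IsLocalRing TensorProduct

theorem cm_tensor_isField1342 (k K L : Type u) [CommRing k] [CommRing K] [CommRing L]
    (hk : IsField k) (hK : IsField K) (hL : IsField L) [Algebra k K] [Algebra k L]
    (h : Algebra.EssFiniteType k K ∨ Algebra.EssFiniteType k L) :
    LocCoh.IsCohenMacaulayRing (K ⊗[k] L) := by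
  rcases h with h | h
  · exact Groth.Agent.S1345.cm_tensor_isField1345 k K L hk hK hL
  · exact Groth.Agent.H29.FibTransport.cm_of_ringEquiv
      (Algebra.TensorProduct.comm k L K).toRingEquiv
      (Groth.Agent.S1345.cm_tensor_isField1345 k L K hk hL hK)

set_option backward.isDefEq.respectTransparency false in
theorem cm_stalk_affine1342 {k K A : CommRingCat.{u}} (hk : IsField k) (hK : IsField K)
    (hA : IsField A) (φ : k ⟶ K) (ψ : k ⟶ A)
    (hφψ : φ.hom.EssFiniteType ∨ ψ.hom.EssFiniteType) {P : Scheme.{u}}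
    (a : P ⟶ Spec K) (b : P ⟶ Spec A)
    (h : IsPullback a b (Spec.map φ) (Spec.map ψ)) (z : P) :
    LocCoh.IsCohenMacaulayLocalRing (P.presheaf.stalk z) := by
  algebraize [φ.hom, ψ.hom]
  have h' : Algebra.EssFiniteType k K ∨ Algebra.EssFiniteType k A := hφψ
  have hCM : LocCoh.IsCohenMacaulayRing (K ⊗[k] A) := cm_tensor_isField1342 k K A hk hK hA h'
  let e1 : P ≅ pullback (Spec.map (CommRingCat.ofHom (algebraMap k K)))
      (Spec.map (CommRingCat.ofHom (algebraMap k A))) := h.isoPullback
  let e : P ≅ Spec (CommRingCat.of (K ⊗[k] A)) := e1 ≪≫ pullbackSpecIso k K A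
  have e2 : P.presheaf.stalk z ≃+* Localization.AtPrime (e.hom z).asIdeal :=
    ((asIso (e.hom.stalkMap z)).symm ≪≫ Spec.stalkIso _ (e.hom z)).commRingCatIsoToRingEquiv
  exact Groth.Agent.H29.FibTransport.cmLocal_of_ringEquiv e2.symm
    (hCM.isCohenMacaulayLocalRing_localization (e.hom z).asIdeal)

set_option backward.isDefEq.respectTransparency false in
theorem essFiniteType_of_lft1342 {Z : Scheme.{u}} {κ : CommRingCat.{u}} (p : Z ⟶ Spec κ)
    [LocallyOfFiniteType p] (z : Z) (ψ : κ ⟶ Z.residueField z)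
    (hψ : Spec.map ψ = Z.fromSpecResidueField z ≫ p) : ψ.hom.EssFiniteType := by
  have h1 := Scheme.Hom.SpecMap_residueFieldMap_fromSpecResidueField p z
  have h2 := Scheme.Spec.map_residueFieldIso_inv_eq_fromSpecResidueField κ (p z)
  have h3 : ψ = CommRingCat.ofHom (algebraMap κ (p z).asIdeal.ResidueField) ≫
      (Scheme.Spec.residueFieldIso κ (p z)).inv ≫ p.residueFieldMap z := by
    apply Spec.map_injective
    rw [hψ, ← h1, ← h2]
    simp only [Spec.map_comp, Category.assoc]
  rw [h3]
  simp only [CommRingCat.hom_comp]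
  refine RingHom.EssFiniteType.comp ?_ (RingHom.EssFiniteType.comp ?_
    (Groth.Agent.S1405.essFiniteType_residue1405 p z))
  · show (algebraMap κ (p z).asIdeal.ResidueField).EssFiniteType
    rw [RingHom.essFiniteType_algebraMap]; infer_instance
  · exact (RingHom.FiniteType.of_surjective _
      (Scheme.Spec.residueFieldIso κ (p z)).symm.commRingCatIsoToRingEquiv.surjective).essFiniteType

set_option backward.isDefEq.respectTransparency false in
theorem lft_fiber1342 {X Y : Scheme.{u}} (f : X ⟶ Y) [LocallyOfFiniteType f] (y : Y) :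
    LocallyOfFiniteType (f.fiberToSpecResidueField y) := by
  show LocallyOfFiniteType (pullback.snd f (Y.fromSpecResidueField y))
  infer_instance

set_option backward.isDefEq.respectTransparency false in
theorem fiber_noeth1342 {X Y : Scheme.{u}} (f : X ⟶ Y) [LocallyOfFiniteType f] (y : Y) :
    IsLocallyNoetherian (f.fiber y) := by
  haveI := lft_fiber1342 f y
  haveI : IsLocallyNoetherian (Spec (Y.residueField y)) :=
    isLocallyNoetherian_Spec.mpr inferInstance
  exact LocallyOfFiniteType.isLocallyNoetherian (f.fiberToSpecResidueField y)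

set_option backward.isDefEq.respectTransparency false in
theorem main1342 {X Y X' Y' : Scheme.{u}} (f : X ⟶ Y) [LocallyOfFiniteType f]
    (f' : X' ⟶ Y') (g' : X' ⟶ X) (g : Y' ⟶ Y)
    (hc : IsPullback g' f' f g) (x' : X')
    (h : MoreMor.IsCMAt f (g' x')) : MoreMor.IsCMAt f' x' := by
  refine ⟨Groth.Agent.S1347.flatBC_at1347 g g' f' f hc.flip x' h.1, ?_⟩
  have hres : Flat (Spec.map (g.residueFieldMap (f' x'))) := by
    rw [HasRingHomProperty.Spec_iff (P := @Flat)]
    algebraize [(g.residueFieldMap (f' x')).hom]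
    show Module.Flat (Y.residueField (g (f' x'))) (Y'.residueField (f' x'))
    infer_instance
  obtain ⟨Φ, pb, hΦι⟩ : ∃ Φ : f'.fiber (f' x') ⟶ f.fiber (g (f' x')),
      IsPullback Φ (f'.fiberToSpecResidueField (f' x'))
        (f.fiberToSpecResidueField (g (f' x'))) (Spec.map (g.residueFieldMap (f' x'))) ∧
      Φ ≫ f.fiberι (g (f' x')) = f'.fiberι (f' x') ≫ g' := by
    refine ⟨_, isPullback_fiberToSpecResidueField_of_isPullback hc (f' x'), ?_⟩
    simp [Scheme.Hom.fiberι]
  have hΦ : Flat Φ := MorphismProperty.of_isPullback (P := @Flat) pb.flip hres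
  haveI : IsLocallyNoetherian (f.fiber (g (f' x'))) := fiber_noeth1342 f _
  haveI : LocallyOfFiniteType f' :=
    MorphismProperty.of_isPullback (P := @LocallyOfFiniteType) hc inferInstance
  haveI : IsLocallyNoetherian (f'.fiber (f' x')) := fiber_noeth1342 f' _
  haveI := lft_fiber1342 f (g (f' x'))
  have hpt : f.fiberι (g (f' x')) (Φ (f'.asFiber x')) = g' x' := by
    show (Φ ≫ f.fiberι (g (f' x'))) (f'.asFiber x') = _
    rw [hΦι]
    show g' ((f'.fiberι (f' x')) (f'.asFiber x')) = _
    rw [Scheme.Hom.fiberι_asFiber]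
  obtain ⟨e⟩ := Groth.Agent.S14105.transport14105 f (g (f' x')) (Φ (f'.asFiber x'))
  have hA' : LocCoh.IsCohenMacaulayLocalRing
      ↑(CInt.fiberStalk f (f.fiberι (g (f' x')) (Φ (f'.asFiber x')))) := by
    rw [hpt]; exact h.2
  have hA : LocCoh.IsCohenMacaulayLocalRing
      ((f.fiber (g (f' x'))).presheaf.stalk (Φ (f'.asFiber x'))) :=
    Groth.Agent.H29.FibTransport.cmLocal_of_ringEquiv e.symm hA'
  obtain ⟨ψ, hψ⟩ := Spec.map_surjective
    ((f.fiber (g (f' x'))).fromSpecResidueField (Φ (f'.asFiber x')) ≫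
      f.fiberToSpecResidueField (g (f' x')))
  have hψe : ψ.hom.EssFiniteType :=
    essFiniteType_of_lft1342 (f.fiberToSpecResidueField (g (f' x'))) (Φ (f'.asFiber x')) ψ hψ
  have top : IsPullback (Φ.fiberToSpecResidueField (Φ (f'.asFiber x')))
      (Φ.fiberι (Φ (f'.asFiber x')))
      ((f.fiber (g (f' x'))).fromSpecResidueField (Φ (f'.asFiber x'))) Φ :=
    (IsPullback.of_hasPullback Φ
      ((f.fiber (g (f' x'))).fromSpecResidueField (Φ (f'.asFiber x')))).flip
  have big := top.paste_vert pb
  rw [← hψ] at big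
  have hfib : LocCoh.IsCohenMacaulayLocalRing
      ((Φ.fiber (Φ (f'.asFiber x'))).presheaf.stalk (Φ.asFiber (f'.asFiber x'))) :=
    cm_stalk_affine1342 (Field.toIsField _) (Field.toIsField _) (Field.toIsField _)
      (g.residueFieldMap (f' x')) ψ (Or.inr hψe) _ _ big.flip _
  obtain ⟨eq⟩ := Groth.Agent.Helper24.FiberStalk.fiberStalkQuot Φ (f'.asFiber x')
  letI : Algebra ((f.fiber (g (f' x'))).presheaf.stalk (Φ (f'.asFiber x')))
      ((f'.fiber (f' x')).presheaf.stalk (f'.asFiber x')) :=
    (Φ.stalkMap (f'.asFiber x')).hom.toAlgebra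
  haveI : Module.Flat ((f.fiber (g (f' x'))).presheaf.stalk (Φ (f'.asFiber x')))
      ((f'.fiber (f' x')).presheaf.stalk (f'.asFiber x')) := Flat.stalkMap Φ (f'.asFiber x')
  haveI : IsLocalHom (algebraMap ((f.fiber (g (f' x'))).presheaf.stalk (Φ (f'.asFiber x')))
      ((f'.fiber (f' x')).presheaf.stalk (f'.asFiber x'))) :=
    inferInstanceAs (IsLocalHom (Φ.stalkMap (f'.asFiber x')).hom)
  haveI : IsNoetherianRing ((f.fiber (g (f' x'))).presheaf.stalk (Φ (f'.asFiber x'))) := by
    haveI := hA; infer_instance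
  have hQ : LocCoh.IsCohenMacaulayLocalRing
      ((f'.fiber (f' x')).presheaf.stalk (f'.asFiber x') ⧸
        (maximalIdeal ((f.fiber (g (f' x'))).presheaf.stalk (Φ (f'.asFiber x')))).map
          (algebraMap ((f.fiber (g (f' x'))).presheaf.stalk (Φ (f'.asFiber x')))
            ((f'.fiber (f' x')).presheaf.stalk (f'.asFiber x')))) :=
    Groth.Agent.H29.FibTransport.cmLocal_of_ringEquiv eq hfib
  exact Groth.Agent.S9766.cm_ascent9766 _ _ hA hQ

end Helpers

open AlgebraicGeometry CategoryTheory Limits in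
/-- For a flat morphism locally of finite presentation, the formation of the Cohen–Macaulay locus
commutes with arbitrary base change: in a cartesian square the Cohen–Macaulay locus of the
base-changed morphism is the preimage of the Cohen–Macaulay locus of f. -/
theorem result {X S X' S' : Scheme.{u}} (f : X ⟶ S) [Flat f] [LocallyOfFinitePresentation f]
    (f' : X' ⟶ S') (g' : X' ⟶ X) (g : S' ⟶ S) (hc : IsPullback g' f' f g) :
    {x' : ↑X' | MoreMor.IsCMAt f' x'} = g' ⁻¹' {x : ↑X | MoreMor.IsCMAt f x} := by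
  ext x'
  simp only [Set.mem_setOf_eq, Set.mem_preimage]
  constructor
  · intro h
    exact Groth.Agent.S1346.main1346 f (fun y => fiber_noeth1342 f y) f' g' g hc x'
      (Flat.stalkMap f (g' x')) h
  · intro h
    exact main1342 f f' g' g hc x' h

end Groth.Agent.S1342
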