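import Mathlib
import Groth.Statements.S13421
-- import your own Groth.Agent.* helpers here

set_option autoImplicit false
universe u
open CategoryTheory AlgebraicGeometry
open NeronHD

namespace Groth.Agent.S13421

open CategoryTheory.Limits

theorem pb_map_fst {T T' : Scheme.{u}} (h : T' ⟶ T) {A B : Over T} (a : A ⟶ B) :
    ((Over.pullback h).map a).left ≫ pullback.fst B.hom h = pullback.fst A.hom h ≫ a.left := by
  simp only [Over.pullback_map_left]
  exact pullback.lift_fst _ _ _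

theorem pb_hom_ext {T T' : Scheme.{u}} (h : T' ⟶ T) {A' : Over T'} {B : Over T}
    (φ ψ : A' ⟶ (Over.pullback h).obj B)
    (hfst : φ.left ≫ pullback.fst B.hom h = ψ.left ≫ pullback.fst B.hom h) : φ = ψ := by
  apply Over.OverMorphism.ext
  apply pullback.hom_ext hfst
  have h1 := Over.w φ
  have h2 := Over.w ψ
  simp at h1 h2
  rw [h1, h2]

theorem smooth_of_comp_etale {X Y Z : Scheme.{u}} (z : X ⟶ Y) (f : Y ⟶ Z) [Etale f]
    [Smooth (z ≫ f)] : Smooth z := by
  haveI : MorphismProperty.IsMultiplicative @Smooth :=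
    { id_mem := fun X => (inferInstance : Smooth (𝟙 X)) }
  have : MorphismProperty.HasOfPostcompProperty @Smooth @Etale :=
    (MorphismProperty.hasOfPostcompProperty_iff_le_diagonal (P := @Smooth) (Q := @Etale)).mpr (by
      intro X Y f hf
      haveI : Etale f := hf
      show Smooth (pullback.diagonal f)
      infer_instance)
  exact MorphismProperty.of_postcomp (W := @Smooth) (W' := @Etale) z f ‹_› ‹_›

theorem exists_u {S T : Scheme.{u}} (f : S ⟶ T) (T₀ : T.Opens) {W : Scheme.{u}} (z : W ⟶ S)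
    (w : W ⟶ T) (hzf : z ≫ f = w) :
    ∃ u : pullback z (f ⁻¹ᵁ T₀).ι ≅ pullback w T₀.ι,
      u.hom ≫ pullback.fst w T₀.ι = pullback.fst z (f ⁻¹ᵁ T₀).ι ∧
      u.hom ≫ pullback.snd w T₀.ι = pullback.snd z (f ⁻¹ᵁ T₀).ι ≫ (f ∣_ T₀) := by
  subst hzf
  have h1 : IsPullback (pullback.snd z (f ⁻¹ᵁ T₀).ι) (pullback.fst z (f ⁻¹ᵁ T₀).ι)
      (f ⁻¹ᵁ T₀).ι z := (IsPullback.of_hasPullback z (f ⁻¹ᵁ T₀).ι).flip
  have h2 : IsPullback (f ∣_ T₀) (f ⁻¹ᵁ T₀).ι T₀.ι f := isPullback_morphismRestrict f T₀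
  have h3 := (h1.paste_horiz h2).flip
  exact ⟨h3.isoPullback, h3.isoPullback_hom_fst, h3.isoPullback_hom_snd⟩


/-- Let T be a locally Noetherian scheme over a field of characteristic 0 and T₀ ⊆ T a
scheme-theoretically dense open. Let f : S → T be étale and such that S, viewed as a T-scheme, has
the Néron mapping property for T₀ ⊆ T, and let g : N → S be smooth and such that N, viewed as an
S-scheme, has the Néron mapping property for f⁻¹(T₀) ⊆ S (restriction of morphisms from smooth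
schemes over the base is bijective). Then N → T, the composite g ≫ f, has the Néron mapping property
for T₀ ⊆ T. (Case of schemes, with smooth test schemes, of a statement about algebraic spaces.) -/
theorem result {k : Type u} [Field k] [CharZero k] {T : Scheme.{u}} (τ : T ⟶ Spec (CommRingCat.of k)) [IsLocallyNoetherian T] (T₀ : T.Opens) (hT₀ : CInt.IsSchematicallyDense T₀)
    {S N : Scheme.{u}} (f : S ⟶ T) [Etale f] (g : N ⟶ S) [Smooth g]
    (hS : ∀ Z : Over T, Smooth Z.hom → Function.Bijective (fun g : Z ⟶ Over.mk f => (Over.pullback T₀.ι).map g))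
    (hN : ∀ Z : Over S, Smooth Z.hom → Function.Bijective (fun g : Z ⟶ Over.mk g => (Over.pullback (f ⁻¹ᵁ T₀).ι).map g)) :
    ∀ Z : Over T, Smooth Z.hom → Function.Bijective (fun g : Z ⟶ Over.mk (g ≫ f) => (Over.pullback T₀.ι).map g) := by
  intro Z hZ
  haveI : Smooth Z.hom := hZ
  obtain ⟨G, hG⟩ : ∃ G : Over.mk (g ≫ f) ⟶ Over.mk f, G.left = g := ⟨Over.homMk g rfl, rfl⟩
  constructor
  · intro a b hab
    have hab' : (Over.pullback T₀.ι).map a = (Over.pullback T₀.ι).map b := hab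
    have h1 : a ≫ G = b ≫ G := by
      apply (hS Z hZ).1
      show (Over.pullback T₀.ι).map (a ≫ G) = (Over.pullback T₀.ι).map (b ≫ G)
      rw [Functor.map_comp, Functor.map_comp, hab']
    have h1' : a.left ≫ g = b.left ≫ g := by
      have := congrArg (fun t => Over.Hom.left t) h1
      simp only [Over.comp_left, hG] at this
      exact this
    obtain ⟨z, hz⟩ : ∃ z : Z.left ⟶ S, z = a.left ≫ g := ⟨_, rfl⟩
    have hzf : z ≫ f = Z.hom := by
      rw [hz, Category.assoc]; exact Over.w a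
    haveI : Smooth (z ≫ f) := by rw [hzf]; exact hZ
    have hsz : Smooth z := smooth_of_comp_etale z f
    obtain ⟨u, hu1, hu2⟩ := exists_u f T₀ z Z.hom hzf
    obtain ⟨a', ha'⟩ : ∃ a' : Over.mk z ⟶ Over.mk g, a'.left = a.left :=
      ⟨Over.homMk a.left hz.symm, rfl⟩
    obtain ⟨b', hb'⟩ : ∃ b' : Over.mk z ⟶ Over.mk g, b'.left = b.left :=
      ⟨Over.homMk b.left (by rw [hz, h1']; rfl), rfl⟩
    have hab'' : a' = b' := by
      apply (hN (Over.mk z) hsz).1
      show (Over.pullback (f ⁻¹ᵁ T₀).ι).map a' = (Over.pullback (f ⁻¹ᵁ T₀).ι).map b'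
      apply pb_hom_ext
      rw [pb_map_fst, pb_map_fst, ha', hb']
      show pullback.fst z (f ⁻¹ᵁ T₀).ι ≫ a.left = pullback.fst z (f ⁻¹ᵁ T₀).ι ≫ b.left
      rw [← hu1, Category.assoc, Category.assoc]
      congr 1
      have h2 := congrArg (fun t => t.left ≫ pullback.fst (Over.mk (g ≫ f)).hom T₀.ι) hab'
      simp only [pb_map_fst] at h2
      exact h2
    apply Over.OverMorphism.ext
    rw [← ha', ← hb', hab'']
  · intro φ
    obtain ⟨c, hc⟩ := (hS Z hZ).2 (φ ≫ (Over.pullback T₀.ι).map G)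
    have hc' : (Over.pullback T₀.ι).map c = φ ≫ (Over.pullback T₀.ι).map G := hc
    obtain ⟨z, hz⟩ : ∃ z : Z.left ⟶ S, z = c.left := ⟨_, rfl⟩
    have hzf : z ≫ f = Z.hom := by
      rw [hz]; exact Over.w c
    haveI : Smooth (z ≫ f) := by rw [hzf]; exact hZ
    have hsz : Smooth z := smooth_of_comp_etale z f
    obtain ⟨u, hu1, hu2⟩ := exists_u f T₀ z Z.hom hzf
    have hkey : φ.left ≫ pullback.fst (g ≫ f) T₀.ι ≫ g = pullback.fst Z.hom T₀.ι ≫ z := by
      have h2 := congrArg (fun t => t.left ≫ pullback.fst (Over.mk f).hom T₀.ι) hc'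
      simp only [Over.comp_left, Category.assoc, pb_map_fst, hG] at h2
      rw [hz]
      exact h2.symm
    obtain ⟨ψl, hψl⟩ : ∃ ψl : pullback z (f ⁻¹ᵁ T₀).ι ⟶ pullback g (f ⁻¹ᵁ T₀).ι,
        ψl = pullback.lift (u.hom ≫ φ.left ≫ pullback.fst (g ≫ f) T₀.ι)
          (pullback.snd z (f ⁻¹ᵁ T₀).ι) (by
            rw [Category.assoc, Category.assoc, hkey, ← Category.assoc, hu1,
              pullback.condition]) := ⟨_, rfl⟩
    have hψ1 : ψl ≫ pullback.fst g (f ⁻¹ᵁ T₀).ι = u.hom ≫ φ.left ≫ pullback.fst (g ≫ f) T₀.ι := by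
      rw [hψl, pullback.lift_fst]
    have hψ2 : ψl ≫ pullback.snd g (f ⁻¹ᵁ T₀).ι = pullback.snd z (f ⁻¹ᵁ T₀).ι := by
      rw [hψl, pullback.lift_snd]
    obtain ⟨ψ, hψ⟩ : ∃ ψ : (Over.pullback (f ⁻¹ᵁ T₀).ι).obj (Over.mk z) ⟶
        (Over.pullback (f ⁻¹ᵁ T₀).ι).obj (Over.mk g), ψ.left = ψl :=
      ⟨Over.homMk ψl hψ2, rfl⟩
    obtain ⟨d, hd⟩ := (hN (Over.mk z) hsz).2 ψ
    have hd' : (Over.pullback (f ⁻¹ᵁ T₀).ι).map d = ψ := hd
    have hdg : d.left ≫ g = z := Over.w d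
    obtain ⟨a, ha⟩ : ∃ a : Z ⟶ Over.mk (g ≫ f), a.left = d.left :=
      ⟨Over.homMk d.left (by
        show d.left ≫ g ≫ f = Z.hom
        rw [← Category.assoc, hdg, hzf]), rfl⟩
    refine ⟨a, ?_⟩
    show (Over.pullback T₀.ι).map a = φ
    apply pb_hom_ext
    rw [pb_map_fst, ha]
    show pullback.fst Z.hom T₀.ι ≫ d.left = φ.left ≫ pullback.fst (g ≫ f) T₀.ι
    rw [← cancel_epi u.hom, ← Category.assoc, hu1, ← hψ1, ← hψ]
    have h2 := congrArg (fun t => t.left ≫ pullback.fst (Over.mk g).hom (f ⁻¹ᵁ T₀).ι) hd'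
    simp only [pb_map_fst] at h2
    exact h2

end Groth.Agent.S13421
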