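import Mathlib
import Groth.Statements.S13427
-- import your own Groth.Agent.* helpers here

set_option autoImplicit false
universe u
open CategoryTheory AlgebraicGeometry
open NeronHD

namespace Groth.Agent.S13427



/-- Let S be a locally Noetherian scheme over a field of characteristic 0, S₀ ⊆ S a scheme-theoretically
dense open, and G, H smooth S-schemes with the Néron mapping property for S₀ ⊆ S (restriction to S₀
of S-morphisms from smooth S-schemes is bijective). Let f : G → H be an S-morphism and e : S → H a
section of H → S, and let K = G ×_H S be the fibre of f over e (the case in view: f a homomorphism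
of smooth group schemes, e the unit, K the kernel, so that 1 → K → G → H is left exact). If K → S is
smooth, then K has the Néron mapping property for S₀ ⊆ S. (Case of schemes, with smooth test
schemes, of a statement about group algebraic spaces.) -/
theorem result {k : Type u} [Field k] [CharZero k] {S : Scheme.{u}} (σ : S ⟶ Spec (CommRingCat.of k)) [IsLocallyNoetherian S] (S₀ : S.Opens) (hS₀ : CInt.IsSchematicallyDense S₀)
    (G H : Over S) [Smooth G.hom] [Smooth H.hom]
    (hG : ∀ Z : Over S, Smooth Z.hom → Function.Bijective (fun g : Z ⟶ G => (Over.pullback S₀.ι).map g))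
    (hH : ∀ Z : Over S, Smooth Z.hom → Function.Bijective (fun g : Z ⟶ H => (Over.pullback S₀.ι).map g))
    (f : G ⟶ H) (e : S ⟶ H.left) (he : e ≫ H.hom = 𝟙 S)
    [Smooth (Limits.pullback.snd f.left e)] :
    ∀ Z : Over S, Smooth Z.hom → Function.Bijective (fun g : Z ⟶ Over.mk (Limits.pullback.snd f.left e) => (Over.pullback S₀.ι).map g) := by
  intro Z hZ
  have hcond : Limits.pullback.fst f.left e ≫ G.hom = Limits.pullback.snd f.left e := by
    rw [← Over.w f, ← Category.assoc, Limits.pullback.condition, Category.assoc, he,
      Category.comp_id]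
  obtain ⟨πG, hπG⟩ : ∃ πG : Over.mk (Limits.pullback.snd f.left e) ⟶ G,
      πG.left = Limits.pullback.fst f.left e :=
    ⟨Over.homMk (Limits.pullback.fst f.left e) hcond, rfl⟩
  have hε : ∀ W : Over S, ∃ ε : W ⟶ H, ε.left = W.hom ≫ e := fun W =>
    ⟨Over.homMk (W.hom ≫ e) (by
      show (W.hom ≫ e) ≫ H.hom = W.hom
      rw [Category.assoc, he, Category.comp_id]), rfl⟩
  obtain ⟨εZ, hεZ⟩ := hε Z
  obtain ⟨εK, hεK⟩ := hε (Over.mk (Limits.pullback.snd f.left e))
  have hπf : πG ≫ f = εK := by
    apply Over.OverMorphism.ext
    rw [Over.comp_left, hπG, hεK]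
    exact Limits.pullback.condition
  constructor
  · intro g₁ g₂ h
    have h2 : (Over.pullback S₀.ι).map g₁ = (Over.pullback S₀.ι).map g₂ := h
    have hG1 : g₁ ≫ πG = g₂ ≫ πG := (hG Z hZ).1 (by
      show (Over.pullback S₀.ι).map (g₁ ≫ πG) = (Over.pullback S₀.ι).map (g₂ ≫ πG)
      rw [Functor.map_comp, Functor.map_comp, h2])
    apply Over.OverMorphism.ext
    apply Limits.pullback.hom_ext
    · have := congrArg (fun t => t.left) hG1
      simpa [hπG] using this
    · exact (Over.w g₁).trans (Over.w g₂).symm
  · intro a
    obtain ⟨bG, hbG⟩ := (hG Z hZ).2 (a ≫ (Over.pullback S₀.ι).map πG)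
    have hbG' : (Over.pullback S₀.ι).map bG = a ≫ (Over.pullback S₀.ι).map πG := hbG
    have haε : a ≫ (Over.pullback S₀.ι).map εK = (Over.pullback S₀.ι).map εZ := by
      have f1 : ((Over.pullback S₀.ι).map εK).left ≫ Limits.pullback.fst H.hom S₀.ι =
          Limits.pullback.fst (Limits.pullback.snd f.left e) S₀.ι ≫ εK.left :=
        Limits.pullback.lift_fst _ _ _
      have f2 : ((Over.pullback S₀.ι).map εZ).left ≫ Limits.pullback.fst H.hom S₀.ι =
          Limits.pullback.fst Z.hom S₀.ι ≫ εZ.left :=
        Limits.pullback.lift_fst _ _ _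
      have wa : a.left ≫ Limits.pullback.snd (Limits.pullback.snd f.left e) S₀.ι =
          Limits.pullback.snd Z.hom S₀.ι := Over.w a
      apply Over.OverMorphism.ext
      apply Limits.pullback.hom_ext
      · rw [Over.comp_left, Category.assoc, f1, f2, hεK, hεZ]
        show a.left ≫ Limits.pullback.fst (Limits.pullback.snd f.left e) S₀.ι ≫
          Limits.pullback.snd f.left e ≫ e = _
        rw [Limits.pullback.condition_assoc, ← Category.assoc, wa,
          ← Limits.pullback.condition_assoc]
      · exact (Over.w (a ≫ (Over.pullback S₀.ι).map εK)).trans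
          (Over.w ((Over.pullback S₀.ι).map εZ)).symm
    have hbf : bG ≫ f = εZ := (hH Z hZ).1 (by
      show (Over.pullback S₀.ι).map (bG ≫ f) = (Over.pullback S₀.ι).map εZ
      rw [Functor.map_comp, hbG', Category.assoc, ← Functor.map_comp, hπf, haε])
    have hbf' : bG.left ≫ f.left = Z.hom ≫ e := by
      have := congrArg (fun t => t.left) hbf
      simpa [hεZ] using this
    obtain ⟨g, hg⟩ : ∃ g : Z ⟶ Over.mk (Limits.pullback.snd f.left e),
        g.left = Limits.pullback.lift bG.left Z.hom hbf' :=
      ⟨Over.homMk (Limits.pullback.lift bG.left Z.hom hbf') (Limits.pullback.lift_snd _ _ _), rfl⟩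
    have hgG : g ≫ πG = bG := by
      apply Over.OverMorphism.ext
      rw [Over.comp_left, hg, hπG, Limits.pullback.lift_fst]
    refine ⟨g, ?_⟩
    show (Over.pullback S₀.ι).map g = a
    have eG : (Over.pullback S₀.ι).map g ≫ (Over.pullback S₀.ι).map πG =
        a ≫ (Over.pullback S₀.ι).map πG := by
      rw [← Functor.map_comp, hgG, hbG']
    have fG : ((Over.pullback S₀.ι).map πG).left ≫ Limits.pullback.fst G.hom S₀.ι =
        Limits.pullback.fst (Limits.pullback.snd f.left e) S₀.ι ≫ πG.left :=
      Limits.pullback.lift_fst _ _ _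
    have wa : a.left ≫ Limits.pullback.snd (Limits.pullback.snd f.left e) S₀.ι =
        Limits.pullback.snd Z.hom S₀.ι := Over.w a
    have wg : ((Over.pullback S₀.ι).map g).left ≫
        Limits.pullback.snd (Limits.pullback.snd f.left e) S₀.ι =
        Limits.pullback.snd Z.hom S₀.ι := Over.w ((Over.pullback S₀.ι).map g)
    apply Over.OverMorphism.ext
    apply Limits.pullback.hom_ext
    · apply Limits.pullback.hom_ext
      · have := congrArg (fun t => t.left ≫ Limits.pullback.fst G.hom S₀.ι) eG
        simp only [Over.comp_left, Category.assoc] at this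
        rw [fG, hπG] at this
        simpa [Category.assoc] using this
      · have hcK : Limits.pullback.fst (Over.mk (Limits.pullback.snd f.left e)).hom S₀.ι ≫
            Limits.pullback.snd f.left e =
            Limits.pullback.snd (Over.mk (Limits.pullback.snd f.left e)).hom S₀.ι ≫ S₀.ι :=
          Limits.pullback.condition
        rw [Category.assoc, Category.assoc, hcK, ← Category.assoc, ← Category.assoc]
        exact congrArg (· ≫ S₀.ι) (wg.trans wa.symm)
    · exact wg.trans wa.symm

end Groth.Agent.S13427
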