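import Mathlib
import Groth.Statements.S13428
import Groth.Agent.Lib.Helper9.NeronProd
-- import your own Groth.Agent.* helpers here

set_option autoImplicit false
universe u
open CategoryTheory AlgebraicGeometry
open NeronHD

namespace Groth.Agent.S13428


open CategoryTheory.Limits TensorProduct
open Groth.Agent.Helper9.NeronProd

theorem fu_of_loc {A B T : Type u} [CommRing A] [CommRing B] [CommRing T] [Algebra A B]
    [Algebra B T] [Algebra A T] [IsScalarTower A B T] (g : B) [IsLocalization.Away g T]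
    [Nontrivial T] [Algebra.IsStandardSmooth A B] [Algebra.FormallyUnramified A T] :
    Algebra.FormallyUnramified A B := by
  haveI : Algebra.FormallyEtale B T := Algebra.FormallyEtale.of_isLocalization (Submonoid.powers g)
  have e := KaehlerDifferential.tensorKaehlerEquivOfFormallyEtale A B T
  haveI : Subsingleton (T ⊗[B] Ω[B⁄A]) := e.toEquiv.subsingleton
  let b := Module.Free.chooseBasis B Ω[B⁄A]
  let bT := Algebra.TensorProduct.basis T b
  haveI : IsEmpty (Module.Free.ChooseBasisIndex B Ω[B⁄A]) := by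
    by_contra hne
    rw [not_isEmpty_iff] at hne
    obtain ⟨i⟩ := hne
    exact bT.ne_zero i (Subsingleton.elim _ _)
  constructor
  exact b.repr.toEquiv.subsingleton

theorem ringHom_fu_of_loc {A B T : Type u} [CommRing A] [CommRing B] [CommRing T] (φ : A →+* B)
    (ψ : B →+* T) (g : B) (hloc : letI := ψ.toAlgebra; IsLocalization.Away g T) [Nontrivial T]
    (hφ : φ.IsStandardSmooth) (hψφ : (ψ.comp φ).FormallyUnramified) : φ.FormallyUnramified := by
  algebraize [φ, ψ, ψ.comp φ]
  exact fu_of_loc (A := A) (B := B) (T := T) g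

theorem appLE_fu_congr {X Y : Scheme.{u}} (f : X ⟶ Y) {U U' : Y.Opens} {V V' : X.Opens}
    (hU : U' = U) (hV : V' = V) (e : V ≤ f ⁻¹ᵁ U) (e' : V' ≤ f ⁻¹ᵁ U')
    (h : (f.appLE U' V' e').hom.FormallyUnramified) : (f.appLE U V e).hom.FormallyUnramified := by
  subst hU hV
  exact h

/-- A smooth morphism which is formally unramified over a dense open of the source is
formally unramified. -/
theorem fu_of_dense {X Y : Scheme.{u}} (f : X ⟶ Y) [Smooth f] (W : X.Opens)
    (hW : Dense (W : Set X)) (hfu : FormallyUnramified (W.ι ≫ f)) : FormallyUnramified f := by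
  rw [HasRingHomProperty.iff_exists_appLE (P := @FormallyUnramified)
    (RingHom.FormallyUnramified.stableUnderComposition.stableUnderCompositionWithLocalizationAway
      RingHom.FormallyUnramified.holdsForLocalizationAway).left]
  intro x
  obtain ⟨U, hU, V, hV, hxV, e, hstd⟩ := Smooth.exists_isStandardSmooth f x
  refine ⟨⟨U, hU⟩, ⟨V, hV⟩, hxV, e, ?_⟩
  obtain ⟨y, hyV, hyW⟩ := hW.inter_open_nonempty V V.2 ⟨x, hxV⟩
  obtain ⟨g, hgW, hyg⟩ := hV.exists_basicOpen_le (V := W) ⟨y, hyW⟩ hyV
  have hDV : X.basicOpen g ≤ V := X.basicOpen_le g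
  have hD : IsAffineOpen (X.basicOpen g) := hV.basicOpen g
  have hfuD : FormallyUnramified ((X.basicOpen g).ι ≫ f) := by
    have : (X.basicOpen g).ι ≫ f = X.homOfLE hgW ≫ (W.ι ≫ f) := by
      rw [← Category.assoc, Scheme.homOfLE_ι]
    rw [this]
    exact MorphismProperty.comp_mem (W := @FormallyUnramified) _ _ inferInstance hfu
  have e' : X.basicOpen g ≤ f ⁻¹ᵁ U := hDV.trans e
  have hres : FormallyUnramified (f.resLE U (X.basicOpen g) e') := by
    haveI : FormallyUnramified (f.resLE U (X.basicOpen g) e' ≫ U.ι) := by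
      rw [Scheme.Hom.resLE_comp_ι]; exact hfuD
    exact FormallyUnramified.of_comp (f.resLE U (X.basicOpen g) e') U.ι
  haveI : IsAffine (X.basicOpen g).toScheme := hD
  haveI : IsAffine U.toScheme := hU
  have h1 : ((f.resLE U (X.basicOpen g) e').appLE ⊤ ⊤ (by simp)).hom.FormallyUnramified :=
    HasRingHomProperty.appLE (P := @FormallyUnramified) _ hres
      ⟨⊤, isAffineOpen_top _⟩ ⟨⊤, isAffineOpen_top _⟩ (by simp)
  have hEq := Scheme.Hom.resLE_appLE f e' ⊤ ⊤ (by simp)
  rw [hEq] at h1
  have h2 : (f.appLE U (X.basicOpen g) e').hom.FormallyUnramified :=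
    appLE_fu_congr f (by simp) (by simp) e' _ h1
  rw [← f.appLE_map e (homOfLE hDV).op] at h2
  haveI : Nonempty (X.basicOpen g) := ⟨⟨y, hyg⟩⟩
  haveI : Nontrivial Γ(X, X.basicOpen g) := inferInstance
  exact ringHom_fu_of_loc (f.appLE U V e).hom (X.presheaf.map (homOfLE hDV).op).hom g
    (hV.isLocalization_basicOpen g) hstd h2

theorem dense_of_sd {S : Scheme.{u}} (S₀ : S.Opens) (h : CInt.IsSchematicallyDense S₀) :
    Dense (S₀ : Set S) := by
  rw [dense_iff_inter_open]
  intro V hV hne
  by_contra hempty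
  rw [Set.not_nonempty_iff_eq_empty] at hempty
  let V' : S.Opens := ⟨V, hV⟩
  have hbot : V' ⊓ S₀ = ⊥ := by
    apply TopologicalSpace.Opens.ext
    exact hempty
  have hinj := h V'
  haveI : Nonempty V' := hne.to_subtype
  haveI : Nontrivial Γ(S, V') := inferInstance
  haveI hsub : Subsingleton Γ(S, V' ⊓ S₀) := by rw [hbot]; infer_instance
  exact not_subsingleton _ (hinj.subsingleton)

/-- Étale separated morphism between étale `S`-schemes that is an isomorphism over a dense open
is a monomorphism. -/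
theorem mono_of_dense {S : Scheme.{u}} (S₀ : S.Opens) (hd : Dense (S₀ : Set S)) (M N : Over S)
    [Etale M.hom] (φ : M ⟶ N) [Etale φ.left] [IsSeparated φ.left]
    [IsIso ((Over.pullback S₀.ι).map φ)] : Mono φ.left := by
  rw [← pullback.isIso_diagonal_iff]
  haveI : IsOpenImmersion (pullback.diagonal φ.left) := inferInstance
  haveI : IsClosedImmersion (pullback.diagonal φ.left) := inferInstance
  obtain ⟨w, hw⟩ : ∃ w : pullback φ.left φ.left ⟶ S, w = pullback.fst φ.left φ.left ≫ M.hom :=
    ⟨_, rfl⟩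
  haveI : Etale w := by rw [hw]; infer_instance
  have hdW : Dense ((w ⁻¹ᵁ S₀ : (pullback φ.left φ.left).Opens) : Set ↥(pullback φ.left φ.left)) :=
    hd.preimage w.isOpenMap
  have hc : (w ∣_ S₀) ≫ S₀.ι = (w ⁻¹ᵁ S₀).ι ≫ w := morphismRestrict_ι w S₀
  obtain ⟨a, ha⟩ : ∃ a, a = (w ⁻¹ᵁ S₀).ι ≫ pullback.fst φ.left φ.left := ⟨_, rfl⟩
  obtain ⟨b, hb⟩ : ∃ b, b = (w ⁻¹ᵁ S₀).ι ≫ pullback.snd φ.left φ.left := ⟨_, rfl⟩
  have hab : a ≫ φ.left = b ≫ φ.left := by
    rw [ha, hb, Category.assoc, Category.assoc, pullback.condition]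
  have haM : a ≫ M.hom = (w ∣_ S₀) ≫ S₀.ι := by
    rw [hc, ha, hw, Category.assoc]
  have hbM : b ≫ M.hom = (w ∣_ S₀) ≫ S₀.ι := by
    rw [← haM, ← Over.w φ, ← Category.assoc, ← Category.assoc, hab]
  obtain ⟨a₀, ha₀⟩ : ∃ a₀ : Over.mk (w ∣_ S₀) ⟶ (Over.pullback S₀.ι).obj M,
      a₀.left ≫ pullback.fst M.hom S₀.ι = a :=
    ⟨Over.homMk (pullback.lift a (w ∣_ S₀) haM) (by dsimp; exact pullback.lift_snd _ _ _),
      by dsimp; exact pullback.lift_fst _ _ _⟩
  obtain ⟨b₀, hb₀⟩ : ∃ b₀ : Over.mk (w ∣_ S₀) ⟶ (Over.pullback S₀.ι).obj M,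
      b₀.left ≫ pullback.fst M.hom S₀.ι = b :=
    ⟨Over.homMk (pullback.lift b (w ∣_ S₀) hbM) (by dsimp; exact pullback.lift_snd _ _ _),
      by dsimp; exact pullback.lift_fst _ _ _⟩
  have h₀ : a₀ ≫ (Over.pullback S₀.ι).map φ = b₀ ≫ (Over.pullback S₀.ι).map φ := by
    apply pb_hom_ext
    rw [Over.comp_left, Over.comp_left, Category.assoc, Category.assoc, pb_map_fst,
      ← Category.assoc, ← Category.assoc, ha₀, hb₀, hab]
  have h₁ : a₀ = b₀ := (cancel_mono _).mp h₀
  have hab' : a = b := by rw [← ha₀, ← hb₀, h₁]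
  have hι : (w ⁻¹ᵁ S₀).ι = a ≫ pullback.diagonal φ.left := by
    apply pullback.hom_ext
    · rw [Category.assoc, pullback.diagonal_fst, Category.comp_id, ha]
    · rw [Category.assoc, pullback.diagonal_snd, Category.comp_id, hab', hb]
  have hcl : IsClosed (Set.range (pullback.diagonal φ.left)) :=
    (pullback.diagonal φ.left).isClosedEmbedding.isClosed_range
  have hsub : ((w ⁻¹ᵁ S₀ : (pullback φ.left φ.left).Opens) : Set ↥(pullback φ.left φ.left)) ⊆
      Set.range (pullback.diagonal φ.left) := by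
    intro z hz
    refine ⟨a ⟨z, hz⟩, ?_⟩
    rw [← Scheme.Hom.comp_apply, ← hι]
    rfl
  have huniv : Set.range (pullback.diagonal φ.left) = Set.univ := by
    rw [← hcl.closure_eq]
    exact (hdW.mono hsub).closure_eq
  haveI : Surjective (pullback.diagonal φ.left) := ⟨Set.range_eq_univ.mp huniv⟩
  exact (isIso_iff_isOpenImmersion_and_surjective _).mpr ⟨inferInstance, inferInstance⟩

/-- Let S be a normal Noetherian scheme over a field of characteristic 0 and S₀ ⊆ S a
scheme-theoretically dense open. Let N be a smooth, separated and quasi-compact S-scheme with the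
Néron mapping property for S₀ ⊆ S (restriction to S₀ of S-morphisms from smooth S-schemes is
bijective) such that N|S₀ → S₀ is étale, so that N is a quasi-projective Néron model of the
quasi-projective étale S₀-scheme N|S₀. If M is a separated, quasi-compact, étale S-scheme and φ : M
→ N is an S-morphism restricting to an isomorphism over S₀ (so M is another quasi-projective étale
extension of N|S₀, and φ is its canonical map to the Néron model), then φ is an open immersion.
(Case of schemes of the published statement.) -/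
theorem result {k : Type u} [Field k] [CharZero k] {S : Scheme.{u}} (σ : S ⟶ Spec (CommRingCat.of k)) [IsNoetherian S] (hS : Pi1.IsNormalScheme S) (S₀ : S.Opens) (hS₀ : CInt.IsSchematicallyDense S₀)
    (N : Over S) [Smooth N.hom] [IsSeparated N.hom] [QuasiCompact N.hom]
    (hN : ∀ Z : Over S, Smooth Z.hom → Function.Bijective (fun g : Z ⟶ N => (Over.pullback S₀.ι).map g))
    [Etale ((Over.pullback S₀.ι).obj N).hom]
    (M : Over S) [Etale M.hom] [IsSeparated M.hom] [QuasiCompact M.hom]
    (φ : M ⟶ N) [IsIso ((Over.pullback S₀.ι).map φ)] :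
    IsOpenImmersion φ.left := by
  have hd : Dense (S₀ : Set S) := dense_of_sd S₀ hS₀
  have hWd : Dense ((N.hom ⁻¹ᵁ S₀ : N.left.Opens) : Set N.left) := hd.preimage N.hom.isOpenMap
  haveI hpe : Etale (pullback.snd N.hom S₀.ι) := ‹Etale ((Over.pullback S₀.ι).obj N).hom›
  haveI hre : Etale (N.hom ∣_ S₀) := by
    have h := pullbackRestrictIsoRestrict_hom_morphismRestrict N.hom S₀
    have h' : N.hom ∣_ S₀ = (pullbackRestrictIsoRestrict N.hom S₀).inv ≫ pullback.snd N.hom S₀.ι := by
      rw [← h, Iso.inv_hom_id_assoc]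
    rw [h']
    infer_instance
  have hfuW : FormallyUnramified ((N.hom ⁻¹ᵁ S₀).ι ≫ N.hom) := by
    rw [← morphismRestrict_ι]
    haveI : Etale (N.hom ∣_ S₀ ≫ S₀.ι) := inferInstance
    infer_instance
  haveI : FormallyUnramified N.hom := fu_of_dense N.hom _ hWd hfuW
  haveI : Etale N.hom := Etale.of_formallyUnramified_of_flat N.hom
  haveI : Etale (φ.left ≫ N.hom) := by rw [Over.w]; infer_instance
  haveI : Etale φ.left := Etale.of_comp φ.left N.hom
  haveI : IsSeparated φ.left := by
    haveI : IsSeparated (φ.left ≫ N.hom) := by rw [Over.w]; infer_instance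
    exact IsSeparated.of_comp φ.left N.hom
  haveI : Mono φ.left := mono_of_dense S₀ hd M N φ
  exact IsOpenImmersion.of_flat_of_mono φ.left

end Groth.Agent.S13428
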