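import Mathlib
import Groth.Statements.S13431
import Groth.Agent.Lib.Helper9.NeronProd
-- import your own Groth.Agent.* helpers here

set_option autoImplicit false
universe u
open CategoryTheory MonoidalCategory CartesianMonoidalCategory MonObj GrpObj AlgebraicGeometry
open NeronHD

namespace Groth.Agent.S13431

open Groth.Agent.Helper9.NeronProd


/-- Let S be a locally Noetherian scheme over a field of characteristic 0 and S₀ ⊆ S a
scheme-theoretically dense open. Let G be a smooth group scheme over S and N a smooth S-scheme with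
N → S surjective, equipped with an action of G making N a pseudo-torsor: the translation map G ×_S N
→ N ×_S N, (g, x) ↦ (g·x, x), is an isomorphism. Then G has the Néron mapping property for S₀ ⊆ S
(restriction to S₀ of S-morphisms from smooth S-schemes is bijective) if and only if N has it. (The
published statement says 'G-torsor' with torsor defined as an action whose translation map is an
isomorphism; for N empty that holds and N has the mapping property while G need not, so surjectivity
of N → S — which gives étale-local sections — is assumed here, as the published proof uses. Case of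
schemes of a statement about algebraic spaces.) -/
theorem result {k : Type u} [Field k] [CharZero k] {S : Scheme.{u}} (σ : S ⟶ Spec (CommRingCat.of k)) [IsLocallyNoetherian S] (S₀ : S.Opens) (hS₀ : CInt.IsSchematicallyDense S₀)
    (G : Over S) [GrpObj G] [Smooth G.hom]
    (N : Over S) [Smooth N.hom] [Surjective N.hom]
    (a : AlgGrp.Action G N) (ha : NonAbH1.IsPseudoTorsorSch a) :
    (∀ Z : Over S, Smooth Z.hom → Function.Bijective (fun g : Z ⟶ G => (Over.pullback S₀.ι).map g)) ↔
    (∀ Z : Over S, Smooth Z.hom → Function.Bijective (fun g : Z ⟶ N => (Over.pullback S₀.ι).map g)) := by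
  haveI hτiso : IsIso (lift a.act (snd G N)) := ha
  obtain ⟨τ, hτ⟩ : ∃ τ : G ⊗ N ⟶ N ⊗ N, τ = lift a.act (snd G N) := ⟨_, rfl⟩
  haveI : IsIso τ := by rw [hτ]; exact hτiso
  have hτ1 : τ ≫ fst N N = a.act := by rw [hτ, lift_fst]
  have hτ2 : τ ≫ snd N N = snd G N := by rw [hτ, lift_snd]
  have hinvsnd : inv τ ≫ snd G N = snd N N := by rw [IsIso.inv_comp_eq, hτ2]
  constructor
  · intro hG
    have hinj : ∀ Z : Over S, Smooth Z.hom →
        Function.Injective (fun g : Z ⟶ N => (Over.pullback S₀.ι).map g) := by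
      intro Z hZ α β hαβ
      have hαβ' : (Over.pullback S₀.ι).map α = (Over.pullback S₀.ι).map β := hαβ
      have hP : (Over.pullback S₀.ι).map (lift α β) = (Over.pullback S₀.ι).map (lift β β) := by
        apply pb_prod_hom_ext
        · rw [← Functor.map_comp, ← Functor.map_comp, lift_fst, lift_fst, hαβ']
        · rw [← Functor.map_comp, ← Functor.map_comp, lift_snd, lift_snd]
      have h1 : lift α β ≫ inv τ = lift β β ≫ inv τ := by
        apply CartesianMonoidalCategory.hom_ext
        · apply (hG Z hZ).1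
          show (Over.pullback S₀.ι).map ((lift α β ≫ inv τ) ≫ fst G N) =
            (Over.pullback S₀.ι).map ((lift β β ≫ inv τ) ≫ fst G N)
          rw [Category.assoc, Category.assoc, Functor.map_comp, Functor.map_comp _ (lift β β), hP]
        · rw [Category.assoc, Category.assoc, hinvsnd, lift_snd, lift_snd]
      have h2 : lift α β = lift β β := (cancel_mono (inv τ)).mp h1
      have h3 := congrArg (fun t => t ≫ fst N N) h2
      simp only [lift_fst] at h3
      exact h3
    intro Z hZ
    refine ⟨hinj Z hZ, ?_⟩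
    intro φ₀
    haveI : Smooth Z.hom := hZ
    haveI : Smooth (Z ⊗ N).hom := smooth_tensor Z N
    obtain ⟨ρ₀, hρ₀⟩ : ∃ ρ₀ : (Over.pullback S₀.ι).obj (Z ⊗ N) ⟶ (Over.pullback S₀.ι).obj (N ⊗ N),
        ρ₀ = plift S₀.ι ((Over.pullback S₀.ι).map (fst Z N) ≫ φ₀)
          ((Over.pullback S₀.ι).map (snd Z N)) := ⟨_, rfl⟩
    have hρ1 : ρ₀ ≫ (Over.pullback S₀.ι).map (fst N N) =
        (Over.pullback S₀.ι).map (fst Z N) ≫ φ₀ := by rw [hρ₀, plift_fst]
    have hρ2 : ρ₀ ≫ (Over.pullback S₀.ι).map (snd N N) =
        (Over.pullback S₀.ι).map (snd Z N) := by rw [hρ₀, plift_snd]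
    obtain ⟨ψ, hψ⟩ := (hG (Z ⊗ N) inferInstance).2
      (ρ₀ ≫ (Over.pullback S₀.ι).map (inv τ ≫ fst G N))
    have hψ' : (Over.pullback S₀.ι).map ψ =
        ρ₀ ≫ (Over.pullback S₀.ι).map (inv τ ≫ fst G N) := hψ
    have hlift : (Over.pullback S₀.ι).map (lift ψ (snd Z N)) =
        ρ₀ ≫ (Over.pullback S₀.ι).map (inv τ) := by
      apply pb_prod_hom_ext
      · rw [← Functor.map_comp, lift_fst, Category.assoc, ← Functor.map_comp]
        exact hψ'
      · rw [← Functor.map_comp, lift_snd, Category.assoc, ← Functor.map_comp, hinvsnd, hρ2]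
    have hm : (Over.pullback S₀.ι).map (lift ψ (snd Z N) ≫ a.act) =
        (Over.pullback S₀.ι).map (fst Z N) ≫ φ₀ := by
      rw [← hτ1, Functor.map_comp, hlift, Category.assoc, ← Functor.map_comp,
        ← Category.assoc (inv τ), IsIso.inv_hom_id, Category.id_comp, hρ1]
    exact descend S₀ Z N N hinj (lift ψ (snd Z N) ≫ a.act) φ₀ hm
  · intro hN
    have hinj : ∀ Z : Over S, Smooth Z.hom →
        Function.Injective (fun g : Z ⟶ G => (Over.pullback S₀.ι).map g) := by
      intro Z hZ ca cb hca
      have hcb : (Over.pullback S₀.ι).map ca = (Over.pullback S₀.ι).map cb := hca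
      haveI : Smooth Z.hom := hZ
      haveI : Smooth (Z ⊗ N).hom := smooth_tensor Z N
      have hP : (Over.pullback S₀.ι).map (lift (fst Z N ≫ ca) (snd Z N)) =
          (Over.pullback S₀.ι).map (lift (fst Z N ≫ cb) (snd Z N)) := by
        apply pb_prod_hom_ext
        · rw [← Functor.map_comp, ← Functor.map_comp, lift_fst, lift_fst, Functor.map_comp,
            Functor.map_comp, hcb]
        · rw [← Functor.map_comp, ← Functor.map_comp, lift_snd, lift_snd]
      have h1 : lift (fst Z N ≫ ca) (snd Z N) ≫ a.act = lift (fst Z N ≫ cb) (snd Z N) ≫ a.act := by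
        apply (hN (Z ⊗ N) inferInstance).1
        show (Over.pullback S₀.ι).map (lift (fst Z N ≫ ca) (snd Z N) ≫ a.act) =
          (Over.pullback S₀.ι).map (lift (fst Z N ≫ cb) (snd Z N) ≫ a.act)
        rw [Functor.map_comp, Functor.map_comp _ (lift (fst Z N ≫ cb) (snd Z N)), hP]
      have h2 : lift (fst Z N ≫ ca) (snd Z N) ≫ τ = lift (fst Z N ≫ cb) (snd Z N) ≫ τ := by
        apply CartesianMonoidalCategory.hom_ext
        · rw [Category.assoc, Category.assoc, hτ1]; exact h1
        · rw [Category.assoc, Category.assoc, hτ2, lift_snd, lift_snd]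
      have h3 : lift (fst Z N ≫ ca) (snd Z N) = lift (fst Z N ≫ cb) (snd Z N) :=
        (cancel_mono τ).mp h2
      have h4 := congrArg (fun t => t ≫ fst G N) h3
      simp only [lift_fst] at h4
      haveI := epi_fst_of_flat_surj Z N
      exact (cancel_epi (fst Z N)).mp h4
    intro Z hZ
    refine ⟨hinj Z hZ, ?_⟩
    intro cz
    haveI : Smooth Z.hom := hZ
    haveI : Smooth (Z ⊗ N).hom := smooth_tensor Z N
    obtain ⟨ρ₀, hρ₀⟩ : ∃ ρ₀ : (Over.pullback S₀.ι).obj (Z ⊗ N) ⟶ (Over.pullback S₀.ι).obj (G ⊗ N),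
        ρ₀ = plift S₀.ι ((Over.pullback S₀.ι).map (fst Z N) ≫ cz)
          ((Over.pullback S₀.ι).map (snd Z N)) := ⟨_, rfl⟩
    have hρ1 : ρ₀ ≫ (Over.pullback S₀.ι).map (fst G N) =
        (Over.pullback S₀.ι).map (fst Z N) ≫ cz := by rw [hρ₀, plift_fst]
    have hρ2 : ρ₀ ≫ (Over.pullback S₀.ι).map (snd G N) =
        (Over.pullback S₀.ι).map (snd Z N) := by rw [hρ₀, plift_snd]
    obtain ⟨m, hm⟩ := (hN (Z ⊗ N) inferInstance).2 (ρ₀ ≫ (Over.pullback S₀.ι).map a.act)
    have hm' : (Over.pullback S₀.ι).map m = ρ₀ ≫ (Over.pullback S₀.ι).map a.act := hm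
    have hlift : (Over.pullback S₀.ι).map (lift m (snd Z N)) =
        ρ₀ ≫ (Over.pullback S₀.ι).map τ := by
      apply pb_prod_hom_ext
      · rw [← Functor.map_comp, lift_fst, Category.assoc, ← Functor.map_comp, hτ1]
        exact hm'
      · rw [← Functor.map_comp, lift_snd, Category.assoc, ← Functor.map_comp, hτ2, hρ2]
    have hψ : (Over.pullback S₀.ι).map (lift m (snd Z N) ≫ inv τ ≫ fst G N) =
        (Over.pullback S₀.ι).map (fst Z N) ≫ cz := by
      rw [Functor.map_comp, hlift, Category.assoc, ← Functor.map_comp,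
        ← Category.assoc τ, IsIso.hom_inv_id, Category.id_comp, hρ1]
    exact descend S₀ Z N G hinj (lift m (snd Z N) ≫ inv τ ≫ fst G N) cz hψ

end Groth.Agent.S13431
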