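import Groth.Statements.S13441
import Mathlib

set_option autoImplicit false
universe u
open W4c1hilbpn

namespace Groth.Agent.S13441

open W4c1hilbpn MvPolynomial

theorem e3_apply_zero (a b c : ℕ) : (e3 a b c) 0 = a := by simp [e3]
theorem e3_apply_one (a b c : ℕ) : (e3 a b c) 1 = b := by simp [e3]
theorem e3_apply_two (a b c : ℕ) : (e3 a b c) 2 = c := by simp [e3]

theorem e3_ext {f g : Fin 3 →₀ ℕ} (h0 : f 0 = g 0) (h1 : f 1 = g 1) (h2 : f 2 = g 2) : f = g := by
  ext i
  fin_cases i
  · exact h0
  · exact h1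
  · exact h2

theorem exists_pow_mem {k : Type u} [Field k] (I : Ideal (MvPolynomial (Fin 3) k))
    (hI : IsMonomial I) [Module.Finite k (MvPolynomial (Fin 3) k ⧸ I)] (v : Fin 3) :
    ∃ N : ℕ, monomial (Finsupp.single v N) (1 : k) ∈ I := by
  have hint : IsIntegral k (Ideal.Quotient.mkₐ k I (X v)) :=
    Algebra.IsIntegral.isIntegral _
  obtain ⟨q, hq, hq0⟩ := hint
  refine ⟨q.natDegree, ?_⟩
  have h1 : Polynomial.aeval (X v : MvPolynomial (Fin 3) k) q ∈ I := by
    rw [← Ideal.Quotient.eq_zero_iff_mem]
    have h2 := Polynomial.aeval_algHom_apply (Ideal.Quotient.mkₐ k I) (X v) q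
    rw [← Polynomial.aeval_def] at hq0
    rw [hq0] at h2
    exact h2.symm
  apply hI _ h1
  rw [MvPolynomial.mem_support_iff, Polynomial.aeval_eq_sum_range, MvPolynomial.coeff_sum]
  rw [Finset.sum_eq_single q.natDegree]
  · rw [MvPolynomial.coeff_smul, MvPolynomial.coeff_X_pow, if_pos rfl, Polynomial.coeff_natDegree,
      hq.leadingCoeff]
    simp
  · intro b _ hb
    rw [MvPolynomial.coeff_smul, MvPolynomial.coeff_X_pow, if_neg, smul_zero]
    intro h
    exact hb (Finsupp.single_injective v h)
  · intro h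
    exact absurd (Finset.mem_range.mpr (Nat.lt_succ_self _)) h

theorem mem_exps_of_le {k : Type u} [Field k] (I : Ideal (MvPolynomial (Fin 3) k))
    {β γ : Fin 3 →₀ ℕ} (h : β ∈ exps I) : β + γ ∈ exps I := by
  change monomial (β + γ) (1 : k) ∈ I
  have : monomial (β + γ) (1 : k) = monomial β 1 * monomial γ 1 := by
    rw [MvPolynomial.monomial_mul, one_mul]
  rw [this]
  exact I.mul_mem_right _ h

open W4c1hilbpn in
/-- Let k be an infinite field, S = k[x,y,z] with variables ordered x > y > z, and I a strongly stable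
ideal of finite colength, with staircase numbers b^z_{i,j} = the number of c with x^i y^j z^c
outside I and b^y_{i,j} = the number of b with x^i y^b z^j outside I. Then b^z_{i+1,j} ≤ b^z_{i,j+1}
and b^y_{i+1,j} ≤ b^y_{i,j+1} for all i and j (equivalently the maximum of the two neighbouring
staircase numbers is the second one). -/
theorem result (k : Type u) [Field k] [Infinite k]
    (I : Ideal (MvPolynomial (Fin 3) k)) (hI : IsStronglyStable I) [Module.Finite k (MvPolynomial (Fin 3) k ⧸ I)] (i j : ℕ) :
    stairZ I (i + 1) j ≤ stairZ I i (j + 1) ∧ stairY I (i + 1) j ≤ stairY I i (j + 1) := by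
  classical
  obtain ⟨N1, hN1⟩ := exists_pow_mem I hI.1 1
  obtain ⟨N2, hN2⟩ := exists_pow_mem I hI.1 2
  have hfinZ : ∀ a b : ℕ, Finite {c : ℕ // e3 a b c ∉ exps I} := by
    intro a b
    apply Set.Finite.subset (Set.finite_lt_nat N2)
    intro c hc
    by_contra hcN
    apply hc
    have hle : N2 ≤ c := not_lt.mp hcN
    have h1 : Finsupp.single (2 : Fin 3) N2 + e3 a b (c - N2) ∈ exps I := mem_exps_of_le I hN2
    have h2 : Finsupp.single (2 : Fin 3) N2 + e3 a b (c - N2) = e3 a b c := by
      apply e3_ext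
      · simp [e3_apply_zero]
      · simp [e3_apply_one]
      · simp [e3_apply_two]; omega
    rw [h2] at h1
    exact h1
  have hfinY : ∀ a c : ℕ, Finite {b : ℕ // e3 a b c ∉ exps I} := by
    intro a c
    apply Set.Finite.subset (Set.finite_lt_nat N1)
    intro b hb
    by_contra hbN
    apply hb
    have hle : N1 ≤ b := not_lt.mp hbN
    have h1 : Finsupp.single (1 : Fin 3) N1 + e3 a (b - N1) c ∈ exps I := mem_exps_of_le I hN1
    have h2 : Finsupp.single (1 : Fin 3) N1 + e3 a (b - N1) c = e3 a b c := by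
      apply e3_ext
      · simp [e3_apply_zero]
      · simp [e3_apply_one]; omega
      · simp [e3_apply_two]
    rw [h2] at h1
    exact h1
  constructor
  · have := hfinZ i (j + 1)
    unfold stairZ
    refine Nat.card_le_card_of_injective
      (fun c : {c : ℕ // e3 (i + 1) j c ∉ exps I} =>
        (⟨c.1, fun h => c.2 ?_⟩ : {c : ℕ // e3 i (j + 1) c ∉ exps I})) ?_
    · have h1 := hI.2 (e3 i (j + 1) c.1) h 0 1 (by decide) (by rw [e3_apply_one]; omega)
      have h2 : e3 i (j + 1) c.1 - Finsupp.single 1 1 + Finsupp.single 0 1 = e3 (i + 1) j c.1 := by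
        apply e3_ext
        · simp [e3_apply_zero]
        · simp [e3_apply_one]
        · simp [e3_apply_two]
      rw [h2] at h1
      exact h1
    · intro c c' hcc
      have h3 := congrArg Subtype.val hcc
      exact Subtype.ext h3
  · have := hfinY i (j + 1)
    unfold stairY
    refine Nat.card_le_card_of_injective
      (fun b : {b : ℕ // e3 (i + 1) b j ∉ exps I} =>
        (⟨b.1, fun h => b.2 ?_⟩ : {b : ℕ // e3 i b (j + 1) ∉ exps I})) ?_
    · have h1 := hI.2 (e3 i b.1 (j + 1)) h 0 2 (by decide) (by rw [e3_apply_two]; omega)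
      have h2 : e3 i b.1 (j + 1) - Finsupp.single 2 1 + Finsupp.single 0 1 = e3 (i + 1) b.1 j := by
        apply e3_ext
        · simp [e3_apply_zero]
        · simp [e3_apply_one]
        · simp [e3_apply_two]
      rw [h2] at h1
      exact h1
    · intro b b' hbb
      have h3 := congrArg Subtype.val hbb
      exact Subtype.ext h3

end Groth.Agent.S13441
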