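import Groth.Statements.S13453
import Mathlib

set_option autoImplicit false
universe u
open W4c1hilbpn

namespace Groth.Agent.S13453


open MvPolynomial

section Aux
variable {k : Type*} [Field k]

theorem mem_slice (I : Ideal (MvPolynomial (Fin 3) k)) (a : ℕ) (f : MvPolynomial (Fin 2) k) :
    f ∈ sliceX I a ↔ rename Fin.succ f * X 0 ^ a ∈ I := by
  unfold sliceX
  rw [Ideal.mem_comap, Submodule.mem_colon_singleton, smul_eq_mul]
  rfl

theorem slice_monomial (a : ℕ) (β : Fin 2 →₀ ℕ) (c : k) :
    rename Fin.succ (monomial β c : MvPolynomial (Fin 2) k) * X (0 : Fin 3) ^ a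
      = monomial (β.mapDomain Fin.succ + Finsupp.single 0 a) c := by
  rw [rename_monomial, X_pow_eq_monomial, monomial_mul, mul_one]

theorem mem_exps_slice (I : Ideal (MvPolynomial (Fin 3) k)) (a : ℕ) (β : Fin 2 →₀ ℕ) :
    β ∈ exps (sliceX I a) ↔ β.mapDomain Fin.succ + Finsupp.single 0 a ∈ exps I := by
  unfold exps
  rw [Set.mem_setOf_eq, Set.mem_setOf_eq, mem_slice, slice_monomial]

theorem slice_isMonomial (I : Ideal (MvPolynomial (Fin 3) k)) (hI : IsMonomial I) (a : ℕ) :
    IsMonomial (sliceX I a) := by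
  intro p hp β hβ
  rw [mem_slice] at hp
  rw [mem_slice, slice_monomial]
  apply hI _ hp
  rw [mem_support_iff, X_pow_eq_monomial, coeff_mul_monomial,
    coeff_rename_mapDomain Fin.succ (Fin.succ_injective _), mul_one]
  exact mem_support_iff.mp hβ

theorem E_exchange (a : ℕ) (β : Fin 2 →₀ ℕ) (i' j : Fin 2) (hβ : 0 < β j) :
    (β.mapDomain Fin.succ + Finsupp.single 0 a) - Finsupp.single j.succ 1 + Finsupp.single i'.succ 1
      = (β - Finsupp.single j 1 + Finsupp.single i' 1).mapDomain Fin.succ + Finsupp.single 0 a := by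
  have hle : Finsupp.single j 1 ≤ β := Finsupp.single_le_iff.mpr hβ
  obtain ⟨β₀, rfl⟩ : ∃ β₀, β = β₀ + Finsupp.single j 1 :=
    ⟨β - Finsupp.single j 1, (tsub_add_cancel_of_le hle).symm⟩
  rw [add_tsub_cancel_right, Finsupp.mapDomain_add, Finsupp.mapDomain_add,
    Finsupp.mapDomain_single, Finsupp.mapDomain_single,
    add_right_comm (β₀.mapDomain Fin.succ) _ (Finsupp.single 0 a), add_tsub_cancel_right]
  exact add_right_comm _ _ _

theorem slice_colon (I : Ideal (MvPolynomial (Fin 3) k)) (hI : IsStronglyStable I) (i : ℕ) :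
    (sliceX I i).colon {(X 0 : MvPolynomial (Fin 2) k)} ≤ sliceX I (i + 1) := by
  intro f hf
  rw [Submodule.mem_colon_singleton, smul_eq_mul, mem_slice, map_mul, rename_X] at hf
  rw [mem_slice]
  have key : ∀ β ∈ f.support,
      monomial (β.mapDomain Fin.succ + Finsupp.single 0 (i + 1)) (1 : k) ∈ I := by
    intro β hβ
    have h1 : monomial (β.mapDomain Fin.succ + Finsupp.single (Fin.succ (0 : Fin 2)) 1
        + Finsupp.single 0 i) (1 : k) ∈ I := by
      apply hI.1 _ hf
      rw [mem_support_iff, X_pow_eq_monomial, coeff_mul_monomial, coeff_mul_X,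
        coeff_rename_mapDomain Fin.succ (Fin.succ_injective _), mul_one]
      exact mem_support_iff.mp hβ
    have h2 := hI.2 _ h1 0 (Fin.succ (0 : Fin 2)) (by decide) (by
      rw [Finsupp.add_apply, Finsupp.add_apply, Finsupp.single_eq_same]; omega)
    rw [add_right_comm, add_tsub_cancel_right, add_assoc, ← Finsupp.single_add] at h2
    exact h2
  rw [← support_sum_monomial_coeff f, map_sum, Finset.sum_mul]
  refine Ideal.sum_mem _ (fun β hβ => ?_)
  have hm : monomial (β.mapDomain Fin.succ + Finsupp.single 0 (i + 1)) (coeff β f)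
      = C (coeff β f) * monomial (β.mapDomain Fin.succ + Finsupp.single 0 (i + 1)) (1 : k) := by
    rw [C_mul_monomial, mul_one]
  rw [slice_monomial, hm]
  exact Ideal.mul_mem_left _ _ (key β hβ)

end Aux


open W4c1hilbpn in
/-- Let k be an infinite field, S = k[x,y,z] with variables ordered x > y > z, and I a strongly stable
ideal of finite colength; write I_i for the ideal of polynomials f in k[y,z] with x^i f in I (so I
is the direct sum of the x^i I_i). Then each I_i is a strongly stable ideal of k[y,z] (with y > z)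
and the ideal quotient (I_i : y) is contained in I_{i+1}. -/
theorem result (k : Type u) [Field k] [Infinite k]
    (I : Ideal (MvPolynomial (Fin 3) k)) (hI : IsStronglyStable I) [Module.Finite k (MvPolynomial (Fin 3) k ⧸ I)] (i : ℕ) :
    IsStronglyStable (sliceX I i) ∧
      (sliceX I i).colon {(MvPolynomial.X 0 : MvPolynomial (Fin 2) k)} ≤ sliceX I (i + 1) := by
  refine ⟨⟨slice_isMonomial I hI.1 i, fun β hβ i' j hij hpos => ?_⟩, slice_colon I hI i⟩
  rw [mem_exps_slice] at hβ ⊢
  have h2 := hI.2 _ hβ i'.succ j.succ (Fin.succ_lt_succ_iff.mpr hij) (by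
    rw [Finsupp.add_apply, Finsupp.mapDomain_apply (Fin.succ_injective _)]; omega)
  rw [E_exchange i β i' j hpos] at h2
  exact h2

end Groth.Agent.S13453
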