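import Groth.Statements.S13528
import Groth.Agent.H10.FibTot8
import Mathlib

set_option autoImplicit false
universe u
open CategoryTheory CategoryTheory.Limits Opposite Pseudofunctor.CoGrothendieck
open FibSite

namespace Groth.Agent.S13528

/-- Let `F` be a fibred category over a small category `𝒮` with small fibres and topologies `J` on the
fibres all of whose inverse-image functors are continuous, let `i` be an object of `𝒮`, `U` an
object of the fibre over `i`, and `u : R ⟶ h_U` a morphism of presheaves of sets on that fibre into
the presheaf represented by `U`. Then `u` is bicovering for `J i` (inverted by every `J i`-sheaf) if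
and only if its left Kan extension along the fibre inclusion `ι F i` is bicovering for the topology
on the total category generated by the coverings of the fibres. (The published statement is for
fibred sites; its proof uses only the continuity of the inverse-image functors.) -/
theorem result {𝒮 : Type u} [SmallCategory 𝒮]
    (F : Pseudofunctor (LocallyDiscrete 𝒮ᵒᵖ) Cat.{u, u}) (J : FibSite.Topologies F)
    (hF : FibSite.IsPreFibSite F J) (i : 𝒮) {R : (F.obj ⟨op i⟩)ᵒᵖ ⥤ Type u} {U : F.obj ⟨op i⟩}
    (u : R ⟶ yoneda.obj U) :
    (J i).W u ↔ (FibSite.totalTopology F J).W (((ι F i).op.lan (H := Type u)).map u) := by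
  constructor
  · intro h
    have := Groth.Agent.H10.FibTot.ι_isContinuous F J hF i
    exact Functor.W_map_of_adjunction_of_isContinuous (J := J i)
      (K := FibSite.totalTopology F J) (ι F i) _ ((ι F i).op.lanAdjunction (Type u)) u h
  · intro h a ha
    refine Groth.Agent.H10.FibTot.sheaf_induction F J hF i
      (fun X => Function.Bijective (fun g : yoneda.obj U ⟶ X => u ≫ g)) ?_ ?_ ?_ ⟨a, ha⟩
    · intro X Y ι' r hir hY
      constructor
      · intro g g' hgg'
        have h1 : u ≫ (g ≫ ι') = u ≫ (g' ≫ ι') := by
          rw [← Category.assoc, ← Category.assoc]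
          exact congrArg (fun z => z ≫ ι') hgg'
        have h2 : g ≫ ι' = g' ≫ ι' := hY.1 h1
        have h3 := congrArg (fun z => z ≫ r) h2
        simpa [Category.assoc, hir] using h3
      · intro t
        obtain ⟨g', hg'⟩ := hY.2 (t ≫ ι')
        refine ⟨g' ≫ r, ?_⟩
        have hg'' : u ≫ g' = t ≫ ι' := hg'
        show u ≫ g' ≫ r = t
        rw [← Category.assoc, hg'', Category.assoc, hir, Category.comp_id]
    · intro P X₁ X₂ X₀ fst snd f g sq h₁ h₂ h₀
      constructor
      · intro m m' hmm'
        have hmm'' : u ≫ m = u ≫ m' := hmm'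
        apply sq.hom_ext
        · apply h₁.1
          show u ≫ m ≫ fst = u ≫ m' ≫ fst
          rw [← Category.assoc, hmm'', Category.assoc]
        · apply h₂.1
          show u ≫ m ≫ snd = u ≫ m' ≫ snd
          rw [← Category.assoc, hmm'', Category.assoc]
      · intro t
        obtain ⟨g₁, hg₁⟩ := h₁.2 (t ≫ fst)
        obtain ⟨g₂, hg₂⟩ := h₂.2 (t ≫ snd)
        have hg₁' : u ≫ g₁ = t ≫ fst := hg₁
        have hg₂' : u ≫ g₂ = t ≫ snd := hg₂
        have hc : g₁ ≫ f = g₂ ≫ g := by
          apply h₀.1
          show u ≫ g₁ ≫ f = u ≫ g₂ ≫ g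
          rw [← Category.assoc, hg₁', ← Category.assoc, hg₂', Category.assoc, Category.assoc,
            sq.w]
        refine ⟨sq.lift g₁ g₂ hc, ?_⟩
        show u ≫ sq.lift g₁ g₂ hc = t
        apply sq.hom_ext
        · rw [Category.assoc, sq.lift_fst, hg₁']
        · rw [Category.assoc, sq.lift_snd, hg₂']
    · intro ℱ
      have h1 := h ℱ.obj ℱ.property
      exact (((ι F i).op.lanAdjunction (Type u)).map_comp_bijective_iff u ℱ.obj).mp h1

end Groth.Agent.S13528
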