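import Groth.Statements.S13576
-- import your own Groth.Agent.* helpers here

set_option autoImplicit false
universe u
open CategoryTheory CategoryTheory.Limits MonoidalCategory
attribute [local instance] HasDerivedCategory.standard
open DTen

namespace Groth.Agent.S13576

section
variable {A : Type u} [CommRing A]

lemma braidCx_invol (K L : DRing.Cx A) :
    (DTen.braidCx K L).hom ≫ (DTen.braidCx L K).hom = 𝟙 _ := by
  refine HomologicalComplex.hom_ext _ _ (fun n =>
    HomologicalComplex.mapBifunctor.hom_ext (fun p q h => ?_))
  rw [HomologicalComplex.comp_f]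
  erw [DTen.ι_braidCx_hom_assoc K L p q n h]
  simp only [Linear.units_smul_comp, Category.assoc]
  erw [DTen.ι_braidCx_hom L K q p n (by dsimp at h; omega)]
  simp only [Linear.comp_units_smul, smul_smul]
  rw [mul_comm q p, Int.units_mul_self, one_smul]
  erw [HomologicalComplex.id_f, Category.comp_id]
  rw [← Category.assoc, SymmetricCategory.symmetry, Category.id_comp]

end

/-- For a commutative ring `A` and objects `K`, `L` of `D(A)`, the canonical symmetry morphism `L ⊗^L K
⟶ K ⊗^L L` of the derived tensor product, the one compatible with the swap of complexes carrying the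
sign `(-1)^{pq}` on `K^p ⊗ L^q`, is an isomorphism. -/
theorem result (A : Type u) [CommRing A] [DTen.HasLTen A] (K L : Dual.D A) :
    IsIso ((DTen.symm A).app (K, L)) := by
  have key : ∀ (K L : Dual.D A),
      (DTen.symm A).app (L, K) ≫ (DTen.symm A).app (K, L) = 𝟙 ((DTen.LTen₂ A).obj (K, L)) := by
    let τ : DTen.LTen₂ A ⟶ DTen.LTen₂ A :=
      { app := fun X => (DTen.symm A).app (X.2, X.1) ≫ (DTen.symm A).app X
        naturality := fun X Y f => by
          have h1 := (DTen.symm A).naturality f
          have h2 := (DTen.symm A).naturality ((CategoryTheory.Prod.swap _ _).map f)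
          calc (DTen.LTen₂ A).map f ≫ (DTen.symm A).app (Y.2, Y.1) ≫ (DTen.symm A).app Y
              = ((DTen.symm A).app (X.2, X.1) ≫
                  (CategoryTheory.Prod.swap _ _ ⋙ DTen.LTen₂ A).map f) ≫ (DTen.symm A).app Y := by
                rw [← Category.assoc]
                exact congrArg (· ≫ (DTen.symm A).app Y) h2
            _ = ((DTen.symm A).app (X.2, X.1) ≫ (DTen.symm A).app X) ≫ (DTen.LTen₂ A).map f := by
                rw [Category.assoc, h1, Category.assoc] }
    have hτ : τ = 𝟙 _ := by
      apply (DTen.LTen₂ A).leftDerived_ext (DTen.ε A) (DTen.qis₂ A)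
      ext ⟨K, L⟩
      have e1 := DTen.symm_fac A K L
      have e2 := DTen.symm_fac A L K
      change ((DTen.symm A).app (DerivedCategory.Q.obj L, DerivedCategory.Q.obj K) ≫
        (DTen.symm A).app (DerivedCategory.Q.obj K, DerivedCategory.Q.obj L)) ≫
          (DTen.ε A).app (K, L) = 𝟙 _ ≫ (DTen.ε A).app (K, L)
      rw [Category.assoc, e1, reassoc_of% e2, ← CategoryTheory.Functor.map_comp, braidCx_invol]
      erw [CategoryTheory.Functor.map_id, Category.comp_id, Category.id_comp]
    intro K L
    exact congrArg (fun t => t.app (K, L)) hτ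
  exact ⟨⟨(DTen.symm A).app (L, K), key L K, key K L⟩⟩

end Groth.Agent.S13576
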