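import Groth.Statements.S1360
import Mathlib
import Groth.Agent.S1359

set_option autoImplicit false
universe u
open FlatMor

namespace Groth.Agent.S1360

section Helpers
open TensorProduct AlgebraicGeometry CategoryTheory Limits

attribute [local instance] Algebra.TensorProduct.rightAlgebra in
theorem ring1360 (R B : Type u) [CommRing R] [CommRing B] [Algebra R B] [IsNoetherianRing R]
    [Algebra.FinitePresentation R B] (a : Ideal R)
    (het : ∀ n : ℕ, Algebra.Etale (R ⧸ a ^ (n + 1)) (B ⊗[R] (R ⧸ a ^ (n + 1))))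
    (q : Ideal B) [hqp : q.IsPrime] (ha : a ≤ q.comap (algebraMap R B)) :
    Algebra.IsEtaleAt R q := by
  have hsm : Algebra.IsSmoothAt R q :=
    Groth.Agent.S1359.ring1359 R B a (fun n => by haveI := het n; infer_instance) q ha
  have hunr : Algebra.IsUnramifiedAt R q := by
    haveI := het 0
    haveI : Algebra.FormallyUnramified (R ⧸ a ^ (0 + 1)) (B ⊗[R] (R ⧸ a ^ (0 + 1))) :=
      inferInstance
    haveI h0 : Subsingleton ((B ⊗[R] (R ⧸ a ^ (0 + 1))) ⊗[B] Ω[B⁄R]) :=
      (KaehlerDifferential.tensorKaehlerEquiv R (R ⧸ a ^ (0 + 1)) B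
        (B ⊗[R] (R ⧸ a ^ (0 + 1)))).toEquiv.subsingleton
    let e1 := TensorProduct.comm B (B ⊗[R] (R ⧸ a ^ (0 + 1))) Ω[B⁄R]
    let e2 := TensorProduct.AlgebraTensorModule.cancelBaseChange R B B Ω[B⁄R] (R ⧸ a ^ (0 + 1))
    let e3 := TensorProduct.comm R Ω[B⁄R] (R ⧸ a ^ (0 + 1))
    let e4 := TensorProduct.quotTensorEquivQuotSMul Ω[B⁄R] (a ^ (0 + 1))
    haveI h1 : Subsingleton (Ω[B⁄R] ⧸ ((a ^ (0 + 1)) • (⊤ : Submodule R Ω[B⁄R]))) :=
      (e4.symm.toEquiv.trans (e3.symm.toEquiv.trans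
        (e2.symm.toEquiv.trans e1.symm.toEquiv))).subsingleton
    have h2 : (a ^ (0 + 1)) • (⊤ : Submodule R Ω[B⁄R]) = ⊤ :=
      Submodule.Quotient.subsingleton_iff.mp h1
    have h3 : (⊤ : Submodule B Ω[B⁄R]) ≤
        (a.map (algebraMap R B)) • (⊤ : Submodule B Ω[B⁄R]) := by
      intro m _
      have hm : m ∈ (a ^ (0 + 1)) • (⊤ : Submodule R Ω[B⁄R]) := by rw [h2]; trivial
      rw [zero_add, pow_one] at hm
      refine Submodule.smul_induction_on hm ?_ ?_
      · intro r hr n _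
        rw [← algebraMap_smul B r n]
        exact Submodule.smul_mem_smul (Ideal.mem_map_of_mem _ hr) trivial
      · intro x y hx hy
        exact Submodule.add_mem _ hx hy
    haveI : Module.Finite B Ω[B⁄R] := inferInstance
    obtain ⟨r, hr1, hr2⟩ := Submodule.exists_sub_one_mem_and_smul_eq_zero_of_fg_of_le_smul
      (a.map (algebraMap R B)) (⊤ : Submodule B Ω[B⁄R]) Module.Finite.fg_top h3
    have hrq : r ∉ q := by
      intro hrq
      have h4 : r - 1 ∈ q := (Ideal.map_le_iff_le_comap.mpr ha) hr1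
      have h5 : (1 : B) ∈ q := by
        have h6 := q.sub_mem hrq h4
        simpa using h6
      exact hqp.ne_top ((Ideal.eq_top_iff_one q).mpr h5)
    have hmem : (⟨q, hqp⟩ : PrimeSpectrum B) ∈ Algebra.unramifiedLocus R B := by
      rw [Algebra.unramifiedLocus_eq_compl_support, Set.mem_compl_iff,
        Module.notMem_support_iff']
      intro m
      exact ⟨r, hrq, hr2 m trivial⟩
    exact hmem
  exact Algebra.FormallyEtale.iff_formallyUnramified_and_formallySmooth.mpr ⟨hunr, hsm⟩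

set_option backward.isDefEq.respectTransparency false in
theorem etaleBC1360 {X S : Scheme.{u}} (f : X ⟶ S) (J : S.IdealSheafData)
    (h : Etale (pullback.snd f J.subschemeι)) {V : S.Opens} (hV : IsAffineOpen V)
    {U : X.Opens} (hU : IsAffineOpen U) (e : U ≤ f ⁻¹ᵁ V) :
    letI := (f.appLE V U e).hom.toAlgebra
    letI := Algebra.TensorProduct.rightAlgebra (R := Γ(S, V)) (A := Γ(X, U))
      (B := Γ(S, V) ⧸ J.ideal ⟨V, hV⟩)
    Algebra.Etale (Γ(S, V) ⧸ J.ideal ⟨V, hV⟩)
      (Γ(X, U) ⊗[Γ(S, V)] (Γ(S, V) ⧸ J.ideal ⟨V, hV⟩)) := by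
  letI := (f.appLE V U e).hom.toAlgebra
  have e₁ : Spec.map (CommRingCat.ofHom (algebraMap Γ(S, V) Γ(X, U))) ≫ hV.fromSpec =
      hU.fromSpec ≫ f := IsAffineOpen.SpecMap_appLE_fromSpec f hV hU e
  have e₂ : Spec.map (CommRingCat.ofHom (algebraMap Γ(S, V) (Γ(S, V) ⧸ J.ideal ⟨V, hV⟩))) ≫
      hV.fromSpec = J.subschemeCover.f ⟨V, hV⟩ ≫ J.subschemeι := by
    rw [Scheme.IdealSheafData.subschemeCover_map_subschemeι,
      Scheme.IdealSheafData.glueDataObjι_ι]
    rfl
  haveI : IsOpenImmersion (J.subschemeCover.f ⟨V, hV⟩) := inferInstance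
  let ρ : pullback (Spec.map (CommRingCat.ofHom (algebraMap Γ(S, V) Γ(X, U))))
        (Spec.map (CommRingCat.ofHom (algebraMap Γ(S, V) (Γ(S, V) ⧸ J.ideal ⟨V, hV⟩)))) ⟶
      pullback f J.subschemeι :=
    pullback.map _ _ _ _ hU.fromSpec (J.subschemeCover.f ⟨V, hV⟩) hV.fromSpec e₁ e₂
  haveI : IsOpenImmersion ρ := Scheme.pullback_map_isOpenImmersion _ _ _ _ _ _ _ _ _
  have hρ : ρ ≫ pullback.snd f J.subschemeι =
      pullback.snd _ _ ≫ J.subschemeCover.f ⟨V, hV⟩ := by
    simp [ρ]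
  have h1 : Etale (pullback.snd (Spec.map (CommRingCat.ofHom (algebraMap Γ(S, V) Γ(X, U))))
      (Spec.map (CommRingCat.ofHom (algebraMap Γ(S, V) (Γ(S, V) ⧸ J.ideal ⟨V, hV⟩))))) := by
    refine MorphismProperty.of_postcomp (W := @Etale) (W' := @IsOpenImmersion) _
      (J.subschemeCover.f ⟨V, hV⟩) inferInstance ?_
    rw [← hρ]
    infer_instance
  have h2 : Etale ((pullbackSpecIso Γ(S, V) Γ(X, U) (Γ(S, V) ⧸ J.ideal ⟨V, hV⟩)).inv ≫
      pullback.snd _ _) := inferInstance
  rw [pullbackSpecIso_inv_snd] at h2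
  exact (HasRingHomProperty.Spec_iff (P := @Etale)).mp h2

set_option backward.defeqAttrib.useBackward true in
set_option backward.isDefEq.respectTransparency false in
theorem main1360 {X S : Scheme.{u}} (f : X ⟶ S) [IsLocallyNoetherian S]
    [LocallyOfFinitePresentation f]
    (I : S.IdealSheafData) (h : ∀ n : ℕ, Etale (pullback.snd f (I ^ (n + 1)).subschemeι))
    (x : X) (hx : f x ∈ I.support) : ∃ U : X.Opens, x ∈ U ∧ Etale (U.ι ≫ f) := by
  obtain ⟨V, hV, hfxV, -⟩ :=
    exists_isAffineOpen_mem_and_subset (x := f x) (U := ⊤) trivial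
  obtain ⟨U, hU, hxU, hUV⟩ :=
    exists_isAffineOpen_mem_and_subset (x := x) (U := f ⁻¹ᵁ V) hfxV
  have e : U ≤ f ⁻¹ᵁ V := hUV
  have hfp := f.finitePresentation_appLE hV hU e
  haveI : IsNoetherianRing Γ(S, V) := IsLocallyNoetherian.component_noetherian ⟨V, hV⟩
  algebraize [(f.appLE V U e).hom]
  have hcomap : (hU.primeIdealOf ⟨x, hxU⟩).asIdeal.comap
      (algebraMap Γ(S, V) Γ(X, U)) = (hV.primeIdealOf ⟨f x, hfxV⟩).asIdeal :=
    congr($(IsAffineOpen.comap_primeIdealOf_appLE V hV U hU e hxU).1)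
  haveI het : Algebra.IsEtaleAt Γ(S, V) (hU.primeIdealOf ⟨x, hxU⟩).asIdeal := by
    refine ring1360 Γ(S, V) Γ(X, U) (I.ideal ⟨V, hV⟩) ?_ _ ?_
    · intro n
      exact etaleBC1360 f (I ^ (n + 1)) (h n) hV hU e
    · intro r hr
      rw [hcomap]
      by_contra hr'
      have hz : f x ∈ S.zeroLocus (U := V) (I.ideal ⟨V, hV⟩) :=
        (Scheme.IdealSheafData.mem_support_iff_of_mem (U := ⟨V, hV⟩) hfxV).mp hx
      have hnb : f x ∉ S.basicOpen r := (Scheme.mem_zeroLocus_iff _ _ _).mp hz r hr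
      apply hnb
      have h1 : hV.primeIdealOf ⟨f x, hfxV⟩ ∈
          (PrimeSpectrum.basicOpen r : Set (PrimeSpectrum Γ(S, V))) := hr'
      have h2 : hV.primeIdealOf ⟨f x, hfxV⟩ ∈ hV.fromSpec ⁻¹ᵁ S.basicOpen r := by
        rw [hV.fromSpec_preimage_basicOpen]; exact h1
      have h3 : hV.fromSpec (hV.primeIdealOf ⟨f x, hfxV⟩) = f x :=
        hV.fromSpec_primeIdealOf ⟨f x, hfxV⟩
      rw [← h3]; exact h2
  obtain ⟨r, hrx, hr⟩ := Algebra.exists_etale_of_isEtaleAt (R := Γ(S, V))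
    (hU.primeIdealOf ⟨x, hxU⟩).asIdeal
  have hxr : x ∈ X.basicOpen r := by
    rwa [← PrimeSpectrum.mem_basicOpen, IsAffineOpen.primeIdealOf,
      ← hU.fromSpec_preimage_basicOpen, Scheme.Hom.mem_preimage, ← Scheme.Hom.comp_apply,
      IsAffineOpen.isoSpec_hom, IsAffineOpen.toSpecΓ_fromSpec] at hrx
  have hle : X.basicOpen r ≤ f ⁻¹ᵁ V := (X.basicOpen_le r).trans e
  have hring : (f.appLE V (X.basicOpen r) hle).hom.Etale := by
    have := hU.isLocalization_basicOpen r
    rw [← RingHom.etale_algebraMap] at hr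
    convert!
      RingHom.Etale.propertyIsLocal.respectsIso.1 _
        (IsLocalization.algEquiv (.powers r) _ Γ(X, X.basicOpen r)).toRingEquiv hr
    ext
    dsimp
    simp only [IsScalarTower.algebraMap_apply Γ(S, V) Γ(X, U) (Localization _),
      IsLocalization.map_eq]
    simp only [RingHom.algebraMap_toAlgebra, RingHomCompTriple.comp_apply, ← ConcreteCategory.comp_apply,
      Scheme.Hom.appLE_map]
  refine ⟨X.basicOpen r, hxr, ?_⟩
  have hres : Etale (f.resLE V (X.basicOpen r) hle) := by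
    have : IsAffine _ := hV
    have : IsAffine _ := hU.basicOpen r
    rw [HasRingHomProperty.iff_of_isAffine (P := @Etale)]
    exact (RingHom.Etale.propertyIsLocal.respectsIso.arrow_mk_iso_iff
      (arrowResLEAppIso f V (X.basicOpen r) hle)).mpr hring
  rw [← Scheme.Hom.resLE_comp_ι f hle]
  infer_instance

end Helpers

open AlgebraicGeometry CategoryTheory Limits in
/-- Let S be locally Noetherian, f : X → S of finite type, and Z the closed subscheme of S cut out by an
ideal sheaf I. If the base change of f to every infinitesimal neighbourhood of Z is étale, then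
every point of X over Z has an open neighbourhood on which f is étale. -/
theorem result {X S : Scheme.{u}} (f : X ⟶ S) [IsLocallyNoetherian S] [LocallyOfFinitePresentation f] [QuasiCompact f]
    (I : S.IdealSheafData) (h : ∀ n : ℕ, Etale (pullback.snd f (I ^ (n + 1)).subschemeι)) (x : X) (hx : f x ∈ I.support) :
    ∃ U : X.Opens, x ∈ U ∧ Etale (U.ι ≫ f) := by
  exact main1360 f I h x hx

end Groth.Agent.S1360
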