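import Groth.Statements.S13603
import Mathlib

set_option autoImplicit false
universe u v
open CAlg

namespace Groth.Agent.S13603

/-- Let a group G act on a commutative ring B by ring automorphisms so that every element of B has a
finite orbit, and let S ⊆ B be a multiplicative set of G-fixed elements (so each g ∈ G induces an
endomorphism of the localization S⁻¹B; the hypothesis that g maps S into S is implied by the
previous one and is only carried to name that endomorphism). Then an element of S⁻¹B is fixed by all
of G if and only if it is a fraction b/s with b fixed by G and s ∈ S: the canonical map S⁻¹(B^G) →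
(S⁻¹B)^G is onto. -/
theorem result {B : Type u} [CommRing B]
    {G : Type v} [Group G] [MulSemiringAction G B] (hfin : ∀ b : B, (MulAction.orbit G b).Finite)
    (S : Submonoid B) (hS : ∀ (g : G) (s : B), s ∈ S → g • s = s)
    (hS' : ∀ g : G, S ≤ S.comap (MulSemiringAction.toRingHom G B g)) (x : Localization S) :
    (∀ g : G, IsLocalization.map (Localization S) (MulSemiringAction.toRingHom G B g) (hS' g) x = x) ↔
      ∃ (b : B) (s : S), (∀ g : G, g • b = b) ∧ x = IsLocalization.mk' (Localization S) b s := by
  classical
  constructor
  · intro hx
    obtain ⟨b, s, rfl⟩ := IsLocalization.exists_mk'_eq S x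
    -- for each element of the orbit, an element of `S` equalising it with `b`
    have hex : ∀ b' ∈ MulAction.orbit G b, ∃ t : S, (t : B) * b' = t * b := by
      rintro _ ⟨g, rfl⟩
      have h1 := hx g
      rw [IsLocalization.map_mk'] at h1
      have h2 : (⟨(MulSemiringAction.toRingHom G B g) s, hS' g s.2⟩ : S) = s :=
        Subtype.ext (hS g s s.2)
      rw [h2, IsLocalization.eq] at h1
      obtain ⟨c, hc⟩ := h1
      refine ⟨c * s, ?_⟩
      simpa [mul_assoc] using hc
    choose! t ht using hex
    -- the product of these elements over the orbit
    let T : S := ∏ b' ∈ (hfin b).toFinset, t b'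
    have hTfix : ∀ g : G, g • (T : B) = T := fun g => hS g T T.2
    have hT : ∀ b' ∈ MulAction.orbit G b, (T : B) * b' = T * b := by
      intro b' hb'
      have hmem : b' ∈ (hfin b).toFinset := (Set.Finite.mem_toFinset _).mpr hb'
      have hsplit : T = t b' * ∏ c ∈ (hfin b).toFinset.erase b', t c :=
        (Finset.mul_prod_erase _ _ hmem).symm
      rw [hsplit]
      simp only [Submonoid.coe_mul]
      have h3 := ht b' hb'
      generalize ((∏ c ∈ (hfin b).toFinset.erase b', t c : S) : B) = P
      calc (t b' : B) * P * b' = P * ((t b' : B) * b') := by ring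
        _ = P * ((t b' : B) * b) := by rw [h3]
        _ = (t b' : B) * P * b := by ring
    refine ⟨T * b, T * s, ?_, ?_⟩
    · intro g
      rw [smul_mul', hTfix g, hT (g • b) ⟨g, rfl⟩]
    · rw [IsLocalization.eq]
      refine ⟨1, ?_⟩
      simp only [Submonoid.coe_mul, OneMemClass.coe_one]
      ring
  · rintro ⟨b, s, hb, rfl⟩ g
    rw [IsLocalization.map_mk']
    have h2 : (⟨(MulSemiringAction.toRingHom G B g) s, hS' g s.2⟩ : S) = s :=
      Subtype.ext (hS g s s.2)
    rw [h2]
    congr 1
    exact hb g

end Groth.Agent.S13603
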