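import Mathlib
import Groth.Statements.S13605
import Groth.Agent.Lib.Helper9.SymLib
import Groth.Agent.Lib.Helper9.QuotAff
import Groth.Agent.S2908
-- import your own Groth.Agent.* helpers here

set_option autoImplicit false
universe u
open CategoryTheory AlgebraicGeometry
open CategoryTheory.Limits
open SymProd

namespace Groth.Agent.S13605


/-- Let f : X ⟶ S be a morphism of schemes satisfying (AF) (every finite set of points of X over a
single point of S lies in an affine open of X), let 𝒮 be a cover of S by affine opens, let d ≥ 1 and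
let (Y, q, g) be a d-th symmetric power of X over S: q : X ×_S ⋯ ×_S X ⟶ Y is a quotient by the
symmetric group on d letters permuting the factors (affine, invariant, sections of O_Y = invariant
sections) and q ≫ g is the structure map of the fibre power. Then Y is covered by affine opens of
the form Sym^d(U/V) with V in the given cover: for every point y of Y there are V ∈ 𝒮 and an affine
open U ⊆ f⁻¹V of X such that the open W = ⋂_i pr_i⁻¹ U of the fibre power (the fibre power of U over
V) is affine and stable under every permutation of the factors, and an affine open W' of Y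
containing y with q⁻¹ W' = W. (The published statement also fixes an affine open cover of X
subordinate to the cover of S, in which any d points over a common point of a member V lie in a
common member mapping into V, and concludes that the corresponding opens Sym^d(U/V) cover Y; this
row states the pointwise form, producing U for each y.) -/
theorem result {X S Y : Scheme.{u}} (f : X ⟶ S) (hAF : SymProd.IsAF f)
    (𝒮 : Set S.Opens) (h𝒮 : ∀ V ∈ 𝒮, IsAffineOpen V) (hcov : ∀ s : S, ∃ V ∈ 𝒮, s ∈ V)
    (d : ℕ) (hd : 0 < d) (q : SymProd.fibPow f d ⟶ Y) (g : Y ⟶ S) (hq : SymProd.IsSymProd f d q g) (y : Y) :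
    ∃ V ∈ 𝒮, ∃ U : X.Opens, IsAffineOpen U ∧ U ≤ f ⁻¹ᵁ V ∧
      ∃ W : (SymProd.fibPow f d).Opens,
        (W : Set ↥(SymProd.fibPow f d)) =
          ⋂ i : Fin d, (WidePullback.π (fun _ : Fin d => f) i).base ⁻¹' (U : Set X) ∧
        IsAffineOpen W ∧ (∀ σ : Equiv.Perm (Fin d), (SymProd.permHom f d σ) ⁻¹ᵁ W = W) ∧
        ∃ W' : Y.Opens, y ∈ W' ∧ IsAffineOpen W' ∧ q ⁻¹ᵁ W' = W := by
  classical
  obtain ⟨hsurj, hfib, hquot⟩ := Groth.Agent.S2908.result (SymProd.permActU f d) q hq.isQuot
  obtain ⟨x, rfl⟩ := hsurj y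
  have hbase : (WidePullback.base (fun _ : Fin d => f)).base x = g.base (q.base x) := by
    have hc : (q ≫ g).base x = (WidePullback.base (fun _ : Fin d => f)).base x := by rw [hq.over]
    exact hc.symm
  obtain ⟨V, hV𝒮, hsV⟩ := hcov ((WidePullback.base (fun _ : Fin d => f)).base x)
  have hV := h𝒮 V hV𝒮
  obtain ⟨U, hU, hUV, hWaff, hxW⟩ := Groth.Agent.Helper9.SymLib.exists_box f d hAF x V hV hsV
  obtain ⟨W, hWdef⟩ : ∃ W, W = Groth.Agent.Helper9.SymLib.boxOpen f d V U := ⟨_, rfl⟩
  have hWmem : ∀ z, z ∈ W ↔ (WidePullback.base (fun _ : Fin d => f)).base z ∈ V ∧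
      ∀ i : Fin d, (WidePullback.π (fun _ : Fin d => f) i).base z ∈ U := by
    intro z; rw [hWdef]; exact Groth.Agent.Helper9.SymLib.mem_boxOpen f d V U z
  have hstab : ∀ σ : Equiv.Perm (Fin d), (SymProd.permHom f d σ) ⁻¹ᵁ W = W := by
    intro σ; rw [hWdef]; exact Groth.Agent.Helper9.SymLib.permHom_preimage_boxOpen f d V U σ
  have hsat : q.base ⁻¹' (q.base '' (W : Set ↥(SymProd.fibPow f d))) = (W : Set ↥(SymProd.fibPow f d)) := by
    apply Set.Subset.antisymm
    · rintro z ⟨w, hw, hwz⟩
      obtain ⟨γ, hγ⟩ := (hfib w z).mp hwz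
      have h1 : w ∈ (SymProd.permHom f d γ.down) ⁻¹ᵁ W := by rw [hstab]; exact hw
      have h2 : (SymProd.permHom f d γ.down).base w = z := hγ
      rw [← h2]
      exact h1
    · exact Set.subset_preimage_image _ _
  have hopen : IsOpen (q.base '' (W : Set ↥(SymProd.fibPow f d))) := by
    rw [← hquot.isOpen_preimage, hsat]
    exact W.isOpen
  have hqW : q ⁻¹ᵁ (⟨q.base '' (W : Set ↥(SymProd.fibPow f d)), hopen⟩ : Y.Opens) = W := by
    ext z
    exact Set.ext_iff.mp hsat z
  refine ⟨V, hV𝒮, U, hU, hUV, W, ?_, by rw [hWdef]; exact hWaff, hstab,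
    ⟨q.base '' (W : Set ↥(SymProd.fibPow f d)), hopen⟩, ⟨x, by rw [hWdef]; exact hxW, rfl⟩, ?_, hqW⟩
  · ext z
    rw [SetLike.mem_coe, hWmem, Set.mem_iInter]
    constructor
    · exact fun h => h.2
    · intro h
      refine ⟨?_, h⟩
      have hc : (WidePullback.π (fun _ : Fin d => f) ⟨0, hd⟩ ≫ f).base z =
          (WidePullback.base (fun _ : Fin d => f)).base z := by rw [WidePullback.π_arrow]
      rw [← hc]
      exact hUV (h ⟨0, hd⟩)
  · apply Groth.Agent.Helper9.QuotAff.isAffineOpen_of_preimage (SymProd.permActU f d) q hq.isQuot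
    rw [hqW, hWdef]
    exact hWaff

end Groth.Agent.S13605
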