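import Mathlib
import Groth.Statements.S13606
import Groth.Agent.Lib.Helper9.QuotAct
-- import your own Groth.Agent.* helpers here

set_option autoImplicit false
universe u
open CategoryTheory AlgebraicGeometry
open SGA1

namespace Groth.Agent.S13606

open Groth.Agent.Helper9

/-- Let a finite group G act on a scheme X and let p : X ⟶ Y be a quotient of X by G (affine,
G-invariant, sections of O_Y over every open = G-invariant sections of O_X over its preimage). Then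
for every open U ⊆ Y, U is the quotient of p⁻¹U by G: the restriction p⁻¹U ⟶ U of p is again a
quotient in the same sense, for the action ρU of G on the G-stable open p⁻¹U induced by ρ (pinned by
compatibility with the inclusion p⁻¹U ⟶ X). -/
theorem result {X Y : Scheme.{u}} {G : Type u} [Group G] [Finite G]
    (ρ : G →* Aut X) (p : X ⟶ Y) (hp : SGA1.IsQuot ρ p) (U : Y.Opens)
    (ρU : G →* Aut (p ⁻¹ᵁ U).toScheme)
    (hρU : ∀ g : G, (ρU g).hom ≫ (p ⁻¹ᵁ U).ι = (p ⁻¹ᵁ U).ι ≫ (ρ g).hom) :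
    SGA1.IsQuot ρU (p ∣_ U) := by
  haveI := hp.affine
  have hinv : ∀ g : G, (ρU g).hom ≫ p ∣_ U = p ∣_ U := by
    intro g
    rw [← cancel_mono U.ι, Category.assoc, morphismRestrict_ι, ← Category.assoc, hρU g,
      Category.assoc, hp.inv g]
  have hres : ∀ g : G, (ρU g).hom = (ρ g).hom.resLE (p ⁻¹ᵁ U) (p ⁻¹ᵁ U)
      (SGA1.preimage_le_of_inv ρ p hp.inv g U) := by
    intro g
    rw [← cancel_mono (p ⁻¹ᵁ U).ι, Scheme.Hom.resLE_comp_ι]
    exact hρU g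
  refine ⟨IsZariskiLocalAtTarget.restrict (P := @IsAffineHom) hp.affine U, hinv, ?_, ?_⟩
  · intro V
    have hO := image_morphismRestrict_preimage p U V
    have h1 : (p ∣_ U).app V = p.appLE (U.ι ''ᵁ V) ((p ⁻¹ᵁ U).ι ''ᵁ ((p ∣_ U) ⁻¹ᵁ V)) hO.le :=
      morphismRestrict_app' p U V
    intro a b hab
    have h3 : (p.appLE (U.ι ''ᵁ V) ((p ⁻¹ᵁ U).ι ''ᵁ ((p ∣_ U) ⁻¹ᵁ V)) hO.le).hom a =
        (p.appLE (U.ι ''ᵁ V) ((p ⁻¹ᵁ U).ι ''ᵁ ((p ∣_ U) ⁻¹ᵁ V)) hO.le).hom b :=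
      ((congrArg (fun φ => CommRingCat.Hom.hom φ a) h1).symm.trans hab).trans
        (congrArg (fun φ => CommRingCat.Hom.hom φ b) h1)
    exact QuotAct.appLE_injective p hp.injective _ _ hO h3
  · intro V s
    have hO := image_morphismRestrict_preimage p U V
    have e : ∀ g : G, (p ⁻¹ᵁ U).ι ''ᵁ ((p ∣_ U) ⁻¹ᵁ V) ≤
        (ρ g).hom ⁻¹ᵁ ((p ⁻¹ᵁ U).ι ''ᵁ ((p ∣_ U) ⁻¹ᵁ V)) := by
      intro g
      rw [hO]
      exact SGA1.preimage_le_of_inv ρ p hp.inv g _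
    have key := QuotAct.range_iff' ρ p hp (U.ι ''ᵁ V) _ hO e s
    have h1 : (p ∣_ U).app V = p.appLE (U.ι ''ᵁ V) ((p ⁻¹ᵁ U).ι ''ᵁ ((p ∣_ U) ⁻¹ᵁ V)) hO.le :=
      morphismRestrict_app' p U V
    rw [h1]
    refine key.trans (forall_congr' fun g => ?_)
    have h2 : (ρU g).hom.appLE ((p ∣_ U) ⁻¹ᵁ V) ((p ∣_ U) ⁻¹ᵁ V)
        (SGA1.preimage_le_of_inv ρU (p ∣_ U) hinv g V) =
        (ρ g).hom.appLE _ _ (e g) := by
      rw [QuotAct.appLE_of_eq (hres g), Scheme.Hom.resLE_appLE]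
    exact ⟨fun hh => (congrArg (fun φ => CommRingCat.Hom.hom φ s) h2).trans hh,
      fun hh => (congrArg (fun φ => CommRingCat.Hom.hom φ s) h2).symm.trans hh⟩

end Groth.Agent.S13606
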