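import Groth.Statements.S13608
import Mathlib

set_option autoImplicit false
universe u v
open CAlg

namespace Groth.Agent.S13608

/-- Let A be a commutative ring, I a finitely generated ideal of A and (M_n) an inverse system of
A-modules with transition maps f_n : M_(n+1) → M_n such that I^(n+1) M_n = 0 for every n. If L is an
inverse limit of the system (projections π_n compatible with the f_n, jointly injective, and such
that every compatible family of elements lifts to L), then L is complete and separated for the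
I-adic topology. No surjectivity of the transition maps is assumed. -/
theorem result
    (A : Type u) [CommRing A] (I : Ideal A) (hI : I.FG)
    (M : ℕ → Type v) [∀ n, AddCommGroup (M n)] [∀ n, Module A (M n)]
    (f : ∀ n, M (n + 1) →ₗ[A] M n)
    (hkill : ∀ n, I ^ (n + 1) • (⊤ : Submodule A (M n)) = ⊥)
    (L : Type v) [AddCommGroup L] [Module A L] (π : ∀ n, L →ₗ[A] M n)
    (hπ : ∀ n, f n ∘ₗ π (n + 1) = π n)
    (hinj : ∀ x : L, (∀ n, π n x = 0) → x = 0)
    (hlift : ∀ y : (∀ n, M n), (∀ n, f n (y (n + 1)) = y n) → ∃ x : L, ∀ n, π n x = y n) :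
    IsAdicComplete I L := by
  classical
  have hπ' : ∀ n x, f n (π (n + 1) x) = π n x := fun n x => congr($(hπ n) x)
  have hkill' : ∀ n, I ^ (n + 1) • (⊤ : Submodule A L) ≤ LinearMap.ker (π n) := by
    intro n
    rw [Submodule.smul_le]
    intro r hr x _
    rw [LinearMap.mem_ker, map_smul]
    have : r • π n x ∈ I ^ (n + 1) • (⊤ : Submodule A (M n)) :=
      Submodule.smul_mem_smul hr Submodule.mem_top
    rw [hkill n] at this
    exact this
  let q : ∀ n, (L ⧸ (I ^ (n + 1) • (⊤ : Submodule A L))) →ₗ[A] M n := fun n =>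
    (I ^ (n + 1) • (⊤ : Submodule A L)).liftQ (π n) (hkill' n)
  let y : ∀ n, AdicCompletion I L →ₗ[A] M n := fun n =>
    (q n) ∘ₗ (AdicCompletion.eval I L (n + 1))
  have hy_mk : ∀ n (w : AdicCompletion.AdicCauchySequence I L),
      y n (AdicCompletion.mk I L w) = π n (w (n + 1)) := fun n w => rfl
  have hy_of : ∀ n (x : L), y n (AdicCompletion.of I L x) = π n x := fun n x => rfl
  have hycompat : ∀ ξ n, f n (y (n + 1) ξ) = y n ξ := by
    intro ξ n
    obtain ⟨w, rfl⟩ := AdicCompletion.mk_surjective I L ξ
    rw [hy_mk, hy_mk, hπ']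
    have h1 : w (n + 1) ≡ w (n + 1 + 1) [SMOD (I ^ (n + 1) • ⊤ : Submodule A L)] :=
      w.2 (Nat.le_succ _)
    rw [SModEq.sub_mem] at h1
    have h2 := hkill' n h1
    rw [LinearMap.mem_ker, map_sub, sub_eq_zero] at h2
    exact h2.symm
  choose ψ hψ using fun ξ => hlift (fun n => y n ξ) (hycompat ξ)
  have hψ' : ∀ ξ n, π n (ψ ξ) = y n ξ := hψ
  have hψadd : ∀ ξ η, ψ (ξ + η) = ψ ξ + ψ η := by
    intro ξ η
    rw [← sub_eq_zero]
    apply hinj
    intro n
    rw [map_sub, map_add, hψ', hψ', hψ', map_add, sub_self]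
  have hψsmul : ∀ (r : A) ξ, ψ (r • ξ) = r • ψ ξ := by
    intro r ξ
    rw [← sub_eq_zero]
    apply hinj
    intro n
    rw [map_sub, map_smul, hψ', hψ', map_smul, sub_self]
  let Ψ : AdicCompletion I L →ₗ[A] L :=
    { toFun := ψ, map_add' := hψadd, map_smul' := hψsmul }
  have hΨof : ∀ x, Ψ (AdicCompletion.of I L x) = x := by
    intro x
    rw [← sub_eq_zero]
    apply hinj
    intro n
    rw [map_sub]
    show π n (ψ (AdicCompletion.of I L x)) - π n x = 0
    rw [hψ', hy_of, sub_self]
  refine { haus' := ?_, prec' := ?_ }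
  · intro x hx
    apply hinj
    intro n
    have := hx (n + 1)
    rw [SModEq.sub_mem, sub_zero] at this
    exact hkill' n this
  · intro g hg
    let w : AdicCompletion.AdicCauchySequence I L :=
      AdicCompletion.AdicCauchySequence.mk I L g (fun n => hg (Nat.le_succ n))
    refine ⟨Ψ (AdicCompletion.mk I L w), fun n => ?_⟩
    rw [SModEq.sub_mem]
    have h1 : AdicCompletion.of I L (g n) - AdicCompletion.mk I L w ∈
        I ^ n • (⊤ : Submodule A (AdicCompletion I L)) := by
      rw [AdicCompletion.pow_smul_top_eq_ker_eval hI, LinearMap.mem_ker, map_sub, sub_eq_zero]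
      rfl
    have h2 : Ψ (AdicCompletion.of I L (g n) - AdicCompletion.mk I L w) ∈
        I ^ n • (⊤ : Submodule A L) := by
      have h3 : (I ^ n • (⊤ : Submodule A (AdicCompletion I L))).map Ψ ≤
          I ^ n • (⊤ : Submodule A L) := by
        rw [Submodule.map_smul'']
        exact Submodule.smul_mono le_rfl le_top
      exact h3 (Submodule.mem_map_of_mem h1)
    rw [map_sub, hΨof] at h2
    exact h2

end Groth.Agent.S13608
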