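import Groth.Statements.S13622
import Mathlib
import Groth.Agent.S2291
import Groth.Agent.Lib.Helper17.AdicLimit2

set_option autoImplicit false
universe u v
open CAlg

namespace Groth.Agent.S13622

/-- Let A be a commutative ring, I a finitely generated ideal and (M_n) an inverse system of finitely
generated A-modules whose transition maps f_n : M_(n+1) → M_n are surjective with kernel I^(n+1)
M_(n+1), and with I^(n+1) M_n = 0 for all n. If L is an inverse limit of the system (projections π_n
compatible with the f_n, jointly injective, every compatible family lifting to L), endowed with a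
module structure over the I-adic completion A^ of A that is compatible with its A-module structure,
then L is finitely generated as an A^-module. No completeness of A is assumed. -/
theorem result
    (A : Type u) [CommRing A] (I : Ideal A) (hI : I.FG)
    (M : ℕ → Type v) [∀ n, AddCommGroup (M n)] [∀ n, Module A (M n)] [∀ n, Module.Finite A (M n)]
    (f : ∀ n, M (n + 1) →ₗ[A] M n) (hf : ∀ n, Function.Surjective (f n))
    (hker : ∀ n, LinearMap.ker (f n) = I ^ (n + 1) • (⊤ : Submodule A (M (n + 1))))
    (hkill : ∀ n, I ^ (n + 1) • (⊤ : Submodule A (M n)) = ⊥)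
    (L : Type v) [AddCommGroup L] [Module A L] (π : ∀ n, L →ₗ[A] M n)
    (hπ : ∀ n, f n ∘ₗ π (n + 1) = π n)
    (hinj : ∀ x : L, (∀ n, π n x = 0) → x = 0)
    (hlift : ∀ y : (∀ n, M n), (∀ n, f n (y (n + 1)) = y n) → ∃ x : L, ∀ n, π n x = y n)
    [Module (AdicCompletion I A) L] [IsScalarTower A (AdicCompletion I A) L] :
    Module.Finite (AdicCompletion I A) L := by
  classical
  obtain ⟨hcomp, hsk, -⟩ := Groth.Agent.S2291.result A I hI M f hf hker L π hπ hinj hlift
  have hsurj0 := (hsk 0).1
  have hker0 : LinearMap.ker (π 0) = I • (⊤ : Submodule A L) := by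
    have := (hsk 0).2; rwa [zero_add, pow_one] at this
  haveI hAc : IsAdicComplete (I.map (algebraMap A (AdicCompletion I A))) (AdicCompletion I A) :=
    AdicCompletion.isAdicComplete_self I hI
  haveI : IsPrecomplete (I.map (algebraMap A (AdicCompletion I A))) (AdicCompletion I A) :=
    hAc.toIsPrecomplete
  haveI : IsHausdorff I L := hcomp.toIsHausdorff
  haveI : IsHausdorff (I.map (algebraMap A (AdicCompletion I A))) L :=
    IsHausdorff.map_algebraMap_iff.mpr inferInstance
  obtain ⟨r, s, hs⟩ := Module.Finite.exists_fin (R := A) (M := M 0)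
  let x : Fin r → L := fun i => Function.surjInv hsurj0 (s i)
  have hx : ∀ i, π 0 (x i) = s i := fun i => Function.surjInv_eq hsurj0 (s i)
  have hsup : Submodule.span (AdicCompletion I A) (Set.range x) ⊔
      (I.map (algebraMap A (AdicCompletion I A))) •
        (⊤ : Submodule (AdicCompletion I A) L) = ⊤ := by
    rw [eq_top_iff]
    intro y _
    have h1 : π 0 y ∈ Submodule.span A (Set.range s) := by rw [hs]; exact Submodule.mem_top
    obtain ⟨c, hc⟩ := (Submodule.mem_span_range_iff_exists_fun A).mp h1
    have h2 : y - ∑ i, c i • x i ∈ LinearMap.ker (π 0) := by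
      rw [LinearMap.mem_ker, map_sub, map_sum, ← hc, sub_eq_zero]
      refine Finset.sum_congr rfl fun i _ => ?_
      rw [map_smul, hx]
    rw [hker0] at h2
    have h3 : y - ∑ i, c i • x i ∈ (I.map (algebraMap A (AdicCompletion I A))) •
        (⊤ : Submodule (AdicCompletion I A) L) := by
      have h := Ideal.smul_restrictScalars I (⊤ : Submodule (AdicCompletion I A) L)
      rw [Submodule.restrictScalars_top] at h
      have h4 : y - ∑ i, c i • x i ∈ ((I.map (algebraMap A (AdicCompletion I A))) •
          (⊤ : Submodule (AdicCompletion I A) L)).restrictScalars A := by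
        rw [h]; exact h2
      exact h4
    have h5 : ∑ i, c i • x i ∈ Submodule.span (AdicCompletion I A) (Set.range x) := by
      refine Submodule.sum_mem _ fun i _ => ?_
      rw [← algebraMap_smul (AdicCompletion I A) (c i) (x i)]
      exact Submodule.smul_mem _ _ (Submodule.subset_span ⟨i, rfl⟩)
    have : y = ∑ i, c i • x i + (y - ∑ i, c i • x i) := by abel
    rw [this]
    exact Submodule.add_mem_sup h5 h3
  have htop := Groth.Agent.Helper17.span_eq_top_of_complete
    (I.map (algebraMap A (AdicCompletion I A))) x hsup
  exact ⟨by rw [← htop]; exact Submodule.fg_span (Set.finite_range x)⟩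

end Groth.Agent.S13622
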