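import Groth.Statements.S13627
import Groth.Agent.H28.GeomFib

set_option autoImplicit false
universe u
open CategoryTheory CategoryTheory.Limits AlgebraicGeometry Opposite
open FBase

namespace Groth.Agent.S13627

/-- Let P be a property of schemes over fields, invariant under isomorphisms of schemes over the base
field and ascending along every field extension k → K (if Z over k has P then Z ×_k Spec K over K
has P). For a morphism of schemes f : X → T, these conditions are equivalent: (1) for every
algebraically closed field k and every morphism Spec k → T the fibre X ×_T Spec k has P over k; (2)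
for every point t of T the fibre of f over Spec of an algebraic closure of the residue field κ(t)
has P. (Fields are taken in the universe of the schemes. The published statement also treats a
morphism from an algebraic space X to a scheme T; this row treats morphisms of schemes.) -/
theorem result
    (P : ∀ (k : Type u) [Field k] (Z : Scheme.{u}), (Z ⟶ Spec (CommRingCat.of k)) → Prop)
    (hiso : ∀ (k : Type u) [Field k] (Z Z' : Scheme.{u}) (e : Z ≅ Z') (g : Z' ⟶ Spec (CommRingCat.of k)),
      P k Z' g → P k Z (e.hom ≫ g))
    (hext : ∀ (k K : Type u) [Field k] [Field K] (i : k →+* K) (Z : Scheme.{u}) (g : Z ⟶ Spec (CommRingCat.of k)),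
      P k Z g → P K (pullback g (Spec.map (CommRingCat.ofHom i))) (pullback.snd g (Spec.map (CommRingCat.ofHom i))))
    {X T : Scheme.{u}} (f : X ⟶ T) :
    (∀ (k : Type u) [Field k] [IsAlgClosed k] (σ : Spec (CommRingCat.of k) ⟶ T),
        P k (pullback f σ) (pullback.snd f σ)) ↔
      ∀ t : T, P (AlgebraicClosure ↥(T.residueField t))
        (pullback f (Spec.map (CommRingCat.ofHom (algebraMap ↥(T.residueField t) (AlgebraicClosure ↥(T.residueField t)))) ≫
          T.fromSpecResidueField t))
        (pullback.snd f (Spec.map (CommRingCat.ofHom (algebraMap ↥(T.residueField t) (AlgebraicClosure ↥(T.residueField t)))) ≫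
          T.fromSpecResidueField t)) := by
  constructor
  · intro H t
    exact H _ _
  · intro H k _ _ σ
    obtain ⟨⟨t, j⟩, rfl⟩ := (Scheme.SpecToEquivOfField k T).symm.surjective σ
    change P k (pullback f (Spec.map j ≫ T.fromSpecResidueField t))
      (pullback.snd f (Spec.map j ≫ T.fromSpecResidueField t))
    let _ : Algebra ↥(T.residueField t) k := j.hom.toAlgebra
    obtain ⟨i, hi⟩ : ∃ i : AlgebraicClosure ↥(T.residueField t) →+* k,
        i.comp (algebraMap ↥(T.residueField t) (AlgebraicClosure ↥(T.residueField t))) = j.hom :=
      ⟨(IsAlgClosed.lift (R := ↥(T.residueField t)) (S := AlgebraicClosure ↥(T.residueField t))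
        (M := k)).toRingHom, by
        ext x
        exact (IsAlgClosed.lift (R := ↥(T.residueField t))
          (S := AlgebraicClosure ↥(T.residueField t)) (M := k)).commutes x⟩
    have hσ : Spec.map j ≫ T.fromSpecResidueField t =
        Spec.map (CommRingCat.ofHom i) ≫
          (Spec.map (CommRingCat.ofHom (algebraMap ↥(T.residueField t)
            (AlgebraicClosure ↥(T.residueField t)))) ≫ T.fromSpecResidueField t) := by
      rw [← Category.assoc, ← Spec.map_comp, ← CommRingCat.ofHom_comp, hi, CommRingCat.ofHom_hom]
    rw [hσ]
    obtain ⟨e, he⟩ := Groth.Agent.H28.GeomFib.exists_iso_pullback_comp f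
      (Spec.map (CommRingCat.ofHom (algebraMap ↥(T.residueField t)
        (AlgebraicClosure ↥(T.residueField t)))) ≫ T.fromSpecResidueField t)
      (Spec.map (CommRingCat.ofHom i))
    have h1 := hext _ k i _ _ (H t)
    have h2 := hiso k _ _ e.symm _ h1
    have he' : e.symm.hom ≫ pullback.snd (pullback.snd f
        (Spec.map (CommRingCat.ofHom (algebraMap ↥(T.residueField t)
          (AlgebraicClosure ↥(T.residueField t)))) ≫ T.fromSpecResidueField t))
        (Spec.map (CommRingCat.ofHom i)) = pullback.snd f _ := by
      rw [← he, Iso.symm_hom, Iso.inv_hom_id_assoc]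
    rw [he'] at h2
    exact h2

end Groth.Agent.S13627
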