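import Groth.Statements.S13628
import Groth.Agent.H28.GeomFib

set_option autoImplicit false
universe u
open CategoryTheory CategoryTheory.Limits AlgebraicGeometry Opposite
open FBase

namespace Groth.Agent.S13628

/-- Let P be a property of schemes over fields, invariant under isomorphisms of schemes over the base
field and invariant in both directions under every field extension k → K (Z over k has P if and only
if Z ×_k Spec K over K has P). Let f : X → T be a morphism of schemes, h : T' → T a surjective
morphism of schemes and f' : X' → T' a base change of f along h. If for every algebraically closed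
field k and every Spec k → T' the fibre X' ×_{T'} Spec k has P, then for every algebraically closed
field k and every Spec k → T the fibre X ×_T Spec k has P. (Fields are taken in the universe of the
schemes. The published statement is that families of del Pezzo surfaces form a stack for the étale
topology; this row is the step of its proof that descends the condition on geometric fibres along a
surjective base change, stated for any fibre property with the invariance above.) -/
theorem result
    (P : ∀ (k : Type u) [Field k] (Z : Scheme.{u}), (Z ⟶ Spec (CommRingCat.of k)) → Prop)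
    (hiso : ∀ (k : Type u) [Field k] (Z Z' : Scheme.{u}) (e : Z ≅ Z') (g : Z' ⟶ Spec (CommRingCat.of k)),
      P k Z' g → P k Z (e.hom ≫ g))
    (hext : ∀ (k K : Type u) [Field k] [Field K] (i : k →+* K) (Z : Scheme.{u}) (g : Z ⟶ Spec (CommRingCat.of k)),
      P k Z g ↔ P K (pullback g (Spec.map (CommRingCat.ofHom i))) (pullback.snd g (Spec.map (CommRingCat.ofHom i))))
    {X T X' T' : Scheme.{u}} (f : X ⟶ T) (h : T' ⟶ T) [Surjective h] (f' : X' ⟶ T') (h' : X' ⟶ X)
    (sq : IsPullback h' f' f h)
    (H : ∀ (k : Type u) [Field k] [IsAlgClosed k] (σ' : Spec (CommRingCat.of k) ⟶ T'),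
        P k (pullback f' σ') (pullback.snd f' σ'))
    (k : Type u) [Field k] [IsAlgClosed k] (σ : Spec (CommRingCat.of k) ⟶ T) :
    P k (pullback f σ) (pullback.snd f σ) := by
  have hsurj : Surjective (pullback.fst σ h) := inferInstance
  obtain ⟨z, -⟩ := hsurj.surj (IsLocalRing.closedPoint k)
  obtain ⟨ρ, hρ⟩ : ∃ ρ : Spec (CommRingCat.of (AlgebraicClosure ↥((pullback σ h).residueField z))) ⟶
      pullback σ h, ρ = Spec.map (CommRingCat.ofHom (algebraMap ↥((pullback σ h).residueField z)
        (AlgebraicClosure ↥((pullback σ h).residueField z)))) ≫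
        (pullback σ h).fromSpecResidueField z := ⟨_, rfl⟩
  obtain ⟨i, hi⟩ : ∃ i : k →+* AlgebraicClosure ↥((pullback σ h).residueField z),
      Spec.map (CommRingCat.ofHom i) = ρ ≫ pullback.fst σ h :=
    ⟨(Spec.preimage (ρ ≫ pullback.fst σ h)).hom, by
      rw [CommRingCat.ofHom_hom, Spec.map_preimage]⟩
  have w : Spec.map (CommRingCat.ofHom i) ≫ σ = (ρ ≫ pullback.snd σ h) ≫ h := by
    rw [hi, Category.assoc, Category.assoc, pullback.condition]
  obtain ⟨e, he⟩ := Groth.Agent.H28.GeomFib.exists_iso_pullback f h f' h' sq σ
    (Spec.map (CommRingCat.ofHom i)) (ρ ≫ pullback.snd σ h) w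
  have h1 := H (AlgebraicClosure ↥((pullback σ h).residueField z)) (ρ ≫ pullback.snd σ h)
  have h2 := hiso _ _ _ e _ h1
  rw [he] at h2
  rw [hext k _ i]
  exact h2

end Groth.Agent.S13628
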