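import Groth.Statements.S13631
import Mathlib

set_option autoImplicit false
universe u v w
open CAlg

namespace Groth.Agent.S13631

/-- Let k be a field, R an integral domain which is a k-algebra of infinite dimension over k, M a finite
free R-module, σ a ring automorphism of R mapping the image of k onto itself, and φ : M → M a
σ-semilinear map. If the cokernel of φ is finite-dimensional over k, in the sense that some finitely
generated k-subspace N of M satisfies M = N + φ(M), then φ is injective. -/
theorem result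
    {k : Type u} {R : Type v} {M : Type w} [Field k] [CommRing R] [IsDomain R] [Algebra k R]
    (hR : ¬ Module.Finite k R)
    [AddCommGroup M] [Module R M] [Module k M] [IsScalarTower k R M]
    [Module.Finite R M] [Module.Free R M]
    (σ : R ≃+* R)
    (hσ : ∀ x : k, ∃ y : k, σ (algebraMap k R x) = algebraMap k R y)
    (hσ' : ∀ y : k, ∃ x : k, σ (algebraMap k R x) = algebraMap k R y)
    (φ : M →ₛₗ[(σ : R →+* R)] M)
    (hcoker : ∃ N : Submodule k M, N.FG ∧ ∀ m : M, ∃ n ∈ N, ∃ m' : M, m = n + φ m') :
    Function.Injective φ := by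
  classical
  obtain ⟨N, hNfg, hN⟩ := hcoker
  let ι := Module.Free.ChooseBasisIndex R M
  let b : Module.Basis ι R M := Module.Free.chooseBasis R M
  -- matrix of φ
  obtain ⟨Mat, hMat⟩ : ∃ Mat : Matrix ι ι R, Mat = fun i j => b.repr (φ (b j)) i := ⟨_, rfl⟩
  have hrepr : ∀ (m : M) (i : ι), b.repr (φ m) i = ∑ j, Mat i j * σ (b.repr m j) := by
    intro m i
    have hm : φ m = ∑ j, σ (b.repr m j) • φ (b j) := by
      conv_lhs => rw [← b.sum_repr m]
      rw [map_sum]
      refine Finset.sum_congr rfl fun j _ => ?_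
      rw [map_smulₛₗ]
      rfl
    rw [hm, map_sum, Finsupp.finset_sum_apply]
    refine Finset.sum_congr rfl fun j _ => ?_
    rw [map_smul, Finsupp.smul_apply, smul_eq_mul, mul_comm, hMat]
  intro m₁ m₂ h12
  by_contra hne
  have hm0 : m₁ - m₂ ≠ 0 := sub_ne_zero.mpr hne
  have hφ0 : φ (m₁ - m₂) = 0 := by rw [map_sub, h12, sub_self]
  -- a nonzero kernel vector of Mat
  have hdet : Mat.det = 0 := by
    refine Matrix.exists_mulVec_eq_zero_iff.mp ⟨fun j => σ (b.repr (m₁ - m₂) j), ?_, ?_⟩
    · intro h0
      apply hm0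
      apply b.repr.injective
      ext j
      have := congrFun h0 j
      simp only [Pi.zero_apply] at this
      have h2 : b.repr (m₁ - m₂) j = 0 := by
        have h3 : σ (b.repr (m₁ - m₂) j) = σ 0 := by rw [this, map_zero]
        exact σ.injective h3
      rw [h2, map_zero]
      rfl
    · ext i
      have := hrepr (m₁ - m₂) i
      rw [hφ0, map_zero] at this
      simp only [Matrix.mulVec, dotProduct, Pi.zero_apply]
      exact this.symm
  obtain ⟨w, hw0, hw⟩ := Matrix.exists_vecMul_eq_zero_iff.mpr hdet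
  -- the functional
  obtain ⟨ℓ, hℓ⟩ : ∃ ℓ : M →ₗ[R] R, ∀ x, ℓ x = ∑ i, w i * b.repr x i := by
    refine ⟨∑ i, w i • b.coord i, fun x => ?_⟩
    rw [LinearMap.sum_apply]
    refine Finset.sum_congr rfl fun i _ => ?_
    rw [LinearMap.smul_apply, smul_eq_mul, Module.Basis.coord_apply]
  have hℓφ : ∀ m', ℓ (φ m') = 0 := by
    intro m'
    rw [hℓ]
    simp_rw [hrepr, Finset.mul_sum]
    rw [Finset.sum_comm]
    refine Finset.sum_eq_zero fun j _ => ?_
    have h1 : ∑ i, w i * Mat i j = 0 := by
      have := congrFun hw j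
      simpa [Matrix.vecMul, dotProduct] using this
    simp_rw [← mul_assoc]
    rw [← Finset.sum_mul, h1, zero_mul]
  obtain ⟨i₀, hi₀⟩ : ∃ i, w i ≠ 0 := by
    by_contra hall
    push_neg at hall
    exact hw0 (funext hall)
  have hℓb : ∀ x : R, ℓ (x • b i₀) = x * w i₀ := by
    intro x
    rw [map_smul, smul_eq_mul, hℓ]
    congr 1
    rw [Finset.sum_eq_single i₀]
    · rw [Module.Basis.repr_self, Finsupp.single_eq_same, mul_one]
    · intro i _ hi
      rw [Module.Basis.repr_self, Finsupp.single_eq_of_ne hi, mul_zero]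
    · intro h; exact absurd (Finset.mem_univ _) h
  -- k-linear version
  let ℓk : M →ₗ[k] R := ℓ.restrictScalars k
  have hmem : ∀ x : R, x * w i₀ ∈ N.map ℓk := by
    intro x
    obtain ⟨n, hn, m', hm'⟩ := hN (x • b i₀)
    refine ⟨n, hn, ?_⟩
    have : ℓ (x • b i₀) = ℓ n + ℓ (φ m') := by rw [hm', map_add]
    rw [hℓb, hℓφ, add_zero] at this
    exact this.symm
  have hfg : (N.map ℓk).FG := hNfg.map ℓk
  haveI : Module.Finite k (N.map ℓk) := Module.Finite.iff_fg.mpr hfg
  let μ : R →ₗ[k] (N.map ℓk) :=
    LinearMap.codRestrict (N.map ℓk) (LinearMap.mulRight k (w i₀)) (fun x => by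
      rw [LinearMap.mulRight_apply]; exact hmem x)
  have hμ : Function.Injective μ := by
    intro x y hxy
    have h1 : x * w i₀ = y * w i₀ := by
      have := congrArg Subtype.val hxy
      simpa [μ] using this
    exact mul_right_cancel₀ hi₀ h1
  exact hR (Module.Finite.of_injective μ hμ)

end Groth.Agent.S13631
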