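import Groth.Statements.S13634
import Groth.Agent.H28.ShBridge

set_option autoImplicit false
universe u
open CategoryTheory CategoryTheory.Limits MonoidalCategory CartesianMonoidalCategory MonObj AlgebraicGeometry
open MultSch

namespace Groth.Agent.S13634

section helpers

variable {C : Type*} [Category C] [CartesianMonoidalCategory C]

lemma tuple_comp {M T V : C} (f : V ⟶ T) : ∀ {n : ℕ} (x : Fin n → (T ⟶ M)),
    f ≫ MultSch.tuple x = MultSch.tuple (fun l => f ≫ x l)
  | 0, _ => toUnit_unique _ _
  | n + 1, x => by
    have h := tuple_comp f (fun i => x i.succ)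
    change f ≫ (lift (x 0) (MultSch.tuple fun i => x i.succ) : T ⟶ M ⊗ MultSch.pow M n) =
      lift (f ≫ x 0) (MultSch.tuple fun i => f ≫ x i.succ)
    rw [comp_lift, h]

end helpers

/-- Let π : M → M'' be a homomorphism of commutative group schemes over a scheme S which is an
epimorphism of fppf sheaves, H a commutative group scheme over S and φ : (M'')^r → H a multilinear
morphism. If the composite of φ with π^r : M^r → (M'')^r is alternating, then φ is alternating. (The
published statement is for module schemes over a ring R and an R-multilinear φ; the ring action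
plays no role, so this row states it for commutative group schemes, which contains that case.) -/
theorem result
    {S : Scheme.{u}} {M M'' H : Over S}
    [GrpObj M] [IsCommMonObj M] [GrpObj M''] [IsCommMonObj M''] [GrpObj H] [IsCommMonObj H]
    (π : M ⟶ M'') [IsMonHom π] (hπ : Epi (CGrpSh.ptsMap Scheme.fppfPrecoverage π))
    {r : ℕ} (φ : MultSch.pow M'' r ⟶ H) (hφ : MultSch.IsMultilinear φ)
    (halt : ∀ (T : Over S) (x : Fin r → (T ⟶ M)) (i j : Fin r), i ≠ j → x i = x j →
      MultSch.tuple (fun l => x l ≫ π) ≫ φ = 1) :
    MultSch.IsAlternating φ := by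
  intro T x i j hij hxij
  have hl := fun l => Groth.Agent.H28.ShBridge.lift_of_epi Scheme.fppfPrecoverage π hπ (x l)
  choose R hR hlift using hl
  have hR' : (Finset.univ.inf R) ∈ QuotSh.J Scheme.fppfPrecoverage S T :=
    Groth.Agent.H28.ShBridge.finset_inf_mem _ _ _ (fun l _ => hR l)
  refine Groth.Agent.H28.ShBridge.ext_of_mem Scheme.fppfPrecoverage _ hR' _ _ ?_
  intro V f hf
  have hfl : ∀ l, R l f := fun l =>
    (Finset.inf_le (Finset.mem_univ l) : Finset.univ.inf R ≤ R l) _ hf
  choose y hy using fun l => hlift l f (hfl l)
  have hy' : ∀ l, (if l = j then y i else y l) ≫ π = f ≫ x l := by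
    intro l
    by_cases h : l = j
    · subst h
      rw [if_pos rfl, hy i, hxij]
    · rw [if_neg h]
      exact hy l
  have hij' : (fun l => if l = j then y i else y l) i = (fun l => if l = j then y i else y l) j := by
    simp [hij]
  have h3 := halt V (fun l => if l = j then y i else y l) i j hij hij'
  rw [MonObj.comp_one, ← Category.assoc, tuple_comp, ← h3]
  congr 2
  funext l
  exact (hy' l).symm

end Groth.Agent.S13634
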