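import Groth.Statements.S13635
import Groth.Agent.H28.ExactBridge
import Groth.Agent.S13634

set_option autoImplicit false
universe u w
open CategoryTheory CategoryTheory.Limits MonoidalCategory CartesianMonoidalCategory MonObj AlgebraicGeometry
open MultSch

namespace Groth.Agent.S13635

section Helpers

variable {C : Type*} [Category C] [CartesianMonoidalCategory C]

/-- coordinates of the `n`-fold power -/
def coord {M : C} : (n : ℕ) → Fin n → (MultSch.pow M n ⟶ M)
  | 0, i => i.elim0
  | n + 1, i => Fin.cases (fst M (MultSch.pow M n))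
      (fun i' => snd M (MultSch.pow M n) ≫ coord n i') i

lemma tuple_coord_comp {M T : C} : ∀ (n : ℕ) (x : Fin n → (T ⟶ M)) (l : Fin n),
    MultSch.tuple x ≫ coord n l = x l
  | 0, _, l => l.elim0
  | n + 1, x, l => by
    have ih := tuple_coord_comp n (fun i => x i.succ)
    change (lift (x 0) (MultSch.tuple fun i => x i.succ) : T ⟶ M ⊗ MultSch.pow M n) ≫
      (Fin.cases (fst M (MultSch.pow M n))
        (fun i' => snd M (MultSch.pow M n) ≫ coord n i') l : M ⊗ MultSch.pow M n ⟶ M) = x l
    induction l using Fin.cases with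
    | zero => simp
    | succ i =>
      simp only [Fin.cases_succ]
      rw [lift_snd_assoc, ih]

lemma tuple_coord {M : C} : ∀ (n : ℕ), MultSch.tuple (coord (M := M) n) = 𝟙 (MultSch.pow M n)
  | 0 => toUnit_unique _ _
  | n + 1 => by
    have ih := tuple_coord (M := M) n
    change (lift (coord (M := M) (n + 1) 0)
      (MultSch.tuple fun i => coord (M := M) (n + 1) i.succ) : M ⊗ MultSch.pow M n ⟶ _) = 𝟙 _
    have e1 : coord (M := M) (n + 1) 0 = fst M (MultSch.pow M n) := rfl
    have e2 : (fun i : Fin n => coord (M := M) (n + 1) i.succ) =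
        fun i => snd M (MultSch.pow M n) ≫ coord n i := by
      funext i
      rfl
    rw [e1, e2, ← Groth.Agent.S13634.tuple_comp, ih]
    apply CartesianMonoidalCategory.hom_ext <;> simp

lemma update_map {α β : Type*} {n : ℕ} (f : α → β) (x : Fin n → α) (i : Fin n) (y : α) :
    (fun l => f (Function.update x i y l)) = Function.update (fun l => f (x l)) i (f y) := by
  funext l
  by_cases h : l = i
  · subst h
    simp
  · simp [h]

end Helpers

/-- Let M₁ → M₂ → M₃ → 0 be a sequence of R-module schemes over a scheme S, with R-linear homomorphisms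
j : M₁ → M₂ and π : M₂ → M₃, exact as a sequence of fppf sheaves. For n ≥ 1 and an R-module scheme
N, the sequence 0 → Alt(M₃^n, N) → Alt(M₂^n, N) → Alt(M₁ × M₂^(n-1), N) of R-multilinear alternating
morphisms is exact: an R-multilinear alternating φ : M₂^n → N which is trivial on all points with
first coordinate in the image of j is of the form φ' ∘ π^n for a unique morphism φ' : M₃^n → N
(unique among all morphisms), and this φ' is R-multilinear and alternating. -/
theorem result
    {S : Scheme.{u}} {R : Type w} [CommRing R] {M₁ M₂ M₃ N : Over S}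
    [GrpObj M₁] [IsCommMonObj M₁] [GrpObj M₂] [IsCommMonObj M₂] [GrpObj M₃] [IsCommMonObj M₃]
    [GrpObj N] [IsCommMonObj N]
    (ρ₁ : MultSch.RMod R M₁) (ρ₂ : MultSch.RMod R M₂) (ρ₃ : MultSch.RMod R M₃) (ρN : MultSch.RMod R N)
    (j : M₁ ⟶ M₂) (π : M₂ ⟶ M₃) [IsMonHom j] [IsMonHom π]
    (hj : ∀ a : R, j ≫ ρ₂.act a = ρ₁.act a ≫ j) (hπ : ∀ a : R, π ≫ ρ₃.act a = ρ₂.act a ≫ π)
    (w : j ≫ π = 1) (hex : (CGrpSh.seq Scheme.fppfPrecoverage j π w).Exact)
    (hepi : Epi (CGrpSh.ptsMap Scheme.fppfPrecoverage π))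
    {n : ℕ} (hn : 1 ≤ n) (φ : MultSch.pow M₂ n ⟶ N)
    (hmult : MultSch.IsMultilinear φ) (hlin : MultSch.IsRLinear ρ₂ ρN φ) (halt : MultSch.IsAlternating φ)
    (hvan : ∀ (T : Over S) (y : T ⟶ M₁) (x : Fin n → (T ⟶ M₂)), x ⟨0, hn⟩ = y ≫ j →
      MultSch.tuple x ≫ φ = 1) :
    ∃ φ' : MultSch.pow M₃ n ⟶ N,
      (∀ (T : Over S) (x : Fin n → (T ⟶ M₂)), MultSch.tuple x ≫ φ = MultSch.tuple (fun l => x l ≫ π) ≫ φ') ∧
      MultSch.IsMultilinear φ' ∧ MultSch.IsRLinear ρ₃ ρN φ' ∧ MultSch.IsAlternating φ' ∧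
      ∀ φ'' : MultSch.pow M₃ n ⟶ N,
        (∀ (T : Over S) (x : Fin n → (T ⟶ M₂)), MultSch.tuple x ≫ φ = MultSch.tuple (fun l => x l ≫ π) ≫ φ'') →
          φ'' = φ' := by
  classical
  -- vanishing at every coordinate
  have hvan' : ∀ (T : Over S) (x : Fin n → (T ⟶ M₂)) (i : Fin n) (y : T ⟶ M₁), x i = y ≫ j →
      MultSch.tuple x ≫ φ = 1 := by
    intro T x i y hxi
    by_cases hi : i = ⟨0, hn⟩
    · subst hi
      exact hvan T y x hxi
    · obtain ⟨i₀, hi₀⟩ : ∃ i₀ : Fin n, i₀ = ⟨0, hn⟩ := ⟨_, rfl⟩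
      rw [← hi₀] at hi
      have hvan0 : ∀ (x' : Fin n → (T ⟶ M₂)), x' i₀ = y ≫ j → MultSch.tuple x' ≫ φ = 1 := by
        intro x' hx'
        rw [hi₀] at hx'
        exact hvan T y x' hx'
      have hi' : i₀ ≠ i := Ne.symm hi
      have h0 := halt T (Function.update (Function.update x i (x i₀ * x i)) i₀ (x i₀ * x i)) i₀ i hi'
        (by rw [Function.update_self, Function.update_of_ne hi, Function.update_self])
      have h1 := hmult T (Function.update x i (x i₀ * x i)) i₀ (x i₀) (x i)
      have h2 : Function.update (Function.update x i (x i₀ * x i)) i₀ (x i₀) =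
          Function.update x i (x i₀ * x i) := by
        rw [Function.update_comm hi, Function.update_eq_self]
      have h3 := hmult T x i (x i₀) (x i)
      have h4 : MultSch.tuple (Function.update x i (x i₀)) ≫ φ = 1 :=
        halt T _ i₀ i hi' (by rw [Function.update_of_ne hi', Function.update_self])
      have h5 : Function.update x i (x i) = x := Function.update_eq_self i x
      have h6 : Function.update (Function.update x i (x i₀ * x i)) i₀ (x i) =
          Function.update (Function.update x i₀ (x i)) i (x i₀ * x i) :=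
        Function.update_comm hi _ _ _
      have h7 := hmult T (Function.update x i₀ (x i)) i (x i₀) (x i)
      have h8 : MultSch.tuple (Function.update (Function.update x i₀ (x i)) i (x i₀)) ≫ φ = 1 :=
        hvan0 _ (by rw [Function.update_of_ne hi', Function.update_self, hxi])
      have h9 : MultSch.tuple (Function.update (Function.update x i₀ (x i)) i (x i)) ≫ φ = 1 :=
        hvan0 _ (by rw [Function.update_of_ne hi', Function.update_self, hxi])
      rw [h2, h3, h4, h5, h6, h7, h8, h9] at h1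
      simp only [_root_.one_mul, _root_.mul_one] at h1
      rw [← h1]
      exact h0
  -- independence in one coordinate
  have indep1 : ∀ (V : Over S) (x : Fin n → (V ⟶ M₂)) (i : Fin n) (y' : V ⟶ M₂),
      x i ≫ π = y' ≫ π → MultSch.tuple x ≫ φ = MultSch.tuple (Function.update x i y') ≫ φ := by
    intro V x i y' hyy
    have hδ : ((x i)⁻¹ * y') ≫ π = 1 := by
      rw [MonObj.mul_comp, GrpObj.inv_comp, hyy, inv_mul_cancel]
    obtain ⟨R', hR', hl⟩ :=
      Groth.Agent.H28.ShBridge.lift_of_exact Scheme.fppfPrecoverage j π w hex ((x i)⁻¹ * y') hδ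
    refine Groth.Agent.H28.ShBridge.ext_of_mem Scheme.fppfPrecoverage R' hR' _ _ ?_
    intro V' c hc
    obtain ⟨m, hm⟩ := hl c hc
    have e1 : c ≫ y' = (c ≫ x i) * (m ≫ j) := by
      rw [hm, MonObj.comp_mul, GrpObj.comp_inv, mul_inv_cancel_left]
    have e2 : (fun l => c ≫ Function.update x i y' l) =
        Function.update (fun l => c ≫ x l) i ((c ≫ x i) * (m ≫ j)) := by
      rw [← e1]
      exact update_map (fun z => c ≫ z) x i y'
    have e3 : Function.update (fun l => c ≫ x l) i (c ≫ x i) = fun l => c ≫ x l :=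
      Function.update_eq_self i (fun l => c ≫ x l)
    have e4 : MultSch.tuple (Function.update (fun l => c ≫ x l) i (m ≫ j)) ≫ φ = 1 :=
      hvan' V' _ i m (Function.update_self _ _ _)
    rw [← Category.assoc, ← Category.assoc, Groth.Agent.S13634.tuple_comp,
      Groth.Agent.S13634.tuple_comp, e2, hmult, e3, e4, _root_.mul_one]
  -- independence in all coordinates
  have indep : ∀ (V : Over S) (x x' : Fin n → (V ⟶ M₂)), (∀ l, x l ≫ π = x' l ≫ π) →
      MultSch.tuple x ≫ φ = MultSch.tuple x' ≫ φ := by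
    intro V x x' hxx
    have hs : ∀ s : Finset (Fin n),
        MultSch.tuple x ≫ φ = MultSch.tuple (fun l => if l ∈ s then x' l else x l) ≫ φ := by
      intro s
      induction s using Finset.induction_on with
      | empty => simp
      | insert a s ha ih =>
        rw [ih]
        have e : (fun l => if l ∈ insert a s then x' l else x l) =
            Function.update (fun l => if l ∈ s then x' l else x l) a (x' a) := by
          funext l
          by_cases h : l = a
          · subst h
            simp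
          · simp [h, Function.update_of_ne h]
        rw [e]
        refine indep1 V _ a (x' a) ?_
        show (if a ∈ s then x' a else x a) ≫ π = x' a ≫ π
        rw [if_neg ha]
        exact hxx a
    have h := hs Finset.univ
    simpa using h
  -- local lifting of tuples
  have liftT : ∀ {T : Over S} (x : Fin n → (T ⟶ M₃)), ∃ R : Sieve T,
      R ∈ QuotSh.J Scheme.fppfPrecoverage S T ∧
      ∀ ⦃V : Over S⦄ (c : V ⟶ T), R c → ∃ xl : Fin n → (V ⟶ M₂), ∀ l, xl l ≫ π = c ≫ x l := by
    intro T x
    have hl := fun l => Groth.Agent.H28.ShBridge.lift_of_epi Scheme.fppfPrecoverage π hepi (x l)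
    choose R hR hlift using hl
    refine ⟨Finset.univ.inf R,
      Groth.Agent.H28.ShBridge.finset_inf_mem _ _ _ (fun l _ => hR l), ?_⟩
    intro V c hc
    have hfl : ∀ l, R l c := fun l =>
      (Finset.inf_le (Finset.mem_univ l) : Finset.univ.inf R ≤ R l) _ hc
    choose y hy using fun l => hlift l c (hfl l)
    exact ⟨y, hy⟩
  have hupd : ∀ {T V : Over S} (c : V ⟶ T) (x : Fin n → (T ⟶ M₃)) (xl : Fin n → (V ⟶ M₂))
      (i : Fin n) (y : T ⟶ M₃) (y' : V ⟶ M₂), (∀ l, xl l ≫ π = c ≫ x l) → y' ≫ π = c ≫ y →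
      ∀ l, Function.update xl i y' l ≫ π = c ≫ Function.update x i y l := by
    intro T V c x xl i y y' hxl hy l
    by_cases h : l = i
    · subst h
      rw [Function.update_self, Function.update_self, hy]
    · rw [Function.update_of_ne h, Function.update_of_ne h, hxl]
  -- construction of φ'
  obtain ⟨R₀, hR₀, hlift₀⟩ := liftT (coord (M := M₃) n)
  choose yl hyl using hlift₀
  obtain ⟨φ', hφ'⟩ := Groth.Agent.H28.ShBridge.exists_glue Scheme.fppfPrecoverage R₀ hR₀
    (fun V c hc => MultSch.tuple (yl c hc) ≫ φ) (by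
      intro V V' c hc d
      rw [← Category.assoc d, Groth.Agent.S13634.tuple_comp]
      exact indep _ _ _ (fun l => by
        rw [hyl, Category.assoc, ← hyl c hc l, Category.assoc]))
  have key' : ∀ {T V : Over S} (c : V ⟶ T) (x : Fin n → (T ⟶ M₃)) (xl : Fin n → (V ⟶ M₂)),
      (∀ l, xl l ≫ π = c ≫ x l) → c ≫ MultSch.tuple x ≫ φ' = MultSch.tuple xl ≫ φ := by
    intro T V c x xl hxl
    obtain ⟨t, ht⟩ : ∃ t : V ⟶ MultSch.pow M₃ n, t = c ≫ MultSch.tuple x := ⟨_, rfl⟩
    rw [← Category.assoc, ← ht]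
    refine Groth.Agent.H28.ShBridge.ext_of_mem Scheme.fppfPrecoverage (R₀.pullback t)
      ((QuotSh.J Scheme.fppfPrecoverage S).pullback_stable t hR₀) _ _ ?_
    intro V' d hd
    have hd' : R₀ (d ≫ t) := hd
    rw [← Category.assoc, hφ' (d ≫ t) hd', ← Category.assoc, Groth.Agent.S13634.tuple_comp]
    refine indep _ _ _ (fun l => ?_)
    rw [hyl, ht]
    simp only [Category.assoc]
    rw [tuple_coord_comp, hxl]
  have key : ∀ (T : Over S) (x : Fin n → (T ⟶ M₂)),
      MultSch.tuple (fun l => x l ≫ π) ≫ φ' = MultSch.tuple x ≫ φ := by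
    intro T x
    have h := key' (𝟙 T) (fun l => x l ≫ π) x (fun l => (Category.id_comp _).symm)
    rwa [Category.id_comp] at h
  have hmult' : MultSch.IsMultilinear φ' := by
    intro T x i y z
    obtain ⟨Rx, hRx, hlx⟩ := liftT x
    obtain ⟨Ry, hRy, hly⟩ :=
      Groth.Agent.H28.ShBridge.lift_of_epi Scheme.fppfPrecoverage π hepi y
    obtain ⟨Rz, hRz, hlz⟩ :=
      Groth.Agent.H28.ShBridge.lift_of_epi Scheme.fppfPrecoverage π hepi z
    refine Groth.Agent.H28.ShBridge.ext_of_mem Scheme.fppfPrecoverage (Rx ⊓ (Ry ⊓ Rz))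
      ((QuotSh.J Scheme.fppfPrecoverage S).intersection_covering hRx
        ((QuotSh.J Scheme.fppfPrecoverage S).intersection_covering hRy hRz)) _ _ ?_
    intro V c hc
    obtain ⟨xl, hxl⟩ := hlx c hc.1
    obtain ⟨y', hy'⟩ := hly c hc.2.1
    obtain ⟨z', hz'⟩ := hlz c hc.2.2
    rw [MonObj.comp_mul,
      key' c _ (Function.update xl i (y' * z')) (hupd c x xl i (y * z) (y' * z') hxl
        (by rw [MonObj.mul_comp, hy', hz', MonObj.comp_mul])),
      key' c _ (Function.update xl i y') (hupd c x xl i y y' hxl hy'),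
      key' c _ (Function.update xl i z') (hupd c x xl i z z' hxl hz')]
    exact hmult V xl i y' z'
  have hlin' : MultSch.IsRLinear ρ₃ ρN φ' := by
    intro T x i a
    obtain ⟨Rx, hRx, hlx⟩ := liftT x
    refine Groth.Agent.H28.ShBridge.ext_of_mem Scheme.fppfPrecoverage Rx hRx _ _ ?_
    intro V c hc
    obtain ⟨xl, hxl⟩ := hlx c hc
    rw [key' c _ (Function.update xl i (xl i ≫ ρ₂.act a))
        (hupd c x xl i (x i ≫ ρ₃.act a) (xl i ≫ ρ₂.act a) hxl
          (by rw [Category.assoc, ← hπ a, ← Category.assoc (xl i), hxl i, Category.assoc])),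
      ← Category.assoc c (MultSch.tuple x ≫ φ') (ρN.act a), key' c x xl hxl]
    exact hlin V xl i a
  refine ⟨φ', fun T x => (key T x).symm, hmult', hlin',
    Groth.Agent.S13634.result π hepi φ' hmult' (fun T x i j hij hx => by
      rw [key]
      exact halt T x i j hij hx), ?_⟩
  intro φ'' hφ''
  refine Groth.Agent.H28.ShBridge.ext_of_mem Scheme.fppfPrecoverage R₀ hR₀ _ _ ?_
  intro V c hc
  rw [hφ' c hc, hφ'' V (yl c hc)]
  have e : (fun l => yl c hc l ≫ π) = fun l => c ≫ coord n l := funext (hyl c hc)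
  rw [e, ← Groth.Agent.S13634.tuple_comp, tuple_coord, Category.comp_id]

end Groth.Agent.S13635
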