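import Groth.Statements.S13636
import Groth.Agent.H28.ExactBridge

set_option autoImplicit false
universe u w
open CategoryTheory CategoryTheory.Limits MonoidalCategory CartesianMonoidalCategory MonObj AlgebraicGeometry
open MultSch

namespace Groth.Agent.S13636

/-- Let M' → M → M'' → 0 be a sequence of R-module schemes over a scheme S, with R-linear homomorphisms
j and π, exact as fppf sheaves, and let ψ : P × M × Q → N be a morphism to an R-module scheme N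
which is additive and R-linear in the coordinate M (on T-valued points) and trivial on all points
whose M-coordinate lies in the image of j. Then ψ = ψ' ∘ (id × π × id) for a unique morphism ψ' : P
× M'' × Q → N, and ψ' is additive and R-linear in the coordinate M''. (The published statement has a
product M₁ × ⋯ × M_r of R-module schemes with the exact sequence in the i-th factor and ψ
R-multilinear; here the factors before and after the i-th are collected into single S-schemes P and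
Q, and only linearity in the i-th coordinate, the one the statement is about, is carried; linearity
in the other coordinates passes between ψ and ψ' formally.) -/
theorem result
    {S : Scheme.{u}} {R : Type w} [CommRing R] {P Q M' M M'' N : Over S}
    [GrpObj M'] [IsCommMonObj M'] [GrpObj M] [IsCommMonObj M] [GrpObj M''] [IsCommMonObj M'']
    [GrpObj N] [IsCommMonObj N]
    (ρ' : MultSch.RMod R M') (ρ : MultSch.RMod R M) (ρ'' : MultSch.RMod R M'') (ρN : MultSch.RMod R N)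
    (j : M' ⟶ M) (π : M ⟶ M'') [IsMonHom j] [IsMonHom π]
    (hj : ∀ a : R, j ≫ ρ.act a = ρ'.act a ≫ j) (hπ : ∀ a : R, π ≫ ρ''.act a = ρ.act a ≫ π)
    (w : j ≫ π = 1) (hex : (CGrpSh.seq Scheme.fppfPrecoverage j π w).Exact)
    (hepi : Epi (CGrpSh.ptsMap Scheme.fppfPrecoverage π))
    (ψ : P ⊗ (M ⊗ Q) ⟶ N)
    (hadd : ∀ (T : Over S) (p : T ⟶ P) (q : T ⟶ Q) (y z : T ⟶ M),
      lift p (lift (y * z) q) ≫ ψ = (lift p (lift y q) ≫ ψ) * (lift p (lift z q) ≫ ψ))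
    (hlin : ∀ (T : Over S) (p : T ⟶ P) (q : T ⟶ Q) (y : T ⟶ M) (a : R),
      lift p (lift (y ≫ ρ.act a) q) ≫ ψ = (lift p (lift y q) ≫ ψ) ≫ ρN.act a)
    (hvan : ∀ (T : Over S) (p : T ⟶ P) (q : T ⟶ Q) (y' : T ⟶ M'), lift p (lift (y' ≫ j) q) ≫ ψ = 1) :
    ∃ ψ' : P ⊗ (M'' ⊗ Q) ⟶ N,
      (P ◁ (π ▷ Q)) ≫ ψ' = ψ ∧
      (∀ (T : Over S) (p : T ⟶ P) (q : T ⟶ Q) (y z : T ⟶ M''),
        lift p (lift (y * z) q) ≫ ψ' = (lift p (lift y q) ≫ ψ') * (lift p (lift z q) ≫ ψ')) ∧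
      (∀ (T : Over S) (p : T ⟶ P) (q : T ⟶ Q) (y : T ⟶ M'') (a : R),
        lift p (lift (y ≫ ρ''.act a) q) ≫ ψ' = (lift p (lift y q) ≫ ψ') ≫ ρN.act a) ∧
      ∀ ψ'' : P ⊗ (M'' ⊗ Q) ⟶ N, (P ◁ (π ▷ Q)) ≫ ψ'' = ψ → ψ'' = ψ' := by
  have indep : ∀ (V : Over S) (p : V ⟶ P) (q : V ⟶ Q) (y y' : V ⟶ M), y ≫ π = y' ≫ π →
      lift p (lift y q) ≫ ψ = lift p (lift y' q) ≫ ψ := by
    intro V p q y y' hyy
    have hδ : (y⁻¹ * y') ≫ π = 1 := by
      rw [MonObj.mul_comp, GrpObj.inv_comp, hyy, inv_mul_cancel]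
    obtain ⟨R', hR', hl⟩ :=
      Groth.Agent.H28.ShBridge.lift_of_exact Scheme.fppfPrecoverage j π w hex (y⁻¹ * y') hδ
    refine Groth.Agent.H28.ShBridge.ext_of_mem Scheme.fppfPrecoverage R' hR' _ _ ?_
    intro V' c hc
    obtain ⟨m, hm⟩ := hl c hc
    have e1 : c ≫ y' = (c ≫ y) * (m ≫ j) := by
      rw [hm, MonObj.comp_mul, GrpObj.comp_inv, mul_inv_cancel_left]
    rw [← Category.assoc, ← Category.assoc, comp_lift, comp_lift, comp_lift, comp_lift, e1, hadd,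
      hvan, _root_.mul_one]
  obtain ⟨p₀, hp₀⟩ : ∃ p₀ : P ⊗ (M'' ⊗ Q) ⟶ P, p₀ = fst _ _ := ⟨_, rfl⟩
  obtain ⟨y₀, hy₀⟩ : ∃ y₀ : P ⊗ (M'' ⊗ Q) ⟶ M'', y₀ = snd _ _ ≫ fst _ _ := ⟨_, rfl⟩
  obtain ⟨q₀, hq₀⟩ : ∃ q₀ : P ⊗ (M'' ⊗ Q) ⟶ Q, q₀ = snd _ _ ≫ snd _ _ := ⟨_, rfl⟩
  have huniv : ∀ {V : Over S} (c : V ⟶ P ⊗ (M'' ⊗ Q)),
      c = lift (c ≫ p₀) (lift (c ≫ y₀) (c ≫ q₀)) := by
    intro V c
    subst hp₀ hy₀ hq₀
    apply CartesianMonoidalCategory.hom_ext
    · simp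
    · apply CartesianMonoidalCategory.hom_ext <;> simp
  obtain ⟨R, hR, hlift⟩ :=
    Groth.Agent.H28.ShBridge.lift_of_epi Scheme.fppfPrecoverage π hepi y₀
  choose yl hyl using hlift
  obtain ⟨ψ', hψ'⟩ := Groth.Agent.H28.ShBridge.exists_glue Scheme.fppfPrecoverage R hR
    (fun V c hc => lift (c ≫ p₀) (lift (yl c hc) (c ≫ q₀)) ≫ ψ) (by
      intro V V' c hc d
      rw [← Category.assoc d, comp_lift, comp_lift, Category.assoc, Category.assoc]
      exact indep _ _ _ _ _ (by rw [hyl, Category.assoc, Category.assoc, hyl]))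
  have key : ∀ (T : Over S) (p : T ⟶ P) (q : T ⟶ Q) (m : T ⟶ M),
      lift p (lift (m ≫ π) q) ≫ ψ' = lift p (lift m q) ≫ ψ := by
    intro T p q m
    obtain ⟨t, ht⟩ : ∃ t : T ⟶ P ⊗ (M'' ⊗ Q), t = lift p (lift (m ≫ π) q) := ⟨_, rfl⟩
    rw [← ht]
    refine Groth.Agent.H28.ShBridge.ext_of_mem Scheme.fppfPrecoverage (R.pullback t)
      ((QuotSh.J Scheme.fppfPrecoverage S).pullback_stable t hR) _ _ ?_
    intro V c hc
    have hc' : R (c ≫ t) := hc
    rw [← Category.assoc, hψ' (c ≫ t) hc']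
    have e1 : (c ≫ t) ≫ p₀ = c ≫ p := by rw [ht, hp₀]; simp
    have e2 : (c ≫ t) ≫ q₀ = c ≫ q := by rw [ht, hq₀]; simp
    have e3 : (c ≫ t) ≫ y₀ = (c ≫ m) ≫ π := by rw [ht, hy₀]; simp
    rw [e1, e2, ← Category.assoc c, comp_lift, comp_lift]
    exact indep _ _ _ _ _ (by rw [hyl, e3])
  have hfac : (P ◁ (π ▷ Q)) ≫ ψ' = ψ := by
    have h1 := key (P ⊗ (M ⊗ Q)) (fst _ _) (snd _ _ ≫ snd _ _) (snd _ _ ≫ fst _ _)
    have h2 : lift (fst P (M ⊗ Q)) (lift ((snd P (M ⊗ Q) ≫ fst M Q) ≫ π)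
        (snd P (M ⊗ Q) ≫ snd M Q)) = P ◁ (π ▷ Q) := by
      apply CartesianMonoidalCategory.hom_ext
      · simp
      · apply CartesianMonoidalCategory.hom_ext <;> simp
    have h3 : lift (fst P (M ⊗ Q)) (lift (snd P (M ⊗ Q) ≫ fst M Q)
        (snd P (M ⊗ Q) ≫ snd M Q)) = 𝟙 _ := by
      apply CartesianMonoidalCategory.hom_ext
      · simp
      · apply CartesianMonoidalCategory.hom_ext <;> simp
    rw [h2, h3, Category.id_comp] at h1
    exact h1
  refine ⟨ψ', hfac, ?_, ?_, ?_⟩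
  · intro T p q y z
    obtain ⟨R₁, hR₁, hl₁⟩ := Groth.Agent.H28.ShBridge.lift_of_epi Scheme.fppfPrecoverage π hepi y
    obtain ⟨R₂, hR₂, hl₂⟩ := Groth.Agent.H28.ShBridge.lift_of_epi Scheme.fppfPrecoverage π hepi z
    refine Groth.Agent.H28.ShBridge.ext_of_mem Scheme.fppfPrecoverage (R₁ ⊓ R₂)
      ((QuotSh.J Scheme.fppfPrecoverage S).intersection_covering hR₁ hR₂) _ _ ?_
    intro V c hc
    obtain ⟨y', hy'⟩ := hl₁ c hc.1
    obtain ⟨z', hz'⟩ := hl₂ c hc.2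
    rw [MonObj.comp_mul, ← Category.assoc, ← Category.assoc, ← Category.assoc, comp_lift,
      comp_lift, comp_lift, comp_lift, comp_lift, comp_lift, MonObj.comp_mul, ← hy', ← hz',
      ← MonObj.mul_comp, key, key, key, hadd]
  · intro T p q y a
    obtain ⟨R₁, hR₁, hl₁⟩ := Groth.Agent.H28.ShBridge.lift_of_epi Scheme.fppfPrecoverage π hepi y
    refine Groth.Agent.H28.ShBridge.ext_of_mem Scheme.fppfPrecoverage R₁ hR₁ _ _ ?_
    intro V c hc
    obtain ⟨y', hy'⟩ := hl₁ c hc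
    rw [← Category.assoc, ← Category.assoc c, ← Category.assoc c, comp_lift, comp_lift, comp_lift,
      comp_lift, ← Category.assoc c, ← hy', Category.assoc y', hπ, ← Category.assoc y', key, key,
      hlin]
  · intro ψ'' hψ''
    have key'' : ∀ (T : Over S) (p : T ⟶ P) (q : T ⟶ Q) (m : T ⟶ M),
        lift p (lift (m ≫ π) q) ≫ ψ'' = lift p (lift m q) ≫ ψ := by
      intro T p q m
      rw [← hψ'', ← Category.assoc, lift_whiskerLeft, lift_whiskerRight]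
    refine Groth.Agent.H28.ShBridge.ext_of_mem Scheme.fppfPrecoverage R hR _ _ ?_
    intro V c hc
    rw [hψ' c hc]
    conv_lhs => rw [huniv c, ← hyl c hc, key'']

end Groth.Agent.S13636
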