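import Groth.Statements.S13663
import Mathlib

set_option autoImplicit false
universe u
open GrRing

namespace Groth.Agent.S13663

section
variable {R A : Type u} [CommRing R] [CommRing A] [Algebra R A]
    (𝒜 : ℤ → Submodule R A) [GradedAlgebra 𝒜]
    {p : ℕ} (f : Fin p → A) (deg : Fin p → ℤ)

theorem prod_single (e : Fin p → ℕ) (i : Fin p) :
    ∏ j, f j ^ (e + Pi.single i 1 : Fin p → ℕ) j = (∏ j, f j ^ e j) * f i := by
  simp only [Pi.add_apply, pow_add, Finset.prod_mul_distrib]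
  congr 1
  rw [Finset.prod_eq_single i]
  · simp
  · intro j _ hj; simp [Pi.single_eq_of_ne hj]
  · intro h; exact absurd (Finset.mem_univ i) h

theorem sum_single (e : Fin p → ℕ) (i : Fin p) :
    ∑ j, (((e + Pi.single i 1 : Fin p → ℕ) j : ℕ) : ℤ) * deg j = ∑ j, (e j : ℤ) * deg j + deg i := by
  simp only [Pi.add_apply, Nat.cast_add, add_mul, Finset.sum_add_distrib]
  congr 1
  rw [Finset.sum_eq_single i]
  · simp
  · intro j _ hj; simp [Pi.single_eq_of_ne hj]
  · intro h; exact absurd (Finset.mem_univ i) h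

theorem mono_mem (hf : ∀ i, f i ∈ 𝒜 (deg i)) (e : Fin p → ℕ) (s : Finset (Fin p)) :
    ∏ j ∈ s, f j ^ e j ∈ 𝒜 (∑ j ∈ s, (e j : ℤ) * deg j) := by
  have := SetLike.prod_pow_mem_graded 𝒜 deg f (F := s) e (fun k _ => hf k)
  simpa [nsmul_eq_mul] using this

theorem base (hdeg : ∀ i, 0 < deg i) (hf : ∀ i, f i ∈ 𝒜 (deg i)) (d : ℤ) (hd : 0 < d)
    (hdvd : ∀ i, deg i ∣ d)
    (n : ℤ) (hn : n ≤ 0) (a : A) (ha : a ∈ 𝒜 n) (e : Fin p → ℕ) (m : ℤ)
    (hm : m = n + ∑ j, (e j : ℤ) * deg j) (hS : d * p - ∑ i, deg i < m) :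
    (∏ j, f j ^ e j) * a ∈ 𝒜 d * 𝒜 (m - d) := by
  choose c hc using hdvd
  have hcpos : ∀ i, 0 < c i := fun i => by
    have h1 : 0 < deg i * c i := (hc i) ▸ hd
    exact (mul_pos_iff_of_pos_left (hdeg i)).mp h1
  obtain ⟨i, hi⟩ : ∃ i, c i ≤ (e i : ℤ) := by
    by_contra hcon
    push Not at hcon
    have h2 : ∑ j, (e j : ℤ) * deg j ≤ ∑ j, (d - deg j) := by
      apply Finset.sum_le_sum
      intro j _
      have h1 : (e j : ℤ) ≤ c j - 1 := by have := hcon j; omega
      calc (e j : ℤ) * deg j ≤ (c j - 1) * deg j := mul_le_mul_of_nonneg_right h1 (hdeg j).le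
        _ = d - deg j := by rw [hc j]; ring
    rw [Finset.sum_sub_distrib, Finset.sum_const, Finset.card_univ, Fintype.card_fin,
      nsmul_eq_mul] at h2
    linarith [mul_comm d (p:ℤ)]
  obtain ⟨mi, hmi⟩ : ∃ mi : ℕ, (mi : ℤ) = c i := ⟨(c i).toNat, Int.toNat_of_nonneg (hcpos i).le⟩
  have hle : mi ≤ e i := by
    have : (mi : ℤ) ≤ (e i : ℤ) := hmi ▸ hi
    exact_mod_cast this
  have hprod : ∏ j, f j ^ e j =
      f i ^ mi * (f i ^ (e i - mi) * ∏ j ∈ Finset.univ.erase i, f j ^ e j) := by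
    rw [← Finset.mul_prod_erase Finset.univ (fun j => f j ^ e j) (Finset.mem_univ i), ← mul_assoc,
      ← pow_add, Nat.add_sub_cancel' hle]
  rw [hprod, mul_assoc]
  apply Submodule.mul_mem_mul
  · have h0 := SetLike.pow_mem_graded mi (hf i)
    have hdd : mi • deg i = d := by rw [nsmul_eq_mul, hmi, hc i, mul_comm]
    rwa [hdd] at h0
  · have h1 := SetLike.pow_mem_graded (e i - mi) (hf i)
    have h2 := mono_mem 𝒜 f deg hf e (Finset.univ.erase i)
    have h3 := SetLike.mul_mem_graded (SetLike.mul_mem_graded h1 h2) ha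
    have hdd : (e i - mi) • deg i + ∑ j ∈ Finset.univ.erase i, (e j : ℤ) * deg j + n = m - d := by
      have h4 := Finset.add_sum_erase Finset.univ (fun j => (e j : ℤ) * deg j) (Finset.mem_univ i)
      rw [nsmul_eq_mul, Nat.cast_sub hle, hm, ← h4, hmi]
      have := hc i
      linear_combination this
    rwa [hdd] at h3

theorem main (hdeg : ∀ i, 0 < deg i) (hf : ∀ i, f i ∈ 𝒜 (deg i))
    (hgen : Ideal.span {a : A | ∃ n : ℤ, 0 < n ∧ a ∈ 𝒜 n} = Ideal.span (Set.range f))
    (d : ℤ) (hd : 0 < d) (hdvd : ∀ i, deg i ∣ d) (k : ℕ) :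
    ∀ (n : ℤ), n ≤ k → ∀ a ∈ 𝒜 n, ∀ (e : Fin p → ℕ) (m : ℤ),
      m = n + ∑ j, (e j : ℤ) * deg j → d * p - ∑ i, deg i < m →
      (∏ j, f j ^ e j) * a ∈ 𝒜 d * 𝒜 (m - d) := by
  induction k with
  | zero =>
    intro n hn a ha e m hm hS
    exact base 𝒜 f deg hdeg hf d hd hdvd n (by simpa using hn) a ha e m hm hS
  | succ k ih =>
    intro n hn a ha e m hm hS
    by_cases hn0 : n ≤ 0
    · exact base 𝒜 f deg hdeg hf d hd hdvd n hn0 a ha e m hm hS
    · push Not at hn0
      have hmem : a ∈ Ideal.span (Set.range f) := by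
        rw [← hgen]; exact Ideal.subset_span ⟨n, hn0, ha⟩
      obtain ⟨g, hg⟩ := Ideal.mem_span_range_iff_exists_fun.mp hmem
      have h1 : a = GradedRing.proj 𝒜 n a := (DirectSum.decompose_of_mem_same 𝒜 ha).symm
      have ha' : a = ∑ i, GradedRing.proj 𝒜 (n - deg i) (g i) * f i := by
        conv_lhs => rw [h1, ← hg]
        rw [map_sum]
        apply Finset.sum_congr rfl
        intro i _
        have h2 : n = (n - deg i) + deg i := by ring
        conv_lhs => rw [h2]
        exact DirectSum.coe_decompose_mul_add_of_right_mem 𝒜 (hf i)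
      rw [ha', Finset.mul_sum]
      apply Submodule.sum_mem
      intro i _
      have h3 := ih (n - deg i) (by have := hdeg i; push_cast at hn; omega)
        (GradedRing.proj 𝒜 (n - deg i) (g i)) (DirectSum.decompose 𝒜 (g i) (n - deg i)).2
        (e + Pi.single i 1) m (by rw [sum_single deg e i, hm]; ring) hS
      rw [prod_single f e i] at h3
      convert h3 using 1
      ring

end

/-- Let A be a commutative ring graded by the integers whose ideal generated by the homogeneous elements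
of positive degree has homogeneous generators f_1, …, f_p, of positive degrees d_1, …, d_p, and let
d be a positive integer divisible by each d_i. Then A_N = A_d · A_{N-d} for every integer N > dp -
(d_1 + ⋯ + d_p). -/
theorem result {R A : Type u} [CommRing R] [CommRing A] [Algebra R A]
    (𝒜 : ℤ → Submodule R A) [GradedAlgebra 𝒜]
    {p : ℕ} (f : Fin p → A) (deg : Fin p → ℤ) (hdeg : ∀ i, 0 < deg i) (hf : ∀ i, f i ∈ 𝒜 (deg i))
    (hgen : Ideal.span {a : A | ∃ n : ℤ, 0 < n ∧ a ∈ 𝒜 n} = Ideal.span (Set.range f))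
    (d : ℤ) (hd : 0 < d) (hdvd : ∀ i, deg i ∣ d) (N : ℤ) (hN : d * p - ∑ i, deg i < N) :
    𝒜 N = 𝒜 d * 𝒜 (N - d) := by
  apply le_antisymm
  · intro a ha
    have := main 𝒜 f deg hdeg hf hgen d hd hdvd N.toNat N (Int.self_le_toNat N) a ha 0 N
      (by simp) hN
    simpa using this
  · rw [Submodule.mul_le]
    intro x hx y hy
    have := SetLike.mul_mem_graded hx hy
    rwa [add_sub_cancel] at this

end Groth.Agent.S13663
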