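import Groth.Statements.S13664
import Groth.Agent.H27.GrNoeth

set_option autoImplicit false
universe u
open GrRing

namespace Groth.Agent.S13664

/-- Let A be a commutative ring graded by the integers whose ideal I generated by the homogeneous
elements of positive degree has homogeneous generators f_1, …, f_p, of positive degrees d_1, …, d_p,
let d be a positive integer divisible by each d_i, and let x be an element of an A-module M. The
following are equivalent: x is annihilated by some power of I; x is annihilated by (A_d)^n for all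
sufficiently large n; there is an integer s such that A_n x = 0 for all n ≥ s. (The published
statement is for a homogeneous element of a graded module; this row drops both the grading of M and
the homogeneity of x, which play no role.) -/
theorem result {R A : Type u} [CommRing R] [CommRing A] [Algebra R A]
    (𝒜 : ℤ → Submodule R A) [GradedAlgebra 𝒜]
    {p : ℕ} (f : Fin p → A) (deg : Fin p → ℤ) (hdeg : ∀ i, 0 < deg i) (hf : ∀ i, f i ∈ 𝒜 (deg i))
    (hgen : Ideal.span {a : A | ∃ n : ℤ, 0 < n ∧ a ∈ 𝒜 n} = Ideal.span (Set.range f))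
    (d : ℤ) (hd : 0 < d) (hdvd : ∀ i, deg i ∣ d)
    {M : Type u} [AddCommGroup M] [Module A M] (x : M) :
    [x ∈ GrLC.gam (Ideal.span (Set.range f)) M,
     ∃ n₀ : ℕ, ∀ n : ℕ, n₀ ≤ n → ∀ r ∈ (𝒜 d) ^ n, r • x = 0,
     ∃ s : ℤ, ∀ n : ℤ, s ≤ n → ∀ r ∈ 𝒜 n, r • x = 0].TFAE := by
  classical
  tfae_have 1 → 3 := by
    rintro ⟨k, hk⟩
    obtain ⟨D, hD⟩ : ∃ D : ℤ, ∀ i, deg i ≤ D := by
      obtain ⟨D, hD⟩ := Finset.exists_le (Finset.univ.image deg)
      exact ⟨D, fun i => hD _ (Finset.mem_image_of_mem _ (Finset.mem_univ i))⟩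
    obtain ⟨D', hD', hD'0⟩ : ∃ D' : ℤ, (∀ i, deg i ≤ D') ∧ 0 ≤ D' :=
      ⟨max D 0, fun i => (hD i).trans (le_max_left _ _), le_max_right _ _⟩
    have claim : ∀ k : ℕ, ∀ n : ℤ, (k : ℤ) * D' < n → ∀ y ∈ 𝒜 n,
        y ∈ (Ideal.span (Set.range f)) ^ k := by
      intro k
      induction k with
      | zero =>
        intro n _ y _
        rw [pow_zero, Ideal.one_eq_top]
        exact Submodule.mem_top
      | succ k ih =>
        intro n hn y hy
        have hcast : ((k + 1 : ℕ) : ℤ) * D' = (k : ℤ) * D' + D' := by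
          push_cast
          ring
        rw [hcast] at hn
        have hkD : 0 ≤ (k : ℤ) * D' := mul_nonneg (Int.natCast_nonneg k) hD'0
        have hn0 : 0 < n := by linarith
        have hyI : y ∈ Ideal.span (Set.range f) := by
          rw [← hgen]
          exact Ideal.subset_span ⟨n, hn0, hy⟩
        obtain ⟨c, hc⟩ := Ideal.mem_span_range_iff_exists_fun.1 hyI
        have h1 := Groth.Agent.H27.GrNoeth.extract' 𝒜 hy Finset.univ c f deg
          (fun i => n - deg i) (fun i _ => hf i) (fun i _ => sub_add_cancel n (deg i)) hc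
        rw [h1, pow_succ]
        refine Ideal.sum_mem _ (fun i _ => ?_)
        refine Ideal.mul_mem_mul ?_ (Ideal.subset_span ⟨i, rfl⟩)
        refine ih (n - deg i) ?_ _ (DirectSum.decompose 𝒜 (c i) _).2
        have := hD' i
        linarith
    refine ⟨(k : ℤ) * D' + 1, fun n hn r hr => ?_⟩
    exact hk r (claim k n (by linarith) r hr)
  tfae_have 3 → 2 := by
    rintro ⟨s, hs⟩
    have hpow : ∀ n : ℕ, (𝒜 d) ^ n ≤ 𝒜 ((n : ℤ) * d) := by
      intro n
      induction n with
      | zero =>
        rw [pow_zero, Nat.cast_zero, zero_mul, Submodule.one_le]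
        exact SetLike.GradedOne.one_mem
      | succ n ih =>
        rw [pow_succ]
        refine Submodule.mul_le.2 (fun a ha b hb => ?_)
        have h1 := SetLike.mul_mem_graded (ih ha) hb
        have h2 : (n : ℤ) * d + d = ((n + 1 : ℕ) : ℤ) * d := by
          push_cast
          ring
        rwa [h2] at h1
    refine ⟨s.toNat, fun n hn r hr => ?_⟩
    refine hs ((n : ℤ) * d) ?_ r (hpow n hr)
    have h1 : s ≤ (s.toNat : ℤ) := Int.self_le_toNat s
    have h2 : (s.toNat : ℤ) ≤ (n : ℤ) := by exact_mod_cast hn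
    have h3 : (n : ℤ) ≤ (n : ℤ) * d :=
      le_mul_of_one_le_right (Int.natCast_nonneg n) (by omega)
    linarith
  tfae_have 2 → 1 := by
    rintro ⟨n₀, hn₀⟩
    have hrad : Ideal.span (Set.range f) ≤
        ((Submodule.span A ({x} : Set M)).annihilator).radical := by
      rw [Ideal.span_le]
      rintro _ ⟨i, rfl⟩
      obtain ⟨e, he⟩ := hdvd i
      have he0 : 0 < e := by
        by_contra hcon
        rw [not_lt] at hcon
        have := mul_nonpos_of_nonneg_of_nonpos (hdeg i).le hcon
        rw [← he] at this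
        omega
      have h1 : f i ^ e.toNat ∈ 𝒜 d := by
        have h2 := SetLike.pow_mem_graded e.toNat (hf i)
        have h3 : e.toNat • deg i = d := by
          rw [nsmul_eq_mul, Int.toNat_of_nonneg he0.le, he, mul_comm]
        rwa [h3] at h2
      have h4 : (f i ^ e.toNat) ^ n₀ ∈ (𝒜 d) ^ n₀ := Submodule.pow_mem_pow _ h1 n₀
      show f i ∈ ((Submodule.span A ({x} : Set M)).annihilator).radical
      refine ⟨e.toNat * n₀, ?_⟩
      rw [Submodule.mem_annihilator_span_singleton, pow_mul]
      exact hn₀ n₀ le_rfl _ h4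
    obtain ⟨k, hk⟩ := Ideal.exists_pow_le_of_le_radical_of_fg hrad
      (Submodule.fg_span (Set.finite_range f))
    exact ⟨k, fun r hr => (Submodule.mem_annihilator_span_singleton _ _).1 (hk hr)⟩
  tfae_finish

end Groth.Agent.S13664
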