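import Groth.Statements.S13665
import Groth.Agent.H27.GrNoeth

set_option autoImplicit false
universe u
open GrRing

namespace Groth.Agent.S13665

/-- For a commutative ring A graded by the integers, with degree-zero subring A_0, the following are
equivalent: A is Noetherian; each homogeneous ideal of A has a finite generating set; A_0 is
Noetherian and the subalgebras A_{≥0}, A_{≤0} are each of finite type over A_0; A_0 is Noetherian
and A is an A_0-algebra of finite type. -/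
theorem result {R A : Type u} [CommRing R] [CommRing A] [Algebra R A]
    (𝒜 : ℤ → Submodule R A) [GradedAlgebra 𝒜] :
    [IsNoetherianRing A,
     ∀ I : Ideal A, I.IsHomogeneous 𝒜 → I.FG,
     IsNoetherianRing (𝒜 0) ∧ (Algebra.adjoin (𝒜 0) {a : A | ∃ n : ℤ, 0 ≤ n ∧ a ∈ 𝒜 n}).FG ∧
       (Algebra.adjoin (𝒜 0) {a : A | ∃ n : ℤ, n ≤ 0 ∧ a ∈ 𝒜 n}).FG,
     IsNoetherianRing (𝒜 0) ∧ Algebra.FiniteType (𝒜 0) A].TFAE := by
  classical
  tfae_have 1 → 2 := fun h I _ => (isNoetherianRing_iff_ideal_fg A).1 h I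
  tfae_have 2 → 3 := by
    intro H
    refine ⟨Groth.Agent.H27.GrNoeth.isNoetherianRing_zero 𝒜 H, ?_, ?_⟩
    · have h1 := Groth.Agent.H27.GrNoeth.half_fg 𝒜 H 1
      have hset : {a : A | ∃ n : ℤ, 0 ≤ n ∧ a ∈ 𝒜 n} = {a : A | ∃ n : ℕ, a ∈ 𝒜 (1 * n)} := by
        ext a
        constructor
        · rintro ⟨n, hn, ha⟩
          refine ⟨n.toNat, ?_⟩
          rwa [one_mul, Int.toNat_of_nonneg hn]
        · rintro ⟨n, ha⟩
          exact ⟨n, Int.natCast_nonneg n, by rwa [one_mul] at ha⟩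
      rw [hset]
      exact h1
    · have h1 := Groth.Agent.H27.GrNoeth.half_fg 𝒜 H (-1)
      have hset : {a : A | ∃ n : ℤ, n ≤ 0 ∧ a ∈ 𝒜 n} = {a : A | ∃ n : ℕ, a ∈ 𝒜 (-1 * n)} := by
        ext a
        constructor
        · rintro ⟨n, hn, ha⟩
          refine ⟨(-n).toNat, ?_⟩
          have h2 : (-1 : ℤ) * ((-n).toNat : ℤ) = n := by
            rw [Int.toNat_of_nonneg (by omega)]
            ring
          rwa [h2]
        · rintro ⟨n, ha⟩
          exact ⟨-1 * n, by have := Int.natCast_nonneg n; omega, ha⟩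
      rw [hset]
      exact h1
  tfae_have 3 → 4 := by
    rintro ⟨h0, hp, hm⟩
    refine ⟨h0, ⟨?_⟩⟩
    have htop : (⊤ : Subalgebra (𝒜 0) A) =
        Algebra.adjoin (𝒜 0) {a : A | ∃ n : ℤ, 0 ≤ n ∧ a ∈ 𝒜 n} ⊔
          Algebra.adjoin (𝒜 0) {a : A | ∃ n : ℤ, n ≤ 0 ∧ a ∈ 𝒜 n} := by
      symm
      rw [eq_top_iff]
      intro a _
      rw [← DirectSum.sum_support_decompose 𝒜 a]
      refine Subalgebra.sum_mem _ (fun i _ => ?_)
      rcases le_total 0 i with hi | hi
      · exact Algebra.mem_sup_left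
          (Algebra.subset_adjoin ⟨i, hi, (DirectSum.decompose 𝒜 a i).2⟩)
      · exact Algebra.mem_sup_right
          (Algebra.subset_adjoin ⟨i, hi, (DirectSum.decompose 𝒜 a i).2⟩)
    rw [htop]
    exact hp.sup hm
  tfae_have 4 → 1 := by
    rintro ⟨h0, hft⟩
    haveI := h0
    haveI := hft
    exact Algebra.FiniteType.isNoetherianRing (𝒜 0) A
  tfae_finish

end Groth.Agent.S13665
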