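import Groth.Statements.S13696
import Mathlib
import Groth.Agent.H14Lib.CH5

set_option autoImplicit false
universe u
open scoped TensorProduct
open ZeroCyc

namespace Groth.Agent.S13696

open Groth.Agent.H14Lib.CH in
theorem charpoly_of_mem_ker {A : Type u} [CommRing A] {B : Type u} [CommRing B] [Algebra A B]
    {d : ℕ} (F : PolLaw.MulLaw A B A d) {b : B} (hb : b ∈ PolLaw.ker F.law) :
    charpolyLaw F b = (-Polynomial.X) ^ d := by
  rw [charpolyLaw]
  have h1 : ((1 : Polynomial A) ⊗ₜ[A] b - Polynomial.X ⊗ₜ[A] (1 : B)) =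
      (-(Polynomial.X : Polynomial A)) • (1 : Polynomial A ⊗[A] B) + 1 * ((1 : Polynomial A) ⊗ₜ[A] b) := by
    rw [one_mul, Algebra.TensorProduct.one_def, TensorProduct.smul_tmul', smul_eq_mul, mul_one,
      TensorProduct.neg_tmul]
    ring
  rw [h1, hb (Polynomial A), F.homog, (F.mult _).1, Algebra.TensorProduct.one_def,
    TensorProduct.smul_tmul', TensorProduct.rid_tmul, one_smul, smul_eq_mul, mul_one]

/-- Let F : B → A be a multiplicative polynomial law homogeneous of degree d, where B is a commutative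
algebra over the commutative ring A. For b ∈ B the characteristic polynomial of b with respect to F
is χ_b = F_{A[X]}(1 ⊗ b − X ⊗ 1) ∈ A[X] ⊗_A A = A[X], and the Cayley–Hamilton ideal of F is the
ideal of B generated by the elements χ_b(b), b ∈ B. Then the Cayley–Hamilton ideal is contained in
the kernel of F, and the kernel of F is contained in the radical of the Cayley–Hamilton ideal. -/
theorem result {A : Type u} [CommRing A] {B : Type u} [CommRing B] [Algebra A B]
    {d : ℕ} (F : PolLaw.MulLaw A B A d) (χ : B → Polynomial A)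
    (hχ : ∀ b : B, χ b = TensorProduct.rid A (Polynomial A)
      (F.law.toFun' (Polynomial A) ((1 : Polynomial A) ⊗ₜ[A] b - Polynomial.X ⊗ₜ[A] (1 : B)))) :
    Ideal.span (Set.range fun b : B => Polynomial.aeval b (χ b)) ≤ PolLaw.ker F.law ∧
      PolLaw.ker F.law ≤ (Ideal.span (Set.range fun b : B => Polynomial.aeval b (χ b))).radical := by
  have hχ' : ∀ b, χ b = Groth.Agent.H14Lib.CH.charpolyLaw F b := hχ
  refine ⟨?_, ?_⟩
  · rw [Ideal.span_le]
    rintro _ ⟨b, rfl⟩
    simp only [hχ']
    exact Groth.Agent.H14Lib.CH.CH_mem_ker F b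
  · intro b hb
    refine ⟨d, ?_⟩
    have h1 : Polynomial.aeval b (χ b) ∈ Ideal.span (Set.range fun b : B => Polynomial.aeval b (χ b)) :=
      Ideal.subset_span ⟨b, rfl⟩
    rw [hχ', charpoly_of_mem_ker F hb, map_pow, map_neg, Polynomial.aeval_X, neg_pow] at h1
    have h2 := Ideal.mul_mem_left _ ((-1 : B) ^ d) h1
    rw [← mul_assoc, ← mul_pow] at h2
    simpa using h2

end Groth.Agent.S13696
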