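import Groth.Statements.S13706
import Mathlib
import Groth.Agent.H14Lib.BCCH

set_option autoImplicit false
universe u
open scoped TensorProduct
open ZeroCyc

namespace Groth.Agent.S13706

open Groth.Agent.H14Lib.CH Groth.Agent.H14Lib.BC in
/-- the quotient of `B` by the Cayley–Hamilton relations of a finite generating set is a finite
module -/
theorem finite_quot {A : Type u} [CommRing A] {B : Type u} [CommRing B] [Algebra A B]
    {d : ℕ} (F : PolLaw.MulLaw A B A d) (s : Finset B) (hs : Algebra.adjoin A (↑s : Set B) = ⊤)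
    (J₀ : Ideal B)
    (hJ₀ : ∀ b ∈ s, Polynomial.aeval b (charpolyLaw F b) ∈ J₀) :
    Module.Finite A (B ⧸ J₀) := by
  have hint : ∀ x ∈ (Ideal.Quotient.mkₐ A J₀) '' (↑s : Set B), IsIntegral A x := by
    rintro x ⟨b, hb, rfl⟩
    refine ⟨_, monic_signed_charpolyLaw F b, ?_⟩
    have h : Polynomial.aeval b (Polynomial.C ((-1 : A) ^ d) * charpolyLaw F b) ∈ J₀ := by
      rw [map_mul]
      exact Ideal.mul_mem_left _ _ (hJ₀ b hb)
    rw [← Ideal.Quotient.eq_zero_iff_mem, ← Ideal.Quotient.mkₐ_eq_mk A,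
      ← Polynomial.aeval_algHom_apply] at h
    exact h
  have hfg := fg_adjoin_of_finite ((Finset.finite_toSet s).image (Ideal.Quotient.mkₐ A J₀)) hint
  rw [Algebra.adjoin_image, hs, Algebra.map_top,
    (AlgHom.range_eq_top _).mpr (Ideal.Quotient.mkₐ_surjective A J₀), Algebra.top_toSubmodule]
    at hfg
  exact ⟨hfg⟩

theorem exists_fin_repr' {A : Type u} [CommRing A] {M N : Type u} [AddCommGroup M] [Module A M]
    [AddCommGroup N] [Module A N] (z : M ⊗[A] N) :
    ∃ (n : ℕ) (p : Fin n → M) (c : Fin n → N), z = ∑ i, p i ⊗ₜ[A] c i := by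
  induction z using TensorProduct.induction_on with
  | zero => exact ⟨0, Fin.elim0, Fin.elim0, by simp⟩
  | tmul a b => exact ⟨1, fun _ => a, fun _ => b, by simp⟩
  | add x y hx hy =>
    obtain ⟨n, a1, b1, rfl⟩ := hx
    obtain ⟨m, a2, b2, rfl⟩ := hy
    refine ⟨n + m, Fin.append a1 a2, Fin.append b1 b2, ?_⟩
    rw [Fin.sum_univ_add]
    simp only [Fin.append_left, Fin.append_right]

theorem lid_mem_of_mem_map {A : Type u} [CommRing A] {B : Type u} [CommRing B] [Algebra A B]
    (I : Ideal B) {y : A ⊗[A] B}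
    (hy : y ∈ I.map (Algebra.TensorProduct.includeRight : B →ₐ[A] A ⊗[A] B)) :
    Algebra.TensorProduct.lid A B y ∈ I := by
  have h1 : I.map (Algebra.TensorProduct.includeRight : B →ₐ[A] A ⊗[A] B) ≤
      I.comap (Algebra.TensorProduct.lid A B : A ⊗[A] B →ₐ[A] B) := by
    rw [Ideal.map_le_iff_le_comap]
    intro b hb
    rw [Ideal.mem_comap, Ideal.mem_comap]
    simpa using hb
  exact h1 hy

/-- Let A be a commutative ring, B an A-algebra of finite type and F : B → A a multiplicative polynomial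
law homogeneous of degree d. Then there is a finitely generated ideal J of B, contained in the
kernel of F and with the same radical; thus the support of the family of zero-cycles defined by F is
carried by a bijective closed immersion into Spec(B/J), a scheme of finite presentation over A. -/
theorem result {A : Type u} [CommRing A] {B : Type u} [CommRing B] [Algebra A B]
    [Algebra.FiniteType A B] {d : ℕ} (F : PolLaw.MulLaw A B A d) :
    ∃ J : Ideal B, J.FG ∧ J ≤ PolLaw.ker F.law ∧ J.radical = (PolLaw.ker F.law).radical := by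
  classical
  obtain ⟨s, hs⟩ := (Algebra.FiniteType.out : (⊤ : Subalgebra A B).FG)
  -- the Cayley–Hamilton relations of the generators
  set J₀ : Ideal B := Ideal.span
    (↑(s.image fun b => Polynomial.aeval b (Groth.Agent.H14Lib.CH.charpolyLaw F b)) : Set B) with hJ₀
  have hJ₀fg : J₀.FG := ⟨_, rfl⟩
  have hJ₀mem : ∀ b ∈ s, Polynomial.aeval b (Groth.Agent.H14Lib.CH.charpolyLaw F b) ∈ J₀ :=
    fun b hb => Ideal.subset_span (Finset.mem_coe.mpr (Finset.mem_image_of_mem _ hb))
  have hJ₀le : J₀ ≤ PolLaw.ker F.law := by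
    rw [hJ₀, Ideal.span_le]
    intro x hx
    obtain ⟨b, -, rfl⟩ := Finset.mem_image.mp (Finset.mem_coe.mp hx)
    exact Groth.Agent.H14Lib.CH.CH_mem_ker F b
  haveI : Module.Finite A (B ⧸ J₀) := finite_quot F s hs J₀ hJ₀mem
  obtain ⟨r, mbar, hmbar⟩ := Module.Finite.exists_fin (R := A) (M := B ⧸ J₀)
  have hlift : ∀ j, ∃ m : B, Ideal.Quotient.mk J₀ m = mbar j :=
    fun j => Ideal.Quotient.mk_surjective (mbar j)
  choose m hm using hlift
  -- the generic element
  let Ar := MvPolynomial (Fin r) A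
  let g : Ar ⊗[A] B := ∑ j, (MvPolynomial.X j : Ar) ⊗ₜ[A] m j
  set z : Ar ⊗[A] B := Polynomial.aeval g (Groth.Agent.H14Lib.BC.chiBC Ar F g) with hz
  have hzmem := Groth.Agent.H14Lib.BC.CH_BC Ar F g
  -- a finite representation of `z`
  have hzr : z ∈ LinearMap.range
      (LinearMap.lTensor Ar (Submodule.subtype ((PolLaw.ker F.law).restrictScalars A))) := by
    rw [← Ideal.map_includeRight_eq]
    exact hzmem
  obtain ⟨w, hw⟩ := hzr
  obtain ⟨n, p, c, rfl⟩ := exists_fin_repr' w
  set J' : Ideal B := Ideal.span (↑(Finset.univ.image fun k => (c k : B)) : Set B) with hJ'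
  have hJ'fg : J'.FG := ⟨_, rfl⟩
  have hJ'le : J' ≤ PolLaw.ker F.law := by
    rw [hJ', Ideal.span_le]
    intro x hx
    obtain ⟨k, -, rfl⟩ := Finset.mem_image.mp (Finset.mem_coe.mp hx)
    exact (c k).2
  have hzJ' : z ∈ J'.map (Algebra.TensorProduct.includeRight : B →ₐ[A] Ar ⊗[A] B) := by
    rw [← hw, map_sum]
    refine Ideal.sum_mem _ fun k _ => ?_
    rw [LinearMap.lTensor_tmul]
    have e : p k ⊗ₜ[A] ((Submodule.subtype ((PolLaw.ker F.law).restrictScalars A)) (c k)) =
        (p k ⊗ₜ[A] (1 : B)) *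
          (Algebra.TensorProduct.includeRight : B →ₐ[A] Ar ⊗[A] B) (c k : B) := by
      rw [Algebra.TensorProduct.includeRight_apply, Algebra.TensorProduct.tmul_mul_tmul, mul_one,
        one_mul]
      rfl
    rw [e]
    refine Ideal.mul_mem_left _ _ (Ideal.mem_map_of_mem _ (Ideal.subset_span ?_))
    exact Finset.mem_coe.mpr (Finset.mem_image_of_mem _ (Finset.mem_univ k))
  refine ⟨J₀ ⊔ J', Submodule.FG.sup hJ₀fg hJ'fg, sup_le hJ₀le hJ'le, ?_⟩
  apply le_antisymm (Ideal.radical_mono (sup_le hJ₀le hJ'le))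
  rw [Ideal.radical_le_radical_iff]
  intro b hb
  -- write `b` modulo `J₀`
  have hbmem : Ideal.Quotient.mk J₀ b ∈ Submodule.span A (Set.range mbar) := by
    rw [hmbar]; exact Submodule.mem_top
  obtain ⟨a, ha⟩ := (Submodule.mem_span_range_iff_exists_fun A).mp hbmem
  set bt : B := ∑ j, a j • m j with hbt
  have hdiff : b - bt ∈ J₀ := by
    rw [← Ideal.Quotient.eq_zero_iff_mem, map_sub, ← ha, hbt, map_sum, sub_eq_zero]
    refine Finset.sum_congr rfl fun j _ => ?_
    rw [← hm j, ← Ideal.Quotient.mkₐ_eq_mk A, map_smul]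
  have hbtker : bt ∈ PolLaw.ker F.law := by
    have := (PolLaw.ker F.law).sub_mem hb (hJ₀le hdiff)
    rwa [sub_sub_cancel] at this
  -- specialise the generic Cayley–Hamilton relation
  let ρ : Ar →ₐ[A] A := MvPolynomial.aeval a
  have hg : Algebra.TensorProduct.map ρ (AlgHom.id A B) g = (1 : A) ⊗ₜ[A] bt := by
    simp only [g, map_sum, Algebra.TensorProduct.map_tmul, AlgHom.coe_id, id_eq, hbt,
      TensorProduct.tmul_sum]
    refine Finset.sum_congr rfl fun j _ => ?_
    have : ρ (MvPolynomial.X j) = a j := MvPolynomial.aeval_X a j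
    rw [this, TensorProduct.tmul_smul, TensorProduct.smul_tmul', smul_eq_mul, mul_one]
  have h1 := Groth.Agent.H14Lib.BC.map_mem_mapIdeal J' ρ hzJ'
  rw [hz, Groth.Agent.H14Lib.BC.aeval_map_comm, Groth.Agent.H14Lib.BC.chiBC_map, hg] at h1
  have hbt' : (1 : A) ⊗ₜ[A] bt ∈ PolLaw.kerBC F.law A :=
    Groth.Agent.S13699.map_ker_le _ _ (Ideal.mem_map_of_mem _ hbtker)
  rw [Groth.Agent.H14Lib.BC.chiBC_of_mem_kerBC A F hbt', map_pow, map_neg,
    Polynomial.aeval_X] at h1
  have h2 := lid_mem_of_mem_map J' h1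
  rw [map_pow, map_neg, Algebra.TensorProduct.lid_tmul, one_smul] at h2
  have h3 : bt ∈ (J₀ ⊔ J').radical :=
    neg_mem_iff.mp ⟨d, (le_sup_right : J' ≤ J₀ ⊔ J') h2⟩
  have h4 : b - bt ∈ (J₀ ⊔ J').radical := Ideal.le_radical ((le_sup_left : J₀ ≤ J₀ ⊔ J') hdiff)
  have := (J₀ ⊔ J').radical.add_mem h4 h3
  rwa [sub_add_cancel] at this

end Groth.Agent.S13706
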