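import Groth.Statements.S13698
import Mathlib
import Groth.Agent.H14Lib.GenKer
import Groth.Agent.S13706

set_option autoImplicit false
universe u
open scoped TensorProduct
open ZeroCyc

namespace Groth.Agent.S13698


/-- Let F : B → A be a multiplicative polynomial law homogeneous of degree d over the commutative ring
A, on a commutative A-algebra B which is finite as an A-module, and let A' be a localization of A at
a submonoid M. Then the kernel of the base change of F to A' is the ideal of A' ⊗_A B generated by
the kernel of F: the kernel (hence the image of a family of zero-cycles) commutes with localization.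
(The published statement has no finiteness hypothesis on B and is false without one: for a suitable
algebra B that is not finitely generated the conditions cutting out the kernel at an element are
infinitely many elements of A annihilated by elements of M but by no single one, and the kernel of
the localised law is then strictly larger than the localised kernel; the published proof's reduction
to finite B does not go through. This row assumes B finite over A, the case that proof establishes.) -/
theorem result {A : Type u} [CommRing A] {B : Type u} [CommRing B] [Algebra A B]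
    [Module.Finite A B] {d : ℕ} (F : PolLaw.MulLaw A B A d) (M : Submonoid A) (A' : Type u) [CommRing A'] [Algebra A A']
    [IsLocalization M A'] :
    (PolLaw.ker F.law).map (Algebra.TensorProduct.includeRight : B →ₐ[A] A' ⊗[A] B) =
      PolLaw.kerBC F.law A' := by
  classical
  apply le_antisymm (Groth.Agent.S13699.map_ker_le _ _)
  intro b' hb'
  obtain ⟨n, e, he⟩ := Module.Finite.exists_fin (R := A) (M := B)
  have hloc : ∀ z : A' ⊗[A] B, ∃ s ∈ M, ∃ b : B, s • z = (1 : A') ⊗ₜ[A] b := by
    intro z
    induction z using TensorProduct.induction_on with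
    | zero => exact ⟨1, M.one_mem, 0, by simp⟩
    | tmul a' b =>
      obtain ⟨⟨a, s⟩, hs⟩ := IsLocalization.surj M a'
      refine ⟨s, s.2, a • b, ?_⟩
      simp only at hs
      rw [TensorProduct.smul_tmul', Algebra.smul_def, mul_comm, hs, Algebra.algebraMap_eq_smul_one,
        TensorProduct.smul_tmul]
    | add x y hx hy =>
      obtain ⟨s₁, hs₁, b₁, h₁⟩ := hx
      obtain ⟨s₂, hs₂, b₂, h₂⟩ := hy
      refine ⟨s₁ * s₂, M.mul_mem hs₁ hs₂, s₂ • b₁ + s₁ • b₂, ?_⟩
      rw [smul_add, mul_comm s₁ s₂, mul_smul, mul_comm s₂ s₁, mul_smul, h₁, h₂,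
        TensorProduct.tmul_add, TensorProduct.tmul_smul, TensorProduct.tmul_smul]
  obtain ⟨s, hsM, b, hsb⟩ := hloc b'
  have h1 : (1 : A') ⊗ₜ[A] b ∈ PolLaw.kerBC F.law A' := by
    rw [← hsb, Algebra.smul_def]
    exact Ideal.mul_mem_left _ _ hb'
  have h2 := (Groth.Agent.H14Lib.BC.mem_kerBC_iff_DBC F.law e he _).mp h1
  have h3 : MvPolynomial.map (algebraMap A A')
      (Groth.Agent.H14Lib.BC.DBC A F.law e ((1 : A) ⊗ₜ[A] b)) = 0 := by
    have := Groth.Agent.H14Lib.BC.DBC_map F.law e (Algebra.ofId A A') ((1 : A) ⊗ₜ[A] b)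
    rw [Algebra.TensorProduct.map_tmul, map_one, AlgHom.coe_id, id_eq, h2] at this
    exact this
  set D := Groth.Agent.H14Lib.BC.DBC A F.law e ((1 : A) ⊗ₜ[A] b) with hD
  have h4 : ∃ t ∈ M, t • D = 0 := by
    have hc : ∀ μ, ∃ m : M, (m : A) * MvPolynomial.coeff μ D = 0 := by
      intro μ
      rw [← IsLocalization.map_eq_zero_iff M A']
      have := congrArg (MvPolynomial.coeff μ) h3
      rwa [MvPolynomial.coeff_map, MvPolynomial.coeff_zero] at this
    choose m hm using hc
    refine ⟨∏ μ ∈ D.support, (m μ : A), Submonoid.prod_mem _ (fun μ _ => (m μ).2), ?_⟩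
    ext μ
    rw [MvPolynomial.coeff_smul, MvPolynomial.coeff_zero, smul_eq_mul]
    by_cases hμ : μ ∈ D.support
    · rw [← Finset.mul_prod_erase _ _ hμ, mul_comm ((m μ : A)), mul_assoc, hm μ, mul_zero]
    · rw [MvPolynomial.notMem_support_iff.mp hμ, mul_zero]
  obtain ⟨t, htM, htD⟩ := h4
  have h5 : Groth.Agent.H14Lib.BC.DBC A F.law e ((1 : A) ⊗ₜ[A] (t • b)) = 0 := by
    rw [Groth.Agent.H14Lib.BC.DBC_smul]
    apply Groth.Agent.H14Lib.BC.scale_eq_zero t D htD
    rw [hD, ← Groth.Agent.H14Lib.BC.DBC_smul, zero_smul]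
    exact (Groth.Agent.H14Lib.BC.mem_kerBC_iff_DBC F.law e he _).mp
      (by rw [TensorProduct.tmul_zero]; exact zero_mem _)
  have h6 : (1 : A) ⊗ₜ[A] (t • b) ∈ PolLaw.kerBC F.law A :=
    (Groth.Agent.H14Lib.BC.mem_kerBC_iff_DBC F.law e he _).mpr h5
  have h7 : t • b ∈ PolLaw.ker F.law := by
    have := Groth.Agent.S13706.lid_mem_of_mem_map _ (Groth.Agent.H14Lib.BC.kerBC_self_le F.law h6)
    simpa using this
  have h8 : (t * s) • b' ∈
      (PolLaw.ker F.law).map (Algebra.TensorProduct.includeRight : B →ₐ[A] A' ⊗[A] B) := by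
    rw [mul_smul, hsb, ← TensorProduct.tmul_smul]
    exact Ideal.mem_map_of_mem _ h7
  have hu : IsUnit (algebraMap A (A' ⊗[A] B) (t * s)) := by
    have := IsLocalization.map_units A' (⟨t * s, M.mul_mem htM hsM⟩ : M)
    rw [IsScalarTower.algebraMap_apply A A' (A' ⊗[A] B)]
    exact this.map _
  rw [Algebra.smul_def] at h8
  exact (Ideal.unit_mul_mem_iff_mem _ hu).mp h8

end Groth.Agent.S13698
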