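import Groth.Statements.S13700
import Mathlib
import Groth.Agent.H14Lib.GenKer

set_option autoImplicit false
universe u
open scoped TensorProduct
open ZeroCyc

namespace Groth.Agent.S13700

open Groth.Agent.H14Lib.CH Groth.Agent.H14Lib.BC Polynomial

/-- a tower of root adjunctions splitting a monic polynomial, with a retraction to the base -/
theorem exists_splitting : ∀ (n : ℕ) (A : Type u) [CommRing A] (g : Polynomial A), g.Monic →
    g.natDegree = n →
    ∃ (C : Type u) (_ : CommRing C) (_ : Algebra A C) (r : Fin n → C) (ρ : C →ₗ[A] A),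
      ρ 1 = 1 ∧ g.map (algebraMap A C) = ∏ i, (X - Polynomial.C (r i))
  | 0, A, _, g, hg, hn => by
    refine ⟨A, inferInstance, Algebra.id A, Fin.elim0, LinearMap.id, rfl, ?_⟩
    have : g = 1 := Polynomial.eq_one_of_monic_natDegree_zero hg hn
    simp [this]
  | n + 1, A, _, g, hg, hn => by
    haveI : Nontrivial A := by
      by_contra h
      rw [not_nontrivial_iff_subsingleton] at h
      have : g.natDegree = 0 := by rw [Subsingleton.elim g 0]; simp
      omega
    let C₁ := AdjoinRoot g
    let x : C₁ := AdjoinRoot.root g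
    let ρ₁ : C₁ →ₗ[A] A := (Polynomial.lcoeff A 0) ∘ₗ (AdjoinRoot.modByMonicHom hg)
    have hρ₁ : ρ₁ 1 = 1 := by
      show (AdjoinRoot.modByMonicHom hg (1 : AdjoinRoot g)).coeff 0 = 1
      rw [← map_one (AdjoinRoot.mk g), AdjoinRoot.modByMonicHom_mk,
        (Polynomial.modByMonic_eq_self_iff hg).mpr]
      · simp
      · rw [Polynomial.degree_one, Polynomial.degree_eq_natDegree hg.ne_zero, hn]
        exact_mod_cast Nat.succ_pos n
    haveI : Nontrivial C₁ := ⟨⟨0, 1, fun h => by
      have := congrArg ρ₁ h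
      rw [map_zero, hρ₁] at this
      exact zero_ne_one this⟩⟩
    let g' : Polynomial C₁ := g.map (algebraMap A C₁)
    have hroot : g'.IsRoot x := AdjoinRoot.isRoot_root g
    let g₁ : Polynomial C₁ := g' /ₘ (X - Polynomial.C x)
    have hfac : (X - Polynomial.C x) * g₁ = g' := Polynomial.mul_divByMonic_eq_iff_isRoot.mpr hroot
    have hg'monic : g'.Monic := hg.map _
    have hg₁monic : g₁.Monic :=
      Polynomial.Monic.of_mul_monic_left (Polynomial.monic_X_sub_C x) (hfac ▸ hg'monic)
    have hg₁deg : g₁.natDegree = n := by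
      show (g' /ₘ (X - Polynomial.C x)).natDegree = n
      rw [Polynomial.natDegree_divByMonic _ (Polynomial.monic_X_sub_C x),
        Polynomial.natDegree_X_sub_C, hg.natDegree_map, hn]
      rfl
    obtain ⟨C, iC, aC, r', ρ', hρ', hfac'⟩ := exists_splitting n C₁ g₁ hg₁monic hg₁deg
    letI : Algebra A C := Algebra.compHom C (algebraMap A C₁)
    haveI : IsScalarTower A C₁ C := IsScalarTower.of_algebraMap_eq (fun _ => rfl)
    refine ⟨C, iC, inferInstance, Fin.cons (algebraMap C₁ C x) r',
      ρ₁ ∘ₗ (ρ'.restrictScalars A), ?_, ?_⟩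
    · show ρ₁ (ρ' 1) = 1
      rw [hρ', hρ₁]
    · have e : algebraMap A C = (algebraMap C₁ C).comp (algebraMap A C₁) := rfl
      rw [e, ← Polynomial.map_map]
      show g'.map (algebraMap C₁ C) = _
      rw [← hfac, Polynomial.map_mul, hfac', Fin.prod_univ_succ]
      simp

/-- descent of kernel membership along an algebra with a retraction -/
theorem mem_ker_of_retraction {A : Type u} [CommRing A] {B : Type u} [CommRing B] [Algebra A B]
    (F : B →ₚₗ[A] A) (C : Type u) [CommRing C] [Algebra A C] (ρ : C →ₗ[A] A) (hρ : ρ 1 = 1)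
    (b : B) (hb : (1 : C) ⊗ₜ[A] b ∈ PolLaw.kerBC F C) : b ∈ PolLaw.ker F := by
  apply Groth.Agent.S13722.mem_ker_of_poly
  intro m x w
  set P := MvPolynomial (Fin m) A with hP
  let ι : P →ₐ[A] C ⊗[A] P := Algebra.TensorProduct.includeRight
  have h := hb (C ⊗[A] P) (Algebra.TensorProduct.map ι (AlgHom.id A B) x)
    (Algebra.TensorProduct.map ι (AlgHom.id A B) w)
  have e1 : Algebra.TensorProduct.map (IsScalarTower.toAlgHom A C (C ⊗[A] P)) (AlgHom.id A B)
      ((1 : C) ⊗ₜ[A] b) = Algebra.TensorProduct.map ι (AlgHom.id A B) ((1 : P) ⊗ₜ[A] b) := by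
    rw [Algebra.TensorProduct.map_tmul, Algebra.TensorProduct.map_tmul, map_one, map_one]
  rw [e1, ← map_mul, ← map_add, ← Groth.Agent.S13722.compat, ← Groth.Agent.S13722.compat] at h
  -- the retraction
  let π : C ⊗[A] P →ₗ[A] P := (TensorProduct.lid A P).toLinearMap ∘ₗ (ρ.rTensor P)
  have hπ : π ∘ₗ ι.toLinearMap = LinearMap.id := by
    refine LinearMap.ext fun p => ?_
    show TensorProduct.lid A P (ρ.rTensor P ((1 : C) ⊗ₜ[A] p)) = p
    rw [LinearMap.rTensor_tmul, hρ, TensorProduct.lid_tmul, one_smul]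
  have hinj : Function.Injective (Algebra.TensorProduct.map ι (AlgHom.id A A)) := by
    intro z z' hz
    rw [← Groth.Agent.S13722.rTensor_eq_map, ← Groth.Agent.S13722.rTensor_eq_map] at hz
    have := congrArg (π.rTensor A) hz
    rw [← LinearMap.comp_apply, ← LinearMap.comp_apply, ← LinearMap.rTensor_comp, hπ,
      LinearMap.rTensor_id] at this
    exact this
  exact hinj h

theorem exists_repr_left {A : Type u} [CommRing A] {A' B : Type u} [CommRing A'] [Algebra A A']
    [CommRing B] [Algebra A B] {ι : Type} [Fintype ι] (ε : ι → A')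
    (hε : Submodule.span A (Set.range ε) = ⊤) (z : A' ⊗[A] B) :
    ∃ c : ι → B, z = ∑ i, ε i ⊗ₜ[A] c i := by
  induction z using TensorProduct.induction_on with
  | zero => exact ⟨0, by simp⟩
  | tmul a' b =>
    have ha : a' ∈ Submodule.span A (Set.range ε) := by rw [hε]; trivial
    obtain ⟨a, rfl⟩ := (Submodule.mem_span_range_iff_exists_fun A).mp ha
    refine ⟨fun i => a i • b, ?_⟩
    rw [TensorProduct.sum_tmul]
    refine Finset.sum_congr rfl fun i _ => ?_
    rw [TensorProduct.smul_tmul]
  | add x y hx hy =>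
    obtain ⟨s, rfl⟩ := hx
    obtain ⟨t, rfl⟩ := hy
    exact ⟨s + t, by simp [TensorProduct.tmul_add, Finset.sum_add_distrib]⟩

/-- the differences of the roots of a separable split polynomial are units -/
theorem isUnit_sub_of_separable {A : Type u} [CommRing A] {C : Type u} [CommRing C] [Algebra A C]
    (g : Polynomial A) (hsep : g.Separable) {n : ℕ} (r : Fin n → C)
    (hfac : g.map (algebraMap A C) = ∏ i, (X - Polynomial.C (r i))) (i j : Fin n) (hij : j ≠ i) :
    IsUnit (r i - r j) := by
  classical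
  obtain ⟨a, b, hab⟩ := hsep
  have h1 := congrArg (Polynomial.map (algebraMap A C)) hab
  rw [Polynomial.map_add, Polynomial.map_mul, Polynomial.map_mul, Polynomial.map_one,
    ← Polynomial.derivative_map, hfac, ← Finset.mul_prod_erase _ _ (Finset.mem_univ i),
    Polynomial.derivative_mul] at h1
  have h2 := congrArg (Polynomial.eval (r i)) h1
  simp only [Polynomial.eval_add, Polynomial.eval_mul, Polynomial.eval_sub, Polynomial.eval_X,
    Polynomial.eval_C, sub_self, zero_mul, mul_zero, zero_add, Polynomial.eval_one,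
    Polynomial.derivative_sub, Polynomial.derivative_X, Polynomial.derivative_C, sub_zero,
    one_mul, add_zero, Polynomial.eval_prod] at h2
  have h3 : IsUnit (∏ l ∈ Finset.univ.erase i, (r i - r l)) :=
    IsUnit.of_mul_eq_one_right _ h2
  exact (IsUnit.prod_iff.mp h3) j (Finset.mem_erase.mpr ⟨hij, Finset.mem_univ j⟩)

/-- Let F : B → A be a multiplicative polynomial law homogeneous of degree d over the commutative ring
A, and let g ∈ A[X] be a monic polynomial which is separable (g and its derivative generate the unit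
ideal), so that A' = A[X]/(g) is étale over A. Then the kernel of the base change of F to A' is the
ideal of A' ⊗_A B generated by the kernel of F. -/
theorem result {A : Type u} [CommRing A] {B : Type u} [CommRing B] [Algebra A B]
    {d : ℕ} (F : PolLaw.MulLaw A B A d) (g : Polynomial A) (hg : g.Monic) (hsep : g.Separable) :
    (PolLaw.ker F.law).map (Algebra.TensorProduct.includeRight : B →ₐ[A] AdjoinRoot g ⊗[A] B) =
      PolLaw.kerBC F.law (AdjoinRoot g) := by
  classical
  apply le_antisymm (Groth.Agent.S13699.map_ker_le _ _)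
  intro b' hb'
  set n := g.natDegree with hn
  -- the power basis
  let ε : Fin n → AdjoinRoot g := fun k => (AdjoinRoot.root g) ^ (k : ℕ)
  have hε : Submodule.span A (Set.range ε) = ⊤ := by
    have := (AdjoinRoot.powerBasis' hg).basis.span_eq
    rw [(AdjoinRoot.powerBasis' hg).coe_basis] at this
    exact this
  obtain ⟨c, rfl⟩ := exists_repr_left ε hε b'
  -- the splitting algebra
  obtain ⟨C, iC, aC, r, ρ, hρ, hfac⟩ := exists_splitting n A g hg rfl
  have hroot : ∀ m : Fin n, g.eval₂ (Algebra.ofId A C : A →+* C) (r m) = 0 := by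
    intro m
    have : g.eval₂ (algebraMap A C) (r m) = 0 := by
      rw [← Polynomial.eval_map, hfac, Polynomial.eval_prod]
      exact Finset.prod_eq_zero (Finset.mem_univ m) (by simp)
    exact this
  let σ : Fin n → (AdjoinRoot g →ₐ[A] C) := fun m =>
    AdjoinRoot.liftAlgHom g (Algebra.ofId A C) (r m) (hroot m)
  have hσ : ∀ m (k : Fin n), σ m (ε k) = r m ^ (k : ℕ) := by
    intro m k
    show σ m ((AdjoinRoot.root g) ^ (k : ℕ)) = _
    rw [map_pow, AdjoinRoot.liftAlgHom_root]
  -- the images of `b'` under the `n` specialisations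
  let β : Fin n → C ⊗[A] B := fun m => ∑ k : Fin n, (r m ^ (k : ℕ)) ⊗ₜ[A] c k
  have hβ : ∀ m, β m ∈ PolLaw.kerBC F.law C := by
    intro m
    have := kerBC_map F.law (σ m) hb'
    simp only [map_sum, Algebra.TensorProduct.map_tmul, AlgHom.coe_id, id_eq, hσ] at this
    exact this
  -- invert the Vandermonde matrix
  let V : Matrix (Fin n) (Fin n) C := Matrix.vandermonde r
  have hdet : IsUnit V.det := by
    rw [Matrix.det_vandermonde]
    refine IsUnit.prod_iff.mpr fun i _ => IsUnit.prod_iff.mpr fun j hj => ?_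
    exact isUnit_sub_of_separable g hsep r hfac j i (ne_of_gt (Finset.mem_Ioi.mp hj)).symm
  have hWV : V⁻¹ * V = 1 := Matrix.nonsing_inv_mul V hdet
  have hck : ∀ k, (1 : C) ⊗ₜ[A] c k ∈ PolLaw.kerBC F.law C := by
    intro k
    have e : (1 : C) ⊗ₜ[A] c k = ∑ m, ((V⁻¹ k m) ⊗ₜ[A] (1 : B)) * β m := by
      simp only [β, Finset.mul_sum, Algebra.TensorProduct.tmul_mul_tmul, one_mul]
      rw [Finset.sum_comm]
      have : ∀ j : Fin n, ∑ m, (V⁻¹ k m * r m ^ (j : ℕ)) ⊗ₜ[A] c j =
          ((1 : Matrix (Fin n) (Fin n) C) k j) ⊗ₜ[A] c j := by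
        intro j
        rw [← TensorProduct.sum_tmul, ← hWV, Matrix.mul_apply]
        rfl
      simp only [this, Matrix.one_apply]
      rw [Finset.sum_eq_single k]
      · rw [if_pos rfl]
      · intro j _ hj
        rw [if_neg (Ne.symm hj), TensorProduct.zero_tmul]
      · intro h; exact absurd (Finset.mem_univ k) h
    rw [e]
    exact Ideal.sum_mem _ fun m _ => Ideal.mul_mem_left _ _ (hβ m)
  have hcker : ∀ k, c k ∈ PolLaw.ker F.law := fun k =>
    mem_ker_of_retraction F.law C ρ hρ (c k) (hck k)
  refine Ideal.sum_mem _ fun k _ => ?_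
  have e1 : ε k ⊗ₜ[A] c k = (ε k ⊗ₜ[A] (1 : B)) *
      (Algebra.TensorProduct.includeRight : B →ₐ[A] AdjoinRoot g ⊗[A] B) (c k) := by
    rw [Algebra.TensorProduct.includeRight_apply, Algebra.TensorProduct.tmul_mul_tmul, mul_one,
      one_mul]
  rw [e1]
  exact Ideal.mul_mem_left _ _ (Ideal.mem_map_of_mem _ (hcker k))

end Groth.Agent.S13700
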