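import Groth.Statements.S13701
import Mathlib
import Groth.Agent.H14Lib.GenKer
import Groth.Agent.H14Lib.Polar
import Groth.Agent.S13706

set_option autoImplicit false
universe u
open scoped TensorProduct
open ZeroCyc

namespace Groth.Agent.S13701

open Groth.Agent.H14Lib.CH Groth.Agent.H14Lib.BC MvPolynomial

section Tele
variable {A : Type u} [CommRing A] {M : Type u} [AddCommGroup M] [Module A M]
  {N : Type u} [AddCommGroup N] [Module A N] {d : ℕ}

/-- telescoping the polarization -/
theorem Pfun_add_of_forall (G : M →ₚₗ[A] N) (S : Type u) [CommRing S] [Algebra A S]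
    (x u : S ⊗[A] M)
    (h : ∀ (k : Fin d) (y : Fin d → S ⊗[A] M), Pfun G S (Function.update y k u) = 0) :
    Pfun G S (fun _ : Fin d => x + u) = Pfun G S (fun _ : Fin d => x) := by
  classical
  have key : ∀ j : ℕ, j ≤ d →
      Pfun G S (fun i : Fin d => if i.val < j then x + u else x) =
        Pfun G S (fun _ : Fin d => x) := by
    intro j
    induction j with
    | zero => intro _; simp
    | succ j ih =>
      intro hj
      have hjd : j < d := hj
      rw [← ih (le_of_lt hjd)]
      have e : (fun i : Fin d => if i.val < j + 1 then x + u else x) =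
          Function.update (fun i : Fin d => if i.val < j then x + u else x) ⟨j, hjd⟩ (x + u) := by
        funext i
        by_cases hi : i = ⟨j, hjd⟩
        · subst hi; simp
        · rw [Function.update_of_ne hi]
          have : i.val ≠ j := fun h => hi (Fin.ext h)
          by_cases h1 : i.val < j
          · rw [if_pos h1, if_pos (by omega)]
          · rw [if_neg h1, if_neg (by omega)]
      rw [e, Pfun_update_add, h, add_zero]
      congr 1
      apply Function.update_eq_self_iff.mpr
      simp
  have := key d le_rfl
  simpa using this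

theorem toFun'_add_of_forall [Algebra ℚ A] (G : M →ₚₗ[A] N) (hG : PolLaw.IsHomog G d)
    (S : Type u) [CommRing S] [Algebra A S] (x u : S ⊗[A] M)
    (h : ∀ (k : Fin d) (y : Fin d → S ⊗[A] M), Pfun G S (Function.update y k u) = 0) :
    G.toFun' S (x + u) = G.toFun' S x := by
  have h1 := Pfun_add_of_forall G S x u h
  rw [Pfun_diag G hG, Pfun_diag G hG] at h1
  have hc : ∀ z : S ⊗[A] N,
      (algebraMap ℚ A (1 / (d.factorial : ℚ))) • ((d.factorial : S) • z) = z := by
    intro z
    rw [Nat.cast_smul_eq_nsmul, ← Nat.cast_smul_eq_nsmul A, smul_smul,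
      ← map_natCast (algebraMap ℚ A), ← map_mul, one_div,
      inv_mul_cancel₀ (Nat.cast_ne_zero.mpr (Nat.factorial_ne_zero d)), map_one, one_smul]
  rw [← hc (G.toFun' S (x + u)), h1, hc]

end Tele

section Lam
variable {A : Type u} [CommRing A] {B : Type u} [CommRing B] [Algebra A B] {d n : ℕ}

/-- the polarized condition attached to a slot `k` and an index tuple `j` -/
noncomputable def Lam (A' : Type u) [CommRing A'] [Algebra A A'] (F : B →ₚₗ[A] A)
    (e : Fin n → B) (k : Fin d) (j : Fin d → Fin n) (b' : A' ⊗[A] B) : A' ⊗[A] A :=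
  Pfun F A' (Function.update (fun i => (1 : A') ⊗ₜ[A] e (j i)) k
    (((1 : A') ⊗ₜ[A] e (j k)) * b'))

/-- the linear form attached to a slot and an index tuple -/
noncomputable def ellLin (F : B →ₚₗ[A] A) (e : Fin n → B) (k : Fin d) (j : Fin d → Fin n) :
    B →ₗ[A] A :=
  (TensorProduct.lid A A).toLinearMap ∘ₗ
    ((Pmulti F d A).toLinearMap (fun i => (1 : A) ⊗ₜ[A] e (j i)) k) ∘ₗ
    (TensorProduct.mk A A B 1) ∘ₗ (LinearMap.mulLeft A (e (j k)))

theorem ellLin_apply (F : B →ₚₗ[A] A) (e : Fin n → B) (k : Fin d) (j : Fin d → Fin n) (b : B) :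
    ellLin F e k j b = pol F (Function.update (fun i => e (j i)) k (e (j k) * b)) := by
  classical
  unfold ellLin pol
  simp only [LinearMap.coe_comp, Function.comp_apply, LinearEquiv.coe_coe,
    MultilinearMap.toLinearMap_apply, TensorProduct.mk_apply, LinearMap.mulLeft_apply,
    Pmulti_apply]
  congr 2
  funext i
  by_cases hi : i = k
  · subst hi; simp
  · simp [Function.update_of_ne hi]

theorem Lam_eq (A' : Type u) [CommRing A'] [Algebra A A'] (F : B →ₚₗ[A] A)
    (e : Fin n → B) (k : Fin d) (j : Fin d → Fin n) (b' : A' ⊗[A] B) :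
    Lam A' F e k j b' = (ellLin F e k j).lTensor A' b' := by
  classical
  induction b' using TensorProduct.induction_on with
  | zero =>
    unfold Lam
    rw [mul_zero, map_zero, ← Pmulti_apply, MultilinearMap.map_update_zero]
  | add x y hx hy =>
    unfold Lam at hx hy ⊢
    rw [mul_add, Pfun_update_add, hx, hy, map_add]
  | tmul a' b =>
    unfold Lam
    have h1 : Function.update (fun i => (1 : A') ⊗ₜ[A] e (j i)) k
        (((1 : A') ⊗ₜ[A] e (j k)) * (a' ⊗ₜ[A] b)) =
        fun i => (Function.update (fun _ : Fin d => (1 : A')) k a' i) ⊗ₜ[A]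
          (Function.update (fun i => e (j i)) k (e (j k) * b) i) := by
      funext i
      by_cases hi : i = k
      · subst hi
        simp [Algebra.TensorProduct.tmul_mul_tmul]
      · simp [Function.update_of_ne hi]
    rw [h1, Pfun_tmul, LinearMap.lTensor_tmul, ellLin_apply]
    congr 1
    rw [Finset.prod_eq_single k]
    · simp
    · intro i _ hi
      simp [Function.update_of_ne hi]
    · intro h; exact absurd (Finset.mem_univ k) h

theorem Lam_of_mem (A' : Type u) [CommRing A'] [Algebra A A'] (F : B →ₚₗ[A] A)
    (e : Fin n → B) (k : Fin d) (j : Fin d → Fin n) {b' : A' ⊗[A] B}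
    (hb' : b' ∈ PolLaw.kerBC F A') : Lam A' F e k j b' = 0 := by
  classical
  unfold Lam
  have h0 : Pfun F A' (Function.update (fun i => (1 : A') ⊗ₜ[A] e (j i)) k 0) = 0 := by
    rw [← Pmulti_apply, MultilinearMap.map_update_zero]
  rw [← h0]
  unfold Pfun
  congr 1
  rw [Parg_update, Parg_update, map_zero, smul_zero, zero_add, incl_mul, incl_eq_map _,
    ← smul_mul_assoc, add_comm]
  exact hb' (MvPolynomial (Fin d) A') _ _

theorem mem_of_Lam [Algebra ℚ A] (A' : Type u) [CommRing A'] [Algebra A A']
    (F : PolLaw.MulLaw A B A d)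
    (e : Fin n → B) (he : Submodule.span A (Set.range e) = ⊤) {b' : A' ⊗[A] B}
    (h : ∀ (k : Fin d) (j : Fin d → Fin n), Lam A' F.law e k j b' = 0) :
    b' ∈ PolLaw.kerBC F.law A' := by
  classical
  rw [mem_kerBC_iff_DBC F.law e he]
  unfold DBC
  set P' := MvPolynomial (Fin n ⊕ Fin n) A' with hP'
  set bP : P' ⊗[A] B := Algebra.TensorProduct.map (IsScalarTower.toAlgHom A A' P')
    (AlgHom.id A B) b' with hbP
  rw [toFun'_add_of_forall F.law F.homog P' (xg A' e) (wg A' e * bP), sub_self, map_zero]
  intro k y
  -- expand everything in the spanning family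
  have hy : ∀ i, ∃ s : Fin n → P', y i = ∑ j, s j ⊗ₜ[A] e j := fun i => exists_repr_span e he (y i)
  choose s hs using hy
  let c : Fin d → Fin n → P' := fun i j => if i = k then X (Sum.inr j) else s i j
  let v : Fin d → Fin n → P' ⊗[A] B := fun i j =>
    if i = k then ((1 : P') ⊗ₜ[A] e j) * bP else (1 : P') ⊗ₜ[A] e j
  have hexp : Function.update y k (wg A' e * bP) = fun i => ∑ j, c i j • v i j := by
    funext i
    by_cases hi : i = k
    · subst hi
      simp only [Function.update_self, c, v, if_true, wg, Finset.sum_mul]
      refine Finset.sum_congr rfl fun j _ => ?_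
      rw [← smul_mul_assoc, TensorProduct.smul_tmul', smul_eq_mul, mul_one]
    · simp only [Function.update_of_ne hi, c, v, if_neg hi]
      rw [hs i]
      refine Finset.sum_congr rfl fun j _ => ?_
      rw [TensorProduct.smul_tmul', smul_eq_mul, mul_one]
  rw [hexp, ← Pmulti_apply, MultilinearMap.map_sum]
  refine Finset.sum_eq_zero fun r _ => ?_
  rw [MultilinearMap.map_smul_univ, Pmulti_apply]
  have hv : (fun i => v i (r i)) = Function.update (fun i => (1 : P') ⊗ₜ[A] e (r i)) k
      (((1 : P') ⊗ₜ[A] e (r k)) * bP) := by
    funext i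
    by_cases hi : i = k
    · subst hi; simp [v]
    · simp [v, hi]
  have hnat := Pfun_natural F.law (IsScalarTower.toAlgHom A A' P')
    (Function.update (fun i => (1 : A') ⊗ₜ[A] e (r i)) k (((1 : A') ⊗ₜ[A] e (r k)) * b'))
  have harg : (fun i => (IsScalarTower.toAlgHom A A' P').toLinearMap.rTensor B
      (Function.update (fun i => (1 : A') ⊗ₜ[A] e (r i)) k
        (((1 : A') ⊗ₜ[A] e (r k)) * b') i)) =
      Function.update (fun i => (1 : P') ⊗ₜ[A] e (r i)) k (((1 : P') ⊗ₜ[A] e (r k)) * bP) := by
    funext i
    by_cases hi : i = k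
    · subst hi
      simp only [Function.update_self]
      rw [Groth.Agent.S13722.rTensor_eq_map, map_mul, Algebra.TensorProduct.map_tmul, map_one]
      rfl
    · simp only [Function.update_of_ne hi]
      rw [LinearMap.rTensor_tmul, AlgHom.toLinearMap_apply, map_one]
  rw [harg] at hnat
  have hL := h k r
  unfold Lam at hL
  rw [hv, ← hnat, hL, map_zero, smul_zero]

end Lam

/-- Let A be a commutative ℚ-algebra, F : B → A a multiplicative polynomial law homogeneous of degree d
on a commutative A-algebra B which is finite as an A-module, and A' a commutative A-algebra which is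
flat as an A-module. Then the kernel of the base change of F to A' is the ideal of A' ⊗_A B
generated by the kernel of F. (In positive characteristic this fails even for finite free base
change. The published statement has no finiteness hypothesis on B and is false without one: a
localisation of A is flat, and for a suitable algebra B that is not finitely generated the kernel
does not commute with it; the published proof's reduction to finite B does not go through. This row
assumes B finite over A, the case that proof establishes: there the kernel is the intersection of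
finitely many kernels of A-linear maps on B, which commutes with flat base change.) -/
theorem result {A : Type u} [CommRing A] [Algebra ℚ A] {B : Type u} [CommRing B] [Algebra A B]
    [Module.Finite A B] {d : ℕ} (F : PolLaw.MulLaw A B A d) (A' : Type u) [CommRing A'] [Algebra A A'] [Module.Flat A A'] :
    (PolLaw.ker F.law).map (Algebra.TensorProduct.includeRight : B →ₐ[A] A' ⊗[A] B) =
      PolLaw.kerBC F.law A' := by
  classical
  apply le_antisymm (Groth.Agent.S13699.map_ker_le _ _)
  obtain ⟨n, e, he⟩ := Module.Finite.exists_fin (R := A) (M := B)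
  let K := Fin d × (Fin d → Fin n)
  let ℓ : B →ₗ[A] (K → A) := LinearMap.pi (fun kj => ellLin F.law e kj.1 kj.2)
  -- the kernel of `F` is the kernel of `ℓ`
  have hker : ∀ b : B, ℓ b = 0 → b ∈ PolLaw.ker F.law := by
    intro b hb
    have h1 : (1 : A) ⊗ₜ[A] b ∈ PolLaw.kerBC F.law A := by
      apply mem_of_Lam A F e he
      intro k j
      rw [Lam_eq, LinearMap.lTensor_tmul]
      have := congrFun hb (k, j)
      simp only [ℓ, LinearMap.pi_apply, Pi.zero_apply] at this
      rw [this, TensorProduct.tmul_zero]
    have := Groth.Agent.S13706.lid_mem_of_mem_map _ (Groth.Agent.H14Lib.BC.kerBC_self_le F.law h1)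
    simpa using this
  intro b' hb'
  -- all the linear conditions vanish on `b'`
  have h1 : ∀ kj : K, (ellLin F.law e kj.1 kj.2).lTensor A' b' = 0 := by
    intro kj
    rw [← Lam_eq]
    exact Lam_of_mem A' F.law e kj.1 kj.2 hb'
  have hsum : ∀ z : A' ⊗[A] B, ℓ.lTensor A' z =
      ∑ kj : K, (LinearMap.single A (fun _ : K => A) kj).lTensor A'
        ((ellLin F.law e kj.1 kj.2).lTensor A' z) := by
    intro z
    induction z using TensorProduct.induction_on with
    | zero => simp
    | add x y hx hy => simp only [map_add, hx, hy, Finset.sum_add_distrib]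
    | tmul a' b =>
      simp only [LinearMap.lTensor_tmul]
      rw [← TensorProduct.tmul_sum]
      congr 1
      funext kj'
      simp [ℓ, Finset.sum_apply, Pi.single_apply]
      symm
      rw [Finset.sum_eq_single kj']
      · rw [if_pos rfl]
      · intro x _ hx
        rw [if_neg (Ne.symm hx)]
      · intro h
        exact absurd (Finset.mem_univ _) h
  have h2 : ℓ.lTensor A' b' = 0 := by
    rw [hsum]
    refine Finset.sum_eq_zero fun kj _ => ?_
    rw [h1 kj, map_zero]
  have hex := Module.Flat.lTensor_exact A' (LinearMap.exact_subtype_ker_map ℓ)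
  obtain ⟨z, hz⟩ := (hex b').mp h2
  rw [← hz]
  clear hz h2 h1 hb'
  induction z using TensorProduct.induction_on with
  | zero => simp
  | add x y hx hy => rw [map_add]; exact Ideal.add_mem _ hx hy
  | tmul a' c =>
    rw [LinearMap.lTensor_tmul]
    have hc : (c : B) ∈ PolLaw.ker F.law := hker c (LinearMap.mem_ker.mp c.2)
    have e1 : a' ⊗ₜ[A] ((LinearMap.ker ℓ).subtype c) =
        (a' ⊗ₜ[A] (1 : B)) *
          (Algebra.TensorProduct.includeRight : B →ₐ[A] A' ⊗[A] B) (c : B) := by
      rw [Algebra.TensorProduct.includeRight_apply, Algebra.TensorProduct.tmul_mul_tmul, mul_one,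
        one_mul]
      rfl
    rw [e1]
    exact Ideal.mul_mem_left _ _ (Ideal.mem_map_of_mem _ hc)

end Groth.Agent.S13701
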