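import Groth.Statements.S13702
import Mathlib

set_option autoImplicit false
universe u
open ZeroCyc

namespace Groth.Agent.S13702


/-- Let A be a local ring with residue field of characteristic p > 0, let g ∈ A[X] be monic and
separable of degree n, so that A' = A[X]/(g) is an étale A-algebra, and let q = p^s with s ≥ 0. Then
the powers 1, t^q, t^{2q}, …, t^{(n-1)q} of the class t of X form a basis of A' as an A-module. -/
theorem result {A : Type u} [CommRing A] [IsLocalRing A] (p : ℕ) [Fact p.Prime]
    [CharP (IsLocalRing.ResidueField A) p] (g : Polynomial A) (hg : g.Monic) (hsep : g.Separable) (s : ℕ) :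
    ∃ b : Module.Basis (Fin g.natDegree) A (AdjoinRoot g),
      ∀ i : Fin g.natDegree, b i = AdjoinRoot.root g ^ (p ^ s * (i : ℕ)) := by
  classical
  let e : Module.Basis (Fin g.natDegree) A (AdjoinRoot g) := (AdjoinRoot.powerBasis' hg).basis
  have he : ∀ i : Fin g.natDegree, e i = AdjoinRoot.root g ^ (i : ℕ) := by
    intro i
    have := (AdjoinRoot.powerBasis' hg).basis_eq_pow i
    rw [AdjoinRoot.powerBasis'_gen] at this
    exact this
  let v : Fin g.natDegree → AdjoinRoot g := fun i => AdjoinRoot.root g ^ (p ^ s * (i : ℕ))
  have hunit : IsUnit (e.det v) := by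
    by_contra hnu
    let K := AlgebraicClosure (IsLocalRing.ResidueField A)
    let σ : A →+* K := (algebraMap (IsLocalRing.ResidueField A) K).comp (IsLocalRing.residue A)
    have hσ : σ (e.det v) = 0 := by
      have : IsLocalRing.residue A (e.det v) = 0 := by
        rw [IsLocalRing.residue_eq_zero_iff]; exact hnu
      simp [σ, this]
    rw [Module.Basis.det_apply, RingHom.map_det] at hσ
    obtain ⟨c, hc0, hc⟩ := Matrix.exists_mulVec_eq_zero_iff.mpr hσ
    haveI : CharP K p :=
      charP_of_injective_algebraMap (algebraMap (IsLocalRing.ResidueField A) K).injective p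
    let h : Polynomial K := ∑ j : Fin g.natDegree, Polynomial.C (c j) * Polynomial.X ^ (j : ℕ)
    have hdeg : h.degree < g.natDegree := Polynomial.degree_sum_fin_lt c
    have hcoeff : ∀ j : Fin g.natDegree, h.coeff j = c j := by
      intro j
      simp only [h, Polynomial.finsetSum_coeff, Polynomial.coeff_C_mul, Polynomial.coeff_X_pow]
      rw [Finset.sum_eq_single j]
      · simp
      · intro b _ hb
        have : (j : ℕ) ≠ (b : ℕ) := fun hh => hb (Fin.ext hh.symm)
        simp [this]
      · simp
    have hne : h ≠ 0 := by
      intro h0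
      apply hc0
      ext j
      rw [← hcoeff j, h0]; simp
    have key : ∀ α : K, (g.map σ).IsRoot α → h.IsRoot (α ^ (p ^ s)) := by
      intro α hα
      have hα' : g.eval₂ σ α = 0 := by rwa [Polynomial.eval₂_eq_eval_map]
      let ev : AdjoinRoot g →+* K := AdjoinRoot.lift σ α hα'
      have h1 : ∀ j : Fin g.natDegree,
          α ^ (p ^ s * (j : ℕ)) = ∑ i, σ (e.toMatrix v i j) * α ^ (i : ℕ) := by
        intro j
        have := congrArg ev (e.sum_toMatrix_smul_self v j)
        simp only [map_sum, Algebra.smul_def, map_mul, he, map_pow, v, ev,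
          AdjoinRoot.algebraMap_eq, AdjoinRoot.lift_of, AdjoinRoot.lift_root] at this
        exact this.symm
      have h2 : ∀ i : Fin g.natDegree, ∑ j, σ (e.toMatrix v i j) * c j = 0 := by
        intro i
        have := congrFun hc i
        simpa [Matrix.mulVec, dotProduct] using this
      rw [Polynomial.IsRoot.def]
      simp only [h, Polynomial.eval_finsetSum, Polynomial.eval_mul, Polynomial.eval_C,
        Polynomial.eval_pow, Polynomial.eval_X]
      calc ∑ j : Fin g.natDegree, c j * (α ^ p ^ s) ^ (j : ℕ)
          = ∑ j : Fin g.natDegree, ∑ i : Fin g.natDegree, (σ (e.toMatrix v i j) * c j) * α ^ (i : ℕ) := by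
            refine Finset.sum_congr rfl fun j _ => ?_
            rw [← pow_mul, h1 j, Finset.mul_sum]
            refine Finset.sum_congr rfl fun i _ => ?_
            ring
        _ = ∑ i : Fin g.natDegree, (∑ j : Fin g.natDegree, σ (e.toMatrix v i j) * c j) * α ^ (i : ℕ) := by
            rw [Finset.sum_comm]
            refine Finset.sum_congr rfl fun i _ => ?_
            rw [Finset.sum_mul]
        _ = 0 := by simp [h2]
    have hsepK : (g.map σ).Separable := hsep.map
    have hmonK : (g.map σ).Monic := hg.map σ
    have hdegK : (g.map σ).natDegree = g.natDegree := hg.natDegree_map σ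
    have hsplit : (g.map σ).Splits := IsAlgClosed.splits _
    have hcard : (g.map σ).roots.toFinset.card = g.natDegree := by
      rw [Multiset.toFinset_card_of_nodup (Polynomial.nodup_roots hsepK),
        ← hsplit.natDegree_eq_card_roots, hdegK]
    have hinj : Function.Injective (fun α : K => α ^ (p ^ s)) := by
      intro a b hab
      exact iterateFrobenius_inj K p s (by simpa [iterateFrobenius_def] using hab)
    have hsub : (g.map σ).roots.toFinset.image (fun α : K => α ^ (p ^ s)) ⊆ h.roots.toFinset := by
      intro β hβ
      rw [Finset.mem_image] at hβ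
      obtain ⟨α, hα, rfl⟩ := hβ
      rw [Multiset.mem_toFinset, Polynomial.mem_roots hmonK.ne_zero] at hα
      rw [Multiset.mem_toFinset, Polynomial.mem_roots hne]
      exact key α hα
    have hle := Finset.card_le_card hsub
    rw [Finset.card_image_of_injective _ hinj, hcard] at hle
    have h3 : h.roots.toFinset.card ≤ h.natDegree :=
      (Multiset.toFinset_card_le _).trans (Polynomial.card_roots' h)
    have h4 : h.natDegree < g.natDegree := (Polynomial.natDegree_lt_iff_degree_lt hne).mpr hdeg
    omega
  obtain ⟨hli, hsp⟩ := (Module.Basis.is_basis_iff_det e).mpr hunit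
  refine ⟨Module.Basis.mk hli hsp.ge, fun i => ?_⟩
  rw [Module.Basis.mk_apply]

end Groth.Agent.S13702
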