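import Groth.Statements.S13703
import Mathlib
import Groth.Agent.H14Lib.CH6

set_option autoImplicit false
universe u
open scoped TensorProduct
open ZeroCyc

namespace Groth.Agent.S13703

open Groth.Agent.H14Lib.CH in
/-- if `a ≠ 0` in a domain and `aⁿ s ∈ ker F` then the characteristic polynomial of `s` is `(-X)ᵈ` -/
theorem charpoly_of_smul_mem_ker {A : Type u} [CommRing A] [IsDomain A] {B : Type u} [CommRing B]
    [Algebra A B] {d : ℕ} (F : PolLaw.MulLaw A B A d) {s : B} {a : A} (ha : a ≠ 0)
    (hb : a • s ∈ PolLaw.ker F.law) :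
    charpolyLaw F s = (-Polynomial.X) ^ d := by
  have h1 : (Polynomial.C a : Polynomial A) • ((1 : Polynomial A) ⊗ₜ[A] s - Polynomial.X ⊗ₜ[A] (1 : B)) =
      (-(Polynomial.C a * Polynomial.X : Polynomial A)) • (1 : Polynomial A ⊗[A] B) +
        1 * ((1 : Polynomial A) ⊗ₜ[A] (a • s)) := by
    rw [one_mul, Algebra.TensorProduct.one_def, TensorProduct.smul_tmul', smul_eq_mul, mul_one,
      TensorProduct.neg_tmul, smul_sub, TensorProduct.smul_tmul', TensorProduct.smul_tmul',
      smul_eq_mul, smul_eq_mul, mul_one, TensorProduct.tmul_smul, TensorProduct.smul_tmul',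
      Polynomial.smul_eq_C_mul, mul_one]
    ring
  have h2 := congrArg (F.law.toFun' (Polynomial A)) h1
  rw [hb (Polynomial A), F.homog, F.homog, (F.mult _).1, Algebra.TensorProduct.one_def,
    TensorProduct.smul_tmul', smul_eq_mul, mul_one] at h2
  have h3 := congrArg (TensorProduct.rid A (Polynomial A)) h2
  rw [TensorProduct.rid_tmul, one_smul] at h3
  have h4 : TensorProduct.rid A (Polynomial A) ((Polynomial.C a : Polynomial A) ^ d •
      F.law.toFun' (Polynomial A) ((1 : Polynomial A) ⊗ₜ[A] s - Polynomial.X ⊗ₜ[A] (1 : B))) =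
      (Polynomial.C a : Polynomial A) ^ d * charpolyLaw F s := by
    rw [charpolyLaw, ← map_pow, ← Polynomial.algebraMap_eq, algebraMap_smul, map_smul,
      Algebra.smul_def]
  rw [h4, neg_mul_eq_mul_neg, mul_pow] at h3
  exact mul_left_cancel₀ (pow_ne_zero _ (by simpa using ha)) h3

/-- Let A be an integral domain, B a commutative A-algebra and F : B → A a multiplicative polynomial law
homogeneous of degree d. For every prime ideal P of B minimal among those containing the kernel of
F, the contraction of P to A is zero and every prime of A is the contraction of a prime of B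
containing P. Geometrically: every irreducible component of the support of the family of zero-cycles
on Spec B defined by F maps onto Spec A. (The published statement is over an arbitrary algebraic
space S, every irreducible component of the support mapping onto an irreducible component of S, and
its proof reduces to an integral affine base; this row is that case.) -/
theorem result {A : Type u} [CommRing A] [IsDomain A] {B : Type u} [CommRing B] [Algebra A B]
    {d : ℕ} (F : PolLaw.MulLaw A B A d) {P : Ideal B} (hP : P ∈ (PolLaw.ker F.law).minimalPrimes) :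
    P.comap (algebraMap A B) = ⊥ ∧
      ∀ q : Ideal A, q.IsPrime → ∃ Q : Ideal B, Q.IsPrime ∧ P ≤ Q ∧ Q.comap (algebraMap A B) = q := by
  haveI hPp : P.IsPrime := hP.1.1
  have hle : PolLaw.ker F.law ≤ P := hP.1.2
  have h1 : P.comap (algebraMap A B) = ⊥ := by
    rw [eq_bot_iff]
    intro a ha
    rw [Ideal.mem_bot]
    by_contra ha0
    rw [Ideal.mem_comap] at ha
    -- localize at P
    have hrad := IsLocalization.AtPrime.radical_map_of_mem_minimalPrimes
      (A := Localization.AtPrime P) P (PolLaw.ker F.law) hP
    have hmem : algebraMap B (Localization.AtPrime P) (algebraMap A B a) ∈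
        ((PolLaw.ker F.law).map (algebraMap B (Localization.AtPrime P))).radical := by
      rw [hrad]; exact Ideal.mem_map_of_mem _ ha
    obtain ⟨n, hn⟩ := hmem
    rw [← map_pow, IsLocalization.mem_map_algebraMap_iff P.primeCompl] at hn
    obtain ⟨⟨i, s⟩, his⟩ := hn
    rw [← map_mul, IsLocalization.eq_iff_exists P.primeCompl] at his
    obtain ⟨t, ht⟩ := his
    -- (t s) aⁿ ∈ ker F
    have hmem2 : (a ^ n) • ((t : B) * (s : B)) ∈ PolLaw.ker F.law := by
      have : (a ^ n) • ((t : B) * (s : B)) = (t : B) * (i : B) := by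
        rw [← ht, Algebra.smul_def, map_pow]; ring
      rw [this]
      exact Ideal.mul_mem_left _ _ i.2
    have hchar := charpoly_of_smul_mem_ker F (pow_ne_zero n ha0) hmem2
    have hCH := Groth.Agent.H14Lib.CH.CH_mem_ker F ((t : B) * (s : B))
    rw [hchar, map_pow, map_neg, Polynomial.aeval_X] at hCH
    have h5 := hPp.mem_of_pow_mem _ (hle hCH)
    rw [neg_mem_iff] at h5
    rcases hPp.mem_or_mem h5 with h6 | h6
    · exact t.2 h6
    · exact s.2 h6
  refine ⟨h1, ?_⟩
  intro q hq
  haveI := Groth.Agent.H14Lib.CH.isIntegral_quotient F P hle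
  have hbot : (⊥ : Ideal (B ⧸ P)).comap (algebraMap A (B ⧸ P)) ≤ q := by
    intro a ha
    rw [Ideal.mem_comap, Ideal.mem_bot, ← Ideal.Quotient.mk_algebraMap,
      Ideal.Quotient.eq_zero_iff_mem] at ha
    have : a ∈ P.comap (algebraMap A B) := ha
    rw [h1, Ideal.mem_bot] at this
    rw [this]; exact zero_mem _
  obtain ⟨Q', -, hQ'p, hQ'⟩ := Ideal.exists_ideal_over_prime_of_isIntegral q (⊥ : Ideal (B ⧸ P)) hbot
  refine ⟨Q'.comap (Ideal.Quotient.mk P), Ideal.comap_isPrime _ _, ?_, ?_⟩
  · intro x hx
    rw [Ideal.mem_comap, Ideal.Quotient.eq_zero_iff_mem.mpr hx]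
    exact zero_mem _
  · rw [Ideal.comap_comap, ← hQ', Ideal.Quotient.mk_comp_algebraMap]

end Groth.Agent.S13703
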