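import Groth.Statements.S13704
import Mathlib
import Groth.Agent.H14Lib.BCCH
import Groth.Agent.S13697
import Groth.Agent.S13703

set_option autoImplicit false
universe u
open scoped TensorProduct
open ZeroCyc

namespace Groth.Agent.S13704

theorem surj_prime {R T : Type u} [CommRing R] [CommRing T] (f : R →+* T)
    (hf : Function.Surjective f) (P : Ideal R) [P.IsPrime] (h : RingHom.ker f ≤ P) :
    (P.map f).IsPrime ∧ (P.map f).comap f = P := by
  refine ⟨Ideal.map_isPrime_of_surjective hf h, ?_⟩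
  rw [Ideal.comap_map_of_surjective f hf, ← RingHom.ker_eq_comap_bot]
  exact sup_eq_left.mpr h

/-- Let F : B → A be a multiplicative polynomial law homogeneous of degree d over the commutative ring A
and let Z = Spec(B/ker F) be the image of the corresponding family of zero-cycles on Spec B over
Spec A. Then Z → Spec A is universally generizing: for every commutative A-algebra A', along the map
Spec(A' ⊗_A (B/ker F)) → Spec A' every generization of the image of a point lifts to a generization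
of the point. (The published statement is for X affine over an algebraic space S and for the support
of the family; this row is the case of an affine base, stated for the image, which has the same
underlying space as the support since generizing is a topological property.) -/
theorem result {A : Type u} [CommRing A] {B : Type u} [CommRing B] [Algebra A B]
    {d : ℕ} (F : PolLaw.MulLaw A B A d) (A' : Type u) [CommRing A'] [Algebra A A'] :
    GeneralizingMap (PrimeSpectrum.comap (algebraMap A' (A' ⊗[A] PolLaw.image F.law))) := by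
  rw [← Algebra.HasGoingDown.iff_generalizingMap_primeSpectrumComap]
  refine ⟨fun {p'} _ Q _ hlt => ?_⟩
  have hle : p' ≤ Q.comap (algebraMap A' (A' ⊗[A] PolLaw.image F.law)) := hlt.le
  -- the maps
  let π' : A' ⊗[A] B →ₐ[A] A' ⊗[A] PolLaw.image F.law :=
    Algebra.TensorProduct.map (AlgHom.id A A') (Ideal.Quotient.mkₐ A (PolLaw.ker F.law))
  have hπ' : Function.Surjective (π' : A' ⊗[A] B →+* A' ⊗[A] PolLaw.image F.law) :=
    Algebra.TensorProduct.map_surjective (AlgHom.id A A')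
      (Ideal.Quotient.mkₐ A (PolLaw.ker F.law)) (fun x => ⟨x, rfl⟩)
      (Ideal.Quotient.mkₐ_surjective A _)
  have hkerπ : RingHom.ker (π' : A' ⊗[A] B →+* A' ⊗[A] PolLaw.image F.law) =
      (PolLaw.ker F.law).map (Algebra.TensorProduct.includeRight : B →ₐ[A] A' ⊗[A] B) := by
    have h0 : RingHom.ker π' =
        (PolLaw.ker F.law).map (Algebra.TensorProduct.includeRight : B →ₐ[A] A' ⊗[A] B) := by
      rw [Algebra.TensorProduct.lTensor_ker _ (Ideal.Quotient.mkₐ_surjective A _)]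
      congr 1
      ext x
      rw [RingHom.mem_ker, Ideal.Quotient.mkₐ_eq_mk, Ideal.Quotient.eq_zero_iff_mem]
    exact h0
  let τ : A' ⊗[A] B →ₐ[A] (A' ⧸ p') ⊗[A] B :=
    Algebra.TensorProduct.map (Ideal.Quotient.mkₐ A p') (AlgHom.id A B)
  have hτ : Function.Surjective (τ : A' ⊗[A] B →+* (A' ⧸ p') ⊗[A] B) :=
    Algebra.TensorProduct.map_surjective (Ideal.Quotient.mkₐ A p') (AlgHom.id A B)
      (Ideal.Quotient.mkₐ_surjective A _) (fun x => ⟨x, rfl⟩)
  have hkerτ : RingHom.ker (τ : A' ⊗[A] B →+* (A' ⧸ p') ⊗[A] B) =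
      p'.map (Algebra.TensorProduct.includeLeft : A' →ₐ[A] A' ⊗[A] B) := by
    have h0 : RingHom.ker τ = p'.map (Algebra.TensorProduct.includeLeft : A' →ₐ[A] A' ⊗[A] B) := by
      rw [Algebra.TensorProduct.rTensor_ker _ (Ideal.Quotient.mkₐ_surjective A _)]
      congr 1
      ext x
      rw [RingHom.mem_ker, Ideal.Quotient.mkₐ_eq_mk, Ideal.Quotient.eq_zero_iff_mem]
    exact h0
  -- the prime `Q₁` of `A' ⊗ B`
  set Q₁ : Ideal (A' ⊗[A] B) := Q.comap (π' : A' ⊗[A] B →+* A' ⊗[A] PolLaw.image F.law) with hQ₁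
  haveI : Q₁.IsPrime := Ideal.comap_isPrime _ Q
  have hJQ₁ : (PolLaw.ker F.law).map (Algebra.TensorProduct.includeRight : B →ₐ[A] A' ⊗[A] B) ≤ Q₁ := by
    rw [← hkerπ]
    intro x hx
    rw [hQ₁, Ideal.mem_comap, (RingHom.mem_ker).mp hx]
    exact zero_mem _
  have hpQ₁ : RingHom.ker (τ : A' ⊗[A] B →+* (A' ⧸ p') ⊗[A] B) ≤ Q₁ := by
    rw [hkerτ, Ideal.map_le_iff_le_comap]
    intro a ha
    have := hle ha
    rw [Ideal.mem_comap] at this ⊢
    rw [hQ₁, Ideal.mem_comap]
    have e : (π' : A' ⊗[A] B →+* A' ⊗[A] PolLaw.image F.law)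
        ((Algebra.TensorProduct.includeLeft : A' →ₐ[A] A' ⊗[A] B) a) =
        algebraMap A' (A' ⊗[A] PolLaw.image F.law) a := by
      simp [π', Algebra.TensorProduct.algebraMap_apply]
    rw [e]
    exact this
  obtain ⟨hQ₂prime, hQ₂comap⟩ := surj_prime _ hτ Q₁ hpQ₁
  set Q₂ := Q₁.map (τ : A' ⊗[A] B →+* (A' ⧸ p') ⊗[A] B) with hQ₂
  -- the base-changed law over the domain `A' ⧸ p'`
  let F'' := Groth.Agent.H14Lib.BC.bcLaw (A' ⧸ p') F
  have hτJ : ∀ x ∈ (PolLaw.ker F.law).map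
      (Algebra.TensorProduct.includeRight : B →ₐ[A] A' ⊗[A] B),
      τ x ∈ (PolLaw.ker F.law).map
        (Algebra.TensorProduct.includeRight : B →ₐ[A] (A' ⧸ p') ⊗[A] B) :=
    fun x hx => Groth.Agent.H14Lib.BC.map_mem_mapIdeal _ (Ideal.Quotient.mkₐ A p') hx
  have hJ''Q₂ : (PolLaw.ker F.law).map
      (Algebra.TensorProduct.includeRight : B →ₐ[A] (A' ⧸ p') ⊗[A] B) ≤ Q₂ := by
    rw [Ideal.map_le_iff_le_comap]
    intro b hb
    rw [Ideal.mem_comap]
    have h1 : (Algebra.TensorProduct.includeRight : B →ₐ[A] (A' ⧸ p') ⊗[A] B) b =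
        τ ((Algebra.TensorProduct.includeRight : B →ₐ[A] A' ⊗[A] B) b) := by
      simp [τ]
    rw [h1]
    exact Ideal.mem_map_of_mem _ (hJQ₁ (Ideal.mem_map_of_mem _ hb))
  have hkerQ₂ : PolLaw.ker F''.law ≤ Q₂ := by
    have h1 : (PolLaw.ker F''.law).radical ≤ Q₂ := by
      rw [Groth.Agent.H14Lib.BC.ker_bcLaw, Groth.Agent.S13697.result, hQ₂prime.radical_le_iff]
      exact hJ''Q₂
    exact Ideal.le_radical.trans h1
  obtain ⟨P₂, hP₂, hP₂Q₂⟩ := Ideal.exists_minimalPrimes_le hkerQ₂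
  haveI : P₂.IsPrime := hP₂.1.1
  have hP₂bot := (Groth.Agent.S13703.result F'' hP₂).1
  have hJ''P₂ : (PolLaw.ker F.law).map
      (Algebra.TensorProduct.includeRight : B →ₐ[A] (A' ⧸ p') ⊗[A] B) ≤ P₂ := by
    refine le_trans ?_ hP₂.1.2
    rw [Groth.Agent.H14Lib.BC.ker_bcLaw]
    exact Groth.Agent.S13699.map_ker_le _ _
  -- the prime `P₁` of `A' ⊗ B`
  set P₁ : Ideal (A' ⊗[A] B) := P₂.comap (τ : A' ⊗[A] B →+* (A' ⧸ p') ⊗[A] B) with hP₁
  haveI : P₁.IsPrime := Ideal.comap_isPrime _ P₂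
  have hP₁Q₁ : P₁ ≤ Q₁ := by
    rw [← hQ₂comap]
    exact Ideal.comap_mono hP₂Q₂
  have hJP₁ : RingHom.ker (π' : A' ⊗[A] B →+* A' ⊗[A] PolLaw.image F.law) ≤ P₁ := by
    rw [hkerπ]
    intro x hx
    rw [hP₁, Ideal.mem_comap]
    exact hJ''P₂ (hτJ x hx)
  obtain ⟨hPprime, hPcomap⟩ := surj_prime _ hπ' P₁ hJP₁
  refine ⟨P₁.map (π' : A' ⊗[A] B →+* A' ⊗[A] PolLaw.image F.law), ?_, hPprime, ⟨?_⟩⟩
  · rw [Ideal.map_le_iff_le_comap]
    exact hP₁Q₁
  · -- lies over `p'`
    ext a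
    rw [Ideal.under_def, Ideal.mem_comap]
    have h1 : algebraMap A' (A' ⊗[A] PolLaw.image F.law) a =
        (π' : A' ⊗[A] B →+* A' ⊗[A] PolLaw.image F.law) (algebraMap A' (A' ⊗[A] B) a) := by
      simp [π', Algebra.TensorProduct.algebraMap_apply]
    rw [h1, ← Ideal.mem_comap, hPcomap, hP₁, Ideal.mem_comap]
    have h2 : (τ : A' ⊗[A] B →+* (A' ⧸ p') ⊗[A] B) (algebraMap A' (A' ⊗[A] B) a) =
        algebraMap (A' ⧸ p') ((A' ⧸ p') ⊗[A] B) (Ideal.Quotient.mk p' a) := by
      simp [τ, Algebra.TensorProduct.algebraMap_apply]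
    rw [h2, ← Ideal.mem_comap, hP₂bot, Ideal.mem_bot, Ideal.Quotient.eq_zero_iff_mem]

end Groth.Agent.S13704
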