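import Groth.Statements.S13705
import Mathlib
import Groth.Agent.H14Lib.BCCH
import Groth.Agent.S13697
import Groth.Agent.S13704
import Groth.Agent.Lib.Helper18.UnivOpenAff

set_option autoImplicit false
universe u
open scoped TensorProduct
open ZeroCyc

namespace Groth.Agent.S13705

open Groth.Agent.H14Lib.CH Groth.Agent.H14Lib.BC Polynomial AlgebraicGeometry Groth.Agent.Helper18.UnivOpenAff

section
variable {A : Type u} [CommRing A] {B : Type u} [CommRing B] [Algebra A B] {d : ℕ}

theorem chiBC_one_tmul (A' : Type u) [CommRing A'] [Algebra A A'] (F : PolLaw.MulLaw A B A d) (b : B) :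
    chiBC A' F ((1 : A') ⊗ₜ[A] b) = (charpolyLaw F b).map (algebraMap A A') := by
  have h := chiBC_map F (Algebra.ofId A A') ((1 : A) ⊗ₜ[A] b)
  rw [Algebra.TensorProduct.map_tmul, map_one, AlgHom.coe_id, id_eq] at h
  rw [← h]
  congr 1

theorem charpoly_of_pow_mem_ker [IsDomain A] (F : PolLaw.MulLaw A B A d) {s : B} {N : ℕ}
    (hs : s ^ N ∈ PolLaw.ker F.law) : charpolyLaw F s = (-X) ^ d := by
  set y : A[X] ⊗[A] B := (1 : A[X]) ⊗ₜ[A] s with hy
  set x : A[X] ⊗[A] B := (X : A[X]) ⊗ₜ[A] (1 : B) with hx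
  have hgeom := geom_sum₂_mul y x N
  have hyN : y ^ N = (1 : A[X]) ⊗ₜ[A] (s ^ N) := by
    rw [hy, Algebra.TensorProduct.tmul_pow, one_pow]
  have hxN : x ^ N = ((X : A[X]) ^ N) ⊗ₜ[A] (1 : B) := by
    rw [hx, Algebra.TensorProduct.tmul_pow, one_pow]
  have h1 : F.law.toFun' A[X] (y ^ N - x ^ N) = ((-(X : A[X]) ^ N) ^ d) ⊗ₜ[A] (1 : A) := by
    have e : y ^ N - x ^ N = -(x ^ N) + 1 * ((1 : A[X]) ⊗ₜ[A] (s ^ N)) := by
      rw [hyN, one_mul]; ring
    rw [e, hs A[X]]
    have e2 : -(x ^ N) = (-(X : A[X]) ^ N) • (1 : A[X] ⊗[A] B) := by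
      rw [hxN, Algebra.TensorProduct.one_def, TensorProduct.smul_tmul', smul_eq_mul, mul_one,
        TensorProduct.neg_tmul]
    rw [e2, F.homog, (F.mult A[X]).1, Algebra.TensorProduct.one_def, TensorProduct.smul_tmul',
      smul_eq_mul, mul_one]
  rw [← hgeom, (F.mult A[X]).2] at h1
  have h2 := congrArg (Algebra.TensorProduct.rid A A[X] A[X]) h1
  rw [map_mul, Algebra.TensorProduct.rid_tmul, one_smul] at h2
  have h3 : Algebra.TensorProduct.rid A A[X] A[X] (F.law.toFun' A[X] (y - x)) = charpolyLaw F s := rfl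
  rw [h3] at h2
  set g := Algebra.TensorProduct.rid A A[X] A[X]
    (F.law.toFun' A[X] (∑ i ∈ Finset.range N, y ^ i * x ^ (N - 1 - i))) with hg
  have hC : (C ((-1 : A) ^ d) : A[X]) = (-1) ^ d := by simp
  -- monic version
  have hmonic := monic_signed_charpolyLaw F s
  have hdvd : (C ((-1 : A) ^ d) * charpolyLaw F s) ∣ (X : A[X]) ^ (N * d) := by
    refine ⟨g, ?_⟩
    have : (C ((-1 : A) ^ d) * charpolyLaw F s) * g = C ((-1 : A) ^ d) * (g * charpolyLaw F s) := by
      ring
    rw [this, h2, hC, neg_pow ((X : A[X]) ^ N), ← pow_mul, ← mul_assoc, ← mul_pow]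
    simp
  obtain ⟨i, -, hi⟩ := (dvd_prime_pow Polynomial.prime_X _).mp hdvd
  have heq := Polynomial.eq_of_monic_of_associated hmonic (monic_X_pow i) hi
  have hid : i = d := by
    have h5 := congrArg (fun p => p.coeff d) heq
    simp only [coeff_C_mul, charpolyLaw_coeff_top, coeff_X_pow] at h5
    rw [← mul_pow] at h5
    by_contra hne
    rw [if_neg (fun h => hne h.symm)] at h5
    simp at h5
  rw [hid] at heq
  have : charpolyLaw F s = C ((-1 : A) ^ d) * (C ((-1 : A) ^ d) * charpolyLaw F s) := by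
    rw [← mul_assoc, hC, ← mul_pow]
    simp
  rw [this, heq, hC, neg_pow (X : A[X])]

theorem exists_coeff_of_prime (F : PolLaw.MulLaw A B A d) (b : B) (Q : Ideal B) [Q.IsPrime]
    (hQ : PolLaw.ker F.law ≤ Q) (hb : b ∉ Q) :
    ∃ i < d, (charpolyLaw F b).coeff i ∉ Q.comap (algebraMap A B) := by
  by_contra h
  push Not at h
  have hCH := hQ (CH_mem_ker F b)
  rw [Polynomial.aeval_eq_sum_range' (Nat.lt_succ_of_le (charpolyLaw_natDegree_le F b)),
    Finset.sum_range_succ, charpolyLaw_coeff_top] at hCH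
  have h1 : ∑ i ∈ Finset.range d, (charpolyLaw F b).coeff i • b ^ i ∈ Q := by
    refine Ideal.sum_mem _ fun i hi => ?_
    rw [Algebra.smul_def]
    exact Ideal.mul_mem_right _ _ (h i (Finset.mem_range.mp hi))
  have h2 : ((-1 : A) ^ d) • b ^ d ∈ Q := (Ideal.add_mem_iff_right _ h1).mp hCH
  have h3 : b ^ d ∈ Q := by
    have : b ^ d = ((-1 : A) ^ d) • (((-1 : A) ^ d) • b ^ d) := by
      rw [smul_smul, ← mul_pow]; simp
    rw [this]
    exact Submodule.smul_of_tower_mem _ _ h2
  exact hb (Ideal.IsPrime.mem_of_pow_mem inferInstance _ h3)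

theorem exists_prime_of_coeff (F : PolLaw.MulLaw A B A d) (b : B) (p : Ideal A) [p.IsPrime]
    {i : ℕ} (hi : i < d) (hc : (charpolyLaw F b).coeff i ∉ p) :
    ∃ Q : Ideal B, Q.IsPrime ∧ PolLaw.ker F.law ≤ Q ∧ b ∉ Q ∧ Q.comap (algebraMap A B) = p := by
  let κ := p.ResidueField
  let G := bcLaw κ F
  have h1 : ((1 : κ) ⊗ₜ[A] b) ∉ (PolLaw.ker G.law).radical := by
    rintro ⟨N, hN⟩
    have h2 := charpoly_of_pow_mem_ker G hN
    rw [charpolyLaw_bcLaw, chiBC_one_tmul] at h2
    have h3 := congrArg (fun q => q.coeff i) h2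
    simp only [Polynomial.coeff_map] at h3
    rw [neg_pow, ← map_one (C : κ →+* κ[X]), ← map_neg, ← map_pow, Polynomial.coeff_C_mul,
      Polynomial.coeff_X_pow, if_neg (Nat.ne_of_lt hi), mul_zero,
      Ideal.algebraMap_residueField_eq_zero] at h3
    exact hc h3
  rw [Ideal.radical_eq_sInf, Ideal.mem_sInf] at h1
  push Not at h1
  obtain ⟨Q', ⟨hQ'k, hQ'p⟩, hQ'b⟩ := h1
  haveI := hQ'p
  refine ⟨Q'.comap (Algebra.TensorProduct.includeRight : B →ₐ[A] κ ⊗[A] B), Ideal.comap_isPrime _ _,
    ?_, ?_, ?_⟩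
  · intro b' hb'
    rw [Ideal.mem_comap]
    apply hQ'k
    rw [ker_bcLaw]
    exact Groth.Agent.S13699.map_ker_le _ _ (Ideal.mem_map_of_mem _ hb')
  · rw [Ideal.mem_comap]
    exact hQ'b
  · ext a
    rw [Ideal.mem_comap, Ideal.mem_comap]
    have e : (Algebra.TensorProduct.includeRight : B →ₐ[A] κ ⊗[A] B) (algebraMap A B a) =
        algebraMap κ (κ ⊗[A] B) (algebraMap A κ a) := by
      rw [AlgHom.commutes, IsScalarTower.algebraMap_apply A κ (κ ⊗[A] B)]
    rw [e]
    constructor
    · intro h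
      by_contra ha
      have hne : algebraMap A κ a ≠ 0 := fun h0 =>
        ha (Ideal.algebraMap_residueField_eq_zero.mp h0)
      have hu : IsUnit (algebraMap κ (κ ⊗[A] B) (algebraMap A κ a)) :=
        (IsUnit.mk0 _ hne).map _
      exact hQ'p.ne_top (Ideal.eq_top_of_isUnit_mem _ h hu)
    · intro ha
      rw [Ideal.algebraMap_residueField_eq_zero.mpr ha, map_zero]
      exact zero_mem _

theorem isOpenMap_comap_of_law {A' C D : Type u} [CommRing A'] [CommRing C] [Algebra A' C]
    [CommRing D] (G : PolLaw.MulLaw A' C A' d) (ψ : C →+* D) (hψ : Function.Surjective ψ)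
    (hrad : (RingHom.ker ψ).radical = (PolLaw.ker G.law).radical) :
    IsOpenMap (PrimeSpectrum.comap (ψ.comp (algebraMap A' C))) := by
  rw [PrimeSpectrum.isTopologicalBasis_basic_opens.isOpenMap_iff]
  rintro _ ⟨r, rfl⟩
  obtain ⟨c, rfl⟩ := hψ r
  have key : PrimeSpectrum.comap (ψ.comp (algebraMap A' C)) ''
      (PrimeSpectrum.basicOpen (ψ c) : Set (PrimeSpectrum D)) =
      ⋃ i ∈ Finset.range d,
        (PrimeSpectrum.basicOpen ((charpolyLaw G c).coeff i) : Set (PrimeSpectrum A')) := by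
    ext p'
    simp only [Set.mem_image, Set.mem_iUnion, SetLike.mem_coe, PrimeSpectrum.mem_basicOpen,
      exists_prop]
    constructor
    · rintro ⟨q, hq, rfl⟩
      have hkψ : RingHom.ker ψ ≤ q.asIdeal.comap ψ := by
        intro x hx
        rw [Ideal.mem_comap, (RingHom.mem_ker).mp hx]
        exact zero_mem _
      haveI : (q.asIdeal.comap ψ).IsPrime := Ideal.comap_isPrime _ _
      have hkG : PolLaw.ker G.law ≤ q.asIdeal.comap ψ := by
        refine Ideal.le_radical.trans ?_
        rw [← hrad, Ideal.IsPrime.radical_le_iff inferInstance]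
        exact hkψ
      obtain ⟨i, hi, hc⟩ := exists_coeff_of_prime G c (q.asIdeal.comap ψ) hkG hq
      exact ⟨i, Finset.mem_range.mpr hi, hc⟩
    · rintro ⟨i, hi, hc⟩
      obtain ⟨Q, hQp, hkQ, hcQ, hQcomap⟩ :=
        exists_prime_of_coeff G c p'.asIdeal (Finset.mem_range.mp hi) hc
      haveI := hQp
      have hkψ : RingHom.ker ψ ≤ Q := by
        refine Ideal.le_radical.trans ?_
        rw [hrad, Ideal.IsPrime.radical_le_iff hQp]
        exact hkQ
      obtain ⟨hprime, hcomap⟩ := Groth.Agent.S13704.surj_prime ψ hψ Q hkψ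
      refine ⟨⟨Q.map ψ, hprime⟩, ?_, ?_⟩
      · intro h
        apply hcQ
        rw [← hcomap, Ideal.mem_comap]
        exact h
      · apply PrimeSpectrum.ext
        show (Q.map ψ).comap (ψ.comp (algebraMap A' C)) = p'.asIdeal
        rw [← Ideal.comap_comap, hcomap, hQcomap]
  rw [key]
  exact isOpen_biUnion fun i _ => (PrimeSpectrum.basicOpen _).isOpen


theorem isOpenMap_mvPolynomial (F : PolLaw.MulLaw A B A d) (σ : Type u) :
    IsOpenMap (PrimeSpectrum.comap
      (MvPolynomial.map (σ := σ) (algebraMap A (PolLaw.image F.law)))) := by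
  let A' := MvPolynomial σ A
  let π' : A' ⊗[A] B →ₐ[A] A' ⊗[A] PolLaw.image F.law :=
    Algebra.TensorProduct.map (AlgHom.id A A') (Ideal.Quotient.mkₐ A (PolLaw.ker F.law))
  have hπ' : Function.Surjective (π' : A' ⊗[A] B →+* A' ⊗[A] PolLaw.image F.law) :=
    Algebra.TensorProduct.map_surjective (AlgHom.id A A')
      (Ideal.Quotient.mkₐ A (PolLaw.ker F.law)) (fun x => ⟨x, rfl⟩)
      (Ideal.Quotient.mkₐ_surjective A _)
  have hkerπ : RingHom.ker (π' : A' ⊗[A] B →+* A' ⊗[A] PolLaw.image F.law) =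
      (PolLaw.ker F.law).map (Algebra.TensorProduct.includeRight : B →ₐ[A] A' ⊗[A] B) := by
    have h0 : RingHom.ker π' =
        (PolLaw.ker F.law).map (Algebra.TensorProduct.includeRight : B →ₐ[A] A' ⊗[A] B) := by
      rw [Algebra.TensorProduct.lTensor_ker _ (Ideal.Quotient.mkₐ_surjective A _)]
      congr 1
      ext x
      rw [RingHom.mem_ker, Ideal.Quotient.mkₐ_eq_mk, Ideal.Quotient.eq_zero_iff_mem]
    exact h0
  let e : A' ⊗[A] PolLaw.image F.law ≃ₐ[A] MvPolynomial σ (PolLaw.image F.law) :=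
    (Algebra.TensorProduct.comm A A' (PolLaw.image F.law)).trans
      ((MvPolynomial.algebraTensorAlgEquiv (σ := σ) A (PolLaw.image F.law)).restrictScalars A)
  let ψ : A' ⊗[A] B →+* MvPolynomial σ (PolLaw.image F.law) :=
    (e : A' ⊗[A] PolLaw.image F.law →+* MvPolynomial σ (PolLaw.image F.law)).comp
      (π' : A' ⊗[A] B →+* A' ⊗[A] PolLaw.image F.law)
  have hψ : Function.Surjective ψ := e.surjective.comp hπ'
  have hkerψ : RingHom.ker ψ =
      (PolLaw.ker F.law).map (Algebra.TensorProduct.includeRight : B →ₐ[A] A' ⊗[A] B) := by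
    rw [← hkerπ]
    ext x
    rw [RingHom.mem_ker, RingHom.mem_ker]
    show e (π' x) = 0 ↔ π' x = 0
    exact e.map_eq_zero_iff
  have hrad : (RingHom.ker ψ).radical = (PolLaw.ker (bcLaw A' F).law).radical := by
    rw [hkerψ, ker_bcLaw, Groth.Agent.S13697.result F A']
  have h := isOpenMap_comap_of_law (bcLaw A' F) ψ hψ hrad
  have hcomp : ψ.comp (algebraMap A' (A' ⊗[A] B)) =
      MvPolynomial.map (σ := σ) (algebraMap A (PolLaw.image F.law)) := by
    refine RingHom.ext fun a' => ?_
    show e (π' (algebraMap A' (A' ⊗[A] B) a')) = _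
    rw [Algebra.TensorProduct.algebraMap_apply, Algebra.algebraMap_self, RingHom.id_apply]
    show (MvPolynomial.algebraTensorAlgEquiv A _)
      (Algebra.TensorProduct.comm A A' _ (π' (a' ⊗ₜ[A] (1 : B)))) = _
    simp only [π', Algebra.TensorProduct.map_tmul, map_one, AlgHom.coe_id, id_eq,
      Algebra.TensorProduct.comm_tmul]
    exact (MvPolynomial.algebraTensorAlgEquiv_tmul A (PolLaw.image F.law) 1 a').trans (one_smul _ _)
  rw [hcomp] at h
  exact h

end


/-- Let F : B → A be a multiplicative polynomial law homogeneous of degree d over the commutative ring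
A, with no finiteness assumption on B. Then the morphism Spec(B/ker F) → Spec A, the image of the
family of zero-cycles on Spec B defined by F, is universally open. (The published statement is for X
affine over an algebraic space S and for the support; this row is the case of an affine base, stated
for the image, which has the same underlying space as the support, the property being étale-local on
the base and topological.) -/
theorem result {A : Type u} [CommRing A] {B : Type u} [CommRing B] [Algebra A B]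
    {d : ℕ} (F : PolLaw.MulLaw A B A d) :
    AlgebraicGeometry.UniversallyOpen
      (AlgebraicGeometry.Spec.map (CommRingCat.ofHom (algebraMap A (PolLaw.image F.law)))) := by
  apply universallyOpen_of_H
  intro n
  rw [AffineSpace.map_SpecMap]
  refine isOpenMap_comp _ _ (isOpenMap_of_isIso _) (isOpenMap_comp _ _ ?_ (isOpenMap_of_isIso _))
  exact isOpenMap_mvPolynomial F _

end Groth.Agent.S13705
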