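import Groth.Statements.S13727
import Mathlib
import Groth.Agent.H14Lib.Idem

set_option autoImplicit false
universe u
open scoped TensorProduct
open ZeroCyc

namespace Groth.Agent.S13727

open Groth.Agent.H14Lib.CH Set Function

/-- a space with more than `n` connected components decomposes into `n + 1` nonempty clopens -/
theorem exists_fun_isClopen_of_card (α : Type*) [TopologicalSpace α] (n : ℕ)
    (h : ¬ (Finite (ConnectedComponents α) ∧ Nat.card (ConnectedComponents α) ≤ n)) :
    ∃ (U : Fin (n + 1) → Set α), (∀ i, IsClopen (U i)) ∧ (∀ i, (U i).Nonempty) ∧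
      Pairwise (Function.onFun Disjoint U) ∧ ⋃ i, U i = Set.univ := by
  cases isEmpty_or_nonempty α
  · exfalso
    apply h
    haveI : IsEmpty (ConnectedComponents α) := ConnectedComponents.isEmpty_iff_isEmpty.mpr ‹_›
    exact ⟨inferInstance, by simp⟩
  induction n with
  | zero => exact ⟨![.univ], by simp [isClopen_univ, Set.iUnion_fin_add_one_eq_iUnion_succ]⟩
  | succ n IH =>
    have h' : ¬ (Finite (ConnectedComponents α) ∧ Nat.card (ConnectedComponents α) ≤ n) :=
      fun ⟨hf, hc⟩ => h ⟨hf, by omega⟩
    obtain ⟨U, h₁, h₂, h₃, h₄⟩ := IH h'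
    obtain ⟨i, hi⟩ : ∃ i, ¬ IsConnected (U i) := by
      by_contra hall
      push Not at hall
      have eqv := ConnectedComponents.equivOfIsClopenOfIsConnected h₁ h₃ h₄ hall
      apply h
      refine ⟨Finite.of_equiv _ eqv.symm, ?_⟩
      rw [Nat.card_congr eqv, Nat.card_fin]
    obtain ⟨U, rfl⟩ := (Equiv.piCongrLeft (fun _ ↦ Set α) (Equiv.swap 0 i)).symm.surjective U
    cases U using Fin.consCases with | cons s U =>
    simp only [Equiv.piCongrLeft_symm_apply, Equiv.swap_apply_right, Fin.cons_zero] at *
    obtain ⟨a, b, ha, hb, ha', hb', hab, rfl⟩ := (show IsClopen s by simpa using h₁ i)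
      |>.not_isPreconnected_iff.mp (mt (⟨by simpa using h₂ i, ·⟩) hi)
    refine ⟨Fin.cons a (Fin.cons b U), ?_, ?_, ?_, ?_⟩
    · simpa [Fin.forall_iff_succ, *] using fun x ↦ h₁ (Equiv.swap 0 i (.succ x))
    · simpa [Fin.forall_iff_succ, *] using fun x ↦ h₂ (Equiv.swap 0 i (.succ x))
    · have h₃' (j : _) : Disjoint (U j) a ∧ Disjoint (U j) b := by
        simpa [onFun] using h₃ ((Equiv.swap 0 i).injective.ne (Fin.succ_ne_zero j))
      simpa [Pairwise, Fin.forall_iff_succ, onFun, hab, disjoint_comm (a := a),
        disjoint_comm (a := b), h₃'] using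
        h₃.comp_of_injective ((Equiv.swap 0 i).injective.comp (Fin.succ_injective _))
    · simpa [← union_assoc, (Equiv.surjective _).iUnion_comp] using h₄

/-- a clopen decomposition of the spectrum gives orthogonal idempotents -/
theorem exists_idempotents_of_clopens {R : Type u} [CommRing R] {n : ℕ}
    (U : Fin n → Set (PrimeSpectrum R)) (hU : ∀ i, IsClopen (U i)) (hne : ∀ i, (U i).Nonempty)
    (hdisj : Pairwise (Function.onFun Disjoint U)) :
    ∃ e : Fin n → R, (∀ i, IsIdempotentElem (e i)) ∧ (∀ i j, i ≠ j → e i * e j = 0) ∧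
      ∀ i, e i ≠ 0 := by
  classical
  let e : Fin n → R := fun i =>
    (PrimeSpectrum.isIdempotentElemEquivClopens.symm ⟨U i, hU i⟩).1
  have he : ∀ i, IsIdempotentElem (e i) := fun i =>
    (PrimeSpectrum.isIdempotentElemEquivClopens.symm ⟨U i, hU i⟩).2
  have hb : ∀ i, (PrimeSpectrum.basicOpen (e i) : Set (PrimeSpectrum R)) = U i := by
    intro i
    have := PrimeSpectrum.basicOpen_isIdempotentElemEquivClopens_symm (R := R) ⟨U i, hU i⟩
    exact congrArg (fun V : TopologicalSpace.Opens (PrimeSpectrum R) => (V : Set (PrimeSpectrum R))) this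
  refine ⟨e, he, ?_, ?_⟩
  · intro i j hij
    apply ((he i).mul (he j)).eq_zero_of_isNilpotent
    rw [← PrimeSpectrum.basicOpen_eq_bot_iff, PrimeSpectrum.basicOpen_mul]
    apply TopologicalSpace.Opens.ext
    rw [TopologicalSpace.Opens.coe_inf, hb, hb, TopologicalSpace.Opens.coe_bot]
    exact Set.disjoint_iff_inter_eq_empty.mp (hdisj hij)
  · intro i h0
    have := hb i
    rw [h0, PrimeSpectrum.basicOpen_zero, TopologicalSpace.Opens.coe_bot] at this
    exact (hne i).ne_empty this.symm

/-- Let A be a commutative ring whose prime spectrum is connected, B a commutative A-algebra and F : B →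
A a multiplicative polynomial law homogeneous of degree d. Then Spec(B/ker F), the support of the
family of zero-cycles of degree d defined by F, has at most d connected components (in particular
finitely many). -/
theorem result {A : Type u} [CommRing A] [ConnectedSpace (PrimeSpectrum A)]
    {B : Type u} [CommRing B] [Algebra A B] {d : ℕ} (F : PolLaw.MulLaw A B A d) :
    Finite (ConnectedComponents (PrimeSpectrum (PolLaw.image F.law))) ∧
      Nat.card (ConnectedComponents (PrimeSpectrum (PolLaw.image F.law))) ≤ d := by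
  by_contra hcon
  obtain ⟨U, h₁, h₂, h₃, -⟩ := exists_fun_isClopen_of_card _ d hcon
  obtain ⟨e, he, horth, hne⟩ := exists_idempotents_of_clopens U h₁ h₂ h₃
  obtain ⟨G, hG⟩ := exists_quotMulLaw F (PolLaw.ker F.law) le_rfl
  have hker : PolLaw.ker G.law = ⊥ := ker_quot_eq_bot F.law G.law hG
  have := card_le_of_orthogonal_idempotents G e he horth (fun i hi => hne i (by
    rw [hker] at hi
    exact hi))
  omega

end Groth.Agent.S13727
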