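import Groth.Statements.S13707
import Mathlib
import Groth.Agent.H14Lib.Idem
import Groth.Agent.H14Lib.CH6
import Groth.Agent.S13727

set_option autoImplicit false
universe u
open scoped TensorProduct
open ZeroCyc

namespace Groth.Agent.S13707

open Groth.Agent.H14Lib.CH IntermediateField

/-- an algebraic extension all of whose elements have degree at most `d` has finitely many
embeddings -/
theorem finite_emb_of_natDegree_le {k : Type u} [Field k] {L : Type u} [Field L] [Algebra k L]
    [Algebra.IsAlgebraic k L] (d : ℕ) (h : ∀ x : L, (minpoly k x).natDegree ≤ d) :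
    Finite (Field.Emb k L) := by
  have hfd : FiniteDimensional k (separableClosure k L) := by
    by_contra hnfd
    obtain ⟨M, hMfin, hMdeg⟩ := exists_lt_finrank_of_infinite_dimensional hnfd d
    haveI := hMfin
    obtain ⟨α, hα⟩ := Field.exists_primitive_element k M
    have hint : IsIntegral k α := Algebra.IsIntegral.isIntegral α
    have h1 : Module.finrank k M = (minpoly k α).natDegree := by
      rw [← IntermediateField.adjoin.finrank hint, hα, IntermediateField.finrank_top']
    have h2 : minpoly k ((algebraMap (separableClosure k L) L) (algebraMap M (separableClosure k L) α)) =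
        minpoly k α := by
      rw [minpoly.algebraMap_eq (algebraMap (separableClosure k L) L).injective,
        minpoly.algebraMap_eq (algebraMap M (separableClosure k L)).injective]
    have h3 := h ((algebraMap (separableClosure k L) L) (algebraMap M (separableClosure k L) α))
    rw [h2] at h3
    omega
  haveI := hfd
  have hc := Field.Emb.cardinal_separableClosure k L
  rw [← Cardinal.lt_aleph0_iff_finite, ← hc, Cardinal.lt_aleph0_iff_finite]
  infer_instance

/-- in an algebra integral over a field, powers of an element stabilise up to a unit multiple -/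
theorem exists_pow_eq_pow_succ_mul {k : Type u} [Field k] {R : Type u} [CommRing R] [Algebra k R]
    (f : R) (hf : IsIntegral k f) : ∃ (n : ℕ) (g : R), f ^ (n + 1) = f ^ (n + 2) * g := by
  obtain ⟨p, hpm, hp⟩ := hf
  have hp0 : p ≠ 0 := hpm.ne_zero
  obtain ⟨q, hq, hndvd⟩ := Polynomial.exists_eq_pow_rootMultiplicity_mul_and_not_dvd p hp0 0
  rw [Polynomial.C_0, sub_zero] at hq hndvd
  set n := Polynomial.rootMultiplicity 0 p
  have hc : q.coeff 0 ≠ 0 := fun h => hndvd (Polynomial.X_dvd_iff.mpr h)
  have hq2 : q = Polynomial.divX q * Polynomial.X + Polynomial.C (q.coeff 0) :=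
    (Polynomial.divX_mul_X_add q).symm
  rw [← Polynomial.aeval_def] at hp
  rw [hq, hq2] at hp
  simp only [map_mul, map_pow, map_add, Polynomial.aeval_X, Polynomial.aeval_C] at hp
  set r := Polynomial.aeval f (Polynomial.divX q)
  set c := q.coeff 0
  refine ⟨n, -(algebraMap k R c⁻¹) * r, ?_⟩
  have h1 : f ^ n * (algebraMap k R c) = -(f ^ (n + 1) * r) := by
    have : f ^ n * (r * f + algebraMap k R c) = 0 := hp
    calc f ^ n * (algebraMap k R c) = f ^ n * (r * f + algebraMap k R c) - f ^ (n + 1) * r := by ring
      _ = -(f ^ (n + 1) * r) := by rw [this]; ring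
  have h2 : algebraMap k R c * algebraMap k R c⁻¹ = 1 := by
    rw [← map_mul, mul_inv_cancel₀ hc, map_one]
  calc f ^ (n + 1) = f * (f ^ n * algebraMap k R c) * algebraMap k R c⁻¹ := by
        rw [mul_assoc, mul_assoc, h2, mul_one, pow_succ, mul_comm]
    _ = f ^ (n + 2) * (-(algebraMap k R c⁻¹) * r) := by rw [h1]; ring

/-- basic opens are clopen in the spectrum of an algebra integral over a field -/
theorem isClopen_basicOpen_of_isIntegral {k : Type u} [Field k] {R : Type u} [CommRing R]
    [Algebra k R] [Algebra.IsIntegral k R] (f : R) :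
    IsClopen (PrimeSpectrum.basicOpen f : Set (PrimeSpectrum R)) := by
  obtain ⟨n, g, hfg⟩ := exists_pow_eq_pow_succ_mul (k := k) f (Algebra.IsIntegral.isIntegral f)
  obtain ⟨m, hm⟩ : ∃ m, m = n + 1 := ⟨_, rfl⟩
  have hfg' : f ^ m = f ^ m * (f * g) := by
    rw [hm, ← mul_assoc, ← pow_succ]
    exact hfg
  have hiter : ∀ j : ℕ, f ^ m = f ^ m * (f * g) ^ j := by
    intro j
    induction j with
    | zero => rw [pow_zero, mul_one]
    | succ j ih => rw [pow_succ (f * g), ← mul_assoc, ← ih, ← hfg']
  set e := (f * g) ^ m with he
  have hfe : f ^ m = f ^ m * e := hiter m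
  have hidem : IsIdempotentElem e := by
    unfold IsIdempotentElem
    calc e * e = (f ^ m * e) * g ^ m := by rw [he, mul_pow]; ring
      _ = e := by rw [← hfe, he, mul_pow]
  rw [PrimeSpectrum.isClopen_iff]
  refine ⟨e, hidem, ?_⟩
  ext x
  simp only [SetLike.mem_coe, PrimeSpectrum.mem_basicOpen]
  constructor
  · intro hfx hex
    apply hfx
    have : f ^ m ∈ x.asIdeal := by rw [hfe]; exact Ideal.mul_mem_left _ _ hex
    exact x.isPrime.mem_of_pow_mem _ this
  · intro hex hfx
    apply hex
    rw [he, mul_pow, hm, pow_succ, mul_assoc]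
    exact Ideal.mul_mem_left _ _ (Ideal.mul_mem_right _ _ hfx)

/-- Let k be a field, B a commutative k-algebra and F : B → k a multiplicative polynomial law
homogeneous of degree d. Then the spectrum of B/ker F (the image of the family of zero-cycles of
degree d on Spec B defined by F) is a finite set of at most d closed points, and the residue field
at each of them has finite separable degree over k. -/
theorem result {k : Type u} [Field k] {B : Type u} [CommRing B] [Algebra k B]
    {d : ℕ} (F : PolLaw.MulLaw k B k d) :
    Finite (PrimeSpectrum (PolLaw.image F.law)) ∧ Nat.card (PrimeSpectrum (PolLaw.image F.law)) ≤ d ∧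
      ∀ P : PrimeSpectrum (PolLaw.image F.law), P.asIdeal.IsMaximal ∧
        Finite (Field.Emb k P.asIdeal.ResidueField) := by
  classical
  haveI hint : Algebra.IsIntegral k (PolLaw.image F.law) := isIntegral_image F
  obtain ⟨hfin, hcard⟩ := Groth.Agent.S13727.result F
  have hmax : ∀ P : PrimeSpectrum (PolLaw.image F.law), P.asIdeal.IsMaximal := by
    intro P
    haveI := P.isPrime
    apply Ideal.isMaximal_of_isIntegral_of_isMaximal_comap (R := k) P.asIdeal
    have : P.asIdeal.comap (algebraMap k (PolLaw.image F.law)) = ⊥ := by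
      rcases Ideal.eq_bot_or_top (P.asIdeal.comap (algebraMap k (PolLaw.image F.law))) with h | h
      · exact h
      · exact absurd h (Ideal.comap_ne_top _ P.isPrime.ne_top)
    rw [this]
    exact Ideal.bot_isMaximal
  have hinj : Function.Injective
      (ConnectedComponents.mk : PrimeSpectrum (PolLaw.image F.law) → _) := by
    intro P Q hPQ
    by_contra hne
    have hnle : ¬ Q.asIdeal ≤ P.asIdeal := by
      intro hle
      apply hne
      exact (PrimeSpectrum.ext ((hmax Q).eq_of_le (hmax P).ne_top hle)).symm
    obtain ⟨f, hfQ, hfP⟩ := Set.not_subset.mp hnle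
    have hcl := isClopen_basicOpen_of_isIntegral (k := k) f
    have hP : P ∈ (PrimeSpectrum.basicOpen f : Set (PrimeSpectrum (PolLaw.image F.law))) := hfP
    have hsub := hcl.connectedComponent_subset hP
    rw [ConnectedComponents.coe_eq_coe] at hPQ
    rw [hPQ] at hsub
    exact hsub mem_connectedComponent hfQ
  haveI := hfin
  refine ⟨Finite.of_injective _ hinj, ?_, ?_⟩
  · exact (Nat.card_le_card_of_injective _ hinj).trans hcard
  · intro P
    refine ⟨hmax P, ?_⟩
    haveI := hmax P
    have hsurj := Ideal.algebraMap_residueField_surjective P.asIdeal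
    have hroot : ∀ x : P.asIdeal.ResidueField, ∃ p : Polynomial k, p.Monic ∧ p.natDegree ≤ d ∧
        Polynomial.aeval x p = 0 := by
      intro x
      obtain ⟨y, rfl⟩ := hsurj x
      obtain ⟨b, rfl⟩ := Ideal.Quotient.mk_surjective y
      refine ⟨_, monic_signed_charpolyLaw F b,
        (Polynomial.natDegree_C_mul_le _ _).trans (charpolyLaw_natDegree_le F b), ?_⟩
      have h := aeval_signed_charpolyLaw_mem_ker F b
      rw [← Ideal.Quotient.eq_zero_iff_mem, ← Ideal.Quotient.mkₐ_eq_mk k,
        ← Polynomial.aeval_algHom_apply] at h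
      rw [Polynomial.aeval_algebraMap_apply, Ideal.Quotient.mkₐ_eq_mk] at *
      rw [h, map_zero]
    haveI : Algebra.IsAlgebraic k P.asIdeal.ResidueField := by
      constructor
      intro x
      obtain ⟨p, hp, -, hx⟩ := hroot x
      exact ⟨p, hp.ne_zero, hx⟩
    apply finite_emb_of_natDegree_le d
    intro x
    obtain ⟨p, hp, hdeg, hx⟩ := hroot x
    exact (Polynomial.natDegree_le_of_dvd (minpoly.dvd k x hx) hp.ne_zero).trans hdeg

end Groth.Agent.S13707
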