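import Groth.Statements.S13708
import Mathlib

set_option autoImplicit false
universe u
open CategoryTheory CategoryTheory.Limits AlgebraicGeometry
open ZeroCyc

namespace Groth.Agent.S13708


/-- Let X be a scheme over S such that every finite set of points of X over a common point of S lies in
some affine open subscheme of X (the condition (AF)). Then X is separated over S. (The published
condition (AF) asks for an open U with U → S quasi-affine rather than U affine; with U affine, as
here, the same argument applies verbatim, and the two conditions agree over a quasi-separated base.) -/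
theorem result {X S : Scheme.{u}} (f : X ⟶ S) (hX : SymProd.IsAF f) :
    IsSeparated f := by
  refine ⟨IsClosedImmersion.of_isPreimmersion _ ?_⟩
  rw [← isOpen_compl_iff, isOpen_iff_forall_mem_open]
  intro z hz
  have h12 : f ((pullback.fst f f) z) = f ((pullback.snd f f) z) := by
    rw [← Scheme.Hom.comp_apply, ← Scheme.Hom.comp_apply, pullback.condition]
  classical
  obtain ⟨U, hU, hUT⟩ := hX (f ((pullback.fst f f) z)) {(pullback.fst f f) z, (pullback.snd f f) z} (by
    intro x hx
    rw [Finset.mem_insert, Finset.mem_singleton] at hx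
    rcases hx with rfl | rfl
    · rfl
    · exact h12.symm)
  have hx₁ : (pullback.fst f f) z ∈ U := hUT _ (by simp)
  have hx₂ : (pullback.snd f f) z ∈ U := hUT _ (by simp)
  haveI : IsAffine ↑U := hU
  let j : pullback (U.ι ≫ f) (U.ι ≫ f) ⟶ pullback f f :=
    pullback.map (U.ι ≫ f) (U.ι ≫ f) f f U.ι U.ι (𝟙 S) (by simp) (by simp)
  have hj : IsOpenImmersion j := inferInstance
  have hcomm : pullback.diagonal (U.ι ≫ f) ≫ j = U.ι ≫ pullback.diagonal f := by
    apply pullback.hom_ext
    · simp only [j, pullback.map, Category.assoc]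
      rw [pullback.lift_fst, pullback.diagonal_fst_assoc, pullback.diagonal_fst, Category.comp_id]
    · simp only [j, pullback.map, Category.assoc]
      rw [pullback.lift_snd, pullback.diagonal_snd_assoc, pullback.diagonal_snd, Category.comp_id]
  have hrange : Set.range j = (pullback.fst f f) ⁻¹' (Set.range U.ι) ∩
      (pullback.snd f f) ⁻¹' (Set.range U.ι) := Scheme.Pullback.range_map ..
  have hz' : z ∈ Set.range j := by
    rw [hrange]
    exact ⟨⟨⟨_, hx₁⟩, rfl⟩, ⟨⟨_, hx₂⟩, rfl⟩⟩
  obtain ⟨w, hw⟩ := hz'
  have hcl : IsClosed (Set.range (pullback.diagonal (U.ι ≫ f))) :=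
    (pullback.diagonal (U.ι ≫ f)).isClosedEmbedding.isClosed_range
  refine ⟨j '' (Set.range (pullback.diagonal (U.ι ≫ f)))ᶜ, ?_,
    j.isOpenEmbedding.isOpenMap _ hcl.isOpen_compl, ?_⟩
  · rintro _ ⟨w', hw', rfl⟩ ⟨x, hx⟩
    apply hw'
    have hfst : j ≫ pullback.fst f f = pullback.fst _ _ ≫ U.ι := by
      simp only [j, pullback.map]
      rw [pullback.lift_fst]
    have hxU : x ∈ U := by
      have h1 : (pullback.fst f f) ((pullback.diagonal f) x) = x := by
        rw [← Scheme.Hom.comp_apply]; simp
      rw [hx, ← Scheme.Hom.comp_apply, hfst, Scheme.Hom.comp_apply] at h1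
      rw [← h1]
      exact ((pullback.fst (U.ι ≫ f) (U.ι ≫ f)) w').2
    obtain ⟨u, rfl⟩ : x ∈ Set.range U.ι := by rw [Scheme.Opens.range_ι]; exact hxU
    refine ⟨u, ?_⟩
    apply j.isOpenEmbedding.injective
    rw [← Scheme.Hom.comp_apply, hcomm, Scheme.Hom.comp_apply]
    exact hx
  · refine ⟨w, ?_, hw⟩
    rintro ⟨u, hu⟩
    apply hz
    refine ⟨U.ι u, ?_⟩
    rw [← Scheme.Hom.comp_apply, ← hcomm, Scheme.Hom.comp_apply, hu, hw]

end Groth.Agent.S13708
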