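import Groth.Statements.S13709
import Mathlib

set_option autoImplicit false
universe u
open CategoryTheory CategoryTheory.Limits AlgebraicGeometry
open ZeroCyc

namespace Groth.Agent.S13709


/-- Let f : X → Y be a quasi-compact morphism of schemes and g : Y' → Y a faithfully flat morphism, i.e.
flat and surjective, with no quasi-compactness assumption on g. If the base change X ×_Y Y' → Y' of
f along g is a homeomorphism on underlying spaces, then so is f. -/
theorem result {X Y Y' : Scheme.{u}} (f : X ⟶ Y) (g : Y' ⟶ Y)
    [Flat g] [Surjective g] [QuasiCompact f] (h : IsHomeomorph (pullback.snd f g).base) :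
    IsHomeomorph f.base := by
  have hcomm : ∀ w : ↑(pullback f g), f.base ((pullback.fst f g).base w) =
      g.base ((pullback.snd f g).base w) := by
    intro w
    have := pullback.condition (f := f) (g := g)
    have h2 := congrArg (fun φ => φ.base w) this
    simpa using h2
  have hinj : Function.Injective f.base := by
    intro x1 x2 hx
    obtain ⟨z, hz⟩ := (inferInstance : Surjective g).surj (f.base x1)
    obtain ⟨w1, hw1a, hw1b⟩ := Scheme.Pullback.exists_preimage_pullback (f := f) (g := g) x1 z hz.symm
    obtain ⟨w2, hw2a, hw2b⟩ := Scheme.Pullback.exists_preimage_pullback (f := f) (g := g) x2 z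
      (hx ▸ hz.symm)
    have hw : w1 = w2 := h.injective (hw1b.trans hw2b.symm)
    rw [← hw1a, ← hw2a, hw]
  have hsurj : Function.Surjective f.base := by
    intro y
    obtain ⟨z, hz⟩ := (inferInstance : Surjective g).surj y
    obtain ⟨w, hw⟩ := h.surjective z
    refine ⟨(pullback.fst f g).base w, ?_⟩
    rw [hcomm w, hw, hz]
  have hspec : SpecializingMap f.base := by
    intro x y hxy
    -- hxy : f x ⤳ y
    obtain ⟨z, hz⟩ := (inferInstance : Surjective g).surj y
    have hgen := Flat.generalizingMap (f := g)
    obtain ⟨z', hz'z, hz'⟩ := hgen (a := z) (b := f.base x) (by rw [hz]; exact hxy)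
    obtain ⟨w', hw'a, hw'b⟩ := Scheme.Pullback.exists_preimage_pullback (f := f) (g := g) x z' hz'.symm
    have hcl : SpecializingMap (pullback.snd f g).base := h.isClosedMap.specializingMap
    obtain ⟨w, hw'w, hw⟩ := hcl (a := w') (b := z) (by rw [hw'b]; exact hz'z)
    refine ⟨(pullback.fst f g).base w, ?_, ?_⟩
    · show x ⤳ _
      rw [← hw'a]
      exact hw'w.map (pullback.fst f g).base.hom.continuous
    · rw [hcomm w, hw, hz]
  have hclosed : IsClosedMap f.base := (isClosedMap_iff_specializingMap f).mpr hspec
  exact (isHomeomorph_iff_continuous_isClosedMap_bijective).mpr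
    ⟨f.base.hom.continuous, hclosed, hinj, hsurj⟩

end Groth.Agent.S13709
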