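import Groth.Statements.S13710
import Mathlib
import Groth.Agent.S13709

set_option autoImplicit false
universe u
open CategoryTheory CategoryTheory.Limits AlgebraicGeometry
open ZeroCyc

namespace Groth.Agent.S13710

lemma stalk_iso {X Y Y' : Scheme.{u}} (f : X ⟶ Y) (g : Y' ⟶ Y) [Flat g] [Surjective g]
    (hinj : Function.Injective f.base) [IsIso (pullback.snd f g)] (x : X) :
    IsIso (f.stalkMap x) := by
  obtain ⟨z, hz⟩ := (inferInstance : Surjective g).surj (f.base x)
  have hsp : g.base z ⤳ f.base x := specializes_of_eq hz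
  haveI hspiso : IsIso (Y.presheaf.stalkSpecializes hsp) := by
    show IsIso (Y.presheaf.stalkCongr (Inseparable.of_eq hz.symm)).hom
    infer_instance
  have hff : (g.stalkMap z).hom.FaithfullyFlat := by
    algebraize [(g.stalkMap z).hom]
    exact @Module.FaithfullyFlat.of_flat_of_isLocalHom _ _ _ _ _ _ _
      (Flat.stalkMap g z) (g.toLRSHom.prop z)
  obtain ⟨hρ1flat, hρ1surj⟩ := (flat_and_surjective_SpecMap_iff (g.stalkMap z)).mpr hff
  set ρ : Spec (Y'.presheaf.stalk z) ⟶ Spec (Y.presheaf.stalk (f.base x)) :=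
    Spec.map (g.stalkMap z) ≫ Spec.map (Y.presheaf.stalkSpecializes hsp) with hρdef
  have hρ : ρ ≫ Y.fromSpecStalk (f.base x) = Y'.fromSpecStalk z ≫ g := by
    rw [hρdef, Category.assoc, Scheme.SpecMap_stalkSpecializes_fromSpecStalk,
      Scheme.SpecMap_stalkMap_fromSpecStalk]
  have hQ : (@Surjective ⊓ @Flat ⊓ @QuasiCompact : MorphismProperty Scheme.{u}) ρ :=
    ⟨⟨inferInstance, inferInstance⟩, inferInstance⟩
  -- the pullback to the local scheme
  set jY := Y.fromSpecStalk (f.base x) with hjY
  set fT := pullback.snd f jY with hfT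
  have big : IsPullback (pullback.snd ρ fT ≫ pullback.fst f jY) (pullback.fst ρ fT) f (ρ ≫ jY) :=
    (IsPullback.of_hasPullback ρ fT).flip.paste_horiz (IsPullback.of_hasPullback f jY)
  rw [hρ] at big
  have left : IsPullback (pullback.lift (pullback.snd ρ fT ≫ pullback.fst f jY)
      (pullback.fst ρ fT ≫ Y'.fromSpecStalk z) (by rw [Category.assoc]; exact big.w)) (pullback.fst ρ fT) (pullback.snd f g)
      (Y'.fromSpecStalk z) :=
    IsPullback.of_right (by rw [pullback.lift_fst]; exact big) (by rw [pullback.lift_snd])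
      (IsPullback.of_hasPullback f g)
  haveI : IsIso (pullback.fst ρ fT) := left.isIso_snd_of_isIso
  haveI hfTiso : IsIso fT :=
    MorphismProperty.DescendsAlong.of_isPullback (P := MorphismProperty.isomorphisms Scheme.{u})
      (Q := (@Surjective ⊓ @Flat ⊓ @QuasiCompact : MorphismProperty Scheme.{u}))
      (IsPullback.of_hasPullback ρ fT) hQ
      (inferInstanceAs (IsIso (pullback.fst ρ fT)))
  -- the section
  set s : Spec (Y.presheaf.stalk (f.base x)) ⟶ X := inv fT ≫ pullback.fst f jY with hsdef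
  have hs : s ≫ f = jY := by
    rw [hsdef, Category.assoc, pullback.condition, ← hfT, IsIso.inv_hom_id_assoc]
  have hcp : s.base (IsLocalRing.closedPoint (Y.presheaf.stalk (f.base x))) = x := by
    apply hinj
    refine Eq.trans (show f.base (s.base _) =
      jY.base (IsLocalRing.closedPoint (Y.presheaf.stalk (f.base x))) from ?_) ?_
    · rw [← hs]; rfl
    · rw [hjY]; exact Scheme.fromSpecStalk_closedPoint
  obtain ⟨ψ, hψ⟩ : ∃ ψ : X.presheaf.stalk x ⟶ Y.presheaf.stalk (f.base x),
      Spec.map ψ ≫ X.fromSpecStalk x = s := by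
    have key : ∀ (x' : X) (_ : x' = x) (ψ0 : X.presheaf.stalk x' ⟶ Y.presheaf.stalk (f.base x)),
        Spec.map ψ0 ≫ X.fromSpecStalk x' = s →
        ∃ ψ : X.presheaf.stalk x ⟶ Y.presheaf.stalk (f.base x),
          Spec.map ψ ≫ X.fromSpecStalk x = s := by
      rintro x' rfl ψ0 h
      exact ⟨ψ0, h⟩
    exact key _ hcp _ (Scheme.Spec_stalkClosedPointTo_fromSpecStalk s)
  have hα : Spec.map (f.stalkMap x) ≫ jY = X.fromSpecStalk x ≫ f :=
    Scheme.SpecMap_stalkMap_fromSpecStalk f
  have h1 : Spec.map ψ ≫ Spec.map (f.stalkMap x) = 𝟙 _ := by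
    rw [← cancel_mono jY, Category.assoc, hα, ← Category.assoc, hψ, hs, Category.id_comp]
  have h2 : Spec.map (f.stalkMap x) ≫ Spec.map ψ = 𝟙 _ := by
    rw [← cancel_mono (X.fromSpecStalk x), Category.assoc, hψ, Category.id_comp, hsdef]
    have hu : pullback.lift (X.fromSpecStalk x) (Spec.map (f.stalkMap x)) hα.symm ≫ fT =
        Spec.map (f.stalkMap x) := pullback.lift_snd _ _ _
    rw [← hu, Category.assoc, IsIso.hom_inv_id_assoc, pullback.lift_fst]
  haveI : IsIso (Spec.map (f.stalkMap x)) := ⟨Spec.map ψ, h2, h1⟩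
  exact (ConcreteCategory.isIso_iff_bijective _).mpr (isIso_SpecMap_iff.mp inferInstance)

/-- Let f : X → Y be a morphism of schemes and g : Y' → Y a faithfully flat morphism (flat and
surjective, not assumed quasi-compact). Then f is an isomorphism exactly when it is quasi-compact
and its base change X ×_Y Y' → Y' along g is an isomorphism. -/
theorem result {X Y Y' : Scheme.{u}} (f : X ⟶ Y) (g : Y' ⟶ Y)
    [Flat g] [Surjective g] :
    IsIso f ↔ QuasiCompact f ∧ IsIso (pullback.snd f g) := by
  constructor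
  · intro h
    exact ⟨inferInstance, inferInstance⟩
  · rintro ⟨hqc, hiso⟩
    have hhomeo : IsHomeomorph f.base :=
      Groth.Agent.S13709.result f g (pullback.snd f g).homeomorph.isHomeomorph
    have hst : ∀ x, IsIso (f.stalkMap x) := fun x => stalk_iso f g hhomeo.injective x
    exact (isIso_iff_isOpenImmersion_and_surjective f).mpr
      ⟨IsOpenImmersion.iff_isIso_stalkMap.mpr ⟨hhomeo.isOpenEmbedding, hst⟩, ⟨hhomeo.surjective⟩⟩

end Groth.Agent.S13710
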