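import Groth.Statements.S13711
import Mathlib
import Groth.Agent.S13710

set_option autoImplicit false
universe u
open CategoryTheory CategoryTheory.Limits AlgebraicGeometry
open ZeroCyc

namespace Groth.Agent.S13711

theorem appLE_top {A B : Scheme.{u}} (f : A ⟶ B) (e : (⊤ : A.Opens) ≤ f ⁻¹ᵁ ⊤) :
    f.appLE ⊤ ⊤ e = f.appTop := by
  rw [Scheme.Hom.appLE]
  have : (homOfLE e).op = 𝟙 _ := Subsingleton.elim _ _
  rw [this]
  erw [CategoryTheory.Functor.map_id, Category.comp_id]

set_option backward.isDefEq.respectTransparency.types false in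
theorem isAffine_of_flat_surjective {R : CommRingCat.{u}} {X Y' : Scheme.{u}} (c : Y' ⟶ Spec R)
    [Flat c] [Surjective c] (f : X ⟶ Spec R) [QuasiCompact f] [QuasiSeparated f]
    (haff : IsAffineHom (pullback.fst c f)) : IsAffine X := by
  haveI : CompactSpace X := (quasiCompact_iff_compactSpace f).mp inferInstance
  haveI : QuasiSeparatedSpace X := (quasiSeparated_iff_quasiSeparatedSpace f).mp inferInstance
  let h : X ⟶ Spec Γ(X, ⊤) := X.toSpecΓ
  let q : Spec Γ(X, ⊤) ⟶ Spec R := Spec.map f.appTop ≫ Spec.map (Scheme.ΓSpecIso R).inv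
  have hq : h ≫ q = f := by
    simp only [h, q]
    rw [← Scheme.toSpecΓ_naturality_assoc, toSpecΓ_SpecMap_ΓSpecIso_inv, Category.comp_id]
  let fst' : pullback c f ⟶ Y' := pullback.fst c f
  let snd' : pullback c f ⟶ X := pullback.snd c f
  let b : pullback c q ⟶ Y' := pullback.fst c q
  let c₂ : pullback c q ⟶ Spec Γ(X, ⊤) := pullback.snd c q
  let h' : pullback c f ⟶ pullback c q := pullback.lift fst' (snd' ≫ h)
    (by rw [Category.assoc, hq]; exact pullback.condition)
  have hb : h' ≫ b = fst' := pullback.lift_fst _ _ _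
  have hc₂ : h' ≫ c₂ = snd' ≫ h := pullback.lift_snd _ _ _
  have hsq : IsPullback h' snd' c₂ h := by
    refine IsPullback.of_right ?_ hc₂ (IsPullback.of_hasPullback c q)
    rw [hb, hq]
    exact IsPullback.of_hasPullback c f
  haveI : QuasiCompact h := (quasiCompact_iff_compactSpace h).mpr inferInstance
  suffices hiso : IsIso h' by
    have h1 : IsIso (pullback.snd h c₂) := by
      have : pullback.snd h c₂ = hsq.flip.isoPullback.inv ≫ h' := by
        rw [Iso.eq_inv_comp]; exact hsq.flip.isoPullback_hom_snd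
      rw [this]; infer_instance
    have := (Groth.Agent.S13710.result h c₂).mpr ⟨inferInstance, h1⟩
    exact ⟨this⟩
  haveI : IsAffineHom q := inferInstance
  haveI : IsAffineHom b := MorphismProperty.pullback_fst (P := @IsAffineHom.{u}) c q ‹_›
  haveI : IsAffineHom (h' ≫ b) := by rw [hb]; exact haff
  haveI : IsAffineHom h' := IsAffineHom.of_comp h' b
  let U : Y'.affineOpens → (pullback c q).Opens := fun V => b ⁻¹ᵁ V.1
  have hU : iSup U = ⊤ := by
    simp only [U]
    rw [← Scheme.Hom.preimage_iSup, iSup_affineOpens_eq_top]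
    rfl
  show MorphismProperty.isomorphisms Scheme h'
  rw [IsZariskiLocalAtTarget.iff_of_iSup_eq_top (P := MorphismProperty.isomorphisms Scheme) U hU]
  intro V
  show IsIso (h' ∣_ (b ⁻¹ᵁ V.1))
  rw [isIso_morphismRestrict_iff_isIso_app h' (V.2.preimage b), Scheme.Hom.app_eq_appLE]
  have Hbig : IsPullback snd' fst' f c := (IsPullback.of_hasPullback c f).flip
  have H₂ : IsPullback c₂ b q c := (IsPullback.of_hasPullback c q).flip
  have hUST : V.1 ≤ c ⁻¹ᵁ ⊤ := by simp
  have hUSX : (⊤ : X.Opens) ≤ f ⁻¹ᵁ ⊤ := by simp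
  have hUSA : (⊤ : (Spec Γ(X, ⊤)).Opens) ≤ q ⁻¹ᵁ ⊤ := by simp
  have hUY : h' ⁻¹ᵁ b ⁻¹ᵁ V.1 = snd' ⁻¹ᵁ ⊤ ⊓ fst' ⁻¹ᵁ V.1 := by
    rw [← Scheme.Hom.comp_preimage, hb]; simp
  have hW : b ⁻¹ᵁ V.1 = c₂ ⁻¹ᵁ ⊤ ⊓ b ⁻¹ᵁ V.1 := by simp
  have iso1 : IsIso (pushoutSection Hbig hUST hUSX hUY) :=
    isIso_pushoutSection_of_isQuasiSeparated_of_flat_right Hbig _ _ _ (isAffineOpen_top _) V.2
      isCompact_univ isQuasiSeparated_univ
  have iso2 : IsIso (pushoutSection H₂ hUST hUSA hW) :=
    isIso_pushoutSection_of_isAffineOpen H₂ _ _ _ (isAffineOpen_top _) V.2 (isAffineOpen_top _)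
  have hhtop : (⊤ : X.Opens) ≤ h ⁻¹ᵁ ⊤ := by simp
  haveI : IsIso (h.appLE ⊤ ⊤ hhtop) := by
    rw [appLE_top]
    simp only [h, Scheme.toSpecΓ_appTop]
    infer_instance
  let κ : pushout (q.appLE ⊤ ⊤ hUSA) (c.appLE ⊤ V.1 hUST) ⟶
      pushout (f.appLE ⊤ ⊤ hUSX) (c.appLE ⊤ V.1 hUST) :=
    pushout.map _ _ _ _ (h.appLE ⊤ ⊤ hhtop) (𝟙 _) (𝟙 _)
      (by rw [Category.id_comp, Scheme.Hom.appLE_comp_appLE]; congr 1)
      (by simp)
  haveI : IsIso κ := by dsimp only [κ]; infer_instance
  have key : κ ≫ pushoutSection Hbig hUST hUSX hUY =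
      pushoutSection H₂ hUST hUSA hW ≫ h'.appLE (b ⁻¹ᵁ V.1) (h' ⁻¹ᵁ b ⁻¹ᵁ V.1) le_rfl := by
    apply pushout.hom_ext
    · simp only [κ, pushout.inl_desc_assoc, pushout.inl_desc, Category.assoc,
        Scheme.Hom.appLE_comp_appLE]
      congr 1
      exact hc₂.symm
    · simp only [κ, pushout.inr_desc_assoc, pushout.inr_desc, Category.assoc, Category.id_comp,
        Scheme.Hom.appLE_comp_appLE]
      congr 1
      exact hb.symm
  have : h'.appLE (b ⁻¹ᵁ V.1) (h' ⁻¹ᵁ b ⁻¹ᵁ V.1) le_rfl =
      inv (pushoutSection H₂ hUST hUSA hW) ≫ κ ≫ pushoutSection Hbig hUST hUSX hUY := by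
    rw [IsIso.eq_inv_comp, key]
  rw [this]
  infer_instance
set_option backward.isDefEq.respectTransparency false in
theorem descend {X Y Z : Scheme.{u}} (c : X ⟶ Z) (f : Y ⟶ Z) [Flat c] [Surjective c]
    [QuasiCompact f] [QuasiSeparated f] (haff : IsAffineHom (pullback.fst c f)) : IsAffineHom f := by
  wlog hZ : ∃ R, Z = Spec R generalizing X Y Z with ih
  · rw [IsZariskiLocalAtTarget.iff_of_openCover (P := @IsAffineHom) Z.affineCover]
    intro i
    let ι := Z.affineCover.f i
    let e : pullback (pullback.snd c ι) (pullback.snd f ι) ≅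
        pullback (pullback.fst c f) (pullback.fst c ι) :=
      pullbackLeftPullbackSndIso c ι (pullback.snd f ι) ≪≫
        pullback.congrHom rfl pullback.condition.symm ≪≫
        (pullbackAssoc c f f ι).symm ≪≫ pullback.congrHom pullback.condition.symm rfl ≪≫
        (pullbackRightPullbackFstIso c ι (pullback.fst c f)).symm
    have heq : e.hom ≫ pullback.snd (pullback.fst c f) (pullback.fst c ι) =
        pullback.fst (pullback.snd c ι) (pullback.snd f ι) := by
      apply pullback.hom_ext <;> simp [e, pullback.condition]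
    haveI : Flat (pullback.snd c ι) := MorphismProperty.pullback_snd (P := @Flat) _ _ ‹_›
    haveI : Surjective (pullback.snd c ι) := MorphismProperty.pullback_snd (P := @Surjective) _ _ ‹_›
    haveI : QuasiCompact (pullback.snd f ι) := MorphismProperty.pullback_snd (P := @QuasiCompact) _ _ ‹_›
    haveI : QuasiSeparated (pullback.snd f ι) := MorphismProperty.pullback_snd (P := @QuasiSeparated) _ _ ‹_›
    refine ih (pullback.snd c ι) (pullback.snd f ι) ?_ ⟨_, rfl⟩
    rw [← heq]
    have h1 : IsAffineHom (pullback.snd (pullback.fst c f) (pullback.fst c ι)) :=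
      MorphismProperty.pullback_snd (P := @IsAffineHom) _ _ haff
    exact (MorphismProperty.cancel_left_of_respectsIso (P := @IsAffineHom) e.hom _).mpr h1
  obtain ⟨R, rfl⟩ := hZ
  haveI := isAffine_of_flat_surjective c f haff
  exact isAffineHom_of_isAffine f
set_option backward.isDefEq.respectTransparency.types false in
theorem main_aux {X Y Y' : Scheme.{u}} (f : X ⟶ Y) (g : Y' ⟶ Y)
    [Flat g] [Surjective g] :
    IsAffineHom f ↔ QuasiCompact f ∧ QuasiSeparated f ∧ IsAffineHom (pullback.snd f g) := by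
  constructor
  · intro h
    exact ⟨inferInstance, inferInstance, MorphismProperty.pullback_snd (P := @IsAffineHom) f g h⟩
  · rintro ⟨hqc, hqs, haff⟩
    have haff' : IsAffineHom (pullback.fst g f) := by
      rw [← pullbackSymmetry_hom_comp_snd]
      infer_instance
    exact descend g f haff'

/-- Let f : X → Y be a morphism of schemes and g : Y' → Y a faithfully flat morphism (flat and
surjective, not assumed quasi-compact). Then f is affine exactly when it is quasi-compact,
quasi-separated, and its base change X ×_Y Y' → Y' along g is affine. -/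
theorem result {X Y Y' : Scheme.{u}} (f : X ⟶ Y) (g : Y' ⟶ Y)
    [Flat g] [Surjective g] :
    IsAffineHom f ↔ QuasiCompact f ∧ QuasiSeparated f ∧ IsAffineHom (pullback.snd f g) := by
  exact main_aux f g

end Groth.Agent.S13711
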