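import Groth.Statements.S13713
import Mathlib
import Groth.Agent.H14Lib.GamFT

set_option autoImplicit false
universe u
open scoped TensorProduct
open ZeroCyc

namespace Groth.Agent.S13713


/-- Let (C, γ) be the algebra of divided powers Γ^d_A(B) of a commutative A-algebra B with its universal
multiplicative law γ : B → C homogeneous of degree d (every multiplicative law B → C' homogeneous of
degree d factors uniquely through γ by an algebra map C → C'). If B is of finite type over A then so
is C = Γ^d_A(B). -/
theorem result {A : Type u} [CommRing A] {B : Type u} [CommRing B] [Algebra A B] {C : Type u} [CommRing C] [Algebra A C]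
    {d : ℕ} (γ : PolLaw.MulLaw A B C d) (hγ : PolLaw.IsGammaD γ) [Algebra.FiniteType A B] :
    Algebra.FiniteType A C := by
  obtain ⟨n, q, hq⟩ := Algebra.FiniteType.iff_quotient_mvPolynomial''.mp (inferInstance : Algebra.FiniteType A B)
  have hsurj := Groth.Agent.H14Lib.GamN.piA_surjective γ (Groth.Agent.H14Lib.GamFT.basU n A) q hγ hq
  have e : Groth.Agent.H14Lib.GamN.cAlg A (MvPolynomial (Fin n) A) d =
      SymTen.TS A (MvPolynomial (Fin n) A) d := by
    apply le_antisymm
    · intro x hx σ
      rw [← SymTen.perm_apply]
      exact Groth.Agent.H14Lib.GamN.perm_mem σ ((Groth.Agent.H14Lib.GamN.mem_cAlg_iff x).mp hx)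
    · intro x hx
      exact (Groth.Agent.H14Lib.GamN.mem_cAlg_iff x).mpr
        (Groth.Agent.H14Lib.BCk.TS_le_coefSpan (Groth.Agent.H14Lib.GamFT.basU n A) hx)
  haveI : Algebra.FiniteType A (Groth.Agent.H14Lib.GamN.cAlg A (MvPolynomial (Fin n) A) d) := by
    rw [e]
    exact Groth.Agent.H14Lib.GamFT.finiteType_TS_mvPolynomial A n d
  exact Algebra.FiniteType.of_surjective _ hsurj

end Groth.Agent.S13713
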