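import Groth.Statements.S13715
import Mathlib
import Groth.Agent.H14Lib.GammaGen

set_option autoImplicit false
universe u
open scoped TensorProduct
open ZeroCyc

namespace Groth.Agent.S13715

open Groth.Agent.H14Lib.CH in
/-- the coefficients of a law along an arbitrary finite family are combinations of the coefficients
along a spanning family -/
theorem cf_mem_span_of_span_eq_top {A : Type u} [CommRing A] {B : Type u} [CommRing B] [Algebra A B]
    {C : Type u} [CommRing C] [Algebra A C] (γ : B →ₚₗ[A] C)
    {I : Type u} [Fintype I] (e : I → B) (he : Submodule.span A (Set.range e) = ⊤)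
    (Λ : Finset B) (ν : B →₀ ℕ) :
    cf γ (fun b => b) Λ ν ∈ Submodule.span A
      ((fun μ => cf γ e Finset.univ μ) '' (cfsupp γ e Finset.univ : Set (I →₀ ℕ))) := by
  classical
  have hex : ∀ b : B, ∃ c : I → A, ∑ i, c i • e i = b := by
    intro b
    have : b ∈ Submodule.span A (Set.range e) := by rw [he]; trivial
    exact (Submodule.mem_span_range_iff_exists_fun A).mp this
  choose r hr using hex
  set S := MvPolynomial B A
  let a : I → S := fun i => ∑ b ∈ Λ, r b i • (MvPolynomial.X b : S)
  have h1 : gen (A := A) (fun b : B => b) Λ = ∑ i, a i ⊗ₜ[A] e i := by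
    rw [gen]
    simp only [a, TensorProduct.sum_tmul]
    rw [Finset.sum_comm]
    refine Finset.sum_congr rfl fun b _ => ?_
    have hb : (MvPolynomial.X b : S) ⊗ₜ[A] b =
        (MvPolynomial.X b : S) ⊗ₜ[A] (∑ i, r b i • e i) := by rw [hr b]
    rw [hb, TensorProduct.tmul_sum]
    refine Finset.sum_congr rfl fun i _ => ?_
    rw [TensorProduct.tmul_smul, TensorProduct.smul_tmul']
  rw [cf, gval, h1, spadeN γ e Finset.univ a, map_sum, map_sum]
  refine Submodule.sum_mem _ fun μ hμ => ?_
  rw [kap_tmul, TensorProduct.lid_tmul]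
  exact Submodule.smul_mem _ _ (Submodule.subset_span ⟨μ, hμ, rfl⟩)

/-- Let (C, γ) be the algebra of divided powers Γ^d_A(B) of a commutative A-algebra B with its universal
multiplicative law γ : B → C homogeneous of degree d (every multiplicative law B → C' homogeneous of
degree d factors uniquely through γ by an algebra map C → C'). If B is finite (as a module) over A
then so is C = Γ^d_A(B). -/
theorem result {A : Type u} [CommRing A] {B : Type u} [CommRing B] [Algebra A B] {C : Type u} [CommRing C] [Algebra A C]
    {d : ℕ} (γ : PolLaw.MulLaw A B C d) (hγ : PolLaw.IsGammaD γ) [Module.Finite A B] :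
    Module.Finite A C := by
  open Groth.Agent.H14Lib.CH in
  classical
  obtain ⟨n, s, hs⟩ := Module.Finite.exists_fin (R := A) (M := B)
  let e : ULift.{u} (Fin n) → B := fun i => s i.down
  have he : Submodule.span A (Set.range e) = ⊤ := by
    rw [← hs]
    congr 1
    ext b
    constructor
    · rintro ⟨i, rfl⟩; exact ⟨i.down, rfl⟩
    · rintro ⟨i, rfl⟩; exact ⟨⟨i⟩, rfl⟩
  have htop := coefSpan_eq_top γ hγ
  refine ⟨⟨(cfsupp γ.law e Finset.univ).image (fun μ => cf γ.law e Finset.univ μ), ?_⟩⟩
  rw [eq_top_iff, ← htop, coefSpan, Submodule.span_le]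
  rintro _ ⟨Λ, ν, rfl⟩
  rw [Finset.coe_image]
  exact cf_mem_span_of_span_eq_top γ.law e he Λ ν

end Groth.Agent.S13715
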