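import Groth.Statements.S13716
import Mathlib
import Groth.Agent.H14Lib.GammaFin

set_option autoImplicit false
universe u
open scoped TensorProduct
open ZeroCyc

namespace Groth.Agent.S13716


/-- Let (C, γ) be the algebra of divided powers Γ^d_A(B) of a commutative A-algebra B with its universal
multiplicative law γ : B → C homogeneous of degree d (every multiplicative law B → C' homogeneous of
degree d factors uniquely through γ by an algebra map C → C'). If B is integral over A then so is C
= Γ^d_A(B). -/
theorem result {A : Type u} [CommRing A] {B : Type u} [CommRing B] [Algebra A B] {C : Type u} [CommRing C] [Algebra A C]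
    {d : ℕ} (γ : PolLaw.MulLaw A B C d) (hγ : PolLaw.IsGammaD γ) [Algebra.IsIntegral A B] :
    Algebra.IsIntegral A C := by
  open Groth.Agent.H14Lib.CH in
  classical
  have htop := coefSpan_eq_top γ hγ
  constructor
  intro x
  have hx : x ∈ coefSpan γ.law := by rw [htop]; trivial
  rw [coefSpan] at hx
  induction hx using Submodule.span_induction with
  | zero => exact isIntegral_zero
  | add y z _ _ hy hz => exact hy.add hz
  | smul a y _ hy => exact hy.smul a
  | mem c hc =>
    obtain ⟨Λ, ν, rfl⟩ := hc
    have fg : (Algebra.adjoin A (Λ : Set B)).toSubmodule.FG :=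
      fg_adjoin_of_finite Λ.finite_toSet (fun b _ => Algebra.IsIntegral.isIntegral b)
    obtain ⟨n, s, hs⟩ := Submodule.fg_iff_exists_fin_generating_family.mp fg
    let e : ULift.{u} (Fin n) → B := fun i => s i.down
    have he : Submodule.span A (Set.range e) = (Algebra.adjoin A (Λ : Set B)).toSubmodule := by
      rw [← hs]
      congr 1
      ext b
      constructor
      · rintro ⟨i, rfl⟩; exact ⟨i.down, rfl⟩
      · rintro ⟨i, rfl⟩; exact ⟨⟨i⟩, rfl⟩
    have hmem : ∀ i, e i ∈ Algebra.adjoin A (Λ : Set B) := by
      intro i
      have : e i ∈ Submodule.span A (Set.range e) := Submodule.subset_span ⟨i, rfl⟩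
      rw [he] at this
      exact this
    refine isIntegral_of_mem_famSpan γ.law (γ.mult A).1 (fun S _ _ => (γ.mult S).2) e ?_ ?_ ?_
    · rw [he]; exact (Algebra.adjoin A (Λ : Set B)).one_mem
    · intro i j
      rw [he]; exact (Algebra.adjoin A (Λ : Set B)).mul_mem (hmem i) (hmem j)
    · refine cf_mem_famSpan γ.law e (fun b => b) Λ ?_ ν
      intro b hb
      rw [he]
      exact Algebra.subset_adjoin hb

end Groth.Agent.S13716
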