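import Groth.Statements.S13717
import Mathlib
import Groth.Agent.H14Lib.GammaGen
import Groth.Agent.S13720

set_option autoImplicit false
universe u
open scoped TensorProduct
open ZeroCyc

namespace Groth.Agent.S13717

theorem lid_lTensor {A : Type u} [CommRing A] {N N' : Type u} [AddCommGroup N] [Module A N]
    [AddCommGroup N'] [Module A N'] (f : N →ₗ[A] N') (z : A ⊗[A] N) :
    TensorProduct.lid A N' (f.lTensor A z) = f (TensorProduct.lid A N z) := by
  induction z using TensorProduct.induction_on with
  | zero => simp
  | tmul a n => simp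
  | add x y hx hy => simp only [map_add, hx, hy]

/-- Let π : B → B' be a surjective map of commutative A-algebras and let (C, γ) and (C', γ') be the
degree-d divided power algebras Γ^d_A(B) and Γ^d_A(B') with their universal multiplicative laws
homogeneous of degree d. If φ : C → C' is the A-algebra map with φ ∘ γ = γ' ∘ π, then φ is
surjective; geometrically, for a closed subscheme X of an affine Y over an affine S, Γ^d(X/S) →
Γ^d(Y/S) is a closed immersion. (The published statement is for Y affine over an algebraic space S;
this row is the case of an affine base.) -/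
theorem result {A : Type u} [CommRing A] {B : Type u} [CommRing B] [Algebra A B]
    {B' : Type u} [CommRing B'] [Algebra A B'] {C : Type u} [CommRing C] [Algebra A C] {C' : Type u} [CommRing C'] [Algebra A C']
    {d : ℕ} (γ : PolLaw.MulLaw A B C d) (hγ : PolLaw.IsGammaD γ) (γ' : PolLaw.MulLaw A B' C' d) (hγ' : PolLaw.IsGammaD γ')
    (π : B →ₐ[A] B') (hπ : Function.Surjective π) (φ : C →ₐ[A] C')
    (hφ : PolLaw.postcomp φ.toLinearMap γ.law = (γ'.precomp π).law) :
    Function.Surjective φ := by
  open Groth.Agent.H14Lib.CH in
  have htop := coefSpan_eq_top γ' hγ'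
  have hle : coefSpan γ'.law ≤ LinearMap.range φ.toLinearMap := by
    rw [coefSpan, Submodule.span_le]
    rintro _ ⟨Λ', ν, rfl⟩
    set S := MvPolynomial B' A
    let y : S ⊗[A] B := ∑ b' ∈ Λ', (MvPolynomial.X b' : S) ⊗ₜ[A] Function.surjInv hπ b'
    have h1 : (γ'.precomp π).law.toFun' S y = gval γ'.law (fun b => b) Λ' := by
      rw [Groth.Agent.S13720.precomp_apply, gval, gen]
      congr 1
      simp only [y, map_sum, Algebra.TensorProduct.map_tmul, AlgHom.id_apply,
        Function.surjInv_eq hπ]
    have h2 : (γ'.precomp π).law.toFun' S y = φ.toLinearMap.lTensor S (γ.law.toFun' S y) := by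
      rw [← hφ]; rfl
    refine ⟨TensorProduct.lid A C (kap (A := A) A B' C ν (γ.law.toFun' S y)), ?_⟩
    rw [cf, ← h1, h2, kap_lTensor, lid_lTensor]
  intro c'
  have : c' ∈ LinearMap.range φ.toLinearMap := hle (by rw [htop]; trivial)
  exact this

end Groth.Agent.S13717
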