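import Groth.Statements.S13718
import Mathlib
import Groth.Agent.H14Lib.CH6
import Groth.Agent.S13696

set_option autoImplicit false
universe u
open scoped TensorProduct
open ZeroCyc

namespace Groth.Agent.S13718

open Groth.Agent.H14Lib.CH in
theorem comap_ker_le {A : Type u} [CommRing A] {B : Type u} [CommRing B] [Algebra A B]
    {B' : Type u} [CommRing B'] [Algebra A B'] {d : ℕ} (F : PolLaw.MulLaw A B A d) (φ : B' →ₐ[A] B) :
    (PolLaw.ker F.law).comap φ ≤ PolLaw.ker (F.precomp φ).law := by
  intro b' hb' S _ _ x w
  have hb : φ b' ∈ PolLaw.ker F.law := hb'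
  rw [Groth.Agent.S13720.precomp_apply, Groth.Agent.S13720.precomp_apply, map_add, map_mul,
    Algebra.TensorProduct.map_tmul, map_one]
  exact hb S _ _

open Groth.Agent.H14Lib.CH in
theorem charpolyLaw_precomp {A : Type u} [CommRing A] {B : Type u} [CommRing B] [Algebra A B]
    {B' : Type u} [CommRing B'] [Algebra A B'] {d : ℕ} (F : PolLaw.MulLaw A B A d) (φ : B' →ₐ[A] B)
    (b' : B') : charpolyLaw (F.precomp φ) b' = charpolyLaw F (φ b') := by
  rw [charpolyLaw, charpolyLaw, Groth.Agent.S13720.precomp_apply, map_sub,
    Algebra.TensorProduct.map_tmul, Algebra.TensorProduct.map_tmul, map_one, map_one,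
    AlgHom.id_apply]

/-- Let φ : B' → B be a map of commutative algebras over the commutative ring A and F : B → A a
multiplicative polynomial law homogeneous of degree d, with push-forward the law F ∘ φ : B' → A.
Then the radical of the kernel of F ∘ φ equals the radical of the inverse image under φ of the
kernel of F: the support of the pushed-forward family of zero-cycles on Spec B' is the image of the
support of the family on Spec B. (The published statement is for affine morphisms X → Y → S of
algebraic spaces; this row is the case of an affine base.) -/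
theorem result {A : Type u} [CommRing A] {B : Type u} [CommRing B] [Algebra A B]
    {B' : Type u} [CommRing B'] [Algebra A B'] {d : ℕ} (F : PolLaw.MulLaw A B A d) (φ : B' →ₐ[A] B) :
    (PolLaw.ker (F.precomp φ).law).radical = ((PolLaw.ker F.law).comap φ).radical := by
  apply le_antisymm
  · apply Ideal.radical_le_radical_iff.mpr
    intro b' hb'
    refine ⟨d, ?_⟩
    have h1 := Groth.Agent.S13696.charpoly_of_mem_ker (F.precomp φ) hb'
    rw [charpolyLaw_precomp] at h1
    have h2 := Groth.Agent.H14Lib.CH.CH_mem_ker F (φ b')
    rw [h1, map_pow, map_neg, Polynomial.aeval_X, neg_pow] at h2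
    have h3 := Ideal.mul_mem_left _ ((-1 : B) ^ d) h2
    rw [← mul_assoc, ← mul_pow] at h3
    simp only [mul_neg, mul_one, neg_neg, one_pow, one_mul] at h3
    rw [Ideal.mem_comap, map_pow]
    exact h3
  · exact Ideal.radical_mono (comap_ker_le F φ)

end Groth.Agent.S13718
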