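import Groth.Statements.S13721
import Mathlib
import Groth.Agent.H14Lib.GenKer

set_option autoImplicit false
universe u
open scoped TensorProduct
open ZeroCyc

namespace Groth.Agent.S13721


/-- Let F : B → A be a multiplicative polynomial law homogeneous of degree d over the commutative ring
A, on a commutative A-algebra B which is finite as an A-module, and let A' be the filtered direct
limit of a directed system (A'_i, t_ij) of commutative A-algebras (t_ii the identity, t_jk ∘ t_ij =
t_ik) with structure maps φ_i : A'_i → A' (compatible with the t_ij, jointly surjective, and an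
element of A'_i vanishing in A' already vanishes in some A'_j). Then the kernel of the base change
of F to A', an ideal of A' ⊗_A B, is the supremum over i of the extensions along φ_i ⊗ B of the
kernels of the base changes of F to the A'_i: the kernel of the base-changed law is the direct limit
of the kernels. (The published statement has no finiteness hypothesis on B and is false without one:
for a suitable algebra B that is not finitely generated and a suitable directed system of quotients
of A, an element of A' ⊗_A B lies in the kernel over the limit although it comes from the kernel at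
no finite stage, because the conditions cutting out the kernel at an element are infinitely many and
die one at a time along the system; the published proof's reduction to finite B does not go through.
This row assumes B finite over A, the case that proof establishes.) -/
theorem result {A : Type u} [CommRing A] {B : Type u} [CommRing B] [Algebra A B]
    [Module.Finite A B] {A' : Type u} [CommRing A'] [Algebra A A'] {ι : Type u} [Preorder ι] [IsDirected ι (fun i j => i ≤ j)] [Nonempty ι]
    (Ai : ι → Type u) [∀ i, CommRing (Ai i)] [∀ i, Algebra A (Ai i)]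
    (t : ∀ i j : ι, i ≤ j → (Ai i →ₐ[A] Ai j)) (φ : ∀ i : ι, Ai i →ₐ[A] A')
    (hcomp : ∀ (i j : ι) (h : i ≤ j), (φ j).comp (t i j h) = φ i)
    (hsurj : ∀ a : A', ∃ (i : ι) (x : Ai i), φ i x = a)
    (hzero : ∀ (i : ι) (x : Ai i), φ i x = 0 → ∃ (j : ι) (h : i ≤ j), t i j h x = 0)
    (hid : ∀ (i : ι) (h : i ≤ i), t i i h = AlgHom.id A (Ai i))
    (htrans : ∀ (i j k : ι) (hij : i ≤ j) (hjk : j ≤ k), (t j k hjk).comp (t i j hij) = t i k (hij.trans hjk))
    {d : ℕ} (F : PolLaw.MulLaw A B A d) :
    PolLaw.kerBC F.law A' =
      ⨆ i : ι, (PolLaw.kerBC F.law (Ai i)).map (Algebra.TensorProduct.map (φ i) (AlgHom.id A B)) := by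
  classical
  apply le_antisymm
  · intro b' hb'
    obtain ⟨n, e, he⟩ := Module.Finite.exists_fin (R := A) (M := B)
    -- lift `b'` to a finite stage
    have hmapcomp : ∀ (i j : ι) (h : i ≤ j) (z : Ai i ⊗[A] B),
        Algebra.TensorProduct.map (φ j) (AlgHom.id A B)
          (Algebra.TensorProduct.map (t i j h) (AlgHom.id A B) z) =
        Algebra.TensorProduct.map (φ i) (AlgHom.id A B) z := by
      intro i j h z
      rw [← AlgHom.comp_apply, ← Algebra.TensorProduct.map_comp, hcomp]
      rfl
    have hlift : ∀ z : A' ⊗[A] B, ∃ (i : ι) (y : Ai i ⊗[A] B),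
        Algebra.TensorProduct.map (φ i) (AlgHom.id A B) y = z := by
      intro z
      induction z using TensorProduct.induction_on with
      | zero => exact ⟨Classical.arbitrary ι, 0, map_zero _⟩
      | tmul a' b =>
        obtain ⟨i, x, hx⟩ := hsurj a'
        exact ⟨i, x ⊗ₜ[A] b, by rw [Algebra.TensorProduct.map_tmul, hx]; rfl⟩
      | add x y hx hy =>
        obtain ⟨i₁, y₁, h₁⟩ := hx
        obtain ⟨i₂, y₂, h₂⟩ := hy
        obtain ⟨k, hk₁, hk₂⟩ := exists_ge_ge i₁ i₂
        refine ⟨k, Algebra.TensorProduct.map (t i₁ k hk₁) (AlgHom.id A B) y₁ +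
          Algebra.TensorProduct.map (t i₂ k hk₂) (AlgHom.id A B) y₂, ?_⟩
        rw [map_add, hmapcomp, hmapcomp, h₁, h₂]
    obtain ⟨i, bi, hbi⟩ := hlift b'
    set D := Groth.Agent.H14Lib.BC.DBC (Ai i) F.law e bi with hD
    have hD0 : MvPolynomial.map (φ i : Ai i →+* A') D = 0 := by
      rw [hD, Groth.Agent.H14Lib.BC.DBC_map, hbi]
      exact (Groth.Agent.H14Lib.BC.mem_kerBC_iff_DBC F.law e he _).mp hb'
    -- a common stage killing all the coefficients
    have hkill : ∀ S : Finset ((Fin n ⊕ Fin n) →₀ ℕ), ∃ (j : ι) (h : i ≤ j),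
        ∀ μ ∈ S, t i j h (MvPolynomial.coeff μ D) = 0 := by
      intro S
      induction S using Finset.induction_on with
      | empty => exact ⟨i, le_refl i, fun μ hμ => absurd hμ (Finset.notMem_empty μ)⟩
      | insert μ S hμS ih =>
        obtain ⟨j₁, h₁, hj₁⟩ := ih
        have hμ0 : φ i (MvPolynomial.coeff μ D) = 0 := by
          have := congrArg (MvPolynomial.coeff μ) hD0
          rwa [MvPolynomial.coeff_map, MvPolynomial.coeff_zero] at this
        obtain ⟨j₂, h₂, hj₂⟩ := hzero i _ hμ0
        obtain ⟨k, hk₁, hk₂⟩ := exists_ge_ge j₁ j₂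
        refine ⟨k, h₁.trans hk₁, fun ν hν => ?_⟩
        rcases Finset.mem_insert.mp hν with rfl | hνS
        · have := htrans i j₂ k h₂ hk₂
          rw [show t i k (h₁.trans hk₁) = t i k (h₂.trans hk₂) from rfl, ← this,
            AlgHom.comp_apply, hj₂, map_zero]
        · rw [← htrans i j₁ k h₁ hk₁, AlgHom.comp_apply, hj₁ ν hνS, map_zero]
    obtain ⟨j, hij, hj⟩ := hkill D.support
    have hDj : Groth.Agent.H14Lib.BC.DBC (Ai j) F.law e
        (Algebra.TensorProduct.map (t i j hij) (AlgHom.id A B) bi) = 0 := by
      rw [← Groth.Agent.H14Lib.BC.DBC_map, ← hD]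
      ext μ
      rw [MvPolynomial.coeff_map, MvPolynomial.coeff_zero]
      by_cases hμ : μ ∈ D.support
      · exact hj μ hμ
      · rw [MvPolynomial.notMem_support_iff.mp hμ, map_zero]
    have hmem := (Groth.Agent.H14Lib.BC.mem_kerBC_iff_DBC F.law e he _).mpr hDj
    have h1 := Ideal.mem_map_of_mem (Algebra.TensorProduct.map (φ j) (AlgHom.id A B)) hmem
    rw [hmapcomp, hbi] at h1
    exact (le_iSup (fun i => (PolLaw.kerBC F.law (Ai i)).map
      (Algebra.TensorProduct.map (φ i) (AlgHom.id A B))) j) h1
  · refine iSup_le fun i => ?_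
    rw [Ideal.map_le_iff_le_comap]
    intro z hz
    exact Groth.Agent.H14Lib.BC.kerBC_map F.law (φ i) hz

end Groth.Agent.S13721
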