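import Groth.Statements.S13723
import Mathlib
import Groth.Agent.H14Lib.BCCH
import Groth.Agent.S13697
import Groth.Agent.S13707

set_option autoImplicit false
universe u
open scoped TensorProduct
open ZeroCyc

namespace Groth.Agent.S13723

/-- if `f : R → S` is surjective and `ker f` and `J` have the same radical, then the spectrum of
`S` injects into the spectrum of `R ⧸ J` -/
theorem exists_spec_injection {R S : Type u} [CommRing R] [CommRing S] (f : R →+* S)
    (hf : Function.Surjective f) (J : Ideal R) (hJ : (RingHom.ker f).radical = J.radical) :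
    ∃ g : PrimeSpectrum S → PrimeSpectrum (R ⧸ J), Function.Injective g ∧
      ∀ x, PrimeSpectrum.comap (Ideal.Quotient.mk J) (g x) = PrimeSpectrum.comap f x := by
  have key : ∀ x : PrimeSpectrum S, ∃ y : PrimeSpectrum (R ⧸ J),
      PrimeSpectrum.comap (Ideal.Quotient.mk J) y = PrimeSpectrum.comap f x := by
    intro x
    have : PrimeSpectrum.comap f x ∈ Set.range (PrimeSpectrum.comap (Ideal.Quotient.mk J)) := by
      rw [range_comap_of_surjective _ _ Ideal.Quotient.mk_surjective, Ideal.mk_ker,
        ← PrimeSpectrum.zeroLocus_radical, ← hJ, PrimeSpectrum.zeroLocus_radical,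
        ← range_comap_of_surjective _ _ hf]
      exact ⟨x, rfl⟩
    exact this
  choose g hg using key
  refine ⟨g, ?_, hg⟩
  intro x x' h
  apply PrimeSpectrum.comap_injective_of_surjective f hf
  rw [← hg, ← hg, h]

/-- Let F : B → A be a multiplicative polynomial law homogeneous of degree d over the commutative ring A
and let Z = Spec(B/ker F) be the image of the family of zero-cycles it defines. For every field K
and ring map A → K, the fibre Spec(K ⊗_A (B/ker F)) has finitely many points, at most d of them. In
particular every geometric fibre of Z → Spec A has at most d points and Z → Spec A has universally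
topologically finite fibres. -/
theorem result {A : Type u} [CommRing A] {B : Type u} [CommRing B] [Algebra A B]
    {d : ℕ} (F : PolLaw.MulLaw A B A d) (K : Type u) [Field K] [Algebra A K] :
    Finite (PrimeSpectrum (K ⊗[A] PolLaw.image F.law)) ∧
      Nat.card (PrimeSpectrum (K ⊗[A] PolLaw.image F.law)) ≤ d := by
  obtain ⟨hfin, hcard, -⟩ := Groth.Agent.S13707.result (Groth.Agent.H14Lib.BC.bcLaw K F)
  let π : K ⊗[A] B →ₐ[A] K ⊗[A] (PolLaw.image F.law) :=
    Algebra.TensorProduct.map (AlgHom.id A K) (Ideal.Quotient.mkₐ A (PolLaw.ker F.law))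
  have hπ : Function.Surjective π := by
    have := LinearMap.lTensor_surjective K (g := (Ideal.Quotient.mkₐ A (PolLaw.ker F.law)).toLinearMap)
      (Ideal.Quotient.mkₐ_surjective A _)
    have e : ∀ x, π x = (Ideal.Quotient.mkₐ A (PolLaw.ker F.law)).toLinearMap.lTensor K x := by
      intro x
      induction x using TensorProduct.induction_on with
      | zero => simp
      | tmul a b => rfl
      | add a b ha hb => simp only [map_add, ha, hb]
    intro y
    obtain ⟨x, hx⟩ := this y
    exact ⟨x, (e x).trans hx⟩
  have hker : RingHom.ker π =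
      (PolLaw.ker F.law).map (Algebra.TensorProduct.includeRight : B →ₐ[A] K ⊗[A] B) := by
    rw [Algebra.TensorProduct.lTensor_ker _ (Ideal.Quotient.mkₐ_surjective A _)]
    congr 1
    ext x
    rw [RingHom.mem_ker, Ideal.Quotient.mkₐ_eq_mk, Ideal.Quotient.eq_zero_iff_mem]
  have hrad : (RingHom.ker (π : K ⊗[A] B →+* K ⊗[A] (PolLaw.image F.law))).radical =
      (PolLaw.ker (Groth.Agent.H14Lib.BC.bcLaw K F).law).radical := by
    rw [Groth.Agent.H14Lib.BC.ker_bcLaw, Groth.Agent.S13697.result]
    exact congrArg Ideal.radical hker
  obtain ⟨g, ginj, -⟩ := exists_spec_injection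
    (π : K ⊗[A] B →+* K ⊗[A] (PolLaw.image F.law)) hπ _ hrad
  exact ⟨Finite.of_injective g ginj, (Nat.card_le_card_of_injective g ginj).trans hcard⟩

end Groth.Agent.S13723
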