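import Groth.Statements.S13724
import Mathlib
import Groth.Agent.H14Lib.BCCH
import Groth.Agent.S13723

set_option autoImplicit false
universe u
open scoped TensorProduct
open ZeroCyc

namespace Groth.Agent.S13724


/-- Let A be a commutative ring with finitely many maximal ideals, B a commutative A-algebra and F : B →
A a multiplicative polynomial law homogeneous of degree d. Then B/ker F, the coordinate ring of the
image of the family of zero-cycles defined by F, has finitely many maximal ideals. -/
theorem result {A : Type u} [CommRing A] [Finite (MaximalSpectrum A)] {B : Type u} [CommRing B] [Algebra A B]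
    {d : ℕ} (F : PolLaw.MulLaw A B A d) :
    Finite (MaximalSpectrum (PolLaw.image F.law)) := by
  haveI : Algebra.IsIntegral A (PolLaw.image F.law) := Groth.Agent.H14Lib.CH.isIntegral_image F
  let f : MaximalSpectrum (PolLaw.image F.law) → MaximalSpectrum A := fun M =>
    ⟨M.asIdeal.comap (algebraMap A (PolLaw.image F.law)),
      haveI := M.isMaximal; Ideal.isMaximal_comap_of_isIntegral_of_isMaximal M.asIdeal⟩
  rw [← Set.finite_univ_iff]
  refine Set.Finite.of_finite_fibers f (Set.toFinite _) ?_
  intro m _
  rw [Set.univ_inter]
  let p : PrimeSpectrum A := m.toPrimeSpectrum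
  obtain ⟨hfin, -⟩ := Groth.Agent.S13723.result F p.asIdeal.ResidueField
  have hmem : ∀ M : ↥(f ⁻¹' {m}), M.1.toPrimeSpectrum ∈
      PrimeSpectrum.comap (algebraMap A (PolLaw.image F.law)) ⁻¹' {p} := by
    intro M
    have h := M.2
    simp only [Set.mem_preimage, Set.mem_singleton_iff] at h ⊢
    apply PrimeSpectrum.ext
    have := congrArg MaximalSpectrum.asIdeal h
    exact this
  let g : ↥(f ⁻¹' {m}) → PrimeSpectrum (p.asIdeal.ResidueField ⊗[A] PolLaw.image F.law) :=
    fun M => PrimeSpectrum.preimageEquivFiber A (PolLaw.image F.law) p ⟨M.1.toPrimeSpectrum, hmem M⟩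
  have ginj : Function.Injective g := by
    intro M M' h
    have h1 := (PrimeSpectrum.preimageEquivFiber A (PolLaw.image F.law) p).injective h
    have h2 := MaximalSpectrum.toPrimeSpectrum_injective (congrArg Subtype.val h1)
    exact Subtype.ext h2
  haveI := Finite.of_injective g ginj
  exact Set.toFinite _

end Groth.Agent.S13724
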