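import Groth.Statements.S13725
import Mathlib

set_option autoImplicit false
universe u
open scoped TensorProduct
open ZeroCyc

namespace Groth.Agent.S13725


/-- Let k be a field of characteristic p > 0 and let F : k → k be the law x ↦ x^p, multiplicative and
homogeneous of degree p over k. The kernel of F is the zero ideal, but after the flat base change k
→ A' = k[X]/(X^p) the kernel of the base-changed law on A' ⊗_k k is not zero (the class of X lies in
it). So in characteristic p, forming the kernel of a multiplicative law is not compatible with flat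
base change. -/
theorem result {k : Type u} [Field k] (p : ℕ) [Fact p.Prime] [CharP k p] :
    PolLaw.ker (PolLaw.MulLaw.pow k k p).law = ⊥ ∧
      PolLaw.kerBC (PolLaw.MulLaw.pow k k p).law (AdjoinRoot ((Polynomial.X : Polynomial k) ^ p)) ≠ ⊥ := by
  have hp : p.Prime := Fact.out
  constructor
  · rw [eq_bot_iff]
    intro b hb
    have h1 := hb k 0 1
    have h2 : ((0 : k ⊗[k] k) + 1 * ((1 : k) ⊗ₜ[k] b)) ^ p = (0 : k ⊗[k] k) ^ p := h1
    rw [zero_add, one_mul, zero_pow hp.ne_zero, Algebra.TensorProduct.tmul_pow, one_pow] at h2
    have h3 := congrArg (TensorProduct.lid k k) h2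
    rw [TensorProduct.lid_tmul, map_zero, one_smul] at h3
    have : b = 0 := pow_eq_zero_iff hp.ne_zero |>.1 h3
    rw [this]; exact Submodule.zero_mem _
  · intro hbot
    set A' := AdjoinRoot ((Polynomial.X : Polynomial k) ^ p) with hA'
    have hmem : (AdjoinRoot.root ((Polynomial.X : Polynomial k) ^ p)) ⊗ₜ[k] (1 : k) ∈
        PolLaw.kerBC (PolLaw.MulLaw.pow k k p).law A' := by
      intro R _ _ _ _ x w
      change (x + w * _) ^ p = x ^ p
      rcases subsingleton_or_nontrivial (R ⊗[k] k) with hs | hn
      · exact Subsingleton.elim _ _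
      · have hinj : Function.Injective (algebraMap k (R ⊗[k] k)) := (algebraMap k (R ⊗[k] k)).injective
        haveI : CharP (R ⊗[k] k) p := charP_of_injective_algebraMap hinj p
        rw [add_pow_char, mul_pow]
        have : (Algebra.TensorProduct.map (IsScalarTower.toAlgHom k A' R) (AlgHom.id k k))
            ((AdjoinRoot.root ((Polynomial.X : Polynomial k) ^ p)) ⊗ₜ[k] (1 : k)) ^ p = 0 := by
          rw [← map_pow, Algebra.TensorProduct.tmul_pow, one_pow]
          have : (AdjoinRoot.root ((Polynomial.X : Polynomial k) ^ p)) ^ p = 0 := by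
            rw [← AdjoinRoot.mk_X, ← map_pow, AdjoinRoot.mk_self]
          rw [this, TensorProduct.zero_tmul, map_zero]
        rw [this, mul_zero, add_zero]
    rw [hbot] at hmem
    have h0 : (AdjoinRoot.root ((Polynomial.X : Polynomial k) ^ p)) ⊗ₜ[k] (1 : k) = (0 : A' ⊗[k] k) := hmem
    have h1 := congrArg (TensorProduct.rid k A') h0
    rw [TensorProduct.rid_tmul, map_zero, one_smul, ← AdjoinRoot.mk_X, AdjoinRoot.mk_eq_zero,
      Polynomial.X_pow_dvd_iff] at h1
    have := h1 1 hp.one_lt
    simp at this

end Groth.Agent.S13725
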