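import Groth.Statements.S13726
import Mathlib

set_option autoImplicit false
universe u
open scoped TensorProduct
open ZeroCyc

namespace Groth.Agent.S13726

section
variable {k : Type u} [Field k] (p : ℕ)

/-- the ideal of `p`-th powers of variables -/
noncomputable abbrev Ip : Ideal (MvPolynomial ℕ k) :=
  Ideal.span (Set.range fun i : ℕ => (MvPolynomial.X i : MvPolynomial ℕ k) ^ p)

/-- augmentation `A → k` -/
noncomputable def eps (hp : p ≠ 0) : (MvPolynomial ℕ k ⧸ Ip (k := k) p) →+* k :=
  Ideal.Quotient.lift _ (MvPolynomial.constantCoeff) (by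
    intro a ha
    have : Ip (k := k) p ≤ RingHom.ker (MvPolynomial.constantCoeff : MvPolynomial ℕ k →+* k) := by
      rw [Ideal.span_le]
      rintro _ ⟨i, rfl⟩
      simp [RingHom.mem_ker, hp]
    exact this ha)

/-- the map to dual numbers singling out the variable `N` -/
noncomputable def phiN (hp : 2 ≤ p) (N : ℕ) : (MvPolynomial ℕ k ⧸ Ip (k := k) p) →+* DualNumber k :=
  Ideal.Quotient.lift _
    (MvPolynomial.aeval (R := k) (fun i : ℕ => if i = N then (DualNumber.eps : DualNumber k) else 0)).toRingHom (by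
    intro a ha
    have : Ip (k := k) p ≤ RingHom.ker (MvPolynomial.aeval (R := k)
        (fun i : ℕ => if i = N then (DualNumber.eps : DualNumber k) else 0)).toRingHom := by
      rw [Ideal.span_le]
      rintro _ ⟨i, rfl⟩
      simp only [SetLike.mem_coe, RingHom.mem_ker, AlgHom.toRingHom_eq_coe, RingHom.coe_coe, map_pow,
        MvPolynomial.aeval_X]
      split_ifs with h
      · obtain ⟨m, rfl⟩ := Nat.exists_eq_add_of_le hp
        rw [pow_add, pow_two, DualNumber.eps_mul_eps, zero_mul]
      · exact zero_pow (by omega)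
    exact this ha)

end

lemma pow_eq_zero_of_mem_ker {A : Type u} [CommRing A] (p : ℕ) (hp : p ≠ 0) (b : A)
    (hb : b ∈ PolLaw.ker (PolLaw.MulLaw.pow A A p).law) : b ^ p = 0 := by
  have h1 := hb A 0 1
  have h2 : ((0 : A ⊗[A] A) + 1 * ((1 : A) ⊗ₜ[A] b)) ^ p = (0 : A ⊗[A] A) ^ p := h1
  rw [zero_add, one_mul, zero_pow hp, Algebra.TensorProduct.tmul_pow, one_pow] at h2
  have h3 := congrArg (TensorProduct.lid A A) h2
  rw [TensorProduct.lid_tmul, map_zero, one_smul] at h3
  exact h3

lemma mem_ker_of_pow_eq_zero {A : Type u} [CommRing A] (p : ℕ) (hp : p.Prime) (hpA : (p : A) = 0)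
    (t : A) (ht : t ^ p = 0) : t ∈ PolLaw.ker (PolLaw.MulLaw.pow A A p).law := by
  intro S _ _ x w
  change (x + w * _) ^ p = x ^ p
  rcases subsingleton_or_nontrivial (S ⊗[A] A) with hs | hn
  · exact Subsingleton.elim _ _
  · have hp0 : ((p : ℕ) : S ⊗[A] A) = 0 := by
      have h2 := map_natCast (algebraMap A (S ⊗[A] A)) p
      rw [hpA, map_zero] at h2
      exact h2.symm
    have hc := (CharP.charP_iff_prime_eq_zero (R := S ⊗[A] A) hp).2 hp0
    have : Fact p.Prime := ⟨hp⟩
    rw [add_pow_char, mul_pow, Algebra.TensorProduct.tmul_pow, one_pow, ht, TensorProduct.tmul_zero,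
      mul_zero, add_zero]

/-- Let k be a field of characteristic p > 0 and A = k[t_i : i ∈ ℕ]/(t_i^p : i ∈ ℕ). The law x ↦ x^p
from A to A is multiplicative and homogeneous of degree p over A; its kernel is the ideal generated
by the classes of the variables t_i, and this ideal is not finitely generated. Hence the image of a
family of zero-cycles need not be of finite presentation over the base even when X → S is. -/
theorem result {k : Type u} [Field k] (p : ℕ) [Fact p.Prime] [CharP k p] :
    PolLaw.ker (PolLaw.MulLaw.pow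
        (MvPolynomial ℕ k ⧸ Ideal.span (Set.range fun i : ℕ => (MvPolynomial.X i : MvPolynomial ℕ k) ^ p))
        (MvPolynomial ℕ k ⧸ Ideal.span (Set.range fun i : ℕ => (MvPolynomial.X i : MvPolynomial ℕ k) ^ p)) p).law =
      (Ideal.span (Set.range fun i : ℕ => (MvPolynomial.X i : MvPolynomial ℕ k))).map
        (Ideal.Quotient.mk (Ideal.span (Set.range fun i : ℕ => (MvPolynomial.X i : MvPolynomial ℕ k) ^ p))) ∧
    ¬ (PolLaw.ker (PolLaw.MulLaw.pow
        (MvPolynomial ℕ k ⧸ Ideal.span (Set.range fun i : ℕ => (MvPolynomial.X i : MvPolynomial ℕ k) ^ p))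
        (MvPolynomial ℕ k ⧸ Ideal.span (Set.range fun i : ℕ => (MvPolynomial.X i : MvPolynomial ℕ k) ^ p)) p).law).FG := by
  have hp : p.Prime := Fact.out
  have key : PolLaw.ker (PolLaw.MulLaw.pow (MvPolynomial ℕ k ⧸ Ip (k := k) p)
        (MvPolynomial ℕ k ⧸ Ip (k := k) p) p).law =
      (Ideal.span (Set.range fun i : ℕ => (MvPolynomial.X i : MvPolynomial ℕ k))).map
        (Ideal.Quotient.mk (Ip (k := k) p)) := by
    apply le_antisymm
    · intro b hb
      have h3 := pow_eq_zero_of_mem_ker p hp.ne_zero b hb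
      have h4 : eps (k := k) p hp.ne_zero b = 0 := by
        have := congrArg (eps (k := k) p hp.ne_zero) h3
        rw [map_pow, map_zero] at this
        exact pow_eq_zero_iff hp.ne_zero |>.1 this
      obtain ⟨q, rfl⟩ := Ideal.Quotient.mk_surjective b
      apply Ideal.mem_map_of_mem
      have h5 : MvPolynomial.constantCoeff q = 0 := h4
      have : (Set.range fun i : ℕ => (MvPolynomial.X i : MvPolynomial ℕ k)) =
          MvPolynomial.X '' (Set.univ : Set ℕ) := by
        rw [Set.image_univ]
      rw [this, MvPolynomial.mem_ideal_span_X_image]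
      intro m hm
      by_contra hcon
      push Not at hcon
      have hm0 : m = 0 := by
        ext i
        simpa using hcon i (Set.mem_univ i)
      rw [hm0, MvPolynomial.mem_support_iff] at hm
      exact hm h5
    · rw [Ideal.map_span, Ideal.span_le]
      rintro _ ⟨_, ⟨i, rfl⟩, rfl⟩
      apply mem_ker_of_pow_eq_zero p hp
      · rw [← map_natCast (algebraMap k (MvPolynomial ℕ k ⧸ Ip (k := k) p)) p, CharP.cast_eq_zero k p,
          map_zero]
      · rw [← map_pow, Ideal.Quotient.eq_zero_iff_mem]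
        exact Ideal.subset_span ⟨i, rfl⟩
  refine ⟨key, ?_⟩
  rw [key, Ideal.map_span]
  intro hfg
  obtain ⟨s', hs', hspan⟩ := (Submodule.fg_span_iff_fg_span_finset_subset _).1 hfg
  classical
  have hs'' : (↑s' : Set (MvPolynomial ℕ k ⧸ Ip (k := k) p)) ⊆
      (fun i : ℕ => Ideal.Quotient.mk (Ip (k := k) p) (MvPolynomial.X i)) '' Set.univ := by
    intro x hx
    obtain ⟨_, ⟨i, rfl⟩, rfl⟩ := hs' hx
    exact ⟨i, trivial, rfl⟩
  rw [Finset.subset_set_image_iff] at hs''
  obtain ⟨t, -, rfl⟩ := hs''
  obtain ⟨N, hN⟩ := Infinite.exists_notMem_finset t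
  have hmem : Ideal.Quotient.mk (Ip (k := k) p) (MvPolynomial.X N) ∈
      Ideal.span (⇑(Ideal.Quotient.mk (Ip (k := k) p)) ''
        Set.range fun i : ℕ => (MvPolynomial.X i : MvPolynomial ℕ k)) :=
    Ideal.subset_span ⟨_, ⟨N, rfl⟩, rfl⟩
  rw [Ideal.span, hspan] at hmem
  have hle : Submodule.span (MvPolynomial ℕ k ⧸ Ip (k := k) p)
      (↑(Finset.image (fun i : ℕ => Ideal.Quotient.mk (Ip (k := k) p) (MvPolynomial.X i)) t) : Set _) ≤
      RingHom.ker (phiN (k := k) p hp.two_le N) := by
    rw [← Ideal.span, Ideal.span_le]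
    intro x hx
    rw [Finset.mem_coe, Finset.mem_image] at hx
    obtain ⟨i, hi, rfl⟩ := hx
    have hiN : i ≠ N := fun h => hN (h ▸ hi)
    simp [phiN, hiN]
  have h0 := hle hmem
  have h1 : phiN (k := k) p hp.two_le N (Ideal.Quotient.mk (Ip (k := k) p) (MvPolynomial.X N)) =
      DualNumber.eps := by
    simp [phiN]
  rw [RingHom.mem_ker, h1] at h0
  have := congrArg TrivSqZeroExt.snd h0
  simp at this

end Groth.Agent.S13726
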