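import Groth.Statements.S13728
import Mathlib

set_option autoImplicit false
universe u
open scoped TensorProduct
open ZeroCyc

namespace Groth.Agent.S13728

open PiTensorProduct

section
variable {A : Type u} [CommRing A] {d : ℕ}

theorem tmap_id' (B : Type u) [CommRing B] [Algebra A B] (y : ⨂[A] _ : Fin d, B) :
    SymTen.tmap A d (AlgHom.id A B) y = y := by
  induction y using PiTensorProduct.induction_on with
  | smul_tprod r g => simp
  | add x y hx hy => simp [hx, hy]

theorem tmap_comp' {B C D : Type u} [CommRing B] [Algebra A B] [CommRing C] [Algebra A C]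
    [CommRing D] [Algebra A D] (f : B →ₐ[A] C) (g : C →ₐ[A] D) (y : ⨂[A] _ : Fin d, B) :
    SymTen.tmap A d g (SymTen.tmap A d f y) = SymTen.tmap A d (g.comp f) y := by
  induction y using PiTensorProduct.induction_on with
  | smul_tprod r g => simp
  | add x y hx hy => simp [hx, hy]
end

section main
variable {A : Type u} [CommRing A] {B : Type u} [CommRing B] [Algebra A B]
    {ι : Type u} [Preorder ι] [IsDirected ι (fun i j => i ≤ j)] [Nonempty ι]
    (Bi : ι → Type u) [∀ i, CommRing (Bi i)] [∀ i, Algebra A (Bi i)]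
    (t : ∀ i j : ι, i ≤ j → (Bi i →ₐ[A] Bi j)) (φ : ∀ i : ι, Bi i →ₐ[A] B)
    (hcomp : ∀ (i j : ι) (h : i ≤ j), (φ j).comp (t i j h) = φ i)
    (hsurj : ∀ b : B, ∃ (i : ι) (x : Bi i), φ i x = b)
    (hzero : ∀ (i : ι) (x : Bi i), φ i x = 0 → ∃ (j : ι) (h : i ≤ j), t i j h x = 0)
    (hid : ∀ (i : ι) (h : i ≤ i), t i i h = AlgHom.id A (Bi i))
    (htrans : ∀ (i j k : ι) (hij : i ≤ j) (hjk : j ≤ k), (t j k hjk).comp (t i j hij) = t i k (hij.trans hjk)) (d : ℕ)

include hcomp hsurj in
/-- simultaneous lifting of a finite family -/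
theorem lift_family {n : Type} [Finite n] (b : n → B) (i0 : ι) :
    ∃ (j : ι) (_ : i0 ≤ j) (x : n → Bi j), ∀ k, φ j (x k) = b k := by
  classical
  choose i x hx using fun k => hsurj (b k)
  obtain ⟨j, hj⟩ := Finite.exists_le (fun o : Option n => o.elim i0 i)
  have hjk : ∀ k, i k ≤ j := fun k => hj (some k)
  have hj0 : i0 ≤ j := hj none
  refine ⟨j, hj0, fun k => t (i k) j (hjk k) (x k), fun k => ?_⟩
  have := AlgHom.congr_fun (hcomp (i k) j (hjk k)) (x k)
  simp only [AlgHom.comp_apply] at this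
  rw [this, hx]

include hcomp hzero htrans in
/-- two lifts agree at a later stage -/
theorem lifts_agree {n : Type} [Finite n] (j j' : ι) (x : n → Bi j) (x' : n → Bi j')
    (h : ∀ k, φ j (x k) = φ j' (x' k)) :
    ∃ (m : ι) (hj : j ≤ m) (hj' : j' ≤ m), ∀ k, t j m hj (x k) = t j' m hj' (x' k) := by
  classical
  obtain ⟨j'', h1, h2⟩ := exists_ge_ge j j'
  have hk : ∀ k, ∃ (m : ι) (hm : j'' ≤ m), t j'' m hm (t j j'' h1 (x k) - t j' j'' h2 (x' k)) = 0 := by
    intro k
    apply hzero
    have e1 := AlgHom.congr_fun (hcomp j j'' h1) (x k)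
    have e2 := AlgHom.congr_fun (hcomp j' j'' h2) (x' k)
    simp only [AlgHom.comp_apply] at e1 e2
    rw [map_sub, e1, e2, h k, sub_self]
  choose m hm hmk using hk
  obtain ⟨M, hM⟩ := Finite.exists_le (fun o : Option n => o.elim j'' m)
  have hMk : ∀ k, m k ≤ M := fun k => hM (some k)
  have hM0 : j'' ≤ M := hM none
  refine ⟨M, h1.trans hM0, h2.trans hM0, fun k => ?_⟩
  have e := congrArg (t (m k) M (hMk k)) (hmk k)
  rw [map_zero, ← AlgHom.comp_apply, htrans, map_sub, sub_eq_zero, ← AlgHom.comp_apply,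
    ← AlgHom.comp_apply, htrans, htrans] at e
  exact e
/-- transition maps on tensor powers -/
noncomputable def Tf (i j : ι) (h : i ≤ j) :
    (⨂[A] _ : Fin d, Bi i) →ₗ[A] (⨂[A] _ : Fin d, Bi j) :=
  (SymTen.tmap A d (t i j h)).toLinearMap

include hid htrans in
theorem directedSystem_T :
    DirectedSystem (fun i => ⨂[A] _ : Fin d, Bi i) (fun i j h => (Tf Bi t d i j h : _ → _)) where
  map_self i x := by
    show SymTen.tmap A d (t i i le_rfl) x = x
    rw [hid, tmap_id']
  map_map k j i hij hjk x := by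
    show SymTen.tmap A d (t j k hjk) (SymTen.tmap A d (t i j hij) x) = SymTen.tmap A d (t i k _) x
    rw [tmap_comp', htrans]

theorem upd_lift {j : ι} [DecidableEq (Fin d)] (x : Fin d → Bi j) (b : Fin d → B)
    (hx : ∀ l, φ j (x l) = b l) (k : Fin d) (c : Bi j) (u : B) (hc : φ j c = u) :
    ∀ l, φ j (Function.update x k c l) = Function.update b k u l := by
  intro l
  by_cases h : l = k
  · subst h; simp [hc]
  · simp [Function.update_of_ne h, hx]

include hcomp hsurj hzero hid htrans in
theorem key_inj (i : ι) (y : ⨂[A] _ : Fin d, Bi i) (hy : SymTen.tmap A d (φ i) y = 0) :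
    ∃ (j : ι) (h : i ≤ j), SymTen.tmap A d (t i j h) y = 0 := by
  classical
  haveI := directedSystem_T Bi t hid htrans d
  let of' := fun i => Module.DirectLimit.of A ι (fun i => ⨂[A] _ : Fin d, Bi i) (Tf Bi t d) i
  have indep : ∀ (j j' : ι) (x : Fin d → Bi j) (x' : Fin d → Bi j'),
      (∀ k, φ j (x k) = φ j' (x' k)) → of' j (tprod A x) = of' j' (tprod A x') := by
    intro j j' x x' h
    obtain ⟨m, hj, hj', hm⟩ := lifts_agree Bi t φ hcomp hzero htrans j j' x x' h
    simp only [of']
    rw [← Module.DirectLimit.of_f (hij := hj), ← Module.DirectLimit.of_f (hij := hj')]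
    congr 1
    show SymTen.tmap A d (t j m hj) (tprod A x) = SymTen.tmap A d (t j' m hj') (tprod A x')
    rw [SymTen.tmap_tprod, SymTen.tmap_tprod]
    congr 1
    funext k
    exact hm k
  have hlift : ∀ b : Fin d → B, ∃ (j : ι) (x : Fin d → Bi j), ∀ k, φ j (x k) = b k := by
    intro b
    obtain ⟨j, -, x, hx⟩ := lift_family Bi t φ hcomp hsurj b (Classical.arbitrary ι)
    exact ⟨j, x, hx⟩
  choose J X hX using hlift
  have g_eq : ∀ (b : Fin d → B) (j : ι) (x : Fin d → Bi j), (∀ k, φ j (x k) = b k) →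
      of' (J b) (tprod A (X b)) = of' j (tprod A x) := by
    intro b j x hx
    exact indep _ _ _ _ (fun k => (hX b k).trans (hx k).symm)
  let G : MultilinearMap A (fun _ : Fin d => B)
      (Module.DirectLimit (fun i => ⨂[A] _ : Fin d, Bi i) (Tf Bi t d)) :=
    { toFun := fun b => of' (J b) (tprod A (X b))
      map_update_add' := by
        intro _ b k u v
        obtain ⟨j, -, x, hx⟩ := lift_family Bi t φ hcomp hsurj
          (Sum.elim b (fun e : Bool => if e then u else v)) (Classical.arbitrary ι)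
        have hxb : ∀ l, φ j (x (Sum.inl l)) = b l := fun l => hx (Sum.inl l)
        have hxu : φ j (x (Sum.inr true)) = u := by simpa using hx (Sum.inr true)
        have hxv : φ j (x (Sum.inr false)) = v := by simpa using hx (Sum.inr false)
        rw [g_eq _ j _ (upd_lift Bi φ d _ b hxb k (x (Sum.inr true) + x (Sum.inr false)) (u + v)
            (by rw [map_add, hxu, hxv])),
          g_eq _ j _ (upd_lift Bi φ d _ b hxb k _ u hxu),
          g_eq _ j _ (upd_lift Bi φ d _ b hxb k _ v hxv), ← map_add,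
          MultilinearMap.map_update_add]
      map_update_smul' := by
        intro _ b k a u
        obtain ⟨j, -, x, hx⟩ := lift_family Bi t φ hcomp hsurj
          (Sum.elim b (fun _ : Unit => u)) (Classical.arbitrary ι)
        have hxb : ∀ l, φ j (x (Sum.inl l)) = b l := fun l => hx (Sum.inl l)
        have hxu : φ j (x (Sum.inr ())) = u := by simpa using hx (Sum.inr ())
        rw [g_eq _ j _ (upd_lift Bi φ d _ b hxb k (a • x (Sum.inr ())) (a • u)
            (by rw [map_smul, hxu])),
          g_eq _ j _ (upd_lift Bi φ d _ b hxb k _ u hxu), ← map_smul,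
          MultilinearMap.map_update_smul] }
  have hΨ : ∀ (i : ι) (y : ⨂[A] _ : Fin d, Bi i),
      PiTensorProduct.lift G (SymTen.tmap A d (φ i) y) = of' i y := by
    intro i y
    induction y using PiTensorProduct.induction_on with
    | smul_tprod r x =>
      rw [map_smul, map_smul, map_smul, SymTen.tmap_tprod, PiTensorProduct.lift.tprod]
      congr 1
      exact g_eq _ i x (fun k => rfl)
    | add x y hx hy => rw [map_add, map_add, hx, hy, map_add]
  have h0 := hΨ i y
  rw [hy, map_zero] at h0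
  obtain ⟨j, hij, hj⟩ := Module.DirectLimit.of.zero_exact h0.symm
  exact ⟨j, hij, hj⟩
include hcomp hsurj in
theorem key_surj (z : ⨂[A] _ : Fin d, B) (i0 : ι) :
    ∃ (j : ι) (_ : i0 ≤ j) (y : ⨂[A] _ : Fin d, Bi j), SymTen.tmap A d (φ j) y = z := by
  induction z using PiTensorProduct.induction_on generalizing i0 with
  | smul_tprod r b =>
    obtain ⟨j, hj, x, hx⟩ := lift_family Bi t φ hcomp hsurj b i0
    refine ⟨j, hj, r • tprod A x, ?_⟩
    rw [map_smul, SymTen.tmap_tprod]
    congr 2
    funext k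
    exact hx k
  | add z1 z2 h1 h2 =>
    obtain ⟨j1, hj1, y1, hy1⟩ := h1 i0
    obtain ⟨j2, hj2, y2, hy2⟩ := h2 j1
    refine ⟨j2, hj1.trans hj2, SymTen.tmap A d (t j1 j2 hj2) y1 + y2, ?_⟩
    rw [map_add, tmap_comp', hcomp, hy1, hy2]
end main

/-- The functor B ↦ TS^d_A(B) (symmetric tensors of degree d, the invariants of the symmetric group in
the d-fold tensor power) commutes with filtered direct limits. Concretely, let B be the direct limit
of a directed system (B_i, t_ij : B_i → B_j) of commutative algebras over the commutative ring A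
(t_ii the identity, t_jk ∘ t_ij = t_ik) with structure maps φ_i : B_i → B (compatible with the t_ij,
jointly surjective, and an element of B_i vanishing in B vanishes in some B_j). Then every element
of TS^d_A(B) is the image of an element of some TS^d_A(B_i), and an element of TS^d_A(B_i) whose
image in TS^d_A(B) is zero has image zero in TS^d_A(B_j) for some j ≥ i. -/
theorem result {A : Type u} [CommRing A] {B : Type u} [CommRing B] [Algebra A B]
    {ι : Type u} [Preorder ι] [IsDirected ι (fun i j => i ≤ j)] [Nonempty ι]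
    (Bi : ι → Type u) [∀ i, CommRing (Bi i)] [∀ i, Algebra A (Bi i)]
    (t : ∀ i j : ι, i ≤ j → (Bi i →ₐ[A] Bi j)) (φ : ∀ i : ι, Bi i →ₐ[A] B)
    (hcomp : ∀ (i j : ι) (h : i ≤ j), (φ j).comp (t i j h) = φ i)
    (hsurj : ∀ b : B, ∃ (i : ι) (x : Bi i), φ i x = b)
    (hzero : ∀ (i : ι) (x : Bi i), φ i x = 0 → ∃ (j : ι) (h : i ≤ j), t i j h x = 0)
    (hid : ∀ (i : ι) (h : i ≤ i), t i i h = AlgHom.id A (Bi i))
    (htrans : ∀ (i j k : ι) (hij : i ≤ j) (hjk : j ≤ k), (t j k hjk).comp (t i j hij) = t i k (hij.trans hjk)) (d : ℕ) :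
    (∀ z : SymTen.TS A B d, ∃ (i : ι) (y : SymTen.TS A (Bi i) d), SymTen.TSmap A d (φ i) y = z) ∧
      ∀ (i : ι) (y : SymTen.TS A (Bi i) d), SymTen.TSmap A d (φ i) y = 0 →
        ∃ (j : ι) (h : i ≤ j), SymTen.TSmap A d (t i j h) y = 0 := by
  classical
  have hTS : ∀ {R R' : Type u} [CommRing R] [Algebra A R] [CommRing R'] [Algebra A R']
      (f : R →ₐ[A] R') (y : SymTen.TS A R d), (SymTen.TSmap A d f y).1 = SymTen.tmap A d f y.1 :=
    fun f y => rfl
  constructor
  · intro z
    obtain ⟨i, -, y, hy⟩ := key_surj Bi t φ hcomp hsurj d z.1 (Classical.arbitrary ι)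
    have hσ : ∀ σ : Equiv.Perm (Fin d), ∃ (j : ι) (h : i ≤ j), SymTen.tmap A d (t i j h)
        (PiTensorProduct.reindex A (fun _ : Fin d => Bi i) σ y - y) = 0 := by
      intro σ
      apply key_inj Bi t φ hcomp hsurj hzero hid htrans d
      rw [map_sub, SymTen.tmap_reindex, hy, z.2 σ, sub_self]
    choose J hJ hJ0 using hσ
    obtain ⟨M, hM⟩ := Finite.exists_le (fun o : Option (Equiv.Perm (Fin d)) => o.elim i J)
    have hMσ : ∀ σ, J σ ≤ M := fun σ => hM (some σ)
    have hiM : i ≤ M := hM none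
    have hsym : SymTen.tmap A d (t i M hiM) y ∈ SymTen.TS A (Bi M) d := by
      intro σ
      have h1 := congrArg (SymTen.tmap A d (t (J σ) M (hMσ σ))) (hJ0 σ)
      rw [map_zero, tmap_comp', htrans, map_sub, sub_eq_zero, SymTen.tmap_reindex] at h1
      exact h1
    refine ⟨M, ⟨_, hsym⟩, Subtype.ext ?_⟩
    rw [hTS]
    show SymTen.tmap A d (φ M) (SymTen.tmap A d (t i M hiM) y) = z.1
    rw [tmap_comp', hcomp, hy]
  · intro i y hy
    have h1 : SymTen.tmap A d (φ i) y.1 = 0 := by
      rw [← hTS, hy]; rfl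
    obtain ⟨j, hij, hj⟩ := key_inj Bi t φ hcomp hsurj hzero hid htrans d i y.1 h1
    refine ⟨j, hij, Subtype.ext ?_⟩
    rw [hTS, hj]
    rfl

end Groth.Agent.S13728
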