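import Groth.Statements.S13730
import Mathlib
import Groth.Agent.H14Lib.RedG1
import Groth.Agent.H14Lib.RedG2
import Groth.Agent.S13873
import Groth.Agent.S13729

set_option autoImplicit false
universe u
open scoped TensorProduct
open ZeroCyc

namespace Groth.Agent.S13730


/-- Let (C, γ) be the algebra of divided powers Γ^d_A(B) of a commutative A-algebra B with its universal
multiplicative law γ : B → C homogeneous of degree d (every multiplicative law B → C' homogeneous of
degree d factors uniquely through γ by an algebra map C → C'). If B is flat over A and K ⊗_A B is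
reduced for every field K receiving a ring map from A (X = Spec B → S = Spec A is flat with
geometrically reduced fibres), then K ⊗_A C is reduced for every such K: Γ^d_A(B) again has
geometrically reduced fibres over A. (The published statement is for a flat morphism of algebraic
spaces X → S with geometrically reduced fibres and also records that Γ^d(X/S) → S is flat; this row
is the affine case and states only the reducedness of the fibres, flatness of Γ^d_A(B) for flat B
being a separate statement.) -/
theorem result {A : Type u} [CommRing A] {B : Type u} [CommRing B] [Algebra A B] {C : Type u} [CommRing C] [Algebra A C]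
    {d : ℕ} (γ : PolLaw.MulLaw A B C d) (hγ : PolLaw.IsGammaD γ) [Module.Flat A B]
    (hred : ∀ (K : Type u) [Field K] [Algebra A K], IsReduced (K ⊗[A] B)) :
    ∀ (K : Type u) [Field K] [Algebra A K], IsReduced (K ⊗[A] C) := by
  intro K _ _
  haveI hCflat : Module.Flat A C := Groth.Agent.S13729.result γ hγ
  obtain ⟨τ, -, hτ⟩ := Groth.Agent.S13873.result (A := A) (B := B) d (Or.inl inferInstance)
  obtain ⟨e⟩ := Groth.Agent.H14Lib.TSG.nonempty_algEquiv_of_isGammaD γ hγ τ hτ
  have key : ∀ (L : Type u) [Field L] [IsAlgClosed L] [Algebra A L], IsReduced (L ⊗[A] C) := by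
    intro L _ _ _
    haveI := Groth.Agent.H14Lib.RedG.isReduced_tensor_tpower (A := A) (B := B) L (hred L) d
    let f1 : L ⊗[A] C →ₐ[L] L ⊗[A] SymTen.TS A B d :=
      Algebra.TensorProduct.map (AlgHom.id L L) e.toAlgHom
    let f2 : L ⊗[A] SymTen.TS A B d →ₐ[L] L ⊗[A] (⨂[A] _ : Fin d, B) :=
      Algebra.TensorProduct.map (AlgHom.id L L) (SymTen.TS A B d).val
    have hf1 : Function.Injective f1 :=
      (Algebra.TensorProduct.congr (AlgEquiv.refl (R := L) (A₁ := L)) e).injective
    have hf2 : Function.Injective f2 := by
      intro x y hxy
      apply Groth.Agent.H14Lib.RedG.lTensor_TS_injective (A := A) (B := B) (d := d) L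
      rw [PolLaw.lTensor_algHom_apply, PolLaw.lTensor_algHom_apply]
      exact hxy
    exact isReduced_of_injective (f2.comp f1).toRingHom (hf2.comp hf1)
  haveI := key (AlgebraicClosure K)
  let g : K ⊗[A] C →ₐ[A] AlgebraicClosure K ⊗[A] C :=
    Algebra.TensorProduct.map (IsScalarTower.toAlgHom A K (AlgebraicClosure K)) (AlgHom.id A C)
  have hg : Function.Injective g := by
    have h := Module.Flat.rTensor_preserves_injective_linearMap (M := C)
      (IsScalarTower.toAlgHom A K (AlgebraicClosure K)).toLinearMap
      (algebraMap K (AlgebraicClosure K)).injective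
    intro x y hxy
    apply h
    rw [PolLaw.rTensor_algHom_apply, PolLaw.rTensor_algHom_apply]
    exact hxy
  exact isReduced_of_injective g.toRingHom hg

end Groth.Agent.S13730
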