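import Mathlib
import Groth.Statements.S13738
import Groth.Agent.Lib.Helper9.SigmaFin
-- import your own Groth.Agent.* helpers here

set_option autoImplicit false
universe u
open SGA1

namespace Groth.Agent.S13738


open CategoryTheory CategoryTheory.Limits AlgebraicGeometry in
/-- Let S be a separated irreducible Noetherian scheme, q : X → S finite and surjective with X
separated, and G a finite group acting on X by S-automorphisms, transitively on the geometric points
of X over every geometric point of S. Then every irreducible component of X maps onto S and G acts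
transitively on the set of irreducible components of X. -/
theorem result {X S : Scheme.{u}} [IsNoetherian S] [S.IsSeparated] [X.IsSeparated] [IrreducibleSpace ↥S] (q : X ⟶ S) [IsFinite q] [Surjective q] {G : Type u} [Group G] [Finite G] (ρ : G →* Aut X) (hρ : ∀ g : G, (ρ g).hom ≫ q = q) (htrans : ∀ (Ω : Type u) [Field Ω] [IsAlgClosed Ω] (τ₁ τ₂ : Spec (CommRingCat.of Ω) ⟶ X), τ₁ ≫ q = τ₂ ≫ q → ∃ g : G, τ₁ ≫ (ρ g).hom = τ₂) : (∀ T ∈ irreducibleComponents ↥X, Set.image (fun x => q x) T = Set.univ) ∧ ∀ T₁ ∈ irreducibleComponents ↥X, ∀ T₂ ∈ irreducibleComponents ↥X, ∃ g : G, Set.image (fun x => (ρ g).hom x) T₁ = T₂ := by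
  classical
  have hpt := Groth.Agent.Helper9.SigmaFin.pointTrans q ρ htrans
  have hρpt : ∀ (g : G) (x : X), q ((ρ g).hom x) = q x := by
    intro g x
    have h0 : ((ρ g).hom ≫ q) x = q x := by rw [hρ g]
    rw [Scheme.Hom.comp_apply] at h0
    exact h0
  have hmul : ∀ (a b : G) (z : X), (ρ (a * b)).hom z = (ρ a).hom ((ρ b).hom z) := by
    intro a b z
    have h0 : (ρ (a * b)).hom = (ρ b).hom ≫ (ρ a).hom := by rw [map_mul]; rfl
    rw [h0, Scheme.Hom.comp_apply]
  obtain ⟨x₀, hx₀⟩ := q.surjective (genericPoint S)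
  have hT₀closed : IsClosed (irreducibleComponent x₀) := isClosed_irreducibleComponent
  have hqT₀ : ∀ s : S, ∃ x ∈ irreducibleComponent x₀, q x = s := by
    intro s
    have hcl : IsClosed (q '' irreducibleComponent x₀) := q.isClosedMap _ hT₀closed
    have hη : genericPoint S ∈ q '' irreducibleComponent x₀ := ⟨x₀, mem_irreducibleComponent, hx₀⟩
    have hsub : closure {genericPoint S} ⊆ q '' irreducibleComponent x₀ :=
      hcl.closure_subset_iff.mpr (Set.singleton_subset_iff.mpr hη)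
    have huniv : closure {genericPoint S} = Set.univ := (genericPoint_spec S).def
    have hs : s ∈ q '' irreducibleComponent x₀ := hsub (by rw [huniv]; trivial)
    obtain ⟨x, hx, hxs⟩ := hs
    exact ⟨x, hx, hxs⟩
  have key : ∀ T ∈ irreducibleComponents X,
      ∃ g : G, (fun x => (ρ g).hom x) '' irreducibleComponent x₀ = T := by
    intro T hT
    have hTirr : IsIrreducible T := hT.1
    have hTcl : IsClosed T := isClosed_of_mem_irreducibleComponents T hT
    obtain ⟨ξ, hξ⟩ := QuasiSober.sober hTirr hTcl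
    obtain ⟨x₁, hx₁, hqx₁⟩ := hqT₀ (q ξ)
    obtain ⟨g, hg⟩ := hpt x₁ ξ hqx₁
    refine ⟨g, ?_⟩
    have hirr' : IsIrreducible ((fun x => (ρ g).hom x) '' irreducibleComponent x₀) :=
      (isIrreducible_irreducibleComponent).image _ ((ρ g).hom.continuous.continuousOn)
    have hcl' : IsClosed ((fun x => (ρ g).hom x) '' irreducibleComponent x₀) :=
      (Scheme.homeoOfIso (ρ g)).isClosedMap _ hT₀closed
    have hξmem : ξ ∈ (fun x => (ρ g).hom x) '' irreducibleComponent x₀ := ⟨x₁, hx₁, hg⟩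
    have hsub : T ⊆ (fun x => (ρ g).hom x) '' irreducibleComponent x₀ := by
      rw [← hξ.def]
      exact hcl'.closure_subset_iff.mpr (Set.singleton_subset_iff.mpr hξmem)
    exact (hT.eq_of_subset hirr' hsub).symm
  constructor
  · intro T hT
    obtain ⟨g, rfl⟩ := key T hT
    apply Set.eq_univ_of_forall
    intro s
    obtain ⟨x, hx, hxs⟩ := hqT₀ s
    exact ⟨(ρ g).hom x, ⟨x, hx, rfl⟩, (hρpt g x).trans hxs⟩
  · intro T₁ hT₁ T₂ hT₂
    obtain ⟨g₁, rfl⟩ := key T₁ hT₁
    obtain ⟨g₂, rfl⟩ := key T₂ hT₂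
    refine ⟨g₂ * g₁⁻¹, ?_⟩
    ext y
    constructor
    · rintro ⟨_, ⟨x, hx, rfl⟩, rfl⟩
      refine ⟨x, hx, ?_⟩
      show (ρ g₂).hom x = (ρ (g₂ * g₁⁻¹)).hom ((ρ g₁).hom x)
      rw [← hmul, inv_mul_cancel_right]
    · rintro ⟨x, hx, rfl⟩
      refine ⟨(ρ g₁).hom x, ⟨x, hx, rfl⟩, ?_⟩
      show (ρ (g₂ * g₁⁻¹)).hom ((ρ g₁).hom x) = (ρ g₂).hom x
      rw [← hmul, inv_mul_cancel_right]

end Groth.Agent.S13738
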