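import Mathlib
import Groth.Statements.S13739
import Groth.Agent.Lib.Helper9.SigmaFin
-- import your own Groth.Agent.* helpers here

set_option autoImplicit false
universe u
open SGA1

namespace Groth.Agent.S13739


open CategoryTheory CategoryTheory.Limits AlgebraicGeometry in
/-- Let S be a separated Noetherian scheme, q : X → S finite surjective with X separated, G a finite
group acting on X by S-automorphisms and transitively on the geometric points of X over every
geometric point of S, and r : Y → X a morphism with Y separated. If υ is the morphism from the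
disjoint union of G copies of Y to Y ×_S X (Y over S through r ≫ q) whose σ-th component is (id_Y, r
≫ σ), then υ is finite and surjective. -/
theorem result {X S Y : Scheme.{u}} [IsNoetherian S] [S.IsSeparated] [X.IsSeparated] [Y.IsSeparated] (q : X ⟶ S) [IsFinite q] [Surjective q] {G : Type u} [Group G] [Finite G] (ρ : G →* Aut X) (hρ : ∀ g : G, (ρ g).hom ≫ q = q) (htrans : ∀ (Ω : Type u) [Field Ω] [IsAlgClosed Ω] (τ₁ τ₂ : Spec (CommRingCat.of Ω) ⟶ X), τ₁ ≫ q = τ₂ ≫ q → ∃ g : G, τ₁ ≫ (ρ g).hom = τ₂) (r : Y ⟶ X) (υ : (∐ fun _ : G => Y) ⟶ pullback (r ≫ q) q) (hυ₁ : ∀ σ : G, Sigma.ι (fun _ : G => Y) σ ≫ υ ≫ pullback.fst (r ≫ q) q = 𝟙 Y) (hυ₂ : ∀ σ : G, Sigma.ι (fun _ : G => Y) σ ≫ υ ≫ pullback.snd (r ≫ q) q = r ≫ (ρ σ).hom) : IsFinite υ ∧ Surjective υ := by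
  constructor
  · have hcomp : υ ≫ pullback.fst (r ≫ q) q = Sigma.desc (fun _ : G => 𝟙 Y) := by
      refine Sigma.hom_ext _ _ (fun σ => ?_)
      rw [Sigma.ι_desc]; exact hυ₁ σ
    haveI : IsFinite (υ ≫ pullback.fst (r ≫ q) q) := by
      rw [hcomp]
      exact Groth.Agent.Helper9.SigmaFin.isFinite_sigmaDesc G _ _ _ (fun _ => inferInstance)
    exact IsFinite.of_comp υ (pullback.fst (r ≫ q) q)
  · refine ⟨fun z => ?_⟩
    obtain ⟨Ω, _, _, c, hc⟩ := Groth.Agent.Helper9.SigmaFin.exists_geomPoint z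
    obtain ⟨g, hg⟩ := htrans Ω ((c ≫ pullback.fst (r ≫ q) q) ≫ r) (c ≫ pullback.snd (r ≫ q) q)
      (by rw [Category.assoc, Category.assoc, Category.assoc, ← pullback.condition])
    have heq : c = (c ≫ pullback.fst (r ≫ q) q) ≫ Sigma.ι (fun _ : G => Y) g ≫ υ := by
      refine pullback.hom_ext ?_ ?_
      · rw [Category.assoc, Category.assoc, Category.assoc, hυ₁ g, Category.comp_id]
      · rw [Category.assoc, Category.assoc, Category.assoc, hυ₂ g, ← hg, Category.assoc,
          Category.assoc]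
    refine ⟨(Sigma.ι (fun _ : G => Y) g) ((c ≫ pullback.fst (r ≫ q) q)
      (IsLocalRing.closedPoint Ω)), ?_⟩
    rw [← Scheme.Hom.comp_apply, ← Scheme.Hom.comp_apply, ← heq]
    exact hc

end Groth.Agent.S13739
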