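import Mathlib
import Groth.Statements.S13741
import Groth.Agent.Lib.Helper9.QuotGeom
-- import your own Groth.Agent.* helpers here

set_option autoImplicit false
universe u
open SGA1

namespace Groth.Agent.S13741


open CategoryTheory CategoryTheory.Limits AlgebraicGeometry in
/-- Let S be a separated Noetherian scheme, q : X → S finite and surjective with X separated, and G a
finite group acting on X by S-automorphisms. Assume that G acts transitively on every fibre of q,
that each residue field extension k(x)/k(q x) is normal, and that for each x every k(q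
x)-automorphism of k(x) is induced by an element of G fixing x. Then for every algebraically closed
field Ω, any two Ω-points of X with the same composite to S are conjugate under G. -/
theorem result {X S : Scheme.{u}} [IsNoetherian S] [S.IsSeparated] [X.IsSeparated] (q : X ⟶ S) [IsFinite q] [Surjective q] {G : Type u} [Group G] [Finite G] (ρ : G →* Aut X) (hρ : ∀ g : G, (ρ g).hom ≫ q = q) (h1 : ∀ x y : X, q x = q y → ∃ g : G, (ρ g).hom x = y) (h2 : ∀ x : X, @Normal (S.residueField (q x)) (X.residueField x) _ _ (q.residueFieldMap x).hom.toAlgebra) (h3 : ∀ (x : X) (σ : X.residueField x ≅ X.residueField x), q.residueFieldMap x ≫ σ.hom = q.residueFieldMap x → ∃ g : G, X.fromSpecResidueField x ≫ (ρ g).hom = Spec.map σ.hom ≫ X.fromSpecResidueField x) (Ω : Type u) [Field Ω] [IsAlgClosed Ω] (τ₁ τ₂ : Spec (CommRingCat.of Ω) ⟶ X) (hτ : τ₁ ≫ q = τ₂ ≫ q) : ∃ g : G, τ₁ ≫ (ρ g).hom = τ₂ := by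
  have hdec : ∀ c : Spec (.of Ω) ⟶ X, ∃ (x : X) (ι : X.residueField x ⟶ .of Ω),
      c = Spec.map ι ≫ X.fromSpecResidueField x := fun c =>
    ⟨_, _, ((X.SpecToEquivOfField Ω).symm_apply_apply c).symm⟩
  have hpt : ∀ (x : X) (ι : X.residueField x ⟶ .of Ω),
      (Spec.map ι ≫ X.fromSpecResidueField x).base (IsLocalRing.closedPoint Ω) = x := by
    intro x ι
    rw [Scheme.Hom.comp_base, TopCat.comp_app]
    exact Scheme.fromSpecResidueField_apply x _
  obtain ⟨x₂, ι₂, hc₂⟩ := hdec τ₂
  obtain ⟨x₁, ι₁, hc₁⟩ := hdec τ₁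
  have hp12 : q.base x₁ = q.base x₂ := by
    have h0 : (τ₁ ≫ q).base (IsLocalRing.closedPoint Ω) =
        (τ₂ ≫ q).base (IsLocalRing.closedPoint Ω) := by rw [hτ]
    rw [Scheme.Hom.comp_base, Scheme.Hom.comp_base, TopCat.comp_app, TopCat.comp_app, hc₁, hc₂,
      hpt, hpt] at h0
    exact h0
  obtain ⟨g₀, hg₀⟩ := h1 x₁ x₂ hp12
  obtain ⟨x', ι', hc'⟩ := hdec (τ₁ ≫ (ρ g₀).hom)
  have hx' : x' = x₂ := by
    have h0 : (τ₁ ≫ (ρ g₀).hom).base (IsLocalRing.closedPoint Ω) =
        (Spec.map ι' ≫ X.fromSpecResidueField x').base (IsLocalRing.closedPoint Ω) := by rw [hc']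
    rw [hpt, Scheme.Hom.comp_base, TopCat.comp_app, hc₁, hpt] at h0
    rw [← h0]; exact hg₀
  subst hx'
  have h' : (Spec.map ι' ≫ X.fromSpecResidueField x') ≫ q =
      (Spec.map ι₂ ≫ X.fromSpecResidueField x') ≫ q := by
    rw [← hc', ← hc₂, Category.assoc, hρ, hτ]
  have h1' : q.residueFieldMap x' ≫ ι' = q.residueFieldMap x' ≫ ι₂ := by
    rw [Category.assoc, Category.assoc, ← Scheme.Hom.SpecMap_residueFieldMap_fromSpecResidueField,
      ← Spec.map_comp_assoc, ← Spec.map_comp_assoc, cancel_mono] at h'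
    exact Spec.map_injective h'
  letI := (q.residueFieldMap x').hom.toAlgebra
  haveI : Normal (S.residueField (q.base x')) (X.residueField x') := h2 x'
  obtain ⟨τ, hτ'⟩ := Groth.Agent.Helper9.QuotGeom.exists_aut_of_emb
    (F := S.residueField (q.base x')) (E := X.residueField x')
    (L := Ω) ι'.hom ι₂.hom (by ext a; exact congrArg (fun φ => φ.hom a) h1')
  obtain ⟨σ, hσdef⟩ : ∃ σ : X.residueField x' ≅ X.residueField x',
      σ = τ.toRingEquiv.toCommRingCatIso := ⟨_, rfl⟩
  have hσapp : ∀ a, σ.hom.hom a = τ a := by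
    intro a; rw [hσdef]; rfl
  have hσ : q.residueFieldMap x' ≫ σ.hom = q.residueFieldMap x' := by
    ext a
    change σ.hom.hom ((q.residueFieldMap x').hom a) = _
    rw [hσapp]
    exact τ.commutes a
  obtain ⟨g, hg⟩ := h3 x' σ hσ
  have h3' : σ.hom ≫ ι' = ι₂ := by
    ext a
    change ι'.hom (σ.hom.hom a) = _
    rw [hσapp]
    exact hτ' a
  refine ⟨g * g₀, ?_⟩
  have hmul : (ρ (g * g₀)).hom = (ρ g₀).hom ≫ (ρ g).hom := by rw [map_mul]; rfl
  rw [hmul, ← Category.assoc, hc', Category.assoc, hg, ← Category.assoc, ← Spec.map_comp, h3', hc₂]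

end Groth.Agent.S13741
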