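import Groth.Statements.S13758
import Mathlib
import Groth.Agent.Lib.Helper7.CycLat
import Groth.Agent.Lib.Helper7.LatLoc
-- import your own Groth.Agent.* helpers here

set_option autoImplicit false
universe u
open LabGraph

namespace Groth.Agent.S13758

open Groth.Agent.Helper7.LabG Groth.Agent.Helper7.MatTree

/-- Let G be a finite connected multigraph with vertex set V, edge set E, endpoint map E → V × V (whose
component order fixes an orientation) and positive integer edge labels l. Then the labels along
every circuit of G have greatest common divisor 1 (G is circuit-coprime) if and only if, for every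
integer edge vector x, there is an integer edge vector y such that x − l·y is orthogonal to every
integer cycle: Σ_e γ(e) (x(e) − l(e) y(e)) = 0 for all γ : E → ℤ with zero boundary. (The published
statement says that the r nonzero diagonal entries of the Smith normal form of the labelled circuit
matrix, r the first Betti number, are all equal to 1; since the fundamental circuits of a spanning
tree form a basis of the lattice of integer cycles, this is the surjectivity of x ↦ (γ ↦ Σ_e γ(e)
l(e) x(e)) from ℤ^E onto the dual of the cycle lattice, which is the condition stated here.) -/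
theorem result
    {V E : Type u} [Fintype V] [Fintype E] [DecidableEq V] [DecidableEq E]
    (ends : E → V × V) (l : E → ℕ) (hl : ∀ e, 0 < l e) (hconn : LabGraph.Connected ends) :
    LabGraph.IsCircuitCoprime ends l ↔
      ∀ x : E → ℤ, ∃ y : E → ℤ, ∀ γ : E → ℤ, (∀ v : V, LabGraph.boundary ends γ v = 0) →
        ∑ e : E, γ e * (x e - (l e : ℤ) * y e) = 0 := by
  classical
  constructor
  · intro hcc
    let H : Submodule ℤ (E → ℤ) :=
      { carrier := {x | ∃ y : E → ℤ, ∀ γ : E → ℤ, (∀ v, LabGraph.boundary ends γ v = 0) →
          ∑ e, γ e * (x e - (l e : ℤ) * y e) = 0}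
        zero_mem' := ⟨0, fun γ _ => by simp⟩
        add_mem' := by
          rintro x₁ x₂ ⟨y₁, h₁⟩ ⟨y₂, h₂⟩
          refine ⟨y₁ + y₂, fun γ hγ => ?_⟩
          calc ∑ e, γ e * ((x₁ + x₂) e - (l e : ℤ) * (y₁ + y₂) e)
              = ∑ e, γ e * (x₁ e - (l e : ℤ) * y₁ e) + ∑ e, γ e * (x₂ e - (l e : ℤ) * y₂ e) := by
                rw [← Finset.sum_add_distrib]
                exact Finset.sum_congr rfl fun e _ => by simp only [Pi.add_apply]; ring
            _ = 0 := by rw [h₁ γ hγ, h₂ γ hγ, add_zero]
        smul_mem' := by
          rintro n x ⟨y, h⟩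
          refine ⟨n • y, fun γ hγ => ?_⟩
          calc ∑ e, γ e * ((n • x) e - (l e : ℤ) * (n • y) e)
              = n * ∑ e, γ e * (x e - (l e : ℤ) * y e) := by
                rw [Finset.mul_sum]
                exact Finset.sum_congr rfl fun e _ => by
                  simp only [Pi.smul_apply, smul_eq_mul]; ring
            _ = 0 := by rw [h γ hγ, mul_zero] }
    have hN0 : 0 < ∏ e, l e := Finset.prod_pos fun e _ => hl e
    have hN : ∀ x : E → ℤ, ((∏ e, l e : ℕ) : ℤ) • x ∈ H := by
      intro x
      refine ⟨fun e => (((∏ e', l e') / l e : ℕ) : ℤ) * x e, fun γ _ => ?_⟩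
      refine Finset.sum_eq_zero fun e _ => ?_
      have h1 : l e * ((∏ e', l e') / l e) = ∏ e', l e' :=
        Nat.mul_div_cancel' (Finset.dvd_prod_of_mem l (Finset.mem_univ e))
      have h2 : ((l e : ℕ) : ℤ) * (((∏ e', l e') / l e : ℕ) : ℤ) = ((∏ e', l e' : ℕ) : ℤ) := by
        exact_mod_cast h1
      simp only [Pi.smul_apply, smul_eq_mul]
      rw [← mul_assoc, h2, sub_self, mul_zero]
    have hfun : ∀ p : ℕ, p.Prime → ∀ c : E → ZMod p,
        (∀ h ∈ H, ∑ e, (h e : ZMod p) * c e = 0) → c = 0 := by
      intro p hp c hc
      haveI : Fact p.Prime := ⟨hp⟩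
      have hα : ∀ f : E, (l f : ZMod p) * c f = 0 := by
        intro f
        have hmem : ((l f : ℕ) : ℤ) • (Pi.single f 1 : E → ℤ) ∈ H := by
          refine ⟨Pi.single f 1, fun γ _ => Finset.sum_eq_zero fun e _ => ?_⟩
          simp only [Pi.smul_apply, smul_eq_mul, Pi.single_apply]
          by_cases h : e = f
          · rw [if_pos h, h]; ring
          · rw [if_neg h]; ring
        have h1 := hc _ hmem
        rw [Finset.sum_eq_single f] at h1
        · simpa using h1
        · intro e _ hne
          simp [Pi.single_apply, hne]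
        · intro h; exact absurd (Finset.mem_univ _) h
      have hβ : ∑ e, c e • bvec ends (ZMod p) e = 0 := by
        funext v
        have hmem : (fun e => bvec ends ℤ e v) ∈ H := by
          refine ⟨0, fun γ hγ => ?_⟩
          have h1 := hγ v
          rw [boundary_eq] at h1
          simpa using h1
        have h2 := hc _ hmem
        rw [Finset.sum_apply]
        simp only [Pi.smul_apply, smul_eq_mul, Pi.zero_apply]
        rw [← h2]
        refine Finset.sum_congr rfl fun e _ => ?_
        rw [bvec_apply, bvec_apply]
        push_cast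
        ring
      by_contra hne
      by_cases hcirc : ∃ C : Finset E, C ⊆ Finset.univ.filter (fun e => c e ≠ 0) ∧
          LabGraph.IsCircuit ends C
      · obtain ⟨C, hCD, hC⟩ := hcirc
        have h1 : (p : ℕ) ∣ C.gcd l := by
          apply Finset.dvd_gcd
          intro e he
          have hce : c e ≠ 0 := (Finset.mem_filter.1 (hCD he)).2
          rcases mul_eq_zero.1 (hα e) with h | h
          · exact (ZMod.natCast_eq_zero_iff _ _).1 h
          · exact absurd h hce
        rw [hcc C hC] at h1
        exact hp.one_lt.ne' (Nat.dvd_one.1 h1)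
      · push Not at hcirc
        have hsum : ∑ e ∈ Finset.univ.filter (fun e => c e ≠ 0), c e • bvec ends (ZMod p) e = 0 := by
          rw [← hβ]
          apply Finset.sum_subset (Finset.subset_univ _)
          intro e _ he
          have h0 : c e = 0 := by
            by_contra h; exact he (Finset.mem_filter.2 ⟨Finset.mem_univ _, h⟩)
          rw [h0, zero_smul]
        have h0 := forest_indep ends (ZMod p) (fun C hCD hC => hcirc C hCD hC) c hsum
        apply hne
        funext e
        by_contra h
        exact h (h0 e (Finset.mem_filter.2 ⟨Finset.mem_univ _, h⟩))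
    have hH : H = ⊤ :=
      Groth.Agent.Helper7.LatLoc.eq_top_of_functionals H _ hN0 hN hfun
    intro x
    have hx : x ∈ H := hH ▸ Submodule.mem_top
    exact hx
  · intro hR C hC
    obtain ⟨e₀, he₀⟩ := hC.1
    obtain ⟨γ, hγ0, hγsupp, hγcyc⟩ := exists_cycle_of_even ends hC.2.1 he₀
    obtain ⟨y, hy⟩ := hR (Pi.single e₀ 1)
    have h3 := hy γ hγcyc
    have h4 : (1:ℤ) = ∑ e ∈ C, (l e : ℤ) * (γ e * y e) := by
      have h5 : ∑ e, γ e * ((Pi.single e₀ (1:ℤ) : E → ℤ) e - (l e : ℤ) * y e) =
          γ e₀ - ∑ e, (l e : ℤ) * (γ e * y e) := by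
        simp only [mul_sub, Finset.sum_sub_distrib, Pi.single_apply, mul_ite, mul_one, mul_zero,
          Finset.sum_ite_eq', Finset.mem_univ, if_true]
        congr 1
        exact Finset.sum_congr rfl fun e _ => by ring
      rw [h5, hγ0] at h3
      have h6 : ∑ e, (l e : ℤ) * (γ e * y e) = ∑ e ∈ C, (l e : ℤ) * (γ e * y e) := by
        symm
        apply Finset.sum_subset (Finset.subset_univ _)
        intro e _ he
        rw [hγsupp e he]; ring
      rw [← h6]; linarith
    have h7 : ((C.gcd l : ℕ) : ℤ) ∣ 1 := by
      rw [h4]
      refine Finset.dvd_sum fun e he => Dvd.dvd.mul_right ?_ _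
      exact Int.natCast_dvd_natCast.2 (Finset.gcd_dvd he)
    have h8 : (C.gcd l : ℕ) ∣ 1 := Int.natCast_dvd_natCast.1 (by simpa using h7)
    exact Nat.dvd_one.1 h8

end Groth.Agent.S13758
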