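import Groth.Statements.S13759
import Mathlib
import Groth.Agent.Lib.Helper7.BlowUp
-- import your own Groth.Agent.* helpers here

set_option autoImplicit false
universe u
open LabGraph

namespace Groth.Agent.S13759

open Groth.Agent.Helper7.BlowUp

/-- Let G be a finite connected multigraph with vertex set V, edge set E, endpoint map E → V × V and
positive integer edge labels l, and let G̃ be its total blow-up graph: every edge e is replaced by a
path of l(e) edges through l(e) − 1 new vertices, all new edges labelled 1 (so every vertex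
labelling of G̃ is Cartier and its multidegree is the sum over edge-ends of the differences of
values). Let H, resp. H̃, be the cokernel of the multidegree operator from Cartier vertex labellings
of G to ℤ^V, resp. of G̃ to ℤ^Ṽ, and ε : H → H̃ the map induced by extending vertex labellings of G
by zero on the new vertices. Then ε is injective: if a vertex labelling α of G, extended by zero, is
the multidegree of some vertex labelling of G̃, then α is the multidegree of some Cartier vertex
labelling of G. -/
theorem result
    {V E : Type u} [Fintype V] [Fintype E] [DecidableEq V] [DecidableEq E]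
    (ends : E → V × V) (l : E → ℕ) (hl : ∀ e, 0 < l e) (hconn : LabGraph.Connected ends)
    (α : V → ℤ) (ψ : LabGraph.BlVert V E l → ℤ)
    (hψ : ∀ w : LabGraph.BlVert V E l,
      LabGraph.mdeg (LabGraph.blEnds ends l) (fun _ => 1) ψ w = Sum.elim α (fun _ => (0 : ℤ)) w) :
    ∃ φ : V → ℤ, LabGraph.IsCartier ends l φ ∧ ∀ v : V, LabGraph.mdeg ends l φ v = α v := by
  have hharm : ∀ e, ∀ i, i + 1 < l e →
      (ψ (LabGraph.pathVert ends l e (i + 1 + 1)) - ψ (LabGraph.pathVert ends l e (i + 1))) +
        (ψ (LabGraph.pathVert ends l e i) - ψ (LabGraph.pathVert ends l e (i + 1))) = 0 := by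
    intro e i hi
    have h1 := hψ (Sum.inr ⟨e, ⟨i, by omega⟩⟩)
    rw [mdeg_bl_inr] at h1
    exact h1
  obtain ⟨φ, hφ⟩ : ∃ φ : V → ℤ, ∀ v, φ v = ψ (Sum.inl v) := ⟨_, fun _ => rfl⟩
  have hP0 : ∀ e, ψ (LabGraph.pathVert ends l e 0) = φ (ends e).1 := fun e => by
    rw [pathVert_zero, hφ]
  have hPl : ∀ e, ψ (LabGraph.pathVert ends l e (l e)) = φ (ends e).2 := fun e => by
    rw [pathVert_last ends l e (l e) (by have := hl e; omega) le_rfl, hφ]
  have harith : ∀ e, ψ (LabGraph.pathVert ends l e (l e)) = ψ (LabGraph.pathVert ends l e 0) +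
      (l e : ℤ) * (ψ (LabGraph.pathVert ends l e 1) - ψ (LabGraph.pathVert ends l e 0)) := by
    intro e
    exact arith_of_harmonic (fun j => ψ (LabGraph.pathVert ends l e j)) (l e) (hharm e) (l e) le_rfl
  refine ⟨φ, fun e => ?_, fun v => ?_⟩
  · refine ⟨-(ψ (LabGraph.pathVert ends l e 1) - ψ (LabGraph.pathVert ends l e 0)), ?_⟩
    rw [← hP0 e, ← hPl e]
    linear_combination -(harith e)
  · have h1 : _ = α v := hψ (Sum.inl v)
    rw [mdeg_bl_inl ends l hl] at h1
    rw [← h1]
    unfold LabGraph.mdeg
    refine Finset.sum_congr rfl fun e _ => ?_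
    have hle := hl e
    have hne : ((l e : ℕ) : ℤ) ≠ 0 := by exact_mod_cast hle.ne'
    have e1 : (φ (ends e).2 - φ (ends e).1) / (l e : ℤ) =
        ψ (LabGraph.pathVert ends l e 1) - ψ (LabGraph.pathVert ends l e 0) := by
      have : φ (ends e).2 - φ (ends e).1 = (l e : ℤ) *
          (ψ (LabGraph.pathVert ends l e 1) - ψ (LabGraph.pathVert ends l e 0)) := by
        rw [← hP0 e, ← hPl e]
        linear_combination harith e
      rw [this, Int.mul_ediv_cancel_left _ hne]
    have e2 : (φ (ends e).1 - φ (ends e).2) / (l e : ℤ) =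
        ψ (LabGraph.pathVert ends l e (l e - 1)) - ψ (LabGraph.pathVert ends l e (l e)) := by
      have h3 : ψ (LabGraph.pathVert ends l e (l e - 1 + 1)) -
          ψ (LabGraph.pathVert ends l e (l e - 1)) =
          ψ (LabGraph.pathVert ends l e 1) - ψ (LabGraph.pathVert ends l e 0) :=
        diff_of_harmonic (fun j => ψ (LabGraph.pathVert ends l e j)) (l e) (hharm e) (l e - 1)
          (by omega)
      have e3 : l e - 1 + 1 = l e := by omega
      rw [e3] at h3
      have h4 : φ (ends e).1 - φ (ends e).2 = (l e : ℤ) *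
          (ψ (LabGraph.pathVert ends l e (l e - 1)) - ψ (LabGraph.pathVert ends l e (l e))) := by
        rw [← hP0 e, ← hPl e]
        linear_combination (l e : ℤ) * h3 - harith e
      rw [h4, Int.mul_ediv_cancel_left _ hne]
    rw [e1, e2]

end Groth.Agent.S13759
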