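import Groth.Statements.S13760
import Mathlib
import Groth.Agent.Lib.Helper7.BlowUp
-- import your own Groth.Agent.* helpers here

set_option autoImplicit false
universe u
open LabGraph

namespace Groth.Agent.S13760

open Groth.Agent.Helper7.BlowUp

/-- Let G be a finite connected multigraph with vertex set V, edge set E, endpoint map E → V × V and
positive integer edge labels l, let G̃ be its total blow-up graph (every edge e replaced by a path
of l(e) edges through l(e) − 1 new vertices, all labelled 1), and let ε : H → H̃ be the map from the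
cokernel of the multidegree operator on Cartier vertex labellings of G to the cokernel of the
multidegree operator on vertex labellings of G̃ induced by extension by zero. Then ε is surjective —
every vertex labelling β of G̃ can be corrected by the multidegree of a vertex labelling of G̃ so as
to vanish at all new vertices — if and only if G is circuit-coprime (the labels along every circuit
have greatest common divisor 1). (The published statement is 'ε is an isomorphism if and only if the
labelled graph is circuit-coprime'; injectivity of ε holds for every labelled graph, so the content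
is the equivalence for surjectivity, stated here with the cokernels unpacked.) -/
theorem result
    {V E : Type u} [Fintype V] [Fintype E] [DecidableEq V] [DecidableEq E]
    (ends : E → V × V) (l : E → ℕ) (hl : ∀ e, 0 < l e) (hconn : LabGraph.Connected ends) :
    (∀ β : LabGraph.BlVert V E l → ℤ, ∃ (ψ : LabGraph.BlVert V E l → ℤ) (α : V → ℤ),
        ∀ w : LabGraph.BlVert V E l,
          LabGraph.mdeg (LabGraph.blEnds ends l) (fun _ => 1) ψ w + β w = Sum.elim α (fun _ => (0 : ℤ)) w) ↔
      LabGraph.IsCircuitCoprime ends l := by
  constructor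
  · intro hsurj
    apply coprime_of_gcrt ends l
    intro x
    obtain ⟨ψ, α, hψ⟩ := hsurj (Sum.elim (fun _ => 0)
      (fun p => if p.2.val + 2 = l p.1 then x p.1 else 0))
    refine ⟨fun e => if l e = 1 then
        x e - ((-ψ (Sum.inl (ends e).2)) - (-ψ (Sum.inl (ends e).1)))
      else ψ (LabGraph.pathVert ends l e 1) - ψ (LabGraph.pathVert ends l e 0),
      fun v => -ψ (Sum.inl v), fun e => ?_⟩
    by_cases h1 : l e = 1
    · simp only [h1, if_true]
      push_cast
      ring
    · have hle := hl e
      have h2 : 2 ≤ l e := by omega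
      have h3 : x e = (l e : ℤ) *
          (ψ (LabGraph.pathVert ends l e 1) - ψ (LabGraph.pathVert ends l e 0)) -
          (ψ (LabGraph.pathVert ends l e (l e)) - ψ (LabGraph.pathVert ends l e 0)) := by
        refine seq_lemma (fun j => ψ (LabGraph.pathVert ends l e j)) (l e) (x e) h2 ?_
        intro i hi
        have h6 := hψ (Sum.inr ⟨e, ⟨i, by omega⟩⟩)
        rw [mdeg_bl_inr] at h6
        exact h6
      have h4 : ψ (LabGraph.pathVert ends l e (l e)) = ψ (Sum.inl (ends e).2) := by
        rw [pathVert_last ends l e (l e) (by omega) le_rfl]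
      have h5 : ψ (LabGraph.pathVert ends l e 0) = ψ (Sum.inl (ends e).1) := by
        rw [pathVert_zero]
      simp only [if_neg h1]
      rw [← h4, ← h5]
      linear_combination h3
  · intro hcc β
    obtain ⟨y, φ, hy⟩ := gcrt_of_coprime ends l hl hcc
      (fun e => -(qseq (fun j => β (LabGraph.pathVert ends l e j)) 0 (l e)).1)
    obtain ⟨Q, hQ⟩ : ∃ Q : E → ℕ → ℤ, ∀ e j,
        Q e j = (qseq (fun j => β (LabGraph.pathVert ends l e j)) (y e) j).1 :=
      ⟨_, fun _ _ => rfl⟩
    obtain ⟨ψ, hψl, hψr⟩ : ∃ ψ : LabGraph.BlVert V E l → ℤ, (∀ v, ψ (Sum.inl v) = -φ v) ∧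
        (∀ e (i : Fin (l e - 1)), ψ (Sum.inr ⟨e, i⟩) = -φ (ends e).1 + Q e (i.val + 1)) :=
      ⟨Sum.elim (fun v => -φ v) (fun p => -φ (ends p.1).1 + Q p.1 (p.2.val + 1)),
        fun _ => rfl, fun _ _ => rfl⟩
    have hrec : ∀ e j, (Q e (j + 1 + 1) - Q e (j + 1)) + (Q e j - Q e (j + 1)) +
        β (LabGraph.pathVert ends l e (j + 1)) = 0 := by
      intro e j
      rw [hQ, hQ, hQ]
      exact qseq_rec (fun j => β (LabGraph.pathVert ends l e j)) (y e) j
    have hQl : ∀ e, -φ (ends e).2 = -φ (ends e).1 + Q e (l e) := by
      intro e
      have h1 := (qseq_affine (fun j => β (LabGraph.pathVert ends l e j)) (y e) (l e)).1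
      have h2 : -(qseq (fun j => β (LabGraph.pathVert ends l e j)) 0 (l e)).1 =
          (l e : ℤ) * y e + (φ (ends e).2 - φ (ends e).1) := hy e
      rw [hQ, h1]
      linear_combination h2
    have hP : ∀ e j, j ≤ l e → ψ (LabGraph.pathVert ends l e j) = -φ (ends e).1 + Q e j := by
      intro e j hj
      by_cases h0 : j = 0
      · subst h0
        rw [pathVert_zero, hψl, hQ]
        simp [qseq]
      · by_cases h1 : j < l e
        · rw [pathVert_mid ends l e j h0 h1, hψr]
          show -φ (ends e).1 + Q e (j - 1 + 1) = _
          rw [Nat.sub_add_cancel (Nat.one_le_iff_ne_zero.2 h0)]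
        · have h2 : j = l e := by omega
          subst h2
          rw [pathVert_last ends l e (l e) h0 le_rfl, hψl]
          exact hQl e
    refine ⟨ψ, fun v => LabGraph.mdeg (LabGraph.blEnds ends l) (fun _ => 1) ψ (Sum.inl v) +
      β (Sum.inl v), ?_⟩
    rintro (v | ⟨e, i⟩)
    · rfl
    · rw [mdeg_bl_inr]
      have hi := i.isLt
      rw [hP e (i.val + 1 + 1) (by omega), hP e (i.val + 1) (by omega), hP e i.val (by omega)]
      have h7 := hrec e i.val
      rw [pathVert_succ] at h7
      show _ = (0 : ℤ)
      linear_combination h7

end Groth.Agent.S13760
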