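import Groth.Statements.S1377
import Mathlib

set_option autoImplicit false
universe u
open FlatMor

namespace Groth.Agent.S1377

open AlgebraicGeometry CategoryTheory Limits

/-- Step 1: the normalization of `v ≫ U.ι` restricts to `v` over `U`. -/
theorem step1 {S V : Scheme.{u}} (U : S.Opens) [QuasiCompact U.ι]
    (v : V ⟶ (U : Scheme.{u})) [IsIntegralHom v] :
    IsPullback (v ≫ U.ι).toNormalization v (v ≫ U.ι).fromNormalization U.ι := by
  set f : V ⟶ S := v ≫ U.ι with hf
  set g : (U : Scheme.{u}) ⟶ S := U.ι with hg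
  -- `V ≅ pullback f g`
  let l : V ⟶ pullback f g := pullback.lift (𝟙 V) v (by simp [hf, hg])
  have hl1 : l ≫ pullback.fst f g = 𝟙 V := pullback.lift_fst _ _ _
  have hl2 : l ≫ pullback.snd f g = v := pullback.lift_snd _ _ _
  have hfs : pullback.fst f g ≫ v = pullback.snd f g := by
    rw [← cancel_mono g, Category.assoc]
    exact pullback.condition
  have hl3 : pullback.fst f g ≫ l = 𝟙 _ := by
    apply pullback.hom_ext
    · rw [Category.assoc, hl1, Category.comp_id, Category.id_comp]
    · rw [Category.assoc, hl2, Category.id_comp, hfs]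
  have hliso : IsIso l := ⟨pullback.fst f g, hl1, hl3⟩
  have hp : IsIntegralHom (pullback.snd f g) := by
    have : pullback.snd f g = inv l ≫ v := by
      rw [IsIso.eq_inv_comp, hl2]
    rw [this]
    infer_instance
  let φ : V ⟶ pullback f.fromNormalization g :=
    l ≫ (pullback.snd f g).toNormalization ≫ f.normalizationPullback g
  have hφiso : IsIso φ := by
    dsimp only [φ]
    infer_instance
  have h1 : φ ≫ pullback.fst _ _ = f.toNormalization := by
    dsimp only [φ]
    rw [Category.assoc, Category.assoc, Scheme.Hom.toNormalization_normalizationPullback_fst,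
      ← Category.assoc, hl1, Category.id_comp]
  have h2 : φ ≫ pullback.snd _ _ = v := by
    dsimp only [φ]
    rw [Category.assoc, Category.assoc, Scheme.Hom.normalizationPullback_snd,
      Scheme.Hom.toNormalization_fromNormalization, hl2]
  refine IsPullback.of_iso_pullback ⟨?_⟩ (asIso φ) h1 h2
  rw [Scheme.Hom.toNormalization_fromNormalization]

open AlgebraicGeometry CategoryTheory Limits in

/-- Step 2: adding a disjoint piece does not change the base change. -/
theorem step2 {S V N Z U : Scheme.{u}} (i₀ : V ⟶ N) (v : V ⟶ U) (π₀ : N ⟶ S) (g : U ⟶ S)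
    (z : Z ⟶ S) (h₀ : IsPullback i₀ v π₀ g) (hdisj : ∀ (a : Z) (b : U), z a ≠ g b) :
    IsPullback (i₀ ≫ coprod.inl) v (coprod.desc π₀ z) g := by
  set π : N ⨿ Z ⟶ S := coprod.desc π₀ z with hπ
  have hcomm : (i₀ ≫ coprod.inl) ≫ π = v ≫ g := by
    rw [Category.assoc, hπ, coprod.inl_desc, h₀.w]
  let φ : V ⟶ pullback π g := pullback.lift (i₀ ≫ coprod.inl) v hcomm
  have hφ1 : φ ≫ pullback.fst π g = i₀ ≫ coprod.inl := pullback.lift_fst _ _ _
  have hφ2 : φ ≫ pullback.snd π g = v := pullback.lift_snd _ _ _
  have hleft : IsPullback φ i₀ (pullback.fst π g) coprod.inl := by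
    refine IsPullback.of_right ?_ hφ1 (IsPullback.of_hasPullback π g).flip
    rw [hφ2, hπ, coprod.inl_desc]
    exact h₀.flip
  have hopen : IsOpenImmersion φ :=
    MorphismProperty.of_isPullback (P := @IsOpenImmersion) hleft.flip inferInstance
  have hsurj : Function.Surjective φ := by
    intro x
    have hx : pullback.fst π g x ∈ Set.range (coprod.inl : N ⟶ N ⨿ Z) ∪
        Set.range (coprod.inr : Z ⟶ N ⨿ Z) := by
      have h3 : Set.range (coprod.inl : N ⟶ N ⨿ Z) ∪ Set.range (coprod.inr : Z ⟶ N ⨿ Z) =
          Set.univ := (isCompl_range_inl_inr N Z).sup_eq_top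
      rw [h3]
      trivial
    rcases hx with ⟨n, hn⟩ | ⟨a, ha⟩
    · obtain ⟨w, hw1, hw2⟩ := Scheme.Pullback.exists_preimage_pullback (f := pullback.fst π g)
        (g := (coprod.inl : N ⟶ N ⨿ Z)) x n hn.symm
      refine ⟨hleft.isoPullback.inv w, ?_⟩
      rw [← hw1, ← Scheme.Hom.comp_apply, IsPullback.isoPullback_inv_fst]
    · exfalso
      apply hdisj a (pullback.snd π g x)
      have h1 : π (pullback.fst π g x) = g (pullback.snd π g x) := by
        rw [← Scheme.Hom.comp_apply, ← Scheme.Hom.comp_apply, pullback.condition]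
      rw [← h1, ← ha, ← Scheme.Hom.comp_apply, hπ, coprod.inr_desc]
  have : Epi φ.base := (TopCat.epi_iff_surjective _).2 hsurj
  have hiso : IsIso φ := IsOpenImmersion.isIso φ
  exact IsPullback.of_iso_pullback ⟨hcomm⟩ (asIso φ) hφ1 hφ2

/-- Let S be a scheme, U ⊆ S an open subscheme whose inclusion U → S is quasi-compact (U retrocompact in
S), and V → U a surjective integral morphism. Then there are a scheme V' and a surjective integral
morphism V' → S whose base change to U is V → U. (The published statement puts no condition on U,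
and in that generality it is false: e.g. S = Spec ∏_i ℤ/4^i with U = D(2) ∪ ⋃_i D(e_i), e_i the
idempotents, and V equal to U except that over D(2) it is cut out by x = (2^i)_i. Stated here with U
→ S quasi-compact, under which hypothesis the published argument applies.) -/
theorem result {S V : Scheme.{u}} (U : S.Opens) [QuasiCompact U.ι]
    (v : V ⟶ (U : Scheme.{u})) [IsIntegralHom v] [Surjective v] :
    ∃ (V' : Scheme.{u}) (π : V' ⟶ S) (i : V ⟶ V'), Surjective π ∧ IsIntegralHom π ∧ IsPullback i v π U.ι := by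
  have hqc : QuasiCompact (v ≫ U.ι) := inferInstance
  have hqs : QuasiSeparated (v ≫ U.ι) := inferInstance
  let Zc : TopologicalSpace.Closeds S := ⟨(U : Set S)ᶜ, U.isOpen.isClosed_compl⟩
  let I := Scheme.IdealSheafData.vanishingIdeal Zc
  have hz : Set.range I.subschemeι = (U : Set S)ᶜ := by
    rw [Scheme.IdealSheafData.range_subschemeι,
      Scheme.IdealSheafData.coe_support_vanishingIdeal]
    rfl
  have h1 := step1 U v
  have hdisj : ∀ (a : I.subscheme) (b : (U : Scheme.{u})), I.subschemeι a ≠ U.ι b := by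
    intro a b hab
    have ha : I.subschemeι a ∈ (U : Set S)ᶜ := hz ▸ ⟨a, rfl⟩
    apply ha
    rw [hab]
    exact b.2
  have h2 := step2 _ v _ U.ι I.subschemeι h1 hdisj
  refine ⟨_, _, _, ?_, inferInstance, h2⟩
  constructor
  intro s
  by_cases hs : s ∈ U
  · obtain ⟨y, hy⟩ := Surjective.surj (f := v) ⟨s, hs⟩
    refine ⟨(coprod.inl : (v ≫ U.ι).normalization ⟶ _) ((v ≫ U.ι).toNormalization y), ?_⟩
    rw [← Scheme.Hom.comp_apply, coprod.inl_desc, ← Scheme.Hom.comp_apply,
      Scheme.Hom.toNormalization_fromNormalization, Scheme.Hom.comp_apply, hy]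
    rfl
  · have hs' : s ∈ Set.range I.subschemeι := by rw [hz]; exact hs
    obtain ⟨a, ha⟩ := hs'
    refine ⟨(coprod.inr : I.subscheme ⟶ _) a, ?_⟩
    rw [← Scheme.Hom.comp_apply, coprod.inr_desc, ha]

end Groth.Agent.S1377
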