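import Groth.Statements.S13776
import Mathlib
import Groth.Agent.H27.PLieSemi

set_option autoImplicit false
universe u v
open PLie

namespace Groth.Agent.S13776

/-- Let R be a commutative ring of prime characteristic p, t ∈ R, and L a Lie algebra over R, free as a
module with basis x = bs 0, y = bs 1, z = bs 2 and brackets [x,y] = y, [x,z] = t • z, [y,z] = 0.
Then L carries a p-mapping if and only if t ^ p = t. (The published statement is the corresponding
entry of the classification table over an algebraically closed field of characteristic p, where the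
condition reads: t lies in the prime field; this row states it over every commutative ring of
characteristic p.) -/
theorem result (R : Type u) [CommRing R] (p : ℕ) [Fact p.Prime] [CharP R p] (t : R)
    (L : Type v) [LieRing L] [LieAlgebra R L] (bs : Module.Basis (Fin 3) R L)
    (hxy : ⁅bs 0, bs 1⁆ = bs 1) (hxz : ⁅bs 0, bs 2⁆ = t • bs 2) (hyz : ⁅bs 1, bs 2⁆ = 0) :
    Nonempty (PLie.PMap R p L) ↔ t ^ p = t := by
  constructor
  · rintro ⟨φ⟩
    have h1 : ∀ n : ℕ, (LieAlgebra.ad R L (bs 0) ^ n) (bs 1) = bs 1 := by
      intro n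
      induction n with
      | zero => simp
      | succ n ih => rw [pow_succ, Module.End.mul_apply, LieAlgebra.ad_apply, hxy, ih]
    have h2 : ∀ n : ℕ, (LieAlgebra.ad R L (bs 0) ^ n) (bs 2) = t ^ n • bs 2 := by
      intro n
      induction n with
      | zero => simp
      | succ n ih =>
        rw [pow_succ, Module.End.mul_apply, LieAlgebra.ad_apply, hxz, map_smul, ih, smul_smul,
          pow_succ, mul_comm]
    have had := φ.ad_map (bs 0)
    obtain ⟨w, hw⟩ : ∃ w, w = φ.toFun (bs 0) := ⟨_, rfl⟩
    rw [← hw] at had
    have hexp : w = bs.repr w 0 • bs 0 + bs.repr w 1 • bs 1 + bs.repr w 2 • bs 2 := by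
      conv_lhs => rw [← bs.sum_repr w]
      rw [Fin.sum_univ_three]
    have hzy : ⁅bs 2, bs 1⁆ = 0 := by rw [← lie_skew, hyz, neg_zero]
    have e1 := LinearMap.congr_fun had (bs 1)
    have e2 := LinearMap.congr_fun had (bs 2)
    rw [h1, LieAlgebra.ad_apply, hexp] at e1
    rw [h2, LieAlgebra.ad_apply, hexp] at e2
    simp only [add_lie, smul_lie, lie_self, hxy, hxz, hyz, hzy, smul_zero, add_zero] at e1 e2
    have f1 := congrArg (fun v => bs.repr v 1) e1
    have f2 := congrArg (fun v => bs.repr v 2) e2
    simp at f1 f2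
    rw [f1, one_mul] at f2
    exact f2.symm
  · intro ht
    have hD : (Matrix.diagonal ![1, t] : Matrix (Fin 2) (Fin 2) R) ^ p =
        (1 : R) • Matrix.diagonal ![1, t] := by
      rw [Matrix.diagonal_pow, one_smul]
      congr 1
      funext i
      fin_cases i <;> simp [ht]
    have hinj : ∀ r : R, r • (Matrix.diagonal ![1, t] : Matrix (Fin 2) (Fin 2) R) = 0 → r = 0 := by
      intro r hr
      have := congrFun (congrFun hr 0) 0
      simpa using this
    obtain ⟨φ, -⟩ := Groth.Agent.H27.PLieSemi.lemmaC R p bs (Matrix.diagonal ![1, t]) 1 hD hinj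
      (by rw [hxy]; simp) (by rw [hxz]; simp) hyz
    exact ⟨φ⟩

end Groth.Agent.S13776
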