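import Groth.Statements.S13781
import Mathlib
import Groth.Agent.H29.RegLocal2
import Groth.Agent.Lib.Helper26.RegularSmooth

set_option autoImplicit false
set_option linter.style.haveILetI false
universe u
open CAlg

namespace Groth.Agent.S13781


open Polynomial IsLocalRing

/-- Any model of the localization of a regular ring at a prime is a regular local ring. -/
theorem isRegularLocalRing_of_isLocalization_atPrime (C : Type u) [CommRing C] [IsRegularRing C]
    (q : Ideal C) [q.IsPrime] (L : Type u) [CommRing L] [Algebra C L] [IsLocalization.AtPrime L q] :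
    IsRegularLocalRing L :=
  IsRegularLocalRing.of_ringEquiv
    (IsLocalization.algEquiv q.primeCompl (Localization.AtPrime q) L).toRingEquiv

/-- If `r ∉ q` and the localization away from `r` is regular, then `B_q` is regular local. -/
theorem isRegularLocalRing_atPrime_of_away (B : Type u) [CommRing B] (r : B)
    [IsRegularRing (Localization.Away r)] (q : Ideal B) [hq : q.IsPrime] (hr : r ∉ q) :
    IsRegularLocalRing (Localization.AtPrime q) := by
  have hdisj : Disjoint (Submonoid.powers r : Set B) (q : Set B) :=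
    (Ideal.disjoint_powers_iff_notMem_of_isPrime _).mpr hr
  haveI hq'p : (q.map (algebraMap B (Localization.Away r))).IsPrime :=
    IsLocalization.isPrime_of_isPrime_disjoint (.powers r) _ _ hq hdisj
  have hq' : (q.map (algebraMap B (Localization.Away r))).comap
      (algebraMap B (Localization.Away r)) = q :=
    IsLocalization.comap_map_of_isPrime_disjoint (.powers r) _ hq hdisj
  have h1 : IsLocalization ((q.map (algebraMap B (Localization.Away r))).comap
      (algebraMap B (Localization.Away r))).primeCompl
      (Localization.AtPrime (q.map (algebraMap B (Localization.Away r)))) :=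
    IsLocalization.isLocalization_atPrime_localization_atPrime (Submonoid.powers r) _
  have h2 : ((q.map (algebraMap B (Localization.Away r))).comap
      (algebraMap B (Localization.Away r))).primeCompl = q.primeCompl :=
    Submonoid.ext fun x => by rw [Ideal.mem_primeCompl_iff, Ideal.mem_primeCompl_iff, hq']
  rw [h2] at h1
  haveI := h1
  exact IsRegularLocalRing.of_ringEquiv (IsLocalization.algEquiv q.primeCompl
    (Localization.AtPrime (q.map (algebraMap B (Localization.Away r))))
    (Localization.AtPrime q)).toRingEquiv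

/-- If `r ∈ q` is a nonzerodivisor and `B/(r)` is a regular ring, then `B_q` is regular local. -/
theorem isRegularLocalRing_atPrime_of_quotient (B : Type u) [CommRing B] [IsNoetherianRing B]
    (r : B) (hr0 : r ∈ nonZeroDivisors B) [IsRegularRing (B ⧸ Ideal.span {r})]
    (q : Ideal B) [hq : q.IsPrime] (hr : r ∈ q) :
    IsRegularLocalRing (Localization.AtPrime q) := by
  set Bq := Localization.AtPrime q
  set x : Bq := algebraMap B Bq r with hx
  have hxm : x ∈ maximalIdeal Bq := (IsLocalization.AtPrime.to_map_mem_maximal_iff Bq q r).mpr hr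
  have hxn : x ∈ nonZeroDivisors Bq :=
    IsLocalization.map_nonZeroDivisors_le q.primeCompl Bq (Submonoid.mem_map_of_mem _ hr0)
  -- the quotient is a localization of `B/(r)`
  have hle : Ideal.span {r} ≤ q := (Ideal.span_singleton_le_iff_mem _).mpr hr
  set qb : Ideal (B ⧸ Ideal.span {r}) := q.map (Ideal.Quotient.mk _) with hqb
  have hcomap : qb.comap (Ideal.Quotient.mk (Ideal.span {r})) = q := by
    rw [hqb, Ideal.comap_map_of_surjective _ Ideal.Quotient.mk_surjective,
      ← RingHom.ker_eq_comap_bot, Ideal.mk_ker]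
    exact sup_eq_left.mpr hle
  haveI hqbp : qb.IsPrime := by
    rw [hqb]
    exact Ideal.map_isPrime_of_surjective Ideal.Quotient.mk_surjective
      (by rw [Ideal.mk_ker]; exact hle)
  have hM : Algebra.algebraMapSubmonoid (B ⧸ Ideal.span {r}) q.primeCompl = qb.primeCompl := by
    ext y
    constructor
    · rintro ⟨b, hb, rfl⟩
      intro hy
      apply hb
      rw [← hcomap]
      exact hy
    · intro hy
      obtain ⟨b, rfl⟩ := Ideal.Quotient.mk_surjective y
      refine ⟨b, ?_, rfl⟩
      intro hb
      exact hy (Ideal.mem_map_of_mem _ hb)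
  have hloc : IsLocalization (Algebra.algebraMapSubmonoid (B ⧸ Ideal.span {r}) q.primeCompl)
      (Bq ⧸ (Ideal.span {r}).map (algebraMap B Bq)) := inferInstance
  rw [hM] at hloc
  haveI : IsLocalization.AtPrime (Bq ⧸ (Ideal.span {r}).map (algebraMap B Bq)) qb := hloc
  haveI h1 : IsRegularLocalRing (Bq ⧸ (Ideal.span {r}).map (algebraMap B Bq)) :=
    isRegularLocalRing_of_isLocalization_atPrime (B ⧸ Ideal.span {r}) qb _
  have hspan : (Ideal.span {r}).map (algebraMap B Bq) = Ideal.span {x} := by
    rw [Ideal.map_span, Set.image_singleton]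
  haveI : IsRegularLocalRing (Bq ⧸ Ideal.span {x}) :=
    IsRegularLocalRing.of_ringEquiv (Ideal.quotEquivOfEq hspan)
  exact Groth.Agent.H29.isRegularLocalRing_of_quotient_span_singleton Bq x hxm hxn

/-- Let A be a regular local ring, s a non-zero element of A such that A/(s) is regular, and e a
positive integer invertible in A. Then A[t]/(t^e - s) is regular. (Regularity of a ring is taken
throughout as: Noetherian, with every localization at a prime ideal a regular local ring; the
hypotheses on A and on A/(s) and the conclusion on A[t]/(t^e - s) are all read this way, which for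
the local rings A and A/(s) is the usual notion once localizations of regular local rings are known
to be regular.) -/
theorem result (A : Type u) [CommRing A] [IsLocalRing A]
    [IsRegularRing A] (s : A) (hs : s ≠ 0) (hreg : IsRegularRing (A ⧸ Ideal.span {s}))
    (e : ℕ) (he : 0 < e) (heu : IsUnit (e : A)) :
    IsRegularRing (AdjoinRoot (Polynomial.X ^ e - Polynomial.C s)) := by
  haveI : IsRegularLocalRing A := IsRegularLocalRing.of_isRegularRing_of_isLocalRing A
  haveI : IsDomain A := Groth.Agent.H29.isDomain_of_isRegularLocalRing A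
  have hmonic : (X ^ e - C s : A[X]).Monic := monic_X_pow_sub_C s he.ne'
  have hinv : (e : A) * ↑(heu.unit⁻¹) = 1 := heu.mul_val_inv
  let P : StandardEtalePair A :=
    { f := X ^ e - C s
      monic_f := hmonic
      g := X
      cond := ⟨C (↑(heu.unit⁻¹) : A) * X, 0, e, by
        simp only [derivative_sub, derivative_X_pow, derivative_C, sub_zero, mul_zero, add_zero]
        calc C (e : A) * X ^ (e - 1) * (C (↑(heu.unit⁻¹) : A) * X)
            = C ((e : A) * ↑(heu.unit⁻¹)) * (X ^ (e - 1) * X) := by rw [C_mul]; ring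
          _ = X ^ e := by rw [hinv, C_1, one_mul, ← pow_succ, Nat.sub_add_cancel he]⟩ }
  show IsRegularRing (AdjoinRoot P.f)
  set r : AdjoinRoot P.f := AdjoinRoot.mk P.f P.g with hr
  haveI : IsRegularRing P.Ring := H26.isRegularRing_of_etale A P.Ring
  haveI : IsRegularRing (Localization.Away r) :=
    IsRegularRing.of_ringEquiv P.equivAwayAdjoinRoot.toRingEquiv
  -- `r ^ e = s`
  have hre : r ^ e = algebraMap A (AdjoinRoot P.f) s := by
    have h0 : AdjoinRoot.mk P.f (X ^ e - C s) = 0 := AdjoinRoot.mk_self
    rw [map_sub, map_pow, AdjoinRoot.mk_C, sub_eq_zero] at h0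
    rw [AdjoinRoot.algebraMap_eq]
    exact h0
  haveI : Module.Free A (AdjoinRoot P.f) :=
    Module.Free.of_basis (AdjoinRoot.powerBasis' P.monic_f).basis
  have hr0 : r ∈ nonZeroDivisors (AdjoinRoot P.f) := by
    rw [mem_nonZeroDivisors_iff_right]
    intro b hb
    have h1 : r ^ e * b = 0 := by
      obtain ⟨n, rfl⟩ : ∃ n, e = n + 1 := ⟨e - 1, (Nat.sub_add_cancel he).symm⟩
      rw [pow_succ, mul_assoc, mul_comm r b, hb, mul_zero]
    rw [hre, ← Algebra.smul_def] at h1
    exact (smul_eq_zero_iff_right hs).mp h1
  -- the quotient by `r` is `A/(s)`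
  have hrr : r = AdjoinRoot.root P.f := AdjoinRoot.mk_X
  let φ : A ⧸ Ideal.span {s} →+* AdjoinRoot P.f ⧸ Ideal.span {r} :=
    Ideal.Quotient.lift (Ideal.span {s})
      ((Ideal.Quotient.mk (Ideal.span {r})).comp (algebraMap A (AdjoinRoot P.f))) (by
        intro a ha
        obtain ⟨c, rfl⟩ := Ideal.mem_span_singleton'.mp ha
        rw [RingHom.comp_apply, map_mul, ← hre, Ideal.Quotient.eq_zero_iff_mem]
        apply Ideal.mul_mem_left
        obtain ⟨n, rfl⟩ : ∃ n, e = n + 1 := ⟨e - 1, (Nat.sub_add_cancel he).symm⟩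
        rw [pow_succ]
        exact Ideal.mul_mem_left _ _ (Ideal.mem_span_singleton_self r))
  have h00 : eval₂ (Ideal.Quotient.mk (Ideal.span {s})) 0 P.f = 0 := by
    show eval₂ (Ideal.Quotient.mk (Ideal.span {s})) 0 (X ^ e - C s) = 0
    rw [eval₂_sub, eval₂_pow, eval₂_X, eval₂_C, zero_pow he.ne', zero_sub, neg_eq_zero,
      Ideal.Quotient.eq_zero_iff_mem]
    exact Ideal.mem_span_singleton_self s
  let ψ : AdjoinRoot P.f ⧸ Ideal.span {r} →+* A ⧸ Ideal.span {s} :=
    Ideal.Quotient.lift (Ideal.span {r})
      (AdjoinRoot.lift (Ideal.Quotient.mk (Ideal.span {s})) 0 h00) (by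
        intro a ha
        obtain ⟨c, rfl⟩ := Ideal.mem_span_singleton'.mp ha
        rw [map_mul, hrr, AdjoinRoot.lift_root, mul_zero])
  have hψφ : ψ.comp φ = RingHom.id _ := by
    apply Ideal.Quotient.ringHom_ext
    ext a
    simp only [φ, ψ, RingHom.comp_apply, Ideal.Quotient.lift_mk, RingHom.id_apply,
      AdjoinRoot.algebraMap_eq, AdjoinRoot.lift_of]
  have hφ_mk : ∀ a : A, φ (Ideal.Quotient.mk _ a) =
      Ideal.Quotient.mk (Ideal.span {r}) (algebraMap A (AdjoinRoot P.f) a) := fun a => rfl
  have hψ_mk : ∀ b : AdjoinRoot P.f, ψ (Ideal.Quotient.mk _ b) =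
      AdjoinRoot.lift (Ideal.Quotient.mk (Ideal.span {s})) 0 h00 b := fun b => rfl
  have hφψ : φ.comp ψ = RingHom.id _ := by
    apply Ideal.Quotient.ringHom_ext
    rw [← RingHom.cancel_right (AdjoinRoot.mk_surjective (g := P.f))]
    apply Polynomial.ringHom_ext
    · intro a
      simp only [RingHom.comp_apply, RingHom.id_apply, AdjoinRoot.mk_C, hψ_mk,
        AdjoinRoot.lift_of, hφ_mk, AdjoinRoot.algebraMap_eq]
    · simp only [RingHom.comp_apply, RingHom.id_apply, AdjoinRoot.mk_X, hψ_mk,
        AdjoinRoot.lift_root, map_zero]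
      rw [eq_comm, Ideal.Quotient.eq_zero_iff_mem, ← hrr]
      exact Ideal.mem_span_singleton_self r
  let ε : A ⧸ Ideal.span {s} ≃+* AdjoinRoot P.f ⧸ Ideal.span {r} :=
    RingEquiv.ofRingHom φ ψ hφψ hψφ
  haveI : IsRegularRing (AdjoinRoot P.f ⧸ Ideal.span {r}) :=
    @IsRegularRing.of_ringEquiv _ _ _ _ ε hreg
  rw [isRegularRing_iff]
  intro q hq
  by_cases hrq : r ∈ q
  · exact isRegularLocalRing_atPrime_of_quotient _ r hr0 q hrq
  · exact isRegularLocalRing_atPrime_of_away _ r q hrq

end Groth.Agent.S13781
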