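import Groth.Statements.S13784
import Groth.Agent.H15.UnitsCyclic

set_option autoImplicit false
universe u
open CAlg

namespace Groth.Agent.S13784

/-- Let A be a commutative local ring and G a finite subgroup of Aˣ. If the order of G is invertible in
A, then G is cyclic. -/
theorem result {A : Type u} [CommRing A] [IsLocalRing A]
    (G : Subgroup Aˣ) [Finite G] (hG : IsUnit ((Nat.card G : ℕ) : A)) : IsCyclic G := by
  exact Groth.Agent.H15.UnitsCyclic.isCyclic_units G hG

end Groth.Agent.S13784
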