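import Mathlib
import Groth.Statements.S13792
-- import your own Groth.Agent.* helpers here

set_option autoImplicit false
universe u
open CategoryTheory AlgebraicGeometry
open Curves

namespace Groth.Agent.S13792


/-- Let k be a field and E an integral k-scheme of finite type whose underlying space has dimension 1,
and let ι : G → E be a closed immersion. Then either ι is an isomorphism or G is finite over k. (The
published statement is about a closed subgroup scheme of an elliptic curve and its proof states this
fact for E geometrically integral; this row assumes only that E is integral.) -/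
theorem result {k : Type u} [Field k]
    {E G : Scheme.{u}} (f : E ⟶ Spec (CommRingCat.of k)) [LocallyOfFiniteType f] [QuasiCompact f]
    [IsIntegral E] (hdim : topologicalKrullDim ↥E = 1) (ι : G ⟶ E) [IsClosedImmersion ι] :
    IsIso ι ∨ IsFinite (ι ≫ f) := by
  classical
  by_cases hsurj : Function.Surjective ι
  · left
    haveI : Surjective ι := ⟨hsurj⟩
    exact isIso_of_isClosedImmersion_of_surjective ι
  right
  haveI : IsLocallyNoetherian E := LocallyOfFiniteType.isLocallyNoetherian f
  haveI : CompactSpace E := QuasiCompact.compactSpace_of_compactSpace f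
  haveI : IsNoetherian E := {}
  haveI : TopologicalSpace.NoetherianSpace E := inferInstance
  have hZcl : IsClosed (Set.range ι) := ι.isClosedEmbedding.isClosed_range
  have hZne : Set.range ι ≠ Set.univ := fun h => hsurj (Set.range_eq_univ.mp h)
  have hclosedpt : ∀ z ∈ Set.range ι, ∀ z' : E, z ⤳ z' → z' = z := by
    intro z hz z' hzz'
    by_contra hne
    obtain ⟨a, ha⟩ : ∃ a : TopologicalSpace.IrreducibleCloseds E, (a : Set E) = closure {z'} :=
      ⟨⟨closure {z'}, isIrreducible_singleton.closure, isClosed_closure⟩, rfl⟩
    obtain ⟨b, hb⟩ : ∃ b : TopologicalSpace.IrreducibleCloseds E, (b : Set E) = closure {z} :=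
      ⟨⟨closure {z}, isIrreducible_singleton.closure, isClosed_closure⟩, rfl⟩
    obtain ⟨c, hc⟩ : ∃ c : TopologicalSpace.IrreducibleCloseds E, (c : Set E) = Set.univ :=
      ⟨⟨Set.univ, IrreducibleSpace.isIrreducible_univ E, isClosed_univ⟩, rfl⟩
    have hab : a < b := by
      refine lt_of_le_of_ne ?_ ?_
      · rw [← SetLike.coe_subset_coe, ha, hb]
        exact specializes_iff_closure_subset.mp hzz'
      · intro h
        have h1 : closure {z} ⊆ closure {z'} := by rw [← ha, ← hb, h]
        have h2 : z' ⤳ z := specializes_iff_closure_subset.mpr h1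
        exact hne (h2.antisymm hzz').eq
    have hbc : b < c := by
      refine lt_of_le_of_ne ?_ ?_
      · rw [← SetLike.coe_subset_coe, hc]
        exact Set.subset_univ _
      · intro h
        have h1 : closure {z} = Set.univ := by rw [← hb, h, hc]
        have h2 : closure {z} ⊆ Set.range ι :=
          hZcl.closure_subset_iff.mpr (Set.singleton_subset_iff.mpr hz)
        exact hZne (Set.eq_univ_of_univ_subset (h1 ▸ h2))
    have h2 := Order.LTSeries.length_le_krullDim
      ((((RelSeries.singleton _ a : LTSeries (TopologicalSpace.IrreducibleCloseds E))).snoc b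
        (by simpa using hab)).snoc c (by simpa using hbc))
    rw [topologicalKrullDim] at hdim
    rw [hdim] at h2
    simp at h2
  have hZfin : (Set.range ι).Finite := by
    obtain ⟨S, hSf, hScl, hSirr, hSU⟩ :=
      TopologicalSpace.NoetherianSpace.exists_finite_set_isClosed_irreducible hZcl
    have hfin : (⋃₀ S).Finite := by
      refine Set.Finite.sUnion hSf (fun t ht => ?_)
      obtain ⟨ξ, hξ⟩ := QuasiSober.sober (hSirr t ht) (hScl t ht)
      have hξt : ξ ∈ t := by rw [← hξ.def]; exact subset_closure rfl
      have hξZ : ξ ∈ Set.range ι := by rw [hSU]; exact Set.mem_sUnion.mpr ⟨t, ht, hξt⟩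
      have hsub : t ⊆ {ξ} := by
        intro x hx
        rw [← hξ.def] at hx
        exact hclosedpt ξ hξZ x (specializes_iff_mem_closure.mpr hx)
      exact (Set.finite_singleton ξ).subset hsub
    rw [hSU]; exact hfin
  haveI : Finite G := by
    haveI : Finite (Set.range ι) := hZfin.to_subtype
    exact Finite.of_injective (fun g => (⟨ι g, Set.mem_range_self g⟩ : Set.range ι))
      (fun a b h => ι.isClosedEmbedding.injective (Subtype.ext_iff.mp h))
  haveI : LocallyQuasiFinite (ι ≫ f) :=
    LocallyQuasiFinite.of_finite_preimage_singleton _ (fun x => Set.toFinite _)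
  haveI : IsLocallyArtinian (Spec (CommRingCat.of k)) :=
    Scheme.isLocallyArtinianScheme_Spec.mpr inferInstance
  exact IsFinite.of_locallyQuasiFinite (ι ≫ f)

end Groth.Agent.S13792
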