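import Groth.Statements.S13801

set_option autoImplicit false
open ChowMon

namespace Groth.Agent.S13801

open Finset in
theorem sum_div_le {ι : Type*} (s : Finset ι) (a : ι → ℕ) (d : ℕ) :
    ∑ i ∈ s, a i / d ≤ (∑ i ∈ s, a i) / d := by
  classical
  induction s using Finset.induction_on with
  | empty => simp
  | insert x s hx ih =>
    rw [Finset.sum_insert hx, Finset.sum_insert hx]
    exact (Nat.add_le_add_left ih _).trans Nat.div_add_div_le_add_div

theorem result {k : ℕ} (p : ℕ) [Fact p.Prime]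
    (a : Fin k → ℕ) (ha : ∀ i, 0 < a i) :
    (∑ i, padicValNat p (a i).factorial ≤ padicValNat p (∑ i, a i).factorial) ∧
      ((∃ i, ¬ p ^ padicValNat p (∑ j, a j) ∣ a i) →
        ∑ i, padicValNat p (a i).factorial < padicValNat p (∑ i, a i).factorial) := by
  have hp : p.Prime := Fact.out
  set n := ∑ i, a i with hn
  set b := Nat.log p n + 1 with hb
  have hle : ∀ i, a i ≤ n := fun i =>
    Finset.single_le_sum (f := a) (fun j _ => Nat.zero_le _) (Finset.mem_univ i)
  have hlog : ∀ i, Nat.log p (a i) < b := fun i =>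
    Nat.lt_succ_of_le (Nat.log_mono_right (hle i))
  have hnb : Nat.log p n < b := Nat.lt_succ_self _
  have e1 : ∀ i, padicValNat p (a i).factorial = ∑ j ∈ Finset.Ico 1 b, a i / p ^ j :=
    fun i => padicValNat_factorial (hlog i)
  have e2 : padicValNat p n.factorial = ∑ j ∈ Finset.Ico 1 b, n / p ^ j :=
    padicValNat_factorial hnb
  have e3 : ∑ i, padicValNat p (a i).factorial = ∑ j ∈ Finset.Ico 1 b, ∑ i, a i / p ^ j := by
    simp_rw [e1]
    rw [Finset.sum_comm]
  have hterm : ∀ j ∈ Finset.Ico 1 b, ∑ i, a i / p ^ j ≤ n / p ^ j :=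
    fun j _ => sum_div_le _ _ _
  refine ⟨?_, ?_⟩
  · rw [e3, e2]
    exact Finset.sum_le_sum hterm
  · rintro ⟨i₀, hi₀⟩
    rw [e3, e2]
    set e := padicValNat p n with he
    have hnpos : 0 < n := lt_of_lt_of_le (ha i₀) (hle i₀)
    have he1 : 1 ≤ e := by
      by_contra h
      have : e = 0 := by omega
      rw [this] at hi₀
      simp at hi₀
    have hdvd : p ^ e ∣ n := pow_padicValNat_dvd
    have he2 : e < b := by
      have : p ^ e ≤ n := Nat.le_of_dvd hnpos hdvd
      have := Nat.le_log_of_pow_le hp.one_lt this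
      omega
    refine Finset.sum_lt_sum hterm ⟨e, Finset.mem_Ico.mpr ⟨he1, he2⟩, ?_⟩
    have hpos : 0 < p ^ e := pow_pos hp.pos _
    have h1 : p ^ e * ∑ i, a i / p ^ e < p ^ e * (n / p ^ e) := by
      rw [Nat.mul_div_cancel' hdvd, Finset.mul_sum]
      rw [hn]
      refine Finset.sum_lt_sum (fun i _ => Nat.mul_div_le _ _) ⟨i₀, Finset.mem_univ _, ?_⟩
      refine lt_of_le_of_ne (Nat.mul_div_le _ _) ?_
      intro h
      exact hi₀ ⟨_, h.symm⟩
    exact Nat.lt_of_mul_lt_mul_left h1
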