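import Groth.Statements.S13802
import Groth.Agent.H16.EtaPt
-- import your own Groth.Agent.* helpers here

set_option autoImplicit false
universe u
open EtaPt

namespace Groth.Agent.S13802

/-- For a commutative ring A with finitely many minimal prime ideals, the canonical map q_A from A to
the pointwise ring M_η(A) is integral. Here η is a natural transformation from the identity of the
category of fields to an endofunctor F with F(η_K) bijective and η_K purely inseparable for every
field K, N_η(A) is the product of the F(k(p)) over the primes p of A with diagonal map t_A, and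
M_η(A) ⊆ N_η(A) is the subring of elements sent into the range of t_R by every ring map from A to a
valuation ring R at whose fraction field η is bijective; q_A : A → M_η(A) is the corestriction of
t_A. -/
theorem result (η : EtaPt.FieldEndo.{u}) (A : Type u) [CommRing A]
    (hA : (minimalPrimes A).Finite) : (η.q A).IsIntegral := by
  classical
  rintro ⟨x, hx⟩
  have h : ∀ p : PrimeSpectrum A, ∃ P : Polynomial A, P.Monic ∧
      Polynomial.eval₂ ((η.eta p.asIdeal.ResidueField).comp (algebraMap A p.asIdeal.ResidueField))
        (x p) P = 0 := fun p => Groth.Agent.Helper16.EtaLib.isIntegralElem_component η hx p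
  choose Pp hmonic hev using h
  have hS : {p : PrimeSpectrum A | p.asIdeal ∈ minimalPrimes A}.Finite :=
    hA.preimage (fun p _ q _ hpq => PrimeSpectrum.ext hpq)
  refine ⟨∏ p ∈ hS.toFinset, Pp p, Polynomial.monic_prod_of_monic _ _ fun p _ => hmonic p, ?_⟩
  apply Subtype.ext
  have hval : ((Polynomial.eval₂ (η.q A) (⟨x, hx⟩ : η.M A) (∏ p ∈ hS.toFinset, Pp p) : η.M A) : η.N A) =
      Polynomial.eval₂ (η.t A) x (∏ p ∈ hS.toFinset, Pp p) := by
    rw [← Subring.coe_subtype, Polynomial.hom_eval₂]
    rfl
  rw [hval]
  change _ = (0 : η.N A)
  apply Groth.Agent.Helper16.EtaLib.eq_zero_of_minimalPrimes η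
  · rw [← hval]
    exact Subtype.property _
  · intro p hp
    have h1 : (Polynomial.eval₂ (η.t A) x (∏ p ∈ hS.toFinset, Pp p)) p =
        Polynomial.eval₂ ((η.eta p.asIdeal.ResidueField).comp (algebraMap A p.asIdeal.ResidueField))
          (x p) (∏ p ∈ hS.toFinset, Pp p) := by
      have := Polynomial.hom_eval₂ (∏ p ∈ hS.toFinset, Pp p) (η.t A)
        (Pi.evalRingHom (fun p : PrimeSpectrum A => η.obj p.asIdeal.ResidueField) p) x
      exact this
    rw [h1, Polynomial.eval₂_finsetProd]
    exact Finset.prod_eq_zero (hS.mem_toFinset.mpr hp) (hev p)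

end Groth.Agent.S13802
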