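import Groth.Statements.S13807
import Groth.Agent.H16.EtaPt
-- import your own Groth.Agent.* helpers here

set_option autoImplicit false
universe u
open EtaPt

namespace Groth.Agent.S13807

open Groth.Agent.Helper16.EtaLib in
theorem aux (η : EtaPt.FieldEndo.{u}) (K : Type u) [Field K] (x : η.N K) : x ∈ η.M K := by
  intro R _ _ _ hR g
  let P₀ : PrimeSpectrum K := ⟨⊥, Ideal.isPrime_bot⟩
  let ι : K ≃+* P₀.asIdeal.ResidueField := (Ideal.algEquivResidueFieldOfField P₀.asIdeal).toRingEquiv
  have hι : ∀ a : K, ι a = algebraMap K P₀.asIdeal.ResidueField a := fun a => rfl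
  have hev : ∀ (L' : Type u) [Field L'] (h : K →+* L'),
      ev η h x = η.map (h.comp (ι.symm : P₀.asIdeal.ResidueField →+* K)) (x P₀) := by
    intro L' _ h
    apply ev_eq_of
    ext a
    simp only [RingHom.comp_apply, RingEquiv.coe_toRingHom]
    rw [← hι a, RingEquiv.symm_apply_apply]
  obtain ⟨n, y, hy⟩ := η.exists_pow_mem_range_eta P₀.asIdeal.ResidueField (x P₀)
  set e := ringExpChar P₀.asIdeal.ResidueField with he
  set y₀ : K := ι.symm y with hy₀
  have hstar : ∀ (L' : Type u) [Field L'] (h : K →+* L'),
      (ev η h x) ^ e ^ n = η.eta L' (h y₀) := by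
    intro L' _ h
    rw [hev L' h, ← map_pow, ← hy]
    have := DFunLike.congr_fun (η.eta_natural (h.comp (ι.symm : P₀.asIdeal.ResidueField →+* K))) y
    simp only [RingHom.comp_apply] at this
    rw [this]
    rfl
  have hepos : e ^ n ≠ 0 := pow_ne_zero _ (expChar_pos P₀.asIdeal.ResidueField e).ne'
  obtain ⟨z, hz⟩ := hR.2 (ev η ((algebraMap R (FractionRing R)).comp g) x)
  have hzpow : z ^ e ^ n = algebraMap R (FractionRing R) (g y₀) := by
    apply (η.eta (FractionRing R)).injective
    rw [map_pow, hz, hstar]
    rfl
  have hzint : IsIntegral R z := by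
    refine ⟨Polynomial.X ^ (e ^ n) - Polynomial.C (g y₀), Polynomial.monic_X_pow_sub_C _ hepos, ?_⟩
    simp [hzpow]
  obtain ⟨r, hr⟩ := IsIntegrallyClosed.isIntegral_iff.mp hzint
  have hrpow : r ^ e ^ n = g y₀ := by
    apply IsFractionRing.injective R (FractionRing R)
    rw [map_pow, hr, hzpow]
  refine ⟨r, (Nmap_eq_t_of_ev η g x r ?_).symm⟩
  intro Q
  apply pow_expChar_inj ((η.eta Q.asIdeal.ResidueField).comp
    (((algebraMap R Q.asIdeal.ResidueField).comp g).comp (ι.symm : P₀.asIdeal.ResidueField →+* K))) n
  rw [hstar, ← map_pow, ← map_pow, hrpow]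
  rfl


/-- For a field K the pointwise ring M_η(K) is all of N_η(K) = F(k((0))). Here η is a natural
transformation from the identity of the category of fields to an endofunctor F with F(η_K) bijective
and η_K purely inseparable for every field K, N_η(A) is the product of the F(k(p)) over the primes p
of A with diagonal map t_A, and M_η(A) ⊆ N_η(A) is the subring of elements sent into the range of
t_R by every ring map from A to a valuation ring R at whose fraction field η is bijective; q_A : A →
M_η(A) is the corestriction of t_A. -/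
theorem result (η : EtaPt.FieldEndo.{u}) (K : Type u) [Field K] : η.M K = ⊤ := by
  rw [eq_top_iff]
  intro x _
  exact aux η K x

end Groth.Agent.S13807
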