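import Groth.Statements.S13808
import Groth.Agent.H16.EtaPt
-- import your own Groth.Agent.* helpers here

set_option autoImplicit false
universe u
open EtaPt

namespace Groth.Agent.S13808

/-- For an integral domain A such that η is bijective at the fraction field of A, the projection of
N_η(A) onto its factor F(k((0))) at the generic point is injective on M_η(A). Here η is a natural
transformation from the identity of the category of fields to an endofunctor F with F(η_K) bijective
and η_K purely inseparable for every field K, N_η(A) is the product of the F(k(p)) over the primes p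
of A with diagonal map t_A, and M_η(A) ⊆ N_η(A) is the subring of elements sent into the range of
t_R by every ring map from A to a valuation ring R at whose fraction field η is bijective; q_A : A →
M_η(A) is the corestriction of t_A. -/
theorem result (η : EtaPt.FieldEndo.{u}) (A : Type u) [CommRing A] [IsDomain A] (hA : η.InV A) :
    Set.InjOn (fun x : η.N A => x ⟨⊥, Ideal.isPrime_bot⟩) (η.M A) := by
  intro x hx y hy hxy
  have hxy' : (x - y) ⟨⊥, Ideal.isPrime_bot⟩ = 0 := by
    simp only [Pi.sub_apply]
    exact sub_eq_zero.mpr hxy
  have hmem : x - y ∈ η.M A := Subring.sub_mem _ hx hy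
  have hker : RingHom.ker (algebraMap A (FractionRing A)) = ⊥ :=
    (RingHom.injective_iff_ker_eq_bot _).mp (IsFractionRing.injective A (FractionRing A))
  have h0 : Groth.Agent.Helper16.EtaLib.ev η (algebraMap A (FractionRing A)) (x - y) = 0 :=
    (Groth.Agent.Helper16.EtaLib.ev_eq_zero_iff η _ ⟨⊥, Ideal.isPrime_bot⟩ hker (x - y)).mpr hxy'
  have : x - y = 0 := by
    funext P
    exact Groth.Agent.Helper16.EtaLib.eq_zero_at_of_ev_eq_zero η hA (algebraMap A (FractionRing A)) P
      (hker ▸ bot_le) hmem h0
  exact sub_eq_zero.mp this

end Groth.Agent.S13808
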