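import Groth.Statements.S13809
import Groth.Agent.H16.EtaPt
-- import your own Groth.Agent.* helpers here

set_option autoImplicit false
universe u
open EtaPt

namespace Groth.Agent.S13809

/-- For an integrally closed domain A such that η is bijective at the fraction field of A, the map q_A :
A → M_η(A) is bijective. Here η is a natural transformation from the identity of the category of
fields to an endofunctor F with F(η_K) bijective and η_K purely inseparable for every field K,
N_η(A) is the product of the F(k(p)) over the primes p of A with diagonal map t_A, and M_η(A) ⊆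
N_η(A) is the subring of elements sent into the range of t_R by every ring map from A to a valuation
ring R at whose fraction field η is bijective; q_A : A → M_η(A) is the corestriction of t_A. -/
theorem result (η : EtaPt.FieldEndo.{u}) (A : Type u) [CommRing A] [IsDomain A] [IsIntegrallyClosed A]
    (hA : η.InV A) : Function.Bijective (η.q A) := by
  have hinj : Function.Injective (algebraMap A (FractionRing A)) :=
    IsFractionRing.injective A (FractionRing A)
  have hker : RingHom.ker (algebraMap A (FractionRing A)) = ⊥ :=
    (RingHom.injective_iff_ker_eq_bot _).mp hinj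
  constructor
  · intro a b hab
    have h1 : η.t A a = η.t A b := congrArg Subtype.val hab
    have h2 := congrArg (Groth.Agent.Helper16.EtaLib.ev η (algebraMap A (FractionRing A))) h1
    rw [Groth.Agent.Helper16.EtaLib.ev_t, Groth.Agent.Helper16.EtaLib.ev_t] at h2
    exact hinj ((η.eta _).injective h2)
  · rintro ⟨x, hx⟩
    obtain ⟨y, hy⟩ := hA.2 (Groth.Agent.Helper16.EtaLib.ev η (algebraMap A (FractionRing A)) x)
    have hint : IsIntegral A y :=
      Groth.Agent.Helper16.EtaLib.isIntegralElem_of_mem_M η hA (algebraMap A (FractionRing A)) hx y hy
    obtain ⟨a, ha⟩ := IsIntegrallyClosed.isIntegral_iff.mp hint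
    refine ⟨a, Subtype.ext ?_⟩
    change η.t A a = x
    have hmem : x - η.t A a ∈ η.M A := Subring.sub_mem _ hx (η.t_mem_M A a)
    have h0 : Groth.Agent.Helper16.EtaLib.ev η (algebraMap A (FractionRing A)) (x - η.t A a) = 0 := by
      rw [map_sub, Groth.Agent.Helper16.EtaLib.ev_t, ← hy, ha, sub_self]
    have : x - η.t A a = 0 := by
      funext P
      exact Groth.Agent.Helper16.EtaLib.eq_zero_at_of_ev_eq_zero η hA (algebraMap A (FractionRing A)) P
        (hker ▸ bot_le) hmem h0
    exact (sub_eq_zero.mp this).symm

end Groth.Agent.S13809
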