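import Groth.Statements.S13820
import Groth.Agent.H16.EtaPt
-- import your own Groth.Agent.* helpers here

set_option autoImplicit false
universe u
open EtaPt

namespace Groth.Agent.S13820

/-- Let A have finitely many minimal prime ideals and let B be an A-algebra with Spec B → Spec A
surjective, C the integral closure of A in B; then the inclusion C ⊆ B carries (C/A)_η onto (B/A)_η.
Here η is a natural transformation from the identity of the category of fields to an endofunctor F
with F(η_K) bijective and η_K purely inseparable for every field K, N_η(A) is the product of the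
F(k(p)) over the primes p of A with diagonal map t_A, and M_η(A) ⊆ N_η(A) is the subring of elements
sent into the range of t_R by every ring map from A to a valuation ring R at whose fraction field η
is bijective; q_A : A → M_η(A) is the corestriction of t_A. For a ring map f : A → B, (B/A)_η ⊆ B
denotes the subring of elements b with t_B(b) in N_η(f)(M_η(A)) (the image in B of the fibre product
of M_η(A) and B over M_η(B)), and q_{B/A} : A → (B/A)_η the corestriction of f. -/
theorem result (η : EtaPt.FieldEndo.{u}) (A B : Type u) [CommRing A] [CommRing B] [Algebra A B]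
    (hA : (minimalPrimes A).Finite) (hs : Function.Surjective (PrimeSpectrum.comap (algebraMap A B))) :
    (η.rel (algebraMap A (integralClosure A B))).map (integralClosure A B).val.toRingHom =
      η.rel (algebraMap A B) := by
  have hcomp : algebraMap A B =
      ((integralClosure A B).val.toRingHom).comp (algebraMap A (integralClosure A B)) := rfl
  have hinj := Groth.Agent.Helper16.EtaLib.Nmap_injective_of η (algebraMap A B) hs
  apply le_antisymm
  · rintro _ ⟨c, ⟨x, hx, hxc⟩, rfl⟩
    refine ⟨x, hx, ?_⟩
    rw [hcomp, Groth.Agent.Helper16.EtaLib.Nmap_comp_apply, hxc, η.Nmap_t_apply]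
  · intro b hb
    obtain ⟨x, hx, hxb⟩ := hb
    have hbint : IsIntegral A b := by
      obtain ⟨P, hP, hPb⟩ := Groth.Agent.Helper16.EtaLib.qRel_isIntegral η hA (algebraMap A B) hinj
        ⟨b, ⟨x, hx, hxb⟩⟩
      refine ⟨P, hP, ?_⟩
      have e5 : ((Polynomial.eval₂ (η.qRel (algebraMap A B)) (⟨b, ⟨x, hx, hxb⟩⟩ : η.rel (algebraMap A B)) P :
          η.rel (algebraMap A B)) : B) = Polynomial.eval₂ (algebraMap A B) b P := by
        rw [← Subring.coe_subtype, Polynomial.hom_eval₂]
        rfl
      rw [← e5, hPb]
      rfl
    refine ⟨⟨b, hbint⟩, ⟨x, hx, ?_⟩, rfl⟩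
    have hmem : η.Nmap (algebraMap A (integralClosure A B)) x -
        η.t (integralClosure A B) ⟨b, hbint⟩ ∈ η.M (integralClosure A B) :=
      Subring.sub_mem _ (Groth.Agent.Helper16.EtaLib.Nmap_mem_M η _ hx) (η.t_mem_M _ _)
    have h0 := Groth.Agent.Helper16.EtaLib.eq_zero_of_Nmap_eq_zero_of_injective η
      ((integralClosure A B).val.toRingHom) Subtype.val_injective hmem (by
        rw [map_sub, ← Groth.Agent.Helper16.EtaLib.Nmap_comp_apply, ← hcomp, hxb, η.Nmap_t_apply]
        exact sub_self _)
    exact sub_eq_zero.mp h0

end Groth.Agent.S13820
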