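import Groth.Statements.S13822
import Groth.Agent.H16.EtaPt
-- import your own Groth.Agent.* helpers here

set_option autoImplicit false
universe u
open scoped TensorProduct
open EtaPt

namespace Groth.Agent.S13822

/-- Let A → A' be faithfully flat with A and A' having finitely many minimal prime ideals, and B an
A-algebra with Spec B → Spec A surjective; if q_{(A' ⊗ B)/A'} is bijective then q_{B/A} is
bijective. Here η is a natural transformation from the identity of the category of fields to an
endofunctor F with F(η_K) bijective and η_K purely inseparable for every field K, N_η(A) is the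
product of the F(k(p)) over the primes p of A with diagonal map t_A, and M_η(A) ⊆ N_η(A) is the
subring of elements sent into the range of t_R by every ring map from A to a valuation ring R at
whose fraction field η is bijective; q_A : A → M_η(A) is the corestriction of t_A. For a ring map f
: A → B, (B/A)_η ⊆ B denotes the subring of elements b with t_B(b) in N_η(f)(M_η(A)) (the image in B
of the fibre product of M_η(A) and B over M_η(B)), and q_{B/A} : A → (B/A)_η the corestriction of f. -/
theorem result (η : EtaPt.FieldEndo.{u}) (A A' B : Type u) [CommRing A] [CommRing A'] [CommRing B]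
    [Algebra A A'] [Algebra A B] [Module.FaithfullyFlat A A']
    (hA : (minimalPrimes A).Finite) (hA' : (minimalPrimes A').Finite)
    (hs : Function.Surjective (PrimeSpectrum.comap (algebraMap A B)))
    (h : Function.Bijective (η.qRel (Algebra.TensorProduct.includeLeftRingHom : A' →+* A' ⊗[A] B))) :
    Function.Bijective (η.qRel (algebraMap A B)) := by
  have hαinj : Function.Injective (algebraMap A A') := FaithfulSMul.algebraMap_injective A A'
  have hcomm : (Algebra.TensorProduct.includeLeftRingHom : A' →+* A' ⊗[A] B).comp (algebraMap A A') =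
      (Algebra.TensorProduct.includeRight : B →ₐ[A] A' ⊗[A] B).toRingHom.comp (algebraMap A B) := by
    ext a
    simp only [RingHom.comp_apply, Algebra.TensorProduct.includeLeftRingHom_apply, AlgHom.toRingHom_eq_coe,
      RingHom.coe_coe, Algebra.TensorProduct.includeRight_apply]
    rw [Algebra.algebraMap_eq_smul_one, Algebra.algebraMap_eq_smul_one (A := B), TensorProduct.tmul_smul,
      TensorProduct.smul_tmul']
  have hFinj : Function.Injective (Algebra.TensorProduct.includeLeftRingHom : A' →+* A' ⊗[A] B) :=
    fun a b hab => h.1 (Subtype.ext hab)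
  constructor
  · intro a b hab
    have h1 : algebraMap A B a = algebraMap A B b := congrArg Subtype.val hab
    apply hαinj
    apply hFinj
    have e1 := DFunLike.congr_fun hcomm a
    have e2 := DFunLike.congr_fun hcomm b
    simp only [RingHom.comp_apply] at e1 e2
    rw [e1, e2, h1]
  · rintro ⟨b, x, hx, hxb⟩
    have hrel : (Algebra.TensorProduct.includeRight : B →ₐ[A] A' ⊗[A] B).toRingHom b ∈
        η.rel (Algebra.TensorProduct.includeLeftRingHom : A' →+* A' ⊗[A] B) := by
      refine ⟨η.Nmap (algebraMap A A') x,
        Groth.Agent.Helper16.EtaLib.Nmap_mem_M η _ hx, ?_⟩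
      rw [← Groth.Agent.Helper16.EtaLib.Nmap_comp_apply, hcomm,
        Groth.Agent.Helper16.EtaLib.Nmap_comp_apply, hxb, η.Nmap_t_apply]
    obtain ⟨a', ha'⟩ := h.2 ⟨_, hrel⟩
    have ha'' : a' ⊗ₜ[A] (1 : B) = (1 : A') ⊗ₜ[A] b := congrArg Subtype.val ha'
    let N : Submodule A B := LinearMap.range (Algebra.linearMap A B)
    have hπ1 : N.mkQ (1 : B) = 0 := by
      rw [Submodule.mkQ_apply, Submodule.Quotient.mk_eq_zero]
      exact ⟨1, by simp⟩
    have h3 : TensorProduct.mk A A' (B ⧸ N) 1 (N.mkQ b) = 0 := by
      have e1 := congrArg (LinearMap.lTensor A' N.mkQ) ha''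
      rw [LinearMap.lTensor_tmul, LinearMap.lTensor_tmul, hπ1, TensorProduct.tmul_zero] at e1
      rw [TensorProduct.mk_apply, ← e1]
    have h4 : N.mkQ b = 0 := by
      apply Module.FaithfullyFlat.tensorProduct_mk_injective (A := A) (B := A') (B ⧸ N)
      rw [h3, map_zero]
    rw [Submodule.mkQ_apply, Submodule.Quotient.mk_eq_zero] at h4
    obtain ⟨a, ha⟩ := h4
    exact ⟨a, Subtype.ext ha⟩

end Groth.Agent.S13822
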