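import Groth.Statements.S13823
import Groth.Agent.H16.EtaPt
-- import your own Groth.Agent.* helpers here

set_option autoImplicit false
universe u
open EtaPt

namespace Groth.Agent.S13823

theorem map_nzd {A A' : Type u} [CommRing A] [CommRing A'] [Algebra A A'] [Module.Flat A A'] :
    nonZeroDivisors A ≤ (nonZeroDivisors A').comap (algebraMap A A') := by
  intro r hr
  rw [Submonoid.mem_comap, mem_nonZeroDivisors_iff_right]
  intro x hx
  have hreg : IsSMulRegular A' r := Module.Flat.isSMulRegular_of_nonZeroDivisors hr
  apply hreg
  simp only [smul_zero]
  rw [Algebra.smul_def, mul_comm]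
  exact hx



/-- Let A → A' be faithfully flat with A and A' having finitely many minimal prime ideals, and let Ā, Ā'
be the integral closures of A, A' in their total rings of fractions; if q_{Ā'/A'} is bijective then
q_{Ā/A} is bijective. Here η is a natural transformation from the identity of the category of fields
to an endofunctor F with F(η_K) bijective and η_K purely inseparable for every field K, N_η(A) is
the product of the F(k(p)) over the primes p of A with diagonal map t_A, and M_η(A) ⊆ N_η(A) is the
subring of elements sent into the range of t_R by every ring map from A to a valuation ring R at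
whose fraction field η is bijective; q_A : A → M_η(A) is the corestriction of t_A. For a ring map f
: A → B, (B/A)_η ⊆ B denotes the subring of elements b with t_B(b) in N_η(f)(M_η(A)) (the image in B
of the fibre product of M_η(A) and B over M_η(B)), and q_{B/A} : A → (B/A)_η the corestriction of f. -/
theorem result (η : EtaPt.FieldEndo.{u}) (A A' : Type u) [CommRing A] [CommRing A'] [Algebra A A'] [Module.FaithfullyFlat A A']
    (hA : (minimalPrimes A).Finite) (hA' : (minimalPrimes A').Finite)
    (h : Function.Bijective (η.qRel (algebraMap A' (integralClosure A' (FractionRing A'))))) :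
    Function.Bijective (η.qRel (algebraMap A (integralClosure A (FractionRing A)))) := by
  have hle := map_nzd (A := A) (A' := A')
  let κ : FractionRing A →+* FractionRing A' :=
    IsLocalization.map (FractionRing A') (algebraMap A A') hle
  have hκ : ∀ a : A, κ (algebraMap A (FractionRing A) a) =
      algebraMap A' (FractionRing A') (algebraMap A A' a) := fun a => IsLocalization.map_eq hle a
  have hmem : ∀ b : integralClosure A (FractionRing A),
      κ (b : FractionRing A) ∈ (integralClosure A' (FractionRing A')).toSubring := by
    rintro ⟨b, P, hP, hPb⟩
    refine ⟨P.map (algebraMap A A'), hP.map _, ?_⟩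
    rw [Polynomial.eval₂_map]
    have e1 : (algebraMap A' (FractionRing A')).comp (algebraMap A A') =
        κ.comp (algebraMap A (FractionRing A)) := RingHom.ext fun a => (hκ a).symm
    rw [e1, ← Polynomial.hom_eval₂, hPb, map_zero]
  let β : integralClosure A (FractionRing A) →+* integralClosure A' (FractionRing A') :=
    (κ.comp (integralClosure A (FractionRing A)).val.toRingHom).codRestrict
      (integralClosure A' (FractionRing A')).toSubring hmem
  have hβ : β.comp (algebraMap A (integralClosure A (FractionRing A))) =
      (algebraMap A' (integralClosure A' (FractionRing A'))).comp (algebraMap A A') := by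
    refine RingHom.ext fun a => Subtype.ext ?_
    exact hκ a
  have hinjA : Function.Injective (algebraMap A (FractionRing A)) :=
    IsFractionRing.injective A (FractionRing A)
  have hinjA' : Function.Injective (algebraMap A' (FractionRing A')) :=
    IsFractionRing.injective A' (FractionRing A')
  constructor
  · intro a b hab
    have h1 : algebraMap A (integralClosure A (FractionRing A)) a =
        algebraMap A (integralClosure A (FractionRing A)) b := congrArg Subtype.val hab
    exact hinjA (congrArg Subtype.val h1)
  · rintro ⟨b, x, hx, hxb⟩
    have hrel : β b ∈ η.rel (algebraMap A' (integralClosure A' (FractionRing A'))) := by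
      refine ⟨η.Nmap (algebraMap A A') x, Groth.Agent.Helper16.EtaLib.Nmap_mem_M η _ hx, ?_⟩
      rw [← Groth.Agent.Helper16.EtaLib.Nmap_comp_apply, ← hβ,
        Groth.Agent.Helper16.EtaLib.Nmap_comp_apply, hxb, η.Nmap_t_apply]
    obtain ⟨a', ha'⟩ := h.2 ⟨β b, hrel⟩
    have ha'' : algebraMap A' (FractionRing A') a' = κ (b : FractionRing A) := by
      have := congrArg Subtype.val (congrArg Subtype.val ha')
      exact this
    obtain ⟨⟨c, d⟩, hcd⟩ := IsLocalization.surj (nonZeroDivisors A) (b : FractionRing A)
    simp only at hcd
    have h2 : algebraMap A A' c = a' * algebraMap A A' d := by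
      apply hinjA'
      rw [map_mul, ← hκ, ← hκ, ← hcd, map_mul, ha'']
    have h3 : c ∈ Ideal.span {(d : A)} := by
      rw [← Ideal.comap_map_eq_self_of_faithfullyFlat (B := A') (Ideal.span {(d : A)}),
        Ideal.mem_comap, Ideal.map_span, Set.image_singleton, Ideal.mem_span_singleton']
      exact ⟨a', h2.symm⟩
    obtain ⟨a, ha⟩ := Ideal.mem_span_singleton'.mp h3
    refine ⟨a, Subtype.ext (Subtype.ext ?_)⟩
    change algebraMap A (FractionRing A) a = (b : FractionRing A)
    have hdunit : IsUnit (algebraMap A (FractionRing A) (d : A)) :=
      IsLocalization.map_units (FractionRing A) d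
    apply hdunit.mul_right_cancel
    rw [hcd, ← ha, map_mul]

end Groth.Agent.S13823
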