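import Groth.Statements.S13826
import Groth.Agent.H16.EtaPtSch
-- import your own Groth.Agent.* helpers here

set_option autoImplicit false
universe u
open EtaPt

namespace Groth.Agent.S13826

/-- For the identity endofunctor and a commutative ring A with finitely many minimal prime ideals, q_A :
A → M(A) is a seminormalization of A: Spec(q_A) is a universal homeomorphism with trivial residue
field extensions, final among ring maps out of A with these properties. Here M(A) ⊆ ∏_p k(p) is the
subring of families whose image in ∏_q k(q), for every ring map from A to a valuation ring R, is the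
diagonal image of an element of R. -/
theorem result (A : Type u) [CommRing A] (hA : (minimalPrimes A).Finite) :
    HTop.IsRingSN (EtaPt.FieldEndo.ident.{u}.q A) := by
  refine ⟨Groth.Agent.Helper16.EtaLib.isUnivHomeo_and_residueFieldsIso_of _
    (Groth.Agent.Helper16.EtaLib.q_isIntegral EtaPt.FieldEndo.ident.{u} A hA)
    (Groth.Agent.Helper16.EtaLib.comap_q_bijective EtaPt.FieldEndo.ident.{u} A hA) (fun Q => ?_),
    fun C _ ψ h1 h2 => ?_⟩
  · obtain ⟨φ, hφ, -⟩ :=
      Groth.Agent.Helper16.EtaLib.exists_residue_factor EtaPt.FieldEndo.ident.{u} A hA Q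
    refine ⟨RingHom.injective _, fun z => ⟨φ z, ?_⟩⟩
    apply φ.injective
    exact DFunLike.congr_fun hφ (φ z)
  · obtain ⟨hint, hbij, hres⟩ :=
      Groth.Agent.Helper16.EtaLib.of_isUnivHomeo_and_residueFieldsIso ψ h1 h2
    have hN : Function.Bijective (EtaPt.FieldEndo.ident.{u}.Nmap ψ) :=
      Groth.Agent.Helper16.EtaLib.Nmap_bijective_of EtaPt.FieldEndo.ident.{u} ψ hbij
        (fun Q => (hres Q).2)
    exact Groth.Agent.Helper16.EtaLib.existsUnique_lift EtaPt.FieldEndo.ident.{u} ψ hint hN

end Groth.Agent.S13826
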