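import Groth.Statements.S13829
import Groth.Agent.H16.EtaPtLoc2
-- import your own Groth.Agent.* helpers here

set_option autoImplicit false
universe u
open EtaPt

namespace Groth.Agent.S13829

/-- For A with finitely many minimal prime ideals, f ∈ A and a ring map φ : A → B with Spec(φ)
surjective, the localization of (B/A)_η at f is (B_f/A_f)_η: the image of (B/A)_η in B_f lies in
(B_f/A_f)_η, and every element of (B_f/A_f)_η times a power of the image of f is the image of an
element of (B/A)_η. Here η is a natural transformation from the identity of the category of fields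
to an endofunctor F with F(η_K) bijective and η_K purely inseparable for every field K, N_η(A) is
the product of the F(k(p)) over the primes p of A with diagonal map t_A, and M_η(A) ⊆ N_η(A) is the
subring of elements sent into the range of t_R by every ring map from A to a valuation ring R at
whose fraction field η is bijective; q_A : A → M_η(A) is the corestriction of t_A. For a ring map f
: A → B, (B/A)_η ⊆ B denotes the subring of elements b with t_B(b) in N_η(f)(M_η(A)) (the image in B
of the fibre product of M_η(A) and B over M_η(B)), and q_{B/A} : A → (B/A)_η the corestriction of f. -/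
theorem result (η : EtaPt.FieldEndo.{u}) {A B : Type u} [CommRing A] [CommRing B] (hA : (minimalPrimes A).Finite)
    (φ : A →+* B) (hs : Function.Surjective (PrimeSpectrum.comap φ)) (f : A) :
    (η.rel φ).map (algebraMap B (Localization.Away (φ f))) ≤ η.rel (Localization.awayMap φ f) ∧
      ∀ y ∈ η.rel (Localization.awayMap φ f), ∃ x ∈ η.rel φ, ∃ n : ℕ,
        y * algebraMap B (Localization.Away (φ f)) (φ f) ^ n = algebraMap B (Localization.Away (φ f)) x := by
  have hcomm : (Localization.awayMap φ f).comp (algebraMap A (Localization.Away f)) =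
      (algebraMap B (Localization.Away (φ f))).comp φ := IsLocalization.map_comp _
  constructor
  · rintro _ ⟨b, ⟨x, hx, hxb⟩, rfl⟩
    refine ⟨η.Nmap (algebraMap A (Localization.Away f)) x,
      Groth.Agent.Helper16.EtaLib.Nmap_mem_M η _ hx, ?_⟩
    rw [← Groth.Agent.Helper16.EtaLib.Nmap_comp_apply, hcomm,
      Groth.Agent.Helper16.EtaLib.Nmap_comp_apply, hxb, η.Nmap_t_apply]
  · rintro y ⟨z, hz, hzy⟩
    obtain ⟨x, hx, n, hxn⟩ := Groth.Agent.Helper16.EtaLib.S13825_a η A f hA z hz
    obtain ⟨⟨b, ⟨_, m, rfl⟩⟩, hbm⟩ := IsLocalization.surj (Submonoid.powers (φ f)) y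
    simp only at hbm
    rw [map_pow] at hbm
    have hT1 : η.Nmap (Localization.awayMap φ f)
        (η.t (Localization.Away f) (algebraMap A (Localization.Away f) f)) =
        η.t (Localization.Away (φ f)) (algebraMap B (Localization.Away (φ f)) (φ f)) := by
      rw [η.Nmap_t_apply]
      congr 1
      exact DFunLike.congr_fun hcomm f
    have hT3 : η.Nmap (algebraMap A (Localization.Away f)) (η.t A f) =
        η.t (Localization.Away f) (algebraMap A (Localization.Away f) f) := η.Nmap_t_apply _ _
    have hT4 : η.Nmap φ (η.t A f) = η.t B (φ f) := η.Nmap_t_apply _ _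
    have hsq : ∀ w : η.N A, η.Nmap (algebraMap B (Localization.Away (φ f))) (η.Nmap φ w) =
        η.Nmap (Localization.awayMap φ f) (η.Nmap (algebraMap A (Localization.Away f)) w) := by
      intro w
      rw [← Groth.Agent.Helper16.EtaLib.Nmap_comp_apply, ← Groth.Agent.Helper16.EtaLib.Nmap_comp_apply,
        hcomm]
    have L1 : η.Nmap (algebraMap B (Localization.Away (φ f))) (η.t B (b * φ f ^ n)) =
        η.t (Localization.Away (φ f)) y *
          η.t (Localization.Away (φ f)) (algebraMap B (Localization.Away (φ f)) (φ f)) ^ (m + n) := by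
      rw [η.Nmap_t_apply, map_mul (algebraMap B _), ← hbm, map_pow (algebraMap B _), map_mul (η.t _),
        map_mul (η.t _), map_pow (η.t _), map_pow (η.t _)]
      ring
    have L2 : η.Nmap (algebraMap B (Localization.Away (φ f))) (η.Nmap φ (η.t A f ^ m * x)) =
        η.t (Localization.Away (φ f)) y *
          η.t (Localization.Away (φ f)) (algebraMap B (Localization.Away (φ f)) (φ f)) ^ (m + n) := by
      rw [hsq, map_mul (η.Nmap (algebraMap A _)), map_pow (η.Nmap (algebraMap A _)), hT3, ← hxn,
        map_mul (η.Nmap (Localization.awayMap φ f)), map_mul (η.Nmap (Localization.awayMap φ f)),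
        map_pow (η.Nmap (Localization.awayMap φ f)), map_pow (η.Nmap (Localization.awayMap φ f)),
        hT1, hzy]
      ring
    have key : η.Nmap (algebraMap B (Localization.Away (φ f)))
        (η.t B (b * φ f ^ n) - η.Nmap φ (η.t A f ^ m * x)) = 0 := by
      rw [map_sub, L1, L2, sub_self]
    obtain ⟨N, hN⟩ := (Groth.Agent.Helper16.EtaLib.S13824_main η B (φ f)).2 _ key
    refine ⟨b * φ f ^ (n + N), ⟨η.t A f ^ (m + N) * x, ?_, ?_⟩, m + n + N, ?_⟩
    · exact Subring.mul_mem _ (Subring.pow_mem _ (η.t_mem_M A f) _) hx
    · have e2 : η.t B (φ f) ^ N * (η.t B b * η.t B (φ f) ^ n) =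
          η.t B (φ f) ^ N * (η.t B (φ f) ^ m * η.Nmap φ x) := by
        have := hN
        rw [mul_sub, sub_eq_zero, map_mul (η.t B), map_pow (η.t B), map_mul (η.Nmap φ),
          map_pow (η.Nmap φ), hT4] at this
        exact this
      rw [map_mul (η.Nmap φ), map_pow (η.Nmap φ), hT4, map_mul (η.t B), map_pow (η.t B), pow_add,
        pow_add]
      linear_combination (-1 : η.N B) * e2
    · rw [map_mul (algebraMap B _), ← hbm, map_pow (algebraMap B _)]
      ring

end Groth.Agent.S13829
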