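import Groth.Statements.S13830
import Groth.Agent.H16.EtaPtSch
-- import your own Groth.Agent.* helpers here

set_option autoImplicit false
universe u
open AlgebraicGeometry
open EtaPt

namespace Groth.Agent.S13830

/-- For the identity endofunctor, a commutative ring A with finitely many minimal prime ideals and an
A-algebra B with Spec B → Spec A surjective, the subring (B/A) ⊆ B (elements b whose residue classes
(b mod q)_q come from a family in M(A) ⊆ ∏_p k(p), M(A) being the families that come from an element
of R after any base change to a valuation ring R) is the seminormalization of A in B: Spec (B/A) →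
Spec A is a universal homeomorphism with trivial residue field extensions, and every A-subalgebra C
of B with these two properties is contained in (B/A). -/
theorem result (A B : Type u) [CommRing A] [CommRing B] [Algebra A B] (hA : (minimalPrimes A).Finite)
    (hs : Function.Surjective (PrimeSpectrum.comap (algebraMap A B))) :
    (FlatMor.IsUnivHomeo (Spec.map (CommRingCat.ofHom (EtaPt.FieldEndo.ident.{u}.qRel (algebraMap A B)))) ∧
      HTop.ResidueFieldsIso (Spec.map (CommRingCat.ofHom (EtaPt.FieldEndo.ident.{u}.qRel (algebraMap A B))))) ∧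
    ∀ C : Subalgebra A B,
      FlatMor.IsUnivHomeo (Spec.map (CommRingCat.ofHom (algebraMap A C))) →
      HTop.ResidueFieldsIso (Spec.map (CommRingCat.ofHom (algebraMap A C))) →
      C.toSubring ≤ EtaPt.FieldEndo.ident.{u}.rel (algebraMap A B) := by
  refine ⟨Groth.Agent.Helper16.EtaLib.isUnivHomeo_and_residueFieldsIso_of _
    (Groth.Agent.Helper16.EtaLib.qRel_isIntegral EtaPt.FieldEndo.ident.{u} hA (algebraMap A B)
      (Groth.Agent.Helper16.EtaLib.Nmap_injective_of EtaPt.FieldEndo.ident.{u} (algebraMap A B) hs))
    (Groth.Agent.Helper16.EtaLib.comap_qRel_bijective EtaPt.FieldEndo.ident.{u} hA (algebraMap A B) hs)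
    (fun Q => ?_), fun C h1 h2 => ?_⟩
  · obtain ⟨φ, hφ⟩ :=
      Groth.Agent.Helper16.EtaLib.exists_residue_factor_qRel EtaPt.FieldEndo.ident.{u} hA
        (algebraMap A B) hs Q
    refine ⟨RingHom.injective _, fun z => ⟨φ z, ?_⟩⟩
    apply φ.injective
    exact DFunLike.congr_fun hφ (φ z)
  · obtain ⟨hint, hbij, hres⟩ :=
      Groth.Agent.Helper16.EtaLib.of_isUnivHomeo_and_residueFieldsIso (algebraMap A C) h1 h2
    have hN : Function.Bijective (EtaPt.FieldEndo.ident.{u}.Nmap (algebraMap A C)) :=
      Groth.Agent.Helper16.EtaLib.Nmap_bijective_of EtaPt.FieldEndo.ident.{u} (algebraMap A C) hbij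
        (fun Q => (hres Q).2)
    intro c hc
    obtain ⟨x, hx, hxc⟩ :=
      (Groth.Agent.Helper16.EtaLib.bijOn_Nmap_M EtaPt.FieldEndo.ident.{u} (algebraMap A C) hint
        hN).surjOn (EtaPt.FieldEndo.ident.{u}.t_mem_M C ⟨c, hc⟩)
    refine ⟨x, hx, ?_⟩
    have hcomp : algebraMap A B = (C.val.toRingHom).comp (algebraMap A C) := rfl
    rw [hcomp, Groth.Agent.Helper16.EtaLib.Nmap_comp_apply, hxc,
      EtaPt.FieldEndo.ident.{u}.Nmap_t_apply]
    rfl

end Groth.Agent.S13830
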