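import Groth.Statements.S13835
import Groth.Agent.S0415

set_option autoImplicit false
universe u
open AlgebraicGeometry CategoryTheory
open ChowMon

namespace Groth.Agent.S13835

/-- Let p : T' → T be a universal homeomorphism of separated schemes with T reduced and f' : T' → Y a
morphism (Y separated); if T has an open cover by affine opens U_i such that each restriction of f'
to p⁻¹(U_i) factors through p⁻¹(U_i) → U_i, then f' factors through p. -/
theorem result {T' T Y : Scheme.{u}} (p : T' ⟶ T) (hp : FlatMor.IsUnivHomeo p) [IsReduced T]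
    [T.IsSeparated] [T'.IsSeparated] [Y.IsSeparated] (f' : T' ⟶ Y)
    {ι : Type u} (U : ι → T.affineOpens) (hU : ⨆ i, (U i : T.Opens) = ⊤)
    (hloc : ∀ i, ∃ fi : ((U i : T.Opens) : Scheme.{u}) ⟶ Y, (p ⁻¹ᵁ (U i : T.Opens)).ι ≫ f' = (p ∣_ (U i : T.Opens)) ≫ fi) :
    ∃ f : T ⟶ Y, p ≫ f = f' := by
  classical
  choose fi hfi using hloc
  have hsurj : Surjective p := ((Groth.Agent.S0415.result p).1 hp).2.2
  let 𝒰 : T.OpenCover := T.openCoverOfIsOpenCover (fun i => (U i : T.Opens)) (TopologicalSpace.IsOpenCover.mk hU)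
  have hcompat : ∀ i j, Limits.pullback.fst (𝒰.f i) (𝒰.f j) ≫ fi i = Limits.pullback.snd (𝒰.f i) (𝒰.f j) ≫ fi j := by
    intro i j
    let V := Limits.pullback (𝒰.f i) (𝒰.f j)
    haveI : IsReduced V := isReduced_of_isOpenImmersion (Limits.pullback.fst (𝒰.f i) (𝒰.f j) ≫ 𝒰.f i)
    let q : Limits.pullback p (Limits.pullback.fst (𝒰.f i) (𝒰.f j) ≫ 𝒰.f i) ⟶ V := Limits.pullback.snd _ _
    haveI : Surjective q := inferInstance
    let a := Limits.pullback.fst p (Limits.pullback.fst (𝒰.f i) (𝒰.f j) ≫ 𝒰.f i)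
    have hcond : a ≫ p = q ≫ Limits.pullback.fst (𝒰.f i) (𝒰.f j) ≫ 𝒰.f i := Limits.pullback.condition
    have hcond' : a ≫ p = q ≫ Limits.pullback.snd (𝒰.f i) (𝒰.f j) ≫ 𝒰.f j :=
      hcond.trans (congrArg (q ≫ ·) Limits.pullback.condition)
    have key : ∀ (k : ι) (b : Limits.pullback p (Limits.pullback.fst (𝒰.f i) (𝒰.f j) ≫ 𝒰.f i) ⟶ (U k : T.Opens))
        (hb : a ≫ p = b ≫ (U k : T.Opens).ι), b ≫ fi k = a ≫ f' := by
      intro k b hb
      obtain ⟨ak, h1, h2⟩ : ∃ ak, ak ≫ (p ∣_ (U k : T.Opens)) = b ∧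
          ak ≫ (p ⁻¹ᵁ (U k : T.Opens)).ι = a :=
        ⟨(isPullback_morphismRestrict p (U k : T.Opens)).lift b a hb.symm,
          (isPullback_morphismRestrict p (U k : T.Opens)).lift_fst _ _ _,
          (isPullback_morphismRestrict p (U k : T.Opens)).lift_snd _ _ _⟩
      rw [← h1, Category.assoc, ← hfi k, ← Category.assoc, h2]
    apply ext_of_isDominant q
    have e1 := key i (q ≫ Limits.pullback.fst (𝒰.f i) (𝒰.f j)) (by
      rw [Category.assoc]; exact hcond)
    have e2 := key j (q ≫ Limits.pullback.snd (𝒰.f i) (𝒰.f j)) (by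
      rw [Category.assoc]; exact hcond')
    simp only [Category.assoc] at e1 e2
    exact e1.trans e2.symm
  refine ⟨𝒰.glueMorphisms fi hcompat, ?_⟩
  have hU' : TopologicalSpace.IsOpenCover (fun i => p ⁻¹ᵁ (U i : T.Opens)) := by
    apply TopologicalSpace.IsOpenCover.mk
    rw [← Scheme.Hom.preimage_iSup, hU]
    rfl
  apply (T'.openCoverOfIsOpenCover _ hU').hom_ext
  intro i
  change (p ⁻¹ᵁ (U i : T.Opens)).ι ≫ p ≫ _ = (p ⁻¹ᵁ (U i : T.Opens)).ι ≫ f'
  rw [← Category.assoc, ← morphismRestrict_ι, Category.assoc]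
  have := 𝒰.ι_glueMorphisms fi hcompat i
  change (U i : T.Opens).ι ≫ _ = _ at this
  rw [this, hfi i]

end Groth.Agent.S13835
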