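import Groth.Statements.S13837
import Groth.Agent.H16.HTopWN
-- import your own Groth.Agent.* helpers here

set_option autoImplicit false
universe u
open AlgebraicGeometry
open scoped TensorProduct
open HTop

namespace Groth.Agent.S13837

/-- Let A ⊆ B be an integral ring extension where A and B have finitely many minimal prime ideals; then
the weak normalization of A in B is the equaliser of the two maps B ⇉ (B ⊗_A B)_red: the
A-subalgebra E of elements b with b ⊗ 1 − 1 ⊗ b nilpotent in B ⊗_A B has Spec E → Spec A a universal
homeomorphism, and every A-subalgebra C of B with Spec C → Spec A a universal homeomorphism is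
contained in E. -/
theorem result (A B : Type u) [CommRing A] [CommRing B] [Algebra A B] (hinj : Function.Injective (algebraMap A B))
    [Algebra.IsIntegral A B] (hA : (minimalPrimes A).Finite) (hB : (minimalPrimes B).Finite) :
    ∃ E : Subalgebra A B, (∀ b : B, b ∈ E ↔ IsNilpotent (b ⊗ₜ[A] (1 : B) - (1 : B) ⊗ₜ[A] b)) ∧
      FlatMor.IsUnivHomeo (Spec.map (CommRingCat.ofHom (algebraMap A E))) ∧
      ∀ C : Subalgebra A B, FlatMor.IsUnivHomeo (Spec.map (CommRingCat.ofHom (algebraMap A C))) → C ≤ E := by
  refine ⟨Groth.Agent.Helper16.EtaLib.wnSub A B, fun b => Groth.Agent.Helper16.EtaLib.mem_wnSub b, ?_, fun C hC => ?_⟩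
  · have hint : Algebra.IsIntegral A (Groth.Agent.Helper16.EtaLib.wnSub A B) :=
      Algebra.IsIntegral.of_injective (Groth.Agent.Helper16.EtaLib.wnSub A B).val Subtype.val_injective
    have h1 : IsIntegralHom (Spec.map (CommRingCat.ofHom (algebraMap A (Groth.Agent.Helper16.EtaLib.wnSub A B)))) :=
      IsIntegralHom.SpecMap_iff.mpr (algebraMap_isIntegral_iff.mpr hint)
    have hinj' : Function.Injective (algebraMap A (Groth.Agent.Helper16.EtaLib.wnSub A B)) := by
      intro a a' h
      apply hinj
      exact congrArg Subtype.val h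
    have : FaithfulSMul A (Groth.Agent.Helper16.EtaLib.wnSub A B) := (faithfulSMul_iff_algebraMap_injective _ _).mpr hinj'
    have h2 : Surjective (Spec.map (CommRingCat.ofHom (algebraMap A (Groth.Agent.Helper16.EtaLib.wnSub A B)))) :=
      ⟨Algebra.IsIntegral.comap_surjective A (Groth.Agent.Helper16.EtaLib.wnSub A B)⟩
    have h3 : UniversallyInjective (Spec.map (CommRingCat.ofHom (algebraMap A (Groth.Agent.Helper16.EtaLib.wnSub A B)))) :=
      Groth.Agent.Helper16.EtaLib.universallyInjective_wnSub
    exact Groth.Agent.Helper16.EtaLib.isUnivHomeo_of_integral_of_universallyInjective_of_surjective _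
  · exact Groth.Agent.Helper16.EtaLib.le_wnSub_of_universallyInjective C (Groth.Agent.Helper16.EtaLib.universallyInjective_of_isUnivHomeo _ hC)

end Groth.Agent.S13837
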