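import Groth.Statements.S13838
import Groth.Agent.H16.HTopRes
-- import your own Groth.Agent.* helpers here

set_option autoImplicit false
universe u
open AlgebraicGeometry
open HTop

namespace Groth.Agent.S13838

open Groth.Agent.Helper16.EtaLib in
theorem main {A B : Type u} [CommRing A] [CommRing B] [Algebra A B]
    (hpi : ∀ p : PrimeSpectrum A, ∃ q : PrimeSpectrum B, ∃ hq : p.asIdeal = Ideal.comap (algebraMap A B) q.asIdeal,
      ∀ x : q.asIdeal.ResidueField,
        (∃ n : ℕ, x ^ ringExpChar p.asIdeal.ResidueField ^ n ∈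
            Set.range (Ideal.ResidueField.map p.asIdeal q.asIdeal (algebraMap A B) hq)) →
        x ∈ Set.range (Ideal.ResidueField.map p.asIdeal q.asIdeal (algebraMap A B) hq))
    (C : Subalgebra A B) (hC : FlatMor.IsUnivHomeo (Spec.map (CommRingCat.ofHom (algebraMap A C))))
    (𝔠 : PrimeSpectrum C) :
    Function.Bijective (Ideal.ResidueField.map (PrimeSpectrum.comap (algebraMap A C) 𝔠).asIdeal
      𝔠.asIdeal (algebraMap A C) rfl) := by
  have hUI := universallyInjective_of_isUnivHomeo _ hC
  have hinj := comap_injective_of_isUnivHomeo _ hC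
  refine ⟨RingHom.injective _, fun z => ?_⟩
  obtain ⟨q, hq, hcl⟩ := hpi (PrimeSpectrum.comap (algebraMap A C) 𝔠)
  have h𝔠 : PrimeSpectrum.comap C.val.toRingHom q = 𝔠 := by
    apply hinj
    apply PrimeSpectrum.ext
    rw [hq]
    rfl
  have h𝔠' : 𝔠.asIdeal = Ideal.comap C.val.toRingHom q.asIdeal := by
    rw [← h𝔠]; rfl
  have hcomp := resMap_comp' (PrimeSpectrum.comap (algebraMap A C) 𝔠).asIdeal 𝔠.asIdeal q.asIdeal
    (algebraMap A C) C.val.toRingHom rfl h𝔠' hq
  obtain ⟨n, w, hw⟩ := pow_mem_range_of_universallyInjective (algebraMap A C) hUI 𝔠 z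
  have h1 := hcl (Ideal.ResidueField.map 𝔠.asIdeal q.asIdeal C.val.toRingHom h𝔠' z) ⟨n, w, by
    have := DFunLike.congr_fun hcomp w
    rw [RingHom.comp_apply, hw, map_pow] at this
    exact this.symm⟩
  obtain ⟨w', hw'⟩ := h1
  refine ⟨w', ?_⟩
  apply (Ideal.ResidueField.map 𝔠.asIdeal q.asIdeal C.val.toRingHom h𝔠').injective
  rw [← hw']
  exact DFunLike.congr_fun hcomp w'


/-- Let A ⊆ B be an integral ring extension where A and B have finitely many minimal prime ideals, such
that every prime p of A has a prime q of B above it for which k(p) is closed under extracting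
p-power roots inside k(q) (the purely inseparable closure of k(p) in k(q) is k(p)); then the semi-
and weak normalizations of A in B coincide: every A-subalgebra C of B with Spec C → Spec A a
universal homeomorphism already induces isomorphisms on residue fields. -/
theorem result (A B : Type u) [CommRing A] [CommRing B] [Algebra A B] (hinj : Function.Injective (algebraMap A B))
    [Algebra.IsIntegral A B] (hA : (minimalPrimes A).Finite) (hB : (minimalPrimes B).Finite)
    (hpi : ∀ p : PrimeSpectrum A, ∃ q : PrimeSpectrum B, ∃ hq : p.asIdeal = Ideal.comap (algebraMap A B) q.asIdeal,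
      ∀ x : q.asIdeal.ResidueField,
        (∃ n : ℕ, x ^ ringExpChar p.asIdeal.ResidueField ^ n ∈
            Set.range (Ideal.ResidueField.map p.asIdeal q.asIdeal (algebraMap A B) hq)) →
        x ∈ Set.range (Ideal.ResidueField.map p.asIdeal q.asIdeal (algebraMap A B) hq)) :
    ∀ C : Subalgebra A B, FlatMor.IsUnivHomeo (Spec.map (CommRingCat.ofHom (algebraMap A C))) →
      HTop.ResidueFieldsIso (Spec.map (CommRingCat.ofHom (algebraMap A C))) := by
  intro C hC 𝔠
  rw [CategoryTheory.ConcreteCategory.isIso_iff_bijective]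
  exact (Groth.Agent.Helper16.EtaLib.residueFieldMap_bijective_iff
    (CommRingCat.ofHom (algebraMap A C)) 𝔠).mpr (main hpi C hC 𝔠)

end Groth.Agent.S13838
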