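import Groth.Statements.S13846
import Mathlib

set_option autoImplicit false
universe u v
open TwSh

namespace Groth.Agent.S13846


section Aux

variable {k : Type u} [Field k] {V : Type v} [AddCommGroup V] [Module k V]

theorem exists_functional (𝒱 : ℤ → Submodule k V) (hind : iSupIndep 𝒱) (htop : iSup 𝒱 = ⊤)
    (a : ℤ) (v : V) (hv : v ∈ 𝒱 a) (hv0 : v ≠ 0) :
    ∃ lam : V →ₗ[k] k, lam v = 1 ∧ ∀ j, j ≠ a → ∀ x ∈ 𝒱 j, lam x = 0 := by
  have hc : IsCompl (𝒱 a) (⨆ (j) (_ : j ≠ a), 𝒱 j) :=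
    ⟨hind a, codisjoint_iff.mpr ((iSup_split_single 𝒱 a).symm.trans htop)⟩
  obtain ⟨l', hl'⟩ := Module.Projective.exists_dual_eq_one k hv0
  refine ⟨l' ∘ₗ (Submodule.projection (𝒱 a) _ hc), ?_, ?_⟩
  · rw [LinearMap.comp_apply, Submodule.projection_apply_of_mem_left hc hv]
    exact hl'
  · intro j hj x hx
    have hx' : x ∈ ⨆ (j) (_ : j ≠ a), 𝒱 j :=
      Submodule.mem_iSup_of_mem j (Submodule.mem_iSup_of_mem hj hx)
    rw [LinearMap.comp_apply, Submodule.projection_apply_of_mem_right hc hx', map_zero]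

end Aux


/-- Let k be a field and V, W finite-dimensional ℤ-graded k-vector spaces, V = ⊕ V_i with V ≠ 0 and W =
⊕ W_i. Let φ : End_k(V) ≃ End_k(W) be a k-algebra isomorphism which sends every endomorphism
homogeneous of degree d (one mapping V_i into V_{i+d} for all i) to an endomorphism homogeneous of
degree d. Then there are an integer n and a k-linear isomorphism g : V ≅ W with g(V_i) = W_{i+n} for
every i such that φ(f) = g ∘ f ∘ g⁻¹ for all f; moreover n is unique and g is unique up to a nonzero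
scalar: if g' : V ≅ W satisfies g'(V_i) = W_{i+n'} for all i and φ(f) = g' ∘ f ∘ g'⁻¹ for all f,
then n' = n and g' = c·g for some c ∈ kˣ. (The published statement is about non-zero perfect
complexes over k: an isomorphism of their derived endomorphism algebras, as algebra objects of the
derived category, is induced by an isomorphism from the first complex to a shift of the second, for
a unique shift and up to a unit; this row is its form for finite-dimensional ℤ-graded vector spaces,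
to which the bounded derived category of a field is equivalent by taking cohomology.) -/
theorem result (k : Type u) [Field k] (V W : Type v) [AddCommGroup V] [Module k V] [FiniteDimensional k V] [Nontrivial V] [AddCommGroup W] [Module k W] [FiniteDimensional k W] (𝒱 : ℤ → Submodule k V) (h𝒱 : DirectSum.IsInternal 𝒱) (𝒲 : ℤ → Submodule k W) (h𝒲 : DirectSum.IsInternal 𝒲) (φ : Module.End k V ≃ₐ[k] Module.End k W) (hφ : ∀ (d : ℤ) (f : Module.End k V), (∀ (i : ℤ) (x : V), x ∈ 𝒱 i → f x ∈ 𝒱 (i + d)) → ∀ (i : ℤ) (y : W), y ∈ 𝒲 i → φ f y ∈ 𝒲 (i + d)) : ∃ (n : ℤ) (g : V ≃ₗ[k] W), (∀ i : ℤ, Submodule.map (g : V →ₗ[k] W) (𝒱 i) = 𝒲 (i + n)) ∧ (∀ f : Module.End k V, φ f = (g : V →ₗ[k] W) ∘ₗ f ∘ₗ (g.symm : W →ₗ[k] V)) ∧ ∀ (n' : ℤ) (g' : V ≃ₗ[k] W), (∀ i : ℤ, Submodule.map (g' : V →ₗ[k] W) (𝒱 i) = 𝒲 (i + n')) → (∀ f : Module.End k V, φ f = (g' : V →ₗ[k] W) ∘ₗ f ∘ₗ (g'.symm : W →ₗ[k] V)) → n' = n ∧ ∃ c : kˣ, ∀ x : V, g' x = c • g x := by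
  classical
  obtain ⟨T, hT⟩ := φ.eq_linearEquivConjAlgEquiv
  have hφT : ∀ (f : Module.End k V) (x : V), φ f (T x) = T (f x) := by
    intro f x
    rw [hT, LinearEquiv.conjAlgEquiv_apply]
    simp
  have hVtop : iSup 𝒱 = ⊤ := h𝒱.submodule_iSup_eq_top
  have hWtop : iSup 𝒲 = ⊤ := h𝒲.submodule_iSup_eq_top
  have hVind : iSupIndep 𝒱 := h𝒱.submodule_iSupIndep
  have hWind : iSupIndep 𝒲 := h𝒲.submodule_iSupIndep
  have hWdisj : ∀ i j, i ≠ j → ∀ y, y ∈ 𝒲 i → y ∈ 𝒲 j → y = 0 := by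
    intro i j hij y hi hj
    have hd : Disjoint (𝒲 i) (𝒲 j) := hWind.pairwiseDisjoint hij
    exact (Submodule.disjoint_def.mp hd) y hi hj
  obtain ⟨a0, v0, hv0, hv0ne⟩ : ∃ a0 v0, v0 ∈ 𝒱 a0 ∧ v0 ≠ 0 := by
    by_contra hcon
    push_neg at hcon
    have h0 : iSup 𝒱 = ⊥ := by
      rw [eq_bot_iff]
      apply iSup_le
      intro i x hx
      rw [Submodule.mem_bot]
      exact hcon i x hx
    rw [hVtop] at h0
    exact top_ne_bot h0
  obtain ⟨lam0, hlam0, hlam0'⟩ := exists_functional 𝒱 hVind hVtop a0 v0 hv0 hv0ne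
  -- Step A: T v0 is homogeneous
  obtain ⟨j0, hj0⟩ : ∃ j0, T v0 ∈ 𝒲 j0 := by
    have hf : ∀ (i : ℤ) (x : V), x ∈ 𝒱 i → (lam0.smulRight v0) x ∈ 𝒱 (i + 0) := by
      intro i x hx
      rw [LinearMap.smulRight_apply, add_zero]
      by_cases hia : i = a0
      · rw [hia]
        exact (𝒱 a0).smul_mem _ hv0
      · rw [hlam0' i hia x hx, zero_smul]
        exact Submodule.zero_mem _
    have hQ := hφ 0 (lam0.smulRight v0) hf
    have hQy : ∀ y : W, φ (lam0.smulRight v0) y = lam0 (T.symm y) • T v0 := by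
      intro y
      have h := hφT (lam0.smulRight v0) (T.symm y)
      rw [T.apply_symm_apply, LinearMap.smulRight_apply, map_smul] at h
      exact h
    by_contra hcon
    push_neg at hcon
    have hker : ∀ j, 𝒲 j ≤ LinearMap.ker (lam0 ∘ₗ (T.symm : W →ₗ[k] V)) := by
      intro j y hy
      rw [LinearMap.mem_ker, LinearMap.comp_apply, LinearEquiv.coe_coe]
      by_contra hne
      have h1 := hQ j y hy
      rw [hQy y, add_zero] at h1
      have h2 : T v0 ∈ 𝒲 j := by
        have h5 := (𝒲 j).smul_mem (lam0 (T.symm y))⁻¹ h1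
        rwa [smul_smul, inv_mul_cancel₀ hne, one_smul] at h5
      exact hcon j h2
    have htop' : (⊤ : Submodule k W) ≤ LinearMap.ker (lam0 ∘ₗ (T.symm : W →ₗ[k] V)) := by
      rw [← hWtop]
      exact iSup_le hker
    have h3 := htop' (Submodule.mem_top : T v0 ∈ ⊤)
    rw [LinearMap.mem_ker, LinearMap.comp_apply, LinearEquiv.coe_coe, T.symm_apply_apply,
      hlam0] at h3
    exact one_ne_zero h3
  -- Step B
  have hTV : ∀ b (v' : V), v' ∈ 𝒱 b → T v' ∈ 𝒲 (b + (j0 - a0)) := by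
    intro b v' hv'
    have hf : ∀ (i : ℤ) (x : V), x ∈ 𝒱 i → (lam0.smulRight v') x ∈ 𝒱 (i + (b - a0)) := by
      intro i x hx
      rw [LinearMap.smulRight_apply]
      by_cases hia : i = a0
      · rw [hia]
        have e : a0 + (b - a0) = b := by ring
        rw [e]
        exact (𝒱 b).smul_mem _ hv'
      · rw [hlam0' i hia x hx, zero_smul]
        exact Submodule.zero_mem _
    have h1 := hφ (b - a0) (lam0.smulRight v') hf j0 (T v0) hj0
    rw [hφT, LinearMap.smulRight_apply, hlam0, one_smul] at h1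
    have e : j0 + (b - a0) = b + (j0 - a0) := by ring
    rw [e] at h1
    exact h1
  -- Step C
  have hsup : (⨆ c, Submodule.map (T : V →ₗ[k] W) (𝒱 c)) = ⊤ := by
    rw [← Submodule.map_iSup, hVtop, Submodule.map_top, LinearMap.range_eq_top]
    exact T.surjective
  have hmap : ∀ i : ℤ, Submodule.map (T : V →ₗ[k] W) (𝒱 i) = 𝒲 (i + (j0 - a0)) := by
    intro b
    apply le_antisymm
    · rintro _ ⟨x, hx, rfl⟩
      exact hTV b x hx
    · intro w hw
      have hsplit := iSup_split_single (fun c => Submodule.map (T : V →ₗ[k] W) (𝒱 c)) b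
      have hw' : w ∈ Submodule.map (T : V →ₗ[k] W) (𝒱 b) ⊔
          ⨆ (c) (_ : c ≠ b), Submodule.map (T : V →ₗ[k] W) (𝒱 c) := by
        rw [show (Submodule.map (T : V →ₗ[k] W) (𝒱 b) ⊔
          ⨆ (c) (_ : c ≠ b), Submodule.map (T : V →ₗ[k] W) (𝒱 c)) = ⊤ from
            hsplit.symm.trans hsup]
        exact Submodule.mem_top
      obtain ⟨u, hu, x', hx', rfl⟩ := Submodule.mem_sup.mp hw'
      have hx'W : x' ∈ ⨆ (j) (_ : j ≠ b + (j0 - a0)), 𝒲 j := by
        have hle : (⨆ (c) (_ : c ≠ b), Submodule.map (T : V →ₗ[k] W) (𝒱 c)) ≤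
            ⨆ (j) (_ : j ≠ b + (j0 - a0)), 𝒲 j := by
          apply iSup₂_le
          intro c hc
          have hcW : Submodule.map (T : V →ₗ[k] W) (𝒱 c) ≤ 𝒲 (c + (j0 - a0)) := by
            rintro _ ⟨x, hx, rfl⟩
            exact hTV c x hx
          exact le_trans hcW (le_iSup₂_of_le (c + (j0 - a0))
            (by intro h; apply hc; linarith) le_rfl)
        exact hle hx'
      have huW : u ∈ 𝒲 (b + (j0 - a0)) := by
        obtain ⟨x, hx, rfl⟩ := hu
        exact hTV b x hx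
      have hx'W2 : x' ∈ 𝒲 (b + (j0 - a0)) := by
        have h5 := (𝒲 (b + (j0 - a0))).sub_mem hw huW
        rwa [add_sub_cancel_left] at h5
      have hx'0 : x' = 0 :=
        (Submodule.disjoint_def.mp (hWind (b + (j0 - a0)))) x' hx'W2 hx'W
      rw [hx'0, add_zero]
      exact hu
  refine ⟨j0 - a0, T, hmap, ?_, ?_⟩
  · intro f
    rw [hT]
    rfl
  · intro n' g' hg'map hg'conj
    have hconj : g'.conjAlgEquiv k = T.conjAlgEquiv k := by
      apply AlgEquiv.ext
      intro f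
      rw [← hT, hg'conj f]
      rfl
    obtain ⟨c, hc⟩ := (LinearEquiv.conjAlgEquiv_ext_iff' g' T).mp hconj
    have hgx : ∀ x : V, g' x = c • T x := by
      intro x
      rw [hc, LinearEquiv.smul_apply]
      rfl
    refine ⟨?_, c, hgx⟩
    have h1 : g' v0 ∈ 𝒲 (a0 + n') := by
      rw [← hg'map a0]
      exact Submodule.mem_map_of_mem hv0
    have h2 : g' v0 ∈ 𝒲 (a0 + (j0 - a0)) := by
      rw [hgx, Units.smul_def]
      exact (𝒲 _).smul_mem _ (hTV a0 v0 hv0)
    have h3 : g' v0 ≠ 0 := by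
      intro h
      exact hv0ne (g'.map_eq_zero_iff.mp h)
    by_contra hne
    exact h3 (hWdisj (a0 + n') (a0 + (j0 - a0)) (by intro h; apply hne; linarith) (g' v0) h1 h2)

end Groth.Agent.S13846
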