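import Groth.Statements.S13860
import Mathlib

set_option autoImplicit false
universe u v w
open ModRep

namespace Groth.Agent.S13860

/-- For k a field of characteristic p > 0, G a finite group and P a Sylow p-subgroup of G, a short exact
sequence of k[G]-modules has a k[G]-linear splitting exactly when it has a k[P]-linear one. Stated
here for the surjection of the sequence: a G-equivariant k-linear map g : B → C between k-linear
representations of G admits a G-equivariant k-linear section if and only if it admits a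
P-equivariant k-linear section. -/
theorem result {k : Type u} [Field k] (p : ℕ) [Fact p.Prime]
    [CharP k p] {G : Type v} [Group G] [Finite G] (P : Sylow p G)
    {B C : Type w} [AddCommGroup B] [Module k B] [AddCommGroup C] [Module k C]
    (ρB : Representation k G B) (ρC : Representation k G C)
    (g : B →ₗ[k] C) (hg : ∀ x : G, g ∘ₗ ρB x = ρC x ∘ₗ g) :
    (∃ s : C →ₗ[k] B, g ∘ₗ s = LinearMap.id ∧ ∀ x : G, s ∘ₗ ρC x = ρB x ∘ₗ s) ↔
      (∃ s : C →ₗ[k] B, g ∘ₗ s = LinearMap.id ∧ ∀ x : G, x ∈ P → s ∘ₗ ρC x = ρB x ∘ₗ s) := by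
  constructor
  · rintro ⟨s, hs1, hs2⟩
    exact ⟨s, hs1, fun x _ => hs2 x⟩
  · rintro ⟨s, hs1, hs2⟩
    classical
    haveI : Fintype (G ⧸ (P : Subgroup G)) := Fintype.ofFinite _
    have mulB : ∀ a b (v : B), ρB (a * b) v = ρB a (ρB b v) := fun a b v => by
      rw [map_mul]; rfl
    have mulC : ∀ a b (v : C), ρC (a * b) v = ρC a (ρC b v) := fun a b v => by
      rw [map_mul]; rfl
    have oneC : ∀ v : C, ρC 1 v = v := fun v => by rw [map_one]; rfl
    have hsP : ∀ h ∈ P, ∀ c, s (ρC h c) = ρB h (s c) :=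
      fun h hh c => LinearMap.congr_fun (hs2 h hh) c
    have hgx : ∀ x b, g (ρB x b) = ρC x (g b) := fun x b => LinearMap.congr_fun (hg x) b
    have hgs : ∀ c, g (s c) = c := fun c => LinearMap.congr_fun hs1 c
    have fact1 : ∀ t h, h ∈ P → ∀ c,
        ρB (t * h) (s (ρC (t * h)⁻¹ c)) = ρB t (s (ρC t⁻¹ c)) := by
      intro t h hh c
      rw [mul_inv_rev, mulB, mulC]
      congr 1
      rw [← hsP h hh, ← mulC, mul_inv_cancel, oneC]
    have fact_coset : ∀ x (q : G ⧸ (P : Subgroup G)) c,
        ρB (x * q.out) (s (ρC (x * q.out)⁻¹ c)) =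
          ρB (x • q).out (s (ρC (x • q).out⁻¹ c)) := by
      intro x q c
      have hmem : (x • q).out⁻¹ * (x * q.out) ∈ (P : Subgroup G) := by
        rw [← QuotientGroup.eq, QuotientGroup.out_eq']
        conv_lhs => rw [← QuotientGroup.out_eq' q]
        rfl
      have := fact1 (x • q).out _ hmem c
      rwa [mul_inv_cancel_left] at this
    let F : G ⧸ (P : Subgroup G) → (C →ₗ[k] B) := fun q => ρB q.out ∘ₗ s ∘ₗ ρC q.out⁻¹
    have hn : ((Fintype.card (G ⧸ (P : Subgroup G)) : ℕ) : k) ≠ 0 := by
      rw [Ne, CharP.cast_eq_zero_iff k p]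
      have := P.not_dvd_index
      rwa [Subgroup.index, Nat.card_eq_fintype_card] at this
    refine ⟨((Fintype.card (G ⧸ (P : Subgroup G)) : ℕ) : k)⁻¹ • ∑ q, F q, ?_, ?_⟩
    · ext c
      simp only [LinearMap.comp_apply, LinearMap.smul_apply, LinearMap.sum_apply, map_smul,
        map_sum, LinearMap.id_apply]
      have h1 : ∀ q, g (F q c) = c := by
        intro q
        show g (ρB q.out (s (ρC q.out⁻¹ c))) = c
        rw [hgx, hgs, ← mulC, mul_inv_cancel, oneC]
      rw [Finset.sum_congr rfl (fun q _ => h1 q), Finset.sum_const, Finset.card_univ,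
        ← Nat.cast_smul_eq_nsmul k, smul_smul, inv_mul_cancel₀ hn, one_smul]
    · intro x
      ext c
      simp only [LinearMap.comp_apply, LinearMap.smul_apply, LinearMap.sum_apply, map_smul,
        map_sum]
      congr 1
      rw [← Equiv.sum_comp (MulAction.toPerm x : Equiv.Perm (G ⧸ (P : Subgroup G)))
        (fun q => F q (ρC x c))]
      refine Finset.sum_congr rfl fun q _ => ?_
      show ρB (x • q).out (s (ρC (x • q).out⁻¹ (ρC x c))) =
        ρB x (ρB q.out (s (ρC q.out⁻¹ c)))
      rw [← fact_coset x q (ρC x c), mulB, ← mulC, mul_inv_rev, inv_mul_cancel_right]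

end Groth.Agent.S13860
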