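import Groth.Statements.S13872
import Mathlib
import Groth.Agent.H14Lib.Polar

set_option autoImplicit false
universe u
open scoped TensorProduct
open ZeroCyc

namespace Groth.Agent.S13872

open Groth.Agent.H14Lib.CH MvPolynomial

section Aux
variable {A B C : Type u} [CommRing A] [CommRing B] [Algebra A B] [CommRing C] [Algebra A C] {d : ℕ}

theorem lid_lTensor' {N N' : Type u} [AddCommGroup N] [Module A N]
    [AddCommGroup N'] [Module A N'] (f : N →ₗ[A] N') (z : A ⊗[A] N) :
    TensorProduct.lid A N' (f.lTensor A z) = f (TensorProduct.lid A N z) := by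
  induction z using TensorProduct.induction_on with
  | zero => simp
  | tmul a n => simp
  | add x y hx hy => simp only [map_add, hx, hy]

/-- the polarization of a law as a multilinear map -/
noncomputable def polML (G : B →ₚₗ[A] C) (d : ℕ) : MultilinearMap A (fun _ : Fin d => B) C :=
  (TensorProduct.lid A C).toLinearMap.compMultilinearMap
    ((Pmulti G d A).compLinearMap (fun _ => TensorProduct.mk A A B 1))

theorem polML_apply (G : B →ₚₗ[A] C) (b : Fin d → B) : polML G d b = pol G b := rfl

theorem key1 (G : B →ₚₗ[A] C) (hG : PolLaw.IsHomog G d) (v : C →ₗ[A] (⨂[A] _ : Fin d, B))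
    (S : Type u) [CommRing S] [Algebra A S] (n : ℕ) (s : Fin n → S) (b : Fin n → B)
    (hv : v.lTensor S (G.toFun' S (∑ j, s j ⊗ₜ[A] b j)) =
        ∑ c : Fin d → Fin n, (∏ i, s (c i)) ⊗ₜ[A] PiTensorProduct.tprod A (fun i => b (c i))) :
    (PiTensorProduct.lift (polML G d)).lTensor S (v.lTensor S (G.toFun' S (∑ j, s j ⊗ₜ[A] b j))) =
      d.factorial • G.toFun' S (∑ j, s j ⊗ₜ[A] b j) := by
  rw [hv, map_sum, ← Nat.cast_smul_eq_nsmul S, factorial_smul_toFun' G hG]
  refine Finset.sum_congr rfl fun c _ => ?_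
  rw [LinearMap.lTensor_tmul, PiTensorProduct.lift.tprod, polML_apply]

theorem key2 (G : B →ₚₗ[A] C) (hG : PolLaw.IsHomog G d) (v : C →ₗ[A] (⨂[A] _ : Fin d, B))
    (hv : ∀ (n : ℕ) (s : Fin n → MvPolynomial B A) (b : Fin n → B),
      v.lTensor _ (G.toFun' _ (∑ j, s j ⊗ₜ[A] b j)) =
        ∑ c : Fin d → Fin n, (∏ i, s (c i)) ⊗ₜ[A] PiTensorProduct.tprod A (fun i => b (c i)))
    (Λ : Finset B) (ν : B →₀ ℕ) :
    PiTensorProduct.lift (polML G d) (v (cf G (fun b => b) Λ ν)) =
      d.factorial • cf G (fun b => b) Λ ν := by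
  have hgen : gen (A := A) (fun b : B => b) Λ =
      ∑ j : Fin Λ.card, (X (Λ.equivFin.symm j : B) : MvPolynomial B A) ⊗ₜ[A]
        ((Λ.equivFin.symm j : B)) := by
    rw [gen, ← Finset.sum_coe_sort Λ]
    exact (Equiv.sum_comp Λ.equivFin.symm
      (fun i : Λ => (X (i : B) : MvPolynomial B A) ⊗ₜ[A] (i : B))).symm
  have h := key1 G hG v (MvPolynomial B A) Λ.card
    (fun j => (X (Λ.equivFin.symm j : B) : MvPolynomial B A)) (fun j => (Λ.equivFin.symm j : B))
    (hv _ _ _)
  rw [← hgen] at h
  have h2 := congrArg (fun z => TensorProduct.lid A C (kap (A := A) A B C ν z)) h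
  rw [kap_lTensor, kap_lTensor, lid_lTensor', lid_lTensor', map_nsmul, map_nsmul] at h2
  exact h2

theorem sum_single_eq_oneF_iff (c : Fin d → Fin d) :
    (∑ i, Finsupp.single (c i) 1) = oneF d ↔ Function.Bijective c := by
  classical
  constructor
  · intro h
    rw [← Finite.surjective_iff_bijective]
    intro j
    by_contra hj
    have hj' : ∀ i, c i ≠ j := fun i hi => hj ⟨i, hi⟩
    have := DFunLike.congr_fun h j
    rw [Finsupp.finsetSum_apply, oneF_apply] at this
    rw [Finset.sum_eq_zero] at this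
    · exact zero_ne_one this
    · intro i _
      rw [Finsupp.single_apply, if_neg (hj' i)]
  · intro h
    have e1 := Equiv.sum_comp (Equiv.ofBijective c h) (fun j => Finsupp.single j (1 : ℕ))
    simp only [Equiv.ofBijective_apply] at e1
    rw [e1]
    exact Finsupp.univ_sum_single (oneF d)

theorem coeff_prod_X (c : Fin d → Fin d) :
    coeff (oneF d) (∏ i, (X (c i) : MvPolynomial (Fin d) A)) =
      if Function.Bijective c then 1 else 0 := by
  classical
  have : (∏ i, (X (c i) : MvPolynomial (Fin d) A)) = monomial (∑ i, Finsupp.single (c i) 1) 1 := by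
    rw [monomial_sum_one]
    rfl
  rw [this, coeff_monomial]
  simp only [sum_single_eq_oneF_iff]

theorem key3 (G : B →ₚₗ[A] C) (v : C →ₗ[A] (⨂[A] _ : Fin d, B))
    (hv : ∀ (s : Fin d → MvPolynomial (Fin d) A) (b : Fin d → B),
      v.lTensor _ (G.toFun' _ (∑ j, s j ⊗ₜ[A] b j)) =
        ∑ c : Fin d → Fin d, (∏ i, s (c i)) ⊗ₜ[A] PiTensorProduct.tprod A (fun i => b (c i)))
    (b : Fin d → B) :
    v (pol G b) = ∑ σ : Equiv.Perm (Fin d), PiTensorProduct.tprod A (fun i => b (σ i)) := by
  classical
  have harg : Parg A (fun i => (1 : A) ⊗ₜ[A] b i) =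
      ∑ j, (X j : MvPolynomial (Fin d) A) ⊗ₜ[A] b j := by
    rw [Parg]
    refine Finset.sum_congr rfl fun i _ => ?_
    rw [incl_tmul, TensorProduct.smul_tmul', smul_eq_mul, C_1, mul_one]
  rw [pol, ← lid_lTensor', Pfun, ← kap_lTensor, harg, hv, map_sum, map_sum]
  simp only [kap_tmul, TensorProduct.lid_tmul, coeff_prod_X]
  symm
  apply Finset.sum_of_injOn (fun σ : Equiv.Perm (Fin d) => (σ : Fin d → Fin d))
  · intro σ _ τ _ h
    exact DFunLike.coe_injective h
  · intro σ _
    exact Finset.mem_coe.mpr (Finset.mem_univ _)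
  · intro c _ hc
    rw [if_neg, zero_smul]
    intro hbij
    apply hc
    exact ⟨Equiv.ofBijective c hbij, Finset.mem_coe.mpr (Finset.mem_univ _), rfl⟩
  · intro σ _
    rw [if_pos σ.bijective, one_smul]

end Aux

/-- Let A be a commutative ring, B an A-algebra and d ≥ 1; let (C, γ) be the degree-d divided power
algebra Γ^d_A(B) with its universal multiplicative law γ : B → C of degree d (every multiplicative
law of degree d out of B factors uniquely through γ), and let φ : Γ^d_A(B) → TS^d_A(B) be the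
canonical homomorphism to the symmetric tensors, taken as data characterised by: after any base
change S, φ ∘ γ sends Σ_j s_j ⊗ b_j to Σ_{c : [d] → [n]} (∏_i s_{c(i)}) ⊗ (b_{c(1)} ⊗ ⋯ ⊗ b_{c(d)}),
i.e. φ corresponds to the law x ↦ x ⊗ ⋯ ⊗ x. Then d!·x = 0 for every x in the kernel of φ, and d!·y
lies in the image of φ for every symmetric tensor y ∈ TS^d_A(B). (The published statement also
asserts x^{d!} = 0 and y^{d!} in the image of φ; those two halves are a separate result and are not
restated here.) -/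
theorem result {A B C : Type u} [CommRing A] [CommRing B] [Algebra A B] [CommRing C] [Algebra A C] (d : ℕ) (hd : 0 < d)
    (γ : PolLaw.MulLaw A B C d) (hγ : PolLaw.IsGammaD γ) (φ : C →ₐ[A] SymTen.TS A B d)
    (hφ : ∀ (S : Type u) [CommSemiring S] [Algebra A S] (n : ℕ) (s : Fin n → S) (b : Fin n → B),
      ((SymTen.TS A B d).val.comp φ).toLinearMap.lTensor S (γ.law.toFun' S (∑ j, s j ⊗ₜ[A] b j)) =
        ∑ c : Fin d → Fin n, (∏ i, s (c i)) ⊗ₜ[A] PiTensorProduct.tprod A (fun i => b (c i))) :
    (∀ x : C, φ x = 0 → d.factorial • x = 0) ∧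
      (∀ y : SymTen.TS A B d, d.factorial • y ∈ φ.range) := by
  classical
  set v : C →ₗ[A] (⨂[A] _ : Fin d, B) := ((SymTen.TS A B d).val.comp φ).toLinearMap with hvdef
  set ψ : (⨂[A] _ : Fin d, B) →ₗ[A] C := PiTensorProduct.lift (polML γ.law d) with hψ
  constructor
  · have htop := coefSpan_eq_top γ hγ
    have hL : ∀ x ∈ coefSpan γ.law, ψ (v x) = d.factorial • x := by
      intro x hx
      rw [coefSpan] at hx
      induction hx using Submodule.span_induction with
      | zero => simp
      | add y z _ _ hy hz => rw [map_add, map_add, hy, hz, smul_add]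
      | smul a y _ hy => rw [map_smul, map_smul, hy, smul_comm]
      | mem c hc =>
        obtain ⟨Λ, ν, rfl⟩ := hc
        exact key2 γ.law γ.homog v (fun n s b => hφ (MvPolynomial B A) n s b) Λ ν
    intro x hx
    have hx' : x ∈ coefSpan γ.law := by rw [htop]; trivial
    rw [← hL x hx']
    have : v x = 0 := by
      rw [hvdef]
      change ((SymTen.TS A B d).val (φ x)) = 0
      rw [hx, map_zero]
    rw [this, map_zero]
  · intro y
    have hcomp : v ∘ₗ ψ = ∑ σ : Equiv.Perm (Fin d), (SymTen.perm A B d σ).toLinearMap := by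
      apply PiTensorProduct.ext
      ext b
      rw [LinearMap.compMultilinearMap_apply, LinearMap.compMultilinearMap_apply,
        LinearMap.comp_apply, hψ, PiTensorProduct.lift.tprod, polML_apply,
        key3 γ.law v (fun s b => hφ (MvPolynomial (Fin d) A) d s b) b, LinearMap.sum_apply]
      simp only [AlgHom.toLinearMap_apply, SymTen.perm_tprod]
      exact (Equiv.sum_comp (Equiv.inv (Equiv.Perm (Fin d)))
        (fun σ : Equiv.Perm (Fin d) => PiTensorProduct.tprod A (fun i => b (σ i)))).symm
    refine ⟨ψ y.1, ?_⟩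
    apply Subtype.ext
    change v (ψ y.1) = _
    rw [← LinearMap.comp_apply, hcomp, LinearMap.sum_apply]
    have hy : ∀ σ : Equiv.Perm (Fin d), (SymTen.perm A B d σ).toLinearMap y.1 = y.1 := by
      intro σ
      rw [AlgHom.toLinearMap_apply, SymTen.perm_apply]
      exact y.2 σ
    rw [Finset.sum_congr rfl (fun σ _ => hy σ), Finset.sum_const, Finset.card_univ,
      Fintype.card_perm, Fintype.card_fin]
    exact (map_nsmul (SymTen.TS A B d).val d.factorial y).symm

end Groth.Agent.S13872
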