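import Groth.Statements.S13874
import Mathlib
import Groth.Agent.H14Lib.BCk5
import Groth.Agent.H25.ColimUH
import Groth.Agent.S13397
import Groth.Agent.S13398

set_option autoImplicit false
universe u
open scoped TensorProduct
open AlgebraicGeometry
open ZeroCyc

namespace Groth.Agent.S13874


/-- Affine form. Let A be a commutative ring, B an A-algebra and d ≥ 1; let (C, γ) be the degree-d
divided power algebra Γ^d_A(B) with its universal multiplicative law γ : B → C of degree d (every
multiplicative law of degree d out of B factors uniquely through γ), and let φ : Γ^d_A(B) →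
TS^d_A(B) be the canonical homomorphism to the symmetric tensors, taken as data characterised by:
after any base change S, φ ∘ γ sends Σ_j s_j ⊗ b_j to Σ_{c : [d] → [n]} (∏_i s_{c(i)}) ⊗ (b_{c(1)} ⊗
⋯ ⊗ b_{c(d)}), i.e. φ corresponds to the law x ↦ x ⊗ ⋯ ⊗ x. Then the morphism Spec TS^d_A(B) → Spec
Γ^d_A(B) induced by φ (the comparison map from the d-th symmetric product of Spec B over Spec A to
the scheme of degree-d divided powers) is a universal homeomorphism inducing an isomorphism on every
residue field. (The published statement is for a separated algebraic space X over an algebraic space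
S; this row is its content for X = Spec B over S = Spec A. The second assertion of the published
statement, that the map is an isomorphism when B is flat over A or A contains the rationals, is not
part of this row.) -/
theorem result {A B C : Type u} [CommRing A] [CommRing B] [Algebra A B] [CommRing C] [Algebra A C] (d : ℕ) (hd : 0 < d)
    (γ : PolLaw.MulLaw A B C d) (hγ : PolLaw.IsGammaD γ) (φ : C →ₐ[A] SymTen.TS A B d)
    (hφ : ∀ (S : Type u) [CommSemiring S] [Algebra A S] (n : ℕ) (s : Fin n → S) (b : Fin n → B),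
      ((SymTen.TS A B d).val.comp φ).toLinearMap.lTensor S (γ.law.toFun' S (∑ j, s j ⊗ₜ[A] b j)) =
        ∑ c : Fin d → Fin n, (∏ i, s (c i)) ⊗ₜ[A] PiTensorProduct.tprod A (fun i => b (c i))) :
    FlatMor.IsUnivHomeo (Spec.map (CommRingCat.ofHom φ.toRingHom)) ∧
      ∀ x : ↥(Spec (CommRingCat.of (SymTen.TS A B d))),
        Function.Surjective ((Spec.map (CommRingCat.ofHom φ.toRingHom)).residueFieldMap x).hom := by
  obtain ⟨hker, himg⟩ := Groth.Agent.S13398.result d γ hγ φ hφ
  obtain ⟨Nm, hNm1, -⟩ := Groth.Agent.S13397.result d γ hγ φ hφ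
  have hfac : 0 < d.factorial := Nat.factorial_pos d
  have hext := Groth.Agent.H14Lib.BCk.exists_extension d γ hγ φ hφ
  -- uniqueness of field valued points
  have hPUI : Groth.Agent.H25.ColimUH.PUI φ.toRingHom := by
    intro F _ ψ₁ ψ₂ h12
    letI : Algebra A F := (ψ₁.comp (algebraMap A (SymTen.TS A B d))).toAlgebra
    let ψa₁ : SymTen.TS A B d →ₐ[A] F := { ψ₁ with commutes' := fun a => rfl }
    have hcomm : ∀ a : A, ψ₂ (algebraMap A (SymTen.TS A B d) a) = algebraMap A F a := by
      intro a
      have := RingHom.congr_fun h12 (algebraMap A C a)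
      simp only [RingHom.comp_apply, AlgHom.toRingHom_eq_coe, RingHom.coe_coe, AlgHom.commutes] at this
      exact this.symm
    let ψa₂ : SymTen.TS A B d →ₐ[A] F := { ψ₂ with commutes' := hcomm }
    have h12' : ∀ c : C, ψa₁ (φ c) = ψa₂ (φ c) := fun c => RingHom.congr_fun h12 c
    ext y
    let Ψ : (SymTen.TS A B d →ₐ[A] F) → (Polynomial A ⊗[A] SymTen.TS A B d →ₐ[A] Polynomial F) :=
      fun ψ => Algebra.TensorProduct.lift (Polynomial.mapAlg A F)
        ((Polynomial.CAlgHom (R := A) (A := F)).comp ψ) (fun _ _ => Commute.all _ _)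
    have hΨ : ∀ (ψ : SymTen.TS A B d →ₐ[A] F) (s : Polynomial A) (t : SymTen.TS A B d),
        Ψ ψ (s ⊗ₜ[A] t) = Polynomial.map (algebraMap A F) s * Polynomial.C (ψ t) := by
      intro ψ s t
      simp only [Ψ, Algebra.TensorProduct.lift_tmul, Polynomial.mapAlg_eq_map]
      rfl
    set w : Polynomial A ⊗[A] SymTen.TS A B d :=
      (Polynomial.X : Polynomial A) ⊗ₜ[A] (1 : SymTen.TS A B d) - (1 : Polynomial A) ⊗ₜ[A] y with hw
    have hc : φ.toLinearMap.lTensor (Polynomial A) (Nm.law.toFun' (Polynomial A) w) = w ^ d.factorial :=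
      congrArg (fun L : PolLaw.MulLaw A (SymTen.TS A B d) (SymTen.TS A B d) d.factorial =>
        L.law.toFun' (Polynomial A) w) hNm1
    have hΨeq : ∀ c' : Polynomial A ⊗[A] C,
        Ψ ψa₁ (φ.toLinearMap.lTensor (Polynomial A) c') = Ψ ψa₂ (φ.toLinearMap.lTensor (Polynomial A) c') := by
      intro c'
      induction c' using TensorProduct.induction_on with
      | zero => simp
      | tmul s c0 =>
        rw [LinearMap.lTensor_tmul, AlgHom.toLinearMap_apply, hΨ, hΨ, h12']
      | add x y hx hy => simp only [map_add, hx, hy]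
    have hpow := hΨeq (Nm.law.toFun' (Polynomial A) w)
    rw [hc, map_pow, map_pow] at hpow
    have hw1 : ∀ ψ : SymTen.TS A B d →ₐ[A] F, Ψ ψ w = Polynomial.X - Polynomial.C (ψ y) := by
      intro ψ
      rw [hw, map_sub, hΨ, hΨ, Polynomial.map_X, map_one, Polynomial.map_one, one_mul,
        Polynomial.C_1, mul_one]
    rw [hw1, hw1] at hpow
    have hev := congrArg (Polynomial.eval (ψa₁ y)) hpow
    simp only [Polynomial.eval_pow, Polynomial.eval_sub, Polynomial.eval_X, Polynomial.eval_C,
      sub_self] at hev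
    rw [zero_pow hfac.ne'] at hev
    have := pow_eq_zero_iff hfac.ne' |>.mp hev.symm
    exact sub_eq_zero.mp this
  have hint : φ.toRingHom.IsIntegral := by
    intro y
    obtain ⟨c, hc⟩ := himg y
    refine ⟨Polynomial.X ^ d.factorial - Polynomial.C c,
      Polynomial.monic_X_pow_sub_C c hfac.ne', ?_⟩
    simp only [Polynomial.eval₂_sub, Polynomial.eval₂_pow, Polynomial.eval₂_X, Polynomial.eval₂_C]
    rw [sub_eq_zero]
    exact hc.symm
  have hPKer : Groth.Agent.H25.ColimUH.PKer φ.toRingHom := fun a ha => ⟨d.factorial, hker a ha⟩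
  have hPRes : Groth.Agent.H25.ColimUH.PRes φ.toRingHom := by
    intro q hq b
    haveI := hq
    set p : Ideal C := q.comap φ.toRingHom with hp
    haveI : p.IsPrime := Ideal.comap_isPrime _ _
    obtain ⟨θ, hθ⟩ := hext p.ResidueField (algebraMap C p.ResidueField)
    let ιF : p.ResidueField →+* q.ResidueField := Ideal.ResidueField.map p q φ.toRingHom rfl
    have hιF : ∀ c : C, ιF (algebraMap C p.ResidueField c) =
        algebraMap (SymTen.TS A B d) q.ResidueField (φ c) := fun c =>
      Ideal.ResidueField.map_algebraMap p q φ.toRingHom rfl c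
    have heq : ιF.comp θ = algebraMap (SymTen.TS A B d) q.ResidueField := by
      apply hPUI q.ResidueField
      ext c
      have h1 := RingHom.congr_fun hθ c
      simp only [RingHom.comp_apply] at h1 ⊢
      rw [h1, hιF]
      rfl
    obtain ⟨u, w, hw, huw⟩ := IsFractionRing.div_surjective (A := C ⧸ p) (θ b)
    obtain ⟨a₁, rfl⟩ := Ideal.Quotient.mk_surjective u
    obtain ⟨a₂, rfl⟩ := Ideal.Quotient.mk_surjective w
    rw [Ideal.algebraMap_quotient_residueField_mk, Ideal.algebraMap_quotient_residueField_mk] at huw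
    have ha₂ : a₂ ∉ p := by
      intro h
      have : (Ideal.Quotient.mk p a₂) = 0 := Ideal.Quotient.eq_zero_iff_mem.mpr h
      rw [this] at hw
      exact zero_notMem_nonZeroDivisors hw
    have hne : algebraMap C p.ResidueField a₂ ≠ 0 := by
      rwa [Ne, Ideal.algebraMap_residueField_eq_zero]
    refine ⟨a₁, a₂, ha₂, ?_⟩
    rw [← Ideal.algebraMap_residueField_eq_zero, map_sub, map_mul]
    have hb : algebraMap (SymTen.TS A B d) q.ResidueField b = ιF (θ b) :=
      (RingHom.congr_fun heq b).symm
    have e1 : algebraMap (SymTen.TS A B d) q.ResidueField (φ.toRingHom a₂) =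
        ιF (algebraMap C p.ResidueField a₂) := (hιF a₂).symm
    have e2 : algebraMap (SymTen.TS A B d) q.ResidueField (φ.toRingHom a₁) =
        ιF (algebraMap C p.ResidueField a₁) := (hιF a₁).symm
    rw [hb, e1, e2, ← map_mul, ← map_sub, ← huw, mul_div_cancel₀ _ hne, sub_self, map_zero]
  refine ⟨(Groth.Agent.H25.ColimUH.univHomeo_iff _).2 ⟨hint, hPUI, hPKer⟩, fun x => ?_⟩
  exact Groth.Agent.H25.ColimUH.res_of_pres _ hPRes x

end Groth.Agent.S13874
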