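import Groth.Statements.S13875
import Mathlib
import Groth.Agent.H14Lib.DetLaw3

set_option autoImplicit false
universe u
open scoped TensorProduct
open ZeroCyc

namespace Groth.Agent.S13875


/-- Affine form of the determinant law over a normal base. Let A be an integrally closed domain with
fraction field K, B a commutative A-algebra and M a B-module that is finitely generated as an
A-module (not necessarily flat over A), and let d be the generic rank of M, the dimension of the
K-vector space K ⊗_A M. Then there is exactly one multiplicative polynomial law N : B → A over A,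
homogeneous of degree d, such that for every n and every x ∈ A[t_1, …, t_n] ⊗_A B the value N(x) ∈
A[t_1, …, t_n], read in the fraction field L of A[t_1, …, t_n], is the determinant of x acting on
the finite-dimensional L-vector space L ⊗_A M. (Over a general test algebra the law is the unique
extension of these members; for M free of rank d over A it is the determinant law of M.) -/
theorem result {A B M : Type u} [CommRing A] [IsDomain A] [IsIntegrallyClosed A]
    [CommRing B] [Algebra A B] [AddCommGroup M] [Module A M] [Module B M] [IsScalarTower A B M] [Module.Finite A M]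
    (d : ℕ) (hd : Module.finrank (FractionRing A) (FractionRing A ⊗[A] M) = d) :
    ∃! N : PolLaw.MulLaw A B A d, ∀ (n : ℕ) (x : MvPolynomial (Fin n) A ⊗[A] B),
      algebraMap (MvPolynomial (Fin n) A) (FractionRing (MvPolynomial (Fin n) A))
          (TensorProduct.rid A (MvPolynomial (Fin n) A) (N.law.toFun' (MvPolynomial (Fin n) A) x)) =
        LinearMap.det (PolLaw.actEnd M (FractionRing (MvPolynomial (Fin n) A))
          (Algebra.TensorProduct.map
            (IsScalarTower.toAlgHom A (MvPolynomial (Fin n) A) (FractionRing (MvPolynomial (Fin n) A)))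
            (AlgHom.id A B) x)) := by
  classical
  let c : ∀ n : ℕ, MvPolynomial (Fin n) A ⊗[A] B → MvPolynomial (Fin n) A :=
    fun n x => (Groth.Agent.H14Lib.DetLaw.exists_T M n x).choose
  have hc : ∀ n x, algebraMap (MvPolynomial (Fin n) A) (FractionRing (MvPolynomial (Fin n) A)) (c n x) =
        LinearMap.det (PolLaw.actEnd M (FractionRing (MvPolynomial (Fin n) A))
          (Algebra.TensorProduct.map
            (IsScalarTower.toAlgHom A (MvPolynomial (Fin n) A) (FractionRing (MvPolynomial (Fin n) A)))
            (AlgHom.id A B) x)) :=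
    fun n x => (Groth.Agent.H14Lib.DetLaw.exists_T M n x).choose_spec
  have hcδ : ∀ n x, Groth.Agent.H14Lib.DetLaw.iota A n (c n x) =
      Groth.Agent.H14Lib.DetLaw.delta M n x :=
    fun n x => Groth.Agent.H14Lib.DetLaw.key M n x (c n x) (hc n x)
  let T : ∀ n : ℕ, MvPolynomial (Fin n) A ⊗[A] B → MvPolynomial (Fin n) A ⊗[A] A :=
    fun n x => c n x ⊗ₜ[A] (1 : A)
  have hT : ∀ (n m : ℕ) (φ : MvPolynomial (Fin n) A →ₐ[A] MvPolynomial (Fin m) A),
      φ.toLinearMap.rTensor A ∘ T n = T m ∘ φ.toLinearMap.rTensor B := by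
    intro n m φ
    funext x
    simp only [Function.comp_apply, T, LinearMap.rTensor_tmul, AlgHom.toLinearMap_apply]
    congr 1
    apply Groth.Agent.H14Lib.DetLaw.iota_injective A m
    rw [Groth.Agent.H14Lib.DetLaw.delta_compat M n m φ x (c n x) (hcδ n x), hcδ,
      PolLaw.rTensor_algHom_apply]
  obtain ⟨F, hF⟩ := (Groth.Agent.S13174.result (A := A) (M := B) (N := A)).2 ⟨T, hT⟩
  have hFn : ∀ n x, F.toFun' (MvPolynomial (Fin n) A) x = c n x ⊗ₜ[A] (1 : A) := fun n x =>
    congr_fun (congr_fun (congrArg Subtype.val hF) n) x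
  have hone : ∀ n, F.toFun' (MvPolynomial (Fin n) A) 1 = 1 := by
    intro n
    rw [hFn]
    show _ = (1 : MvPolynomial (Fin n) A) ⊗ₜ[A] (1 : A)
    congr 1
    apply Groth.Agent.H14Lib.DetLaw.iota_injective A n
    rw [hcδ, Groth.Agent.H14Lib.DetLaw.delta_one, map_one]
  have hmul : ∀ n (p q : MvPolynomial (Fin n) A ⊗[A] B),
      F.toFun' _ (p * q) = F.toFun' _ p * F.toFun' _ q := by
    intro n p q
    rw [hFn, hFn, hFn, Algebra.TensorProduct.tmul_mul_tmul, one_mul]
    congr 1
    apply Groth.Agent.H14Lib.DetLaw.iota_injective A n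
    rw [hcδ, Groth.Agent.H14Lib.DetLaw.delta_mul, map_mul, hcδ, hcδ]
  have hhom : ∀ n (r : MvPolynomial (Fin n) A) (p : MvPolynomial (Fin n) A ⊗[A] B),
      F.toFun' _ (r • p) = r ^ d • F.toFun' _ p := by
    intro n r p
    rw [hFn, hFn, TensorProduct.smul_tmul', smul_eq_mul]
    congr 1
    apply Groth.Agent.H14Lib.DetLaw.iota_injective A n
    rw [hcδ, Groth.Agent.H14Lib.DetLaw.delta_smul, map_mul, map_pow, hcδ, hd]
  obtain ⟨hH, hM⟩ := Groth.Agent.H14Lib.GamN.mulLaw_of_poly F d hone hmul hhom
  refine ⟨⟨F, hH, hM⟩, ?_, ?_⟩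
  · intro n x
    show algebraMap _ _ (TensorProduct.rid A (MvPolynomial (Fin n) A) (F.toFun' _ x)) = _
    rw [hFn, TensorProduct.rid_tmul, one_smul, hc]
  · intro N' hN'
    apply PolLaw.MulLaw.ext
    apply Groth.Agent.H14Lib.TSG.law_ext_poly
    intro n x
    apply (TensorProduct.rid A (MvPolynomial (Fin n) A)).injective
    apply IsFractionRing.injective (MvPolynomial (Fin n) A) (FractionRing (MvPolynomial (Fin n) A))
    rw [hN' n x]
    show _ = algebraMap _ _ (TensorProduct.rid A (MvPolynomial (Fin n) A) (F.toFun' _ x))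
    rw [hFn, TensorProduct.rid_tmul, one_smul, hc]

end Groth.Agent.S13875
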