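import Groth.Statements.S13876
import Mathlib
import Groth.Agent.H14Lib.DetProj
import Groth.Agent.H14Lib.GammaGen

set_option autoImplicit false
universe u
open scoped TensorProduct
open ZeroCyc

namespace Groth.Agent.S13876

open Groth.Agent.H14Lib.DetProj Groth.Agent.H14Lib.CH

section Aux
variable {A B M : Type u} [CommRing A] [CommRing B] [Algebra A B]
    [AddCommGroup M] [Module A M] [Module B M] [IsScalarTower A B M]

theorem map_smul_left {S S' : Type u} [CommRing S] [Algebra A S] [CommRing S'] [Algebra A S']
    (φ : S →ₐ[A] S') (r : S) (p : S ⊗[A] B) :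
    Algebra.TensorProduct.map φ (AlgHom.id A B) (r • p) =
      φ r • Algebra.TensorProduct.map φ (AlgHom.id A B) p := by
  induction p using TensorProduct.induction_on with
  | zero => simp
  | tmul s b => simp [TensorProduct.smul_tmul']
  | add x y hx hy => simp only [smul_add, map_add, hx, hy]

theorem map_smul_left' {S S' : Type u} [CommRing S] [Algebra A S] [CommRing S'] [Algebra A S']
    (φ : S →ₐ[A] S') (r : S) (p : S ⊗[A] A) :
    Algebra.TensorProduct.map φ (AlgHom.id A A) (r • p) =
      φ r • Algebra.TensorProduct.map φ (AlgHom.id A A) p := by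
  induction p using TensorProduct.induction_on with
  | zero => simp
  | tmul s b => simp [TensorProduct.smul_tmul']
  | add x y hx hy => simp only [smul_add, map_add, hx, hy]

/-- the determinant of the action scales by the rank on local test rings -/
theorem detAct_smul_local [Module.Finite A M] [Module.Projective A M]
    (d : ℕ) (hd : ∀ p : PrimeSpectrum A, Module.rankAtStalk M p = d)
    (L : Type u) [CommRing L] [IsLocalRing L] [Algebra A L] (c : L) (y : L ⊗[A] B) :
    PolLaw.detAct M L (c • y) = c ^ d * PolLaw.detAct M L y := by
  haveI : Module.Free L (L ⊗[A] M) := Module.free_of_flat_of_isLocalRing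
  have hrank : Module.finrank L (L ⊗[A] M) = d := by
    have h1 := Module.rankAtStalk_baseChange (R := A) (M := M) (S := L) (IsLocalRing.closedPoint L)
    rw [hd] at h1
    have h2 := congrFun (Module.rankAtStalk_eq_finrank_of_free (R := L) (M := L ⊗[A] M))
      (IsLocalRing.closedPoint L)
    rw [h1] at h2
    exact h2.symm
  unfold PolLaw.detAct
  rw [map_smul, LinearMap.det_smul, hrank]

/-- a law given by the determinant on local test rings is homogeneous of the constant rank -/
theorem isHomog_of_local [Module.Finite A M] [Module.Projective A M]
    (d : ℕ) (hd : ∀ p : PrimeSpectrum A, Module.rankAtStalk M p = d) (N : B →ₚₗ[A] A)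
    (hN : ∀ (S : Type u) [CommRing S] [IsLocalRing S] [Algebra A S] (x : S ⊗[A] B),
      N.toFun' S x = PolLaw.detAct M S x ⊗ₜ[A] (1 : A)) : PolLaw.IsHomog N d := by
  have hhom : ∀ n (r : MvPolynomial (Fin n) A) (p : MvPolynomial (Fin n) A ⊗[A] B),
      N.toFun' _ (r • p) = r ^ d • N.toFun' _ p := by
    intro n r p
    apply eq_of_forall_localization
    intro J hJ
    rw [Groth.Agent.S13722.compat, map_smul_left, map_smul_left', Groth.Agent.S13722.compat, hN,
      hN, detAct_smul_local d hd, TensorProduct.smul_tmul', smul_eq_mul, map_pow]
  intro S _ _ s x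
  obtain ⟨n, ψ, p, r, hp, hr⟩ := PolynomialLaw.exists_lift' (R := A) x s
  rw [← hp, ← hr, ← rTensor_smul', ← PolynomialLaw.isCompat_apply', hhom,
    rTensor_smul', map_pow, PolynomialLaw.isCompat_apply']

end Aux

/-- Affine form of the determinant law of a locally free module. Let A be a commutative ring, B a
commutative A-algebra, d ≥ 0, and M a B-module which as an A-module is finitely generated projective
of constant rank d (its localisation at every prime of A has rank d). Then there is exactly one
multiplicative polynomial law N : B → A over A, homogeneous of degree d, such that for every local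
A-algebra S and every x ∈ S ⊗_A B the value N(x) ∈ S is the determinant of x acting on the free
S-module S ⊗_A M. (For M free of rank d over A it is the determinant law of M; the members over
arbitrary test algebras are determined by those over local ones.) -/
theorem result {A B M : Type u} [CommRing A] [CommRing B] [Algebra A B]
    [AddCommGroup M] [Module A M] [Module B M] [IsScalarTower A B M] [Module.Finite A M] [Module.Projective A M]
    (d : ℕ) (hd : ∀ p : PrimeSpectrum A, Module.rankAtStalk M p = d) :
    ∃! N : PolLaw.MulLaw A B A d, ∀ (S : Type u) [CommRing S] [IsLocalRing S] [Algebra A S] (x : S ⊗[A] B),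
      N.law.toFun' S x = PolLaw.detAct M S x ⊗ₜ[A] (1 : A) := by
  obtain ⟨N, hN1, hN2⟩ := exists_detLaw A B M
  refine ⟨⟨N, isHomog_of_local d hd N hN2, hN1⟩, hN2, ?_⟩
  intro N' hN'
  apply PolLaw.MulLaw.ext
  apply law_ext_of_local
  intro L _ _ _ x
  rw [hN2, hN']

end Groth.Agent.S13876
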