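import Groth.Statements.S13877
import Mathlib

set_option autoImplicit false
universe u v
open Crimp

namespace Groth.Agent.S13877

open Module
open scoped Matrix

section gen
variable {R : Type u} [CommRing R] {B : Type v} [CommRing B] [Algebra R B]
  {ι : Type*} [Fintype ι] [DecidableEq ι]

theorem discr_assoc (b₁ b₂ : Basis ι R B) :
    Associated (Algebra.discr R ⇑b₁) (Algebra.discr R ⇑b₂) := by
  have h := Algebra.discr_of_matrix_vecMul (⇑b₁) (b₁.toMatrix ⇑b₂)
  rw [Basis.toMatrix_map_vecMul] at h
  have hu : IsUnit ((b₁.toMatrix ⇑b₂).det) := by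
    rw [← Basis.det_apply]; exact b₁.isUnit_det b₂
  rw [h]
  exact (associated_unit_mul_left _ _ (hu.pow 2)).symm

end gen

section smith
variable {R : Type u} [CommRing R] [IsDomain R] {B : Type v} [CommRing B] [Algebra R B]
  {ι : Type*} [Fintype ι] [DecidableEq ι]
  (S : Subalgebra R B) (b' : Basis ι R B) (abS : Basis ι R S) (c : ι → R)
  (hc : ∀ i, c i ≠ 0) (hab : ∀ i, (abS i : B) = c i • b' i)

include hab in
theorem repr_coe (x : S) (i : ι) : b'.repr (x : B) i = abS.repr x i * c i := by
  have hx : (x : B) = ∑ j, (abS.repr x j * c j) • b' j := by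
    have : (x : B) = S.val (∑ j, abS.repr x j • abS j) := by rw [abS.sum_repr x]; rfl
    rw [this, map_sum]
    refine Finset.sum_congr rfl fun j _ => ?_
    rw [map_smul]
    show abS.repr x j • (abS j : B) = _
    rw [hab j, smul_smul]
  rw [hx, b'.repr_sum_self]

include hc hab in
theorem trace_coe (s : S) : Algebra.trace R S s = Algebra.trace R B (s : B) := by
  rw [Algebra.trace_eq_matrix_trace abS s, Algebra.trace_eq_matrix_trace b' (s : B)]
  simp only [Matrix.trace, Matrix.diag_apply]
  refine Finset.sum_congr rfl fun j _ => ?_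
  rw [Algebra.leftMulMatrix_eq_repr_mul, Algebra.leftMulMatrix_eq_repr_mul]
  have h1 := repr_coe S b' abS c hab (s * abS j) j
  have h2 : ((s * abS j : S) : B) = c j • ((s : B) * b' j) := by
    show (s : B) * (abS j : B) = _
    rw [hab j, mul_smul_comm]
  rw [h2, LinearEquiv.map_smul, Finsupp.smul_apply, smul_eq_mul] at h1
  exact mul_left_cancel₀ (hc j) (by rw [h1, mul_comm])

include hc hab in
theorem discr_smith : Algebra.discr R ⇑abS = (∏ i, c i) ^ 2 * Algebra.discr R ⇑b' := by
  have h1 : Algebra.traceMatrix R (⇑abS) = Algebra.traceMatrix R (fun i => c i • b' i) := by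
    ext i j
    rw [Algebra.traceMatrix_apply, Algebra.traceMatrix_apply, Algebra.traceForm_apply,
      Algebra.traceForm_apply, trace_coe S b' abS c hc hab]
    rw [← hab i, ← hab j]; rfl
  have h2 : (fun i => c i • b' i) = (⇑b') ᵥ* (Matrix.diagonal c).map (algebraMap R B) := by
    ext j
    rw [Matrix.diagonal_map (map_zero _), Matrix.vecMul_diagonal, Algebra.smul_def, mul_comm]
  rw [Algebra.discr_def, h1, ← Algebra.discr_def, h2, Algebra.discr_of_matrix_vecMul,
    Matrix.det_diagonal]

end smith

theorem main {R : Type u} [CommRing R] [IsDomain R] [IsDiscreteValuationRing R] {ϖ : R}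
    (hϖ : Irreducible ϖ)
    {St : Type v} [CommRing St] [Algebra R St] (d a b : ℕ)
    (bt : Basis (Fin d) R St) (ha : Ideal.span {Algebra.discr R ⇑bt} = Ideal.span {ϖ ^ a})
    (S : Subalgebra R St) (bS : Basis (Fin d) R S)
    (hb : Ideal.span {Algebra.discr R ⇑bS} = Ideal.span {ϖ ^ b}) :
    (∀ q : St ⧸ Subalgebra.toSubmodule S, (ϖ ^ b) • q = 0) ∧
    2 * Module.length R (St ⧸ Subalgebra.toSubmodule S) + (a : ℕ∞) = (b : ℕ∞) := by
  classical
  have h : Module.finrank R (Subalgebra.toSubmodule S) = Module.finrank R St := by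
    rw [Module.finrank_eq_card_basis bt,
      Module.finrank_eq_card_basis (bS.map S.toSubmoduleEquiv.symm)]
  have hab0 := Submodule.smithNormalFormBotBasis_def bt h
  have hc := Submodule.smithNormalFormCoeffs_ne_zero bt h
  have hab : ∀ i, (((Submodule.smithNormalFormBotBasis bt h).map S.toSubmoduleEquiv) i : St) =
      Submodule.smithNormalFormCoeffs bt h i • Submodule.smithNormalFormTopBasis bt h i :=
    fun i => hab0 i
  have hD := discr_smith S (Submodule.smithNormalFormTopBasis bt h)
    ((Submodule.smithNormalFormBotBasis bt h).map S.toSubmoduleEquiv)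
    (Submodule.smithNormalFormCoeffs bt h) hc hab
  have hA1 : Associated (Algebra.discr R ⇑bt) (ϖ ^ a) :=
    Ideal.span_singleton_eq_span_singleton.mp ha
  have hB1 : Associated (Algebra.discr R ⇑bS) (ϖ ^ b) :=
    Ideal.span_singleton_eq_span_singleton.mp hb
  have hA2 := (discr_assoc (Submodule.smithNormalFormTopBasis bt h) bt).trans hA1
  have hB2 := (discr_assoc ((Submodule.smithNormalFormBotBasis bt h).map S.toSubmoduleEquiv)
    bS).trans hB1
  have hfac : ∀ i, ∃ n : ℕ, Associated (Submodule.smithNormalFormCoeffs bt h i) (ϖ ^ n) :=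
    fun i => IsDiscreteValuationRing.associated_pow_irreducible (hc i) hϖ
  choose n hn using hfac
  have hprod : Associated (∏ i, Submodule.smithNormalFormCoeffs bt h i) (ϖ ^ (∑ i, n i)) := by
    rw [← Finset.prod_pow_eq_pow_sum]
    exact Associated.prod _ _ _ (fun i _ => hn i)
  have hassoc : Associated (ϖ ^ b) (ϖ ^ (2 * (∑ i, n i) + a)) := by
    refine hB2.symm.trans ?_
    rw [hD]
    have : ϖ ^ (2 * (∑ i, n i) + a) = (ϖ ^ (∑ i, n i)) ^ 2 * ϖ ^ a := by ring
    rw [this]
    exact (hprod.pow_pow).mul_mul hA2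
  have hbeq : b = 2 * (∑ i, n i) + a := by
    have h1 : ϖ ^ b ∣ ϖ ^ (2 * (∑ i, n i) + a) := hassoc.dvd
    have h2 : ϖ ^ (2 * (∑ i, n i) + a) ∣ ϖ ^ b := hassoc.symm.dvd
    rw [pow_dvd_pow_iff hϖ.ne_zero hϖ.not_isUnit] at h1 h2
    omega
  have hlen : Module.length R (St ⧸ Subalgebra.toSubmodule S) = ((∑ i, n i : ℕ) : ℕ∞) := by
    rw [((Subalgebra.toSubmodule S).quotientEquivPiSpan bt h).length_eq,
      Module.length_pi_of_fintype, Nat.cast_sum]
    refine Finset.sum_congr rfl fun i _ => ?_
    have hI : Ideal.span {Submodule.smithNormalFormCoeffs bt h i} =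
        IsLocalRing.maximalIdeal R ^ (n i) := by
      rw [hϖ.maximalIdeal_eq, Ideal.span_singleton_pow]
      exact Ideal.span_singleton_eq_span_singleton.mpr (hn i)
    rw [hI]
    exact IsDiscreteValuationRing.length_quotient_pow_maximalIdeal R (n i)
  have hdvd : ∀ i, Submodule.smithNormalFormCoeffs bt h i ∣ ϖ ^ b := by
    intro i
    have h1 : Submodule.smithNormalFormCoeffs bt h i ∣
        ∏ j, Submodule.smithNormalFormCoeffs bt h j :=
      Finset.dvd_prod_of_mem _ (Finset.mem_univ i)
    have h2 : (∏ j, Submodule.smithNormalFormCoeffs bt h j) ∣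
        Algebra.discr R ⇑((Submodule.smithNormalFormBotBasis bt h).map S.toSubmoduleEquiv) := by
      rw [hD]
      exact Dvd.intro ((∏ j, Submodule.smithNormalFormCoeffs bt h j) *
        Algebra.discr R ⇑(Submodule.smithNormalFormTopBasis bt h)) (by ring)
    exact h1.trans (h2.trans hB2.dvd)
  refine ⟨?_, ?_⟩
  · intro q
    apply ((Subalgebra.toSubmodule S).quotientEquivPiSpan bt h).injective
    rw [map_smul, map_zero]
    funext i
    obtain ⟨r, hr⟩ := Ideal.Quotient.mk_surjective
      (((Subalgebra.toSubmodule S).quotientEquivPiSpan bt h) q i)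
    rw [Pi.smul_apply, Pi.zero_apply, ← hr]
    have : (ϖ ^ b) • (Ideal.Quotient.mk (Ideal.span {Submodule.smithNormalFormCoeffs bt h i}) r)
        = Ideal.Quotient.mk (Ideal.span {Submodule.smithNormalFormCoeffs bt h i}) (ϖ ^ b * r) :=
      rfl
    rw [this]
    exact Ideal.Quotient.eq_zero_iff_mem.mpr
      (Ideal.mem_span_singleton.mpr ((hdvd i).mul_right r))
  · rw [hlen, hbeq]
    norm_cast

/-- Over R = k⟦t⟧ with k an algebraically closed field of characteristic zero, let S' be a commutative
R-algebra with an R-basis of size d whose discriminant generates the ideal (t ^ a) (a finite cover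
of the formal disk of degree d, unramified over the punctured disk, with branch divisor (t ^ a)),
and let S be an R-subalgebra of S' with an R-basis of size d whose discriminant generates (t ^ b) (a
crimp with branch divisor (t ^ b)). Then t ^ b annihilates S' / S and twice the R-length of S' / S
plus a equals b. (The published statement is for a family of such subalgebras over a k-scheme T and
also asserts T-flatness of the quotient; this row is its restriction to T a point.) -/
theorem result {k : Type u} [Field k] [IsAlgClosed k] [CharZero k]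
    {St : Type v} [CommRing St] [Algebra (PowerSeries k) St] (d a b : ℕ)
    (bt : Module.Basis (Fin d) (PowerSeries k) St)
    (ha : Ideal.span {Algebra.discr (PowerSeries k) ⇑bt} = Ideal.span {(PowerSeries.X : PowerSeries k) ^ a})
    (S : Subalgebra (PowerSeries k) St) (bS : Module.Basis (Fin d) (PowerSeries k) S)
    (hb : Ideal.span {Algebra.discr (PowerSeries k) ⇑bS} = Ideal.span {(PowerSeries.X : PowerSeries k) ^ b}) :
    (∀ q : St ⧸ Subalgebra.toSubmodule S, ((PowerSeries.X : PowerSeries k) ^ b) • q = 0) ∧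
    2 * Module.length (PowerSeries k) (St ⧸ Subalgebra.toSubmodule S) + (a : ℕ∞) = (b : ℕ∞) :=
  main PowerSeries.X_irreducible d a b bt ha S bS hb

end Groth.Agent.S13877
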