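import Groth.Statements.S13878
import Mathlib
set_option linter.style.haveILetI false

set_option autoImplicit false
universe u
open Crimp

namespace Groth.Agent.S13878

section Aux

variable {R : Type*} [CommRing R]

/-- A vector of length three. -/
def vec3 (a b c : R) : Fin 3 → R := ![a, b, c]

@[simp] lemma vec3_zero (a b c : R) : vec3 a b c 0 = a := rfl
@[simp] lemma vec3_one (a b c : R) : vec3 a b c 1 = b := rfl
@[simp] lemma vec3_two (a b c : R) : vec3 a b c 2 = c := rfl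

lemma ext3 {x y : Fin 3 → R} (h0 : x 0 = y 0) (h1 : x 1 = y 1) (h2 : x 2 = y 2) : x = y := by
  funext i
  fin_cases i
  · exact h0
  · exact h1
  · exact h2

lemma dvd_coord_of_mem (a : R) (z : Fin 3 → R)
    (hz : z ∈ Ideal.span {a} • (⊤ : Submodule R (Fin 3 → R))) (i : Fin 3) : a ∣ z i := by
  refine Submodule.smul_induction_on (p := fun z => a ∣ z i) hz ?_ ?_
  · intro r hr n _
    obtain ⟨c, rfl⟩ := Ideal.mem_span_singleton'.mp hr
    exact ⟨c * n i, by simp only [Pi.smul_apply, smul_eq_mul]; ring⟩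
  · intro x y hx hy
    exact dvd_add hx hy

lemma mem_of_dvd_coord (a : R) (z : Fin 3 → R) (hz : ∀ i, a ∣ z i) :
    z ∈ Ideal.span {a} • (⊤ : Submodule R (Fin 3 → R)) := by
  choose w hw using hz
  have : z = a • w := by
    funext i
    simp only [Pi.smul_apply, smul_eq_mul]
    exact hw i
  rw [this]
  exact Submodule.smul_mem_smul (Ideal.mem_span_singleton_self a) Submodule.mem_top

lemma dvd_of_mem_sup (t : R) (g : Fin 3 → R) (hg0 : g 0 = 0)
    (hg : g ∈ Submodule.span R {(1 : Fin 3 → R)} ⊔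
      Ideal.span {t} • (⊤ : Submodule R (Fin 3 → R))) :
    t ∣ g 1 ∧ t ∣ g 2 := by
  obtain ⟨y, hy, z, hz, rfl⟩ := Submodule.mem_sup.mp hg
  obtain ⟨r, rfl⟩ := Submodule.mem_span_singleton.mp hy
  have h0 := dvd_coord_of_mem t z hz 0
  have h1 := dvd_coord_of_mem t z hz 1
  have h2 := dvd_coord_of_mem t z hz 2
  simp only [Pi.add_apply, Pi.smul_apply, Pi.one_apply, smul_eq_mul, mul_one] at hg0 ⊢
  have hr : t ∣ r := by
    have : r = - z 0 := by linear_combination hg0
    rw [this]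
    exact (dvd_neg).mpr h0
  exact ⟨dvd_add hr h1, dvd_add hr h2⟩

lemma core (t : R) (hloc : ∀ a : R, ¬ t ∣ a → IsUnit a) (ht : ¬ t ∣ 1) (m n : ℕ) (hmn : m ≤ n)
    (S : Submodule R (Fin 3 → R)) (q p : Fin 3 → R)
    (hS : ∀ x : Fin 3 → R, x ∈ S ↔
      t ^ m ∣ x 0 * q 0 + x 1 * q 1 + x 2 * q 2 ∧ t ^ n ∣ x 0 * p 0 + x 1 * p 1 + x 2 * p 2)
    (h1 : (1 : Fin 3 → R) ∈ S)
    (hsurj1 : 1 ≤ m → ∃ x : Fin 3 → R,
      t ∣ (x 0 * q 0 + x 1 * q 1 + x 2 * q 2) - 1 ∧ t ∣ x 0 * p 0 + x 1 * p 1 + x 2 * p 2)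
    (hsurj2 : 1 ≤ n → ∃ x : Fin 3 → R, t ∣ (x 0 * p 0 + x 1 * p 1 + x 2 * p 2) - 1) :
    Ideal.span {t ^ n} • (⊤ : Submodule R (Fin 3 → R)) ≤ S ∧
    ∃ f : Fin 3 → R,
      f ∉ Submodule.span R {(1 : Fin 3 → R)} ⊔
        Ideal.span {t} • (⊤ : Submodule R (Fin 3 → R)) ∧
      S = Submodule.span R {(1 : Fin 3 → R), (t ^ m) • f} ⊔
        Ideal.span {t ^ n} • (⊤ : Submodule R (Fin 3 → R)) := by
  have hmn' : t ^ m ∣ t ^ n := pow_dvd_pow t hmn
  have hδ := (hS 1).mp h1
  simp only [Pi.one_apply, one_mul] at hδ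
  obtain ⟨hδ1, hδ2⟩ := hδ
  have part1 : Ideal.span {t ^ n} • (⊤ : Submodule R (Fin 3 → R)) ≤ S := by
    intro z hz
    have h0 := dvd_coord_of_mem _ z hz 0
    have h1' := dvd_coord_of_mem _ z hz 1
    have h2 := dvd_coord_of_mem _ z hz 2
    rw [hS]
    refine ⟨?_, ?_⟩
    · exact dvd_add (dvd_add (Dvd.dvd.mul_right (hmn'.trans h0) _)
        (Dvd.dvd.mul_right (hmn'.trans h1') _)) (Dvd.dvd.mul_right (hmn'.trans h2) _)
    · exact dvd_add (dvd_add (Dvd.dvd.mul_right h0 _) (Dvd.dvd.mul_right h1' _))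
        (Dvd.dvd.mul_right h2 _)
  refine ⟨part1, ?_⟩
  rcases Nat.eq_zero_or_pos n with hn | hn
  · subst hn
    have hm : m = 0 := by omega
    subst hm
    have hall : ∀ x : Fin 3 → R, x ∈ S := by
      intro x
      rw [hS]
      simp
    refine ⟨vec3 0 1 0, ?_, ?_⟩
    · intro hmem
      have := (dvd_of_mem_sup t _ (by simp) hmem).1
      simp only [vec3_one] at this
      exact ht this
    · apply le_antisymm
      · intro x _
        exact Submodule.mem_sup_right (mem_of_dvd_coord _ x (fun i => by simp))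
      · intro x _
        exact hall x
  · have htδ2 : t ∣ p 0 + p 1 + p 2 := dvd_trans (dvd_pow_self t (by omega)) hδ2
    have hU : ¬ (t ∣ p 1 ∧ t ∣ p 2) := by
      rintro ⟨hp1, hp2⟩
      obtain ⟨x, hx⟩ := hsurj2 hn
      apply ht
      have e1 : (1 : R) = x 0 * (p 0 + p 1 + p 2) + (x 1 - x 0) * p 1 + (x 2 - x 0) * p 2
          - ((x 0 * p 0 + x 1 * p 1 + x 2 * p 2) - 1) := by ring
      rw [e1]
      exact dvd_sub (dvd_add (dvd_add (Dvd.dvd.mul_left htδ2 _) (Dvd.dvd.mul_left hp1 _))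
        (Dvd.dvd.mul_left hp2 _)) hx
    obtain ⟨α, β, hαβ⟩ : ∃ α β : R, α * p 1 + β * p 2 = 1 := by
      by_cases hp1 : t ∣ p 1
      · have hp2 : ¬ t ∣ p 2 := fun h => hU ⟨hp1, h⟩
        obtain ⟨β, hβ⟩ := (hloc _ hp2).exists_left_inv
        exact ⟨0, β, by rw [zero_mul, zero_add]; exact hβ⟩
      · obtain ⟨α, hα⟩ := (hloc _ hp1).exists_left_inv
        exact ⟨α, 0, by rw [zero_mul, add_zero]; exact hα⟩
    have hdec : ∀ a b : R, ∃ γ : R, a = γ * (-p 2) + (a * p 1 + b * p 2) * α ∧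
        b = γ * p 1 + (a * p 1 + b * p 2) * β := by
      intro a b
      refine ⟨b * α - a * β, ?_, ?_⟩
      · linear_combination (-a) * hαβ
      · linear_combination (-b) * hαβ
    have hF : 1 ≤ m → IsUnit (-p 2 * q 1 + p 1 * q 2) := by
      intro hm
      apply hloc
      intro hdiv
      obtain ⟨x, hx1, hx2⟩ := hsurj1 hm
      obtain ⟨γ, e1, e2⟩ := hdec (x 1 - x 0) (x 2 - x 0)
      have htδ1 : t ∣ q 0 + q 1 + q 2 := dvd_trans (dvd_pow_self t (by omega)) hδ1
      have hc' : t ∣ (x 1 - x 0) * p 1 + (x 2 - x 0) * p 2 := by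
        have : (x 1 - x 0) * p 1 + (x 2 - x 0) * p 2 =
            (x 0 * p 0 + x 1 * p 1 + x 2 * p 2) - x 0 * (p 0 + p 1 + p 2) := by ring
        rw [this]
        exact dvd_sub hx2 (Dvd.dvd.mul_left htδ2 _)
      apply ht
      have e3 : (1 : R) = x 0 * (q 0 + q 1 + q 2) + γ * (-p 2 * q 1 + p 1 * q 2)
          + ((x 1 - x 0) * p 1 + (x 2 - x 0) * p 2) * (α * q 1 + β * q 2)
          - ((x 0 * q 0 + x 1 * q 1 + x 2 * q 2) - 1) := by
        linear_combination (q 1) * e1 + (q 2) * e2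
      rw [e3]
      exact dvd_sub (dvd_add (dvd_add (Dvd.dvd.mul_left htδ1 _) (Dvd.dvd.mul_left hdiv _))
        (Dvd.dvd.mul_right hc' _)) hx1
    refine ⟨vec3 0 (-p 2) (p 1), ?_, ?_⟩
    · intro hmem
      have := dvd_of_mem_sup t _ (by simp) hmem
      simp only [vec3_one, vec3_two] at this
      exact hU ⟨this.2, (dvd_neg).mp this.1⟩
    · apply le_antisymm
      · intro x hx
        obtain ⟨hx1, hx2⟩ := (hS x).mp hx
        obtain ⟨γ, e1, e2⟩ := hdec (x 1 - x 0) (x 2 - x 0)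
        have hc : t ^ n ∣ (x 1 - x 0) * p 1 + (x 2 - x 0) * p 2 := by
          have : (x 1 - x 0) * p 1 + (x 2 - x 0) * p 2 =
              (x 0 * p 0 + x 1 * p 1 + x 2 * p 2) - x 0 * (p 0 + p 1 + p 2) := by ring
          rw [this]
          exact dvd_sub hx2 (Dvd.dvd.mul_left hδ2 _)
        have hγF : t ^ m ∣ γ * (-p 2 * q 1 + p 1 * q 2) := by
          have : γ * (-p 2 * q 1 + p 1 * q 2) =
              (x 0 * q 0 + x 1 * q 1 + x 2 * q 2) - x 0 * (q 0 + q 1 + q 2)
              - ((x 1 - x 0) * p 1 + (x 2 - x 0) * p 2) * (α * q 1 + β * q 2) := by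
            linear_combination (-(q 1)) * e1 + (-(q 2)) * e2
          rw [this]
          exact dvd_sub (dvd_sub hx1 (Dvd.dvd.mul_left hδ1 _))
            (Dvd.dvd.mul_right (hmn'.trans hc) _)
        have hγ : t ^ m ∣ γ := by
          rcases Nat.eq_zero_or_pos m with hm | hm
          · rw [hm, pow_zero]
            exact one_dvd _
          · exact (IsUnit.dvd_mul_right (hF hm)).mp hγF
        obtain ⟨γ', rfl⟩ := hγ
        obtain ⟨c', hc'⟩ := hc
        have hx_eq : x = (x 0 • (1 : Fin 3 → R) + γ' • ((t ^ m) • vec3 0 (-p 2) (p 1))) +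
            (t ^ n) • (c' • vec3 0 α β) := by
          apply ext3
          · simp only [Pi.add_apply, Pi.smul_apply, Pi.one_apply, smul_eq_mul, vec3_zero]
            ring
          · simp only [Pi.add_apply, Pi.smul_apply, Pi.one_apply, smul_eq_mul, vec3_one]
            linear_combination e1 + α * hc'
          · simp only [Pi.add_apply, Pi.smul_apply, Pi.one_apply, smul_eq_mul, vec3_two]
            linear_combination e2 + β * hc'
        rw [hx_eq]
        refine Submodule.add_mem_sup ?_ ?_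
        · exact Submodule.add_mem _
            (Submodule.smul_mem _ _ (Submodule.subset_span (Set.mem_insert _ _)))
            (Submodule.smul_mem _ _ (Submodule.subset_span
              (Set.mem_insert_of_mem _ (Set.mem_singleton _))))
        · exact Submodule.smul_mem_smul (Ideal.mem_span_singleton_self _) Submodule.mem_top
      · refine sup_le ?_ part1
        rw [Submodule.span_le]
        intro y hy
        rcases (Set.mem_insert_iff.mp hy) with rfl | hy
        · exact h1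
        · rw [Set.mem_singleton_iff] at hy
          subst hy
          rw [SetLike.mem_coe, hS]
          simp only [Pi.smul_apply, smul_eq_mul, vec3_zero, vec3_one, vec3_two]
          refine ⟨?_, ?_⟩
          · exact ⟨0 * q 0 + (-p 2) * q 1 + p 1 * q 2, by ring⟩
          · exact ⟨0, by ring⟩

end Aux

/-- Over R = k⟦t⟧ with k an algebraically closed field of characteristic zero, let S' = R × R × R (the
unramified triple cover of the formal disk) and let S be an R-submodule of S' containing 1 such that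
S' / S is isomorphic to R / (t ^ m) ⊕ R / (t ^ n) with m ≤ n. Then t ^ n S' is contained in S, and
there is f in S', not lying in R·1 + t S', such that S = R·1 + R·(t ^ m f) + t ^ n S'. -/
theorem result {k : Type u} [Field k] [IsAlgClosed k] [CharZero k] (m n : ℕ) (hmn : m ≤ n)
    (S : Submodule (PowerSeries k) (Fin 3 → PowerSeries k))
    (h1 : (1 : (Fin 3 → PowerSeries k)) ∈ S)
    (e : ((Fin 3 → PowerSeries k) ⧸ S) ≃ₗ[PowerSeries k]
      ((PowerSeries k ⧸ Ideal.span {(PowerSeries.X : PowerSeries k) ^ m}) × (PowerSeries k ⧸ Ideal.span {(PowerSeries.X : PowerSeries k) ^ n}))) :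
    Ideal.span {(PowerSeries.X : PowerSeries k) ^ n} • (⊤ : Submodule (PowerSeries k) (Fin 3 → PowerSeries k)) ≤ S ∧
    ∃ f : (Fin 3 → PowerSeries k),
      f ∉ Submodule.span (PowerSeries k) {(1 : (Fin 3 → PowerSeries k))} ⊔ Ideal.span {(PowerSeries.X : PowerSeries k)} • (⊤ : Submodule (PowerSeries k) (Fin 3 → PowerSeries k)) ∧
      S = Submodule.span (PowerSeries k) {(1 : (Fin 3 → PowerSeries k)), ((PowerSeries.X : PowerSeries k) ^ m) • f} ⊔
        Ideal.span {(PowerSeries.X : PowerSeries k) ^ n} • (⊤ : Submodule (PowerSeries k) (Fin 3 → PowerSeries k)) := by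
  obtain ⟨l₁, hl₁⟩ := Module.projective_lifting_property
    (Submodule.mkQ (Ideal.span {(PowerSeries.X : PowerSeries k) ^ m}))
    ((LinearMap.fst (PowerSeries k) _ _) ∘ₗ e.toLinearMap ∘ₗ S.mkQ)
    (Submodule.mkQ_surjective _)
  obtain ⟨l₂, hl₂⟩ := Module.projective_lifting_property
    (Submodule.mkQ (Ideal.span {(PowerSeries.X : PowerSeries k) ^ n}))
    ((LinearMap.snd (PowerSeries k) _ _) ∘ₗ e.toLinearMap ∘ₗ S.mkQ)
    (Submodule.mkQ_surjective _)
  have h1' : ∀ x, (Submodule.mkQ (Ideal.span {(PowerSeries.X : PowerSeries k) ^ m})) (l₁ x) =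
      (e (S.mkQ x)).1 := fun x => LinearMap.congr_fun hl₁ x
  have h2' : ∀ x, (Submodule.mkQ (Ideal.span {(PowerSeries.X : PowerSeries k) ^ n})) (l₂ x) =
      (e (S.mkQ x)).2 := fun x => LinearMap.congr_fun hl₂ x
  obtain ⟨q, hq⟩ : ∃ q : Fin 3 → PowerSeries k,
      ∀ x, l₁ x = x 0 * q 0 + x 1 * q 1 + x 2 * q 2 :=
    ⟨fun i => l₁ (fun j => if i = j then 1 else 0), fun x => by
      rw [LinearMap.pi_apply_eq_sum_univ l₁ x, Fin.sum_univ_three]
      simp only [smul_eq_mul]⟩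
  obtain ⟨p, hp⟩ : ∃ p : Fin 3 → PowerSeries k,
      ∀ x, l₂ x = x 0 * p 0 + x 1 * p 1 + x 2 * p 2 :=
    ⟨fun i => l₂ (fun j => if i = j then 1 else 0), fun x => by
      rw [LinearMap.pi_apply_eq_sum_univ l₂ x, Fin.sum_univ_three]
      simp only [smul_eq_mul]⟩
  have hmem1 : ∀ x, (e (S.mkQ x)).1 = 0 ↔
      (PowerSeries.X : PowerSeries k) ^ m ∣ x 0 * q 0 + x 1 * q 1 + x 2 * q 2 := by
    intro x
    rw [← h1' x, Submodule.mkQ_apply, Submodule.Quotient.mk_eq_zero, Ideal.mem_span_singleton,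
      hq x]
  have hmem2 : ∀ x, (e (S.mkQ x)).2 = 0 ↔
      (PowerSeries.X : PowerSeries k) ^ n ∣ x 0 * p 0 + x 1 * p 1 + x 2 * p 2 := by
    intro x
    rw [← h2' x, Submodule.mkQ_apply, Submodule.Quotient.mk_eq_zero, Ideal.mem_span_singleton,
      hp x]
  have hS : ∀ x : Fin 3 → PowerSeries k, x ∈ S ↔
      (PowerSeries.X : PowerSeries k) ^ m ∣ x 0 * q 0 + x 1 * q 1 + x 2 * q 2 ∧
      (PowerSeries.X : PowerSeries k) ^ n ∣ x 0 * p 0 + x 1 * p 1 + x 2 * p 2 := by
    intro x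
    rw [← hmem1, ← hmem2]
    constructor
    · intro hx
      have h0 : S.mkQ x = 0 := by
        rw [Submodule.mkQ_apply]
        exact (Submodule.Quotient.mk_eq_zero S).mpr hx
      rw [h0, map_zero]
      exact ⟨rfl, rfl⟩
    · rintro ⟨ha, hb⟩
      have h0 : e (S.mkQ x) = 0 := Prod.ext ha hb
      have h3 := (LinearEquiv.map_eq_zero_iff e).mp h0
      rw [Submodule.mkQ_apply] at h3
      exact (Submodule.Quotient.mk_eq_zero S).mp h3
  have hsurj : Function.Surjective (fun x => e (S.mkQ x)) :=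
    e.surjective.comp S.mkQ_surjective
  have hs1 : 1 ≤ m → ∃ x : Fin 3 → PowerSeries k,
      (PowerSeries.X : PowerSeries k) ∣ (x 0 * q 0 + x 1 * q 1 + x 2 * q 2) - 1 ∧
      (PowerSeries.X : PowerSeries k) ∣ x 0 * p 0 + x 1 * p 1 + x 2 * p 2 := by
    intro hm
    obtain ⟨x, hx⟩ := hsurj
      (Submodule.mkQ (Ideal.span {(PowerSeries.X : PowerSeries k) ^ m}) 1, 0)
    have ha : (e (S.mkQ x)).1 =
        Submodule.mkQ (Ideal.span {(PowerSeries.X : PowerSeries k) ^ m}) 1 :=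
      congrArg Prod.fst hx
    have hb : (e (S.mkQ x)).2 = 0 := congrArg Prod.snd hx
    refine ⟨x, ?_, ?_⟩
    · have h' : Submodule.mkQ (Ideal.span {(PowerSeries.X : PowerSeries k) ^ m}) (l₁ x - 1) = 0 := by
        rw [map_sub, h1' x, ha, sub_self]
      rw [Submodule.mkQ_apply, Submodule.Quotient.mk_eq_zero, Ideal.mem_span_singleton,
        hq x] at h'
      exact dvd_trans (dvd_pow_self _ (by omega)) h'
    · exact dvd_trans (dvd_pow_self _ (by omega)) ((hmem2 x).mp hb)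
  have hs2 : 1 ≤ n → ∃ x : Fin 3 → PowerSeries k,
      (PowerSeries.X : PowerSeries k) ∣ (x 0 * p 0 + x 1 * p 1 + x 2 * p 2) - 1 := by
    intro hn
    obtain ⟨x, hx⟩ := hsurj
      (0, Submodule.mkQ (Ideal.span {(PowerSeries.X : PowerSeries k) ^ n}) 1)
    have hb : (e (S.mkQ x)).2 =
        Submodule.mkQ (Ideal.span {(PowerSeries.X : PowerSeries k) ^ n}) 1 :=
      congrArg Prod.snd hx
    refine ⟨x, ?_⟩
    have h' : Submodule.mkQ (Ideal.span {(PowerSeries.X : PowerSeries k) ^ n}) (l₂ x - 1) = 0 := by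
      rw [map_sub, h2' x, hb, sub_self]
    rw [Submodule.mkQ_apply, Submodule.Quotient.mk_eq_zero, Ideal.mem_span_singleton,
      hp x] at h'
    exact dvd_trans (dvd_pow_self _ (by omega)) h'
  have hloc : ∀ a : PowerSeries k, ¬ (PowerSeries.X : PowerSeries k) ∣ a → IsUnit a := by
    intro a ha
    rw [PowerSeries.X_dvd_iff] at ha
    exact PowerSeries.isUnit_iff_constantCoeff.mpr (IsUnit.mk0 _ ha)
  have ht : ¬ (PowerSeries.X : PowerSeries k) ∣ 1 := by
    rw [PowerSeries.X_dvd_iff]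
    simp
  exact core PowerSeries.X hloc ht m n hmn S q p hS h1 hs1 hs2

end Groth.Agent.S13878
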