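import Groth.Statements.S13882
import Mathlib

set_option autoImplicit false
universe u
open FinCov

namespace Groth.Agent.S13882


noncomputable section Construction

variable (K : Type u) [Field K] (d : ℕ)

abbrev Idx (d : ℕ) : Type := (Fin d × Fin d × Fin d) ⊕ Fin d

def xc (i j k : Fin d) : MvPolynomial (Idx d) K := MvPolynomial.X (Sum.inl (i, j, k))
def xu (i : Fin d) : MvPolynomial (Idx d) K := MvPolynomial.X (Sum.inr i)

def rels : Set (MvPolynomial (Idx d) K) :=
  {p | (∃ i j k : Fin d, p = xc K d i j k - xc K d j i k) ∨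
       (∃ i j l m : Fin d, p = (∑ k, xc K d i j k * xc K d k l m) -
          ∑ k, xc K d j l k * xc K d i k m) ∨
       (∃ j m : Fin d, p = (∑ i, xu K d i * xc K d i j m) - (if j = m then 1 else 0))}

def relI : Ideal (MvPolynomial (Idx d) K) := Ideal.span (rels K d)

abbrev B : Type u := MvPolynomial (Idx d) K ⧸ relI K d

def gc (i j k : Fin d) : B K d := Ideal.Quotient.mk (relI K d) (xc K d i j k)
def gu (i : Fin d) : B K d := Ideal.Quotient.mk (relI K d) (xu K d i)

theorem gc_comm (i j k : Fin d) : gc K d i j k = gc K d j i k := by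
  have h : xc K d i j k - xc K d j i k ∈ relI K d := Ideal.subset_span (Or.inl ⟨i, j, k, rfl⟩)
  have h2 := Ideal.Quotient.eq_zero_iff_mem.mpr h
  rw [map_sub, sub_eq_zero] at h2
  exact h2

theorem gc_assoc (i j l m : Fin d) :
    (∑ k, gc K d i j k * gc K d k l m) = ∑ k, gc K d j l k * gc K d i k m := by
  have h : (∑ k, xc K d i j k * xc K d k l m) - ∑ k, xc K d j l k * xc K d i k m ∈ relI K d :=
    Ideal.subset_span (Or.inr (Or.inl ⟨i, j, l, m, rfl⟩))
  have h2 := Ideal.Quotient.eq_zero_iff_mem.mpr h
  rw [map_sub, sub_eq_zero, map_sum, map_sum] at h2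
  simp only [map_mul] at h2
  exact h2

theorem gu_unit (j m : Fin d) :
    (∑ i, gu K d i * gc K d i j m) = if j = m then 1 else 0 := by
  have h : (∑ i, xu K d i * xc K d i j m) - (if j = m then 1 else 0) ∈ relI K d :=
    Ideal.subset_span (Or.inr (Or.inr ⟨j, m, rfl⟩))
  have h2 := Ideal.Quotient.eq_zero_iff_mem.mpr h
  rw [map_sub, sub_eq_zero, map_sum] at h2
  simp only [map_mul] at h2
  unfold gu gc
  rw [h2]
  split_ifs <;> simp

variable (A : Type u) [CommRing A] [Algebra K A]

def toBased (g : B K d →ₐ[K] A) : W4c1hurwitzcpt.BasedAlg d A where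
  c i j k := g (gc K d i j k)
  u i := g (gu K d i)
  comm i j k := by
    show g (gc K d i j k) = g (gc K d j i k)
    rw [gc_comm]
  assoc i j l m := by
    show (∑ k, g (gc K d i j k) * g (gc K d k l m)) = ∑ k, g (gc K d j l k) * g (gc K d i k m)
    have h := congrArg g (gc_assoc K d i j l m)
    simpa only [map_sum, map_mul] using h
  unit j m := by
    show (∑ i, g (gu K d i) * g (gc K d i j m)) = if j = m then 1 else 0
    have h := congrArg g (gu_unit K d j m)
    simp only [map_sum, map_mul] at h
    rw [h]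
    split_ifs <;> simp

def evalFun (s : W4c1hurwitzcpt.BasedAlg d A) : Idx d → A :=
  Sum.elim (fun t => s.c t.1 t.2.1 t.2.2) s.u

def g₀ (s : W4c1hurwitzcpt.BasedAlg d A) : MvPolynomial (Idx d) K →ₐ[K] A :=
  MvPolynomial.aeval (evalFun d A s)

theorem g₀_xc (s : W4c1hurwitzcpt.BasedAlg d A) (i j k : Fin d) :
    g₀ K d A s (xc K d i j k) = s.c i j k := by
  show MvPolynomial.aeval (evalFun d A s) (MvPolynomial.X (Sum.inl (i, j, k))) = _
  rw [MvPolynomial.aeval_X]
  rfl

theorem g₀_xu (s : W4c1hurwitzcpt.BasedAlg d A) (i : Fin d) :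
    g₀ K d A s (xu K d i) = s.u i := by
  show MvPolynomial.aeval (evalFun d A s) (MvPolynomial.X (Sum.inr i)) = _
  rw [MvPolynomial.aeval_X]
  rfl

theorem g₀_kill (s : W4c1hurwitzcpt.BasedAlg d A) : ∀ a ∈ relI K d, g₀ K d A s a = 0 := by
  have hle : relI K d ≤ RingHom.ker (g₀ K d A s : MvPolynomial (Idx d) K →+* A) := by
    refine Ideal.span_le.mpr ?_
    rintro p (⟨i, j, k, rfl⟩ | ⟨i, j, l, m, rfl⟩ | ⟨j, m, rfl⟩)
    · rw [SetLike.mem_coe, RingHom.mem_ker]
      show g₀ K d A s _ = 0
      rw [map_sub, g₀_xc, g₀_xc, s.comm, sub_self]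
    · rw [SetLike.mem_coe, RingHom.mem_ker]
      show g₀ K d A s _ = 0
      rw [map_sub, map_sum, map_sum, sub_eq_zero]
      simp only [map_mul, g₀_xc]
      exact s.assoc i j l m
    · rw [SetLike.mem_coe, RingHom.mem_ker]
      show g₀ K d A s _ = 0
      rw [map_sub, map_sum, sub_eq_zero]
      simp only [map_mul, g₀_xc, g₀_xu]
      rw [s.unit j m]
      split_ifs <;> simp
  exact fun a ha => RingHom.mem_ker.mp (hle ha)

def ofBased (s : W4c1hurwitzcpt.BasedAlg d A) : B K d →ₐ[K] A :=
  Ideal.Quotient.liftₐ (relI K d) (g₀ K d A s) (g₀_kill K d A s)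

theorem ofBased_gc (s : W4c1hurwitzcpt.BasedAlg d A) (i j k : Fin d) :
    ofBased K d A s (gc K d i j k) = s.c i j k := by
  show ofBased K d A s (Ideal.Quotient.mk (relI K d) (xc K d i j k)) = _
  unfold ofBased
  rw [Ideal.Quotient.liftₐ_apply, Ideal.Quotient.lift_mk]
  exact g₀_xc K d A s i j k

theorem ofBased_gu (s : W4c1hurwitzcpt.BasedAlg d A) (i : Fin d) :
    ofBased K d A s (gu K d i) = s.u i := by
  show ofBased K d A s (Ideal.Quotient.mk (relI K d) (xu K d i)) = _
  unfold ofBased
  rw [Ideal.Quotient.liftₐ_apply, Ideal.Quotient.lift_mk]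
  exact g₀_xu K d A s i

def eta : (B K d →ₐ[K] A) ≃ W4c1hurwitzcpt.BasedAlg d A where
  toFun := toBased K d A
  invFun := ofBased K d A
  left_inv g := by
    refine Ideal.Quotient.algHom_ext K ?_
    refine MvPolynomial.algHom_ext (fun x => ?_)
    rcases x with ⟨i, j, k⟩ | i
    · show ofBased K d A (toBased K d A g) (gc K d i j k) = g (gc K d i j k)
      rw [ofBased_gc]
      rfl
    · show ofBased K d A (toBased K d A g) (gu K d i) = g (gu K d i)
      rw [ofBased_gu]
      rfl
  right_inv s := by
    refine W4c1hurwitzcpt.BasedAlg.ext ?_ ?_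
    · funext i j k
      exact ofBased_gc K d A s i j k
    · funext i
      exact ofBased_gu K d A s i

end Construction


/-- Over a field K of characteristic zero, the functor that sends a K-scheme S to the set of isomorphism
classes of pairs (A, τ) of an O_S-algebra A and an O_S-module isomorphism τ from A to the free
module of rank d, equivalently to the set of commutative unital algebra structures on the rank-d
free module with its standard basis, is represented by an affine K-scheme of finite type. Stated on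
affine K-schemes in one universe: there is a finitely generated commutative K-algebra B with
bijections between K-algebra maps B → A and based algebra structures of rank d over A, natural in
the commutative K-algebra A. -/
theorem result (K : Type u) [Field K] [CharZero K] (d : ℕ) :
    ∃ (B : Type u) (_ : CommRing B) (_ : Algebra K B) (_ : Algebra.FiniteType K B)
      (η : ∀ (A : Type u) [CommRing A] [Algebra K A], (B →ₐ[K] A) ≃ W4c1hurwitzcpt.BasedAlg d A),
      ∀ (A A' : Type u) [CommRing A] [Algebra K A] [CommRing A'] [Algebra K A']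
        (f : A →ₐ[K] A') (g : B →ₐ[K] A),
        η A' (f.comp g) = (η A g).map f.toRingHom := by
  refine ⟨B K d, inferInstance, inferInstance, inferInstance, fun A _ _ => eta K d A, ?_⟩
  intro A A' _ _ _ _ f g
  refine W4c1hurwitzcpt.BasedAlg.ext ?_ ?_
  · funext i j k
    rfl
  · funext i
    rfl

end Groth.Agent.S13882
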