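import Groth.Statements.S13886
import Mathlib

set_option autoImplicit false
universe u
open Crimp

namespace Groth.Agent.S13886


section Aux

theorem mem_char {R : Type u} [CommRing R] {M : Type u} [AddCommGroup M] [Module R M]
    (one c : M) (r : R) (x : M) :
    x ∈ Submodule.span R {one, c} ⊔ Ideal.span {r} • (⊤ : Submodule R M) ↔
      ∃ (a b : R) (g : M), x = a • one + b • c + r • g := by
  rw [Submodule.mem_sup]
  constructor
  · rintro ⟨y, hy, z, hz, rfl⟩
    rw [Submodule.mem_span_pair] at hy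
    obtain ⟨a, b, rfl⟩ := hy
    rw [Submodule.ideal_span_singleton_smul, Submodule.mem_smul_pointwise_iff_exists] at hz
    obtain ⟨g, -, rfl⟩ := hz
    exact ⟨a, b, g, rfl⟩
  · rintro ⟨a, b, g, rfl⟩
    exact ⟨a • one + b • c, Submodule.mem_span_pair.mpr ⟨a, b, rfl⟩, r • g,
      Submodule.smul_mem_smul (Ideal.mem_span_singleton_self r) Submodule.mem_top, rfl⟩

theorem equiv_of_det {R : Type u} [CommRing R] (f h : Fin 3 → R)
    (hdet : IsUnit (f 1 * h 2 - h 1 * f 2 - f 0 * h 2 + f 0 * h 1 + h 0 * f 2 - h 0 * f 1)) :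
    ∃ e : (Fin 3 → R) ≃ₗ[R] (Fin 3 → R), e (Pi.single 0 1) = 1 ∧ e (Pi.single 1 1) = f := by
  obtain ⟨M, hM⟩ : ∃ M : Matrix (Fin 3) (Fin 3) R,
      M = Matrix.of fun i j => ![1, f i, h i] j := ⟨_, rfl⟩
  have hc0 : ∀ i, M i 0 = 1 := fun i => by rw [hM]; rfl
  have hc1 : ∀ i, M i 1 = f i := fun i => by rw [hM]; rfl
  have hc2 : ∀ i, M i 2 = h i := fun i => by rw [hM]; rfl
  have hd : M.det = f 1 * h 2 - h 1 * f 2 - f 0 * h 2 + f 0 * h 1 + h 0 * f 2 - h 0 * f 1 := by
    rw [Matrix.det_fin_three]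
    simp only [hc0, hc1, hc2]
    ring
  have hu : IsUnit M.det := by rw [hd]; exact hdet
  refine ⟨M.toLinearEquiv' (M.invertibleOfIsUnitDet hu), ?_, ?_⟩
  · show Matrix.mulVec M (Pi.single 0 1) = 1
    rw [Matrix.mulVec_single_one]
    funext i
    exact hc0 i
  · show Matrix.mulVec M (Pi.single 1 1) = f
    rw [Matrix.mulVec_single_one]
    funext i
    exact hc1 i

theorem quot_aux {R : Type u} [CommRing R] (t : R) (m n : ℕ) (hmn : m ≤ n)
    (e : (Fin 3 → R) ≃ₗ[R] (Fin 3 → R)) (f : Fin 3 → R)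
    (he0 : e (Pi.single 0 1) = 1) (he1 : e (Pi.single 1 1) = f)
    (S : Submodule R (Fin 3 → R))
    (hS : ∀ x, x ∈ S ↔ ∃ (a b : R) (g : Fin 3 → R), x = a • (1 : Fin 3 → R) + b • (t ^ m • f) + t ^ n • g) :
    Nonempty (((Fin 3 → R) ⧸ S) ≃ₗ[R]
      ((R ⧸ Ideal.span {t ^ m}) × (R ⧸ Ideal.span {t ^ n}))) := by
  obtain ⟨φ, hφ⟩ : ∃ φ : (Fin 3 → R) →ₗ[R] ((R ⧸ Ideal.span {t ^ m}) × (R ⧸ Ideal.span {t ^ n})),
      ∀ x, φ x = (Ideal.Quotient.mk (Ideal.span {t ^ m}) ((e.symm x) 1),
        Ideal.Quotient.mk (Ideal.span {t ^ n}) ((e.symm x) 2)) :=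
    ⟨(((Ideal.Quotient.mkₐ R (Ideal.span {t ^ m})).toLinearMap ∘ₗ
        (LinearMap.proj 1 : (Fin 3 → R) →ₗ[R] R)).prod
      ((Ideal.Quotient.mkₐ R (Ideal.span {t ^ n})).toLinearMap ∘ₗ
        (LinearMap.proj 2 : (Fin 3 → R) →ₗ[R] R))) ∘ₗ e.symm.toLinearMap, fun x => rfl⟩
  have hpow : t ^ n = t ^ m * t ^ (n - m) := by
    rw [← pow_add]; congr 1; omega
  have hs1 : e.symm 1 = Pi.single 0 1 := by rw [← he0, e.symm_apply_apply]
  have hs2 : e.symm f = Pi.single 1 1 := by rw [← he1, e.symm_apply_apply]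
  have hsurj : Function.Surjective φ := by
    rintro ⟨p, q⟩
    obtain ⟨a, rfl⟩ := Ideal.Quotient.mk_surjective p
    obtain ⟨b, rfl⟩ := Ideal.Quotient.mk_surjective q
    refine ⟨e (fun i => if i = 1 then a else b), ?_⟩
    rw [hφ, e.symm_apply_apply]
    rfl
  have hker : LinearMap.ker φ = S := by
    ext x
    rw [LinearMap.mem_ker, hS, hφ, Prod.mk_eq_zero, Ideal.Quotient.eq_zero_iff_mem,
      Ideal.Quotient.eq_zero_iff_mem, Ideal.mem_span_singleton, Ideal.mem_span_singleton]
    constructor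
    · rintro ⟨⟨b, hb⟩, ⟨c, hc⟩⟩
      obtain ⟨v, hv⟩ : ∃ v, v = e.symm x := ⟨_, rfl⟩
      rw [← hv] at hb hc
      have hx : x = e v := by rw [hv, e.apply_symm_apply]
      have hvd : v = v 0 • Pi.single 0 1 + v 1 • Pi.single 1 1 + v 2 • Pi.single 2 1 := by
        funext i
        have h3 : ∀ i : Fin 3, i = 0 ∨ i = 1 ∨ i = 2 := by decide
        rcases h3 i with rfl | rfl | rfl <;> simp
      refine ⟨v 0, b, c • e (Pi.single 2 1), ?_⟩
      rw [hx]
      conv_lhs => rw [hvd]
      rw [map_add, map_add, map_smul, map_smul, map_smul, he0, he1, hb, hc]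
      module
    · rintro ⟨a, b, g, rfl⟩
      have hes : e.symm (a • (1 : Fin 3 → R) + b • (t ^ m • f) + t ^ n • g) =
          a • Pi.single 0 1 + b • (t ^ m • Pi.single 1 1) + t ^ n • e.symm g := by
        rw [map_add, map_add, map_smul, map_smul, map_smul, map_smul, hs1, hs2]
      rw [hes]
      constructor
      · refine ⟨b + t ^ (n - m) * (e.symm g) 1, ?_⟩
        simp only [Pi.add_apply, Pi.smul_apply, smul_eq_mul]
        rw [Pi.single_eq_of_ne (by decide), Pi.single_eq_same, hpow]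
        ring
      · refine ⟨(e.symm g) 2, ?_⟩
        simp only [Pi.add_apply, Pi.smul_apply, smul_eq_mul]
        rw [Pi.single_eq_of_ne (by decide), Pi.single_eq_of_ne (by decide)]
        ring
  exact ⟨(Submodule.quotEquivOfEq S (LinearMap.ker φ) hker.symm).trans
    (φ.quotKerEquivOfSurjective hsurj)⟩

end Aux


/-- Over R = k⟦t⟧ with k an algebraically closed field of characteristic zero, let S' = R × R × R be the
unramified triple cover of the formal disk and let m ≤ n ≤ 2m be natural numbers. For every f in S'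
not lying in R·1 + t S', the R-submodule S = R·1 + R·(t ^ m f) + t ^ n S' is closed under
multiplication, hence an R-subalgebra (a crimp), and S' / S is isomorphic to R / (t ^ m) ⊕ R / (t ^
n) (so the crimp has μ-invariant n - m and branch divisor (t ^ (2(m+n)))). Together with the
structure result for submodules with this quotient, this identifies the k-points of the space of
crimps of splitting type (m, n), 2m ≥ n, with the submodules of this shape. (The published statement
moreover asserts that this stratum is an irreducible variety of dimension n - m; that part is not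
restated.) -/
theorem result {k : Type u} [Field k] [IsAlgClosed k] [CharZero k]
    (m n : ℕ) (hmn : m ≤ n) (hn : n ≤ 2 * m)
    (f : (Fin 3 → PowerSeries k)) (hf : f ∉ Submodule.span (PowerSeries k) {(1 : (Fin 3 → PowerSeries k))} ⊔ Ideal.span {(PowerSeries.X : PowerSeries k)} • (⊤ : Submodule (PowerSeries k) (Fin 3 → PowerSeries k)))
    (S : Submodule (PowerSeries k) (Fin 3 → PowerSeries k))
    (hS : S = Submodule.span (PowerSeries k) {(1 : (Fin 3 → PowerSeries k)), ((PowerSeries.X : PowerSeries k) ^ m) • f} ⊔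
        Ideal.span {(PowerSeries.X : PowerSeries k) ^ n} • (⊤ : Submodule (PowerSeries k) (Fin 3 → PowerSeries k))) :
    (∀ x ∈ S, ∀ y ∈ S, x * y ∈ S) ∧
    Nonempty (((Fin 3 → PowerSeries k) ⧸ S) ≃ₗ[PowerSeries k]
      ((PowerSeries k ⧸ Ideal.span {(PowerSeries.X : PowerSeries k) ^ m}) × (PowerSeries k ⧸ Ideal.span {(PowerSeries.X : PowerSeries k) ^ n}))) := by
  have memS : ∀ x, x ∈ S ↔ ∃ (a b : PowerSeries k) (g : Fin 3 → PowerSeries k), x = a • (1 : Fin 3 → PowerSeries k) +
      b • ((PowerSeries.X : PowerSeries k) ^ m • f) + (PowerSeries.X : PowerSeries k) ^ n • g := by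
    intro x
    rw [hS]
    exact mem_char _ _ _ _
  constructor
  · intro x hx y hy
    rw [memS] at hx hy ⊢
    obtain ⟨a, b, g, rfl⟩ := hx
    obtain ⟨a', b', g', rfl⟩ := hy
    have ht : (PowerSeries.X : PowerSeries k) ^ m * (PowerSeries.X : PowerSeries k) ^ m =
        (PowerSeries.X : PowerSeries k) ^ n * (PowerSeries.X : PowerSeries k) ^ (2 * m - n) := by
      rw [← pow_add, ← pow_add]; congr 1; omega
    refine ⟨a * a', a * b' + a' * b,
      fun i => b * b' * (PowerSeries.X : PowerSeries k) ^ (2 * m - n) * (f i * f i) + a * g' i +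
        b * (PowerSeries.X : PowerSeries k) ^ m * f i * g' i + a' * g i +
        b' * (PowerSeries.X : PowerSeries k) ^ m * f i * g i +
        (PowerSeries.X : PowerSeries k) ^ n * g i * g' i, ?_⟩
    funext i
    simp only [Pi.add_apply, Pi.smul_apply, Pi.mul_apply, Pi.one_apply, smul_eq_mul]
    linear_combination (b * b' * f i * f i) * ht
  · have hc : PowerSeries.constantCoeff (f 1 - f 0) ≠ 0 ∨
        PowerSeries.constantCoeff (f 2 - f 0) ≠ 0 := by
      by_contra hcon
      rw [not_or, not_not, not_not] at hcon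
      obtain ⟨h1, h2⟩ := hcon
      apply hf
      obtain ⟨g1, hg1⟩ := PowerSeries.X_dvd_iff.mpr h1
      obtain ⟨g2, hg2⟩ := PowerSeries.X_dvd_iff.mpr h2
      refine Submodule.mem_sup.mpr ⟨f 0 • 1, Submodule.mem_span_singleton.mpr ⟨f 0, rfl⟩,
        (PowerSeries.X : PowerSeries k) • (fun i : Fin 3 => if i = 1 then g1 else if i = 2 then g2 else 0),
        Submodule.smul_mem_smul (Ideal.mem_span_singleton_self _) Submodule.mem_top, ?_⟩
      funext i
      have h3 : ∀ i : Fin 3, i = 0 ∨ i = 1 ∨ i = 2 := by decide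
      rcases h3 i with rfl | rfl | rfl
      · show f 0 * 1 + PowerSeries.X * (if (0 : Fin 3) = 1 then g1 else
          if (0 : Fin 3) = 2 then g2 else 0) = f 0
        rw [if_neg (by decide), if_neg (by decide)]; ring
      · show f 0 * 1 + PowerSeries.X * (if (1 : Fin 3) = 1 then g1 else
          if (1 : Fin 3) = 2 then g2 else 0) = f 1
        rw [if_pos rfl]; linear_combination -hg1
      · show f 0 * 1 + PowerSeries.X * (if (2 : Fin 3) = 1 then g1 else
          if (2 : Fin 3) = 2 then g2 else 0) = f 2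
        rw [if_neg (by decide), if_pos rfl]; linear_combination -hg2
    obtain ⟨e, he0, he1⟩ : ∃ e : (Fin 3 → PowerSeries k) ≃ₗ[PowerSeries k] (Fin 3 → PowerSeries k),
        e (Pi.single 0 1) = 1 ∧ e (Pi.single 1 1) = f := by
      rcases hc with h | h
      · have hu : IsUnit (f 1 - f 0) :=
          PowerSeries.isUnit_iff_constantCoeff.mpr (IsUnit.mk0 _ h)
        apply equiv_of_det f (Pi.single 2 1)
        rw [Pi.single_eq_same, Pi.single_eq_of_ne (by decide), Pi.single_eq_of_ne (by decide)]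
        have : f 1 * 1 - 0 * f 2 - f 0 * 1 + f 0 * 0 + 0 * f 2 - 0 * f 1 = f 1 - f 0 := by ring
        rw [this]; exact hu
      · have hu : IsUnit (f 2 - f 0) :=
          PowerSeries.isUnit_iff_constantCoeff.mpr (IsUnit.mk0 _ h)
        apply equiv_of_det f (Pi.single 1 1)
        rw [Pi.single_eq_same, Pi.single_eq_of_ne (by decide), Pi.single_eq_of_ne (by decide)]
        have : f 1 * 0 - 1 * f 2 - f 0 * 0 + f 0 * 1 + 0 * f 2 - 0 * f 1 = -(f 2 - f 0) := by ring
        rw [this]; exact hu.neg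
    exact quot_aux _ m n hmn e f he0 he1 S memS

end Groth.Agent.S13886
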