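import Groth.Statements.S13888
-- import your own Groth.Agent.* helpers here

set_option autoImplicit false
universe u
open CategoryTheory CategoryTheory.Limits MonoidalCategory
attribute [local instance] HasDerivedCategory.standard
open DTen

namespace Groth.Agent.S13888

section helpers
variable {A : Type u} [CommRing A] [DTen.HasLTen A] [DTen.HasLTen₃ A]
    [DTen.IsSymMonoidal A]

lemma sq_of_legs {C : Type*} [Category C] {X X' Y Y' Z Z' : C} (u : X ⟶ X') (v : Y ⟶ Y')
    (w : Z ⟶ Z') (l : X ⟶ Z) (l' : X' ⟶ Z') (r : Y ⟶ Z) (r' : Y' ⟶ Z') (α : X ⟶ Y)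
    (α' : X' ⟶ Y') [Mono r'] (hα : α ≫ r = l) (hα' : α' ≫ r' = l') (hL : u ≫ l' = l ≫ w)
    (hR : v ≫ r' = r ≫ w) : u ≫ α' = α ≫ v := by
  rw [← cancel_mono r', Category.assoc, Category.assoc, hα', hR, ← Category.assoc, hα, hL]

/-- naturality of the associator in the first variable -/
lemma assoc_nat {a a' : Dual.D A} (f : a ⟶ a') (b c : Dual.D A) :
    (tensorRightD A c).map ((tensorRightD A b).map f) ≫ (associator a' b c).hom
      = (associator a b c).hom ≫ (tensorRightD A ((LTen₂ A).obj (b, c))).map f := by
  let φ : ((a, (b, c)) : Dual.D A × (Dual.D A × Dual.D A)) ⟶ (a', (b, c)) :=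
    Prod.mkHom f (𝟙 (b, c))
  have hL := (assocL A).naturality φ
  have hR := (assocR A).naturality φ
  have e1 : (LTenL A).map φ = (tensorRightD A c).map ((tensorRightD A b).map f) := rfl
  have e2 : (LTenR A).map φ = (tensorRightD A ((LTen₂ A).obj (b, c))).map f := by
    change (LTen₂ A).map (Prod.mkHom f ((LTen₂ A).map (𝟙 (b, c)))) = _
    rw [CategoryTheory.Functor.map_id]
    rfl
  haveI : IsIso ((assocR A).app (a', (b, c))) := inferInstance
  have h : (LTenL A).map φ ≫ (associator a' b c).hom
      = (associator a b c).hom ≫ (LTenR A).map φ :=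
    sq_of_legs ((LTenL A).map φ) ((LTenR A).map φ) ((LTen₃ A).map φ)
      ((assocL A).app (a, (b, c))) ((assocL A).app (a', (b, c)))
      ((assocR A).app (a, (b, c))) ((assocR A).app (a', (b, c)))
      (associator a b c).hom (associator a' b c).hom
      (associator_hom_assocR a b c) (associator_hom_assocR a' b c) hL hR
  refine h.trans ?_
  exact congrArg (fun z => (associator a b c).hom ≫ z) e2

end helpers

/-- For a commutative ring `A` (assuming the derived tensor product on `D(A)` with its triple version
exists, that its symmetry, unit and associativity maps are isomorphisms, and that every `- ⊗^L L`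
has a right adjoint `RHom(L, -)`) and objects `K`, `L`, `M` of `D(A)`, the canonical morphism
`RHom(K ⊗^L L, M) ⟶ RHom(K, RHom(L, M))`, namely the double adjunct of the associativity isomorphism
followed by evaluation at `K ⊗^L L`, is an isomorphism. (Functoriality in the three objects is built
into the construction; the identification on `H^0` with the hom bijection of the adjunction is not
part of this row.) -/
theorem result (A : Type u) [CommRing A] [DTen.HasLTen A] [DTen.HasLTen₃ A]
    [DTen.IsSymMonoidal A] [DTen.HasRHom A] (K L M : Dual.D A) :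
    IsIso (DTen.curryHom K L M) := by
  apply isIso_of_yoneda_map_bijective
  intro T
  let e1 := rhomHomEquiv T ((LTen₂ A).obj (K, L)) M
  let e2 : ((LTen₂ A).obj (T, (LTen₂ A).obj (K, L)) ⟶ M) ≃
      ((LTen₂ A).obj ((LTen₂ A).obj (T, K), L) ⟶ M) :=
    (associator T K L).symm.homCongr (Iso.refl M)
  let e3 := rhomHomEquiv ((LTen₂ A).obj (T, K)) L M
  let e4 := rhomHomEquiv T K ((RHomR A L).obj M)
  let E := e1.symm.trans (e2.trans (e3.trans e4))
  have key : ∀ t : T ⟶ (RHomR A ((LTen₂ A).obj (K, L))).obj M,
      e3.symm (e4.symm (t ≫ curryHom K L M)) = e2 (e1.symm t) := by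
    intro t
    have hfac := curryHom_fac K L M
    change (tensorRightD A L).map ((tensorRightD A K).map (curryHom K L M) ≫
      ev K ((RHomR A L).obj M)) ≫ ev L M = curryHomAux K L M at hfac
    have h4 : e4.symm (t ≫ curryHom K L M)
        = (tensorRightD A K).map (t ≫ curryHom K L M) ≫ ev K ((RHomR A L).obj M) :=
      Adjunction.homEquiv_counit _ _ _ _
    have h3 : ∀ g, e3.symm g = (tensorRightD A L).map g ≫ ev L M :=
      fun g => Adjunction.homEquiv_counit _ _ _ _
    have h1 : e1.symm t = (tensorRightD A ((LTen₂ A).obj (K, L))).map t ≫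
        ev ((LTen₂ A).obj (K, L)) M := Adjunction.homEquiv_counit _ _ _ _
    have h2 : ∀ g, e2 g = (associator T K L).hom ≫ g := by
      intro g
      simp [e2, Iso.homCongr]
    rw [h3, h4, h2, h1]
    have : (tensorRightD A L).map ((tensorRightD A K).map (curryHom K L M) ≫
        ev K ((RHomR A L).obj M)) ≫ ev L M
        = (associator ((RHomR A ((LTen₂ A).obj (K, L))).obj M) K L).hom ≫
          ev ((LTen₂ A).obj (K, L)) M := hfac
    simp only [CategoryTheory.Functor.map_comp, Category.assoc] at this ⊢
    rw [this, ← Category.assoc, assoc_nat, Category.assoc]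
  have hE : ∀ t, E t = t ≫ curryHom K L M := by
    intro t
    apply e4.symm.injective
    apply e3.symm.injective
    rw [key t]
    simp [E]
  have : (fun t : T ⟶ (RHomR A ((LTen₂ A).obj (K, L))).obj M => t ≫ curryHom K L M) = E :=
    funext (fun t => (hE t).symm)
  rw [this]
  exact E.bijective

end Groth.Agent.S13888
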