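import Groth.Statements.S1389
import Mathlib

set_option autoImplicit false
universe u
open FlatMor

namespace Groth.Agent.S1389

open CategoryTheory CategoryTheory.Limits AlgebraicGeometry

set_option backward.isDefEq.respectTransparency false in
lemma isOpenImmersion_equalizer_ι_left {S : Scheme.{u}} {X Y : Over S}
    [IsOpenImmersion (pullback.diagonal Y.hom)]
    (f g : X ⟶ Y) : IsOpenImmersion (equalizer.ι f g).left := by
  refine MorphismProperty.of_isPullback (P := @IsOpenImmersion)
    ((Limits.isPullback_equalizer_prod f g).map (Over.forget _)).flip ?_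
  rw [← MorphismProperty.cancel_right_of_respectsIso @IsOpenImmersion _
    (Over.prodLeftIsoPullback Y Y).hom]
  convert! (inferInstance : IsOpenImmersion (pullback.diagonal Y.hom))
  ext1 <;> simp [← Over.comp_left]

open AlgebraicGeometry CategoryTheory Limits in
/-- Let (U, u) and (U', u') be étale neighbourhoods of a point s of S and h₁, h₂ two S-morphisms U → U'
sending u to u' which induce the same map of residue fields κ(u') → κ(u). Then there is an étale
neighbourhood (U'', u'') of s with an S-morphism h : U'' → U sending u'' to u and with h followed by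
h₁ equal to h followed by h₂. -/
theorem result {S U U' : Scheme.{u}} (s : S) (g : U ⟶ S) (g' : U' ⟶ S) [Etale g] [Etale g'] (u : U) (u' : U')
    (hu : g u = s) (hu' : g' u' = s) (h₁ h₂ : U ⟶ U') (w₁ : h₁ ≫ g' = g) (w₂ : h₂ ≫ g' = g) (e₁ : h₁ u = u') (e₂ : h₂ u = u')
    (hres : (U'.residueFieldCongr e₁).inv ≫ h₁.residueFieldMap u = (U'.residueFieldCongr e₂).inv ≫ h₂.residueFieldMap u) :
    ∃ (U'' : Scheme.{u}) (g'' : U'' ⟶ S) (u'' : U'') (h : U'' ⟶ U), Etale g'' ∧ g'' u'' = s ∧ h ≫ g = g'' ∧ h u'' = u ∧ h ≫ h₁ = h ≫ h₂ := by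
  let A' : Over S := Over.mk g
  let B' : Over S := Over.mk g'
  let k₁ : A' ⟶ B' := Over.homMk h₁ w₁
  let k₂ : A' ⟶ B' := Over.homMk h₂ w₂
  have hdiag : IsOpenImmersion (pullback.diagonal B'.hom) :=
    (inferInstance : IsOpenImmersion (pullback.diagonal g'))
  let ι : (equalizer k₁ k₂).left ⟶ U := (equalizer.ι k₁ k₂).left
  have hι : IsOpenImmersion ι := isOpenImmersion_equalizer_ι_left k₁ k₂
  -- the residue field point
  let φ : Spec (U.residueField u) ⟶ U := U.fromSpecResidueField u
  have hφ : φ ≫ h₁ = φ ≫ h₂ := by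
    have a₁ := h₁.SpecMap_residueFieldMap_fromSpecResidueField u
    have a₂ := h₂.SpecMap_residueFieldMap_fromSpecResidueField u
    have b₁ : U'.fromSpecResidueField (h₁ u) =
        Spec.map (U'.residueFieldCongr e₁).inv ≫ U'.fromSpecResidueField u' := by
      rw [← Scheme.residueFieldCongr_fromSpecResidueField e₁, ← Category.assoc, ← Spec.map_comp,
        Iso.hom_inv_id, Spec.map_id, Category.id_comp]
    have b₂ : U'.fromSpecResidueField (h₂ u) =
        Spec.map (U'.residueFieldCongr e₂).inv ≫ U'.fromSpecResidueField u' := by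
      rw [← Scheme.residueFieldCongr_fromSpecResidueField e₂, ← Category.assoc, ← Spec.map_comp,
        Iso.hom_inv_id, Spec.map_id, Category.id_comp]
    change U.fromSpecResidueField u ≫ h₁ = U.fromSpecResidueField u ≫ h₂
    rw [← a₁, ← a₂, b₁, b₂, ← Category.assoc, ← Category.assoc, ← Spec.map_comp, ← Spec.map_comp,
      hres]
  let K' : Over S := Over.mk (φ ≫ g)
  let φ' : K' ⟶ A' := Over.homMk φ rfl
  let l : K' ⟶ equalizer k₁ k₂ := equalizer.lift φ' (by
    ext
    simp only [Over.comp_left]
    exact hφ)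
  have hl : l.left ≫ ι = φ := by
    change l.left ≫ (equalizer.ι k₁ k₂).left = φ
    rw [← Over.comp_left, equalizer.lift_ι]
    rfl
  let pt : Spec (U.residueField u) := IsLocalRing.closedPoint (U.residueField u)
  refine ⟨(equalizer k₁ k₂).left, ι ≫ g, l.left pt, ι, inferInstance, ?_, rfl, ?_, ?_⟩
  · rw [← hu, ← Scheme.Hom.comp_apply, ← Category.assoc, hl, Scheme.Hom.comp_apply]
    congr 1
    exact Scheme.fromSpecResidueField_apply u pt
  · rw [← Scheme.Hom.comp_apply, hl]
    exact Scheme.fromSpecResidueField_apply u pt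
  · exact congr_arg CommaMorphism.left (equalizer.condition k₁ k₂)

end Groth.Agent.S1389
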