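import Mathlib
import Groth.Agent.S9453
import Groth.Statements.S1390

set_option autoImplicit false
universe u
open FlatMor

namespace Groth.Agent.S1390

open AlgebraicGeometry CategoryTheory Limits

/-- Affine core: an étale ring map `φ : R ⟶ A` and a point `x₀` of `Spec A` are dominated,
Zariski-locally on a finite flat finitely presented cover, by helper11's algebra statement. -/
theorem core {R A : CommRingCat.{u}} (φ : R ⟶ A) (hφ : φ.hom.Etale) (x₀ : Spec A) :
    ∃ (S' : CommRingCat.{u}) (α : R ⟶ S'), α.hom.Finite ∧ α.hom.FinitePresentation ∧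
      α.hom.Flat ∧ Function.Surjective (Spec.map α) ∧
      ∀ t : Spec S', Spec.map α t = Spec.map φ x₀ →
        ∃ (W : (Spec S').Opens) (h : (W : Scheme.{u}) ⟶ Spec A), t ∈ W ∧
          h ≫ Spec.map φ = W.ι ≫ Spec.map α ∧ ∀ ht : t ∈ W, h ⟨t, ht⟩ = x₀ := by
  algebraize [φ.hom]
  let q : Ideal A := x₀.asIdeal
  haveI : q.IsPrime := x₀.isPrime
  haveI : Algebra.FormallyEtale A (Localization.AtPrime q) :=
    Algebra.FormallyEtale.of_isLocalization q.primeCompl
  haveI : Algebra.IsEtaleAt R q := Algebra.FormallyEtale.comp R A (Localization.AtPrime q)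
  obtain ⟨g, hgq, hstd⟩ := Algebra.IsEtaleAt.exists_isStandardEtale (R := R) q
  obtain ⟨S', _, _, hfin, hfp, hflat, hsurj, H⟩ :=
    Groth.Agent.S9453.result R (Localization.Away g)
  let Q : Ideal (Localization.Away g) := q.map (algebraMap A (Localization.Away g))
  have hdisj : Disjoint (Submonoid.powers g : Set A) (q : Set A) :=
    (Ideal.disjoint_powers_iff_notMem_of_isPrime _).mpr hgq
  haveI hQ : Q.IsPrime :=
    IsLocalization.isPrime_of_isPrime_disjoint (.powers g) _ _ ‹_› hdisj
  have hQq : Q.comap (algebraMap A (Localization.Away g)) = q :=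
    IsLocalization.under_map_of_isPrime_disjoint (.powers g) _ ‹_› hdisj
  refine ⟨.of S', CommRingCat.ofHom (algebraMap R S'), ?_, ?_, ?_, ?_, ?_⟩
  · exact RingHom.finite_algebraMap.mpr hfin
  · exact RingHom.finitePresentation_algebraMap.mpr hfp
  · exact RingHom.flat_algebraMap_iff.mpr hflat
  · intro x
    obtain ⟨y, hy⟩ := hsurj x
    exact ⟨y, hy⟩
  · intro t ht
    let q' : Ideal S' := t.asIdeal
    haveI : q'.IsPrime := t.isPrime
    have hunder : q'.under R = Q.under R := by
      have h1 : q'.under R =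
          (Spec.map (CommRingCat.ofHom (algebraMap R S')) t).asIdeal := rfl
      have h2 : Q.under R = (Spec.map φ x₀).asIdeal := by
        show Q.comap (algebraMap R (Localization.Away g)) = q.comap φ.hom
        rw [IsScalarTower.algebraMap_eq R A (Localization.Away g), ← Ideal.comap_comap, hQq]
        rfl
      rw [h1, h2, ht]
    obtain ⟨g', hg', ψ, hψ⟩ := H Q q' hunder
    let j : Spec (.of (Localization.Away g')) ⟶ Spec (.of S') :=
      Spec.map (CommRingCat.ofHom (algebraMap S' (Localization.Away g')))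
    haveI : IsOpenImmersion j := IsOpenImmersion.of_isLocalization g'
    have hdisj' : Disjoint (Submonoid.powers g' : Set S') (q' : Set S') :=
      (Ideal.disjoint_powers_iff_notMem_of_isPrime _).mpr hg'
    have hQ' : (q'.map (algebraMap S' (Localization.Away g'))).IsPrime :=
      IsLocalization.isPrime_of_isPrime_disjoint (.powers g') _ _ ‹_› hdisj'
    let t' : Spec (.of (Localization.Away g')) :=
      ⟨q'.map (algebraMap S' (Localization.Away g')), hQ'⟩
    have ht' : j t' = t :=
      PrimeSpectrum.ext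
        (IsLocalization.under_map_of_isPrime_disjoint (.powers g') _ ‹_› hdisj')
    refine ⟨j.opensRange, j.isoOpensRange.inv ≫ Spec.map (CommRingCat.ofHom ψ.toRingHom) ≫
      Spec.map (CommRingCat.ofHom (algebraMap A (Localization.Away g))), ⟨t', ht'⟩, ?_, ?_⟩
    · rw [Category.assoc, Category.assoc, ← Spec.map_comp, ← Spec.map_comp,
        ← j.isoOpensRange_inv_comp, Category.assoc, Category.assoc]
      refine congrArg (j.isoOpensRange.inv ≫ ·) ?_
      show Spec.map _ = Spec.map _ ≫ Spec.map _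
      rw [← Spec.map_comp]
      refine congrArg Spec.map ?_
      ext r
      show ψ (algebraMap A (Localization.Away g) (algebraMap R A r)) =
        algebraMap S' (Localization.Away g') (algebraMap R S' r)
      rw [← IsScalarTower.algebraMap_apply, ψ.commutes, ← IsScalarTower.algebraMap_apply]
    · intro htW
      have e1 : j.isoOpensRange.inv ⟨t, htW⟩ = t' := by
        apply j.isOpenEmbedding.injective
        rw [← Scheme.Hom.comp_apply, j.isoOpensRange_inv_comp]
        exact ht'.symm
      rw [Scheme.Hom.comp_apply, Scheme.Hom.comp_apply, e1]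
      apply PrimeSpectrum.ext
      show Ideal.comap (algebraMap A (Localization.Away g))
        (Ideal.comap ψ.toRingHom (q'.map (algebraMap S' (Localization.Away g')))) = q
      rw [show Ideal.comap ψ.toRingHom (q'.map (algebraMap S' (Localization.Away g'))) = Q
        from hψ, hQq]

open AlgebraicGeometry CategoryTheory Limits in
/-- Let (U, u) be an étale neighbourhood of (S, s), i.e. U → S étale with u over s. Then there are an
affine open neighbourhood V of s and a surjective, finite, flat morphism of finite presentation π :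
T → V such that every point t of T over s has an open neighbourhood W_t with an S-morphism W_t → U
sending t to u. -/
theorem result {U S : Scheme.{u}} (e : U ⟶ S) [Etale e] (u : U) (s : S) (hu : e u = s) :
    ∃ (V : S.Opens) (T : Scheme.{u}) (π : T ⟶ (V : Scheme.{u})), s ∈ V ∧ IsAffineOpen V ∧ Surjective π ∧ IsFinite π ∧ Flat π ∧ LocallyOfFinitePresentation π ∧
      ∀ t : T, V.ι (π t) = s → ∃ (W : T.Opens) (h : (W : Scheme.{u}) ⟶ U), t ∈ W ∧ h ≫ e = W.ι ≫ π ≫ V.ι ∧ ∀ ht : t ∈ W, h ⟨t, ht⟩ = u := by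
  subst hu
  obtain ⟨_, ⟨V, (hV : IsAffineOpen V), rfl⟩, hsV, -⟩ :=
    S.isBasis_affineOpens.exists_subset_of_mem_open (Set.mem_univ (e u)) isOpen_univ
  obtain ⟨_, ⟨U₀, (hU₀ : IsAffineOpen U₀), rfl⟩, huU₀, hU₀V⟩ :=
    U.isBasis_affineOpens.exists_subset_of_mem_open
      (show u ∈ ((e ⁻¹ᵁ V : U.Opens) : Set U) from hsV) (e ⁻¹ᵁ V).isOpen
  have hle : U₀ ≤ e ⁻¹ᵁ V := hU₀V
  obtain ⟨S', α, hfin, hfp, hflat, hsurj, H⟩ :=
    core (e.appLE V U₀ hle) (e.etale_appLE hV hU₀ hle) (hU₀.primeIdealOf ⟨u, huU₀⟩)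
  have hfs : hU₀.fromSpec (hU₀.primeIdealOf ⟨u, huU₀⟩) = u :=
    hU₀.fromSpec_primeIdealOf ⟨u, huU₀⟩
  refine ⟨V, Spec S', Spec.map α ≫ hV.isoSpec.inv, hsV, hV, ?_, ?_, ?_, ?_, ?_⟩
  · rw [MorphismProperty.cancel_right_of_respectsIso (P := @Surjective)]
    exact ⟨hsurj⟩
  · rw [MorphismProperty.cancel_right_of_respectsIso (P := @IsFinite)]
    exact (IsFinite.SpecMap_iff α).mpr hfin
  · rw [MorphismProperty.cancel_right_of_respectsIso (P := @Flat)]
    exact Flat.SpecMap_iff.mpr hflat
  · rw [MorphismProperty.cancel_right_of_respectsIso (P := @LocallyOfFinitePresentation)]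
    exact (LocallyOfFinitePresentation.SpecMap_iff α).mpr hfp
  · intro t ht
    have ht' : Spec.map α t =
        Spec.map (e.appLE V U₀ hle) (hU₀.primeIdealOf ⟨u, huU₀⟩) := by
      have h1 : hV.fromSpec (Spec.map (e.appLE V U₀ hle) (hU₀.primeIdealOf ⟨u, huU₀⟩)) = e u := by
        rw [← Scheme.Hom.comp_apply, hV.SpecMap_appLE_fromSpec e hU₀ hle,
          Scheme.Hom.comp_apply, hfs]
      have h2 : hV.fromSpec (Spec.map α t) = e u := by
        rw [← Scheme.Hom.comp_apply, ← hV.isoSpec_inv_ι, ← Category.assoc]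
        exact (Scheme.Hom.comp_apply _ _ _).trans ht
      exact hV.fromSpec.isOpenEmbedding.injective (h2.trans h1.symm)
    obtain ⟨W, h, htW, hcomm, hval⟩ := H t ht'
    refine ⟨W, h ≫ hU₀.fromSpec, htW, ?_, ?_⟩
    · rw [Category.assoc, ← hV.SpecMap_appLE_fromSpec e hU₀ hle, reassoc_of% hcomm,
        Category.assoc, hV.isoSpec_inv_ι]
    · intro ht2
      rw [Scheme.Hom.comp_apply, hval ht2, hfs]

end Groth.Agent.S1390
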