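import Groth.Statements.S13903
import Mathlib
import Groth.Agent.Lib.Helper18.FinSepAlg

set_option autoImplicit false
universe u
open EtAlg

namespace Groth.Agent.S13903

/-- Let K be a field and L a finite-dimensional reduced commutative K-algebra of dimension d all of
whose elements are separable over K, generated as a K-algebra by z and t. In any finite set of at
least d^(4d) elements of K there is an element c such that c • z + t generates L as a K-algebra.
(The published statement does not require separability; for K of characteristic p and L obtained by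
adjoining p-th roots of two independent indeterminates, L is a reduced finite K-algebra generated by
two elements with no single generator, so separability over K is assumed here, as the counting in
the published proof requires.) -/
theorem result (K L : Type u) [Field K] [CommRing L]
    [Algebra K L] [Module.Finite K L] [IsReduced L] [Algebra.IsSeparable K L] (z t : L)
    (hgen : Algebra.adjoin K ({z, t} : Set L) = ⊤) (S : Finset K)
    (hS : Module.finrank K L ^ (4 * Module.finrank K L) ≤ S.card) :
    ∃ c ∈ S, Algebra.adjoin K ({c • z + t} : Set L) = ⊤ := by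

  classical
  obtain ⟨Ω, hΩ⟩ : ∃ Ω : Type u, Ω = AlgebraicClosure K := ⟨_, rfl⟩
  subst hΩ
  haveI : Finite (L →ₐ[K] AlgebraicClosure K) := inferInstance
  letI : Fintype (L →ₐ[K] AlgebraicClosure K) := Fintype.ofFinite _
  have hcard : Fintype.card (L →ₐ[K] AlgebraicClosure K) ≤ Module.finrank K L := by
    rw [Fintype.card_eq_nat_card]
    exact card_algHom_le_finrank K L (AlgebraicClosure K)
  by_contra hcon
  have hbad : ∀ c ∈ S, ∃ p : (L →ₐ[K] AlgebraicClosure K) × (L →ₐ[K] AlgebraicClosure K),
      p.1 ≠ p.2 ∧ p.1 (c • z + t) = p.2 (c • z + t) := by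
    intro c hc
    by_contra hno
    apply hcon
    refine ⟨c, hc, ?_⟩
    apply Groth.Agent.Helper18.FinSepAlg.adjoin_eq_top_of_injective
    intro σ τ hστ
    by_contra hne
    exact hno ⟨(σ, τ), hne, hστ⟩
  have hbad' : ∀ c : S, ∃ p : (L →ₐ[K] AlgebraicClosure K) × (L →ₐ[K] AlgebraicClosure K),
      p.1 ≠ p.2 ∧ p.1 (c.1 • z + t) = p.2 (c.1 • z + t) := fun c => hbad c.1 c.2
  choose g hg using hbad'
  have hmaps : ∀ c ∈ S.attach, g c ∈ (Finset.univ : Finset (L →ₐ[K] AlgebraicClosure K)).offDiag := by
    intro c _
    rw [Finset.mem_offDiag]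
    exact ⟨Finset.mem_univ _, Finset.mem_univ _, (hg c).1⟩
  have hinj : Set.InjOn g (S.attach : Set S) := by
    intro c _ c' _ hcc
    have h1 := (hg c).2
    have h2 := (hg c').2
    have hne := (hg c).1
    rw [← hcc] at h2
    obtain ⟨σ, τ, hστ⟩ : ∃ σ τ, (σ, τ) = g c := ⟨_, _, rfl⟩
    rw [← hστ] at h1 h2 hne
    simp only at h1 h2 hne
    rw [map_add, map_add, map_smul, map_smul] at h1 h2
    have hz : σ z ≠ τ z := by
      intro hz
      apply hne
      rw [hz] at h1
      have ht : σ t = τ t := add_left_cancel h1
      apply AlgHom.ext_of_adjoin_eq_top hgen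
      intro x hx
      rcases hx with rfl | rfl
      · exact hz
      · exact ht
    have e1 : c.1 • (σ z - τ z) = τ t - σ t := by
      rw [smul_sub, sub_eq_sub_iff_add_eq_add]; rw [h1]; ring
    have e2 : c'.1 • (σ z - τ z) = τ t - σ t := by
      rw [smul_sub, sub_eq_sub_iff_add_eq_add]; rw [h2]; ring
    have e3 : (c.1 - c'.1) • (σ z - τ z) = 0 := by rw [sub_smul, e1, e2, sub_self]
    rw [smul_eq_zero] at e3
    rcases e3 with e3 | e3
    · exact Subtype.ext (sub_eq_zero.1 e3)
    · exact absurd (sub_eq_zero.1 e3) hz
  have hle := Finset.card_le_card_of_injOn g hmaps hinj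
  rw [Finset.offDiag_card, Finset.card_univ, Finset.card_attach] at hle
  obtain ⟨n, hn⟩ : ∃ n, n = Fintype.card (L →ₐ[K] AlgebraicClosure K) := ⟨_, rfl⟩
  obtain ⟨d, hd⟩ : ∃ d, d = Module.finrank K L := ⟨_, rfl⟩
  rw [← hn] at hle hcard
  rw [← hd] at hS hcard
  have hlt : n * n - n < d ^ (4 * d) := by
    rcases Nat.eq_zero_or_pos d with h0 | hpos
    · subst h0
      have : n = 0 := Nat.le_zero.1 hcard
      subst this
      simp
    · have h1 : n * n - n < d * d := by
        have : n * n ≤ d * d := Nat.mul_le_mul hcard hcard
        rcases Nat.eq_zero_or_pos n with hn0 | hnpos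
        · subst hn0; simpa using Nat.mul_pos hpos hpos
        · have : 0 < n * n := Nat.mul_pos hnpos hnpos
          omega
      have h2 : d * d ≤ d ^ (4 * d) := by
        rw [← pow_two]
        exact Nat.pow_le_pow_right hpos (by omega)
      omega
  omega


end Groth.Agent.S13903
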