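import Groth.Statements.S13904
import Mathlib

set_option autoImplicit false
universe u
open CAlg

namespace Groth.Agent.S13904

/-- Let k be a field, A a commutative k-algebra and φ : k[x_1, …, x_r] → A a finite k-algebra map such
that A/p has Krull dimension r for every minimal prime p of A (an equidimensional affine scheme of
dimension r, finite over affine r-space). Then for every minimal prime p of A and every prime q of
k[x_1, …, x_r] there is a prime P ⊇ p of A with φ⁻¹(P) = q: the finite map restricted to each
irreducible component of Spec A is surjective onto affine r-space. (The published statement is over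
an algebraically closed field with φ a Noether normalisation; this row allows any field and any
finite k-algebra map φ.) -/
theorem result (k : Type u) [Field k] (r : ℕ)
    (A : Type u) [CommRing A] [Algebra k A] (φ : MvPolynomial (Fin r) k →ₐ[k] A)
    (hφ : φ.toRingHom.Finite)
    (hdim : ∀ p ∈ minimalPrimes A, ringKrullDim (A ⧸ p) = r)
    (p : Ideal A) (hp : p ∈ minimalPrimes A)
    (q : Ideal (MvPolynomial (Fin r) k)) [q.IsPrime] :
    ∃ P : Ideal A, P.IsPrime ∧ p ≤ P ∧ P.comap φ.toRingHom = q := by
  classical
  letI : Algebra (MvPolynomial (Fin r) k) A := φ.toRingHom.toAlgebra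
  haveI : Algebra.IsIntegral (MvPolynomial (Fin r) k) A := ⟨hφ.to_isIntegral⟩
  haveI hpp : p.IsPrime := hp.1.1
  haveI hIprime : (p.comap (algebraMap (MvPolynomial (Fin r) k) A)).IsPrime :=
    Ideal.comap_isPrime _ _
  -- integral extensions do not increase dimension
  have h1 : ringKrullDim (A ⧸ p) ≤
      ringKrullDim (MvPolynomial (Fin r) k ⧸ p.comap (algebraMap (MvPolynomial (Fin r) k) A)) := by
    refine Order.krullDim_le_of_strictMono (PrimeSpectrum.comap (algebraMap
      (MvPolynomial (Fin r) k ⧸ p.comap (algebraMap (MvPolynomial (Fin r) k) A)) (A ⧸ p))) ?_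
    intro P Q hPQ
    have : P.asIdeal < Q.asIdeal := hPQ
    exact Ideal.IsIntegral.comap_lt_comap
      (R := MvPolynomial (Fin r) k ⧸ p.comap (algebraMap (MvPolynomial (Fin r) k) A)) this
  have hdimR : ringKrullDim (MvPolynomial (Fin r) k) = r := by
    rw [MvPolynomial.ringKrullDim_of_isNoetherianRing, ringKrullDim_eq_zero_of_field]
    simp
  have hI0 : p.comap (algebraMap (MvPolynomial (Fin r) k) A) = ⊥ := by
    by_contra hne
    obtain ⟨x, hxI, hx0⟩ := Submodule.exists_mem_ne_zero_of_ne_bot hne
    have h2 : ringKrullDim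
        (MvPolynomial (Fin r) k ⧸ p.comap (algebraMap (MvPolynomial (Fin r) k) A)) + 1 ≤
        ringKrullDim (MvPolynomial (Fin r) k) :=
      ringKrullDim_succ_le_of_surjective (Ideal.Quotient.mk _) Ideal.Quotient.mk_surjective
        (mem_nonZeroDivisors_of_ne_zero hx0) (Ideal.Quotient.eq_zero_iff_mem.mpr hxI)
    rw [hdimR] at h2
    have h3 : (r : WithBot ℕ∞) + 1 ≤ r := by
      calc (r : WithBot ℕ∞) + 1 = ringKrullDim (A ⧸ p) + 1 := by rw [hdim p hp]
        _ ≤ ringKrullDim
            (MvPolynomial (Fin r) k ⧸ p.comap (algebraMap (MvPolynomial (Fin r) k) A)) + 1 := by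
          gcongr
        _ ≤ r := h2
    have h4 : ((r + 1 : ℕ) : WithBot ℕ∞) ≤ ((r : ℕ) : WithBot ℕ∞) := by
      push_cast
      exact h3
    rw [Nat.cast_le] at h4
    omega
  obtain ⟨Q, hQ, hQprime, hQq⟩ := Ideal.exists_ideal_over_prime_of_isIntegral q p
    (by rw [hI0]; exact bot_le)
  exact ⟨Q, hQprime, hQ, hQq⟩

end Groth.Agent.S13904
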