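import Groth.Statements.S13905
import Mathlib

set_option autoImplicit false
universe u
open ProjGeom

namespace Groth.Agent.S13905

open W4c1etcurveeff3b in
/-- Hyperplanes of projective n-space in general position, in linear-algebra form (V of dimension n + 1
over a field k, hyperplanes as n-dimensional subspaces, points as nonzero vectors): if S is a finite
set of hyperplanes in general position with at least n members and H is a hyperplane containing none
of the lines cut out by n members of S, then S with H added is again in general position. (The
published statement is for hyperplanes of P^n_k and closed points; a closed point lying on n + 1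
members is automatically one of the rational points cut out by n of them, so the condition on
nonzero vectors of V is the same condition.) -/
theorem result (k V : Type u) [Field k]
    [AddCommGroup V] [Module k V] [DecidableEq (Submodule k V)] (n : ℕ) (S : Finset (Submodule k V))
    (hS : InGeneralPosition k V n S) (hn : n ≤ S.card) (H : Submodule k V)
    (hH : Module.finrank k H = n)
    (havoid : ∀ T ⊆ S, T.card = n → ¬ (T.inf id ≤ H)) :
    InGeneralPosition k V n (insert H S) := by
  classical
  obtain ⟨hV, hdim, hinf, hpt⟩ := hS
  haveI : Module.Finite k V := Module.finite_of_finrank_pos (by omega)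
  have key : ∀ T' ⊆ S, T'.card ≤ n → ¬ (T'.inf id ≤ H) := by
    intro T' hT' hc hle
    obtain ⟨T'', h1, h2, h3⟩ := Finset.exists_subsuperset_card_eq hT' hc hn
    exact havoid T'' h2 h3 ((Finset.inf_mono h1).trans hle)
  refine ⟨hV, ?_, ?_, ?_⟩
  · intro K hK
    rcases Finset.mem_insert.mp hK with rfl | hK
    · exact hH
    · exact hdim K hK
  · intro T hT hc
    by_cases hHT : H ∈ T
    · have hT' : T.erase H ⊆ S := Finset.subset_insert_iff.mp hT
      have hcard : (T.erase H).card = T.card - 1 := Finset.card_erase_of_mem hHT
      have hpos : 0 < T.card := Finset.card_pos.mpr ⟨H, hHT⟩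
      have hW := hinf (T.erase H) hT' (by omega)
      have hnle := key (T.erase H) hT' (by omega)
      have hTeq : T.inf id = H ⊓ (T.erase H).inf id := by
        conv_lhs => rw [← Finset.insert_erase hHT]
        rw [Finset.inf_insert]; rfl
      rw [hTeq]
      rw [hcard] at hW
      generalize (T.erase H).inf id = W at *
      have hlt : H < H ⊔ W := left_lt_sup.mpr hnle
      have h1 : Module.finrank k H < Module.finrank k ↥(H ⊔ W) :=
        Submodule.finrank_lt_finrank_of_lt hlt
      have h2 : Module.finrank k ↥(H ⊔ W) ≤ Module.finrank k V := Submodule.finrank_le _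
      have h3 := Submodule.finrank_sup_add_finrank_inf_eq H W
      omega
    · have hT' : T ⊆ S := (Finset.subset_insert_iff_of_notMem hHT).mp hT
      exact hinf T hT' hc
  · intro v hv T hT hmem
    by_cases hHT : H ∈ T
    · have hT' : T.erase H ⊆ S := Finset.subset_insert_iff.mp hT
      have hcard : (T.erase H).card = T.card - 1 := Finset.card_erase_of_mem hHT
      have hpos : 0 < T.card := Finset.card_pos.mpr ⟨H, hHT⟩
      have hmem' : ∀ K ∈ T.erase H, v ∈ K := fun K hK => hmem K (Finset.mem_of_mem_erase hK)
      have hle := hpt v hv (T.erase H) hT' hmem'
      by_contra hgt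
      have hcn : (T.erase H).card = n := by omega
      have hW := hinf (T.erase H) hT' hle
      rw [hcn] at hW
      have hvW : v ∈ (T.erase H).inf id := by
        rw [Submodule.mem_finsetInf]
        intro K hK
        exact hmem' K hK
      have hvH : v ∈ H := hmem H hHT
      apply havoid (T.erase H) hT' hcn
      have hW1 : Module.finrank k ↥((T.erase H).inf id) = 1 := by omega
      intro w hw
      have hne : (⟨v, hvW⟩ : ↥((T.erase H).inf id)) ≠ 0 := by
        intro h0
        exact hv (congrArg Subtype.val h0)
      obtain ⟨c, hc⟩ := (finrank_eq_one_iff_of_nonzero' (⟨v, hvW⟩ : ↥((T.erase H).inf id)) hne).mp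
        hW1 ⟨w, hw⟩
      have hcw : c • v = w := congrArg Subtype.val hc
      rw [← hcw]
      exact H.smul_mem c hvH
    · have hT' : T ⊆ S := (Finset.subset_insert_iff_of_notMem hHT).mp hT
      exact hpt v hv T hT' hmem

end Groth.Agent.S13905
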