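import Groth.Statements.S13913
import Mathlib

set_option autoImplicit false
universe u
open PlaneCubic

namespace Groth.Agent.S13913

/-- Over an algebraically closed field of characteristic zero, for linearly independent linear forms z₁,
z₂ and quadratic forms q₁, q₂ in three variables and a nonzero common zero p of z₁ and z₂, the point
p is a singular point of the plane cubic z₁q₂ − z₂q₁ = 0 (all three partial derivatives vanish at p)
if and only if q₁ and q₂ both vanish at p. -/
theorem result (k : Type u) [Field k] [IsAlgClosed k] [CharZero k]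
    (z₁ z₂ q₁ q₂ : MvPolynomial (Fin 3) k) (hz₁ : z₁.IsHomogeneous 1) (hz₂ : z₂.IsHomogeneous 1)
    (hq₁ : q₁.IsHomogeneous 2) (hq₂ : q₂.IsHomogeneous 2) (hind : LinearIndependent k ![z₁, z₂])
    (p : Fin 3 → k) (hp : p ≠ 0) (hp₁ : MvPolynomial.eval p z₁ = 0) (hp₂ : MvPolynomial.eval p z₂ = 0) :
    (∀ i : Fin 3, MvPolynomial.eval p (MvPolynomial.pderiv i (z₁ * q₂ - z₂ * q₁)) = 0) ↔
      (MvPolynomial.eval p q₁ = 0 ∧ MvPolynomial.eval p q₂ = 0) := by
  open MvPolynomial in
  have hc : ∀ (z : MvPolynomial (Fin 3) k), z.IsHomogeneous 1 → ∀ i, ∃ a : k, pderiv i z = C a := by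
    intro z hz i
    have h0 : (pderiv i z).IsHomogeneous 0 := hz.pderiv
    exact ⟨_, (totalDegree_eq_zero_iff_eq_C).mp (Nat.le_zero.mp h0.totalDegree_le)⟩
  open MvPolynomial in
  choose a ha using hc z₁ hz₁
  open MvPolynomial in
  choose b hb using hc z₂ hz₂
  open MvPolynomial in
  have euler1 : ∑ i, X i * C (a i) = z₁ := by
    have := hz₁.sum_X_mul_pderiv
    simpa [ha] using this
  open MvPolynomial in
  have euler2 : ∑ i, X i * C (b i) = z₂ := by
    have := hz₂.sum_X_mul_pderiv
    simpa [hb] using this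
  open MvPolynomial in
  have key : ∀ i, eval p (pderiv i (z₁ * q₂ - z₂ * q₁)) = a i * eval p q₂ - b i * eval p q₁ := by
    intro i
    simp [Derivation.leibniz, ha, hb, hp₁, hp₂]
    ring
  simp_rw [key]
  constructor
  · intro h
    have hrel : MvPolynomial.eval p q₂ • z₁ + (- MvPolynomial.eval p q₁) • z₂ = 0 := by
      rw [← euler1, ← euler2, Finset.smul_sum, Finset.smul_sum, ← Finset.sum_add_distrib]
      apply Finset.sum_eq_zero
      intro i _
      have hi := h i
      rw [MvPolynomial.smul_eq_C_mul, MvPolynomial.smul_eq_C_mul]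
      have : MvPolynomial.C (MvPolynomial.eval p q₂) * (MvPolynomial.X i * MvPolynomial.C (a i)) +
          MvPolynomial.C (-MvPolynomial.eval p q₁) * (MvPolynomial.X i * MvPolynomial.C (b i)) =
          MvPolynomial.X i * MvPolynomial.C (a i * MvPolynomial.eval p q₂ - b i * MvPolynomial.eval p q₁) := by
        simp only [map_sub, map_mul, map_neg]
        ring
      rw [this, hi, map_zero, mul_zero]
    have hli := LinearIndependent.pair_iff.mp hind _ _ hrel
    exact ⟨by simpa using hli.2, hli.1⟩
  · rintro ⟨h1, h2⟩ i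
    simp [h1, h2]

end Groth.Agent.S13913
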