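import Groth.Statements.S13916
import Mathlib

set_option autoImplicit false
universe u
open PlaneConic

namespace Groth.Agent.S13916

/-- Over an algebraically closed field k of characteristic zero, with u_0, u_1, u_2 the coordinate
linear forms of k[X_0, X_1, X_2] and 2 × 2 matrices of linear forms compared up to M ↦ g M h with g,
h invertible scalar matrices: (1) the matrices with rows (u_1, 0), (u_0, u_2) and (u_2, 0), (u_0,
u_1) are not equivalent; (2) for α ≠ 0 the matrix with rows (u_1, 0), (αu_0 + βu_1 + γu_2, u_2) is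
equivalent to the one with rows (u_1, 0), (u_0, u_2). -/
theorem result (k : Type u) [Field k] [IsAlgClosed k] [CharZero k] :
    (¬ ∃ g h : GL (Fin 2) k,
      (MvPolynomial.C : k →+* MvPolynomial (Fin 3) k).mapMatrix g.val *
          !![MvPolynomial.X 1, 0; MvPolynomial.X 0, MvPolynomial.X 2] *
        (MvPolynomial.C : k →+* MvPolynomial (Fin 3) k).mapMatrix h.val =
      !![MvPolynomial.X 2, 0; MvPolynomial.X 0, MvPolynomial.X 1]) ∧
    (∀ α β γ : k, α ≠ 0 → ∃ g h : GL (Fin 2) k,
      (MvPolynomial.C : k →+* MvPolynomial (Fin 3) k).mapMatrix g.val *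
          !![MvPolynomial.X 1, 0;
             MvPolynomial.C α * MvPolynomial.X 0 + MvPolynomial.C β * MvPolynomial.X 1 + MvPolynomial.C γ * MvPolynomial.X 2,
             MvPolynomial.X 2] *
        (MvPolynomial.C : k →+* MvPolynomial (Fin 3) k).mapMatrix h.val =
      !![MvPolynomial.X 1, 0; MvPolynomial.X 0, MvPolynomial.X 2]) := by
  constructor
  · rintro ⟨g, h, hEq⟩
    have e00 := congrFun (congrFun hEq 0) 0
    have e10 := congrFun (congrFun hEq 1) 0
    simp [Matrix.mul_apply, Fin.sum_univ_two] at e00 e10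
    -- evaluate at p₁ = (1,0,0) and p₂ = (0,0,1)
    have a1 := congrArg (MvPolynomial.eval ![1, 0, 0]) e00
    have a2 := congrArg (MvPolynomial.eval ![1, 0, 0]) e10
    have a3 := congrArg (MvPolynomial.eval ![0, 0, 1]) e00
    simp at a1 a2 a3
    -- a1 : g01 * h00 = 0, a2 : g11 * h00 = 1, a3 : g01 * h10 = 1
    have hh : (h.val 0 0) ≠ 0 := by
      intro h0
      rw [h0] at a2
      simp at a2
    have hg : g.val 0 1 = 0 := by
      rcases a1 with h1 | h1
      · exact h1
      · exact absurd h1 hh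
    rw [hg] at a3
    simp at a3
  · intro α β γ hα
    have hdet1 : IsUnit (!![1, 0; -β / α, 1 / α] : Matrix (Fin 2) (Fin 2) k).det := by
      rw [Matrix.det_fin_two_of]
      simp [hα]
    have hdet2 : IsUnit (!![1, 0; -γ, α] : Matrix (Fin 2) (Fin 2) k).det := by
      rw [Matrix.det_fin_two_of]
      simp [hα]
    obtain ⟨g, hg⟩ : ∃ g : GL (Fin 2) k, g.val = !![1, 0; -β / α, 1 / α] :=
      ⟨Matrix.GeneralLinearGroup.mk'' _ hdet1, rfl⟩
    obtain ⟨h, hh⟩ : ∃ h : GL (Fin 2) k, h.val = !![1, 0; -γ, α] :=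
      ⟨Matrix.GeneralLinearGroup.mk'' _ hdet2, rfl⟩
    refine ⟨g, h, ?_⟩
    rw [hg, hh]
    have hA : (MvPolynomial.C α⁻¹ : MvPolynomial (Fin 3) k) * MvPolynomial.C α = 1 := by
      rw [← map_mul, inv_mul_cancel₀ hα, map_one]
    have hB : (MvPolynomial.C (-β / α) : MvPolynomial (Fin 3) k) =
        -(MvPolynomial.C β * MvPolynomial.C α⁻¹) := by
      rw [neg_div, div_eq_mul_inv, map_neg, map_mul]
    apply Matrix.ext
    intro i j
    fin_cases i <;> fin_cases j <;>
      simp [Matrix.mul_apply, Fin.sum_univ_two]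
    · rw [hB]
      linear_combination (MvPolynomial.X 0) * hA
    · linear_combination (MvPolynomial.X 2) * hA

end Groth.Agent.S13916
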