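import Groth.Statements.S13926
import Mathlib

set_option autoImplicit false
universe u v w
open W4c1limliniiii

namespace Groth.Agent.S13926

theorem exists_between {k : Type*} [Field k] {E : Type*} [AddCommGroup E] [Module k E]
    [FiniteDimensional k E] (r : ℕ) :
    ∀ (d : ℕ) (A B : Submodule k E), A ≤ B → Module.finrank k A + d = r → r ≤ Module.finrank k B →
    ∃ C : Submodule k E, Module.finrank k C = r ∧ A ≤ C ∧ C ≤ B := by
  intro d
  induction d with
  | zero =>
    intro A B hAB hA hB
    exact ⟨A, by simpa using hA, le_rfl, hAB⟩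
  | succ d ih =>
    intro A B hAB hA hB
    have hlt : Module.finrank k A < Module.finrank k B := by omega
    have hne : A ≠ B := by
      rintro rfl
      exact lt_irrefl _ hlt
    have hAB' : A < B := lt_of_le_of_ne hAB hne
    obtain ⟨x, hxB, hxA⟩ := SetLike.exists_of_lt hAB'
    have h1 : Module.finrank k (A ⊔ Submodule.span k {x} : Submodule k E) = Module.finrank k A + 1 :=
      Submodule.finrank_sup_span_singleton hxA
    obtain ⟨C, hC, hAC, hCB⟩ := ih (A ⊔ Submodule.span k {x}) B
      (sup_le hAB (by rw [Submodule.span_singleton_le_iff_mem]; exact hxB)) (by omega) hB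
    exact ⟨C, hC, le_sup_left.trans hAC, hCB⟩

/-- Let k be a field, E₁ and E₂ finite-dimensional vector spaces over k of the same dimension, f : E₁ →
E₂ and g : E₂ → E₁ linear maps whose composite g ∘ f is multiplication by a scalar s, and V₁ a
subspace of E₁. Then there is a subspace V₂ of E₂ of the same dimension as V₁ with f(V₁) ≤ V₂ and
g(V₂) ≤ V₁. (The published statement is the surjectivity of the truncation morphisms of a linked
Grassmannian, with a further assertion on lifting families; this row is the lifting step over a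
field — over a point the chain of linked subspaces V_1, …, V_{n'} extends one index at a time — and
assumes only g ∘ f = s.) -/
theorem result (k : Type u) [Field k]
    (E₁ : Type v) (E₂ : Type w) [AddCommGroup E₁] [Module k E₁] [FiniteDimensional k E₁]
    [AddCommGroup E₂] [Module k E₂] [FiniteDimensional k E₂]
    (hdim : Module.finrank k E₁ = Module.finrank k E₂)
    (f : E₁ →ₗ[k] E₂) (g : E₂ →ₗ[k] E₁) (s : k) (hgf : g.comp f = s • LinearMap.id)
    (V₁ : Submodule k E₁) :
    ∃ V₂ : Submodule k E₂, Module.finrank k V₂ = Module.finrank k V₁ ∧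
      Submodule.map f V₁ ≤ V₂ ∧ Submodule.map g V₂ ≤ V₁ := by
  have hAB : Submodule.map f V₁ ≤ Submodule.comap g V₁ := by
    rintro _ ⟨v, hv, rfl⟩
    rw [Submodule.mem_comap]
    have : g (f v) = s • v := LinearMap.congr_fun hgf v
    rw [this]
    exact V₁.smul_mem s hv
  have hA : Module.finrank k (Submodule.map f V₁) ≤ Module.finrank k V₁ :=
    Submodule.finrank_map_le f V₁
  have hB : Module.finrank k V₁ ≤ Module.finrank k (Submodule.comap g V₁) := by
    have e : Submodule.comap g V₁ = LinearMap.ker (V₁.mkQ.comp g) := by
      ext y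
      simp [LinearMap.mem_ker, Submodule.Quotient.mk_eq_zero]
    rw [e]
    have h1 := LinearMap.finrank_range_add_finrank_ker (V₁.mkQ.comp g)
    have h2 : Module.finrank k (LinearMap.range (V₁.mkQ.comp g)) ≤ Module.finrank k (E₁ ⧸ V₁) :=
      Submodule.finrank_le _
    have h3 := Submodule.finrank_quotient_add_finrank V₁
    omega
  obtain ⟨d, hd⟩ := Nat.exists_eq_add_of_le hA
  obtain ⟨C, hC, hAC, hCB⟩ := exists_between (Module.finrank k V₁) d _ _ hAB hd.symm hB
  refine ⟨C, hC, hAC, ?_⟩
  rw [Submodule.map_le_iff_le_comap]
  exact hCB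

end Groth.Agent.S13926
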