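import Groth.Statements.S13953
import Mathlib

set_option autoImplicit false
universe u
open TateLoc

namespace Groth.Agent.S13953

/-- Let (R_i) be a family of local commutative rings and R = ∏ R_i. Any open cover of Spec R can be
refined by one coming from a finite partition of the index set: there is a map c from the index set
to a finite set such that, for each value m, the basic open subset of Spec R defined by the
idempotent which is 1 at the indices with c i = m and 0 elsewhere (this open is the spectrum of the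
product of the R_i over that class) is contained in some member of the cover. -/
theorem result {ι : Type u} (R : ι → Type u)
    [∀ i, CommRing (R i)] [∀ i, IsLocalRing (R i)] {J : Type u}
    (U : J → TopologicalSpace.Opens (PrimeSpectrum (∀ i, R i))) (hU : ⨆ j, U j = ⊤) :
    ∃ (n : ℕ) (c : ι → Fin n), ∀ m : Fin n, ∃ j : J,
      PrimeSpectrum.basicOpen (fun i => if c i = m then (1 : R i) else 0) ≤ U j := by
  classical
  set S : Set (∀ i, R i) := {f | ∃ j, PrimeSpectrum.basicOpen f ≤ U j} with hS
  have hspan : Ideal.span S = ⊤ := by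
    by_contra hne
    obtain ⟨P, hP, hSP⟩ := Ideal.exists_le_maximal _ hne
    let x : PrimeSpectrum (∀ i, R i) := ⟨P, hP.isPrime⟩
    have hx : x ∈ (⨆ j, U j) := by rw [hU]; trivial
    rw [TopologicalSpace.Opens.mem_iSup] at hx
    obtain ⟨j, hj⟩ := hx
    obtain ⟨_, ⟨_, ⟨f, rfl⟩, rfl⟩, hxf, hfU⟩ :=
      PrimeSpectrum.isBasis_basic_opens.exists_subset_of_mem_open hj (U j).isOpen
    have : f ∈ S := ⟨j, hfU⟩
    exact hxf (hSP (Ideal.subset_span this))
  obtain ⟨t, htS, ht⟩ := (Ideal.span_eq_top_iff_finite S).mp hspan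
  have hunit : ∀ i, ∃ f ∈ t, IsUnit (f i) := by
    intro i
    by_contra hc
    push Not at hc
    have h1 : Ideal.map (Pi.evalRingHom R i) (Ideal.span (t : Set (∀ i, R i))) = ⊤ := by
      rw [ht]; exact Ideal.map_top _
    rw [Ideal.map_span] at h1
    have h2 : Ideal.span ((Pi.evalRingHom R i) '' (t : Set (∀ i, R i))) ≤ IsLocalRing.maximalIdeal (R i) := by
      rw [Ideal.span_le]
      rintro _ ⟨f, hf, rfl⟩
      exact (IsLocalRing.mem_maximalIdeal _).mpr (hc f hf)
    rw [h1] at h2
    exact (IsLocalRing.maximalIdeal.isMaximal (R i)).ne_top (top_le_iff.mp h2)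
  choose F hFt hFu using hunit
  refine ⟨t.card, fun i => t.equivFin ⟨F i, hFt i⟩, fun m => ?_⟩
  obtain ⟨j, hj⟩ := htS (t.equivFin.symm m).2
  refine ⟨j, le_trans ?_ hj⟩
  rw [PrimeSpectrum.basicOpen_le_basicOpen_iff]
  apply Ideal.le_radical
  rw [Ideal.mem_span_singleton]
  refine ⟨fun i => if h : t.equivFin ⟨F i, hFt i⟩ = m then ((hFu i).unit⁻¹ : (R i)ˣ) else 0, ?_⟩
  funext i
  simp only [Pi.mul_apply]
  split_ifs with h
  · have : (t.equivFin.symm m).1 = F i := by rw [← h]; simp
    rw [this]
    exact (IsUnit.mul_val_inv (hFu i)).symm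
  · simp

end Groth.Agent.S13953
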