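import Groth.Statements.S13958
import Mathlib

set_option autoImplicit false
universe u
open TateLoc

namespace Groth.Agent.S13958

theorem exists_finiteIndex_of_not_mem {G : Type*} [CommGroup G] [Group.FG G] (A : Subgroup G)
    (x : G) (hx : x ∉ A) : ∃ N : Subgroup G, N.FiniteIndex ∧ A ≤ N ∧ x ∉ N := by
  obtain ⟨N, hAN, hN⟩ := zorn_le_nonempty₀ {N : Subgroup G | A ≤ N ∧ x ∉ N}
    (fun c hc hchain y hy => by
      refine ⟨sSup c, ⟨(hc hy).1.trans (le_sSup hy), ?_⟩, fun z hz => le_sSup hz⟩
      rw [Subgroup.mem_sSup_of_directedOn ⟨y, hy⟩ hchain.directedOn]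
      rintro ⟨K, hK, hxK⟩
      exact (hc hK).2 hxK) A ⟨le_rfl, hx⟩
  have hxN : x ∉ N := hN.1.2
  -- every subgroup strictly above N contains x
  have hmax : ∀ K : Subgroup G, N ≤ K → ¬ K ≤ N → x ∈ K := by
    intro K hNK hKN
    by_contra hxK
    exact hKN (hN.2 ⟨hAN.trans hNK, hxK⟩ hNK)
  have hsup : ∀ y : G, y ∉ N → ∃ j : ℤ, ∃ n ∈ N, n * y ^ j = x := by
    intro y hy
    have hx' : x ∈ N ⊔ Subgroup.zpowers y := by
      apply hmax _ le_sup_left
      intro hle
      exact hy (hle (Subgroup.mem_sup_right (Subgroup.mem_zpowers y)))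
    obtain ⟨n, hn, z, hz, hnz⟩ := Subgroup.mem_sup.mp hx'
    obtain ⟨j, rfl⟩ := Subgroup.mem_zpowers_iff.mp hz
    exact ⟨j, n, hn, hnz⟩
  -- x has finite order mod N
  have hxord : ∃ j : ℤ, j ≠ 0 ∧ x ^ j ∈ N := by
    by_cases h2 : x ^ (2 : ℤ) ∈ N
    · exact ⟨2, by norm_num, h2⟩
    · obtain ⟨j, n, hn, hj⟩ := hsup _ h2
      refine ⟨1 - 2 * j, by omega, ?_⟩
      have : x ^ (1 - 2 * j) = n := by
        have h1 : n = x * ((x ^ (2 : ℤ)) ^ j)⁻¹ := by
          rw [eq_mul_inv_iff_mul_eq]; exact hj
        rw [h1, zpow_sub, zpow_one, zpow_mul]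
      rw [this]; exact hn
  have hyord : ∀ y : G, ∃ j : ℤ, j ≠ 0 ∧ y ^ j ∈ N := by
    intro y
    by_cases hy : y ∈ N
    · exact ⟨1, one_ne_zero, by simpa using hy⟩
    · obtain ⟨j, n, hn, hj⟩ := hsup y hy
      obtain ⟨m, hm, hxm⟩ := hxord
      have hj0 : j ≠ 0 := by
        rintro rfl
        apply hxN
        rw [← hj]
        simpa using hn
      refine ⟨j * m, mul_ne_zero hj0 hm, ?_⟩
      have : y ^ (j * m) = (n ^ m)⁻¹ * x ^ m := by
        rw [zpow_mul, ← hj, mul_zpow]
        simp
      rw [this]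
      exact N.mul_mem (N.inv_mem (N.zpow_mem hn m)) hxm
  have htors : IsMulTorsion (G ⧸ N) := by
    intro q
    obtain ⟨y, rfl⟩ := QuotientGroup.mk_surjective q
    obtain ⟨j, hj, hyj⟩ := hyord y
    rw [isOfFinOrder_iff_zpow_eq_one]
    refine ⟨j, hj, ?_⟩
    rw [← QuotientGroup.mk_zpow, QuotientGroup.eq_one_iff]
    exact hyj
  haveI : Finite (G ⧸ N) := CommGroup.finite_of_fg_isMulTorsion _ htors
  exact ⟨N, Subgroup.finiteIndex_of_finite_quotient, hAN, hxN⟩

open CategoryTheory ProfiniteGrp ProfiniteGrp.ProfiniteCompletion in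
theorem map_etaFn {G H : GrpCat.{u}} (f : G ⟶ H) (a : G) :
    (ProfiniteGrp.profiniteCompletion.map f).hom (etaFn G a) = etaFn H (f.hom a) := by
  have h := lift_eta (f ≫ eta H)
  have h2 := congrArg (fun φ => φ.hom a) h
  exact h2

open CategoryTheory in
/-- Let A' be a finitely generated abelian group (written multiplicatively, discrete) and A a subgroup.
If the image of x ∈ A' in the profinite completion of A' lies in the image of the profinite
completion of A under the map induced by the inclusion, then x ∈ A. (The published statement says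
that the square formed by the two completion maps and the two inclusions is Cartesian; given the
injectivity of the induced map on completions, which holds here, that amounts to this membership
criterion.) -/
theorem result (A' : Type u) [CommGroup A'] [Group.FG A']
    (A : Subgroup A') (x : A')
    (hx : ProfiniteGrp.ProfiniteCompletion.etaFn (GrpCat.of A') x ∈
      Set.range ⇑(ProfiniteGrp.profiniteCompletion.map (GrpCat.ofHom A.subtype)).hom) :
    x ∈ A := by
  by_contra hxA
  obtain ⟨N, hNfin, hAN, hxN⟩ := Groth.Agent.S13958.exists_finiteIndex_of_not_mem A x hxA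
  obtain ⟨y, hy⟩ := hx
  let Nf : FiniteIndexNormalSubgroup (GrpCat.of A') :=
    { toSubgroup := N, isNormal' := inferInstance, isFiniteIndex' := hNfin }
  let j := (ProfiniteGrp.profiniteCompletion.map (GrpCat.ofHom A.subtype)).hom
  -- the evaluation at N
  have hcont : Continuous fun z : ProfiniteGrp.ProfiniteCompletion.completion (GrpCat.of A') =>
      z.1 Nf := (continuous_apply Nf).comp continuous_subtype_val
  have hjcont : Continuous j := j.continuous_toFun
  have hclosed : IsClosed {z : ProfiniteGrp.ProfiniteCompletion.completion (GrpCat.of A) |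
      (j z).1 Nf = 1} :=
    isClosed_eq (hcont.comp hjcont) continuous_const
  have hdense := ProfiniteGrp.ProfiniteCompletion.denseRange (GrpCat.of A)
  have hall : ∀ z : ProfiniteGrp.ProfiniteCompletion.completion (GrpCat.of A), (j z).1 Nf = 1 := by
    intro z
    have hsub : Set.range (ProfiniteGrp.ProfiniteCompletion.etaFn (GrpCat.of A)) ⊆
        {z | (j z).1 Nf = 1} := by
      rintro _ ⟨a, rfl⟩
      have h1 := Groth.Agent.S13958.map_etaFn (GrpCat.ofHom A.subtype) a
      change (j (ProfiniteGrp.ProfiniteCompletion.etaFn (GrpCat.of A) a)).1 Nf = 1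
      rw [show j (ProfiniteGrp.ProfiniteCompletion.etaFn (GrpCat.of A) a) = _ from h1]
      change (QuotientGroup.mk ((a : A') ) : A' ⧸ N) = 1
      rw [QuotientGroup.eq_one_iff]
      exact hAN a.2
    exact hclosed.closure_subset_iff.mpr hsub (hdense z)
  have h2 := hall y
  rw [show j y = _ from hy] at h2
  have h3 : (QuotientGroup.mk x : A' ⧸ N) = 1 := h2
  rw [QuotientGroup.eq_one_iff] at h3
  exact hxN h3

end Groth.Agent.S13958
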