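import Groth.Statements.S1396
import Mathlib
set_option linter.style.haveILetI false

set_option autoImplicit false
universe u
open FlatMor

namespace Groth.Agent.S1396

open AlgebraicGeometry CategoryTheory Limits in
/-- (1) ⇔ (4): a morphism f : X → Y is ind-quasi-affine (the preimage of every affine open is a scheme
all of whose quasi-compact opens are quasi-affine) if and only if for every quasi-compact
quasi-separated open V of Y and every quasi-compact open U of the preimage of V, the induced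
morphism U → V is quasi-affine (quasi-compact with quasi-affine preimages of affine opens). -/
theorem result {X Y : Scheme.{u}} (f : X ⟶ Y) :
    MoreMor.IsIndQuasiAffineHom f ↔ ∀ (V : Y.Opens), IsCompact (V : Set ↑Y) → IsQuasiSeparated (V : Set ↑Y) →
      ∀ (U : X.Opens) (hUV : U ≤ f ⁻¹ᵁ V), IsCompact (U : Set ↑X) → MoreMor.IsQuasiAffineHom (f.resLE V U hUV) := by
  constructor
  · intro hf V hVc hVqs U hUV hUc
    haveI : CompactSpace ↥(U : Scheme.{u}) := isCompact_iff_compactSpace.mp hUc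
    haveI : CompactSpace ↥(V : Scheme.{u}) := isCompact_iff_compactSpace.mp hVc
    haveI : QuasiSeparatedSpace ↥(V : Scheme.{u}) :=
      (isQuasiSeparated_iff_quasiSeparatedSpace _ V.2).mp hVqs
    haveI : QuasiCompact (f.resLE V U hUV) :=
      (quasiCompact_iff_compactSpace (f.resLE V U hUV)).mpr inferInstance
    refine ⟨inferInstance, fun W hW => ?_⟩
    haveI : CompactSpace ↥(((f.resLE V U hUV) ⁻¹ᵁ W : (U : Scheme.{u}).Opens) : Scheme.{u}) :=
      isCompact_iff_compactSpace.mp ((f.resLE V U hUV).isCompact_preimage hW.isCompact)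
    have hW₀ : IsAffineOpen (V.ι ''ᵁ W) := hW.image_of_isOpenImmersion _
    have hrange : Set.range (((f.resLE V U hUV) ⁻¹ᵁ W).ι ≫ U.ι) ⊆
        Set.range (f ⁻¹ᵁ (V.ι ''ᵁ W)).ι := by
      rw [Scheme.Opens.range_ι]
      rintro _ ⟨p, rfl⟩
      show f ((((f.resLE V U hUV) ⁻¹ᵁ W).ι ≫ U.ι) p) ∈ V.ι ''ᵁ W
      have h2 : f ((((f.resLE V U hUV) ⁻¹ᵁ W).ι ≫ U.ι) p) = V.ι ((f.resLE V U hUV) p.1) := by
        rw [← Scheme.Hom.comp_apply, Category.assoc, ← Scheme.Hom.resLE_comp_ι f hUV]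
        rfl
      rw [h2]
      exact ⟨_, p.2, rfl⟩
    have hj := IsOpenImmersion.lift_fac (f ⁻¹ᵁ (V.ι ''ᵁ W)).ι
      (((f.resLE V U hUV) ⁻¹ᵁ W).ι ≫ U.ι) hrange
    generalize IsOpenImmersion.lift (f ⁻¹ᵁ (V.ι ''ᵁ W)).ι
      (((f.resLE V U hUV) ⁻¹ᵁ W).ι ≫ U.ι) hrange = j at hj
    haveI : IsOpenImmersion (j ≫ (f ⁻¹ᵁ (V.ι ''ᵁ W)).ι) := by rw [hj]; infer_instance
    haveI : IsOpenImmersion j := IsOpenImmersion.of_comp j (f ⁻¹ᵁ (V.ι ''ᵁ W)).ι
    have hqa := hf _ hW₀ j.opensRange (isCompact_range j.continuous)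
    haveI := hqa
    exact Scheme.IsQuasiAffine.of_isAffineHom j.isoOpensRange.hom
  · intro H V hV U' hU'
    haveI : IsAffine (V : Scheme.{u}) := hV
    have hUV : (f ⁻¹ᵁ V).ι ''ᵁ U' ≤ f ⁻¹ᵁ V := by
      rintro _ ⟨x, -, rfl⟩
      exact x.2
    have hUc : IsCompact (((f ⁻¹ᵁ V).ι ''ᵁ U' : X.Opens) : Set X) :=
      hU'.image (f ⁻¹ᵁ V).ι.continuous
    have h1 := (H V hV.isCompact hV.isQuasiSeparated _ hUV hUc).2 ⊤ (isAffineOpen_top _)
    haveI : Scheme.IsQuasiAffine ((⊤ : (((f ⁻¹ᵁ V).ι ''ᵁ U' : X.Opens) : Scheme.{u}).Opens) : Scheme.{u}) := h1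
    haveI : Scheme.IsQuasiAffine (((f ⁻¹ᵁ V).ι ''ᵁ U' : X.Opens) : Scheme.{u}) :=
      Scheme.IsQuasiAffine.of_isAffineHom (Scheme.topIso (((f ⁻¹ᵁ V).ι ''ᵁ U' : X.Opens) : Scheme.{u})).inv
    exact Scheme.IsQuasiAffine.of_isAffineHom ((f ⁻¹ᵁ V).ι.isoImage U').hom

end Groth.Agent.S1396
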