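import Groth.Statements.S2340
import Mathlib

set_option autoImplicit false
universe u
open CategoryTheory CategoryTheory.Limits AlgebraicGeometry
open EGA2

namespace Groth.Agent.S2340

theorem isQuasiAffine_of_iso {X Y : Scheme.{u}} (e : X ≅ Y) [Y.IsQuasiAffine] :
    X.IsQuasiAffine := by
  haveI : CompactSpace X := (Scheme.homeoOfIso e).symm.compactSpace
  exact Scheme.IsQuasiAffine.of_isImmersion e.hom

/-- a compact scheme covered by quasi-affine basic opens of global sections is quasi-affine -/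
theorem qa_local (X' : Scheme.{u}) [CompactSpace X']
    (key : ∀ x : X', ∃ t : Γ(X', ⊤), x ∈ X'.basicOpen t ∧
      ((X'.basicOpen t : Scheme.{u})).IsQuasiAffine) : X'.IsQuasiAffine := by
  choose t hxt hqa using key
  haveI : QuasiSeparatedSpace X' := by
    refine QuasiSeparatedSpace.of_isOpenCover
      (U := fun x => X'.basicOpen (t x))
      (eq_top_iff.mpr fun x _ ↦ TopologicalSpace.Opens.mem_iSup.mpr ⟨x, hxt x⟩)
      (fun _ ↦ isRetrocompact_basicOpen _) (fun x ↦ ?_)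
    rw [isQuasiSeparated_iff_quasiSeparatedSpace _ (TopologicalSpace.Opens.isOpen _)]
    haveI := hqa x
    have h3 : QuasiSeparatedSpace ((X'.basicOpen (t x) : Scheme.{u})) :=
      (Scheme.toSpecΓ _).isOpenEmbedding.quasiSeparatedSpace
    exact h3
  refine Scheme.IsQuasiAffine.of_forall_exists_mem_basicOpen _ fun x ↦ ?_
  haveI := hqa x
  obtain ⟨_, ⟨_, ⟨r₁, hr₁, rfl⟩, rfl⟩, hxr, -⟩ :=
    (Scheme.IsQuasiAffine.isBasis_basicOpen
      ((X'.basicOpen (t x)) : Scheme.{u})).exists_subset_of_mem_open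
      (Set.mem_univ (⟨x, hxt x⟩ : ↥(X'.basicOpen (t x)))) isOpen_univ
  obtain ⟨r₁', hr₁'⟩ : ∃ r₁' : Γ(X', X'.basicOpen (t x)),
      r₁' = X'.presheaf.map
        (eqToHom (X'.basicOpen (t x)).ι_image_top.symm).op r₁ := ⟨_, rfl⟩
  obtain ⟨n, y, hy⟩ := exists_eq_pow_mul_of_isCompact_of_isQuasiSeparated X' ⊤
    isCompact_univ isQuasiSeparated_univ (t x) r₁'
  simp only [TopCat.Presheaf.restrictOpenCommRingCat_apply] at hy
  have hbo : X'.basicOpen (t x * y)
      = (X'.basicOpen (t x)).ι ''ᵁ ((X'.basicOpen (t x) : Scheme.{u})).basicOpen r₁ := by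
    rw [Scheme.Opens.ι_image_basicOpen, Scheme.basicOpen_mul]
    have h1 := Scheme.basicOpen_res X' y
      (homOfLE (le_top : X'.basicOpen (t x) ≤ ⊤)).op
    rw [← h1, hy, Scheme.basicOpen_mul]
    have h2 : X'.basicOpen
        ((X'.presheaf.map (homOfLE (le_top : X'.basicOpen (t x) ≤ ⊤)).op (t x)) ^ n)
        = X'.basicOpen (t x) := by
      apply Scheme.basicOpen_of_isUnit
      exact (RingedSpace.isUnit_res_basicOpen _ (t x)).pow n
    have h3 : X'.basicOpen r₁' = X'.basicOpen r₁ := by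
      rw [hr₁']
      exact Scheme.basicOpen_res_eq _ _ _
    rw [h2, inf_eq_right.mpr (Scheme.basicOpen_le _ r₁'), h3]
  refine ⟨t x * y, ?_, ?_⟩
  · rw [hbo]
    exact hr₁.image_of_isOpenImmersion _
  · rw [hbo]
    exact ⟨⟨x, hxt x⟩, hxr, rfl⟩


/-- Let f : X → Y and g : Y → Z be morphisms of schemes with g ∘ f quasi-affine and g quasi-separated.
Then f is quasi-affine. -/
theorem result {X Y Z : Scheme.{u}} (f : X ⟶ Y) (g : Y ⟶ Z) [QuasiSeparated g]
    (h : Mor2.IsQuasiAffine (f ≫ g)) : Mor2.IsQuasiAffine f := by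
  haveI := h.1
  haveI hfc : QuasiCompact f := QuasiCompact.of_comp f g
  refine ⟨hfc, fun U hU => ?_⟩
  haveI : CompactSpace (f ⁻¹ᵁ U : Scheme.{u}) := by
    have h2 := isCompact_iff_compactSpace.mp (f.isCompact_preimage (U := U) hU.isCompact)
    exact h2
  apply qa_local
  intro x
  obtain ⟨V, hV, hyV, -⟩ := exists_isAffineOpen_mem_and_subset
    (x := g (U.ι ((f ∣_ U) x))) (U := ⊤) trivial
  haveI : IsAffine (U : Scheme.{u}) := hU
  have hmem : (f ∣_ U) x ∈ U.ι ⁻¹ᵁ (g ⁻¹ᵁ V) := hyV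
  obtain ⟨_, ⟨_, ⟨a, rfl⟩, rfl⟩, hya, haV⟩ := (isBasis_basicOpen (U : Scheme.{u})).exists_subset_of_mem_open
    hmem (TopologicalSpace.Opens.isOpen _)
  refine ⟨(f ∣_ U).appTop a, ?_, ?_⟩
  · rw [← Scheme.preimage_basicOpen_top]; exact hya
  · rw [← Scheme.preimage_basicOpen_top]
    have hD : IsAffineOpen (U.ι ''ᵁ (U : Scheme.{u}).basicOpen a) :=
      (isAffineOpen_top (U : Scheme.{u})).basicOpen a |>.image_of_isOpenImmersion U.ι
    have hle : f ⁻¹ᵁ (U.ι ''ᵁ (U : Scheme.{u}).basicOpen a) ≤ (f ≫ g) ⁻¹ᵁ V := by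
      rintro z hz
      obtain ⟨w, hw, hwz⟩ := hz
      have := haV hw
      show g (f z) ∈ V
      rw [← hwz]
      exact this
    haveI : ((f ≫ g) ⁻¹ᵁ V : Scheme.{u}).IsQuasiAffine := h.2 V hV
    haveI : CompactSpace (f ⁻¹ᵁ (U.ι ''ᵁ (U : Scheme.{u}).basicOpen a) : Scheme.{u}) := by
      have h2 := isCompact_iff_compactSpace.mp
        (f.isCompact_preimage (U := U.ι ''ᵁ (U : Scheme.{u}).basicOpen a) hD.isCompact)
      exact h2
    haveI : (f ⁻¹ᵁ (U.ι ''ᵁ (U : Scheme.{u}).basicOpen a) : Scheme.{u}).IsQuasiAffine :=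
      Scheme.IsQuasiAffine.of_isImmersion (X.homOfLE hle)
    haveI : (((f ⁻¹ᵁ U).ι ''ᵁ ((f ∣_ U) ⁻¹ᵁ (U : Scheme.{u}).basicOpen a) : X.Opens) :
        Scheme.{u}).IsQuasiAffine := by
      rw [image_morphismRestrict_preimage]; infer_instance
    exact isQuasiAffine_of_iso ((f ⁻¹ᵁ U).ι.isoImage _)

end Groth.Agent.S2340
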