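import Groth.Statements.S1397
import Mathlib
import Groth.Agent.S2340
import Groth.Agent.S1396
set_option linter.style.haveILetI false

set_option autoImplicit false
universe u
open FlatMor

namespace Groth.Agent.S1397

open AlgebraicGeometry CategoryTheory Limits in
/-- Ind-quasi-affine morphisms are stable under composition. -/
theorem result {X Y Z : Scheme.{u}} (f : X ⟶ Y) (g : Y ⟶ Z) (hf : MoreMor.IsIndQuasiAffineHom f) (hg : MoreMor.IsIndQuasiAffineHom g) :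
    MoreMor.IsIndQuasiAffineHom (f ≫ g) := by
  intro W hW U hU
  have hUXc : IsCompact ((((f ≫ g) ⁻¹ᵁ W).ι ''ᵁ U : X.Opens) : Set X) :=
    hU.image ((f ≫ g) ⁻¹ᵁ W).ι.continuous
  have hUXle : ((f ≫ g) ⁻¹ᵁ W).ι ''ᵁ U ≤ (f ≫ g) ⁻¹ᵁ W := by
    rintro _ ⟨x, -, rfl⟩
    exact x.2
  obtain ⟨V₀, hV₀c, hV₀o, hKV, hVW⟩ := PrespectralSpace.exists_isCompact_and_isOpen_between
    (hUXc.image f.continuous) (g ⁻¹ᵁ W).2 (by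
      rintro _ ⟨x, hx, rfl⟩
      exact hUXle hx)
  have hVle : (⟨V₀, hV₀o⟩ : Y.Opens) ≤ g ⁻¹ᵁ W := hVW
  have hUV : ((f ≫ g) ⁻¹ᵁ W).ι ''ᵁ U ≤ f ⁻¹ᵁ (⟨V₀, hV₀o⟩ : Y.Opens) := fun x hx => hKV ⟨x, hx, rfl⟩
  have hgV := (Groth.Agent.S1396.result g).mp hg W hW.isCompact hW.isQuasiSeparated
    (⟨V₀, hV₀o⟩ : Y.Opens) hVle hV₀c
  haveI : IsAffine (W : Scheme.{u}) := hW
  have h1 := hgV.2 ⊤ (isAffineOpen_top _)
  haveI : Scheme.IsQuasiAffine ((⊤ : ((⟨V₀, hV₀o⟩ : Y.Opens) : Scheme.{u}).Opens) : Scheme.{u}) := h1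
  haveI hVqa : Scheme.IsQuasiAffine ((⟨V₀, hV₀o⟩ : Y.Opens) : Scheme.{u}) :=
    Scheme.IsQuasiAffine.of_isAffineHom (Scheme.topIso ((⟨V₀, hV₀o⟩ : Y.Opens) : Scheme.{u})).inv
  haveI hqsV : QuasiSeparatedSpace ↥((⟨V₀, hV₀o⟩ : Y.Opens) : Scheme.{u}) := inferInstance
  have hVqs : IsQuasiSeparated ((⟨V₀, hV₀o⟩ : Y.Opens) : Set Y) :=
    (isQuasiSeparated_iff_quasiSeparatedSpace _ hV₀o).mpr hqsV
  have hr := (Groth.Agent.S1396.result f).mp hf (⟨V₀, hV₀o⟩ : Y.Opens) hV₀c hVqs _ hUV hUXc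
  haveI : CompactSpace ↥((((f ≫ g) ⁻¹ᵁ W).ι ''ᵁ U : X.Opens) : Scheme.{u}) :=
    isCompact_iff_compactSpace.mp hUXc
  haveI : Scheme.IsQuasiAffine ((((f ≫ g) ⁻¹ᵁ W).ι ''ᵁ U : X.Opens) : Scheme.{u}) := by
    refine Groth.Agent.S2340.qa_local _ fun z => ?_
    obtain ⟨_, ⟨_, ⟨t, ht, rfl⟩, rfl⟩, hzt, -⟩ := (Scheme.IsQuasiAffine.isBasis_basicOpen
      ((⟨V₀, hV₀o⟩ : Y.Opens) : Scheme.{u})).exists_subset_of_mem_open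
        (Set.mem_univ ((f.resLE (⟨V₀, hV₀o⟩ : Y.Opens) _ hUV) z)) isOpen_univ
    have hPeq : ((((f ≫ g) ⁻¹ᵁ W).ι ''ᵁ U : X.Opens) : Scheme.{u}).basicOpen
        ((f.resLE (⟨V₀, hV₀o⟩ : Y.Opens) _ hUV).appTop t) =
        (f.resLE (⟨V₀, hV₀o⟩ : Y.Opens) _ hUV) ⁻¹ᵁ
          (((⟨V₀, hV₀o⟩ : Y.Opens) : Scheme.{u}).basicOpen t) :=
      (Scheme.preimage_basicOpen (f.resLE (⟨V₀, hV₀o⟩ : Y.Opens) _ hUV) t).symm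
    refine ⟨(f.resLE (⟨V₀, hV₀o⟩ : Y.Opens) _ hUV).appTop t, ?_, ?_⟩
    · rw [hPeq]; exact hzt
    · rw [hPeq]; exact hr.2 _ ht
  exact Scheme.IsQuasiAffine.of_isAffineHom (((f ≫ g) ⁻¹ᵁ W).ι.isoImage U).hom

end Groth.Agent.S1397
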