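import Groth.Statements.S13989
import Mathlib

set_option autoImplicit false
universe v u v' u' v'' u''
open CategoryTheory CategoryTheory.Limits
open CohGab

namespace Groth.Agent.S13989

open CategoryTheory CategoryTheory.Limits in
theorem W'_iff {A A' : Type u} [Category.{v} A] [Abelian A] [Category.{v} A'] [Abelian A']
    (i : A' ⥤ A) [PreservesFiniteLimits i] [PreservesFiniteColimits i]
    (J : ObjectProperty A) [J.IsSerreClass] [(J.inverseImage i).IsSerreClass]
    {X Y : A'} (h : X ⟶ Y) :
    (J.inverseImage i).isoModSerre h ↔ J.isoModSerre (i.map h) := by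
  haveI : i.PreservesZeroMorphisms := inferInstance
  rw [ObjectProperty.isoModSerre_iff, ObjectProperty.isoModSerre_iff,
    ObjectProperty.monoModSerre_iff, ObjectProperty.monoModSerre_iff,
    ObjectProperty.epiModSerre_iff, ObjectProperty.epiModSerre_iff,
    ObjectProperty.prop_inverseImage_iff, ObjectProperty.prop_inverseImage_iff,
    J.prop_iff_of_iso (PreservesKernel.iso i h), J.prop_iff_of_iso (PreservesCokernel.iso i h)]

open CategoryTheory CategoryTheory.Limits in
theorem transfer {A A' : Type u} [Category.{v} A] [Abelian A] [Category.{v} A'] [Abelian A']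
    (i : A' ⥤ A) [i.Full] [i.Faithful] [PreservesFiniteLimits i] [PreservesFiniteColimits i]
    (J : ObjectProperty A) [J.IsSerreClass] [(J.inverseImage i).IsSerreClass]
    (hsub : ∀ (M : A') (N : A) (f : N ⟶ i.obj M), Mono f → J N → i.essImage N)
    (hquot : ∀ (M : A') (N : A) (p : i.obj M ⟶ N), Epi p → J N → i.essImage N)
    {X₁ X₂ : A'} {X' : A} (s : X' ⟶ i.obj X₁) (hs : J.isoModSerre s) (f : X' ⟶ i.obj X₂) :
    ∃ (M' X₃ : A') (m' : M' ⟶ X₁) (q : X₂ ⟶ X₃) (g : M' ⟶ X₃) (σ : X' ⟶ i.obj M'),
      (J.inverseImage i).isoModSerre m' ∧ (J.inverseImage i).isoModSerre q ∧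
      σ ≫ i.map m' = s ∧ σ ≫ i.map g = f ≫ i.map q := by
  haveI : i.PreservesZeroMorphisms := inferInstance
  -- cokernel side
  obtain ⟨C', ⟨eC⟩⟩ := hquot X₁ (cokernel s) (cokernel.π s) inferInstance hs.2
  let p : X₁ ⟶ C' := i.preimage (cokernel.π s ≫ eC.inv)
  have hp : i.map p = cokernel.π s ≫ eC.inv := i.map_preimage _
  haveI : Epi (i.map p) := by rw [hp]; infer_instance
  haveI : Epi p := i.epi_of_epi_map inferInstance
  let m' : kernel p ⟶ X₁ := kernel.ι p
  have hm' : (J.inverseImage i).isoModSerre m' := by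
    rw [ObjectProperty.isoModSerre_iff_of_mono, ObjectProperty.epiModSerre_iff]
    haveI : IsIso (Abelian.factorThruCoimage p) :=
      haveI : Epi (Abelian.factorThruCoimage p) :=
        epi_of_epi_fac (Abelian.coimage.fac p)
      isIso_of_mono_of_epi _
    refine (ObjectProperty.prop_iff_of_iso _ (asIso (Abelian.factorThruCoimage p))).2 ?_
    exact (J.prop_iff_of_iso eC).2 hs.2
  -- i m' is a kernel of cokernel.π s
  have hlim : IsLimit (KernelFork.ofι (i.map m') (by rw [← i.map_comp, kernel.condition, i.map_zero] :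
      i.map m' ≫ i.map p = 0)) := isLimitOfHasKernelOfPreservesLimit i p
  have hsp : s ≫ i.map p = 0 := by rw [hp, cokernel.condition_assoc, zero_comp]
  let σ : X' ⟶ i.obj (kernel p) := (KernelFork.IsLimit.lift' hlim s hsp).1
  have hσ : σ ≫ i.map m' = s := (KernelFork.IsLimit.lift' hlim s hsp).2
  -- iso with the abelian image
  have hm'0 : i.map m' ≫ cokernel.π s = 0 := by
    have : i.map m' ≫ i.map p = 0 := by rw [← i.map_comp, kernel.condition, i.map_zero]
    rw [hp, ← Category.assoc] at this
    exact (cancel_mono eC.inv).1 (by rw [this, zero_comp])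
  let u : i.obj (kernel p) ⟶ Abelian.image s := kernel.lift _ (i.map m') hm'0
  have hu : u ≫ Abelian.image.ι s = i.map m' := kernel.lift_ι _ _ _
  have hσu : σ ≫ u = Abelian.factorThruImage s := by
    rw [← cancel_mono (Abelian.image.ι s), Category.assoc, hu, hσ, Abelian.image.fac]
  -- inverse of u
  have himp : Abelian.image.ι s ≫ i.map p = 0 := by
    rw [hp, ← Category.assoc, kernel.condition, zero_comp]
  let w : Abelian.image s ⟶ i.obj (kernel p) := (KernelFork.IsLimit.lift' hlim _ himp).1
  have hw : w ≫ i.map m' = Abelian.image.ι s := (KernelFork.IsLimit.lift' hlim _ himp).2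
  haveI : Mono (i.map m') := inferInstance
  have hwu : w ≫ u = 𝟙 _ := by
    rw [← cancel_mono (Abelian.image.ι s), Category.assoc, hu, hw, Category.id_comp]
  -- kernel side
  let k : kernel s ⟶ i.obj X₂ := kernel.ι s ≫ f
  have hJN : J (Abelian.image k) := J.prop_of_epi (Abelian.factorThruImage k) hs.1
  obtain ⟨N', ⟨eN⟩⟩ := hsub X₂ (Abelian.image k) (Abelian.image.ι k) inferInstance hJN
  let n : N' ⟶ X₂ := i.preimage (eN.hom ≫ Abelian.image.ι k)
  have hn : i.map n = eN.hom ≫ Abelian.image.ι k := i.map_preimage _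
  haveI : Mono (i.map n) := by rw [hn]; infer_instance
  haveI : Mono n := i.mono_of_mono_map inferInstance
  let q : X₂ ⟶ cokernel n := cokernel.π n
  have hq : (J.inverseImage i).isoModSerre q := by
    rw [ObjectProperty.isoModSerre_iff_of_epi, ObjectProperty.monoModSerre_iff]
    refine (ObjectProperty.prop_iff_of_iso _ (asIso (Abelian.factorThruImage n))).1 ?_
    exact (J.prop_iff_of_iso eN).2 hJN
  have hkq : kernel.ι s ≫ (f ≫ i.map q) = 0 := by
    have h1 : kernel.ι s ≫ f = Abelian.factorThruImage k ≫ eN.inv ≫ i.map n := by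
      rw [hn, Iso.inv_hom_id_assoc, Abelian.image.fac]
    rw [← Category.assoc, h1, Category.assoc, Category.assoc, ← i.map_comp, cokernel.condition,
      i.map_zero, comp_zero, comp_zero]
  let h' : Abelian.coimage s ⟶ i.obj (cokernel n) := cokernel.desc _ _ hkq
  have hh' : Abelian.coimage.π s ≫ h' = f ≫ i.map q := cokernel.π_desc _ _ _
  let g : kernel p ⟶ cokernel n := i.preimage (u ≫ (Abelian.coimageIsoImage s).inv ≫ h')
  have hg : i.map g = u ≫ (Abelian.coimageIsoImage s).inv ≫ h' := i.map_preimage _
  refine ⟨kernel p, cokernel n, m', q, g, σ, hm', hq, hσ, ?_⟩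
  rw [hg, ← Category.assoc, hσu, ← hh']
  have : Abelian.factorThruImage s = Abelian.coimage.π s ≫ (Abelian.coimageIsoImage s).hom := by
    rw [← cancel_mono (Abelian.image.ι s), Abelian.image.fac, Category.assoc]
    exact (Abelian.coimage_image_factorisation s).symm
  rw [this, Category.assoc, Iso.hom_inv_id_assoc]

/-- Let A be an abelian category, A' a full abelian subcategory (given as a fully faithful exact functor
i : A' ⥤ A) and J a Serre subcategory of A, with J' = J ∩ A' (the preimage of J under i, a Serre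
subcategory of A'). Assume that every subobject and every quotient object, in A, of an object of A'
which belongs to J belongs to A' (lies in the essential image of i). Then the functor A'/J' ⥤ A/J
induced between the quotient categories is fully faithful: for L : A ⥤ Q and L' : A' ⥤ Q'
localization functors at the morphisms whose kernel and cokernel lie in J, resp. J', every functor Φ
: Q' ⥤ Q with L' ⋙ Φ ≅ i ⋙ L is full and faithful. -/
theorem result
    {A A' : Type u} [Category.{v} A] [Abelian A] [Category.{v} A'] [Abelian A']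
    (i : A' ⥤ A) [i.Full] [i.Faithful] [PreservesFiniteLimits i] [PreservesFiniteColimits i]
    (J : ObjectProperty A) [J.IsSerreClass] [(J.inverseImage i).IsSerreClass]
    (hsub : ∀ (M : A') (N : A) (f : N ⟶ i.obj M), Mono f → J N → i.essImage N)
    (hquot : ∀ (M : A') (N : A) (p : i.obj M ⟶ N), Epi p → J N → i.essImage N)
    {Q : Type u'} [Category.{v'} Q] (L : A ⥤ Q) [L.IsLocalization J.isoModSerre]
    {Q' : Type u''} [Category.{v''} Q'] (L' : A' ⥤ Q') [L'.IsLocalization (J.inverseImage i).isoModSerre]
    (Φ : Q' ⥤ Q) (e : L' ⋙ Φ ≅ i ⋙ L) : Φ.Full ∧ Φ.Faithful := by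
  haveI : i.PreservesZeroMorphisms := inferInstance
  haveI : i.Additive := Functor.additive_of_preserves_binary_products i
  have hinvL : J.isoModSerre.IsInvertedBy L := Localization.inverts L J.isoModSerre
  have hinvL' : (J.inverseImage i).isoModSerre.IsInvertedBy L' :=
    Localization.inverts L' (J.inverseImage i).isoModSerre
  have hnat : ∀ {X Y : A'} (h : X ⟶ Y),
      Φ.map (L'.map h) = e.hom.app X ≫ L.map (i.map h) ≫ e.inv.app Y := by
    intro X Y h
    have := e.hom.naturality h
    simp only [Functor.comp_map] at this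
    rw [← Category.assoc, ← this, Category.assoc, Iso.hom_inv_id_app, Category.comp_id]
  constructor
  · haveI : L'.EssSurj := Localization.essSurj L' (J.inverseImage i).isoModSerre
    refine Φ.full_of_comp_essSurj L' (fun X₁ X₂ φ₀ ↦ ?_)
    obtain ⟨ρ, hρ⟩ := Localization.exists_rightFraction L J.isoModSerre
      (e.inv.app X₁ ≫ φ₀ ≫ e.hom.app X₂)
    obtain ⟨M', X₃, m', q, g, σ, hm', hq, hσ, hσg⟩ :=
      Groth.Agent.S13989.transfer i J hsub hquot ρ.s ρ.hs ρ.f
    haveI : IsIso (L'.map m') := hinvL' _ hm'
    haveI : IsIso (L'.map q) := hinvL' _ hq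
    haveI : IsIso (L.map ρ.s) := hinvL _ ρ.hs
    haveI : IsIso (L.map (i.map m')) := hinvL _ ((Groth.Agent.S13989.W'_iff i J m').1 hm')
    haveI : IsIso (L.map σ) := by
      have : L.map σ ≫ L.map (i.map m') = L.map ρ.s := by rw [← L.map_comp, hσ]
      haveI : IsIso (L.map σ ≫ L.map (i.map m')) := by rw [this]; infer_instance
      exact IsIso.of_isIso_comp_right (L.map σ) (L.map (i.map m'))
    refine ⟨inv (L'.map m') ≫ L'.map g ≫ inv (L'.map q), ?_⟩
    rw [← cancel_epi (Φ.map (L'.map m')), ← cancel_mono (Φ.map (L'.map q))]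
    simp only [Functor.map_comp, Functor.map_inv, Category.assoc, IsIso.hom_inv_id_assoc,
      IsIso.inv_hom_id, Category.comp_id]
    rw [hnat g, hnat m', hnat q]
    have hφ₀ : φ₀ = e.hom.app X₁ ≫ (inv (L.map ρ.s) ≫ L.map ρ.f) ≫ e.inv.app X₂ := by
      have : inv (L.map ρ.s) ≫ L.map ρ.f = e.inv.app X₁ ≫ φ₀ ≫ e.hom.app X₂ := by
        rw [hρ]; rfl
      rw [this]
      simp
    rw [hφ₀]
    simp only [Category.assoc, Iso.inv_hom_id_app_assoc]
    congr 1
    rw [← cancel_epi (L.map σ)]
    simp only [← Category.assoc]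
    congr 1
    simp only [Category.assoc]
    rw [← L.map_comp, hσg, L.map_comp, ← L.map_comp_assoc σ, hσ, IsIso.hom_inv_id_assoc]
  · letI := Localization.preadditive L' (J.inverseImage i).isoModSerre
    letI := Localization.preadditive L J.isoModSerre
    haveI := Localization.functor_additive L' (J.inverseImage i).isoModSerre
    haveI := Localization.functor_additive L J.isoModSerre
    haveI : (L' ⋙ Φ).Additive := Functor.additive_of_iso e.symm
    haveI : Φ.Additive := by
      rw [Localization.functor_additive_iff L' (J.inverseImage i).isoModSerre]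
      infer_instance
    refine Functor.faithful_of_comp_cancel_zero_of_hasLeftCalculusOfFractions L'
      (J.inverseImage i).isoModSerre Φ (fun X₁ X₂ f hf ↦ ?_)
    have h0 : L.map (i.map f) = 0 := by
      have := hnat f
      rw [hf] at this
      have h2 : L.map (i.map f) = e.inv.app X₁ ≫ (e.hom.app X₁ ≫ L.map (i.map f) ≫ e.inv.app X₂) ≫
          e.hom.app X₂ := by simp
      rw [h2, ← this, zero_comp, comp_zero]
    have hfac : Abelian.coimage.π f ≫ Abelian.factorThruCoimage f = f := Abelian.coimage.fac f
    rw [← hfac, L'.map_comp,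
      ObjectProperty.SerreClassLocalization.map_comp_eq_zero_iff_of_epi_mono L' (J.inverseImage i)]
    rw [← hfac, i.map_comp, L.map_comp,
      ObjectProperty.SerreClassLocalization.map_comp_eq_zero_iff_of_epi_mono L J] at h0
    exact h0

end Groth.Agent.S13989
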