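import Groth.Statements.S1399
import Mathlib
import Groth.Agent.S2340
set_option linter.style.haveILetI false

set_option autoImplicit false
universe u
open FlatMor

namespace Groth.Agent.S1399

open AlgebraicGeometry CategoryTheory Limits in
/-- If g ∘ f is ind-quasi-affine then so is f. -/
theorem result {X Y Z : Scheme.{u}} (f : X ⟶ Y) (g : Y ⟶ Z) (h : MoreMor.IsIndQuasiAffineHom (f ≫ g)) :
    MoreMor.IsIndQuasiAffineHom f := by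
  intro V hV U hU
  haveI : IsAffine (V : Scheme.{u}) := hV
  haveI : CompactSpace ↥(U : Scheme.{u}) := isCompact_iff_compactSpace.mp hU
  haveI : QuasiCompact (U.ι ≫ (f ∣_ V)) :=
    (quasiCompact_iff_compactSpace (U.ι ≫ (f ∣_ V))).mpr inferInstance
  have hw : (U.ι ≫ (f ∣_ V)) ≫ V.ι = (U.ι ≫ (f ⁻¹ᵁ V).ι) ≫ f := by
    simp only [Category.assoc, morphismRestrict_ι]
  refine Groth.Agent.S2340.qa_local _ fun z => ?_
  obtain ⟨_, ⟨W, hW, rfl⟩, hyW, -⟩ := Z.isBasis_affineOpens.exists_subset_of_mem_open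
    (Set.mem_univ (g (V.ι ((U.ι ≫ (f ∣_ V)) z)))) isOpen_univ
  obtain ⟨s, hs1, hs2⟩ := hV.exists_basicOpen_le (V := g ⁻¹ᵁ W)
    ⟨V.ι ((U.ι ≫ (f ∣_ V)) z), hyW⟩ ((U.ι ≫ (f ∣_ V)) z).2
  have himg := Scheme.Opens.ι_image_basicOpen_topIso_inv V s
  have hPeq : (U : Scheme.{u}).basicOpen ((U.ι ≫ (f ∣_ V)).appTop (V.topIso.inv s)) =
      (U.ι ≫ (f ∣_ V)) ⁻¹ᵁ ((V : Scheme.{u}).basicOpen (V.topIso.inv s)) :=
    (Scheme.preimage_basicOpen (U.ι ≫ (f ∣_ V)) (V.topIso.inv s)).symm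
  refine ⟨(U.ι ≫ (f ∣_ V)).appTop (V.topIso.inv s), ?_, ?_⟩
  · rw [hPeq]
    have h1 : V.ι ((U.ι ≫ (f ∣_ V)) z) ∈ V.ι ''ᵁ (V : Scheme.{u}).basicOpen (V.topIso.inv s) := by
      rw [himg]; exact hs2
    obtain ⟨y', hy', hyz⟩ := h1
    have : y' = (U.ι ≫ (f ∣_ V)) z := Subtype.ext hyz
    show (U.ι ≫ (f ∣_ V)) z ∈ (V : Scheme.{u}).basicOpen (V.topIso.inv s)
    rw [← this]
    exact hy'
  · rw [hPeq]
    haveI : CompactSpace ↥(((U.ι ≫ (f ∣_ V)) ⁻¹ᵁ ((V : Scheme.{u}).basicOpen (V.topIso.inv s)) :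
        (U : Scheme.{u}).Opens) : Scheme.{u}) :=
      isCompact_iff_compactSpace.mp ((U.ι ≫ (f ∣_ V)).isCompact_preimage
        ((isAffineOpen_top (V : Scheme.{u})).basicOpen (V.topIso.inv s)).isCompact)
    have hrange : Set.range (((U.ι ≫ (f ∣_ V)) ⁻¹ᵁ
        ((V : Scheme.{u}).basicOpen (V.topIso.inv s))).ι ≫ U.ι ≫ (f ⁻¹ᵁ V).ι) ⊆
        Set.range ((f ≫ g) ⁻¹ᵁ W).ι := by
      rw [Scheme.Opens.range_ι]
      rintro _ ⟨p, rfl⟩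
      show g (f ((((U.ι ≫ (f ∣_ V)) ⁻¹ᵁ
        ((V : Scheme.{u}).basicOpen (V.topIso.inv s))).ι ≫ U.ι ≫ (f ⁻¹ᵁ V).ι) p)) ∈ W
      have h2 : f ((((U.ι ≫ (f ∣_ V)) ⁻¹ᵁ
          ((V : Scheme.{u}).basicOpen (V.topIso.inv s))).ι ≫ U.ι ≫ (f ⁻¹ᵁ V).ι) p) =
          V.ι ((U.ι ≫ (f ∣_ V)) p.1) := by
        rw [← Scheme.Hom.comp_apply, Category.assoc, ← hw]
        rfl
      rw [h2]
      apply hs1
      rw [← himg]
      exact ⟨_, p.2, rfl⟩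
    have hj := IsOpenImmersion.lift_fac ((f ≫ g) ⁻¹ᵁ W).ι
      (((U.ι ≫ (f ∣_ V)) ⁻¹ᵁ ((V : Scheme.{u}).basicOpen (V.topIso.inv s))).ι ≫ U.ι ≫ (f ⁻¹ᵁ V).ι) hrange
    generalize IsOpenImmersion.lift ((f ≫ g) ⁻¹ᵁ W).ι
      (((U.ι ≫ (f ∣_ V)) ⁻¹ᵁ ((V : Scheme.{u}).basicOpen (V.topIso.inv s))).ι ≫ U.ι ≫ (f ⁻¹ᵁ V).ι)
      hrange = j at hj
    haveI : IsOpenImmersion (j ≫ ((f ≫ g) ⁻¹ᵁ W).ι) := by rw [hj]; infer_instance
    haveI : IsOpenImmersion j := IsOpenImmersion.of_comp j ((f ≫ g) ⁻¹ᵁ W).ι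
    have hqa := h W hW j.opensRange (isCompact_range j.continuous)
    haveI := hqa
    exact Scheme.IsQuasiAffine.of_isAffineHom j.isoOpensRange.hom

end Groth.Agent.S1399
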