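import Groth.Statements.S13995
import Mathlib

set_option autoImplicit false
universe u
open CAlg

namespace Groth.Agent.S13995

theorem isField_localization_atPrime_of_minimal {R : Type*} [CommRing R] [IsReduced R]
    (p : Ideal R) (hp : p ∈ minimalPrimes R) [p.IsPrime] : IsField (Localization.AtPrime p) := by
  rw [IsLocalRing.isField_iff_maximalIdeal_eq]
  have h1 := IsLocalization.AtPrime.radical_map_of_mem_minimalPrimes (Localization.AtPrime p) p ⊥ hp
  rw [IsLocalization.AtPrime.map_eq_maximalIdeal p (Localization.AtPrime p)] at h1
  rw [← h1, Ideal.map_bot]
  exact nilradical_eq_zero _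

/-- Let R be a reduced Noetherian ring, M a finitely generated R-module all of whose associated primes
are minimal primes of R and whose localization at each minimal prime p is one-dimensional over the
field R_p, and let g : M → Q be a surjection onto a finitely generated R-module Q all of whose
associated primes are minimal primes of R. Then the kernel of g is the intersection, over the
minimal primes p of R lying in the support of Q, of the kernels of the localization maps M → M_p.
(The published statement is for a torsion-free coherent sheaf F of uniform rank one on a reduced
connected projective curve over a characteristic-zero algebraically closed field: its non-zero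
torsion-free quotients are exactly the maximal torsion-free quotients F_D of the restrictions of F
to subcurves D; this row is the corresponding statement for modules over a reduced Noetherian ring,
a subcurve being a set of minimal primes, and identifies each torsion-free quotient with F_D for D
the set of generic points of its support.) -/
theorem result (R : Type u) [CommRing R] [IsNoetherianRing R] [IsReduced R] (M : Type u) [AddCommGroup M] [Module R M] [Module.Finite R M] (hM : associatedPrimes R M ⊆ minimalPrimes R) (hrk : ∀ p : PrimeSpectrum R, p.asIdeal ∈ minimalPrimes R → Module.finrank (Localization.AtPrime p.asIdeal) (LocalizedModule p.asIdeal.primeCompl M) = 1) (Q : Type u) [AddCommGroup Q] [Module R Q] [Module.Finite R Q] (hQ : associatedPrimes R Q ⊆ minimalPrimes R) (g : M →ₗ[R] Q) (hg : Function.Surjective g) : LinearMap.ker g = ⨅ p ∈ {p : PrimeSpectrum R | p.asIdeal ∈ minimalPrimes R ∧ p ∈ Module.support R Q}, LinearMap.ker (LocalizedModule.mkLinearMap p.asIdeal.primeCompl M) := by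
  apply le_antisymm
  · refine le_iInf₂ fun p hp => ?_
    obtain ⟨hpmin, hpQ⟩ := hp
    intro m hm
    rw [LinearMap.mem_ker] at hm ⊢
    let K := Localization.AtPrime p.asIdeal
    let _ : Field K := (isField_localization_atPrime_of_minimal p.asIdeal hpmin).toField
    have hrk1 := hrk p hpmin
    have hfd : Module.Finite K (LocalizedModule p.asIdeal.primeCompl M) :=
      Module.finite_of_finrank_pos (by rw [hrk1]; exact one_pos)
    let gp := LocalizedModule.map p.asIdeal.primeCompl g
    have hsurj : Function.Surjective gp := LocalizedModule.map_surjective _ g hg
    have hnt : Nontrivial (LocalizedModule p.asIdeal.primeCompl Q) := Module.mem_support_iff.mp hpQ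
    have hker : LinearMap.ker gp = ⊥ := by
      have h1 := LinearMap.finrank_range_add_finrank_ker gp
      have h2 : LinearMap.range gp = ⊤ := LinearMap.range_eq_top.mpr hsurj
      rw [h2, finrank_top, hrk1] at h1
      have hfdQ : Module.Finite K (LocalizedModule p.asIdeal.primeCompl Q) :=
        Module.Finite.of_surjective gp hsurj
      have h3 : 0 < Module.finrank K (LocalizedModule p.asIdeal.primeCompl Q) := Module.finrank_pos
      have h4 : Module.finrank K (LinearMap.ker gp) = 0 := by
        have h1' : Module.finrank K (LocalizedModule p.asIdeal.primeCompl Q) +
          Module.finrank K (LinearMap.ker gp) = 1 := h1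
        omega
      exact Submodule.finrank_eq_zero.mp h4
    have h5 : gp (LocalizedModule.mkLinearMap p.asIdeal.primeCompl M m) = 0 := by
      rw [LocalizedModule.mkLinearMap_apply, LocalizedModule.map_mk, hm, LocalizedModule.zero_mk]
    exact (LinearMap.ker_eq_bot.mp hker) (h5.trans (map_zero gp).symm)
  · intro m hm
    rw [LinearMap.mem_ker]
    by_contra hne
    obtain ⟨P, hP, hle⟩ := exists_le_isAssociatedPrime_of_isNoetherianRing R (g m) hne
    have hPmin : P ∈ minimalPrimes R := hQ hP
    have hPprime : P.IsPrime := hP.1
    have hPsupp : (⟨P, hPprime⟩ : PrimeSpectrum R) ∈ Module.support R Q := by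
      rw [Module.mem_support_iff_exists_annihilator]
      refine ⟨g m, ?_⟩
      intro a ha
      apply hle
      rw [Submodule.mem_colon_singleton, Submodule.mem_bot]
      exact (Submodule.mem_annihilator_span_singleton _ _).mp ha
    have hm' := (Submodule.mem_iInf _).mp ((Submodule.mem_iInf _).mp hm ⟨P, hPprime⟩) ⟨hPmin, hPsupp⟩
    rw [LinearMap.mem_ker] at hm'
    obtain ⟨s, hs⟩ := (IsLocalizedModule.eq_zero_iff P.primeCompl (LocalizedModule.mkLinearMap P.primeCompl M)).mp hm'
    have hsP : (s : R) ∈ P := by
      apply hle
      rw [Submodule.mem_colon_singleton, Submodule.mem_bot, ← map_smul]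
      have : (s : R) • m = 0 := hs
      rw [this, map_zero]
    exact s.2 hsP

end Groth.Agent.S13995
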