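import Groth.Statements.S13996
import Mathlib

set_option autoImplicit false
universe u
open CAlg

namespace Groth.Agent.S13996

/-- Let R be a reduced Noetherian local ring of Krull dimension one with maximal ideal m, and M a
non-zero finitely generated R-module. Then M is torsion-free in the sense that no element of m which
is a non-zero-divisor on R is a zero-divisor on M, if and only if M has depth one, i.e. some element
of m is a non-zero-divisor on M. (The published statement is for a non-zero coherent sheaf F on a
connected reduced projective curve over a characteristic-zero algebraically closed field and asserts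
the equivalence of: F torsion-free in the above sense at every closed point; F pure of dimension
one; depth of F_p equal to one at every closed point p. This row is the equivalence of the first and
third conditions at a single closed point p with F_p ≠ 0; at points outside the support the third
condition as published cannot hold, so the row assumes the stalk non-zero.) -/
theorem result (R : Type u) [CommRing R] [IsLocalRing R] [IsNoetherianRing R] [IsReduced R] (hdim : ringKrullDim R = 1) (M : Type u) [AddCommGroup M] [Module R M] [Module.Finite R M] [Nontrivial M] : (∀ r : R, r ∈ IsLocalRing.maximalIdeal R → IsSMulRegular R r → IsSMulRegular M r) ↔ (∃ x : R, x ∈ IsLocalRing.maximalIdeal R ∧ IsSMulRegular M x) := by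
  have hdim1 : Ring.KrullDimLE 1 R := Ring.krullDimLE_iff.mpr (by rw [hdim]; rfl)
  have hprimes := Ring.krullDimLE_one_iff.mp hdim1
  -- the maximal ideal is not a minimal prime
  have hm_not_min : IsLocalRing.maximalIdeal R ∉ minimalPrimes R := by
    intro hmin
    have h0 : Ring.KrullDimLE 0 R := by
      apply Ring.KrullDimLE.mk₀
      intro p hp
      have hle : p ≤ IsLocalRing.maximalIdeal R := IsLocalRing.le_maximalIdeal hp.ne_top
      have : IsLocalRing.maximalIdeal R ≤ p := hmin.2 ⟨hp, bot_le⟩ hle
      rw [le_antisymm hle this]
      infer_instance
    have := Ring.krullDimLE_iff.mp h0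
    rw [hdim] at this
    exact absurd this (by decide)
  constructor
  · intro h
    -- find r ∈ m outside all minimal primes
    have hfin : (minimalPrimes R).Finite := minimalPrimes.finite_of_isNoetherianRing R
    have hex : ∃ r ∈ IsLocalRing.maximalIdeal R, ∀ p ∈ minimalPrimes R, r ∉ p := by
      by_contra hc
      push Not at hc
      have hsub : ((IsLocalRing.maximalIdeal R : Ideal R) : Set R) ⊆ ⋃ p ∈ minimalPrimes R, (p : Set R) := by
        intro r hr
        obtain ⟨p, hp, hrp⟩ := hc r hr
        exact Set.mem_biUnion hp hrp
      obtain ⟨p₀, hp₀⟩ : (minimalPrimes R).Nonempty := by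
        obtain ⟨p, hp, -⟩ := Ideal.exists_minimalPrimes_le (I := ⊥) (J := IsLocalRing.maximalIdeal R) bot_le
        exact ⟨p, hp⟩
      obtain ⟨p, hp, hmp⟩ := (Ideal.subset_union_prime_finite hfin p₀ p₀
        (fun i hi _ _ => Ideal.minimalPrimes_isPrime hi)).mp hsub
      have hpm : p ≤ IsLocalRing.maximalIdeal R := IsLocalRing.le_maximalIdeal (Ideal.minimalPrimes_isPrime hp).ne_top
      rw [← le_antisymm hpm hmp] at hm_not_min
      exact hm_not_min hp
    obtain ⟨r, hrm, hr⟩ := hex
    refine ⟨r, hrm, h r hrm ?_⟩
    -- r is regular on R
    rw [isSMulRegular_iff_right_eq_zero_of_smul]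
    intro a ha
    have : a ∈ nilradical R := by
      rw [nilradical, ← Ideal.sInf_minimalPrimes, Ideal.mem_sInf]
      intro p hp
      have hpp := Ideal.minimalPrimes_isPrime hp
      have h1 : r * a ∈ p := by rw [← smul_eq_mul, ha]; exact zero_mem _
      exact (hpp.mem_or_mem h1).resolve_left (hr p hp)
    rwa [nilradical_eq_zero, Ideal.zero_eq_bot, Ideal.mem_bot] at this
  · rintro ⟨x, hxm, hx⟩ r hrm hr
    by_contra hnr
    have : r ∈ ⋃ p ∈ associatedPrimes R M, (p : Set R) := by
      rw [biUnion_associatedPrimes_eq_compl_regular R M]
      exact hnr
    simp only [Set.mem_iUnion, SetLike.mem_coe, exists_prop] at this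
    obtain ⟨p, hp, hrp⟩ := this
    have hpp : p.IsPrime := IsAssociatedPrime.isPrime hp
    rcases hprimes p hpp with hmin | hmax
    · -- r ∈ minimal prime contradicts regular on R
      have := Ideal.disjoint_nonZeroDivisors_of_mem_minimalPrimes hmin
      rw [Set.disjoint_left] at this
      apply this hrp
      rw [SetLike.mem_coe, mem_nonZeroDivisors_iff_right]
      intro a ha
      rw [mul_comm] at ha
      exact (isSMulRegular_iff_right_eq_zero_of_smul.mp hr) a ha
    · have hpeq : p = IsLocalRing.maximalIdeal R := IsLocalRing.eq_maximalIdeal hmax
      have : x ∈ ⋃ p ∈ associatedPrimes R M, (p : Set R) := by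
        simp only [Set.mem_iUnion, SetLike.mem_coe, exists_prop]
        exact ⟨p, hp, hpeq ▸ hxm⟩
      rw [biUnion_associatedPrimes_eq_compl_regular R M] at this
      exact this hx

end Groth.Agent.S13996
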