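import Groth.Statements.S13997
import Mathlib

set_option autoImplicit false
universe u
open FlatMor

namespace Groth.Agent.S13997

section Helpers
open AlgebraicGeometry CategoryTheory

theorem subalgebra_eq_top_of_nilpotent {A B : Type u} [CommRing A] [CommRing B] [Algebra A B]
    (C : Subalgebra A B) (K : Ideal B) (t : Set B) (hKt : K = Ideal.span t) (htC : t ⊆ C)
    (hnil : IsNilpotent K) (h1 : ∀ b : B, ∃ c ∈ C, b - c ∈ K) : C = ⊤ := by
  have htK : t ⊆ K := by
    rw [hKt]
    exact Ideal.subset_span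
  have Q : ∀ n : ℕ, ∀ x ∈ K ^ n, ∃ c ∈ C, x - c ∈ K ^ (n + 1) := by
    intro n
    induction n with
    | zero =>
      intro x _
      obtain ⟨c, hc, hxc⟩ := h1 x
      exact ⟨c, hc, by simpa using hxc⟩
    | succ n ih =>
      intro x hx
      rw [pow_succ'] at hx
      refine Submodule.mul_induction_on hx ?_ ?_
      · intro a ha y hy
        revert y
        rw [hKt] at ha
        refine Submodule.span_induction
          (p := fun a _ => ∀ y ∈ K ^ n, ∃ c ∈ C, a * y - c ∈ K ^ (n + 1 + 1)) ?_ ?_ ?_ ?_ ha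
        · intro a hat y hy
          obtain ⟨c, hc, hyc⟩ := ih y hy
          refine ⟨a * c, C.mul_mem (htC hat) hc, ?_⟩
          have e : a * y - a * c = a * (y - c) := by ring
          rw [e, pow_succ' K (n + 1)]
          exact Ideal.mul_mem_mul (htK hat) hyc
        · intro y _
          exact ⟨0, C.zero_mem, by simp⟩
        · intro a₁ a₂ _ _ h₁ h₂ y hy
          obtain ⟨c₁, hc₁, e₁⟩ := h₁ y hy
          obtain ⟨c₂, hc₂, e₂⟩ := h₂ y hy
          refine ⟨c₁ + c₂, C.add_mem hc₁ hc₂, ?_⟩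
          have e : (a₁ + a₂) * y - (c₁ + c₂) = (a₁ * y - c₁) + (a₂ * y - c₂) := by ring
          rw [e]
          exact Ideal.add_mem _ e₁ e₂
        · intro b a₁ _ h₁ y hy
          obtain ⟨c, hc, e⟩ := h₁ (b * y) (Ideal.mul_mem_left _ b hy)
          refine ⟨c, hc, ?_⟩
          have e' : b • a₁ * y - c = a₁ * (b * y) - c := by
            rw [smul_eq_mul]
            ring
          rw [e']
          exact e
      · rintro x₁ x₂ ⟨c₁, hc₁, e₁⟩ ⟨c₂, hc₂, e₂⟩
        refine ⟨c₁ + c₂, C.add_mem hc₁ hc₂, ?_⟩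
        have e : x₁ + x₂ - (c₁ + c₂) = (x₁ - c₁) + (x₂ - c₂) := by ring
        rw [e]
        exact Ideal.add_mem _ e₁ e₂
  have P : ∀ n : ℕ, ∀ b : B, ∃ c ∈ C, b - c ∈ K ^ n := by
    intro n
    induction n with
    | zero =>
      intro b
      exact ⟨0, C.zero_mem, by simp⟩
    | succ n ih =>
      intro b
      obtain ⟨c, hc, e⟩ := ih b
      obtain ⟨c', hc', e'⟩ := Q n (b - c) e
      refine ⟨c + c', C.add_mem hc hc', ?_⟩
      have e2 : b - (c + c') = b - c - c' := by ring
      rw [e2]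
      exact e'
  obtain ⟨N, hN⟩ := hnil
  rw [eq_top_iff]
  intro b _
  obtain ⟨c, hc, e⟩ := P N b
  rw [hN] at e
  have e3 : b - c = 0 := e
  have e4 : b = c := sub_eq_zero.mp e3
  rw [e4]
  exact hc

theorem finiteType_of_nilpotent_ker {A B B₀ : Type u} [CommRing A] [CommRing B] [CommRing B₀]
    (φ : A →+* B) (ρ : B →+* B₀) (hρ : Function.Surjective ρ) (hnil : IsNilpotent (RingHom.ker ρ))
    (hfg : (RingHom.ker ρ).FG) (h : (ρ.comp φ).FiniteType) : φ.FiniteType := by
  letI algAB : Algebra A B := φ.toAlgebra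
  letI algAB₀ : Algebra A B₀ := (ρ.comp φ).toAlgebra
  have h' : Algebra.FiniteType A B₀ := h
  obtain ⟨s₀, hs₀⟩ := h'.out
  obtain ⟨t, ht⟩ := hfg
  obtain ⟨ρ', hρ'⟩ : ∃ ρ' : B →ₐ[A] B₀, ∀ b, ρ' b = ρ b := ⟨⟨ρ, fun a => rfl⟩, fun b => rfl⟩
  classical
  obtain ⟨s, hs⟩ : ∃ s : Finset B, s.image ρ = s₀ := by
    refine ⟨s₀.image (Function.surjInv hρ), ?_⟩
    rw [Finset.image_image]
    have : (ρ ∘ Function.surjInv hρ) = id := by
      funext x
      exact Function.surjInv_eq hρ x
    rw [this, Finset.image_id]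
  have hC : Algebra.adjoin A ((s ∪ t : Finset B) : Set B) = ⊤ := by
    apply subalgebra_eq_top_of_nilpotent _ (RingHom.ker ρ) (t : Set B) ht.symm ?_ hnil ?_
    · intro x hx
      apply Algebra.subset_adjoin
      simp only [Finset.coe_union, Set.mem_union]
      exact Or.inr hx
    · intro b
      have h2 : ρ' b ∈ (Algebra.adjoin A (s : Set B)).map ρ' := by
        rw [AlgHom.map_adjoin]
        have : (ρ' '' (s : Set B)) = (s₀ : Set B₀) := by
          rw [← hs, Finset.coe_image]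
          exact Set.image_congr fun x _ => hρ' x
        rw [this, hs₀]
        exact Algebra.mem_top
      obtain ⟨c, hc, hcb⟩ := h2
      refine ⟨c, ?_, ?_⟩
      · refine Algebra.adjoin_mono ?_ hc
        simp only [Finset.coe_union]
        exact Set.subset_union_left
      · rw [RingHom.mem_ker, map_sub, sub_eq_zero, ← hρ', ← hρ']
        exact hcb.symm
  exact ⟨⟨s ∪ t, hC⟩⟩

theorem appLE_congr_hom {X Y : Scheme.{u}} {G G' : X ⟶ Y} (h : G = G') (V : Y.Opens) (W : X.Opens)
    (e : W ≤ G ⁻¹ᵁ V) (e' : W ≤ G' ⁻¹ᵁ V) : G.appLE V W e = G'.appLE V W e' := by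
  subst h
  rfl

theorem lft_of_lft₀ {X X₀ Y Y₀ : Scheme.{u}}
    (F : Y ⟶ X) (F₀ : Y₀ ⟶ X₀) (i : Y₀ ⟶ Y) (j : X₀ ⟶ X)
    (hi : MoreMor.IsThickening i) (hj : MoreMor.IsThickening j)
    (hinil : ∀ U : Y.affineOpens, IsNilpotent (i.ker.ideal U))
    (hfg : ∀ U : Y.affineOpens, (i.ker.ideal U).FG)
    (w : F₀ ≫ j = i ≫ F) (h₀ : LocallyOfFiniteType F₀) : LocallyOfFiniteType F := by
  obtain ⟨hicl, -⟩ := hi
  obtain ⟨hjcl, -⟩ := hj
  haveI := hicl
  haveI := hjcl
  refine ⟨fun {V} hV {U} hU e => ?_⟩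
  have hU₀ : IsAffineOpen (i ⁻¹ᵁ U) := hU.preimage i
  have hV₀ : IsAffineOpen (j ⁻¹ᵁ V) := hV.preimage j
  have e₀ : i ⁻¹ᵁ U ≤ F₀ ⁻¹ᵁ (j ⁻¹ᵁ V) := by
    intro y hy
    show j (F₀ y) ∈ V
    rw [← Scheme.Hom.comp_apply, w, Scheme.Hom.comp_apply]
    exact e hy
  have hker : RingHom.ker (i.app U).hom = i.ker.ideal ⟨U, hU⟩ :=
    (Scheme.Hom.ker_apply i ⟨U, hU⟩).symm
  apply finiteType_of_nilpotent_ker (F.appLE V U e).hom (i.app U).hom (i.app_surjective U hU)
    (by rw [hker]; exact hinil ⟨U, hU⟩) (by rw [hker]; exact hfg ⟨U, hU⟩)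
  have hcomp : (i.app U).hom.comp (F.appLE V U e).hom =
      (F₀.appLE (j ⁻¹ᵁ V) (i ⁻¹ᵁ U) e₀).hom.comp (j.app V).hom := by
    rw [← CommRingCat.hom_comp, ← CommRingCat.hom_comp]
    congr 1
    rw [Scheme.Hom.app_eq_appLE, Scheme.Hom.app_eq_appLE, Scheme.Hom.appLE_comp_appLE,
      Scheme.Hom.appLE_comp_appLE]
    exact (appLE_congr_hom w _ _ _ _).symm
  rw [hcomp]
  exact (LocallyOfFiniteType.finiteType_appLE F₀ hV₀ hU₀ e₀).comp
    (RingHom.FiniteType.of_surjective _ (j.app_surjective V hV))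

end Helpers

open AlgebraicGeometry CategoryTheory in
/-- Consider a commutative square of schemes F₀ ≫ j = i ≫ F in which i : Y₀ ⟶ Y and j : X₀ ⟶ X are
closed immersions surjective on points whose ideals are locally nilpotent (nilpotent on every affine
open), and suppose moreover that the ideal of i is of finite type (finitely generated on every
affine open of Y). Then F : Y ⟶ X is locally of finite type if and only if F₀ : Y₀ ⟶ X₀ is. The
square is not assumed cartesian and the ideal of j need not be of finite type. (The published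
statement also asserts the version for morphisms of finite type; that version follows from this one,
because quasi-compactness of a morphism transfers along closed immersions surjective on points, and
it is not restated here.) -/
theorem result {X X₀ Y Y₀ : Scheme.{u}}
    (F : Y ⟶ X) (F₀ : Y₀ ⟶ X₀) (i : Y₀ ⟶ Y) (j : X₀ ⟶ X)
    (hi : MoreMor.IsThickening i) (hj : MoreMor.IsThickening j)
    (hinil : ∀ U : Y.affineOpens, IsNilpotent (i.ker.ideal U))
    (hjnil : ∀ U : X.affineOpens, IsNilpotent (j.ker.ideal U))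
    (hfg : ∀ U : Y.affineOpens, (i.ker.ideal U).FG)
    (w : F₀ ≫ j = i ≫ F) :
    LocallyOfFiniteType F ↔ LocallyOfFiniteType F₀ := by
  constructor
  · intro h
    haveI := h
    haveI : IsClosedImmersion i := hi.1
    haveI : LocallyOfFiniteType (F₀ ≫ j) := by
      rw [w]
      infer_instance
    exact locallyOfFiniteType_of_comp F₀ j
  · intro h₀
    exact lft_of_lft₀ F F₀ i j hi hj hinil hfg w h₀

end Groth.Agent.S13997
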