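import Mathlib
import Groth.Agent.H11.RelFrobTower
import Groth.Agent.H11.RelFrobPoly
import Groth.Agent.H11.RelFrobMainU
import Groth.Statements.S14036

set_option autoImplicit false
universe u v
open W4c1frobunstiva

namespace Groth.Agent.S14036

/-- Let p be a prime number, A a commutative ring of characteristic p and B a smooth A-algebra of
characteristic p. Then the relative Frobenius homomorphism from the Frobenius twist B ⊗_A A (right
factor A through its p-th power map) to B, sending b ⊗ a to b^p a, is flat. (Affine form of the
statement that the relative Frobenius X → X^(p) of a smooth S-scheme in characteristic p is flat;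
flatness and the relative Frobenius are both local on affine opens.) -/
theorem result (p : ℕ) [Fact p.Prime] (A : Type u) [CommRing A]
    [CharP A p] (B : Type v) [CommRing B] [Algebra A B] [CharP B p] [Algebra.Smooth A B] :
    (FrobAlg.relFrob p A B).Flat := by

  have hp : p.Prime := Fact.out
  obtain ⟨s, hs, h⟩ := Algebra.Smooth.exists_span_eq_top_isStandardSmooth A B
  letI algB : Algebra (FrobAlg.BaseChange p A B) B := (FrobAlg.relFrob p A B).toAlgebra
  change Module.Flat (FrobAlg.BaseChange p A B) B
  refine Module.flat_of_isLocalized_span _ _ s hs _
    (fun r => Algebra.linearMap B (Localization.Away r.1)) ?_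
  intro r
  rcases subsingleton_or_nontrivial (Localization.Away r.1) with hsub | hnt
  · haveI := Module.Free.of_subsingleton (FrobAlg.BaseChange p A B) (Localization.Away r.1)
    infer_instance
  · haveI : CharP (Localization.Away r.1) p := (CharP.charP_iff_prime_eq_zero hp).2 (by
      rw [← map_natCast (algebraMap B (Localization.Away r.1)), CharP.cast_eq_zero, map_zero])
    have hstd : Algebra.IsStandardSmooth A (Localization.Away r.1) := h r.1 r.2
    obtain ⟨n, g, hgC, hg⟩ := RingHom.IsStandardSmooth.exists_etale_mvPolynomial
      (RingHom.isStandardSmooth_algebraMap.2 hstd)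
    letI algP : Algebra (MvPolynomial (Fin n) A) (Localization.Away r.1) := g.toAlgebra
    haveI : IsScalarTower A (MvPolynomial (Fin n) A) (Localization.Away r.1) :=
      .of_algebraMap_eq' (by rw [RingHom.algebraMap_toAlgebra g, MvPolynomial.algebraMap_eq, hgC])
    haveI : Algebra.Etale (MvPolynomial (Fin n) A) (Localization.Away r.1) := hg
    have hflat : (FrobAlg.relFrob p A (Localization.Away r.1)).Flat :=
      Groth.Agent.H11.RelFrobTower.flat_tower p A (MvPolynomial (Fin n) A) (Localization.Away r.1)
        (Groth.Agent.H11.RelFrobPoly.flat_relFrob_mvPolynomial p A (Fin n))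
        (Groth.Agent.H11.RelFrobMainU.bijective_relFrob p (MvPolynomial (Fin n) A)
          (Localization.Away r.1))
    have hloc : (Algebra.TensorProduct.map (IsScalarTower.toAlgHom A B (Localization.Away r.1))
        (AlgHom.id A (FrobAlg.Twist p A))).toRingHom.Flat :=
      RingHom.Flat.tensorProductMap
        (RingHom.flat_algebraMap_iff.2 (IsLocalization.flat _ (Submonoid.powers r.1)))
        (RingHom.Flat.id _)
    have hcomp : (algebraMap B (Localization.Away r.1)).comp (FrobAlg.relFrob p A B) =
        (FrobAlg.relFrob p A (Localization.Away r.1)).comp
          (Algebra.TensorProduct.map (IsScalarTower.toAlgHom A B (Localization.Away r.1))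
            (AlgHom.id A (FrobAlg.Twist p A))).toRingHom := by
      refine RingHom.ext fun x => ?_
      induction x using TensorProduct.induction_on with
      | zero => rw [map_zero, map_zero]
      | add x y hx hy => rw [map_add, map_add, hx, hy]
      | tmul b a =>
        change algebraMap B (Localization.Away r.1) (FrobAlg.relFrob p A B (b ⊗ₜ a)) =
          FrobAlg.relFrob p A (Localization.Away r.1)
            (Algebra.TensorProduct.map (IsScalarTower.toAlgHom A B (Localization.Away r.1))
              (AlgHom.id A (FrobAlg.Twist p A)) (b ⊗ₜ a))
        rw [Algebra.TensorProduct.map_tmul, Groth.Agent.H11.RelFrobMainU.relFrob_tmul,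
          Groth.Agent.H11.RelFrobMainU.relFrob_tmul, map_mul, map_pow,
          ← IsScalarTower.algebraMap_apply]
        rfl
    have hfin : ((algebraMap B (Localization.Away r.1)).comp (FrobAlg.relFrob p A B)).Flat :=
      hcomp ▸ RingHom.Flat.comp hloc hflat
    dsimp only [RingHom.Flat] at hfin
    convert! hfin
    ext
    apply Algebra.smul_def

end Groth.Agent.S14036
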