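import Mathlib
import Groth.Agent.S14036
import Groth.Agent.H11.RelFrobBasis
import Groth.Agent.H11.RelFrobRank
import Groth.Agent.H11.RelFrobMainU
import Groth.Statements.S13999

set_option autoImplicit false
universe u
open FrobAlg

namespace Groth.Agent.S13999

/-- Let p be a prime, A a commutative ring of characteristic p and B a smooth A-algebra (of
characteristic p) such that the Kähler differentials Ω_{B/A} have rank r at every prime of B, i.e. B
is smooth of relative dimension r over A. Regard B as an algebra over its Frobenius twist B^{(p)} =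
B ⊗_{A,Frob} A through the relative Frobenius b ⊗ a ↦ b^p a. Then B is a finite projective
B^{(p)}-module whose rank at every prime of B^{(p)} is p^r: the relative Frobenius is finite and
locally free of rank p^r. -/
theorem result (p : ℕ) [Fact p.Prime]
    (A : Type u) [CommRing A] [CharP A p] (B : Type u) [CommRing B] [Algebra A B] [CharP B p]
    [Algebra.Smooth A B] (r : ℕ)
    (hr : ∀ q : PrimeSpectrum B, Module.rankAtStalk (R := B) (KaehlerDifferential A B) q = r) :
    letI := (FrobAlg.relFrob p A B).toAlgebra
    Module.Finite (FrobAlg.BaseChange p A B) B ∧ Module.Projective (FrobAlg.BaseChange p A B) B ∧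
      ∀ q : PrimeSpectrum (FrobAlg.BaseChange p A B),
        Module.rankAtStalk (R := FrobAlg.BaseChange p A B) B q = p ^ r := by

  have hp : p.Prime := Fact.out
  have hflat : (FrobAlg.relFrob p A B).Flat := Groth.Agent.S14036.result p A B
  letI algB : Algebra (FrobAlg.BaseChange p A B) B := (FrobAlg.relFrob p A B).toAlgebra
  haveI flatI : Module.Flat (FrobAlg.BaseChange p A B) B := hflat
  -- algebra structures over the twist
  letI algTA : Algebra (FrobAlg.Twist p A) A := ((FrobAlg.toTwist p A).symm.toRingHom).toAlgebra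
  letI algTB : Algebra (FrobAlg.Twist p A) B :=
    ((algebraMap A B).comp ((FrobAlg.toTwist p A).symm.toRingHom)).toAlgebra
  haveI : IsScalarTower (FrobAlg.Twist p A) A B := .of_algebraMap_eq' rfl
  haveI stT : @IsScalarTower (FrobAlg.Twist p A) (FrobAlg.BaseChange p A B) B
      Algebra.toSMul algB.toSMul algTB.toSMul :=
    .of_algebraMap_eq' (by
      refine RingHom.ext fun t => ?_
      change _ = FrobAlg.relFrob p A B (1 ⊗ₜ t)
      rw [Groth.Agent.H11.RelFrobMainU.relFrob_tmul, one_pow, one_mul]
      rfl)
  let eTA : FrobAlg.Twist p A ≃ₐ[FrobAlg.Twist p A] A :=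
    { (FrobAlg.toTwist p A).symm with commutes' := fun t => rfl }
  haveI : Algebra.FinitePresentation (FrobAlg.Twist p A) A := Algebra.FinitePresentation.equiv eTA
  haveI : Algebra.FinitePresentation A B := inferInstance
  haveI fpTB : Algebra.FinitePresentation (FrobAlg.Twist p A) B :=
    Algebra.FinitePresentation.trans (FrobAlg.Twist p A) A B
  haveI ftTB : Algebra.FiniteType (FrobAlg.Twist p A) B := inferInstance
  haveI ftTB' : Algebra.FiniteType (FrobAlg.Twist p A) (FrobAlg.BaseChange p A B) :=
    Algebra.FiniteType.equiv inferInstance (Algebra.TensorProduct.commRight A (FrobAlg.Twist p A) B)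
  haveI ftB'B : Algebra.FiniteType (FrobAlg.BaseChange p A B) B :=
    Algebra.FiniteType.of_restrictScalars_finiteType (FrobAlg.Twist p A) (FrobAlg.BaseChange p A B) B
  haveI intB'B : Algebra.IsIntegral (FrobAlg.BaseChange p A B) B := ⟨fun b => by
    refine ⟨Polynomial.X ^ p - Polynomial.C (b ⊗ₜ[A] (1 : FrobAlg.Twist p A)),
      Polynomial.monic_X_pow_sub_C _ hp.ne_zero, ?_⟩
    rw [Polynomial.eval₂_sub, Polynomial.eval₂_pow, Polynomial.eval₂_X, Polynomial.eval₂_C]
    change b ^ p - FrobAlg.relFrob p A B (b ⊗ₜ 1) = 0
    rw [Groth.Agent.H11.RelFrobMainU.relFrob_tmul, map_one, map_one, mul_one, sub_self]⟩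
  haveI finI : Module.Finite (FrobAlg.BaseChange p A B) B := Algebra.IsIntegral.finite
  haveI fpB'B : Algebra.FinitePresentation (FrobAlg.BaseChange p A B) B :=
    Algebra.FinitePresentation.of_restrict_scalars_finitePresentation (FrobAlg.Twist p A)
      (FrobAlg.BaseChange p A B) B
  haveI mfp : Module.FinitePresentation (FrobAlg.BaseChange p A B) B :=
    Module.FinitePresentation.of_finite_of_finitePresentation _ _
  refine ⟨finI, Module.Flat.projective_of_finitePresentation, ?_⟩
  intro q
  obtain ⟨s, hs, h⟩ := Algebra.Smooth.exists_span_eq_top_isStandardSmooth A B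
  -- find `f ∈ s` with `f ⊗ 1 ∉ q`
  obtain ⟨f, hfs, hfq⟩ : ∃ f ∈ s, (f ⊗ₜ[A] (1 : FrobAlg.Twist p A) : FrobAlg.BaseChange p A B) ∉
      q.asIdeal := by
    by_contra hcon
    push Not at hcon
    have h1 : Ideal.map (Algebra.TensorProduct.includeLeft : B →ₐ[A] FrobAlg.BaseChange p A B)
        (Ideal.span s) ≤ q.asIdeal := by
      rw [Ideal.map_span, Ideal.span_le]
      rintro _ ⟨f, hf, rfl⟩
      exact hcon f hf
    rw [hs, Ideal.map_top] at h1
    exact q.isPrime.ne_top (top_le_iff.1 h1)
  -- the localization is nontrivial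
  haveI hnt : Nontrivial (Localization.Away f) := by
    by_contra hn
    rw [not_nontrivial_iff_subsingleton] at hn
    have h0 : (0 : B) ∈ Submonoid.powers f := IsLocalization.subsingleton_iff.1 hn
    obtain ⟨k, hk⟩ := h0
    apply hfq
    refine q.isPrime.mem_of_pow_mem k ?_
    rw [Algebra.TensorProduct.tmul_pow, one_pow]
    change f ^ k = 0 at hk
    rw [hk, TensorProduct.zero_tmul]
    exact zero_mem _
  haveI : CharP (Localization.Away f) p := (CharP.charP_iff_prime_eq_zero hp).2 (by
    rw [← map_natCast (algebraMap B (Localization.Away f)), CharP.cast_eq_zero, map_zero])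
  have hstd : Algebra.IsStandardSmooth A (Localization.Away f) := h f hfs
  obtain ⟨n, g, hgC, hg⟩ := RingHom.IsStandardSmooth.exists_etale_mvPolynomial
    (RingHom.isStandardSmooth_algebraMap.2 hstd)
  letI algP : Algebra (MvPolynomial (Fin n) A) (Localization.Away f) := g.toAlgebra
  haveI : IsScalarTower A (MvPolynomial (Fin n) A) (Localization.Away f) :=
    .of_algebraMap_eq' (by rw [RingHom.algebraMap_toAlgebra g, MvPolynomial.algebraMap_eq, hgC])
  haveI : Algebra.Etale (MvPolynomial (Fin n) A) (Localization.Away f) := hg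
  have hbasis : Groth.Agent.H11.RelFrobBasis.HasBasis (FrobAlg.relFrob p A (Localization.Away f))
      (Fin n → Fin p) :=
    Groth.Agent.H11.RelFrobBasis.hasBasis_tower p A (MvPolynomial (Fin n) A) (Localization.Away f)
      (Groth.Agent.H11.RelFrobBasis.relFrob_mvPolynomial_hasBasis p A (Fin n))
      (Groth.Agent.H11.RelFrobMainU.bijective_relFrob p (MvPolynomial (Fin n) A)
        (Localization.Away f))
  have hrank := Groth.Agent.H11.RelFrobRank.rank_of_local p A B f (Localization.Away f) hflat finI
    (Fin n → Fin p) hbasis q hfq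
  rw [hrank, Fintype.card_fun, Fintype.card_fin, Fintype.card_fin]
  congr 1
  -- `n = r`
  let bΩ : Module.Basis (Fin n) (Localization.Away f) (Ω[Localization.Away f⁄A]) :=
    (Algebra.TensorProduct.basis (Localization.Away f)
      (KaehlerDifferential.mvPolynomialBasis A (Fin n))).map
      (KaehlerDifferential.tensorKaehlerEquivOfFormallyEtale A (MvPolynomial (Fin n) A)
        (Localization.Away f))
  haveI : Module.Free (Localization.Away f) (Ω[Localization.Away f⁄A]) := Module.Free.of_basis bΩ
  obtain ⟨m, hm⟩ := Ideal.exists_maximal (Localization.Away f)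
  let q₂ : PrimeSpectrum (Localization.Away f) := ⟨m, hm.isPrime⟩
  have hbc : IsBaseChange (Localization.Away f) (KaehlerDifferential.map A A B (Localization.Away f)) :=
    IsLocalizedModule.isBaseChange (Submonoid.powers f) (Localization.Away f) _
  have e1 := Module.rankAtStalk_isBaseChange hbc q₂
  have e2 : Module.rankAtStalk (R := Localization.Away f) (Ω[Localization.Away f⁄A]) q₂ = n := by
    rw [Module.rankAtStalk_eq_finrank_of_free]
    simp [Module.finrank_eq_card_basis bΩ]
  rw [e1, hr] at e2
  exact e2.symm

end Groth.Agent.S13999
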