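import Groth.Statements.S1400
import Mathlib
import Groth.Agent.S2340
import Groth.Agent.S2339
import Groth.Agent.S1396
set_option linter.style.haveILetI false

set_option autoImplicit false
universe u
open FlatMor

namespace Groth.Agent.S1400

section Aux

open CategoryTheory CategoryTheory.Limits AlgebraicGeometry

theorem bc_step {X S X' S' P : Scheme.{u}} (f : X ⟶ S) (f' : X' ⟶ S') (g' : X' ⟶ X) (g : S' ⟶ S)
    (hc : IsPullback g' f' f g) (hf : MoreMor.IsIndQuasiAffineHom f)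
    (V : S.Opens) (hV : IsAffineOpen V) (D : S'.Opens) (hD : IsAffineOpen D) (hDV : D ≤ g ⁻¹ᵁ V)
    (k : P ⟶ X') [IsOpenImmersion k] [CompactSpace P] (hk : ∀ p, f' (k p) ∈ D) :
    P.IsQuasiAffine := by
  haveI : IsAffine (V : Scheme.{u}) := hV
  haveI : IsAffine (D : Scheme.{u}) := hD
  have hKc : IsCompact (Set.range (k ≫ g')) := isCompact_range (k ≫ g').continuous
  obtain ⟨U₀s, hU₀c, hU₀o, hKU₀, hU₀V⟩ := PrespectralSpace.exists_isCompact_and_isOpen_between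
    hKc (f ⁻¹ᵁ V).2 (by
      rintro _ ⟨p, rfl⟩
      show f ((k ≫ g') p) ∈ V
      have h1 : f ((k ≫ g') p) = g (f' (k p)) := by
        rw [← Scheme.Hom.comp_apply, Category.assoc, hc.w]
        rfl
      rw [h1]
      exact hDV (hk p))
  obtain ⟨U₀, rfl⟩ : ∃ U₀ : X.Opens, (U₀ : Set X) = U₀s := ⟨⟨U₀s, hU₀o⟩, rfl⟩
  have hU₀le : U₀ ≤ f ⁻¹ᵁ V := hU₀V
  have hr := (Groth.Agent.S1396.result f).mp hf V hV.isCompact hV.isQuasiSeparated
    U₀ hU₀le hU₀c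
  have hbc := Groth.Agent.S2339.result (f.resLE V U₀ hU₀le) hr (g.resLE V D hDV)
  have h1 := hbc.2 ⊤ (isAffineOpen_top _)
  haveI : Scheme.IsQuasiAffine ((⊤ : (pullback (f.resLE V U₀ hU₀le)
      (g.resLE V D hDV)).Opens) : Scheme.{u}) := h1
  haveI : Scheme.IsQuasiAffine (pullback (f.resLE V U₀ hU₀le)
      (g.resLE V D hDV)) :=
    Scheme.IsQuasiAffine.of_isAffineHom (Scheme.topIso (pullback (f.resLE V U₀ hU₀le)
      (g.resLE V D hDV))).inv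
  have hr1 : Set.range (k ≫ g') ⊆ Set.range U₀.ι := by
    rw [Scheme.Opens.range_ι]; exact hKU₀
  have hr2 : Set.range (k ≫ f') ⊆ Set.range D.ι := by
    rw [Scheme.Opens.range_ι]
    rintro _ ⟨p, rfl⟩
    exact hk p
  have e₁ : f.resLE V U₀ hU₀le ≫ V.ι = U₀.ι ≫ f :=
    Scheme.Hom.resLE_comp_ι f hU₀le
  have e₂ : g.resLE V D hDV ≫ V.ι = D.ι ≫ g := Scheme.Hom.resLE_comp_ι g hDV
  have hcomm : IsOpenImmersion.lift U₀.ι (k ≫ g') hr1 ≫
      f.resLE V U₀ hU₀le =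
      IsOpenImmersion.lift D.ι (k ≫ f') hr2 ≫ g.resLE V D hDV := by
    rw [← cancel_mono V.ι]
    simp only [Category.assoc, e₁, e₂, IsOpenImmersion.lift_fac_assoc, hc.w]
  have hl : pullback.lift _ _ hcomm ≫
      (pullback.map (f.resLE V U₀ hU₀le) (g.resLE V D hDV) f g
        U₀.ι D.ι V.ι e₁ e₂ ≫ hc.isoPullback.inv) = k := by
    apply hc.hom_ext
    · simp only [Category.assoc, IsPullback.isoPullback_inv_fst, pullback.lift_fst,
        pullback.lift_fst_assoc, IsOpenImmersion.lift_fac]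
    · simp only [Category.assoc, IsPullback.isoPullback_inv_snd, pullback.lift_snd,
        pullback.lift_snd_assoc, IsOpenImmersion.lift_fac]
  haveI : IsOpenImmersion (pullback.lift _ _ hcomm ≫
      (pullback.map (f.resLE V U₀ hU₀le) (g.resLE V D hDV) f g
        U₀.ι D.ι V.ι e₁ e₂ ≫ hc.isoPullback.inv)) := by
    rw [hl]; infer_instance
  haveI : IsOpenImmersion (pullback.lift _ _ hcomm) :=
    IsOpenImmersion.of_comp _ (pullback.map (f.resLE V U₀ hU₀le)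
      (g.resLE V D hDV) f g U₀.ι D.ι V.ι e₁ e₂ ≫ hc.isoPullback.inv)
  exact Scheme.IsQuasiAffine.of_isImmersion (pullback.lift _ _ hcomm)

end Aux

open AlgebraicGeometry CategoryTheory Limits in
/-- The base change of an ind-quasi-affine morphism is ind-quasi-affine. -/
theorem result {X S X' S' : Scheme.{u}} (f : X ⟶ S) (f' : X' ⟶ S') (g' : X' ⟶ X) (g : S' ⟶ S)
    (hc : IsPullback g' f' f g) (hf : MoreMor.IsIndQuasiAffineHom f) : MoreMor.IsIndQuasiAffineHom f' := by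
  intro V' hV' U' hU'
  haveI : IsAffine (V' : Scheme.{u}) := hV'
  haveI : CompactSpace ↥(U' : Scheme.{u}) := isCompact_iff_compactSpace.mp hU'
  haveI : QuasiCompact (U'.ι ≫ (f' ∣_ V')) :=
    (quasiCompact_iff_compactSpace (U'.ι ≫ (f' ∣_ V'))).mpr inferInstance
  have hw : (U'.ι ≫ (f' ∣_ V')) ≫ V'.ι = (U'.ι ≫ (f' ⁻¹ᵁ V').ι) ≫ f' := by
    simp only [Category.assoc, morphismRestrict_ι]
  refine Groth.Agent.S2340.qa_local _ fun z => ?_
  obtain ⟨_, ⟨V, hV, rfl⟩, hyV, -⟩ := S.isBasis_affineOpens.exists_subset_of_mem_open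
    (Set.mem_univ (g (V'.ι ((U'.ι ≫ (f' ∣_ V')) z)))) isOpen_univ
  obtain ⟨h, hs1, hs2⟩ := hV'.exists_basicOpen_le (V := g ⁻¹ᵁ V)
    ⟨V'.ι ((U'.ι ≫ (f' ∣_ V')) z), hyV⟩ ((U'.ι ≫ (f' ∣_ V')) z).2
  have himg := Scheme.Opens.ι_image_basicOpen_topIso_inv V' h
  have hPeq : (U' : Scheme.{u}).basicOpen ((U'.ι ≫ (f' ∣_ V')).appTop (V'.topIso.inv h)) =
      (U'.ι ≫ (f' ∣_ V')) ⁻¹ᵁ ((V' : Scheme.{u}).basicOpen (V'.topIso.inv h)) :=
    (Scheme.preimage_basicOpen (U'.ι ≫ (f' ∣_ V')) (V'.topIso.inv h)).symm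
  refine ⟨(U'.ι ≫ (f' ∣_ V')).appTop (V'.topIso.inv h), ?_, ?_⟩
  · rw [hPeq]
    have h1 : V'.ι ((U'.ι ≫ (f' ∣_ V')) z) ∈
        V'.ι ''ᵁ (V' : Scheme.{u}).basicOpen (V'.topIso.inv h) := by
      rw [himg]; exact hs2
    obtain ⟨y', hy', hyz⟩ := h1
    have : y' = (U'.ι ≫ (f' ∣_ V')) z := Subtype.ext hyz
    show (U'.ι ≫ (f' ∣_ V')) z ∈ (V' : Scheme.{u}).basicOpen (V'.topIso.inv h)
    rw [← this]
    exact hy'
  · rw [hPeq]
    haveI : CompactSpace ↥(((U'.ι ≫ (f' ∣_ V')) ⁻¹ᵁ ((V' : Scheme.{u}).basicOpen (V'.topIso.inv h)) :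
        (U' : Scheme.{u}).Opens) : Scheme.{u}) :=
      isCompact_iff_compactSpace.mp ((U'.ι ≫ (f' ∣_ V')).isCompact_preimage
        ((isAffineOpen_top (V' : Scheme.{u})).basicOpen (V'.topIso.inv h)).isCompact)
    refine bc_step f f' g' g hc hf V hV (S'.basicOpen h) (hV'.basicOpen h) hs1
      (((U'.ι ≫ (f' ∣_ V')) ⁻¹ᵁ ((V' : Scheme.{u}).basicOpen (V'.topIso.inv h))).ι ≫
        U'.ι ≫ (f' ⁻¹ᵁ V').ι) fun p => ?_
    have h2 : f' ((((U'.ι ≫ (f' ∣_ V')) ⁻¹ᵁ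
        ((V' : Scheme.{u}).basicOpen (V'.topIso.inv h))).ι ≫ U'.ι ≫ (f' ⁻¹ᵁ V').ι) p) =
        V'.ι ((U'.ι ≫ (f' ∣_ V')) p.1) := by
      rw [← Scheme.Hom.comp_apply, Category.assoc, ← hw]
      rfl
    rw [h2, ← himg]
    exact ⟨_, p.2, rfl⟩

end Groth.Agent.S1400
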