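import Groth.Statements.S14000
import Mathlib

set_option autoImplicit false
universe u
open Perf

namespace Groth.Agent.S14000

theorem split_aux {R : Type u} [CommRing R] [IsLocalRing R] {M N : Type u}
    [AddCommGroup M] [Module R M] [AddCommGroup N] [Module R N]
    [Module.Finite R M] [Module.Projective R M] [Module.Finite R N] [Module.Projective R N]
    (f : M →ₗ[R] N) (hf : Function.Surjective f) :
    Module.Projective R (LinearMap.ker f) ∧ Module.Finite R (LinearMap.ker f) ∧
      Module.finrank R M = Module.finrank R (LinearMap.ker f) + Module.finrank R N := by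
  obtain ⟨σ, hσ⟩ := Module.projective_lifting_property f LinearMap.id hf
  have hσ' : ∀ y, f (σ y) = y := fun y => by
    have := LinearMap.congr_fun hσ y
    simpa using this
  have hmem : ∀ x, ((LinearMap.id : M →ₗ[R] M) - σ ∘ₗ f) x ∈ LinearMap.ker f := fun x => by
    simp [LinearMap.mem_ker, hσ']
  obtain ⟨r, hr0⟩ : ∃ r : M →ₗ[R] LinearMap.ker f,
      ∀ x, ((r x : LinearMap.ker f) : M) = x - σ (f x) :=
    ⟨((LinearMap.id : M →ₗ[R] M) - σ ∘ₗ f).codRestrict (LinearMap.ker f) hmem, fun x => by simp⟩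
  have hr : ∀ x : LinearMap.ker f, r x = x := by
    intro x
    apply Subtype.ext
    have hx : f x.1 = 0 := x.2
    rw [hr0, hx, map_zero, sub_zero]
  have hproj : Module.Projective R (LinearMap.ker f) :=
    Module.Projective.of_split (LinearMap.ker f).subtype r (LinearMap.ext fun x => by simp [hr])
  have hfin : Module.Finite R (LinearMap.ker f) :=
    Module.Finite.of_surjective r (fun x => ⟨x.1, hr x⟩)
  refine ⟨hproj, hfin, ?_⟩
  let e : M ≃ₗ[R] (LinearMap.ker f × N) :=
    { toFun := fun x => (r x, f x)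
      map_add' := fun x y => by simp
      map_smul' := fun c x => by simp
      invFun := fun p => p.1.1 + σ p.2
      left_inv := fun x => by
        show ((r x : LinearMap.ker f) : M) + σ (f x) = x
        rw [hr0]; abel
      right_inv := fun p => by
        obtain ⟨k, n⟩ := p
        have hk : f k.1 = 0 := k.2
        have h1 : f (k.1 + σ n) = n := by rw [map_add, hk, hσ', zero_add]
        have h2 : r (k.1 + σ n) = k := by
          apply Subtype.ext
          rw [hr0, h1, add_sub_cancel_right]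
        show (r (k.1 + σ n), f (k.1 + σ n)) = (k, n)
        rw [h1, h2] }
  haveI := hproj
  haveI := hfin
  haveI : Module.Free R (LinearMap.ker f) := Module.free_of_flat_of_isLocalRing
  haveI : Module.Free R N := Module.free_of_flat_of_isLocalRing
  rw [e.finrank_eq, Module.finrank_prod]

def QQ {R : Type u} [CommRing R] (M : ℤ → Type u) [∀ i, AddCommGroup (M i)]
    [∀ i, Module R (M i)] (d : ∀ i, M i →ₗ[R] M (i + 1)) (i : ℤ) : Prop :=
  Module.Projective R (LinearMap.ker (d i)) ∧ Module.Finite R (LinearMap.ker (d i))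

theorem euler_aux {R : Type u} [CommRing R] [IsLocalRing R] (M : ℤ → Type u)
    [∀ i, AddCommGroup (M i)] [∀ i, Module R (M i)]
    [∀ i, Module.Finite R (M i)] [∀ i, Module.Projective R (M i)]
    (d : ∀ i, M i →ₗ[R] M (i + 1))
    (hdd : ∀ i (x : M i), d (i + 1) (d i x) = 0)
    (hex : ∀ i (z : M (i + 1)), d (i + 1) z = 0 → ∃ y, d i y = z)
    (s : Finset ℤ) (hs : ∀ i, i ∉ s → Subsingleton (M i)) :
    (s.sum fun i => ((i.negOnePow : ℤˣ) : ℤ) * (Module.finrank R (M i) : ℤ)) = 0 := by
  have hsubK : ∀ i, i ∉ s → Subsingleton (LinearMap.ker (d i)) := fun i hi => by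
    haveI := hs i hi
    exact ⟨fun a b => Subtype.ext (Subsingleton.elim _ _)⟩
  have hQout : ∀ i, i ∉ s → QQ M d i := fun i hi => by
    haveI := hs i hi
    haveI := hsubK i hi
    exact ⟨Module.Projective.of_split (0 : LinearMap.ker (d i) →ₗ[R] M i)
        (0 : M i →ₗ[R] LinearMap.ker (d i)) (LinearMap.ext fun x => Subsingleton.elim _ _),
      Module.Finite.of_surjective (0 : M i →ₗ[R] LinearMap.ker (d i))
        (fun x => ⟨0, Subsingleton.elim _ _⟩)⟩
  have hQstep : ∀ i, QQ M d (i + 1) →
      QQ M d i ∧ Module.finrank R (M i) =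
        Module.finrank R (LinearMap.ker (d i)) + Module.finrank R (LinearMap.ker (d (i + 1))) := by
    intro i hQ
    haveI := hQ.1
    haveI := hQ.2
    have hmem : ∀ x, d i x ∈ LinearMap.ker (d (i + 1)) := fun x =>
      LinearMap.mem_ker.mpr (hdd i x)
    have hsurj : Function.Surjective ((d i).codRestrict (LinearMap.ker (d (i + 1))) hmem) := by
      intro z
      obtain ⟨y, hy⟩ := hex i z.1 (LinearMap.mem_ker.mp z.2)
      exact ⟨y, Subtype.ext hy⟩
    have h := split_aux ((d i).codRestrict (LinearMap.ker (d (i + 1))) hmem) hsurj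
    rw [LinearMap.ker_codRestrict] at h
    exact ⟨⟨h.1, h.2.1⟩, h.2.2⟩
  have hgen : ∀ j k : ℤ, j + 1 = k → QQ M d k → QQ M d j := by
    intro j k h hk
    subst h
    exact (hQstep j hk).1
  obtain ⟨b, hb⟩ := Finset.exists_le s
  have hnat : ∀ n : ℕ, ∀ i : ℤ, b + 1 - i ≤ (n : ℤ) → QQ M d i := by
    intro n
    induction n with
    | zero =>
      intro i hi
      apply hQout
      intro h
      have := hb _ h
      omega
    | succ n ih =>
      intro i hi
      exact hgen i (i + 1) rfl (ih (i + 1) (by omega))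
  have hQ : ∀ i, QQ M d i := by
    intro i
    exact hnat (b + 1 - i).toNat i (Int.self_le_toNat _)
  obtain ⟨z, hzdef⟩ : ∃ z : ℤ → ℤ, ∀ i, z i = (Module.finrank R (LinearMap.ker (d i)) : ℤ) :=
    ⟨_, fun _ => rfl⟩
  have hr : ∀ i, (Module.finrank R (M i) : ℤ) = z i + z (i + 1) := by
    intro i
    rw [hzdef, hzdef]
    exact_mod_cast (hQstep i (hQ (i + 1))).2
  have hznn : ∀ i, 0 ≤ z i := fun i => by rw [hzdef]; exact Int.natCast_nonneg _
  have hz : ∀ i, i ∉ s → z i = 0 := by
    intro i hi
    haveI := hsubK i hi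
    rw [hzdef, Module.finrank_zero_of_subsingleton, Nat.cast_zero]
  have hz' : ∀ i, i - 1 ∉ s → z i = 0 := by
    intro i hi
    haveI := hs (i - 1) hi
    have h1 := hr (i - 1)
    rw [Module.finrank_zero_of_subsingleton] at h1
    have h2 : i - 1 + 1 = i := by ring
    rw [h2] at h1
    have := hznn (i - 1)
    have := hznn i
    push_cast at h1
    omega
  obtain ⟨g, hg⟩ : ∃ g : ℤ → ℤ, ∀ i, g i = ((i.negOnePow : ℤˣ) : ℤ) * z i := ⟨_, fun _ => rfl⟩
  have h1 : ∑ i ∈ s, g i = ∑ j ∈ s ∪ s.image (· + 1), g j :=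
    Finset.sum_subset Finset.subset_union_left (fun j _ hj => by rw [hg, hz j hj, mul_zero])
  have h2 : ∑ j ∈ s.image (· + 1), g j = ∑ j ∈ s ∪ s.image (· + 1), g j :=
    Finset.sum_subset Finset.subset_union_right (fun j _ hj => by
      have : j - 1 ∉ s := fun h => hj (Finset.mem_image.mpr ⟨j - 1, h, sub_add_cancel j 1⟩)
      rw [hg, hz' j this, mul_zero])
  have h3 : ∑ j ∈ s.image (· + 1), g j = ∑ i ∈ s, g (i + 1) :=
    Finset.sum_image (fun a _ b _ h => by simpa using h)
  calc (s.sum fun i => ((i.negOnePow : ℤˣ) : ℤ) * (Module.finrank R (M i) : ℤ))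
      = ∑ i ∈ s, (g i - g (i + 1)) := Finset.sum_congr rfl (fun i _ => by
        rw [hr i, hg, hg, Int.negOnePow_succ, Units.val_neg]; ring)
    _ = ∑ i ∈ s, g i - ∑ i ∈ s, g (i + 1) := by rw [Finset.sum_sub_distrib]
    _ = 0 := by rw [← h3, h1, h2, sub_self]

open CategoryTheory CategoryTheory.Limits in
theorem keyH {A : Type u} [CommRing A] (P : CochainComplex (ModuleCat.{u} A) ℤ)
    (S : Submonoid A) (i : ℤ)
    (hsub : Subsingleton (LocalizedModule S (P.homology (i + 1))))
    (m : P.X (i + 1)) (hm : (P.d (i + 1) (i + 1 + 1)).hom m = 0) :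
    ∃ (v : S) (y : P.X i), (P.d i (i + 1)).hom y = (v : A) • m := by
  obtain ⟨k, hk1⟩ : ∃ k : ModuleCat.of A A ⟶ P.X (i + 1), k.hom (1 : A) = m :=
    ⟨ModuleCat.ofHom (LinearMap.toSpanSingleton A _ m), by simp⟩
  have hk : k ≫ P.d (i + 1) (i + 1 + 1) = 0 := by
    apply ModuleCat.hom_ext
    apply LinearMap.ext_ring
    simp [hk1, hm]
  obtain ⟨c, hc⟩ : ∃ c : ModuleCat.of A A ⟶ P.cycles (i + 1), c ≫ P.iCycles (i + 1) = k :=
    ⟨P.liftCycles k (i + 1 + 1) (by simp) hk, P.liftCycles_i k (i + 1 + 1) (by simp) hk⟩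
  obtain ⟨cm, hcm⟩ : ∃ cm : P.cycles (i + 1), (P.iCycles (i + 1)).hom cm = m := by
    refine ⟨c.hom (1 : A), ?_⟩
    have h2 : (c ≫ P.iCycles (i + 1)).hom (1 : A) = k.hom (1 : A) := by rw [hc]
    rw [hk1] at h2
    simpa using h2
  have h0 : LocalizedModule.mk ((P.homologyπ (i + 1)).hom cm) (1 : S) =
      LocalizedModule.mk (0 : P.homology (i + 1)) (1 : S) := Subsingleton.elim _ _
  obtain ⟨v, hv⟩ := LocalizedModule.mk_eq.mp h0
  have hv' : (P.homologyπ (i + 1)).hom ((v : A) • cm) = 0 := by
    have h3 : v • (1 : S) • ((P.homologyπ (i + 1)).hom cm) = 0 := by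
      rw [hv, smul_zero, smul_zero]
    rw [one_smul] at h3
    rw [map_smul]
    exact h3
  have hex : (ShortComplex.mk (P.toCycles i (i + 1)) (P.homologyπ (i + 1))
      (P.toCycles_comp_homologyπ i (i + 1))).Exact :=
    ShortComplex.exact_of_g_is_cokernel _ (P.homologyIsCokernel i (i + 1) (by simp))
  rw [ShortComplex.moduleCat_exact_iff] at hex
  obtain ⟨y, hy⟩ := hex ((v : A) • cm) hv'
  have hy' : (P.toCycles i (i + 1)).hom y = (v : A) • cm := hy
  refine ⟨v, y, ?_⟩
  have h5 : P.toCycles i (i + 1) ≫ P.iCycles (i + 1) = P.d i (i + 1) := P.toCycles_i i (i + 1)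
  have h6 : (P.d i (i + 1)).hom y = (P.iCycles (i + 1)).hom ((P.toCycles i (i + 1)).hom y) := by
    rw [← h5]; rfl
  rw [h6, hy', map_smul, hcm]

open CategoryTheory CategoryTheory.Limits in
theorem euler_at_prime {A : Type u} [CommRing A]
    (P : CochainComplex (ModuleCat.{u} A) ℤ) (s : Finset ℤ)
    (hP : ∀ i : ℤ, Module.Finite A (P.X i) ∧ Module.Projective A (P.X i))
    (hs : ∀ i : ℤ, i ∉ s → IsZero (P.X i))
    (q : PrimeSpectrum A)
    (hq : ∀ i : ℤ, Subsingleton (LocalizedModule q.asIdeal.primeCompl (P.homology i))) :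
    (s.sum fun i => ((i.negOnePow : ℤˣ) : ℤ) *
      (Module.rankAtStalk (R := A) (P.X i) q : ℤ)) = 0 := by
  haveI : ∀ i, Module.Finite A (P.X i) := fun i => (hP i).1
  haveI : ∀ i, Module.Projective A (P.X i) := fun i => (hP i).2
  have hdd' : ∀ (i : ℤ) (x : LocalizedModule q.asIdeal.primeCompl (P.X i)),
      LocalizedModule.map q.asIdeal.primeCompl (P.d (i + 1) (i + 1 + 1)).hom
        (LocalizedModule.map q.asIdeal.primeCompl (P.d i (i + 1)).hom x) = 0 := by
    intro i x
    induction x using LocalizedModule.induction_on with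
    | h m t =>
      rw [LocalizedModule.map_mk, LocalizedModule.map_mk]
      have h1 : (P.d (i + 1) (i + 1 + 1)).hom ((P.d i (i + 1)).hom m) = 0 := by
        have h2 := P.d_comp_d i (i + 1) (i + 1 + 1)
        have h3 : (P.d i (i + 1) ≫ P.d (i + 1) (i + 1 + 1)).hom m = (0 : P.X i ⟶ P.X (i + 1 + 1)).hom m := by
          rw [h2]
        simpa only [ModuleCat.hom_comp, LinearMap.comp_apply, ModuleCat.hom_zero, LinearMap.zero_apply] using h3
      rw [h1, LocalizedModule.zero_mk]
  have hex' : ∀ (i : ℤ) (z : LocalizedModule q.asIdeal.primeCompl (P.X (i + 1))),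
      LocalizedModule.map q.asIdeal.primeCompl (P.d (i + 1) (i + 1 + 1)).hom z = 0 →
      ∃ y : LocalizedModule q.asIdeal.primeCompl (P.X i),
        LocalizedModule.map q.asIdeal.primeCompl (P.d i (i + 1)).hom y = z := by
    intro i z hz
    induction z using LocalizedModule.induction_on with
    | h m t =>
      rw [LocalizedModule.map_mk] at hz
      have hz' : LocalizedModule.mk ((P.d (i + 1) (i + 1 + 1)).hom m) t =
          LocalizedModule.mk (0 : P.X (i + 1 + 1)) t := by rw [hz, LocalizedModule.zero_mk]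
      obtain ⟨u, hu⟩ := LocalizedModule.mk_eq.mp hz'
      have h3 : u • t • ((P.d (i + 1) (i + 1 + 1)).hom m) = 0 := by
        rw [hu, smul_zero, smul_zero]
      have hum : (P.d (i + 1) (i + 1 + 1)).hom (((u * t : q.asIdeal.primeCompl) : A) • m) = 0 := by
        rw [map_smul]
        have h4 : ((u * t : q.asIdeal.primeCompl) : A) • ((P.d (i + 1) (i + 1 + 1)).hom m) =
            u • t • ((P.d (i + 1) (i + 1 + 1)).hom m) := by
          simp only [Submonoid.smul_def, Submonoid.coe_mul, mul_smul]
        rw [h4, h3]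
      obtain ⟨v, y, hy⟩ := keyH P q.asIdeal.primeCompl i (hq (i + 1)) _ hum
      refine ⟨LocalizedModule.mk y (v * (u * t) * t), ?_⟩
      rw [LocalizedModule.map_mk, hy, LocalizedModule.mk_eq]
      refine ⟨1, ?_⟩
      simp only [Submonoid.smul_def, smul_smul, Submonoid.coe_mul, Submonoid.coe_one]
      congr 1
      ring
  have hs' : ∀ i : ℤ, i ∉ s → Subsingleton (LocalizedModule q.asIdeal.primeCompl (P.X i)) := by
    intro i hi
    haveI : Subsingleton (P.X i) := ModuleCat.subsingleton_of_isZero (hs i hi)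
    infer_instance
  have key := euler_aux (R := Localization.AtPrime q.asIdeal)
    (fun i => LocalizedModule q.asIdeal.primeCompl (P.X i))
    (fun i => LocalizedModule.map q.asIdeal.primeCompl (P.d i (i + 1)).hom) hdd' hex' s hs'
  exact key

open CategoryTheory CategoryTheory.Limits in
/-- Let A be a commutative ring and P a strictly perfect complex over A, that is a cochain complex of
finitely generated projective A-modules which is zero outside a finite set s of degrees. Suppose the
cohomological support of P has positive codimension: for every minimal prime q of A and every degree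
i the localization at q of the cohomology module H^i(P) is zero. Then the Euler characteristic of P
vanishes identically: at every prime of A the alternating sum over i ∈ s of the ranks of the P^i is
zero. -/
theorem result {A : Type u} [CommRing A]
    (P : CochainComplex (ModuleCat.{u} A) ℤ) (s : Finset ℤ)
    (hP : ∀ i : ℤ, Module.Finite A (P.X i) ∧ Module.Projective A (P.X i))
    (hs : ∀ i : ℤ, i ∉ s → IsZero (P.X i))
    (hsupp : ∀ q : PrimeSpectrum A, q.asIdeal ∈ minimalPrimes A →
      ∀ i : ℤ, Subsingleton (LocalizedModule q.asIdeal.primeCompl (P.homology i))) :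
    ∀ x : PrimeSpectrum A,
      (s.sum fun i => ((i.negOnePow : ℤˣ) : ℤ) * (Module.rankAtStalk (R := A) (P.X i) x : ℤ)) = 0 := by
  intro x
  obtain ⟨q, hqmin, hqx⟩ := Ideal.exists_minimalPrimes_le (bot_le : (⊥ : Ideal A) ≤ x.asIdeal)
  have hqprime : q.IsPrime := hqmin.1.1
  have hrank : ∀ i, Module.rankAtStalk (R := A) (P.X i) x =
      Module.rankAtStalk (R := A) (P.X i) (⟨q, hqprime⟩ : PrimeSpectrum A) := by
    intro i
    haveI : Module.Finite A (P.X i) := (hP i).1
    haveI : Module.Projective A (P.X i) := (hP i).2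
    haveI := Module.finitePresentation_of_projective A (P.X i)
    have hlc := Module.isLocallyConstant_rankAtStalk (R := A) (M := P.X i)
    have hle : (⟨q, hqprime⟩ : PrimeSpectrum A) ≤ x := hqx
    have hspec : (⟨q, hqprime⟩ : PrimeSpectrum A) ⤳ x :=
      (PrimeSpectrum.le_iff_specializes _ x).mp hle
    exact ((hspec.map hlc.continuous).eq).symm
  have key := euler_at_prime P s hP hs (⟨q, hqprime⟩ : PrimeSpectrum A)
    (hsupp (⟨q, hqprime⟩ : PrimeSpectrum A) hqmin)
  simp only [hrank]
  exact key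

end Groth.Agent.S14000
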