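import Groth.Statements.S14005
import Mathlib

set_option autoImplicit false
universe u
open CategoryTheory AlgebraicGeometry
open CohTop

namespace Groth.Agent.S14005

/-- Take a scheme X with a locally Noetherian underlying topological space, F a sheaf of abelian groups
on X, x a point of X and s an element of the stalk F_x. Then the following are equivalent: (i) s is
the germ of a section t over some open neighbourhood U of x whose support in U is contained in the
closure of {x} (that is, s belongs to the subgroup Γ_x(F) of F_x); (ii) for every generization y ≠ x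
of x the image of s under the cospecialisation map F_x → F_y is zero (that is, viewed as a global
section of the inverse image of F on Spec O_{X,x}, s is supported at the closed point). -/
theorem result {X : Scheme.{u}}
    (hX : ∀ x : X, ∃ U : X.Opens, x ∈ U ∧ TopologicalSpace.NoetherianSpace U)
    (F : TopCat.Sheaf AddCommGrpCat.{u} X.carrier) (x : X) (s : F.presheaf.stalk x) :
    (∃ (U : X.Opens) (hx : x ∈ U) (t : F.presheaf.obj (Opposite.op U)),
        F.presheaf.germ U x hx t = s ∧
          ∀ (u : X) (hu : u ∈ U), F.presheaf.germ U u hu t ≠ 0 → u ∈ closure ({x} : Set X)) ↔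
      ∀ (y : X) (h : y ⤳ x), y ≠ x → F.presheaf.stalkSpecializes h s = 0 := by
  classical
  constructor
  · rintro ⟨U, hx, t, rfl, hsupp⟩ y h hne
    have hy : y ∈ U := h.mem_open U.isOpen hx
    have e : F.presheaf.stalkSpecializes h (F.presheaf.germ U x hx t) =
        F.presheaf.germ U y hy t := by
      rw [← ConcreteCategory.comp_apply, TopCat.Presheaf.germ_stalkSpecializes]
    rw [e]
    by_contra hne0
    have hxy : x ⤳ y := specializes_iff_mem_closure.2 (hsupp y hy hne0)
    exact hne (h.antisymm hxy).eq
  · intro H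
    obtain ⟨U₀, hxU₀, hN⟩ := hX x
    obtain ⟨V₁, hxV₁, t₁, ht₁⟩ := TopCat.Presheaf.exists_germ_eq F.presheaf s
    let V : X.Opens := V₁ ⊓ U₀
    have hxV : x ∈ V := ⟨hxV₁, hxU₀⟩
    let t : F.presheaf.obj (Opposite.op V) :=
      F.presheaf.map (homOfLE (inf_le_left : V ≤ V₁)).op t₁
    have hts : F.presheaf.germ V x hxV t = s := by
      show F.presheaf.germ V x hxV (F.presheaf.map (homOfLE (inf_le_left : V ≤ V₁)).op t₁) = s
      rw [TopCat.Presheaf.germ_res_apply]; exact ht₁
    haveI hNV : TopologicalSpace.NoetherianSpace ↥V := by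
      have h1 := (TopologicalSpace.noetherianSpace_set_iff (U₀ : Set X)).1 hN
      exact (TopologicalSpace.noetherianSpace_set_iff (V : Set X)).2
        (fun T hT => h1 T (hT.trans (inf_le_right : V ≤ U₀)))
    haveI : QuasiSober ↥V := V.isOpen.isOpenEmbedding_subtypeVal.quasiSober
    have hspec : ∀ (y : X) (hy : y ∈ V) (h : y ⤳ x),
        F.presheaf.stalkSpecializes h s = F.presheaf.germ V y hy t := by
      intro y hy h
      have e : F.presheaf.stalkSpecializes h (F.presheaf.germ V x hxV t) =
          F.presheaf.germ V y hy t := by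
        rw [← ConcreteCategory.comp_apply, TopCat.Presheaf.germ_stalkSpecializes]
      rw [← e, hts]
    let Supp : Set ↥V := {v | F.presheaf.germ V v.1 v.2 t ≠ 0}
    have hSuppClosed : IsClosed Supp := by
      rw [← isOpen_compl_iff, isOpen_iff_forall_mem_open]
      intro v hv
      have hv0 : F.presheaf.germ V v.1 v.2 t = 0 := by
        by_contra h; exact hv h
      have hv1 : F.presheaf.germ V v.1 v.2 t =
          F.presheaf.germ V v.1 v.2 (0 : F.presheaf.obj (Opposite.op V)) := by
        rw [hv0, map_zero]
      obtain ⟨W, hvW, iU, iV, hW⟩ := TopCat.Presheaf.germ_eq F.presheaf v.1 v.2 v.2 t 0 hv1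
      refine ⟨Subtype.val ⁻¹' (W : Set X), ?_, W.isOpen.preimage continuous_subtype_val, hvW⟩
      intro u hu hu'
      apply hu'
      have hu1 : u.1 ∈ W := hu
      have := TopCat.Presheaf.germ_res_apply F.presheaf iU u.1 hu1 t
      show F.presheaf.germ V u.1 u.2 t = 0
      rw [← this, hW, map_zero, map_zero]
    let C : Set ↥V := {v | x ⤳ v.1}
    have hCclosed : IsClosed C := by
      have : C = Subtype.val ⁻¹' (closure ({x} : Set X)) := by
        ext v; exact specializes_iff_mem_closure
      rw [this]; exact isClosed_closure.preimage continuous_subtype_val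
    let W' : Set ↥V := Supp \ C
    have hclW : closure W' ⊆ Supp := closure_minimal Set.sdiff_subset hSuppClosed
    have hxW : (⟨x, hxV⟩ : ↥V) ∉ closure W' := by
      intro hx'
      obtain ⟨S, hSfin, hSclosed, hSirr, hS⟩ :=
        TopologicalSpace.NoetherianSpace.exists_finite_set_isClosed_irreducible
          (isClosed_closure (s := W'))
      let S' : Set (Set ↥V) := {T ∈ S | ¬ T ⊆ C}
      have hS'fin : S'.Finite := hSfin.subset (Set.sep_subset _ _)
      have hS'closed : IsClosed (⋃₀ S') := by
        rw [Set.sUnion_eq_biUnion]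
        exact hS'fin.isClosed_biUnion (fun T hT => hSclosed T hT.1)
      have hW'S' : W' ⊆ ⋃₀ S' := by
        intro w hw
        have hw1 : w ∈ ⋃₀ S := by rw [← hS]; exact subset_closure hw
        obtain ⟨T, hT, hwT⟩ := hw1
        exact ⟨T, ⟨hT, fun hTC => hw.2 (hTC hwT)⟩, hwT⟩
      obtain ⟨T, ⟨hTS, hTC⟩, hxT⟩ := closure_minimal hW'S' hS'closed hx'
      obtain ⟨z, hz⟩ := QuasiSober.sober (hSirr T hTS) (hSclosed T hTS)
      have hzx : z ⤳ (⟨x, hxV⟩ : ↥V) := hz.specializes hxT
      have hzx' : z.1 ⤳ x := hzx.map continuous_subtype_val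
      have hzT : z ∈ T := hz.mem
      have hzcl : z ∈ closure W' := by rw [hS]; exact ⟨T, hTS, hzT⟩
      have hzSupp : z ∈ Supp := hclW hzcl
      have hzeq : z.1 = x := by
        by_contra hne
        have h0 := H z.1 hzx' hne
        rw [hspec z.1 z.2 hzx'] at h0
        exact hzSupp h0
      apply hTC
      intro v hvT
      have hzv : z ⤳ v := hz.specializes hvT
      have h2 : z.1 ⤳ v.1 := hzv.map continuous_subtype_val
      show x ⤳ v.1
      rw [← hzeq]; exact h2
    have hOopen : IsOpen (Subtype.val '' (closure W')ᶜ : Set X) :=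
      V.isOpen.isOpenMap_subtype_val _ isClosed_closure.isOpen_compl
    let U : X.Opens := ⟨Subtype.val '' (closure W')ᶜ, hOopen⟩
    have hUV : U ≤ V := by
      rintro _ ⟨v, _, rfl⟩; exact v.2
    have hxU : x ∈ U := ⟨⟨x, hxV⟩, hxW, rfl⟩
    refine ⟨U, hxU, F.presheaf.map (homOfLE hUV).op t, ?_, ?_⟩
    · rw [TopCat.Presheaf.germ_res_apply]; exact hts
    · intro u hu hne
      rw [TopCat.Presheaf.germ_res_apply] at hne
      have ⟨v, hv, hvu⟩ := (hu : u ∈ Subtype.val '' (closure W')ᶜ)
      subst hvu
      have hvS : v ∈ Supp := hne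
      have hvW : v ∉ W' := fun h => hv (subset_closure h)
      have hvC : v ∈ C := by
        by_contra hC; exact hvW ⟨hvS, hC⟩
      exact specializes_iff_mem_closure.1 hvC

end Groth.Agent.S14005
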