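import Groth.Statements.S1401
import Mathlib
import Groth.Agent.S1127
set_option linter.style.haveILetI false

set_option autoImplicit false
universe u
open FlatMor

namespace Groth.Agent.S1401

open AlgebraicGeometry CategoryTheory Limits in
/-- Let S' → S be flat, surjective and quasi-compact and let f' be the base change of f : X → S to S'.
If f' is ind-quasi-affine then so is f. -/
theorem result {X S X' S' : Scheme.{u}} (f : X ⟶ S) (f' : X' ⟶ S') (g' : X' ⟶ X) (g : S' ⟶ S)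
    [Flat g] [Surjective g] [QuasiCompact g] (hc : IsPullback g' f' f g) (hf' : MoreMor.IsIndQuasiAffineHom f') : MoreMor.IsIndQuasiAffineHom f := by
  intro V hV U hU
  haveI : IsAffine (V : Scheme.{u}) := hV
  haveI : CompactSpace ↥(U : Scheme.{u}) := isCompact_iff_compactSpace.mp hU
  haveI : Surjective (g ∣_ V) := MorphismProperty.of_isPullback (P := @Surjective)
    (isPullback_morphismRestrict g V).flip inferInstance
  haveI : Flat (g ∣_ V) := MorphismProperty.of_isPullback (P := @Flat)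
    (isPullback_morphismRestrict g V).flip inferInstance
  haveI : QuasiCompact (g ∣_ V) := MorphismProperty.of_isPullback (P := @QuasiCompact)
    (isPullback_morphismRestrict g V).flip inferInstance
  haveI : QuasiCompact (U.ι ≫ (f ∣_ V)) :=
    (quasiCompact_iff_compactSpace (U.ι ≫ (f ∣_ V))).mpr inferInstance
  have claim : Mor2.IsQuasiAffine (U.ι ≫ (f ∣_ V)) := by
    refine (Groth.Agent.S1127.result.{u}).of_isPullback
      (IsPullback.of_hasPullback (U.ι ≫ (f ∣_ V)) (g ∣_ V)).flip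
      ⟨⟨inferInstance, inferInstance⟩, inferInstance⟩ ?_
    show Mor2.IsQuasiAffine (pullback.snd (U.ι ≫ (f ∣_ V)) (g ∣_ V))
    refine ⟨inferInstance, fun W' hW' => ?_⟩
    have e₁ : (U.ι ≫ (f ∣_ V)) ≫ V.ι = (U.ι ≫ (f ⁻¹ᵁ V).ι) ≫ f := by
      simp only [Category.assoc, morphismRestrict_ι]
    have e₂ : (g ∣_ V) ≫ V.ι = (g ⁻¹ᵁ V).ι ≫ g := morphismRestrict_ι g V
    have hm : (pullback.map (U.ι ≫ (f ∣_ V)) (g ∣_ V) f g (U.ι ≫ (f ⁻¹ᵁ V).ι) (g ⁻¹ᵁ V).ι V.ι e₁ e₂ ≫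
        hc.isoPullback.inv) ≫ f' = pullback.snd (U.ι ≫ (f ∣_ V)) (g ∣_ V) ≫ (g ⁻¹ᵁ V).ι := by
      simp only [Category.assoc, IsPullback.isoPullback_inv_snd, pullback.lift_snd]
    generalize hmdef : pullback.map (U.ι ≫ (f ∣_ V)) (g ∣_ V) f g (U.ι ≫ (f ⁻¹ᵁ V).ι) (g ⁻¹ᵁ V).ι V.ι
      e₁ e₂ ≫ hc.isoPullback.inv = m at hm
    haveI : IsOpenImmersion m := by rw [← hmdef]; infer_instance
    haveI : CompactSpace ↥((pullback.snd (U.ι ≫ (f ∣_ V)) (g ∣_ V) ⁻¹ᵁ W' :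
        (pullback (U.ι ≫ (f ∣_ V)) (g ∣_ V)).Opens) : Scheme.{u}) :=
      isCompact_iff_compactSpace.mp
        ((pullback.snd (U.ι ≫ (f ∣_ V)) (g ∣_ V)).isCompact_preimage hW'.isCompact)
    have hW'' : IsAffineOpen ((g ⁻¹ᵁ V).ι ''ᵁ W') := hW'.image_of_isOpenImmersion _
    have hrange : Set.range ((pullback.snd (U.ι ≫ (f ∣_ V)) (g ∣_ V) ⁻¹ᵁ W').ι ≫ m) ⊆
        Set.range (f' ⁻¹ᵁ ((g ⁻¹ᵁ V).ι ''ᵁ W')).ι := by
      rw [Scheme.Opens.range_ι]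
      rintro _ ⟨p, rfl⟩
      show f' (((pullback.snd (U.ι ≫ (f ∣_ V)) (g ∣_ V) ⁻¹ᵁ W').ι ≫ m) p) ∈ (g ⁻¹ᵁ V).ι ''ᵁ W'
      have : f' (((pullback.snd (U.ι ≫ (f ∣_ V)) (g ∣_ V) ⁻¹ᵁ W').ι ≫ m) p) =
          (g ⁻¹ᵁ V).ι ((pullback.snd (U.ι ≫ (f ∣_ V)) (g ∣_ V)) p.1) := by
        rw [← Scheme.Hom.comp_apply, Category.assoc, hm]
        rfl
      rw [this]
      exact ⟨_, p.2, rfl⟩
    have hj := IsOpenImmersion.lift_fac (f' ⁻¹ᵁ ((g ⁻¹ᵁ V).ι ''ᵁ W')).ι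
      ((pullback.snd (U.ι ≫ (f ∣_ V)) (g ∣_ V) ⁻¹ᵁ W').ι ≫ m) hrange
    generalize IsOpenImmersion.lift (f' ⁻¹ᵁ ((g ⁻¹ᵁ V).ι ''ᵁ W')).ι
      ((pullback.snd (U.ι ≫ (f ∣_ V)) (g ∣_ V) ⁻¹ᵁ W').ι ≫ m) hrange = j at hj
    haveI : IsOpenImmersion (j ≫ (f' ⁻¹ᵁ ((g ⁻¹ᵁ V).ι ''ᵁ W')).ι) := by rw [hj]; infer_instance
    haveI : IsOpenImmersion j := IsOpenImmersion.of_comp j (f' ⁻¹ᵁ ((g ⁻¹ᵁ V).ι ''ᵁ W')).ι
    have hqa := hf' _ hW'' j.opensRange (isCompact_range j.continuous)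
    haveI := hqa
    exact Scheme.IsQuasiAffine.of_isAffineHom j.isoOpensRange.hom
  have h2 := claim.2 ⊤ (isAffineOpen_top _)
  haveI : Scheme.IsQuasiAffine ((⊤ : (U : Scheme.{u}).Opens) : Scheme.{u}) := h2
  exact Scheme.IsQuasiAffine.of_isAffineHom (Scheme.topIso (U : Scheme.{u})).inv

end Groth.Agent.S1401
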