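import Groth.Statements.S14018
import Mathlib

set_option autoImplicit false
open CategoryTheory CategoryTheory.Limits Opposite
universe w v u
open CohSite

namespace Groth.Agent.S14018

section helpers

noncomputable def tseq {G : ℕᵒᵖ ⥤ Type w}
    (hG : ∀ n, Function.Surjective (G.map (homOfLE (Nat.le_succ n)).op)) (n : ℕ)
    (a : G.obj (op n)) : (k : ℕ) → G.obj (op (n + k))
  | 0 => a
  | k + 1 => (hG (n + k) (tseq hG n a k)).choose

theorem tseq_succ {G : ℕᵒᵖ ⥤ Type w}
    (hG : ∀ n, Function.Surjective (G.map (homOfLE (Nat.le_succ n)).op)) (n : ℕ)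
    (a : G.obj (op n)) (k : ℕ) :
    G.map (homOfLE (Nat.le_succ (n + k))).op (tseq hG n a (k + 1)) = tseq hG n a k :=
  (hG (n + k) (tseq hG n a k)).choose_spec

theorem tseq_comp {G : ℕᵒᵖ ⥤ Type w}
    (hG : ∀ n, Function.Surjective (G.map (homOfLE (Nat.le_succ n)).op)) (n : ℕ)
    (a : G.obj (op n)) (k k' : ℕ) (h : k ≤ k') :
    G.map (homOfLE (Nat.add_le_add_left h n)).op (tseq hG n a k') = tseq hG n a k := by
  induction h with
  | refl =>
    have : (homOfLE (Nat.add_le_add_left (le_refl k) n)).op = 𝟙 (op (n + k)) :=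
      Subsingleton.elim _ _
    rw [this, FunctorToTypes.map_id_apply]
  | @step p h ih =>
    have e : (homOfLE (Nat.add_le_add_left (Nat.le.step h) n)).op =
        (homOfLE (Nat.le_succ (n + p))).op ≫ (homOfLE (Nat.add_le_add_left h n)).op :=
      Subsingleton.elim _ _
    rw [e, FunctorToTypes.map_comp_apply, tseq_succ, ih]

theorem surj_pi {G : ℕᵒᵖ ⥤ Type w} {c : Cone G} (hc : IsLimit c)
    (hG : ∀ n, Function.Surjective (G.map (homOfLE (Nat.le_succ n)).op)) (n : ℕ) :
    Function.Surjective (c.π.app (op n)) := by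
  intro a
  let s : (j : ℕᵒᵖ) → G.obj j := fun j =>
    G.map (homOfLE (Nat.le_add_left j.unop n)).op (tseq hG n a j.unop)
  have hs : s ∈ G.sections := by
    intro j j' f
    have hle : j'.unop ≤ j.unop := leOfHom f.unop
    show G.map f (G.map (homOfLE (Nat.le_add_left j.unop n)).op (tseq hG n a j.unop)) =
      G.map (homOfLE (Nat.le_add_left j'.unop n)).op (tseq hG n a j'.unop)
    rw [← tseq_comp hG n a j'.unop j.unop hle, ← FunctorToTypes.map_comp_apply,
      ← FunctorToTypes.map_comp_apply]
    exact congrArg (fun φ => G.map φ (tseq hG n a j.unop)) (Subsingleton.elim _ _)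
  refine ⟨(Types.isLimitEquivSections hc).symm ⟨s, hs⟩, ?_⟩
  rw [Types.isLimitEquivSections_symm_apply]
  exact tseq_comp hG n a 0 n (Nat.zero_le n)

end helpers

/-- Let (C, J) be a site with enough weakly contractible objects — every object V has a covering sieve
all of whose arrows factor through some weakly contractible object, an object U being weakly
contractible when every epimorphism of sheaves of sets (valued in a fixed universe) is surjective on
sections over U. Then the topos of sheaves of sets is replete: if (F_n) is an inverse system of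
sheaves of sets indexed by ℕ with every transition map F_(n+1) ⟶ F_n an epimorphism, then each
projection lim_n F_n ⟶ F_n is an epimorphism; the limit is taken as any limit cone. (The small
pro-étale site of a scheme is such a site.) -/
theorem result
    {C : Type u} [Category.{v} C] (J : GrothendieckTopology C)
    (hwc : ∀ V : C, ∃ S : Sieve V, S ∈ J V ∧ ∀ ⦃W : C⦄ (f : W ⟶ V), S.arrows f →
      ∃ (U : C) (g : W ⟶ U) (h : U ⟶ V), (∀ (A B : Sheaf J (Type w)) (ψ : A ⟶ B), Epi ψ → Function.Surjective (ψ.hom.app (op U))) ∧ g ≫ h = f)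
    (F : ℕᵒᵖ ⥤ Sheaf J (Type w))
    (hF : ∀ n : ℕ, Epi (F.map (homOfLE (Nat.le_succ n)).op))
    (c : Cone F) (hc : IsLimit c) (n : ℕ) :
    Epi (c.π.app (op n)) := by
  haveI : Sheaf.IsLocallySurjective (c.π.app (op n)) := by
    refine ⟨fun {V} s => ?_⟩
    obtain ⟨S, hS, hfac⟩ := hwc V
    refine J.superset_covering ?_ hS
    intro W f hf
    obtain ⟨U, g, h, hU, rfl⟩ := hfac f hf
    let E : Sheaf J (Type w) ⥤ Type w :=
      sheafToPresheaf J (Type w) ⋙ (evaluation Cᵒᵖ (Type w)).obj (op U)
    have hlim : IsLimit (E.mapCone c) := isLimitOfPreserves E hc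
    have hsurj : ∀ m, Function.Surjective ((F ⋙ E).map (homOfLE (Nat.le_succ m)).op) :=
      fun m => hU _ _ _ (hF m)
    obtain ⟨t', ht'⟩ := surj_pi hlim hsurj n ((F.obj (op n)).obj.map h.op s)
    refine ⟨c.pt.obj.map g.op t', ?_⟩
    show (c.π.app (op n)).hom.app (op W) (c.pt.obj.map g.op t') =
      (F.obj (op n)).obj.map (g ≫ h).op s
    have h1 : (c.π.app (op n)).hom.app (op W) (c.pt.obj.map g.op t') =
        (F.obj (op n)).obj.map g.op ((c.π.app (op n)).hom.app (op U) t') :=
      NatTrans.naturality_apply (c.π.app (op n)).hom g.op t'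
    have h2 : (c.π.app (op n)).hom.app (op U) t' = (F.obj (op n)).obj.map h.op s := ht'
    rw [h1, h2, op_comp, FunctorToTypes.map_comp_apply]
  infer_instance

end Groth.Agent.S14018
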