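import Groth.Statements.S14020
import Mathlib

set_option autoImplicit false
universe u
open CAlg

namespace Groth.Agent.S14020

/-- Let R be a commutative ring and I a finitely generated ideal such that the quotient ring R/I is
artinian. Then R/I^n is artinian for every n. -/
theorem result
    (R : Type u) [CommRing R] (I : Ideal R) (hI : I.FG) [IsArtinianRing (R ⧸ I)] (n : ℕ) :
    IsArtinianRing (R ⧸ I ^ n) := by
  -- a finitely generated R-module killed by I is Artinian over R
  have aux : ∀ (M : Type u) [AddCommGroup M] [Module R M], Module.Finite R M →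
      Module.IsTorsionBySet R M I → IsArtinian R M := by
    intro M _ _ hfin htors
    letI := htors.module
    haveI : IsScalarTower R (R ⧸ I) M := htors.isScalarTower
    haveI : Module.Finite (R ⧸ I) M := Module.Finite.of_restrictScalars_finite R (R ⧸ I) M
    haveI : IsArtinian (R ⧸ I) M := isArtinian_of_fg_of_artinian' (R := R ⧸ I) (M := M)
    exact isArtinian_of_surjective_algebraMap (R := R ⧸ I) (S := R) (M := M)
      Ideal.Quotient.mk_surjective
  have key : ∀ n : ℕ, IsArtinian R (R ⧸ I ^ n) := by
    intro n
    induction n with
    | zero =>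
      have : Subsingleton (R ⧸ I ^ 0) := by
        rw [pow_zero, Ideal.one_eq_top]
        exact Ideal.Quotient.subsingleton_iff.mpr rfl
      exact isArtinian_of_finite
    | succ n ih =>
      have hle : I ^ (n + 1) ≤ I ^ n := Ideal.pow_le_pow_right (Nat.le_succ n)
      let g : (R ⧸ I ^ (n + 1)) →ₗ[R] (R ⧸ I ^ n) := Submodule.factor hle
      let K : Submodule R (R ⧸ I ^ (n + 1)) := Submodule.map (I ^ (n + 1)).mkQ (I ^ n)
      have hK : LinearMap.range K.subtype = LinearMap.ker g := by
        rw [Submodule.range_subtype]
        ext x
        obtain ⟨r, rfl⟩ := Submodule.mkQ_surjective _ x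
        simp only [K, g, Submodule.mem_map, LinearMap.mem_ker]
        constructor
        · rintro ⟨y, hy, hyr⟩
          rw [← hyr]
          simp only [Submodule.mkQ_apply, Submodule.factor_mk]
          exact (Submodule.Quotient.mk_eq_zero _).mpr hy
        · intro h
          simp only [Submodule.mkQ_apply, Submodule.factor_mk] at h
          exact ⟨r, (Submodule.Quotient.mk_eq_zero _).mp h, rfl⟩
      have hfin : Module.Finite R K := by
        rw [Module.Finite.iff_fg]
        exact Submodule.FG.map _ (Submodule.FG.pow hI n)
      have htors : Module.IsTorsionBySet R K I := by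
        rintro ⟨x, hx⟩ ⟨a, ha⟩
        obtain ⟨r, hr, rfl⟩ := hx
        ext
        simp only [Submodule.coe_smul, Submodule.mkQ_apply, ZeroMemClass.coe_zero]
        rw [← Submodule.Quotient.mk_smul, Submodule.Quotient.mk_eq_zero, smul_eq_mul, pow_succ']
        exact Ideal.mul_mem_mul ha hr
      haveI := aux K hfin htors
      exact isArtinian_of_range_eq_ker K.subtype g hK
  exact isArtinian_of_tower R (key n)

end Groth.Agent.S14020
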