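import Groth.Statements.S14023
import Mathlib

set_option autoImplicit false
open CategoryTheory CategoryTheory.Limits Opposite
universe v u
open ARSys

namespace Groth.Agent.S14023


section helpers

open Limits Opposite

variable {A : Type u} [Category.{v} A] [Abelian A]

/-- objects of the tower `I 0 ← I 0 ⊞ I 1 ← ...` -/
noncomputable def Jobj (I : ℕ → A) : ℕ → A
  | 0 => I 0
  | (n + 1) => Jobj I n ⊞ I (n + 1)

/-- the tower as a functor -/
noncomputable def Jfun (I : ℕ → A) : ℕᵒᵖ ⥤ A :=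
  Functor.ofOpSequence (X := Jobj I)
    (fun n => (biprod.fst : Jobj I n ⊞ I (n + 1) ⟶ Jobj I n))

theorem Jfun_map (I : ℕ → A) (n : ℕ) :
    (Jfun I).map (homOfLE (Nat.le_add_right n 1)).op =
      (biprod.fst : Jobj I n ⊞ I (n + 1) ⟶ Jobj I n) :=
  Functor.ofOpSequence_map_homOfLE_succ _ n

/-- the embedding, levelwise -/
noncomputable def emb (M : ℕᵒᵖ ⥤ A) (I : ℕ → A) (ι : ∀ n, M.obj (op n) ⟶ I n) :
    ∀ n, M.obj (op n) ⟶ Jobj I n
  | 0 => ι 0
  | (n + 1) => biprod.lift (M.map (homOfLE (Nat.le_add_right n 1)).op ≫ emb M I ι n) (ι (n + 1))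

theorem emb_mono (M : ℕᵒᵖ ⥤ A) (I : ℕ → A) (ι : ∀ n, M.obj (op n) ⟶ I n)
    (hι : ∀ n, Mono (ι n)) : ∀ n, Mono (emb M I ι n)
  | 0 => hι 0
  | (n + 1) => by
    haveI := hι (n + 1)
    have e : emb M I ι (n + 1) ≫ (biprod.snd : Jobj I n ⊞ I (n + 1) ⟶ I (n + 1)) = ι (n + 1) :=
      biprod.lift_snd _ _
    exact mono_of_mono_fac e

/-- the embedding as a natural transformation -/
noncomputable def embNat (M : ℕᵒᵖ ⥤ A) (I : ℕ → A) (ι : ∀ n, M.obj (op n) ⟶ I n) :
    M ⟶ Jfun I :=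
  NatTrans.ofOpSequence (fun n => emb M I ι n) (fun n =>
    ((congrArg (fun φ => emb M I ι (n + 1) ≫ φ) (Jfun_map I n)).trans
      (biprod.lift_fst _ _)).symm)

/-- the levelwise extension -/
noncomputable def extn (I : ℕ → A) [∀ n, Injective (I n)] {X Y : ℕᵒᵖ ⥤ A} (g : X ⟶ Jfun I)
    (f : X ⟶ Y) [∀ n : ℕ, Mono (f.app (op n))] : ∀ n, Y.obj (op n) ⟶ Jobj I n
  | 0 => Injective.factorThru (J := I 0) (g.app (op 0)) (f.app (op 0))
  | (n + 1) => biprod.lift (Y.map (homOfLE (Nat.le_add_right n 1)).op ≫ extn I g f n)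
      (Injective.factorThru (J := I (n + 1))
        (g.app (op (n + 1)) ≫ (biprod.snd : Jobj I n ⊞ I (n + 1) ⟶ I (n + 1)))
        (f.app (op (n + 1))))

theorem fac_step {X1 X0 Y1 Y0 P Q : A} (f1 : X1 ⟶ Y1) (f0 : X0 ⟶ Y0) (x : X1 ⟶ X0) (y : Y1 ⟶ Y0)
    (hxy : f1 ≫ y = x ≫ f0) (e0 : Y0 ⟶ P) (g0 : X0 ⟶ P) (h0 : f0 ≫ e0 = g0)
    (g1 : X1 ⟶ P ⊞ Q) (hg : g1 ≫ biprod.fst = x ≫ g0) (s : Y1 ⟶ Q)
    (hs : f1 ≫ s = g1 ≫ biprod.snd) :
    f1 ≫ biprod.lift (y ≫ e0) s = g1 := by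
  apply biprod.hom_ext
  · rw [Category.assoc, biprod.lift_fst, ← Category.assoc, hxy, Category.assoc, h0, hg]
  · rw [Category.assoc, biprod.lift_snd, hs]

theorem extn_fac (I : ℕ → A) [∀ n, Injective (I n)] {X Y : ℕᵒᵖ ⥤ A} (g : X ⟶ Jfun I)
    (f : X ⟶ Y) [∀ n : ℕ, Mono (f.app (op n))] :
    ∀ n, f.app (op n) ≫ extn I g f n = g.app (op n)
  | 0 => Injective.comp_factorThru (J := I 0) (g.app (op 0)) (f.app (op 0))
  | (n + 1) => by
    have ih := extn_fac I g f n
    have nat_f : f.app (op (n + 1)) ≫ Y.map (homOfLE (Nat.le_add_right n 1)).op =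
        X.map (homOfLE (Nat.le_add_right n 1)).op ≫ f.app (op n) := (f.naturality _).symm
    have nat_g : g.app (op (n + 1)) ≫ (biprod.fst : Jobj I n ⊞ I (n + 1) ⟶ Jobj I n) =
        X.map (homOfLE (Nat.le_add_right n 1)).op ≫ g.app (op n) :=
      (congrArg (fun φ => g.app (op (n + 1)) ≫ φ) (Jfun_map I n)).symm.trans
        (g.naturality _).symm
    exact fac_step (P := Jobj I n) (Q := I (n + 1)) (f.app (op (n + 1))) (f.app (op n))
      (X.map (homOfLE (Nat.le_add_right n 1)).op) (Y.map (homOfLE (Nat.le_add_right n 1)).op)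
      nat_f (extn I g f n) (g.app (op n)) ih (g.app (op (n + 1))) nat_g
      (Injective.factorThru (J := I (n + 1))
        (g.app (op (n + 1)) ≫ (biprod.snd : Jobj I n ⊞ I (n + 1) ⟶ I (n + 1)))
        (f.app (op (n + 1))))
      (Injective.comp_factorThru (J := I (n + 1)) _ _)

theorem Jfun_injective (I : ℕ → A) [∀ n, Injective (I n)] : Injective (Jfun I) := by
  constructor
  intro X Y g f hf
  haveI : ∀ n : ℕ, Mono (f.app (op n)) := fun n => (NatTrans.mono_iff_mono_app f).mp hf (op n)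
  refine ⟨NatTrans.ofOpSequence (fun n => extn I g f n) (fun n => ?_), ?_⟩
  · exact ((congrArg (fun φ => extn I g f (n + 1) ≫ φ) (Jfun_map I n)).trans
      (biprod.lift_fst _ _)).symm
  · ext c
    exact extn_fac I g f c.unop

theorem backward (h : EnoughInjectives A) : EnoughInjectives (ℕᵒᵖ ⥤ A) := by
  constructor
  intro M
  let I : ℕ → A := fun n => Injective.under (M.obj (op n))
  let ι : ∀ n, M.obj (op n) ⟶ I n := fun n => Injective.ι _
  haveI : ∀ n, Injective (I n) := fun n => Injective.injective_under _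
  have hι : ∀ n, Mono (ι n) := fun n => Injective.ι_mono _
  haveI : ∀ c : ℕᵒᵖ, Mono ((embNat M I ι).app c) := fun c => emb_mono M I ι hι c.unop
  exact ⟨{ J := Jfun I, injective := Jfun_injective I, f := embNat M I ι,
           mono := NatTrans.mono_of_mono_app _ }⟩

set_option backward.isDefEq.respectTransparency false in
theorem forward (h : EnoughInjectives (ℕᵒᵖ ⥤ A)) : EnoughInjectives A := by
  haveI hsub : ∀ a b : ℕᵒᵖ, Subsingleton (a ⟶ b) := fun a b =>
    ⟨fun f g => Quiver.Hom.unop_inj (Subsingleton.elim _ _)⟩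
  haveI hbip : HasFiniteBiproducts A := Abelian.hasFiniteBiproducts
  haveI hcop : ∀ a b : ℕᵒᵖ, HasCoproductsOfShape (a ⟶ b) A := fun a b => inferInstance
  haveI : (evaluationLeftAdjoint A (op 0 : ℕᵒᵖ)).PreservesMonomorphisms :=
    ⟨fun {X Y} f hf => by
      haveI : ∀ t : ℕᵒᵖ, Mono (((evaluationLeftAdjoint A (op 0 : ℕᵒᵖ)).map f).app t) :=
        fun t => by
          have e : ((evaluationLeftAdjoint A (op 0 : ℕᵒᵖ)).map f).app t =
              Limits.Sigma.map (fun _ : ((op 0 : ℕᵒᵖ) ⟶ t) => f) := by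
            apply Limits.Sigma.hom_ext
            intro g
            simp
          rw [e]
          infer_instance
      exact NatTrans.mono_of_mono_app _⟩
  haveI : (evaluationLeftAdjoint A (op 0 : ℕᵒᵖ)).Faithful := ⟨fun {X Y} f g hfg => by
    have e : ∀ k : X ⟶ Y, Limits.Sigma.ι (fun _ : ((op 0 : ℕᵒᵖ) ⟶ op 0) => X) (𝟙 _) ≫
        ((evaluationLeftAdjoint A (op 0 : ℕᵒᵖ)).map k).app (op 0) =
        k ≫ Limits.Sigma.ι (fun _ : ((op 0 : ℕᵒᵖ) ⟶ op 0) => Y) (𝟙 _) := fun k => by simp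
    have h1 : f ≫ Limits.Sigma.ι (fun _ : ((op 0 : ℕᵒᵖ) ⟶ op 0) => Y) (𝟙 _) =
        g ≫ Limits.Sigma.ι (fun _ : ((op 0 : ℕᵒᵖ) ⟶ op 0) => Y) (𝟙 _) := by
      rw [← e f, ← e g, hfg]
    exact (cancel_mono _).mp h1⟩
  exact EnoughInjectives.of_adjunction (evaluationAdjunctionRight A (op 0 : ℕᵒᵖ))

end helpers

/-- For an abelian category A, the category of inverse systems (A_n)_n indexed by ℕ, i.e. of functors
ℕᵒᵖ ⥤ A, has enough injectives if and only if A has enough injectives. (The second assertion of the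
published proposition, describing the injective systems, is not part of this row.) -/
theorem result
    (A : Type u) [Category.{v} A] [Abelian A] :
    EnoughInjectives (ℕᵒᵖ ⥤ A) ↔ EnoughInjectives A := by
  exact ⟨forward, backward⟩

end Groth.Agent.S14023
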