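import Groth.Statements.S14026
import Mathlib

set_option autoImplicit false
open CategoryTheory CategoryTheory.Limits Opposite
universe v u
open CohSite

namespace Groth.Agent.S14026


section helpers
universe w' w
set_option linter.style.haveILetI false

set_option backward.isDefEq.respectTransparency false in
theorem unit_isIso_gen {C : Type u} [Category.{v} C] (J : GrothendieckTopology C) (U : C)
    (A : Type w) [Category.{w'} A] (hU : ∀ V : C, Subsingleton (V ⟶ U))
    [HasWeakSheafify J A] [HasWeakSheafify (J.over U) A]
    [∀ (P : (Over U)ᵒᵖ ⥤ A), (Over.forget U).op.HasLeftKanExtension P]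
    [∀ (P : (Over U)ᵒᵖ ⥤ A), (Over.forget U).op.HasPointwiseLeftKanExtension P]
    [∀ (P : (Over U)ᵒᵖ ⥤ A), (Over.forget U).op.HasPointwiseRightKanExtension P]
    (F : Sheaf (J.over U) A) :
    IsIso (((Over.forget U).sheafAdjunctionContinuous A (J.over U) J).unit.app F) := by
  haveI : (Over.forget U).Full := ⟨fun {X Y} f => ⟨Over.homMk f (Subsingleton.elim _ _), rfl⟩⟩
  let G := Over.forget U
  let adjC := Functor.sheafPullbackConstruction.sheafAdjunctionContinuous G A (J.over U) J
  let adjA := G.sheafAdjunctionContinuous A (J.over U) J
  have h1 : adjA.unit.app F ≫ (G.sheafPushforwardContinuous A (J.over U) J).map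
      ((adjA.leftAdjointUniq adjC).hom.app F) = adjC.unit.app F :=
    Adjunction.unit_leftAdjointUniq_hom_app adjA adjC F
  suffices hC : IsIso (adjC.unit.app F) by
    haveI : IsIso (adjA.unit.app F ≫ (G.sheafPushforwardContinuous A (J.over U) J).map
      ((adjA.leftAdjointUniq adjC).hom.app F)) := by rw [h1]; exact hC
    exact IsIso.of_isIso_comp_right _ ((G.sheafPushforwardContinuous A (J.over U) J).map
      ((adjA.leftAdjointUniq adjC).hom.app F))
  have e0 := Adjunction.map_restrictFullyFaithful_unit_app
      ((G.op.lanAdjunction A).comp (sheafificationAdjunction J A))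
      (fullyFaithfulSheafToPresheaf (J.over U) A) (Functor.FullyFaithful.id _)
      (L := Functor.sheafPullbackConstruction.sheafPullback G A (J.over U) J)
      (R := G.sheafPushforwardContinuous A (J.over U) J)
      (Iso.refl _) (Iso.refl _) F
  have e : (sheafToPresheaf (J.over U) A).map (adjC.unit.app F) =
      (G.op.lanAdjunction A).unit.app F.obj ≫
        Functor.whiskerLeft G.op (toSheafify J (G.op.lan.obj F.obj)) := by
    refine e0.trans ?_
    rw [Adjunction.comp_unit_app]
    simp
  have hlan : IsIso ((G.op.lanAdjunction A).unit.app F.obj) := inferInstance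
  have hsh : Presheaf.IsSheaf (J.over U) (G.op ⋙ G.op.lan.obj F.obj) :=
    (Presheaf.isSheaf_of_iso_iff (asIso ((G.op.lanAdjunction A).unit.app F.obj))).1 F.property
  have h2 := G.toSheafify_pullbackSheafificationCompatibility A (J.over U) J (G.op.lan.obj F.obj)
  haveI := isIso_toSheafify (J.over U) hsh
  have hw : IsIso (Functor.whiskerLeft G.op (toSheafify J (G.op.lan.obj F.obj))) := by
    rw [← h2]; infer_instance
  haveI : IsIso ((sheafToPresheaf (J.over U) A).map (adjC.unit.app F)) := by rw [e]; infer_instance
  exact isIso_of_fully_faithful (sheafToPresheaf (J.over U) A) _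

end helpers

/-- Let C be a site with topology J and U an object of C such that every object has at most one morphism
to U (a subobject of the terminal object). For sheaves of sets, let j^* be restriction to the
localized site C/U and j_! its left adjoint (extension by the empty set), which exists under the
stated sheafification and Kan-extension hypotheses. Then for every sheaf F on C/U the unit morphism
F ⟶ j^* j_! F is an isomorphism. -/
theorem result
    {C : Type u} [Category.{v} C] (J : GrothendieckTopology C) (U : C)
    (hU : ∀ V : C, Subsingleton (V ⟶ U))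
    [HasWeakSheafify J (Type (max u v))]
    [∀ (P : (Over U)ᵒᵖ ⥤ (Type (max u v))), (Over.forget U).op.HasLeftKanExtension P]
    (F : Sheaf (J.over U) (Type (max u v))) :
    IsIso (((Over.forget U).sheafAdjunctionContinuous (Type (max u v)) (J.over U) J).unit.app F) := by
  exact unit_isIso_gen J U (Type (max u v)) hU F

end Groth.Agent.S14026
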