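import Groth.Statements.S14029
import Mathlib
import Groth.Agent.S14026

set_option autoImplicit false
open CategoryTheory CategoryTheory.Limits Opposite
universe v u
open CohSite

namespace Groth.Agent.S14029

/-- Let (C, J) be a site and U an object such that every object has at most one morphism to U; assume
extension by the empty set j_! from sheaves of sets on the localized site C/U to sheaves of sets on
C exists (through sheafification on C and left Kan extensions along C/U → C). If V is weakly
contractible in C — every epimorphism of sheaves of sets on C is surjective on sections over V —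
then for any morphism a : V ⟶ U the object V → U of C/U is weakly contractible in C/U: every
epimorphism of sheaves of sets on C/U is surjective on sections over it. Hence C/U has enough weakly
contractible objects when C does. -/
theorem result
    {C : Type u} [Category.{v} C] (J : GrothendieckTopology C) (U : C)
    (hU : ∀ W : C, Subsingleton (W ⟶ U))
    [HasWeakSheafify J (Type (max u v))]
    [∀ (P : (Over U)ᵒᵖ ⥤ Type (max u v)), (Over.forget U).op.HasLeftKanExtension P]
    (V : C) (hV : (∀ (A B : Sheaf J (Type (max u v))) (ψ : A ⟶ B), Epi ψ → Function.Surjective (ψ.hom.app (op V)))) (a : V ⟶ U) :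
    ∀ (A B : Sheaf (J.over U) (Type (max u v))) (ψ : A ⟶ B), Epi ψ →
      Function.Surjective (ψ.hom.app (op (Over.mk a))) := by
  intro A B ψ hψ
  haveI := hψ
  let adj := (Over.forget U).sheafAdjunctionContinuous (Type (max u v)) (J.over U) J
  let L := (Over.forget U).sheafPullback (Type (max u v)) (J.over U) J
  let R := (Over.forget U).sheafPushforwardContinuous (Type (max u v)) (J.over U) J
  haveI := Functor.preservesEpimorphisms_of_adjunction adj
  haveI : Epi (L.map ψ) := inferInstance
  have hs := hV _ _ (L.map ψ) inferInstance
  haveI hepi : Epi ((L.map ψ).hom.app (op V)) := (epi_iff_surjective _).2 hs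
  haveI hA : IsIso (adj.unit.app A) := Groth.Agent.S14026.unit_isIso_gen J U (Type (max u v)) hU A
  haveI hB : IsIso (adj.unit.app B) := Groth.Agent.S14026.unit_isIso_gen J U (Type (max u v)) hU B
  have hnat : ψ ≫ adj.unit.app B = adj.unit.app A ≫ R.map (L.map ψ) := adj.unit.naturality ψ
  let X : (Over U)ᵒᵖ := op (Over.mk a)
  have hX : ψ.hom.app X ≫ (adj.unit.app B).hom.app X =
      (adj.unit.app A).hom.app X ≫ (L.map ψ).hom.app (op V) :=
    congrArg (fun φ : A ⟶ R.obj (L.obj B) => φ.hom.app X) hnat
  haveI : IsIso ((sheafToPresheaf _ _).map (adj.unit.app B)) := inferInstance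
  haveI : IsIso ((sheafToPresheaf _ _).map (adj.unit.app A)) := inferInstance
  haveI iB : IsIso ((adj.unit.app B).hom.app X) :=
    NatIso.isIso_app_of_isIso ((sheafToPresheaf _ _).map (adj.unit.app B)) X
  haveI iA : IsIso ((adj.unit.app A).hom.app X) :=
    NatIso.isIso_app_of_isIso ((sheafToPresheaf _ _).map (adj.unit.app A)) X
  let g : B.obj.obj X ⟶ (L.obj B).obj.obj (op V) := (adj.unit.app B).hom.app X
  let f' : A.obj.obj X ⟶ (L.obj A).obj.obj (op V) := (adj.unit.app A).hom.app X
  haveI ig : IsIso g := iB
  haveI if' : IsIso f' := iA
  have hX' : ψ.hom.app X ≫ g = f' ≫ (L.map ψ).hom.app (op V) := hX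
  have hψX : ψ.hom.app X = (f' ≫ (L.map ψ).hom.app (op V)) ≫ inv g := (IsIso.eq_comp_inv g).2 hX'
  have : Epi (ψ.hom.app X) := by rw [hψX]; infer_instance
  exact (epi_iff_surjective _).1 this

end Groth.Agent.S14029
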