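import Groth.Statements.S14032
import Mathlib

set_option autoImplicit false
universe u v
open W4c1frobunstiva

namespace Groth.Agent.S14032

section helpers
open TensorProduct

variable {R : Type u} [CommRing R] {M : Type v} [AddCommGroup M] [Module R M] (I : Ideal R)

lemma mk_smul_one_tmul (a : R) (x : M) :
    (Ideal.Quotient.mk I a) • ((1 : R ⧸ I) ⊗ₜ[R] x) = (1 : R ⧸ I) ⊗ₜ[R] (a • x) := by
  rw [TensorProduct.smul_tmul', smul_eq_mul, mul_one]
  have h : Ideal.Quotient.mk I a = a • (1 : R ⧸ I) := by
    rw [Algebra.smul_def, mul_one]; rfl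
  rw [h, TensorProduct.smul_tmul]

lemma sum_mk_smul {r : ℕ} (a : Fin r → R) (m : Fin r → M) :
    ∑ i, (Ideal.Quotient.mk I (a i)) • ((1 : R ⧸ I) ⊗ₜ[R] m i) =
      (1 : R ⧸ I) ⊗ₜ[R] (∑ i, a i • m i) := by
  simp only [mk_smul_one_tmul]
  rw [TensorProduct.tmul_sum]

lemma one_tmul_eq_zero_iff (y : M) :
    ((1 : R ⧸ I) ⊗ₜ[R] y = 0) ↔ y ∈ I • (⊤ : Submodule R M) := by
  rw [← Submodule.Quotient.mk_eq_zero, ← TensorProduct.quotTensorEquivQuotSMul_mk_one_tmul I y]
  exact (LinearEquiv.map_eq_zero_iff _).symm

lemma eq_top_of_nilpotent (hI : IsNilpotent I) (N : Submodule R M)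
    (h : ⊤ ≤ N ⊔ I • (⊤ : Submodule R M)) : N = ⊤ := by
  obtain ⟨k, hk⟩ := hI
  have key : ∀ j : ℕ, (⊤ : Submodule R M) ≤ N ⊔ (I ^ j) • (⊤ : Submodule R M) := by
    intro j
    induction j with
    | zero => simp
    | succ j ih =>
      have h1 : (I ^ j) • (⊤ : Submodule R M) ≤ N ⊔ (I ^ (j + 1)) • (⊤ : Submodule R M) := by
        calc (I ^ j) • (⊤ : Submodule R M)
            ≤ (I ^ j) • (N ⊔ I • (⊤ : Submodule R M)) := Submodule.smul_mono le_rfl h
          _ = (I ^ j) • N ⊔ (I ^ j) • (I • (⊤ : Submodule R M)) := Submodule.smul_sup _ _ _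
          _ ≤ N ⊔ (I ^ (j + 1)) • (⊤ : Submodule R M) := by
            apply sup_le_sup Submodule.smul_le_right
            rw [← Submodule.mul_smul, ← pow_succ]
      exact ih.trans (sup_le le_sup_left h1)
  have h2 := key k
  rw [hk] at h2
  simpa [Ideal.zero_eq_bot] using h2

lemma mem_smul_top_repr {r : ℕ} (m : Fin r → M) (hspan : Submodule.span R (Set.range m) = ⊤)
    (y : M) (hy : y ∈ I • (⊤ : Submodule R M)) :
    ∃ c : Fin r → R, (∀ i, c i ∈ I) ∧ y = ∑ i, c i • m i := by
  refine Submodule.smul_induction_on hy ?_ ?_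
  · intro a ha x _
    obtain ⟨d, hd⟩ := (Submodule.mem_span_range_iff_exists_fun R).mp
      (hspan ▸ Submodule.mem_top : x ∈ Submodule.span R (Set.range m))
    refine ⟨fun i => a * d i, fun i => I.mul_mem_right _ ha, ?_⟩
    rw [← hd, Finset.smul_sum]
    simp only [mul_smul]
  · rintro x y ⟨c, hc, rfl⟩ ⟨c', hc', rfl⟩
    exact ⟨c + c', fun i => I.add_mem (hc i) (hc' i), by
      simp only [Pi.add_apply, add_smul, Finset.sum_add_distrib]⟩

theorem main (hInil : IsNilpotent I) (hmem : ∀ a : R, a ∈ I ↔ IsNilpotent a) (r : ℕ) :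
    W4c1frobunstiva.IsNRFree R M r ↔
      Nonempty (Module.Basis (Fin r) (R ⧸ I) ((R ⧸ I) ⊗[R] M)) := by
  classical
  constructor
  · rintro ⟨m, hspan, hnil⟩
    have hli : LinearIndependent (R ⧸ I) (fun i => (1 : R ⧸ I) ⊗ₜ[R] m i) := by
      rw [Fintype.linearIndependent_iff]
      intro g hg i
      choose a ha using fun i => Ideal.Quotient.mk_surjective (g i)
      have hg' : ∑ i, (Ideal.Quotient.mk I (a i)) • ((1 : R ⧸ I) ⊗ₜ[R] m i) = 0 := by
        simpa only [ha] using hg
      rw [sum_mk_smul, one_tmul_eq_zero_iff] at hg'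
      obtain ⟨c, hcI, hc⟩ := mem_smul_top_repr I m hspan _ hg'
      have h0 : ∑ i, (a i - c i) • m i = 0 := by
        simp only [sub_smul, Finset.sum_sub_distrib, hc, sub_self]
      have h1 := hnil _ h0 i
      have h2 : a i - c i ∈ I := (hmem _).mpr h1
      have h3 : a i ∈ I := by
        have h4 := I.add_mem h2 (hcI i)
        simpa using h4
      rw [← ha i]
      exact Ideal.Quotient.eq_zero_iff_mem.mpr h3
    have hsp : ⊤ ≤ Submodule.span (R ⧸ I) (Set.range fun i => (1 : R ⧸ I) ⊗ₜ[R] m i) := by
      rintro z -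
      induction z using TensorProduct.induction_on with
      | zero => exact Submodule.zero_mem _
      | add x y hx hy => exact Submodule.add_mem _ hx hy
      | tmul c x =>
        obtain ⟨a, rfl⟩ := Ideal.Quotient.mk_surjective c
        obtain ⟨d, hd⟩ := (Submodule.mem_span_range_iff_exists_fun R).mp
          (hspan ▸ Submodule.mem_top : x ∈ Submodule.span R (Set.range m))
        have h5 : (Ideal.Quotient.mk I a) ⊗ₜ[R] x =
            ∑ i, (Ideal.Quotient.mk I (a * d i)) • ((1 : R ⧸ I) ⊗ₜ[R] m i) := by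
          rw [sum_mk_smul, ← hd]
          have h : Ideal.Quotient.mk I a = a • (1 : R ⧸ I) := by
            rw [Algebra.smul_def, mul_one]; rfl
          rw [h, TensorProduct.smul_tmul, Finset.smul_sum]
          simp only [mul_smul]
        rw [h5]
        exact Submodule.sum_mem _ fun i _ =>
          Submodule.smul_mem _ _ (Submodule.subset_span ⟨i, rfl⟩)
    exact ⟨Module.Basis.mk hli hsp⟩
  · rintro ⟨b⟩
    have hlift : ∀ i, ∃ x : M, (1 : R ⧸ I) ⊗ₜ[R] x = b i := by
      intro i
      obtain ⟨x, hx⟩ := Submodule.Quotient.mk_surjective _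
        (TensorProduct.quotTensorEquivQuotSMul M I (b i))
      refine ⟨x, ?_⟩
      have h6 := congrArg (TensorProduct.quotTensorEquivQuotSMul M I).symm hx
      rw [TensorProduct.quotTensorEquivQuotSMul_symm_mk, LinearEquiv.symm_apply_apply] at h6
      exact h6
    choose m hm using hlift
    refine ⟨m, ?_, ?_⟩
    · apply eq_top_of_nilpotent I hInil
      intro x _
      have hx : (1 : R ⧸ I) ⊗ₜ[R] x ∈ Submodule.span (R ⧸ I) (Set.range b) := by
        rw [b.span_eq]; exact Submodule.mem_top
      obtain ⟨c, hc⟩ := (Submodule.mem_span_range_iff_exists_fun (R ⧸ I)).mp hx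
      choose a ha using fun i => Ideal.Quotient.mk_surjective (c i)
      have h1 : (1 : R ⧸ I) ⊗ₜ[R] (∑ i, a i • m i) = (1 : R ⧸ I) ⊗ₜ[R] x := by
        rw [← sum_mk_smul, ← hc]
        simp only [ha, hm]
      have h2 : x - ∑ i, a i • m i ∈ I • (⊤ : Submodule R M) := by
        rw [← one_tmul_eq_zero_iff, TensorProduct.tmul_sub, h1, sub_self]
      have h3 : x = ∑ i, a i • m i + (x - ∑ i, a i • m i) := by abel
      rw [h3]
      exact Submodule.add_mem_sup (Submodule.sum_mem _ fun i _ =>
        Submodule.smul_mem _ _ (Submodule.subset_span ⟨i, rfl⟩)) h2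
    · intro a ha i
      have h1 : ∑ i, (Ideal.Quotient.mk I (a i)) • b i = 0 := by
        have h7 := sum_mk_smul I a m
        simp only [hm] at h7
        rw [h7, ha, TensorProduct.tmul_zero]
      have h2 := (Fintype.linearIndependent_iff.mp b.linearIndependent) _ h1 i
      exact (hmem _).mp (Ideal.Quotient.eq_zero_iff_mem.mp h2)

end helpers

open TensorProduct in
/-- Let R be a commutative Noetherian ring with nilradical n, M an R-module and r a natural number. Then
M is NR-free of rank r — generated by r elements such that every linear relation among them has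
nilpotent coefficients — if and only if (R/n) ⊗_R M is free of rank r over R/n, in the sense of
admitting a basis indexed by r elements. (The published statement assumes M finitely generated and
also gives the converse when R is local; over a Noetherian ring the nilradical is nilpotent, the
case used here, and finite generation is not needed.) -/
theorem result (R : Type u) [CommRing R]
    [IsNoetherianRing R] (M : Type v) [AddCommGroup M] [Module R M] (r : ℕ) :
    W4c1frobunstiva.IsNRFree R M r ↔
      Nonempty (Module.Basis (Fin r) (R ⧸ nilradical R) ((R ⧸ nilradical R) ⊗[R] M)) := by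
  exact main (nilradical R) (IsNoetherianRing.isNilpotent_nilradical R)
    (fun a => mem_nilradical) r

end Groth.Agent.S14032
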