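import Groth.Statements.S14033
import Mathlib

set_option autoImplicit false
universe u v
open W4c1frobunstiva

namespace Groth.Agent.S14033

section helpers
open DualNumber Pointwise

variable {R : Type u} [CommRing R] {M : Type v} [AddCommGroup M] [Module R[ε] M] [Module R M]
  [IsScalarTower R R[ε] M]

theorem mem_N_iff (x : M) :
    x ∈ ((ε : R[ε]) • (⊤ : Submodule R[ε] M)) ↔ ∃ y : M, (ε : R[ε]) • y = x := by
  rw [Submodule.mem_smul_pointwise_iff_exists]
  constructor
  · rintro ⟨y, -, h⟩
    exact ⟨y, h⟩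
  · rintro ⟨y, h⟩
    exact ⟨y, Submodule.mem_top, h⟩

theorem inl_smul' (a : R) (m : M) : (TrivSqZeroExt.inl a : R[ε]) • m = a • m :=
  algebraMap_smul R[ε] a m

theorem inr_smul' (a : R) (m : M) :
    (TrivSqZeroExt.inr a : R[ε]) • m = a • ((ε : R[ε]) • m) := by
  rw [DualNumber.inr_eq_smul_eps, smul_assoc]

theorem smul_decomp (d : R[ε]) (m : M) :
    d • m = TrivSqZeroExt.fst d • m + TrivSqZeroExt.snd d • ((ε : R[ε]) • m) := by
  calc d • m = ((TrivSqZeroExt.inl (TrivSqZeroExt.fst d) : R[ε]) +
        TrivSqZeroExt.inr (TrivSqZeroExt.snd d)) • m := by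
        rw [TrivSqZeroExt.inl_fst_add_inr_snd_eq]
    _ = _ := by rw [add_smul, inl_smul', inr_smul']

theorem eps_eps (m : M) : (ε : R[ε]) • ((ε : R[ε]) • m) = 0 := by
  rw [← mul_smul, DualNumber.eps_mul_eps, zero_smul]

theorem eps_smul_comm (a : R) (m : M) : (ε : R[ε]) • (a • m) = a • ((ε : R[ε]) • m) :=
  smul_comm _ _ _

theorem eps_smul_smul (d : R[ε]) (m : M) :
    (ε : R[ε]) • (d • m) = TrivSqZeroExt.fst d • ((ε : R[ε]) • m) := by
  rw [smul_decomp d m, smul_add, eps_smul_comm, eps_smul_comm, eps_eps, smul_zero, add_zero]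

def mkR (R : Type u) [CommRing R] (M : Type v) [AddCommGroup M] [Module R[ε] M] [Module R M]
    [IsScalarTower R R[ε] M] : M →ₗ[R] M ⧸ ((ε : R[ε]) • (⊤ : Submodule R[ε] M)) where
  toFun := Submodule.Quotient.mk
  map_add' _ _ := rfl
  map_smul' _ _ := rfl

theorem mkR_eq_zero (m : M) : mkR R M m = 0 ↔ ∃ y : M, (ε : R[ε]) • y = m :=
  (Submodule.Quotient.mk_eq_zero ((ε : R[ε]) • (⊤ : Submodule R[ε] M))).trans (mem_N_iff m)

theorem mkR_eps (m : M) : mkR R M ((ε : R[ε]) • m) = 0 := (mkR_eq_zero _).2 ⟨m, rfl⟩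

theorem mkR_smul (d : R[ε]) (m : M) :
    mkR R M (d • m) = TrivSqZeroExt.fst d • mkR R M m := by
  rw [smul_decomp d m, map_add, map_smul, map_smul, mkR_eps, smul_zero, add_zero]

theorem mkR_surjective : Function.Surjective (mkR R M) := Submodule.Quotient.mk_surjective _

theorem forward {r : ℕ} (b : Module.Basis (Fin r) R[ε] M) :
    Nonempty (Module.Basis (Fin r) R (M ⧸ ((ε : R[ε]) • (⊤ : Submodule R[ε] M)))) ∧
    Nonempty (Module.Basis (Fin r) R
      (((ε : R[ε]) • (⊤ : Submodule R[ε] M)).restrictScalars R)) := by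
  have hb := Fintype.linearIndependent_iff.mp b.linearIndependent
  constructor
  · refine ⟨Module.Basis.mk (v := fun i => mkR R M (b i)) ?_ ?_⟩
    · rw [Fintype.linearIndependent_iff]
      intro g hg i
      have h1 : mkR R M (∑ j, g j • b j) = 0 := by
        rw [map_sum]
        simpa only [map_smul] using hg
      obtain ⟨y, hy⟩ := (mkR_eq_zero _).1 h1
      have h2 : ∑ j, ((TrivSqZeroExt.inl (g j) : R[ε]) - ε * b.repr y j) • b j = 0 := by
        have e1 : ∀ j, ((TrivSqZeroExt.inl (g j) : R[ε]) - ε * b.repr y j) • b j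
            = g j • b j - (ε : R[ε]) • (b.repr y j • b j) := by
          intro j
          rw [sub_smul, mul_smul, inl_smul']
        rw [Finset.sum_congr rfl (fun j _ => e1 j), Finset.sum_sub_distrib, ← Finset.smul_sum,
          b.sum_repr, hy, sub_self]
      have h3 := hb _ h2 i
      have h4 := congrArg TrivSqZeroExt.fst h3
      simpa using h4
    · intro x _
      obtain ⟨m, rfl⟩ := mkR_surjective (R := R) (M := M) x
      rw [← b.sum_repr m, map_sum]
      refine Submodule.sum_mem _ fun i _ => ?_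
      rw [mkR_smul]
      exact Submodule.smul_mem _ _ (Submodule.subset_span ⟨i, rfl⟩)
  · have hmem : ∀ y : M, (ε : R[ε]) • y ∈
        (((ε : R[ε]) • (⊤ : Submodule R[ε] M)).restrictScalars R) :=
      fun y => (Submodule.restrictScalars_mem R _ _).2 ((mem_N_iff _).2 ⟨y, rfl⟩)
    refine ⟨Module.Basis.mk (v := fun i => (⟨(ε : R[ε]) • b i, hmem _⟩ :
        ((ε : R[ε]) • (⊤ : Submodule R[ε] M)).restrictScalars R)) ?_ ?_⟩
    · rw [Fintype.linearIndependent_iff]
      intro g hg i
      have h1 : ∑ j, g j • ((ε : R[ε]) • b j) = 0 := by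
        have h0 := congrArg (Submodule.subtype _) hg
        rw [map_sum, map_zero] at h0
        simpa only [map_smul, Submodule.subtype_apply, Subtype.coe_mk] using h0
      have h2 : ∑ j, (TrivSqZeroExt.inr (g j) : R[ε]) • b j = 0 := by
        simpa only [inr_smul'] using h1
      have h3 := hb _ h2 i
      have h4 := congrArg TrivSqZeroExt.snd h3
      simpa using h4
    · rintro ⟨x, hx⟩ _
      obtain ⟨y, rfl⟩ := (mem_N_iff x).1 ((Submodule.restrictScalars_mem R _ x).1 hx)
      have hy : (⟨(ε : R[ε]) • y, hx⟩ :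
          ((ε : R[ε]) • (⊤ : Submodule R[ε] M)).restrictScalars R)
          = ∑ i, TrivSqZeroExt.fst (b.repr y i) • ⟨(ε : R[ε]) • b i, hmem _⟩ := by
        apply Subtype.ext
        rw [Submodule.coe_sum]
        simp only [Submodule.coe_smul, Subtype.coe_mk]
        conv_lhs => rw [← b.sum_repr y]
        rw [Finset.smul_sum]
        exact Finset.sum_congr rfl fun i _ => eps_smul_smul _ _
      rw [hy]
      exact Submodule.sum_mem _ fun i _ =>
        Submodule.smul_mem _ _ (Submodule.subset_span ⟨i, rfl⟩)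

theorem backward {r : ℕ}
    (c₁ : Module.Basis (Fin r) R (M ⧸ ((ε : R[ε]) • (⊤ : Submodule R[ε] M))))
    (c₂ : Module.Basis (Fin r) R (((ε : R[ε]) • (⊤ : Submodule R[ε] M)).restrictScalars R)) :
    Nonempty (Module.Basis (Fin r) R[ε] M) := by
  choose m hm using fun i => mkR_surjective (R := R) (M := M) (c₁ i)
  have hA : ∀ x : M, ∃ (g : Fin r → R) (y : M), x = ∑ i, g i • m i + (ε : R[ε]) • y := by
    intro x
    have h1 : mkR R M (x - ∑ i, c₁.repr (mkR R M x) i • m i) = 0 := by
      rw [map_sub, map_sum]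
      simp only [map_smul, hm]
      rw [c₁.sum_repr, sub_self]
    obtain ⟨y, hy⟩ := (mkR_eq_zero _).1 h1
    exact ⟨⇑(c₁.repr (mkR R M x)), y, by rw [hy]; abel⟩
  have hsp : ∀ x : M, x ∈ Submodule.span R[ε] (Set.range m) := by
    have hm_mem : ∀ i, m i ∈ Submodule.span R[ε] (Set.range m) :=
      fun i => Submodule.subset_span ⟨i, rfl⟩
    have hε : ∀ y : M, (ε : R[ε]) • y ∈ Submodule.span R[ε] (Set.range m) := by
      intro y
      obtain ⟨g, y', hy⟩ := hA y
      rw [hy, smul_add, eps_eps, add_zero]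
      exact Submodule.smul_mem _ _ (Submodule.sum_mem _ fun i _ =>
        Submodule.smul_of_tower_mem _ (g i) (hm_mem i))
    intro x
    obtain ⟨g, y, hx⟩ := hA x
    rw [hx]
    exact Submodule.add_mem _ (Submodule.sum_mem _ fun i _ =>
      Submodule.smul_of_tower_mem _ (g i) (hm_mem i)) (hε y)
  have hmemN : ∀ y : M, (ε : R[ε]) • y ∈
      (((ε : R[ε]) • (⊤ : Submodule R[ε] M)).restrictScalars R) :=
    fun y => (Submodule.restrictScalars_mem R _ _).2 ((mem_N_iff _).2 ⟨y, rfl⟩)
  have hmemN' : ∀ g : Fin r → R,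
      Fintype.linearCombination R (fun i => (ε : R[ε]) • m i) g ∈
      (((ε : R[ε]) • (⊤ : Submodule R[ε] M)).restrictScalars R) := by
    intro g
    rw [Fintype.linearCombination_apply]
    exact Submodule.sum_mem _ fun i _ => Submodule.smul_mem _ _ (hmemN _)
  let φ : (Fin r → R) →ₗ[R] (((ε : R[ε]) • (⊤ : Submodule R[ε] M)).restrictScalars R) :=
    LinearMap.codRestrict _ (Fintype.linearCombination R (fun i => (ε : R[ε]) • m i)) hmemN'
  have hφ_val : ∀ g : Fin r → R, ((φ g : _) : M) = ∑ i, g i • ((ε : R[ε]) • m i) := by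
    intro g
    simp only [φ, LinearMap.codRestrict_apply, Fintype.linearCombination_apply]
  have hφ_surj : Function.Surjective φ := by
    rintro ⟨x, hx⟩
    obtain ⟨y, rfl⟩ := (mem_N_iff x).1 ((Submodule.restrictScalars_mem R _ x).1 hx)
    obtain ⟨g, y', hy⟩ := hA y
    refine ⟨g, Subtype.ext ?_⟩
    rw [hφ_val]
    show _ = (ε : R[ε]) • y
    rw [hy, smul_add, eps_eps, add_zero, Finset.smul_sum]
    exact Finset.sum_congr rfl fun i _ => (eps_smul_comm _ _).symm
  have hθ_surj : Function.Surjective (c₂.equivFun.toLinearMap ∘ₗ φ) := by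
    intro z
    obtain ⟨g, hg⟩ := hφ_surj (c₂.equivFun.symm z)
    exact ⟨g, by rw [LinearMap.comp_apply, hg]; exact c₂.equivFun.apply_symm_apply z⟩
  have hθ_inj := OrzechProperty.injective_of_surjective_endomorphism _ hθ_surj
  have hφ_inj : Function.Injective φ := by
    intro g₁ g₂ h
    apply hθ_inj
    rw [LinearMap.comp_apply, LinearMap.comp_apply, h]
  have hli : LinearIndependent R[ε] m := by
    rw [Fintype.linearIndependent_iff]
    intro d hd i
    have hfst : ∀ j, TrivSqZeroExt.fst (d j) = 0 := by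
      have h1 : ∑ j, TrivSqZeroExt.fst (d j) • c₁ j = 0 := by
        have h0 := congrArg (mkR R M) hd
        rw [map_sum, map_zero] at h0
        simpa only [mkR_smul, hm] using h0
      exact Fintype.linearIndependent_iff.mp c₁.linearIndependent _ h1
    have hsnd : ∀ j, TrivSqZeroExt.snd (d j) = 0 := by
      have h2 : ∑ j, TrivSqZeroExt.snd (d j) • ((ε : R[ε]) • m j) = 0 := by
        rw [← hd]
        refine Finset.sum_congr rfl fun j _ => ?_
        rw [smul_decomp (d j) (m j), hfst j, zero_smul, zero_add]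
      have h3 : φ (fun j => TrivSqZeroExt.snd (d j)) = φ 0 := by
        apply Subtype.ext
        rw [hφ_val, hφ_val]
        simpa using h2
      intro j
      exact congrFun (hφ_inj h3) j
    exact TrivSqZeroExt.ext (by simpa using hfst i) (by simpa using hsnd i)
  exact ⟨Module.Basis.mk hli (fun x _ => hsp x)⟩

end helpers

open DualNumber Pointwise in
/-- Let R be a commutative ring, R[ε] its ring of dual numbers (ε² = 0), M an R[ε]-module and r a
natural number. Then M is free of rank r over R[ε] (admits a basis of r elements) if and only if the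
R-modules M/εM and εM are both free of rank r. (The published statement concerns a coherent sheaf on
the product of a scheme S with Spec ℤ[ε] and local freeness of rank r; that assertion is local, and
this row is its form over one ring, with no finiteness assumption on M and no hypothesis on R.) -/
theorem result (R : Type u) [CommRing R] (M : Type v)
    [AddCommGroup M] [Module R[ε] M] [Module R M] [IsScalarTower R R[ε] M] (r : ℕ) :
    Nonempty (Module.Basis (Fin r) R[ε] M) ↔
      (Nonempty (Module.Basis (Fin r) R (M ⧸ ((ε : R[ε]) • (⊤ : Submodule R[ε] M)))) ∧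
        Nonempty (Module.Basis (Fin r) R (((ε : R[ε]) • (⊤ : Submodule R[ε] M)).restrictScalars R))) := by
  constructor
  · rintro ⟨b⟩
    exact forward b
  · rintro ⟨⟨c₁⟩, ⟨c₂⟩⟩
    exact backward c₁ c₂

end Groth.Agent.S14033
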