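import Groth.Statements.S14035
import Mathlib

set_option autoImplicit false
universe u v
open W4c1frobunstiva

namespace Groth.Agent.S14035

section helpers

open TensorProduct

/-- flat quotient: `ker g ∩ pM ⊆ p • ker g`. -/
theorem flat_inter {A : Type*} [CommRing A] {M M' : Type*} [AddCommGroup M] [Module A M]
    [AddCommGroup M'] [Module A M'] (g : M →ₗ[A] M') (hg : Function.Surjective g)
    [Module.Flat A M'] (p : Ideal A) (x : M) (hx : x ∈ p • (⊤ : Submodule A M)) (hgx : g x = 0) :
    x ∈ p • LinearMap.ker g := by
  let μ : (↥p ⊗[A] M) →ₗ[A] M := TensorProduct.lift ((LinearMap.lsmul A M).comp p.subtype)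
  let μ' : (↥p ⊗[A] M') →ₗ[A] M' := TensorProduct.lift ((LinearMap.lsmul A M').comp p.subtype)
  have hμ' : Function.Injective μ' := by
    have h1 : Function.Injective (p.subtype.rTensor M') :=
      Module.Flat.rTensor_preserves_injective_linearMap _ Subtype.val_injective
    have h2 : μ' = (TensorProduct.lid A M').toLinearMap ∘ₗ (p.subtype.rTensor M') := by
      apply TensorProduct.ext'
      intro a m
      simp [μ']
    rw [h2]
    exact (TensorProduct.lid A M').injective.comp h1
  have key : ∀ w : ↥p ⊗[A] ↥(LinearMap.ker g),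
      μ ((LinearMap.ker g).subtype.lTensor p w) ∈ p • LinearMap.ker g := by
    intro w
    induction w using TensorProduct.induction_on with
    | zero => simp
    | tmul a k =>
      simp only [LinearMap.lTensor_tmul, Submodule.subtype_apply, μ, TensorProduct.lift.tmul,
        LinearMap.comp_apply, LinearMap.lsmul_apply]
      exact Submodule.smul_mem_smul a.2 k.2
    | add w1 w2 h1 h2 =>
      rw [map_add, map_add]; exact Submodule.add_mem _ h1 h2
  obtain ⟨z, rfl⟩ : ∃ z, μ z = x := by
    refine Submodule.smul_induction_on hx ?_ ?_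
    · intro a ha m _
      exact ⟨(⟨a, ha⟩ : p) ⊗ₜ m, by simp [μ]⟩
    · rintro _ _ ⟨z1, rfl⟩ ⟨z2, rfl⟩
      exact ⟨z1 + z2, map_add _ _ _⟩
  have hcomp : ∀ z, μ' (g.lTensor p z) = g (μ z) := by
    intro z
    induction z using TensorProduct.induction_on with
    | zero => simp
    | tmul a m => simp [μ, μ']
    | add z1 z2 h1 h2 => simp only [map_add, h1, h2]
  have hz : g.lTensor p z = 0 := by
    apply hμ'
    rw [hcomp, hgx, map_zero]
  have hex := lTensor_exact p (LinearMap.exact_subtype_ker_map g) hg
  obtain ⟨w, rfl⟩ := (hex z).mp hz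
  exact key w

attribute [local instance] Algebra.TensorProduct.rightAlgebra in
theorem ker_fiber {A : Type*} {B : Type*} [CommRing A] [CommRing B] [Algebra A B]
    (p : Ideal A) [p.IsPrime] (x : B)
    (hx : (1 : p.ResidueField) ⊗ₜ[A] x = 0) :
    ∃ t : A, t ∉ p ∧ algebraMap A B t * x ∈ p.map (algebraMap A B) := by
  let e := Ideal.Fiber.algEquivAux₁ (S := B) p
  have h1 : e (algebraMap B (p.Fiber B) x) = algebraMap B _ x := e.commutes x
  have h2 : algebraMap B (p.Fiber B) x = 0 := hx
  rw [h2, map_zero] at h1
  have h3 : algebraMap B (Localization (Algebra.algebraMapSubmonoid B p.primeCompl)) x ∈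
      (p.map (algebraMap A B)).map
        (algebraMap B (Localization (Algebra.algebraMapSubmonoid B p.primeCompl))) := by
    rw [← Ideal.Quotient.eq_zero_iff_mem]
    exact h1.symm
  rw [IsLocalization.mem_map_algebraMap_iff (Algebra.algebraMapSubmonoid B p.primeCompl)] at h3
  obtain ⟨⟨⟨j, hj⟩, ⟨s, hs⟩⟩, h4⟩ := h3
  simp only at h4
  rw [← map_mul, IsLocalization.eq_iff_exists (Algebra.algebraMapSubmonoid B p.primeCompl)] at h4
  obtain ⟨⟨c, hc⟩, h5⟩ := h4
  simp only at h5
  obtain ⟨t1, ht1, rfl⟩ := hs
  obtain ⟨t2, ht2, rfl⟩ := hc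
  refine ⟨t2 * t1, ?_, ?_⟩
  · exact (p.primeCompl.mul_mem ht2 ht1)
  · have : algebraMap A B (t2 * t1) * x = algebraMap A B t2 * j := by
      rw [map_mul, ← h5]; ring
    rw [this]; exact Ideal.mul_mem_left _ _ hj

end helpers

open TensorProduct in
/-- Let A → B be a ring homomorphism with B Noetherian. If B modulo its nilradical is flat over A and
every fibre ring κ(p) ⊗_A B, p a prime of A, is reduced, then B is reduced. (This is the affine form
of the statement for a morphism of schemes X → Y all of whose fibres are reduced and whose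
restriction to the reduced closed subscheme X_red is flat. The published statement does not say X is
locally Noetherian, but its proof applies Nakayama's lemma to the nilradical as a finitely generated
ideal; without it the square-zero extension of a discrete valuation ring A by Frac(A)/A is a
counterexample.) -/
theorem result (A : Type u) (B : Type v)
    [CommRing A] [CommRing B] [Algebra A B] [IsNoetherianRing B]
    [Module.Flat A (B ⧸ nilradical B)]
    (hfib : ∀ p : PrimeSpectrum A, IsReduced (p.asIdeal.ResidueField ⊗[A] B)) :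
    IsReduced B := by
  classical
  have hIfg : (nilradical B).FG := IsNoetherian.noetherian (nilradical B)
  have key : ∀ (p : Ideal A) [p.IsPrime], ∀ x ∈ nilradical B, ∃ t : A, t ∉ p ∧
      algebraMap A B t * x ∈ (p.map (algebraMap A B)) * nilradical B := by
    intro p _ x hx
    haveI : IsReduced (p.ResidueField ⊗[A] B) := hfib ⟨p, inferInstance⟩
    have hnil : IsNilpotent ((1 : p.ResidueField) ⊗ₜ[A] x) := by
      have hx' : IsNilpotent x := hx
      have := hx'.map (Algebra.TensorProduct.includeRight (R := A) (A := p.ResidueField) (B := B))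
      simpa using this
    have h0 : (1 : p.ResidueField) ⊗ₜ[A] x = 0 := hnil.eq_zero
    obtain ⟨t, htp, htx⟩ := ker_fiber p x h0
    refine ⟨t, htp, ?_⟩
    have hgx : (Ideal.Quotient.mkₐ A (nilradical B)).toLinearMap (algebraMap A B t * x) = 0 := by
      rw [AlgHom.toLinearMap_apply, Ideal.Quotient.mkₐ_eq_mk, Ideal.Quotient.eq_zero_iff_mem]
      exact Ideal.mul_mem_left _ _ hx
    have hxp : algebraMap A B t * x ∈ p • (⊤ : Submodule A B) := by
      rw [Ideal.smul_top_eq_map]
      exact htx
    have hmem := flat_inter (Ideal.Quotient.mkₐ A (nilradical B)).toLinearMap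
      (Ideal.Quotient.mkₐ_surjective A (nilradical B)) p _ hxp hgx
    refine Submodule.smul_induction_on hmem ?_ ?_
    · intro a ha k hk
      have hk' : k ∈ nilradical B := by
        have : Ideal.Quotient.mk (nilradical B) k = 0 := hk
        exact Ideal.Quotient.eq_zero_iff_mem.mp this
      rw [Algebra.smul_def]
      exact Ideal.mul_mem_mul (Ideal.mem_map_of_mem _ ha) hk'
    · intro y z hy hz
      exact Ideal.add_mem _ hy hz
  have hI0 : nilradical B = ⊥ := by
    by_contra hne
    have h𝔞 : Submodule.annihilator (nilradical B) ≠ ⊤ := by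
      intro h
      apply hne
      have h1 : (1 : B) ∈ Submodule.annihilator (nilradical B) := by rw [h]; trivial
      rw [Submodule.mem_annihilator] at h1
      rw [eq_bot_iff]
      intro y hy
      have := h1 y hy
      simpa using this
    obtain ⟨q, hqmax, hq𝔞⟩ := Ideal.exists_le_maximal _ h𝔞
    haveI := hqmax.isPrime
    have hle : nilradical B ≤ q • nilradical B := by
      intro x hx
      obtain ⟨t, htp, htx⟩ := key (q.comap (algebraMap A B)) x hx
      have htq : algebraMap A B t ∉ q := htp
      obtain ⟨u, i, hi, hu⟩ := hqmax.exists_inv htq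
      have hpq : (q.comap (algebraMap A B)).map (algebraMap A B) ≤ q := Ideal.map_comap_le
      have h1 : algebraMap A B t * x ∈ q * nilradical B := Ideal.mul_mono_left hpq htx
      have h2 : x = u * (algebraMap A B t * x) + i * x := by
        calc x = (u * algebraMap A B t + i) * x := by rw [hu, one_mul]
          _ = u * (algebraMap A B t * x) + i * x := by ring
      rw [h2]
      show _ ∈ q * nilradical B
      exact Ideal.add_mem _ (Ideal.mul_mem_left _ _ h1) (Ideal.mul_mem_mul hi hx)
    obtain ⟨r, hr1, hr2⟩ :=
      Submodule.exists_sub_one_mem_and_smul_eq_zero_of_fg_of_le_smul q (nilradical B) hIfg hle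
    have hrq : r ∈ q := hq𝔞 (by
      rw [Submodule.mem_annihilator]
      exact hr2)
    have h1q : (1 : B) ∈ q := by
      have : (1 : B) = r - (r - 1) := by ring
      rw [this]
      exact Ideal.sub_mem _ hrq hr1
    exact hqmax.ne_top ((Ideal.eq_top_iff_one q).mpr h1q)
  exact nilradical_eq_bot_iff.mp hI0

end Groth.Agent.S14035
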