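import Groth.Statements.S14038
import Mathlib

set_option autoImplicit false
universe u
open W4c1frobunstiva

namespace Groth.Agent.S14038


section Aux

lemma red {R : Type*} [CommRing R] {r : ℕ} (h : Fin r → Fin r → R)
    (htri : ∀ l j : Fin r, j < l → h l j = 0)
    (P : Fin r → R → Prop) (hP : ∀ j x, ∃ q, P j (x - q * h j j)) :
    ∀ (d m : ℕ), m + d = r → ∀ w : Fin r → R, ∃ c : Fin r → R,
      (∀ l : Fin r, (l : ℕ) < m → c l = 0) ∧
      ∀ j : Fin r, m ≤ (j : ℕ) → P j ((w - ∑ l, c l • h l) j) := by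
  classical
  intro d
  induction d with
  | zero =>
    intro m hm w
    refine ⟨0, fun _ _ => rfl, fun j hj => ?_⟩
    exfalso
    have := j.2
    omega
  | succ d ih =>
    intro m hm w
    have hmr : m < r := by omega
    obtain ⟨q, hq⟩ := hP ⟨m, hmr⟩ (w ⟨m, hmr⟩)
    obtain ⟨c', hc'0, hc'P⟩ := ih (m + 1) (by omega) (w - q • h ⟨m, hmr⟩)
    refine ⟨c' + Pi.single ⟨m, hmr⟩ q, ?_, ?_⟩
    · intro l hl
      have hne : l ≠ ⟨m, hmr⟩ := by
        intro hh
        subst hh
        exact lt_irrefl _ hl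
      rw [Pi.add_apply, hc'0 l (by omega), Pi.single_eq_of_ne hne, add_zero]
    · have hsum : ∑ l, ((c' + Pi.single (⟨m, hmr⟩ : Fin r) q : Fin r → R) l) • h l
          = ∑ l, c' l • h l + q • h ⟨m, hmr⟩ := by
        simp only [Pi.add_apply, add_smul, Finset.sum_add_distrib]
        congr 1
        rw [Finset.sum_eq_single (⟨m, hmr⟩ : Fin r)]
        · rw [Pi.single_eq_same]
        · intro b _ hb
          rw [Pi.single_eq_of_ne hb, zero_smul]
        · intro hh
          exact absurd (Finset.mem_univ _) hh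
      have hw : w - ∑ l, ((c' + Pi.single (⟨m, hmr⟩ : Fin r) q : Fin r → R) l) • h l
          = (w - q • h ⟨m, hmr⟩) - ∑ l, c' l • h l := by
        rw [hsum]; abel
      intro j hj
      rw [hw]
      rcases Nat.eq_or_lt_of_le hj with hjm | hjm
      · have hjj : j = ⟨m, hmr⟩ := Fin.ext hjm.symm
        rw [hjj]
        have hz : (∑ l, c' l • h l) (⟨m, hmr⟩ : Fin r) = 0 := by
          rw [Finset.sum_apply]
          apply Finset.sum_eq_zero
          intro l _
          rw [Pi.smul_apply, smul_eq_mul]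
          by_cases hl : (l : ℕ) < m + 1
          · rw [hc'0 l hl, zero_mul]
          · rw [htri l ⟨m, hmr⟩ (by rw [Fin.lt_def]; show m < (l : ℕ); omega), mul_zero]
        have hval : ((w - q • h ⟨m, hmr⟩) - ∑ l, c' l • h l) (⟨m, hmr⟩ : Fin r)
            = w ⟨m, hmr⟩ - q * h ⟨m, hmr⟩ ⟨m, hmr⟩ := by
          rw [Pi.sub_apply, Pi.sub_apply, hz, sub_zero, Pi.smul_apply, smul_eq_mul]
        rw [hval]
        exact hq
      · exact hc'P j hjm

lemma div_rem {k : Type*} [CommRing k] (e : ℕ) (x : PowerSeries k) :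
    ∃ q : PowerSeries k, ∀ n, e ≤ n → PowerSeries.coeff n (x - q * PowerSeries.X ^ e) = 0 := by
  refine ⟨PowerSeries.mk fun n => PowerSeries.coeff (n + e) x, fun n hn => ?_⟩
  rw [map_sub, PowerSeries.coeff_mul_X_pow', if_pos hn, PowerSeries.coeff_mk,
    Nat.sub_add_cancel hn, sub_self]

lemma eq_zero_of_red {k : Type*} [CommRing k] (e : ℕ) (y : PowerSeries k)
    (h : ∀ n, e ≤ n → PowerSeries.coeff n (PowerSeries.X ^ e * y) = 0) : y = 0 := by
  ext d
  have h1 := h (d + e) (Nat.le_add_left _ _)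
  rw [PowerSeries.coeff_X_pow_mul] at h1
  rw [h1, map_zero]

lemma mul_cancel_det {r : ℕ} {S : Type*} [CommRing S] [IsDomain S]
    (M X : Matrix (Fin r) (Fin r) S) (hM : M.det ≠ 0) (h : X * M = 0) : X = 0 := by
  have h1 : X * M * M.adjugate = 0 := by rw [h, Matrix.zero_mul]
  rw [Matrix.mul_assoc, Matrix.mul_adjugate, Matrix.mul_smul, Matrix.mul_one] at h1
  ext i j
  have h2 := congrFun (congrFun h1 i) j
  rw [Matrix.smul_apply, smul_eq_mul, Matrix.zero_apply] at h2
  rcases mul_eq_zero.mp h2 with h3 | h3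
  · exact absurd h3 hM
  · rw [h3, Matrix.zero_apply]

lemma exists_hnf {k : Type*} [Field k] {r : ℕ} (M : Matrix (Fin r) (Fin r) (PowerSeries k))
    (hM : M.det ≠ 0) :
    ∃ (e : Fin r → ℕ) (H N : Matrix (Fin r) (Fin r) (PowerSeries k)),
      (∀ i, H i i = PowerSeries.X ^ e i) ∧ (∀ i j, j < i → H i j = 0) ∧
      (∀ i j, i < j → ∀ n, e j ≤ n → PowerSeries.coeff n (H i j) = 0) ∧
      IsUnit N ∧ N * M = H := by
  classical
  set L : Submodule (PowerSeries k) (Fin r → PowerSeries k) :=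
    LinearMap.range (Matrix.vecMulLinear M) with hL
  have ha : ∀ j : Fin r, ∃ (e : ℕ) (g : Fin r → PowerSeries k), g ∈ L ∧
      (∀ l, l < j → g l = 0) ∧ g j = PowerSeries.X ^ e ∧
      ∀ w ∈ L, (∀ l, l < j → w l = 0) → PowerSeries.X ^ e ∣ w j := by
    intro j
    have hex : ∃ n : ℕ, ∃ w ∈ L, (∀ l, l < j → w l = 0) ∧ PowerSeries.coeff n (w j) ≠ 0 := by
      have hdet : ∃ n, PowerSeries.coeff n M.det ≠ 0 := by
        by_contra hcon
        push Not at hcon
        exact hM (PowerSeries.ext (fun n => by rw [hcon n, map_zero]))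
      obtain ⟨n, hn⟩ := hdet
      refine ⟨n, Pi.single j M.det, ?_, ?_, ?_⟩
      · rw [hL, LinearMap.mem_range]
        refine ⟨M.adjugate j, ?_⟩
        rw [Matrix.vecMulLinear_apply, ← Matrix.mul_apply_eq_vecMul, Matrix.adjugate_mul]
        funext l
        by_cases hlj : l = j
        · subst hlj
          rw [Matrix.smul_apply, Matrix.one_apply_eq, Pi.single_eq_same, smul_eq_mul, mul_one]
        · rw [Matrix.smul_apply, Matrix.one_apply_ne (Ne.symm hlj), Pi.single_eq_of_ne hlj,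
            smul_zero]
      · intro l hl
        rw [Pi.single_eq_of_ne (ne_of_lt hl)]
      · rw [Pi.single_eq_same]
        exact hn
    obtain ⟨e, ⟨w0, hw0L, hw0z, hw0c⟩, hmin⟩ : ∃ e : ℕ,
        (∃ w ∈ L, (∀ l, l < j → w l = 0) ∧ PowerSeries.coeff e (w j) ≠ 0) ∧
        ∀ m < e, ¬ ∃ w ∈ L, (∀ l, l < j → w l = 0) ∧ PowerSeries.coeff m (w j) ≠ 0 :=
      ⟨Nat.find hex, Nat.find_spec hex, fun m hm => Nat.find_min hex hm⟩
    have hdiv : ∀ w ∈ L, (∀ l, l < j → w l = 0) → PowerSeries.X ^ e ∣ w j := by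
      intro w hw hz
      rw [PowerSeries.X_pow_dvd_iff]
      intro m hm
      by_contra hne
      exact hmin m hm ⟨w, hw, hz, hne⟩
    obtain ⟨y, hy⟩ := hdiv w0 hw0L hw0z
    have hy0 : PowerSeries.coeff 0 y ≠ 0 := by
      have h1 := hw0c
      rw [hy, PowerSeries.coeff_X_pow_mul', if_pos le_rfl, Nat.sub_self] at h1
      exact h1
    have hyc : PowerSeries.constantCoeff y ≠ 0 := by
      rwa [PowerSeries.coeff_zero_eq_constantCoeff_apply] at hy0
    have hyu : IsUnit y := by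
      rw [PowerSeries.isUnit_iff_constantCoeff]
      exact isUnit_iff_ne_zero.mpr hyc
    obtain ⟨y', hy'⟩ := hyu.exists_left_inv
    refine ⟨e, y' • w0, L.smul_mem _ hw0L, ?_, ?_, hdiv⟩
    · intro l hl
      rw [Pi.smul_apply, hw0z l hl, smul_zero]
    · rw [Pi.smul_apply, hy, smul_eq_mul]
      calc y' * (PowerSeries.X ^ e * y) = PowerSeries.X ^ e * (y' * y) := by ring
        _ = PowerSeries.X ^ e := by rw [hy', mul_one]
  choose e g0 hg0L hg0z hg0d hdiv using ha
  let P : Fin r → PowerSeries k → Prop := fun j x => ∀ n, e j ≤ n → PowerSeries.coeff n x = 0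
  have hg0tri : ∀ l j : Fin r, j < l → g0 l j = 0 := fun l j hjl => hg0z l j hjl
  have hP0 : ∀ j x, ∃ q, P j (x - q * g0 j j) := by
    intro j x
    rw [hg0d]
    exact div_rem (e j) x
  have hf : ∀ i : Fin r, ∃ c : Fin r → PowerSeries k,
      (∀ l : Fin r, (l : ℕ) < (i : ℕ) + 1 → c l = 0) ∧
      ∀ j : Fin r, (i : ℕ) + 1 ≤ (j : ℕ) → P j ((g0 i - ∑ l, c l • g0 l) j) :=
    fun i => red g0 hg0tri P hP0 (r - ((i : ℕ) + 1)) ((i : ℕ) + 1)
      (by have := i.2; omega) (g0 i)
  choose c hc0 hcP using hf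
  let g : Fin r → Fin r → PowerSeries k := fun i => g0 i - ∑ l, c i l • g0 l
  have hsum0 : ∀ i j : Fin r, j ≤ i → (∑ l, c i l • g0 l) j = 0 := by
    intro i j hji
    rw [Finset.sum_apply]
    apply Finset.sum_eq_zero
    intro l _
    rw [Pi.smul_apply, smul_eq_mul]
    by_cases hl : (l : ℕ) < (i : ℕ) + 1
    · rw [hc0 i l hl, zero_mul]
    · rw [hg0tri l j (by rw [Fin.lt_def]; have := Fin.le_def.mp hji; omega), mul_zero]
  have hgL : ∀ i, g i ∈ L := fun i =>
    L.sub_mem (hg0L i) (L.sum_mem fun l _ => L.smul_mem _ (hg0L l))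
  have hgtri : ∀ l j : Fin r, j < l → g l j = 0 := by
    intro l j hjl
    show (g0 l - ∑ l', c l l' • g0 l') j = 0
    rw [Pi.sub_apply, hsum0 l j hjl.le, sub_zero, hg0tri l j hjl]
  have hgdiag : ∀ l, g l l = PowerSeries.X ^ e l := by
    intro l
    show (g0 l - ∑ l', c l l' • g0 l') l = _
    rw [Pi.sub_apply, hsum0 l l le_rfl, sub_zero, hg0d]
  have hgred : ∀ i j : Fin r, i < j → P j (g i j) := fun i j hij =>
    hcP i j (by have := Fin.lt_def.mp hij; omega)
  have hP : ∀ j x, ∃ q, P j (x - q * g j j) := by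
    intro j x
    rw [hgdiag]
    exact div_rem (e j) x
  have hgen : ∀ w ∈ L, ∃ d : Fin r → PowerSeries k, w = ∑ l, d l • g l := by
    intro w hw
    obtain ⟨d, -, hdP⟩ := red g hgtri P hP r 0 (by omega) w
    refine ⟨d, ?_⟩
    have hw'L : w - ∑ l, d l • g l ∈ L :=
      L.sub_mem hw (L.sum_mem fun l _ => L.smul_mem _ (hgL l))
    have hzero : ∀ n : ℕ, ∀ j : Fin r, (j : ℕ) = n → (w - ∑ l, d l • g l) j = 0 := by
      intro n
      induction n using Nat.strong_induction_on with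
      | _ n ih =>
        intro j hj
        have hprev : ∀ l, l < j → (w - ∑ l', d l' • g l') l = 0 := by
          intro l hl
          exact ih (l : ℕ) (by rw [← hj]; exact Fin.lt_def.mp hl) l rfl
        obtain ⟨y, hy⟩ := hdiv j _ hw'L hprev
        have hyz : y = 0 :=
          eq_zero_of_red (e j) y (by rw [← hy]; exact hdP j (Nat.zero_le _))
        rw [hy, hyz, mul_zero]
    have h0 : w - ∑ l, d l • g l = 0 := funext fun j => hzero j j rfl
    exact sub_eq_zero.mp h0
  have hrowM : ∀ i, M i ∈ L := by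
    intro i
    rw [hL, LinearMap.mem_range]
    refine ⟨(1 : Matrix (Fin r) (Fin r) (PowerSeries k)) i, ?_⟩
    rw [Matrix.vecMulLinear_apply, ← Matrix.mul_apply_eq_vecMul, Matrix.one_mul]
  choose d hd using fun i => hgen (M i) (hrowM i)
  have hgL' : ∀ i, ∃ a : Fin r → PowerSeries k, Matrix.vecMul a M = g i := by
    intro i
    have h1 := hgL i
    rw [hL, LinearMap.mem_range] at h1
    obtain ⟨a, ha⟩ := h1
    exact ⟨a, by rw [← ha, Matrix.vecMulLinear_apply]⟩
  choose a ha using hgL'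
  have h0 : Matrix.of a * M = Matrix.of g := by
    refine Matrix.ext fun i j => ?_
    have h1 := congrFun (Matrix.mul_apply_eq_vecMul (Matrix.of a) M i) j
    rw [h1]
    show (Matrix.vecMul (a i) M) j = g i j
    rw [ha]
  have h1 : Matrix.of d * Matrix.of g = M := by
    refine Matrix.ext fun i j => ?_
    have h2 := congrFun (Matrix.mul_apply_eq_vecMul (Matrix.of d) (Matrix.of g) i) j
    rw [h2, Matrix.vecMul_eq_sum]
    show (∑ l, d i l • g l) j = M i j
    rw [← hd i]
  have h10 : Matrix.of d * Matrix.of a = 1 := by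
    have h2 : (Matrix.of d * Matrix.of a - 1) * M = 0 := by
      rw [Matrix.sub_mul, Matrix.mul_assoc, h0, h1, Matrix.one_mul, sub_self]
    exact sub_eq_zero.mp (mul_cancel_det M _ hM h2)
  refine ⟨e, Matrix.of g, Matrix.of a, hgdiag, hgtri, ?_,
    (Matrix.isUnit_iff_isUnit_det _).mpr (Matrix.isUnit_det_of_left_inverse h10), h0⟩
  intro i j hij n hn
  exact hgred i j hij n hn

lemma X_pow_dvd_le {k : Type*} [Field k] {a b : ℕ}
    (h : (PowerSeries.X : PowerSeries k) ^ a ∣ PowerSeries.X ^ b) : a ≤ b := by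
  by_contra hlt
  push Not at hlt
  rw [PowerSeries.X_pow_dvd_iff] at h
  have h1 := h b hlt
  rw [PowerSeries.coeff_X_pow_self] at h1
  exact one_ne_zero h1

lemma diag_step {k : Type*} [Field k] {a b : ℕ} {u v : PowerSeries k}
    (h1 : (PowerSeries.X : PowerSeries k) ^ a = u * PowerSeries.X ^ b)
    (h2 : (PowerSeries.X : PowerSeries k) ^ b = v * PowerSeries.X ^ a) :
    a = b ∧ u = 1 ∧ v = 1 := by
  have hab : a = b :=
    le_antisymm (X_pow_dvd_le ⟨v, by rw [h2]; ring⟩) (X_pow_dvd_le ⟨u, by rw [h1]; ring⟩)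
  subst hab
  have hne : (PowerSeries.X : PowerSeries k) ^ a ≠ 0 := pow_ne_zero _ PowerSeries.X_ne_zero
  refine ⟨rfl, ?_, ?_⟩
  · have h3 : u * PowerSeries.X ^ a = 1 * PowerSeries.X ^ a := by rw [one_mul, ← h1]
    exact mul_right_cancel₀ hne h3
  · have h3 : v * PowerSeries.X ^ a = 1 * PowerSeries.X ^ a := by rw [one_mul, ← h2]
    exact mul_right_cancel₀ hne h3

lemma col {k : Type*} [Field k] {r : ℕ} (H1 H2 U : Matrix (Fin r) (Fin r) (PowerSeries k))
    (e2 : Fin r → ℕ)
    (hd2 : ∀ i, H2 i i = PowerSeries.X ^ e2 i) (ht2 : ∀ i j, j < i → H2 i j = 0)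
    (hU : U * H2 = H1) (j : Fin r)
    (hprev : ∀ l, l < j → ∀ i, U i l = if i = l then 1 else 0) (i : Fin r) :
    H1 i j = (if i < j then H2 i j else 0) + U i j * PowerSeries.X ^ e2 j := by
  classical
  rw [← hU, Matrix.mul_apply, ← Finset.add_sum_erase _ _ (Finset.mem_univ j), hd2, add_comm]
  congr 1
  by_cases hij : i < j
  · rw [if_pos hij, Finset.sum_eq_single i]
    · rw [hprev i hij i, if_pos rfl, one_mul]
    · intro l hl hli
      rcases lt_or_gt_of_ne (Finset.ne_of_mem_erase hl) with hlj | hlj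
      · rw [hprev l hlj i, if_neg (Ne.symm hli), zero_mul]
      · rw [ht2 l j hlj, mul_zero]
    · intro hni
      exact absurd (Finset.mem_erase.mpr ⟨ne_of_lt hij, Finset.mem_univ _⟩) hni
  · rw [if_neg hij]
    apply Finset.sum_eq_zero
    intro l hl
    rcases lt_or_gt_of_ne (Finset.ne_of_mem_erase hl) with hlj | hlj
    · rw [hprev l hlj i, if_neg, zero_mul]
      intro hh
      exact hij (hh ▸ hlj)
    · rw [ht2 l j hlj, mul_zero]

lemma col_off {k : Type*} [Field k] {r : ℕ} (H1 H2 U : Matrix (Fin r) (Fin r) (PowerSeries k))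
    (e1 e2 : Fin r → ℕ)
    (ht1 : ∀ i j, j < i → H1 i j = 0)
    (hr1 : ∀ i j, i < j → ∀ n, e1 j ≤ n → PowerSeries.coeff n (H1 i j) = 0)
    (hr2 : ∀ i j, i < j → ∀ n, e2 j ≤ n → PowerSeries.coeff n (H2 i j) = 0)
    (j : Fin r) (hej : e1 j = e2 j)
    (cU : ∀ i, H1 i j = (if i < j then H2 i j else 0) + U i j * PowerSeries.X ^ e2 j) :
    ∀ i, i ≠ j → U i j = 0 := by
  have hne : (PowerSeries.X : PowerSeries k) ^ e2 j ≠ 0 := pow_ne_zero _ PowerSeries.X_ne_zero
  intro i hij
  rcases lt_or_gt_of_ne hij with hlt | hgt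
  · have h := cU i
    rw [if_pos hlt] at h
    have h' : PowerSeries.X ^ e2 j * U i j = H1 i j - H2 i j := by rw [h]; ring
    apply eq_zero_of_red (e2 j) (U i j)
    intro n hn
    rw [h', map_sub, hr1 i j hlt n (by rw [hej]; exact hn), hr2 i j hlt n hn, sub_zero]
  · have h := cU i
    rw [if_neg (not_lt.mpr hgt.le), zero_add, ht1 i j hgt] at h
    exact (mul_eq_zero.mp h.symm).resolve_right hne

lemma hnf_unique {k : Type*} [Field k] {r : ℕ}
    (H1 H2 U V : Matrix (Fin r) (Fin r) (PowerSeries k)) (e1 e2 : Fin r → ℕ)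
    (hd1 : ∀ i, H1 i i = PowerSeries.X ^ e1 i) (ht1 : ∀ i j, j < i → H1 i j = 0)
    (hr1 : ∀ i j, i < j → ∀ n, e1 j ≤ n → PowerSeries.coeff n (H1 i j) = 0)
    (hd2 : ∀ i, H2 i i = PowerSeries.X ^ e2 i) (ht2 : ∀ i j, j < i → H2 i j = 0)
    (hr2 : ∀ i j, i < j → ∀ n, e2 j ≤ n → PowerSeries.coeff n (H2 i j) = 0)
    (hU : U * H2 = H1) (hV : V * H1 = H2) : H1 = H2 := by
  have key : ∀ n : ℕ, ∀ j : Fin r, (j : ℕ) = n →
      (∀ i, U i j = if i = j then 1 else 0) ∧ (∀ i, V i j = if i = j then 1 else 0) := by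
    intro n
    induction n using Nat.strong_induction_on with
    | _ n ih =>
      intro j hj
      have hpU : ∀ l, l < j → ∀ i, U i l = if i = l then 1 else 0 :=
        fun l hl => (ih (l : ℕ) (by rw [← hj]; exact Fin.lt_def.mp hl) l rfl).1
      have hpV : ∀ l, l < j → ∀ i, V i l = if i = l then 1 else 0 :=
        fun l hl => (ih (l : ℕ) (by rw [← hj]; exact Fin.lt_def.mp hl) l rfl).2
      have cU := col H1 H2 U e2 hd2 ht2 hU j hpU
      have cV := col H2 H1 V e1 hd1 ht1 hV j hpV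
      have dU := cU j
      have dV := cV j
      rw [if_neg (lt_irrefl j), zero_add, hd1] at dU
      rw [if_neg (lt_irrefl j), zero_add, hd2] at dV
      obtain ⟨hej, hUjj, hVjj⟩ := diag_step dU dV
      have offU := col_off H1 H2 U e1 e2 ht1 hr1 hr2 j hej cU
      have offV := col_off H2 H1 V e2 e1 ht2 hr2 hr1 j hej.symm cV
      refine ⟨fun i => ?_, fun i => ?_⟩
      · by_cases hij : i = j
        · rw [if_pos hij, hij, hUjj]
        · rw [if_neg hij, offU i hij]
      · by_cases hij : i = j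
        · rw [if_pos hij, hij, hVjj]
        · rw [if_neg hij, offV i hij]
  have hU1 : U = 1 := by
    refine Matrix.ext fun i j => ?_
    rw [(key j j rfl).1 i, Matrix.one_apply]
  rw [← hU, hU1, Matrix.one_mul]

end Aux


/-- Let k be a field and M a square matrix of size r over the formal power series ring k[[t]] with
non-zero determinant. Call a matrix H over k[[t]] row-reduced when it is upper triangular, each
diagonal entry is a power t^{e_i} of the variable, and every entry above the diagonal in column j is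
a polynomial of degree less than e_j (all its coefficients in degrees ≥ e_j vanish). Then there is
exactly one row-reduced H obtainable from M by left multiplication with an invertible matrix over
k[[t]]. (The published statement takes k algebraically closed; the row-reduction argument needs only
a field.) -/
theorem result (k : Type u) [Field k] (r : ℕ)
    (M : Matrix (Fin r) (Fin r) (PowerSeries k)) (hM : M.det ≠ 0) :
    ∃! H : Matrix (Fin r) (Fin r) (PowerSeries k),
      (∃ e : Fin r → ℕ, (∀ i, H i i = PowerSeries.X ^ e i) ∧ (∀ i j, j < i → H i j = 0) ∧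
        (∀ i j, i < j → ∀ n, e j ≤ n → PowerSeries.coeff n (H i j) = 0)) ∧
      ∃ N : Matrix (Fin r) (Fin r) (PowerSeries k), IsUnit N ∧ N * M = H := by
  obtain ⟨e, H, N, hd, ht, hr, hN, hNM⟩ := exists_hnf M hM
  refine ⟨H, ⟨⟨e, hd, ht, hr⟩, N, hN, hNM⟩, ?_⟩
  rintro H' ⟨⟨e', hd', ht', hr'⟩, N', hN', hNM'⟩
  obtain ⟨Ni, hNi⟩ : ∃ Ni : Matrix (Fin r) (Fin r) (PowerSeries k), Ni * N = 1 := by
    obtain ⟨u, hu⟩ := hN
    exact ⟨↑u⁻¹, by rw [← hu]; exact u.inv_mul⟩
  obtain ⟨Ni', hNi'⟩ : ∃ Ni : Matrix (Fin r) (Fin r) (PowerSeries k), Ni * N' = 1 := by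
    obtain ⟨u, hu⟩ := hN'
    exact ⟨↑u⁻¹, by rw [← hu]; exact u.inv_mul⟩
  have hU : (N' * Ni) * H = H' := by
    rw [← hNM, Matrix.mul_assoc, ← Matrix.mul_assoc Ni, hNi, Matrix.one_mul, hNM']
  have hV : (N * Ni') * H' = H := by
    rw [← hNM', Matrix.mul_assoc, ← Matrix.mul_assoc Ni', hNi', Matrix.one_mul, hNM]
  exact hnf_unique H' H (N' * Ni) (N * Ni') e' e hd' ht' hr' hd ht hr hU hV

end Groth.Agent.S14038
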