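import Groth.Statements.S14039
import Mathlib
import Mathlib

set_option autoImplicit false
open W4c1frobunstiva

namespace Groth.Agent.S14039

open PowerSeries

theorem G_mul (p : ℕ) :
    (∑ j : Fin p, (if 1 ≤ (j : ℕ) then (X : ℤ⟦X⟧) ^ (j : ℕ) else 0)) * (1 - X)
      = X * (1 - X ^ (p - 1)) := by
  cases p with
  | zero => simp
  | succ q =>
    have h1 : ∑ j : Fin (q + 1), (if 1 ≤ (j : ℕ) then (X : ℤ⟦X⟧) ^ (j : ℕ) else 0)
        = X * ∑ j ∈ Finset.range q, X ^ j := by
      rw [Fin.sum_univ_succ, Finset.mul_sum,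
        ← Fin.sum_univ_eq_sum_range (fun j => (X : ℤ⟦X⟧) * X ^ j) q]
      simp [pow_succ']
    rw [h1, mul_assoc, geom_sum_mul_neg]
    simp

/-- For natural numbers p, n ≥ 1 and s, the number of monomials of degree s in n variables in which
every variable occurs with a positive exponent strictly less than p — that is, of exponent vectors
(e_1, …, e_n) with sum s and 1 ≤ e_i ≤ p − 1 — equals the inclusion–exclusion sum over i from 0 to n
of (−1)^i · C(n, i) · C(s − i(p − 1) − 1, n − 1), the last factor counting monomials of degree s −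
i(p − 1) − n in n variables and read as 0 when s < i(p − 1) + n. (A companion count, by how many
exponents lie below p/2, and a remark on polynomiality in s and p are not part of this row.) -/
theorem result (p n s : ℕ)
    (hn : 1 ≤ n) :
    (Fintype.card {e : Fin n → Fin p // (∀ i, 1 ≤ (e i : ℕ)) ∧ ∑ i, (e i : ℕ) = s} : ℤ) =
      ∑ i ∈ Finset.range (n + 1),
        (-1 : ℤ) ^ i * (n.choose i : ℤ) *
          (if i * (p - 1) + n ≤ s then (((s - i * (p - 1) - 1).choose (n - 1) : ℕ) : ℤ) else 0) := by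
  classical
  set g : Fin p → ℤ⟦X⟧ := fun j => if 1 ≤ (j : ℕ) then (X : ℤ⟦X⟧) ^ (j : ℕ) else 0 with hg
  set G : ℤ⟦X⟧ := ∑ j : Fin p, g j with hGdef
  have hGm : G * (1 - X) = X * (1 - X ^ (p - 1)) := G_mul p
  have hmk : (mk 1 : ℤ⟦X⟧) * (1 - X) = 1 := mk_one_mul_one_sub_eq_one ℤ
  have hG : G = X * (1 - X ^ (p - 1)) * mk 1 := by
    calc G = G * ((1 - X) * mk 1) := by rw [mul_comm (1 - X), hmk, mul_one]
      _ = X * (1 - X ^ (p - 1)) * mk 1 := by rw [← mul_assoc, hGm]
  obtain ⟨d, rfl⟩ : ∃ d, n = d + 1 := ⟨n - 1, by omega⟩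
  have hGn : G ^ (d + 1) = ∑ i ∈ Finset.range (d + 1 + 1),
      C ((-1 : ℤ) ^ i * ((d + 1).choose i : ℤ)) *
        (X ^ (i * (p - 1) + (d + 1)) * (mk fun k => ((d + k).choose d : ℤ))) := by
    rw [hG, mul_pow, mul_pow, mk_one_pow_eq_mk_choose_add]
    have : (1 - (X : ℤ⟦X⟧) ^ (p - 1)) ^ (d + 1) = ∑ i ∈ Finset.range (d + 1 + 1),
        C ((-1 : ℤ) ^ i * ((d + 1).choose i : ℤ)) * X ^ (i * (p - 1)) := by
      rw [sub_eq_neg_add, add_pow]
      refine Finset.sum_congr rfl fun i _ => ?_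
      simp only [one_pow, mul_one, map_mul, map_pow, map_neg, map_one, map_natCast,
        neg_pow (X ^ (p - 1)), ← pow_mul]
      ring
    rw [this, Finset.mul_sum, Finset.sum_mul]
    refine Finset.sum_congr rfl fun i _ => ?_
    rw [pow_add]; ring
  have hL : coeff s (G ^ (d + 1)) = (Fintype.card {e : Fin (d+1) → Fin p //
      (∀ i, 1 ≤ (e i : ℕ)) ∧ ∑ i, (e i : ℕ) = s} : ℤ) := by
    have : G ^ (d + 1) = ∑ e : Fin (d + 1) → Fin p, ∏ i, g (e i) := by
      rw [← Fintype.piFinset_univ, ← Finset.prod_univ_sum (fun _ => Finset.univ) (fun _ j => g j)]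
      simp [hGdef]
    rw [this, map_sum, Fintype.card_subtype, ← Finset.sum_boole]
    refine Finset.sum_congr rfl fun e _ => ?_
    by_cases h : ∀ i, 1 ≤ (e i : ℕ)
    · have : ∏ i, g (e i) = X ^ (∑ i, (e i : ℕ)) := by
        rw [← Finset.prod_pow_eq_pow_sum]
        exact Finset.prod_congr rfl fun i _ => if_pos (h i)
      rw [this, coeff_X_pow]
      simp [h, eq_comm]
    · have h' := h
      push Not at h'
      obtain ⟨i, hi⟩ := h'
      have : ∏ i, g (e i) = 0 :=
        Finset.prod_eq_zero (Finset.mem_univ i) (if_neg (by omega))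
      rw [this]; simp [h]
  rw [← hL, hGn, map_sum]
  refine Finset.sum_congr rfl fun i _ => ?_
  rw [coeff_C_mul, coeff_X_pow_mul', coeff_mk]
  congr 1
  by_cases h : i * (p - 1) + (d + 1) ≤ s
  · rw [if_pos h, if_pos h]
    have e1 : d + (s - (i * (p - 1) + (d + 1))) = s - i * (p - 1) - 1 := by omega
    rw [e1, Nat.add_sub_cancel]
  · rw [if_neg h, if_neg h]

end Groth.Agent.S14039
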