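import Groth.Statements.S14043
import Mathlib

set_option autoImplicit false
universe u v
open W4c1frobunstiva

namespace Groth.Agent.S14043

/-- Let R be a commutative Noetherian ring, M an R-module that is NR-free of rank r — generated by some
r elements all of whose linear relations have nilpotent coefficients — and m, m' two generating
families of M, each indexed by the same finite set of size r. Then some invertible r × r matrix T
over R expresses m' in terms of m, m'_j = Σ_i T_{ji} m_i; reducing modulo the nilradical n, such a T
induces the change-of-basis matrix between the bases of M/nM given by the images of m and m' (an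
r-element generating family of M is itself an NR-basis), so only the existence of an invertible T is
asserted here. (T is not unique.) -/
theorem result (R : Type u) [CommRing R]
    [IsNoetherianRing R] (M : Type v) [AddCommGroup M] [Module R M] (r : ℕ)
    (hM : W4c1frobunstiva.IsNRFree R M r) (m m' : Fin r → M)
    (hm : Submodule.span R (Set.range m) = ⊤) (hm' : Submodule.span R (Set.range m') = ⊤) :
    ∃ T : Matrix (Fin r) (Fin r) R, IsUnit T ∧ ∀ j, m' j = ∑ i, T j i • m i := by
  classical
  obtain ⟨m₀, hm₀, hnil⟩ := hM
  have key : ∀ (v w : Fin r → M), Submodule.span R (Set.range v) = ⊤ →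
      ∃ P : Matrix (Fin r) (Fin r) R, ∀ j, w j = ∑ i, P j i • v i := by
    intro v w hv
    have h0 : ∀ j, ∃ c : Fin r → R, ∑ i, c i • v i = w j := fun j =>
      (Submodule.mem_span_range_iff_exists_fun R).mp (hv ▸ Submodule.mem_top)
    choose c hc using h0
    exact ⟨Matrix.of c, fun j => (hc j).symm⟩
  obtain ⟨T, hT⟩ := key m m' hm
  obtain ⟨S, hS⟩ := key m' m₀ hm'
  obtain ⟨Q, hQ⟩ := key m₀ m hm₀
  have act_mul : ∀ (P P' : Matrix (Fin r) (Fin r) R) (v : Fin r → M) (k : Fin r),
      ∑ l, (P * P') k l • v l = ∑ j, P k j • ∑ l, P' j l • v l := by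
    intro P P' v k
    simp only [Matrix.mul_apply, Finset.sum_smul, Finset.smul_sum, mul_smul]
    exact Finset.sum_comm
  have hWm : ∀ k, ∑ l, (S * T * Q) k l • m₀ l = m₀ k := by
    intro k
    rw [act_mul (S * T) Q m₀ k]
    have h1 : ∀ i, ∑ l, Q i l • m₀ l = m i := fun i => (hQ i).symm
    simp only [h1]
    rw [act_mul S T m k]
    have h2 : ∀ j, ∑ i, T j i • m i = m' j := fun j => (hT j).symm
    simp only [h2]
    exact (hS k).symm
  have hWnil : ∀ k l, IsNilpotent ((S * T * Q) k l - (1 : Matrix (Fin r) (Fin r) R) k l) := by
    intro k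
    apply hnil (fun l => (S * T * Q) k l - (1 : Matrix (Fin r) (Fin r) R) k l)
    simp only [sub_smul, Finset.sum_sub_distrib, hWm k, Matrix.one_apply, ite_smul, one_smul,
      zero_smul, Finset.sum_ite_eq, Finset.mem_univ, if_true, sub_self]
  have hdet : IsUnit (S * T * Q).det := by
    have hmap : (Ideal.Quotient.mk (nilradical R)).mapMatrix (S * T * Q) = 1 := by
      ext k l
      rw [RingHom.mapMatrix_apply, Matrix.map_apply]
      have h1 : Ideal.Quotient.mk (nilradical R) ((S * T * Q) k l) =
          Ideal.Quotient.mk (nilradical R) ((1 : Matrix (Fin r) (Fin r) R) k l) :=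
        Ideal.Quotient.eq.mpr (mem_nilradical.mpr (hWnil k l))
      rw [h1, Matrix.one_apply, Matrix.one_apply]
      split_ifs <;> simp
    have h2 : Ideal.Quotient.mk (nilradical R) (S * T * Q).det = 1 := by
      rw [RingHom.map_det, hmap, Matrix.det_one]
    have h3 : IsNilpotent ((S * T * Q).det - 1) := by
      rw [← mem_nilradical]
      have h4 : Ideal.Quotient.mk (nilradical R) ((S * T * Q).det - 1) = 0 := by
        rw [map_sub, h2, map_one, sub_self]
      exact Ideal.Quotient.eq_zero_iff_mem.mp h4
    have h5 : (S * T * Q).det = 1 + ((S * T * Q).det - 1) := by ring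
    rw [h5]
    exact h3.isUnit_one_add
  have hT' : IsUnit T.det := by
    rw [Matrix.det_mul, Matrix.det_mul] at hdet
    exact isUnit_of_mul_isUnit_right (isUnit_of_mul_isUnit_left hdet)
  exact ⟨T, (Matrix.isUnit_iff_isUnit_det T).mpr hT', hT⟩

end Groth.Agent.S14043
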