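import Groth.Statements.S14044
import Mathlib
import Groth.Agent.S14038

set_option autoImplicit false
universe u
open W4c1frobunstiva

namespace Groth.Agent.S14044


section Aux

variable {k : Type*} [Field k]

def T (k : Type*) [Field k] (p : ℕ) : Subring (PowerSeries k) where
  carrier := {x | ∀ n, ¬ p ∣ n → PowerSeries.coeff n x = 0}
  mul_mem' := by
    intro a b ha hb n hn
    rw [PowerSeries.coeff_mul]
    apply Finset.sum_eq_zero
    intro x hx
    by_cases h1 : p ∣ x.1
    · have h2 : ¬ p ∣ x.2 := by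
        intro h2
        apply hn
        rw [← Finset.HasAntidiagonal.mem_antidiagonal.mp hx]
        exact dvd_add h1 h2
      rw [hb _ h2, mul_zero]
    · rw [ha _ h1, zero_mul]
  one_mem' := by
    intro n hn
    rw [PowerSeries.coeff_one, if_neg]
    rintro rfl
    exact hn (dvd_zero p)
  add_mem' := by
    intro a b ha hb n hn
    rw [map_add, ha n hn, hb n hn, add_zero]
  zero_mem' := by
    intro n _
    rw [map_zero]
  neg_mem' := by
    intro a ha n hn
    rw [map_neg, ha n hn, neg_zero]

lemma extract (p : ℕ) (e : ℕ) (z : PowerSeries k) :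
    ∃ s : PowerSeries k, s ∈ T k p ∧
      (∀ n, e ≤ n → n % p = e % p → PowerSeries.coeff n (z + s * PowerSeries.X ^ e) = 0) ∧
      (∀ n, PowerSeries.coeff n z = 0 → PowerSeries.coeff n (z + s * PowerSeries.X ^ e) = 0) := by
  classical
  refine ⟨PowerSeries.mk fun m => if p ∣ m then - PowerSeries.coeff (m + e) z else 0, ?_, ?_, ?_⟩
  · intro n hn
    rw [PowerSeries.coeff_mk, if_neg hn]
  · intro n hle hmod
    have hdvd : p ∣ n - e := (Nat.modEq_iff_dvd' hle).mp hmod.symm
    rw [map_add, PowerSeries.coeff_mul_X_pow', if_pos hle, PowerSeries.coeff_mk, if_pos hdvd,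
      Nat.sub_add_cancel hle, add_neg_cancel]
  · intro n h0
    rw [map_add, PowerSeries.coeff_mul_X_pow', h0, zero_add]
    split_ifs with hle
    · rw [PowerSeries.coeff_mk]
      split_ifs with hd
      · rw [Nat.sub_add_cancel hle, h0, neg_zero]
      · rfl
    · rfl

def Cmat {r : ℕ} (j : Fin r) (v : Fin r → PowerSeries k) :
    Matrix (Fin r) (Fin r) (PowerSeries k) :=
  Matrix.of fun a b => if b = j then v a else 0

lemma Cmat_mul {r : ℕ} (j : Fin r) (v : Fin r → PowerSeries k)
    (K : Matrix (Fin r) (Fin r) (PowerSeries k)) (l b : Fin r) :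
    (Cmat j v * K) l b = v l * K j b := by
  rw [Matrix.mul_apply, Finset.sum_eq_single j]
  · show (if j = j then v l else 0) * K j b = _
    rw [if_pos rfl]
  · intro a _ ha
    show (if a = j then v l else 0) * K a b = 0
    rw [if_neg ha, zero_mul]
  · intro h
    exact absurd (Finset.mem_univ _) h

lemma mul_Cmat {r : ℕ} (j : Fin r) (v : Fin r → PowerSeries k)
    (K : Matrix (Fin r) (Fin r) (PowerSeries k)) (l b : Fin r) :
    (K * Cmat j v) l b = if b = j then ∑ a, K l a * v a else 0 := by
  rw [Matrix.mul_apply]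
  by_cases hb : b = j
  · rw [if_pos hb]
    apply Finset.sum_congr rfl
    intro a _
    show K l a * (if b = j then v a else 0) = _
    rw [if_pos hb]
  · rw [if_neg hb]
    apply Finset.sum_eq_zero
    intro a _
    show K l a * (if b = j then v a else 0) = 0
    rw [if_neg hb, mul_zero]

lemma Cmat_sq {r : ℕ} (j : Fin r) (v : Fin r → PowerSeries k) (hv : v j = 0) :
    Cmat j v * Cmat j v = 0 := by
  refine Matrix.ext fun a c => ?_
  rw [Cmat_mul]
  show v a * (if c = j then v j else 0) = 0
  rw [hv, ite_self, mul_zero]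

lemma isUnit_one_add_Cmat {r : ℕ} (j : Fin r) (v : Fin r → PowerSeries k) (hv : v j = 0) :
    IsUnit (1 + Cmat j v) := by
  have h : (1 - Cmat j v) * (1 + Cmat j v) = 1 := by
    rw [sub_mul, one_mul, mul_add, mul_one, Cmat_sq j v hv, add_zero, add_sub_cancel_right]
  exact (Matrix.isUnit_iff_isUnit_det _).mpr (Matrix.isUnit_det_of_left_inverse h)

lemma isUnit_one_sub_Cmat {r : ℕ} (j : Fin r) (v : Fin r → PowerSeries k) (hv : v j = 0) :
    IsUnit (1 - Cmat j v) := by
  have h : (1 + Cmat j v) * (1 - Cmat j v) = 1 := by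
    rw [add_mul, one_mul, mul_sub, mul_one, Cmat_sq j v hv, sub_zero, sub_add_cancel]
  exact (Matrix.isUnit_iff_isUnit_det _).mpr (Matrix.isUnit_det_of_left_inverse h)

lemma entry {r : ℕ} (j : Fin r) (s q : Fin r → PowerSeries k)
    (H : Matrix (Fin r) (Fin r) (PowerSeries k)) (l b : Fin r) :
    ((1 - Cmat j q) * H * (1 + Cmat j s)) l b
      = (H l b + if b = j then ∑ a, H l a * s a else 0)
        - q l * (H j b + if b = j then ∑ a, H j a * s a else 0) := by
  rw [Matrix.mul_assoc, Matrix.sub_mul, Matrix.one_mul, Matrix.sub_apply, Cmat_mul, Matrix.mul_add,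
    Matrix.mul_one, Matrix.add_apply, Matrix.add_apply, mul_Cmat, mul_Cmat]

lemma col_rec (p : ℕ) {r : ℕ} (H : Matrix (Fin r) (Fin r) (PowerSeries k)) (e : Fin r → ℕ)
    (hdiag : ∀ i, H i i = PowerSeries.X ^ e i) (hlow : ∀ i b, b < i → H i b = 0) (j : Fin r) :
    ∀ d m : ℕ, m + d = (j : ℕ) → ∃ s q : Fin r → PowerSeries k,
      (∀ a : Fin r, ¬ (m ≤ (a : ℕ) ∧ a < j) → s a = 0) ∧ (∀ a, s a ∈ T k p) ∧
      (∀ a : Fin r, ¬ (m ≤ (a : ℕ) ∧ a < j) → q a = 0) ∧
      ∀ l : Fin r, m ≤ (l : ℕ) → l < j → ∀ n,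
        (e j ≤ n ∨ (e l ≤ n ∧ n % p = e l % p)) →
        PowerSeries.coeff n (H l j + ∑ a, H l a * s a - q l * PowerSeries.X ^ e j) = 0 := by
  classical
  intro d
  induction d with
  | zero =>
    intro m hm
    refine ⟨0, 0, fun _ _ => rfl, fun _ => (T k p).zero_mem, fun _ _ => rfl, ?_⟩
    intro l hml hlj
    exfalso
    have := Fin.lt_def.mp hlj
    omega
  | succ d ih =>
    intro m hm
    obtain ⟨s', q', hs'0, hs'T, hq'0, hc'⟩ := ih (m + 1) (by omega)
    have hmj : m < (j : ℕ) := by omega
    have hmr : m < r := lt_trans hmj j.2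
    have hl0j : (⟨m, hmr⟩ : Fin r) < j := Fin.lt_def.mpr hmj
    obtain ⟨q0, hq0⟩ := Groth.Agent.S14038.div_rem (e j)
      (H ⟨m, hmr⟩ j + ∑ a, H ⟨m, hmr⟩ a * s' a)
    obtain ⟨s0, hs0T, hs0i, hs0ii⟩ := extract p (e ⟨m, hmr⟩)
      (H ⟨m, hmr⟩ j + ∑ a, H ⟨m, hmr⟩ a * s' a - q0 * PowerSeries.X ^ e j)
    refine ⟨s' + Pi.single ⟨m, hmr⟩ s0, q' + Pi.single ⟨m, hmr⟩ q0, ?_, ?_, ?_, ?_⟩
    · intro a ha
      have hne : a ≠ ⟨m, hmr⟩ := by
        intro hh
        subst hh
        exact ha ⟨le_rfl, hl0j⟩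
      rw [Pi.add_apply, hs'0 a (fun h => ha ⟨Nat.le_of_succ_le h.1, h.2⟩),
        Pi.single_eq_of_ne hne, add_zero]
    · intro a
      rw [Pi.add_apply]
      refine (T k p).add_mem (hs'T a) ?_
      by_cases hh : a = ⟨m, hmr⟩
      · rw [hh, Pi.single_eq_same]
        exact hs0T
      · rw [Pi.single_eq_of_ne hh]
        exact (T k p).zero_mem
    · intro a ha
      have hne : a ≠ ⟨m, hmr⟩ := by
        intro hh
        subst hh
        exact ha ⟨le_rfl, hl0j⟩
      rw [Pi.add_apply, hq'0 a (fun h => ha ⟨Nat.le_of_succ_le h.1, h.2⟩),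
        Pi.single_eq_of_ne hne, add_zero]
    · intro l hml hlj n hn
      have hsum : ∑ a, H l a * ((s' + Pi.single (⟨m, hmr⟩ : Fin r) s0 : Fin r → PowerSeries k) a)
          = ∑ a, H l a * s' a + H l ⟨m, hmr⟩ * s0 := by
        simp only [Pi.add_apply, mul_add, Finset.sum_add_distrib]
        congr 1
        rw [Finset.sum_eq_single (⟨m, hmr⟩ : Fin r)]
        · rw [Pi.single_eq_same]
        · intro b _ hb
          rw [Pi.single_eq_of_ne hb, mul_zero]
        · intro hh
          exact absurd (Finset.mem_univ _) hh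
      rw [hsum, Pi.add_apply]
      rcases Nat.eq_or_lt_of_le hml with hlm | hlm
      · have hll : l = ⟨m, hmr⟩ := Fin.ext hlm.symm
        subst hll
        rw [Pi.single_eq_same, hq'0 ⟨m, hmr⟩ (fun h => Nat.not_succ_le_self m h.1), zero_add,
          hdiag]
        have hrw : H ⟨m, hmr⟩ j + (∑ a, H ⟨m, hmr⟩ a * s' a
              + PowerSeries.X ^ e ⟨m, hmr⟩ * s0) - q0 * PowerSeries.X ^ e j
            = (H ⟨m, hmr⟩ j + ∑ a, H ⟨m, hmr⟩ a * s' a - q0 * PowerSeries.X ^ e j)
              + s0 * PowerSeries.X ^ e ⟨m, hmr⟩ := by ring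
        rw [hrw]
        rcases hn with hn | ⟨hn1, hn2⟩
        · exact hs0ii n (hq0 n hn)
        · exact hs0i n hn1 hn2
      · have hne : l ≠ ⟨m, hmr⟩ := by
          intro hh
          rw [hh] at hlm
          exact lt_irrefl _ hlm
        rw [Pi.single_eq_of_ne hne, add_zero, hlow l ⟨m, hmr⟩ (Fin.lt_def.mpr hlm), zero_mul,
          add_zero]
        exact hc' l hlm hlj n hn

lemma col_step (p : ℕ) {r : ℕ} (H : Matrix (Fin r) (Fin r) (PowerSeries k)) (e : Fin r → ℕ)
    (hdiag : ∀ i, H i i = PowerSeries.X ^ e i) (hlow : ∀ i b, b < i → H i b = 0) (j : Fin r)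
    (hproc : ∀ i b : Fin r, i < b → b < j → ∀ n,
      (e b ≤ n ∨ (e i ≤ n ∧ n % p = e i % p)) → PowerSeries.coeff n (H i b) = 0) :
    ∃ A B : Matrix (Fin r) (Fin r) (PowerSeries k), IsUnit A ∧ IsUnit B ∧
      (∀ a b, B a b ∈ T k p) ∧
      (∀ i, (A * H * B) i i = PowerSeries.X ^ e i) ∧ (∀ i b, b < i → (A * H * B) i b = 0) ∧
      (∀ i b : Fin r, i < b → b ≤ j → ∀ n,
        (e b ≤ n ∨ (e i ≤ n ∧ n % p = e i % p)) →
        PowerSeries.coeff n ((A * H * B) i b) = 0) := by
  classical
  obtain ⟨s, q, hs0, hsT, hq0, hc⟩ := col_rec p H e hdiag hlow j (j : ℕ) 0 (by omega)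
  have hsj : ∀ a : Fin r, ¬ a < j → s a = 0 := fun a ha => hs0 a (fun h => ha h.2)
  have hqj : ∀ a : Fin r, ¬ a < j → q a = 0 := fun a ha => hq0 a (fun h => ha h.2)
  have hσ : ∀ l : Fin r, ¬ l < j → ∑ a, H l a * s a = 0 := by
    intro l hl
    apply Finset.sum_eq_zero
    intro a _
    by_cases haj : a < j
    · rw [hlow l a (lt_of_lt_of_le haj (not_lt.mp hl)), zero_mul]
    · rw [hsj a haj, mul_zero]
  refine ⟨1 - Cmat j q, 1 + Cmat j s, isUnit_one_sub_Cmat j q (hqj j (lt_irrefl j)),
    isUnit_one_add_Cmat j s (hsj j (lt_irrefl j)), ?_, ?_, ?_, ?_⟩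
  · intro a b
    rw [Matrix.add_apply]
    refine (T k p).add_mem ?_ ?_
    · rw [Matrix.one_apply]
      split_ifs
      · exact (T k p).one_mem
      · exact (T k p).zero_mem
    · show (if b = j then s a else 0) ∈ T k p
      split_ifs
      · exact hsT a
      · exact (T k p).zero_mem
  · intro i
    rw [entry]
    by_cases hij : i = j
    · rw [hij, if_pos rfl, hσ j (lt_irrefl j), add_zero, hqj j (lt_irrefl j), zero_mul, sub_zero,
        hdiag]
    · rw [if_neg hij, if_neg hij, add_zero, add_zero]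
      rcases lt_or_gt_of_ne hij with h | h
      · rw [hlow j i h, mul_zero, sub_zero, hdiag]
      · rw [hqj i (not_lt.mpr h.le), zero_mul, sub_zero, hdiag]
  · intro i b hbi
    rw [entry, hlow i b hbi, zero_add]
    by_cases hbj : b = j
    · have hi : ¬ i < j := by
        rw [← hbj]
        exact not_lt.mpr hbi.le
      rw [if_pos hbj, if_pos hbj, hσ i hi, hqj i hi, zero_mul, sub_zero]
    · rw [if_neg hbj, if_neg hbj, add_zero, zero_sub, neg_eq_zero]
      by_cases hij : i < j
      · rw [hlow j b (hbi.trans hij), mul_zero]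
      · rw [hqj i hij, zero_mul]
  · intro i b hib hbj n hn
    rw [entry]
    rcases eq_or_lt_of_le hbj with hb | hb
    · rw [hb] at hib hn ⊢
      rw [if_pos rfl, if_pos rfl, hσ j (lt_irrefl j), add_zero, hdiag]
      exact hc i (Nat.zero_le _) hib n hn
    · have hbne : b ≠ j := ne_of_lt hb
      rw [if_neg hbne, if_neg hbne, add_zero, add_zero, hlow j b hb, mul_zero, sub_zero]
      exact hproc i b hib hb n hn

end Aux


/-- Let k be a field, p a prime number and M a square matrix of size r over k[[t]] with non-zero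
determinant. Allowing, besides invertible row operations over k[[t]], invertible column operations
by matrices with entries in k[[t^p]] (power series whose coefficients vanish in all degrees not
divisible by p), M can be brought to a row-reduced form — upper triangular, diagonal entries
t^{e_i}, entries above the diagonal in column j polynomials of degree less than e_j — in which in
addition the (i, j) entry (i < j) has no term in a degree that is at least e_i and congruent to e_i
modulo p. (Existence only; the form is not unique. The published statement asks that no term in any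
degree congruent to e_i modulo p remain; the published reduction — adding k[[t^p]]-multiples of
column i to column j — removes exactly the terms of degree at least e_i, which is what is asserted
here. The published statement takes k algebraically closed of characteristic p, where k[[t^p]] is
the ring of p-th powers; neither assumption is used.) -/
theorem result (k : Type u)
    [Field k] (p : ℕ) [Fact p.Prime] (r : ℕ) (M : Matrix (Fin r) (Fin r) (PowerSeries k))
    (hM : M.det ≠ 0) :
    ∃ (N P : Matrix (Fin r) (Fin r) (PowerSeries k)) (e : Fin r → ℕ), IsUnit N ∧ IsUnit P ∧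
      (∀ i j n, ¬ p ∣ n → PowerSeries.coeff n (P i j) = 0) ∧
      (∀ i, (N * M * P) i i = PowerSeries.X ^ e i) ∧ (∀ i j, j < i → (N * M * P) i j = 0) ∧
      (∀ i j, i < j → ∀ n, (e j ≤ n ∨ (e i ≤ n ∧ n % p = e i % p)) →
        PowerSeries.coeff n ((N * M * P) i j) = 0) := by
  have main : ∀ m : ℕ, m ≤ r → ∃ (N P : Matrix (Fin r) (Fin r) (PowerSeries k)) (e : Fin r → ℕ),
      IsUnit N ∧ IsUnit P ∧ (∀ i j, P i j ∈ T k p) ∧
      (∀ i, (N * M * P) i i = PowerSeries.X ^ e i) ∧ (∀ i j, j < i → (N * M * P) i j = 0) ∧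
      (∀ i j : Fin r, i < j → (j : ℕ) < m → ∀ n, (e j ≤ n ∨ (e i ≤ n ∧ n % p = e i % p)) →
        PowerSeries.coeff n ((N * M * P) i j) = 0) := by
    intro m
    induction m with
    | zero =>
      intro _
      obtain ⟨e, H, N, hd, hl, -, hN, hNM⟩ := Groth.Agent.S14038.exists_hnf M hM
      refine ⟨N, 1, e, hN, isUnit_one, ?_, ?_, ?_, ?_⟩
      · intro i j
        rw [Matrix.one_apply]
        split_ifs
        · exact (T k p).one_mem
        · exact (T k p).zero_mem
      · intro i
        rw [Matrix.mul_one, hNM]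
        exact hd i
      · intro i j hji
        rw [Matrix.mul_one, hNM]
        exact hl i j hji
      · intro i j _ hj
        exact absurd hj (Nat.not_lt_zero _)
    | succ m ih =>
      intro hm
      obtain ⟨N, P, e, hN, hP, hPT, hd, hl, hc⟩ := ih (by omega)
      have hmr : m < r := by omega
      obtain ⟨A, B, hA, hB, hBT, hd', hl', hc'⟩ := col_step p (N * M * P) e hd hl ⟨m, hmr⟩
        (fun i b hib hbj n hn => hc i b hib (Fin.lt_def.mp hbj) n hn)
      have hprod : A * N * M * (P * B) = A * (N * M * P) * B := by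
        simp only [Matrix.mul_assoc]
      refine ⟨A * N, P * B, e, hA.mul hN, hP.mul hB, ?_, ?_, ?_, ?_⟩
      · intro i j
        rw [Matrix.mul_apply]
        exact (T k p).sum_mem fun c _ => (T k p).mul_mem (hPT i c) (hBT c j)
      · intro i
        rw [hprod]
        exact hd' i
      · intro i j hji
        rw [hprod]
        exact hl' i j hji
      · intro i j hij hj n hn
        rw [hprod]
        exact hc' i j hij (Fin.le_def.mpr (by show (j : ℕ) ≤ m; omega)) n hn
  obtain ⟨N, P, e, hN, hP, hPT, hd, hl, hc⟩ := main r le_rfl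
  exact ⟨N, P, e, hN, hP, fun i j n hn => hPT i j n hn, hd, hl,
    fun i j hij n hn => hc i j hij j.2 n hn⟩

end Groth.Agent.S14044
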