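import Groth.Statements.S14046
import Mathlib
import Groth.Agent.H20.Flat

set_option autoImplicit false
universe u v w
open W4c1frobunstiva

namespace Groth.Agent.S14046

open TensorProduct in
/-- Let R → A be a homomorphism of commutative rings and I, J ideals of A with I ∩ J = 0 — so that A is
the fibre product of A/I and A/J over A/(I + J), i.e. Spec A is the union of the two closed
subschemes in the strong sense — and suppose A/(I + J) is flat over R. Then this persists under
every base change: for every commutative R-algebra R', the ideals generated by I and J in R' ⊗_R A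
again meet in 0. (This is the ideal-theoretic, affine form of the base-change step; the exact
sequence of unit sheaves deduced from it in the published statement — restriction of units to a
closed subscheme being surjective locally — is not restated. Without flatness of A/(I + J) the
conclusion fails: for A = k[x, y]/(xy) over R = k[u] with u ↦ x + y, I = (x) and J = (y), the base
change to R/(u) gives k[x]/(x²), in which both ideals become (x).) -/
theorem result (R : Type u) (A : Type v)
    [CommRing R] [CommRing A] [Algebra R A] (I J : Ideal A) (hIJ : I ⊓ J = ⊥)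
    [Module.Flat R (A ⧸ (I ⊔ J))] (R' : Type w) [CommRing R'] [Algebra R R'] :
    I.map (Algebra.TensorProduct.includeRight : A →ₐ[R] R' ⊗[R] A) ⊓
      J.map (Algebra.TensorProduct.includeRight : A →ₐ[R] R' ⊗[R] A) = ⊥ := by
  classical
  -- the linear maps
  let mI : A →ₗ[R] A ⧸ I := (Ideal.Quotient.mkₐ R I).toLinearMap
  let mJ : A →ₗ[R] A ⧸ J := (Ideal.Quotient.mkₐ R J).toLinearMap
  let fI : A ⧸ I →ₗ[R] A ⧸ (I ⊔ J) := (Ideal.Quotient.factorₐ R (le_sup_left : I ≤ I ⊔ J)).toLinearMap
  let fJ : A ⧸ J →ₗ[R] A ⧸ (I ⊔ J) := (Ideal.Quotient.factorₐ R (le_sup_right : J ≤ I ⊔ J)).toLinearMap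
  let g₁ : A →ₗ[R] (A ⧸ I) × (A ⧸ J) := LinearMap.prod mI mJ
  let g₂ : (A ⧸ I) × (A ⧸ J) →ₗ[R] A ⧸ (I ⊔ J) :=
    fI ∘ₗ LinearMap.fst R _ _ - fJ ∘ₗ LinearMap.snd R _ _
  have hinj : Function.Injective g₁ := by
    rw [injective_iff_map_eq_zero]
    intro a ha
    have h1 : Ideal.Quotient.mk I a = 0 := congrArg Prod.fst ha
    have h2 : Ideal.Quotient.mk J a = 0 := congrArg Prod.snd ha
    rw [Ideal.Quotient.eq_zero_iff_mem] at h1 h2
    have : a ∈ I ⊓ J := ⟨h1, h2⟩
    rw [hIJ] at this
    exact this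
  have hsurj : Function.Surjective g₂ := by
    intro y
    obtain ⟨a, rfl⟩ := Ideal.Quotient.mk_surjective y
    refine ⟨(Ideal.Quotient.mk I a, 0), ?_⟩
    simp [g₂, fI, fJ]
  have hex : Function.Exact g₁ g₂ := by
    intro y
    obtain ⟨y1, y2⟩ := y
    obtain ⟨a, rfl⟩ := Ideal.Quotient.mk_surjective y1
    obtain ⟨b, rfl⟩ := Ideal.Quotient.mk_surjective y2
    constructor
    · intro h
      have h' : Ideal.Quotient.mk (I ⊔ J) a - Ideal.Quotient.mk (I ⊔ J) b = 0 := h
      rw [← map_sub, Ideal.Quotient.eq_zero_iff_mem, Submodule.mem_sup] at h'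
      obtain ⟨i, hi, j, hj, hij⟩ := h'
      refine ⟨a - i, ?_⟩
      ext
      · change Ideal.Quotient.mk I (a - i) = Ideal.Quotient.mk I a
        rw [Ideal.Quotient.eq]
        simpa using I.neg_mem hi
      · change Ideal.Quotient.mk J (a - i) = Ideal.Quotient.mk J b
        rw [Ideal.Quotient.eq]
        have : a - i - b = j := by
          have h3 : a - i - b = (a - b) - i := by ring
          rw [h3, ← hij]; ring
        rw [this]; exact hj
    · rintro ⟨c, hc⟩
      have h1 : Ideal.Quotient.mk I c = Ideal.Quotient.mk I a := congrArg Prod.fst hc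
      have h2 : Ideal.Quotient.mk J c = Ideal.Quotient.mk J b := congrArg Prod.snd hc
      change Ideal.Quotient.factor (le_sup_left : I ≤ I ⊔ J) (Ideal.Quotient.mk I a) -
        Ideal.Quotient.factor (le_sup_right : J ≤ I ⊔ J) (Ideal.Quotient.mk J b) = 0
      rw [← h1, ← h2]
      simp
  have key : Function.Injective (g₁.lTensor R') :=
    Groth.Agent.H20.lTensor_injective_of_flat_cokernel g₁ g₂ hex hsurj hinj R'
  -- the algebra maps to the quotients
  let ψI : R' ⊗[R] A →ₐ[R] R' ⊗[R] (A ⧸ I) :=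
    Algebra.TensorProduct.map (AlgHom.id R R') (Ideal.Quotient.mkₐ R I)
  let ψJ : R' ⊗[R] A →ₐ[R] R' ⊗[R] (A ⧸ J) :=
    Algebra.TensorProduct.map (AlgHom.id R R') (Ideal.Quotient.mkₐ R J)
  have hψI : ∀ x ∈ I.map (Algebra.TensorProduct.includeRight : A →ₐ[R] R' ⊗[R] A), ψI x = 0 := by
    intro x hx
    have hle : I.map (Algebra.TensorProduct.includeRight : A →ₐ[R] R' ⊗[R] A) ≤
        RingHom.ker (ψI : R' ⊗[R] A →+* R' ⊗[R] (A ⧸ I)) := by
      rw [Ideal.map_le_iff_le_comap]
      intro i hi
      rw [Ideal.mem_comap, RingHom.mem_ker]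
      change ψI ((1 : R') ⊗ₜ[R] i) = 0
      simp only [ψI, Algebra.TensorProduct.map_tmul, Ideal.Quotient.mkₐ_eq_mk]
      rw [Ideal.Quotient.eq_zero_iff_mem.mpr hi, TensorProduct.tmul_zero]
    exact hle hx
  have hψJ : ∀ x ∈ J.map (Algebra.TensorProduct.includeRight : A →ₐ[R] R' ⊗[R] A), ψJ x = 0 := by
    intro x hx
    have hle : J.map (Algebra.TensorProduct.includeRight : A →ₐ[R] R' ⊗[R] A) ≤
        RingHom.ker (ψJ : R' ⊗[R] A →+* R' ⊗[R] (A ⧸ J)) := by
      rw [Ideal.map_le_iff_le_comap]
      intro i hi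
      rw [Ideal.mem_comap, RingHom.mem_ker]
      change ψJ ((1 : R') ⊗ₜ[R] i) = 0
      simp only [ψJ, Algebra.TensorProduct.map_tmul, Ideal.Quotient.mkₐ_eq_mk]
      rw [Ideal.Quotient.eq_zero_iff_mem.mpr hi, TensorProduct.tmul_zero]
    exact hle hx
  have hψI' : ∀ x, mI.lTensor R' x = ψI x := by
    intro x
    induction x using TensorProduct.induction_on with
    | zero => simp
    | tmul r a => rfl
    | add x y hx hy => rw [map_add, map_add, hx, hy]
  have hψJ' : ∀ x, mJ.lTensor R' x = ψJ x := by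
    intro x
    induction x using TensorProduct.induction_on with
    | zero => simp
    | tmul r a => rfl
    | add x y hx hy => rw [map_add, map_add, hx, hy]
  rw [eq_bot_iff]
  rintro x ⟨hxI, hxJ⟩
  rw [Ideal.mem_bot]
  apply key
  rw [map_zero]
  have hdecomp : g₁ = LinearMap.inl R _ _ ∘ₗ mI + LinearMap.inr R _ _ ∘ₗ mJ := by
    ext a <;> simp [g₁]
  rw [hdecomp, LinearMap.lTensor_add, LinearMap.add_apply, LinearMap.lTensor_comp,
    LinearMap.lTensor_comp, LinearMap.comp_apply, LinearMap.comp_apply, hψI', hψJ',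
    hψI x hxI, hψJ x hxJ, map_zero, map_zero, add_zero]

end Groth.Agent.S14046
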