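import Groth.Statements.S14048
import Mathlib
-- import your own Groth.Agent.* helpers here

set_option autoImplicit false
universe u
open TensorProduct
open CAlg

namespace Groth.Agent.S14048


open Polynomial TensorProduct in
theorem main (A : Type*) [CommRing A] (t : A)
    (h1 : Function.Bijective (Polynomial.aeval (R := ℚ) ((1 : ℚ) ⊗ₜ[ℤ] t : ℚ ⊗[ℤ] A)))
    (h0 : ∀ p : ℕ, p.Prime → IsUnit ((p : ℕ) : A ⧸ Ideal.span ({t} : Set A)))
    (s : A →+* Localization.Away (2 : ℤ)) (hs : s t = 1) :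
    ¬ IsNoetherianRing A := by
  intro hNoeth
  classical
  let ψ : ℚ[X] ≃ₐ[ℚ] (ℚ ⊗[ℤ] A) :=
    AlgEquiv.ofBijective (Polynomial.aeval ((1 : ℚ) ⊗ₜ[ℤ] t)) h1
  have hψX : ψ X = (1 : ℚ) ⊗ₜ[ℤ] t := by
    show Polynomial.aeval ((1 : ℚ) ⊗ₜ[ℤ] t) X = _
    rw [Polynomial.aeval_X]
  let φ : A →ₐ[ℤ] ℚ[X] :=
    ((ψ.symm : (ℚ ⊗[ℤ] A) →ₐ[ℚ] ℚ[X]).restrictScalars ℤ).comp Algebra.TensorProduct.includeRight
  have hφ : ∀ a, φ a = ψ.symm ((1 : ℚ) ⊗ₜ[ℤ] a) := fun a => rfl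
  have hφt : φ t = X := by
    rw [hφ]
    apply ψ.injective
    rw [AlgEquiv.apply_symm_apply, hψX]
  let ι : Localization.Away (2 : ℤ) →+* ℚ :=
    IsLocalization.Away.lift (2 : ℤ) (g := Int.castRingHom ℚ)
      (isUnit_iff_ne_zero.mpr (by norm_num))
  have hev : ∀ a, (φ a).eval 1 = ι (s a) := by
    let G₁ : (ℚ ⊗[ℤ] A) →ₐ[ℚ] ℚ :=
      (Polynomial.aeval (1 : ℚ)).comp (ψ.symm : (ℚ ⊗[ℤ] A) →ₐ[ℚ] ℚ[X])
    let G₂ : (ℚ ⊗[ℤ] A) →ₐ[ℚ] ℚ :=
      Algebra.TensorProduct.lift (AlgHom.id ℚ ℚ) ((ι.comp s).toIntAlgHom)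
        (fun x y => Commute.all _ _)
    have hG2 : ∀ a : A, G₂ ((1 : ℚ) ⊗ₜ[ℤ] a) = ι (s a) := by
      intro a
      show Algebra.TensorProduct.lift (AlgHom.id ℚ ℚ) ((ι.comp s).toIntAlgHom) _
        ((1 : ℚ) ⊗ₜ[ℤ] a) = _
      rw [Algebra.TensorProduct.lift_tmul]; simp
    have hG : G₁.comp (ψ : ℚ[X] →ₐ[ℚ] (ℚ ⊗[ℤ] A)) = G₂.comp (ψ : ℚ[X] →ₐ[ℚ] (ℚ ⊗[ℤ] A)) := by
      apply Polynomial.algHom_ext
      show Polynomial.aeval (1 : ℚ) (ψ.symm (ψ X)) = G₂ (ψ X)
      rw [AlgEquiv.symm_apply_apply, Polynomial.aeval_X, hψX, hG2, hs, map_one]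
    intro a
    have e : ψ (ψ.symm ((1 : ℚ) ⊗ₜ[ℤ] a)) = (1 : ℚ) ⊗ₜ[ℤ] a := ψ.apply_symm_apply _
    have h4 := DFunLike.congr_fun hG (ψ.symm ((1 : ℚ) ⊗ₜ[ℤ] a))
    rw [AlgHom.comp_apply, AlgHom.comp_apply] at h4
    change G₁ (ψ (ψ.symm _)) = G₂ (ψ (ψ.symm _)) at h4
    rw [e] at h4
    have h5 : (φ a).eval 1 = G₁ ((1 : ℚ) ⊗ₜ[ℤ] a) := by
      show _ = Polynomial.aeval (1 : ℚ) (ψ.symm ((1 : ℚ) ⊗ₜ[ℤ] a))
      rw [Polynomial.coe_aeval_eq_eval]; rfl
    rw [h5, h4, hG2]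
  have hφh : ∀ h : ℤ[X], φ (Polynomial.aeval t h) = h.map (algebraMap ℤ ℚ) := by
    intro h
    rw [← Polynomial.aeval_algHom_apply, hφt, Polynomial.aeval_X_left_eq_map]
  let I : Ideal A := RingHom.ker (ι.comp s)
  obtain ⟨S, hS⟩ : I.FG := (isNoetherianRing_iff_ideal_fg A).mp hNoeth I
  have hgen : ∀ f ∈ S, ∃ (b : ℤ) (h : ℤ[X]), b ≠ 0 ∧
      (b : ℚ[X]) * φ f = (X - C 1) * h.map (algebraMap ℤ ℚ) := by
    intro f hf
    have hfI : f ∈ I := by rw [← hS]; exact Ideal.subset_span (Finset.mem_coe.mpr hf)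
    have hroot : (φ f).IsRoot 1 := by
      show (φ f).eval 1 = 0
      rw [hev]; exact RingHom.mem_ker.mp hfI
    obtain ⟨q, hq⟩ := Polynomial.dvd_iff_isRoot.mpr hroot
    obtain ⟨b, hb, hbq⟩ := IsLocalization.integerNormalization_spec (nonZeroDivisors ℤ) q
    have hbq' : (IsLocalization.integerNormalization (nonZeroDivisors ℤ) q).map (algebraMap ℤ ℚ)
        = (b : ℚ[X]) * q := by
      rw [hbq]; ext n; simp [Polynomial.coeff_smul]
    refine ⟨b, IsLocalization.integerNormalization (nonZeroDivisors ℤ) q,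
      nonZeroDivisors.ne_zero hb, ?_⟩
    rw [hbq', hq]; ring
  choose! bf hf hb0 hbf using hgen
  let N : ℤ := ∏ f ∈ S, bf f
  have hN0 : N ≠ 0 := Finset.prod_ne_zero_iff.mpr fun f hfS => hb0 f hfS
  have hgen' : ∀ f ∈ S, ∃ a' : A, (N : ℚ[X]) * φ f = (X - C 1) * φ a' := by
    intro f hfS
    refine ⟨Polynomial.aeval t (C (∏ g ∈ S.erase f, bf g) * hf f), ?_⟩
    have hN : N = bf f * ∏ g ∈ S.erase f, bf g := (Finset.mul_prod_erase S bf hfS).symm
    rw [hφh, Polynomial.map_mul, Polynomial.map_C, hN]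
    generalize (∏ g ∈ S.erase f, bf g) = Pz
    have e1 : (C (algebraMap ℤ ℚ Pz) : ℚ[X]) = (Pz : ℚ[X]) := by
      rw [eq_intCast (algebraMap ℤ ℚ) Pz, map_intCast]
    rw [e1, Int.cast_mul]
    linear_combination (Pz : ℚ[X]) * hbf f hfS
  have hQ : ∀ w ∈ I, ∃ a' : A, (N : ℚ[X]) * φ w = (X - C 1) * φ a' := by
    intro w hw
    rw [← hS] at hw
    change w ∈ Submodule.span A (↑S : Set A) at hw
    induction hw using Submodule.span_induction with
    | mem x hx => exact hgen' x (Finset.mem_coe.mp hx)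
    | zero => exact ⟨0, by simp⟩
    | add x y _ _ hx hy =>
      obtain ⟨a1, h1'⟩ := hx
      obtain ⟨a2, h2'⟩ := hy
      exact ⟨a1 + a2, by rw [map_add, map_add]; linear_combination h1' + h2'⟩
    | smul c x _ hx =>
      obtain ⟨a1, h1'⟩ := hx
      exact ⟨c * a1, by rw [smul_eq_mul, map_mul, map_mul]; linear_combination (φ c) * h1'⟩
  have hstar : ∀ a : A, ∃ (k : ℕ) (z : ℤ) (a' : A),
      (N : ℚ[X]) * ((2 : ℚ[X]) ^ k * φ a - (z : ℚ[X])) = (X - C 1) * φ a' := by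
    intro a
    obtain ⟨⟨z, ⟨_, k, rfl⟩⟩, hz⟩ := IsLocalization.surj (Submonoid.powers (2 : ℤ)) (s a)
    have hz' : s a * (2 : Localization.Away (2 : ℤ)) ^ k = (z : Localization.Away (2 : ℤ)) := by
      have h := hz
      simp only [eq_intCast] at h
      push_cast at h
      exact h
    have hw : (2 : A) ^ k * a - (z : A) ∈ I := by
      apply RingHom.mem_ker.mpr
      have h3 : s ((2 : A) ^ k * a - (z : A)) = 0 := by
        rw [map_sub, map_mul, map_pow, map_ofNat, map_intCast, mul_comm, hz', sub_self]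
      rw [RingHom.comp_apply, h3, map_zero]
    obtain ⟨a', ha'⟩ := hQ _ hw
    refine ⟨k, z, a', ?_⟩
    rw [← ha', map_sub, map_mul, map_pow, map_ofNat, map_intCast]
  obtain ⟨p, hpge, hp⟩ := Nat.exists_infinite_primes ((2 * N).natAbs + 1)
  have hpZ : Prime (p : ℤ) := Nat.prime_iff_prime_int.mp hp
  have hp2N : ¬ (p : ℤ) ∣ 2 * N := by
    intro hdvd
    have h2N : 2 * N ≠ 0 := mul_ne_zero two_ne_zero hN0
    have h3 := Int.natAbs_dvd_natAbs.mpr hdvd
    rw [Int.natAbs_natCast] at h3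
    have hle := Nat.le_of_dvd (Int.natAbs_pos.mpr h2N) h3
    omega
  have hpN : ¬ (p : ℤ) ∣ N := fun h => hp2N (dvd_mul_of_dvd_right h 2)
  have hp2 : ¬ (p : ℤ) ∣ 2 := fun h => hp2N (dvd_mul_of_dvd_left h N)
  have claim : ∀ n : ℕ, ∀ a : A, (φ a).natDegree = n →
      ∃ d : ℤ, ¬ (p : ℤ) ∣ d ∧ ∃ g : ℤ[X], (d : ℚ[X]) * φ a = g.map (algebraMap ℤ ℚ) := by
    intro n
    induction n using Nat.strong_induction_on with
    | _ n IH =>
      intro a hn
      obtain ⟨k, z, a', hka⟩ := hstar a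
      have hNk : ¬ (p : ℤ) ∣ N * 2 ^ k := by
        intro h
        rcases hpZ.dvd_or_dvd h with h | h
        · exact hpN h
        · exact hp2 (hpZ.dvd_of_dvd_pow h)
      by_cases hz' : φ a' = 0
      · refine ⟨N * 2 ^ k, hNk, C (N * z), ?_⟩
        rw [hz', mul_zero] at hka
        rw [Polynomial.map_C, eq_intCast, map_intCast]
        push_cast
        linear_combination hka
      · have hdeg : (φ a').natDegree < n := by
          have h1 : ((X - C 1) * φ a').natDegree = 1 + (φ a').natDegree := by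
            rw [Polynomial.natDegree_mul (Polynomial.X_sub_C_ne_zero 1) hz',
              Polynomial.natDegree_X_sub_C]
          have h2 : ((N : ℚ[X]) * ((2 : ℚ[X]) ^ k * φ a - (z : ℚ[X]))).natDegree ≤ n := by
            have e1 : (N : ℚ[X]) = C (N : ℚ) := (map_intCast (C : ℚ →+* ℚ[X]) N).symm
            have e2 : (2 : ℚ[X]) ^ k = C ((2 : ℚ) ^ k) := by rw [map_pow, map_ofNat]
            rw [e1]
            refine (Polynomial.natDegree_C_mul_le _ _).trans ?_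
            refine (Polynomial.natDegree_sub_le _ _).trans ?_
            rw [e2, Polynomial.natDegree_intCast]
            exact max_le ((Polynomial.natDegree_C_mul_le _ _).trans hn.le) (Nat.zero_le _)
          rw [hka, h1] at h2
          omega
        obtain ⟨d', hd', g', hg'⟩ := IH _ hdeg a' rfl
        refine ⟨d' * (N * 2 ^ k), ?_, C (d' * (N * z)) + (X - C 1) * g', ?_⟩
        · intro h
          rcases hpZ.dvd_or_dvd h with h | h
          · exact hd' h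
          · exact hNk h
        · rw [Polynomial.map_add, Polynomial.map_mul, Polynomial.map_sub, Polynomial.map_X,
            Polynomial.map_C, Polynomial.map_C, map_one, eq_intCast, map_intCast, ← hg']
          push_cast
          linear_combination (d' : ℚ[X]) * hka
  obtain ⟨ā, hā⟩ := (h0 p hp).exists_right_inv
  obtain ⟨a, rfl⟩ := Ideal.Quotient.mk_surjective ā
  have hmem : (p : A) * a - 1 ∈ Ideal.span ({t} : Set A) := by
    rw [← Ideal.Quotient.eq_zero_iff_mem, map_sub, map_mul, map_natCast, map_one, hā, sub_self]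
  obtain ⟨cc, hcc⟩ := Ideal.mem_span_singleton'.mp hmem
  have hpa : (p : ℚ[X]) * φ a - 1 = φ cc * X := by
    have h3 := congrArg φ hcc
    rw [map_mul, hφt, map_sub, map_mul, map_natCast, map_one] at h3
    exact h3.symm
  obtain ⟨d₁, hd₁, g₁, hg₁⟩ := claim _ a rfl
  obtain ⟨d₂, hd₂, g₂, hg₂⟩ := claim _ cc rfl
  have hE : (((p : ℤ) * d₂ : ℤ) : ℚ[X]) * g₁.map (algebraMap ℤ ℚ) - ((d₁ * d₂ : ℤ) : ℚ[X])
      = (d₁ : ℚ[X]) * g₂.map (algebraMap ℤ ℚ) * X := by
    rw [← hg₁, ← hg₂]; push_cast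
    linear_combination ((d₁ : ℚ[X]) * (d₂ : ℚ[X])) * hpa
  have hcoef := congrArg (fun q : ℚ[X] => q.coeff 0) hE
  simp only [Polynomial.coeff_sub, Polynomial.coeff_intCast_mul, Polynomial.coeff_map,
    Polynomial.intCast_coeff_zero, Polynomial.coeff_mul_X_zero] at hcoef
  have hint : (p : ℤ) * d₂ * g₁.coeff 0 - d₁ * d₂ = 0 := by
    have h3 := hcoef
    rw [eq_intCast] at h3
    exact_mod_cast h3
  have hdvd : (p : ℤ) ∣ d₁ * d₂ := ⟨d₂ * g₁.coeff 0, by linear_combination (-1 : ℤ) * hint⟩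
  rcases hpZ.dvd_or_dvd hdvd with h | h
  · exact hd₁ h
  · exact hd₂ h

/-- Let A be an integral domain in which 2 is invertible and let t be an element of A, so that Spec A is
a scheme over the affine line Spec ℤ[1/2][t]. Assume that (1) the ℚ-algebra map ℚ[X] → ℚ ⊗_ℤ A
sending X to 1 ⊗ t is bijective (the map Spec A → Spec ℤ[1/2][t] becomes an isomorphism after base
change to ℚ); (2) every prime number is invertible in A/(t) (the fibre over t = 0 is of pure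
characteristic zero); and (3) there is a ring homomorphism s : A → ℤ[1/2] with s(t) = 1 (the fibre
over t = 1 admits a section). Then A is not Noetherian. -/
theorem result (A : Type u) [CommRing A]
    [IsDomain A] (h2 : IsUnit (2 : A)) (t : A)
    (h1 : Function.Bijective (Polynomial.aeval (R := ℚ) ((1 : ℚ) ⊗ₜ[ℤ] t : ℚ ⊗[ℤ] A)))
    (h0 : ∀ p : ℕ, p.Prime → IsUnit ((p : ℕ) : A ⧸ Ideal.span ({t} : Set A)))
    (s : A →+* Localization.Away (2 : ℤ)) (hs : s t = 1) :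
    ¬ IsNoetherianRing A := by
  exact main A t h1 h0 s hs

end Groth.Agent.S14048
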