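import Groth.Statements.S14049
import Mathlib

set_option autoImplicit false
universe u
open CategoryTheory AlgebraicGeometry
open LocStr

namespace Groth.Agent.S14049

section Helpers
open AlgebraicGeometry CategoryTheory TopologicalSpace Opposite

theorem ring_step14049 {A B : Type*} [CommRing A] [CommRing B] (φ : A →+* B) (J : Ideal B)
    (k : ℕ) (hk : 2 ≤ k)
    (H : ∀ s : B, ∃ a : A, s - φ a ∈ J ^ k) : ∀ s : B, ∃ a : A, s - φ a ∈ J ^ (k + 1) := by
  obtain ⟨m, rfl⟩ : ∃ m, k = m + 1 := ⟨k - 1, by omega⟩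
  have hm : 1 ≤ m := by omega
  have key : ∀ e ∈ J ^ (m + 1), ∃ a : A, e - φ a ∈ J ^ (m + 1 + 1) := by
    intro e he
    rw [pow_succ] at he
    have he' : e ∈ J ^ m • J := he
    refine Submodule.smul_induction_on
      (p := fun e => ∃ a : A, e - φ a ∈ J ^ (m + 1 + 1)) he' ?_ ?_
    · intro u hu v hv
      obtain ⟨a₁, h₁⟩ := H u
      obtain ⟨a₂, h₂⟩ := H v
      refine ⟨a₁ * a₂, ?_⟩
      have e1 : u • v - φ (a₁ * a₂) =
          u * (v - φ a₂) + (u - φ a₁) * v - (u - φ a₁) * (v - φ a₂) := by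
        rw [map_mul, smul_eq_mul]; ring
      rw [e1]
      refine Ideal.sub_mem _ (Ideal.add_mem _ ?_ ?_) ?_
      · have := Ideal.mul_mem_mul hu h₂
        rw [← pow_add] at this
        exact Ideal.pow_le_pow_right (by omega) this
      · have := Ideal.mul_mem_mul h₁ hv
        rw [← pow_succ] at this
        exact this
      · have := Ideal.mul_mem_mul h₁ h₂
        rw [← pow_add] at this
        exact Ideal.pow_le_pow_right (by omega) this
    · rintro x y ⟨a, ha⟩ ⟨b, hb⟩
      refine ⟨a + b, ?_⟩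
      have : x + y - φ (a + b) = (x - φ a) + (y - φ b) := by rw [map_add]; ring
      rw [this]; exact Ideal.add_mem _ ha hb
  intro s
  obtain ⟨a, ha⟩ := H s
  obtain ⟨a', ha'⟩ := key _ ha
  refine ⟨a + a', ?_⟩
  have : s - φ (a + a') = (s - φ a) - φ a' := by rw [map_add]; ring
  rw [this]; exact ha'

theorem ring14049 {A B : Type*} [CommRing A] [CommRing B] (φ : A →+* B) (J : Ideal B)
    (n : ℕ) (hJ : J ^ n = ⊥) (H : ∀ s : B, ∃ a : A, s - φ a ∈ J ^ 2) :
    Function.Surjective φ := by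
  have all : ∀ k, ∀ s : B, ∃ a : A, s - φ a ∈ J ^ (k + 2) := by
    intro k
    induction k with
    | zero => simpa using H
    | succ k ih => exact ring_step14049 φ J (k + 2) (by omega) ih
  intro s
  obtain ⟨a, ha⟩ := all n s
  have : J ^ (n + 2) = ⊥ := by rw [pow_add, hJ, Ideal.bot_mul]
  rw [this, Ideal.mem_bot, sub_eq_zero] at ha
  exact ⟨a, ha.symm⟩

set_option backward.isDefEq.respectTransparency false in
theorem ker_stalkMap_subschemeι_le {X : Scheme.{u}} (I : X.IdealSheafData) (x₁ : I.subscheme)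
    (U : X.affineOpens) (hx : I.subschemeι x₁ ∈ U.1) :
    RingHom.ker (I.subschemeι.stalkMap x₁).hom ≤
      Ideal.map (X.presheaf.germ U.1 (I.subschemeι x₁) hx).hom (I.ideal U) := by
  intro b hb
  rw [RingHom.mem_ker] at hb
  obtain ⟨V, hxV, s, rfl⟩ := X.presheaf.exists_germ_eq b
  have h1 : I.subscheme.presheaf.germ (I.subschemeι ⁻¹ᵁ V) x₁ hxV (I.subschemeι.app V s) = 0 := by
    rw [← Scheme.Hom.germ_stalkMap_apply]; exact hb
  have h1' : I.subscheme.presheaf.germ (I.subschemeι ⁻¹ᵁ V) x₁ hxV (I.subschemeι.app V s) =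
      I.subscheme.presheaf.germ (I.subschemeι ⁻¹ᵁ V) x₁ hxV 0 := by rw [h1, map_zero]
  obtain ⟨W', hxW', iU, iV, hW'⟩ := I.subscheme.presheaf.germ_eq x₁ hxV hxV _ _ h1'
  rw [map_zero] at hW'
  obtain ⟨W₀, hW₀o, hW₀⟩ := I.subschemeι.isEmbedding.isOpen_iff.mp W'.isOpen
  have hxW₀ : I.subschemeι x₁ ∈ (⟨W₀, hW₀o⟩ : X.Opens) := by
    have : x₁ ∈ I.subschemeι ⁻¹' W₀ := by rw [hW₀]; exact hxW'
    exact this
  obtain ⟨W, hWaff, hxW, hWle⟩ := exists_isAffineOpen_mem_and_subset
    (x := I.subschemeι x₁) (U := (⟨W₀, hW₀o⟩ : X.Opens) ⊓ V ⊓ U.1) ⟨⟨hxW₀, hxV⟩, hx⟩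
  have hWW₀ : W ≤ (⟨W₀, hW₀o⟩ : X.Opens) := fun p hp => (hWle hp).1.1
  have hWV : W ≤ V := fun p hp => (hWle hp).1.2
  have hWU : W ≤ U.1 := fun p hp => (hWle hp).2
  have hpre : I.subschemeι ⁻¹ᵁ W ≤ W' := by
    intro p hp
    have h0 : I.subschemeι p ∈ W₀ := hWW₀ hp
    have h0' : p ∈ I.subschemeι ⁻¹' W₀ := h0
    rw [hW₀] at h0'; exact h0'
  have h2 : I.subschemeι.app W (X.presheaf.map (homOfLE hWV).op s) = 0 := by
    have nat := I.subschemeι.naturality (homOfLE hWV).op
    have nat' := congr($nat s)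
    have e1 : ((Opens.map I.subschemeι.base).map (homOfLE hWV).op.unop).op =
        iU.op ≫ (homOfLE hpre).op := by
      rw [← op_comp]; exact congrArg Quiver.Hom.op (Subsingleton.elim _ _)
    rw [e1, Functor.map_comp] at nat'
    refine nat'.trans ?_
    show I.subscheme.presheaf.map (homOfLE hpre).op
      (I.subscheme.presheaf.map iU.op (I.subschemeι.app V s)) = 0
    rw [hW', map_zero]
  have h3 : X.presheaf.map (homOfLE hWV).op s ∈ I.ideal ⟨W, hWaff⟩ := by
    rw [← I.ker_subschemeι_app ⟨W, hWaff⟩, RingHom.mem_ker]; exact h2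
  have h4 : X.presheaf.germ V (I.subschemeι x₁) hxV s =
      X.presheaf.germ W (I.subschemeι x₁) hxW (X.presheaf.map (homOfLE hWV).op s) :=
    (X.presheaf.germ_res_apply (homOfLE hWV) _ hxW s).symm
  rw [h4]
  have h5 : Ideal.map (X.presheaf.germ W (I.subschemeι x₁) hxW).hom (I.ideal ⟨W, hWaff⟩) ≤
      Ideal.map (X.presheaf.germ U.1 (I.subschemeι x₁) hx).hom (I.ideal U) := by
    have := I.map_ideal (U := ⟨W, hWaff⟩) (V := U)
      (show (⟨W, hWaff⟩ : X.affineOpens) ≤ U from hWU)
    rw [← this, Ideal.map_map, ← CommRingCat.hom_comp]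
    have e3 : X.presheaf.map (homOfLE hWU).op ≫ X.presheaf.germ W (I.subschemeι x₁) hxW =
        X.presheaf.germ U.1 (I.subschemeι x₁) hx := X.presheaf.germ_res (homOfLE hWU) _ hxW
    exact le_of_eq (congrArg (fun g => Ideal.map (CommRingCat.Hom.hom g) (I.ideal U)) e3)
  exact h5 (Ideal.mem_map_of_mem _ h3)

set_option backward.isDefEq.respectTransparency false in
theorem main14049 (X Y : Scheme.{u}) (f : X ⟶ Y)
    (I : X.IdealSheafData) (hI : IsNilpotent I)
    (h : IsClosedImmersion ((I ^ 2).subschemeι ≫ f)) :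
    IsClosedImmersion f := by
  obtain ⟨n, hn⟩ := hI
  have hn1 : I ^ (n + 1) = ⊥ := by
    rw [pow_succ, hn]; exact zero_mul I
  have hsurj : Function.Surjective (I ^ 2).subschemeι := by
    rw [← Set.range_eq_univ, Scheme.IdealSheafData.range_subschemeι,
      Scheme.IdealSheafData.support_pow I 2 (by norm_num),
      ← Scheme.IdealSheafData.support_pow I (n + 1) (by omega), hn1,
      Scheme.IdealSheafData.support_bot]
    rfl
  have hg := ((I ^ 2).subschemeι ≫ f).isClosedEmbedding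
  have hcl : Topology.IsClosedEmbedding f := by
    refine Topology.IsClosedEmbedding.of_continuous_injective_isClosedMap f.continuous ?_ ?_
    · intro a b hab
      obtain ⟨a', rfl⟩ := hsurj a
      obtain ⟨b', rfl⟩ := hsurj b
      have : ((I ^ 2).subschemeι ≫ f) a' = ((I ^ 2).subschemeι ≫ f) b' := hab
      rw [hg.injective this]
    · intro C hC
      have : f '' C = ((I ^ 2).subschemeι ≫ f) '' ((I ^ 2).subschemeι ⁻¹' C) := by
        ext y; constructor
        · rintro ⟨a, ha, rfl⟩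
          obtain ⟨a', rfl⟩ := hsurj a
          exact ⟨a', ha, rfl⟩
        · rintro ⟨a', ha, rfl⟩
          exact ⟨_, ha, rfl⟩
      rw [this]
      exact hg.isClosedMap _ (hC.preimage (I ^ 2).subschemeι.continuous)
  have hst : SurjectiveOnStalks f := by
    refine ⟨fun x => ?_⟩
    obtain ⟨x₁, rfl⟩ := hsurj x
    obtain ⟨U, hUaff, hxU, -⟩ := exists_isAffineOpen_mem_and_subset
      (x := (I ^ 2).subschemeι x₁) (U := ⊤) trivial
    let U' : X.affineOpens := ⟨U, hUaff⟩
    let J : Ideal (X.presheaf.stalk ((I ^ 2).subschemeι x₁)) :=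
      Ideal.map (X.presheaf.germ U _ hxU).hom (I.ideal U')
    have e : I.ideal U' ^ (n + 1) = ⊥ := by
      have := congrFun (Scheme.IdealSheafData.ideal_pow I (n + 1)) U'
      rw [hn1] at this
      exact this.symm
    have hJ : J ^ (n + 1) = ⊥ := by
      show (Ideal.map (X.presheaf.germ U _ hxU).hom (I.ideal U')) ^ (n + 1) = ⊥
      rw [← Ideal.map_pow, e, Ideal.map_bot]
    have hker : RingHom.ker ((I ^ 2).subschemeι.stalkMap x₁).hom ≤ J ^ 2 := by
      refine (ker_stalkMap_subschemeι_le (I ^ 2) x₁ U' hxU).trans ?_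
      have e2 : (I ^ 2).ideal U' = I.ideal U' ^ 2 := rfl
      show Ideal.map (X.presheaf.germ U _ hxU).hom ((I ^ 2).ideal U') ≤
        (Ideal.map (X.presheaf.germ U _ hxU).hom (I.ideal U')) ^ 2
      rw [e2, Ideal.map_pow]
    have key : ∀ s, ∃ a, s - (f.stalkMap ((I ^ 2).subschemeι x₁)).hom a ∈ J ^ 2 := by
      intro s
      obtain ⟨a, ha⟩ := ((I ^ 2).subschemeι ≫ f).stalkMap_surjective x₁
        (((I ^ 2).subschemeι.stalkMap x₁).hom s)
      refine ⟨a, hker ?_⟩
      rw [RingHom.mem_ker, map_sub, sub_eq_zero]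
      have e := Scheme.Hom.stalkMap_comp (I ^ 2).subschemeι f x₁
      have e' := congr($e a)
      exact (e'.symm.trans ha).symm
    exact ring14049 (f.stalkMap _).hom J (n + 1) hJ key
  exact ⟨hcl⟩

end Helpers

/-- For schemes. Let f : X → Y be a morphism of schemes and let I be a quasi-coherent sheaf of ideals on
X which is nilpotent (some power of I is zero). Let X₁ ⊆ X be the closed subscheme defined by I².
Then f is a closed immersion as soon as the composite X₁ → X → Y is one. (The published statement is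
the same assertion for a morphism of algebraic stacks; it is stated here for schemes.) -/
theorem result (X Y : Scheme.{u}) (f : X ⟶ Y)
    (I : X.IdealSheafData) (hI : IsNilpotent I)
    (h : IsClosedImmersion ((I ^ 2).subschemeι ≫ f)) :
    IsClosedImmersion f := by
  exact main14049 X Y f I hI h

end Groth.Agent.S14049
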