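import Groth.Statements.S14053
import Groth.Agent.H21.Veronese

set_option autoImplicit false
universe u
open CAlg

namespace Groth.Agent.S14053

/-- Let k be a field and R a commutative ℕ-graded k-algebra with R_0 = k · 1 which is generated as a
k-algebra by R_1, R_2 and R_3, each a finite-dimensional k-vector space, of dimensions d_1, d_2,
d_3. Then for every natural number e ≥ 5 d_1 + 4 d_2 + 3 d_3 the (6e)-th Veronese subring of R is
generated in degree one over k: R_{6em} = (R_{6e})^m for every m > 0. -/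
theorem result
    (k : Type u) [Field k] (R : Type u) [CommRing R] [Algebra k R]
    (ℛ : ℕ → Submodule k R) [GradedAlgebra ℛ]
    (h0 : ℛ 0 = 1)
    (hgen : Algebra.adjoin k ((ℛ 1 : Set R) ∪ (ℛ 2 : Set R) ∪ (ℛ 3 : Set R)) = ⊤)
    [Module.Finite k (ℛ 1)] [Module.Finite k (ℛ 2)] [Module.Finite k (ℛ 3)]
    (e : ℕ) (he : 5 * Module.finrank k (ℛ 1) + 4 * Module.finrank k (ℛ 2) + 3 * Module.finrank k (ℛ 3) ≤ e)
    (m : ℕ) (hm : 0 < m) :
    ℛ (m * (6 * e)) = ℛ (6 * e) ^ m := by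
  classical
  let b1 := Module.finBasis k (ℛ 1)
  let b2 := Module.finBasis k (ℛ 2)
  let b3 := Module.finBasis k (ℛ 3)
  let gen : (Fin (Module.finrank k (ℛ 1)) ⊕ (Fin (Module.finrank k (ℛ 2)) ⊕ Fin (Module.finrank k (ℛ 3)))) → R :=
    Sum.elim (fun i => (b1 i : R)) (Sum.elim (fun i => (b2 i : R)) (fun i => (b3 i : R)))
  let deg : (Fin (Module.finrank k (ℛ 1)) ⊕ (Fin (Module.finrank k (ℛ 2)) ⊕ Fin (Module.finrank k (ℛ 3)))) → ℕ :=
    Sum.elim (fun _ => 1) (Sum.elim (fun _ => 2) (fun _ => 3))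
  let per : (Fin (Module.finrank k (ℛ 1)) ⊕ (Fin (Module.finrank k (ℛ 2)) ⊕ Fin (Module.finrank k (ℛ 3)))) → ℕ :=
    Sum.elim (fun _ => 6) (Sum.elim (fun _ => 3) (fun _ => 2))
  have hgen' : ∀ i, gen i ∈ ℛ (deg i) := by
    rintro (i | i | i)
    · exact (b1 i).2
    · exact (b2 i).2
    · exact (b3 i).2
  have hspan : ∀ (j : ℕ) [Module.Finite k (ℛ j)],
      ℛ j = Submodule.span k (Set.range (fun i => ((Module.finBasis k (ℛ j)) i : R))) := by
    intro j _
    have := congrArg (Submodule.map (ℛ j).subtype) (Module.finBasis k (ℛ j)).span_eq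
    rw [Submodule.map_span, Submodule.map_subtype_top, ← Set.range_comp] at this
    exact this.symm
  have hsub : ∀ (j : ℕ) [Module.Finite k (ℛ j)],
      Set.range (fun i => ((Module.finBasis k (ℛ j)) i : R)) ⊆ Set.range gen → 
      (ℛ j : Set R) ⊆ (Algebra.adjoin k (Set.range gen) : Set R) := by
    intro j _ hj x hx
    rw [SetLike.mem_coe, hspan j] at hx
    exact Algebra.span_le_adjoin k _ (Submodule.span_mono hj hx)
  have hadj : Algebra.adjoin k (Set.range gen) = ⊤ := by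
    rw [eq_top_iff, ← hgen]
    apply Algebra.adjoin_le
    rintro x ((hx | hx) | hx)
    · refine hsub 1 ?_ hx
      rintro _ ⟨i, rfl⟩
      exact ⟨Sum.inl i, rfl⟩
    · refine hsub 2 ?_ hx
      rintro _ ⟨i, rfl⟩
      exact ⟨Sum.inr (Sum.inl i), rfl⟩
    · refine hsub 3 ?_ hx
      rintro _ ⟨i, rfl⟩
      exact ⟨Sum.inr (Sum.inr i), rfl⟩
  have hper : ∀ i, per i * deg i = 6 := by
    rintro (i | i | i) <;> rfl
  have hN : ∑ i, (per i - 1) * deg i ≤
      5 * Module.finrank k (ℛ 1) + 4 * Module.finrank k (ℛ 2) + 3 * Module.finrank k (ℛ 3) := by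
    rw [Fintype.sum_sum_type, Fintype.sum_sum_type]
    simp [per, deg]
    omega
  exact Groth.Agent.H21.veronese_eq_pow ℛ gen deg hgen' hadj per 6 hper (by norm_num) _ hN e
    (by omega) m hm

end Groth.Agent.S14053
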