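import Groth.Statements.S1406
import Mathlib
import Groth.Agent.S0116

set_option autoImplicit false
universe u
open FlatMor

namespace Groth.Agent.S1406

section Helpers
open AlgebraicGeometry CategoryTheory Limits

set_option backward.isDefEq.respectTransparency false in
theorem fibreMap1406 {X X' Y : Scheme.{u}} (f : X ⟶ Y) (a : X' ⟶ X) (y : Y) :
    ∃ φ : (a ≫ f).fiber y ⟶ f.fiber y,
      IsPullback ((a ≫ f).fiberι y) φ a (f.fiberι y) := by
  let φ : pullback (a ≫ f) (Y.fromSpecResidueField y) ⟶ pullback f (Y.fromSpecResidueField y) :=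
    pullback.map (a ≫ f) (Y.fromSpecResidueField y) f (Y.fromSpecResidueField y) a (𝟙 _) (𝟙 _)
      (by simp) (by simp)
  have hφ1 : pullback.fst (a ≫ f) (Y.fromSpecResidueField y) ≫ a =
      φ ≫ pullback.fst f (Y.fromSpecResidueField y) := by simp [φ]
  have hφ2 : φ ≫ pullback.snd f (Y.fromSpecResidueField y) =
      pullback.snd (a ≫ f) (Y.fromSpecResidueField y) := by simp [φ]
  have hR : IsPullback (pullback.fst f (Y.fromSpecResidueField y))
      (pullback.snd f (Y.fromSpecResidueField y)) f (Y.fromSpecResidueField y) :=
    IsPullback.of_hasPullback f _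
  have hB : IsPullback (pullback.fst (a ≫ f) (Y.fromSpecResidueField y))
      (φ ≫ pullback.snd f (Y.fromSpecResidueField y)) (a ≫ f) (Y.fromSpecResidueField y) := by
    rw [hφ2]; exact IsPullback.of_hasPullback _ _
  exact ⟨φ, IsPullback.of_bot hB hφ1 hR⟩

theorem main1406 {X X' Y : Scheme.{u}} (f : X ⟶ Y) (a : X' ⟶ X) [Flat a]
    [LocallyOfFinitePresentation a] [Surjective a] :
    (∀ y : Y, IsLocallyNoetherian (f.fiber y)) ↔
      ∀ y : Y, IsLocallyNoetherian ((a ≫ f).fiber y) := by
  constructor
  · intro h y
    obtain ⟨φ, hφ⟩ := fibreMap1406 f a y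
    haveI : LocallyOfFinitePresentation φ :=
      MorphismProperty.of_isPullback (P := @LocallyOfFinitePresentation) hφ inferInstance
    haveI := h y
    exact LocallyOfFiniteType.isLocallyNoetherian φ
  · intro h y
    obtain ⟨φ, hφ⟩ := fibreMap1406 f a y
    haveI : LocallyOfFinitePresentation φ :=
      MorphismProperty.of_isPullback (P := @LocallyOfFinitePresentation) hφ inferInstance
    haveI : Flat φ := MorphismProperty.of_isPullback (P := @Flat) hφ inferInstance
    haveI : Surjective φ := MorphismProperty.of_isPullback (P := @Surjective) hφ inferInstance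
    haveI := h y
    exact Groth.Agent.S0116.result φ

end Helpers

open AlgebraicGeometry CategoryTheory Limits in
/-- Let a : X' → X be flat, locally of finite presentation and surjective. Then all fibres of f : X → Y
are locally Noetherian if and only if all fibres of a ≫ f are. -/
theorem result {X X' Y : Scheme.{u}} (f : X ⟶ Y) (a : X' ⟶ X) [Flat a] [LocallyOfFinitePresentation a] [Surjective a] :
    (∀ y : Y, IsLocallyNoetherian (f.fiber y)) ↔ ∀ y : Y, IsLocallyNoetherian ((a ≫ f).fiber y) := by
  exact main1406 f a

end Groth.Agent.S1406
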