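import Groth.Statements.S14060
import Groth.Agent.H10.CohSeq
import Mathlib

set_option autoImplicit false
universe u
open CategoryTheory CategoryTheory.Limits TopologicalSpace
open CohTop

namespace Groth.Agent.S14060

/-- Let X be a topological space, r ≥ 1 an integer and 0 → F_r → ⋯ → F_2 → F_1 → F_0 → 0 an exact
sequence of sheaves of abelian groups on X, presented as a chain complex F of abelian sheaves
indexed by the natural numbers whose differential F_r → F_{r−1} is a monomorphism, whose
differential F_1 → F_0 is an epimorphism of sheaves, and which is exact at F_j for 1 ≤ j ≤ r − 1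
(for r = 1 the single map F_1 → F_0 is mono and epi). Assume the sheaf cohomology groups H^{j−1}(X,
F_j) vanish for 2 ≤ j ≤ r. Then the map on global sections F_1(X) → F_0(X) is surjective. (The
instance hypothesis that the category of abelian sheaves on X has Ext groups in the universe of X
holds for every X, abelian sheaves on a space forming a Grothendieck abelian category; it is the
setting in which sheaf cohomology is defined.) -/
theorem result (X : TopCat.{u})
    [HasExt.{u} (Sheaf (Opens.grothendieckTopology X) AddCommGrpCat.{u})]
    (r : ℕ) (hr : 1 ≤ r)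
    (F : ChainComplex (Sheaf (Opens.grothendieckTopology X) AddCommGrpCat.{u}) ℕ)
    (hmono : Mono (F.d r (r - 1))) (hepi : Epi (F.d 1 0))
    (hex : ∀ j : ℕ, 1 ≤ j → j < r → F.ExactAt j)
    (hvan : ∀ j : ℕ, 2 ≤ j → j ≤ r → Subsingleton (Sheaf.H (F.X j) (j - 1))) :
    Function.Surjective ((F.d 1 0).hom.app (Opposite.op ⊤)) := by
  have Q : ∀ k m : ℕ, m + 1 + k = r →
      Subsingleton (Sheaf.H (kernel (F.d (m + 1) m)) (m + 1)) := by
    intro k
    induction k with
    | zero =>
      intro m hm
      have hr' : r = m + 1 := by omega
      subst hr'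
      have hmono' : Mono (F.d (m + 1) m) := by
        have h := hmono
        rw [Nat.add_sub_cancel] at h
        exact h
      exact Groth.Agent.H10.CohSeq.subsingleton_ext_of_isZero _ (isZero_kernel_of_mono _) _
    | succ k ih =>
      intro m hm
      have hE : (F.sc' (m + 2) (m + 1) m).Exact :=
        (F.exactAt_iff' (m + 2) (m + 1) m (ChainComplex.prev ℕ (m + 1))
          (ChainComplex.next_nat_succ m)).mp
          (hex (m + 1) (by omega) (by omega))
      have hSE := Groth.Agent.H10.CohSeq.shortExact_kernel_lift (F.d (m + 2) (m + 1))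
        (F.d (m + 1) m) (F.d_comp_d _ _ _) hE
        (Groth.Agent.H10.CohSeq.kernel_lift_zero _ _ _)
      have h2 : Subsingleton (Sheaf.H (F.X (m + 2)) (m + 1)) := by
        have h := hvan (m + 2) (by omega) (by omega)
        have e : m + 2 - 1 = m + 1 := by omega
        rw [e] at h
        exact h
      have h1 : Subsingleton (Sheaf.H (kernel (F.d (m + 2) (m + 1))) (m + 2)) :=
        ih (m + 1) (by omega)
      exact Groth.Agent.H10.CohSeq.subsingleton_ext_X₃ _ _ hSE (m + 1) h2 h1
  have h1 : Subsingleton (Sheaf.H (kernel (F.d 1 0)) 1) := Q (r - 1) 0 (by omega)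
  have hSE : (ShortComplex.kernelSequence (F.d 1 0)).ShortExact :=
    ShortComplex.ShortExact.mk' (ShortComplex.kernelSequence_exact _)
      (inferInstanceAs (Mono (kernel.ι (F.d 1 0)))) hepi
  exact Groth.Agent.H10.CohSeq.surjective_top_of_H1 X _ hSE h1

end Groth.Agent.S14060
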