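import Groth.Statements.S1407
import Mathlib
import Groth.Agent.S1345

set_option autoImplicit false
universe u
open FlatMor

namespace Groth.Agent.S1407

open AlgebraicGeometry CategoryTheory Limits in
/-- Let Y' → Y be flat, locally of finite presentation and surjective and f' the base change of f : X →
Y. Then f has locally Noetherian fibres and is Cohen–Macaulay at every point if and only if the same
holds for f'. -/
theorem result {X Y X' Y' : Scheme.{u}} (f : X ⟶ Y) (f' : X' ⟶ Y') (g' : X' ⟶ X) (g : Y' ⟶ Y) [Flat g] [LocallyOfFinitePresentation g] [Surjective g]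
    (hc : IsPullback g' f' f g) :
    ((∀ y : Y, IsLocallyNoetherian (f.fiber y)) ∧ ∀ x : X, MoreMor.IsCMAt f x) ↔
      (∀ y' : Y', IsLocallyNoetherian (f'.fiber y')) ∧ ∀ x' : X', MoreMor.IsCMAt f' x' := by
  have hiff := Groth.Agent.S1405.main1405 f f' g' g hc
  constructor
  · rintro ⟨hN, hCM⟩
    exact ⟨hiff.mp hN, fun x' => Groth.Agent.S1345.main1345 f hN f' g' g hc x' (hCM (g' x'))⟩
  · rintro ⟨hN', hCM'⟩
    have hN := hiff.mpr hN'
    haveI : Surjective g' :=
      MorphismProperty.of_isPullback (P := @Surjective) hc.flip inferInstance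
    refine ⟨hN, fun x => ?_⟩
    obtain ⟨x', rfl⟩ := g'.surjective x
    exact Groth.Agent.S1347.main1347 f hN f' g' g hc x' (Flat.stalkMap g (f' x')) (hCM' x')

end Groth.Agent.S1407
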