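import Groth.Statements.S14085
import Groth.Agent.H21.FlatKer

set_option autoImplicit false
universe u
open FlatMor

namespace Groth.Agent.S14085

/-- Let R be a ring, A and B flat R-algebras, I an ideal of A and B → A/I an injective finite flat map
of R-algebras. Then the fibre product ring B ×_{A/I} A, realised as the subalgebra of B × A of pairs
with equal image in A/I, is flat over R. (This is the affine statement behind flatness over the base
of the pushout of a closed immersion along a finite flat morphism.) -/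
theorem result (R A B : Type u) [CommRing R] [CommRing A] [CommRing B]
    [Algebra R A] [Algebra R B] [Module.Flat R A] [Module.Flat R B] (I : Ideal A)
    [Algebra B (A ⧸ I)] [IsScalarTower R B (A ⧸ I)] [Module.Finite B (A ⧸ I)] [Module.Flat B (A ⧸ I)]
    (hinj : Function.Injective (algebraMap B (A ⧸ I))) :
    Module.Flat R ↥(AlgHom.equalizer ((IsScalarTower.toAlgHom R B (A ⧸ I)).comp (AlgHom.fst R B A))
          ((Ideal.Quotient.mkₐ R I).comp (AlgHom.snd R B A))) := by
  haveI : Module.Flat R (A ⧸ I) := Module.Flat.trans R B (A ⧸ I)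
  haveI : Module.Flat R (B × A) := Groth.Agent.H21.FlatKer.flat_prod
  obtain ⟨φ₁, hφ₁⟩ : ∃ φ₁ : B × A →ₐ[R] A ⧸ I,
      φ₁ = (IsScalarTower.toAlgHom R B (A ⧸ I)).comp (AlgHom.fst R B A) := ⟨_, rfl⟩
  obtain ⟨φ₂, hφ₂⟩ : ∃ φ₂ : B × A →ₐ[R] A ⧸ I,
      φ₂ = (Ideal.Quotient.mkₐ R I).comp (AlgHom.snd R B A) := ⟨_, rfl⟩
  rw [← hφ₁, ← hφ₂]
  refine Groth.Agent.H21.FlatKer.flat_of_exact (R := R) (M := ↥(AlgHom.equalizer φ₁ φ₂))
    (N := B × A) (P := A ⧸ I) (AlgHom.equalizer φ₁ φ₂).val.toLinearMap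
    (φ₁.toLinearMap - φ₂.toLinearMap) Subtype.val_injective ?_ ?_
  · intro c
    obtain ⟨a, rfl⟩ := Ideal.Quotient.mk_surjective c
    refine ⟨(0, -a), ?_⟩
    simp [hφ₁, hφ₂]
  · intro x
    constructor
    · intro hx
      have hx' : φ₁ x = φ₂ x := by
        have : φ₁ x - φ₂ x = 0 := hx
        exact sub_eq_zero.mp this
      exact ⟨⟨x, hx'⟩, rfl⟩
    · rintro ⟨y, rfl⟩
      have : φ₁ y.1 = φ₂ y.1 := y.2
      show φ₁ y.1 - φ₂ y.1 = 0
      rw [this, sub_self]

end Groth.Agent.S14085
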