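import Groth.Statements.S14100
import Groth.Agent.H21.DerivedKL

set_option autoImplicit false
universe w v u
open DCoh
open CategoryTheory CategoryTheory.Limits

namespace Groth.Agent.S14100

open CategoryTheory in
/-- Let C be an abelian category, a an integer and n a natural number, and let K_0 → K_1 → ⋯ → K_{n+1}
be composable morphisms in the derived category of C such that each K_i has cohomology concentrated
in degrees a, …, a+n and each map K_i → K_{i+1} induces zero on every cohomology object. Then the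
composite K_0 → K_{n+1} is zero. (The chain is given as a functor from the ordered set of natural
numbers; only its values on 0, …, n+1 matter.) -/
theorem result
    (C : Type u) [Category.{v} C] [Abelian C] [HasDerivedCategory.{w} C]
    (a : ℤ) (n : ℕ) (K : ℕ ⥤ DerivedCategory C)
    (hGE : ∀ i : ℕ, i ≤ n + 1 → (K.obj i).IsGE a)
    (hLE : ∀ i : ℕ, i ≤ n + 1 → (K.obj i).IsLE (a + n))
    (hzero : ∀ i : ℕ, i ≤ n → ∀ q : ℤ,
      (DerivedCategory.homologyFunctor C q).map (K.map (homOfLE (Nat.le_succ i))) = 0) :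
    K.map (homOfLE (Nat.zero_le (n + 1))) = 0 := by
  set t := (DerivedCategory.TStructure.t : Triangulated.TStructure (DerivedCategory C)) with ht
  have P : ∀ j : ℕ, j ≤ n + 1 →
      K.map (homOfLE (Nat.zero_le j)) ≫ (t.truncGEπ (a + n - j + 1)).app (K.obj j) = 0 := by
    intro j
    induction j with
    | zero =>
      intro _
      haveI : t.IsLE (K.obj 0) (a + n) := hLE 0 (by omega)
      apply IsZero.eq_of_tgt
      exact t.isZero_truncGE_obj_of_isLE (a + n) _ (by push_cast; ring) (K.obj 0)
    | succ j ih =>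
      intro hj
      have ihj := ih (by omega)
      obtain ⟨m, hm⟩ : ∃ m : ℤ, m = a + n - j := ⟨_, rfl⟩
      have hm1 : a + (n : ℤ) - (j : ℕ) + 1 = m + 1 := by rw [hm]
      have hm2 : a + (n : ℤ) - ((j + 1 : ℕ) : ℤ) + 1 = m := by rw [hm]; push_cast; ring
      rw [hm1] at ihj
      rw [hm2]
      have hT := t.triangleLEGE_distinguished m (m + 1) rfl (K.obj j)
      obtain ⟨θ, hθ⟩ := Pretriangulated.Triangle.coyoneda_exact₂ _ hT
        (K.map (homOfLE (Nat.zero_le j))) ihj
      have hcomp : K.map (homOfLE (Nat.zero_le (j + 1))) =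
          K.map (homOfLE (Nat.zero_le j)) ≫ K.map (homOfLE (Nat.le_succ j)) := by
        rw [← K.map_comp]
        rfl
      have hkl : (t.truncLEι m).app (K.obj j) ≫ K.map (homOfLE (Nat.le_succ j)) ≫
          (t.truncGEπ m).app (K.obj (j + 1)) = 0 := by
        haveI h1 : t.IsLE ((t.truncLE m).obj (K.obj j)) m := inferInstance
        haveI h2 : t.IsGE ((t.truncGE m).obj (K.obj (j + 1))) m := inferInstance
        apply Groth.Agent.H21.hom_eq_zero_of_isLE_of_isGE m
        rw [Functor.map_comp, Functor.map_comp, hzero j (by omega) m, zero_comp, comp_zero]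
      obtain ⟨θ', hθ'⟩ : ∃ θ' : K.obj 0 ⟶ (t.truncLE m).obj (K.obj j),
          K.map (homOfLE (Nat.zero_le j)) = θ' ≫ (t.truncLEι m).app (K.obj j) := ⟨θ, hθ⟩
      rw [hcomp, hθ', Category.assoc, Category.assoc, hkl, comp_zero]
  have hfin := P (n + 1) le_rfl
  have hidx : a + (n : ℤ) - ((n + 1 : ℕ) : ℤ) + 1 = a := by push_cast; ring
  rw [hidx] at hfin
  haveI : t.IsGE (K.obj (n + 1)) a := hGE (n + 1) le_rfl
  haveI : IsIso ((t.truncGEπ a).app (K.obj (n + 1))) := inferInstance
  exact (cancel_mono ((t.truncGEπ a).app (K.obj (n + 1)))).mp (by rw [hfin, zero_comp])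

end Groth.Agent.S14100
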