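import Groth.Statements.S14102
import Mathlib
-- import your own Groth.Agent.* helpers here

set_option autoImplicit false
universe w u
open DCoh

namespace Groth.Agent.S14102

open CategoryTheory TensorProduct
open scoped ZeroObject

section Generic

variable {A : Type u} [CommRing A]

/-- A subcomplex of a complex of modules, given by submodules stable under the differential. -/
noncomputable def subCx (T : CochainComplex (ModuleCat.{u} A) ℤ) (S : ∀ q, Submodule A (T.X q))
    (hS : ∀ q q' (x : T.X q), x ∈ S q → (T.d q q').hom x ∈ S q') :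
    CochainComplex (ModuleCat.{u} A) ℤ where
  X q := ModuleCat.of A (S q)
  d q q' := ModuleCat.ofHom ((T.d q q').hom.restrict (hS q q'))
  shape q q' h := by
    apply ModuleCat.hom_ext
    apply LinearMap.ext
    intro x
    apply Subtype.ext
    show (T.d q q').hom x.1 = 0
    rw [T.shape q q' h]
    rfl
  d_comp_d' q q' q'' _ _ := by
    apply ModuleCat.hom_ext
    apply LinearMap.ext
    intro x
    apply Subtype.ext
    show (T.d q' q'').hom ((T.d q q').hom x.1) = 0
    exact congrArg (fun f => f.hom x.1) (T.d_comp_d q q' q'')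

noncomputable def subι (T : CochainComplex (ModuleCat.{u} A) ℤ) (S : ∀ q, Submodule A (T.X q))
    (hS : ∀ q q' (x : T.X q), x ∈ S q → (T.d q q').hom x ∈ S q') : subCx T S hS ⟶ T where
  f q := ModuleCat.ofHom (S q).subtype
  comm' q q' _ := by
    apply ModuleCat.hom_ext
    apply LinearMap.ext
    intro x
    rfl

noncomputable def subLift {X T : CochainComplex (ModuleCat.{u} A) ℤ} (S : ∀ q, Submodule A (T.X q))
    (hS : ∀ q q' (x : T.X q), x ∈ S q → (T.d q q').hom x ∈ S q') (f : X ⟶ T)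
    (hf : ∀ q (x : X.X q), (f.f q).hom x ∈ S q) : X ⟶ subCx T S hS where
  f q := ModuleCat.ofHom ((f.f q).hom.codRestrict (S q) (hf q))
  comm' q q' _ := by
    apply ModuleCat.hom_ext
    apply LinearMap.ext
    intro x
    apply Subtype.ext
    show (T.d q q').hom ((f.f q).hom x) = (f.f q').hom ((X.d q q').hom x)
    exact congrArg (fun g => g.hom x) (f.comm q q')

theorem subLift_ι {X T : CochainComplex (ModuleCat.{u} A) ℤ} (S : ∀ q, Submodule A (T.X q))
    (hS : ∀ q q' (x : T.X q), x ∈ S q → (T.d q q').hom x ∈ S q') (f : X ⟶ T)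
    (hf : ∀ q (x : X.X q), (f.f q).hom x ∈ S q) : subLift S hS f hf ≫ subι T S hS = f := by
  refine HomologicalComplex.hom_ext _ _ (fun q => ?_)
  refine ModuleCat.hom_ext (LinearMap.ext (fun x => ?_))
  rfl

theorem isZero_Q_of_exact [HasDerivedCategory.{w} (ModuleCat.{u} A)]
    (W : CochainComplex (ModuleCat.{u} A) ℤ)
    (hW : ∀ q (z : W.X q), (W.d q (q+1)).hom z = 0 → ∃ w : W.X (q-1), (W.d (q-1) q).hom w = z) :
    Limits.IsZero (DerivedCategory.Q.obj W) := by
  have hex : ∀ q, W.ExactAt q := by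
    intro q
    rw [HomologicalComplex.exactAt_iff' W (q-1) q (q+1) (by simp) (by simp),
      ShortComplex.moduleCat_exact_iff]
    intro z hz
    exact hW q z hz
  have hq : QuasiIso (0 : W ⟶ 0) := by
    rw [_root_.quasiIso_iff]
    intro i
    rw [quasiIsoAt_iff_exactAt _ _ (hex i), HomologicalComplex.exactAt_iff_isZero_homology]
    exact Functor.map_isZero (HomologicalComplex.homologyFunctor _ _ i) (Limits.isZero_zero _)
  have hiso : IsIso (DerivedCategory.Q.map (0 : W ⟶ 0)) :=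
    (DerivedCategory.isIso_Q_map_iff_quasiIso (ModuleCat.{u} A) (0 : W ⟶ 0)).2 hq
  exact Limits.IsZero.of_iso (Functor.map_isZero _ (Limits.isZero_zero _))
    (asIso (DerivedCategory.Q.map (0 : W ⟶ 0)))

theorem Q_map_eq_zero_of_factor [HasDerivedCategory.{w} (ModuleCat.{u} A)]
    {X Y K : CochainComplex (ModuleCat.{u} A) ℤ} (φ : X ⟶ Y)
    (μX : ∀ q, X.X q →ₗ[A] K.X q) (μY : ∀ q, Y.X q →ₗ[A] K.X q)
    (hμYd : ∀ q q' (y : Y.X q), μY q' ((Y.d q q').hom y) = (K.d q q').hom (μY q y))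
    (hinj : ∀ q, Function.Injective (μY q))
    (hφ : ∀ q (x : X.X q), μY q ((φ.f q).hom x) = μX q x)
    (C : ∀ q, Submodule A (K.X q))
    (hCd : ∀ q q' (z : K.X q), z ∈ C q → (K.d q q').hom z ∈ C q')
    (hCex : ∀ q (z : K.X q), z ∈ C q → (K.d q (q+1)).hom z = 0 →
      ∃ w ∈ C (q-1), (K.d (q-1) q).hom w = z)
    (hXC : ∀ q (x : X.X q), μX q x ∈ C q)
    (hCY : ∀ q (z : K.X q), z ∈ C q → ∃ y, μY q y = z) :
    DerivedCategory.Q.map φ = 0 := by
  let S : ∀ q, Submodule A (Y.X q) := fun q => (C q).comap (μY q)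
  have hS : ∀ q q' (y : Y.X q), y ∈ S q → (Y.d q q').hom y ∈ S q' := by
    intro q q' y hy
    show μY q' ((Y.d q q').hom y) ∈ C q'
    rw [hμYd]
    exact hCd q q' _ hy
  have hf : ∀ q (x : X.X q), (φ.f q).hom x ∈ S q := by
    intro q x
    show μY q ((φ.f q).hom x) ∈ C q
    rw [hφ]
    exact hXC q x
  have hfac : subLift S hS φ hf ≫ subι Y S hS = φ := subLift_ι S hS φ hf
  have hz : Limits.IsZero (DerivedCategory.Q.obj (subCx Y S hS)) := by
    apply isZero_Q_of_exact
    intro q z hz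
    have hzmem : μY q z.1 ∈ C q := z.2
    have h1 : (Y.d q (q+1)).hom z.1 = 0 := congrArg Subtype.val hz
    obtain ⟨w, hwC, hw⟩ := hCex q (μY q z.1) hzmem (by rw [← hμYd, h1, map_zero])
    obtain ⟨y', hy'⟩ := hCY (q-1) w hwC
    have hy'S : y' ∈ S (q-1) := by
      show μY (q-1) y' ∈ C (q-1)
      rw [hy']
      exact hwC
    refine ⟨⟨y', hy'S⟩, ?_⟩
    apply Subtype.ext
    show (Y.d (q-1) q).hom y' = z.1
    apply hinj q
    rw [hμYd, hy', hw]
  rw [← hfac, Functor.map_comp, hz.eq_of_tgt (DerivedCategory.Q.map (subLift S hS φ hf)) 0,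
    Limits.zero_comp]

end Generic

section Tensor

variable {A : Type u} [CommRing A]

/-- The multiplication map `𝔞 ⊗ M → M`. -/
noncomputable def mu (𝔞 : Ideal A) (M : Type u) [AddCommGroup M] [Module A M] :
    (𝔞 ⊗[A] M) →ₗ[A] M :=
  (TensorProduct.lid A M).toLinearMap ∘ₗ (LinearMap.rTensor M (Submodule.subtype 𝔞))

theorem mu_tmul (𝔞 : Ideal A) (M : Type u) [AddCommGroup M] [Module A M] (y : 𝔞) (k : M) :
    mu 𝔞 M (y ⊗ₜ[A] k) = (y : A) • k := by
  simp [mu]

theorem mu_injective (𝔞 : Ideal A) (M : Type u) [AddCommGroup M] [Module A M] [Module.Flat A M] :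
    Function.Injective (mu 𝔞 M) := by
  have h1 : Function.Injective (LinearMap.rTensor M (Submodule.subtype 𝔞)) :=
    Module.Flat.rTensor_preserves_injective_linearMap _ (Submodule.injective_subtype 𝔞)
  exact (TensorProduct.lid A M).injective.comp h1

theorem mu_mem (𝔞 : Ideal A) (M : Type u) [AddCommGroup M] [Module A M] (t : 𝔞 ⊗[A] M) :
    mu 𝔞 M t ∈ (𝔞 • ⊤ : Submodule A M) := by
  induction t using TensorProduct.induction_on with
  | zero => rw [map_zero]; exact Submodule.zero_mem _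
  | tmul y k => rw [mu_tmul]; exact Submodule.smul_mem_smul y.2 Submodule.mem_top
  | add s t hs ht => rw [map_add]; exact Submodule.add_mem _ hs ht

theorem exists_mu_eq (𝔞 : Ideal A) (M : Type u) [AddCommGroup M] [Module A M] (z : M)
    (hz : z ∈ (𝔞 • ⊤ : Submodule A M)) : ∃ t, mu 𝔞 M t = z := by
  refine Submodule.smul_induction_on hz ?_ ?_
  · intro r hr k _
    exact ⟨(⟨r, hr⟩ : 𝔞) ⊗ₜ[A] k, mu_tmul _ _ _ _⟩
  · rintro x y ⟨t, rfl⟩ ⟨s, rfl⟩
    exact ⟨t + s, map_add _ _ _⟩

theorem mu_lTensor (𝔞 : Ideal A) {M N : Type u} [AddCommGroup M] [Module A M] [AddCommGroup N]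
    [Module A N] (f : M →ₗ[A] N) (t : 𝔞 ⊗[A] M) :
    mu 𝔞 N (f.lTensor 𝔞 t) = f (mu 𝔞 M t) := by
  induction t using TensorProduct.induction_on with
  | zero => simp
  | tmul y k => rw [LinearMap.lTensor_tmul, mu_tmul, mu_tmul, map_smul]
  | add s t hs ht => rw [map_add, map_add, map_add, map_add, hs, ht]

theorem mu_rTensor_incl (𝔞 𝔟 : Ideal A) (h : 𝔞 ≤ 𝔟) (M : Type u) [AddCommGroup M] [Module A M]
    (t : 𝔞 ⊗[A] M) :
    mu 𝔟 M ((Submodule.inclusion h).rTensor M t) = mu 𝔞 M t := by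
  induction t using TensorProduct.induction_on with
  | zero => simp
  | tmul y k => rw [LinearMap.rTensor_tmul, mu_tmul, mu_tmul]; rfl
  | add s t hs ht => rw [map_add, map_add, map_add, hs, ht]

theorem map_mem_smul_top {M N : Type u} [AddCommGroup M] [Module A M] [AddCommGroup N]
    [Module A N] (I : Ideal A) (f : M →ₗ[A] N) {z : M} (hz : z ∈ (I • ⊤ : Submodule A M)) :
    f z ∈ (I • ⊤ : Submodule A N) := by
  have h : Submodule.map f (I • ⊤) ≤ I • ⊤ := by
    rw [Submodule.map_smul'']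
    exact Submodule.smul_mono le_rfl le_top
  exact h ⟨z, hz, rfl⟩

end Tensor

section Complex

variable {A : Type u} [CommRing A]

theorem bdry (K : CochainComplex (ModuleCat.{u} A) ℤ) (J : Ideal A)
    (hJ : ∀ q : ℤ, ∀ x ∈ J, ∀ c : ↑(K.homology q), x • c = 0)
    (q : ℤ) (x : A) (hx : x ∈ J) (z : K.X q) (hz : (K.d q (q+1)).hom z = 0) :
    ∃ w : K.X (q-1), (K.d (q-1) q).hom w = x • z := by
  have hnext : (ComplexShape.up ℤ).next q = q + 1 := by simp
  have hprev : (ComplexShape.up ℤ).prev q = q - 1 := by simp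
  have hz' : (K.sc q).g.hom z = 0 := by
    show (K.d q ((ComplexShape.up ℤ).next q)).hom z = 0
    rw [hnext]
    exact hz
  let zc : LinearMap.ker (K.sc q).g.hom := ⟨z, hz'⟩
  let R := LinearMap.range (K.sc q).moduleCatToCycles
  have h1 : x • ((K.sc q).moduleCatHomologyIso.inv.hom (R.mkQ zc)) = 0 := hJ q x hx _
  have e : (K.sc q).moduleCatHomologyIso.hom.hom
      ((K.sc q).moduleCatHomologyIso.inv.hom (R.mkQ zc)) = R.mkQ zc :=
    congrArg (fun f => f.hom (R.mkQ zc)) (K.sc q).moduleCatHomologyIso.inv_hom_id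
  have h2 : R.mkQ (x • zc) = 0 := by
    have h3 := congrArg (K.sc q).moduleCatHomologyIso.hom.hom h1
    rw [map_smul, map_zero, e] at h3
    rw [map_smul]
    exact h3
  rw [Submodule.mkQ_apply, Submodule.Quotient.mk_eq_zero] at h2
  obtain ⟨w, hw⟩ := h2
  have hw' : (K.d ((ComplexShape.up ℤ).prev q) q).hom w = x • z := congrArg Subtype.val hw
  have key : ∀ p, p = q - 1 → ∀ w : K.X p, (K.d p q).hom w = x • z →
      ∃ w' : K.X (q-1), (K.d (q-1) q).hom w' = x • z := by
    intro p hp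
    subst hp
    exact fun w hw => ⟨w, hw⟩
  exact key _ hprev w hw'

theorem exists_AR [IsNoetherianRing A] (K : CochainComplex (ModuleCat.{u} A) ℤ) (a b : ℤ)
    (hK : ∀ q : ℤ, q < a ∨ b < q → Limits.IsZero (K.X q))
    (hfin : ∀ q : ℤ, Module.Finite A (K.X q)) (J : Ideal A) :
    ∃ c : ℕ, ∀ (q : ℤ) (n : ℕ), c ≤ n → ∀ z : K.X q, z ∈ (J ^ n • ⊤ : Submodule A (K.X q)) →
      (K.d q (q+1)).hom z = 0 →
      z ∈ (J ^ (n - c) • (LinearMap.ker (K.d q (q+1)).hom) : Submodule A (K.X q)) := by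
  have h := fun q : ℤ => (haveI := hfin q
    Ideal.exists_pow_inf_eq_pow_smul J (LinearMap.ker (K.d q (q+1)).hom))
  choose k hk using h
  refine ⟨(Finset.Icc a b).sup k, ?_⟩
  intro q n hn z hz hdz
  by_cases hq : q < a ∨ b < q
  · haveI : Subsingleton (K.X q) := ModuleCat.subsingleton_of_isZero (hK q hq)
    rw [Subsingleton.elim z 0]
    exact Submodule.zero_mem _
  · have hq' : q ∈ Finset.Icc a b := by
      rw [Finset.mem_Icc]
      omega
    have hkq : k q ≤ (Finset.Icc a b).sup k := Finset.le_sup hq'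
    have h1 := hk q n (le_trans hkq hn)
    have h2 : z ∈ (J ^ n • ⊤ ⊓ LinearMap.ker (K.d q (q+1)).hom : Submodule A (K.X q)) :=
      Submodule.mem_inf.2 ⟨hz, LinearMap.mem_ker.2 hdz⟩
    rw [h1] at h2
    have h3 : (J ^ (n - k q) • (J ^ k q • ⊤ ⊓ LinearMap.ker (K.d q (q+1)).hom) :
        Submodule A (K.X q)) ≤
        J ^ (n - (Finset.Icc a b).sup k) • LinearMap.ker (K.d q (q+1)).hom :=
      (Submodule.smul_mono le_rfl inf_le_right).trans
        (Submodule.smul_mono (Ideal.pow_le_pow_right (by omega)) le_rfl)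
    exact h3 h2

theorem key_step (K : CochainComplex (ModuleCat.{u} A) ℤ) (J : Ideal A) (c : ℕ)
    (hAR : ∀ (q : ℤ) (n : ℕ), c ≤ n → ∀ z : K.X q, z ∈ (J ^ n • ⊤ : Submodule A (K.X q)) →
      (K.d q (q+1)).hom z = 0 →
      z ∈ (J ^ (n - c) • (LinearMap.ker (K.d q (q+1)).hom) : Submodule A (K.X q)))
    (hB : ∀ (q : ℤ) (x : A), x ∈ J → ∀ z : K.X q, (K.d q (q+1)).hom z = 0 →
      ∃ w : K.X (q-1), (K.d (q-1) q).hom w = x • z)
    (q : ℤ) (k : ℕ) (hk : c + 1 ≤ k) (z : K.X q)
    (hz : z ∈ (J ^ k • ⊤ : Submodule A (K.X q))) (hdz : (K.d q (q+1)).hom z = 0) :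
    ∃ w : K.X (q-1), w ∈ (J ^ (k - c - 1) • ⊤ : Submodule A (K.X (q-1))) ∧
      (K.d (q-1) q).hom w = z := by
  have h1 := hAR q k (by omega) z hz hdz
  have e : k - c = (k - c - 1) + 1 := by omega
  rw [e, pow_succ, Submodule.mul_smul] at h1
  have h2 : (J • LinearMap.ker (K.d q (q+1)).hom : Submodule A (K.X q)) ≤
      Submodule.map (K.d (q-1) q).hom ⊤ := by
    rw [Submodule.smul_le]
    intro x hx z' hz'
    obtain ⟨w, hw⟩ := hB q x hx z' (LinearMap.mem_ker.1 hz')
    exact ⟨w, Submodule.mem_top, hw⟩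
  have h3 := Submodule.smul_mono (le_refl (J ^ (k - c - 1))) h2 h1
  rw [← Submodule.map_smul''] at h3
  obtain ⟨w, hw, hwz⟩ := h3
  exact ⟨w, hw, hwz⟩

end Complex

open CategoryTheory MonoidalCategory in
/-- Affine form — let A be a Noetherian commutative ring, K a bounded cochain complex of finitely
generated projective A-modules and J an ideal of A that annihilates every cohomology module of K.
Then for some natural number n and every positive integer m, the map J^(n+m) ⊗_A K → J^m ⊗_A K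
induced by the inclusion of ideals is zero in the derived category of A-modules. (The published
statement is for a perfect complex on a noetherian scheme or formal scheme with the derived tensor
product; over an affine scheme a perfect complex is represented by a bounded complex of finitely
generated projective modules, for which the derived tensor product with J^m is the termwise tensor
product used here.) -/
theorem result
    (A : Type u) [CommRing A] [IsNoetherianRing A] [HasDerivedCategory.{w} (ModuleCat.{u} A)]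
    (K : CochainComplex (ModuleCat.{u} A) ℤ) (a b : ℤ)
    (hK : ∀ q : ℤ, q < a ∨ b < q → Limits.IsZero (K.X q))
    (hfin : ∀ q : ℤ, Module.Finite A (K.X q)) (hproj : ∀ q : ℤ, Module.Projective A (K.X q))
    (J : Ideal A) (hJ : ∀ q : ℤ, ∀ x ∈ J, ∀ c : ↑(K.homology q), x • c = 0) :
    ∃ n : ℕ, ∀ m : ℕ, 0 < m →
      DerivedCategory.Q.map
        ((NatTrans.mapHomologicalComplex
          ((curriedTensor (ModuleCat.{u} A)).map
            (ModuleCat.ofHom (Submodule.inclusion (p := J ^ (n + m)) (p' := J ^ m)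
              (Ideal.pow_le_pow_right (Nat.le_add_left m n)))))
          (ComplexShape.up ℤ)).app K) = 0 := by
  classical
  have hB := bdry K J hJ
  obtain ⟨c, hAR⟩ := exists_AR K a b hK hfin J
  obtain ⟨e, he_step, he_le⟩ : ∃ e : ℤ → ℕ,
      (∀ q, a ≤ q → q ≤ b → e q = e (q-1) + (c+1)) ∧ (∀ q, e q ≤ e (b+1)) := by
    refine ⟨fun q => (min q (b+1) - a + 1).toNat * (c+1), ?_, ?_⟩
    · intro q h1 h2
      show (min q (b+1) - a + 1).toNat * (c+1) =
        (min (q-1) (b+1) - a + 1).toNat * (c+1) + (c+1)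
      rw [min_eq_left (by omega : q ≤ b+1), min_eq_left (by omega : q - 1 ≤ b+1)]
      have h3 : (q - a + 1).toNat = (q - 1 - a + 1).toNat + 1 := by omega
      rw [h3]
      ring
    · intro q
      show (min q (b+1) - a + 1).toNat * (c+1) ≤ (min (b+1) (b+1) - a + 1).toNat * (c+1)
      apply Nat.mul_le_mul_right
      have h1 : min q (b+1) ≤ b+1 := min_le_right _ _
      rw [min_self]
      generalize min q (b+1) = t at h1 ⊢
      omega
  refine ⟨e (b+1), fun m _ => ?_⟩
  let C : ∀ q, Submodule A (K.X q) := fun q =>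
    (J ^ (m + e q) • ⊤ : Submodule A (K.X q)) ⊓
      ⨅ q' : ℤ, Submodule.comap (K.d q q').hom (J ^ (m + e q') • ⊤ : Submodule A (K.X q'))
  have hCmem : ∀ q (z : K.X q), z ∈ C q ↔
      (z ∈ (J ^ (m + e q) • ⊤ : Submodule A (K.X q)) ∧
        ∀ q', (K.d q q').hom z ∈ (J ^ (m + e q') • ⊤ : Submodule A (K.X q'))) := by
    intro q z
    simp only [C, Submodule.mem_inf, Submodule.mem_iInf, Submodule.mem_comap]
  haveI : ∀ q, Module.Flat A (K.X q) := fun q => by
    haveI := hproj q
    infer_instance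
  refine Q_map_eq_zero_of_factor (K := K) _
    (fun q => mu (J ^ (e (b+1) + m)) (K.X q)) (fun q => mu (J ^ m) (K.X q)) ?_ ?_ ?_ C ?_ ?_ ?_ ?_
  · intro q q' y
    exact mu_lTensor (J ^ m) (K.d q q').hom y
  · intro q
    exact mu_injective (J ^ m) (K.X q)
  · intro q x
    exact mu_rTensor_incl (J ^ (e (b+1) + m)) (J ^ m)
      (Ideal.pow_le_pow_right (Nat.le_add_left m (e (b+1)))) (K.X q) x
  · intro q q' z hz
    rw [hCmem] at hz ⊢
    refine ⟨hz.2 q', fun q'' => ?_⟩
    have h0 : (K.d q' q'').hom ((K.d q q').hom z) = 0 :=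
      congrArg (fun f => f.hom z) (K.d_comp_d q q' q'')
    rw [h0]
    exact Submodule.zero_mem _
  · intro q z hz hdz
    rw [hCmem] at hz
    by_cases hq : q < a ∨ b < q
    · haveI : Subsingleton (K.X q) := ModuleCat.subsingleton_of_isZero (hK q hq)
      exact ⟨0, Submodule.zero_mem _, Subsingleton.elim _ _⟩
    · have he := he_step q (by omega) (by omega)
      obtain ⟨w, hw, hwz⟩ := key_step K J c hAR hB q (m + e q) (by omega) z hz.1 hdz
      have hexp : m + e q - c - 1 = m + e (q-1) := by omega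
      rw [hexp] at hw
      refine ⟨w, ?_, hwz⟩
      rw [hCmem]
      refine ⟨hw, fun q' => ?_⟩
      by_cases h : q - 1 + 1 = q'
      · have hq' : q' = q := by omega
        subst hq'
        rw [hwz]
        exact hz.1
      · rw [K.shape (q-1) q' h]
        exact Submodule.zero_mem _
  · intro q x
    rw [hCmem]
    have h1 : mu (J ^ (e (b+1) + m)) (K.X q) x ∈ (J ^ (e (b+1) + m) • ⊤ : Submodule A (K.X q)) :=
      mu_mem _ _ x
    have hle : ∀ q' : ℤ, (J ^ (e (b+1) + m) • ⊤ : Submodule A (K.X q')) ≤ J ^ (m + e q') • ⊤ :=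
      fun q' => Submodule.smul_mono_left (Ideal.pow_le_pow_right (by have := he_le q'; omega))
    exact ⟨hle q h1, fun q' => hle q' (map_mem_smul_top _ (K.d q q').hom h1)⟩
  · intro q z hz
    rw [hCmem] at hz
    have hle : (J ^ (m + e q) • ⊤ : Submodule A (K.X q)) ≤ J ^ m • ⊤ :=
      Submodule.smul_mono_left (Ideal.pow_le_pow_right (by omega))
    exact exists_mu_eq (J ^ m) (K.X q) z (hle hz.1)

end Groth.Agent.S14102
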