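import Groth.Statements.S14103
import Mathlib

set_option autoImplicit false
universe u
open CategoryTheory CategoryTheory.Limits AlgebraicGeometry Opposite TopologicalSpace
open CInt

namespace Groth.Agent.S14103

section Helpers
open AlgebraicGeometry CategoryTheory

theorem strictMono_of_isEmbedding {X Y : Scheme.{u}} (g : X ⟶ Y)
    (hg : Topology.IsEmbedding g.base) : StrictMono g.base := by
  intro a b hab
  rw [lt_iff_le_not_ge] at hab ⊢
  have h1 : ∀ a b : X, g.base a ≤ g.base b ↔ a ≤ b := fun a b =>
    Scheme.le_iff_specializes.trans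
      (hg.isInducing.specializes_iff.trans Scheme.le_iff_specializes.symm)
  exact ⟨(h1 a b).mpr hab.1, fun h => hab.2 ((h1 b a).mp h)⟩

theorem main {X S : Scheme.{u}} (f : X ⟶ S) (Y : Set ↥X) :
    (⨅ y : Y, ringKrullDim ↑(CInt.fiberStalk f y.1)) ≤
      ⨅ y : Y, ringKrullDim ↑(X.presheaf.stalk y.1) := by
  apply iInf_mono
  intro y
  change ringKrullDim ((f.fiber (f.base y.1)).presheaf.stalk (f.asFiber y.1)) ≤ _
  rw [ringKrullDim_stalk_eq_coheight, ringKrullDim_stalk_eq_coheight]
  have h := Order.coheight_le_coheight_apply_of_strictMono _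
    (strictMono_of_isEmbedding (f.fiberι (f.base y.1)) (f.fiberι (f.base y.1)).isEmbedding)
    (f.asFiber y.1)
  have h3 : (f.fiberι (f.base y.1)).base (f.asFiber y.1) = y.1 := f.fiberι_asFiber y.1
  rw [h3] at h
  exact WithBot.coe_le_coe.mpr h

end Helpers

/-- Let f : X → S be a morphism of locally Noetherian schemes and Y a closed subset of X. The
codimension of Y in X relative to f, namely the infimum over the points y of Y of the Krull
dimension of the local ring at y of the fibre of f through y, is at most the codimension of Y in X,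
the infimum over y ∈ Y of the Krull dimension of O_{X,y}. -/
theorem result {X S : Scheme.{u}} [IsLocallyNoetherian X] [IsLocallyNoetherian S]
    (f : X ⟶ S) (Y : Set ↥X) (hY : IsClosed Y) :
    (⨅ y : Y, ringKrullDim ↑(CInt.fiberStalk f y.1)) ≤ ⨅ y : Y, ringKrullDim ↑(X.presheaf.stalk y.1) := by
  exact main f Y

end Groth.Agent.S14103
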