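import Groth.Statements.S14104
import Mathlib
import Groth.Agent.Lib.Helper24.FiberStalk
import Groth.Agent.Helper1.FlatLocalCM

set_option autoImplicit false
universe u
open CategoryTheory CategoryTheory.Limits AlgebraicGeometry Opposite TopologicalSpace
open CInt

namespace Groth.Agent.S14104

section Helpers
open AlgebraicGeometry CategoryTheory Limits IsLocalRing

set_option backward.isDefEq.respectTransparency false in
/-- Depth and dimension formulas for a flat morphism of locally Noetherian schemes at a point. -/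
theorem formulas14104 {X S : Scheme.{u}} [IsLocallyNoetherian X] [IsLocallyNoetherian S]
    (f : X ⟶ S) [Flat f] (y : X) :
    IsNoetherianRing ↑(CInt.fiberStalk f y) ∧
    LocCoh.depth ↑(X.presheaf.stalk y) ↑(X.presheaf.stalk y) =
      LocCoh.depth ↑(S.presheaf.stalk (f y)) ↑(S.presheaf.stalk (f y)) +
        LocCoh.depth ↑(CInt.fiberStalk f y) ↑(CInt.fiberStalk f y) ∧
    ringKrullDim ↑(X.presheaf.stalk y) =
      ringKrullDim ↑(S.presheaf.stalk (f y)) + ringKrullDim ↑(CInt.fiberStalk f y) := by
  obtain ⟨eq⟩ := Groth.Agent.Helper24.FiberStalk.fiberStalkQuot f y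
  letI : Algebra (S.presheaf.stalk (f y)) (X.presheaf.stalk y) := (f.stalkMap y).hom.toAlgebra
  haveI : Module.Flat (S.presheaf.stalk (f y)) (X.presheaf.stalk y) := Flat.stalkMap f y
  haveI : IsLocalHom (algebraMap (S.presheaf.stalk (f y)) (X.presheaf.stalk y)) :=
    inferInstanceAs (IsLocalHom (f.stalkMap y).hom)
  haveI : IsLocalRing (X.presheaf.stalk y ⧸ (maximalIdeal (S.presheaf.stalk (f y))).map
        (algebraMap (S.presheaf.stalk (f y)) (X.presheaf.stalk y))) :=
    Groth.Agent.Helper1.CMAscent.isLocalRing_quot _ _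
  have eq' : ↑(CInt.fiberStalk f y) ≃+* (X.presheaf.stalk y ⧸
      (maximalIdeal (S.presheaf.stalk (f y))).map
        (algebraMap (S.presheaf.stalk (f y)) (X.presheaf.stalk y))) := eq
  have hN : IsNoetherianRing ↑(CInt.fiberStalk f y) :=
    isNoetherianRing_of_ringEquiv _ eq'.symm
  haveI := hN
  have hdim := Groth.Agent.Helper1.FlatLocalCM.dim_eq_add (S.presheaf.stalk (f y))
    (X.presheaf.stalk y)
    ((maximalIdeal (S.presheaf.stalk (f y))).map
      (algebraMap (S.presheaf.stalk (f y)) (X.presheaf.stalk y))) rfl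
  have hdep := Groth.Agent.Helper1.FlatLocalCM.depth_eq_add (S.presheaf.stalk (f y))
    (X.presheaf.stalk y)
    ((maximalIdeal (S.presheaf.stalk (f y))).map
      (algebraMap (S.presheaf.stalk (f y)) (X.presheaf.stalk y))) rfl
  refine ⟨hN, ?_, ?_⟩
  · rw [hdep, Groth.Agent.Helper1.FlatLocalCM.depth_self_eq_of_ringEquiv eq']
  · rw [hdim, ringKrullDim_eq_of_ringEquiv eq']

end Helpers

/-- Let f : X → S be a flat morphism of locally Noetherian schemes, Y a closed subset of X and d a
natural number. If for every point y of Y the local ring at y of the fibre of f through y has depth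
at least d (the depth of O_{X_s} along Y_s is at least d for every s), then for every y ∈ Y the
local ring O_{X,y} has depth at least d (the depth of O_X along Y is at least d). -/
theorem result {X S : Scheme.{u}} [IsLocallyNoetherian X] [IsLocallyNoetherian S]
    (f : X ⟶ S) [Flat f] (Y : Set ↥X) (hY : IsClosed Y) (d : ℕ)
    (h : ∀ y : ↥X, y ∈ Y → (d : ℕ∞) ≤ LocCoh.depth ↑(CInt.fiberStalk f y) ↑(CInt.fiberStalk f y)) :
    ∀ y : ↥X, y ∈ Y → (d : ℕ∞) ≤ LocCoh.depth ↑(X.presheaf.stalk y) ↑(X.presheaf.stalk y) := by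
  intro y hy
  obtain ⟨-, hdep, -⟩ := formulas14104 f y
  rw [hdep]
  exact (h y hy).trans le_add_self

end Groth.Agent.S14104
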