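import Groth.Statements.S14110
import Mathlib
import Groth.Agent.S9766

set_option autoImplicit false
universe u
open CategoryTheory CategoryTheory.Limits AlgebraicGeometry Opposite TopologicalSpace
open CInt

namespace Groth.Agent.S14110

section Helpers
open AlgebraicGeometry CategoryTheory Limits IsLocalRing

theorem dim_le14110 (A B C : Type u) [CommRing A] [CommRing B] [CommRing C]
    [IsLocalRing A] [IsLocalRing B] [IsLocalRing C] [IsNoetherianRing B] [IsNoetherianRing C]
    [Algebra A B] [Algebra B C] [Algebra A C]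
    [IsScalarTower A B C] [IsLocalHom (algebraMap A B)] [IsLocalHom (algebraMap B C)]
    [Module.Flat B C] :
    ringKrullDim (B ⧸ (maximalIdeal A).map (algebraMap A B)) ≤
      ringKrullDim (C ⧸ (maximalIdeal A).map (algebraMap A C)) := by
  have hI : (maximalIdeal A).map (algebraMap A B) ≠ ⊤ := fun h =>
    (maximalIdeal.isMaximal B).ne_top
      (top_le_iff.mp (h.ge.trans (Groth.Agent.Helper1.CMAscent.map_le A B)))
  have hIC : ((maximalIdeal A).map (algebraMap A B)).map (algebraMap B C) =
      (maximalIdeal A).map (algebraMap A C) := by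
    rw [Ideal.map_map, ← IsScalarTower.algebraMap_eq]
  let eC : (C ⧸ ((maximalIdeal A).map (algebraMap A B)).map (algebraMap B C)) ≃+*
      (C ⧸ (maximalIdeal A).map (algebraMap A C)) := Ideal.quotEquivOfEq hIC
  haveI : IsLocalRing (B ⧸ (maximalIdeal A).map (algebraMap A B)) :=
    Groth.Agent.S9766.quot_local9766 B _ hI
  haveI : IsLocalRing (C ⧸ ((maximalIdeal A).map (algebraMap A B)).map (algebraMap B C)) :=
    Groth.Agent.S9766.quot_local9766 C _ (Groth.Agent.S9766.relQuot_ne_top9766 B C _ hI)
  haveI := Groth.Agent.S9766.relQuot_isLocalHom9766 B C ((maximalIdeal A).map (algebraMap A B))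
  haveI := Groth.Agent.S9766.relQuot_flat9766 B C ((maximalIdeal A).map (algebraMap A B))
  rw [← ringKrullDim_eq_of_ringEquiv eC]
  haveI : IsLocalRing ((C ⧸ ((maximalIdeal A).map (algebraMap A B)).map (algebraMap B C)) ⧸
      (maximalIdeal (B ⧸ (maximalIdeal A).map (algebraMap A B))).map
        (algebraMap (B ⧸ (maximalIdeal A).map (algebraMap A B))
          (C ⧸ ((maximalIdeal A).map (algebraMap A B)).map (algebraMap B C)))) :=
    Groth.Agent.Helper1.CMAscent.isLocalRing_quot _ _
  have h := Groth.Agent.Helper1.FlatLocalCM.dim_eq_add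
    (B ⧸ (maximalIdeal A).map (algebraMap A B))
    (C ⧸ ((maximalIdeal A).map (algebraMap A B)).map (algebraMap B C))
    ((maximalIdeal (B ⧸ (maximalIdeal A).map (algebraMap A B))).map
        (algebraMap (B ⧸ (maximalIdeal A).map (algebraMap A B))
          (C ⧸ ((maximalIdeal A).map (algebraMap A B)).map (algebraMap B C)))) rfl
  rw [h]
  exact le_add_of_nonneg_right ringKrullDim_nonneg_of_nontrivial

set_option backward.isDefEq.respectTransparency false in
theorem main14110 {X X' S : Scheme.{u}} [IsLocallyNoetherian X] [IsLocallyNoetherian X']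
    (f : X ⟶ S) (g : X' ⟶ X) [Flat g] (y' : X') :
    ringKrullDim ↑(CInt.fiberStalk f (g y')) ≤ ringKrullDim ↑(CInt.fiberStalk (g ≫ f) y') := by
  obtain ⟨ef⟩ := Groth.Agent.Helper24.FiberStalk.fiberStalkQuot f (g y')
  obtain ⟨egf⟩ := Groth.Agent.Helper24.FiberStalk.fiberStalkQuot (g ≫ f) y'
  letI : Algebra (S.presheaf.stalk (f (g y'))) (X.presheaf.stalk (g y')) :=
    (f.stalkMap (g y')).hom.toAlgebra
  letI : Algebra (X.presheaf.stalk (g y')) (X'.presheaf.stalk y') := (g.stalkMap y').hom.toAlgebra
  letI : Algebra (S.presheaf.stalk (f (g y'))) (X'.presheaf.stalk y') :=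
    ((g ≫ f).stalkMap y').hom.toAlgebra
  haveI : IsScalarTower (S.presheaf.stalk (f (g y'))) (X.presheaf.stalk (g y'))
      (X'.presheaf.stalk y') := IsScalarTower.of_algebraMap_eq' (by
    show ((g ≫ f).stalkMap y').hom = (g.stalkMap y').hom.comp (f.stalkMap (g y')).hom
    rw [Scheme.Hom.stalkMap_comp]; rfl)
  haveI : IsLocalHom (algebraMap (S.presheaf.stalk (f (g y'))) (X.presheaf.stalk (g y'))) :=
    inferInstanceAs (IsLocalHom (f.stalkMap (g y')).hom)
  haveI : IsLocalHom (algebraMap (X.presheaf.stalk (g y')) (X'.presheaf.stalk y')) :=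
    inferInstanceAs (IsLocalHom (g.stalkMap y').hom)
  haveI : Module.Flat (X.presheaf.stalk (g y')) (X'.presheaf.stalk y') := Flat.stalkMap g y'
  have h := dim_le14110 (S.presheaf.stalk (f (g y'))) (X.presheaf.stalk (g y'))
    (X'.presheaf.stalk y')
  have e1 : ringKrullDim ↑(CInt.fiberStalk f (g y')) =
      ringKrullDim (X.presheaf.stalk (g y') ⧸ (maximalIdeal (S.presheaf.stalk (f (g y')))).map
        (algebraMap (S.presheaf.stalk (f (g y'))) (X.presheaf.stalk (g y')))) :=
    ringKrullDim_eq_of_ringEquiv ef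
  have e2 : ringKrullDim ↑(CInt.fiberStalk (g ≫ f) y') =
      ringKrullDim (X'.presheaf.stalk y' ⧸ (maximalIdeal (S.presheaf.stalk (f (g y')))).map
        (algebraMap (S.presheaf.stalk (f (g y'))) (X'.presheaf.stalk y'))) :=
    ringKrullDim_eq_of_ringEquiv egf
  rw [e1, e2]
  exact h

end Helpers

/-- Let f : X → S and g : X' → X be morphisms of locally Noetherian schemes with f a Cohen–Macaulay
morphism (flat, every local ring of every fibre a Cohen–Macaulay local ring) and g flat, Y a closed
subset of X and Y' its preimage under g. Then the codimension of Y relative to f (the infimum over y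
∈ Y of the Krull dimension of the local ring at y of the fibre of f through y) is at most the
codimension of Y' relative to the composite X' → S. -/
theorem result {X X' S : Scheme.{u}} [IsLocallyNoetherian X]
    [IsLocallyNoetherian X'] [IsLocallyNoetherian S] (f : X ⟶ S) [Flat f]
    (hCM : ∀ x : ↥X, LocCoh.IsCohenMacaulayLocalRing ↑(CInt.fiberStalk f x)) (g : X' ⟶ X) [Flat g]
    (Y : Set ↥X) (hY : IsClosed Y) :
    (⨅ y : Y, ringKrullDim ↑(CInt.fiberStalk f y.1)) ≤
      ⨅ y' : (fun x' => g x') ⁻¹' Y, ringKrullDim ↑(CInt.fiberStalk (g ≫ f) y'.1) := by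
  refine le_iInf fun y' => ?_
  exact (iInf_le (fun y : Y => ringKrullDim ↑(CInt.fiberStalk f y.1)) ⟨g y'.1, y'.2⟩).trans
    (main14110 f g y'.1)

end Groth.Agent.S14110
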