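import Groth.Statements.S14118
import Mathlib

set_option autoImplicit false
universe u v w
open SuperComm

namespace Groth.Agent.S14118

theorem sgn_add {R : Type*} [CommRing R] (x y : ℤ) :
    (-1 : R) ^ (x + y).natAbs = (-1) ^ x.natAbs * (-1) ^ y.natAbs := by
  rcases Int.even_or_odd x with hx | hx <;> rcases Int.even_or_odd y with hy | hy
  · rw [(Int.natAbs_even.mpr (hx.add hy)).neg_one_pow, (Int.natAbs_even.mpr hx).neg_one_pow,
      (Int.natAbs_even.mpr hy).neg_one_pow, one_mul]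
  · rw [(Int.natAbs_odd.mpr (hx.add_odd hy)).neg_one_pow, (Int.natAbs_even.mpr hx).neg_one_pow,
      (Int.natAbs_odd.mpr hy).neg_one_pow, one_mul]
  · rw [(Int.natAbs_odd.mpr (hx.add_even hy)).neg_one_pow, (Int.natAbs_odd.mpr hx).neg_one_pow,
      (Int.natAbs_even.mpr hy).neg_one_pow, mul_one]
  · rw [(Int.natAbs_even.mpr (hx.add_odd hy)).neg_one_pow, (Int.natAbs_odd.mpr hx).neg_one_pow,
      (Int.natAbs_odd.mpr hy).neg_one_pow, neg_mul_neg, one_mul]

theorem sgn_mul_neg {R : Type*} [CommRing R] (a : ℤ) :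
    (-1 : R) ^ (a * -a).natAbs = (-1) ^ a.natAbs := by
  rcases Int.even_or_odd a with ha | ha
  · rw [(Int.natAbs_even.mpr (ha.mul_right (-a))).neg_one_pow,
      (Int.natAbs_even.mpr ha).neg_one_pow]
  · rw [(Int.natAbs_odd.mpr (ha.mul ha.neg)).neg_one_pow, (Int.natAbs_odd.mpr ha).neg_one_pow]

theorem parity {R : Type*} [CommRing R] (di dj a b : ℤ) (h1 : di = dj + a) (h2 : dj = di + b) :
    (-1 : R) ^ di.natAbs = (-1) ^ (a * b).natAbs * (-1) ^ dj.natAbs := by
  have hb : b = -a := by omega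
  subst hb
  subst h1
  rw [sgn_add, sgn_mul_neg, mul_comm]

theorem final_sum {R : Type*} [CommRing R] {ι : Type*} [Fintype ι] (s : ι → R) (c : R)
    (t : ι → ι → R) (key2 : ∀ i j, s i * t i j = c * (s j * t i j)) :
    (∑ i, s i * ∑ j, t i j) - c * (∑ i, s i * ∑ j, t j i) = 0 := by
  have e1 : ∑ i, s i * ∑ j, t i j = ∑ i, ∑ j, c * (s j * t i j) := by
    refine Finset.sum_congr rfl (fun i _ => ?_)
    rw [Finset.mul_sum]
    exact Finset.sum_congr rfl (fun j _ => key2 i j)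
  have A : c * ∑ i, s i * ∑ j, t j i = ∑ i, ∑ j, c * (s i * t j i) := by
    rw [Finset.mul_sum]
    refine Finset.sum_congr rfl (fun i _ => ?_)
    rw [Finset.mul_sum, Finset.mul_sum]
  rw [e1, A, sub_eq_zero]
  exact Finset.sum_comm

theorem lemA {R : Type u} [CommRing R] {ι : Type v} [Fintype ι] [DecidableEq ι]
    (deg : ι → ℤ) (M : ι → Type w) [∀ i, AddCommGroup (M i)] [∀ i, Module R (M i)]
    [∀ i, Module.Free R (M i)] [∀ i, Module.Finite R (M i)]
    (χ : (Π k, M k) →ₗ[R] (Π k, M k)) :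
    LinearMap.trace R (Π k, M k)
      ((∑ i : ι, (LinearMap.single R M i) ∘ₗ (((-1 : R) ^ (deg i).natAbs) • (LinearMap.proj i : (Π k, M k) →ₗ[R] M i))) ∘ₗ χ)
    = ∑ i : ι, (-1 : R) ^ (deg i).natAbs *
        LinearMap.trace R (M i)
          ((LinearMap.proj i : (Π k, M k) →ₗ[R] M i) ∘ₗ χ ∘ₗ (LinearMap.single R M i)) := by
  have h0 : (∑ i : ι, (LinearMap.single R M i) ∘ₗ (((-1 : R) ^ (deg i).natAbs) • (LinearMap.proj i : (Π k, M k) →ₗ[R] M i))) ∘ₗ χ
      = ∑ i : ι, (LinearMap.single R M i) ∘ₗ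
          ((((-1 : R) ^ (deg i).natAbs) • (LinearMap.proj i : (Π k, M k) →ₗ[R] M i)) ∘ₗ χ) := by
    apply LinearMap.ext; intro x
    simp only [LinearMap.comp_apply, LinearMap.sum_apply]
  rw [h0, map_sum]
  refine Finset.sum_congr rfl (fun i _ => ?_)
  rw [LinearMap.trace_comp_comm', LinearMap.smul_comp, LinearMap.smul_comp, map_smul,
    smul_eq_mul, LinearMap.comp_assoc]

theorem lemB {R : Type u} [CommRing R] {ι : Type v} [Fintype ι] [DecidableEq ι]
    (M : ι → Type w) [∀ i, AddCommGroup (M i)] [∀ i, Module R (M i)]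
    [∀ i, Module.Free R (M i)] [∀ i, Module.Finite R (M i)]
    (φ ψ : (Π k, M k) →ₗ[R] (Π k, M k)) (i : ι) :
    LinearMap.trace R (M i)
      ((LinearMap.proj i : (Π k, M k) →ₗ[R] M i) ∘ₗ (φ ∘ₗ ψ) ∘ₗ (LinearMap.single R M i))
    = ∑ j : ι, LinearMap.trace R (M i)
        (((LinearMap.proj i : (Π k, M k) →ₗ[R] M i) ∘ₗ φ ∘ₗ (LinearMap.single R M j)) ∘ₗ
          ((LinearMap.proj j : (Π k, M k) →ₗ[R] M j) ∘ₗ ψ ∘ₗ (LinearMap.single R M i))) := by
  rw [← map_sum (LinearMap.trace R (M i))]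
  congr 1
  apply LinearMap.ext; intro x
  rw [LinearMap.sum_apply]
  simp only [LinearMap.comp_apply, LinearMap.proj_apply, LinearMap.coe_single]
  conv_lhs => rw [← Finset.univ_sum_single (ψ (Pi.single i x))]
  rw [map_sum, Finset.sum_apply]

/-- Let R be a commutative ring and M a finitely ℤ-graded R-module with finitely many nonzero graded
pieces, each finite free, presented as a finite family of finite free R-modules M_i with integer
degrees deg i (the piece of degree n being the product of the M_i with deg i = n); an endomorphism φ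
of the total module Π_i M_i has degree a when its (i, j) block vanishes unless deg j = deg i + a;
the supertrace of an endomorphism is the trace of its composite with the grading involution ε = Σ_i
(-1)^{deg i} pr_i. If φ and ψ have degrees a and b, the supertrace of the supercommutator φψ -
(-1)^{ab} ψφ vanishes. (The published statement allows the graded pieces to be finitely generated
projective; this row takes them finite free, where the trace is the ordinary trace of a free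
module.) -/
theorem result {R : Type u} [CommRing R] {ι : Type v} [Fintype ι] [DecidableEq ι]
    (deg : ι → ℤ) (M : ι → Type w) [∀ i, AddCommGroup (M i)] [∀ i, Module R (M i)]
    [∀ i, Module.Free R (M i)] [∀ i, Module.Finite R (M i)]
    (a b : ℤ) (φ ψ : (Π k, M k) →ₗ[R] (Π k, M k))
    (hφ : ∀ i j : ι, deg j ≠ deg i + a → (LinearMap.proj j) ∘ₗ φ ∘ₗ (LinearMap.single R M i) = 0)
    (hψ : ∀ i j : ι, deg j ≠ deg i + b → (LinearMap.proj j) ∘ₗ ψ ∘ₗ (LinearMap.single R M i) = 0) :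
    LinearMap.trace R (Π k, M k)
      ((∑ i : ι, (LinearMap.single R M i) ∘ₗ (((-1 : R) ^ (deg i).natAbs) • (LinearMap.proj i : (Π k, M k) →ₗ[R] M i))) ∘ₗ (φ ∘ₗ ψ - ((-1 : R) ^ (a * b).natAbs) • (ψ ∘ₗ φ))) = 0 := by
  rw [LinearMap.comp_sub, LinearMap.comp_smul, map_sub, map_smul, smul_eq_mul,
    lemA deg M (φ ∘ₗ ψ), lemA deg M (ψ ∘ₗ φ)]
  simp only [lemB M φ ψ, lemB M ψ φ]
  have key1 : ∀ i j : ι, LinearMap.trace R (M i)
        (((LinearMap.proj i : (Π k, M k) →ₗ[R] M i) ∘ₗ ψ ∘ₗ (LinearMap.single R M j)) ∘ₗ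
          ((LinearMap.proj j : (Π k, M k) →ₗ[R] M j) ∘ₗ φ ∘ₗ (LinearMap.single R M i)))
      = LinearMap.trace R (M j)
        (((LinearMap.proj j : (Π k, M k) →ₗ[R] M j) ∘ₗ φ ∘ₗ (LinearMap.single R M i)) ∘ₗ
          ((LinearMap.proj i : (Π k, M k) →ₗ[R] M i) ∘ₗ ψ ∘ₗ (LinearMap.single R M j))) :=
    fun i j => LinearMap.trace_comp_comm' _ _
  simp only [key1]
  have key2 : ∀ i j : ι, (-1 : R) ^ (deg i).natAbs * LinearMap.trace R (M i)
        (((LinearMap.proj i : (Π k, M k) →ₗ[R] M i) ∘ₗ φ ∘ₗ (LinearMap.single R M j)) ∘ₗ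
          ((LinearMap.proj j : (Π k, M k) →ₗ[R] M j) ∘ₗ ψ ∘ₗ (LinearMap.single R M i)))
      = (-1 : R) ^ (a * b).natAbs * ((-1 : R) ^ (deg j).natAbs * LinearMap.trace R (M i)
        (((LinearMap.proj i : (Π k, M k) →ₗ[R] M i) ∘ₗ φ ∘ₗ (LinearMap.single R M j)) ∘ₗ
          ((LinearMap.proj j : (Π k, M k) →ₗ[R] M j) ∘ₗ ψ ∘ₗ (LinearMap.single R M i)))) := by
    intro i j
    by_cases h1 : deg i = deg j + a
    · by_cases h2 : deg j = deg i + b
      · rw [parity (deg i) (deg j) a b h1 h2, mul_assoc]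
      · simp only [hψ i j h2, LinearMap.comp_zero, map_zero, mul_zero]
    · simp only [hφ j i h1, LinearMap.zero_comp, map_zero, mul_zero]
  exact final_sum (fun i => (-1 : R) ^ (deg i).natAbs) ((-1 : R) ^ (a * b).natAbs)
    (fun i j => LinearMap.trace R (M i)
        (((LinearMap.proj i : (Π k, M k) →ₗ[R] M i) ∘ₗ φ ∘ₗ (LinearMap.single R M j)) ∘ₗ
          ((LinearMap.proj j : (Π k, M k) →ₗ[R] M j) ∘ₗ ψ ∘ₗ (LinearMap.single R M i)))) key2

end Groth.Agent.S14118
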