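import Groth.Statements.S14175
import Mathlib.GroupTheory.OrderOfElement
import Mathlib.Tactic.Abel

set_option autoImplicit false
universe u v w
open GalCoh

namespace Groth.Agent.S14175

/-- Let G be a finite cyclic group generated by t, let m be a natural number dividing the order of G,
and let ρ be a linear representation of G on a module V over a commutative ring k such that m·V = 0
and every element of G whose m-th power is the identity acts trivially on V. Then evaluating a
crossed homomorphism at t induces a bijection from the first cohomology of G with values in V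
(crossed homomorphisms f, i.e. f(gh) = ρ(g)f(h) + f(g), modulo the principal ones g ↦ ρ(g)x − x)
onto the coinvariants V_G (the quotient of V by the span of all ρ(g)v − v): the class of f(t) in V_G
vanishes exactly when f is principal, and every class of V_G is the class of f(t) for some crossed
homomorphism f. The bijection depends on the choice of the generator t. -/
theorem result
    {k : Type u} {G : Type v} {V : Type w} [CommRing k] [Group G] [Finite G]
    [AddCommGroup V] [Module k V] (ρ : Representation k G V)
    (t : G) (ht : ∀ g : G, g ∈ Subgroup.zpowers t)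
    (m : ℕ) (hm : m ∣ Nat.card G) (htors : ∀ v : V, m • v = 0)
    (htriv : ∀ g : G, g ^ m = 1 → ∀ v : V, ρ g v = v) :
    (∀ f : G → V, (∀ g h : G, f (g * h) = ρ g (f h) + f g) →
        (Representation.Coinvariants.mk ρ (f t) = 0 ↔ ∃ x : V, ∀ g : G, f g = ρ g x - x)) ∧
    (∀ v : V, ∃ f : G → V, (∀ g h : G, f (g * h) = ρ g (f h) + f g) ∧
        Representation.Coinvariants.mk ρ (f t) = Representation.Coinvariants.mk ρ v) := by
  classical
  have hpow : ∀ g : G, ∃ k : ℕ, t ^ k = g := by
    intro g
    have h1 := ht g
    rw [← mem_powers_iff_mem_zpowers] at h1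
    exact (Submonoid.mem_powers_iff _ _).mp h1
  let S : ℕ → V → V := fun k v => ∑ i ∈ Finset.range k, ρ (t ^ i) v
  have S_zero : ∀ v, S 0 v = 0 := fun v => by simp [S]
  have S_succ : ∀ k v, S (k + 1) v = S k v + ρ (t ^ k) v := fun k v => by
    simp [S, Finset.sum_range_succ]
  have S_add : ∀ a b v, S (a + b) v = S a v + ρ (t ^ a) (S b v) := by
    intro a b v
    simp only [S]
    rw [Finset.sum_range_add, map_sum]
    congr 1
    apply Finset.sum_congr rfl
    intro i _
    rw [pow_add, map_mul]; rfl
  have tele : ∀ k v, ρ (t ^ k) v - v = ρ t (S k v) - S k v := by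
    intro k v
    induction k with
    | zero => simp [S_zero]
    | succ k ih =>
      have e : ρ t (S k v) = ρ (t ^ k) v - v + S k v := eq_add_of_sub_eq ih.symm
      have e2 : ρ (t ^ (k + 1)) v = ρ t (ρ (t ^ k) v) := by
        rw [pow_succ', map_mul]; rfl
      rw [S_succ, map_add, e, e2]
      abel
  refine ⟨fun f hf => ⟨fun h0 => ?_, fun ⟨x, hx⟩ => ?_⟩, fun v => ?_⟩
  · rw [Representation.Coinvariants.mk_eq_zero] at h0
    have hker : Representation.Coinvariants.ker ρ ≤ LinearMap.range (ρ t - LinearMap.id) := by
      apply Submodule.span_le.mpr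
      rintro _ ⟨⟨g, v⟩, rfl⟩
      obtain ⟨k, rfl⟩ := hpow g
      exact ⟨S k v, by
        simp only [LinearMap.sub_apply, LinearMap.id_apply]; exact (tele k v).symm⟩
    obtain ⟨x, hx⟩ := hker h0
    simp only [LinearMap.sub_apply, LinearMap.id_apply] at hx
    refine ⟨x, ?_⟩
    have f1 : f 1 = 0 := by
      have h1 := hf 1 1
      simp only [mul_one, map_one, Module.End.one_apply] at h1
      have : f 1 + 0 = f 1 + f 1 := by rw [add_zero]; exact h1
      exact (add_left_cancel this).symm
    intro g
    obtain ⟨k, rfl⟩ := hpow g
    induction k with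
    | zero => simp [f1]
    | succ k ih =>
      have e2 : ρ (t ^ k * t) x = ρ (t ^ k) (ρ t x) := by
        rw [map_mul]; rfl
      rw [pow_succ, hf, ih, ← hx, e2, map_sub]
      abel
  · rw [hx t]
    exact (Representation.Coinvariants.mk_eq_zero ρ).mpr
      (Representation.Coinvariants.sub_mem_ker t x)
  · have horder : orderOf t = Nat.card G := orderOf_eq_card_of_forall_mem_zpowers ht
    obtain ⟨n, hn⟩ := hm
    have tN : t ^ (m * n) = 1 := by rw [← hn]; exact pow_card_eq_one'
    have htn : ∀ (j : ℕ) (w : V), ρ (t ^ (n * j)) w = w := by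
      intro j w
      apply htriv
      calc (t ^ (n * j)) ^ m = (t ^ (m * n)) ^ j := by
            rw [← pow_mul, ← pow_mul]; congr 1; ring
        _ = 1 := by rw [tN, one_pow]
    have hSn : ∀ j : ℕ, S (n * j) v = j • S n v := by
      intro j
      induction j with
      | zero => simp [S_zero]
      | succ j ih => rw [mul_add, mul_one, S_add, ih, htn j (S n v), succ_nsmul]
    have hSN : S (m * n) v = 0 := by rw [mul_comm, hSn, htors]
    have hSNq : ∀ q : ℕ, S (m * n * q) v = 0 := by
      intro q
      induction q with
      | zero => simp [S_zero]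
      | succ q ih => rw [mul_add, mul_one, S_add, ih, hSN, map_zero, add_zero]
    have hSmod : ∀ a : ℕ, S a v = S (a % (m * n)) v := by
      intro a
      conv_lhs => rw [← Nat.div_add_mod a (m * n)]
      rw [S_add, hSNq, zero_add, pow_mul, tN, one_pow, map_one]; rfl
    have hSwd : ∀ a b : ℕ, t ^ a = t ^ b → S a v = S b v := by
      intro a b hab
      rw [hSmod a, hSmod b]
      have h1 : a ≡ b [MOD orderOf t] := pow_eq_pow_iff_modEq.mp hab
      rw [horder, hn] at h1
      rw [h1]
    choose kf hkf using hpow
    refine ⟨fun g => S (kf g) v, ?_, ?_⟩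
    · intro g h
      have h1 : S (kf (g * h)) v = S (kf g + kf h) v :=
        hSwd _ _ (by rw [hkf, pow_add, hkf, hkf])
      change S (kf (g * h)) v = ρ g (S (kf h) v) + S (kf g) v
      rw [h1, S_add, hkf, add_comm]
    · have h1 : S (kf t) v = S 1 v := hSwd _ _ (by rw [hkf, pow_one])
      change Representation.Coinvariants.mk ρ (S (kf t) v) = _
      rw [h1]
      simp [S]

end Groth.Agent.S14175
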