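import Groth.Statements.S14176
import Mathlib

set_option autoImplicit false
universe u
open Pi1

namespace Groth.Agent.S14176


theorem zn_pow (n : ℕ) (x : Multiplicative (ZMod n)) : x ^ n = 1 := by
  apply Multiplicative.toAdd.injective
  rw [toAdd_pow, toAdd_one, nsmul_eq_mul, ZMod.natCast_self, zero_mul]

theorem hasEnough (n : ℕ) [NeZero n] : HasEnoughRootsOfUnity (Multiplicative (ZMod n)) n where
  prim := ⟨Multiplicative.ofAdd 1, by
    have h := IsPrimitiveRoot.orderOf (Multiplicative.ofAdd (1 : ZMod n))
    rwa [orderOf_ofAdd_eq_addOrderOf, ZMod.addOrderOf_one] at h⟩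
  cyc := by
    haveI : IsCyclic (Multiplicative (ZMod n))ˣ :=
      isCyclic_of_surjective (toUnits (G := Multiplicative (ZMod n))) (toUnits.surjective)
    infer_instance


open W4c1etcurveeff2 in
/-- Let G be a topological group in which some finite subset generates a dense subgroup, let n ≥ 1, and
let S be the closure of the subgroup generated by all n-th powers and all commutators. Write D for
the group of continuous homomorphisms from G to the discrete cyclic group ℤ/n, that is,
homomorphisms with open kernel (the first cohomology of G with coefficients in the trivial module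
ℤ/n), and D^∨ for its ℤ/n-dual, the group of homomorphisms D → ℤ/n. Then: S is carried onto itself
by every group automorphism of G that is a homeomorphism; an element g of G lies in S exactly when
every element of D kills g, and every element of D^∨ is evaluation at some element of G, so that
evaluation identifies G/S with D^∨; and S is the only closed normal subgroup H of G with G/H
isomorphic to D^∨. (The published statement is for a topologically finitely generated group, calls S
characteristic and does not restrict the competing subgroups H; this row asks the automorphisms to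
be homeomorphisms and H to be closed, which is what the argument uses: for the integers with the
p-adic topology times a cyclic group of prime order q ≠ p, the subgroup qℤ × ℤ/q is normal, not
closed, and has quotient isomorphic to D^∨ ≅ ℤ/q, while S = ℤ × 0.) -/
theorem result
    {G : Type u} [Group G] [TopologicalSpace G] [IsTopologicalGroup G]
    (s : Finset G) (hs : Dense ((Subgroup.closure (s : Set G) : Subgroup G) : Set G))
    (n : ℕ) [NeZero n] (S : Subgroup G) (hS : S = powCommClosure G n) :
    (∀ φ : G ≃* G, Continuous φ → Continuous φ.symm → S.map φ.toMonoidHom = S) ∧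
    (∀ g : G, g ∈ S ↔
        ∀ χ : G →* Multiplicative (ZMod n), IsOpen ((χ.ker : Subgroup G) : Set G) → χ g = 1) ∧
    (∀ F : ContChar G n →* Multiplicative (ZMod n), ∃ g : G,
        ∀ χ : ContChar G n, F χ = (χ.1 : G →* Multiplicative (ZMod n)) g) ∧
    (∀ (H : Subgroup G) [H.Normal], IsClosed (H : Set G) →
        Nonempty (G ⧸ H ≃* (ContChar G n →* Multiplicative (ZMod n))) → H = S) := by
  classical
  subst hS
  -- notation
  set S₀ : Subgroup G := Subgroup.closure (Set.range fun g : G => g ^ n) ⊔ commutator G with hS₀
  have hSdef : powCommClosure G n = S₀.topologicalClosure := rfl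
  rw [hSdef]
  set S : Subgroup G := S₀.topologicalClosure with hSS
  have hS₀S : S₀ ≤ S := S₀.le_topologicalClosure
  have hSclosed : IsClosed (S : Set G) := S₀.isClosed_topologicalClosure
  have hS₀' : S₀ = Subgroup.closure (Set.range (fun g : G => g ^ n) ∪ commutatorSet G) := by
    rw [hS₀, Subgroup.closure_union, commutator_eq_closure]
  have hchar : ∀ φ : G ≃* G, S₀.map φ.toMonoidHom ≤ S₀ := by
    intro φ
    rw [hS₀', MonoidHom.map_closure]
    apply Subgroup.closure_mono
    rintro _ ⟨x, hx | ⟨a, b, rfl⟩, rfl⟩
    · obtain ⟨g, rfl⟩ := hx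
      left
      exact ⟨φ g, by simp⟩
    · right
      exact ⟨φ a, φ b, (map_commutatorElement φ.toMonoidHom a b).symm⟩
  haveI hS₀char : S₀.Characteristic := Subgroup.characteristic_iff_map_le.mpr hchar
  haveI hS₀n : S₀.Normal := inferInstance
  haveI hSn : S.Normal := S₀.is_normal_topologicalClosure
  have hpowS₀ : ∀ g : G, g ^ n ∈ S₀ := fun g =>
    Subgroup.mem_sup_left (Subgroup.subset_closure ⟨g, rfl⟩)
  -- kernels of characters contain S₀
  have hker : ∀ χ : G →* Multiplicative (ZMod n), S₀ ≤ χ.ker := by
    intro χ
    refine sup_le ?_ (Abelianization.commutator_subset_ker χ)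
    rw [Subgroup.closure_le]
    rintro _ ⟨g, rfl⟩
    simp only [SetLike.mem_coe, MonoidHom.mem_ker, map_pow]
    exact zn_pow n _
  have hkerS : ∀ χ : G →* Multiplicative (ZMod n), IsOpen ((χ.ker : Subgroup G) : Set G) →
      S ≤ χ.ker := fun χ hχ =>
    Subgroup.topologicalClosure_minimal S₀ (hker χ) (Subgroup.isClosed_of_isOpen _ hχ)
  -- the quotient
  haveI : IsClosed (S : Set G) := hSclosed
  have hcomm : IsMulCommutative (G ⧸ S) :=
    Subgroup.Normal.quotient_commutative_iff_commutator_le.mpr (le_trans le_sup_right hS₀S)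
  letI instC : CommGroup (G ⧸ S) :=
    { (inferInstance : Group (G ⧸ S)) with mul_comm := fun a b => hcomm.is_comm.comm a b }
  have hpowQ : ∀ q : G ⧸ S, q ^ n = 1 := by
    intro q
    induction q using QuotientGroup.induction_on with | _ g => ?_
    rw [← QuotientGroup.mk_pow, QuotientGroup.eq_one_iff]
    exact hS₀S (hpowS₀ g)
  have hfinQ : Finite (G ⧸ S) := by
    set Γ : Subgroup G := Subgroup.closure (s : Set G) with hΓ
    haveI : Group.FG Γ := (Group.fg_iff_subgroup_fg Γ).mpr ⟨s, rfl⟩
    let f : Γ →* G ⧸ S := (QuotientGroup.mk' S).comp Γ.subtype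
    haveI : Group.FG f.range := Group.fg_range f
    have htors : IsMulTorsion f.range := by
      intro x
      rw [isOfFinOrder_iff_pow_eq_one]
      refine ⟨n, Nat.pos_of_ne_zero (NeZero.ne n), ?_⟩
      apply Subtype.ext
      simpa using hpowQ x.1
    haveI : Finite f.range := CommGroup.finite_of_fg_isMulTorsion _ htors
    have hfin : (f.range : Set (G ⧸ S)).Finite := Set.toFinite _
    have hcl : IsClosed (f.range : Set (G ⧸ S)) := hfin.isClosed
    have hdense : Dense (f.range : Set (G ⧸ S)) := by
      have h1 : Dense ((QuotientGroup.mk : G → G ⧸ S) '' (Γ : Set G)) :=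
        (QuotientGroup.mk_surjective (s := S)).denseRange.dense_image QuotientGroup.continuous_mk hs
      convert h1 using 1
      ext q
      constructor
      · rintro ⟨⟨g, hg⟩, rfl⟩
        exact ⟨g, hg, rfl⟩
      · rintro ⟨g, hg, rfl⟩
        exact ⟨⟨g, hg⟩, rfl⟩
    have huniv : (f.range : Set (G ⧸ S)) = Set.univ := by
      rw [← hcl.closure_eq]
      exact hdense.closure_eq
    exact Set.finite_univ_iff.mp (huniv ▸ hfin)
  haveI : S.FiniteIndex := Subgroup.finiteIndex_of_finite_quotient
  have hSopen : IsOpen (S : Set G) := Subgroup.isOpen_of_isClosed_of_finiteIndex S hSclosed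
  have hexp : Monoid.exponent (G ⧸ S) ∣ n := Monoid.exponent_dvd_of_forall_pow_eq_one hpowQ
  haveI hE := hasEnough n
  have hER : HasEnoughRootsOfUnity (Multiplicative (ZMod n)) (Monoid.exponent (G ⧸ S)) :=
    HasEnoughRootsOfUnity.of_dvd (Multiplicative (ZMod n)) hexp
  -- characters pulled back from the quotient
  have hopen : ∀ ψ : (G ⧸ S) →* (Multiplicative (ZMod n))ˣ,
      IsOpen ((((Units.coeHom (Multiplicative (ZMod n))).comp
        (ψ.comp (QuotientGroup.mk' S))).ker : Subgroup G) : Set G) := by
    intro ψ
    refine Subgroup.isOpen_mono (H₁ := S) ?_ hSopen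
    intro x hx
    rw [MonoidHom.mem_ker]
    simp only [MonoidHom.comp_apply, QuotientGroup.mk'_apply]
    rw [(QuotientGroup.eq_one_iff x).mpr hx, map_one, map_one]
  -- separation
  have hsep : ∀ g : G, g ∉ S → ∃ χ : G →* Multiplicative (ZMod n),
      IsOpen ((χ.ker : Subgroup G) : Set G) ∧ χ g ≠ 1 := by
    intro g hg
    have hq : (QuotientGroup.mk g : G ⧸ S) ≠ 1 := by
      rwa [Ne, QuotientGroup.eq_one_iff]
    obtain ⟨ψ, hψ⟩ := CommGroup.exists_apply_ne_one_of_hasEnoughRootsOfUnity (G ⧸ S)
      (Multiplicative (ZMod n)) (hM := hER) hq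
    refine ⟨(Units.coeHom (Multiplicative (ZMod n))).comp (ψ.comp (QuotientGroup.mk' S)),
      hopen ψ, ?_⟩
    intro h
    apply hψ
    apply Units.ext
    simpa using h
  -- Part 2
  have part2 : ∀ g : G, g ∈ S ↔
      ∀ χ : G →* Multiplicative (ZMod n), IsOpen ((χ.ker : Subgroup G) : Set G) → χ g = 1 := by
    intro g
    constructor
    · intro hg χ hχ
      exact hkerS χ hχ hg
    · intro h
      by_contra hg
      obtain ⟨χ, hχ, hne⟩ := hsep g hg
      exact hne (h χ hχ)
  -- Part 3
  have part3 : ∀ F : ContChar G n →* Multiplicative (ZMod n), ∃ g : G,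
      ∀ χ : ContChar G n, F χ = (χ.1 : G →* Multiplicative (ZMod n)) g := by
    intro F
    let ι : ((G ⧸ S) →* (Multiplicative (ZMod n))ˣ) →* ContChar G n :=
      { toFun := fun ψ => ⟨(Units.coeHom (Multiplicative (ZMod n))).comp
          (ψ.comp (QuotientGroup.mk' S)), hopen ψ⟩
        map_one' := by
          apply Subtype.ext
          ext x
          simp
        map_mul' := fun a b => by
          apply Subtype.ext
          ext x
          simp }
    let F' : ((G ⧸ S) →* (Multiplicative (ZMod n))ˣ) →* (Multiplicative (ZMod n))ˣ :=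
      (toUnits (G := Multiplicative (ZMod n))).toMonoidHom.comp (F.comp ι)
    let q : G ⧸ S := @CommGroup.monoidHomMonoidHomEquiv (G ⧸ S) (Multiplicative (ZMod n)) _ _ _ hER F'
    have hq : ∀ ψ : (G ⧸ S) →* (Multiplicative (ZMod n))ˣ, ψ q = F' ψ := fun ψ =>
      @CommGroup.apply_monoidHomMonoidHomEquiv (G ⧸ S) (Multiplicative (ZMod n)) _ _ _ hER ψ F'
    obtain ⟨g, hg⟩ := QuotientGroup.mk_surjective q
    refine ⟨g, fun χ => ?_⟩
    have hle : S ≤ (χ.1 : G →* Multiplicative (ZMod n)).ker := hkerS χ.1 χ.2
    let ψ : (G ⧸ S) →* (Multiplicative (ZMod n))ˣ :=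
      (toUnits (G := Multiplicative (ZMod n))).toMonoidHom.comp (QuotientGroup.lift S χ.1 hle)
    have hιψ : ι ψ = χ := by
      apply Subtype.ext
      ext x
      simp [ι, ψ]
    have h1 : ((F' ψ : (Multiplicative (ZMod n))ˣ) : Multiplicative (ZMod n)) = F χ := by
      simp only [F', MonoidHom.comp_apply, MulEquiv.coe_toMonoidHom, val_toUnits_apply, hιψ]
    rw [← h1, ← hq ψ, ← hg]
    simp [ψ]
  -- evaluation homomorphism
  let ev : G →* (ContChar G n →* Multiplicative (ZMod n)) :=
    { toFun := fun g =>
        { toFun := fun χ => (χ.1 : G →* Multiplicative (ZMod n)) g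
          map_one' := rfl
          map_mul' := fun a b => rfl }
      map_one' := by
        ext χ
        simp
      map_mul' := fun a b => by
        ext χ
        simp }
  have hevker : ev.ker = S := by
    ext g
    rw [MonoidHom.mem_ker, part2 g]
    constructor
    · intro h χ hχ
      have := DFunLike.congr_fun h (⟨χ, hχ⟩ : ContChar G n)
      simpa [ev] using this
    · intro h
      ext χ
      simpa [ev] using h χ.1 χ.2
  have hevsurj : Function.Surjective ev := by
    intro F
    obtain ⟨g, hg⟩ := part3 F
    refine ⟨g, ?_⟩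
    ext χ
    simpa [ev] using (hg χ).symm
  have hindexS : S.index = Nat.card (ContChar G n →* Multiplicative (ZMod n)) := by
    rw [← hevker, Subgroup.index_eq_card]
    exact Nat.card_congr (QuotientGroup.quotientKerEquivOfSurjective ev hevsurj).toEquiv
  refine ⟨?_, part2, part3, ?_⟩
  · -- Part 1
    have hmapS : ∀ φ : G ≃* G, Continuous φ → S.map φ.toMonoidHom ≤ S := by
      intro φ hφ
      rintro _ ⟨x, hx, rfl⟩
      have hcoe : (S : Set G) = closure (S₀ : Set G) := Subgroup.topologicalClosure_coe
      have hx' : x ∈ closure (S₀ : Set G) := by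
        rw [← hcoe]
        exact hx
      have h2 : φ x ∈ closure (S₀ : Set G) :=
        map_mem_closure hφ hx' (fun y hy => hchar φ ⟨y, hy, rfl⟩)
      rw [← hcoe] at h2
      exact h2
    intro φ hφ hφs
    refine le_antisymm (hmapS φ hφ) ?_
    intro x hx
    exact ⟨φ.symm x, hmapS φ.symm hφs ⟨x, hx, rfl⟩, φ.apply_symm_apply x⟩
  · -- Part 4
    intro H hHn hHc ⟨e⟩
    let χH : G →* (ContChar G n →* Multiplicative (ZMod n)) :=
      e.toMonoidHom.comp (QuotientGroup.mk' H)
    have hχHker : χH.ker = H := by
      ext x
      rw [MonoidHom.mem_ker]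
      simp only [χH, MonoidHom.comp_apply, QuotientGroup.mk'_apply, MulEquiv.coe_toMonoidHom]
      rw [MulEquiv.map_eq_one_iff, QuotientGroup.eq_one_iff]
    have hS₀H : S₀ ≤ H := by
      rw [← hχHker]
      refine sup_le ?_ (Abelianization.commutator_subset_ker χH)
      rw [Subgroup.closure_le]
      rintro _ ⟨g, rfl⟩
      simp only [SetLike.mem_coe, MonoidHom.mem_ker, map_pow]
      ext χ
      simp only [MonoidHom.pow_apply, MonoidHom.one_apply]
      exact zn_pow n _
    have hSH : S ≤ H := Subgroup.topologicalClosure_minimal S₀ hS₀H hHc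
    have hindexH : H.index = Nat.card (ContChar G n →* Multiplicative (ZMod n)) := by
      rw [Subgroup.index_eq_card]
      exact Nat.card_congr e.toEquiv
    have hne : S.index ≠ 0 := Subgroup.FiniteIndex.index_ne_zero
    have hrel := Subgroup.relIndex_mul_index hSH
    rw [hindexH, ← hindexS] at hrel
    have hrel1 : S.relIndex H = 1 := by
      have : S.relIndex H * S.index = 1 * S.index := by rw [hrel, one_mul]
      exact Nat.eq_of_mul_eq_mul_right (Nat.pos_of_ne_zero hne) this
    exact le_antisymm (Subgroup.relIndex_eq_one.mp hrel1) hSH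

end Groth.Agent.S14176
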