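import Groth.Statements.S14178
import Mathlib

set_option autoImplicit false
universe u v w
open scoped nonZeroDivisors
open EtAlg

namespace Groth.Agent.S14178

open Polynomial IntermediateField

lemma le_one_of_pow_eq_one {A K : Type*} [CommRing A] [IsDomain A] [IsIntegrallyClosed A]
    [Field K] [Algebra A K] [IsFractionRing A K]
    (J : FractionalIdeal A⁰ K) (n : ℕ) (hn : 0 < n) (hJ : J ^ n = 1) : J ≤ 1 := by
  intro x hx
  have hxn : x ^ n ∈ J ^ n := by
    have : ∀ k, x ^ k ∈ J ^ k := by
      intro k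
      induction k with
      | zero => rw [pow_zero, pow_zero]; exact FractionalIdeal.one_mem_one _
      | succ k ih => rw [pow_succ, pow_succ]; exact FractionalIdeal.mul_mem_mul ih hx
    exact this n
  rw [hJ] at hxn
  obtain ⟨a, ha⟩ := (FractionalIdeal.mem_one_iff _).1 hxn
  have hint : IsIntegral A x := by
    refine ⟨X ^ n - C a, monic_X_pow_sub_C a hn.ne', ?_⟩
    simp [ha]
  obtain ⟨y, hy⟩ := IsIntegrallyClosed.algebraMap_eq_of_integral hint
  exact (FractionalIdeal.mem_one_iff _).2 ⟨y, hy⟩

lemma eq_one_of_pow_eq_one {A K : Type*} [CommRing A] [IsDomain A] [IsIntegrallyClosed A]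
    [Field K] [Algebra A K] [IsFractionRing A K]
    (J : (FractionalIdeal A⁰ K)ˣ) (n : ℕ) (hn : 0 < n) (hJ : J ^ n = 1) : J = 1 := by
  have h1 : (J : FractionalIdeal A⁰ K) ≤ 1 :=
    le_one_of_pow_eq_one _ n hn (by rw [← Units.val_pow_eq_pow_val, hJ]; rfl)
  have h2 : ((J⁻¹ : (FractionalIdeal A⁰ K)ˣ) : FractionalIdeal A⁰ K) ≤ 1 :=
    le_one_of_pow_eq_one _ n hn (by rw [← Units.val_pow_eq_pow_val, inv_pow, hJ]; simp)
  apply Units.ext
  apply le_antisymm h1
  calc (1 : FractionalIdeal A⁰ K) = (J : FractionalIdeal A⁰ K) * (J⁻¹ : (FractionalIdeal A⁰ K)ˣ) := by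
        rw [Units.mul_inv]
    _ ≤ (J : FractionalIdeal A⁰ K) * 1 := mul_le_mul_right h2 _
    _ = J := mul_one _

/-- Let A be a Dedekind domain with fraction field K, let n be a natural number invertible in A such
that K contains a primitive n-th root of unity, let f be a nonzero element of K and I an invertible
fractional ideal of A with (f) = I^n whose class in the ideal class group of A has order exactly n
(the divisor of f is n times a divisor whose class has order n), and let L = K(α) be a field
extension of K generated by a single element α with α^n = f. Then L is Galois over K of degree n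
with cyclic Galois group. (The published statement is for an integral smooth curve over a perfect
field containing a primitive n-th root of unity, with the Picard group of the curve in place of the
class group; this row states it for any Dedekind domain.) -/
theorem result
    {A : Type u} {K : Type v} {L : Type w} [CommRing A] [IsDedekindDomain A]
    [Field K] [Algebra A K] [IsFractionRing A K]
    [Field L] [Algebra K L]
    (n : ℕ) (hn : IsUnit (n : A)) (ζ : K) (hζ : IsPrimitiveRoot ζ n) (f : K) (hf : f ≠ 0)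
    (I : (FractionalIdeal A⁰ K)ˣ) (hI : FractionalIdeal.spanSingleton A⁰ f = (I : FractionalIdeal A⁰ K) ^ n)
    (hord : orderOf (ClassGroup.mk K I) = n)
    (α : L) (hα : α ^ n = algebraMap K L f) (hgen : IntermediateField.adjoin K {α} = ⊤) :
    IsGalois K L ∧ IsCyclic (L ≃ₐ[K] L) ∧ Module.finrank K L = n := by
  classical
  have hn0 : n ≠ 0 := by
    rintro rfl
    simp at hn
  have hnpos : 0 < n := Nat.pos_of_ne_zero hn0
  haveI : NeZero n := ⟨hn0⟩
  have hnK : (n : K) ≠ 0 := by
    have : IsUnit (algebraMap A K (n : A)) := hn.map _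
    rw [map_natCast] at this
    exact this.ne_zero
  have hp0 : (X ^ n - C f : K[X]) ≠ 0 := X_pow_sub_C_ne_zero hnpos f
  have hroot : aeval α (X ^ n - C f : K[X]) = 0 := by simp [hα]
  have hαint : IsIntegral K α :=
    ⟨X ^ n - C f, monic_X_pow_sub_C f hn0, by rw [← aeval_def]; exact hroot⟩
  have hζL : IsPrimitiveRoot (algebraMap K L ζ) n :=
    hζ.map_of_injective (algebraMap K L).injective
  haveI hsplit : IsSplittingField K L (X ^ n - C f : K[X]) := by
    constructor
    · rw [Polynomial.map_sub, Polynomial.map_pow, Polynomial.map_C, Polynomial.map_X]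
      exact X_pow_sub_C_splits_of_isPrimitiveRoot hζL hα
    · rw [eq_top_iff, ← IntermediateField.top_toSubalgebra, ← hgen,
        IntermediateField.adjoin_simple_toSubalgebra_of_isAlgebraic hαint.isAlgebraic]
      apply Algebra.adjoin_mono
      rw [Set.singleton_subset_iff, mem_rootSet_of_ne hp0]
      exact hroot
  haveI : FiniteDimensional K L :=
    Polynomial.IsSplittingField.finiteDimensional L (X ^ n - C f : K[X])
  have hsep : (X ^ n - C f : K[X]).Separable := separable_X_pow_sub_C f hnK hf
  haveI hgal : IsGalois K L := IsGalois.of_separable_splitting_field hsep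
  have hα0 : α ≠ 0 := by
    rintro rfl
    rw [zero_pow hn0] at hα
    exact hf ((map_eq_zero (algebraMap K L)).1 hα.symm)
  obtain ⟨dd, hdd⟩ : ∃ dd : ℕ, dd = Module.finrank K L := ⟨_, rfl⟩
  have hdpos : 0 < dd := by rw [hdd]; exact Module.finrank_pos
  have hfix : ∀ σ : L ≃ₐ[K] L, σ (α ^ dd) = α ^ dd := by
    intro σ
    have h1 : (σ α / α) ^ n = 1 := by
      rw [div_pow, ← map_pow, hα, σ.commutes, div_self]
      rw [← hα]; exact pow_ne_zero _ hα0
    obtain ⟨j, -, hj⟩ := hζL.eq_pow_of_pow_eq_one h1
    obtain ⟨η, hη⟩ : ∃ η : L, η = algebraMap K L (ζ ^ j) := ⟨_, rfl⟩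
    have hση : σ α = η * α := by
      rw [hη, map_pow, hj, div_mul_cancel₀ _ hα0]
    have hσηfix : σ η = η := by rw [hη]; exact σ.commutes _
    have hpow : ∀ k : ℕ, (σ ^ k) α = η ^ k * α := by
      intro k
      induction k with
      | zero => simp
      | succ k ih =>
        rw [pow_succ', AlgEquiv.mul_apply, ih, map_mul, map_pow, hσηfix, hση]
        ring
    have hcard : σ ^ dd = 1 := by
      rw [hdd, ← IsGalois.card_aut_eq_finrank (F := K) (E := L)]
      exact pow_card_eq_one'
    have hηd : η ^ dd = 1 := by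
      have := hpow dd
      rw [hcard, AlgEquiv.one_apply] at this
      have h2 : (η ^ dd - 1) * α = 0 := by rw [sub_mul, one_mul, ← this, sub_self]
      rcases mul_eq_zero.1 h2 with h | h
      · exact sub_eq_zero.1 h
      · exact absurd h hα0
    rw [map_pow, hση, mul_pow, hηd, one_mul]
  obtain ⟨c, hc⟩ : ∃ c : K, algebraMap K L c = α ^ dd := by
    have := (IsGalois.mem_bot_iff_fixed (F := K) (E := L) (α ^ dd)).2 hfix
    exact IntermediateField.mem_bot.1 this
  have hcn : c ^ n = f ^ dd := by
    apply (algebraMap K L).injective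
    rw [map_pow, map_pow, hc, ← hα, ← pow_mul, ← pow_mul, mul_comm]
  have hc0 : c ≠ 0 := by
    rintro rfl
    rw [map_zero] at hc
    exact pow_ne_zero _ hα0 hc.symm
  have hcI0 : FractionalIdeal.spanSingleton A⁰ c ≠ 0 :=
    FractionalIdeal.spanSingleton_ne_zero_iff.2 hc0
  obtain ⟨cI, hcIdef⟩ : ∃ cI : (FractionalIdeal A⁰ K)ˣ,
      (cI : FractionalIdeal A⁰ K) = FractionalIdeal.spanSingleton A⁰ c :=
    ⟨Units.mk0 _ hcI0, rfl⟩
  have hpowI : cI ^ n = (I ^ dd) ^ n := by
    apply Units.ext
    rw [Units.val_pow_eq_pow_val, Units.val_pow_eq_pow_val, Units.val_pow_eq_pow_val, hcIdef,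
      FractionalIdeal.spanSingleton_pow, hcn, ← FractionalIdeal.spanSingleton_pow, hI, ← pow_mul,
      ← pow_mul, mul_comm]
  have hJ : (cI * (I ^ dd)⁻¹) ^ n = 1 := by
    rw [mul_pow, inv_pow, hpowI, mul_inv_cancel]
  have hJ1 := eq_one_of_pow_eq_one (cI * (I ^ dd)⁻¹) n hnpos hJ
  have hcI : cI = I ^ dd := by
    rw [mul_inv_eq_one] at hJ1; exact hJ1
  have hprinc : ClassGroup.mk K (I ^ dd) = 1 := by
    rw [← hcI, ClassGroup.mk_eq_one_iff, hcIdef]
    exact ⟨⟨c, FractionalIdeal.coe_spanSingleton _ _⟩⟩
  have hdvd : n ∣ dd := by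
    rw [← hord]
    apply orderOf_dvd_of_pow_eq_one
    rw [← map_pow]; exact hprinc
  have hle : dd ≤ n := by
    have h1 : Module.finrank K K⟮α⟯ = (minpoly K α).natDegree :=
      IntermediateField.adjoin.finrank hαint
    rw [hgen, IntermediateField.finrank_top'] at h1
    rw [hdd, h1]
    have := natDegree_le_of_dvd (minpoly.dvd K α hroot) hp0
    rwa [natDegree_X_pow_sub_C] at this
  have hdn : dd = n := le_antisymm hle (Nat.le_of_dvd hdpos hdvd)
  have hfr : Module.finrank K L = n := by rw [← hdd, hdn]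
  refine ⟨hgal, ?_, hfr⟩
  have hirr : Irreducible (X ^ n - C f : K[X]) := by
    have := irreducible_X_pow_sub_C_of_root_adjoin_eq_top (K := K) (L := L) (a := f) (α := α)
      (by rw [hfr]; exact hα) hgen
    rwa [hfr] at this
  have hprim : (primitiveRoots n K).Nonempty := ⟨ζ, (mem_primitiveRoots hnpos).2 hζ⟩
  exact isCyclic_of_isSplittingField_X_pow_sub_C (a := f) hprim hirr L

end Groth.Agent.S14178
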