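import Groth.Statements.S14181
import Mathlib

set_option autoImplicit false
universe u
open CategoryTheory
open GalCoh

namespace Groth.Agent.S14181


open groupCohomology Rep CategoryTheory

section Aux
variable {k G : Type u} [CommRing k] [Group G] (A : Rep.{u} k G) (P : Subgroup G) [P.Normal]
  [Fintype P]

/-- multiplication by `|P|` as a linear equivalence -/
noncomputable def eP (hP : Function.Bijective fun a : A => (Nat.card P : k) • a) : A ≃ₗ[k] A :=
  LinearEquiv.ofBijective (LinearMap.lsmul k A (Nat.card P : k)) hP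

theorem eP_apply (hP : Function.Bijective fun a : A => (Nat.card P : k) • a) (a : A) :
    eP A P hP a = (Nat.card P : k) • a := rfl

theorem eP_symm_rho (hP : Function.Bijective fun a : A => (Nat.card P : k) • a) (g : G) (a : A) :
    (eP A P hP).symm (A.ρ g a) = A.ρ g ((eP A P hP).symm a) := by
  apply (eP A P hP).injective
  rw [LinearEquiv.apply_symm_apply, eP_apply, ← map_smul, ← eP_apply A P hP,
    LinearEquiv.apply_symm_apply]

noncomputable def sig (x : cocycles₁ A) : A := ∑ q : P, x (q : G)

theorem coe_add' (x x' : cocycles₁ A) (g : G) : (x + x') g = x g + x' g := rfl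
theorem coe_smul' (c : k) (x : cocycles₁ A) (g : G) : (c • x) g = c • x g := rfl

theorem sig_add (x x' : cocycles₁ A) : sig A P (x + x') = sig A P x + sig A P x' := by
  unfold sig
  rw [← Finset.sum_add_distrib]
  exact Finset.sum_congr rfl fun q _ => coe_add' A x x' q

theorem sig_smul (c : k) (x : cocycles₁ A) : sig A P (c • x) = c • sig A P x := by
  unfold sig
  rw [Finset.smul_sum]
  exact Finset.sum_congr rfl fun q _ => coe_smul' A c x q

theorem card_smul_apply (x : cocycles₁ A) (p : P) :
    (Nat.card P : k) • x (p : G) = sig A P x - A.ρ (p : G) (sig A P x) := by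
  have h1 := (mem_cocycles₁_iff x).1 x.2
  have hsum : ∑ q : P, x ((p * q : P) : G) = sig A P x :=
    Equiv.sum_comp (Equiv.mulLeft p) (fun q : P => x (q : G))
  have hexp : ∑ q : P, x ((p * q : P) : G) =
      A.ρ (p : G) (sig A P x) + (Nat.card P : k) • x (p : G) := by
    unfold sig
    rw [map_sum, Nat.card_eq_fintype_card]
    have hq : ∀ q : P, x ((p * q : P) : G) = A.ρ (p : G) (x (q : G)) + x (p : G) := fun q => by
      rw [Subgroup.coe_mul, h1]
    rw [Finset.sum_congr rfl (fun q _ => hq q), Finset.sum_add_distrib, Finset.sum_const,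
      Finset.card_univ, Nat.cast_smul_eq_nsmul]
  calc (Nat.card P : k) • x (p : G)
      = (A.ρ (p : G) (sig A P x) + (Nat.card P : k) • x (p : G)) - A.ρ (p : G) (sig A P x) := by
        abel
    _ = sig A P x - A.ρ (p : G) (sig A P x) := by rw [← hexp, hsum]

noncomputable def yv (hP : Function.Bijective fun a : A => (Nat.card P : k) • a)
    (x : cocycles₁ A) : A := -(eP A P hP).symm (sig A P x)

theorem yv_add (hP : Function.Bijective fun a : A => (Nat.card P : k) • a) (x x' : cocycles₁ A) :
    yv A P hP (x + x') = yv A P hP x + yv A P hP x' := by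
  unfold yv
  rw [sig_add, map_add, neg_add]

theorem yv_smul (hP : Function.Bijective fun a : A => (Nat.card P : k) • a) (c : k)
    (x : cocycles₁ A) : yv A P hP (c • x) = c • yv A P hP x := by
  unfold yv
  rw [sig_smul, map_smul, smul_neg]

theorem apply_of_mem (hP : Function.Bijective fun a : A => (Nat.card P : k) • a)
    (x : cocycles₁ A) (s : G) (hs : s ∈ P) :
    x s = A.ρ s (yv A P hP x) - yv A P hP x := by
  have h : (Nat.card P : k) • x s = sig A P x - A.ρ s (sig A P x) :=
    card_smul_apply A P x ⟨s, hs⟩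
  have h' : x s = (eP A P hP).symm (sig A P x - A.ρ s (sig A P x)) := by
    rw [← h, ← eP_apply A P hP, LinearEquiv.symm_apply_apply]
  rw [h', map_sub, eP_symm_rho, yv, map_neg]
  abel

theorem inv_aux (x : cocycles₁ A) (y : A) (h2 : ∀ s ∈ P, x s = A.ρ s y - y) (g : G) (s : G)
    (hs : s ∈ P) : A.ρ s (x g - A.ρ g y + y) = x g - A.ρ g y + y := by
  have h1 := (mem_cocycles₁_iff x).1 x.2
  have hs' : g⁻¹ * s * g ∈ P := Subgroup.Normal.conj_mem' ‹_› s hs g
  have e1 : x (s * g) = A.ρ s (x g) + x s := h1 s g
  have e2 : x (s * g) = A.ρ g (x (g⁻¹ * s * g)) + x g := by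
    have h := h1 g (g⁻¹ * s * g)
    rwa [show g * (g⁻¹ * s * g) = s * g by group] at h
  have e3 := h2 _ hs'
  have e4 := h2 s hs
  have e5 : A.ρ g (A.ρ (g⁻¹ * s * g) y) = A.ρ s (A.ρ g y) := by
    rw [← Module.End.mul_apply, ← map_mul, ← Module.End.mul_apply, ← map_mul,
      show g * (g⁻¹ * s * g) = s * g by group]
  have e6 : A.ρ s (x g) = A.ρ g (x (g⁻¹ * s * g)) + x g - x s := by
    rw [← e2, e1]
    abel
  rw [map_add, map_sub, e6, e3, e4, map_sub, e5]
  abel

theorem wd_aux (x : cocycles₁ A) (y : A) (h2 : ∀ s ∈ P, x s = A.ρ s y - y) (g h : G)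
    (hmem : g⁻¹ * h ∈ P) : x g - A.ρ g y + y = x h - A.ρ h y + y := by
  have h1 := (mem_cocycles₁_iff x).1 x.2
  have e1 : x h = A.ρ g (x (g⁻¹ * h)) + x g := by
    have h' := h1 g (g⁻¹ * h)
    rwa [mul_inv_cancel_left] at h'
  have e2 : A.ρ g (A.ρ (g⁻¹ * h) y) = A.ρ h y := by
    rw [← Module.End.mul_apply, ← map_mul, mul_inv_cancel_left]
  rw [e1, h2 _ hmem, map_sub, e2]
  abel

/-- the underlying function of the descended cocycle -/
noncomputable def liftFun (x : cocycles₁ A) (y : A) (h2 : ∀ s ∈ P, x s = A.ρ s y - y) :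
    G ⧸ P → (A.quotientToInvariants P) := fun g =>
  Quotient.liftOn' g
    (fun g => (⟨x g - A.ρ g y + y, fun s => inv_aux A P x y h2 g s.1 s.2⟩ :
      Representation.invariants (A.ρ.comp P.subtype)))
    (fun g h hgh => Subtype.ext (wd_aux A P x y h2 g h (QuotientGroup.leftRel_apply.1 hgh)))

theorem liftFun_mk (x : cocycles₁ A) (y : A) (h2 : ∀ s ∈ P, x s = A.ρ s y - y) (g : G) :
    ((liftFun A P x y h2 (g : G ⧸ P) : Representation.invariants (A.ρ.comp P.subtype)) : A) =
      x g - A.ρ g y + y := rfl

theorem liftFun_mem (x : cocycles₁ A) (y : A) (h2 : ∀ s ∈ P, x s = A.ρ s y - y) :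
    liftFun A P x y h2 ∈ cocycles₁ (A.quotientToInvariants P) := by
  have h1 := (mem_cocycles₁_iff x).1 x.2
  rw [mem_cocycles₁_iff]
  intro g h
  induction g using QuotientGroup.induction_on with | @H g =>
  induction h using QuotientGroup.induction_on with | @H h =>
  apply Subtype.ext
  rw [← QuotientGroup.mk_mul]
  show x (g * h) - A.ρ (g * h) y + y = A.ρ g (x h - A.ρ h y + y) + (x g - A.ρ g y + y)
  rw [h1 g h, map_mul, Module.End.mul_apply, map_add, map_sub]
  abel

noncomputable def liftCocycle (x : cocycles₁ A) (y : A) (h2 : ∀ s ∈ P, x s = A.ρ s y - y) :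
    cocycles₁ (A.quotientToInvariants P) := ⟨liftFun A P x y h2, liftFun_mem A P x y h2⟩

theorem liftCocycle_mk (x : cocycles₁ A) (y : A) (h2 : ∀ s ∈ P, x s = A.ρ s y - y) (g : G) :
    ((liftCocycle A P x y h2 (g : G ⧸ P) : Representation.invariants (A.ρ.comp P.subtype)) : A) =
      x g - A.ρ g y + y := rfl

noncomputable def Lmap (hP : Function.Bijective fun a : A => (Nat.card P : k) • a) :
    cocycles₁ A →ₗ[k] cocycles₁ (A.quotientToInvariants P) where
  toFun x := liftCocycle A P x (yv A P hP x) (apply_of_mem A P hP x)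
  map_add' x x' := by
    apply cocycles₁_ext
    intro g
    induction g using QuotientGroup.induction_on with | @H g =>
    apply Subtype.ext
    show (x + x') g - A.ρ g (yv A P hP (x + x')) + yv A P hP (x + x') =
      (x g - A.ρ g (yv A P hP x) + yv A P hP x) + (x' g - A.ρ g (yv A P hP x') + yv A P hP x')
    rw [yv_add, map_add, coe_add']
    abel
  map_smul' c x := by
    apply cocycles₁_ext
    intro g
    induction g using QuotientGroup.induction_on with | @H g =>
    apply Subtype.ext
    show (c • x) g - A.ρ g (yv A P hP (c • x)) + yv A P hP (c • x) =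
      c • (x g - A.ρ g (yv A P hP x) + yv A P hP x)
    rw [yv_smul, map_smul, coe_smul', smul_add, smul_sub]

theorem Lmap_apply_mk (hP : Function.Bijective fun a : A => (Nat.card P : k) • a)
    (x : cocycles₁ A) (g : G) :
    ((Lmap A P hP x (g : G ⧸ P) : Representation.invariants (A.ρ.comp P.subtype)) : A) =
      x g - A.ρ g (yv A P hP x) + yv A P hP x := rfl

end Aux


/-- Let G be a group with a finite normal subgroup P, k a commutative ring and A a k-linear
representation of G such that multiplication by the order of P is a bijection of A. Then the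
inflation map on 1-cocycles (crossed homomorphisms) Z¹(G/P, A^P) → Z¹(G, A) has a k-linear left
inverse. (The published statement is for the inertia group of a Galois cover of smooth curves at a
point, its normal Sylow p-subgroup P and a module of n-torsion with n prime to p; the argument uses
only that the order of P acts invertibly, which is the hypothesis taken here.) -/
theorem result
    {k G : Type u} [CommRing k] [Group G] (A : Rep.{u} k G) (P : Subgroup G) [P.Normal] [Finite P]
    (hP : Function.Bijective fun a : A => (Nat.card P : k) • a) :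
    ∃ r : ModuleCat.of k (groupCohomology.cocycles₁ A) ⟶
        ModuleCat.of k (groupCohomology.cocycles₁ (A.quotientToInvariants P)),
      (groupCohomology.mapCocycles₁ (QuotientGroup.mk' P) (Rep.ofHom (A.ρ.quotientToInvariants_lift P)) :
          ModuleCat.of k (groupCohomology.cocycles₁ (A.quotientToInvariants P)) ⟶
            ModuleCat.of k (groupCohomology.cocycles₁ A)) ≫ r = 𝟙 _ := by
  classical
  haveI : Fintype P := Fintype.ofFinite P
  refine ⟨ModuleCat.ofHom (Lmap A P hP), ?_⟩
  refine ModuleCat.hom_ext (LinearMap.ext fun z => ?_)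
  rw [ModuleCat.hom_comp, ModuleCat.hom_ofHom, ModuleCat.hom_id, LinearMap.comp_apply,
    LinearMap.id_apply]
  obtain ⟨w, hw0⟩ : ∃ w : groupCohomology.cocycles₁ A, w =
      (groupCohomology.mapCocycles₁ (QuotientGroup.mk' P)
        (Rep.ofHom (A.ρ.quotientToInvariants_lift P))).hom z := ⟨_, rfl⟩
  rw [← hw0]
  have hw : ∀ g : G, w g = ((z (g : G ⧸ P) : Representation.invariants (A.ρ.comp P.subtype)) : A) := by
    intro g
    rw [hw0]
    rfl
  have hsig : sig A P w = 0 := by
    unfold sig
    apply Finset.sum_eq_zero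
    intro q _
    rw [hw, (QuotientGroup.eq_one_iff q.1).2 q.2, groupCohomology.cocycles₁_map_one]
    rfl
  have hy : yv A P hP w = 0 := by
    unfold yv
    rw [hsig, map_zero, neg_zero]
  apply groupCohomology.cocycles₁_ext
  intro g
  induction g using QuotientGroup.induction_on with | @H g =>
  apply Subtype.ext
  rw [Lmap_apply_mk, hy, map_zero, sub_zero, add_zero, hw]

end Groth.Agent.S14181
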