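import Mathlib
import Groth.Statements.S14188
-- import your own Groth.Agent.* helpers here

set_option autoImplicit false
universe u
open CategoryTheory CategoryTheory.Limits AlgebraicGeometry
open FlatMor

namespace Groth.Agent.S14188


theorem qc_gen (T : Scheme.{u}) [IsIntegral T] : QuasiCompact (T.fromSpecStalk (genericPoint T)) := by
  haveI : Subsingleton ↥(Spec (T.presheaf.stalk (genericPoint T))) := by
    constructor
    intro a b
    apply (T.fromSpecStalk (genericPoint T)).isEmbedding.injective
    have key : ∀ c, (T.fromSpecStalk (genericPoint T)).base c = genericPoint T := by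
      intro c
      have hc : (T.fromSpecStalk (genericPoint T)).base c ∈
          Set.range (T.fromSpecStalk (genericPoint T)).base := ⟨c, rfl⟩
      rw [Scheme.range_fromSpecStalk] at hc
      exact (hc.antisymm ((genericPoint_spec T).specializes (Set.mem_univ _))).eq
    rw [key a, key b]
  constructor
  intro U _ _
  exact (Set.toFinite _).isCompact

theorem dom_gen (T : Scheme.{u}) [IsIntegral T] : IsDominant (T.fromSpecStalk (genericPoint T)) := by
  constructor
  rw [DenseRange, Scheme.range_fromSpecStalk, dense_iff_closure_eq]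
  apply Set.eq_univ_of_univ_subset
  have h1 : closure {genericPoint T} = (Set.univ : Set T) := (genericPoint_spec T).def
  rw [← h1]
  apply closure_mono
  rw [Set.singleton_subset_iff]
  exact specializes_rfl

/-- Let T be an integral scheme with generic point η, let Y and Z be schemes flat over T with Z
separated over T, and let ψ : Y_η → Z be a T-morphism from the generic fibre Y_η = Y ×_T Spec
O_{T,η} (equivalently, an η-morphism Y_η → Z_η). Let gr : Y_η → Y ×_T Z be the graph of ψ, the
morphism whose components are the projection Y_η → Y and ψ, and let Γ ⊆ Y ×_T Z be the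
scheme-theoretic image of gr (the schematic closure of the graph). Then ψ extends to a T-morphism φ
: Y → Z, meaning that the composite Y_η → Y → Z is ψ, if and only if the composite of the inclusion
Γ → Y ×_T Z with the first projection is an isomorphism Γ ≅ Y. -/
theorem result (T Y Z : Scheme.{u}) [IsIntegral T]
    (pY : Y ⟶ T) (pZ : Z ⟶ T) [Flat pY] [Flat pZ] [IsSeparated pZ]
    (ψ : pullback pY (T.fromSpecStalk (genericPoint T)) ⟶ Z)
    (hψ : ψ ≫ pZ = pullback.fst pY (T.fromSpecStalk (genericPoint T)) ≫ pY)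
    (gr : pullback pY (T.fromSpecStalk (genericPoint T)) ⟶ pullback pY pZ)
    (hgr₁ : gr ≫ pullback.fst pY pZ = pullback.fst pY (T.fromSpecStalk (genericPoint T)))
    (hgr₂ : gr ≫ pullback.snd pY pZ = ψ) :
    (∃ φ : Y ⟶ Z, φ ≫ pZ = pY ∧ pullback.fst pY (T.fromSpecStalk (genericPoint T)) ≫ φ = ψ) ↔
      IsIso (gr.imageι ≫ pullback.fst pY pZ) := by
  haveI := qc_gen T
  haveI := dom_gen T
  haveI : IsSchemeTheoreticallyDominant (T.fromSpecStalk (genericPoint T)) :=
    IsSchemeTheoreticallyDominant.of_isDominant _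
  obtain ⟨j, hj⟩ : ∃ j, j = pullback.fst pY (T.fromSpecStalk (genericPoint T)) := ⟨_, rfl⟩
  rw [← hj] at hgr₁ hψ
  haveI : IsSchemeTheoreticallyDominant j := by rw [hj]; infer_instance
  constructor
  · rintro ⟨φ, hφ, hjφ⟩
    obtain ⟨γ, hγ⟩ : ∃ γ : Y ⟶ pullback pY pZ, γ = pullback.lift (𝟙 Y) φ (by rw [Category.id_comp, hφ]) :=
      ⟨_, rfl⟩
    have hγ1 : γ ≫ pullback.fst pY pZ = 𝟙 Y := by rw [hγ, pullback.lift_fst]
    have hγ2 : γ ≫ pullback.snd pY pZ = φ := by rw [hγ, pullback.lift_snd]
    haveI : IsClosedImmersion (γ ≫ pullback.fst pY pZ) := by rw [hγ1]; infer_instance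
    haveI : IsClosedImmersion γ := IsClosedImmersion.of_comp γ (pullback.fst pY pZ)
    have hgrγ : gr = j ≫ γ := by
      apply pullback.hom_ext
      · rw [hgr₁, Category.assoc, hγ1, Category.comp_id]
      · rw [hgr₂, Category.assoc, hγ2, hj, hjφ]
    have hker : gr.ker = γ.ker := by
      rw [hgrγ, Scheme.Hom.ker_comp, Scheme.Hom.ker_eq_bot, Scheme.IdealSheafData.map_bot]
    have hιker : gr.imageι.ker = gr.ker := Scheme.IdealSheafData.ker_subschemeι _
    obtain ⟨s, hs⟩ : ∃ s, s ≫ gr.imageι = γ :=
      ⟨IsClosedImmersion.lift gr.imageι γ (by rw [hιker, hker]), IsClosedImmersion.lift_fac _ _ _⟩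
    obtain ⟨t, ht⟩ : ∃ t, t ≫ γ = gr.imageι :=
      ⟨IsClosedImmersion.lift γ gr.imageι (by rw [hιker, hker]), IsClosedImmersion.lift_fac _ _ _⟩
    have ht' : gr.imageι ≫ pullback.fst pY pZ = t := by
      rw [← ht, Category.assoc, hγ1, Category.comp_id]
    refine ⟨⟨s, ?_, ?_⟩⟩
    · rw [← cancel_mono gr.imageι, Category.assoc, Category.assoc, hs, ← Category.assoc, ht', ht,
        Category.id_comp]
    · rw [← Category.assoc, hs, hγ1]
  · intro hiso
    refine ⟨inv (gr.imageι ≫ pullback.fst pY pZ) ≫ gr.imageι ≫ pullback.snd pY pZ, ?_, ?_⟩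
    · rw [Category.assoc, Category.assoc, ← pullback.condition, ← Category.assoc gr.imageι,
        IsIso.inv_hom_id_assoc]
    · have h1 : j = gr.toImage ≫ (gr.imageι ≫ pullback.fst pY pZ) := by
        rw [← Category.assoc, gr.toImage_imageι, hgr₁]
      rw [← hj, h1, Category.assoc, IsIso.hom_inv_id_assoc, ← Category.assoc, gr.toImage_imageι, hgr₂]

end Groth.Agent.S14188
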