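import Mathlib
import Groth.Statements.S18063
import Groth.Agent.Lib.Helper9.NeronProd
-- import your own Groth.Agent.* helpers here

set_option autoImplicit false
universe u
open CategoryTheory MonoidalCategory CartesianMonoidalCategory MonObj GrpObj AlgebraicGeometry CategoryTheory.Limits
open AlgGrp

namespace Groth.Agent.S18063


open Groth.Agent.Helper9.NeronProd (pb_map_fst)

theorem map_comm {S S' : Scheme.{u}} (ψ : S' ⟶ S) (G : Over S) [GrpObj G]
    [hc : IsCommMonObj (Red.bc ψ G)] :
    (Over.pullback ψ).map ((β_ G G).hom ≫ μ[G]) = (Over.pullback ψ).map μ[G] := by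
  have h := hc.mul_comm
  have hμ : μ[Red.bc ψ G] =
      Functor.LaxMonoidal.μ (Over.pullback ψ) G G ≫ (Over.pullback ψ).map μ[G] := rfl
  rw [hμ, ← Category.assoc, ← Functor.LaxBraided.braided, Category.assoc, ← Functor.map_comp] at h
  exact (cancel_epi _).mp h

theorem comm_bc {S S' : Scheme.{u}} (ψ : S' ⟶ S) (G : Over S) [GrpObj G] [IsCommMonObj G] :
    IsCommMonObj (Red.bc ψ G) := by
  exact Functor.isCommMonObj_obj (F := Over.pullback ψ)

/-- Two morphisms to a separated `S`-scheme agreeing after a schematically dominant morphism
are equal. -/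
theorem eq_of_std {A W Y S : Scheme.{u}} (pY : Y ⟶ S) [IsSeparated pY] (a b : A ⟶ Y)
    (hab : a ≫ pY = b ≫ pY) (j : W ⟶ A) [IsSchemeTheoreticallyDominant j]
    (h : j ≫ a = j ≫ b) : a = b := by
  obtain ⟨k, hk⟩ : ∃ k, k = pullback.snd (pullback.diagonal pY) (pullback.lift a b hab) := ⟨_, rfl⟩
  haveI : IsClosedImmersion k := by rw [hk]; infer_instance
  have hcond : (j ≫ a) ≫ pullback.diagonal pY = j ≫ pullback.lift a b hab := by
    apply pullback.hom_ext
    · rw [Category.assoc, pullback.diagonal_fst, Category.comp_id, Category.assoc,
        pullback.lift_fst]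
    · rw [Category.assoc, pullback.diagonal_snd, Category.comp_id, Category.assoc,
        pullback.lift_snd, h]
  obtain ⟨l, hl⟩ : ∃ l, l ≫ k = j :=
    ⟨pullback.lift (j ≫ a) j hcond, by rw [hk]; exact pullback.lift_snd _ _ _⟩
  haveI : IsIso k := by
    rw [IsClosedImmersion.isIso_iff_ker_eq_bot, ← le_bot_iff]
    calc k.ker ≤ (l ≫ k).ker := Scheme.Hom.le_ker_comp _ _
      _ = j.ker := by rw [hl]
      _ = ⊥ := Scheme.Hom.ker_eq_bot j
  have hsq : pullback.fst (pullback.diagonal pY) (pullback.lift a b hab) ≫ pullback.diagonal pY =
      k ≫ pullback.lift a b hab := by rw [hk]; exact pullback.condition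
  have h1 : k ≫ a = pullback.fst (pullback.diagonal pY) (pullback.lift a b hab) := by
    have := congrArg (fun t => t ≫ pullback.fst pY pY) hsq
    simp only [Category.assoc, pullback.diagonal_fst, Category.comp_id, pullback.lift_fst] at this
    exact this.symm
  have h2 : k ≫ b = pullback.fst (pullback.diagonal pY) (pullback.lift a b hab) := by
    have := congrArg (fun t => t ≫ pullback.snd pY pY) hsq
    simp only [Category.assoc, pullback.diagonal_snd, Category.comp_id, pullback.lift_snd] at this
    exact this.symm
  rw [← cancel_epi k, h1, h2]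

theorem comm_of_generic {S S' : Scheme.{u}} (ψ : S' ⟶ S) [IsSchemeTheoreticallyDominant ψ]
    [QuasiCompact ψ] (G : Over S) [GrpObj G] [Flat G.hom] [IsSeparated G.hom]
    [IsCommMonObj (Red.bc ψ G)] : IsCommMonObj G := by
  haveI hflGG : Flat (G ⊗ G).hom := by
    show Flat (pullback.fst G.hom G.hom ≫ G.hom)
    infer_instance
  haveI : IsSchemeTheoreticallyDominant (pullback.fst (G ⊗ G).hom ψ) := inferInstance
  constructor
  apply Over.OverMorphism.ext
  apply eq_of_std G.hom _ _ ?_ (pullback.fst (G ⊗ G).hom ψ)
  · have h := congrArg (fun t => Over.Hom.left t ≫ pullback.fst G.hom ψ) (map_comm ψ G)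
    simp only [pb_map_fst] at h
    exact h
  · rw [Over.w, Over.w]

/-- A is a discrete valuation ring, K denotes its field of fractions and k its residue field, and G is
an A-group scheme that is flat, separated and of finite presentation. If the generic fibre G_K is
commutative, then the special fibre G_k is commutative. (The published statement does not require G
separated over A, and its proof argues by density of the generic fibre; without separatedness the
conclusion fails: gluing copies of Spec A indexed by a finite non-abelian group along their common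
generic point gives a flat group scheme of finite presentation over A whose generic fibre is the
trivial group and whose special fibre is that non-abelian constant group. So G is taken separated
here.) -/
theorem result (A : Type u) [CommRing A] [IsDomain A] [IsDiscreteValuationRing A]
    (K : Type u) [Field K] [Algebra A K] [IsFractionRing A K]
    (G : Over (Spec (CommRingCat.of A))) [GrpObj G] [Flat G.hom] [LocallyOfFinitePresentation G.hom] [QuasiCompact G.hom]
    [IsSeparated G.hom] [IsCommMonObj (Red.bc (Spec.map (CommRingCat.ofHom (algebraMap A K))) G)] :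
    IsCommMonObj (Red.bc (Spec.map (CommRingCat.ofHom (algebraMap A (IsLocalRing.ResidueField A)))) G) := by
  haveI hdom : IsDominant (Spec.map (CommRingCat.ofHom (algebraMap A K))) := by
    constructor
    have hinj : Function.Injective (algebraMap A K) := IsFractionRing.injective A K
    refine (PrimeSpectrum.denseRange_comap_iff_ker_le_nilRadical (f := algebraMap A K)).mpr ?_
    rw [(RingHom.injective_iff_ker_eq_bot _).mp hinj]
    exact bot_le
  haveI : IsSchemeTheoreticallyDominant (Spec.map (CommRingCat.ofHom (algebraMap A K))) :=
    IsSchemeTheoreticallyDominant.of_isDominant _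
  haveI hG : IsCommMonObj G :=
    comm_of_generic (Spec.map (CommRingCat.ofHom (algebraMap A K))) G
  exact comm_bc _ G

end Groth.Agent.S18063
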