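import Mathlib
import Groth.Statements.S14189
import Groth.Agent.S14188
import Groth.Agent.S18063
-- import your own Groth.Agent.* helpers here

set_option autoImplicit false
universe u
open CategoryTheory CategoryTheory.Limits AlgebraicGeometry
open FlatMor

namespace Groth.Agent.S14189


open Groth.Agent.S18063 (eq_of_std)

/-- Let T be an integral scheme with generic point η, let Y and Z be schemes flat over T with Z
separated over T, and let ψ : Y_η → Z be a T-morphism from the generic fibre Y_η = Y ×_T Spec
O_{T,η}. Let g : T' → T be flat, surjective and quasi-compact, and let φ' : Y_{T'} → Z_{T'} be a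
T'-morphism which agrees with ψ over T' ×_T η, in the sense that on Y_{T'} ×_Y Y_η = Y ×_T T' ×_T
Spec O_{T,η} the composite of the first projection with φ' and with Z_{T'} → Z equals the composite
of the second projection with ψ. Then ψ extends to a T-morphism φ : Y → Z, one whose composite with
Y_η → Y is ψ. (The published statement is an equivalence and also records that an extension, when it
exists, is unique; the converse direction, that an extension over T base-changes to such a φ' over
any such T', is immediate, and this row states the existence direction only.) -/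
theorem result (T Y Z T' : Scheme.{u}) [IsIntegral T]
    (pY : Y ⟶ T) (pZ : Z ⟶ T) [Flat pY] [Flat pZ] [IsSeparated pZ]
    (ψ : pullback pY (T.fromSpecStalk (genericPoint T)) ⟶ Z)
    (hψ : ψ ≫ pZ = pullback.fst pY (T.fromSpecStalk (genericPoint T)) ≫ pY)
    (g : T' ⟶ T) [Flat g] [Surjective g] [QuasiCompact g]
    (φ' : pullback pY g ⟶ pullback pZ g) (hφ' : φ' ≫ pullback.snd pZ g = pullback.snd pY g)
    (hagree : pullback.fst (pullback.fst pY g) (pullback.fst pY (T.fromSpecStalk (genericPoint T))) ≫ φ' ≫ pullback.fst pZ g =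
      pullback.snd (pullback.fst pY g) (pullback.fst pY (T.fromSpecStalk (genericPoint T))) ≫ ψ) :
    ∃ φ : Y ⟶ Z, φ ≫ pZ = pY ∧ pullback.fst pY (T.fromSpecStalk (genericPoint T)) ≫ φ = ψ := by
  haveI := Groth.Agent.S14188.qc_gen T
  haveI := Groth.Agent.S14188.dom_gen T
  haveI : IsSchemeTheoreticallyDominant (T.fromSpecStalk (genericPoint T)) :=
    IsSchemeTheoreticallyDominant.of_isDominant _
  obtain ⟨π, hπ⟩ : ∃ π, π = pullback.fst pY g := ⟨_, rfl⟩
  obtain ⟨j, hj⟩ : ∃ j, j = pullback.fst pY (T.fromSpecStalk (genericPoint T)) := ⟨_, rfl⟩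
  obtain ⟨a', ha'⟩ : ∃ a', a' = φ' ≫ pullback.fst pZ g := ⟨_, rfl⟩
  rw [← hj] at hψ
  rw [← hπ, ← hj, ← ha'] at hagree
  haveI : Flat π := by rw [hπ]; infer_instance
  haveI : Surjective π := by rw [hπ]; infer_instance
  haveI : QuasiCompact π := by rw [hπ]; infer_instance
  have ha'Z : a' ≫ pZ = π ≫ pY := by
    rw [ha', Category.assoc, pullback.condition, ← Category.assoc, hφ', hπ, pullback.condition]
  -- the two pullbacks agree
  have hdesc : pullback.fst π π ≫ a' = pullback.snd π π ≫ a' := by
    obtain ⟨q'', hq''⟩ : ∃ q'', q'' = pullback.fst π π ≫ π ≫ pY := ⟨_, rfl⟩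
    haveI : Flat q'' := by rw [hq'']; infer_instance
    haveI : IsSchemeTheoreticallyDominant (pullback.fst q'' (T.fromSpecStalk (genericPoint T))) := inferInstance
    have hcn : (pullback.fst q'' (T.fromSpecStalk (genericPoint T)) ≫ pullback.fst π π ≫ π) ≫ pY = pullback.snd q'' (T.fromSpecStalk (genericPoint T)) ≫ (T.fromSpecStalk (genericPoint T)) := by
      rw [← pullback.condition, hq'']
      simp only [Category.assoc]
    obtain ⟨n, hn⟩ : ∃ n : pullback q'' (T.fromSpecStalk (genericPoint T)) ⟶ pullback pY (T.fromSpecStalk (genericPoint T)),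
        n ≫ j = pullback.fst q'' (T.fromSpecStalk (genericPoint T)) ≫ pullback.fst π π ≫ π :=
      ⟨pullback.lift _ _ hcn, by rw [hj]; exact pullback.lift_fst _ _ _⟩
    have h1 : pullback.fst q'' (T.fromSpecStalk (genericPoint T)) ≫ pullback.fst π π ≫ a' = n ≫ ψ := by
      have e1 : pullback.lift (pullback.fst q'' (T.fromSpecStalk (genericPoint T)) ≫ pullback.fst π π) n
          (by rw [Category.assoc, hn]) ≫ pullback.fst π j =
          pullback.fst q'' (T.fromSpecStalk (genericPoint T)) ≫ pullback.fst π π := pullback.lift_fst _ _ _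
      have e2 : pullback.lift (pullback.fst q'' (T.fromSpecStalk (genericPoint T)) ≫ pullback.fst π π) n
          (by rw [Category.assoc, hn]) ≫ pullback.snd π j = n := pullback.lift_snd _ _ _
      rw [← Category.assoc, ← e1, Category.assoc, hagree, ← Category.assoc, e2]
    have h2 : pullback.fst q'' (T.fromSpecStalk (genericPoint T)) ≫ pullback.snd π π ≫ a' = n ≫ ψ := by
      have hc : (pullback.fst q'' (T.fromSpecStalk (genericPoint T)) ≫ pullback.snd π π) ≫ π = n ≫ j := by
        rw [Category.assoc, ← pullback.condition, hn]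
      have e1 : pullback.lift (pullback.fst q'' (T.fromSpecStalk (genericPoint T)) ≫ pullback.snd π π) n hc ≫ pullback.fst π j =
          pullback.fst q'' (T.fromSpecStalk (genericPoint T)) ≫ pullback.snd π π := pullback.lift_fst _ _ _
      have e2 : pullback.lift (pullback.fst q'' (T.fromSpecStalk (genericPoint T)) ≫ pullback.snd π π) n hc ≫ pullback.snd π j =
          n := pullback.lift_snd _ _ _
      rw [← Category.assoc, ← e1, Category.assoc, hagree, ← Category.assoc, e2]
    apply eq_of_std pZ _ _ ?_ (pullback.fst q'' (T.fromSpecStalk (genericPoint T)))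
    · rw [h1, h2]
    · rw [Category.assoc, Category.assoc, ha'Z, ← Category.assoc, pullback.condition,
        Category.assoc]
  have hcond : ∀ {W : Scheme.{u}} (g₁ g₂ : W ⟶ pullback pY g), g₁ ≫ π = g₂ ≫ π →
      g₁ ≫ a' = g₂ ≫ a' := by
    intro W g₁ g₂ h12
    have e1 : pullback.lift g₁ g₂ h12 ≫ pullback.fst π π = g₁ := pullback.lift_fst _ _ _
    have e2 : pullback.lift g₁ g₂ h12 ≫ pullback.snd π π = g₂ := pullback.lift_snd _ _ _
    rw [← e1, Category.assoc, hdesc, ← Category.assoc, e2]
  refine ⟨EffectiveEpi.desc π a' hcond, ?_, ?_⟩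
  · rw [← cancel_epi π, ← Category.assoc, EffectiveEpi.fac, ha'Z]
  · haveI : Flat (pullback.snd π j) := inferInstance
    haveI : Surjective (pullback.snd π j) := inferInstance
    haveI : QuasiCompact (pullback.snd π j) := inferInstance
    rw [← hj, ← cancel_epi (pullback.snd π j), ← hagree, ← Category.assoc, ← pullback.condition,
      Category.assoc, EffectiveEpi.fac]

end Groth.Agent.S14189
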