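import Groth.Statements.S14192
import Mathlib
import Groth.Agent.Lib.Helper8.ZetaFormal

set_option autoImplicit false
open PowerSeries
open StackCount

namespace Groth.Agent.S14192

open Groth.Agent.Helper8.ZetaFormal Groth.Agent.Helper8

/-- Let R = Σ_n r_n X^n be a Laurent polynomial with integer coefficients and q > 1 an integer. In the
ring of formal power series in t over ℚ, the exponential of Σ_{v ≥ 1} R(q^v) t^v / v equals the
finite product Π_n (1 - q^n t)^(-r_n). Stated here with denominators cleared: the exponential series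
multiplied by Π_{n : r_n > 0} (1 - q^n t)^(r_n) equals Π_{n : r_n < 0} (1 - q^n t)^(-r_n) (each
factor 1 - q^n t is a unit, so this is equivalent). -/
theorem result (R : LaurentPolynomial ℤ) (q : ℤ) (hq : 1 < q) :
    (PowerSeries.exp ℚ).subst
        (PowerSeries.mk fun v : ℕ => if v = 0 then (0 : ℚ)
          else (R.coeff.sum fun (n : ℤ) (r : ℤ) => (r : ℚ) * (q : ℚ) ^ (n * (v : ℤ))) / (v : ℚ))
      * ∏ n ∈ R.coeff.support, (1 - PowerSeries.C ((q : ℚ) ^ n) * PowerSeries.X) ^ (R.coeff n).toNat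
    = ∏ n ∈ R.coeff.support, (1 - PowerSeries.C ((q : ℚ) ^ n) * PowerSeries.X) ^ (-(R.coeff n)).toNat := by
  classical
  set S := R.coeff.support with hS
  set c : ℤ → ℚ := fun n => (q : ℚ) ^ n with hc
  set f : ℤ → PowerSeries ℚ := fun n => 1 - PowerSeries.C (c n) * PowerSeries.X with hf
  set L : ℤ → PowerSeries ℚ :=
    fun n => PowerSeries.C (-(c n)) * PowerSeries.mk (fun k => (c n) ^ k) with hL
  have hfL : ∀ n, derivative ℚ (f n) = L n * f n := fun n => derivative_one_sub_C_mul_X (c n)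
  set g : PowerSeries ℚ := PowerSeries.mk fun v : ℕ => if v = 0 then (0 : ℚ)
      else (R.coeff.sum fun (n : ℤ) (r : ℤ) => (r : ℚ) * (q : ℚ) ^ (n * (v : ℤ))) / (v : ℚ) with hg
  have hg0 : constantCoeff g = 0 := by
    rw [← coeff_zero_eq_constantCoeff_apply, hg, coeff_mk]; simp
  have hE := derivative_exp_subst hg0
  have hkey : derivative ℚ g + ∑ n ∈ S, ((R.coeff n).toNat : PowerSeries ℚ) * L n
      = ∑ n ∈ S, ((-(R.coeff n)).toNat : PowerSeries ℚ) * L n := by
    ext v
    have hcoefL : ∀ (k : ℕ) (n : ℤ),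
        coeff v ((k : PowerSeries ℚ) * L n) = (k : ℚ) * (-(c n) * (c n) ^ v) := by
      intro k n
      rw [← map_natCast (PowerSeries.C (R := ℚ)), coeff_C_mul, hL]
      simp only [coeff_C_mul, coeff_mk]
    rw [map_add, map_sum, map_sum, coeff_derivative, hg, coeff_mk, if_neg (Nat.succ_ne_zero v)]
    simp only [hcoefL]
    have hv : ((v + 1 : ℕ) : ℚ) ≠ 0 := by positivity
    rw [show ((v : ℚ) + 1) = ((v + 1 : ℕ) : ℚ) by push_cast; ring, div_mul_cancel₀ _ hv,
      Finsupp.sum, ← Finset.sum_add_distrib]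
    refine Finset.sum_congr rfl fun n _ => ?_
    have h3 : ((R.coeff n : ℤ) : ℚ) = ((R.coeff n).toNat : ℚ) - ((-(R.coeff n)).toNat : ℚ) := by
      exact_mod_cast (Int.toNat_sub_toNat_neg (R.coeff n)).symm
    have h4 : (q : ℚ) ^ (n * ((v + 1 : ℕ) : ℤ)) = c n * c n ^ v := by
      rw [zpow_mul, zpow_natCast, pow_succ']
    rw [h4]
    conv_lhs => rw [h3]
    ring
  set a : PowerSeries ℚ := ∑ n ∈ S, ((-(R.coeff n)).toNat : PowerSeries ℚ) * L n with ha
  have hy : derivative ℚ (subst g (exp ℚ) * ∏ n ∈ S, f n ^ (R.coeff n).toNat) =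
      a * (subst g (exp ℚ) * ∏ n ∈ S, f n ^ (R.coeff n).toNat) := by
    rw [ld_mul hE (ld_prod S (fun n => f n ^ (R.coeff n).toNat)
      (fun n => ((R.coeff n).toNat : PowerSeries ℚ) * L n) (fun n _ => ld_pow (hfL n) _)), hkey]
  have hz : derivative ℚ (∏ n ∈ S, f n ^ (-(R.coeff n)).toNat) =
      a * ∏ n ∈ S, f n ^ (-(R.coeff n)).toNat :=
    ld_prod S (fun n => f n ^ (-(R.coeff n)).toNat)
      (fun n => ((-(R.coeff n)).toNat : PowerSeries ℚ) * L n) (fun n _ => ld_pow (hfL n) _)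
  have hf0 : ∀ n, constantCoeff (f n) = 1 := by
    intro n; simp [hf]
  refine CharpolyRevTrace.ode_unique a _ _ hy hz ?_
  rw [coeff_zero_eq_constantCoeff_apply, coeff_zero_eq_constantCoeff_apply, map_mul, map_prod,
    map_prod, constantCoeff_exp_subst hg0]
  simp [hf0]

end Groth.Agent.S14192
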