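import Groth.Statements.S14229
import Mathlib
import Groth.Agent.Lib.Helper24.RootChC

set_option autoImplicit false
universe u v w x
open RootCh RootCh.Facet

namespace Groth.Agent.S14229

/-- For a finite reduced crystallographic root system over a linearly ordered field and a facet F, the
linear subspace spanned by the vectors of F (its affine support, F being a cone) is the span of the
corners of F. -/
theorem result {ι : Type u} {R : Type v} {M : Type w} {N : Type x}
    [Field R] [LinearOrder R] [IsStrictOrderedRing R]
    [AddCommGroup M] [Module R M] [AddCommGroup N] [Module R N] [Finite ι]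
    (P : RootPairing ι R M N) [P.IsRootSystem] [P.IsCrystallographic] [P.IsReduced] (F : RootCh.Facet P) :
    Submodule.span R F.carrier = Submodule.span R F.corners := by
  open RootCh Groth.Agent.Helper24.RC in
  obtain ⟨ξ, b, hξF, hξ, -⟩ := exists_mem_cham F
  have hξF' : sgnVec P ξ = F.sgn := hξF
  rw [corners_eq_image b F hξF hξ]
  apply le_antisymm
  · rw [Submodule.span_le]
    intro η hη
    have hη' : sgnVec P η = sgnVec P ξ := (hη : sgnVec P η = F.sgn).trans hξF'.symm
    obtain ⟨hηc, hηs⟩ := mem_closedChamber_of_sgnVec_eq b hξ hη'
    rw [SetLike.mem_coe, expand_fund b η]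
    refine Submodule.sum_mem _ fun i _ => ?_
    by_cases hi : 0 < P.toLinearMap η (P.coroot i)
    · exact Submodule.smul_mem _ _ (Submodule.subset_span ⟨i, (hηs i).mp hi, rfl⟩)
    · have : P.toLinearMap η (P.coroot i) = 0 := le_antisymm (not_lt.mp hi) (hηc i i.2)
      rw [this, zero_smul]; exact Submodule.zero_mem _
  · rw [Submodule.span_le]
    rintro _ ⟨i, hi, rfl⟩
    have h1 : ξ + fundWeight b i ∈ F.carrier := by
      show sgnVec P (ξ + fundWeight b i) = F.sgn
      rw [← hξF']
      apply sgnVec_eq_of_pos_iff b (add_mem_closedChamber b hξ (fundWeight_mem_closedChamber b i)) hξ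
      intro l
      rw [pos_add_fundWeight_iff b hξ]
      constructor
      · rintro (h | h)
        · rw [h]; exact hi
        · exact h
      · intro h; exact Or.inr h
    have := Submodule.sub_mem _ (Submodule.subset_span (s := F.carrier) (R := R) h1)
      (Submodule.subset_span hξF)
    simpa using this

end Groth.Agent.S14229
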