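import Groth.Statements.S14230
import Mathlib
import Groth.Agent.Lib.Helper24.RootChC

set_option autoImplicit false
universe u v w x
open RootCh RootCh.Facet

namespace Groth.Agent.S14230

/-- For a finite reduced crystallographic root system over a linearly ordered field and a facet F, the
vectors of F are exactly the linear combinations of the corners of F in which every corner of F
occurs with a strictly positive coefficient (written with a finitely supported coefficient function
supported inside the set of corners). -/
theorem result {ι : Type u} {R : Type v} {M : Type w} {N : Type x}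
    [Field R] [LinearOrder R] [IsStrictOrderedRing R]
    [AddCommGroup M] [Module R M] [AddCommGroup N] [Module R N] [Finite ι]
    (P : RootPairing ι R M N) [P.IsRootSystem] [P.IsCrystallographic] [P.IsReduced] (F : RootCh.Facet P) :
    F.carrier = {ξ : M | ∃ c : M →₀ R, (c.support : Set M) ⊆ F.corners ∧
      (∀ m ∈ F.corners, 0 < c m) ∧ c.sum (fun m r => r • m) = ξ} := by
  open RootCh Groth.Agent.Helper24.RC in
  classical
  obtain ⟨ξ, b, hξF, hξ, -⟩ := exists_mem_cham F
  have hξF' : sgnVec P ξ = F.sgn := hξF
  have hcor := corners_eq_image b F hξF hξ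
  ext η
  constructor
  · intro hη
    have hη' : sgnVec P η = sgnVec P ξ := (hη : sgnVec P η = F.sgn).trans hξF'.symm
    obtain ⟨hηc, hηs⟩ := mem_closedChamber_of_sgnVec_eq b hξ hη'
    let f : b.support →₀ R :=
      Finsupp.equivFunOnFinite.symm (fun l => P.toLinearMap η (P.coroot l))
    have hf : ∀ l, f l = P.toLinearMap η (P.coroot l) := fun l => rfl
    refine ⟨Finsupp.mapDomain (fundWeight b) f, ?_, ?_, ?_⟩
    · intro m hm
      have hm' := Finsupp.mapDomain_support (Finset.mem_coe.mp hm)
      obtain ⟨l, hl, rfl⟩ := Finset.mem_image.mp hm'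
      rw [hcor]
      refine ⟨l, ?_, rfl⟩
      rw [Finsupp.mem_support_iff, hf] at hl
      exact (hηs l).mp (lt_of_le_of_ne (hηc l l.2) (Ne.symm hl))
    · intro m hm
      rw [hcor] at hm
      obtain ⟨l, hl, rfl⟩ := hm
      rw [Finsupp.mapDomain_apply (fundWeight_injective b), hf]
      exact (hηs l).mpr hl
    · rw [Finsupp.sum_mapDomain_index (h := fun (m : M) (r : R) => r • m) (fun _ => zero_smul _ _)
        (fun _ _ _ => add_smul _ _ _),
        Finsupp.sum_fintype f (fun (a : b.support) (m : R) => m • fundWeight b a)
          (fun _ => zero_smul _ _)]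
      exact (expand_fund b η).symm
  · rintro ⟨c, hcs, hcp, rfl⟩
    have key : ∀ l : b.support,
        P.toLinearMap (c.sum fun m r => r • m) (P.coroot l) = c (fundWeight b l) := by
      intro l
      rw [Finsupp.sum, map_sum, LinearMap.sum_apply, Finset.sum_eq_single (fundWeight b l)]
      · rw [map_smul, LinearMap.smul_apply, pair_fundWeight_coroot_self, smul_eq_mul, mul_one]
      · intro m hm hne
        have hm' := hcs (Finset.mem_coe.mpr hm)
        rw [hcor] at hm'
        obtain ⟨k, _, rfl⟩ := hm'
        have hkl : l ≠ k := fun h => hne (by rw [h])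
        rw [map_smul, LinearMap.smul_apply, pair_fundWeight_coroot_ne b hkl, smul_zero]
      · intro h
        rw [Finsupp.notMem_support_iff.mp h, zero_smul, map_zero, LinearMap.zero_apply]
    have hmem : ∀ l : b.support, 0 < P.toLinearMap ξ (P.coroot l) → 0 < c (fundWeight b l) :=
      fun l hl => hcp _ (by rw [hcor]; exact ⟨l, hl, rfl⟩)
    have hnmem : ∀ l : b.support, ¬ 0 < P.toLinearMap ξ (P.coroot l) → c (fundWeight b l) = 0 := by
      intro l hl
      by_contra hne
      have h1 : fundWeight b l ∈ (c.support : Set M) :=
        Finset.mem_coe.mpr (Finsupp.mem_support_iff.mpr hne)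
      have h2 := hcs h1
      rw [hcor] at h2
      obtain ⟨k, hk, hkl⟩ := h2
      rw [fundWeight_injective b hkl] at hk
      exact hl hk
    have hηc : (c.sum fun m r => r • m) ∈ closedChamber b := by
      intro l hl
      show 0 ≤ P.toLinearMap (c.sum fun m r => r • m) (P.coroot l)
      have := key ⟨l, hl⟩
      simp only at this
      rw [this]
      by_cases h : 0 < P.toLinearMap ξ (P.coroot l)
      · exact (hmem ⟨l, hl⟩ h).le
      · rw [hnmem ⟨l, hl⟩ h]
    show sgnVec P (c.sum fun m r => r • m) = F.sgn
    rw [← hξF']
    apply sgnVec_eq_of_pos_iff b hηc hξ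
    intro l
    rw [key l]
    constructor
    · intro h
      by_contra hl
      rw [hnmem l hl] at h
      exact lt_irrefl _ h
    · exact hmem l

end Groth.Agent.S14230
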