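import Groth.Statements.S14232
import Mathlib
import Groth.Agent.Lib.Helper24.RootChC

set_option autoImplicit false
universe u v w x
open RootCh RootCh.Facet

namespace Groth.Agent.S14232

/-- For a finite reduced crystallographic root system over a linearly ordered field, a facet F and a
corner m of some Weyl chamber whose closure contains F, there is a facet whose corners are exactly
the corners of F together with m. -/
theorem result {ι : Type u} {R : Type v} {M : Type w} {N : Type x}
    [Field R] [LinearOrder R] [IsStrictOrderedRing R]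
    [AddCommGroup M] [Module R M] [AddCommGroup N] [Module R N] [Finite ι]
    (P : RootPairing ι R M N) [P.IsRootSystem] [P.IsCrystallographic] [P.IsReduced] (F : RootCh.Facet P) (m : M) (hm : m ∈ F.corners') :
    ∃ G : RootCh.Facet P, G.corners = insert m F.corners := by
  open RootCh Groth.Agent.Helper24.RC in
  classical
  obtain ⟨b, hb, hmb⟩ := Set.mem_iUnion₂.mp hm
  obtain ⟨⟨b', i', rfl⟩, hcl⟩ := hmb
  obtain ⟨k, hk⟩ := exists_fundWeight_eq_of_mem_closedChamber b b' i' hcl
  obtain ⟨ξ, hξF⟩ := F.exists_sgnVec_eq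
  have hξ : ξ ∈ closedChamber b := hb hξF
  have hξk : ξ + fundWeight b k ∈ closedChamber b :=
    add_mem_closedChamber b hξ (fundWeight_mem_closedChamber b k)
  refine ⟨Facet.ofVec P (ξ + fundWeight b k), ?_⟩
  rw [corners_eq_image b (Facet.ofVec P (ξ + fundWeight b k)) (ξ := ξ + fundWeight b k) rfl hξk,
    corners_eq_image b F hξF hξ, ← hk]
  ext w
  simp only [Set.mem_image, Set.mem_setOf_eq, Set.mem_insert_iff]
  constructor
  · rintro ⟨l, hl, rfl⟩
    rcases (pos_add_fundWeight_iff b hξ k l).mp hl with h | h
    · left; rw [h]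
    · right; exact ⟨l, h, rfl⟩
  · rintro (rfl | ⟨l, hl, rfl⟩)
    · exact ⟨k, (pos_add_fundWeight_iff b hξ k k).mpr (Or.inl rfl), rfl⟩
    · exact ⟨l, (pos_add_fundWeight_iff b hξ k l).mpr (Or.inr hl), rfl⟩

end Groth.Agent.S14232
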