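import Groth.Statements.S14233
import Mathlib
import Groth.Agent.Lib.Helper24.RootChC

set_option autoImplicit false
universe u v w x
open RootCh RootCh.Facet

namespace Groth.Agent.S14233

/-- For a finite reduced crystallographic root system over a linearly ordered field, a facet F and a
corner m of F, there is a facet whose corners are exactly the corners of F other than m. -/
theorem result {ι : Type u} {R : Type v} {M : Type w} {N : Type x}
    [Field R] [LinearOrder R] [IsStrictOrderedRing R]
    [AddCommGroup M] [Module R M] [AddCommGroup N] [Module R N] [Finite ι]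
    (P : RootPairing ι R M N) [P.IsRootSystem] [P.IsCrystallographic] [P.IsReduced] (F : RootCh.Facet P) (m : M) (hm : m ∈ F.corners) :
    ∃ G : RootCh.Facet P, G.corners = F.corners \ {m} := by
  open RootCh Groth.Agent.Helper24.RC in
  classical
  obtain ⟨ξ, b, hξF, hξ, -⟩ := exists_mem_cham F
  have hcor := corners_eq_image b F hξF hξ
  rw [hcor] at hm
  obtain ⟨k, hk, rfl⟩ := hm
  obtain ⟨c, hc⟩ : ∃ c : b.support → R, ∀ l, c l =
      if (0 < P.toLinearMap ξ (P.coroot l) ∧ l ≠ k) then (1 : R) else 0 := ⟨_, fun _ => rfl⟩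
  have hc0 : ∀ l : b.support, 0 ≤ c l := fun l => by rw [hc]; split_ifs <;> norm_num
  have hη := sum_smul_fundWeight_mem_closedChamber b c hc0
  refine ⟨Facet.ofVec P (∑ i : b.support, c i • fundWeight b i), ?_⟩
  rw [corners_eq_image b (Facet.ofVec P (∑ i : b.support, c i • fundWeight b i))
    (ξ := ∑ i : b.support, c i • fundWeight b i) rfl hη, hcor]
  ext w
  simp only [Set.mem_image, Set.mem_setOf_eq, Set.mem_diff, Set.mem_singleton_iff]
  constructor
  · rintro ⟨l, hl, rfl⟩
    rw [pair_sum_smul_fundWeight b c l, hc] at hl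
    have hl' : 0 < P.toLinearMap ξ (P.coroot l) ∧ l ≠ k := by
      by_contra h
      rw [if_neg h] at hl
      exact lt_irrefl _ hl
    exact ⟨⟨l, hl'.1, rfl⟩, fun h => hl'.2 (fundWeight_injective b h)⟩
  · rintro ⟨⟨l, hl, rfl⟩, hne⟩
    refine ⟨l, ?_, rfl⟩
    have hlk : l ≠ k := fun h => hne (by rw [h])
    rw [pair_sum_smul_fundWeight b c l, hc, if_pos (And.intro hl hlk)]
    exact one_pos

end Groth.Agent.S14233
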