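import Groth.Statements.S14234
import Mathlib
import Groth.Agent.Lib.Helper24.RootChA

set_option autoImplicit false
universe u v w x
open RootCh RootCh.Facet

namespace Groth.Agent.S14234

/-- For a finite reduced crystallographic root system over a linearly ordered field and a facet F, let
R(F) be the parabolic set of roots of F, the roots whose pairing with the vectors of F is not
negative (equivalently, the roots pairing non-negatively with the fundamental coweights
corresponding to the corners of F). Then a fundamental weight is a corner of F if and only if its
corresponding fundamental coweight pairs non-negatively with every root of R(F). -/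
theorem result {ι : Type u} {R : Type v} {M : Type w} {N : Type x}
    [Field R] [LinearOrder R] [IsStrictOrderedRing R]
    [AddCommGroup M] [Module R M] [AddCommGroup N] [Module R N] [Finite ι]
    (P : RootPairing ι R M N) [P.IsRootSystem] [P.IsCrystallographic] [P.IsReduced] (F : RootCh.Facet P) :
    F.corners = {m : M | m ∈ RootCh.fundWeights P ∧
      ∀ y : N, RootCh.Corr P m y → ∀ i ∈ F.parab, 0 ≤ P.root' i y} := by
  open RootCh Groth.Agent.Helper24.RC in
  ext m
  constructor
  · rintro ⟨hmf, hmc⟩
    refine ⟨hmf, ?_⟩
    rintro y ⟨b, i, rfl, rfl⟩ j hj
    have h1 := hmc j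
    rw [sgnVec_fundWeight b i] at h1
    by_contra hneg
    push_neg at hneg
    have h2 : cosgnVec P (fundCoweight b i) j = -1 := sign_neg hneg
    rw [h2] at h1
    rcases h1 with h1 | h1
    · exact absurd h1 (by decide)
    · exact hj h1.symm
  · rintro ⟨⟨b, i, rfl⟩, h⟩
    refine ⟨⟨b, i, rfl⟩, ?_⟩
    intro j
    have hy := h (fundCoweight b i) ⟨b, i, rfl, rfl⟩
    obtain ⟨ξ, hξ⟩ := F.exists_sgnVec_eq
    have hnegj : F.sgn (P.reflectionPerm j j) = - F.sgn j := by
      rw [← hξ]
      show SignType.sign (P.toLinearMap ξ (P.coroot (P.reflectionPerm j j))) =
        - SignType.sign (P.toLinearMap ξ (P.coroot j))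
      rw [P.coroot_reflectionPerm, P.coreflection_apply_self, map_neg, Left.sign_neg]
    have hnegr : P.root' (P.reflectionPerm j j) (fundCoweight b i) = - P.root' j (fundCoweight b i) := by
      show P.toLinearMap (P.root (P.reflectionPerm j j)) (fundCoweight b i) =
        - P.toLinearMap (P.root j) (fundCoweight b i)
      rw [P.root_reflectionPerm, P.reflection_apply_self, map_neg, LinearMap.neg_apply]
    rw [sgnVec_fundWeight b i]
    show SignType.sign (P.root' j (fundCoweight b i)) = 0 ∨
      SignType.sign (P.root' j (fundCoweight b i)) = F.sgn j
    rcases lt_trichotomy (P.root' j (fundCoweight b i)) 0 with ha | ha | ha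
    · right
      rw [sign_neg ha]
      by_contra hne
      have : j ∈ F.parab := fun h => hne h.symm
      exact absurd (hy j this) (not_le.mpr ha)
    · left
      rw [ha, sign_zero]
    · right
      rw [sign_pos ha]
      by_contra hne
      have h3 : (P.reflectionPerm j j) ∈ F.parab := by
        intro h4
        rw [hnegj] at h4
        apply hne
        have : F.sgn j = 1 := by
          have := congrArg Neg.neg h4
          simpa using this
        exact this.symm
      have := hy _ h3
      rw [hnegr] at this
      linarith

end Groth.Agent.S14234
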