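import Groth.Statements.S1425
import Groth.Agent.Lib.Helper18.Weighting

set_option autoImplicit false
universe u
open FlatMor

namespace Groth.Agent.S1425

open AlgebraicGeometry CategoryTheory Limits in
/-- A weighting of a locally quasi-finite morphism taking positive values is upper semicontinuous on X. -/
theorem result {X Y : Scheme.{u}} (f : X ⟶ Y) [LocallyQuasiFinite f] [LocallyOfFiniteType f] (w : ↑X → ℤ) (hw : MoreMor.IsWeighting f w) (hpos : ∀ x, 0 < w x) :
    UpperSemicontinuous w := by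
  classical
  intro x c hc
  obtain ⟨E, g, e, hg, hge, n, V, v, hV, hinj, hcov⟩ := Groth.Agent.Helper18.EtLoc.pi_core f (f x)
    (fun _ : Unit => x) (fun _ => rfl) (fun _ => f.quasiFiniteAt x)
  haveI := hg
  obtain ⟨p₀, hp₀x, hp₀e⟩ := Scheme.Pullback.exists_preimage_pullback (f := f) (g := g) x e hge.symm
  obtain ⟨j, hj⟩ := hcov p₀ () hp₀e hp₀x
  obtain ⟨hvV, hfin, hve, huniq, ⟨-, hpi⟩, hvx⟩ := hV () j
  have hI := hw E g (V () j) hfin
  have hopen := hI.isOpen_fiber (MoreMor.fibreIntegral ((V () j).ι ≫ pullback.snd f g)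
      (fun z => w (pullback.fst f g ((V () j).ι z))) e)
  -- the value at `e`
  have hIe : MoreMor.fibreIntegral ((V () j).ι ≫ pullback.snd f g)
      (fun z => w (pullback.fst f g ((V () j).ι z))) e = w x := by
    rw [Groth.Agent.Helper18.Weighting.fibreIntegral_of_unique ((V () j).ι ≫ pullback.snd f g) _ e ⟨v () j, hvV⟩ hve
      (fun z hz => Subtype.ext (huniq z.1 z.2 hz)),
      Groth.Agent.Helper18.Weighting.sdeg_comp_of_isOpenImmersion,
      Groth.Agent.Helper18.Weighting.sdeg_eq_one (pullback.snd f g) ((V () j).ι ⟨v () j, hvV⟩) hpi]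
    show w (pullback.fst f g (v () j)) * ((1 : ℕ) : ℤ) = w x
    rw [hvx, Nat.cast_one, mul_one]
  -- the open neighbourhood
  have hO : IsOpen (pullback.fst f g '' (((V () j : (pullback f g).Opens) : Set ↑(pullback f g)) ∩
      pullback.snd f g ⁻¹' {e' | MoreMor.fibreIntegral ((V () j).ι ≫ pullback.snd f g)
        (fun z => w (pullback.fst f g ((V () j).ι z))) e' =
          MoreMor.fibreIntegral ((V () j).ι ≫ pullback.snd f g)
        (fun z => w (pullback.fst f g ((V () j).ι z))) e})) :=
    (pullback.fst f g).isOpenMap _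
      ((V () j).isOpen.inter (hopen.preimage (pullback.snd f g).continuous))
  have hxO : x ∈ pullback.fst f g '' (((V () j : (pullback f g).Opens) : Set ↑(pullback f g)) ∩
      pullback.snd f g ⁻¹' {e' | MoreMor.fibreIntegral ((V () j).ι ≫ pullback.snd f g)
        (fun z => w (pullback.fst f g ((V () j).ι z))) e' =
          MoreMor.fibreIntegral ((V () j).ι ≫ pullback.snd f g)
        (fun z => w (pullback.fst f g ((V () j).ι z))) e}) :=
    ⟨v () j, ⟨hvV, by rw [Set.mem_preimage, hve]; rfl⟩, hvx⟩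
  refine Filter.mem_of_superset (hO.mem_nhds hxO) ?_
  rintro _ ⟨z', ⟨hz'V, hz'I⟩, rfl⟩
  refine lt_of_le_of_lt ?_ hc
  haveI : IsFinite ((V () j).ι ≫ pullback.snd f g) := hfin
  have hterm := Groth.Agent.Helper18.Weighting.term_le_fibreIntegral
    ((V () j).ι ≫ pullback.snd f g) (fun z => w (pullback.fst f g ((V () j).ι z)))
    (fun z => (hpos _).le) (pullback.snd f g z')
    (((V () j).ι ≫ pullback.snd f g).finite_preimage_singleton _) ⟨z', hz'V⟩ rfl
  have hone := Groth.Agent.Helper18.Weighting.one_le_sdeg ((V () j).ι ≫ pullback.snd f g)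
    ⟨z', hz'V⟩
  have hz'I' : MoreMor.fibreIntegral ((V () j).ι ≫ pullback.snd f g)
      (fun z => w (pullback.fst f g ((V () j).ι z))) (pullback.snd f g z') = w x :=
    hz'I.trans hIe
  rw [hz'I'] at hterm
  have hwpos : 0 < w (pullback.fst f g z') := hpos _
  calc w (pullback.fst f g z') = w (pullback.fst f g z') * 1 := (mul_one _).symm
    _ ≤ w (pullback.fst f g z') *
        ((Groth.Agent.Helper18.Weighting.sdeg ((V () j).ι ≫ pullback.snd f g) ⟨z', hz'V⟩ : ℕ) : ℤ) :=
      mul_le_mul_of_nonneg_left (by exact_mod_cast hone) hwpos.le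
    _ ≤ w x := hterm

end Groth.Agent.S1425
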