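import Groth.Statements.S14253
import Groth.Agent.H25.PerfUH
open Groth.Agent.H25

set_option autoImplicit false
universe u
open CategoryTheory AlgebraicGeometry
open PerfSch

namespace Groth.Agent.S14253

/-- A universal homeomorphism f : X ⟶ Y between perfect schemes of prime characteristic p (on every open
of X and of Y, p = 0 in the ring of sections and the p-th power map is bijective) is an isomorphism. -/
theorem result (p : ℕ) [Fact p.Prime] {X Y : Scheme.{u}} (f : X ⟶ Y)
    (hX : PerfSch.IsPerfect p X) (hY : PerfSch.IsPerfect p Y) (hf : FlatMor.IsUnivHomeo f) : IsIso f := by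
  have hp : p.Prime := Fact.out
  have hint : IsIntegralHom f := ((Groth.Agent.S0415.result f).1 hf).1
  rw [← MorphismProperty.isomorphisms.iff,
    HasAffineProperty.eq_targetAffineLocally (P := MorphismProperty.isomorphisms Scheme)]
  intro U
  have hAff : IsAffine (f ⁻¹ᵁ U.1) := U.2.preimage f
  refine ⟨hAff, ?_⟩
  have hg : FlatMor.IsUnivHomeo (f ∣_ U.1) := by
    intro X' Y' i₁ i₂ g' sq
    exact hf _ _ _ (sq.paste_vert (isPullback_morphismRestrict f U.1))
  haveI : (FlatMor.IsUnivHomeo : MorphismProperty Scheme.{u}).RespectsIso := by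
    unfold FlatMor.IsUnivHomeo; infer_instance
  haveI : IsAffine (U.1 : Scheme.{u}) := U.2
  have hg' : FlatMor.IsUnivHomeo (Spec.map (f ∣_ U.1).appTop) :=
    (MorphismProperty.arrow_mk_iso_iff _ (arrowIsoSpecΓOfIsAffine (f ∣_ U.1))).1 hg
  have hYU := hY (U.1.ι ''ᵁ ⊤)
  have hXU := hX ((f ⁻¹ᵁ U.1).ι ''ᵁ ⊤)
  have hbij := PerfUH.bijective_of_univHomeo (f ∣_ U.1).appTop.hom p hp hYU.1 hXU.1 hYU.2 hXU.2 hg'
  exact (ConcreteCategory.isIso_iff_bijective _).2 hbij

end Groth.Agent.S14253
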