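import Groth.Statements.S14254
import Groth.Agent.S0418

set_option autoImplicit false
universe u
open CategoryTheory AlgebraicGeometry
open FrobAlg

namespace Groth.Agent.S14254

/-- Let p be a prime, φ : A → B a map of commutative rings of characteristic p, i : A → A' and j : B →
B' perfect closures (A' and B' are perfect rings of characteristic p, every element of A' resp. B'
has a p^n-th power in the image of i resp. j, and the kernels of i and j consist of nilpotent
elements), and φ' : A' → B' the induced map, φ' ∘ i = j ∘ φ. Then Spec φ : Spec B ⟶ Spec A is a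
universal homeomorphism if and only if φ' is bijective. (The published statement is for an arbitrary
morphism of schemes over the prime field and its perfection; this row is the case of affine schemes,
the perfection of Spec A being Spec of the perfect closure of A.) -/
theorem result (p : ℕ) [Fact p.Prime]
    {A B A' B' : Type u} [CommRing A] [CommRing B] [CommRing A'] [CommRing B']
    [CharP A p] [CharP B p] [CharP A' p] [CharP B' p] [PerfectRing A' p] [PerfectRing B' p]
    (φ : A →+* B) (i : A →+* A') (j : B →+* B') [IsPerfectClosure i p] [IsPerfectClosure j p]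
    (φ' : A' →+* B') (hφ : φ'.comp i = j.comp φ) :
    FlatMor.IsUnivHomeo (Spec.map (CommRingCat.ofHom φ)) ↔ Function.Bijective φ' := by
  have hp : p.Prime := Fact.out
  haveI : ExpChar A p := ExpChar.prime hp
  haveI : ExpChar B p := ExpChar.prime hp
  haveI : ExpChar A' p := ExpChar.prime hp
  haveI : ExpChar B' p := ExpChar.prime hp
  -- the localizations away from p = 0 are trivial
  have hloc : Function.Bijective (Localization.awayMap φ (p : A)) := by
    have h0A : (0 : A) ∈ Submonoid.powers (p : A) := ⟨1, by show (p : A) ^ 1 = 0; rw [pow_one]; exact CharP.cast_eq_zero A p⟩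
    have h0B : (0 : B) ∈ Submonoid.powers (φ (p : A)) :=
      ⟨1, by show φ (p : A) ^ 1 = 0; rw [pow_one, map_natCast]; exact CharP.cast_eq_zero B p⟩
    haveI : Subsingleton (Localization.Away (p : A)) := IsLocalization.subsingleton h0A
    haveI : Subsingleton (Localization.Away (φ (p : A))) := IsLocalization.subsingleton h0B
    exact ⟨fun x y _ => Subsingleton.elim x y, fun y => ⟨0, Subsingleton.elim _ _⟩⟩
  rw [Groth.Agent.S0418.result φ p hp hloc]
  have hsq : ∀ a, φ' (i a) = j (φ a) := fun a => congr($hφ a)
  have hinjA' : ∀ (n : ℕ) (x : A'), x ^ p ^ n = 0 → x = 0 := by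
    intro n x hx
    apply (bijective_iterateFrobenius A' p n).1
    rw [iterateFrobenius_def, iterateFrobenius_def, hx, zero_pow (pow_pos hp.pos n).ne']
  have hnilA' : ∀ x : A', IsNilpotent x → x = 0 := by
    rintro x ⟨k, hk⟩
    apply hinjA' k
    have : k ≤ p ^ k := (Nat.lt_pow_self hp.one_lt).le
    rw [← Nat.sub_add_cancel this, pow_add, hk, mul_zero]
  constructor
  · rintro ⟨hker, hb⟩
    constructor
    · rw [injective_iff_map_eq_zero]
      intro a' ha'
      obtain ⟨n, a, ha⟩ := IsPRadical.pow_mem i p a'
      have h1 : j (φ a) = 0 := by rw [← hsq, ha, map_pow, ha', zero_pow (pow_pos hp.pos n).ne']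
      have h2 : φ a ∈ pNilradical B p := IsPRadical.ker_le j p h1
      obtain ⟨m, hm⟩ := mem_pNilradical.1 h2
      rw [← map_pow] at hm
      have h3 : IsNilpotent (a ^ p ^ m) := hker _ hm
      have h4 : IsNilpotent a := by
        obtain ⟨k, hk⟩ := h3
        exact ⟨p ^ m * k, by rw [pow_mul, hk]⟩
      have h5 : i a = 0 := hnilA' _ (h4.map i)
      rw [h5] at ha
      exact hinjA' n a' ha.symm
    · intro b'
      obtain ⟨n, b, hb'⟩ := IsPRadical.pow_mem j p b'
      obtain ⟨m, -, a, ha⟩ := hb b
      obtain ⟨a'', ha''⟩ := (bijective_iterateFrobenius A' p (n + m)).2 (i a)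
      rw [iterateFrobenius_def] at ha''
      refine ⟨a'', ?_⟩
      apply (bijective_iterateFrobenius B' p (n + m)).1
      rw [iterateFrobenius_def, iterateFrobenius_def, ← map_pow, ha'', hsq, ha, map_pow, hb',
        ← pow_mul, ← pow_add]
  · rintro ⟨hinj, hsurj⟩
    constructor
    · intro a ha
      have h1 : i a = 0 := by
        apply hinj
        rw [hsq, ha, map_zero, map_zero]
      have h2 : a ∈ pNilradical A p := IsPRadical.ker_le i p h1
      obtain ⟨m, hm⟩ := mem_pNilradical.1 h2
      exact ⟨p ^ m, hm⟩
    · intro b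
      obtain ⟨a', ha'⟩ := hsurj (j b)
      obtain ⟨n, a, ha⟩ := IsPRadical.pow_mem i p a'
      have h1 : j (b ^ p ^ n - φ a) = 0 := by
        rw [map_sub, map_pow, ← ha', ← map_pow, ← ha, hsq, sub_self]
      have h2 : b ^ p ^ n - φ a ∈ pNilradical B p := IsPRadical.ker_le j p h1
      obtain ⟨m, hm⟩ := mem_pNilradical.1 h2
      rw [sub_pow_expChar_pow, sub_eq_zero, ← pow_mul, ← pow_add, ← map_pow] at hm
      refine ⟨n + m + 1, ?_, ?_⟩
      · have : ((p : B) ^ (n + m + 1)) = 0 := by
          rw [pow_succ, CharP.cast_eq_zero B p, mul_zero]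
        rw [this, zero_mul]; exact zero_mem _
      · rw [pow_succ, pow_mul, hm, ← map_pow]; exact ⟨_, rfl⟩

end Groth.Agent.S14254
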