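import Groth.Statements.S14255
import Mathlib

set_option autoImplicit false
universe u
open FrobAlg

namespace Groth.Agent.S14255

theorem exists_common_pow (p : ℕ) {K L : Type u} [CommRing K] [CommRing L] (i : K →+* L)
    [IsPRadical i p] {l : ℕ} (x : Fin l → L) :
    ∃ N : ℕ, ∀ M, N ≤ M → ∃ y : Fin l → K, ∀ k, i (y k) = x k ^ p ^ M := by
  have h := fun k => IsPRadical.pow_mem i p (x k)
  choose n y hy using h
  refine ⟨∑ k, n k, fun M hM => ⟨fun k => y k ^ p ^ (M - n k), fun k => ?_⟩⟩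
  have hk : n k ≤ M :=
    (Finset.single_le_sum (f := n) (fun _ _ => Nat.zero_le _) (Finset.mem_univ k)).trans hM
  rw [map_pow, hy, ← pow_mul, ← pow_add, Nat.add_sub_cancel' hk]

/-- Let p be a prime, φ : A → B a flat map of commutative rings of characteristic p, i : A → A' and j :
B → B' perfect closures (A', B' perfect rings of characteristic p, every element of A' resp. B' has
a p^n-th power in the image of i resp. j, the kernels of i and j consist of nilpotent elements), and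
φ' : A' → B' the induced map, φ' ∘ i = j ∘ φ. Then φ' is flat. (The published statement is that the
perfection of a flat morphism of schemes over the prime field is flat; this row is its affine case,
to which the published proof reduces.) -/
theorem result (p : ℕ) [Fact p.Prime]
    {A B A' B' : Type u} [CommRing A] [CommRing B] [CommRing A'] [CommRing B']
    [CharP A p] [CharP B p] [CharP A' p] [CharP B' p] [PerfectRing A' p] [PerfectRing B' p]
    (φ : A →+* B) (hflat : φ.Flat) (i : A →+* A') (j : B →+* B') [IsPerfectClosure i p] [IsPerfectClosure j p]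
    (φ' : A' →+* B') (hφ : φ'.comp i = j.comp φ) : φ'.Flat := by
  have hp : p.Prime := Fact.out
  let algφ : Algebra A B := φ.toAlgebra
  let algφ' : Algebra A' B' := φ'.toAlgebra
  have hflat' : Module.Flat A B := hflat
  show Module.Flat A' B'
  apply Module.Flat.of_forall_isTrivialRelation
  intro l a' x' hax
  have hji : ∀ z, j (φ z) = φ' (i z) := fun z => (RingHom.congr_fun hφ z).symm
  have hax' : ∑ k, φ' (a' k) * x' k = 0 := by
    rw [← hax]
    exact Finset.sum_congr rfl (fun k _ => (Algebra.smul_def _ _).symm)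
  obtain ⟨N₁, hN₁⟩ := exists_common_pow p i a'
  obtain ⟨N₂, hN₂⟩ := exists_common_pow p j x'
  obtain ⟨a₀, ha₀⟩ := hN₁ (N₁ + N₂) (Nat.le_add_right _ _)
  obtain ⟨x₀, hx₀⟩ := hN₂ (N₁ + N₂) (Nat.le_add_left _ _)
  have h1 : j (∑ k, φ (a₀ k) * x₀ k) = 0 := by
    rw [map_sum]
    have : ∀ k, j (φ (a₀ k) * x₀ k) = (φ' (a' k) * x' k) ^ p ^ (N₁ + N₂) := by
      intro k
      rw [map_mul, mul_pow, ← map_pow, ← ha₀ k, ← hx₀ k, hji]
    rw [Finset.sum_congr rfl (fun k _ => this k), ← sum_pow_char_pow, hax',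
      zero_pow (pow_ne_zero _ hp.ne_zero)]
  have h2 : (∑ k, φ (a₀ k) * x₀ k) ∈ pNilradical B p := IsPRadical.ker_le j p h1
  obtain ⟨K, hK⟩ := mem_pNilradical.mp h2
  rw [sum_pow_char_pow] at hK
  have hrel : ∑ k, (a₀ k ^ p ^ K) • (x₀ k ^ p ^ K) = 0 := by
    rw [← hK]
    refine Finset.sum_congr rfl (fun k _ => ?_)
    rw [Algebra.smul_def, mul_pow, ← map_pow]
    rfl
  obtain ⟨κ, α, y, hxy0, hα0⟩ := Module.Flat.iff_forall_isTrivialRelation.mp hflat' hrel
  have hxy : ∀ k, x₀ k ^ p ^ K = ∑ m, α k m • y m := hxy0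
  have hα : ∀ m, ∑ k, a₀ k ^ p ^ K * α k m = 0 := hα0
  obtain ⟨M, hM⟩ : ∃ M : ℕ, M = N₁ + N₂ + K := ⟨_, rfl⟩
  have hFa : ∀ k, i (a₀ k ^ p ^ K) = a' k ^ p ^ M := by
    intro k
    rw [map_pow, ha₀ k, ← pow_mul, ← pow_add, hM]
  have hFx : ∀ k, j (x₀ k ^ p ^ K) = x' k ^ p ^ M := by
    intro k
    rw [map_pow, hx₀ k, ← pow_mul, ← pow_add, hM]
  obtain ⟨FA, hFA⟩ : ∃ F : A' ≃+* A', ∀ z, F z = z ^ p ^ M :=
    ⟨iterateFrobeniusEquiv A' p M, fun z => iterateFrobeniusEquiv_def A' p M z⟩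
  obtain ⟨FB, hFB⟩ : ∃ F : B' ≃+* B', ∀ z, F z = z ^ p ^ M :=
    ⟨iterateFrobeniusEquiv B' p M, fun z => iterateFrobeniusEquiv_def B' p M z⟩
  have hcomm : ∀ z, FB (φ' z) = φ' (FA z) := fun z => by rw [hFB, hFA, map_pow]
  refine ⟨κ, fun k m => FA.symm (i (α k m)), fun m => FB.symm (j (y m)), ?_, ?_⟩
  · intro k
    show x' k = ∑ m, FA.symm (i (α k m)) • FB.symm (j (y m))
    apply FB.injective
    rw [hFB, ← hFx k, hxy k, map_sum, map_sum]
    refine Finset.sum_congr rfl (fun m _ => ?_)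
    rw [Algebra.smul_def, Algebra.smul_def, map_mul, map_mul, FB.apply_symm_apply]
    congr 1
    show j (φ (α k m)) = FB (φ' (FA.symm (i (α k m))))
    rw [hcomm, FA.apply_symm_apply, hji]
  · intro m
    show ∑ k, a' k * FA.symm (i (α k m)) = 0
    apply FA.injective
    rw [map_zero, map_sum]
    have : ∀ k, FA (a' k * FA.symm (i (α k m))) = i (a₀ k ^ p ^ K * α k m) := by
      intro k
      rw [map_mul, FA.apply_symm_apply, hFA, ← hFa k, map_mul]
    rw [Finset.sum_congr rfl (fun k _ => this k), ← map_sum, hα m, map_zero]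

end Groth.Agent.S14255
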