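import Groth.Statements.S14260
import Groth.Agent.S14255
import Mathlib

set_option autoImplicit false
universe u
open FrobAlg

namespace Groth.Agent.S14260

theorem key (p : ℕ) [Fact p.Prime]
    {A B A' B' : Type u} [CommRing A] [CommRing B] [CommRing A'] [CommRing B']
    [CharP B' p]
    (φ : A →+* B) (i : A →+* A') (j : B →+* B') [IsPRadical i p] [IsPRadical j p]
    (φ' : A' →+* B') (hφ : φ'.comp i = j.comp φ) (I : Ideal A') (b' : B')
    (hb' : b' ∈ I.map φ') :
    ∃ (n : ℕ) (b : B), b ∈ (I.comap i).map φ ∧ j b = b' ^ p ^ n := by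
  have hp : p.Prime := Fact.out
  have hji : ∀ z, j (φ z) = φ' (i z) := fun z => (RingHom.congr_fun hφ z).symm
  unfold Ideal.map Ideal.span at hb'
  induction hb' using Submodule.span_induction with
  | mem y hy =>
    obtain ⟨a', ha', rfl⟩ := hy
    obtain ⟨n, a, ha⟩ := IsPRadical.pow_mem i p a'
    refine ⟨n, φ a, Ideal.mem_map_of_mem φ ?_, ?_⟩
    · show i a ∈ I
      rw [ha]
      exact Ideal.pow_mem_of_mem _ ha' _ (pow_pos hp.pos n)
    · rw [hji, ha, map_pow]
  | zero => exact ⟨0, 0, Ideal.zero_mem _, by simp⟩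
  | add y z _ _ hy hz =>
    obtain ⟨n₁, b₁, hb₁, e₁⟩ := hy
    obtain ⟨n₂, b₂, hb₂, e₂⟩ := hz
    refine ⟨n₁ + n₂, b₁ ^ p ^ n₂ + b₂ ^ p ^ n₁,
      Ideal.add_mem _ (Ideal.pow_mem_of_mem _ hb₁ _ (pow_pos hp.pos _))
        (Ideal.pow_mem_of_mem _ hb₂ _ (pow_pos hp.pos _)), ?_⟩
    have e₁' : j (b₁ ^ p ^ n₂) = y ^ p ^ (n₁ + n₂) := by
      rw [map_pow, e₁, ← pow_mul, ← pow_add]
    have e₂' : j (b₂ ^ p ^ n₁) = z ^ p ^ (n₁ + n₂) := by
      rw [map_pow, e₂, ← pow_mul, ← pow_add, add_comm n₂ n₁]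
    rw [map_add, e₁', e₂', add_pow_char_pow]
  | smul c y _ hy =>
    obtain ⟨n₁, b₁, hb₁, e₁⟩ := hy
    obtain ⟨n₂, c₀, e₂⟩ := IsPRadical.pow_mem j p c
    refine ⟨n₁ + n₂, c₀ ^ p ^ n₁ * b₁ ^ p ^ n₂,
      Ideal.mul_mem_left _ _ (Ideal.pow_mem_of_mem _ hb₁ _ (pow_pos hp.pos _)), ?_⟩
    have e₁' : j (b₁ ^ p ^ n₂) = y ^ p ^ (n₁ + n₂) := by
      rw [map_pow, e₁, ← pow_mul, ← pow_add]
    have e₂' : j (c₀ ^ p ^ n₁) = c ^ p ^ (n₁ + n₂) := by
      rw [map_pow, e₂, ← pow_mul, ← pow_add, add_comm n₂ n₁]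
    rw [map_mul, e₁', e₂', smul_eq_mul, mul_pow]

/-- Let p be a prime, φ : A → B a faithfully flat map of commutative rings of characteristic p, i : A →
A' and j : B → B' perfect closures (A', B' perfect rings of characteristic p, every element of A'
resp. B' has a p^n-th power in the image of i resp. j, the kernels of i and j consist of nilpotent
elements), and φ' : A' → B' the induced map, φ' ∘ i = j ∘ φ. Then φ' is faithfully flat. (The
published statement is that the perfection of a faithfully flat morphism of schemes over the prime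
field is faithfully flat; this row is its affine case, to which the published proof reduces.) -/
theorem result (p : ℕ) [Fact p.Prime]
    {A B A' B' : Type u} [CommRing A] [CommRing B] [CommRing A'] [CommRing B']
    [CharP A p] [CharP B p] [CharP A' p] [CharP B' p] [PerfectRing A' p] [PerfectRing B' p]
    (φ : A →+* B) (hflat : φ.FaithfullyFlat) (i : A →+* A') (j : B →+* B') [IsPerfectClosure i p]
    [IsPerfectClosure j p] (φ' : A' →+* B') (hφ : φ'.comp i = j.comp φ) : φ'.FaithfullyFlat := by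
  have hp : p.Prime := Fact.out
  have hflat' : φ'.Flat := Groth.Agent.S14255.result p φ hflat.flat i j φ' hφ
  let algφ : Algebra A B := φ.toAlgebra
  let algφ' : Algebra A' B' := φ'.toAlgebra
  have hff : Module.FaithfullyFlat A B := hflat
  show Module.FaithfullyFlat A' B'
  rw [Module.FaithfullyFlat.iff_flat_and_ideal_smul_eq_top]
  refine ⟨hflat', fun I hI => ?_⟩
  have h1 : (1 : B') ∈ I.map φ' := by
    have h0 : (1 : B') ∈ (I • ⊤ : Submodule A' B') := by rw [hI]; trivial
    rw [Ideal.smul_top_eq_map] at h0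
    exact h0
  obtain ⟨n, b, hb, e⟩ := key p φ i j φ' hφ I 1 h1
  rw [one_pow] at e
  have h2 : b - 1 ∈ RingHom.ker j := by
    rw [RingHom.mem_ker, map_sub, e, map_one, sub_self]
  have h3 : IsNilpotent (b - 1) := pNilradical_le_nilradical (IsPRadical.ker_le j p h2)
  have h4 : IsUnit b := by
    have := h3.isUnit_add_one
    rwa [sub_add_cancel] at this
  have h5 : (I.comap i).map φ = ⊤ := Ideal.eq_top_of_isUnit_mem _ hb h4
  have h6 : I.comap i = ⊤ := by
    have := (Module.FaithfullyFlat.iff_flat_and_ideal_smul_eq_top A B).mp hff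
    apply this.2
    rw [Ideal.smul_top_eq_map]
    rw [show Ideal.map (algebraMap A B) (I.comap i) = ⊤ from h5]
    rfl
  have h7 : (1 : A) ∈ I.comap i := by rw [h6]; trivial
  rw [Ideal.mem_comap, map_one] at h7
  exact (Ideal.eq_top_iff_one I).mpr h7

end Groth.Agent.S14260
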