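import Groth.Statements.S14262
import Mathlib

set_option autoImplicit false
universe u
open FrobAlg

namespace Groth.Agent.S14262

/-- Let p be a prime, A a perfect ring of characteristic p and f ∈ A. The radical of the principal ideal
(f) — equivalently the ideal generated by all p^n-th roots of f, n ≥ 0 — is a flat A-module. -/
theorem result (p : ℕ) [Fact p.Prime] (A : Type u) [CommRing A]
    [CharP A p] [PerfectRing A p] (f : A) :
    Module.Flat A ((Ideal.span {f}).radical) := by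
  have hp : p.Prime := Fact.out
  apply Module.Flat.of_forall_isTrivialRelation
  intro l a x hax
  have hx : ∀ i, ∃ m : ℕ, ((x i : A)) ^ m ∈ Ideal.span {f} := fun i => (x i).2
  choose m hm using hx
  obtain ⟨n, hn⟩ : ∃ n : ℕ, n = ∑ i, m i := ⟨_, rfl⟩
  have hmn : ∀ i, m i ≤ p ^ n := fun i => by
    have h1 : m i ≤ n := by
      rw [hn]
      exact Finset.single_le_sum (f := m) (fun _ _ => Nat.zero_le _) (Finset.mem_univ i)
    exact h1.trans (Nat.lt_pow_self hp.one_lt).le
  have hx' : ∀ i, ∃ c : A, c * f = (x i : A) ^ (p ^ n) := fun i =>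
    Ideal.mem_span_singleton'.mp (Ideal.pow_mem_of_pow_mem _ (hm i) (hmn i))
  choose c hc using hx'
  obtain ⟨φ, hφ⟩ : ∃ φ : A ≃+* A, ∀ z, φ z = z ^ p ^ n :=
    ⟨iterateFrobeniusEquiv A p n, fun z => iterateFrobeniusEquiv_def A p n z⟩
  obtain ⟨ψ, hψ⟩ : ∃ ψ : A ≃+* A, ∀ z, ψ z = z ^ p :=
    ⟨frobeniusEquiv A p, fun z => frobeniusEquiv_def A p z⟩
  obtain ⟨g, hg⟩ : ∃ g : A, g = φ.symm f := ⟨_, rfl⟩
  obtain ⟨b, hb⟩ : ∃ b : Fin l → A, b = fun i => φ.symm (c i) := ⟨_, rfl⟩
  have hxb : ∀ i, (x i : A) = b i * g := by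
    intro i
    apply φ.injective
    rw [map_mul, hb, hg, φ.apply_symm_apply, φ.apply_symm_apply, hφ, hc]
  obtain ⟨h, hh⟩ : ∃ h : A, h = ψ.symm g := ⟨_, rfl⟩
  have hhp : h ^ p = g := by rw [← hψ, hh, ψ.apply_symm_apply]
  have hcg : (∑ i, a i * b i) * g = 0 := by
    rw [Finset.sum_mul]
    have h0 := congrArg Subtype.val hax
    rw [Submodule.coe_sum] at h0
    have h0' : ∑ i, (((a i • x i : (Ideal.span {f}).radical)) : A) = 0 := h0
    rw [← h0']
    refine Finset.sum_congr rfl (fun i _ => ?_)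
    rw [mul_assoc, ← hxb i]
    rfl
  have hp1 : p - 1 + 1 = p := Nat.sub_add_cancel hp.one_le
  have hp2 : p - 2 + 1 = p - 1 := by have := hp.two_le; omega
  have hch : (∑ i, a i * b i) * h = 0 := by
    have h1 : ((∑ i, a i * b i) * h) ^ p = 0 := by
      rw [mul_pow, hhp, ← hp1, pow_succ, mul_assoc, hcg, mul_zero]
    have h2 : ψ ((∑ i, a i * b i) * h) = ψ 0 := by rw [hψ, h1, map_zero]
    exact ψ.injective h2
  have hhI : h ∈ (Ideal.span {f}).radical := by
    refine ⟨p ^ (n + 1), ?_⟩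
    have : h ^ p ^ (n + 1) = f := by
      rw [pow_succ', pow_mul, hhp, ← hφ, hg, φ.apply_symm_apply]
    rw [this]
    exact Ideal.mem_span_singleton_self f
  refine ⟨1, fun i _ => b i * h ^ (p - 1), fun _ => ⟨h, hhI⟩, ?_, ?_⟩
  · intro i
    apply Subtype.ext
    rw [Submodule.coe_sum, Fin.sum_univ_one, hxb i]
    show b i * g = (b i * h ^ (p - 1)) * h
    rw [mul_assoc, ← pow_succ, hp1, hhp]
  · intro j
    have : ∀ i, a i * (b i * h ^ (p - 1)) = (a i * b i) * h * h ^ (p - 2) := by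
      intro i
      rw [← hp2, pow_succ]
      ring
    rw [Finset.sum_congr rfl (fun i _ => this i), ← Finset.sum_mul, ← Finset.sum_mul, hch,
      zero_mul]

end Groth.Agent.S14262
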