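import Groth.Statements.S14271
import Mathlib

set_option autoImplicit false
universe u
open FlatPur

namespace Groth.Agent.S14271

/-- A nonzero element of a ring has a "weakly associated" prime: at the localization there, the
image of the element is nonzero and no element of the maximal ideal is regular. -/
theorem exists_prime_not_regular {B : Type u} [CommRing B] (s : B) (hs : s ≠ 0) :
    ∃ q : Ideal B, ∃ _ : q.IsPrime, ∀ (A : Type u) [CommRing A] [Algebra B A] [IsLocalRing A]
      [IsLocalization.AtPrime A q], algebraMap B A s ≠ 0 ∧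
        ∀ a ∈ IsLocalRing.maximalIdeal A, ¬ IsSMulRegular A a := by
  classical
  obtain ⟨I, hI⟩ : ∃ I : Ideal B, ∀ t, t ∈ I ↔ t * s = 0 :=
    ⟨LinearMap.ker (LinearMap.toSpanSingleton B B s), fun t => by
      rw [LinearMap.mem_ker, LinearMap.toSpanSingleton_apply, smul_eq_mul]⟩
  have hI1 : I ≠ ⊤ := by
    intro h
    have h1 : (1 : B) ∈ I := by
      rw [h]
      exact Submodule.mem_top
    rw [hI, one_mul] at h1
    exact hs h1
  obtain ⟨⟨q, hq⟩⟩ := Ideal.nonempty_minimalPrimes hI1
  have hqp : q.IsPrime := hq.1.1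
  refine ⟨q, hqp, fun A _ _ _ _ => ?_⟩
  have hs0 : algebraMap B A s ≠ 0 := by
    intro h0
    obtain ⟨m, hm⟩ := (IsLocalization.map_eq_zero_iff q.primeCompl A s).1 h0
    have hmI : (m : B) ∈ I := (hI _).2 hm
    exact m.2 (hq.1.2 hmI)
  refine ⟨hs0, fun a ha hreg => ?_⟩
  have hrad := IsLocalization.AtPrime.radical_map_of_mem_minimalPrimes A q I hq
  rw [IsLocalization.AtPrime.map_eq_maximalIdeal q A] at hrad
  have ha' : a ∈ (I.map (algebraMap B A)).radical := by
    rw [hrad]
    exact ha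
  obtain ⟨n, hn⟩ := ha'
  rw [IsLocalization.mem_map_algebraMap_iff q.primeCompl A] at hn
  obtain ⟨⟨i, m⟩, him⟩ := hn
  have him' : a ^ n * algebraMap B A (m : B) = algebraMap B A (i : B) := him
  have h1 : a ^ n * (algebraMap B A (m : B) * algebraMap B A s) = 0 := by
    rw [← mul_assoc, him', ← map_mul, (hI _).1 i.2, map_zero]
  have hu : IsUnit (algebraMap B A (m : B)) := IsLocalization.map_units A m
  have h2 : algebraMap B A (m : B) * algebraMap B A s = 0 :=
    (hreg.pow n).right_eq_zero_of_smul (by rw [smul_eq_mul]; exact h1)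
  exact hs0 (hu.mul_right_eq_zero.1 h2)

open CategoryTheory AlgebraicGeometry Limits in
theorem ker_ι_eq_bot (X : Scheme.{u}) (U : X.Opens) [QuasiCompact U.ι]
    (hZ : ∀ z : X, z ∉ U → ∃ a ∈ IsLocalRing.maximalIdeal (X.presheaf.stalk z),
      IsSMulRegular (X.presheaf.stalk z) a) : U.ι.ker = ⊥ := by
  rw [eq_bot_iff, Scheme.IdealSheafData.le_def]
  intro V
  rw [Scheme.Hom.ker_apply]
  intro s hs
  rw [RingHom.mem_ker] at hs
  show s ∈ (⊥ : Ideal Γ(X, V.1))
  rw [Ideal.mem_bot]
  by_contra hs0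
  obtain ⟨q, hqp, hq⟩ := exists_prime_not_regular s hs0
  have hV : IsAffineOpen V.1 := V.2
  obtain ⟨y, hy⟩ : ∃ y : PrimeSpectrum Γ(X, V.1), y.asIdeal = q := ⟨⟨q, hqp⟩, rfl⟩
  have hyV : hV.fromSpec y ∈ V.1 := hV.range_fromSpec.subset ⟨y, rfl⟩
  let alg : Algebra Γ(X, V.1) (X.presheaf.stalk (hV.fromSpec y)) :=
    TopCat.Presheaf.algebra_section_stalk X.presheaf ⟨hV.fromSpec y, hyV⟩
  subst hy
  have hloc : IsLocalization.AtPrime (X.presheaf.stalk (hV.fromSpec y)) y.asIdeal :=
    hV.isLocalization_stalk' y hyV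
  obtain ⟨h1, h2⟩ := hq (X.presheaf.stalk (hV.fromSpec y))
  have hzU : hV.fromSpec y ∉ U := by
    intro hzU
    apply h1
    have hx : hV.fromSpec y ∈ U.ι ''ᵁ U.ι ⁻¹ᵁ V.1 := ⟨⟨hV.fromSpec y, hzU⟩, hyV, rfl⟩
    have e := TopCat.Presheaf.germ_res_apply X.presheaf
      (homOfLE (x := U.ι ''ᵁ U.ι ⁻¹ᵁ V.1) (Set.image_preimage_subset _ _)) (hV.fromSpec y) hx s
    have e2 : X.presheaf.germ (U.ι ''ᵁ U.ι ⁻¹ᵁ V.1) (hV.fromSpec y) hx
        ((X.presheaf.map (homOfLE (x := U.ι ''ᵁ U.ι ⁻¹ᵁ V.1)
          (Set.image_preimage_subset _ _)).op) s) = 0 := by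
      have h3 : (X.presheaf.map (homOfLE (x := U.ι ''ᵁ U.ι ⁻¹ᵁ V.1)
          (Set.image_preimage_subset _ _)).op) s = 0 := hs
      rw [h3, map_zero]
    exact e.symm.trans e2
  obtain ⟨a, ha, hreg⟩ := hZ _ hzU
  exact h2 a ha hreg

set_option backward.isDefEq.respectTransparency false in
open CategoryTheory AlgebraicGeometry Limits in
theorem isClosedImmersion_equalizer_ι_left {S : Scheme.{u}} {X Y : Over S}
    [IsClosedImmersion (pullback.diagonal Y.hom)] (f g : X ⟶ Y) :
    IsClosedImmersion (equalizer.ι f g).left := by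
  refine MorphismProperty.of_isPullback (P := @IsClosedImmersion)
    ((Limits.isPullback_equalizer_prod f g).map (Over.forget _)).flip ?_
  rw [← MorphismProperty.cancel_right_of_respectsIso @IsClosedImmersion _
    (Over.prodLeftIsoPullback Y Y).hom]
  convert! (inferInstance : IsClosedImmersion (pullback.diagonal Y.hom))
  ext1 <;> simp [← Over.comp_left]

open AlgebraicGeometry CategoryTheory CategoryTheory.Limits in
/-- Let X be a scheme and U an open subscheme whose inclusion is quasi-compact, such that for every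
point z of X outside U the maximal ideal of O_{X,z} contains an element that is regular (a
nonzerodivisor) on that local ring. Then for every separated X-scheme Y the restriction map from
X-sections of Y to U-sections of Y is injective: two sections of Y -> X that agree on U are equal. -/
theorem result (X : Scheme.{u}) (U : X.Opens) [QuasiCompact U.ι]
    (hZ : ∀ z : X, z ∉ U → ∃ a ∈ IsLocalRing.maximalIdeal (X.presheaf.stalk z), IsSMulRegular (X.presheaf.stalk z) a)
    (Y : Scheme.{u}) (f : Y ⟶ X) [IsSeparated f] (s₁ s₂ : X ⟶ Y) (h₁ : s₁ ≫ f = 𝟙 X) (h₂ : s₂ ≫ f = 𝟙 X)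
    (hU : U.ι ≫ s₁ = U.ι ≫ s₂) : s₁ = s₂ := by
  have hker : U.ι.ker = ⊥ := ker_ι_eq_bot X U hZ
  let X' : Over X := Over.mk (𝟙 X)
  let Y' : Over X := Over.mk f
  let f' : X' ⟶ Y' := Over.homMk s₁ h₁
  let g' : X' ⟶ Y' := Over.homMk s₂ h₂
  have hdiag : IsClosedImmersion (pullback.diagonal Y'.hom) :=
    inferInstanceAs (IsClosedImmersion (pullback.diagonal f))
  have hclosed : IsClosedImmersion (equalizer.ι f' g').left :=
    isClosedImmersion_equalizer_ι_left f' g'
  let U' : Over X := Over.mk U.ι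
  let q' : U' ⟶ X' := Over.homMk U.ι (by simp [U', X'])
  have hq' : q' ≫ f' = q' ≫ g' := by
    ext1
    exact hU
  have hl : (equalizer.lift q' hq').left ≫ (equalizer.ι f' g').left = U.ι := by
    rw [← Over.comp_left, equalizer.lift_ι]
    rfl
  have hker2 : (equalizer.ι f' g').left.ker = ⊥ := by
    have h3 := Scheme.Hom.le_ker_comp (equalizer.lift q' hq').left (equalizer.ι f' g').left
    rw [hl, hker] at h3
    exact le_bot_iff.mp h3
  have hiso : IsIso (equalizer.ι f' g').left :=
    IsClosedImmersion.isIso_iff_ker_eq_bot.mpr hker2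
  rw [← cancel_epi (equalizer.ι f' g').left]
  exact congr($(equalizer.condition f' g').left)

end Groth.Agent.S14271
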