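import Groth.Statements.S14275
import Mathlib

set_option autoImplicit false
universe u
open CAlg

namespace Groth.Agent.S14275

section Helpers
open AdicCompletion

variable {A : Type u} [CommRing A] (I : Ideal A)

lemma mk_eq_zero_iff {M : Type u} [AddCommGroup M] [Module A M] (c : AdicCauchySequence I M) :
    AdicCompletion.mk I M c = 0 ↔ ∀ n, c n ∈ (I ^ n • ⊤ : Submodule A M) := by
  constructor
  · intro h n
    have := congrArg (fun x => x.val n) h
    simp only [mk_apply_coe, val_zero_apply, Submodule.mkQ_apply,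
      Submodule.Quotient.mk_eq_zero] at this
    exact this
  · intro h
    ext n
    simp only [mk_apply_coe, val_zero_apply, Submodule.mkQ_apply, Submodule.Quotient.mk_eq_zero]
    exact h n

lemma mkQ_mem_smul_top_iff (J : Ideal A) (n : ℕ) (y : A) :
    J.mkQ y ∈ (I ^ n • ⊤ : Submodule A (A ⧸ J)) ↔ y ∈ I ^ n ⊔ J := by
  rw [Ideal.smul_top_eq_map, Submodule.restrictScalars_mem]
  exact Ideal.mem_quotient_iff_mem_sup

lemma map_mk_eq_zero_iff (J : Ideal A) (y : AdicCauchySequence I A) :
    AdicCompletion.map I J.mkQ (AdicCompletion.mk I A y) = 0 ↔ ∀ n, y n ∈ I ^ n ⊔ J := by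
  rw [map_mk, mk_eq_zero_iff]
  refine forall_congr' fun n => ?_
  rw [AdicCauchySequence.map_apply_coe, mkQ_mem_smul_top_iff]

lemma cauchy_sub_mem (y : AdicCauchySequence I A) {m n : ℕ} (h : m ≤ n) : y m - y n ∈ I ^ m := by
  have := (SModEq.sub_mem).mp (y.property h)
  simpa using this

lemma keyK (a b : A) (J J' : Ideal A) (hJ' : J' = J ⊔ Ideal.span {b}) (N : ℕ)
    (hb : ∀ w, b * w ∈ J → w ∈ J)
    (hN : ∀ x : A ⧸ J', (∃ m : ℕ, a ^ m • x = 0) → a ^ N • x = 0)
    (n : ℕ) (w : A) (hw : b * w ∈ (Ideal.span {a}) ^ (n + N) ⊔ J) :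
    w ∈ (Ideal.span {a}) ^ n ⊔ J := by
  subst hJ'
  obtain ⟨t, ht, j, hj, htj⟩ := Submodule.mem_sup.mp hw
  rw [Ideal.span_singleton_pow, Ideal.mem_span_singleton'] at ht
  obtain ⟨u, rfl⟩ := ht
  have hsm : ∀ (m : ℕ) (x : A), a ^ m • (Ideal.Quotient.mk (J ⊔ Ideal.span {b}) x) =
      Ideal.Quotient.mk (J ⊔ Ideal.span {b}) (a ^ m * x) := fun m x => rfl
  have h1 : a ^ N • (Ideal.Quotient.mk (J ⊔ Ideal.span {b}) u) = 0 := by
    apply hN
    refine ⟨n + N, ?_⟩
    rw [hsm, Ideal.Quotient.eq_zero_iff_mem]
    have : a ^ (n + N) * u = b * w - j := by rw [← htj]; ring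
    rw [this]
    exact sub_mem (Ideal.mem_sup_right (Ideal.mul_mem_right _ _ (Ideal.mem_span_singleton_self b)))
      (Ideal.mem_sup_left hj)
  rw [hsm, Ideal.Quotient.eq_zero_iff_mem] at h1
  obtain ⟨j', hj', c, hc, hjc⟩ := Submodule.mem_sup.mp h1
  obtain ⟨w', rfl⟩ := Ideal.mem_span_singleton'.mp hc
  have h3 : b * (w - a ^ n * w') ∈ J := by
    have : b * (w - a ^ n * w') = a ^ n * j' + j := by
      have e1 : b * w = u * a ^ (n + N) + j := htj.symm
      have e2 : a ^ N * u = j' + w' * b := hjc.symm
      calc b * (w - a ^ n * w') = b * w - a ^ n * (w' * b) := by ring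
        _ = u * a ^ (n + N) + j - a ^ n * (a ^ N * u - j') := by rw [e1, e2]; ring
        _ = a ^ n * j' + j := by ring
    rw [this]; exact J.add_mem (J.mul_mem_left _ hj') hj
  have h4 := hb _ h3
  have : w = a ^ n * w' + (w - a ^ n * w') := by ring
  rw [this]
  refine Submodule.add_mem_sup ?_ h4
  rw [Ideal.span_singleton_pow]
  exact Ideal.mem_span_singleton'.mpr ⟨w', by ring⟩

lemma step (a b : A) (J J' : Ideal A) (hJ' : J' = J ⊔ Ideal.span {b}) (N : ℕ)
    (hb : ∀ w, b * w ∈ J → w ∈ J)
    (hN : ∀ x : A ⧸ J', (∃ m : ℕ, a ^ m • x = 0) → a ^ N • x = 0)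
    (hker : ∀ x : AdicCompletion (Ideal.span {a}) A,
      AdicCompletion.map (Ideal.span {a}) J.mkQ x = 0 ↔
      x ∈ J.map (algebraMap A (AdicCompletion (Ideal.span {a}) A))) :
    (∀ z : AdicCompletion (Ideal.span {a}) A,
      algebraMap A (AdicCompletion (Ideal.span {a}) A) b * z ∈
        J.map (algebraMap A (AdicCompletion (Ideal.span {a}) A)) →
      z ∈ J.map (algebraMap A (AdicCompletion (Ideal.span {a}) A))) ∧
    ∀ x : AdicCompletion (Ideal.span {a}) A,
      AdicCompletion.map (Ideal.span {a}) J'.mkQ x = 0 ↔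
      x ∈ J'.map (algebraMap A (AdicCompletion (Ideal.span {a}) A)) := by
  have K := keyK a b J J' hJ' N hb hN
  subst hJ'
  constructor
  · intro z hz
    rw [← hker] at hz ⊢
    obtain ⟨y, rfl⟩ := mk_surjective _ _ z
    have e : algebraMap A (AdicCompletion (Ideal.span {a}) A) b * mk (Ideal.span {a}) A y =
        mk (Ideal.span {a}) A (b • y) := by
      rw [← Algebra.smul_def, map_smul]
    rw [e, map_mk_eq_zero_iff] at hz
    rw [map_mk_eq_zero_iff]
    intro n
    have h1 := K n (y (n + N)) (by simpa using hz (n + N))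
    have h2 := cauchy_sub_mem _ y (Nat.le_add_right n N)
    have : y n = (y n - y (n + N)) + y (n + N) := by ring
    rw [this]
    exact add_mem (Ideal.mem_sup_left h2) h1
  · intro x
    constructor
    · intro hx
      obtain ⟨y, rfl⟩ := mk_surjective _ _ x
      rw [map_mk_eq_zero_iff] at hx
      have hdec : ∀ n, ∃ t j w, t ∈ (Ideal.span {a}) ^ n ∧ j ∈ J ∧ y n = t + j + b * w := by
        intro n
        obtain ⟨t, ht, s, hs, hts⟩ := Submodule.mem_sup.mp (hx n)
        obtain ⟨j, hj, c, hc, hjc⟩ := Submodule.mem_sup.mp hs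
        obtain ⟨w, rfl⟩ := Ideal.mem_span_singleton'.mp hc
        exact ⟨t, j, w, ht, hj, by rw [← hts, ← hjc]; ring⟩
      choose t j w ht hj hy using hdec
      have hw : ∀ n, w (n + N) - w (n + 1 + N) ∈ (Ideal.span {a}) ^ n ⊔ J := by
        intro n
        have e : n + 1 + N = n + N + 1 := by omega
        rw [e]
        apply K
        have h1 := cauchy_sub_mem _ y (Nat.le_succ (n + N))
        have : b * (w (n + N) - w (n + N + 1)) =
            (y (n + N) - y (n + N + 1)) - t (n + N) + t (n + N + 1) +
              (j (n + N + 1) - j (n + N)) := by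
          rw [hy (n + N), hy (n + N + 1)]; ring
        rw [this]
        refine add_mem (Ideal.mem_sup_left ?_) (Ideal.mem_sup_right (J.sub_mem (hj _) (hj _)))
        exact add_mem (sub_mem h1 (ht _)) (Ideal.pow_le_pow_right (Nat.le_succ _) (ht _))
      obtain ⟨v, hv⟩ : ∃ v : AdicCauchySequence (Ideal.span {a}) (A ⧸ J),
          ∀ n, v n = J.mkQ (w (n + N)) :=
        ⟨AdicCauchySequence.mk _ _ (fun n => J.mkQ (w (n + N))) (by
          intro n
          rw [SModEq.sub_mem, ← map_sub, mkQ_mem_smul_top_iff]
          exact hw n), fun n => rfl⟩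
      obtain ⟨z, hz⟩ := AdicCompletion.map_surjective (Ideal.span {a})
        (Submodule.mkQ_surjective J) (mk (Ideal.span {a}) (A ⧸ J) v)
      have hxz : AdicCompletion.map (Ideal.span {a}) J.mkQ (mk (Ideal.span {a}) A y -
          algebraMap A (AdicCompletion (Ideal.span {a}) A) b * z) = 0 := by
        rw [map_sub, ← smul_eq_mul, map_smul, hz, algebraMap_smul, map_mk,
          ← map_smul, ← map_sub, mk_eq_zero_iff]
        intro n
        rw [AdicCauchySequence.sub_apply, AdicCauchySequence.smul_apply,
          AdicCauchySequence.map_apply_coe, hv, ← map_smul, ← map_sub, mkQ_mem_smul_top_iff]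
        have h1 := cauchy_sub_mem _ y (Nat.le_add_right n N)
        have : y n - b • w (n + N) = (y n - y (n + N)) + (t (n + N) + j (n + N)) := by
          rw [hy (n + N), smul_eq_mul]; ring
        rw [this]
        refine add_mem (Ideal.mem_sup_left h1) (add_mem (Ideal.mem_sup_left ?_)
          (Ideal.mem_sup_right (hj _)))
        exact Ideal.pow_le_pow_right (Nat.le_add_right n N) (ht _)
      rw [hker] at hxz
      have : mk (Ideal.span {a}) A y = (mk (Ideal.span {a}) A y -
          algebraMap A (AdicCompletion (Ideal.span {a}) A) b * z) +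
          algebraMap A (AdicCompletion (Ideal.span {a}) A) b * z := by ring
      rw [this]
      exact add_mem (Ideal.map_mono le_sup_left hxz) (Ideal.mul_mem_right _ _
        (Ideal.mem_map_of_mem _ (Ideal.mem_sup_right (Ideal.mem_span_singleton_self b))))
    · intro hx
      refine Submodule.span_induction
        (p := fun x _ => AdicCompletion.map (Ideal.span {a}) (J ⊔ Ideal.span {b}).mkQ x = 0)
        ?_ ?_ ?_ ?_ hx
      · rintro _ ⟨r, hr, rfl⟩
        rw [AdicCompletion.algebraMap_apply, map_of]
        have : (J ⊔ Ideal.span {b}).mkQ ((algebraMap A A) r) = 0 :=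
          (Submodule.Quotient.mk_eq_zero _).mpr hr
        rw [this, _root_.map_zero]
      · exact _root_.map_zero _
      · intro x y _ _ hx hy
        rw [map_add, hx, hy, add_zero]
      · intro s x _ hx
        rw [map_smul, hx, smul_zero]

end Helpers


open RingTheory.Sequence in
/-- Let A be a commutative ring, a an element of A with a-adic completion A^, and a_1, ..., a_n a weakly
regular sequence on A such that for each i = 0, ..., n the quotient A/(a_1, ..., a_i) has bounded
a-power torsion (some fixed power of a kills every element killed by a power of a). Then the images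
of a_1, ..., a_n form a weakly regular sequence on A^, and the canonical map from A^ to the a-adic
completion of A/(a_1, ..., a_n) is surjective with kernel the ideal generated by the images of a_1,
..., a_n. -/
theorem result (A : Type u) [CommRing A] (a : A) (rs : List A)
    (hreg : IsWeaklyRegular A rs)
    (hbd : ∀ i ≤ rs.length, ∃ N : ℕ, ∀ x : A ⧸ Ideal.ofList (rs.take i), (∃ m : ℕ, a ^ m • x = 0) → a ^ N • x = 0) :
    IsWeaklyRegular (AdicCompletion (Ideal.span {a}) A)
        (rs.map (algebraMap A (AdicCompletion (Ideal.span {a}) A))) ∧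
      Function.Surjective (AdicCompletion.map (Ideal.span {a}) (Ideal.ofList rs).mkQ) ∧
      LinearMap.ker (AdicCompletion.map (Ideal.span {a}) (Ideal.ofList rs).mkQ) =
        (Ideal.ofList rs).map (algebraMap A (AdicCompletion (Ideal.span {a}) A)) := by
  have hregb : ∀ i (hi : i < rs.length), ∀ w, rs[i] * w ∈ Ideal.ofList (rs.take i) →
      w ∈ Ideal.ofList (rs.take i) := by
    intro i hi w hw
    have := (isSMulRegular_quotient_iff_mem_of_smul_mem _ _).mp
      (hreg.regular_mod_prev i hi) w (by simpa using hw)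
    simpa using this
  have hJ' : ∀ i (hi : i < rs.length), Ideal.ofList (rs.take (i + 1)) =
      Ideal.ofList (rs.take i) ⊔ Ideal.span {rs[i]} := by
    intro i hi
    rw [List.take_succ_eq_append_getElem hi, Ideal.ofList_append, Ideal.ofList_singleton]
  have P : ∀ i, i ≤ rs.length → ∀ x : AdicCompletion (Ideal.span {a}) A,
      AdicCompletion.map (Ideal.span {a}) (Ideal.ofList (rs.take i)).mkQ x = 0 ↔
        x ∈ (Ideal.ofList (rs.take i)).map (algebraMap A (AdicCompletion (Ideal.span {a}) A)) := by
    intro i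
    induction i with
    | zero =>
      intro _ x
      rw [List.take_zero, Ideal.ofList_nil, Ideal.map_bot]
      constructor
      · intro hx
        obtain ⟨y, rfl⟩ := AdicCompletion.mk_surjective _ _ x
        rw [map_mk_eq_zero_iff] at hx
        rw [Ideal.mem_bot, mk_eq_zero_iff]
        intro n
        have := hx n
        rw [sup_bot_eq] at this
        simpa using this
      · intro hx
        rw [Ideal.mem_bot] at hx
        rw [hx, map_zero]
    | succ i ih =>
      intro hi
      have hi' : i < rs.length := hi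
      obtain ⟨N, hN⟩ := hbd (i + 1) hi
      exact (step a rs[i] _ _ (hJ' i hi') N (hregb i hi') hN (ih (le_of_lt hi'))).2
  refine ⟨?_, AdicCompletion.map_surjective _ (Submodule.mkQ_surjective _), ?_⟩
  · constructor
    intro i hi
    have hi' : i < rs.length := by simpa using hi
    rw [isSMulRegular_quotient_iff_mem_of_smul_mem]
    have e : (Ideal.ofList ((rs.map (algebraMap A (AdicCompletion (Ideal.span {a}) A))).take i) • ⊤ :
        Submodule (AdicCompletion (Ideal.span {a}) A) (AdicCompletion (Ideal.span {a}) A)) =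
        (Ideal.ofList (rs.take i)).map (algebraMap A (AdicCompletion (Ideal.span {a}) A)) := by
      rw [Ideal.map_ofList, List.map_take]; simp
    rw [e]
    have hb' : (rs.map (algebraMap A (AdicCompletion (Ideal.span {a}) A)))[i] =
        algebraMap A (AdicCompletion (Ideal.span {a}) A) rs[i] := by simp
    rw [hb']
    intro z hz
    obtain ⟨N, hN⟩ := hbd (i + 1) hi'
    exact (step a rs[i] _ _ (hJ' i hi') N (hregb i hi') hN (P i (le_of_lt hi'))).1 z
      (by simpa [smul_eq_mul] using hz)
  · have := P rs.length le_rfl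
    rw [List.take_length] at this
    exact Submodule.ext fun x => LinearMap.mem_ker.trans (this x)

end Groth.Agent.S14275
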