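import Groth.Statements.S14295
import Mathlib.Tactic

set_option autoImplicit false
universe u v
open PtDeg

namespace Groth.Agent.S14295

theorem two_mul_tri (n : ℤ) : 2 * (n * (n + 1) / 2) = n * (n + 1) :=
  Int.mul_ediv_cancel' (even_iff_two_dvd.mp (Int.even_mul_succ_self n))

theorem two_mul_tri' (n : ℤ) : 2 * (n * (n - 1) / 2) = n * (n - 1) := by
  have h := two_mul_tri (n - 1)
  have e : (n - 1) * (n - 1 + 1) = n * (n - 1) := by ring
  rw [e] at h
  exact h

section
variable {A : Type u} {G : Type v} [AddCommGroup A] [AddCommGroup G]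
    (f : A → G) (hf : ∀ x y z : A, f (x + y + z) + f x + f y + f z = f (x + y) + f (x + z) + f (y + z))
include hf

theorem map_zero : f 0 = 0 := by
  have h := hf 0 0 0
  simp only [add_zero] at h
  -- h : f 0 + f 0 + f 0 + f 0 = f 0 + f 0 + f 0
  have h2 : (f 0 + f 0 + f 0) + f 0 = (f 0 + f 0 + f 0) + 0 := by rw [add_zero]; exact h
  exact add_left_cancel h2

/-- the recurrence -/
theorem recur (m : ℤ) (x : A) :
    f ((m + 1) • x) + f ((m - 1) • x) = f (m • x) + f (m • x) + f x + f (-x) := by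
  have h := hf (m • x) x (-x)
  have e1 : m • x + x + -x = m • x := by abel
  have e2 : m • x + x = (m + 1) • x := by rw [add_smul, one_smul]
  have e3 : m • x + -x = (m - 1) • x := by rw [sub_smul, one_smul, sub_eq_add_neg]
  have e4 : x + -x = 0 := by abel
  rw [e1, e2, e3, e4, map_zero f hf, add_zero] at h
  exact h.symm

theorem formula (n : ℤ) (x : A) :
    f (n • x) = (n * (n + 1) / 2) • f x + (n * (n - 1) / 2) • f (-x) := by
  suffices H : ∀ n : ℤ, (f (n • x) = (n * (n + 1) / 2) • f x + (n * (n - 1) / 2) • f (-x)) ∧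
      (f ((n + 1) • x) = ((n + 1) * (n + 1 + 1) / 2) • f x + ((n + 1) * (n + 1 - 1) / 2) • f (-x)) from
    (H n).1
  intro n
  induction n using Int.induction_on with
  | zero =>
    refine ⟨?_, ?_⟩
    · simp [map_zero f hf]
    · norm_num
  | succ k ih =>
    obtain ⟨h0, h1⟩ := ih
    refine ⟨h1, ?_⟩
    have hr := recur f hf ((k : ℤ) + 1) x
    have e : ((k : ℤ) + 1 - 1) = k := by ring
    rw [e] at hr
    -- f ((k+1+1) • x) = 2 f((k+1)•x) + f x + f(-x) - f(k • x)
    have key : f (((k : ℤ) + 1 + 1) • x) =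
        f (((k : ℤ) + 1) • x) + f (((k : ℤ) + 1) • x) + f x + f (-x) - f ((k : ℤ) • x) :=
      eq_sub_of_add_eq hr
    rw [key, h0, h1]
    have a1 := two_mul_tri ((k : ℤ) + 1 + 1)
    have a2 := two_mul_tri' ((k : ℤ) + 1 + 1)
    have b1 := two_mul_tri ((k : ℤ) + 1)
    have b2 := two_mul_tri' ((k : ℤ) + 1)
    have c1 := two_mul_tri (k : ℤ)
    have c2 := two_mul_tri' (k : ℤ)
    generalize ((k : ℤ) + 1 + 1) * ((k : ℤ) + 1 + 1 + 1) / 2 = A1 at *
    generalize ((k : ℤ) + 1 + 1) * ((k : ℤ) + 1 + 1 - 1) / 2 = A2 at *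
    generalize ((k : ℤ) + 1) * ((k : ℤ) + 1 + 1) / 2 = B1 at *
    generalize ((k : ℤ) + 1) * ((k : ℤ) + 1 - 1) / 2 = B2 at *
    generalize (k : ℤ) * ((k : ℤ) + 1) / 2 = C1 at *
    generalize (k : ℤ) * ((k : ℤ) - 1) / 2 = C2 at *
    have hA1 : A1 = B1 + B1 + 1 - C1 := by nlinarith
    have hA2 : A2 = B2 + B2 + 1 - C2 := by nlinarith
    rw [hA1, hA2]
    module
  | pred k ih =>
    obtain ⟨h0, h1⟩ := ih
    have e0 : (-(k : ℤ) - 1 + 1) = -(k : ℤ) := by ring
    refine ⟨?_, by rw [e0]; exact h0⟩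
    have hr := recur f hf (-(k : ℤ)) x
    have key : f ((-(k : ℤ) - 1) • x) =
        f ((-(k : ℤ)) • x) + f ((-(k : ℤ)) • x) + f x + f (-x) - f ((-(k : ℤ) + 1) • x) :=
      eq_sub_of_add_eq' hr
    rw [key, h0, h1]
    have a1 := two_mul_tri (-(k : ℤ) - 1)
    have a2 := two_mul_tri' (-(k : ℤ) - 1)
    have b1 := two_mul_tri (-(k : ℤ))
    have b2 := two_mul_tri' (-(k : ℤ))
    have c1 := two_mul_tri (-(k : ℤ) + 1)
    have c2 := two_mul_tri' (-(k : ℤ) + 1)
    generalize (-(k : ℤ) - 1) * (-(k : ℤ) - 1 + 1) / 2 = A1 at *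
    generalize (-(k : ℤ) - 1) * (-(k : ℤ) - 1 - 1) / 2 = A2 at *
    generalize (-(k : ℤ)) * (-(k : ℤ) + 1) / 2 = B1 at *
    generalize (-(k : ℤ)) * (-(k : ℤ) - 1) / 2 = B2 at *
    generalize (-(k : ℤ) + 1) * (-(k : ℤ) + 1 + 1) / 2 = C1 at *
    generalize (-(k : ℤ) + 1) * (-(k : ℤ) + 1 - 1) / 2 = C2 at *
    have hA1 : A1 = B1 + B1 + 1 - C1 := by nlinarith
    have hA2 : A2 = B2 + B2 + 1 - C2 := by nlinarith
    rw [hA1, hA2]
    module

end

/-- Let A and G be abelian groups, written additively, and f : A → G a map which is pointed of degree 2,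
that is f(x+y+z) + f(x) + f(y) + f(z) = f(x+y) + f(x+z) + f(y+z) for all x, y, z in A. Then for
every integer n and every x in A one has f(n·x) = (n(n+1)/2)·f(x) + (n(n−1)/2)·f(−x) (the two
coefficients are the integers n(n+1)/2 and n(n−1)/2). -/
theorem result {A : Type u} {G : Type v} [AddCommGroup A] [AddCommGroup G]
    (f : A → G) (hf : ∀ x y z : A, f (x + y + z) + f x + f y + f z = f (x + y) + f (x + z) + f (y + z))
    (n : ℤ) (x : A) :
    f (n • x) = (n * (n + 1) / 2) • f x + (n * (n - 1) / 2) • f (-x) := by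
  exact formula f hf n x

end Groth.Agent.S14295
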