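import Groth.Statements.S14294
import Groth.Agent.S14295

set_option autoImplicit false
universe u v
open PtDeg

namespace Groth.Agent.S14294

section
variable {A : Type u} {G : Type v} [AddCommGroup A] [AddCommGroup G]
    (f : A → G) (hf : ∀ x y z : A, f (x + y + z) + f x + f y + f z = f (x + y) + f (x + z) + f (y + z))
    (n : ℤ) (hn : ∀ x : A, n • x = 0)
include hf hn

theorem keyA (x : A) : (n * (n + 1) / 2) • (f x + f (-x)) + n • f x = 0 := by
  have h := Groth.Agent.S14295.result f hf (n + 1) x
  have e : (n + 1) • x = x := by rw [add_smul, hn, one_smul, zero_add]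
  rw [e] at h
  have a1 := Groth.Agent.S14295.two_mul_tri (n + 1)
  have a2 := Groth.Agent.S14295.two_mul_tri' (n + 1)
  have b1 := Groth.Agent.S14295.two_mul_tri n
  generalize (n + 1) * (n + 1 + 1) / 2 = A1 at *
  generalize (n + 1) * (n + 1 - 1) / 2 = A2 at *
  generalize n * (n + 1) / 2 = B1 at *
  have hA1 : A1 = B1 + n + 1 := by nlinarith
  have hA2 : A2 = B1 := by nlinarith
  rw [hA1, hA2] at h
  have e2 : B1 • (f x + f (-x)) + n • f x = ((B1 + n + 1) • f x + B1 • f (-x)) - f x := by module
  rw [e2, ← h, sub_self]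

theorem keyB (x : A) : (n * (n + 1) / 2) • (f x + f (-x)) - n • f x = 0 := by
  have h := Groth.Agent.S14295.result f hf n (-x)
  rw [hn, Groth.Agent.S14295.map_zero f hf, neg_neg] at h
  have b1 := Groth.Agent.S14295.two_mul_tri n
  have b2 := Groth.Agent.S14295.two_mul_tri' n
  generalize n * (n + 1) / 2 = B1 at *
  generalize n * (n - 1) / 2 = B2 at *
  have hB2 : B2 = B1 - n := by nlinarith
  rw [hB2] at h
  have e2 : B1 • (f x + f (-x)) - n • f x = B1 • f (-x) + (B1 - n) • f x := by module
  rw [e2, ← h]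

theorem hsum (x : A) : n • (f x + f (-x)) = 0 := by
  have h1 := keyA f hf n hn x
  have h2 := keyB f hf n hn (-x)
  rw [neg_neg] at h2
  have e2 : n • (f x + f (-x)) = ((n * (n + 1) / 2) • (f x + f (-x)) + n • f x)
      - ((n * (n + 1) / 2) • (f (-x) + f x) - n • f (-x)) := by module
  rw [e2, h1, h2, sub_zero]

end

/-- Let A and G be abelian groups, written additively, and f : A → G a map which is pointed of degree 2,
that is f(x+y+z) + f(x) + f(y) + f(z) = f(x+y) + f(x+z) + f(y+z) for all x, y, z in A. If an integer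
n satisfies n·x = 0 for every x in A, then 2n·f(x) = 0 for every x in A, and if moreover n is odd
then n·f(x) = 0 for every x in A. -/
theorem result {A : Type u} {G : Type v} [AddCommGroup A] [AddCommGroup G]
    (f : A → G) (hf : ∀ x y z : A, f (x + y + z) + f x + f y + f z = f (x + y) + f (x + z) + f (y + z))
    (n : ℤ) (hn : ∀ x : A, n • x = 0) :
    (∀ x : A, (2 * n) • f x = 0) ∧ (Odd n → ∀ x : A, n • f x = 0) := by
  refine ⟨?_, ?_⟩
  · intro x
    have e2 : (2 * n) • f x = ((n * (n + 1) / 2) • (f x + f (-x)) + n • f x)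
        - ((n * (n + 1) / 2) • (f x + f (-x)) - n • f x) := by module
    rw [e2, keyA f hf n hn, keyB f hf n hn, sub_zero]
  · rintro ⟨m, rfl⟩ x
    have h1 := keyA f hf _ hn x
    have h3 := hsum f hf _ hn x
    have b1 := Groth.Agent.S14295.two_mul_tri (2 * m + 1)
    generalize (2 * m + 1) * (2 * m + 1 + 1) / 2 = B1 at *
    have hB1 : B1 = (m + 1) * (2 * m + 1) := by nlinarith
    rw [hB1] at h1
    have e2 : (2 * m + 1) • f x = (((m + 1) * (2 * m + 1)) • (f x + f (-x)) + (2 * m + 1) • f x)
        - (m + 1) • ((2 * m + 1) • (f x + f (-x))) := by module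
    rw [e2, h1, h3, smul_zero, sub_zero]

end Groth.Agent.S14294
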