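import Groth.Statements.S14305
import Mathlib

set_option autoImplicit false
universe u v
open PtDeg

namespace Groth.Agent.S14305

section aux

variable {A : Type u} {G : Type v} [AddCommGroup A] [AddCommGroup G]

/-- shifted alternating sum over the powerset -/
noncomputable def E (f : A → G) {ι : Type} (S : Finset ι) (x : ι → A) (c : A) : G :=
  ∑ I ∈ S.powerset, ((-1 : ℤ) ^ I.card) • f (c + ∑ i ∈ I, x i)

lemma E_insert (f : A → G) {ι : Type} [DecidableEq ι] (S : Finset ι) (j : ι) (hj : j ∉ S)
    (x : ι → A) (c : A) : E f (insert j S) x c = E f S x c - E f S x (c + x j) := by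
  unfold E
  rw [Finset.sum_powerset_insert hj, sub_eq_add_neg, ← Finset.sum_neg_distrib]
  congr 1
  apply Finset.sum_congr rfl
  intro I hI
  have hjI : j ∉ I := fun h => hj (Finset.mem_powerset.mp hI h)
  rw [Finset.card_insert_of_notMem hjI, Finset.sum_insert hjI, pow_succ, mul_neg_one, neg_smul,
    add_assoc]

lemma E_congr (f : A → G) {ι : Type} (S : Finset ι) (x y : ι → A) (h : ∀ i ∈ S, x i = y i) (c : A) :
    E f S x c = E f S y c := by
  unfold E
  apply Finset.sum_congr rfl
  intro I hI
  rw [Finset.sum_congr rfl (fun i hi => h i (Finset.mem_powerset.mp hI hi))]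

lemma E_map (f : A → G) {ι κ : Type} (e : ι ↪ κ) (S : Finset ι) (x : κ → A) (c : A) :
    E f (S.map e) x c = E f S (x ∘ e) c := by
  classical
  unfold E
  rw [Finset.map_eq_image, Finset.powerset_image,
    Finset.sum_image (Finset.image_injOn_powerset_of_injOn e.injective.injOn)]
  apply Finset.sum_congr rfl
  intro I hI
  rw [Finset.card_image_of_injective _ e.injective,
    Finset.sum_image (fun a _ b _ h => e.injective h)]
  rfl

/-- the k-th deviation -/
noncomputable def dev (f : A → G) (k : ℕ) (x : Fin k → A) : G :=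
  ∑ I ∈ ((Finset.univ : Finset (Fin k))).powerset.erase ∅,
    ((-1 : ℤ) ^ (k + I.card)) • f (∑ i ∈ I, x i)

lemma dev_eq (f : A → G) (k : ℕ) (x : Fin k → A) :
    dev f k x = ((-1 : ℤ) ^ k) • (E f Finset.univ x 0 - f 0) := by
  unfold dev
  rw [Finset.sum_erase_eq_sub (Finset.empty_mem_powerset _)]
  simp only [Finset.card_empty, Finset.sum_empty, add_zero]
  unfold E
  rw [smul_sub, Finset.smul_sum]
  congr 1
  apply Finset.sum_congr rfl
  intro I _
  rw [zero_add, pow_add, mul_smul]

lemma E_univ_update (f : A → G) (n : ℕ) (y : Fin n → A) (j : Fin n) (c d : A) :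
    E f Finset.univ (Function.update y j c) d =
      E f (Finset.univ.erase j) y d - E f (Finset.univ.erase j) y (d + c) := by
  have h1 : (Finset.univ : Finset (Fin n)) = insert j (Finset.univ.erase j) :=
    (Finset.insert_erase (Finset.mem_univ j)).symm
  have hne : ∀ i ∈ (Finset.univ.erase j : Finset (Fin n)), Function.update y j c i = y i := by
    intro i hi
    exact Function.update_of_ne (Finset.ne_of_mem_erase hi) _ _
  conv_lhs => rw [h1]
  rw [E_insert f _ j (Finset.notMem_erase j _), Function.update_self,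
    E_congr f _ _ _ hne, E_congr f _ _ _ hne]

lemma E_snoc (f : A → G) (n : ℕ) (y : Fin n → A) (b : A) :
    E f Finset.univ (Fin.snoc y b : Fin (n + 1) → A) 0 =
      E f Finset.univ y 0 - E f Finset.univ y b := by
  rw [Fin.univ_castSuccEmb, Finset.cons_eq_insert, E_insert f _ _ (by simp), E_map, E_map]
  have : ((Fin.snoc y b : Fin (n + 1) → A) ∘ (Fin.castSuccEmb : Fin n ↪ Fin (n + 1))) = y := by
    funext i
    simp
  rw [this, Fin.snoc_last, zero_add]

lemma key (f : A → G) (n : ℕ) (y : Fin n → A) (j : Fin n) (a b : A) :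
    dev f (n + 1) (Fin.snoc (Function.update y j a) b : Fin (n + 1) → A) =
      dev f n (Function.update y j (a + b)) - dev f n (Function.update y j a)
        - dev f n (Function.update y j b) := by
  rw [dev_eq, dev_eq, dev_eq, dev_eq, E_snoc]
  simp only [E_univ_update]
  rw [pow_succ, add_comm b a]
  simp only [zero_add, mul_neg, mul_one, neg_smul, smul_sub]
  abel

end aux

/-- Let A and G be abelian groups, written additively, f : A → G a map and n ≥ 1. For k ≥ 0 the k-th
deviation of f is the map A^k → G, (y_1, …, y_k) ↦ Σ_{∅ ≠ I ⊆ {1,…,k}} (−1)^{k+|I|} f(Σ_{i ∈ I}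
y_i). Then f is pointed of degree n, meaning that its (n+1)-st deviation vanishes identically, if
and only if its n-th deviation is additive in each variable separately (with the other variables
fixed). -/
theorem result {A : Type u} {G : Type v} [AddCommGroup A] [AddCommGroup G]
    (f : A → G) (n : ℕ) (hn : 1 ≤ n) :
    (∀ x : Fin (n + 1) → A, ∑ I ∈ ((Finset.univ : Finset (Fin (n + 1))).powerset.erase ∅), ((-1 : ℤ) ^ (n + 1 + I.card)) • f (∑ i ∈ I, x i) = 0) ↔
      (∀ (j : Fin n) (y : Fin n → A) (a b : A),
        ∑ I ∈ ((Finset.univ : Finset (Fin n)).powerset.erase ∅), ((-1 : ℤ) ^ (n + I.card)) • f (∑ i ∈ I, (Function.update y j (a + b)) i) =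
          ∑ I ∈ ((Finset.univ : Finset (Fin n)).powerset.erase ∅), ((-1 : ℤ) ^ (n + I.card)) • f (∑ i ∈ I, (Function.update y j a) i) + ∑ I ∈ ((Finset.univ : Finset (Fin n)).powerset.erase ∅), ((-1 : ℤ) ^ (n + I.card)) • f (∑ i ∈ I, (Function.update y j b) i)) := by
  change (∀ x : Fin (n + 1) → A, dev f (n + 1) x = 0) ↔
    (∀ (j : Fin n) (y : Fin n → A) (a b : A),
      dev f n (Function.update y j (a + b)) =
        dev f n (Function.update y j a) + dev f n (Function.update y j b))
  constructor
  · intro h j y a b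
    have := key f n y j a b
    rw [h, eq_comm, sub_sub, sub_eq_zero] at this
    exact this
  · intro h x
    let j : Fin n := ⟨0, hn⟩
    have hx : x = Fin.snoc (Function.update (Fin.init x) j (Fin.init x j)) (x (Fin.last n)) := by
      rw [Function.update_eq_self, Fin.snoc_init_self]
    rw [hx, key, h]
    abel

end Groth.Agent.S14305
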