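import Groth.Statements.S14309
import Mathlib

set_option autoImplicit false
universe u v w x y
open CAlg

namespace Groth.Agent.S14309

theorem decomp {R : Type*} [CommRing R] {σ : Type*} (w : MvPolynomial (Option σ) R) :
    ∃ (w0 : MvPolynomial σ R) (w1 : MvPolynomial (Option σ) R),
      w = MvPolynomial.rename (Option.some : σ → Option σ) w0 + MvPolynomial.X none * w1 := by
  induction w using MvPolynomial.induction_on with
  | C r => exact ⟨MvPolynomial.C r, 0, by simp⟩
  | add x y hx hy =>
    obtain ⟨x0, x1, rfl⟩ := hx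
    obtain ⟨y0, y1, rfl⟩ := hy
    exact ⟨x0 + y0, x1 + y1, by rw [map_add]; ring⟩
  | mul_X x s hx =>
    obtain ⟨x0, x1, rfl⟩ := hx
    cases s with
    | none => exact ⟨0, MvPolynomial.rename (Option.some : σ → Option σ) x0 + MvPolynomial.X none * x1, by
        rw [map_zero]; ring⟩
    | some s => exact ⟨x0 * MvPolynomial.X s, x1 * MvPolynomial.X (some s), by
        rw [map_mul, MvPolynomial.rename_X]; ring⟩

/-- Let R be a commutative ring; A, B, C commutative R-algebras; i : A → B and j : A → C jointly
injective R-algebra maps; c a non-zero-divisor of B; u : C → B/(c) a ring map with u ∘ j equal to i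
followed by reduction modulo c; ζ in A with i ζ = c and j ζ = 0; η : R[X_σ, Z] → A an R-algebra map
with η(Z) = ζ; a : R[Y_τ] → B a surjective R-algebra map; η_Z : R[X_σ, Z] → R[Y_τ] a surjective
R-algebra map with a ∘ η_Z = i ∘ η. Fix c̃ in R[Y_τ] with a(c̃) = c, a family (p_h) generating the
kernel of the composite R[X_σ] → R[X_σ, Z] → A → C, a family (q'_h) generating the kernel of a
together with lifts q_h along η_Z, a family (v_h) generating the kernel of η_Z, and elements g'_h of
R[Y_τ] with η_Z(p_h) + g'_h c̃ in the ideal (q'_h), together with lifts g_h along η_Z. Then the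
kernel of η is the ideal generated by the elements Z q_h, Z v_h and p_h + Z g_h. (The published
statement is for the rings of cycle classes, with coefficients ℤ[1/6], of a smooth quotient stack, a
smooth closed substack whose normal bundle has top Chern class c a non-zero-divisor, and the open
complement; this row states the ring-theoretic content for any such square of commutative rings in
which A embeds in B × C.) -/
theorem result
    {R : Type u} [CommRing R] {A : Type v} {B : Type w} {C : Type x}
    [CommRing A] [CommRing B] [CommRing C] [Algebra R A] [Algebra R B] [Algebra R C]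
    (i : A →ₐ[R] B) (j : A →ₐ[R] C)
    (hinj : ∀ t : A, i t = 0 → j t = 0 → t = 0)
    (c : B) (hc : c ∈ nonZeroDivisors B) (u : C →+* B ⧸ Ideal.span ({c} : Set B))
    (hu : ∀ t : A, u (j t) = Ideal.Quotient.mk (Ideal.span ({c} : Set B)) (i t))
    (ζ : A) (hiζ : i ζ = c) (hjζ : j ζ = 0)
    {σ τ ιp ιq ιv : Type y}
    (η : MvPolynomial (Option σ) R →ₐ[R] A) (hη : η (MvPolynomial.X none) = ζ)
    (a : MvPolynomial τ R →ₐ[R] B) (ha : Function.Surjective a)
    (ηZ : MvPolynomial (Option σ) R →ₐ[R] MvPolynomial τ R)
    (hcomm : ∀ t, a (ηZ t) = i (η t)) (hηZ : Function.Surjective ηZ)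
    (cZ : MvPolynomial τ R) (hcZ : a cZ = c)
    (p : ιp → MvPolynomial σ R)
    (hp : Ideal.span (Set.range p) =
      RingHom.ker ((j.comp η).comp (MvPolynomial.rename (Option.some : σ → Option σ))))
    (q' : ιq → MvPolynomial τ R) (hq' : Ideal.span (Set.range q') = RingHom.ker a)
    (q : ιq → MvPolynomial (Option σ) R) (hq : ∀ h, ηZ (q h) = q' h)
    (v : ιv → MvPolynomial (Option σ) R) (hv : Ideal.span (Set.range v) = RingHom.ker ηZ)
    (g' : ιp → MvPolynomial τ R)
    (hg' : ∀ h, ηZ (MvPolynomial.rename (Option.some : σ → Option σ) (p h)) + g' h * cZ ∈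
      Ideal.span (Set.range q'))
    (g : ιp → MvPolynomial (Option σ) R) (hg : ∀ h, ηZ (g h) = g' h) :
    RingHom.ker η = Ideal.span
      (Set.range (fun h : ιq => MvPolynomial.X none * q h) ∪
        Set.range (fun h : ιv => MvPolynomial.X none * v h) ∪
        Set.range (fun h : ιp =>
          MvPolynomial.rename (Option.some : σ → Option σ) (p h) + MvPolynomial.X none * g h)) := by
  classical
  set Zv : MvPolynomial (Option σ) R := MvPolynomial.X none with hZ
  set K := Ideal.span
      (Set.range (fun h : ιq => Zv * q h) ∪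
        Set.range (fun h : ιv => Zv * v h) ∪
        Set.range (fun h : ιp =>
          MvPolynomial.rename (Option.some : σ → Option σ) (p h) + Zv * g h)) with hK
  have hiZ : ∀ w, i (η (Zv * w)) = c * a (ηZ w) := by
    intro w; rw [map_mul, map_mul, hη, hiζ, hcomm]
  have hjZ : ∀ w, j (η (Zv * w)) = 0 := by
    intro w; rw [map_mul, map_mul, hη, hjζ, zero_mul]
  have hkerq' : ∀ y, y ∈ Ideal.span (Set.range q') ↔ a y = 0 := by
    intro y; rw [hq', RingHom.mem_ker]
  have hkerv : ∀ y, y ∈ Ideal.span (Set.range v) ↔ ηZ y = 0 := by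
    intro y; rw [hv, RingHom.mem_ker]
  have hkerp : ∀ y, y ∈ Ideal.span (Set.range p) ↔
      j (η (MvPolynomial.rename (Option.some : σ → Option σ) y)) = 0 := by
    intro y; rw [hp, RingHom.mem_ker]; rfl
  have hKle : ∀ w ∈ K, η w = 0 := by
    intro w hw
    have : K ≤ RingHom.ker η := by
      rw [hK, Ideal.span_le]
      rintro w ((⟨h, rfl⟩ | ⟨h, rfl⟩) | ⟨h, rfl⟩)
      · refine RingHom.mem_ker.2 (hinj _ ?_ (hjZ _))
        rw [hiZ, hq, (hkerq' _).1 (Ideal.subset_span ⟨h, rfl⟩), mul_zero]
      · refine RingHom.mem_ker.2 (hinj _ ?_ (hjZ _))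
        rw [hiZ, (hkerv _).1 (Ideal.subset_span ⟨h, rfl⟩), map_zero, mul_zero]
      · refine RingHom.mem_ker.2 (hinj _ ?_ ?_)
        · have h1 := (hkerq' _).1 (hg' h)
          rw [map_add, map_mul, hcZ, ← hg, hcomm, hcomm] at h1
          rw [map_add, map_add, hiZ, hcomm, mul_comm]
          exact h1
        · rw [map_add, map_add, hjZ, add_zero]
          exact (hkerp _).1 (Ideal.subset_span ⟨h, rfl⟩)
    exact RingHom.mem_ker.1 (this hw)
  apply le_antisymm
  · intro w hw
    rw [RingHom.mem_ker] at hw
    obtain ⟨w0, w1, rfl⟩ := decomp w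
    have h0 : w0 ∈ Ideal.span (Set.range p) := by
      rw [hkerp]
      have := congrArg j hw
      rw [map_add, map_add, hjZ, add_zero, map_zero] at this
      exact this
    have claim : ∀ w0 ∈ Ideal.span (Set.range p),
        ∃ w3, MvPolynomial.rename (Option.some : σ → Option σ) w0 + Zv * w3 ∈ K := by
      intro w0 hw0
      induction hw0 using Submodule.span_induction with
      | mem x hx =>
        obtain ⟨h, rfl⟩ := hx
        exact ⟨g h, Ideal.subset_span (Or.inr ⟨h, rfl⟩)⟩
      | zero => exact ⟨0, by simp⟩
      | add x y _ _ hx hy =>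
        obtain ⟨a1, h1⟩ := hx
        obtain ⟨a2, h2⟩ := hy
        refine ⟨a1 + a2, ?_⟩
        have := K.add_mem h1 h2
        convert this using 1
        rw [map_add]; ring
      | smul r x _ hx =>
        obtain ⟨a1, h1⟩ := hx
        refine ⟨MvPolynomial.rename (Option.some : σ → Option σ) r * a1, ?_⟩
        have := K.mul_mem_left (MvPolynomial.rename (Option.some : σ → Option σ) r) h1
        convert this using 1
        rw [smul_eq_mul, map_mul]; ring
    obtain ⟨w3, hw3⟩ := claim w0 h0
    have hw2 : Zv * (w1 - w3) ∈ K := by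
      have hη0 : η (Zv * (w1 - w3)) = 0 := by
        have : Zv * (w1 - w3) = (MvPolynomial.rename (Option.some : σ → Option σ) w0 + Zv * w1) -
            (MvPolynomial.rename (Option.some : σ → Option σ) w0 + Zv * w3) := by ring
        rw [this, map_sub, hw, hKle _ hw3, sub_zero]
      have h2 : c * a (ηZ (w1 - w3)) = 0 := by rw [← hiZ, hη0, map_zero]
      have h3 : a (ηZ (w1 - w3)) = 0 := by
        rw [mul_comm] at h2
        exact (mem_nonZeroDivisors_iff.1 hc).2 _ h2
      have h4 : ηZ (w1 - w3) ∈ Ideal.span (Set.range q') := (hkerq' _).2 h3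
      have claim2 : ∀ y ∈ Ideal.span (Set.range q'), ∃ w4, Zv * w4 ∈ K ∧ ηZ w4 = y := by
        intro y hy
        induction hy using Submodule.span_induction with
        | mem x hx =>
          obtain ⟨h, rfl⟩ := hx
          exact ⟨q h, Ideal.subset_span (Or.inl (Or.inl ⟨h, rfl⟩)), hq h⟩
        | zero => exact ⟨0, by simp, map_zero _⟩
        | add x y _ _ hx hy =>
          obtain ⟨a1, h1, e1⟩ := hx
          obtain ⟨a2, h2, e2⟩ := hy
          refine ⟨a1 + a2, ?_, by rw [map_add, e1, e2]⟩
          rw [mul_add]; exact K.add_mem h1 h2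
        | smul r x _ hx =>
          obtain ⟨a1, h1, e1⟩ := hx
          obtain ⟨r', rfl⟩ := hηZ r
          refine ⟨r' * a1, ?_, by rw [map_mul, e1, smul_eq_mul]⟩
          have := K.mul_mem_left r' h1
          convert this using 1; ring
      obtain ⟨w4, hw4K, hw4⟩ := claim2 _ h4
      have h5 : (w1 - w3) - w4 ∈ Ideal.span (Set.range v) := by
        rw [hkerv, map_sub, hw4, sub_self]
      have claim3 : ∀ y ∈ Ideal.span (Set.range v), Zv * y ∈ K := by
        intro y hy
        induction hy using Submodule.span_induction with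
        | mem x hx =>
          obtain ⟨h, rfl⟩ := hx
          exact Ideal.subset_span (Or.inl (Or.inr ⟨h, rfl⟩))
        | zero => simp
        | add x y _ _ hx hy => rw [mul_add]; exact K.add_mem hx hy
        | smul r x _ hx =>
          have := K.mul_mem_left r hx
          convert this using 1; rw [smul_eq_mul]; ring
      have := K.add_mem (claim3 _ h5) hw4K
      convert this using 1; ring
    have := K.add_mem hw3 hw2
    convert this using 1; ring
  · intro w hw
    exact RingHom.mem_ker.2 (hKle w hw)

end Groth.Agent.S14309
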