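import Groth.Statements.S1432
import Mathlib

set_option autoImplicit false
universe u
open FlatMor

namespace Groth.Agent.S1432

section Helpers
open AlgebraicGeometry CategoryTheory TopologicalSpace Limits

/-- the lifting property along `Spec` of injective ring maps -/
def Lifts {X Y : Scheme.{u}} (f : X ⟶ Y) : Prop :=
  ∀ (A B : Type u) [CommRing A] [CommRing B] (φ : A →+* B), Function.Injective φ →
    ∀ (a : Spec (CommRingCat.of B) ⟶ X) (b : Spec (CommRingCat.of A) ⟶ Y),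
      Spec.map (CommRingCat.ofHom φ) ≫ b = a ≫ f →
      ∃ l : Spec (CommRingCat.of A) ⟶ X, Spec.map (CommRingCat.ofHom φ) ≫ l = a ∧ l ≫ f = b

theorem lifts_of_isClosedImmersion {X Y : Scheme.{u}} (f : X ⟶ Y) [IsClosedImmersion f] :
    Lifts f := by
  intro A B _ _ φ hφ a b h
  haveI : IsClosedImmersion (pullback.snd f b) := inferInstance
  obtain ⟨t, ht⟩ : ∃ t : Spec (CommRingCat.of B) ⟶ pullback f b,
      t = pullback.lift a (Spec.map (CommRingCat.ofHom φ)) h.symm := ⟨_, rfl⟩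
  have ht2 : t ≫ pullback.snd f b = Spec.map (CommRingCat.ofHom φ) := by
    rw [ht]
    exact pullback.lift_snd _ _ _
  have ht1 : t ≫ pullback.fst f b = a := by
    rw [ht]
    exact pullback.lift_fst _ _ _
  have h3 := Scheme.ΓSpecIso_naturality (CommRingCat.ofHom φ)
  have h2 : Function.Injective (Spec.map (CommRingCat.ofHom φ)).appTop := by
    intro x y hxy
    have e : ∀ z, (Scheme.ΓSpecIso (CommRingCat.of B)).hom
        ((Spec.map (CommRingCat.ofHom φ)).appTop z) =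
        φ ((Scheme.ΓSpecIso (CommRingCat.of A)).hom z) := by
      intro z
      have e1 := ConcreteCategory.congr_hom h3 z
      exact e1
    have e2 : φ ((Scheme.ΓSpecIso (CommRingCat.of A)).hom x) =
        φ ((Scheme.ΓSpecIso (CommRingCat.of A)).hom y) := by
      rw [← e x, ← e y, hxy]
    exact (ConcreteCategory.bijective_of_isIso
      (Scheme.ΓSpecIso (CommRingCat.of A)).hom).injective (hφ e2)
  haveI : IsIso (pullback.snd f b) := by
    apply IsClosedImmersion.isIso_of_injective_of_isAffine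
    intro x y hxy
    apply h2
    have h1 : (pullback.snd f b).appTop ≫ t.appTop =
        (Spec.map (CommRingCat.ofHom φ)).appTop := by
      rw [← Scheme.Hom.comp_appTop, ht2]
    rw [← h1]
    change t.appTop ((pullback.snd f b).appTop x) = t.appTop ((pullback.snd f b).appTop y)
    rw [hxy]
  refine ⟨inv (pullback.snd f b) ≫ pullback.fst f b, ?_, ?_⟩
  · rw [← ht2, Category.assoc, IsIso.hom_inv_id_assoc, ht1]
  · rw [Category.assoc, pullback.condition, IsIso.inv_hom_id_assoc]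

theorem lifts_restrict {X Y : Scheme.{u}} (f : X ⟶ Y) (H : Lifts f) (V : Y.Opens) :
    Lifts (f ∣_ V) := by
  intro A B _ _ φ hφ a' b' h
  obtain ⟨l, hl1, hl2⟩ := H A B φ hφ (a' ≫ (f ⁻¹ᵁ V).ι) (b' ≫ V.ι) (by
    rw [← Category.assoc, h, Category.assoc, Category.assoc, morphismRestrict_ι])
  have hrange : Set.range l ⊆ Set.range (f ⁻¹ᵁ V).ι := by
    rw [Scheme.Opens.range_ι]
    rintro _ ⟨z, rfl⟩
    change f (l z) ∈ V
    rw [← Scheme.Hom.comp_apply, hl2, Scheme.Hom.comp_apply]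
    exact (b' z).2
  refine ⟨IsOpenImmersion.lift (f ⁻¹ᵁ V).ι l hrange, ?_, ?_⟩
  · rw [← cancel_mono (f ⁻¹ᵁ V).ι, Category.assoc, IsOpenImmersion.lift_fac, hl1]
  · rw [← cancel_mono V.ι, Category.assoc, morphismRestrict_ι, IsOpenImmersion.lift_fac_assoc,
      hl2]

theorem closedImmersion_of_lift {X Y : Scheme.{u}} (f : X ⟶ Y) (𝒰 : X.OpenCover)
    {A B : Type u} [CommRing A] [CommRing B] (φ : A →+* B)
    (a : Spec (CommRingCat.of B) ⟶ X) (b : Spec (CommRingCat.of A) ⟶ Y) [IsClosedImmersion b]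
    (l : Spec (CommRingCat.of A) ⟶ X) (hl1 : Spec.map (CommRingCat.ofHom φ) ≫ l = a)
    (hl2 : l ≫ f = b)
    (s : ∀ i, 𝒰.X i ⟶ Spec (CommRingCat.of B)) (hs : ∀ i, s i ≫ a = 𝒰.f i) :
    IsClosedImmersion f := by
  haveI : Mono l := mono_of_mono_fac hl2
  haveI : IsIso l := by
    refine (IsZariskiLocalAtTarget.iff_of_openCover
      (P := MorphismProperty.isomorphisms Scheme) 𝒰).mpr fun i => ?_
    change IsIso (pullback.snd l (𝒰.f i))
    have hs' : (s i ≫ Spec.map (CommRingCat.ofHom φ)) ≫ l = 𝟙 _ ≫ 𝒰.f i := by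
      rw [Category.assoc, hl1, hs, Category.id_comp]
    haveI : IsSplitEpi (pullback.snd l (𝒰.f i)) :=
      IsSplitEpi.mk' ⟨pullback.lift (s i ≫ Spec.map (CommRingCat.ofHom φ)) (𝟙 _) hs',
        pullback.lift_snd _ _ _⟩
    exact isIso_of_mono_of_isSplitEpi _
  have h1 : f = inv l ≫ b := by
    rw [IsIso.eq_inv_comp, hl2]
  rw [h1]
  infer_instance

theorem of_lifts_affine {X Y : Scheme.{u}} [IsAffine Y] (f : X ⟶ Y) [CompactSpace X]
    (H : Lifts f) : IsClosedImmersion f := by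
  obtain ⟨𝒰, h𝒰⟩ : ∃ 𝒰 : X.OpenCover, 𝒰 = X.affineCover.finiteSubcover := ⟨_, rfl⟩
  haveI : Finite 𝒰.I₀ := by
    rw [h𝒰]
    infer_instance
  haveI : ∀ i, IsAffine (𝒰.X i) := by
    rw [h𝒰]
    intro i
    infer_instance
  obtain ⟨P, hP⟩ : ∃ P : Scheme.{u}, P = ∐ (fun i : 𝒰.I₀ ↦ 𝒰.X i) := ⟨_, rfl⟩
  haveI : IsAffine P := by
    rw [hP]
    infer_instance
  obtain ⟨p, ι, hp⟩ : ∃ (p : P ⟶ X) (ι : ∀ i, 𝒰.X i ⟶ P), ∀ i, ι i ≫ p = 𝒰.f i := by
    subst hP
    exact ⟨Sigma.desc (fun i ↦ 𝒰.f i), fun i => Sigma.ι (fun i : 𝒰.I₀ ↦ 𝒰.X i) i,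
      fun i => Sigma.ι_desc _ _⟩
  obtain ⟨ψ, hψ⟩ : ∃ ψ : Γ(Y, ⊤) →+* Γ(P, ⊤), ψ = (p ≫ f).appTop.hom := ⟨_, rfl⟩
  have hcomp : CommRingCat.ofHom (Ideal.Quotient.mk (RingHom.ker ψ)) ≫
      CommRingCat.ofHom (RingHom.kerLift ψ) = (p ≫ f).appTop := by
    rw [← CommRingCat.ofHom_comp]
    have h1 : (RingHom.kerLift ψ).comp (Ideal.Quotient.mk (RingHom.ker ψ)) = ψ := by
      ext x
      exact RingHom.kerLift_mk ψ x
    rw [h1, hψ]
    rfl
  haveI : IsClosedImmersion (Spec.map (CommRingCat.ofHom (Ideal.Quotient.mk (RingHom.ker ψ)))) :=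
    IsClosedImmersion.spec_of_surjective _ Ideal.Quotient.mk_surjective
  have hsq : Spec.map (CommRingCat.ofHom (RingHom.kerLift ψ)) ≫
      (Spec.map (CommRingCat.ofHom (Ideal.Quotient.mk (RingHom.ker ψ))) ≫ Y.isoSpec.inv) =
      (P.isoSpec.inv ≫ p) ≫ f := by
    rw [← Category.assoc, ← Spec.map_comp, hcomp, Scheme.isoSpec_inv_naturality, Category.assoc]
  obtain ⟨l, hl1, hl2⟩ := H (Γ(Y, ⊤) ⧸ RingHom.ker ψ) Γ(P, ⊤) (RingHom.kerLift ψ)
    (RingHom.kerLift_injective ψ) (P.isoSpec.inv ≫ p)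
    (Spec.map (CommRingCat.ofHom (Ideal.Quotient.mk (RingHom.ker ψ))) ≫ Y.isoSpec.inv) hsq
  refine closedImmersion_of_lift f 𝒰 (RingHom.kerLift ψ) (P.isoSpec.inv ≫ p)
    (Spec.map (CommRingCat.ofHom (Ideal.Quotient.mk (RingHom.ker ψ))) ≫ Y.isoSpec.inv) l hl1 hl2
    (fun i => ι i ≫ P.isoSpec.hom) (fun i => ?_)
  rw [Category.assoc, Iso.hom_inv_id_assoc, hp]

theorem main {X Y : Scheme.{u}} (f : X ⟶ Y) [QuasiCompact f] :
    IsClosedImmersion f ↔ Lifts f := by
  constructor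
  · intro h
    exact lifts_of_isClosedImmersion f
  · intro H
    refine (IsZariskiLocalAtTarget.iff_of_iSup_eq_top (P := @IsClosedImmersion)
      (fun V : Y.affineOpens => V.1) (iSup_affineOpens_eq_top Y)).mpr fun V => ?_
    haveI : IsAffine V.1.toScheme := V.2
    haveI : CompactSpace (f ⁻¹ᵁ V.1).toScheme :=
      QuasiCompact.compactSpace_of_compactSpace (f ∣_ V.1)
    exact of_lifts_affine (f ∣_ V.1) (lifts_restrict f H V.1)

end Helpers

open AlgebraicGeometry CategoryTheory Limits in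
/-- For a quasi-compact morphism f : X → Y, being a closed immersion is equivalent to the following
lifting property: for each injective ring map A → B and each commutative square with Spec B → X on
top and Spec A → Y at the bottom there is a lift Spec A → X making both triangles commute. -/
theorem result {X Y : Scheme.{u}} (f : X ⟶ Y) [QuasiCompact f] :
    IsClosedImmersion f ↔ ∀ (A B : Type u) [CommRing A] [CommRing B] (φ : A →+* B), Function.Injective φ →
      ∀ (a : Spec (CommRingCat.of B) ⟶ X) (b : Spec (CommRingCat.of A) ⟶ Y), Spec.map (CommRingCat.ofHom φ) ≫ b = a ≫ f →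
        ∃ l : Spec (CommRingCat.of A) ⟶ X, Spec.map (CommRingCat.ofHom φ) ≫ l = a ∧ l ≫ f = b := by
  exact main f

end Groth.Agent.S1432
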