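import Groth.Statements.S14336
import Groth.Agent.Lib.Helper26.FiberRank

set_option autoImplicit false
universe u
open TensorProduct

namespace Groth.Agent.S14336

open Groth.Agent.Helper26 in
/-- Let B be a Noetherian ring, K and K' finitely generated flat B-modules and φ : K → K' a B-linear
map; for a prime y of B write κ(y) for its residue field and φ_y for the base change κ(y) ⊗ K → κ(y)
⊗ K'. Then the function y ↦ dim_{κ(y)} Im(φ_y) on Spec B is lower semicontinuous. -/
theorem result (B : Type u) [CommRing B] [IsNoetherianRing B] (K K' : Type u) [AddCommGroup K] [Module B K] [Module.Finite B K] [Module.Flat B K] [AddCommGroup K'] [Module B K'] [Module.Finite B K'] [Module.Flat B K'] (φ : K →ₗ[B] K') : LowerSemicontinuous (fun y : PrimeSpectrum B => Module.finrank y.asIdeal.ResidueField ↥(LinearMap.range (φ.baseChange y.asIdeal.ResidueField))) := by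
  classical
  have hfp : Module.FinitePresentation B K' := Module.finitePresentation_of_finite B K'
  have hlc : IsLocallyConstant (Module.rankAtStalk (R := B) K') :=
    Module.isLocallyConstant_rankAtStalk
  have hr : ∀ y : PrimeSpectrum B, Module.rankAtStalk K' y =
      Module.finrank y.asIdeal.ResidueField (y.asIdeal.ResidueField ⊗[B] K') := fun y =>
    Module.rankAtStalk_eq y
  have hsum : ∀ y : PrimeSpectrum B,
      Module.finrank y.asIdeal.ResidueField
          ↥(LinearMap.range (φ.baseChange y.asIdeal.ResidueField)) +
        Module.finrank y.asIdeal.ResidueField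
          (y.asIdeal.ResidueField ⊗[B] (K' ⧸ LinearMap.range φ)) =
        Module.rankAtStalk K' y := fun y => by
    rw [hr]; exact finrank_range_baseChange_add_finrank φ y.asIdeal.ResidueField
  intro y₀ a ha
  obtain ⟨f, hfy, hf⟩ := exists_notMem_forall_finrank_le (C := K' ⧸ LinearMap.range φ) y₀.asIdeal
  have hU1 : IsOpen {y : PrimeSpectrum B | Module.rankAtStalk K' y = Module.rankAtStalk K' y₀} :=
    hlc.isOpen_fiber _
  have hU2 : IsOpen ((PrimeSpectrum.basicOpen f : TopologicalSpace.Opens (PrimeSpectrum B)) :
      Set (PrimeSpectrum B)) := (PrimeSpectrum.basicOpen f).isOpen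
  have hmem : {y : PrimeSpectrum B | Module.rankAtStalk K' y = Module.rankAtStalk K' y₀} ∩
      ((PrimeSpectrum.basicOpen f : TopologicalSpace.Opens (PrimeSpectrum B)) :
        Set (PrimeSpectrum B)) ∈ nhds y₀ :=
    (hU1.inter hU2).mem_nhds ⟨rfl, hfy⟩
  refine Filter.eventually_of_mem hmem ?_
  rintro y ⟨hy1, hy2⟩
  have h1 := hsum y
  have h2 := hsum y₀
  have h3 := hf y.asIdeal hy2
  have hy1' : Module.rankAtStalk K' y = Module.rankAtStalk K' y₀ := hy1
  simp only at ha ⊢
  omega

end Groth.Agent.S14336
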