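import Groth.Statements.S14337
import Mathlib

set_option autoImplicit false
universe u
open scoped TensorProduct
open CAlg

namespace Groth.Agent.S14337

/-- Let B be a Noetherian ring, K and K' finitely generated flat B-modules and φ : K → K' a B-linear
map; for a prime y of B write κ(y) for its residue field and φ_y for the base change κ(y) ⊗ K → κ(y)
⊗ K'. If the cokernel K'/Im φ is a projective (locally free) B-module, then Im φ is projective, and
the formation of Im φ commutes with every base change: for every commutative B-algebra B' the map B'
⊗ Im φ → B' ⊗ K' induced by the inclusion is injective and its range is the range of the base change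
B' ⊗ K → B' ⊗ K' of φ. -/
theorem result (B : Type u) [CommRing B] [IsNoetherianRing B] (K K' : Type u) [AddCommGroup K] [Module B K] [Module.Finite B K] [Module.Flat B K] [AddCommGroup K'] [Module B K'] [Module.Finite B K'] [Module.Flat B K'] (φ : K →ₗ[B] K') (hc : Module.Projective B (K' ⧸ LinearMap.range φ)) : Module.Projective B ↥(LinearMap.range φ) ∧ ∀ (B' : Type u) [CommRing B'] [Algebra B B'], Function.Injective ((LinearMap.range φ).subtype.baseChange B') ∧ LinearMap.range ((LinearMap.range φ).subtype.baseChange B') = LinearMap.range (φ.baseChange B') := by
  classical
  have hK'fp : Module.FinitePresentation B K' := Module.finitePresentation_of_finite B K'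
  have hK' : Module.Projective B K' := Module.Flat.projective_of_finitePresentation
  -- a section of the quotient map
  obtain ⟨s, hs⟩ := Module.projective_lifting_property (LinearMap.range φ).mkQ LinearMap.id
    (Submodule.mkQ_surjective _)
  have hs' : ∀ q, (LinearMap.range φ).mkQ (s q) = q := fun q => LinearMap.congr_fun hs q
  -- the retraction onto the image
  let r : K' →ₗ[B] ↥(LinearMap.range φ) :=
    LinearMap.codRestrict (LinearMap.range φ) (LinearMap.id - s.comp (LinearMap.range φ).mkQ) (by
      intro x
      have : (LinearMap.range φ).mkQ
          (((LinearMap.id : K' →ₗ[B] K') - s.comp (LinearMap.range φ).mkQ) x) = 0 := by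
        simp only [LinearMap.sub_apply, LinearMap.id_apply, LinearMap.comp_apply, map_sub, hs']
        exact sub_self _
      rwa [← LinearMap.mem_ker, Submodule.ker_mkQ] at this)
  have hr : r.comp (LinearMap.range φ).subtype = LinearMap.id := by
    ext x
    simp only [r, LinearMap.comp_apply, LinearMap.codRestrict_apply, LinearMap.sub_apply,
      LinearMap.id_apply, Submodule.subtype_apply]
    have : (LinearMap.range φ).mkQ (x : K') = 0 := by
      rw [← LinearMap.mem_ker, Submodule.ker_mkQ]; exact x.2
    rw [this, map_zero, sub_zero]
  refine ⟨Module.Projective.of_split _ _ hr, ?_⟩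
  intro B' _ _
  constructor
  · have h2 : (r.baseChange B').comp ((LinearMap.range φ).subtype.baseChange B') = LinearMap.id := by
      rw [← LinearMap.baseChange_comp, hr, LinearMap.baseChange_id]
    intro a b hab
    have := congrArg (r.baseChange B') hab
    rwa [← LinearMap.comp_apply, ← LinearMap.comp_apply, h2] at this
  · have hφ : φ = (LinearMap.range φ).subtype.comp φ.rangeRestrict := by
      ext x; rfl
    conv_rhs => rw [hφ, LinearMap.baseChange_comp]
    rw [LinearMap.range_comp_of_range_eq_top]
    rw [LinearMap.range_eq_top]
    exact LinearMap.lTensor_surjective _ φ.surjective_rangeRestrict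

end Groth.Agent.S14337
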