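import Groth.Statements.S14338
import Groth.Agent.Lib.Helper26.FiberRank
import Groth.Agent.S14337

set_option autoImplicit false
universe u
open TensorProduct

namespace Groth.Agent.S14338

open Groth.Agent.Helper26 in
/-- Let B be a Noetherian ring, K and K' finitely generated flat B-modules and φ : K → K' a B-linear
map; for a prime y of B write κ(y) for its residue field and φ_y for the base change κ(y) ⊗ K → κ(y)
⊗ K'. Assume B is reduced and the number dim_{κ(y)} Im(φ_y) is the same for all primes y of B. Then
the cokernel K'/Im φ and the image Im φ are projective (locally free) B-modules. -/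
theorem result (B : Type u) [CommRing B] [IsNoetherianRing B] (K K' : Type u) [AddCommGroup K] [Module B K] [Module.Finite B K] [Module.Flat B K] [AddCommGroup K'] [Module B K'] [Module.Finite B K'] [Module.Flat B K'] (φ : K →ₗ[B] K') [IsReduced B] (hconst : ∃ c : ℕ, ∀ y : PrimeSpectrum B, Module.finrank y.asIdeal.ResidueField ↥(LinearMap.range (φ.baseChange y.asIdeal.ResidueField)) = c) : Module.Projective B (K' ⧸ LinearMap.range φ) ∧ Module.Projective B ↥(LinearMap.range φ) := by
  classical
  have hfpK' : Module.FinitePresentation B K' := Module.finitePresentation_of_finite B K'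
  have hfpC : Module.FinitePresentation B (K' ⧸ LinearMap.range φ) :=
    Module.finitePresentation_of_finite B _
  obtain ⟨c0, hc0⟩ := hconst
  have hlc : IsLocallyConstant (Module.rankAtStalk (R := B) K') :=
    Module.isLocallyConstant_rankAtStalk
  have hsum : ∀ y : PrimeSpectrum B,
      c0 + Module.finrank y.asIdeal.ResidueField
          (y.asIdeal.ResidueField ⊗[B] (K' ⧸ LinearMap.range φ)) =
        Module.rankAtStalk K' y := fun y => by
    rw [← hc0 y, Module.rankAtStalk_eq]
    exact finrank_range_baseChange_add_finrank φ y.asIdeal.ResidueField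
  have hC : Module.Projective B (K' ⧸ LinearMap.range φ) := by
    apply Module.projective_of_localization_maximal
    intro P hP
    have hPp : P.IsPrime := hP.isPrime
    let y₀ : PrimeSpectrum B := ⟨P, hPp⟩
    obtain ⟨m, f, hfP, hf⟩ :=
      exists_fun_fin_forall_smul_mem_span (C := K' ⧸ LinearMap.range φ) P
    have hU : IsOpen {y : PrimeSpectrum B |
        Module.rankAtStalk K' y = Module.rankAtStalk K' y₀} := hlc.isOpen_fiber _
    obtain ⟨_, ⟨f', rfl⟩, hy₀f', hsub⟩ :=
      PrimeSpectrum.isTopologicalBasis_basic_opens.exists_subset_of_mem_open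
        (show y₀ ∈ {y : PrimeSpectrum B |
          Module.rankAtStalk K' y = Module.rankAtStalk K' y₀} from rfl) hU
    have hf'P : f' ∉ P := hy₀f'
    have hgen : ∀ c : K' ⧸ LinearMap.range φ, (f * f') • c ∈ Submodule.span B (Set.range m) := by
      intro c
      rw [mul_comm, mul_smul]
      exact Submodule.smul_mem _ _ (hf c)
    refine projective_localizedModule_atPrime P m (f * f')
      (fun h => (hPp.mem_or_mem h).elim hfP hf'P) hgen ?_
    intro l hl i
    refine mul_eq_zero_of_sum_smul_eq_zero m (f * f') hgen ?_ l hl i
    intro q hqp hq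
    have hf'q : f' ∉ q := fun h => hq (q.mul_mem_left _ h)
    have h1 : Module.rankAtStalk K' ⟨q, hqp⟩ = Module.rankAtStalk K' y₀ :=
      hsub (show (⟨q, hqp⟩ : PrimeSpectrum B) ∈
        ((PrimeSpectrum.basicOpen f' : TopologicalSpace.Opens (PrimeSpectrum B)) :
          Set (PrimeSpectrum B)) from hf'q)
    have h2 : c0 + Module.finrank q.ResidueField
          (q.ResidueField ⊗[B] (K' ⧸ LinearMap.range φ)) =
        Module.rankAtStalk K' ⟨q, hqp⟩ := hsum ⟨q, hqp⟩
    have h3 : c0 + Module.finrank P.ResidueField
          (P.ResidueField ⊗[B] (K' ⧸ LinearMap.range φ)) =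
        Module.rankAtStalk K' y₀ := hsum y₀
    omega
  exact ⟨hC, (Groth.Agent.S14337.result B K K' φ hC).1⟩

end Groth.Agent.S14338
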