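import Groth.Statements.S1434
import Mathlib
import Groth.Agent.Lib.Helper4.IdealComapMul

set_option autoImplicit false
universe u
open FlatMor

namespace Groth.Agent.S1434

open AlgebraicGeometry CategoryTheory Limits in
/-- Part (1), for a closed subscheme: let Z ⊂ X be the closed subscheme cut out by an ideal sheaf I and
Z' the one cut out by I², its first order infinitesimal neighbourhood. Given a first order
thickening T → T', a morphism a : T → Z and a morphism b : T' → X compatible with them, there is a
unique morphism T' → Z' through which b factors (compatibility with a is then automatic). -/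
theorem result {X T T' : Scheme.{u}} (I : X.IdealSheafData) (t : T ⟶ T') (ht : MoreMor.IsFirstOrderThickening t)
    (a : T ⟶ I.subscheme) (b : T' ⟶ X) (w : a ≫ I.subschemeι = t ≫ b) :
    ∃! a' : T' ⟶ (I ^ 2).subscheme, a' ≫ (I ^ 2).subschemeι = b := by
  obtain ⟨⟨hcl, -⟩, hsq⟩ := ht
  have h1 : I ≤ t.ker.map b := by
    have hk : (a ≫ I.subschemeι).ker = (t ≫ b).ker := by rw [w]
    rw [Scheme.Hom.ker_comp, Scheme.Hom.ker_comp] at hk
    rw [← hk]
    calc I = I.subschemeι.ker := (Scheme.IdealSheafData.ker_subschemeι I).symm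
      _ = (⊥ : I.subscheme.IdealSheafData).map I.subschemeι :=
        (Scheme.IdealSheafData.map_bot I.subschemeι).symm
      _ ≤ a.ker.map I.subschemeι := Scheme.IdealSheafData.map_mono _ bot_le
  have h2 : I.comap b ≤ t.ker := Scheme.IdealSheafData.le_map_iff_comap_le.mp h1
  have h3 : (I ^ 2).comap b ≤ ⊥ := by
    rw [Groth.Agent.Helper4.IdealComapMul.comap_pow, pow_two, ← hsq]
    exact mul_le_mul' h2 h2
  have h4 : (I ^ 2) ≤ b.ker := by
    rw [← Scheme.IdealSheafData.map_bot b]
    exact Scheme.IdealSheafData.le_map_iff_comap_le.mpr h3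
  have h5 : ((I ^ 2).subschemeι).ker ≤ b.ker := by
    rw [Scheme.IdealSheafData.ker_subschemeι]; exact h4
  refine ⟨IsClosedImmersion.lift (I ^ 2).subschemeι b h5, IsClosedImmersion.lift_fac _ _ h5, ?_⟩
  intro a' ha'
  rw [← cancel_mono (I ^ 2).subschemeι, ha', IsClosedImmersion.lift_fac]

end Groth.Agent.S1434
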