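import Groth.Statements.S14345
import Groth.Agent.Lib.Helper22.FitLocal
import Groth.Agent.Lib.Helper22.FitBase
import Mathlib.RingTheory.LocalProperties.Projective
import Mathlib.RingTheory.LocalProperties.Basic
import Mathlib.RingTheory.LocalRing.Module

set_option autoImplicit false
universe u v
open TensorProduct
open QuotLF

namespace Groth.Agent.S14345

open Groth.Agent.Helper22.FitCore Groth.Agent.Helper22.FitLocal in
theorem ideal_localized' {R : Type u} [CommRing R] {M : Type v} [AddCommGroup M] [Module R M]
    (S : Submonoid R) [Module.Finite R M] (k : ℕ) :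
    Fitt.ideal (Localization S) (LocalizedModule S M) k =
      (Fitt.ideal R M k).map (algebraMap R (Localization S)) := by
  rw [← Groth.Agent.Helper22.FitBase.ideal_baseChange (R' := Localization S) (M := M) k]
  exact (ideal_congr (LocalizedModule.isBaseChange S M).equiv k).symm

/-- Let R be a commutative ring, M a finitely generated R-module and k ≥ 0. If for an R-algebra A the
module A ⊗_R M admits a quotient that is finite projective of constant rank k (an A-valued point of
the Quot scheme of rank-k locally free quotients of M), then every Fitting ideal Fit_j(M) with j < k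
extends to the zero ideal of A; that is, the structure map of the Quot scheme of rank-k locally free
quotients factors through the closed subscheme cut out by Fit_{k-1}(M). -/
theorem result (R : Type u) [CommRing R]
    (M : Type v) [AddCommGroup M] [Module R M] [Module.Finite R M] (k : ℕ)
    (A : Type u) [CommRing A] [Algebra R A] (N : Module.Grassmannian A (A ⊗[R] M) k)
    (j : ℕ) (hj : j < k) :
    (Fitt.ideal R M j).map (algebraMap R A) = ⊥ := by
  have h1 : (Fitt.ideal R M j).map (algebraMap R A) = Fitt.ideal A (A ⊗[R] M) j :=
    (Groth.Agent.Helper22.FitBase.ideal_baseChange j).symm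
  have h2 : Fitt.ideal A (A ⊗[R] M) j ≤ Fitt.ideal A ((A ⊗[R] M) ⧸ N.toSubmodule) j :=
    Groth.Agent.Helper22.FitLocal.ideal_le_of_surjective N.toSubmodule.mkQ
      (Submodule.mkQ_surjective _) j
  have h3 : Fitt.ideal A ((A ⊗[R] M) ⧸ N.toSubmodule) j = ⊥ := by
    apply ideal_eq_bot_of_localization'
    intro P hP
    haveI := hP.isPrime
    rw [← ideal_localized' P.primeCompl j]
    haveI : Module.Free (Localization.AtPrime P)
        (LocalizedModule P.primeCompl ((A ⊗[R] M) ⧸ N.toSubmodule)) :=
      Module.free_of_flat_of_isLocalRing
    have hrk : Module.finrank (Localization.AtPrime P)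
        (LocalizedModule P.primeCompl ((A ⊗[R] M) ⧸ N.toSubmodule)) = k :=
      N.rankAtStalk_eq ⟨P, hP.isPrime⟩
    exact Groth.Agent.Helper22.FitLocal.ideal_of_basis_lt
      (Module.finBasisOfFinrankEq _ _ hrk) j hj
  rw [h1]
  exact le_bot_iff.1 (h3 ▸ h2)

end Groth.Agent.S14345
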