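import Groth.Statements.S14346
import Mathlib

set_option autoImplicit false
universe u v
open TensorProduct
open QuotLF

namespace Groth.Agent.S14346

/-- Let R be a commutative ring, M an R-module, k ≥ 0, and A an R-algebra for which A ⊗_R M is finite
projective of constant rank k, i.e. Spec A → Spec R factors through the locally closed stratum where
M is locally free of rank k. Then A ⊗_R M has exactly one rank-k locally free quotient: the zero
submodule has finite projective quotient of constant rank k, and every submodule with such a
quotient is zero. In other words the Quot scheme of rank-k locally free quotients of M restricted to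
that stratum maps isomorphically onto it. -/
theorem result (R : Type u) [CommRing R]
    (M : Type v) [AddCommGroup M] [Module R M] (k : ℕ)
    (A : Type u) [CommRing A] [Algebra R A] [Module.Finite A (A ⊗[R] M)] [Module.Projective A (A ⊗[R] M)]
    (hk : ∀ p : PrimeSpectrum A, Module.rankAtStalk (R := A) (A ⊗[R] M) p = k) :
    (∃ N : Module.Grassmannian A (A ⊗[R] M) k, N.toSubmodule = ⊥) ∧
      ∀ N : Module.Grassmannian A (A ⊗[R] M) k, N.toSubmodule = ⊥ := by
  constructor
  · let e : ((A ⊗[R] M) ⧸ (⊥ : Submodule A (A ⊗[R] M))) ≃ₗ[A] (A ⊗[R] M) :=
      Submodule.quotEquivOfEqBot ⊥ rfl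
    refine ⟨⟨⊥, Module.Finite.equiv e.symm, Module.Projective.of_equiv e.symm, ?_⟩, rfl⟩
    intro p
    rw [Module.rankAtStalk_eq_of_equiv e]
    exact hk p
  · intro N
    -- the quotient is projective, so the quotient map splits
    obtain ⟨l, hl⟩ := Module.projective_lifting_property N.toSubmodule.mkQ LinearMap.id
      (Submodule.mkQ_surjective _)
    have hex : Function.Exact N.toSubmodule.subtype N.toSubmodule.mkQ :=
      LinearMap.exact_subtype_mkQ _
    obtain ⟨e, he1, he2⟩ := hex.splitSurjectiveEquiv (Submodule.injective_subtype _) ⟨l, hl⟩
    -- N is a direct summand, hence finite projective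
    have hfin : Module.Finite A N.toSubmodule :=
      Module.Finite.of_surjective
        ((LinearMap.fst A N.toSubmodule ((A ⊗[R] M) ⧸ N.toSubmodule)).comp e.toLinearMap)
        (Prod.fst_surjective.comp e.surjective)
    have hproj : Module.Projective A N.toSubmodule := by
      refine Module.Projective.of_split (N.toSubmodule.subtype)
        ((LinearMap.fst A N.toSubmodule ((A ⊗[R] M) ⧸ N.toSubmodule)).comp e.toLinearMap) ?_
      ext x
      rw [he1]
      simp
    have hrank := Module.rankAtStalk_prod (R := A) N.toSubmodule ((A ⊗[R] M) ⧸ N.toSubmodule)
    rw [← Module.rankAtStalk_eq_of_equiv e] at hrank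
    have hzero : Module.rankAtStalk (R := A) N.toSubmodule = 0 := by
      ext p
      have h1 := congrFun hrank p
      simp only [Pi.add_apply] at h1
      rw [hk p, N.rankAtStalk_eq p] at h1
      simp only [Pi.zero_apply]
      omega
    have hsub : Subsingleton N.toSubmodule := Module.rankAtStalk_eq_zero_iff_subsingleton.1 hzero
    exact Submodule.eq_bot_of_subsingleton

end Groth.Agent.S14346
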