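import Groth.Statements.S14347
import Mathlib
import Groth.Agent.Lib.Helper22.Fitting

set_option autoImplicit false
universe u
open QuotLF

namespace Groth.Agent.S14347


open Matrix Groth.Agent.Helper22.FitCore Groth.Agent.Helper22.Fitting

section Aux

variable {R : Type u} [CommRing R]

/-- ideal of `t × t` minors -/
def Imn {n m : ℕ} (A : Matrix (Fin n) (Fin m) R) (t : ℕ) : Ideal R :=
  Ideal.span {d | ∃ (f : Fin t → Fin n) (g : Fin t → Fin m), d = (A.submatrix f g).det}

theorem det_expand {t m : ℕ} (B : Matrix (Fin t) (Fin m) R) (W : Fin t → Fin m → R) :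
    (Matrix.of fun a b : Fin t => ∑ c, B a c * W b c).det
      = ∑ c : Fin t → Fin m, (∏ b, W b (c b)) * (B.submatrix id c).det := by
  have h1 : (Matrix.of fun a b : Fin t => ∑ c, B a c * W b c)ᵀ
      = (fun b : Fin t => ∑ c, W b c • (fun a : Fin t => B a c)) := by
    ext b a
    simp [Matrix.transpose_apply, Finset.sum_apply, mul_comm]
  have h2 : ∀ v : Fin t → Fin t → R, Matrix.det (v : Matrix (Fin t) (Fin t) R)
      = (Matrix.detRowAlternating (R := R) (n := Fin t)).toMultilinearMap v := fun v => rfl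
  rw [← Matrix.det_transpose, h1, h2, MultilinearMap.map_sum]
  refine Finset.sum_congr rfl (fun c _ => ?_)
  rw [MultilinearMap.map_smul_univ, smul_eq_mul, ← h2]
  congr 1
  rw [← Matrix.det_transpose (B.submatrix id c)]
  rfl

theorem Imin_range_eq {n m : ℕ} (σ : (Fin m → R) →ₗ[R] (Fin n → R))
    (A : Matrix (Fin n) (Fin m) R)
    (hA : ∀ w i, σ w i = ∑ c, A i c * w c) (k : ℕ) :
    Imin (LinearMap.range σ) k = Imn A (n - k) := by
  apply le_antisymm
  · unfold Imin
    rw [Ideal.span_le]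
    rintro d ⟨z, e, hz, rfl⟩
    have hz' : ∀ j, ∃ w, σ w = z j := fun j => LinearMap.mem_range.mp (hz j)
    choose w hw using hz'
    have h1 : (Matrix.of fun a b => z b (e a))
        = Matrix.of fun a b : Fin (n - k) => ∑ c, (A.submatrix e id) a c * w b c := by
      ext a b
      simp only [Matrix.of_apply, Matrix.submatrix_apply, id_eq]
      rw [← hw b, hA]
    rw [h1, det_expand]
    refine Ideal.sum_mem _ (fun c _ => Ideal.mul_mem_left _ _ (Ideal.subset_span ⟨e, c, rfl⟩))
  · unfold Imn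
    rw [Ideal.span_le]
    rintro d ⟨f, g, rfl⟩
    refine Ideal.subset_span ⟨fun b => σ (Pi.single (g b) 1), f,
      fun j => LinearMap.mem_range_self σ _, ?_⟩
    congr 1
    ext a b
    simp only [Matrix.submatrix_apply, Matrix.of_apply]
    rw [hA]
    simp [Pi.single_apply]

theorem Imn_transpose {n m : ℕ} (A : Matrix (Fin n) (Fin m) R) (t : ℕ) :
    Imn Aᵀ t = Imn A t := by
  unfold Imn
  congr 1
  ext d
  constructor
  · rintro ⟨f, g, rfl⟩
    exact ⟨g, f, by rw [← Matrix.det_transpose]; rfl⟩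
  · rintro ⟨f, g, rfl⟩
    exact ⟨g, f, by rw [← Matrix.det_transpose]; rfl⟩

theorem Imn_eq_bot {n m : ℕ} (A : Matrix (Fin n) (Fin m) R) (t : ℕ) (ht : m < t) :
    Imn A t = ⊥ := by
  unfold Imn
  rw [Ideal.span_eq_bot]
  rintro d ⟨f, g, rfl⟩
  obtain ⟨i, j, hij, hg⟩ := Fintype.exists_ne_map_eq_of_card_lt g (by simpa using ht)
  exact Matrix.det_zero_of_column_eq hij (fun k => by simp [Matrix.submatrix_apply, hg])

theorem rel_quot {n m : ℕ} (σ : (Fin m → R) →ₗ[R] (Fin n → R)) :
    Rel (R := R) (fun i : Fin n => (LinearMap.range σ).mkQ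
      (fun j => if i = j then (1 : R) else 0)) = LinearMap.range σ := by
  ext r
  rw [mem_Rel]
  have h : ∑ i, r i • (LinearMap.range σ).mkQ (fun j => if i = j then (1 : R) else 0)
      = (LinearMap.range σ).mkQ r := by
    conv_rhs => rw [pi_eq_sum_univ r]
    rw [map_sum]
    refine Finset.sum_congr rfl (fun i _ => ?_)
    rw [map_smul]
  rw [h, Submodule.mkQ_apply, Submodule.Quotient.mk_eq_zero]

theorem span_quot {n m : ℕ} (σ : (Fin m → R) →ₗ[R] (Fin n → R)) :
    Submodule.span R (Set.range fun i : Fin n => (LinearMap.range σ).mkQ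
      (fun j => if i = j then (1 : R) else 0)) = ⊤ := by
  rw [eq_top_iff]
  rintro y -
  obtain ⟨v, rfl⟩ := Submodule.mkQ_surjective _ y
  rw [pi_eq_sum_univ v, map_sum]
  refine Submodule.sum_mem _ (fun i _ => ?_)
  rw [map_smul]
  exact Submodule.smul_mem _ _ (Submodule.subset_span ⟨i, rfl⟩)

theorem span_dual {n m : ℕ} (σ : (Fin m → R) →ₗ[R] (Fin n → R)) :
    Submodule.span R (Set.range fun j : Fin m => (LinearMap.range σ.dualMap).mkQ
      (LinearMap.proj j : (Fin m → R) →ₗ[R] R)) = ⊤ := by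
  rw [eq_top_iff]
  rintro y -
  obtain ⟨φ, rfl⟩ := Submodule.mkQ_surjective _ y
  have hφ : φ = ∑ j, φ (fun c => if j = c then (1 : R) else 0) •
      (LinearMap.proj j : (Fin m → R) →ₗ[R] R) := by
    apply LinearMap.ext
    intro v
    rw [LinearMap.pi_apply_eq_sum_univ φ v]
    simp [LinearMap.sum_apply, mul_comm]
  rw [hφ, map_sum]
  refine Submodule.sum_mem _ (fun j _ => ?_)
  rw [map_smul]
  exact Submodule.smul_mem _ _ (Submodule.subset_span ⟨j, rfl⟩)

theorem rel_dual {n m : ℕ} (σ : (Fin m → R) →ₗ[R] (Fin n → R)) (A : Matrix (Fin n) (Fin m) R)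
    (hA : ∀ w i, σ w i = ∑ c, A i c * w c)
    (τ : (Fin n → R) →ₗ[R] (Fin m → R)) (hτ : ∀ w j, τ w j = ∑ i, A i j * w i) :
    Rel (R := R) (fun j : Fin m => (LinearMap.range σ.dualMap).mkQ
      (LinearMap.proj j : (Fin m → R) →ₗ[R] R)) = LinearMap.range τ := by
  ext r
  rw [mem_Rel]
  have h : ∑ j, r j • (LinearMap.range σ.dualMap).mkQ (LinearMap.proj j : (Fin m → R) →ₗ[R] R)
      = (LinearMap.range σ.dualMap).mkQ
          (∑ j, r j • (LinearMap.proj j : (Fin m → R) →ₗ[R] R)) := by
    rw [map_sum]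
    refine Finset.sum_congr rfl (fun j _ => ?_)
    rw [map_smul]
  rw [h, Submodule.mkQ_apply, Submodule.Quotient.mk_eq_zero, LinearMap.mem_range,
    LinearMap.mem_range]
  have hev : ∀ v : Fin m → R,
      (∑ j, r j • (LinearMap.proj j : (Fin m → R) →ₗ[R] R)) v = ∑ j, r j * v j := by
    intro v
    simp [LinearMap.sum_apply]
  constructor
  · rintro ⟨φ, hφ⟩
    refine ⟨fun i => φ (fun j => if i = j then (1 : R) else 0), ?_⟩
    funext j
    have hcol : σ (fun c => if j = c then (1 : R) else 0) = fun i => A i j := by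
      funext i
      rw [hA]
      simp
    have h1 : φ (σ (fun c => if j = c then (1 : R) else 0)) = r j := by
      have h0 := LinearMap.congr_fun hφ (fun c => if j = c then (1 : R) else 0)
      rw [LinearMap.dualMap_apply, hev] at h0
      rw [h0]
      simp
    rw [hcol, LinearMap.pi_apply_eq_sum_univ φ (fun i => A i j)] at h1
    rw [hτ, ← h1]
    refine Finset.sum_congr rfl (fun i _ => ?_)
    rw [smul_eq_mul]
  · rintro ⟨w, rfl⟩
    refine ⟨∑ i, w i • (LinearMap.proj i : (Fin n → R) →ₗ[R] R), ?_⟩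
    apply LinearMap.ext
    intro v
    rw [LinearMap.dualMap_apply, hev]
    have hev' : ∀ u : Fin n → R,
        (∑ i, w i • (LinearMap.proj i : (Fin n → R) →ₗ[R] R)) u = ∑ i, w i * u i := by
      intro u
      simp [LinearMap.sum_apply]
    rw [hev']
    simp_rw [hA, hτ, Finset.mul_sum, Finset.sum_mul]
    rw [Finset.sum_comm]
    refine Finset.sum_congr rfl (fun j _ => Finset.sum_congr rfl (fun i _ => ?_))
    ring

end Aux


/-- Let R be a commutative ring and σ : R^m → R^n an injective linear map with cokernel M, so that M has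
a length-one resolution by finite free modules and rank δ = n − m; let K be the cokernel of the dual
map (R^n)^∨ → (R^m)^∨, which is the module Ext¹_R(M, R). Then the Fitting ideals satisfy Fit_{δ +
j}(M) = Fit_j(K) for all j ≥ 0, and Fit_i(M) = 0 for i < δ (the degeneracy loci of M and of K agree
after the shift by δ). -/
theorem result (R : Type u) [CommRing R] (m n : ℕ)
    (σ : (Fin m → R) →ₗ[R] (Fin n → R)) (hσ : Function.Injective σ) :
    (∀ j : ℕ, Fitt.ideal R ((Fin n → R) ⧸ LinearMap.range σ) (n - m + j) =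
        Fitt.ideal R (Module.Dual R (Fin m → R) ⧸ LinearMap.range σ.dualMap) j) ∧
      ∀ i : ℕ, i < n - m → Fitt.ideal R ((Fin n → R) ⧸ LinearMap.range σ) i = ⊥ := by
  obtain ⟨A, hAdef⟩ : ∃ A : Matrix (Fin n) (Fin m) R,
      A = Matrix.of (fun i c => σ (fun j => if c = j then (1 : R) else 0) i) := ⟨_, rfl⟩
  have hA : ∀ w i, σ w i = ∑ c, A i c * w c := by
    intro w i
    rw [LinearMap.pi_apply_eq_sum_univ σ w, Finset.sum_apply]
    refine Finset.sum_congr rfl (fun c _ => ?_)
    rw [hAdef, Pi.smul_apply, smul_eq_mul, Matrix.of_apply, mul_comm]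
  have hM : ∀ k, Fitt.ideal R ((Fin n → R) ⧸ LinearMap.range σ) k = Imn A (n - k) := by
    intro k
    rw [ideal_eq_Imin _ (span_quot σ) k, rel_quot σ, Imin_range_eq σ A hA k]
  have hτ1 : ∀ (w : Fin n → R) (j : Fin m), (Matrix.toLin' Aᵀ) w j = ∑ i, A i j * w i :=
    fun w j => rfl
  have hτ2 : ∀ (w : Fin n → R) (j : Fin m), (Matrix.toLin' Aᵀ) w j = ∑ i, Aᵀ j i * w i :=
    fun w j => rfl
  have hK : ∀ k, Fitt.ideal R (Module.Dual R (Fin m → R) ⧸ LinearMap.range σ.dualMap) k
      = Imn A (m - k) := by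
    intro k
    rw [ideal_eq_Imin _ (span_dual σ) k, rel_dual σ A hA (Matrix.toLin' Aᵀ) hτ1,
      Imin_range_eq (Matrix.toLin' Aᵀ) Aᵀ hτ2 k, Imn_transpose]
  constructor
  · intro j
    rw [hM, hK]
    rcases subsingleton_or_nontrivial R with hR | hR
    · exact Ideal.ext (fun x => by rw [Subsingleton.elim x 0]; simp)
    · have hmn : m ≤ n := le_of_fin_injective R σ hσ
      congr 1
      omega
  · intro i hi
    rw [hM]
    exact Imn_eq_bot A (n - i) (by omega)

end Groth.Agent.S14347
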