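import Groth.Statements.S1435
import Mathlib

set_option autoImplicit false
universe u
open FlatMor

namespace Groth.Agent.S1435

section Helpers
open CategoryTheory CategoryTheory.Limits AlgebraicGeometry TopologicalSpace

/-- A subset of `X` is "nice" if it is the range of an affine immersion from an affine scheme. -/
def Nice (X : Scheme.{u}) (P : Set X) : Prop :=
  ∃ (Z : Scheme.{u}) (ι : Z ⟶ X), IsImmersion ι ∧ IsAffine Z ∧ IsAffineHom ι ∧ Set.range ι = P

lemma affineHom_of_dichotomy {X Z : Scheme.{u}} (f : Z ⟶ X) [IsAffine Z] {ι : Type*}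
    (U : ι → X.Opens) (hU : ∀ i, IsAffineOpen (U i)) (hcov : ∀ x : X, ∃ i, x ∈ U i)
    (hd : ∀ i, (∀ z : Z, f z ∈ U i) ∨ (∀ z : Z, f z ∉ U i)) : IsAffineHom f := by
  apply isAffineHom_of_forall_exists_isAffineOpen
  intro x
  obtain ⟨i, hi⟩ := hcov x
  refine ⟨U i, hi, hU i, ?_⟩
  rcases hd i with h | h
  · have : f ⁻¹ᵁ U i = ⊤ := by
      ext z
      exact iff_of_true (h z) trivial
    rw [this]; exact isAffineOpen_top Z
  · have : f ⁻¹ᵁ U i = ⊥ := by
      ext z
      exact iff_of_false (h z) (by simp)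
    rw [this]; exact isAffineOpen_bot Z

lemma nice_diff {X : Scheme.{u}} {ι : Type*} (U : ι → X.Opens) (hU : ∀ i, IsAffineOpen (U i))
    (hcov : ∀ x : X, ∃ i, x ∈ U i) (W G : X.Opens) (hW : IsAffineOpen W)
    (hd : ∀ i, (∀ x : X, x ∈ W → x ∉ G → x ∈ U i) ∨ (∀ x : X, x ∈ W → x ∉ G → x ∉ U i)) :
    Nice X ((W : Set X) \ (G : Set X)) := by
  haveI : IsAffine ↑W := hW
  have hC' : IsClosed (W.ι ⁻¹' ((G : Set X)ᶜ)) :=
    (G.isOpen.isClosed_compl).preimage W.ι.continuous
  obtain ⟨Zc, hZc⟩ : ∃ Zc : TopologicalSpace.Closeds ↑W, (Zc : Set ↑W) =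
      W.ι ⁻¹' ((G : Set X)ᶜ) := ⟨⟨_, hC'⟩, rfl⟩
  haveI hZaff : IsAffine (Scheme.IdealSheafData.vanishingIdeal Zc).subscheme :=
    isAffine_of_isAffineHom (Scheme.IdealSheafData.vanishingIdeal Zc).subschemeι
  have hrange : Set.range ((Scheme.IdealSheafData.vanishingIdeal Zc).subschemeι ≫ W.ι) =
      (W : Set X) \ (G : Set X) := by
    rw [Scheme.Hom.comp_base, TopCat.coe_comp, Set.range_comp,
      Scheme.IdealSheafData.range_subschemeι, Scheme.IdealSheafData.coe_support_vanishingIdeal,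
      hZc]
    ext x
    simp only [Set.mem_image, Set.mem_preimage, Set.mem_compl_iff, Set.mem_diff, SetLike.mem_coe]
    constructor
    · rintro ⟨y, hy, rfl⟩
      have hyW : W.ι y ∈ (W : Set X) := by
        rw [← Scheme.Opens.range_ι]; exact ⟨y, rfl⟩
      exact ⟨hyW, hy⟩
    · rintro ⟨hxW, hxG⟩
      exact ⟨⟨x, hxW⟩, hxG, rfl⟩
  refine ⟨_, (Scheme.IdealSheafData.vanishingIdeal Zc).subschemeι ≫ W.ι, inferInstance, hZaff,
    ?_, hrange⟩
  refine affineHom_of_dichotomy _ U hU hcov ?_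
  intro i
  have hmem : ∀ z, ((Scheme.IdealSheafData.vanishingIdeal Zc).subschemeι ≫ W.ι) z ∈
      (W : Set X) \ (G : Set X) := by
    intro z
    rw [← hrange]; exact ⟨z, rfl⟩
  rcases hd i with h | h
  · exact Or.inl fun z => h _ (hmem z).1 (hmem z).2
  · exact Or.inr fun z => h _ (hmem z).1 (hmem z).2

lemma nice_empty (X : Scheme.{u}) : Nice X ∅ := by
  have hcov : ∀ x : X, ∃ V : X.affineOpens, x ∈ (V : X.Opens) := by
    intro x
    obtain ⟨W, hW, hxW, -⟩ := exists_isAffineOpen_mem_and_subset (X := X) (x := x)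
      (U := ⊤) trivial
    exact ⟨⟨W, hW⟩, hxW⟩
  have h := nice_diff (fun V : X.affineOpens => (V : X.Opens)) (fun V => V.2) hcov ⊥ ⊥
    (isAffineOpen_bot X) (fun i => Or.inl (fun x hx => absurd hx (by simp)))
  have e : ((⊥ : X.Opens) : Set X) \ ((⊥ : X.Opens) : Set X) = ∅ := by simp
  rw [e] at h
  exact h

/-- Opens reachable from `⊥` by successively adding nice locally closed pieces. -/
inductive Reach (X : Scheme.{u}) : X.Opens → Prop
  | bot : Reach X ⊥
  | step (G W : X.Opens) : Reach X G → Nice X ((W : Set X) \ (G : Set X)) → Reach X (G ⊔ W)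

lemma reach_strat {X : Scheme.{u}} {G : X.Opens} (h : Reach X G) :
    ∃ (N : ℕ) (m : X → ℕ), (∀ x, m x ≤ N) ∧ (∀ x, x ∈ G ↔ m x < N) ∧
      (∀ a, IsOpen {x | m x < a}) ∧ (∀ a, a < N → Nice X {x | m x = a}) := by
  classical
  induction h with
  | bot =>
    refine ⟨0, fun _ => 0, fun _ => le_rfl, fun x => ?_, fun a => ?_,
      fun a ha => absurd ha (Nat.not_lt_zero a)⟩
    · simp
    · exact isOpen_const
  | step G W hG hN ih =>
    obtain ⟨N, m, h1, h2, h3, h4⟩ := ih
    obtain ⟨m', hm'⟩ : ∃ m' : X → ℕ, ∀ x, m' x =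
        if x ∈ G then m x else if x ∈ W then N else N + 1 := ⟨_, fun _ => rfl⟩
    have hA : ∀ x, x ∈ G → m' x = m x := fun x hx => by rw [hm', if_pos hx]
    have hB : ∀ x, x ∉ G → x ∈ W → m' x = N := fun x hx hw => by
      rw [hm', if_neg hx, if_pos hw]
    have hC : ∀ x, x ∉ G → x ∉ W → m' x = N + 1 := fun x hx hw => by
      rw [hm', if_neg hx, if_neg hw]
    have hcase : ∀ x, (x ∈ G ∧ m' x = m x ∧ m x < N) ∨
        (x ∉ G ∧ x ∈ W ∧ m' x = N ∧ ¬ m x < N) ∨
        (x ∉ G ∧ x ∉ W ∧ m' x = N + 1 ∧ ¬ m x < N) := by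
      intro x
      by_cases hx : x ∈ G
      · exact Or.inl ⟨hx, hA x hx, (h2 x).mp hx⟩
      · have hm : ¬ m x < N := fun h => hx ((h2 x).mpr h)
        by_cases hw : x ∈ W
        · exact Or.inr (Or.inl ⟨hx, hw, hB x hx hw, hm⟩)
        · exact Or.inr (Or.inr ⟨hx, hw, hC x hx hw, hm⟩)
    have hP2 : ∀ x, x ∈ G ⊔ W ↔ m' x < N + 1 := by
      intro x
      rw [Opens.mem_sup]
      rcases hcase x with ⟨hx, e, hl⟩ | ⟨hx, hw, e, hl⟩ | ⟨hx, hw, e, hl⟩
      · exact iff_of_true (Or.inl hx) (by omega)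
      · exact iff_of_true (Or.inr hw) (by omega)
      · exact iff_of_false (fun h => h.elim hx hw) (by omega)
    refine ⟨N + 1, m', ?_, hP2, ?_, ?_⟩
    · intro x
      have := h1 x
      rcases hcase x with ⟨hx, e, hl⟩ | ⟨hx, hw, e, hl⟩ | ⟨hx, hw, e, hl⟩ <;> omega
    · intro a
      rcases Nat.lt_or_ge N a with hNa | haN
      · rcases Nat.lt_or_ge (N + 1) a with h' | h'
        · have : {x : X | m' x < a} = Set.univ := by
            ext x
            simp only [Set.mem_setOf_eq, Set.mem_univ, iff_true]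
            have := h1 x
            rcases hcase x with ⟨hx, e, hl⟩ | ⟨hx, hw, e, hl⟩ | ⟨hx, hw, e, hl⟩ <;> omega
          rw [this]; exact isOpen_univ
        · have haeq : a = N + 1 := by omega
          have : {x : X | m' x < a} = ((G ⊔ W : X.Opens) : Set X) := by
            ext x
            simp only [Set.mem_setOf_eq, SetLike.mem_coe]
            rw [hP2 x, haeq]
          rw [this]; exact (G ⊔ W).isOpen
      · have : {x : X | m' x < a} = {x : X | m x < a} := by
          ext x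
          simp only [Set.mem_setOf_eq]
          rcases hcase x with ⟨hx, e, hl⟩ | ⟨hx, hw, e, hl⟩ | ⟨hx, hw, e, hl⟩ <;> omega
        rw [this]; exact h3 a
    · intro a ha
      rcases Nat.lt_or_ge a N with haN | haN
      · have : {x : X | m' x = a} = {x : X | m x = a} := by
          ext x
          simp only [Set.mem_setOf_eq]
          rcases hcase x with ⟨hx, e, hl⟩ | ⟨hx, hw, e, hl⟩ | ⟨hx, hw, e, hl⟩ <;> omega
        rw [this]; exact h4 a haN
      · have haeq : a = N := by omega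
        have : {x : X | m' x = a} = (W : Set X) \ (G : Set X) := by
          ext x
          simp only [Set.mem_setOf_eq, Set.mem_diff, SetLike.mem_coe]
          rcases hcase x with ⟨hx, e, hl⟩ | ⟨hx, hw, e, hl⟩ | ⟨hx, hw, e, hl⟩
          · exact iff_of_false (by omega) (fun h => h.2 hx)
          · exact iff_of_true (by omega) ⟨hw, hx⟩
          · exact iff_of_false (by omega) (fun h => hw h.1)
        rw [this]; exact hN

lemma strat_of_reach_top {X : Scheme.{u}} (h : Reach X ⊤) :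
    ∃ n, MoreMor.HasAffineStratification X n := by
  obtain ⟨N, m, h1, h2, h3, h4⟩ := reach_strat h
  have hlt : ∀ x, m x < N := fun x => (h2 x).mp trivial
  refine ⟨N, fun x => ⟨N - m x, by omega⟩, ?_, ?_⟩
  · intro i
    have : {x : X | (⟨N - m x, by omega⟩ : Fin (N + 1)) ≤ i} = {x : X | m x < N - i}ᶜ := by
      ext x
      simp only [Set.mem_setOf_eq, Set.mem_compl_iff, Fin.le_def, Fin.val_mk]
      have := hlt x
      have := i.2
      omega
    rw [this]; exact (h3 _).isClosed_compl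
  · intro i
    have : {x : X | (⟨N - m x, by omega⟩ : Fin (N + 1)) = i} = {x : X | m x = N - i} := by
      ext x
      simp only [Set.mem_setOf_eq, Fin.ext_iff, Fin.val_mk]
      have := hlt x
      have := i.2
      omega
    show Nice X _
    rw [this]
    by_cases hi : (i : ℕ) = 0
    · have : {x : X | m x = N - i} = ∅ := by
        ext x
        simp only [Set.mem_setOf_eq, Set.mem_empty_iff_false, iff_false]
        have := hlt x
        omega
      rw [this]; exact nice_empty X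
    · exact h4 _ (by have := i.2; omega)

/-- `Cov U c G`: every point lying in at least `c` of the `U i` lies in `G`. -/
def Cov {X : Scheme.{u}} {ι : Type*} (U : ι → X.Opens) (c : ℕ) (G : X.Opens) : Prop :=
  ∀ S : Finset ι, c ≤ S.card → ∀ x : X, (∀ i ∈ S, x ∈ U i) → x ∈ G

lemma reach_add {X : Scheme.{u}} {ι : Type*} [DecidableEq ι] (U : ι → X.Opens)
    (hU : ∀ i, IsAffineOpen (U i)) (hcov : ∀ x : X, ∃ i, x ∈ U i)
    {G : X.Opens} (hG : Reach X G) (S : Finset ι) (hc : Cov U (S.card + 1) G)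
    (W : X.Opens) (hW : IsAffineOpen W) (hWS : ∀ x ∈ W, ∀ i ∈ S, x ∈ U i) :
    Reach X (G ⊔ W) := by
  refine Reach.step G W hG (nice_diff U hU hcov W G hW ?_)
  intro i
  by_cases hi : i ∈ S
  · exact Or.inl fun x hxW _ => hWS x hxW i hi
  · refine Or.inr fun x hxW hxG hxU => hxG ?_
    refine hc (insert i S) ?_ x ?_
    · rw [Finset.card_insert_of_notMem hi]
    · intro j hj
      rcases Finset.mem_insert.mp hj with rfl | hj
      · exact hxU
      · exact hWS x hxW j hj

lemma reach_finset {X : Scheme.{u}} {ι : Type*} [DecidableEq ι] (U : ι → X.Opens)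
    (hU : ∀ i, IsAffineOpen (U i)) (hcov : ∀ x : X, ∃ i, x ∈ U i) (c : ℕ)
    (T : Finset X.Opens) :
    (∀ W ∈ T, IsAffineOpen W ∧ ∃ S : Finset ι, S.card = c ∧ ∀ x ∈ W, ∀ i ∈ S, x ∈ U i) →
    ∀ G : X.Opens, Reach X G → Cov U (c + 1) G → Reach X (G ⊔ T.sup id) := by
  classical
  refine Finset.induction_on T ?_ ?_
  · intro _ G hG _
    rw [Finset.sup_empty, sup_bot_eq]; exact hG
  · intro W T hWT ih hT G hG hc
    have h1 := ih (fun W' hW' => hT W' (Finset.mem_insert_of_mem hW')) G hG hc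
    obtain ⟨hWaff, S, hScard, hWS⟩ := hT W (Finset.mem_insert_self W T)
    have hc' : Cov U (S.card + 1) (G ⊔ T.sup id) := by
      rw [hScard]
      intro S' hS' x hx
      exact (le_sup_left : G ≤ G ⊔ T.sup id) (hc S' hS' x hx)
    have h2 := reach_add U hU hcov h1 S hc' W hWaff hWS
    have e : G ⊔ (insert W T).sup id = (G ⊔ T.sup id) ⊔ W := by
      rw [Finset.sup_insert]
      show G ⊔ (W ⊔ T.sup id) = (G ⊔ T.sup id) ⊔ W
      rw [sup_left_comm G W, sup_comm W]
    rw [e]; exact h2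

lemma exists_T {X : Scheme.{u}} [CompactSpace X] [QuasiSeparatedSpace X] {ι : Type*} [Fintype ι]
    [DecidableEq ι] (U : ι → X.Opens) (hU : ∀ i, IsAffineOpen (U i)) (c : ℕ) :
    ∃ T : Finset X.Opens,
      (∀ W ∈ T, IsAffineOpen W ∧ ∃ S : Finset ι, S.card = c ∧ ∀ x ∈ W, ∀ i ∈ S, x ∈ U i) ∧
      ∀ S : Finset ι, S.card = c → ∀ x : X, (∀ i ∈ S, x ∈ U i) → x ∈ T.sup id := by
  classical
  have hopen : ∀ S : Finset ι, IsOpen (⋂ i ∈ S, (U i : Set X)) := fun S =>
    isOpen_biInter_finset fun i _ => (U i).isOpen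
  have hcpt : ∀ S : Finset ι, IsCompact (⋂ i ∈ S, (U i : Set X)) := by
    intro S
    refine Finset.induction_on S ?_ ?_
    · have : (⋂ i ∈ (∅ : Finset ι), (U i : Set X)) = Set.univ := by simp
      rw [this]; exact isCompact_univ
    · intro a S _ ih
      rw [Finset.set_biInter_insert]
      exact QuasiSeparatedSpace.inter_isCompact _ _ (U a).isOpen (hU a).isCompact (hopen S) ih
  have hex : ∀ S : Finset ι, ∃ s : Set X.affineOpens, s.Finite ∧
      (⋂ i ∈ S, (U i : Set X)) = ⋃ V ∈ s, ((V : X.Opens) : Set X) := fun S =>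
    isCompact_and_isOpen_iff_finite_and_eq_biUnion_affineOpens.mp ⟨hcpt S, hopen S⟩
  choose s hsfin hseq using hex
  refine ⟨(Finset.univ.filter (fun S : Finset ι => S.card = c)).biUnion
    (fun S => (hsfin S).toFinset.image (fun V : X.affineOpens => (V : X.Opens))), ?_, ?_⟩
  · intro W hW
    obtain ⟨S, hS, hW⟩ := Finset.mem_biUnion.mp hW
    obtain ⟨V, hV, rfl⟩ := Finset.mem_image.mp hW
    have hVs : V ∈ s S := (hsfin S).mem_toFinset.mp hV
    refine ⟨V.2, S, (Finset.mem_filter.mp hS).2, ?_⟩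
    intro x hx i hi
    have : x ∈ ⋂ i ∈ S, (U i : Set X) := by
      rw [hseq S]; exact Set.mem_biUnion hVs hx
    exact Set.mem_iInter₂.mp this i hi
  · intro S hS x hx
    have hx' : x ∈ ⋂ i ∈ S, (U i : Set X) := Set.mem_iInter₂.mpr hx
    rw [hseq S] at hx'
    obtain ⟨V, hV, hxV⟩ := Set.mem_iUnion₂.mp hx'
    have hVT : (V : X.Opens) ∈ (Finset.univ.filter (fun S : Finset ι => S.card = c)).biUnion
        (fun S => (hsfin S).toFinset.image (fun V : X.affineOpens => (V : X.Opens))) :=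
      Finset.mem_biUnion.mpr ⟨S, Finset.mem_filter.mpr ⟨Finset.mem_univ _, hS⟩,
        Finset.mem_image.mpr ⟨V, (hsfin S).mem_toFinset.mpr hV, rfl⟩⟩
    exact (Finset.le_sup (f := id) hVT) hxV

lemma reach_top (X : Scheme.{u}) [CompactSpace X] [QuasiSeparatedSpace X] : Reach X ⊤ := by
  classical
  obtain ⟨s, hsfin, hseq⟩ :=
    (isCompact_and_isOpen_iff_finite_and_eq_biUnion_affineOpens (X := X)
      (U := Set.univ)).mp ⟨isCompact_univ, isOpen_univ⟩
  haveI : Fintype ↥s := hsfin.fintype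
  obtain ⟨U, hUdef⟩ : ∃ U : ↥s → X.Opens, ∀ i, U i = (i.1 : X.Opens) := ⟨_, fun _ => rfl⟩
  have hU : ∀ i, IsAffineOpen (U i) := fun i => by rw [hUdef]; exact i.1.2
  have hcov : ∀ x : X, ∃ i, x ∈ U i := by
    intro x
    have hx : x ∈ (Set.univ : Set X) := trivial
    rw [hseq] at hx
    obtain ⟨V, hV, hxV⟩ := Set.mem_iUnion₂.mp hx
    refine ⟨⟨V, hV⟩, ?_⟩
    rw [hUdef]; exact hxV
  have key : ∀ k : ℕ, ∃ G : X.Opens, Reach X G ∧ Cov U (Fintype.card ↥s + 1 - k) G := by
    intro k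
    induction k with
    | zero =>
      refine ⟨⊥, Reach.bot, ?_⟩
      intro S hS
      have := Finset.card_le_univ S
      omega
    | succ k ih =>
      obtain ⟨G, hG, hc⟩ := ih
      by_cases hk : k < Fintype.card ↥s + 1
      · obtain ⟨c, hcdef⟩ : ∃ c, c = Fintype.card ↥s + 1 - (k + 1) := ⟨_, rfl⟩
        have e : Fintype.card ↥s + 1 - k = c + 1 := by omega
        rw [e] at hc
        rw [← hcdef]
        obtain ⟨T, hT1, hT2⟩ := exists_T U hU c
        refine ⟨G ⊔ T.sup id, reach_finset U hU hcov c T hT1 G hG hc, ?_⟩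
        intro S hS x hx
        rcases Nat.lt_or_ge c S.card with h | h
        · exact (le_sup_left : G ≤ G ⊔ T.sup id) (hc S h x hx)
        · exact (le_sup_right : T.sup id ≤ G ⊔ T.sup id) (hT2 S (le_antisymm h hS) x hx)
      · have e : Fintype.card ↥s + 1 - (k + 1) = Fintype.card ↥s + 1 - k := by omega
        rw [e]; exact ⟨G, hG, hc⟩
  obtain ⟨G, hG, hc⟩ := key (Fintype.card ↥s + 1)
  have hGtop : G = ⊤ := by
    rw [eq_top_iff]
    intro x _
    exact hc ∅ (by simp) x (fun i hi => absurd hi (Finset.notMem_empty i))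
  rw [← hGtop]; exact hG

end Helpers

open AlgebraicGeometry CategoryTheory Limits in
/-- A scheme has a finite affine stratification if and only if it is quasi-compact and quasi-separated. -/
theorem result (X : Scheme.{u}) :
    (∃ n : ℕ, MoreMor.HasAffineStratification X n) ↔ CompactSpace ↑X ∧ QuasiSeparatedSpace ↑X := by
  constructor
  · rintro ⟨n, s, hs, hstr⟩
    choose Z ι h1 h2 h3 h4 using hstr
    have hcompact : CompactSpace ↑X := by
      refine ⟨?_⟩
      have huniv : (Set.univ : Set X) = ⋃ i, Set.range (ι i) := by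
        ext x
        simp only [Set.mem_univ, Set.mem_iUnion, true_iff]
        exact ⟨s x, by rw [h4 (s x)]; rfl⟩
      rw [huniv]
      exact isCompact_iUnion fun i => by
        haveI := h2 i
        exact isCompact_range (ι i).continuous
    have hqs : QuasiSeparatedSpace ↑X := by
      rw [quasiSeparatedSpace_iff_forall_affineOpens]
      intro U V
      have hUV : ((U : Set X) ∩ (V : Set X)) = ⋃ i, (ι i) ''
          ((((ι i) ⁻¹ᵁ U.1 : (Z i).Opens) : Set (Z i)) ∩
            (((ι i) ⁻¹ᵁ V.1 : (Z i).Opens) : Set (Z i))) := by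
        ext x
        simp only [Set.mem_inter_iff, Set.mem_iUnion, Set.mem_image]
        constructor
        · rintro ⟨hxU, hxV⟩
          obtain ⟨i, hi⟩ : ∃ i, s x = i := ⟨_, rfl⟩
          have hx : x ∈ Set.range (ι i) := by rw [h4 i]; exact hi
          obtain ⟨z, hz⟩ := hx
          have hzU : (ι i) z ∈ (U : Set X) := hz.symm ▸ hxU
          have hzV : (ι i) z ∈ (V : Set X) := hz.symm ▸ hxV
          exact ⟨i, z, ⟨hzU, hzV⟩, hz⟩
        · rintro ⟨i, z, ⟨hzU, hzV⟩, rfl⟩
          exact ⟨hzU, hzV⟩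
      rw [hUV]
      refine isCompact_iUnion fun i => ?_
      haveI := h2 i
      haveI := h3 i
      refine IsCompact.image ?_ (ι i).continuous
      exact QuasiSeparatedSpace.inter_isCompact _ _ ((ι i) ⁻¹ᵁ U.1).isOpen
        ((U.2.preimage (ι i)).isCompact) ((ι i) ⁻¹ᵁ V.1).isOpen
        ((V.2.preimage (ι i)).isCompact)
    exact ⟨hcompact, hqs⟩
  · rintro ⟨h1, h2⟩
    haveI := h1
    haveI := h2
    exact strat_of_reach_top (reach_top X)

end Groth.Agent.S1435
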