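import Groth.Statements.S14351
import Mathlib.RingTheory.Flat.FaithfullyFlat.Algebra

set_option autoImplicit false
universe u
open CAlg

namespace Groth.Agent.S14351

open TensorProduct in
/-- For ring maps A → B → C with C faithfully flat over B and C faithfully flat over A, the ring B is
faithfully flat over A. -/
theorem result (A B C : Type u) [CommRing A] [CommRing B]
    [CommRing C] [Algebra A B] [Algebra B C] [Algebra A C] [IsScalarTower A B C]
    [Module.FaithfullyFlat B C] [Module.FaithfullyFlat A C] : Module.FaithfullyFlat A B := by
  have hflat : Module.Flat A B := by
    rw [Module.Flat.iff_lTensor_preserves_injective_linearMap]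
    intro N P _ _ _ _ f hf
    have h1 : Function.Injective (LinearMap.lTensor C f) :=
      Module.Flat.lTensor_preserves_injective_linearMap f hf
    have key : Function.Injective (LinearMap.lTensor C (f.baseChange B)) := by
      have hcomm : ∀ x, (AlgebraTensorModule.cancelBaseChange A B C C P)
            ((LinearMap.lTensor C (f.baseChange B)) x) =
          (LinearMap.lTensor C f) ((AlgebraTensorModule.cancelBaseChange A B C C N) x) := by
        intro x
        induction x using TensorProduct.induction_on with
        | zero => simp
        | tmul c y =>
          induction y using TensorProduct.induction_on with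
          | zero => simp
          | tmul b n => simp
          | add y₁ y₂ h₁ h₂ => simp only [tmul_add, map_add, h₁, h₂]
        | add x₁ x₂ h₁ h₂ => simp only [map_add, h₁, h₂]
      have hinj : Function.Injective
          ((AlgebraTensorModule.cancelBaseChange A B C C P) ∘
            (LinearMap.lTensor C (f.baseChange B))) := by
        have : ((AlgebraTensorModule.cancelBaseChange A B C C P) ∘
            (LinearMap.lTensor C (f.baseChange B))) =
            (LinearMap.lTensor C f) ∘ (AlgebraTensorModule.cancelBaseChange A B C C N) := by
          funext x
          exact hcomm x
        rw [this]
        exact h1.comp (AlgebraTensorModule.cancelBaseChange A B C C N).injective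
      exact Function.Injective.of_comp hinj
    have := (Module.FaithfullyFlat.lTensor_injective_iff_injective B C (f.baseChange B)).mp key
    exact this
  refine Module.FaithfullyFlat.of_comap_surjective ?_
  intro p
  obtain ⟨q, hq⟩ := PrimeSpectrum.comap_surjective_of_faithfullyFlat (A := A) (B := C) p
  refine ⟨PrimeSpectrum.comap (algebraMap B C) q, ?_⟩
  rw [← hq]
  ext x
  simp [IsScalarTower.algebraMap_apply A B C]

end Groth.Agent.S14351
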