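import Groth.Statements.S6792
import Mathlib

set_option autoImplicit false
open CategoryTheory
universe v u
open SpSeq SpSeq.FilCx

namespace Groth.Agent.S6792


section helpers

open CategoryTheory.Limits

variable {A : Type u} [Category.{v} A] [Abelian A]

theorem subquot_isZero {X : A} (Z B : Subobject X) (h : B ≤ Z) (e : B = Z) :
    IsZero (SpSeq.subquot Z B h) := by
  subst e
  unfold SpSeq.subquot
  haveI : IsIso (B.ofLE B h) := by
    rw [Subobject.ofLE_refl]; infer_instance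
  exact isZero_cokernel_of_epi _

theorem filX_top_of_le (K : SpSeq.FilCx A) (n : ℤ) {a p : ℤ} (ha : K.filX a n = ⊤) (hp : p ≤ a) :
    K.filX p n = ⊤ := by
  have h1 : K.filX a n ≤ K.filX p n := K.filX_anti n hp
  rw [ha] at h1
  exact top_le_iff.mp h1

theorem filX_bot_of_le (K : SpSeq.FilCx A) (n : ℤ) {b p : ℤ} (hb : K.filX b n = ⊥) (hp : b ≤ p) :
    K.filX p n = ⊥ := by
  have h1 : K.filX p n ≤ K.filX b n := K.filX_anti n hp
  rw [hb] at h1
  exact le_bot_iff.mp h1

theorem pullback_bot {X Y : A} (f : X ⟶ Y) :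
    (Subobject.pullback f).obj ⊥ = kernelSubobject f := by
  apply le_antisymm
  · apply le_kernelSubobject
    have h0 : ∀ {W : A} (g : W ⟶ ((⊥ : Subobject Y) : A)), g ≫ (⊥ : Subobject Y).arrow = 0 := by
      intro W g
      rw [Subobject.bot_arrow, comp_zero]
    rw [Subobject.pullback_obj, ← Subobject.underlyingIso_hom_comp_eq_mk, Category.assoc,
      ← pullback.condition, h0, comp_zero]
  · exact SpSeq.FilCx.kernelSubobject_le_pullback f ⊥

theorem image_top_comp {X Y : A} (S : Subobject X) (hS : S = ⊤) (f : X ⟶ Y) :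
    imageSubobject (S.arrow ≫ f) = imageSubobject f := by
  subst hS
  exact imageSubobject_iso_comp _ f

theorem E_isZero_of_top (K : SpSeq.FilCx A) (r : ℕ) (p n : ℤ) (h : K.filX (p + 1) n = ⊤) :
    IsZero (K.E r p n) := by
  unfold SpSeq.FilCx.E
  apply subquot_isZero
  unfold SpSeq.FilCx.BSub SpSeq.FilCx.ZSub
  rw [h, sup_top_eq, sup_top_eq]

theorem E_isZero_of_bot (K : SpSeq.FilCx A) (r : ℕ) (p n : ℤ) (h : K.filX p n = ⊥)
    (h' : K.filX (p + 1) n = ⊥) : IsZero (K.E r p n) := by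
  unfold SpSeq.FilCx.E
  apply subquot_isZero
  unfold SpSeq.FilCx.BSub SpSeq.FilCx.ZSub
  rw [h, h', bot_inf_eq, bot_inf_eq]

theorem imageSubobject_eq_bot_of_eq_zero {X Y : A} (f : X ⟶ Y) (h : f = 0) :
    imageSubobject f = ⊥ := by
  subst h
  exact imageSubobject_zero

theorem filH_eq_bot (K : SpSeq.FilCx A) (p n : ℤ) (h : K.filX p n = ⊥) : K.filH p n = ⊥ := by
  unfold SpSeq.FilCx.filH
  have h' : Subobject.mk ((K.fil p).arrow.f n) = ⊥ := h
  have h0 : (K.fil p).arrow.f n = 0 := Subobject.mk_eq_bot_iff_zero.mp h'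
  have hz : IsZero ((K.fil p : CochainComplex A ℤ).X n) := IsZero.of_mono_eq_zero _ h0
  have hH : IsZero ((K.fil p : CochainComplex A ℤ).homology n) :=
    ShortComplex.isZero_homology_of_isZero_X₂ (S := (K.fil p : CochainComplex A ℤ).sc n) hz
  exact imageSubobject_eq_bot_of_eq_zero _ (hH.eq_of_src _ _)

theorem filH_eq_top (K : SpSeq.FilCx A) (p n : ℤ) (h1 : K.filX p (n - 1) = ⊤)
    (h2 : K.filX p n = ⊤) (h3 : K.filX p (n + 1) = ⊤) : K.filH p n = ⊤ := by
  unfold SpSeq.FilCx.filH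
  haveI i1 : IsIso ((K.fil p).arrow.f (n - 1)) := (Subobject.isIso_iff_mk_eq_top _).mpr h1
  haveI i2 : IsIso ((K.fil p).arrow.f n) := (Subobject.isIso_iff_mk_eq_top _).mpr h2
  haveI i3 : IsIso ((K.fil p).arrow.f (n + 1)) := (Subobject.isIso_iff_mk_eq_top _).mpr h3
  have hq : QuasiIsoAt (K.fil p).arrow n := by
    rw [quasiIsoAt_iff' _ (n - 1) n (n + 1) (by simp) (by simp)]
    haveI e1 : Epi ((HomologicalComplex.shortComplexFunctor' A (ComplexShape.up ℤ)
        (n - 1) n (n + 1)).map (K.fil p).arrow).τ₁ :=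
      (inferInstance : Epi ((K.fil p).arrow.f (n - 1)))
    haveI e2 : IsIso ((HomologicalComplex.shortComplexFunctor' A (ComplexShape.up ℤ)
        (n - 1) n (n + 1)).map (K.fil p).arrow).τ₂ :=
      (inferInstance : IsIso ((K.fil p).arrow.f n))
    haveI e3 : Mono ((HomologicalComplex.shortComplexFunctor' A (ComplexShape.up ℤ)
        (n - 1) n (n + 1)).map (K.fil p).arrow).τ₃ :=
      (inferInstance : Mono ((K.fil p).arrow.f (n + 1)))
    exact ShortComplex.quasiIso_of_epi_of_isIso_of_mono _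
  rw [quasiIsoAt_iff_isIso_homologyMap] at hq
  haveI := hq
  rw [imageSubobject_mono, Subobject.mk_eq_top_of_isIso]

theorem isRegular' (K : SpSeq.FilCx A) (hK : ∀ n : ℤ, (K.XFil n).IsFinite) : K.IsRegular := by
  intro p n
  obtain ⟨-, ⟨b, hb⟩⟩ := hK (n + 1)
  have hb' : K.filX b (n + 1) = ⊥ := hb
  refine ⟨(b - p).toNat, fun r hr => ?_⟩
  have e1 : K.filX (p + (r : ℤ)) (n + 1) = ⊥ := filX_bot_of_le K (n + 1) hb' (by omega)
  have e2 : K.filX (p + (((b - p).toNat : ℕ) : ℤ)) (n + 1) = ⊥ :=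
    filX_bot_of_le K (n + 1) hb' (by omega)
  unfold SpSeq.FilCx.ZSub
  rw [e1, e2]

theorem weakly' (K : SpSeq.FilCx A) (hK : ∀ n : ℤ, (K.XFil n).IsFinite) :
    K.WeaklyConverges := by
  intro p n
  constructor
  · obtain ⟨-, ⟨b, hb⟩⟩ := hK (n + 1)
    have hb' : K.filX b (n + 1) = ⊥ := hb
    constructor
    · rintro _ ⟨r, rfl⟩
      show K.ZTop p n ≤ K.ZSub r p n
      unfold SpSeq.FilCx.ZTop SpSeq.FilCx.ZSub
      exact sup_le_sup_right
        (inf_le_inf_left _ (SpSeq.FilCx.kernelSubobject_le_pullback _ _)) _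
    · intro S hS
      have h1 : S ≤ K.ZSub (b - p).toNat p n := hS (Set.mem_range_self (b - p).toNat)
      have e2 : K.filX (p + (((b - p).toNat : ℕ) : ℤ)) (n + 1) = ⊥ :=
        filX_bot_of_le K (n + 1) hb' (by omega)
      have e3 : K.ZSub (b - p).toNat p n = K.ZTop p n := by
        unfold SpSeq.FilCx.ZTop SpSeq.FilCx.ZSub
        rw [e2, pullback_bot]
      rw [e3] at h1
      exact h1
  · obtain ⟨⟨a, ha⟩, -⟩ := hK (n - 1)
    have ha' : K.filX a (n - 1) = ⊤ := ha
    constructor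
    · rintro _ ⟨r, rfl⟩
      show K.BSub r p n ≤ K.BBot p n
      unfold SpSeq.FilCx.BSub SpSeq.FilCx.BBot
      exact sup_le_sup_right (inf_le_inf_left _ (imageSubobject_comp_le _ _)) _
    · intro S hS
      have h1 : K.BSub (p + 1 - a).toNat p n ≤ S := hS (Set.mem_range_self (p + 1 - a).toNat)
      have e2 : K.filX (p - (((p + 1 - a).toNat : ℕ) : ℤ) + 1) (n - 1) = ⊤ :=
        filX_top_of_le K (n - 1) ha' (by omega)
      have e3 : K.BSub (p + 1 - a).toNat p n = K.BBot p n := by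
        unfold SpSeq.FilCx.BSub SpSeq.FilCx.BBot
        rw [image_top_comp _ e2]
      rw [e3] at h1
      exact h1

theorem hfil_finite (K : SpSeq.FilCx A) (hK : ∀ n : ℤ, (K.XFil n).IsFinite) (n : ℤ) :
    (K.HFil n).IsFinite := by
  obtain ⟨⟨a1, ha1⟩, -⟩ := hK (n - 1)
  obtain ⟨⟨a2, ha2⟩, ⟨b, hb⟩⟩ := hK n
  obtain ⟨⟨a3, ha3⟩, -⟩ := hK (n + 1)
  refine ⟨⟨min a1 (min a2 a3), ?_⟩, ⟨b, ?_⟩⟩
  · exact filH_eq_top K _ n (filX_top_of_le K (n - 1) ha1 (min_le_left _ _))
      (filX_top_of_le K n ha2 ((min_le_right _ _).trans (min_le_left _ _)))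
      (filX_top_of_le K (n + 1) ha3 ((min_le_right _ _).trans (min_le_right _ _)))
  · exact filH_eq_bot K b n hb

theorem sep_of_finite (F : SpSeq.FilObj A) (h : F.IsFinite) :
    F.IsSeparated ∧ F.IsExhaustive := by
  obtain ⟨⟨a, ha⟩, ⟨b, hb⟩⟩ := h
  constructor
  · constructor
    · intro S _
      exact bot_le
    · intro S hS
      exact (hS (Set.mem_range_self b)).trans (le_of_eq hb)
  · constructor
    · intro S _
      exact le_top
    · intro S hS
      exact (le_of_eq ha.symm).trans (hS (Set.mem_range_self a))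

theorem arrow_eq_zero_of_eq_bot {X : A} (S : Subobject X) (h : S = ⊥) : S.arrow = 0 := by
  subst h
  exact Subobject.bot_arrow

theorem isIso_cokernel_π_of_eq_zero {X Y : A} (f : X ⟶ Y) (h : f = 0) :
    IsIso (cokernel.π f) := by
  subst h
  infer_instance

theorem complete_of_bot (F : SpSeq.FilObj A) (b : ℤ) (hb : F.fil b = ⊥) : F.IsComplete := by
  intro T f hf
  have iso_of_le : ∀ p, b ≤ p → IsIso (cokernel.π (F.fil p).arrow) := by
    intro p hp
    have h1 : F.fil p ≤ F.fil b := F.anti hp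
    rw [hb] at h1
    exact isIso_cokernel_π_of_eq_zero _ (arrow_eq_zero_of_eq_bot _ (le_bot_iff.mp h1))
  haveI := iso_of_le b le_rfl
  have key : ∀ {p q : ℤ} (h : p ≤ q),
      cokernel.π (F.fil q).arrow ≫ F.quotMap h = cokernel.π (F.fil p).arrow := by
    intro p q h
    unfold SpSeq.FilObj.quotMap
    exact cokernel.π_desc _ _ _
  refine ⟨f b ≫ inv (cokernel.π (F.fil b).arrow), fun p => ?_⟩
  rcases le_total p b with hpb | hbp
  · calc (f b ≫ inv (cokernel.π (F.fil b).arrow)) ≫ cokernel.π (F.fil p).arrow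
        = (f b ≫ inv (cokernel.π (F.fil b).arrow)) ≫
            (cokernel.π (F.fil b).arrow ≫ F.quotMap hpb) := by rw [key hpb]
      _ = f b ≫ F.quotMap hpb := by simp
      _ = f p := hf p b hpb
  · haveI := iso_of_le p hbp
    have hq : F.quotMap hbp =
        inv (cokernel.π (F.fil p).arrow) ≫ cokernel.π (F.fil b).arrow := by
      rw [← key hbp]
      simp
    haveI : IsIso (F.quotMap hbp) := by
      rw [hq]; infer_instance
    rw [← cancel_mono (F.quotMap hbp), Category.assoc, key hbp, hf b p hbp]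
    simp

end helpers

/-- For a filtered complex whose filtration is finite in each degree, the associated spectral sequence
is bounded (from page `0` on), the induced filtration on each cohomology object is finite, and the
spectral sequence converges to the cohomology. -/
theorem result {A : Type u} [Category.{v} A] [Abelian A] (K : SpSeq.FilCx A) (hK : ∀ n : ℤ, (K.XFil n).IsFinite) : K.IsBounded 0 ∧ (∀ n : ℤ, (K.HFil n).IsFinite) ∧ K.Converges := by
  refine ⟨?_, fun n => hfil_finite K hK n, ⟨isRegular' K hK,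
    ⟨weakly' K hK, fun n => sep_of_finite _ (hfil_finite K hK n)⟩, fun n => ?_⟩⟩
  · intro n
    obtain ⟨⟨a, ha⟩, ⟨b, hb⟩⟩ := hK n
    have ha' : K.filX a n = ⊤ := ha
    have hb' : K.filX b n = ⊥ := hb
    apply (Set.finite_Ico a b).subset
    intro p hp
    by_contra hcon
    apply hp
    rw [Set.mem_Ico, not_and_or, not_le, not_lt] at hcon
    rcases hcon with h | h
    · exact E_isZero_of_top K 0 p n (filX_top_of_le K n ha' (by omega))
    · exact E_isZero_of_bot K 0 p n (filX_bot_of_le K n hb' h)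
        (filX_bot_of_le K n hb' (by omega))
  · obtain ⟨-, ⟨b, hb⟩⟩ := hfil_finite K hK n
    exact complete_of_bot _ b hb

end Groth.Agent.S6792
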