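import Groth.Statements.S8355
import Mathlib

set_option autoImplicit false
universe v u
open CategoryTheory CategoryTheory.Limits
open SpSeq

namespace Groth.Agent.S8355

/-- Let E be a spectral sequence in an abelian category and suppose E_r^{p,q} = 0. Then E_k^{p,q} = 0
for every k ≥ r, and E_∞^{p,q} = 0: for any abutment data (H^n) of E, the graded piece gr^p H^{p+q},
identified by the abutment with the limit term at (p, q), is zero. -/
theorem result {C : Type u} [Category.{v} C] [Abelian C] {r₀ : ℤ}
    (E : CohomologicalSpectralSequence C r₀) (r : ℤ) (hr : r₀ ≤ r) (pq : ℤ × ℤ)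
    (h : IsZero ((E.page r hr).X pq)) :
    (∀ (k : ℤ) (hk : r ≤ k), IsZero ((E.page k (hr.trans hk)).X pq)) ∧
      ∀ (H : ℤ → C) (a : SpSeq.Abutment E H),
        IsZero (SpSeq.grPiece (a.fil (pq.1 + pq.2)) (a.anti (pq.1 + pq.2)) pq.1) := by
  have hzero_next : ∀ (k : ℤ) (hk : r₀ ≤ k), IsZero ((E.page k hk).X pq) →
      IsZero ((E.page (k + 1) (by lia)).X pq) := by
    intro k hk hz
    refine IsZero.of_iso ?_ (E.iso k (k + 1) pq rfl hk).symm
    exact (HomologicalComplex.exactAt_iff_isZero_homology _ _).1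
      (ShortComplex.exact_of_isZero_X₂ _ hz)
  have part1 : ∀ (k : ℤ) (hk : r ≤ k), IsZero ((E.page k (hr.trans hk)).X pq) := by
    intro k hk
    induction k, hk using Int.le_induction with
    | base => exact h
    | succ k hk ih => exact hzero_next k (hr.trans hk) ih
  refine ⟨part1, fun H a => ?_⟩
  refine IsZero.of_iso ?_ (a.β pq).symm
  obtain ⟨h₀, hst⟩ := a.stat pq
  have hdown : ∀ (k : ℤ) (hk : r₀ ≤ k), a.rk pq ≤ k →
      IsZero ((E.page (k + 1) (by lia)).X pq) → IsZero ((E.page k hk).X pq) := by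
    intro k hk hρ hz
    obtain ⟨hin, hout⟩ := hst k hk hρ
    have h1 : IsZero ((E.page k hk).homology pq) := IsZero.of_iso hz (E.iso k (k + 1) pq rfl hk)
    have e1 := (E.page k hk).isoHomologyπ (pq - (k, 1 - k)) pq
      (ComplexShape.prev_eq' _ (by simp)) hin
    have e2 := (E.page k hk).iCyclesIso pq (pq + (k, 1 - k))
      (ComplexShape.next_eq' _ (by simp)) hout
    exact IsZero.of_iso (IsZero.of_iso h1 e1) e2.symm
  have hgen : ∀ (n : ℕ) (k : ℤ) (hk : r₀ ≤ k), a.rk pq ≤ k → k + n = r →
      IsZero ((E.page k hk).X pq) := by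
    intro n
    induction n with
    | zero =>
      intro k hk _ hkr
      have : k = r := by simpa using hkr
      subst this
      exact h
    | succ n ih =>
      intro k hk hρ hkr
      exact hdown k hk hρ (ih (k + 1) (by lia) (by lia) (by push_cast at hkr; lia))
  by_cases hcmp : r ≤ a.rk pq
  · exact part1 (a.rk pq) hcmp
  · push Not at hcmp
    exact hgen (r - a.rk pq).toNat (a.rk pq) h₀ le_rfl (by lia)

end Groth.Agent.S8355
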