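import Groth.Statements.S8347
import Mathlib
import Groth.Agent.S8355
import Groth.Agent.S6792

set_option autoImplicit false
universe v u
open CategoryTheory CategoryTheory.Limits
open SpSeq

namespace Groth.Agent.S8347


section helpers
open CategoryTheory CategoryTheory.Limits

variable {C : Type u} [Category.{v} C] [Abelian C]

lemma eq_of_isZero_subquot {X : C} (Z B : Subobject X) (h : B ≤ Z)
    (hz : IsZero (SpSeq.subquot Z B h)) : B = Z := by
  haveI : Epi (B.ofLE Z h) := Preadditive.epi_of_isZero_cokernel _ hz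
  haveI : IsIso (B.ofLE Z h) := isIso_of_mono_of_epi _
  refine le_antisymm h ?_
  exact Subobject.le_of_comm (inv (B.ofLE Z h)) (by rw [IsIso.inv_comp_eq, Subobject.ofLE_arrow])

lemma iso_subquot_of_top_bot {X : C} (Z B : Subobject X) (h : B ≤ Z) (hZ : Z = ⊤) (hB : B = ⊥) :
    Nonempty (X ≅ SpSeq.subquot Z B h) := by
  have h0 : B.ofLE Z h = 0 := by
    rw [← cancel_mono Z.arrow, Subobject.ofLE_arrow, zero_comp]
    exact Groth.Agent.S6792.arrow_eq_zero_of_eq_bot B hB
  haveI : IsIso (cokernel.π (B.ofLE Z h)) := Groth.Agent.S6792.isIso_cokernel_π_of_eq_zero _ h0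
  haveI : IsIso Z.arrow := (Subobject.isIso_arrow_iff_eq_top Z).2 hZ
  have e : X ≅ cokernel (B.ofLE Z h) := (asIso Z.arrow).symm ≪≫ asIso (cokernel.π (B.ofLE Z h))
  exact ⟨e⟩

lemma pageIso {r₀ : ℤ} (E : CohomologicalSpectralSequence C r₀) (pq : ℤ × ℤ) (s : ℤ)
    (hs : SpSeq.StationaryAt E pq s) :
    ∀ (k : ℤ) (hk : s ≤ k),
      Nonempty ((E.page s hs.1).X pq ≅ (E.page k (hs.1.trans hk)).X pq) := by
  intro k hk
  induction k, hk using Int.le_induction with
  | base => exact ⟨Iso.refl _⟩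
  | succ k hk ih =>
    obtain ⟨e⟩ := ih
    obtain ⟨hin, hout⟩ := hs.2 k (hs.1.trans hk) hk
    have e1 := (E.page k (hs.1.trans hk)).isoHomologyπ (pq - (k, 1 - k)) pq
      (ComplexShape.prev_eq' _ (by simp)) hin
    have e2 := (E.page k (hs.1.trans hk)).iCyclesIso pq (pq + (k, 1 - k))
      (ComplexShape.next_eq' _ (by simp)) hout
    exact ⟨e ≪≫ e2.symm ≪≫ e1 ≪≫ E.iso k (k + 1) pq rfl (hs.1.trans hk)⟩

theorem main' {r₀ : ℤ} (E : CohomologicalSpectralSequence C r₀) {H : ℤ → C}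
    (a : SpSeq.Abutment E H) (r : ℤ) (hr : r₀ ≤ r) (q : ℤ → ℤ)
    (hdeg : ∀ m q' : ℤ, q' ≠ q m → IsZero ((E.page r hr).X (m - q', q')))
    (pq₀ : ℤ × ℤ) (n : ℤ) (hpq : pq₀.1 + pq₀.2 = n) (hq : pq₀.2 = q n)
    (hdisc : (a.filObj n).IsDiscrete) (hexh : a.IsExhaustive n)
    (hst : SpSeq.StationaryAt E pq₀ r) :
    Nonempty (H n ≅ (E.page r hr).X pq₀) := by
  subst hpq
  have hanti : Antitone (a.fil (pq₀.1 + pq₀.2)) := a.anti _
  have hF : ∀ p : ℤ, p ≠ pq₀.1 →
      a.fil (pq₀.1 + pq₀.2) (p + 1) = a.fil (pq₀.1 + pq₀.2) p := by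
    intro p hp
    have hz : IsZero ((E.page r hr).X (p, pq₀.1 + pq₀.2 - p)) := by
      have h1 := hdeg (pq₀.1 + pq₀.2) (pq₀.1 + pq₀.2 - p)
        (by rw [← hq]; intro h; apply hp; lia)
      have e : pq₀.1 + pq₀.2 - (pq₀.1 + pq₀.2 - p) = p := by ring
      rwa [e] at h1
    have hg := (Groth.Agent.S8355.result E r hr (p, pq₀.1 + pq₀.2 - p) hz).2 H a
    have e : p + (pq₀.1 + pq₀.2 - p) = pq₀.1 + pq₀.2 := by ring
    dsimp only at hg
    rw [e] at hg
    exact eq_of_isZero_subquot _ _ _ hg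
  have hA : ∀ p : ℤ, pq₀.1 + 1 ≤ p →
      a.fil (pq₀.1 + pq₀.2) p = a.fil (pq₀.1 + pq₀.2) (pq₀.1 + 1) := fun p hp =>
    Int.le_induction (m := pq₀.1 + 1)
      (motive := fun p _ => a.fil (pq₀.1 + pq₀.2) p = a.fil (pq₀.1 + pq₀.2) (pq₀.1 + 1)) rfl
      (fun p hp ih => by rw [hF p (by lia)]; exact ih) p hp
  have hB : ∀ p : ℤ, p ≤ pq₀.1 →
      a.fil (pq₀.1 + pq₀.2) p = a.fil (pq₀.1 + pq₀.2) pq₀.1 := fun p hp =>
    Int.le_induction_down (m := pq₀.1)
      (motive := fun p _ => a.fil (pq₀.1 + pq₀.2) p = a.fil (pq₀.1 + pq₀.2) pq₀.1) rfl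
      (fun p hp ih => by
        have h1 := hF (p - 1) (by lia)
        rw [sub_add_cancel] at h1
        rw [← h1]; exact ih) p hp
  obtain ⟨b, hb⟩ := hdisc
  have hb' : a.fil (pq₀.1 + pq₀.2) b = ⊥ := hb
  have hbot : a.fil (pq₀.1 + pq₀.2) (pq₀.1 + 1) = ⊥ := by
    by_cases hbp : pq₀.1 + 1 ≤ b
    · rw [← hA b hbp]; exact hb'
    · exact le_bot_iff.1 ((hanti (by lia : b ≤ pq₀.1 + 1)).trans_eq hb')
  have htop : a.fil (pq₀.1 + pq₀.2) pq₀.1 = ⊤ := by
    apply top_le_iff.1
    apply hexh.2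
    rintro _ ⟨p, rfl⟩
    by_cases hp : p ≤ pq₀.1
    · exact (hB p hp).le
    · exact hanti (by lia)
  obtain ⟨e0⟩ := iso_subquot_of_top_bot (a.fil (pq₀.1 + pq₀.2) pq₀.1)
    (a.fil (pq₀.1 + pq₀.2) (pq₀.1 + 1)) (hanti (Int.le_add_one le_rfl)) htop hbot
  have eβ := a.β pq₀
  obtain ⟨e1⟩ := pageIso E pq₀ (a.rk pq₀) (a.stat _) (max (a.rk pq₀) r) (le_max_left _ _)
  obtain ⟨e2⟩ := pageIso E pq₀ r hst (max (a.rk pq₀) r) (le_max_right _ _)
  exact ⟨e0 ≪≫ eβ.symm ≪≫ e1 ≪≫ e2.symm⟩

end helpers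

/-- Let E be a spectral sequence in an abelian category with abutment data (H^m), and suppose that for
some page r and every total degree m there is an integer q(m) such that E_r^{m-q,q} = 0 for every q
other than q(m). Let n be a total degree such that the filtration of H^n is discrete (some step is
zero) and exhaustive (H^n is the supremum of the steps), and such that the position (n - q(n), q(n))
is stationary from page r on. Then H^n is isomorphic to E_r^{n-q(n), q(n)}. (The published statement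
asserts this without any condition on the differentials at the surviving positions; that version
fails when a differential d_r links the surviving terms of two consecutive total degrees, for
instance a spectral sequence whose only nonzero page-2 terms are E_2^{0,1} and E_2^{2,0} with d_2 an
isomorphism between them and zero abutment. The stationarity assumed here is automatic when q(m)
does not depend on m and r ≥ 2.) -/
theorem result {C : Type u} [Category.{v} C] [Abelian C] {r₀ : ℤ}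
    (E : CohomologicalSpectralSequence C r₀) {H : ℤ → C} (a : SpSeq.Abutment E H)
    (r : ℤ) (hr : r₀ ≤ r) (q : ℤ → ℤ)
    (hdeg : ∀ m q' : ℤ, q' ≠ q m → IsZero ((E.page r hr).X (m - q', q')))
    (n : ℤ) (hdisc : (a.filObj n).IsDiscrete) (hexh : a.IsExhaustive n)
    (hst : SpSeq.StationaryAt E (n - q n, q n) r) :
    Nonempty (H n ≅ (E.page r hr).X (n - q n, q n)) := by
  exact Groth.Agent.S8347.main' E a r hr q hdeg (n - q n, q n) n (by simp) rfl hdisc hexh hst

end Groth.Agent.S8347
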