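import Groth.Statements.S14355
import Mathlib
import Groth.Agent.S8355
import Groth.Agent.S8347

set_option autoImplicit false
universe v u
open CategoryTheory CategoryTheory.Limits
open SpSeqMor

namespace Groth.Agent.S14355

section helpers
open CategoryTheory CategoryTheory.Limits

variable {C : Type u} [Category.{v} C] [Abelian C]

lemma homologyMap_eq_zero {ι : Type*} {c : ComplexShape ι} {K L : HomologicalComplex C c}
    (φ : K ⟶ L) (i : ι) (h : φ.f i = 0) : HomologicalComplex.homologyMap φ i = 0 := by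
  have h1 : HomologicalComplex.cyclesMap φ i = 0 := by
    rw [← cancel_mono (L.iCycles i), HomologicalComplex.cyclesMap_i, h, comp_zero, zero_comp]
  rw [← cancel_epi (K.homologyπ i), HomologicalComplex.homologyπ_naturality, h1, zero_comp,
    comp_zero]

lemma phi_zero {E E' : E₂CohomologicalSpectralSequence C} (φ : E ⟶ E') (pq : ℤ × ℤ)
    (h : (φ.hom 2 le_rfl).f pq = 0) : ∀ (r : ℤ) (hr : 2 ≤ r), (φ.hom r hr).f pq = 0 := by
  intro r hr
  induction r, hr using Int.le_induction with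
  | base => exact h
  | succ r hr ih =>
    rw [← cancel_epi (E.iso r (r + 1) pq rfl hr).hom, ← φ.comm r (r + 1) pq rfl hr,
      homologyMap_eq_zero _ _ ih, zero_comp, comp_zero]

lemma gr_zero {r₀ : ℤ} (E : CohomologicalSpectralSequence C r₀) {H : ℤ → C}
    (a : SpSeq.Abutment E H) (i j n : ℤ) (hn : i + j = n)
    (h : IsZero ((E.page r₀ le_rfl).X (i, j))) : IsZero ((a.filObj n).gr i) := by
  subst hn
  exact (Groth.Agent.S8355.result E r₀ le_rfl (i, j) h).2 H a

lemma fil_eq_top (K : SpSeq.FilObj C) (a₀ : ℤ) (hfin : ∃ a, K.fil a = ⊤)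
    (hgr : ∀ i, i < a₀ → IsZero (K.gr i)) : K.fil a₀ = ⊤ := by
  obtain ⟨a, ha⟩ := hfin
  by_cases h : a₀ ≤ a
  · exact top_le_iff.1 (by rw [← ha]; exact K.anti h)
  · have key : ∀ m, a ≤ m → m ≤ a₀ → K.fil m = ⊤ := by
      intro m hm
      induction m, hm using Int.le_induction with
      | base => intro _; exact ha
      | succ m hm ih =>
        intro hm'
        have h1 := ih (by omega)
        have h2 : IsZero (K.gr m) := hgr m (by omega)
        have h3 := Groth.Agent.S8347.eq_of_isZero_subquot (K.fil m) (K.fil (m + 1))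
          (K.anti (Int.le_add_one le_rfl)) h2
        rw [h3]; exact h1
    exact key a₀ (by omega) le_rfl

lemma fil_eq_bot (L : SpSeq.FilObj C) (a₀ : ℤ) (hfin : ∃ b, L.fil b = ⊥)
    (hgr : ∀ i, a₀ < i → IsZero (L.gr i)) : L.fil (a₀ + 1) = ⊥ := by
  obtain ⟨b, hb⟩ := hfin
  by_cases h : b ≤ a₀ + 1
  · exact le_bot_iff.1 (by rw [← hb]; exact L.anti h)
  · have key : ∀ m, m ≤ b → a₀ + 1 ≤ m → L.fil m = ⊥ := by
      intro m hm
      induction m, hm using Int.leInductionDown with
      | base => intro _; exact hb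
      | pred m hm ih =>
        intro hm'
        have h1 := ih (by omega)
        have h2 : IsZero (L.gr (m - 1)) := hgr (m - 1) (by omega)
        have h3 := Groth.Agent.S8347.eq_of_isZero_subquot (L.fil (m - 1)) (L.fil (m - 1 + 1))
          (L.anti (Int.le_add_one le_rfl)) h2
        have e : m - 1 + 1 = m := by ring
        rw [e] at h3
        rw [← h3]; exact h1
    exact key (a₀ + 1) (by omega) le_rfl

lemma hom_eq_zero {K L : SpSeq.FilObj C} (g : SpSeqMor.FilLift K L) (a₀ : ℤ)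
    (hK : K.fil a₀ = ⊤) (hL : L.fil (a₀ + 1) = ⊥) (hgr : g.gr a₀ = 0) : g.hom = 0 := by
  have h0 : cokernel.π (K.stepLE (Int.le_add_one (le_refl a₀))) ≫ g.gr a₀ =
      g.lift a₀ ≫ cokernel.π (L.stepLE (Int.le_add_one (le_refl a₀))) := by
    exact cokernel.π_desc _ _ _
  have h1 : g.lift a₀ ≫ cokernel.π (L.stepLE (Int.le_add_one (le_refl a₀))) = 0 := by
    rw [← h0, hgr]; exact comp_zero
  have h2 : L.stepLE (Int.le_add_one (le_refl a₀)) = 0 := by
    rw [← cancel_mono (L.fil a₀).arrow, zero_comp]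
    show (L.fil (a₀ + 1)).ofLE (L.fil a₀) _ ≫ _ = 0
    rw [Subobject.ofLE_arrow]
    exact Groth.Agent.S6792.arrow_eq_zero_of_eq_bot _ hL
  haveI : IsIso (cokernel.π (L.stepLE (Int.le_add_one (le_refl a₀)))) :=
    Groth.Agent.S6792.isIso_cokernel_π_of_eq_zero _ h2
  have h3 : g.lift a₀ = 0 := by
    rw [← cancel_mono (cokernel.π (L.stepLE (Int.le_add_one (le_refl a₀)))), h1, zero_comp]
  haveI : IsIso (K.fil a₀).arrow := (Subobject.isIso_arrow_iff_eq_top _).2 hK
  rw [← cancel_epi (K.fil a₀).arrow, ← g.lift_arrow, h3, zero_comp, comp_zero]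

theorem main' (E E' : E₂CohomologicalSpectralSequence C) (φ : E ⟶ E') (H H' : ℤ → C)
    (a : SpSeq.Abutment E H) (a' : SpSeq.Abutment E' H')
    (f : SpSeqMor.AbutHom φ a a') (pq : ℤ × ℤ) (n : ℤ) (hn : pq.1 + pq.2 = n)
    (ha : a.IsFinite n) (ha' : a'.IsFinite n)
    (hE : ∀ i : ℤ, i < pq.1 → IsZero ((E.page 2 le_rfl).X (i, n - i)))
    (hE' : ∀ i : ℤ, pq.1 < i → IsZero ((E'.page 2 le_rfl).X (i, n - i)))
    (hφ : (φ.hom 2 le_rfl).f pq = 0) : f.hom n = 0 := by
  subst hn
  have ha1 : ∃ a₁, (a.filObj (pq.1 + pq.2)).fil a₁ = ⊤ := ha.1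
  have ha2 : ∃ b₁, (a'.filObj (pq.1 + pq.2)).fil b₁ = ⊥ := ha'.2
  apply hom_eq_zero (f.fil (pq.1 + pq.2)) pq.1
  · apply fil_eq_top (a.filObj _) pq.1 ha1
    intro i hi
    exact gr_zero E a i (pq.1 + pq.2 - i) _ (by ring) (hE i hi)
  · apply fil_eq_bot (a'.filObj _) pq.1 ha2
    intro i hi
    exact gr_zero E' a' i (pq.1 + pq.2 - i) _ (by ring) (hE' i hi)
  · have hφ' := phi_zero φ pq hφ
    have hk : a.rk pq + (((max (a.rk pq) (a'.rk pq)) - a.rk pq).toNat : ℤ) =
        a'.rk pq + (((max (a.rk pq) (a'.rk pq)) - a'.rk pq).toNat : ℤ) := by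
      rw [Int.toNat_of_nonneg (sub_nonneg.2 (le_max_left _ _)),
        Int.toNat_of_nonneg (sub_nonneg.2 (le_max_right _ _))]
      ring
    have hc := f.comm pq _ _ hk
    rw [hφ' _ _] at hc
    simp only [zero_comp, comp_zero] at hc
    exact (cancel_epi (a.β pq).hom).1 (hc.trans comp_zero.symm)


end helpers

/-- Let φ : E ⟶ E' be a morphism of E_2-cohomological spectral sequences in an abelian category, with
abutments H and H' whose filtrations are finite in each degree, and f a morphism of abutment data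
over φ. Fix integers l and a₀. If E_2^{i, l-i} = 0 for i < a₀, E'_2^{i, l-i} = 0 for i > a₀ and
φ_2^{a₀, l-a₀} = 0, then f^l : H^l ⟶ H'^l is zero. (The published statement prints the two vanishing
hypotheses at positions (i, l); the argument works on the line of total degree l, at positions (i, l
- i), which is the form stated here.) -/
theorem result (C : Type u) [Category.{v} C] [Abelian C]
    (E E' : E₂CohomologicalSpectralSequence C) (φ : E ⟶ E') (H H' : ℤ → C)
    (a : SpSeq.Abutment E H) (a' : SpSeq.Abutment E' H')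
    (ha : ∀ n : ℤ, a.IsFinite n) (ha' : ∀ n : ℤ, a'.IsFinite n)
    (f : SpSeqMor.AbutHom φ a a') (l a₀ : ℤ)
    (hE : ∀ i : ℤ, i < a₀ → IsZero ((E.page 2 le_rfl).X (i, l - i)))
    (hE' : ∀ i : ℤ, a₀ < i → IsZero ((E'.page 2 le_rfl).X (i, l - i)))
    (hφ : (φ.hom 2 le_rfl).f (a₀, l - a₀) = 0) :
    f.hom l = 0 := by
  exact Groth.Agent.S14355.main' E E' φ H H' a a' f (a₀, l - a₀) l (by show a₀ + (l - a₀) = l; ring) (ha l) (ha' l) hE hE' hφ

end Groth.Agent.S14355
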