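import Groth.Statements.S14357
import Mathlib

set_option autoImplicit false
universe u
open AlgebraicGeometry
open Proj

namespace Groth.Agent.S14357

/-- For a field k the projective line over k is not an affine scheme. (The projective line is taken here
as Proj of the polynomial ring in two variables over k with its standard grading; the book builds it
by gluing two affine lines and identifies the two constructions later.) -/
theorem result (k : Type u) [Field k] :
    ¬ IsAffine (CohB1.ProjSpace 1 k) := by
  intro haff
  haveI : IsScalarTower k ((CohB1.polyGrading 1 k) 0) (MvPolynomial (Fin 2) k) := by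
    constructor
    intro a b c
    rw [Algebra.smul_def, Algebra.smul_def b c, Algebra.smul_def a, ← mul_assoc]
    congr 1
    exact Algebra.smul_def a (b : MvPolynomial (Fin 2) k)
  haveI : Algebra.FiniteType ((CohB1.polyGrading 1 k) 0) (MvPolynomial (Fin 2) k) :=
    Algebra.FiniteType.of_restrictScalars_finiteType k ((CohB1.polyGrading 1 k) 0) _
  haveI : IsAffine (Proj (CohB1.polyGrading 1 k)) := haff
  have hprop : IsProper (Proj.toSpecZero (CohB1.polyGrading 1 k)) := inferInstance
  haveI hfin : IsFinite (Proj.toSpecZero (CohB1.polyGrading 1 k)) :=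
    IsFinite.iff_isProper_and_isAffineHom.2 ⟨hprop, inferInstance⟩
  have hfin' := Scheme.Hom.finite_appTop (Proj.toSpecZero (CohB1.polyGrading 1 k))
  haveI hmf : Module.Finite k ((CohB1.polyGrading 1 k) 0) := by
    apply Module.Finite.iff_fg.2
    show (MvPolynomial.homogeneousSubmodule (Fin 2) k 0).FG
    rw [MvPolynomial.homogeneousSubmodule_zero, Submodule.one_eq_span]
    exact Submodule.fg_span_singleton _
  have h2 : ((Scheme.ΓSpecIso (CommRingCat.of ((CohB1.polyGrading 1 k) 0))).inv.hom).Finite :=
    RingHom.Finite.of_surjective _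
      (CategoryTheory.ConcreteCategory.bijective_of_isIso (Scheme.ΓSpecIso (CommRingCat.of ((CohB1.polyGrading 1 k) 0))).inv).2
  have h3 : (algebraMap k ((CohB1.polyGrading 1 k) 0)).Finite := RingHom.finite_algebraMap.2 hmf
  have h4 := (hfin'.comp h2).comp h3
  have hart : IsArtinianRing Γ(Proj (CohB1.polyGrading 1 k), ⊤) := by
    algebraize [((Proj.toSpecZero (CohB1.polyGrading 1 k)).appTop.hom.comp (Scheme.ΓSpecIso (CommRingCat.of ((CohB1.polyGrading 1 k) 0))).inv.hom).comp (algebraMap k ((CohB1.polyGrading 1 k) 0))]
    haveI : Module.Finite k Γ(Proj (CohB1.polyGrading 1 k), ⊤) := h4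
    exact IsArtinianRing.of_finite k _
  -- topology
  have hT1 : ∀ x y : Proj (CohB1.polyGrading 1 k), x ⤳ y → x = y := by
    intro x y hxy
    have e := (Proj (CohB1.polyGrading 1 k)).isoSpec
    have h5 : (e.hom.base x) ⤳ (e.hom.base y) := hxy.map e.hom.continuous
    have h6 : e.hom.base x = e.hom.base y := by
      haveI : DiscreteTopology (PrimeSpectrum Γ(Proj (CohB1.polyGrading 1 k), ⊤)) := inferInstance
      exact h5.eq
    exact (CategoryTheory.ConcreteCategory.bijective_of_isIso e.hom.base).1 h6
  have hX0 : (MvPolynomial.X 0 : MvPolynomial (Fin 2) k) ∈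
      HomogeneousIdeal.irrelevant (CohB1.polyGrading 1 k) := by
    rw [HomogeneousIdeal.mem_irrelevant_iff, GradedRing.proj_apply]
    exact DirectSum.decompose_of_mem_ne (CohB1.polyGrading 1 k) (MvPolynomial.isHomogeneous_X k 0)
      one_ne_zero
  have hX1 : (MvPolynomial.X 1 : MvPolynomial (Fin 2) k) ∈
      HomogeneousIdeal.irrelevant (CohB1.polyGrading 1 k) := by
    rw [HomogeneousIdeal.mem_irrelevant_iff, GradedRing.proj_apply]
    exact DirectSum.decompose_of_mem_ne (CohB1.polyGrading 1 k) (MvPolynomial.isHomogeneous_X k 1)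
      one_ne_zero
  let x : ProjectiveSpectrum (CohB1.polyGrading 1 k) :=
    { asHomogeneousIdeal := ⊥
      isPrime := by rw [HomogeneousIdeal.toIdeal_bot]; exact Ideal.isPrime_bot
      not_irrelevant_le := fun h => by
        have h1 := h hX0
        rw [← HomogeneousIdeal.mem_iff, HomogeneousIdeal.toIdeal_bot, Ideal.mem_bot] at h1
        exact MvPolynomial.X_ne_zero 0 h1 }
  let y : ProjectiveSpectrum (CohB1.polyGrading 1 k) :=
    { asHomogeneousIdeal := ⟨Ideal.span {MvPolynomial.X 0}, Ideal.homogeneous_span _ _ (by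
          intro p hp
          rw [Set.mem_singleton_iff] at hp
          subst hp
          exact ⟨1, MvPolynomial.isHomogeneous_X k 0⟩)⟩
      isPrime := (Ideal.span_singleton_prime (MvPolynomial.X_ne_zero 0)).2 MvPolynomial.X_prime
      not_irrelevant_le := fun h => by
        have h1 := h hX1
        rw [← HomogeneousIdeal.mem_iff] at h1
        have h2 := Ideal.mem_span_singleton.1 h1
        rw [MvPolynomial.X_dvd_X] at h2
        exact absurd h2 (by decide) }
  have hle : x ≤ y := (ProjectiveSpectrum.as_ideal_le_as_ideal _ x y).1 bot_le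
  have hne : x ≠ y := by
    intro h
    have h1 : (MvPolynomial.X 0 : MvPolynomial (Fin 2) k) ∈ y.asHomogeneousIdeal :=
      (HomogeneousIdeal.mem_iff).1 (Ideal.subset_span (Set.mem_singleton _))
    rw [← h] at h1
    have h2 : (MvPolynomial.X 0 : MvPolynomial (Fin 2) k) ∈ (⊥ : HomogeneousIdeal (CohB1.polyGrading 1 k)) := h1
    rw [← HomogeneousIdeal.mem_iff, HomogeneousIdeal.toIdeal_bot, Ideal.mem_bot] at h2
    exact MvPolynomial.X_ne_zero 0 h2
  have hspec : x ⤳ y := specializes_iff_mem_closure.2 ((ProjectiveSpectrum.le_iff_mem_closure _ x y).1 hle)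
  exact hne (hT1 x y hspec)

end Groth.Agent.S14357
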