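import Groth.Statements.S14359
import Mathlib

set_option autoImplicit false
universe u
open CAlg

namespace Groth.Agent.S14359

/-- Let A be a Noetherian integrally closed integral domain and b a nonzero element of A. Then every
associated prime of the A-module A/(b) has height one, so that A/(b) has no embedded associated
primes. -/
theorem result
    (A : Type u) [CommRing A] [IsDomain A] [IsNoetherianRing A] [IsIntegrallyClosed A]
    (b : A) (hb : b ≠ 0) (p : Ideal A) (hp : p ∈ associatedPrimes A (A ⧸ Ideal.span {b})) :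
    p.height = 1 := by
  classical
  rw [AssociatedPrimes.mem_iff, isAssociatedPrime_iff] at hp
  obtain ⟨hprime, xbar, hpx⟩ := hp
  obtain ⟨x, rfl⟩ := Ideal.Quotient.mk_surjective xbar
  have hmem : ∀ a : A, a ∈ p ↔ b ∣ a * x := by
    intro a
    rw [hpx, Submodule.mem_colon_singleton, Submodule.mem_bot]
    change Ideal.Quotient.mk _ a * Ideal.Quotient.mk _ x = 0 ↔ _
    rw [← map_mul, Ideal.Quotient.eq_zero_iff_mem, Ideal.mem_span_singleton]
  have hbp : b ∈ p := (hmem b).mpr (dvd_mul_right b x)
  have hpbot : p ≠ ⊥ := fun h => hb (by rw [h] at hbp; exact hbp)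
  have h1 : 1 ≤ p.height := by
    rw [Order.one_le_iff_ne_zero, Ne, Ideal.height_eq_zero_iff_eq_bot]
    exact hpbot
  refine le_antisymm ?_ h1
  by_cases hcase : ∀ a ∈ p, ∃ c ∈ p, a * x = b * c
  · -- integrality case: contradiction
    exfalso
    let K := FractionRing A
    have hbK : algebraMap A K b ≠ 0 := by
      rw [Ne, map_eq_zero_iff _ (IsFractionRing.injective A K)]; exact hb
    let y : K := algebraMap A K x / algebraMap A K b
    let N : Submodule A K := Submodule.map (Algebra.linearMap A K) p
    have hN : N ≠ ⊥ := by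
      intro h
      have : algebraMap A K b ∈ N := ⟨b, hbp, rfl⟩
      rw [h, Submodule.mem_bot] at this
      exact hbK this
    have hNfg : N.FG := Submodule.FG.map _ (IsNoetherian.noetherian p)
    have hy : IsIntegral A y := by
      refine isIntegral_of_smul_mem_submodule N hN hNfg y ?_
      rintro _ ⟨a, ha, rfl⟩
      obtain ⟨c, hc, hac⟩ := hcase a ha
      refine ⟨c, hc, ?_⟩
      simp only [Algebra.linearMap_apply, smul_eq_mul, y]
      rw [div_mul_eq_mul_div, eq_div_iff hbK, ← map_mul, ← map_mul, mul_comm x a, hac, mul_comm]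
    obtain ⟨z, hz⟩ := IsIntegrallyClosed.isIntegral_iff.mp hy
    have hxz : x = b * z := by
      apply IsFractionRing.injective A K
      rw [map_mul, hz]
      exact (mul_div_cancel₀ _ hbK).symm
    have : (1 : A) ∈ p := by
      rw [hmem, one_mul, hxz]; exact dvd_mul_right b z
    exact hprime.ne_top ((Ideal.eq_top_iff_one p).mpr this)
  · push Not at hcase
    obtain ⟨a₀, ha₀, hne⟩ := hcase
    obtain ⟨c₀, hc₀⟩ := (hmem a₀).mp ha₀
    have hc₀p : c₀ ∉ p := fun h => hne c₀ h hc₀
    have hmin : p ∈ (Ideal.span {a₀}).minimalPrimes := by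
      refine ⟨⟨hprime, (Ideal.span_singleton_le_iff_mem p).mpr ha₀⟩, ?_⟩
      rintro q ⟨hq, haq⟩ hqp a ha
      obtain ⟨ca, hca⟩ := (hmem a).mp ha
      have heq : a * c₀ = a₀ * ca := by
        apply mul_left_cancel₀ hb
        calc b * (a * c₀) = a * (b * c₀) := by ring
          _ = a * (a₀ * x) := by rw [hc₀]
          _ = a₀ * (a * x) := by ring
          _ = a₀ * (b * ca) := by rw [hca]
          _ = b * (a₀ * ca) := by ring
      have hin : a * c₀ ∈ q := by
        rw [heq]
        exact Ideal.mul_mem_right _ _ (haq (Ideal.mem_span_singleton_self a₀))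
      rcases hq.mem_or_mem hin with h | h
      · exact h
      · exact absurd (hqp h) hc₀p
    exact Ideal.height_le_one_of_isPrincipal_of_mem_minimalPrimes _ p hmin

end Groth.Agent.S14359
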