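import Groth.Statements.S14360
import Mathlib

set_option autoImplicit false
universe u
open AlgebraicGeometry
open Variety

namespace Groth.Agent.S14360

open AlgebraicGeometry CategoryTheory in
theorem key {X Y : Scheme.{u}} (W : X.Opens) (W' : Y.Opens) (a : W.toScheme ⟶ Y)
    (b : W'.toScheme ⟶ X)
    (h1 : (a ∣_ W') ≫ b = (a ⁻¹ᵁ W').ι ≫ W.ι) (h2 : (b ∣_ W) ≫ a = (b ⁻¹ᵁ W).ι ≫ W'.ι) :
    Nonempty ((a ⁻¹ᵁ W').toScheme ≅ (b ⁻¹ᵁ W).toScheme) := by
  have hp : Set.range (a ∣_ W') ⊆ Set.range (b ⁻¹ᵁ W).ι := by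
    rintro _ ⟨x, rfl⟩
    rw [Scheme.Opens.range_ι]
    have e := congrArg (fun f : (a ⁻¹ᵁ W').toScheme ⟶ X => f x) h1
    simp only [Scheme.Hom.comp_apply] at e
    show b ((a ∣_ W') x) ∈ (W : Set X)
    rw [e]
    exact ((a ⁻¹ᵁ W').ι x).2
  have hq : Set.range (b ∣_ W) ⊆ Set.range (a ⁻¹ᵁ W').ι := by
    rintro _ ⟨x, rfl⟩
    rw [Scheme.Opens.range_ι]
    have e := congrArg (fun f : (b ⁻¹ᵁ W).toScheme ⟶ Y => f x) h2
    simp only [Scheme.Hom.comp_apply] at e
    show a ((b ∣_ W) x) ∈ (W' : Set Y)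
    rw [e]
    exact ((b ⁻¹ᵁ W).ι x).2
  let p := IsOpenImmersion.lift (b ⁻¹ᵁ W).ι (a ∣_ W') hp
  let q := IsOpenImmersion.lift (a ⁻¹ᵁ W').ι (b ∣_ W) hq
  have hpf : p ≫ (b ⁻¹ᵁ W).ι = a ∣_ W' := IsOpenImmersion.lift_fac _ _ _
  have hqf : q ≫ (a ⁻¹ᵁ W').ι = b ∣_ W := IsOpenImmersion.lift_fac _ _ _
  refine ⟨⟨p, q, ?_, ?_⟩⟩
  · rw [← cancel_mono ((a ⁻¹ᵁ W').ι ≫ W.ι)]
    rw [Category.assoc, reassoc_of% hqf, morphismRestrict_ι, reassoc_of% hpf, h1, Category.id_comp]
  · rw [← cancel_mono ((b ⁻¹ᵁ W).ι ≫ W'.ι)]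
    rw [Category.assoc, reassoc_of% hpf, morphismRestrict_ι, reassoc_of% hqf, h2, Category.id_comp]

set_option backward.isDefEq.respectTransparency false in
set_option backward.defeqAttrib.useBackward true in
open AlgebraicGeometry CategoryTheory in
theorem partialIso_comp_symm {X Y : Scheme.{u}} [IrreducibleSpace X] [Nonempty Y]
    (e : X.PartialIso Y) [IsDominant e.toPartialMap.hom] :
    (e.toPartialMap.comp e.symm.toPartialMap).equiv (Scheme.PartialMap.id X) := by
  refine ⟨_, (e.toPartialMap.comp e.symm.toPartialMap).dense_domain, le_rfl, le_top, ?_⟩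
  have key : e.toPartialMap.hom ∣_ e.symm.toPartialMap.domain =
      (e.toPartialMap.hom ⁻¹ᵁ e.symm.toPartialMap.domain).ι ≫ e.iso.hom := by
    apply (cancel_mono e.target.ι).mp
    exact (morphismRestrict_ι _ _).trans (by rw [Category.assoc]; rfl)
  simp only [Scheme.PartialMap.restrict_hom, Scheme.PartialMap.comp_hom, key]
  simp [Scheme.PartialIso.toPartialMap, Scheme.PartialIso.symm]

set_option backward.isDefEq.respectTransparency false in
set_option backward.defeqAttrib.useBackward true in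
open AlgebraicGeometry CategoryTheory in
theorem half {X Y : Scheme.{u}} [IrreducibleSpace X] [IrreducibleSpace Y]
    (f₀ : X.PartialMap Y) (g₀ : Y.PartialMap X) [IsDominant f₀.hom] [IsDominant g₀.hom]
    (W : X.Opens) (hWl : W ≤ (f₀.comp g₀).domain)
    (E1 : X.homOfLE hWl ≫ (f₀.comp g₀).hom = W.ι)
    (W' : Y.Opens) (hW'l : W' ≤ (g₀.comp f₀).domain) :
    ((X.homOfLE (hWl.trans (f₀.domain.ι_image_le _)) ≫ f₀.hom) ∣_ W') ≫
      (Y.homOfLE (hW'l.trans (g₀.domain.ι_image_le _)) ≫ g₀.hom) =
      ((X.homOfLE (hWl.trans (f₀.domain.ι_image_le _)) ≫ f₀.hom) ⁻¹ᵁ W').ι ≫ W.ι := by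
  set a := X.homOfLE (hWl.trans (f₀.domain.ι_image_le _)) ≫ f₀.hom with ha
  let α : W.toScheme ⟶ g₀.domain.toScheme :=
    X.homOfLE hWl ≫ (f₀.domain.ι.isoImage _).inv ≫ f₀.hom ∣_ g₀.domain
  have hα1 : α ≫ g₀.hom = W.ι := by
    rw [← E1]
    simp only [α, Scheme.PartialMap.comp_hom, Category.assoc]
  have hα2 : α ≫ g₀.domain.ι = a := by
    simp only [α, ha, Category.assoc, morphismRestrict_ι, Scheme.Opens.isoImage_ι_inv_ι_assoc,
      Scheme.homOfLE_homOfLE_assoc]
  have h3 : (a ∣_ W') ≫ Y.homOfLE (hW'l.trans (g₀.domain.ι_image_le _)) = (a ⁻¹ᵁ W').ι ≫ α := by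
    rw [← cancel_mono g₀.domain.ι]
    rw [Category.assoc, Scheme.homOfLE_ι, morphismRestrict_ι, Category.assoc, hα2]
  rw [reassoc_of% h3, hα1]

open AlgebraicGeometry CategoryTheory in
theorem main (X Y : Scheme.{u})
    [IsIntegral X] [IsIntegral Y] :
    Scheme.Birational X Y ↔
      ∃ (f : X ⤏ Y) (g : Y ⤏ X) (_ : f.IsDominant) (_ : g.IsDominant),
        f.comp g = Scheme.RationalMap.id X ∧ g.comp f = Scheme.RationalMap.id Y := by
  haveI : IrreducibleSpace X := inferInstance
  haveI : IrreducibleSpace Y := inferInstance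
  constructor
  · rintro ⟨e⟩
    haveI := AlgebraicGeometry.Opens.isDominant_ι e.dense_target
    haveI := AlgebraicGeometry.Opens.isDominant_ι e.dense_source
    haveI d1 : IsDominant e.toPartialMap.hom := by
      show IsDominant (e.iso.hom ≫ e.target.ι); infer_instance
    haveI d2 : IsDominant e.symm.toPartialMap.hom := by
      show IsDominant (e.iso.inv ≫ e.source.ι); infer_instance
    refine ⟨e.toRationalMap, e.symm.toRationalMap, inferInstance, inferInstance, ?_, ?_⟩
    · rw [Scheme.RationalMap.toRationalMap_comp, Scheme.PartialMap.toRationalMap_eq_iff]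
      exact partialIso_comp_symm e
    · rw [Scheme.RationalMap.toRationalMap_comp, Scheme.PartialMap.toRationalMap_eq_iff]
      exact partialIso_comp_symm e.symm
  · rintro ⟨f, g, hf, hg, h1, h2⟩
    haveI := hf
    haveI := hg
    have e1 : (f.representative.comp g.representative).equiv (Scheme.PartialMap.id X) := by
      have : f.comp g.representative.toRationalMap = Scheme.RationalMap.id X := by
        rw [g.toRationalMap_representative]; exact h1
      exact Scheme.PartialMap.toRationalMap_eq_iff.mp this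
    have e2 : (g.representative.comp f.representative).equiv (Scheme.PartialMap.id Y) := by
      have : g.comp f.representative.toRationalMap = Scheme.RationalMap.id Y := by
        rw [f.toRationalMap_representative]; exact h2
      exact Scheme.PartialMap.toRationalMap_eq_iff.mp this
    obtain ⟨W, hW, hWl, hWr, E1⟩ := e1
    obtain ⟨W', hW', hW'l, hW'r, E2⟩ := e2
    have E1' : X.homOfLE hWl ≫ (f.representative.comp g.representative).hom = W.ι := by
      rw [Scheme.PartialMap.restrict_hom, Scheme.PartialMap.restrict_hom] at E1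
      rw [E1]; simp
      exact X.homOfLE_ι _
    have E2' : Y.homOfLE hW'l ≫ (g.representative.comp f.representative).hom = W'.ι := by
      rw [Scheme.PartialMap.restrict_hom, Scheme.PartialMap.restrict_hom] at E2
      rw [E2]; simp
      exact Y.homOfLE_ι _
    have hWU : W ≤ f.representative.domain := hWl.trans (f.representative.domain.ι_image_le _)
    have hW'V : W' ≤ g.representative.domain := hW'l.trans (g.representative.domain.ι_image_le _)
    set a := X.homOfLE hWU ≫ f.representative.hom with ha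
    set b := Y.homOfLE hW'V ≫ g.representative.hom with hb
    have H1 : (a ∣_ W') ≫ b = (a ⁻¹ᵁ W').ι ≫ W.ι :=
      half f.representative g.representative W hWl E1' W' hW'l
    have H2 : (b ∣_ W) ≫ a = (b ⁻¹ᵁ W).ι ≫ W'.ι :=
      half g.representative f.representative W' hW'l E2' W hWl
    obtain ⟨i⟩ := key W W' a b H1 H2
    haveI : IsDominant (X.homOfLE hWU) := AlgebraicGeometry.Opens.isDominant_homOfLE hW hWU
    haveI : IsDominant (Y.homOfLE hW'V) := AlgebraicGeometry.Opens.isDominant_homOfLE hW' hW'V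
    haveI da : IsDominant a := by rw [ha]; infer_instance
    haveI db : IsDominant b := by rw [hb]; infer_instance
    exact ⟨{
      source := W.ι ''ᵁ a ⁻¹ᵁ W'
      dense_source := (W.ι ''ᵁ a ⁻¹ᵁ W').2.dense <| by
        simpa [← Set.nonempty_preimage_iff] using
          a.denseRange.inter_open_nonempty _ W'.2 hW'.nonempty
      target := W'.ι ''ᵁ b ⁻¹ᵁ W
      dense_target := (W'.ι ''ᵁ b ⁻¹ᵁ W).2.dense <| by
        simpa [← Set.nonempty_preimage_iff] using
          b.denseRange.inter_open_nonempty _ W.2 hW.nonempty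
      iso := (W.ι.isoImage _).symm ≪≫ i ≪≫ (W'.ι.isoImage _) }⟩

/-- Let X and Y be integral schemes. Then X and Y have isomorphic dense open subschemes if and only if
they are birational in the sense of rational maps, i.e. there exist dominant rational maps f : X ⤏ Y
and g : Y ⤏ X such that the composites g ∘ f and f ∘ g are the identity rational maps of X and of Y. -/
theorem result (X Y : Scheme.{u})
    [IsIntegral X] [IsIntegral Y] :
    Scheme.Birational X Y ↔
      ∃ (f : X ⤏ Y) (g : Y ⤏ X) (_ : f.IsDominant) (_ : g.IsDominant),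
        f.comp g = Scheme.RationalMap.id X ∧ g.comp f = Scheme.RationalMap.id Y := by
  exact main X Y

end Groth.Agent.S14360
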