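import Groth.Statements.S14363
import Mathlib

set_option autoImplicit false
universe u
open CAlg

namespace Groth.Agent.S14363

/-- Let A be a Noetherian ring and 0 → M' → M → M'' → 0 a short exact sequence of A-modules. If a prime
p of A is an associated prime of M'' and is not in the support of M', then p is an associated prime
of M. -/
theorem result (A : Type u) [CommRing A] [IsNoetherianRing A]
    (M' M M'' : Type u) [AddCommGroup M'] [Module A M'] [AddCommGroup M] [Module A M]
    [AddCommGroup M''] [Module A M'']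
    (f : M' →ₗ[A] M) (g : M →ₗ[A] M'') (hf : Function.Injective f) (hg : Function.Surjective g)
    (hfg : Function.Exact f g)
    (p : PrimeSpectrum A) (hp : p.asIdeal ∈ associatedPrimes A M'') (hsupp : p ∉ Module.support A M') :
    p.asIdeal ∈ associatedPrimes A M := by
  classical
  rw [AssociatedPrimes.mem_iff, isAssociatedPrime_iff] at hp ⊢
  obtain ⟨hprime, x'', hx''⟩ := hp
  obtain ⟨x, rfl⟩ := hg x''
  have hmem : ∀ b : A, b ∈ p.asIdeal ↔ b • g x = 0 := by
    intro b
    rw [hx'', Submodule.mem_colon_singleton, Submodule.mem_bot]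
  rw [Module.notMem_support_iff'] at hsupp
  obtain ⟨S, hS⟩ := (isNoetherianRing_iff_ideal_fg A).mp inferInstance p.asIdeal
  have h1 : ∀ a : A, ∃ s : A, s ∉ p.asIdeal ∧ (a ∈ S → s • a • x = 0) := by
    intro a
    by_cases haS : a ∈ S
    · have hap : a ∈ p.asIdeal := hS ▸ Ideal.subset_span haS
      have : g (a • x) = 0 := by rw [map_smul]; exact (hmem a).mp hap
      obtain ⟨m', hm'⟩ := (hfg (a • x)).mp this
      obtain ⟨s, hs, hsm⟩ := hsupp m'
      refine ⟨s, hs, fun _ => ?_⟩
      rw [← hm', ← map_smul, hsm, map_zero]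
    · exact ⟨1, fun h => hprime.ne_top ((Ideal.eq_top_iff_one _).mpr h), fun h => absurd h haS⟩
  choose s hs hsx using h1
  let t : A := ∏ a ∈ S, s a
  have ht : t ∉ p.asIdeal := by
    intro h
    obtain ⟨a, _, ha⟩ := (hprime.prod_mem_iff).mp h
    exact hs a ha
  have hta : ∀ a ∈ S, a • t • x = 0 := by
    intro a ha
    have : t = (∏ b ∈ S.erase a, s b) * s a := by
      rw [Finset.prod_erase_mul S _ ha]
    rw [this, mul_smul, smul_comm a, smul_comm a (s a) x, hsx a ha, smul_zero]
  refine ⟨hprime, t • x, ?_⟩
  apply le_antisymm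
  · rw [← hS, Ideal.span_le]
    intro a ha
    rw [SetLike.mem_coe, Submodule.mem_colon_singleton, Submodule.mem_bot]
    exact hta a ha
  · intro b hb
    rw [Submodule.mem_colon_singleton, Submodule.mem_bot] at hb
    have : (b * t) • g x = 0 := by
      rw [mul_smul, ← map_smul, ← map_smul, hb, map_zero]
    have hbt : b * t ∈ p.asIdeal := (hmem _).mpr this
    rcases hprime.mem_or_mem hbt with h | h
    · exact h
    · exact absurd h ht

end Groth.Agent.S14363
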