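import Groth.Statements.S1437
import Mathlib

set_option autoImplicit false
universe u
open FlatMor

namespace Groth.Agent.S1437

section Helpers
open CategoryTheory CategoryTheory.Limits AlgebraicGeometry TopologicalSpace

lemma affine_sup1437 {X : Scheme.{u}} (U V : X.Opens) (hU : IsAffineOpen U) (hV : IsAffineOpen V)
    (hd : Disjoint U V) : IsAffineOpen (U ⊔ V) := by
  haveI : IsAffine U.toScheme := hU
  haveI : IsAffine V.toScheme := hV
  have hmem : ∀ z : ↑(U ⊔ V), (U ⊔ V).ι z ∈ U ∨ (U ⊔ V).ι z ∈ V := by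
    intro z
    have hz : (U ⊔ V).ι z ∈ ((U ⊔ V : X.Opens) : Set X) := by
      rw [← Scheme.Opens.range_ι]; exact ⟨z, rfl⟩
    exact Opens.mem_sup.mp hz
  have hdis : ∀ x : X, x ∈ U → x ∈ V → False := by
    intro x hxU hxV
    have h : x ∈ U ⊓ V := Opens.mem_inf.mpr ⟨hxU, hxV⟩
    rw [disjoint_iff.mp hd] at h
    simp at h
  have hcompl : IsCompl (X.homOfLE (le_sup_left : U ≤ U ⊔ V)).opensRange
      (X.homOfLE (le_sup_right : V ≤ U ⊔ V)).opensRange := by
    rw [Scheme.opensRange_homOfLE, Scheme.opensRange_homOfLE]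
    refine ⟨?_, ?_⟩
    · rw [disjoint_iff]
      ext z
      refine iff_of_false ?_ (by simp)
      rintro ⟨h1, h2⟩
      exact hdis _ h1 h2
    · rw [codisjoint_iff]
      ext z
      refine iff_of_true ?_ (by simp)
      exact hmem z
  obtain ⟨hc⟩ := nonempty_isColimit_binaryCofanMk_of_isCompl _ _ hcompl
  have e : (U.toScheme ⨿ V.toScheme : Scheme.{u}) ≅ (U ⊔ V).toScheme :=
    (colimit.isColimit _).coconePointUniqueUpToIso hc
  haveI : IsAffine (U.toScheme ⨿ V.toScheme : Scheme.{u}) := inferInstance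
  exact IsAffine.of_isIso e.inv

lemma affine_finset_sup1437 {X : Scheme.{u}} {κ : Type*} (W : κ → X.Opens) :
    ∀ T : Finset κ, (∀ j ∈ T, IsAffineOpen (W j)) →
      (∀ j ∈ T, ∀ l ∈ T, j ≠ l → Disjoint (W j) (W l)) → IsAffineOpen (T.sup W) := by
  classical
  intro T
  refine Finset.induction_on T ?_ ?_
  · intro _ _
    rw [Finset.sup_empty]; exact isAffineOpen_bot X
  · intro a T ha ih hW hd
    rw [Finset.sup_insert]
    refine affine_sup1437 (W a) (T.sup W) (hW a (Finset.mem_insert_self a T))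
      (ih (fun j hj => hW j (Finset.mem_insert_of_mem hj))
        (fun j hj l hl => hd j (Finset.mem_insert_of_mem hj) l (Finset.mem_insert_of_mem hl))) ?_
    refine Finset.disjoint_sup_right.mpr fun l hl => ?_
    refine hd a (Finset.mem_insert_self a T) l (Finset.mem_insert_of_mem hl) ?_
    rintro rfl
    exact ha hl

lemma mem_finset_sup1437 {X : Scheme.{u}} {κ : Type*} (W : κ → X.Opens) (T : Finset κ) (x : X) :
    x ∈ T.sup W ↔ ∃ C ∈ T, x ∈ W C := by
  rw [Finset.sup_eq_iSup]
  simp only [Opens.mem_iSup, exists_prop]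

lemma exists_dense_affine1437 (X : Scheme.{u}) [IsNoetherian X] :
    ∃ U : X.Opens, IsAffineOpen U ∧ IsAffineHom U.ι ∧
      ∀ C ∈ irreducibleComponents X, (C ∩ (U : Set X)).Nonempty := by
  classical
  obtain ⟨s, hsfin, hseq⟩ :=
    (isCompact_and_isOpen_iff_finite_and_eq_biUnion_affineOpens (X := X)
      (U := Set.univ)).mp ⟨isCompact_univ, isOpen_univ⟩
  have hcov : ∀ x : X, ∃ V ∈ s, x ∈ (V : X.Opens) := by
    intro x
    have hx : x ∈ (Set.univ : Set X) := trivial
    rw [hseq] at hx
    obtain ⟨V, hV, hxV⟩ := Set.mem_iUnion₂.mp hx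
    exact ⟨V, hV, hxV⟩
  have hfin : (irreducibleComponents X).Finite :=
    TopologicalSpace.NoetherianSpace.finite_irreducibleComponents
  haveI : Fintype ↥(irreducibleComponents X) := hfin.fintype
  have hgen : ∀ C : ↥(irreducibleComponents X), ∃ η : X, IsGenericPoint η (C : Set X) :=
    fun C => QuasiSober.sober C.2.1 (isClosed_of_mem_irreducibleComponents _ C.2)
  choose η hη using hgen
  obtain ⟨O, hOdef⟩ : ∃ O : ↥(irreducibleComponents X) → Set X, ∀ C, O C =
      (⋃ C' ∈ (irreducibleComponents X \ {C.1}), C')ᶜ := ⟨_, fun _ => rfl⟩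
  have hO_open : ∀ C, IsOpen (O C) := by
    intro C
    rw [hOdef]
    exact ((hfin.subset Set.diff_subset).isClosed_biUnion fun C' hC' =>
      isClosed_of_mem_irreducibleComponents C' hC'.1).isOpen_compl
  have hO_mem : ∀ (C : ↥(irreducibleComponents X)) (x : X), x ∈ O C ↔
      ∀ C' ∈ irreducibleComponents X, C' ≠ C.1 → x ∉ C' := by
    intro C x
    rw [hOdef]
    constructor
    · intro h C' hC' hne hx
      exact h (Set.mem_biUnion (⟨hC', hne⟩ : C' ∈ irreducibleComponents X \ {C.1}) hx)
    · intro h hx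
      obtain ⟨C', hC', hxC'⟩ := Set.mem_iUnion₂.mp hx
      exact h C' hC'.1 hC'.2 hxC'
  have hη_O : ∀ C, η C ∈ O C := by
    intro C
    rw [hO_mem]
    intro C' hC' hne hx
    have hsub : C.1 ⊆ C' := by
      rw [← (hη C).def]
      exact closure_minimal (Set.singleton_subset_iff.mpr hx)
        (isClosed_of_mem_irreducibleComponents C' hC')
    exact hne (Set.Subset.antisymm (C.2.2 hC'.1 hsub) hsub)
  have hO_sub : ∀ (C : ↥(irreducibleComponents X)) (x : X), x ∈ O C → x ∈ C.1 := by
    intro C x hx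
    have hx' : x ∈ ⋃₀ irreducibleComponents X := by
      rw [sUnion_irreducibleComponents]; trivial
    obtain ⟨C'', hC'', hx''⟩ := Set.mem_sUnion.mp hx'
    by_cases h : C'' = C.1
    · rw [← h]; exact hx''
    · exact absurd hx'' ((hO_mem C x).mp hx C'' hC'' h)
  have hO_disj : ∀ C C' : ↥(irreducibleComponents X), C ≠ C' → ∀ x, x ∈ O C → x ∉ C'.1 := by
    intro C C' hne x hx
    exact (hO_mem C x).mp hx C'.1 C'.2 (fun h => hne (Subtype.ext h).symm)
  have hW : ∀ C : ↥(irreducibleComponents X), ∃ W : X.Opens, IsAffineOpen W ∧ η C ∈ W ∧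
      (∀ x, x ∈ W → x ∈ O C) ∧ ∀ V ∈ s, η C ∈ (V : X.Opens) → W ≤ (V : X.Opens) := by
    intro C
    have hopen : IsOpen (O C ∩ ⋂ V ∈ {V ∈ s | η C ∈ (V : X.Opens)}, ((V : X.Opens) : Set X)) :=
      (hO_open C).inter ((hsfin.subset (Set.sep_subset _ _)).isOpen_biInter
        fun V _ => (V : X.Opens).isOpen)
    have hmem : η C ∈ (⟨_, hopen⟩ : X.Opens) :=
      ⟨hη_O C, Set.mem_iInter₂.mpr fun V hV => hV.2⟩
    obtain ⟨W, hWaff, hηW, hWsub⟩ := exists_isAffineOpen_mem_and_subset hmem
    refine ⟨W, hWaff, hηW, fun x hx => (hWsub hx).1, fun V hV hηV x hx => ?_⟩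
    exact Set.mem_iInter₂.mp (hWsub hx).2 V ⟨hV, hηV⟩
  choose W hWaff hηW hWO hWV using hW
  have hdisj : ∀ C C' : ↥(irreducibleComponents X), C ≠ C' → Disjoint (W C) (W C') := by
    intro C C' hne
    rw [disjoint_iff]
    ext x
    refine iff_of_false ?_ (by simp)
    rintro ⟨h1, h2⟩
    exact hO_disj C C' hne x (hWO C x h1) (hO_sub C' x (hWO C' x h2))
  refine ⟨Finset.univ.sup W, ?_, ?_, ?_⟩
  · exact affine_finset_sup1437 W Finset.univ (fun C _ => hWaff C)
      (fun C _ C' _ hne => hdisj C C' hne)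
  · apply isAffineHom_of_forall_exists_isAffineOpen
    intro x
    obtain ⟨V, hV, hxV⟩ := hcov x
    refine ⟨V, hxV, V.2, ?_⟩
    rw [← (Finset.univ.sup W).ι.isAffineOpen_iff_of_isOpenImmersion,
      (Finset.univ.sup W).ι.image_preimage_eq_opensRange_inf, Scheme.Opens.opensRange_ι]
    have hUV : Finset.univ.sup W ⊓ (V : X.Opens) =
        (Finset.univ.filter (fun C => η C ∈ (V : X.Opens))).sup W := by
      apply le_antisymm
      · intro x hx
        obtain ⟨hxU, hxV⟩ := Opens.mem_inf.mp hx
        obtain ⟨C, -, hxC⟩ := (mem_finset_sup1437 W _ x).mp hxU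
        have hηV : η C ∈ (V : X.Opens) :=
          ((hη C).mem_open_set_iff (V : X.Opens).isOpen).mpr
            ⟨x, hO_sub C x (hWO C x hxC), hxV⟩
        exact (mem_finset_sup1437 W _ x).mpr
          ⟨C, Finset.mem_filter.mpr ⟨Finset.mem_univ _, hηV⟩, hxC⟩
      · intro x hx
        obtain ⟨C, hC, hxC⟩ := (mem_finset_sup1437 W _ x).mp hx
        have hηV := (Finset.mem_filter.mp hC).2
        exact Opens.mem_inf.mpr ⟨(mem_finset_sup1437 W _ x).mpr ⟨C, Finset.mem_univ _, hxC⟩,
          hWV C V hV hηV hxC⟩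
    rw [hUV]
    exact affine_finset_sup1437 W _ (fun C _ => hWaff C) (fun C _ C' _ hne => hdisj C C' hne)
  · intro C hC
    exact ⟨η ⟨C, hC⟩, (hη ⟨C, hC⟩).mem,
      (mem_finset_sup1437 W _ _).mpr ⟨⟨C, hC⟩, Finset.mem_univ _, hηW ⟨C, hC⟩⟩⟩

lemma exists_lt_of_subset_compl1437 {X : Scheme.{u}} (U : X.Opens)
    (hU : ∀ C ∈ irreducibleComponents X, (C ∩ (U : Set X)).Nonempty)
    (T : IrreducibleCloseds X) (hT : (T : Set X) ⊆ (U : Set X)ᶜ) :
    ∃ C : IrreducibleCloseds X, T < C := by
  obtain ⟨C, hC, hTC⟩ :=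
    exists_mem_irreducibleComponents_subset_of_isIrreducible (T : Set X) T.isIrreducible
  refine ⟨⟨C, hC.1, isClosed_of_mem_irreducibleComponents C hC⟩, lt_of_le_of_ne hTC ?_⟩
  intro heq
  obtain ⟨x, hxC, hxU⟩ := hU C hC
  have hxT : x ∈ (T : Set X) := by rw [heq]; exact hxC
  exact hT hxT hxU

lemma length_succ_le1437 {X : Scheme.{u}} (U : X.Opens)
    (hU : ∀ C ∈ irreducibleComponents X, (C ∩ (U : Set X)).Nonempty) (n : ℕ)
    (hdim : topologicalKrullDim X ≤ n) (q : LTSeries (IrreducibleCloseds X))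
    (hq : (q.last : Set X) ⊆ (U : Set X)ᶜ) : q.length + 1 ≤ n := by
  obtain ⟨C, hC⟩ := exists_lt_of_subset_compl1437 U hU q.last hq
  have h1 : (((q.snoc C hC).length : ℕ) : WithBot ℕ∞) ≤ (n : WithBot ℕ∞) :=
    (Order.LTSeries.length_le_krullDim (q.snoc C hC)).trans hdim
  have h2 : (q.snoc C hC).length = q.length + 1 := rfl
  rw [h2] at h1
  exact_mod_cast h1

lemma dim_closed_le1437 {X Z : Scheme.{u}} (i : Z ⟶ X) [IsClosedImmersion i] (U : X.Opens)
    (hU : ∀ C ∈ irreducibleComponents X, (C ∩ (U : Set X)).Nonempty)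
    (hi : Set.range i ⊆ (U : Set X)ᶜ) (d : ℕ) (hdim : topologicalKrullDim X ≤ (d + 1 : ℕ)) :
    topologicalKrullDim Z ≤ d := by
  have hemb : Topology.IsClosedEmbedding i := i.isClosedEmbedding
  unfold topologicalKrullDim Order.krullDim
  refine iSup_le fun p => ?_
  obtain ⟨q, hqdef⟩ : ∃ q : LTSeries (IrreducibleCloseds X), q =
      p.map (IrreducibleCloseds.map i hemb.isInducing.continuous)
        (IrreducibleCloseds.map_strictMono_of_isInducing hemb.isInducing) := ⟨_, rfl⟩
  have hqlen : q.length = p.length := by rw [hqdef]; rfl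
  have hqlast : (q.last : Set X) ⊆ (U : Set X)ᶜ := by
    rw [hqdef, LTSeries.last_map]
    intro x hx
    have hx' : x ∈ closure (Set.range i) := closure_mono (Set.image_subset_range _ _) hx
    rw [hemb.isClosed_range.closure_eq] at hx'
    exact hi hx'
  have hlen := length_succ_le1437 U hU (d + 1) hdim q hqlast
  have hp : p.length ≤ d := by omega
  exact_mod_cast hp

lemma assemble1437 {X Z : Scheme.{u}} (U : X.Opens) (hUaff : IsAffineOpen U)
    (hUι : IsAffineHom U.ι) (i : Z ⟶ X) [IsClosedImmersion i]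
    (hrange : Set.range i = (U : Set X)ᶜ) (n : ℕ)
    (h : MoreMor.HasAffineStratification Z n) : MoreMor.HasAffineStratification X (n + 1) := by
  classical
  obtain ⟨sZ, hsZ, hstr⟩ := h
  have hemb : Topology.IsClosedEmbedding i := i.isClosedEmbedding
  have hinj : Function.Injective i := hemb.injective
  obtain ⟨s, hs⟩ : ∃ s : X → Fin (n + 1 + 1), ∀ x, s x =
      if h : x ∈ Set.range i then Fin.castSucc (sZ (Classical.choose h))
      else Fin.last (n + 1) := ⟨_, fun _ => rfl⟩
  have hs1 : ∀ z : Z, s (i z) = Fin.castSucc (sZ z) := by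
    intro z
    have hz : i z ∈ Set.range i := ⟨z, rfl⟩
    rw [hs, dif_pos hz]
    have hcz : Classical.choose hz = z := hinj (Classical.choose_spec hz)
    rw [hcz]
  have hs2 : ∀ x : X, x ∈ U → s x = Fin.last (n + 1) := by
    intro x hx
    have hx' : x ∉ Set.range i := by rw [hrange]; exact fun h => h hx
    rw [hs, dif_neg hx']
  have hcases : ∀ x : X, x ∈ U ∨ ∃ z, i z = x := by
    intro x
    by_cases hx : x ∈ U
    · exact Or.inl hx
    · right
      have hx' : x ∈ Set.range i := by rw [hrange]; exact hx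
      exact hx'
  refine ⟨s, ?_, ?_⟩
  · intro a
    rcases Fin.eq_castSucc_or_eq_last a with ⟨b, rfl⟩ | rfl
    · have hset : {x : X | s x ≤ Fin.castSucc b} = i '' {z : Z | sZ z ≤ b} := by
        ext x
        simp only [Set.mem_setOf_eq, Set.mem_image]
        constructor
        · intro hx
          rcases hcases x with hxU | ⟨z, rfl⟩
          · have h1 : Fin.last (n + 1) ≤ Fin.castSucc b := (hs2 x hxU).symm.trans_le hx
            exact absurd h1 (not_le.mpr (Fin.castSucc_lt_last b))
          · have h1 : Fin.castSucc (sZ z) ≤ Fin.castSucc b := (hs1 z).symm.trans_le hx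
            exact ⟨z, Fin.castSucc_le_castSucc_iff.mp h1, rfl⟩
        · rintro ⟨z, hz, rfl⟩
          exact (hs1 z).trans_le (Fin.castSucc_le_castSucc_iff.mpr hz)
      rw [hset]
      exact hemb.isClosedMap _ (hsZ b)
    · have hset : {x : X | s x ≤ Fin.last (n + 1)} = Set.univ :=
        Set.eq_univ_of_forall fun x => Fin.le_last _
      rw [hset]; exact isClosed_univ
  · intro a
    rcases Fin.eq_castSucc_or_eq_last a with ⟨b, rfl⟩ | rfl
    · obtain ⟨Zb, ιb, h1, h2, h3, h4⟩ := hstr b
      haveI := h1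
      haveI := h3
      refine ⟨Zb, ιb ≫ i, inferInstance, h2, inferInstance, ?_⟩
      rw [Scheme.Hom.comp_base, TopCat.coe_comp, Set.range_comp, h4]
      ext x
      simp only [Set.mem_image, Set.mem_setOf_eq]
      constructor
      · rintro ⟨z, hz, rfl⟩
        exact (hs1 z).trans (congrArg Fin.castSucc hz)
      · intro hx
        rcases hcases x with hxU | ⟨z, rfl⟩
        · have h5 : Fin.last (n + 1) = Fin.castSucc b := (hs2 x hxU).symm.trans hx
          exact absurd h5.symm (Fin.castSucc_lt_last b).ne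
        · have h5 : Fin.castSucc (sZ z) = Fin.castSucc b := (hs1 z).symm.trans hx
          exact ⟨z, Fin.castSucc_inj.mp h5, rfl⟩
    · refine ⟨U.toScheme, U.ι, inferInstance, hUaff, hUι, ?_⟩
      rw [Scheme.Opens.range_ι]
      ext x
      simp only [SetLike.mem_coe, Set.mem_setOf_eq]
      constructor
      · exact hs2 x
      · intro hx
        rcases hcases x with hxU | ⟨z, rfl⟩
        · exact hxU
        · have h5 : Fin.castSucc (sZ z) = Fin.last (n + 1) := (hs1 z).symm.trans hx
          exact absurd h5 (Fin.castSucc_lt_last _).ne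

theorem main1437 : ∀ (d : ℕ) (X : Scheme.{u}) [IsNoetherian X],
    topologicalKrullDim X ≤ (d : ℕ) → MoreMor.HasAffineStratification X d := by
  intro d
  induction d with
  | zero =>
    intro X _ hdim
    obtain ⟨U, hUaff, hUι, hUC⟩ := exists_dense_affine1437 X
    have hUtop : U = ⊤ := by
      rw [eq_top_iff]
      intro x _
      by_contra hxU
      have hT : (closure ({x} : Set X)) ⊆ (U : Set X)ᶜ := by
        refine closure_minimal ?_ U.isOpen.isClosed_compl
        intro y hy
        rw [Set.mem_singleton_iff] at hy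
        rw [hy]; exact hxU
      have hlen := length_succ_le1437 U hUC 0 hdim
        (RelSeries.singleton _ ⟨closure {x}, isIrreducible_singleton.closure, isClosed_closure⟩)
        (by rw [RelSeries.last_singleton]; exact hT)
      omega
    refine ⟨fun _ => 0, fun i => isClosed_const, fun i => ?_⟩
    refine ⟨U.toScheme, U.ι, inferInstance, hUaff, hUι, ?_⟩
    rw [Scheme.Opens.range_ι, hUtop]
    ext x
    exact iff_of_true trivial (@Subsingleton.elim (Fin 1) inferInstance _ _)
  | succ d ih =>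
    intro X _ hdim
    obtain ⟨U, hUaff, hUι, hUC⟩ := exists_dense_affine1437 X
    obtain ⟨Zc, hZc⟩ : ∃ Zc : TopologicalSpace.Closeds X, (Zc : Set X) = (U : Set X)ᶜ :=
      ⟨⟨_, U.isOpen.isClosed_compl⟩, rfl⟩
    have hrange : Set.range (Scheme.IdealSheafData.vanishingIdeal Zc).subschemeι =
        (U : Set X)ᶜ := by
      rw [Scheme.IdealSheafData.range_subschemeι,
        Scheme.IdealSheafData.coe_support_vanishingIdeal, hZc]
    haveI : IsLocallyNoetherian (Scheme.IdealSheafData.vanishingIdeal Zc).subscheme :=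
      LocallyOfFiniteType.isLocallyNoetherian (Scheme.IdealSheafData.vanishingIdeal Zc).subschemeι
    haveI : CompactSpace (Scheme.IdealSheafData.vanishingIdeal Zc).subscheme :=
      (Scheme.IdealSheafData.vanishingIdeal Zc).subschemeι.isClosedEmbedding.compactSpace
    haveI : IsNoetherian (Scheme.IdealSheafData.vanishingIdeal Zc).subscheme := {}
    have hdimZ := dim_closed_le1437 (Scheme.IdealSheafData.vanishingIdeal Zc).subschemeι U hUC
      hrange.le d hdim
    have hstrat := ih (Scheme.IdealSheafData.vanishingIdeal Zc).subscheme hdimZ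
    exact assemble1437 U hUaff hUι (Scheme.IdealSheafData.vanishingIdeal Zc).subschemeι hrange d
      hstrat

end Helpers

open AlgebraicGeometry CategoryTheory Limits in
/-- A Noetherian scheme of finite dimension d has affine stratification number at most d: it admits an
affine stratification with index set {0, …, d}. -/
theorem result (X : Scheme.{u}) [IsNoetherian X] (d : ℕ) (hd : topologicalKrullDim ↑X = d) :
    MoreMor.HasAffineStratification X d := by
  exact main1437 d X (le_of_eq hd)

end Groth.Agent.S1437
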