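import Groth.Statements.S14371
import Groth.Agent.H29.RegParam

set_option autoImplicit false
universe u
open CAlg

namespace Groth.Agent.S14371

/-- Let R be a regular local ring of dimension n with maximal ideal m and residue field κ, and I, J
ideals of R such that R/I and R/J are regular local rings of dimensions a and b (two subvarieties
smooth at the point). Suppose the quotient R/(I + J) is local with cotangent space m/(m² + I + J) of
dimension a + b − n over κ (the tangent spaces of the two subvarieties meet in the expected
dimension, i.e. they intersect transversally at the point). Then R/(I + J) is a regular local ring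
of dimension a + b − n; in particular I + J is a prime ideal. (The published statement is about the
local rings of a smooth variety over an algebraically closed field at a point where two smooth
closed subvarieties meet transversally, and also states the resulting equalities of tangent spaces
and of ideals; this row is the local-ring form, for an arbitrary regular local ring.) -/
theorem result {R : Type u} [CommRing R] [IsRegularLocalRing R]
    (I J : Ideal R) [IsRegularLocalRing (R ⧸ I)] [IsRegularLocalRing (R ⧸ J)] [IsLocalRing (R ⧸ (I ⊔ J))]
    (n a b : ℕ) (hn : ringKrullDim R = n) (ha : ringKrullDim (R ⧸ I) = a) (hb : ringKrullDim (R ⧸ J) = b)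
    (ht : Module.finrank (IsLocalRing.ResidueField (R ⧸ (I ⊔ J))) (IsLocalRing.CotangentSpace (R ⧸ (I ⊔ J))) + n = a + b) :
    IsRegularLocalRing (R ⧸ (I ⊔ J)) ∧ ringKrullDim (R ⧸ (I ⊔ J)) = ((a + b - n : ℕ) : WithBot ℕ∞) := by
  open Groth.Agent.H29 IsLocalRing in
  obtain ⟨c1, x, hlix, hI⟩ := exists_linearIndependent_generators R I
  obtain ⟨c2, y, hliy, hJ⟩ := exists_linearIndependent_generators R J
  subst hI
  subst hJ
  obtain ⟨hd1, -⟩ := isRegularLocalRing_quotient_of_linearIndependent R x hlix
  obtain ⟨hd2, -⟩ := isRegularLocalRing_quotient_of_linearIndependent R y hliy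
  rw [ha, hn, ← Nat.cast_add] at hd1
  rw [hb, hn, ← Nat.cast_add] at hd2
  have hd1' := withBot_natCast_inj hd1
  have hd2' := withBot_natCast_inj hd2
  have hne : Ideal.span (Set.range fun i => (x i : R)) ⊔ Ideal.span (Set.range fun i => (y i : R)) ≠ ⊤ :=
    Ideal.Quotient.nontrivial_iff.mp inferInstance
  have h1 := ringKrullDim_le_ringKrullDim_quotient_add_spanFinrank
    (Ideal.span (Set.range fun i => (x i : R)) ⊔ Ideal.span (Set.range fun i => (y i : R)))
    (by rw [IsLocalRing.ringJacobson_eq_maximalIdeal]; exact IsLocalRing.le_maximalIdeal hne)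
  have h2 : (Ideal.span (Set.range fun i => (x i : R)) ⊔
      Ideal.span (Set.range fun i => (y i : R))).spanFinrank ≤ c1 + c2 := by
    rw [Ideal.span, Ideal.span, ← Submodule.span_union]
    refine (Submodule.spanFinrank_span_le_ncard_of_finite
      ((Set.finite_range _).union (Set.finite_range _))).trans ?_
    refine (Set.ncard_union_le _ _).trans (add_le_add ?_ ?_)
    · exact (ncard_range_le_card _).trans (by simp)
    · exact (ncard_range_le_card _).trans (by simp)
  have h3 := ringKrullDim_le_spanFinrank_maximalIdeal (R ⧸ (Ideal.span (Set.range fun i => (x i : R)) ⊔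
    Ideal.span (Set.range fun i => (y i : R))))
  rw [spanFinrank_maximalIdeal_eq_finrank_cotangentSpace] at h3
  obtain ⟨D, hD⟩ := ringKrullDim_eq_natCast_of_isLocalRing
    (R ⧸ (Ideal.span (Set.range fun i => (x i : R)) ⊔ Ideal.span (Set.range fun i => (y i : R))))
  rw [hD, withBot_natCast_le] at h3
  have h1' : (n : WithBot ℕ∞) ≤ ((D + (c1 + c2) : ℕ) : WithBot ℕ∞) := by
    rw [Nat.cast_add, ← hD, ← hn]
    exact h1.trans (add_le_add le_rfl (withBot_natCast_le.mpr h2))
  rw [withBot_natCast_le] at h1'
  constructor
  · apply IsRegularLocalRing.of_spanFinrank_maximalIdeal_le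
    rw [spanFinrank_maximalIdeal_eq_finrank_cotangentSpace, hD, withBot_natCast_le]
    omega
  · rw [hD]
    congr 1
    omega

end Groth.Agent.S14371
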