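import Groth.Statements.S14375
import Mathlib
import Groth.Agent.S7596
set_option linter.style.haveILetI false

set_option autoImplicit false
universe u
open CategoryTheory CategoryTheory.Limits AlgebraicGeometry
open Variety

namespace Groth.Agent.S14375

section Aux

private lemma fromSpecRes_comp (k : Type u) [Field k] (X : Scheme.{u})
    [X.Over (Spec (CommRingCat.of k))] (x : X) :
    X.fromSpecResidueField x ≫ (X ↘ Spec (CommRingCat.of k)) =
      Spec.map (CommRingCat.ofHom (Curv2.resMap k X x)) := by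
  apply ext_of_isAffine
  rw [← cancel_mono (Scheme.ΓSpecIso _).hom, Scheme.ΓSpecIso_naturality]
  simp only [Scheme.fromSpecResidueField, Scheme.Hom.comp_appTop, Scheme.fromSpecStalk_appTop,
    Category.assoc, Scheme.ΓSpecIso_naturality]
  have e : ∀ (h : (X.fromSpecStalk x) ⁻¹ᵁ ⊤ ≤ ⊤),
      (Spec (X.presheaf.stalk x)).presheaf.map (homOfLE h).op = 𝟙 _ :=
    fun h => (Spec _).presheaf.map_id _
  have hres : CommRingCat.ofHom (Curv2.resMap k X x) =
      (Scheme.ΓSpecIso (CommRingCat.of k)).inv ≫ (X ↘ Spec (CommRingCat.of k)).appTop ≫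
        X.presheaf.germ ⊤ x trivial ≫ X.residue x := rfl
  erw [e]
  rw [Category.id_comp, Iso.inv_hom_id_assoc, hres, Iso.hom_inv_id_assoc]

private lemma irreducible_of_cover {α : Type*} [TopologicalSpace α] {ι : Type*} [Nonempty ι]
    (V : ι → Set α) (hVo : ∀ i, IsOpen (V i)) (hVi : ∀ i, IsIrreducible (V i))
    (hcov : ∀ x, ∃ i, x ∈ V i) (hmeet : ∀ i j, (V i ∩ V j).Nonempty) : IrreducibleSpace α := by
  obtain ⟨i₀⟩ := ‹Nonempty ι›
  obtain ⟨x₀, -, -⟩ := hmeet i₀ i₀
  rw [irreducibleSpace_def]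
  refine ⟨⟨x₀, trivial⟩, ?_⟩
  intro u v hu hv
  rintro ⟨x, -, hxu⟩ ⟨x', -, hx'v⟩
  obtain ⟨i, hi⟩ := hcov x
  obtain ⟨j, hj⟩ := hcov x'
  obtain ⟨w, -, hwu, hwj⟩ := (hVi i).isPreirreducible u (V j) hu (hVo j) ⟨x, hi, hxu⟩ (hmeet i j)
  obtain ⟨w', -, hw'⟩ := (hVi j).isPreirreducible u v hu hv ⟨w, hwj, hwu⟩ ⟨x', hj, hx'v⟩
  exact ⟨w', trivial, hw'⟩

end Aux

/-- Let k be an algebraically closed field, F an irreducible scheme of finite type over k, and f : X → Y
a k-morphism of schemes of finite type over k with Y irreducible which is locally trivial with fibre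
F: every point of Y has an open neighbourhood V such that f⁻¹(V) is isomorphic over V to V ×_k F.
Then X is irreducible. (The published statement is for varieties, i.e. reduced separated schemes;
this row assumes neither.) -/
theorem result (k : Type u) [Field k] [IsAlgClosed k]
    {X Y F : Scheme.{u}} (qX : X ⟶ Spec (CommRingCat.of k)) (qY : Y ⟶ Spec (CommRingCat.of k))
    (qF : F ⟶ Spec (CommRingCat.of k))
    [LocallyOfFiniteType qX] [QuasiCompact qX] [LocallyOfFiniteType qY] [QuasiCompact qY]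
    [LocallyOfFiniteType qF] [QuasiCompact qF] [IrreducibleSpace ↥F] [IrreducibleSpace ↥Y]
    (f : X ⟶ Y) (hf : f ≫ qY = qX)
    (htriv : ∀ y : ↥Y, ∃ V : Y.Opens, y ∈ V ∧
      ∃ e : (↑(f ⁻¹ᵁ V) : Scheme.{u}) ≅ pullback (V.ι ≫ qY) qF, e.hom ≫ pullback.fst (V.ι ≫ qY) qF = f ∣_ V) :
    IrreducibleSpace ↥X := by
  classical
  letI : F.Over (Spec (CommRingCat.of k)) := ⟨qF⟩
  haveI hJ : JacobsonSpace ↥F := LocallyOfFiniteType.jacobsonSpace qF
  have hd : Dense {x : ↥F | Function.Surjective (Curv2.resMap k F x)} := by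
    have h1 : Dense (closedPoints ↥F) := by
      rw [dense_iff_closure_eq]; exact closure_closedPoints
    refine h1.mono ?_
    intro x hx
    have h2 : Spec.map (residueFieldIsoBase qF x hx).inv =
        Spec.map (CommRingCat.ofHom (Curv2.resMap k F x)) := by
      rw [SpecMap_residueFieldIsoBase_inv]; exact fromSpecRes_comp k F x
    have h3 := Spec.map_injective h2
    have h4 : Function.Bijective (residueFieldIsoBase qF x hx).inv.hom :=
      (ConcreteCategory.isIso_iff_bijective _).mp inferInstance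
    rw [h3] at h4; exact h4.2
  haveI hF : GeometricallyIrreducible qF := Groth.Agent.S7596.result k F hd
  choose V hyV e he using htriv
  haveI : Nonempty ↥Y := inferInstance
  -- each piece is irreducible
  have hirr : ∀ y : ↥Y, IrreducibleSpace ↥(f ⁻¹ᵁ V y : Scheme.{u}) := by
    intro y
    haveI : Nonempty ↥(V y : Scheme.{u}) := ⟨⟨y, hyV y⟩⟩
    haveI : IrreducibleSpace ↥(V y : Scheme.{u}) := (V y).ι.isOpenEmbedding.irreducibleSpace
    haveI : IrreducibleSpace ↥(pullback ((V y).ι ≫ qY) qF) := inferInstance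
    exact ((e y).hom.homeomorph.irreducibleSpace_iff).mpr inferInstance
  -- surjectivity of f
  have hsurj : ∀ z : ↥Y, ∃ x : ↥X, f.base x = z := by
    intro z
    haveI : Surjective (pullback.fst ((V z).ι ≫ qY) qF) := inferInstance
    obtain ⟨w, hw⟩ := (pullback.fst ((V z).ι ≫ qY) qF).surjective ⟨z, hyV z⟩
    refine ⟨((e z).inv ≫ (f ⁻¹ᵁ V z).ι).base w, ?_⟩
    have h1 : (e z).inv ≫ (f ⁻¹ᵁ V z).ι ≫ f = pullback.fst ((V z).ι ≫ qY) qF ≫ (V z).ι := by
      rw [← morphismRestrict_ι, ← he z, Category.assoc, Iso.inv_hom_id_assoc]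
    have h2 := congrArg (fun g => g.base w) h1
    simp only [Scheme.Hom.comp_base, TopCat.hom_comp, ContinuousMap.comp_apply] at h2
    simp only [Scheme.Hom.comp_base, TopCat.hom_comp, ContinuousMap.comp_apply]
    rw [h2, hw]; rfl
  refine irreducible_of_cover (ι := ↥Y) (fun y => ((f ⁻¹ᵁ V y : X.Opens) : Set ↥X))
    (fun y => (f ⁻¹ᵁ V y).2) ?_ (fun x => ⟨f.base x, hyV _⟩) ?_
  · intro y
    haveI := hirr y
    have h1 : IsIrreducible (Set.range (f ⁻¹ᵁ V y).ι.base) := by
      rw [← Set.image_univ]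
      exact (IrreducibleSpace.isIrreducible_univ _).image _
        (f ⁻¹ᵁ V y).ι.continuous.continuousOn
    rwa [Scheme.Opens.range_ι] at h1
  · intro y y'
    have hne : ((V y : Set ↥Y) ∩ (V y' : Set ↥Y)).Nonempty :=
      nonempty_preirreducible_inter (V y).2 (V y').2 ⟨y, hyV y⟩ ⟨y', hyV y'⟩
    obtain ⟨z, hz1, hz2⟩ := hne
    obtain ⟨x, rfl⟩ := hsurj z
    exact ⟨x, hz1, hz2⟩

end Groth.Agent.S14375
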