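import Groth.Statements.S1438
import Mathlib

set_option autoImplicit false
universe u
open FlatMor

namespace Groth.Agent.S1438

section Helpers
open CategoryTheory CategoryTheory.Limits AlgebraicGeometry TopologicalSpace

lemma exists_min1438 {X : Scheme.{u}} (n : ℕ) (U : Fin (n + 1) → X.Opens) (hcov : ⨆ i, U i = ⊤) :
    ∃ m : X → Fin (n + 1), (∀ x, x ∈ U (m x)) ∧ ∀ x k, x ∈ U k → m x ≤ k := by
  classical
  have hne : ∀ x : X, (Finset.univ.filter (fun j : Fin (n + 1) => x ∈ U j)).Nonempty := by
    intro x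
    have hx : x ∈ (⨆ i, U i : X.Opens) := by rw [hcov]; trivial
    obtain ⟨i, hi⟩ := Opens.mem_iSup.mp hx
    exact ⟨i, Finset.mem_filter.mpr ⟨Finset.mem_univ _, hi⟩⟩
  refine ⟨fun x => (Finset.univ.filter (fun j : Fin (n + 1) => x ∈ U j)).min' (hne x), ?_, ?_⟩
  · intro x
    exact (Finset.mem_filter.mp (Finset.min'_mem _ (hne x))).2
  · intro x k hk
    exact Finset.min'_le _ k (Finset.mem_filter.mpr ⟨Finset.mem_univ _, hk⟩)

end Helpers

open AlgebraicGeometry CategoryTheory Limits in
/-- A separated scheme with an open covering by n + 1 affine opens has affine stratification number at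
most n: it admits an affine stratification with index set {0, …, n}. -/
theorem result (X : Scheme.{u}) [X.IsSeparated] (n : ℕ) (U : Fin (n + 1) → X.Opens)
    (hU : ∀ i, IsAffineOpen (U i)) (hcov : ⨆ i, U i = ⊤) :
    MoreMor.HasAffineStratification X n := by
  classical
  obtain ⟨m, hm1, hm2⟩ := exists_min1438 n U hcov
  have hF : ∀ j : Fin (n + 1), IsClosed {x : X | ∀ k : Fin (n + 1), k < j → x ∉ U k} := by
    intro j
    have : {x : X | ∀ k : Fin (n + 1), k < j → x ∉ U k} =
        ⋂ k : Fin (n + 1), ⋂ (_ : k < j), ((U k : Set X))ᶜ := by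
      ext x; simp
    rw [this]
    exact isClosed_iInter fun k => isClosed_iInter fun _ => (U k).isOpen.isClosed_compl
  have hle : ∀ (x : X) (j : Fin (n + 1)), j ≤ m x ↔ ∀ k : Fin (n + 1), k < j → x ∉ U k := by
    intro x j
    constructor
    · intro h k hk hxk
      exact absurd (lt_of_le_of_lt (hm2 x k hxk) hk) (not_lt.mpr h)
    · intro h
      by_contra hlt
      rw [not_le] at hlt
      exact h (m x) hlt (hm1 x)
  refine ⟨fun x => Fin.rev (m x), ?_, ?_⟩
  · intro i
    have : {x : X | Fin.rev (m x) ≤ i} =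
        {x : X | ∀ k : Fin (n + 1), k < Fin.rev i → x ∉ U k} := by
      ext x
      simp only [Set.mem_setOf_eq]
      rw [← hle]
      exact Fin.rev_le_iff
    rw [this]
    exact hF _
  · intro i
    obtain ⟨j, hj⟩ : ∃ j : Fin (n + 1), j = Fin.rev i := ⟨_, rfl⟩
    have hi : i = Fin.rev j := by rw [hj, Fin.rev_rev]
    haveI : IsAffine ↑(U j) := hU j
    have hC' : IsClosed ((U j).ι ⁻¹' {x : X | ∀ k : Fin (n + 1), k < j → x ∉ U k}) :=
      (hF j).preimage (U j).ι.continuous
    obtain ⟨Zc, hZc⟩ : ∃ Zc : TopologicalSpace.Closeds ↑(U j), (Zc : Set ↑(U j)) =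
        (U j).ι ⁻¹' {x : X | ∀ k : Fin (n + 1), k < j → x ∉ U k} := ⟨⟨_, hC'⟩, rfl⟩
    refine ⟨(Scheme.IdealSheafData.vanishingIdeal Zc).subscheme,
      (Scheme.IdealSheafData.vanishingIdeal Zc).subschemeι ≫ (U j).ι, inferInstance, ?_, ?_, ?_⟩
    · exact isAffine_of_isAffineHom (Scheme.IdealSheafData.vanishingIdeal Zc).subschemeι
    · haveI : IsAffine (Scheme.IdealSheafData.vanishingIdeal Zc).subscheme :=
        isAffine_of_isAffineHom (Scheme.IdealSheafData.vanishingIdeal Zc).subschemeι
      haveI : IsAffineHom (((Scheme.IdealSheafData.vanishingIdeal Zc).subschemeι ≫ (U j).ι) ≫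
          Limits.terminal.from X) := by
        rw [Limits.terminal.comp_from]; infer_instance
      exact IsAffineHom.of_comp ((Scheme.IdealSheafData.vanishingIdeal Zc).subschemeι ≫ (U j).ι)
        (Limits.terminal.from X)
    · rw [Scheme.Hom.comp_base, TopCat.coe_comp, Set.range_comp,
        Scheme.IdealSheafData.range_subschemeι, Scheme.IdealSheafData.coe_support_vanishingIdeal,
        hZc]
      ext x
      simp only [Set.mem_image, Set.mem_setOf_eq, Set.mem_preimage]
      constructor
      · rintro ⟨y, hy, rfl⟩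
        have hyU : (U j).ι y ∈ (U j : Set X) := by
          rw [← Scheme.Opens.range_ι]; exact ⟨y, rfl⟩
        have h1 : j ≤ m ((U j).ι y) := (hle _ j).mpr hy
        have h2 : m ((U j).ι y) ≤ j := hm2 _ j hyU
        have h3 : m ((U j).ι y) = j := le_antisymm h2 h1
        rw [h3, hi]
      · intro hx
        have hmx : m x = j := by rw [hj, ← hx, Fin.rev_rev]
        have hxU : x ∈ U j := hmx ▸ hm1 x
        exact ⟨⟨x, hxU⟩, (hle x j).mp (le_of_eq hmx.symm), rfl⟩

end Groth.Agent.S1438
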