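import Groth.Statements.S14384
import Mathlib

set_option autoImplicit false
universe u
open CAlg

namespace Groth.Agent.S14384

/-- Let V be a discrete valuation ring of characteristic zero with uniformizer ϖ, whose residue field is
perfect of characteristic p > 0, let R be a V-algebra of finite type, x'_1, …, x'_d elements of R
defining a morphism f' from Spec R to affine d-space over V, and n ≥ 0 such that p^n Ω_{f'} vanishes
along the closed fibre, written inside Ω_{R/V} as p^n Ω_{R/V} ⊆ ϖ p^n Ω_{R/V} + Σ_i R dx'_i. If y_1,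
…, y_d lie in the subring of R generated by the p^(n+1)-th powers of elements of R, then the
morphism f = f' + (y_1, …, y_d) has the same property: p^n Ω_{R/V} ⊆ ϖ p^n Ω_{R/V} + Σ_i R d(x'_i +
y_i). -/
theorem result (V : Type u) [CommRing V] [IsDomain V] [IsDiscreteValuationRing V] [CharZero V]
    (ϖ : V) (hϖ : Irreducible ϖ) (p : ℕ) [Fact p.Prime] [CharP (IsLocalRing.ResidueField V) p]
    [PerfectField (IsLocalRing.ResidueField V)]
    (R : Type u) [CommRing R] [Algebra V R] [Algebra.FiniteType V R] (d n : ℕ) (x' : Fin d → R)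
    (hx' : Ideal.span {((p : R)) ^ n} • (⊤ : Submodule R (Ω[R⁄V])) ≤
      Ideal.span {algebraMap V R ϖ * (p : R) ^ n} • (⊤ : Submodule R (Ω[R⁄V])) ⊔
        Submodule.span R (Set.range fun i => KaehlerDifferential.D V R (x' i)))
    (y : Fin d → R) (hy : ∀ i, y i ∈ Subring.closure (Set.range fun r : R => r ^ (p ^ (n + 1)))) :
    Ideal.span {((p : R)) ^ n} • (⊤ : Submodule R (Ω[R⁄V])) ≤
      Ideal.span {algebraMap V R ϖ * (p : R) ^ n} • (⊤ : Submodule R (Ω[R⁄V])) ⊔
        Submodule.span R (Set.range fun i => KaehlerDifferential.D V R (x' i + y i)) := by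
  classical
  have hpm : (p : V) ∈ IsLocalRing.maximalIdeal V := by
    rw [← IsLocalRing.residue_eq_zero_iff, map_natCast]
    exact CharP.cast_eq_zero _ p
  rw [hϖ.maximalIdeal_eq, Ideal.mem_span_singleton'] at hpm
  obtain ⟨u, hu⟩ := hpm
  have hmemP : ∀ ω : Ω[R⁄V], (algebraMap V R ϖ * (p : R) ^ n) • ω ∈
      Ideal.span {algebraMap V R ϖ * (p : R) ^ n} • (⊤ : Submodule R (Ω[R⁄V])) :=
    fun ω => Submodule.smul_mem_smul (Ideal.subset_span rfl) Submodule.mem_top
  generalize Ideal.span {algebraMap V R ϖ * (p : R) ^ n} • (⊤ : Submodule R (Ω[R⁄V])) = P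
    at hx' hmemP ⊢
  have hD : ∀ z ∈ Subring.closure (Set.range fun r : R => r ^ (p ^ (n + 1))),
      KaehlerDifferential.D V R z ∈ P := by
    intro z hz
    refine Subring.closure_induction (p := fun z _ => KaehlerDifferential.D V R z ∈ P)
      ?_ ?_ ?_ ?_ ?_ ?_ hz
    · rintro _ ⟨r, rfl⟩
      show KaehlerDifferential.D V R (r ^ (p ^ (n + 1))) ∈ P
      rw [Derivation.leibniz_pow]
      have h1 : ((p ^ (n + 1) : ℕ) : R) =
          algebraMap V R u * (algebraMap V R ϖ * (p : R) ^ n) := by
        rw [← mul_assoc, ← map_mul, hu, map_natCast, Nat.cast_pow, pow_succ']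
      rw [← Nat.cast_smul_eq_nsmul R, h1, mul_smul]
      exact Submodule.smul_mem _ _ (hmemP _)
    · show KaehlerDifferential.D V R 0 ∈ P
      rw [map_zero]
      exact zero_mem _
    · show KaehlerDifferential.D V R 1 ∈ P
      rw [Derivation.map_one_eq_zero]
      exact zero_mem _
    · intro a b _ _ ha hb
      show KaehlerDifferential.D V R (a + b) ∈ P
      rw [map_add]
      exact add_mem ha hb
    · intro a _ ha
      show KaehlerDifferential.D V R (-a) ∈ P
      rw [map_neg]
      exact neg_mem ha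
    · intro a b _ _ ha hb
      show KaehlerDifferential.D V R (a * b) ∈ P
      rw [Derivation.leibniz]
      exact add_mem (Submodule.smul_mem _ _ hb) (Submodule.smul_mem _ _ ha)
  refine hx'.trans ?_
  refine sup_le le_sup_left ?_
  rw [Submodule.span_le]
  rintro _ ⟨i, rfl⟩
  show KaehlerDifferential.D V R (x' i) ∈ _
  have h2 : KaehlerDifferential.D V R (x' i) =
      KaehlerDifferential.D V R (x' i + y i) - KaehlerDifferential.D V R (y i) := by
    rw [map_add]
    abel
  rw [h2]
  exact sub_mem (Submodule.mem_sup_right (Submodule.subset_span ⟨i, rfl⟩))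
    (Submodule.mem_sup_left (hD _ (hy i)))

end Groth.Agent.S14384
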