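import Groth.Statements.S14397
import Mathlib.Tactic

set_option autoImplicit false
universe u
open DualGr

namespace Groth.Agent.S14397

/-- Let (V, E) with endpoint map E → V × V be a finite multigraph (loops and parallel edges allowed; the
order of the two endpoints is an auxiliary orientation), and let D_1, …, D_n be finite sets of edges
such that every edge lies outside at least one D_i. For each i let Γ_i be the multigraph obtained by
contracting the edges of D_i, and let H₁(Γ, ℤ) → H₁(Γ_i, ℤ) be the map of cycle lattices (integer
edge vectors with zero boundary) given by restriction to the surviving edges. Then the map H₁(Γ, ℤ)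
→ ⊕_i H₁(Γ_i, ℤ) has torsion-free cokernel. (The published statement is about the connected labelled
dual graph of the closed fibre of a nodal curve, smooth outside a normal crossing divisor with
components D_1, …, D_n, over a Noetherian regular strictly local base; Γ_i is the dual graph of the
fibre over the generic point of D_i, the lattices are identified with the character groups of the
toric parts of the Picard schemes of these fibres, and the map is the generization map of character
groups; this row states the assertion about cycle lattices, for any finite multigraph, which is what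
the argument establishes.) -/
theorem result
    {V E : Type u} [Fintype V] [Fintype E] [DecidableEq V] [DecidableEq E]
    (ends : E → V × V) {n : ℕ} (D : Fin n → Finset E) (hcover : ∀ e : E, ∃ i : Fin n, e ∉ D i) :
    IsAddTorsionFree (((i : Fin n) → ↥(DualGr.cycleLattice (DualGr.ctrEnds ends (D i)))) ⧸
      LinearMap.range (LinearMap.pi fun i : Fin n => DualGr.genMap ends (D i))) := by
  classical
  refine ⟨fun m hm a b hab => ?_⟩
  have hab' : m • a = m • b := hab
  have hsub : (m : ℤ) • (a - b) = 0 := by
    rw [Nat.cast_smul_eq_nsmul ℤ, smul_sub, hab', sub_self]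
  obtain ⟨x, hx⟩ := Submodule.Quotient.mk_surjective _ (a - b)
  suffices hmem : x ∈ LinearMap.range (LinearMap.pi fun i : Fin n => DualGr.genMap ends (D i)) by
    have h0 : a - b = 0 := by rw [← hx]; exact (Submodule.Quotient.mk_eq_zero _).2 hmem
    exact sub_eq_zero.1 h0
  rw [← hx, ← Submodule.Quotient.mk_smul, Submodule.Quotient.mk_eq_zero] at hsub
  obtain ⟨z, hz⟩ := hsub
  have hnz : (m : ℤ) ≠ 0 := by exact_mod_cast hm
  -- z.1 e = n * (x i).1 ⟨e, he⟩ for e ∉ D i
  have hze : ∀ (i : Fin n) (e : E) (he : e ∉ D i), z.1 e = (m : ℤ) * (x i).1 ⟨e, he⟩ := by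
    intro i e he
    have h1 := congrFun hz i
    have h2 := congrArg (fun w : ↥(DualGr.cycleLattice (DualGr.ctrEnds ends (D i))) =>
      w.1 ⟨e, he⟩) h1
    simpa [DualGr.genMap, DualGr.resE] using h2
  choose ix hix using hcover
  let z' : E → ℤ := fun e => (x (ix e)).1 ⟨e, hix e⟩
  have hzz' : z.1 = (m : ℤ) • z' := by
    funext e
    rw [Pi.smul_apply, smul_eq_mul]
    exact hze (ix e) e (hix e)
  have hz'mem : z' ∈ DualGr.cycleLattice ends := by
    have h1 : DualGr.boundaryHom ends z.1 = 0 := z.2
    rw [hzz', map_smul] at h1
    change DualGr.boundaryHom ends z' = 0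
    exact (smul_eq_zero.1 h1).resolve_left hnz
  refine ⟨⟨z', hz'mem⟩, ?_⟩
  funext i
  apply Subtype.ext
  funext e
  have h3 : (m : ℤ) * z' e.1 = (m : ℤ) * (x i).1 e := by
    have h4 := congrFun hzz' e.1
    rw [Pi.smul_apply, smul_eq_mul] at h4
    rw [← h4]
    exact hze i e.1 e.2
  have h5 := mul_left_cancel₀ hnz h3
  simpa [DualGr.genMap, DualGr.resE] using h5

end Groth.Agent.S14397
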