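import Groth.Statements.S14401
import Mathlib

set_option autoImplicit false
universe u
open CategoryTheory AlgebraicGeometry
open Props

namespace Groth.Agent.S14401

theorem result (X : Scheme.{u}) [AlgebraicGeometry.IsNoetherian X]
    (hX : ∀ x : X, IsDomain (X.presheaf.stalk x)) :
    (∀ Z ∈ irreducibleComponents (X : Type u), IsOpen Z) ∧
      ∀ x : X, ∃! Z, Z ∈ irreducibleComponents (X : Type u) ∧ x ∈ Z := by
  -- every component through `x` is the closure of the image of the generic point of the stalk
  have hkey : ∀ x : X, ∃ y : X, ∀ Z ∈ irreducibleComponents (X : Type u), x ∈ Z →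
      Z = closure {y} := by
    intro x
    have := hX x
    let b : PrimeSpectrum (X.presheaf.stalk x) := ⟨⊥, Ideal.isPrime_bot⟩
    refine ⟨X.fromSpecStalk x b, fun Z hZ hxZ => ?_⟩
    have hc := isClosed_of_mem_irreducibleComponents Z hZ
    have hi : IsIrreducible Z := hZ.1
    obtain ⟨η, hη⟩ := QuasiSober.sober hi hc
    have hs : η ⤳ x := hη.specializes hxZ
    obtain ⟨q, hq⟩ : η ∈ Set.range (X.fromSpecStalk x) := by
      rw [Scheme.range_fromSpecStalk]; exact hs
    have hbq : b ⤳ q := (PrimeSpectrum.le_iff_specializes b q).1 bot_le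
    have hyη : X.fromSpecStalk x b ⤳ η := by
      have := hbq.map (X.fromSpecStalk x).continuous
      rwa [hq] at this
    have hsub : Z ⊆ closure {X.fromSpecStalk x b} := by
      rw [← hη.def]
      exact closure_minimal (Set.singleton_subset_iff.2 hyη.mem_closure) isClosed_closure
    have hirr : IsIrreducible (closure {X.fromSpecStalk x b}) := isIrreducible_singleton.closure
    exact le_antisymm hsub (hZ.2 hirr hsub)
  have huniq : ∀ x : X, ∀ Z₁ ∈ irreducibleComponents (X : Type u),
      ∀ Z₂ ∈ irreducibleComponents (X : Type u), x ∈ Z₁ → x ∈ Z₂ → Z₁ = Z₂ := by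
    intro x Z₁ h₁ Z₂ h₂ hx₁ hx₂
    obtain ⟨y, hy⟩ := hkey x
    rw [hy Z₁ h₁ hx₁, hy Z₂ h₂ hx₂]
  constructor
  · intro Z hZ
    have hfin : (irreducibleComponents (X : Type u)).Finite :=
      TopologicalSpace.NoetherianSpace.finite_irreducibleComponents
    have hcl : IsClosed (⋃ Z' ∈ irreducibleComponents (X : Type u) \ {Z}, Z') :=
      (hfin.subset Set.sdiff_subset).isClosed_biUnion
        fun Z' hZ' => isClosed_of_mem_irreducibleComponents Z' hZ'.1
    have heq : Zᶜ = ⋃ Z' ∈ irreducibleComponents (X : Type u) \ {Z}, Z' := by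
      ext x
      simp only [Set.mem_compl_iff, Set.mem_iUnion, Set.mem_sdiff, Set.mem_singleton_iff,
        exists_prop]
      constructor
      · intro hx
        refine ⟨irreducibleComponent x, ⟨irreducibleComponent_mem_irreducibleComponents x, ?_⟩,
          mem_irreducibleComponent⟩
        rintro rfl
        exact hx mem_irreducibleComponent
      · rintro ⟨Z', ⟨hZ', hne⟩, hxZ'⟩ hxZ
        exact hne (huniq x Z' hZ' Z hZ hxZ' hxZ)
    rw [← isClosed_compl_iff, heq]
    exact hcl
  · intro x
    refine ⟨irreducibleComponent x, ⟨irreducibleComponent_mem_irreducibleComponents x,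
      mem_irreducibleComponent⟩, ?_⟩
    rintro Z ⟨hZ, hxZ⟩
    exact huniq x Z hZ _ (irreducibleComponent_mem_irreducibleComponents x) hxZ
      mem_irreducibleComponent

end Groth.Agent.S14401
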