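import Groth.Statements.S14402
import Groth.Agent.H10.CohTopD
import Mathlib

set_option autoImplicit false
universe u
open CategoryTheory CategoryTheory.Limits
open CohTop

namespace Groth.Agent.S14402

/-- If a continuous map f : X → Y is a closed embedding (a homeomorphism onto a closed subset), then for
every abelian sheaf F on X and every q ≥ 0 the higher direct image R^{q+1} f_* F is zero. (The
published statement is for modules over a sheaf of rings on X along a morphism of ringed spaces;
this row is the case of abelian sheaves, the sheaf of rings being the constant sheaf ℤ.) -/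
theorem result {X Y : TopCat.{u}} (f : X ⟶ Y)
    (hf : Topology.IsClosedEmbedding f) (F : CohTop.Ab X) (q : ℕ) :
    IsZero ((CohTop.Rpush f (q + 1)).obj F) := by
  have hF : ∀ (S : ShortComplex (CohTop.Ab X)), S.ShortExact →
      (S.map (CohTop.push f)).ShortExact :=
    fun S hS => Groth.Agent.H10.CohTopB.push_shortExact f hf S hS
  have hE : ∀ (S : ShortComplex (CohTop.Ab X)), S.Exact → (S.map (CohTop.push f)).Exact :=
    ((CohTop.push f).exact_tfae.out 0 1).1 hF
  let I := injectiveResolution F
  have hex := hE _ (I.exact_succ q)
  have hz : IsZero ((HomologicalComplex.homologyFunctor (CohTop.Ab Y) _ (q + 1)).obj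
      (((CohTop.push f).mapHomologicalComplex _).obj I.cocomplex)) := by
    show IsZero ((((CohTop.push f).mapHomologicalComplex _).obj I.cocomplex).homology (q + 1))
    rw [← HomologicalComplex.exactAt_iff_isZero_homology]
    rw [HomologicalComplex.exactAt_iff' _ q (q + 1) (q + 2) (by simp)
      (by simp only [CochainComplex.next]; rfl)]
    exact hex
  exact IsZero.of_iso hz (I.isoRightDerivedObj (CohTop.push f) (q + 1))

end Groth.Agent.S14402
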