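import Groth.Statements.S14405
import Mathlib

set_option autoImplicit false
open Polynomial
open HilbNum

namespace Groth.Agent.S14405

/-- backward difference of the rising factorial -/
lemma delta_asc (n : ℕ) :
    ascPochhammer ℚ (n + 1) - (ascPochhammer ℚ (n + 1)).comp (X - 1) =
      C ((n : ℚ) + 1) * ascPochhammer ℚ n := by
  have h := congrArg (fun p => p.comp (X - 1 : ℚ[X])) (ascPochhammer_succ_comp_X_add_one (S := ℚ) n)
  simp only [comp_assoc, add_comp, X_comp, one_comp, sub_add_cancel, comp_X, smul_comp] at h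
  rw [sub_eq_iff_eq_add'.mpr h]
  simp [nsmul_eq_mul]

lemma exists_antidiff : ∀ (d : ℕ) (Q : ℚ[X]), Q ≠ 0 → Q.natDegree = d →
    ∃ P : ℚ[X], P.natDegree = d + 1 ∧ P - P.comp (X - 1) = Q := by
  intro d
  induction d using Nat.strong_induction_on with
  | _ d ih =>
    intro Q hQ hd
    set a := Q.leadingCoeff with ha
    have ha0 : a ≠ 0 := leadingCoeff_ne_zero.mpr hQ
    have hd1 : ((d : ℚ) + 1) ≠ 0 := by positivity
    set R : ℚ[X] := C (a / ((d : ℚ) + 1)) * ascPochhammer ℚ (d + 1) with hR
    have hRdeg : R.natDegree = d + 1 := by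
      rw [hR, natDegree_C_mul (div_ne_zero ha0 hd1), ascPochhammer_natDegree]
    have hRdelta : R - R.comp (X - 1) = C a * ascPochhammer ℚ d := by
      rw [hR, mul_comp, C_comp, ← mul_sub, delta_asc, ← mul_assoc, ← C_mul]
      congr 2
      field_simp
    set S : ℚ[X] := C a * ascPochhammer ℚ d with hS
    have hSdeg : S.natDegree = d := by
      rw [hS, natDegree_C_mul ha0, ascPochhammer_natDegree]
    have hSlc : S.leadingCoeff = a := by
      rw [hS, leadingCoeff_mul, leadingCoeff_C, (monic_ascPochhammer ℚ d).leadingCoeff, mul_one]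
    by_cases hQ' : Q - S = 0
    · refine ⟨R, hRdeg, ?_⟩
      rw [hRdelta]
      exact (sub_eq_zero.mp hQ').symm
    · have hdeg : (Q - S).degree < Q.degree := by
        apply degree_sub_lt_left
        · rw [degree_eq_natDegree hQ, degree_eq_natDegree (by rintro h; rw [h] at hSlc; simp at hSlc; exact ha0 hSlc.symm), hd, hSdeg]
        · exact hQ
        · rw [hSlc]
      have hlt : (Q - S).natDegree < d := by
        rw [← hd]
        exact natDegree_lt_natDegree hQ' hdeg
      obtain ⟨P', hP'deg, hP'⟩ := ih _ hlt (Q - S) hQ' rfl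
      refine ⟨R + P', ?_, ?_⟩
      · rw [natDegree_add_eq_left_of_natDegree_lt]
        · exact hRdeg
        · rw [hP'deg, hRdeg]; omega
      · rw [add_comp]
        have : R + P' - (R.comp (X - 1) + P'.comp (X - 1)) = (R - R.comp (X - 1)) + (P' - P'.comp (X - 1)) := by
          ring
        rw [this, hRdelta, hP']
        ring

theorem result (φ : ℤ → ℚ) (d : ℕ) (Q : ℚ[X]) (hQ : Q ≠ 0)
    (hd : Q.natDegree = d) (h : ∀ m : ℤ, φ m - φ (m - 1) = Q.eval (m : ℚ)) :
    ∃ P : ℚ[X], P.natDegree = d + 1 ∧ ∀ m : ℤ, φ m = P.eval (m : ℚ) := by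
  obtain ⟨P₀, hP₀deg, hP₀⟩ := exists_antidiff d Q hQ hd
  refine ⟨P₀ + C (φ 0 - P₀.eval 0), ?_, ?_⟩
  · rw [natDegree_add_C, hP₀deg]
  · have hstep : ∀ m : ℤ, P₀.eval (m : ℚ) - P₀.eval ((m : ℚ) - 1) = Q.eval (m : ℚ) := by
      intro m
      rw [← hP₀]
      simp [eval_comp]
    set ψ : ℤ → ℚ := fun m => φ m - (P₀ + C (φ 0 - P₀.eval 0)).eval (m : ℚ) with hψ
    have hψ0 : ψ 0 = 0 := by simp [hψ]
    have hψstep : ∀ m : ℤ, ψ m = ψ (m - 1) := by
      intro m
      have h1 := h m
      have h2 := hstep m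
      simp only [hψ, eval_add, eval_C]
      push_cast
      linarith
    have hψall : ∀ m : ℤ, ψ m = 0 := by
      intro m
      induction m using Int.induction_on with
      | zero => exact hψ0
      | succ i ih =>
        have := hψstep (i + 1)
        rw [this]
        simpa using ih
      | pred i ih =>
        have := hψstep (-i)
        rw [← this]
        exact ih
    intro m
    have := hψall m
    simp only [hψ] at this
    linarith

end Groth.Agent.S14405
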