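import Groth.Statements.S14410
import Mathlib

set_option autoImplicit false
universe u
open CategoryTheory TopologicalSpace Opposite
open CohTop

namespace Groth.Agent.S14410

theorem result (X : TopCat.{u})
    (S : ShortComplex (TopCat.Sheaf AddCommGrpCat.{u} X)) (hS : S.ShortExact)
    [S.X₁.IsFlasque] [S.X₃.IsFlasque] : S.X₂.IsFlasque where
  epi {U V} i := by
    refine (AddCommGrpCat.epi_iff_surjective _).mpr (fun s ↦ ?_)
    -- s : S.X₂(V)
    have hepi3 : Function.Surjective (S.X₃.obj.map i) :=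
      (AddCommGrpCat.epi_iff_surjective _).mp inferInstance
    have hepi1 : Function.Surjective (S.X₁.obj.map i) :=
      (AddCommGrpCat.epi_iff_surjective _).mp inferInstance
    have hg : Function.Surjective (S.g.hom.app (op U.unop)) :=
      (AddCommGrpCat.epi_iff_surjective _).mp (TopCat.Sheaf.IsFlasque.epi_of_shortExact hS)
    obtain ⟨t₃, ht₃⟩ := hepi3 (S.g.hom.app V s)
    obtain ⟨t₂, ht₂⟩ := hg t₃
    have natg : ∀ x, S.g.hom.app V (S.X₂.obj.map i x) = S.X₃.obj.map i (S.g.hom.app U x) := by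
      intro x
      exact NatTrans.naturality_apply S.g.hom i x
    have natf : ∀ x, S.f.hom.app V (S.X₁.obj.map i x) = S.X₂.obj.map i (S.f.hom.app U x) := by
      intro x
      exact NatTrans.naturality_apply S.f.hom i x
    have hzero : S.g.hom.app (op V.unop) (S.X₂.obj.map i t₂ - s) = 0 := by
      change S.g.hom.app V (S.X₂.obj.map i t₂ - s) = 0
      rw [map_sub, natg]
      change S.X₃.obj.map i (S.g.hom.app (op U.unop) t₂) - _ = 0
      rw [ht₂, ht₃, sub_self]
    obtain ⟨s₁, hs₁⟩ := TopCat.Sheaf.sections_exact_of_left_exact hS.1 hS.2 _ hzero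
    obtain ⟨t₁, ht₁⟩ := hepi1 s₁
    refine ⟨t₂ - S.f.hom.app U t₁, ?_⟩
    rw [map_sub, ← natf, ht₁]
    change _ - S.f.hom.app (op V.unop) s₁ = s
    rw [hs₁]
    abel

end Groth.Agent.S14410
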