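import Groth.Statements.S14413
import Groth.Agent.H28.ProjRes

set_option autoImplicit false
universe u
open CategoryTheory CategoryTheory.Limits
open CAlg

namespace Groth.Agent.S14413

open Groth.Agent.H28.ProjRes

theorem result (R : Type u) [CommRing R]
    (M : ModuleCat.{u} R) (d : ℕ) :
    HasProjectiveDimensionLE M d ↔
      ∃ P : ProjectiveResolution M, ∀ i : ℕ, d < i → IsZero (P.complex.X i) := by
  constructor
  · intro h
    exact exists_resolution_of_hasProjectiveDimensionLT d M h
  · rintro ⟨P, hP⟩
    exact hasProjectiveDimensionLT_of_resolution P (d + 1) (fun i hi => hP i (by omega))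

end Groth.Agent.S14413
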