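import Groth.Statements.S14414
import Groth.Agent.H28.ProjRes

set_option autoImplicit false
universe u
open CategoryTheory CategoryTheory.Limits
open CAlg

namespace Groth.Agent.S14414

open Groth.Agent.H28.ProjRes

theorem result (R : Type u) [CommRing R]
    (M N : ModuleCat.{u} R) (q : ℕ) [HasProjectiveDimensionLE N q] (i : ℕ) (hi : q < i) :
    IsZero (((CategoryTheory.Tor (ModuleCat.{u} R) i).obj M).obj N) := by
  obtain ⟨P, hP⟩ := exists_resolution_of_hasProjectiveDimensionLT q N inferInstance
  exact isZero_leftDerived_obj_of_resolution _ P i (hP i hi)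

end Groth.Agent.S14414
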