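import Groth.Statements.S14416
import Mathlib

set_option autoImplicit false
universe u
open scoped TensorProduct
open CAlg

namespace Groth.Agent.S14416

theorem result
    (B A : Type u) [CommRing B] [CommRing A] [Algebra B A] [Module.Finite B A]
    (h : ∀ p : PrimeSpectrum B,
      Module.finrank p.asIdeal.ResidueField (p.asIdeal.ResidueField ⊗[B] A) ≤ 1) :
    Function.Surjective (algebraMap B A) := by
  let f : B →ₗ[B] A := Algebra.linearMap B A
  suffices hsub : Subsingleton (A ⧸ LinearMap.range f) by
    have : LinearMap.range f = ⊤ := Submodule.Quotient.subsingleton_iff.mp hsub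
    exact LinearMap.range_eq_top.mp this
  rw [← Module.support_eq_empty_iff (R := B), Set.eq_empty_iff_forall_notMem]
  intro p hp
  rw [Module.mem_support_iff_nontrivial_residueField_tensorProduct] at hp
  set κ := p.asIdeal.ResidueField with hκ
  -- every element of κ ⊗ A is of the form x ⊗ 1
  have hsurj : ∀ y : κ ⊗[B] A, ∃ x : κ, y = x ⊗ₜ[B] (1 : A) := by
    have hle := h p
    rcases Nat.le_one_iff_eq_zero_or_eq_one.mp hle with h0 | h1
    · have : Subsingleton (κ ⊗[B] A) := Module.finrank_zero_iff.mp h0
      intro y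
      exact ⟨0, Subsingleton.elim _ _⟩
    · have hnt : Nontrivial (κ ⊗[B] A) := Module.nontrivial_of_finrank_pos (R := κ) (by rw [h1]; exact Nat.one_pos)
      have hinj : Function.Injective (Algebra.linearMap κ (κ ⊗[B] A)) :=
        (algebraMap κ (κ ⊗[B] A)).injective
      have hs : Function.Surjective (Algebra.linearMap κ (κ ⊗[B] A)) := by
        rw [← LinearMap.injective_iff_surjective_of_finrank_eq_finrank]
        · exact hinj
        · rw [h1, Module.finrank_self]
      intro y
      obtain ⟨x, hx⟩ := hs y
      refine ⟨x, ?_⟩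
      rw [← hx, Algebra.linearMap_apply, Algebra.TensorProduct.algebraMap_apply]
      simp
  apply not_subsingleton (κ ⊗[B] (A ⧸ LinearMap.range f))
  refine ⟨fun y z => ?_⟩
  suffices ∀ y : κ ⊗[B] (A ⧸ LinearMap.range f), y = 0 by rw [this y, this z]
  intro y
  obtain ⟨y', rfl⟩ := LinearMap.lTensor_surjective κ (Submodule.mkQ_surjective (LinearMap.range f)) y
  obtain ⟨x, rfl⟩ := hsurj y'
  rw [LinearMap.lTensor_tmul]
  have : (LinearMap.range f).mkQ (1 : A) = 0 := by
    rw [Submodule.mkQ_apply, Submodule.Quotient.mk_eq_zero]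
    exact ⟨1, by simp [f]⟩
  rw [this, TensorProduct.tmul_zero]

end Groth.Agent.S14416
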