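import Groth.Statements.S14418
import Mathlib
import Mathlib

set_option autoImplicit false
universe u
open CategoryTheory
open CAlg

namespace Groth.Agent.S14418

open CategoryTheory CategoryTheory.Limits in
/-- the class of `B`-modules killed by `T`. -/
def C {B A : Type u} [CommRing B] [CommRing A] (T : ModuleCat.{u} B ⥤ ModuleCat.{u} A)
    (N : Type u) [AddCommGroup N] [Module B N] : Prop :=
  IsZero (T.obj (ModuleCat.of B N))

open CategoryTheory CategoryTheory.Limits in
theorem C_of_equiv {B A : Type u} [CommRing B] [CommRing A] (T : ModuleCat.{u} B ⥤ ModuleCat.{u} A)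
    {N N' : Type u} [AddCommGroup N] [Module B N] [AddCommGroup N'] [Module B N']
    (e : N ≃ₗ[B] N') (h : C T N) : C T N' :=
  IsZero.of_iso h (T.mapIso e.toModuleIso).symm

open CategoryTheory CategoryTheory.Limits in
theorem C_of_subsingleton {B A : Type u} [CommRing B] [CommRing A]
    (T : ModuleCat.{u} B ⥤ ModuleCat.{u} A) [T.Additive]
    (N : Type u) [AddCommGroup N] [Module B N] [Subsingleton N] : C T N :=
  T.map_isZero (ModuleCat.isZero_of_subsingleton (ModuleCat.of B N))

open CategoryTheory CategoryTheory.Limits in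
theorem C_of_exact {B A : Type u} [CommRing B] [CommRing A]
    (T : ModuleCat.{u} B ⥤ ModuleCat.{u} A) [T.Additive]
    (hex : ∀ S : ShortComplex (ModuleCat.{u} B), S.ShortExact → Module.Finite B S.X₁ →
      Module.Finite B S.X₂ → Module.Finite B S.X₃ → (S.map T).Exact)
    {N₁ N₂ N₃ : Type u} [AddCommGroup N₁] [Module B N₁] [AddCommGroup N₂]
    [Module B N₂] [AddCommGroup N₃] [Module B N₃] [Module.Finite B N₁] [Module.Finite B N₂]
    [Module.Finite B N₃] (f : N₁ →ₗ[B] N₂) (g : N₂ →ₗ[B] N₃)
    (hf : Function.Injective f) (hg : Function.Surjective g) (hfg : Function.Exact f g)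
    (h1 : C T N₁) (h3 : C T N₃) : C T N₂ := by
  have hS := hex (ShortComplex.mk (ModuleCat.ofHom f) (ModuleCat.ofHom g) (by
      apply ModuleCat.hom_ext
      apply LinearMap.ext
      intro x
      exact hfg.apply_apply_eq_zero x))
    (ModuleCat.shortComplex_shortExact _ hfg hf hg) ‹_› ‹_› ‹_›
  exact hS.isZero_of_both_zeros (h1.eq_of_src _ _) (h3.eq_of_tgt _ _)

open CategoryTheory CategoryTheory.Limits in
theorem C_of_fg {B A : Type u} [CommRing B] [CommRing A] [IsNoetherianRing B]
    (T : ModuleCat.{u} B ⥤ ModuleCat.{u} A) [T.Additive]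
    (hex : ∀ S : ShortComplex (ModuleCat.{u} B), S.ShortExact → Module.Finite B S.X₁ →
      Module.Finite B S.X₂ → Module.Finite B S.X₃ → (S.map T).Exact)
    (I : Ideal B)
    (hI : ∀ q : Ideal B, q.IsPrime → I ≤ q → C T (B ⧸ q))
    (N : Type u) [AddCommGroup N] [Module B N] [hfin : Module.Finite B N] :
    I ≤ Module.annihilator B N → C T N := by
  induction hfin using IsNoetherianRing.induction_on_isQuotientEquivQuotientPrime B with
  | subsingleton N => intro _; exact C_of_subsingleton T N
  | quotient N p f =>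
    intro hN
    refine C_of_equiv T f.symm (hI p.1 p.2 ?_)
    rw [f.annihilator_eq, Ideal.annihilator_quotient] at hN
    exact hN
  | exact N₁ N₂ N₃ f g hf hg hfg h₁ h₃ =>
    intro hN
    exact C_of_exact T hex f g hf hg hfg (h₁ (hN.trans (f.annihilator_le_of_injective hf)))
      (h₃ (hN.trans (g.annihilator_le_of_surjective hg)))

theorem smul_id_injective {B : Type u} [CommRing B] (p : Ideal B) [p.IsPrime] (f : B) (hf : f ∉ p) :
    Function.Injective (f • (LinearMap.id : (B ⧸ p) →ₗ[B] (B ⧸ p))) := by
  intro x y hxy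
  have h1 : f • x = f • y := hxy
  rw [Algebra.smul_def, Algebra.smul_def] at h1
  refine mul_left_cancel₀ ?_ h1
  intro h0
  exact hf (Ideal.Quotient.eq_zero_iff_mem.1 h0)

theorem smul_id_exact {B : Type u} [CommRing B] (p : Ideal B) (f : B) :
    Function.Exact (f • (LinearMap.id : (B ⧸ p) →ₗ[B] (B ⧸ p)))
      (Ideal.Quotient.factorₐ B (le_sup_left : p ≤ p ⊔ Ideal.span {f})).toLinearMap := by
  intro x
  obtain ⟨a, rfl⟩ := Ideal.Quotient.mk_surjective x
  constructor
  · intro h
    have h' : Ideal.Quotient.mk (p ⊔ Ideal.span {f}) a = 0 := h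
    rw [Ideal.Quotient.eq_zero_iff_mem, Submodule.mem_sup] at h'
    obtain ⟨b, hb, c, hc, hbc⟩ := h'
    obtain ⟨d, rfl⟩ := Ideal.mem_span_singleton'.1 hc
    refine ⟨Ideal.Quotient.mk p d, ?_⟩
    show f • Ideal.Quotient.mk p d = Ideal.Quotient.mk p a
    rw [← hbc, map_add, Ideal.Quotient.eq_zero_iff_mem.2 hb, zero_add, Algebra.smul_def,
      mul_comm d f, map_mul]
    rfl
  · rintro ⟨y, hy⟩
    obtain ⟨d, rfl⟩ := Ideal.Quotient.mk_surjective y
    have hy' : f • Ideal.Quotient.mk p d = Ideal.Quotient.mk p a := hy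
    show Ideal.Quotient.factor (le_sup_left : p ≤ p ⊔ Ideal.span {f}) (Ideal.Quotient.mk p a) = 0
    rw [← hy', Algebra.smul_def, map_mul]
    have : Ideal.Quotient.factor (le_sup_left : p ≤ p ⊔ Ideal.span {f})
        (algebraMap B (B ⧸ p) f) = 0 := by
      show Ideal.Quotient.mk (p ⊔ Ideal.span {f}) f = 0
      rw [Ideal.Quotient.eq_zero_iff_mem]
      exact Ideal.mem_sup_right (Ideal.mem_span_singleton_self f)
    rw [this, zero_mul]

theorem factor_surjective {B : Type u} [CommRing B] (p : Ideal B) (f : B) :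
    Function.Surjective
      (Ideal.Quotient.factorₐ B (le_sup_left : p ≤ p ⊔ Ideal.span {f})).toLinearMap := by
  intro x
  obtain ⟨a, rfl⟩ := Ideal.Quotient.mk_surjective x
  exact ⟨Ideal.Quotient.mk p a, rfl⟩

open CategoryTheory CategoryTheory.Limits in
theorem prime_step {B A : Type u} [CommRing B] [CommRing A]
    [IsNoetherianRing B] [IsLocalRing B] [IsNoetherianRing A] [IsLocalRing A] [Algebra B A]
    [IsLocalHom (algebraMap B A)] (T : ModuleCat.{u} B ⥤ ModuleCat.{u} A) [T.Additive]
    (hlin : ∀ (N : ModuleCat.{u} B) (b : B),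
      T.map (ModuleCat.ofHom (b • (LinearMap.id : N →ₗ[B] N))) =
        ModuleCat.ofHom (algebraMap B A b • (LinearMap.id : T.obj N →ₗ[A] T.obj N)))
    (hfin : ∀ N : ModuleCat.{u} B, Module.Finite B N → Module.Finite A (T.obj N))
    (hex : ∀ S : ShortComplex (ModuleCat.{u} B), S.ShortExact → Module.Finite B S.X₁ →
      Module.Finite B S.X₂ → Module.Finite B S.X₃ → (S.map T).Exact)
    (h0 : C T (B ⧸ IsLocalRing.maximalIdeal B))
    (p : Ideal B) [hp : p.IsPrime]
    (IH : ∀ q : Ideal B, p < q → q.IsPrime → C T (B ⧸ q)) : C T (B ⧸ p) := by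
  by_cases hpm : p = IsLocalRing.maximalIdeal B
  · subst hpm; exact h0
  obtain ⟨f, hfm, hfp⟩ : ∃ f, f ∈ IsLocalRing.maximalIdeal B ∧ f ∉ p := by
    by_contra hcon
    exact hpm (le_antisymm (IsLocalRing.le_maximalIdeal hp.ne_top)
      (fun x hx => by_contra (fun hxp => hcon ⟨x, hx, hxp⟩)))
  have hQ : C T (B ⧸ (p ⊔ Ideal.span {f})) :=
    C_of_fg T hex (p ⊔ Ideal.span {f}) (fun q hq hle => IH q
      (lt_of_le_of_ne (le_sup_left.trans hle) (fun hpq => hfp (by
        rw [hpq]
        exact hle (Ideal.mem_sup_right (Ideal.mem_span_singleton_self f))))) hq) _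
      (by rw [Ideal.annihilator_quotient])
  have hS := hex (ShortComplex.mk (ModuleCat.ofHom (f • (LinearMap.id : (B ⧸ p) →ₗ[B] (B ⧸ p))))
      (ModuleCat.ofHom (Ideal.Quotient.factorₐ B (le_sup_left : p ≤ p ⊔ Ideal.span {f})).toLinearMap)
      (by
        apply ModuleCat.hom_ext
        apply LinearMap.ext
        intro x
        exact (smul_id_exact p f).apply_apply_eq_zero x))
      (ModuleCat.shortComplex_shortExact _ (smul_id_exact p f) (smul_id_injective p f hfp)
        (factor_surjective p f)) inferInstance inferInstance inferInstance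
  have hepi : Epi (T.map (ModuleCat.ofHom (f • (LinearMap.id : (B ⧸ p) →ₗ[B] (B ⧸ p))))) :=
    hS.epi_f (hQ.eq_of_tgt _ _)
  rw [hlin (ModuleCat.of B (B ⧸ p)) f, ModuleCat.epi_iff_surjective] at hepi
  haveI : Module.Finite A (T.obj (ModuleCat.of B (B ⧸ p))) :=
    hfin (ModuleCat.of B (B ⧸ p)) inferInstance
  have hfA : algebraMap B A f ∈ IsLocalRing.maximalIdeal A := by
    rw [IsLocalRing.mem_maximalIdeal, mem_nonunits_iff] at hfm ⊢
    intro hu
    exact hfm (isUnit_of_map_unit (algebraMap B A) f hu)
  have htop : (⊤ : Submodule A (T.obj (ModuleCat.of B (B ⧸ p)))) ≤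
      IsLocalRing.maximalIdeal A • ⊤ := by
    intro y _
    obtain ⟨z, hz⟩ := hepi y
    have hz' : algebraMap B A f • z = y := hz
    rw [← hz']
    exact Submodule.smul_mem_smul hfA trivial
  have hbot : (⊤ : Submodule A (T.obj (ModuleCat.of B (B ⧸ p)))) = ⊥ :=
    Submodule.eq_bot_of_le_smul_of_le_jacobson_bot _ _ (Module.Finite.fg_top) htop
      (IsLocalRing.maximalIdeal_le_jacobson _)
  show IsZero (T.obj (ModuleCat.of B (B ⧸ p)))
  rw [ModuleCat.isZero_iff_subsingleton]
  exact (Submodule.subsingleton_iff A).1 (subsingleton_of_bot_eq_top hbot.symm)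

/-- Let B → A be a local homomorphism of Noetherian local rings, n the maximal ideal of B, and T an
additive functor from B-modules to A-modules which is B-linear (T applied to multiplication by b ∈ B
is multiplication by the image of b in A), carries finitely generated B-modules to finitely
generated A-modules, and is half-exact on finitely generated modules (every short exact sequence of
finitely generated B-modules goes to a sequence exact at its middle term). If T(B/n) = 0 then T(N) =
0 for every finitely generated B-module N. (The published statement takes T defined on finitely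
generated modules only; here T is defined on all B-modules while every hypothesis and the conclusion
concern finitely generated modules.) -/
theorem result {B A : Type u} [CommRing B] [CommRing A]
    [IsNoetherianRing B] [IsLocalRing B] [IsNoetherianRing A] [IsLocalRing A] [Algebra B A]
    [IsLocalHom (algebraMap B A)] (T : ModuleCat.{u} B ⥤ ModuleCat.{u} A) [T.Additive]
    (hlin : ∀ (N : ModuleCat.{u} B) (b : B),
      T.map (ModuleCat.ofHom (b • (LinearMap.id : N →ₗ[B] N))) =
        ModuleCat.ofHom (algebraMap B A b • (LinearMap.id : T.obj N →ₗ[A] T.obj N)))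
    (hfin : ∀ N : ModuleCat.{u} B, Module.Finite B N → Module.Finite A (T.obj N))
    (hex : ∀ S : ShortComplex (ModuleCat.{u} B), S.ShortExact → Module.Finite B S.X₁ →
      Module.Finite B S.X₂ → Module.Finite B S.X₃ → (S.map T).Exact)
    (h0 : Limits.IsZero (T.obj (ModuleCat.of B (B ⧸ IsLocalRing.maximalIdeal B))))
    (N : ModuleCat.{u} B) [Module.Finite B N] : Limits.IsZero (T.obj N) := by
  have hprime : ∀ p : Ideal B, p.IsPrime → Groth.Agent.S14418.C T (B ⧸ p) := by
    intro p
    induction p using WellFoundedGT.induction with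
    | ind p IH =>
      intro hp
      exact Groth.Agent.S14418.prime_step T hlin hfin hex h0 p (fun q hpq hq => IH q hpq hq)
  exact Groth.Agent.S14418.C_of_fg T hex ⊥ (fun q hq _ => hprime q hq) N bot_le

end Groth.Agent.S14418
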