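import Groth.Statements.S14421
import Mathlib

set_option autoImplicit false
universe u v
open CategoryTheory
open HomAlg

namespace Groth.Agent.S14421

open ComposableArrows in
theorem result {R : Type u} [Ring R]
    (K J : CochainComplex (ModuleCat.{v} R) ℤ) (φ : K ⟶ J) (p : ℤ) [Epi (φ.f (p - 1))] :
    Epi (HomologicalComplex.homologyMap φ p) ↔ Epi (HomologicalComplex.cyclesMap φ p) := by
  constructor
  · intro h
    have hprev : (ComplexShape.up ℤ).prev p = p - 1 := by simp
    have hnat : K.toCycles (p - 1) p ≫ HomologicalComplex.cyclesMap φ p =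
        φ.f (p - 1) ≫ J.toCycles (p - 1) p := by
      rw [← cancel_mono (J.iCycles p)]
      simp
    let S₁ : ShortComplex (ModuleCat.{v} R) :=
      ShortComplex.mk (K.toCycles (p - 1) p) (K.homologyπ p) (K.toCycles_comp_homologyπ _ _)
    let S₂ : ShortComplex (ModuleCat.{v} R) :=
      ShortComplex.mk (J.toCycles (p - 1) p) (J.homologyπ p) (J.toCycles_comp_homologyπ _ _)
    have hS₂ : S₂.Exact := ShortComplex.exact_of_g_is_cokernel _ (J.homologyIsCokernel (p - 1) p hprev)
    let ψ : S₁.toComposableArrows ⟶ S₂.toComposableArrows :=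
      homMk₂ (φ.f (p - 1)) (HomologicalComplex.cyclesMap φ p) (HomologicalComplex.homologyMap φ p)
        hnat (HomologicalComplex.homologyπ_naturality φ p)
    have h1 : Epi (S₁.toComposableArrows.map' 1 2) := by
      change Epi (K.homologyπ p)
      infer_instance
    have h2 : Epi (app' ψ 0) := by
      change Epi (φ.f (p - 1))
      infer_instance
    have h3 : Epi (app' ψ 2) := by
      change Epi (HomologicalComplex.homologyMap φ p)
      infer_instance
    have := Abelian.epi_of_epi_of_epi_of_epi ψ hS₂.exact_toComposableArrows h1 h2 h3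
    exact this
  · intro h
    have h1 : Epi (HomologicalComplex.cyclesMap φ p ≫ J.homologyπ p) := epi_comp _ _
    rw [← HomologicalComplex.homologyπ_naturality] at h1
    exact epi_of_epi (K.homologyπ p) _

end Groth.Agent.S14421
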