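import Groth.Statements.S14424
import Groth.Agent.H28.DepthLoc
import Groth.Agent.H29.DepthMore
import Mathlib

set_option autoImplicit false
universe u
open LocCoh

namespace Groth.Agent.S14424

open RingTheory.Sequence Groth.Agent.H29 Groth.Agent.H28

section
variable {R : Type u} [CommRing R] [IsNoetherianRing R]

/-- `R_p` as a localized module. -/
noncomputable def locSelfEquiv (p : Ideal R) [p.IsPrime] :
    LocalizedModule p.primeCompl R ≃ₗ[Localization.AtPrime p] Localization.AtPrime p :=
  (IsLocalizedModule.isBaseChange p.primeCompl (Localization.AtPrime p)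
    (LocalizedModule.mkLinearMap p.primeCompl R)).equiv.symm ≪≫ₗ
  (IsBaseChange.linearMap R (Localization.AtPrime p)).equiv

omit [IsNoetherianRing R] in
theorem depth_loc_self (p : Ideal R) [p.IsPrime] :
    LocCoh.depth (Localization.AtPrime p) (LocalizedModule p.primeCompl R) =
      LocCoh.depth (Localization.AtPrime p) (Localization.AtPrime p) :=
  idealDepth_congr _ (locSelfEquiv p)

omit [IsNoetherianRing R] in
theorem supportDim_loc (p : Ideal R) [p.IsPrime] :
    Module.supportDim (Localization.AtPrime p) (Localization.AtPrime p) =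
      ((p.height : ℕ∞) : WithBot ℕ∞) := by
  rw [Module.supportDim_self_eq_ringKrullDim,
    IsLocalization.AtPrime.ringKrullDim_eq_height p (Localization.AtPrime p)]

omit [IsNoetherianRing R] in
/-- a regular sequence in `p` has length at most `depth R_p`. -/
theorem le_depth_loc (p : Ideal R) [p.IsPrime] (a : Ideal R) (hap : a ≤ p) (n : ℕ)
    (hn : (n : ℕ∞) ≤ LocCoh.idealDepth a R) :
    (n : ℕ∞) ≤ LocCoh.depth (Localization.AtPrime p) (Localization.AtPrime p) := by
  have ha : a • (⊤ : Submodule R R) ≠ ⊤ := by
    intro h
    rw [smul_eq_mul, Ideal.mul_top] at h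
    exact (Ideal.IsPrime.ne_top inferInstance) (top_le_iff.mp (h ▸ hap))
  obtain ⟨xs, hlen, hreg, hmem⟩ := (le_idealDepth_iff a R ha n).mp hn
  have hnt : Nontrivial (LocalizedModule p.primeCompl R) :=
    (locSelfEquiv p).toEquiv.nontrivial
  have hsupp : (⟨p, inferInstance⟩ : PrimeSpectrum R) ∈ Module.support R R :=
    Module.mem_support_iff.mpr hnt
  have := le_depth_localizedModule R R ⟨p, inferInstance⟩ hsupp xs (fun x hx => hap (hmem x hx)) hreg
  rw [hlen] at this
  rw [← depth_loc_self]
  exact this

/-- `depth(a, R) ≤ ht a` in a Noetherian ring. -/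
theorem idealDepth_le_height (a : Ideal R) (ha : a ≠ ⊤) :
    LocCoh.idealDepth a R ≤ a.height := by
  have hfin : a.height ≠ ⊤ := Ideal.height_ne_top ha
  obtain ⟨m, hm⟩ := ENat.ne_top_iff_exists.mp hfin
  obtain ⟨p, hp, hap, hpm⟩ := Ideal.exists_isPrime_height_eq hm.symm
  refine ENat.forall_natCast_le_iff_le.mp (fun n hn => ?_)
  have h1 := le_depth_loc p a hap n hn
  have h2 := depth_le_supportDim (Localization.AtPrime p) (Localization.AtPrime p)
  rw [supportDim_loc, WithBot.coe_le_coe] at h2
  rw [← hm, ← hpm]
  exact h1.trans h2

end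

/-- Let R be a Noetherian ring. Then R is Cohen–Macaulay (every localization at a prime ideal is a
Cohen–Macaulay local ring) if and only if for every proper ideal a of R the a-depth of R equals the
height (codimension) of a. (The published statement defines a Cohen–Macaulay ring by its
localizations at maximal ideals; this row uses all prime ideals, an equivalent definition because
Cohen–Macaulayness passes to localizations.) -/
theorem result (R : Type u) [CommRing R] [IsNoetherianRing R] :
    LocCoh.IsCohenMacaulayRing R ↔ ∀ a : Ideal R, a ≠ ⊤ → LocCoh.idealDepth a R = a.height := by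
  constructor
  · intro hCM a ha
    apply le_antisymm (idealDepth_le_height a ha)
    have haM : a • (⊤ : Submodule R R) ≠ ⊤ := by
      intro h
      rw [smul_eq_mul, Ideal.mul_top] at h
      exact ha h
    by_cases htop : LocCoh.idealDepth a R = ⊤
    · rw [htop]; exact le_top
    obtain ⟨n, hn⟩ := ENat.ne_top_iff_exists.mp htop
    obtain ⟨p, hp, hap, hle⟩ := exists_prime_depth_le R n R a haM hn.symm
    have hcm := hCM.isCohenMacaulayLocalRing_localization p
    have h1 := hcm.supportDim_eq_depth
    rw [supportDim_loc, WithBot.coe_inj] at h1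
    rw [depth_loc_self, ← h1] at hle
    rw [← hn]
    exact (Ideal.height_mono hap).trans hle
  · intro h
    refine ⟨fun p hp => ?_⟩
    refine { supportDim_eq_depth := ?_ }
    rw [supportDim_loc, WithBot.coe_inj]
    apply le_antisymm
    · rw [← h p hp.ne_top]
      exact ENat.forall_natCast_le_iff_le.mp (fun n hn => le_depth_loc p p le_rfl n hn)
    · have h2 := depth_le_supportDim (Localization.AtPrime p) (Localization.AtPrime p)
      rw [supportDim_loc, WithBot.coe_le_coe] at h2
      exact h2

end Groth.Agent.S14424
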