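import Groth.Statements.S14425
import Groth.Agent.H28.Davis
import Groth.Agent.H29.DepthMore
import Mathlib

set_option autoImplicit false
universe u
open LocCoh

namespace Groth.Agent.S14425

open RingTheory.Sequence Groth.Agent.H29 Groth.Agent.H28
open scoped Pointwise

section
variable {R : Type u} [CommRing R] [IsNoetherianRing R] [IsLocalRing R]

omit [IsNoetherianRing R] [IsLocalRing R] in
theorem smul_top_le (M : Type u) [AddCommGroup M] [Module R M] (y : R) (I : Ideal R) (hy : y ∈ I) :
    (y • ⊤ : Submodule R M) ≤ I • ⊤ := by
  rw [← Submodule.ideal_span_singleton_smul]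
  exact Submodule.smul_mono_left ((Ideal.span_singleton_le_iff_mem _).mpr hy)

omit [IsNoetherianRing R] in
theorem nontrivial_quotSMulTop (M : Type u) [AddCommGroup M] [Module R M] [Module.Finite R M]
    [Nontrivial M] (y : R) (hy : y ∈ IsLocalRing.maximalIdeal R) : Nontrivial (QuotSMulTop y M) := by
  have h1 := smul_top_le M y _ hy
  have h2 : (y • ⊤ : Submodule R M) ≠ ⊤ := by
    intro h
    rw [h] at h1
    exact maximalIdeal_smul_top_ne_top R M (top_le_iff.mp h1)
  exact Submodule.Quotient.nontrivial_iff.mpr h2

omit [IsNoetherianRing R] in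
theorem smul_top_ne_top_of_le (M : Type u) [AddCommGroup M] [Module R M] [Module.Finite R M]
    [Nontrivial M] (a : Ideal R) (ha : a ≤ IsLocalRing.maximalIdeal R) :
    a • (⊤ : Submodule R M) ≠ ⊤ := by
  intro h
  have h1 : a • (⊤ : Submodule R M) ≤ IsLocalRing.maximalIdeal R • ⊤ := Submodule.smul_mono_left ha
  rw [h] at h1
  exact maximalIdeal_smul_top_ne_top R M (top_le_iff.mp h1)

theorem key : ∀ (xs : List R) (M : Type u) [AddCommGroup M] [Module R M] [Module.Finite R M]
    [Nontrivial M] (a : Ideal R), (∀ x ∈ xs, x ∈ IsLocalRing.maximalIdeal R) →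
    Ideal.ofList xs ≤ a → a ≤ IsLocalRing.maximalIdeal R →
    a ≤ Ideal.ofList xs ⊔ Module.annihilator R M →
    (xs.length : ℕ∞) ≤ LocCoh.idealDepth a M → IsWeaklyRegular M xs := by
  intro xs
  induction xs with
  | nil => intro M _ _ _ _ a _ _ _ _ _; exact IsWeaklyRegular.nil R M
  | cons x xs ih =>
    intro M _ _ _ _ a hmem hle ham hann hdepth
    classical
    have haM : a • (⊤ : Submodule R M) ≠ ⊤ := smul_top_ne_top_of_le M a ham
    have hxm : x ∈ IsLocalRing.maximalIdeal R := hmem x List.mem_cons_self
    have hxsm : ∀ z ∈ xs, z ∈ IsLocalRing.maximalIdeal R :=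
      fun z hz => hmem z (List.mem_cons_of_mem _ hz)
    have hJm : Ideal.ofList xs ≤ IsLocalRing.maximalIdeal R := Ideal.span_le.mpr hxsm
    -- a regular element of `a`
    obtain ⟨rs, hlen, hreg, hrs⟩ := (le_idealDepth_iff a M haM (xs.length + 1)).mp
      (by simpa using hdepth)
    obtain ⟨r, rs', rfl⟩ : ∃ r rs', rs = r :: rs' := by
      cases rs with
      | nil => simp at hlen
      | cons r rs' => exact ⟨r, rs', rfl⟩
    have hr : IsSMulRegular M r := ((isWeaklyRegular_cons_iff M r rs').mp hreg).1
    have hra : r ∈ a := hrs r List.mem_cons_self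
    -- Davis
    have hnot : ¬ (((Ideal.span {x} ⊔ Ideal.ofList xs : Ideal R) : Set R) ⊆
        ⋃ p ∈ (((associatedPrimes.finite R M).toFinset : Finset (Ideal R)) : Set (Ideal R)),
          (p : Set R)) := by
      intro hsub
      rw [Ideal.subset_union_prime (R := R) (f := fun p : Ideal R => p) ⊥ ⊥] at hsub
      · obtain ⟨p, hp, hple⟩ := hsub
        have hp' : p ∈ associatedPrimes R M := by simpa using hp
        have h1 : a ≤ p := by
          refine hann.trans (sup_le ?_ (annihilator_le_of_mem_associatedPrimes R M p hp'))
          rw [Ideal.ofList_cons]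
          exact hple
        exact not_mem_of_isSMulRegular_of_mem_associatedPrimes R M p hp' r hr (h1 hra)
      · intro p hp _ _
        have hp' : p ∈ associatedPrimes R M := by simpa using hp
        exact hp'.isPrime
    obtain ⟨j, hj, hy⟩ := davis _ (fun p hp => by
      have hp' : p ∈ associatedPrimes R M := by simpa using hp
      exact hp'.isPrime) x (Ideal.ofList xs) hnot
    set y := x + j with hydef
    have hyreg : IsSMulRegular M y := by
      by_contra hcon
      have : y ∈ {r : R | IsSMulRegular M r}ᶜ := hcon
      rw [← biUnion_associatedPrimes_eq_compl_regular] at this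
      obtain ⟨p, hp, hyp⟩ := Set.mem_iUnion₂.mp this
      exact hy p (by simpa using hp) hyp
    have hym : y ∈ IsLocalRing.maximalIdeal R :=
      (IsLocalRing.maximalIdeal R).add_mem hxm (hJm hj)
    have hya : y ∈ a := by
      apply hle
      rw [Ideal.ofList_cons]
      exact Ideal.add_mem _ (Ideal.mem_sup_left (Ideal.mem_span_singleton_self x))
        (Ideal.mem_sup_right hj)
    have : Nontrivial (QuotSMulTop y M) := nontrivial_quotSMulTop M y hym
    have h2 := idealDepth_quotSMulTop_add_one a M haM y hya hyreg
    have hdepthN : (xs.length : ℕ∞) ≤ LocCoh.idealDepth a (QuotSMulTop y M) := by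
      rw [← h2, List.length_cons, Nat.cast_add, Nat.cast_one,
        ENat.add_le_add_iff_right ENat.one_ne_top] at hdepth
      exact hdepth
    have hannN : a ≤ Ideal.ofList xs ⊔ Module.annihilator R (QuotSMulTop y M) := by
      refine hann.trans (sup_le ?_ ?_)
      · rw [Ideal.ofList_cons]
        refine sup_le ?_ le_sup_left
        rw [Ideal.span_singleton_le_iff_mem]
        have hx : x = y - j := by rw [hydef]; ring
        rw [hx]
        refine Ideal.sub_mem _ (Ideal.mem_sup_right ?_) (Ideal.mem_sup_left hj)
        rw [Module.mem_annihilator]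
        intro n
        induction n using Submodule.Quotient.induction_on with
        | H m =>
          rw [← Submodule.Quotient.mk_smul, Submodule.Quotient.mk_eq_zero]
          exact Submodule.smul_mem_pointwise_smul m y ⊤ trivial
      · exact le_sup_of_le_right
          (LinearMap.annihilator_le_of_surjective (R := R) _ (Submodule.mkQ_surjective _))
    have hN : IsWeaklyRegular (QuotSMulTop y M) xs :=
      ih (QuotSMulTop y M) a hxsm ((Ideal.span_mono (fun z hz => List.mem_cons_of_mem _ hz)).trans hle)
        ham hannN hdepthN
    have h3 : IsWeaklyRegular M (y :: xs) := (isWeaklyRegular_cons_iff M y xs).mpr ⟨hyreg, hN⟩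
    have h4 : IsWeaklyRegular M (xs ++ [y]) :=
      IsLocalRing.isWeaklyRegular_of_perm_of_subset_maximalIdeal h3
        (List.perm_append_singleton y xs).symm (by
          intro z hz
          rcases List.mem_cons.mp hz with rfl | hz
          · exact hym
          · exact hxsm z hz)
    rw [isWeaklyRegular_append_iff, isWeaklyRegular_singleton_iff] at h4
    have h5 : IsSMulRegular (M ⧸ (Ideal.ofList xs • ⊤ : Submodule R M)) x := by
      have hfun : (fun p : M ⧸ (Ideal.ofList xs • ⊤ : Submodule R M) => x • p) =
          fun p => y • p := by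
        funext p
        induction p using Submodule.Quotient.induction_on with
        | H m =>
          rw [hydef, add_smul]
          have : j • (Submodule.Quotient.mk m : M ⧸ (Ideal.ofList xs • ⊤ : Submodule R M)) = 0 := by
            rw [← Submodule.Quotient.mk_smul, Submodule.Quotient.mk_eq_zero]
            exact Submodule.smul_mem_smul hj trivial
          rw [this, add_zero]
      show Function.Injective _
      rw [hfun]
      exact h4.2
    have h6 : IsWeaklyRegular M (xs ++ [x]) := by
      rw [isWeaklyRegular_append_iff, isWeaklyRegular_singleton_iff]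
      exact ⟨h4.1, h5⟩
    exact IsLocalRing.isWeaklyRegular_of_perm_of_subset_maximalIdeal h6
      (List.perm_append_singleton x xs) (by
        intro z hz
        rcases List.mem_append.mp hz with hz | hz
        · exact hxsm z hz
        · rw [List.mem_singleton] at hz; rw [hz]; exact hxm)

end

/-- Let (R, m) be a Noetherian local ring, M a nonzero finitely generated R-module and x_1, …, x_n
elements of m generating the ideal a. Then depth(a, M) = n if and only if x_1, …, x_n is an
M-regular sequence (each x_i a non-zero-divisor on M/(x_1, …, x_{i-1})M; the condition (x)M ≠ M is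
automatic here). -/
theorem result {R : Type u} [CommRing R] [IsNoetherianRing R] [IsLocalRing R]
    {M : Type u} [AddCommGroup M] [Module R M] [Module.Finite R M] [Nontrivial M]
    (xs : List R) (hxs : ∀ x ∈ xs, x ∈ IsLocalRing.maximalIdeal R) :
    LocCoh.idealDepth (Ideal.span {x | x ∈ xs}) M = xs.length ↔ RingTheory.Sequence.IsWeaklyRegular M xs := by
  have hm : Ideal.ofList xs ≤ IsLocalRing.maximalIdeal R := Ideal.span_le.mpr hxs
  have haM : Ideal.ofList xs • (⊤ : Submodule R M) ≠ ⊤ := smul_top_ne_top_of_le M _ hm
  constructor
  · intro h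
    exact key xs M (Ideal.ofList xs) hxs le_rfl hm le_sup_left h.ge
  · intro hreg
    have h1 := idealDepth_quotient_ofList_add_length (Ideal.ofList xs) xs M haM
      (fun x hx => Ideal.subset_span hx) hreg
    have h0 : LocCoh.idealDepth (Ideal.ofList xs)
        (M ⧸ Ideal.ofList xs • (⊤ : Submodule R M)) = 0 := by
      have hnt : Nontrivial (M ⧸ Ideal.ofList xs • (⊤ : Submodule R M)) :=
        Submodule.Quotient.nontrivial_iff.mpr haM
      have hne : Ideal.ofList xs • (⊤ : Submodule R (M ⧸ Ideal.ofList xs • (⊤ : Submodule R M))) ≠ ⊤ :=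
        smul_top_ne_top_of_le _ _ hm
      rw [idealDepth_eq_zero_iff _ _ hne]
      intro x hx hxreg
      obtain ⟨n, hn⟩ := exists_ne (0 : M ⧸ Ideal.ofList xs • (⊤ : Submodule R M))
      apply hn
      apply hxreg
      induction n using Submodule.Quotient.induction_on with
      | H m =>
        show x • (Submodule.Quotient.mk m : M ⧸ Ideal.ofList xs • (⊤ : Submodule R M)) = x • 0
        rw [smul_zero, ← Submodule.Quotient.mk_smul, Submodule.Quotient.mk_eq_zero]
        exact Submodule.smul_mem_smul hx trivial
    rw [h0, zero_add] at h1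
    exact h1.symm

end Groth.Agent.S14425
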