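import Groth.Statements.S14433
import Groth.Agent.H28.KoszulHomotopy

set_option autoImplicit false
universe u
open Koszul3

namespace Groth.Agent.S14433

open CategoryTheory CategoryTheory.Limits Groth.Agent.H28.KoszulHomotopy

/-- the elements acting null-homotopically on a complex form an ideal -/
lemma nullHomotopic_ideal {R : Type u} [CommRing R] (X : CochainComplex (ModuleCat.{u} R) ℤ)
    (s : Set R) (hs : ∀ x ∈ s, Nonempty (Homotopy (x • 𝟙 X) 0)) (a : R)
    (ha : a ∈ Ideal.span s) : Nonempty (Homotopy (a • 𝟙 X) 0) := by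
  induction ha using Submodule.span_induction with
  | mem x hx => exact hs x hx
  | zero => exact ⟨Homotopy.ofEq (zero_smul _ _)⟩
  | add x y _ _ hx hy =>
    obtain ⟨hx⟩ := hx
    obtain ⟨hy⟩ := hy
    exact ⟨(Homotopy.ofEq (add_smul x y (𝟙 X))).trans
      ((hx.add hy).trans (Homotopy.ofEq (add_zero 0)))⟩
  | smul r x _ hx =>
    obtain ⟨hx⟩ := hx
    exact ⟨(Homotopy.ofEq (by rw [smul_eq_mul, mul_smul])).trans
      ((hx.smul r).trans (Homotopy.ofEq (smul_zero r)))⟩

lemma koszul_mem {R : Type u} [CommRing R] (M : ModuleCat.{u} R) :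
    ∀ (xs : List R) (x : R), x ∈ xs → Nonempty (Homotopy (x • 𝟙 (CohIII.koszulCx M xs)) 0)
  | [], x, hx => by simp at hx
  | f :: fs, x, hx => by
    rw [List.mem_cons] at hx
    by_cases hxf : x = f
    · subst hxf
      exact ⟨homotopySelf (CohIII.koszulCx M fs) x⟩
    · obtain ⟨h⟩ := koszul_mem M fs x (hx.resolve_left hxf)
      exact ⟨homotopyCone (CohIII.koszulCx M fs) f x h⟩

theorem result {R : Type u} [CommRing R] (M : Type u) [AddCommGroup M] [Module R M]
    (xs : List R) (a : R) (ha : a ∈ Ideal.span {x | x ∈ xs}) :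
    Nonempty (Homotopy (a • 𝟙 (CohIII.koszulCx (ModuleCat.of R M) xs)) 0) :=
  nullHomotopic_ideal _ _ (fun x hx => koszul_mem _ xs x hx) a ha

end Groth.Agent.S14433
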