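import Groth.Statements.S14426
import Mathlib
import Groth.Agent.S2423
import Groth.Agent.S14433
import Groth.Agent.S11917
import Groth.Agent.S11610
import Groth.Agent.H19.KosMod
-- import your own Groth.Agent.* helpers here

set_option autoImplicit false
universe u
open Koszul3

namespace Groth.Agent.S14426

open CategoryTheory CategoryTheory.Limits CochainComplex HomologicalComplex
open scoped Pointwise

section Main

variable {R : Type u} [CommRing R]

noncomputable abbrev KK (xs : List R) (N : Type u) [AddCommGroup N] [Module R N] :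
    CochainComplex (ModuleCat.{u} R) ℤ := CohIII.koszulCx (ModuleCat.of R N) xs

noncomputable abbrev hh (xs : List R) (N : Type u) [AddCommGroup N] [Module R N] (i : ℤ) :
    ModuleCat.{u} R := (KK xs N).homology i

theorem isZero_X (M : ModuleCat.{u} R) : ∀ (xs : List R) (i : ℤ),
    (0 < i ∨ i < -(xs.length : ℤ)) → IsZero ((CohIII.koszulCx M xs).X i)
  | [], i, h => by
      have hi : i ≠ 0 := by
        rcases h with h | h
        · omega
        · simp at h
          omega
      exact HomologicalComplex.isZero_single_obj_X _ _ _ _ hi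
  | f :: fs, i, h => by
      show IsZero ((mappingCone (f • 𝟙 (CohIII.koszulCx M fs))).X i)
      rw [mappingCone.isZero_X_iff]
      have hl : ((f :: fs).length : ℤ) = (fs.length : ℤ) + 1 := by simp
      rw [hl] at h
      exact ⟨isZero_X M fs (i+1) (by omega), isZero_X M fs i (by omega)⟩

theorem isZero_hh_of (xs : List R) (N : Type u) [AddCommGroup N] [Module R N] (i : ℤ)
    (h : 0 < i ∨ i < -(xs.length : ℤ)) : IsZero (hh xs N i) :=
  ShortComplex.isZero_homology_of_isZero_X₂ _ (isZero_X _ xs i h)

theorem ses_facts (xs : List R) (N : Type u) [AddCommGroup N] [Module R N] (y : R)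
    (hy : y ∈ Ideal.span {x | x ∈ xs}) (hreg : IsSMulRegular N y) :
    (∀ i j : ℤ, i + 1 = j → IsZero (hh xs (QuotSMulTop y N) i) → IsZero (hh xs N j)) ∧
    (∀ i j : ℤ, i + 1 = j → IsZero (hh xs N i) → IsZero (hh xs N j) →
      IsZero (hh xs (QuotSMulTop y N) i)) := by
  let π : ModuleCat.of R N ⟶ ModuleCat.of R (QuotSMulTop y N) :=
    ModuleCat.ofHom (Submodule.mkQ (y • (⊤ : Submodule R N)))
  have hπ : S2423.P y π := by
    refine ⟨Submodule.mkQ_surjective _, ?_, ?_⟩
    · intro x
      show Submodule.Quotient.mk x = 0 ↔ _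
      rw [Submodule.Quotient.mk_eq_zero, Submodule.mem_smul_pointwise_iff_exists]
      constructor
      · rintro ⟨z, -, hz⟩
        exact ⟨z, hz.symm⟩
      · rintro ⟨z, hz⟩
        exact ⟨z, Submodule.mem_top, hz.symm⟩
    · intro x hx
      exact hreg.right_eq_zero_of_smul hx
  have hP := S2423.kmap_P y π hπ xs
  have w : (y • 𝟙 (CohIII.koszulCx (ModuleCat.of R N) xs)) ≫ S2423.kmap π xs = 0 := by
    ext n : 1
    apply ModuleCat.hom_ext
    apply LinearMap.ext
    intro x
    have h5 := ((hP n).2.1 (y • x)).mpr ⟨x, rfl⟩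
    exact h5
  let T : ShortComplex (CochainComplex (ModuleCat.{u} R) ℤ) :=
    ShortComplex.mk (y • 𝟙 (CohIII.koszulCx (ModuleCat.of R N) xs)) (S2423.kmap π xs) w
  have hT : T.ShortExact := by
    apply HomologicalComplex.shortExact_of_degreewise_shortExact
    intro n
    exact S2423.shortExact_of_P y ((S2423.kmap π xs).f n) (hP n) (HomologicalComplex.congr_hom w n)
  obtain ⟨H⟩ := S14433.result N xs y hy
  have hf0 : ∀ j, HomologicalComplex.homologyMap T.f j = 0 := by
    intro j
    have := H.homologyMap_eq j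
    rw [HomologicalComplex.homologyMap_zero] at this
    exact this
  constructor
  · intro i j hij hz
    have E := hT.homology_exact₁ i j hij
    rw [ShortComplex.ShortExact.moduleCat_exact_iff_function_exact] at E
    haveI : Subsingleton (hh xs (QuotSMulTop y N) i) := ModuleCat.subsingleton_of_isZero hz
    have key : ∀ z : hh xs N j, z = 0 := by
      intro z
      have hz0 : (HomologicalComplex.homologyMap T.f j).hom z = 0 := by
        rw [hf0 j]
        rfl
      obtain ⟨w', hw'⟩ := (E z).1 hz0
      have hw0 : w' = 0 := Subsingleton.elim (α := hh xs (QuotSMulTop y N) i) _ _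
      rw [← hw', hw0]
      exact map_zero _
    haveI : Subsingleton (hh xs N j) := ⟨fun a b => by rw [key a, key b]⟩
    exact ModuleCat.isZero_of_subsingleton _
  · intro i j hij hzi hzj
    have E := hT.homology_exact₃ i j hij
    rw [ShortComplex.ShortExact.moduleCat_exact_iff_function_exact] at E
    haveI : Subsingleton (hh xs N i) := ModuleCat.subsingleton_of_isZero hzi
    haveI : Subsingleton (hh xs N j) := ModuleCat.subsingleton_of_isZero hzj
    have key : ∀ z : hh xs (QuotSMulTop y N) i, z = 0 := by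
      intro z
      obtain ⟨w', hw'⟩ := (E z).1 (Subsingleton.elim (α := hh xs N j) _ _)
      have hw0 : w' = 0 := Subsingleton.elim (α := hh xs N i) _ _
      rw [← hw', hw0]
      exact map_zero _
    haveI : Subsingleton (hh xs (QuotSMulTop y N) i) := ⟨fun a b => by rw [key a, key b]⟩
    exact ModuleCat.isZero_of_subsingleton _

def ZZ (xs : List R) (N : Type u) [AddCommGroup N] [Module R N] : Submodule R N where
  carrier := {m | ∀ x ∈ xs, x • m = 0}
  zero_mem' := fun x _ => smul_zero x
  add_mem' := fun {a b} ha hb x hx => by rw [smul_add, ha x hx, hb x hx, add_zero]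
  smul_mem' := fun c m hm x hx => by rw [smul_comm, hm x hx, smul_zero]

theorem bottom (N : Type u) [AddCommGroup N] [Module R N] : ∀ (xs : List R) (i : ℤ),
    i = -(xs.length : ℤ) → ∃ φ : ZZ xs N →ₗ[R] hh xs N i, Function.Injective φ
  | [], i, hi => by
      have hi0 : i = 0 := by simpa using hi
      subst hi0
      let e : hh [] N 0 ≃ₗ[R] N :=
        (HomologicalComplex.singleObjHomologySelfIso (ComplexShape.up ℤ) 0
          (ModuleCat.of R N)).toLinearEquiv
      exact ⟨e.symm.toLinearMap ∘ₗ (ZZ [] N).subtype,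
        e.symm.injective.comp (Submodule.injective_subtype _)⟩
  | f :: fs, i, hi => by
      show ∃ φ : ZZ (f :: fs) N →ₗ[R] (mappingCone (f • 𝟙 (KK fs N))).homology i,
        Function.Injective φ
      have hl : ((f :: fs).length : ℤ) = (fs.length : ℤ) + 1 := by simp
      obtain ⟨φl, hφl⟩ := bottom N fs (i+1) (by rw [hi, hl]; ring)
      obtain ⟨α, δ, h₁, h₂, h₃⟩ := Groth.Agent.H19.Kos.cone_les_mod (KK fs N) f i (i+1) rfl
      haveI : Subsingleton ((KK fs N).homology i) :=
        ModuleCat.subsingleton_of_isZero (isZero_hh_of fs N i (Or.inr (by rw [hi, hl]; omega)))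
      have hδinj : Function.Injective δ := by
        rw [← LinearMap.ker_eq_bot, LinearMap.exact_iff.1 h₂, eq_bot_iff]
        rintro _ ⟨z, rfl⟩
        rw [Subsingleton.elim z 0, map_zero]
        exact Submodule.zero_mem _
      let F := LinearMap.lsmul R ((KK fs N).homology (i+1)) f
      let δ' : (mappingCone (f • 𝟙 (KK fs N))).homology i →ₗ[R] LinearMap.ker F :=
        δ.codRestrict (LinearMap.ker F) (fun z => LinearMap.mem_ker.2 ((h₃ (δ z)).2 ⟨z, rfl⟩))
      have hδ'bij : Function.Bijective δ' := by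
        constructor
        · intro a b hab
          apply hδinj
          exact congrArg Subtype.val hab
        · rintro ⟨z, hz⟩
          obtain ⟨w, hw⟩ := (h₃ z).1 (LinearMap.mem_ker.1 hz)
          exact ⟨w, Subtype.ext hw⟩
      let e := LinearEquiv.ofBijective δ' hδ'bij
      have hle : ZZ (f :: fs) N ≤ ZZ fs N := fun m hm x hx => hm x (List.mem_cons_of_mem _ hx)
      let ψ : ZZ (f :: fs) N →ₗ[R] LinearMap.ker F :=
        (φl ∘ₗ Submodule.inclusion hle).codRestrict (LinearMap.ker F) (fun m => by
          rw [LinearMap.mem_ker]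
          show f • (φl (Submodule.inclusion hle m)) = 0
          rw [← map_smul]
          have h0 : f • (Submodule.inclusion hle m) = 0 := by
            apply Subtype.ext
            show f • (m : N) = 0
            exact m.2 f List.mem_cons_self
          rw [h0, map_zero])
      refine ⟨e.symm.toLinearMap ∘ₗ ψ, e.symm.injective.comp ?_⟩
      intro a b hab
      have h1 : φl (Submodule.inclusion hle a) = φl (Submodule.inclusion hle b) :=
        congrArg Subtype.val hab
      exact Submodule.inclusion_injective hle (hφl h1)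

theorem regseq (xs : List R) : ∀ (rs : List R) (N : Type u) [AddCommGroup N] [Module R N],
    RingTheory.Sequence.IsWeaklyRegular N rs → (∀ r ∈ rs, r ∈ Ideal.span {x | x ∈ xs}) →
    (∀ i : ℤ, i < (rs.length : ℤ) - xs.length → IsZero (hh xs N i)) ∧
    (IsZero (hh xs N ((rs.length : ℤ) - xs.length)) →
      ∀ m' : N ⧸ (Ideal.ofList rs • ⊤ : Submodule R N), (∀ x ∈ xs, x • m' = 0) → m' = 0) := by
  intro rs
  induction rs with
  | nil =>
    intro N _ _ _ _
    constructor
    · intro i hi
      exact isZero_hh_of xs N i (Or.inr (by simpa using hi))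
    · intro hz m' hm'
      obtain ⟨φ, hφ⟩ := bottom N xs ((([] : List R).length : ℤ) - xs.length) (by simp)
      haveI : Subsingleton (hh xs N ((([] : List R).length : ℤ) - xs.length)) :=
        ModuleCat.subsingleton_of_isZero hz
      obtain ⟨m, rfl⟩ := Submodule.Quotient.mk_surjective _ m'
      have hbot : (Ideal.ofList ([] : List R) • ⊤ : Submodule R N) = ⊥ := by
        rw [Ideal.ofList_nil, Submodule.bot_smul]
      have hm : m ∈ ZZ xs N := by
        intro x hx
        have := hm' x hx
        rw [← Submodule.Quotient.mk_smul, Submodule.Quotient.mk_eq_zero, hbot,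
          Submodule.mem_bot] at this
        exact this
      have h0 : (⟨m, hm⟩ : ZZ xs N) = 0 := hφ (Subsingleton.elim _ _)
      have hm0 : m = 0 := congrArg Subtype.val h0
      rw [hm0, Submodule.Quotient.mk_zero]
  | cons y rs' ih =>
    intro N _ _ hreg hmem
    rw [RingTheory.Sequence.isWeaklyRegular_cons_iff] at hreg
    obtain ⟨hy, hrs'⟩ := hreg
    have hya : y ∈ Ideal.span {x | x ∈ xs} := hmem y List.mem_cons_self
    obtain ⟨ih1, ih2⟩ := ih (QuotSMulTop y N) hrs'
      (fun r hr => hmem r (List.mem_cons_of_mem _ hr))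
    obtain ⟨sa, sb⟩ := ses_facts xs N y hya hy
    have hl : ((y :: rs').length : ℤ) = (rs'.length : ℤ) + 1 := by simp
    have p1 : ∀ i : ℤ, i < ((y :: rs').length : ℤ) - xs.length → IsZero (hh xs N i) := by
      intro i hi
      exact sa (i - 1) i (by ring) (ih1 (i - 1) (by rw [hl] at hi; omega))
    refine ⟨p1, ?_⟩
    intro hz m' hm'
    have hz0 : IsZero (hh xs N ((rs'.length : ℤ) - xs.length)) := p1 _ (by rw [hl]; omega)
    have hz1 : IsZero (hh xs N ((rs'.length : ℤ) - xs.length + 1)) := by
      have h7 : ((y :: rs').length : ℤ) - xs.length = (rs'.length : ℤ) - xs.length + 1 := by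
        rw [hl]; ring
      rw [← h7]
      exact hz
    have hzq := sb _ _ rfl hz0 hz1
    let e := Submodule.quotOfListConsSMulTopEquivQuotSMulTopInner N y rs'
    have h8 := ih2 hzq (e m') (fun x hx => by rw [← map_smul, hm' x hx, map_zero])
    exact e.injective (h8.trans (map_zero e).symm)

theorem exists_regular [IsNoetherianRing R] (xs : List R) (N : Type u) [AddCommGroup N]
    [Module R N] [Module.Finite R N]
    (hZ : ∀ m : N, (∀ x ∈ xs, x • m = 0) → m = 0) :
    ∃ y ∈ Ideal.span {x | x ∈ xs}, IsSMulRegular N y := by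
  have hx : ∀ x ∈ xs, x ∈ Ideal.span {x | x ∈ xs} := fun x hx => Ideal.subset_span hx
  have key : ∀ (k : ℕ) (m : N), (∀ b ∈ (Ideal.span {x | x ∈ xs}) ^ k, b • m = 0) → m = 0 := by
    intro k
    induction k with
    | zero =>
      intro m hm
      have := hm 1 (by simp)
      simpa using this
    | succ k ih =>
      intro m hm
      apply ih
      intro b hb
      apply hZ
      intro x hxx
      rw [smul_smul]
      apply hm
      rw [pow_succ']
      exact Ideal.mul_mem_mul (hx x hxx) hb
  have hmap : Ideal.map (algebraMap R R) (Ideal.span {x | x ∈ xs}) = Ideal.span {x | x ∈ xs} := by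
    simp
  have htors : DRing.torsionSub (Ideal.map (algebraMap R R) (Ideal.span {x | x ∈ xs})) N = ⊥ := by
    rw [eq_bot_iff]
    intro m hm
    obtain ⟨k, hk⟩ := hm
    rw [Submodule.mem_bot]
    rw [hmap] at hk
    exact key k m hk
  obtain ⟨r, hr, hreg⟩ := Groth.Agent.S11610.result R R (Ideal.span {x | x ∈ xs}) N htors
  exact ⟨r, hr, by simpa using hreg⟩

end Main


open CategoryTheory CategoryTheory.Limits in
/-- Let (R, m) be a Noetherian local ring, M a nonzero finitely generated R-module and x_1, …, x_n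
elements of m generating the ideal a. Then depth(a, M) ≤ n; the Koszul cohomology H^p(x; M) vanishes
for every p < depth(a, M); and H^r(x; M) is nonzero for r = depth(a, M). (Cohomological indexing
with H^n(x; M) = M/(x)M; in homological indexing this reads H_i = 0 for i > n − r and H_{n−r} ≠ 0.
Koszul complex realised by iterated mapping cones, as in the prelude.) -/
theorem result {R : Type u} [CommRing R] [IsNoetherianRing R] [IsLocalRing R]
    (M : Type u) [AddCommGroup M] [Module R M] [Module.Finite R M] [Nontrivial M]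
    (xs : List R) (hxs : ∀ x ∈ xs, x ∈ IsLocalRing.maximalIdeal R) :
    LocCoh.idealDepth (Ideal.span {x | x ∈ xs}) M ≤ xs.length ∧
      (∀ p : ℕ, (p : ℕ∞) < LocCoh.idealDepth (Ideal.span {x | x ∈ xs}) M → IsZero (CohIII.koszulH xs (ModuleCat.of R M) p)) ∧
      (∀ r : ℕ, LocCoh.idealDepth (Ideal.span {x | x ∈ xs}) M = r → ¬ IsZero (CohIII.koszulH xs (ModuleCat.of R M) r)) := by
  have ha_le : Ideal.span {x | x ∈ xs} ≤ IsLocalRing.maximalIdeal R :=
    Ideal.span_le.2 (fun x hx => hxs x hx)
  have hne : Ideal.span {x | x ∈ xs} • (⊤ : Submodule R M) ≠ ⊤ := by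
    intro h
    have hle : (⊤ : Submodule R M) ≤ Ideal.span {x | x ∈ xs} • ⊤ := h.ge
    have hjac : Ideal.span {x | x ∈ xs} ≤ Ideal.jacobson ⊥ :=
      ha_le.trans (IsLocalRing.maximalIdeal_le_jacobson _)
    have := Submodule.eq_bot_of_le_smul_of_le_jacobson_bot _ ⊤ Module.Finite.fg_top hle hjac
    exact top_ne_bot this
  have hH0 : ¬ IsZero (hh xs M ((xs.length : ℤ) - xs.length)) := by
    intro hz
    obtain ⟨e⟩ := Groth.Agent.S11917.result xs M
    haveI : Subsingleton (CohIII.koszulH xs (ModuleCat.of R M) xs.length) :=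
      ModuleCat.subsingleton_of_isZero hz
    haveI : Subsingleton (M ⧸ (Ideal.ofList xs • (⊤ : Submodule R M))) :=
      e.symm.injective.subsingleton
    exact hne (Submodule.Quotient.subsingleton_iff.1 inferInstance)
  have hlen : ∀ rs, RingTheory.Sequence.IsWeaklyRegular M rs →
      (∀ r ∈ rs, r ∈ Ideal.span {x | x ∈ xs}) → rs.length ≤ xs.length := by
    intro rs h1 h2
    by_contra hc
    push_neg at hc
    exact hH0 ((regseq xs rs M h1 h2).1 _ (by omega))
  have hd : LocCoh.idealDepth (Ideal.span {x | x ∈ xs}) M =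
      ⨆ (rs : List R) (_ : RingTheory.Sequence.IsWeaklyRegular M rs ∧
        ∀ r ∈ rs, r ∈ Ideal.span {x | x ∈ xs}), (rs.length : ℕ∞) := by
    unfold LocCoh.idealDepth
    rw [if_neg hne]
  refine ⟨?_, ?_, ?_⟩
  · rw [hd]
    exact iSup_le fun rs => iSup_le fun h => by exact_mod_cast hlen rs h.1 h.2
  · intro p hp
    rw [hd] at hp
    obtain ⟨rs, hrs⟩ := lt_iSup_iff.1 hp
    obtain ⟨h, hp'⟩ := lt_iSup_iff.1 hrs
    have hp'' : p < rs.length := by exact_mod_cast hp'
    exact (regseq xs rs M h.1 h.2).1 _ (by omega)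
  · intro r hr hz
    obtain ⟨rs₀, h1, h2, hlen0⟩ : ∃ rs₀, RingTheory.Sequence.IsWeaklyRegular M rs₀ ∧
        (∀ r' ∈ rs₀, r' ∈ Ideal.span {x | x ∈ xs}) ∧ rs₀.length = r := by
      rcases Nat.eq_zero_or_pos r with h0 | hpos
      · exact ⟨[], RingTheory.Sequence.IsWeaklyRegular.nil R M, by simp, h0.symm⟩
      · have hlt : ((r - 1 : ℕ) : ℕ∞) < LocCoh.idealDepth (Ideal.span {x | x ∈ xs}) M := by
          rw [hr]
          exact_mod_cast Nat.sub_lt hpos one_pos
        rw [hd] at hlt
        obtain ⟨rs, hrs⟩ := lt_iSup_iff.1 hlt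
        obtain ⟨h, hp'⟩ := lt_iSup_iff.1 hrs
        have h3 : r - 1 < rs.length := by exact_mod_cast hp'
        have h4 : (rs.length : ℕ∞) ≤ LocCoh.idealDepth (Ideal.span {x | x ∈ xs}) M := by
          rw [hd]
          exact le_iSup₂ (f := fun (rs : List R) (_ : RingTheory.Sequence.IsWeaklyRegular M rs ∧
            ∀ r ∈ rs, r ∈ Ideal.span {x | x ∈ xs}) => (rs.length : ℕ∞)) rs h
        rw [hr] at h4
        have h5 : rs.length ≤ r := by exact_mod_cast h4
        exact ⟨rs, h.1, h.2, by omega⟩
    subst hlen0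
    have hZ := (regseq xs rs₀ M h1 h2).2 hz
    obtain ⟨y, hya, hyreg⟩ := exists_regular xs (M ⧸ (Ideal.ofList rs₀ • ⊤ : Submodule R M)) hZ
    have hnew : RingTheory.Sequence.IsWeaklyRegular M (rs₀ ++ [y]) := by
      rw [RingTheory.Sequence.isWeaklyRegular_append_iff]
      refine ⟨h1, ?_⟩
      rw [RingTheory.Sequence.isWeaklyRegular_cons_iff]
      exact ⟨hyreg, RingTheory.Sequence.IsWeaklyRegular.nil _ _⟩
    have hmem : ∀ r' ∈ rs₀ ++ [y], r' ∈ Ideal.span {x | x ∈ xs} := by
      intro r' hr'
      rw [List.mem_append, List.mem_singleton] at hr'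
      rcases hr' with h | h
      · exact h2 _ h
      · rw [h]; exact hya
    have h6 : ((rs₀ ++ [y]).length : ℕ∞) ≤ LocCoh.idealDepth (Ideal.span {x | x ∈ xs}) M := by
      rw [hd]
      exact le_iSup₂ (f := fun (rs : List R) (_ : RingTheory.Sequence.IsWeaklyRegular M rs ∧
        ∀ r ∈ rs, r ∈ Ideal.span {x | x ∈ xs}) => (rs.length : ℕ∞)) (rs₀ ++ [y]) ⟨hnew, hmem⟩
    rw [hr] at h6
    have h7 : (rs₀ ++ [y]).length ≤ rs₀.length := by exact_mod_cast h6
    simp at h7

end Groth.Agent.S14426
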