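import Groth.Statements.S14427
import Groth.Agent.H28.PlanePts

set_option autoImplicit false
universe u
open CAlgX

namespace Groth.Agent.S14427

/-- Let k be a field and Λ a set of n ≥ 3 nonzero vectors of k^3 which are pairwise linearly
independent, i.e. n distinct k-rational points of the projective plane. Then the space of
homogeneous forms of degree n − 1 in k[x_0, x_1, x_2] vanishing at every point of Λ — the global
sections of I_Λ(n − 1) — has dimension C(n+1, 2) − n over k, the same for all such Λ. (The published
statement is over an algebraically closed field; this row allows any field and k-rational points,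
which is all its argument uses.) -/
theorem result (k : Type u) [Field k] (n : ℕ) (hn : 3 ≤ n)
    (Λ : Finset (Fin 3 → k)) (hcard : Λ.card = n) (h0 : ∀ v ∈ Λ, v ≠ 0)
    (hdist : ∀ v ∈ Λ, ∀ w ∈ Λ, v ≠ w → LinearIndependent k ![v, w]) :
    Module.finrank k ↥(MvPolynomial.homogeneousSubmodule (Fin 3) k (n - 1) ⊓ ⨅ v ∈ Λ, LinearMap.ker (MvPolynomial.aeval v).toLinearMap) = Nat.choose (n + 1) 2 - n := by
  classical
  have key := Groth.Agent.H28.PlanePts.finrank_vanishing (k := k) (n - 1) Λ (by
    intro v hv
    obtain ⟨g, hg1, hg2, hg3⟩ := Groth.Agent.H28.PlanePts.exists_form v (Λ.erase v)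
      (fun w hw => hdist v hv w (Finset.mem_of_mem_erase hw) (Finset.ne_of_mem_erase hw).symm)
    rw [Finset.card_erase_of_mem hv, hcard] at hg1
    exact ⟨g, hg1, hg2, fun w hw hwv => hg3 w (Finset.mem_erase.mpr ⟨hwv, hw⟩)⟩)
  rw [hcard, show n - 1 + 2 = n + 1 by omega] at key
  omega

end Groth.Agent.S14427
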