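import Groth.Statements.S14434
import Groth.Agent.H28.ProjRes

set_option autoImplicit false
universe u
open CAlg

namespace Groth.Agent.S14434

open CategoryTheory CategoryTheory.Limits MonoidalCategory Groth.Agent.H28.ProjRes

theorem result {R : Type u} [CommRing R] (M : Type u) [AddCommGroup M] [Module R M]
    (x : R) (hxR : IsSMulRegular R x) (hxM : IsSMulRegular M x) (i : ℕ) (hi : 1 ≤ i) :
    Subsingleton (DRing.Tor R i M (R ⧸ Ideal.span {x})) := by
  let Rm : ModuleCat.{u} R := ModuleCat.of R R
  let N : ModuleCat.{u} R := ModuleCat.of R (R ⧸ Ideal.span {x})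
  let f : Rm ⟶ Rm := ModuleCat.ofHom (LinearMap.lsmul R R x)
  let p : Rm ⟶ N := ModuleCat.ofHom (Submodule.mkQ (Ideal.span {x}))
  have hf : ∀ a : R, f.hom a = x * a := fun a => rfl
  have hp : ∀ a : R, p.hom a = Ideal.Quotient.mk (Ideal.span {x}) a := fun a => rfl
  have w : f ≫ p = 0 := by
    ext
    simp only [f, p, Rm, N]
    simp [Ideal.mem_span_singleton]
  have hS : (ShortComplex.mk f p w).ShortExact := by
    refine ShortComplex.ShortExact.mk' ?_ ?_ ?_
    · rw [ShortComplex.moduleCat_exact_iff]
      intro y hy
      change p.hom y = 0 at hy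
      rw [hp, Ideal.Quotient.eq_zero_iff_mem, Ideal.mem_span_singleton'] at hy
      obtain ⟨a, rfl⟩ := hy
      refine ⟨a, ?_⟩
      change f.hom a = _
      rw [hf, mul_comm]
    · rw [ModuleCat.mono_iff_injective]
      intro a b hab
      change f.hom a = f.hom b at hab
      rw [hf, hf] at hab
      exact hxR hab
    · rw [ModuleCat.epi_iff_surjective]
      exact Submodule.mkQ_surjective _
  let Mm : ModuleCat.{u} R := ModuleCat.of R M
  let F : ModuleCat.{u} R ⥤ ModuleCat.{u} R := (tensoringLeft (ModuleCat.{u} R)).obj Mm
  have hproj : Projective Rm := inferInstance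
  have hZ : IsZero ((F.leftDerived i).obj N) := by
    obtain rfl | hi2 : i = 1 ∨ 2 ≤ i := by omega
    · apply isZero_leftDerived_one_of_shortExact F f p w hS
      rw [ModuleCat.mono_iff_injective]
      have hkey : ∀ t : TensorProduct R M R,
          TensorProduct.rid R M ((LinearMap.lTensor M (LinearMap.lsmul R R x)) t) =
            x • TensorProduct.rid R M t := by
        intro t
        induction t using TensorProduct.induction_on with
        | zero => simp
        | tmul m r => simp [mul_smul]
        | add a b ha hb => simp only [map_add, ha, hb, smul_add]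
      intro a b hab
      change (LinearMap.lTensor M (LinearMap.lsmul R R x)) a =
        (LinearMap.lTensor M (LinearMap.lsmul R R x)) b at hab
      have h2 := congrArg (TensorProduct.rid R M) hab
      rw [hkey, hkey] at h2
      exact (TensorProduct.rid R M).injective (hxM h2)
    · let P := splice f p w (ProjectiveResolution.self Rm) hS
      apply isZero_leftDerived_obj_of_resolution F P i
      obtain ⟨j, rfl⟩ : ∃ j, i = j + 2 := ⟨i - 2, by omega⟩
      exact HomologicalComplex.isZero_single_obj_X (ComplexShape.down ℕ) 0 Rm (j + 1) (by simp)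
  exact ModuleCat.subsingleton_of_isZero hZ

end Groth.Agent.S14434
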