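import Groth.Statements.S14436
import Mathlib

set_option autoImplicit false
set_option linter.style.haveILetI false
universe u
open CAlg

namespace Groth.Agent.S14436

open scoped KaehlerDifferential TensorProduct

theorem result (K L : Type u) [Field K] [Field L] [Algebra K L]
    (hfg : ∃ s : Finset L, IntermediateField.adjoin K (s : Set L) = ⊤)
    (n : ℕ) (a : Fin n → L) (ha : IsTranscendenceBasis K a)
    (hsep : Algebra.IsSeparable ↥(IntermediateField.adjoin K (Set.range a)) L) :
    Module.finrank L (Ω[L⁄K]) = n := by
  have hind : AlgebraicIndependent K a := ha.1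
  let P := MvPolynomial (Fin n) K
  let Q := FractionRing P
  let F := IntermediateField.adjoin K (Set.range a)
  let e : Q ≃ₐ[K] F := hind.aevalEquivField
  -- `L` as an algebra over the rational function field `Q`
  letI algQL : Algebra Q L := ((algebraMap F L).comp (e : Q →+* F)).toAlgebra
  have halg : ∀ q : Q, algebraMap Q L q = algebraMap F L (e q) := fun q => rfl
  haveI : IsScalarTower K Q L := IsScalarTower.of_algebraMap_eq fun k => by
    rw [halg, e.commutes, ← IsScalarTower.algebraMap_apply K F L]
  haveI : Algebra.IsSeparable Q L := by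
    refine Algebra.IsSeparable.of_equiv_equiv (A₁ := F) (B₁ := L) (e.symm : F ≃+* Q)
      (RingEquiv.refl L) ?_
    ext x
    simp only [RingHom.coe_comp, Function.comp_apply, RingHom.coe_coe, RingEquiv.refl_apply]
    rw [halg]
    simp
  haveI : Algebra.FormallyEtale Q L := Algebra.FormallyEtale.of_isSeparable Q L
  haveI : Algebra.FormallyEtale P Q :=
    Algebra.FormallyEtale.of_isLocalization (Rₘ := Q) (nonZeroDivisors P)
  have h1 : Module.finrank L (Ω[L⁄K]) = Module.finrank L (L ⊗[Q] Ω[Q⁄K]) :=
    (KaehlerDifferential.tensorKaehlerEquivOfFormallyEtale K Q L).finrank_eq.symm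
  have h2 : Module.finrank Q (Ω[Q⁄K]) = Module.finrank Q (Q ⊗[P] Ω[P⁄K]) :=
    (KaehlerDifferential.tensorKaehlerEquivOfFormallyEtale K P Q).finrank_eq.symm
  haveI : Module.Free P (Ω[P⁄K]) :=
    Module.Free.of_basis (KaehlerDifferential.mvPolynomialBasis K (Fin n))
  have h3 : Module.finrank P (Ω[P⁄K]) = n := by
    rw [Module.finrank_eq_card_basis (KaehlerDifferential.mvPolynomialBasis K (Fin n))]
    simp
  rw [h1, Module.finrank_baseChange, h2, Module.finrank_baseChange, h3]

end Groth.Agent.S14436
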