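import Groth.Statements.S14437
import Groth.Agent.H28.CotDiff

set_option autoImplicit false
universe u
open CAlg

namespace Groth.Agent.S14437

open scoped KaehlerDifferential
open Groth.Agent.H28.CotDiff

theorem result (k : Type u) [Field k]
    (A B : Type u) [CommRing A] [CommRing B] [IsLocalRing A] [IsLocalRing B] [IsNoetherianRing A] [IsNoetherianRing B]
    [Algebra k A] [Algebra k B] [Algebra A B] [IsScalarTower k A B]
    (hle : IsLocalRing.maximalIdeal A ≤ Ideal.comap (IsScalarTower.toAlgHom k A B) (IsLocalRing.maximalIdeal B))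
    (hA : Function.Bijective (algebraMap k (IsLocalRing.ResidueField A)))
    (hB : Function.Bijective (algebraMap k (IsLocalRing.ResidueField B))) :
    Module.finrank (IsLocalRing.ResidueField B) (TensorProduct B (IsLocalRing.ResidueField B) (Ω[B⁄A])) +
      Module.finrank k ↥(LinearMap.range (Ideal.mapCotangent (IsLocalRing.maximalIdeal A) (IsLocalRing.maximalIdeal B)
        (IsScalarTower.toAlgHom k A B) hle)) =
      Module.finrank k (IsLocalRing.CotangentSpace B) := by
  have hJ : IsLocalRing.maximalIdeal B =
      RingHom.ker (algebraMap B (IsLocalRing.ResidueField B)) :=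
    IsLocalRing.ker_residue.symm
  have hA' : ∀ a : A, ∃ c : k, a - algebraMap k A c ∈ IsLocalRing.maximalIdeal A := by
    intro a
    obtain ⟨c, hc⟩ := hA.2 (IsLocalRing.residue A a)
    refine ⟨c, ?_⟩
    rw [← IsLocalRing.residue_eq_zero_iff, map_sub, sub_eq_zero, ← hc]
    rfl
  have hnoeth : IsNoetherian B (IsLocalRing.maximalIdeal B) := isNoetherian_submodule' _
  have hfinB : Module.Finite B (IsLocalRing.maximalIdeal B).Cotangent :=
    Module.Finite.of_surjective (IsLocalRing.maximalIdeal B).toCotangent
      (IsLocalRing.maximalIdeal B).toCotangent_surjective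
  have hfin : Module.Finite k (IsLocalRing.maximalIdeal B).Cotangent :=
    finite_cotangent k B (IsLocalRing.ResidueField B) hB _ hJ
  exact finrank_formula' k A B (IsLocalRing.ResidueField B) hB (IsLocalRing.maximalIdeal A)
    (IsLocalRing.maximalIdeal B) hJ hle hA' IsLocalRing.residue_surjective

end Groth.Agent.S14437
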