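import Groth.Statements.S14442
import Mathlib

set_option autoImplicit false
universe u
open GrNak

namespace Groth.Agent.S14442

open DirectSum

theorem result {R : Type u} [CommRing R] {σ : Type u} [SetLike σ R] [AddSubmonoidClass σ R]
    (𝒜 : ℕ → σ) [GradedRing 𝒜]
    {M : Type u} [AddCommGroup M] [Module R M] {τ : Type u} [SetLike τ M] [AddSubmonoidClass τ M]
    (ℳ : ℕ → τ) [DirectSum.Decomposition ℳ] [SetLike.GradedSMul 𝒜 ℳ]
    (N : Submodule R M) (hN : ∀ x ∈ N, ∀ i : ℕ, (DirectSum.decompose ℳ x i : M) ∈ N)
    (h : (HomogeneousIdeal.irrelevant 𝒜).toIdeal • (⊤ : Submodule R M) ⊔ N = ⊤) :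
    N = ⊤ := by
  classical
  -- every homogeneous element lies in `N`
  have hom : ∀ n : ℕ, ∀ x : M, x ∈ ℳ n → x ∈ N := by
    intro n
    induction n using Nat.strong_induction_on with
    | _ n ih =>
      -- Claim A
      have claimA : ∀ r ∈ (HomogeneousIdeal.irrelevant 𝒜).toIdeal, ∀ m : M,
          (decompose ℳ (r • m) n : M) ∈ N := by
        intro r hr m
        induction m using DirectSum.Decomposition.inductionOn ℳ with
        | zero => simp
        | @homogeneous j m =>
          have hr0 : (decompose 𝒜 r 0 : R) = 0 := by
            have := (HomogeneousIdeal.mem_irrelevant_iff 𝒜 r).mp hr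
            rwa [GradedRing.proj_apply] at this
          have hsum : r • (m : M) = ∑ i ∈ (decompose 𝒜 r).support, (decompose 𝒜 r i : R) • (m : M) := by
            conv_lhs => rw [← DirectSum.sum_support_decompose 𝒜 r]
            rw [Finset.sum_smul]
          rw [hsum, decompose_sum, DirectSum.sum_apply, AddSubmonoidClass.coe_finsetSum]
          refine Submodule.sum_mem _ fun i _ => ?_
          have hmem : (decompose 𝒜 r i : R) • (m : M) ∈ ℳ (i + j) :=
            SetLike.GradedSMul.smul_mem (A := 𝒜) (B := ℳ) (i := i) (j := j)
              (SetLike.coe_mem (decompose 𝒜 r i)) m.2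
          by_cases hij : i + j = n
          · rw [← hij, decompose_of_mem_same ℳ hmem]
            by_cases hi0 : i = 0
            · rw [hi0, hr0, zero_smul]; exact N.zero_mem
            · exact N.smul_mem _ (ih j (by omega) _ m.2)
          · rw [decompose_of_mem_ne ℳ hmem hij]; exact N.zero_mem
        | add m m' hm hm' =>
          rw [smul_add, decompose_add, DirectSum.add_apply, AddMemClass.coe_add]
          exact N.add_mem hm hm'
      intro x hx
      have hxtop : x ∈ (HomogeneousIdeal.irrelevant 𝒜).toIdeal • (⊤ : Submodule R M) ⊔ N := by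
        rw [h]; trivial
      obtain ⟨y, hy, z, hz, hyz⟩ := Submodule.mem_sup.mp hxtop
      have hyn : (decompose ℳ y n : M) ∈ N := by
        refine Submodule.smul_induction_on (p := fun y => (decompose ℳ y n : M) ∈ N) hy ?_ ?_
        · intro r hr m _
          exact claimA r hr m
        · intro a b ha hb
          change (decompose ℳ (a + b) n : M) ∈ N
          rw [decompose_add, DirectSum.add_apply, AddMemClass.coe_add]
          exact N.add_mem ha hb
      have : x = (decompose ℳ y n : M) + (decompose ℳ z n : M) := by
        conv_lhs => rw [← decompose_of_mem_same ℳ hx, ← hyz]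
        rw [decompose_add, DirectSum.add_apply, AddMemClass.coe_add]
      rw [this]
      exact N.add_mem hyn (hN z hz n)
  rw [eq_top_iff]
  intro x _
  rw [← DirectSum.sum_support_decompose ℳ x]
  exact Submodule.sum_mem _ fun i _ => hom i _ (SetLike.coe_mem _)

end Groth.Agent.S14442
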