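import Groth.Statements.S14445
import Groth.Agent.H28.FpqcIso2
import Groth.Agent.H28.ActShear

set_option autoImplicit false
universe u
open NonAbH1

namespace Groth.Agent.S14445

section Helpers
open CategoryTheory MonoidalCategory CartesianMonoidalCategory AlgebraicGeometry MonObj

theorem local_trans {S : Scheme.{u}} {G X : Over S} [GrpObj G] (a : AlgGrp.Action G X) {T : Over S}
    (s : T ⟶ X) (hΨ : IsIso (lift ((G ◁ s) ≫ a.act) (snd G T))) {V : Over S} (x : V ⟶ X)
    (t : V ⟶ T) : ∃ gm : V ⟶ G, lift gm (t ≫ s) ≫ a.act = x := by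
  have hv : (lift x t ≫ inv (lift ((G ◁ s) ≫ a.act) (snd G T))) ≫
      lift ((G ◁ s) ≫ a.act) (snd G T) = lift x t := by
    rw [Category.assoc, IsIso.inv_hom_id, Category.comp_id]
  have h1 : (lift x t ≫ inv (lift ((G ◁ s) ≫ a.act) (snd G T))) ≫ (G ◁ s) ≫ a.act = x := by
    have := congrArg (fun w => w ≫ fst X T) hv
    simpa using this
  have h2 : (lift x t ≫ inv (lift ((G ◁ s) ≫ a.act) (snd G T))) ≫ snd G T = t := by
    have := congrArg (fun w => w ≫ snd X T) hv
    simpa using this
  refine ⟨(lift x t ≫ inv (lift ((G ◁ s) ≫ a.act) (snd G T))) ≫ fst G T, ?_⟩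
  calc lift ((lift x t ≫ inv (lift ((G ◁ s) ≫ a.act) (snd G T))) ≫ fst G T) (t ≫ s) ≫ a.act
      = (lift ((lift x t ≫ inv (lift ((G ◁ s) ≫ a.act) (snd G T))) ≫ fst G T)
          ((lift x t ≫ inv (lift ((G ◁ s) ≫ a.act) (snd G T))) ≫ snd G T) ≫ (G ◁ s)) ≫ a.act := by
        rw [lift_whiskerLeft, h2]
    _ = (lift x t ≫ inv (lift ((G ◁ s) ≫ a.act) (snd G T))) ≫ (G ◁ s) ≫ a.act := by
        rw [lift_comp_fst_snd, Category.assoc]
    _ = x := h1

theorem local_free {S : Scheme.{u}} {G X : Over S} [GrpObj G] (a : AlgGrp.Action G X) {T : Over S}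
    (s : T ⟶ X) (hΨ : IsIso (lift ((G ◁ s) ≫ a.act) (snd G T))) {V : Over S} (gm gm' : V ⟶ G)
    (t : V ⟶ T) (h : lift gm (t ≫ s) ≫ a.act = lift gm' (t ≫ s) ≫ a.act) : gm = gm' := by
  have h1 : lift gm t ≫ lift ((G ◁ s) ≫ a.act) (snd G T) =
      lift gm' t ≫ lift ((G ◁ s) ≫ a.act) (snd G T) := by
    rw [comp_lift, comp_lift, lift_snd, lift_snd, ← Category.assoc, ← Category.assoc,
      lift_whiskerLeft, lift_whiskerLeft, h]
  have h2 := (cancel_mono _).mp h1
  have := congrArg (fun w => w ≫ fst G T) h2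
  simpa using this

theorem local_cancel {S : Scheme.{u}} {G X : Over S} [GrpObj G] (a : AlgGrp.Action G X) {T : Over S}
    (s : T ⟶ X) (hΨ : IsIso (lift ((G ◁ s) ≫ a.act) (snd G T))) {V : Over S} (g₁ g₂ : V ⟶ G)
    (x : V ⟶ X) (t : V ⟶ T) (h : lift g₁ x ≫ a.act = lift g₂ x ≫ a.act) : g₁ = g₂ := by
  obtain ⟨gm, hgm⟩ := local_trans a s hΨ x t
  have e : lift (g₁ * gm) (t ≫ s) ≫ a.act = lift (g₂ * gm) (t ≫ s) ≫ a.act := by
    rw [Groth.Agent.H28.ActShear.lift_mul_act, Groth.Agent.H28.ActShear.lift_mul_act, hgm, h]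
  exact mul_right_cancel (local_free a s hΨ _ _ t e)

theorem local_surj {S : Scheme.{u}} {G X : Over S} [GrpObj G] (a : AlgGrp.Action G X) {T : Over S}
    (s : T ⟶ X) (hΨ : IsIso (lift ((G ◁ s) ≫ a.act) (snd G T))) {V : Over S} (x₁ x₂ : V ⟶ X)
    (t : V ⟶ T) : ∃ g : V ⟶ G, lift g x₂ ≫ a.act = x₁ := by
  obtain ⟨gm₁, h₁⟩ := local_trans a s hΨ x₁ t
  obtain ⟨gm₂, h₂⟩ := local_trans a s hΨ x₂ t
  refine ⟨gm₁ * gm₂⁻¹, ?_⟩
  rw [Groth.Agent.H28.ActShear.lift_mul_act]
  have e4 : lift gm₂⁻¹ x₂ ≫ a.act = t ≫ s := by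
    rw [← h₂, ← Groth.Agent.H28.ActShear.lift_mul_act, inv_mul_cancel,
      Groth.Agent.H28.ActShear.lift_one_act]
  rw [e4, h₁]

end Helpers

open CategoryTheory MonoidalCategory CartesianMonoidalCategory AlgebraicGeometry in
/-- Let S be a scheme, G a group scheme over S and X an S-scheme with an action of G. Then X is a
G-torsor for the fpqc topology — the morphism G ×_S X → X ×_S X, (g, x) ↦ (gx, x), is an isomorphism
and X → S acquires sections over the members of some fpqc covering family of S — if and only if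
there are an fpqc covering family of S and, for each member S' → S, an S-morphism s : S' → X for
which the G-equivariant S'-morphism G ×_S S' → X ×_S S', (g, t) ↦ (g·s(t), t), is an isomorphism; in
words, X becomes equivariantly isomorphic to the trivial torsor over each member of the covering.
(The published statement is set in any subcanonical site with fibre products, for an invariant arrow
X → Y; this row is its instance for schemes over S with the fpqc topology and Y = S.) -/
theorem result {S : Scheme.{u}} {G X : Over S} [GrpObj G]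
    (a : AlgGrp.Action G X) :
    NonAbH1.IsTorsorFor Scheme.fpqcPrecoverage a ↔
      ∃ R ∈ Scheme.fpqcPrecoverage S, ∀ ⦃S' : Scheme.{u}⦄ (f : S' ⟶ S), R f →
        ∃ s : Over.mk f ⟶ X, IsIso (lift ((G ◁ s) ≫ a.act) (snd G (Over.mk f))) := by
  constructor
  · rintro ⟨hps, R, hR, hsec⟩
    refine ⟨R, hR, fun S' f hf => ?_⟩
    obtain ⟨σ, hσ⟩ := hsec f hf
    refine ⟨Over.homMk σ hσ, ?_⟩
    generalize (Over.homMk σ hσ : Over.mk f ⟶ X) = s
    generalize Over.mk f = T at s
    have hΦ : IsIso (lift a.act (snd G X)) := hps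
    have hw₀ : (lift (fst X T) (snd X T ≫ s) ≫ inv (lift a.act (snd G X))) ≫
        lift a.act (snd G X) = lift (fst X T) (snd X T ≫ s) := by
      rw [Category.assoc, IsIso.inv_hom_id, Category.comp_id]
    have hw₀a : (lift (fst X T) (snd X T ≫ s) ≫ inv (lift a.act (snd G X))) ≫ a.act = fst X T := by
      have := congrArg (fun w => w ≫ fst X X) hw₀
      simpa using this
    have hw₀s : (lift (fst X T) (snd X T ≫ s) ≫ inv (lift a.act (snd G X))) ≫ snd G X =
        snd X T ≫ s := by
      have := congrArg (fun w => w ≫ snd X X) hw₀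
      simpa using this
    refine ⟨lift ((lift (fst X T) (snd X T ≫ s) ≫ inv (lift a.act (snd G X))) ≫ fst G X)
      (snd X T), ?_, ?_⟩
    · apply CartesianMonoidalCategory.hom_ext
      · rw [Category.assoc, lift_fst, Category.id_comp, ← Category.assoc, ← Category.assoc,
          comp_lift, lift_fst, ← Category.assoc (lift _ _) (snd X T), lift_snd]
        have h3 : lift ((G ◁ s) ≫ a.act) (snd G T ≫ s) = (G ◁ s) ≫ lift a.act (snd G X) := by
          rw [comp_lift, whiskerLeft_snd]
        rw [h3]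
        simp only [Category.assoc]
        rw [IsIso.hom_inv_id_assoc, whiskerLeft_fst]
      · rw [Category.assoc, lift_snd, lift_snd, Category.id_comp]
    · clear hw₀
      generalize lift (fst X T) (snd X T ≫ s) ≫ inv (lift a.act (snd G X)) = w₀ at hw₀a hw₀s ⊢
      apply CartesianMonoidalCategory.hom_ext
      · rw [Category.assoc, lift_fst, Category.id_comp, ← Category.assoc, lift_whiskerLeft,
          ← hw₀s, lift_comp_fst_snd, hw₀a]
      · rw [Category.assoc, lift_snd, lift_snd, Category.id_comp]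
  · rintro ⟨R, hR, hloc⟩
    refine ⟨?_, R, hR, fun S' f hf => ?_⟩
    swap
    · obtain ⟨s, -⟩ := hloc f hf
      exact ⟨s.left, Over.w s⟩
    have key : ∀ (W : Over S) ⦃V : Scheme.{u}⦄ (g : V ⟶ W.left),
        ((Sieve.generate R).pullback W.hom) g →
        ∃ (T : Over S) (s : T ⟶ X) (_ : IsIso (lift ((G ◁ s) ≫ a.act) (snd G T)))
          (_ : Over.mk (g ≫ W.hom) ⟶ T), True := by
      rintro W V g ⟨S', h, r, hr, he⟩
      obtain ⟨s, hs⟩ := hloc r hr
      exact ⟨Over.mk r, s, hs, Over.homMk h he, trivial⟩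
    have hcov : ∀ W : Over S, (Sieve.generate R).pullback W.hom ∈ Scheme.fpqcTopology W.left :=
      fun W => Scheme.fpqcTopology.pullback_stable W.hom (Precoverage.generate_mem_toGrothendieck hR)
    have hmono : Mono (lift a.act (snd G X)) := by
      constructor
      intro W w₁ w₂ hw
      have hx : w₁ ≫ snd G X = w₂ ≫ snd G X := by
        have := congrArg (fun w => w ≫ snd X X) hw
        simpa using this
      have hact : w₁ ≫ a.act = w₂ ≫ a.act := by
        have := congrArg (fun w => w ≫ fst X X) hw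
        simpa using this
      have hg : w₁ ≫ fst G X = w₂ ≫ fst G X := by
        apply Over.OverMorphism.ext
        apply Groth.Agent.H28.FpqcIso2.eq_of_locally_eq _ (hcov W)
        intro V g hg
        obtain ⟨T, s, hΨ, t, -⟩ := key W g hg
        obtain ⟨g', hg'⟩ : ∃ g' : Over.mk (g ≫ W.hom) ⟶ W, g'.left = g := ⟨Over.homMk g rfl, rfl⟩
        have e1 : lift (g' ≫ w₁ ≫ fst G X) (g' ≫ w₁ ≫ snd G X) = g' ≫ w₁ := by
          rw [← Category.assoc, ← Category.assoc, lift_comp_fst_snd]
        have e2 : lift (g' ≫ w₂ ≫ fst G X) (g' ≫ w₁ ≫ snd G X) = g' ≫ w₂ := by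
          rw [hx, ← Category.assoc, ← Category.assoc, lift_comp_fst_snd]
        have e3 := local_cancel a s hΨ (g' ≫ w₁ ≫ fst G X) (g' ≫ w₂ ≫ fst G X)
          (g' ≫ w₁ ≫ snd G X) t (by rw [e1, e2, Category.assoc, Category.assoc, hact])
        have e4 := congrArg (fun w => w.left) e3
        simp only [Over.comp_left, hg'] at e4
        simpa using e4
      exact CartesianMonoidalCategory.hom_ext _ _ hg hx
    have hmonol : Mono (lift a.act (snd G X)).left := inferInstance
    have hisol : IsIso (lift a.act (snd G X)).left := by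
      refine Groth.Agent.H28.FpqcIso2.isIso_of_mono_of_covering_sieve _ _ (hcov (X ⊗ X)) ?_
      intro V g hg
      obtain ⟨T, s, hΨ, t, -⟩ := key (X ⊗ X) g hg
      obtain ⟨g', hg'⟩ : ∃ g' : Over.mk (g ≫ (X ⊗ X).hom) ⟶ X ⊗ X, g'.left = g :=
        ⟨Over.homMk g rfl, rfl⟩
      obtain ⟨gm, hgm⟩ := local_surj a s hΨ (g' ≫ fst X X) (g' ≫ snd X X) t
      refine ⟨(lift gm (g' ≫ snd X X)).left, ?_⟩
      have e : lift gm (g' ≫ snd X X) ≫ lift a.act (snd G X) = g' := by
        apply CartesianMonoidalCategory.hom_ext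
        · rw [Category.assoc, lift_fst, hgm]
        · rw [Category.assoc, lift_snd, lift_snd]
      rw [← Over.comp_left, e, hg']
    have : IsIso ((Over.forget S).map (lift a.act (snd G X))) := hisol
    exact isIso_of_reflects_iso (lift a.act (snd G X)) (Over.forget S)

end Groth.Agent.S14445
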