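import Groth.Statements.S14447
import Mathlib

set_option autoImplicit false
universe w v u
open AlgGrp

namespace Groth.Agent.S14447

section
open CategoryTheory CategoryTheory.Limits

variable {C : Type u} [Category.{v} C] [HasFiniteProducts C] [HasCoproducts.{w} C]

/-- abbreviation for the functor -/
noncomputable abbrev F : Type w ⥤ C := sigmaConst.{w}.obj (⊤_ C)

theorem ι_map {I J : Type w} (f : I ⟶ J) (i : I) :
    Sigma.ι (fun _ : I => ⊤_ C) i ≫ (F (C := C)).map f = Sigma.ι (fun _ : J => ⊤_ C) (f i) := by
  simp [F, sigmaConst]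

theorem core (h : ∀ (I : Type w) (U : C), IsIso (Sigma.desc fun i : I =>
      prod.lift (terminal.from U ≫ Sigma.ι (fun _ : I => ⊤_ C) i) (𝟙 U))) (I J : Type w) :
    IsIso (prod.lift ((F (C := C)).map (↾(Prod.fst : I × J → I)))
      ((F (C := C)).map (↾(Prod.snd : I × J → J)))) := by
  have hIJ := h I ((F (C := C)).obj J)
  -- φ : ∐_{i} F J ⟶ F (I × J)
  let φ : (∐ fun _ : I => (F (C := C)).obj J) ⟶ (F (C := C)).obj (I × J) :=
    Sigma.desc fun i => (F (C := C)).map (↾(fun j : J => ((i, j) : I × J)))
  let ψ : (F (C := C)).obj (I × J) ⟶ (∐ fun _ : I => (F (C := C)).obj J) :=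
    Sigma.desc fun ij : I × J => Sigma.ι (fun _ : J => ⊤_ C) ij.2 ≫
      Sigma.ι (fun _ : I => (F (C := C)).obj J) ij.1
  have h1 : φ ≫ ψ = 𝟙 _ := by
    apply Sigma.hom_ext
    intro i
    apply Sigma.hom_ext
    intro j
    simp only [φ, ψ, Sigma.ι_desc_assoc, Category.comp_id]
    rw [← Category.assoc, ι_map]
    simp
  have h2 : ψ ≫ φ = 𝟙 _ := by
    apply Sigma.hom_ext
    intro ij
    simp only [φ, ψ, Sigma.ι_desc_assoc, Category.assoc, Sigma.ι_desc]
    rw [ι_map]
    exact (Category.comp_id _).symm
  have h3 : φ ≫ prod.lift ((F (C := C)).map (↾(Prod.fst : I × J → I)))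
      ((F (C := C)).map (↾(Prod.snd : I × J → J))) =
      Sigma.desc fun i : I =>
        prod.lift (terminal.from ((F (C := C)).obj J) ≫ Sigma.ι (fun _ : I => ⊤_ C) i) (𝟙 _) := by
    apply Sigma.hom_ext
    intro i
    simp only [φ, Sigma.ι_desc_assoc, Sigma.ι_desc]
    apply Limits.prod.hom_ext
    · simp only [prod.comp_lift, prod.lift_fst, ← Functor.map_comp]
      apply Sigma.hom_ext
      intro j
      rw [ι_map]
      rw [← Category.assoc]
      have : Sigma.ι (fun _ : J => ⊤_ C) j ≫ terminal.from ((F (C := C)).obj J) = 𝟙 _ :=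
        Subsingleton.elim _ _
      rw [this, Category.id_comp]
      rfl
    · simp only [prod.comp_lift, prod.lift_snd, ← Functor.map_comp]
      apply Sigma.hom_ext
      intro j
      rw [ι_map]
      have h5 : prod.lift (terminal.from ((F (C := C)).obj J) ≫ Sigma.ι (fun _ : I => ⊤_ C) i)
          (𝟙 ((F (C := C)).obj J)) ≫ prod.snd = 𝟙 _ := prod.lift_snd _ _
      erw [h5]
      exact (Category.comp_id _).symm
  have hφ : IsIso φ := ⟨ψ, h1, h2⟩
  have : prod.lift ((F (C := C)).map (↾(Prod.fst : I × J → I)))
      ((F (C := C)).map (↾(Prod.snd : I × J → J))) = inv φ ≫ Sigma.desc fun i : I =>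
        prod.lift (terminal.from ((F (C := C)).obj J) ≫ Sigma.ι (fun _ : I => ⊤_ C) i) (𝟙 _) := by
    rw [← h3, IsIso.inv_hom_id_assoc]
  rw [this]
  infer_instance

end

open CategoryTheory CategoryTheory.Limits in
/-- Let C be a category with finite products and with all coproducts indexed by sets, and assume that
for every set I and every object U the canonical arrow ∐_{i∈I} U → (∐_{i∈I} pt) × U, whose i-th
component pairs U → pt → ∐_{i∈I} pt (i-th coprojection) with the identity of U, is an isomorphism.
Then the discrete-object functor from sets to C, I ↦ ∐_{i∈I} pt, preserves finite products. (Sets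
are the types of one fixed universe, the one indexing the coproducts. The published statement asks
only for the coproducts of copies of one object; this row assumes that C has all coproducts indexed
by sets, which Mathlib's discrete-object functor sigmaConst requires.) -/
theorem result {C : Type u} [Category.{v} C]
    [HasFiniteProducts C] [HasCoproducts.{w} C]
    (h : ∀ (I : Type w) (U : C), IsIso (Sigma.desc fun i : I =>
      prod.lift (terminal.from U ≫ Sigma.ι (fun _ : I => ⊤_ C) i) (𝟙 U))) :
    PreservesFiniteProducts (sigmaConst.{w}.obj (⊤_ C)) := by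
  have hT : PreservesLimitsOfShape (Discrete.{0} PEmpty) (sigmaConst.{w}.obj (⊤_ C)) := by
    have : Unique (⊤_ (Type w)) := Equiv.unique (Types.terminalIso.toEquiv)
    have : PreservesLimit (Functor.empty.{0} (Type w)) (sigmaConst.{w}.obj (⊤_ C)) := by
      apply preservesTerminal_of_iso
      exact coproductUniqueIso _
    exact preservesLimitsOfShape_pempty_of_preservesTerminal _
  have hB : PreservesLimitsOfShape (Discrete WalkingPair) (sigmaConst.{w}.obj (⊤_ C)) := by
    refine ⟨fun {K} => ?_⟩
    have : PreservesLimit (pair (K.obj ⟨WalkingPair.left⟩) (K.obj ⟨WalkingPair.right⟩))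
        (sigmaConst.{w}.obj (⊤_ C)) := by
      apply preservesLimit_of_preserves_limit_cone
        (Types.binaryProductLimit (K.obj ⟨WalkingPair.left⟩) (K.obj ⟨WalkingPair.right⟩))
      apply (isLimitMapConeBinaryFanEquiv _ _ _).symm _
      refine @IsLimit.ofPointIso _ _ _ _ _ _ _ (limit.isLimit (pair _ _)) ?_
      exact core h _ _
    apply preservesLimit_of_iso_diagram _ (diagramIsoPair K).symm
  exact PreservesFiniteProducts.of_preserves_binary_and_terminal _

end Groth.Agent.S14447
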