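import Groth.Statements.S6619
import Groth.Agent.H23.LerayAcyc

set_option autoImplicit false
universe v v' u u'
open CategoryTheory CategoryTheory.Limits
open CohDer

namespace Groth.Agent.S6619

/-- In the case where A has enough injectives (an object X is right acyclic for the left exact functor F
when RⁱF(X) = 0 for all i > 0): suppose A and B are abelian categories, A has enough injectives, F :
A ⥤ B is left exact, and 0 → X₁ → X₂ → X₃ → 0 is a short exact sequence of A. (1) If X₁, X₃ are
right acyclic so is X₂; (2) if X₁, X₂ are right acyclic so is X₃; (3) if X₂, X₃ are right acyclic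
and F(X₂) ⟶ F(X₃) is surjective then X₁ is right acyclic. In each of the three cases 0 → F(X₁) →
F(X₂) → F(X₃) → 0 is short exact. -/
theorem result {A : Type u} [Category.{v} A] [Abelian A] [EnoughInjectives A]
    {B : Type u'} [Category.{v'} B] [Abelian B] (F : A ⥤ B) [F.Additive] [PreservesFiniteLimits F]
    (S : ShortComplex A) (hS : S.ShortExact) :
    ((∀ i : ℕ, 0 < i → IsZero ((F.rightDerived i).obj S.X₁)) → (∀ i : ℕ, 0 < i → IsZero ((F.rightDerived i).obj S.X₃)) →
      (∀ i : ℕ, 0 < i → IsZero ((F.rightDerived i).obj S.X₂)) ∧ (S.map F).ShortExact) ∧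
    ((∀ i : ℕ, 0 < i → IsZero ((F.rightDerived i).obj S.X₁)) → (∀ i : ℕ, 0 < i → IsZero ((F.rightDerived i).obj S.X₂)) →
      (∀ i : ℕ, 0 < i → IsZero ((F.rightDerived i).obj S.X₃)) ∧ (S.map F).ShortExact) ∧
    ((∀ i : ℕ, 0 < i → IsZero ((F.rightDerived i).obj S.X₂)) → (∀ i : ℕ, 0 < i → IsZero ((F.rightDerived i).obj S.X₃)) →
      Epi (F.map S.g) → (∀ i : ℕ, 0 < i → IsZero ((F.rightDerived i).obj S.X₁)) ∧ (S.map F).ShortExact) := by
  letI : HasDerivedCategory.{max u v} A := HasDerivedCategory.standard A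
  letI : HasDerivedCategory.{max u' v'} B := HasDerivedCategory.standard B
  have key : ∀ X : A, (∀ i : ℕ, 0 < i → IsZero ((F.rightDerived i).obj X)) ↔
      Groth.Agent.H23.Leray.Acyc F X := fun X => Groth.Agent.H23.Leray.acyc_iff_rightDerived F X
  refine ⟨?_, ?_, ?_⟩
  · intro h₁ h₃
    exact ⟨(key _).2 (Groth.Agent.H23.Leray.acyc_X₂ F S hS ((key _).1 h₁) ((key _).1 h₃)),
      Groth.Agent.H23.Leray.shortExact_map_of_acyc F S hS ((key _).1 h₁)⟩
  · intro h₁ h₂
    exact ⟨(key _).2 (Groth.Agent.H23.Leray.acyc_X₃ F S hS ((key _).1 h₁) ((key _).1 h₂)),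
      Groth.Agent.H23.Leray.shortExact_map_of_acyc F S hS ((key _).1 h₁)⟩
  · intro h₂ h₃ hepi
    refine ⟨(key _).2 (Groth.Agent.H23.Leray.acyc_X₁ F S hS ((key _).1 h₂) ((key _).1 h₃) hepi), ?_⟩
    have hmono : Mono S.f := hS.mono_f
    have hex : (S.map F).Exact := hS.exact.map_of_mono_of_preservesKernel F hmono inferInstance
    have hm : Mono (F.map S.f) := inferInstance
    exact { exact := hex, mono_f := hm, epi_g := hepi }

end Groth.Agent.S6619
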