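import Groth.Statements.S14451
import Groth.Agent.S6619
import Mathlib

set_option autoImplicit false
universe u
open CategoryTheory CategoryTheory.Limits AlgebraicGeometry
open EtCore

namespace Groth.Agent.S14451

section General

open CategoryTheory.Abelian

universe w₁ w₂ v₁ v₂ u₁ u₂

variable {A : Type u₁} [Category.{v₁} A] [Abelian A] [HasExt.{w₁} A] [EnoughInjectives A]
  {B : Type u₂} [Category.{v₂} B] [Abelian B] [HasExt.{w₂} B]
  {L : B ⥤ A} {R : A ⥤ B} (adj : L ⊣ R) [L.Additive] [R.Additive]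
  [PreservesFiniteLimits L] [PreservesFiniteColimits L] [PreservesFiniteLimits R]
  {ZB : B} {ZA : A} (c : ZA ⟶ L.obj ZB)

/-- The comparison map `Extⁿ(Z_B, R F) → Extⁿ(Z_A, F)`. -/
noncomputable def Φ (F : A) (n : ℕ) : Ext.{w₂} ZB (R.obj F) n →+ Ext.{w₁} ZA F n :=
  ((Ext.mk₀ (adj.counit.app F)).postcomp ZA (add_zero n)).comp
    ((AddMonoidHom.mk' (fun e => (Ext.mk₀ c).comp e (zero_add n))
      (fun _ _ => Ext.comp_add _ _ _ _)).comp (L.mapExtAddHom _ _ n))

lemma Φ_apply (F : A) (n : ℕ) (x : Ext.{w₂} ZB (R.obj F) n) :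
    Φ adj c F n x = ((Ext.mk₀ c).comp (x.mapExactFunctor L) (zero_add n)).comp
      (Ext.mk₀ (adj.counit.app F)) (add_zero n) := rfl

lemma Φ_nat {F G : A} (φ : F ⟶ G) (n : ℕ) (y : Ext.{w₂} ZB (R.obj F) n) :
    Φ adj c G n (y.comp (Ext.mk₀ (R.map φ)) (add_zero n)) =
      (Φ adj c F n y).comp (Ext.mk₀ φ) (add_zero n) := by
  rw [Φ_apply, Φ_apply, Ext.mapExactFunctor_comp, Ext.mapExactFunctor_mk₀]
  simp only [Ext.comp_assoc_of_third_deg_zero, Ext.mk₀_comp_mk₀]
  rw [adj.counit_naturality φ]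

lemma Φ_ext {T : ShortComplex B} (hT : T.ShortExact) {S : ShortComplex A} (hS : S.ShortExact)
    (τ₁ : L.obj T.X₁ ⟶ S.X₁) (τ₃ : L.obj T.X₃ ⟶ S.X₃)
    (hnat : (hT.extClass.mapExactFunctor L).comp (Ext.mk₀ τ₁) (add_zero 1) =
      (Ext.mk₀ τ₃).comp hS.extClass (zero_add 1))
    (n : ℕ) (y : Ext.{w₂} ZB T.X₃ n) :
    ((Ext.mk₀ c).comp ((y.comp hT.extClass rfl).mapExactFunctor L) (zero_add (n + 1))).comp
        (Ext.mk₀ τ₁) (add_zero (n + 1)) =
      (((Ext.mk₀ c).comp (y.mapExactFunctor L) (zero_add n)).comp (Ext.mk₀ τ₃) (add_zero n)).comp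
        hS.extClass rfl := by
  have h1 : (Ext.mk₀ c).comp ((y.mapExactFunctor L).comp (hT.extClass.mapExactFunctor L) rfl)
      (zero_add (n + 1)) =
      ((Ext.mk₀ c).comp (y.mapExactFunctor L) (zero_add n)).comp
        (hT.extClass.mapExactFunctor L) rfl :=
    (Ext.comp_assoc (Ext.mk₀ c) (y.mapExactFunctor L) (hT.extClass.mapExactFunctor L)
      (zero_add n) rfl (by omega)).symm
  rw [Ext.mapExactFunctor_comp, h1,
    Ext.comp_assoc_of_third_deg_zero ((Ext.mk₀ c).comp (y.mapExactFunctor L) (zero_add n))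
      (hT.extClass.mapExactFunctor L) (Ext.mk₀ τ₁) rfl,
    hnat,
    Ext.comp_assoc_of_second_deg_zero ((Ext.mk₀ c).comp (y.mapExactFunctor L) (zero_add n))
      (Ext.mk₀ τ₃) hS.extClass rfl]

lemma Φ_mk₀ (F : A) (f : ZB ⟶ R.obj F) :
    Φ adj c F 0 (Ext.mk₀ f) = Ext.mk₀ (c ≫ (adj.homEquiv ZB F).symm f) := by
  rw [Φ_apply, Ext.mapExactFunctor_mk₀, Ext.mk₀_comp_mk₀, Ext.mk₀_comp_mk₀,
    Adjunction.homEquiv_counit, Category.assoc]

lemma Φ_zero_bijective [IsIso c] (F : A) : Function.Bijective (Φ adj c F 0) := by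
  constructor
  · intro x₁ x₂ h
    obtain ⟨f₁, rfl⟩ := (Ext.mk₀_bijective _ _).2 x₁
    obtain ⟨f₂, rfl⟩ := (Ext.mk₀_bijective _ _).2 x₂
    rw [Φ_mk₀, Φ_mk₀] at h
    have h' := (Ext.mk₀_bijective _ _).1 h
    rw [cancel_epi] at h'
    rw [(adj.homEquiv ZB F).symm.injective h']
  · intro z
    obtain ⟨g, rfl⟩ := (Ext.mk₀_bijective _ _).2 z
    refine ⟨Ext.mk₀ (adj.homEquiv ZB F (inv c ≫ g)), ?_⟩
    rw [Φ_mk₀, Equiv.symm_apply_apply, IsIso.hom_inv_id_assoc]

/-- The dimension-shifting step, for an arbitrary short exact sequence with injective middle term. -/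
lemma Φ_step (S : ShortComplex A) (hS : S.ShortExact) (hRS : (S.map R).ShortExact)
    [Injective S.X₂] (n : ℕ) (bQ : Function.Bijective (Φ adj c S.X₃ n))
    (bI : Function.Surjective (Φ adj c S.X₂ n)) :
    Function.Bijective (Φ adj c S.X₁ (n + 1)) := by
  haveI hinj : Injective (S.map R).X₂ :=
    (Injective.injective_of_adjoint adj S.X₂ : Injective (R.obj S.X₂))
  have hz : ∀ (y' : Ext.{w₂} ZB (S.map R).X₂ n),
      (y'.comp (Ext.mk₀ (S.map R).g) (add_zero n)).comp hRS.extClass rfl = 0 := by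
    intro y'
    rw [Ext.comp_assoc_of_second_deg_zero, hRS.comp_extClass, Ext.comp_zero]
  let ψ : (S.map R).map L ⟶ S :=
    { τ₁ := adj.counit.app S.X₁
      τ₂ := adj.counit.app S.X₂
      τ₃ := adj.counit.app S.X₃
      comm₁₂ := (adj.counit_naturality S.f).symm
      comm₂₃ := (adj.counit_naturality S.g).symm }
  have hnat : (hRS.extClass.mapExactFunctor L).comp (Ext.mk₀ (adj.counit.app S.X₁)) (add_zero 1) =
      (Ext.mk₀ (adj.counit.app S.X₃)).comp hS.extClass (zero_add 1) :=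
    (congrArg (fun e => e.comp (Ext.mk₀ (adj.counit.app S.X₁)) (add_zero 1))
      (Ext.mapExactFunctor_extClass L hRS)).trans
      (ShortComplex.ShortExact.extClass_naturality (hRS.map_of_exact L) hS ψ)
  have key : ∀ y : Ext.{w₂} ZB (S.map R).X₃ n,
      Φ adj c S.X₁ (n + 1) (y.comp hRS.extClass rfl) = (Φ adj c S.X₃ n y).comp hS.extClass rfl :=
    fun y => Φ_ext c hRS hS (adj.counit.app S.X₁) (adj.counit.app S.X₃) hnat n y
  have knat : ∀ y' : Ext.{w₂} ZB (S.map R).X₂ n,
      Φ adj c S.X₃ n (y'.comp (Ext.mk₀ (S.map R).g) (add_zero n)) =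
        (Φ adj c S.X₂ n y').comp (Ext.mk₀ S.g) (add_zero n) :=
    fun y' => Φ_nat adj c S.g n y'
  constructor
  · refine (injective_iff_map_eq_zero (Φ adj c S.X₁ (n + 1))).2 ?_
    intro x hx
    obtain ⟨y, hy⟩ := Ext.covariant_sequence_exact₁ ZB hRS x (Ext.eq_zero_of_injective _) rfl
    have hx' : (Φ adj c S.X₃ n y).comp hS.extClass rfl = 0 := by
      rw [← key y]
      exact (congrArg (Φ adj c S.X₁ (n + 1)) hy).trans hx
    obtain ⟨w', hw'⟩ := Ext.covariant_sequence_exact₃ ZA hS (Φ adj c S.X₃ n y) rfl hx'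
    obtain ⟨y', hy'⟩ := bI w'
    have h2 : Φ adj c S.X₃ n (y'.comp (Ext.mk₀ (S.map R).g) (add_zero n)) = Φ adj c S.X₃ n y :=
      (knat y').trans ((congrArg (fun t => t.comp (Ext.mk₀ S.g) (add_zero n)) hy').trans hw')
    have h3 := bQ.1 h2
    rw [← hy, ← h3]
    exact hz y'
  · intro z
    obtain ⟨w, hw⟩ := Ext.covariant_sequence_exact₁ ZA hS z (Ext.eq_zero_of_injective _) rfl
    obtain ⟨y, hy⟩ := bQ.2 w
    exact ⟨y.comp hRS.extClass rfl,
      (key y).trans ((congrArg (fun t => t.comp hS.extClass rfl) hy).trans hw)⟩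

theorem Φ_bijective [IsIso c] (n : ℕ) : ∀ (F : A),
    (∀ q : ℕ, 0 < q → IsZero ((R.rightDerived q).obj F)) → Function.Bijective (Φ adj c F n) := by
  induction n with
  | zero => intro F _; exact Φ_zero_bijective adj c F
  | succ n IH =>
    intro F hF
    let S : ShortComplex A :=
      ShortComplex.mk (Injective.ι F) (cokernel.π (Injective.ι F)) (cokernel.condition _)
    have hS : S.ShortExact :=
      { exact := ShortComplex.exact_cokernel (Injective.ι F)
        mono_f := inferInstanceAs (Mono (Injective.ι F))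
        epi_g := inferInstanceAs (Epi (cokernel.π (Injective.ι F))) }
    have hI : ∀ q : ℕ, 0 < q → IsZero ((R.rightDerived q).obj S.X₂) := fun q hq => by
      obtain ⟨m, rfl⟩ : ∃ m, q = m + 1 := ⟨q - 1, by omega⟩
      exact Functor.isZero_rightDerived_obj_injective_succ R m (Injective.under F)
    obtain ⟨hQ, hRS⟩ := (Groth.Agent.S6619.result R S hS).2.1 hF hI
    haveI : Injective S.X₂ := inferInstanceAs (Injective (Injective.under F))
    exact Φ_step adj c S hS hRS n (IH S.X₃ hQ) (IH S.X₂ hI).2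

end General

/-- Let f : X ⟶ Y be a morphism of schemes and F an abelian sheaf on the small étale site of X whose
higher direct images R^q f_* F vanish for all q > 0. Then for every p the canonical map H^p(Y, f_*
F) → H^p(X, F) (pull back along f, then apply the counit f⁻¹ f_* F ⟶ F) is bijective. (Exactness of
f⁻¹, which always holds, is carried as an instance hypothesis.) -/
theorem result {X Y : Scheme.{u}} (f : X ⟶ Y)
    [PreservesFiniteLimits (EtCoh.pull f)] (F : EtCoh.Ab X)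
    (hR : ∀ q : ℕ, 0 < q → IsZero ((EtCoh.Rpush f q).obj F)) (p : ℕ) :
    Function.Bijective (EtLim.HofPush f F p) := by
  haveI : PreservesFiniteColimits (EtCoh.pull f) := by
    have : PreservesColimitsOfSize.{0, 0} (EtCoh.pull f) :=
      (EtCoh.pullPushAdj f).leftAdjoint_preservesColimits
    exact PreservesColimitsOfSize.preservesFiniteColimits _
  haveI : PreservesFiniteLimits (EtCoh.push f) := by
    have : PreservesLimitsOfSize.{0, 0} (EtCoh.push f) :=
      (EtCoh.pullPushAdj f).rightAdjoint_preservesLimits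
    exact PreservesLimitsOfSize.preservesFiniteLimits _
  exact Φ_bijective (EtCoh.pullPushAdj f) (EtCore.pullConst f ℤ).inv p F hR

end Groth.Agent.S14451
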