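import Groth.Statements.S14456
import Mathlib
import Groth.Agent.Lib.Helper8.LocalCrit

set_option autoImplicit false
universe u
open CAlg

namespace Groth.Agent.S14456

/-- Take a local homomorphism A → B between Noetherian local rings, M a finitely generated B-module and
f an element of the maximal ideal of B. If M/f^(n+1)M is flat over A for every n ≥ 0, then M is flat
over A. -/
theorem result {A B : Type u} [CommRing A] [CommRing B]
    [IsNoetherianRing A] [IsNoetherianRing B] [IsLocalRing A] [IsLocalRing B] [Algebra A B]
    [IsLocalHom (algebraMap A B)] (M : Type u) [AddCommGroup M] [Module B M] [Module A M]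
    [IsScalarTower A B M] [Module.Finite B M] (f : B) (hf : f ∈ IsLocalRing.maximalIdeal B)
    (hflat : ∀ n : ℕ, Module.Flat A (M ⧸ (Ideal.span {f ^ (n + 1)} • (⊤ : Submodule B M)))) :
    Module.Flat A M := by
  rw [Module.Flat.iff_lTensor_injective']
  intro 𝔞
  haveI : Module.Finite B (TensorProduct A M 𝔞) :=
    Groth.Agent.Helper8.LocalCrit.finite_tensor A B M 𝔞
  have hne : Ideal.span {f} ≠ (⊤ : Ideal B) := by
    intro h
    have : (1 : B) ∈ IsLocalRing.maximalIdeal B := by
      have h1 : (1 : B) ∈ Ideal.span {f} := by rw [h]; trivial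
      exact (Ideal.span_le.mpr (Set.singleton_subset_iff.mpr hf)) h1
    exact (IsLocalRing.maximalIdeal.isMaximal B).ne_top ((Ideal.eq_top_iff_one _).mpr this)
  have hkrull : (⨅ i : ℕ, (Ideal.span {f}) ^ i • ⊤ : Submodule B (TensorProduct A M 𝔞)) = ⊥ :=
    Ideal.iInf_pow_smul_eq_bot_of_isLocalRing _ hne
  rw [injective_iff_map_eq_zero]
  intro x hx
  have hmem : ∀ n : ℕ, x ∈ ((Ideal.span {f}) ^ (n + 1) • ⊤ :
      Submodule B (TensorProduct A M 𝔞)) := by
    intro n
    haveI := hflat n
    set N : Submodule B M := Ideal.span {f ^ (n + 1)} • (⊤ : Submodule B M) with hN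
    let qA : M →ₗ[A] (M ⧸ N) := N.mkQ.restrictScalars A
    let φ : M →ₗ[A] M := (LinearMap.lsmul B M (f ^ (n + 1))).restrictScalars A
    have hφ : ∀ m, φ m = f ^ (n + 1) • m := fun m => rfl
    have hex : Function.Exact φ qA := by
      intro y
      constructor
      · intro hy
        have hy' : y ∈ N := by
          rw [← Submodule.Quotient.mk_eq_zero]; exact hy
        rw [hN, Submodule.ideal_span_singleton_smul,
          Submodule.mem_smul_pointwise_iff_exists] at hy'
        obtain ⟨z, -, hz⟩ := hy'
        exact ⟨z, hz⟩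
      · rintro ⟨z, rfl⟩
        show N.mkQ (f ^ (n + 1) • z) = 0
        rw [Submodule.mkQ_apply, Submodule.Quotient.mk_eq_zero, hN,
          Submodule.ideal_span_singleton_smul]
        exact Submodule.smul_mem_pointwise_smul _ _ _ trivial
    have hsurj : Function.Surjective qA := N.mkQ_surjective
    have hex' := rTensor_exact 𝔞 hex hsurj
    have h0 : (qA.rTensor 𝔞) x = 0 := by
      have hinj : Function.Injective (𝔞.subtype.lTensor (M ⧸ N)) :=
        Module.Flat.lTensor_preserves_injective_linearMap _ (Submodule.injective_subtype _)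
      apply hinj
      rw [map_zero, ← LinearMap.comp_apply, LinearMap.lTensor_comp_rTensor,
        ← LinearMap.rTensor_comp_lTensor, LinearMap.comp_apply, hx, map_zero]
    obtain ⟨y, rfl⟩ := (hex' x).mp h0
    have hy : ∀ y : TensorProduct A M 𝔞, (φ.rTensor 𝔞) y = f ^ (n + 1) • y := by
      intro y
      induction y using TensorProduct.induction_on with
      | zero => simp
      | tmul m a => rw [LinearMap.rTensor_tmul, hφ, TensorProduct.smul_tmul']
      | add y y' h h' => rw [map_add, h, h', smul_add]
    rw [hy]
    exact Submodule.smul_mem_smul (Ideal.pow_mem_pow (Ideal.mem_span_singleton_self f) _)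
      trivial
  have hall : x ∈ (⨅ i : ℕ, (Ideal.span {f}) ^ i • ⊤ :
      Submodule B (TensorProduct A M 𝔞)) := by
    rw [Submodule.mem_iInf]
    intro i
    cases i with
    | zero => rw [pow_zero, Ideal.one_eq_top, Submodule.top_smul]; trivial
    | succ n => exact hmem n
  rw [hkrull, Submodule.mem_bot] at hall
  exact hall

end Groth.Agent.S14456
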