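import Groth.Statements.S14457
import Mathlib
import Groth.Agent.Lib.Helper4.AdjoinRootEtale

set_option autoImplicit false
universe u
open CAlg

namespace Groth.Agent.S14457

open Polynomial in
/-- Let A be a commutative ring, a an element of A and n ≥ 1 an integer. The A-algebra A[T]/(T^n − a) is
etale exactly when either n = 1 or the product n·a is a unit of A. (The exponent n is a positive
integer here; for n = 0 the quotient is (A/(1 − a))[T] and the equivalence fails.) -/
theorem result (A : Type u) [CommRing A] (a : A) (n : ℕ) (hn : 1 ≤ n) :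
    Algebra.Etale A (AdjoinRoot ((X : A[X]) ^ n - C a)) ↔ n = 1 ∨ IsUnit ((n : A) * a) := by
  classical
  have hn0 : n ≠ 0 := by omega
  have hmonic : ((X : A[X]) ^ n - C a).Monic := monic_X_pow_sub_C a hn0
  have hder : derivative ((X : A[X]) ^ n - C a) = C (n : A) * X ^ (n - 1) := by
    rw [derivative_sub, derivative_X_pow, derivative_C, sub_zero]
  constructor
  · intro h
    by_cases h1 : n = 1
    · exact Or.inl h1
    right
    rcases subsingleton_or_nontrivial A with hA | hA
    · exact isUnit_of_subsingleton _
    have hdeg : ((X : A[X]) ^ n - C a).natDegree = n := natDegree_X_pow_sub_C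
    have h2 : 2 ≤ n := by omega
    have : Algebra.FormallyUnramified A (AdjoinRoot ((X : A[X]) ^ n - C a)) := inferInstance
    have hu := Groth.Agent.Helper4.AdjoinRootEtale.isUnit_derivative_of_formallyUnramified
      ((X : A[X]) ^ n - C a)
    rw [hder] at hu
    simp only [map_mul, aeval_C, map_pow, aeval_X] at hu
    have hun : IsUnit (algebraMap A (AdjoinRoot ((X : A[X]) ^ n - C a)) (n : A)) :=
      isUnit_of_mul_isUnit_left hu
    have hur : IsUnit (AdjoinRoot.root ((X : A[X]) ^ n - C a)) := by
      have := isUnit_of_mul_isUnit_right hu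
      exact (isUnit_pow_iff (by omega)).mp this
    have hroot : (AdjoinRoot.root ((X : A[X]) ^ n - C a)) ^ n =
        algebraMap A (AdjoinRoot ((X : A[X]) ^ n - C a)) a := by
      have h0 : aeval (AdjoinRoot.root ((X : A[X]) ^ n - C a)) ((X : A[X]) ^ n - C a) = 0 := by
        rw [AdjoinRoot.aeval_eq, AdjoinRoot.mk_self]
      simp only [map_sub, map_pow, aeval_X, aeval_C] at h0
      exact sub_eq_zero.mp h0
    have hua : IsUnit (algebraMap A (AdjoinRoot ((X : A[X]) ^ n - C a)) a) := by
      rw [← hroot]; exact hur.pow n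
    have hfin : IsUnit (algebraMap A (AdjoinRoot ((X : A[X]) ^ n - C a)) ((n : A) * a)) := by
      rw [map_mul]; exact hun.mul hua
    exact Groth.Agent.Helper4.AdjoinRootEtale.isUnit_of_isUnit_algebraMap _ hmonic
      (by rw [hdeg]; omega) _ hfin
  · rintro (h1 | hu)
    · refine Groth.Agent.Helper4.AdjoinRootEtale.etale_of_bezout _ hmonic 1 0 ?_
      rw [hder, h1]
      simp
    · obtain ⟨u, hu⟩ := hu.exists_right_inv
      obtain ⟨m, rfl⟩ : ∃ m, n = m + 1 := ⟨n - 1, by omega⟩
      refine Groth.Agent.Helper4.AdjoinRootEtale.etale_of_bezout _ hmonic (C u * X)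
        (- C (u * ((m + 1 : ℕ) : A))) ?_
      rw [hder]
      have hu' : (C ((m + 1 : ℕ) : A) : A[X]) * C a * C u = 1 := by
        rw [← C_mul, ← C_mul, hu, C_1]
      rw [Nat.add_sub_cancel, C_mul]
      linear_combination hu'

end Groth.Agent.S14457
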