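import Groth.Statements.S14462
import Groth.Agent.H29.FinFlatEtale

set_option autoImplicit false
universe u
open CategoryTheory AlgebraicGeometry
open Unram

namespace Groth.Agent.S14462


/-- Restricting to affine opens inside `f ⁻¹ᵁ U`: the maps `f.appLE V W'` are étale. -/
theorem appLE_etale_of_le {X Y : Scheme.{u}} (f : X ⟶ Y) (U : Y.Opens) [Etale (f ∣_ U)]
    {V : Y.Opens} (hV : IsAffineOpen V) {W' : X.Opens} (hW' : IsAffineOpen W')
    (hWU : W' ≤ f ⁻¹ᵁ U) (e : W' ≤ f ⁻¹ᵁ V) : (f.appLE V W' e).hom.Etale := by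
  have h1 : Etale (X.homOfLE hWU ≫ (f ∣_ U) ≫ U.ι) := inferInstance
  have h2 : X.homOfLE hWU ≫ (f ∣_ U) ≫ U.ι = W'.ι ≫ f := by
    rw [morphismRestrict_ι, ← Category.assoc, Scheme.homOfLE_ι]
  rw [h2] at h1
  have : IsAffine W'.toScheme := hW'
  have e' : (⊤ : W'.toScheme.Opens) ≤ (W'.ι ≫ f) ⁻¹ᵁ V := by
    intro x _
    exact e x.2
  have h3 := HasRingHomProperty.appLE @Etale (W'.ι ≫ f) h1 ⟨V, hV⟩ ⟨⊤, isAffineOpen_top _⟩ e'
  rw [Scheme.Hom.comp_appLE, Scheme.Opens.ι_appLE] at h3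
  have h5 : (f.appLE V (W'.ι ''ᵁ ⊤) (Set.image_subset_iff.mpr e')).hom.Etale := h3
  exact (f.appLE_congr _ rfl W'.ι_image_top (fun f => RingHom.Etale f.hom)).mp h5

/-- Main claim on an affine open `V ⊆ Y`. -/
theorem app_etale {X Y : Scheme.{u}} [IsLocallyNoetherian Y]
    (f : X ⟶ Y) [IsFinite f] [Flat f] (U : Y.Opens)
    (hU : ∀ y : Y, y ∉ U → (2 : WithBot ℕ∞) ≤ ringKrullDim (Y.presheaf.stalk y))
    [Etale (f ∣_ U)] {V : Y.Opens} (hV : IsAffineOpen V) : (f.app V).hom.Etale := by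
  have hfV : IsAffineOpen (f ⁻¹ᵁ V) := hV.preimage f
  letI : Algebra Γ(Y, V) Γ(X, f ⁻¹ᵁ V) := (f.app V).hom.toAlgebra
  have hN : IsNoetherianRing Γ(Y, V) := IsLocallyNoetherian.component_noetherian ⟨V, hV⟩
  have hFin : Module.Finite Γ(Y, V) Γ(X, f ⁻¹ᵁ V) := f.finite_app V hV
  have hFlat : Module.Flat Γ(Y, V) Γ(X, f ⁻¹ᵁ V) := by
    have := f.flat_appLE hV hfV le_rfl
    rwa [Scheme.Hom.appLE_eq_app] at this
  have hFP : Algebra.FinitePresentation Γ(Y, V) Γ(X, f ⁻¹ᵁ V) :=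
    Algebra.FinitePresentation.of_finiteType.mp inferInstance
  show Algebra.Etale Γ(Y, V) Γ(X, f ⁻¹ᵁ V)
  apply Groth.Agent.H29.FinFlatEtale.etale_of_finite_flat _ _
    {p : PrimeSpectrum Γ(Y, V) | hV.fromSpec p ∈ U}
  · intro p hp
    have hy : hV.fromSpec p ∈ V := by
      have : hV.fromSpec p ∈ Set.range hV.fromSpec := ⟨p, rfl⟩
      rwa [hV.range_fromSpec] at this
    have h2 := hU (hV.fromSpec p) hp
    have hloc := hV.isLocalization_stalk' p hy
    letI := TopCat.Presheaf.algebra_section_stalk Y.presheaf ⟨hV.fromSpec p, hy⟩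
    haveI : IsLocalization.AtPrime (Y.presheaf.stalk (hV.fromSpec p)) p.asIdeal := hloc
    have e := IsLocalization.algEquiv p.asIdeal.primeCompl (Localization.AtPrime p.asIdeal)
      (Y.presheaf.stalk (hV.fromSpec p))
    rw [ringKrullDim_eq_of_ringEquiv e.toRingEquiv]
    exact h2
  · intro q hq
    have hxV : hfV.fromSpec q ∈ f ⁻¹ᵁ V := by
      have : hfV.fromSpec q ∈ Set.range hfV.fromSpec := ⟨q, rfl⟩
      rwa [hfV.range_fromSpec] at this
    have hnat := IsAffineOpen.SpecMap_appLE_fromSpec f hV hfV le_rfl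
    rw [Scheme.Hom.appLE_eq_app] at hnat
    have hfx : f (hfV.fromSpec q) = hV.fromSpec (q.comap (algebraMap Γ(Y, V) Γ(X, f ⁻¹ᵁ V))) := by
      have h := congrArg (fun g : Spec Γ(X, f ⁻¹ᵁ V) ⟶ Y => g q) hnat
      simp only [Scheme.Hom.comp_apply] at h
      rw [← h]
      rfl
    have hxU : hfV.fromSpec q ∈ f ⁻¹ᵁ U := by
      show f (hfV.fromSpec q) ∈ U
      rw [hfx]
      exact hq
    obtain ⟨b, hbU, hxb⟩ := hfV.exists_basicOpen_le (V := f ⁻¹ᵁ U) ⟨_, hxU⟩ hxV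
    have hbq : q ∈ (PrimeSpectrum.basicOpen b : Set (PrimeSpectrum Γ(X, f ⁻¹ᵁ V))) := by
      have h1 : q ∈ hfV.fromSpec ⁻¹ᵁ X.basicOpen b := hxb
      rw [hfV.fromSpec_preimage_basicOpen b] at h1
      exact h1
    have het' := appLE_etale_of_le f U hV (hfV.basicOpen b) hbU (X.basicOpen_le b)
    letI : Algebra Γ(Y, V) Γ(X, X.basicOpen b) :=
      (f.appLE V (X.basicOpen b) (X.basicOpen_le b)).hom.toAlgebra
    haveI : IsScalarTower Γ(Y, V) Γ(X, f ⁻¹ᵁ V) Γ(X, X.basicOpen b) :=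
      IsScalarTower.of_algebraMap_eq' rfl
    have hEt : Algebra.Etale Γ(Y, V) Γ(X, X.basicOpen b) := het'
    have hloc : IsLocalization.Away b Γ(X, X.basicOpen b) := hfV.isLocalization_basicOpen b
    let eqv : Γ(X, X.basicOpen b) ≃ₐ[Γ(X, f ⁻¹ᵁ V)] Localization.Away b :=
      IsLocalization.algEquiv (Submonoid.powers b) _ _
    have hEt' : Algebra.Etale Γ(Y, V) (Localization.Away b) :=
      Algebra.Etale.of_equiv (eqv.restrictScalars Γ(Y, V))
    exact (Algebra.basicOpen_subset_etaleLocus_iff_etale.mpr hEt') hbq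

/-- Let f : X → Y be finite and flat with Y locally Noetherian, and let U ⊆ Y be open with every point
of the complement having a local ring of Krull dimension at least 2. If f is étale over U, then f is
étale. -/
theorem result {X Y : Scheme.{u}} [IsLocallyNoetherian Y]
    (f : X ⟶ Y) [IsFinite f] [Flat f] (U : Y.Opens)
    (hU : ∀ y : Y, y ∉ U → (2 : WithBot ℕ∞) ≤ ringKrullDim (Y.presheaf.stalk y))
    [Etale (f ∣_ U)] : Etale f := by
  refine ⟨fun {V} hV {W'} hW' e => ?_⟩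
  have hfV : IsAffineOpen (f ⁻¹ᵁ V) := hV.preimage f
  have h1 : (f.app V).hom.Etale := app_etale f U hU hV
  have h2 : ((𝟙 X : X ⟶ X).appLE (f ⁻¹ᵁ V) W' e).hom.Etale :=
    Scheme.Hom.etale_appLE (𝟙 X) hfV hW' e
  have h3 : f.appLE V W' e = f.app V ≫ (𝟙 X : X ⟶ X).appLE (f ⁻¹ᵁ V) W' e := by
    simp only [Scheme.Hom.appLE, Scheme.Hom.id_app]
    congr 1
  rw [h3, CommRingCat.hom_comp]
  exact RingHom.Etale.stableUnderComposition _ _ h1 h2

end Groth.Agent.S14462
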