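import Groth.Statements.S14465

set_option autoImplicit false
universe v u
open CategoryTheory CategoryTheory.Limits AlgebraicGeometry
open BigSite

namespace Groth.Agent.S14465


section Helpers

variable {S : Scheme.{u}}

/-- A sieve on `X` over `S` containing a jointly surjective family of open immersions is a Zariski
covering. -/
theorem mem_zariski_over {X : Over S} (R : Sieve X) {I : Type u} (Y : I → Scheme.{u})
    (g : ∀ i, Y i ⟶ X.left) (hg : ∀ i, IsOpenImmersion (g i))
    (hcov : ∀ x : X.left, ∃ i, x ∈ Set.range (g i).base)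
    (h : ∀ i, R (Over.homMk (g i) rfl : Over.mk (g i ≫ X.hom) ⟶ X)) :
    R ∈ Scheme.zariskiTopology.over S X := by
  rw [GrothendieckTopology.mem_over_iff]
  have hmem : Presieve.ofArrows Y g ∈ Scheme.precoverage @IsOpenImmersion X.left := by
    rw [Scheme.ofArrows_mem_precoverage_iff]
    exact ⟨hcov, hg⟩
  refine GrothendieckTopology.superset_covering _ ?_ (Precoverage.generate_mem_toGrothendieck hmem)
  intro Z f hf
  obtain ⟨W, a, b, hb, rfl⟩ := hf
  cases hb with
  | mk i =>
    rw [Sieve.overEquiv_iff]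
    have e : (Over.homMk (a ≫ g i) rfl : Over.mk ((a ≫ g i) ≫ X.hom) ⟶ X) =
        (Over.homMk a (Category.assoc _ _ _).symm :
          Over.mk ((a ≫ g i) ≫ X.hom) ⟶ Over.mk (g i ≫ X.hom)) ≫ Over.homMk (g i) rfl := by
      apply Over.OverMorphism.ext
      rfl
    rw [e]
    exact R.downward_closed (h i) _

theorem exists_of_mem_zariski_over {X : Over S} (R : Sieve X)
    (hR : R ∈ Scheme.zariskiTopology.over S X) (x : X.left) :
    ∃ (Y : Scheme.{u}) (g : Y ⟶ X.left), IsOpenImmersion g ∧ x ∈ Set.range g.base ∧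
      R (Over.homMk g rfl : Over.mk (g ≫ X.hom) ⟶ X) := by
  rw [GrothendieckTopology.mem_over_iff, Scheme.mem_grothendieckTopology_iff] at hR
  obtain ⟨𝒰, h𝒰⟩ := hR
  refine ⟨𝒰.X (𝒰.idx x), 𝒰.f (𝒰.idx x), 𝒰.map_prop _, 𝒰.covers x, ?_⟩
  have h1 := h𝒰 _ _ (Presieve.ofArrows.mk (𝒰.idx x))
  rwa [Sieve.overEquiv_iff] at h1

variable (F : (Over S)ᵒᵖ ⥤ Type v)

theorem mem_finest_of_zariski (hZ : Presieve.IsSheaf (Scheme.zariskiTopology.over S) F)
    {X : Over S} (R : Sieve X) (hR : R ∈ Scheme.zariskiTopology.over S X) :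
    R ∈ Sheaf.finestTopologySingle F X := by
  intro Y f
  exact hZ _ ((Scheme.zariskiTopology.over S).pullback_stable f hR)

theorem single_mem_finest (C : MorphismProperty Scheme.{u}) [C.IsStableUnderBaseChange]
    (hC : ∀ (X X' : Over S) (f : X' ⟶ X), C f.left → Presieve.IsSheafFor F (Presieve.singleton f))
    {X X' : Over S} (f : X' ⟶ X) (hf : C f.left) :
    Sieve.generate (Presieve.singleton f) ∈ Sheaf.finestTopologySingle F X := by
  intro Y g
  rw [← Sieve.pullbackArrows_comm, Presieve.pullback_singleton,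
    ← Presieve.isSheafFor_iff_generate]
  apply hC
  have sq : IsPullback (pullback.fst f g).left (pullback.snd f g).left f.left g.left :=
    (IsPullback.of_hasPullback f g).map (Over.forget S)
  exact MorphismProperty.of_isPullback (P := C) sq hf

theorem mem_finest_of_data (C : MorphismProperty Scheme.{u}) [C.IsStableUnderBaseChange]
    (hZ : Presieve.IsSheaf (Scheme.zariskiTopology.over S) F)
    (hC : ∀ (X X' : Over S) (f : X' ⟶ X), C f.left → Presieve.IsSheafFor F (Presieve.singleton f))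
    {X : Over S} (R : Sieve X)
    (h : ∃ (ι : Type u) (U : ι → X.left.Opens), (∀ i, IsAffineOpen (U i)) ∧ ⨆ i, U i = ⊤ ∧
        ∀ i, ∃ (κ : Type u) (_ : Finite κ) (V : κ → Over S) (φ : ∀ j, V j ⟶ X)
          (ψ : ∀ j, (V j).left ⟶ (U i : Scheme.{u})),
          (∀ j, IsAffine (V j).left) ∧ (∀ j, R.arrows (φ j)) ∧ (∀ j, ψ j ≫ (U i).ι = (φ j).left) ∧
            C (Limits.Sigma.desc ψ)) :
    R ∈ Sheaf.finestTopologySingle F X := by
  obtain ⟨ι, U, -, hUsup, hdata⟩ := h
  have step : ∀ i, R.pullback (Over.homMk (U i).ι rfl : Over.mk ((U i).ι ≫ X.hom) ⟶ X) ∈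
      Sheaf.finestTopologySingle F (Over.mk ((U i).ι ≫ X.hom)) := by
    intro i
    obtain ⟨κ, _, V, φ, ψ, -, hφR, hψ, hCσ⟩ := hdata i
    obtain ⟨σ, hσ⟩ : ∃ σ : (∐ fun j => (V j).left) ⟶ (U i : Scheme.{u}), σ = Sigma.desc ψ :=
      ⟨_, rfl⟩
    rw [← hσ] at hCσ
    have hισ : ∀ j, Sigma.ι (fun j => (V j).left) j ≫ σ = ψ j := by
      intro j
      rw [hσ, Sigma.ι_desc]
    let σ' : Over.mk (σ ≫ (U i).ι ≫ X.hom) ⟶ Over.mk ((U i).ι ≫ X.hom) := Over.homMk σ rfl
    have h1 : Sieve.generate (Presieve.singleton σ') ∈ Sheaf.finestTopologySingle F _ :=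
      single_mem_finest F C hC σ' hCσ
    refine (Sheaf.finestTopologySingle F).transitive h1 _ ?_
    intro Y f hf
    obtain ⟨W, a, b, hb, rfl⟩ := hf
    cases hb
    rw [Sieve.pullback_comp]
    refine (Sheaf.finestTopologySingle F).pullback_stable a ?_
    refine mem_finest_of_zariski F hZ _ (mem_zariski_over _ (fun j => (V j).left)
      (fun j => Sigma.ι (fun j => (V j).left) j) (fun j => inferInstance) ?_ ?_)
    · intro x
      obtain ⟨j, y, hy⟩ := (sigmaOpenCover (fun j => (V j).left)).exists_eq x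
      exact ⟨j, y, hy⟩
    · intro j
      change R (((Over.homMk (Sigma.ι (fun j => (V j).left) j) rfl :
        Over.mk (Sigma.ι (fun j => (V j).left) j ≫ σ ≫ (U i).ι ≫ X.hom) ⟶
          Over.mk (σ ≫ (U i).ι ≫ X.hom)) ≫ σ') ≫ Over.homMk (U i).ι rfl)
      have hw : 𝟙 (V j).left ≫ (V j).hom =
          Sigma.ι (fun j => (V j).left) j ≫ σ ≫ (U i).ι ≫ X.hom := by
        rw [Category.id_comp, ← Category.assoc, hισ, ← Category.assoc, hψ, Over.w]
      have e : ((Over.homMk (Sigma.ι (fun j => (V j).left) j) rfl :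
          Over.mk (Sigma.ι (fun j => (V j).left) j ≫ σ ≫ (U i).ι ≫ X.hom) ⟶
            Over.mk (σ ≫ (U i).ι ≫ X.hom)) ≫ σ') ≫ Over.homMk (U i).ι rfl =
          (Over.homMk (𝟙 (V j).left) hw :
            Over.mk (Sigma.ι (fun j => (V j).left) j ≫ σ ≫ (U i).ι ≫ X.hom) ⟶ V j) ≫ φ j := by
        apply Over.OverMorphism.ext
        change (Sigma.ι (fun j => (V j).left) j ≫ σ) ≫ (U i).ι = 𝟙 _ ≫ (φ j).left
        rw [hισ, hψ, Category.id_comp]
      rw [e]
      exact R.downward_closed (hφR j) _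
  have hZar : Sieve.generate (Presieve.ofArrows (fun i => Over.mk ((U i).ι ≫ X.hom))
      (fun i => (Over.homMk (U i).ι rfl : Over.mk ((U i).ι ≫ X.hom) ⟶ X))) ∈
      Sheaf.finestTopologySingle F X := by
    refine mem_finest_of_zariski F hZ _ (mem_zariski_over _ (fun i => (U i : Scheme.{u}))
      (fun i => (U i).ι) (fun i => inferInstance) ?_ ?_)
    · intro x
      have hx : x ∈ (⨆ i, U i : X.left.Opens) := by
        rw [hUsup]
        trivial
      obtain ⟨i, hi⟩ := TopologicalSpace.Opens.mem_iSup.mp hx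
      exact ⟨i, by rw [Scheme.Opens.range_ι]; exact hi⟩
    · intro i
      exact Sieve.le_generate _ _ _ (Presieve.ofArrows.mk i)
  refine (Sheaf.finestTopologySingle F).transitive hZar _ ?_
  intro Y f hf
  obtain ⟨W, a, b, hb, rfl⟩ := hf
  cases hb with
  | mk i =>
    rw [Sieve.pullback_comp]
    exact (Sheaf.finestTopologySingle F).pullback_stable a (step i)

omit F in
theorem zariski_le (C : MorphismProperty Scheme.{u})
    (haff : ∀ (U : Scheme.{u}) [IsAffine U] (κ : Type u) [Finite κ] (V : κ → U.Opens),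
      (∀ j, IsAffineOpen (V j)) → ⨆ j, V j = ⊤ → C (Limits.Sigma.desc fun j => (V j).ι))
    (J : GrothendieckTopology (Over S))
    (hJ : ∀ (X : Over S) (R : Sieve X), R ∈ J X ↔
      ∃ (ι : Type u) (U : ι → X.left.Opens), (∀ i, IsAffineOpen (U i)) ∧ ⨆ i, U i = ⊤ ∧
        ∀ i, ∃ (κ : Type u) (_ : Finite κ) (V : κ → Over S) (φ : ∀ j, V j ⟶ X)
          (ψ : ∀ j, (V j).left ⟶ (U i : Scheme.{u})),
          (∀ j, IsAffine (V j).left) ∧ (∀ j, R.arrows (φ j)) ∧ (∀ j, ψ j ≫ (U i).ι = (φ j).left) ∧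
            C (Limits.Sigma.desc ψ))
    {X : Over S} (R : Sieve X) (hR : R ∈ Scheme.zariskiTopology.over S X) : R ∈ J X := by
  rw [hJ]
  have hex := exists_of_mem_zariski_over R hR
  choose Y g hg hx hRg using hex
  have hW : ∀ x : X.left, ∃ W : X.left.Opens, IsAffineOpen W ∧ x ∈ W ∧
      W.1 ⊆ (g x).opensRange := fun x =>
    exists_isAffineOpen_mem_and_subset (x := x) (U := (g x).opensRange) (hx x)
  choose W hWaff hxW hWsub using hW
  refine ⟨X.left, W, hWaff, ?_, ?_⟩
  · exact top_le_iff.mp (fun x _ => TopologicalSpace.Opens.mem_iSup.mpr ⟨x, hxW x⟩)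
  · intro x
    have : IsAffine (W x : Scheme.{u}) := hWaff x
    obtain ⟨l, hl⟩ : ∃ l : (W x : Scheme.{u}) ⟶ Y x, l ≫ g x = (W x).ι :=
      ⟨IsOpenImmersion.lift (g x) (W x).ι (by rw [Scheme.Opens.range_ι]; exact hWsub x),
        IsOpenImmersion.lift_fac _ _ _⟩
    refine ⟨PUnit.{u+1}, inferInstance,
      fun _ => Over.mk (((⊤ : (W x : Scheme.{u}).Opens).ι ≫ (W x).ι) ≫ X.hom),
      fun _ => Over.homMk ((⊤ : (W x : Scheme.{u}).Opens).ι ≫ (W x).ι) rfl,
      fun _ => (⊤ : (W x : Scheme.{u}).Opens).ι, ?_, ?_, ?_, ?_⟩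
    · intro _
      exact isAffineOpen_top _
    · intro _
      have hw : ((⊤ : (W x : Scheme.{u}).Opens).ι ≫ l) ≫ g x ≫ X.hom =
          ((⊤ : (W x : Scheme.{u}).Opens).ι ≫ (W x).ι) ≫ X.hom := by
        rw [Category.assoc, ← Category.assoc l, hl, Category.assoc]
      have e : (Over.homMk ((⊤ : (W x : Scheme.{u}).Opens).ι ≫ (W x).ι) rfl :
          Over.mk (((⊤ : (W x : Scheme.{u}).Opens).ι ≫ (W x).ι) ≫ X.hom) ⟶ X) =
          (Over.homMk ((⊤ : (W x : Scheme.{u}).Opens).ι ≫ l) hw :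
            Over.mk (((⊤ : (W x : Scheme.{u}).Opens).ι ≫ (W x).ι) ≫ X.hom) ⟶
              Over.mk (g x ≫ X.hom)) ≫ Over.homMk (g x) rfl := by
        apply Over.OverMorphism.ext
        change (⊤ : (W x : Scheme.{u}).Opens).ι ≫ (W x).ι =
          ((⊤ : (W x : Scheme.{u}).Opens).ι ≫ l) ≫ g x
        rw [Category.assoc, hl]
      beta_reduce
      rw [e]
      exact R.downward_closed (hRg x) _
    · intro _
      rfl
    · exact haff (W x : Scheme.{u}) PUnit.{u+1} (fun _ => ⊤) (fun _ => isAffineOpen_top _)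
        (by simp)

omit F in
theorem single_mem_J (C : MorphismProperty Scheme.{u}) [C.IsStableUnderBaseChange]
    (hqc : ∀ {A B : Scheme.{u}} (f : A ⟶ B), C f → QuasiCompact f)
    (hres : ∀ (W X' : Scheme.{u}) [IsAffine W] (f : X' ⟶ W), C f →
      ∀ (κ : Type u) [Finite κ] (A : κ → X'.Opens), (∀ l, IsAffineOpen (A l)) → ⨆ l, A l = ⊤ →
        C (Limits.Sigma.desc fun l => (A l).ι ≫ f))
    (J : GrothendieckTopology (Over S))
    (hJ : ∀ (X : Over S) (R : Sieve X), R ∈ J X ↔
      ∃ (ι : Type u) (U : ι → X.left.Opens), (∀ i, IsAffineOpen (U i)) ∧ ⨆ i, U i = ⊤ ∧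
        ∀ i, ∃ (κ : Type u) (_ : Finite κ) (V : κ → Over S) (φ : ∀ j, V j ⟶ X)
          (ψ : ∀ j, (V j).left ⟶ (U i : Scheme.{u})),
          (∀ j, IsAffine (V j).left) ∧ (∀ j, R.arrows (φ j)) ∧ (∀ j, ψ j ≫ (U i).ι = (φ j).left) ∧
            C (Limits.Sigma.desc ψ))
    {X X' : Over S} (f : X' ⟶ X) (hf : C f.left) :
    Sieve.generate (Presieve.singleton f) ∈ J X := by
  rw [hJ]
  refine ⟨X.left.affineOpens, fun i => i.1, fun i => i.2, iSup_affineOpens_eq_top X.left, ?_⟩
  rintro ⟨U, hU⟩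
  have : IsAffine (U : Scheme.{u}) := hU
  have hCU : C (f.left ∣_ U) :=
    MorphismProperty.of_isPullback (P := C) (isPullback_morphismRestrict f.left U).flip hf
  have : QuasiCompact (f.left ∣_ U) := hqc _ hCU
  have : CompactSpace ↥(f.left ⁻¹ᵁ U : Scheme.{u}) :=
    QuasiCompact.compactSpace_of_compactSpace (f.left ∣_ U)
  obtain ⟨𝒱, h𝒱⟩ : ∃ 𝒱 : (f.left ⁻¹ᵁ U : Scheme.{u}).OpenCover,
      𝒱 = (f.left ⁻¹ᵁ U : Scheme.{u}).affineCover.finiteSubcover := ⟨_, rfl⟩
  have hfin : Finite 𝒱.I₀ := by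
    rw [h𝒱]
    infer_instance
  have hXaff : ∀ l : 𝒱.I₀, IsAffine (𝒱.X l) := by
    rw [h𝒱]
    intro l
    change IsAffine ((f.left ⁻¹ᵁ U : Scheme.{u}).affineCover.X _)
    infer_instance
  have hA : ∀ l : 𝒱.I₀, IsAffineOpen (𝒱.f l).opensRange := fun l =>
    isAffineOpen_opensRange (𝒱.f l)
  have hsup : ⨆ l, (𝒱.f l).opensRange = ⊤ := 𝒱.iSup_opensRange
  have hCA := hres (U : Scheme.{u}) (f.left ⁻¹ᵁ U : Scheme.{u}) (f.left ∣_ U) hCU 𝒱.I₀
    (fun l => (𝒱.f l).opensRange) hA hsup
  refine ⟨𝒱.I₀, hfin,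
    fun l => Over.mk ((((𝒱.f l).opensRange).ι ≫ (f.left ⁻¹ᵁ U).ι) ≫ X'.hom),
    fun l => Over.homMk ((((𝒱.f l).opensRange).ι ≫ (f.left ⁻¹ᵁ U).ι) ≫ f.left)
      (by rw [Category.assoc, Over.w f]; rfl),
    fun l => ((𝒱.f l).opensRange).ι ≫ f.left ∣_ U, ?_, ?_, ?_, hCA⟩
  · intro l
    exact hA l
  · intro l
    exact ⟨X', Over.homMk (((𝒱.f l).opensRange).ι ≫ (f.left ⁻¹ᵁ U).ι) rfl, f,
      Presieve.singleton.mk, by apply Over.OverMorphism.ext; rfl⟩
  · intro l
    change (_ ≫ f.left ∣_ U) ≫ U.ι = (_ ≫ _) ≫ f.left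
    rw [Category.assoc, morphismRestrict_ι, Category.assoc]

end Helpers

/-- Fix a scheme S and a class C of quasi-compact morphisms of schemes, stable under composition and
base change, closed under finite coproducts, and containing ∐_j V_j → U for every finite affine open
cover (V_j) of an affine scheme U. Assume moreover that for every morphism f : X' → W in C with W
affine and every finite affine open cover (A_l) of X', the induced morphism ∐_l A_l → W lies in C.
Let J be the Grothendieck topology on S-schemes whose covering sieves are those admitting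
affine-local finite C-covering data (an affine open cover (U_i) of X and, for each i, finitely many
affine S-schemes V_j → X in the sieve factoring through U_i with ∐_j V_j → U_i in C). Then a
presheaf of types on S-schemes is a J-sheaf if and only if it is a sheaf for the big Zariski
topology on S-schemes and satisfies the sheaf condition for every single S-morphism X' → X whose
underlying morphism of schemes lies in C. (The published statement does not assume the hypothesis on
finite affine open covers of the source of a C-morphism with affine target; its proof uses that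
hypothesis, through an unproved equivalence between arbitrary and affine covering data, to see that
the sieve generated by a C-morphism is covering. The hypothesis holds for the classes of fpqc
morphisms, of fppf morphisms and of surjective étale quasi-compact morphisms. The published
statement also allows a local property of S-schemes preserved by the class; this row takes no such
property and a class of morphisms of schemes.) -/
theorem result (S : Scheme.{u})
    (C : MorphismProperty Scheme.{u}) [C.IsStableUnderComposition] [C.IsStableUnderBaseChange]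
    (hqc : ∀ {A B : Scheme.{u}} (f : A ⟶ B), C f → QuasiCompact f)
    (hcoprod : ∀ (κ : Type u) [Finite κ] (A B : κ → Scheme.{u}) (f : ∀ j, A j ⟶ B j),
      (∀ j, C (f j)) → C (Limits.Sigma.map f))
    (haff : ∀ (U : Scheme.{u}) [IsAffine U] (κ : Type u) [Finite κ] (V : κ → U.Opens),
      (∀ j, IsAffineOpen (V j)) → ⨆ j, V j = ⊤ → C (Limits.Sigma.desc fun j => (V j).ι))
    (hres : ∀ (W X' : Scheme.{u}) [IsAffine W] (f : X' ⟶ W), C f →
      ∀ (κ : Type u) [Finite κ] (A : κ → X'.Opens), (∀ l, IsAffineOpen (A l)) → ⨆ l, A l = ⊤ →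
        C (Limits.Sigma.desc fun l => (A l).ι ≫ f))
    (J : GrothendieckTopology (Over S))
    (hJ : ∀ (X : Over S) (R : Sieve X), R ∈ J X ↔
      ∃ (ι : Type u) (U : ι → X.left.Opens), (∀ i, IsAffineOpen (U i)) ∧ ⨆ i, U i = ⊤ ∧
        ∀ i, ∃ (κ : Type u) (_ : Finite κ) (V : κ → Over S) (φ : ∀ j, V j ⟶ X)
          (ψ : ∀ j, (V j).left ⟶ (U i : Scheme.{u})),
          (∀ j, IsAffine (V j).left) ∧ (∀ j, R.arrows (φ j)) ∧ (∀ j, ψ j ≫ (U i).ι = (φ j).left) ∧
            C (Limits.Sigma.desc ψ))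
    (F : (Over S)ᵒᵖ ⥤ Type v) :
    Presieve.IsSheaf J F ↔
      (Presieve.IsSheaf (Scheme.zariskiTopology.over S) F ∧
        ∀ (X X' : Over S) (f : X' ⟶ X), C f.left → Presieve.IsSheafFor F (Presieve.singleton f)) := by
  constructor
  · intro hF
    refine ⟨Presieve.isSheaf_of_le F ?_ hF, ?_⟩
    · intro X R hR
      exact zariski_le C haff J hJ R hR
    · intro X X' f hf
      rw [Presieve.isSheafFor_iff_generate]
      exact hF _ (single_mem_J C hqc hres J hJ f hf)
  · rintro ⟨hZ, hC⟩ X R hR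
    have h1 := mem_finest_of_data F C hZ hC R ((hJ X R).mp hR) X (𝟙 X)
    rwa [Sieve.pullback_id] at h1

end Groth.Agent.S14465
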