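import Groth.Statements.S1447
import Groth.Agent.Lib.Helper18.FibDeg5

set_option autoImplicit false
universe u
open FlatMor

namespace Groth.Agent.S1447

open AlgebraicGeometry CategoryTheory Limits in
/-- For a separated, flat, locally quasi-finite morphism f : X → S which is locally of finite
presentation, assume the fibres of f over all field-valued points have rank (of their ring of global
functions) at most n. Then there is a function deg : S → ℕ bounded by n with every sublevel set {deg
≤ r} closed (equivalently a chain of closed subsets ∅ ⊂ Z_0 ⊂ ... ⊂ Z_n = S with strata {deg = r})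
such that for every morphism g : T → S and every r, deg ∘ g is constant with value r exactly when
the base change of f along g is finite locally free of degree r. -/
theorem result {X S : Scheme.{u}} (f : X ⟶ S) [Flat f] [LocallyOfFinitePresentation f] [IsSeparated f] [LocallyQuasiFinite f]
    (n : ℕ) (hn : ∀ (K : Type u) [Field K] (g : Spec (CommRingCat.of K) ⟶ S), (letI := ((Scheme.ΓSpecIso (CommRingCat.of K)).inv ≫ (pullback.snd f g).appTop).hom.toAlgebra
        Module.rank K (Γ(pullback f g, ⊤) : Type u)) ≤ (n : Cardinal.{u})) :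
    ∃ deg : ↑S → ℕ, (∀ s, deg s ≤ n) ∧ (∀ r : ℕ, IsClosed {s : ↑S | deg s ≤ r}) ∧
      ∀ (T : Scheme.{u}) (g : T ⟶ S) (r : ℕ), Mor2.IsFinLocFreeOfDeg r (pullback.snd f g) ↔ ∀ t : T, deg (g t) = r := by
  classical
  have hfin : ∀ s : S, (f ⁻¹' {s}).Finite := by
    intro s
    by_contra hinf
    have hinfP : Infinite ↥(pullback f (S.fromSpecResidueField s)) := by
      rw [← not_finite_iff_infinite]
      intro hF
      apply hinf
      haveI : Finite ↥(f.fiber s) := hF
      haveI : Finite ↥(f ⁻¹' {s}) := Finite.of_equiv _ (f.fiberHomeo s).toEquiv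
      exact Set.toFinite _
    obtain ⟨O, -, hF, hO⟩ := Groth.Agent.Helper18.FibDeg.exists_big_piece
      (K := ↑(S.residueField s)) (pullback.snd f (S.fromSpecResidueField s)) hinfP (n + 1)
    haveI := Groth.Agent.Helper18.FibDeg.discreteTopology_of_lqf (K := ↑(S.residueField s))
      (pullback.snd f (S.fromSpecResidueField s))
    have hp : Groth.Agent.Helper18.FibDeg.HasPieceK
        (pullback.snd f (S.fromSpecResidueField s)) (n + 1) :=
      ⟨O, isClosed_discrete _, hF, hO⟩
    have h1 := (Groth.Agent.Helper18.FibDeg.hasPieceK_iff_rank (K := ↑(S.residueField s))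
      (pullback.snd f (S.fromSpecResidueField s)) (n + 1)).mp hp
    have h2 := hn ↑(S.residueField s) (S.fromSpecResidueField s)
    have h3 := le_trans h1 h2
    rw [Nat.cast_le] at h3
    omega
  refine ⟨Groth.Agent.Helper18.FibDeg.deg f, ?_,
    Groth.Agent.Helper18.FibDeg.isClosed_deg_le f hfin,
    fun T g r => Groth.Agent.Helper18.FibDeg.main_iff f hfin g r⟩
  intro s
  have hp := (Groth.Agent.Helper18.FibDeg.hasPiece_iff_le_deg f s (hfin s)
    (Groth.Agent.Helper18.FibDeg.deg f s)).mpr le_rfl
  have h1 := (Groth.Agent.Helper18.FibDeg.hasPieceK_iff_rank (K := ↑(S.residueField s))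
    (pullback.snd f (S.fromSpecResidueField s)) (Groth.Agent.Helper18.FibDeg.deg f s)).mp hp
  have h2 := hn ↑(S.residueField s) (S.fromSpecResidueField s)
  have h3 := le_trans h1 h2
  rw [Nat.cast_le] at h3
  exact h3

end Groth.Agent.S1447
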