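import Groth.Statements.S14478
import Mathlib
-- import your own Groth.Agent.* helpers here

set_option autoImplicit false
universe u
open CharCyc

namespace Groth.Agent.S14478

section
variable {k V : Type*} [Field k] [AddCommGroup V] [Module k V] [FiniteDimensional k V]

open Module Submodule

theorem isCompl_of_sup_of_finrank (U C : Submodule k V) (h1 : U ⊔ C = ⊤)
    (h2 : finrank k U + finrank k C = finrank k V) : IsCompl U C := by
  refine ⟨?_, codisjoint_iff.mpr h1⟩
  rw [disjoint_iff]
  have h := Submodule.finrank_sup_add_finrank_inf_eq U C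
  rw [h1, finrank_top] at h
  have : finrank k ↥(U ⊓ C) = 0 := by omega
  exact Submodule.finrank_eq_zero.mp this

theorem finrank_sup_span (U : Submodule k V) (x : V) (hx : x ∉ U) :
    finrank k ↥(U ⊔ span k {x}) = finrank k U + 1 := by
  have hx0 : x ≠ 0 := fun h => hx (h ▸ U.zero_mem)
  have h := Submodule.finrank_sup_add_finrank_inf_eq U (span k {x})
  have hd : U ⊓ span k {x} = ⊥ :=
    disjoint_iff.mp ((Submodule.disjoint_span_singleton' hx0).mpr hx)
  rw [hd, finrank_bot, finrank_span_singleton hx0] at h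
  omega

theorem exists_common_compl : ∀ (m : ℕ) (U₁ U₂ : Submodule k V),
    finrank k U₁ = finrank k U₂ → finrank k U₁ + m = finrank k V →
    ∃ C : Submodule k V, IsCompl U₁ C ∧ IsCompl U₂ C := by
  intro m
  induction m with
  | zero =>
    intro U₁ U₂ h12 h
    have e1 : U₁ = ⊤ := Submodule.eq_top_of_finrank_eq (by omega)
    have e2 : U₂ = ⊤ := Submodule.eq_top_of_finrank_eq (by omega)
    exact ⟨⊥, by rw [e1]; exact isCompl_top_bot, by rw [e2]; exact isCompl_top_bot⟩
  | succ m ih =>
    intro U₁ U₂ h12 h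
    have n1 : U₁ ≠ ⊤ := by
      intro e; rw [e, finrank_top] at h; omega
    have n2 : U₂ ≠ ⊤ := by
      intro e; rw [e, finrank_top] at h12; omega
    obtain ⟨a, -, ha⟩ := SetLike.exists_of_lt (lt_top_iff_ne_top.mpr n1)
    obtain ⟨b, -, hb⟩ := SetLike.exists_of_lt (lt_top_iff_ne_top.mpr n2)
    obtain ⟨x, hx1, hx2⟩ : ∃ x, x ∉ U₁ ∧ x ∉ U₂ := by
      by_cases ha2 : a ∈ U₂
      · by_cases hb1 : b ∈ U₁
        · refine ⟨a + b, fun h' => ha ?_, fun h' => hb ?_⟩
          · have := U₁.sub_mem h' hb1; simpa using this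
          · have := U₂.sub_mem h' ha2; simpa using this
        · exact ⟨b, hb1, hb⟩
      · exact ⟨a, ha, ha2⟩
    have hx0 : x ≠ 0 := fun h' => hx1 (h' ▸ U₁.zero_mem)
    obtain ⟨C', hC1, hC2⟩ := ih (U₁ ⊔ span k {x}) (U₂ ⊔ span k {x})
      (by rw [finrank_sup_span U₁ x hx1, finrank_sup_span U₂ x hx2, h12])
      (by rw [finrank_sup_span U₁ x hx1]; omega)
    have key : ∀ U : Submodule k V, x ∉ U → IsCompl (U ⊔ span k {x}) C' →
        IsCompl U (C' ⊔ span k {x}) := by
      intro U hxU hC
      apply isCompl_of_sup_of_finrank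
      · rw [sup_comm C', ← sup_assoc]; exact hC.sup_eq_top
      · have hxC : x ∉ C' := by
          intro hxC'
          have : x ∈ (U ⊔ span k {x}) ⊓ C' :=
            ⟨mem_sup_right (mem_span_singleton_self x), hxC'⟩
          rw [hC.inf_eq_bot] at this
          exact hx0 ((mem_bot k).mp this)
        have h3 := Submodule.finrank_add_eq_of_isCompl hC
        rw [finrank_sup_span U x hxU] at h3
        rw [finrank_sup_span C' x hxC]
        omega
    exact ⟨C' ⊔ span k {x}, key U₁ hx1 hC1, key U₂ hx2 hC2⟩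

theorem dim_count_gen (M N P : Type*) [AddCommGroup M] [Module k M] [FiniteDimensional k M]
    [AddCommGroup N] [Module k N] [AddCommGroup P] [Module k P]
    (T : Submodule k M) (g : M →ₗ[k] N) (i : P →ₗ[k] M) (hi : Function.Injective i)
    (hig : LinearMap.range i = LinearMap.ker g) :
    finrank k (T.map g) + finrank k (T.comap i) = finrank k T := by
  have h2 := LinearMap.finrank_range_add_finrank_ker (g ∘ₗ T.subtype)
  rw [LinearMap.range_comp, Submodule.range_subtype] at h2
  have h3 : finrank k (LinearMap.ker (g ∘ₗ T.subtype)) = finrank k (T.comap i) := by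
    refine (LinearEquiv.finrank_eq ?_).symm
    have hk : ∀ v : ↥(T.comap i), g (i v.1) = 0 := fun v => by
      have : i v.1 ∈ LinearMap.ker g := by rw [← hig]; exact ⟨v.1, rfl⟩
      exact this
    let e₁ : ↥(T.comap i) →ₗ[k] ↥T :=
      LinearMap.codRestrict T (i ∘ₗ (T.comap i).subtype) (fun v => v.2)
    let e : ↥(T.comap i) →ₗ[k] ↥(LinearMap.ker (g ∘ₗ T.subtype)) :=
      LinearMap.codRestrict _ e₁ (fun v => by
        rw [LinearMap.mem_ker]; exact hk v)
    refine LinearEquiv.ofBijective e ⟨fun v w h => ?_, fun t => ?_⟩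
    · have := congrArg (fun t => (t.1.1)) h
      exact Subtype.ext (hi this)
    · obtain ⟨⟨a, hmem⟩, hker⟩ := t
      have ha : a ∈ LinearMap.ker g := by simpa [LinearMap.mem_ker] using hker
      rw [← hig] at ha
      obtain ⟨p, rfl⟩ := ha
      exact ⟨⟨p, hmem⟩, rfl⟩
  omega

theorem dim_count (T : Submodule k (V × Module.Dual k V)) (hT : finrank k T = finrank k V) :
    finrank k ((T.map (LinearMap.snd k V (Module.Dual k V))).dualCoannihilator) =
      finrank k (T.comap (LinearMap.inl k V (Module.Dual k V))) := by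
  have h1 := Subspace.finrank_add_finrank_dualCoannihilator_eq
    (T.map (LinearMap.snd k V (Module.Dual k V)))
  have h2 := dim_count_gen (V × Module.Dual k V) (Module.Dual k V) V T
    (LinearMap.snd k V (Module.Dual k V)) (LinearMap.inl k V (Module.Dual k V))
    LinearMap.inl_injective (LinearMap.range_inl k V (Module.Dual k V))
  omega

theorem core (T : Submodule k (V × Module.Dual k V)) (V₁ V₂ : Submodule k V)
    (hV₁ : ∀ v, v ∈ V₁ ↔ (v, (0 : Module.Dual k V)) ∈ T) (hc1 : IsCompl V₁ V₂)
    (hc2 : IsCompl (T.map (LinearMap.snd k V (Module.Dual k V))).dualCoannihilator V₂)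
    (A₁ : V₁ →ₗ[k] Module.Dual k V₁) (hA₁ : Function.Injective A₁) :
    LinearMap.graph ((Submodule.projectionOnto V₁ V₂ hc1).dualMap ∘ₗ A₁ ∘ₗ
        Submodule.projectionOnto V₁ V₂ hc1) ⊓ T = ⊥ := by
  rw [eq_bot_iff]
  rintro ⟨v, ξ⟩ ⟨hg0, hT'⟩
  have hg : ξ = ((Submodule.projectionOnto V₁ V₂ hc1).dualMap ∘ₗ A₁ ∘ₗ
        Submodule.projectionOnto V₁ V₂ hc1) v := hg0
  have hξQ : ξ ∈ T.map (LinearMap.snd k V (Module.Dual k V)) := ⟨(v, ξ), hT', rfl⟩
  have hξ0 : ξ = 0 := by
    apply LinearMap.ext
    intro w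
    have hw : w ∈ (T.map (LinearMap.snd k V (Module.Dual k V))).dualCoannihilator ⊔ V₂ := by
      rw [hc2.sup_eq_top]; trivial
    obtain ⟨w₁, hw₁, w₂, hw₂, rfl⟩ := Submodule.mem_sup.mp hw
    rw [map_add, LinearMap.zero_apply]
    have e1 : ξ w₁ = 0 := (Submodule.mem_dualCoannihilator w₁).mp hw₁ ξ hξQ
    have e2 : ξ w₂ = 0 := by
      rw [hg]
      simp only [LinearMap.coe_comp, Function.comp_apply, LinearMap.dualMap_apply]
      rw [(Submodule.projectionOnto_apply_eq_zero_iff hc1).mpr hw₂, map_zero]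
    rw [e1, e2, add_zero]
  have hpv : Submodule.projectionOnto V₁ V₂ hc1 v = 0 := by
    apply hA₁
    rw [map_zero]
    apply LinearMap.ext
    intro u
    obtain ⟨w, rfl⟩ := Submodule.projectionOnto_surjective hc1 u
    have := congrArg (fun η : Module.Dual k V => η w) hg
    simp only [LinearMap.coe_comp, Function.comp_apply, LinearMap.dualMap_apply] at this
    rw [LinearMap.zero_apply, ← this, hξ0, LinearMap.zero_apply]
  have hv2 : v ∈ V₂ := (Submodule.projectionOnto_apply_eq_zero_iff hc1).mp hpv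
  have hv1 : v ∈ V₁ := by
    rw [hV₁, ← hξ0]; exact hT'
  have hv0 : v = 0 := by
    have : v ∈ V₁ ⊓ V₂ := ⟨hv1, hv2⟩
    rw [hc1.inf_eq_bot] at this
    exact (Submodule.mem_bot k).mp this
  rw [Submodule.mem_bot, hv0, hξ0]; rfl

end


/-- Let V be a finite-dimensional vector space over a field k, let W = V × V^∨ with V^∨ the dual space,
and let T ⊆ W be a subspace with dim T = dim V; put V₁ = V ∩ T, where V sits in W as V × 0. Then
there is a complement V₂ of V₁ in V with the following property: for every injective linear map A₁ :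
V₁ → V₁^∨, the map A : V → V^∨ extending A₁ by zero along the decompositions V = V₁ ⊕ V₂ and V^∨ =
V₁^∨ ⊕ V₂^∨ (so A v = A₁(p v) ∘ p, with p : V → V₁ the projection along V₂) has graph Γ ⊆ W with Γ ∩
T = 0. -/
theorem result (k V : Type u) [Field k] [AddCommGroup V] [Module k V]
    [FiniteDimensional k V] (T : Submodule k (V × Module.Dual k V))
    (hT : Module.finrank k T = Module.finrank k V) :
    ∃ (V₂ : Submodule k V) (h : IsCompl (T.comap (LinearMap.inl k V (Module.Dual k V))) V₂),
      ∀ A₁ : T.comap (LinearMap.inl k V (Module.Dual k V)) →ₗ[k]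
          Module.Dual k (T.comap (LinearMap.inl k V (Module.Dual k V))),
        Function.Injective A₁ →
          LinearMap.graph ((Submodule.projectionOnto _ V₂ h).dualMap ∘ₗ A₁ ∘ₗ
              Submodule.projectionOnto _ V₂ h) ⊓ T = ⊥ := by
  obtain ⟨V₂, hc1, hc2⟩ := exists_common_compl
    (Module.finrank k V - Module.finrank k (T.comap (LinearMap.inl k V (Module.Dual k V))))
    (T.comap (LinearMap.inl k V (Module.Dual k V)))
    ((T.map (LinearMap.snd k V (Module.Dual k V))).dualCoannihilator) (dim_count T hT).symm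
    (by have := Submodule.finrank_le (T.comap (LinearMap.inl k V (Module.Dual k V))); omega)
  exact ⟨V₂, hc1, fun A₁ hA₁ => core T _ V₂ (fun v => Iff.rfl) hc1 hc2 A₁ hA₁⟩

end Groth.Agent.S14478
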