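import Groth.Statements.S14479
import Mathlib

set_option autoImplicit false
universe u
open CharCyc

namespace Groth.Agent.S14479

theorem aux (k V : Type u) [Field k] [AddCommGroup V] [Module k V] {ι : Type*} [Fintype ι] [DecidableEq ι]
    (b : Module.Basis ι k V) (M : Matrix ι ι k) (hM : (M + M.transpose).det ≠ 0) :
    ∃ B : LinearMap.BilinForm k V, (B + B.flip).Nondegenerate := by
  refine ⟨Matrix.toBilin b M, ?_⟩
  rw [LinearMap.BilinForm.nondegenerate_iff_det_ne_zero b]
  convert hM using 2
  ext i j
  have h1 : ∀ i j, (Matrix.toBilin b M) (b i) (b j) = M i j := by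
    intro i j
    rw [← LinearMap.BilinForm.toMatrix_apply b, LinearMap.BilinForm.toMatrix_toBilin]
  simp only [LinearMap.BilinForm.toMatrix_apply, LinearMap.add_apply, Matrix.add_apply,
    Matrix.transpose_apply]
  rw [h1]
  congr 1
  exact h1 j i

/-- Let V be a finite-dimensional vector space over a field k. If dim V is even or the characteristic of
k is different from 2, there is a bilinear form B on V such that the bilinear form (v, w) ↦ B(v, w)
+ B(w, v) (B plus its transpose, as a map V → V^∨) is nondegenerate. -/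
theorem result (k V : Type u) [Field k] [AddCommGroup V] [Module k V]
    [FiniteDimensional k V] (h : Even (Module.finrank k V) ∨ ringChar k ≠ 2) :
    ∃ B : LinearMap.BilinForm k V, (B + B.flip).Nondegenerate := by
  rcases h with h | h
  · obtain ⟨m, hm⟩ := h
    have hcard : Fintype.card (Fin m ⊕ Fin m) = Module.finrank k V := by simp [hm]
    let b : Module.Basis (Fin m ⊕ Fin m) k V :=
      (Module.finBasis k V).reindex ((Fintype.equivFinOfCardEq hcard).symm)
    refine aux k V b (Matrix.fromBlocks (0 : Matrix (Fin m) (Fin m) k) (1 : Matrix (Fin m) (Fin m) k) (0 : Matrix (Fin m) (Fin m) k) (0 : Matrix (Fin m) (Fin m) k)) ?_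
    have h2 : (Matrix.fromBlocks (0 : Matrix (Fin m) (Fin m) k) (1 : Matrix (Fin m) (Fin m) k) (0 : Matrix (Fin m) (Fin m) k) (0 : Matrix (Fin m) (Fin m) k) +
        (Matrix.fromBlocks (0 : Matrix (Fin m) (Fin m) k) (1 : Matrix (Fin m) (Fin m) k) (0 : Matrix (Fin m) (Fin m) k) (0 : Matrix (Fin m) (Fin m) k)).transpose) =
        Matrix.fromBlocks (0 : Matrix (Fin m) (Fin m) k) (1 : Matrix (Fin m) (Fin m) k) (1 : Matrix (Fin m) (Fin m) k) (0 : Matrix (Fin m) (Fin m) k) := by
      rw [Matrix.fromBlocks_transpose, Matrix.fromBlocks_add]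
      simp
    rw [h2]
    intro h0
    have h3 : (Matrix.fromBlocks (0 : Matrix (Fin m) (Fin m) k) (1 : Matrix (Fin m) (Fin m) k) (1 : Matrix (Fin m) (Fin m) k) (0 : Matrix (Fin m) (Fin m) k)) *
        (Matrix.fromBlocks (0 : Matrix (Fin m) (Fin m) k) (1 : Matrix (Fin m) (Fin m) k) (1 : Matrix (Fin m) (Fin m) k) (0 : Matrix (Fin m) (Fin m) k)) = 1 := by
      rw [Matrix.fromBlocks_multiply]
      simp [← Matrix.fromBlocks_one]
    have := congrArg Matrix.det h3
    rw [Matrix.det_mul, h0, Matrix.det_one] at this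
    simp at this
  · have h2 : (2 : k) ≠ 0 := Ring.two_ne_zero h
    refine aux k V (Module.finBasis k V) 1 ?_
    rw [Matrix.transpose_one, ← two_smul k (1 : Matrix _ _ k), Matrix.det_smul, Matrix.det_one,
      mul_one]
    exact pow_ne_zero _ h2

end Groth.Agent.S14479
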