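import Groth.Statements.S1449
import Groth.Agent.Lib.Helper18.FibDeg4

set_option autoImplicit false
universe u
open FlatMor

namespace Groth.Agent.S1449

open AlgebraicGeometry CategoryTheory Limits in
/-- Consider a separated, flat, locally quasi-finite morphism f : X → S which is locally of finite
presentation. Then there are opens S = U_0 ⊇ U_1 ⊇ U_2 ⊇ ... of S with the property that a morphism
from the spectrum of a field to S lands in U_d exactly when the base change of X to that field has
rank (of its ring of global functions over the field) at least d. -/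
theorem result {X S : Scheme.{u}} (f : X ⟶ S) [Flat f] [LocallyOfFinitePresentation f] [IsSeparated f] [LocallyQuasiFinite f] :
    ∃ U : ℕ → S.Opens, Antitone U ∧ U 0 = ⊤ ∧ ∀ (K : Type u) [Field K] (g : Spec (CommRingCat.of K) ⟶ S) (d : ℕ),
      Set.range ⇑g ⊆ (U d : Set ↑S) ↔ (d : Cardinal.{u}) ≤ (letI := ((Scheme.ΓSpecIso (CommRingCat.of K)).inv ≫ (pullback.snd f g).appTop).hom.toAlgebra
        Module.rank K (Γ(pullback f g, ⊤) : Type u)) := by
  classical
  refine ⟨fun d => ⟨{s | Groth.Agent.Helper18.FibDeg.HasPiece f s d},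
    Groth.Agent.Helper18.FibDeg.isOpen_hasPiece f d⟩, ?_, ?_, ?_⟩
  · intro d₁ d₂ h s hs
    obtain ⟨O, hcl, hF, hO⟩ := hs
    exact ⟨O, hcl, hF, fun t => le_trans h (hO t)⟩
  · ext s
    simp only [TopologicalSpace.Opens.coe_mk, Set.mem_setOf_eq, TopologicalSpace.Opens.coe_top,
      Set.mem_univ, iff_true]
    refine ⟨⊥, isClosed_empty, ?_, fun t => Nat.zero_le _⟩
    haveI : IsEmpty ↥((⊥ : (pullback f (S.fromSpecResidueField s)).Opens) : Scheme.{u}) :=
      ⟨fun x => x.2⟩
    infer_instance
  · intro K _ g d
    haveI := Groth.Agent.Helper18.FibDeg.subsingleton_specK K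
    refine Iff.trans ?_ (Groth.Agent.Helper18.FibDeg.hasPieceK_iff_rank (pullback.snd f g) d)
    rw [Groth.Agent.Helper18.FibDeg.hasPieceK_iff_hasPiece f (pullback.fst f g)
      (pullback.snd f g) g (IsPullback.of_hasPullback f g) (IsLocalRing.closedPoint K) d]
    constructor
    · intro h
      exact h ⟨IsLocalRing.closedPoint K, rfl⟩
    · rintro h _ ⟨t, rfl⟩
      rw [Subsingleton.elim t (IsLocalRing.closedPoint K)]
      exact h

end Groth.Agent.S1449
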