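import Groth.Statements.S14494
import Mathlib

set_option autoImplicit false
universe v
open IndCof

namespace Groth.Agent.S14494


section helpers
open CategoryTheory CategoryTheory.Limits

section general
universe v' u'
variable {𝒜 : Type u'} [Category.{v'} 𝒜] [Abelian 𝒜]

/-- The generalized element `x` lies in the image of `f`. -/
def InIm {X Y Z : 𝒜} (f : X ⟶ Y) (x : Z ⟶ Y) : Prop := x ≫ cokernel.π f = 0

lemma inIm_self_comp {X Y Z : 𝒜} (f : X ⟶ Y) (u : Z ⟶ X) : InIm f (u ≫ f) := by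
  unfold InIm
  rw [Category.assoc, cokernel.condition, comp_zero]

lemma InIm.comp {X Y Z W : 𝒜} {f : X ⟶ Y} {x : Z ⟶ Y} (h : InIm f x) (g : W ⟶ Z) :
    InIm f (g ≫ x) := by
  unfold InIm at *
  rw [Category.assoc, h, comp_zero]

lemma InIm.add {X Y Z : 𝒜} {f : X ⟶ Y} {x x' : Z ⟶ Y} (h : InIm f x) (h' : InIm f x') :
    InIm f (x + x') := by
  unfold InIm at *
  rw [Preadditive.add_comp, h, h', add_zero]

lemma InIm.sub {X Y Z : 𝒜} {f : X ⟶ Y} {x x' : Z ⟶ Y} (h : InIm f x) (h' : InIm f x') :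
    InIm f (x - x') := by
  unfold InIm at *
  rw [Preadditive.sub_comp, h, h', sub_zero]

lemma inIm_zero {X Y Z : 𝒜} (f : X ⟶ Y) : InIm f (0 : Z ⟶ Y) := by
  unfold InIm
  exact zero_comp

lemma InIm.of_epi {X Y Z W : 𝒜} {f : X ⟶ Y} {x : Z ⟶ Y} (π : W ⟶ Z) [Epi π]
    (h : InIm f (π ≫ x)) : InIm f x := by
  unfold InIm at *
  rw [Category.assoc] at h
  exact (cancel_epi π).1 (by rw [h, comp_zero])

lemma InIm.refine {X Y Z : 𝒜} {f : X ⟶ Y} {x : Z ⟶ Y} (h : InIm f x) :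
    ∃ (Z' : 𝒜) (π : Z' ⟶ Z) (_ : Epi π) (u : Z' ⟶ X), π ≫ x = u ≫ f := by
  have hex : (ShortComplex.mk f (cokernel.π f) (cokernel.condition f)).Exact :=
    ShortComplex.exact_of_g_is_cokernel _ (cokernelIsCokernel f)
  exact (ShortComplex.exact_iff_exact_up_to_refinements _).1 hex x h

lemma mk_factors_comp' {X Y Z : 𝒜} (f : Y ⟶ X) [Mono f] (u : Z ⟶ Y) :
    (Subobject.mk f).Factors (u ≫ f) :=
  Subobject.factors_of_factors_right u (Subobject.mk_factors_self f)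

lemma InIm.factors {X Y Z : 𝒜} {f : X ⟶ Y} {x : Z ⟶ Y} (h : InIm f x) :
    (imageSubobject f).Factors x := by
  have e : x = (kernel.lift (cokernel.π f) x h ≫ (Abelian.imageIsoImage f).hom) ≫ image.ι f := by
    rw [Category.assoc, Abelian.imageIsoImage_hom_comp_image_ι, kernel.lift_ι]
  rw [e]
  exact mk_factors_comp' (image.ι f) _

lemma inIm_of_factors {X Y Z : 𝒜} {f : X ⟶ Y} {x : Z ⟶ Y} (h : (imageSubobject f).Factors x) :
    InIm f x := by
  have h0 : (imageSubobject f).arrow ≫ cokernel.π f = 0 := by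
    rw [← cancel_epi (factorThruImageSubobject f), ← Category.assoc, imageSubobject_arrow_comp,
      cokernel.condition, comp_zero]
  unfold InIm
  rw [← Subobject.factorThru_arrow _ x h, Category.assoc, h0, comp_zero]

lemma le_of_inIm {X Y Z : 𝒜} {f : X ⟶ Y} {g : Z ⟶ Y} (h : InIm f g) :
    imageSubobject g ≤ imageSubobject f :=
  imageSubobject_le g ((imageSubobject f).factorThru g h.factors)
    (Subobject.factorThru_arrow _ _ _)

lemma image_refine' {X Y W : 𝒜} (g : X ⟶ Y) (x : W ⟶ Y) (h : (imageSubobject g).Factors x) :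
    ∃ (W' : 𝒜) (π : W' ⟶ W) (_ : Epi π) (w : W' ⟶ X), π ≫ x = w ≫ g :=
  (inIm_of_factors h).refine

lemma nsmul_comm' {X Y : 𝒜} (f : X ⟶ Y) (k : ℕ) : (k • 𝟙 X) ≫ f = f ≫ (k • 𝟙 Y) := by
  rw [Preadditive.nsmul_comp, Preadditive.comp_nsmul, Category.id_comp, Category.comp_id]

lemma nsmul_mul' {X : 𝒜} (a b : ℕ) : ((a * b) • 𝟙 X : X ⟶ X) = (a • 𝟙 X) ≫ (b • 𝟙 X) := by
  rw [Preadditive.nsmul_comp, Category.id_comp, mul_nsmul']

end general

variable {C : Type v} [SmallCategory C] [Abelian C]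

/-- Being (isomorphic to) an object of `C`. -/
abbrev Rep (P : Ind C) : Prop := (Ind.yoneda (C := C)).essImage P

lemma rep_iff (P : Ind C) : Rep P ↔ ∃ X : C, Nonempty ((Ind.yoneda (C := C)).obj X ≅ P) := Iff.rfl

lemma rep_of_iso {P Q : Ind C} (e : P ≅ Q) (h : Rep P) : Rep Q := by
  obtain ⟨X, ⟨i⟩⟩ := h
  exact ⟨X, ⟨i ≪≫ e⟩⟩

lemma rep_obj (X : C) : Rep ((Ind.yoneda (C := C)).obj X) := ⟨X, ⟨Iso.refl _⟩⟩

instance yonedaAdditive : (Ind.yoneda (C := C)).Additive :=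
  Functor.additive_of_preserves_binary_products _

lemma dense {A Q : Ind C} (f g : A ⟶ Q)
    (h : ∀ (W : C) (x : (Ind.yoneda (C := C)).obj W ⟶ A), x ≫ f = x ≫ g) : f = g := by
  rw [← cancel_epi (Ind.colimitPresentationCompYoneda A).hom]
  refine colimit.hom_ext (fun j => ?_)
  rw [← Category.assoc, ← Category.assoc]
  exact h _ _

lemma rep_cokernel {P Q : Ind C} (hP : Rep P) (hQ : Rep Q) (f : P ⟶ Q) : Rep (cokernel f) := by
  obtain ⟨X, ⟨e⟩⟩ := hP
  obtain ⟨Y, ⟨e'⟩⟩ := hQ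
  let f' : X ⟶ Y := (Ind.yoneda (C := C)).preimage (e.hom ≫ f ≫ e'.inv)
  have hf' : (Ind.yoneda (C := C)).map f' = e.hom ≫ f ≫ e'.inv := Functor.map_preimage _ _
  refine ⟨cokernel f', ⟨PreservesCokernel.iso (Ind.yoneda (C := C)) f' ≪≫
    cokernel.mapIso _ _ e e' ?_⟩⟩
  rw [hf', Category.assoc, Category.assoc, Iso.inv_hom_id, Category.comp_id]

lemma rep_kernel {P Q : Ind C} (hP : Rep P) (hQ : Rep Q) (f : P ⟶ Q) : Rep (kernel f) := by
  obtain ⟨X, ⟨e⟩⟩ := hP
  obtain ⟨Y, ⟨e'⟩⟩ := hQ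
  let f' : X ⟶ Y := (Ind.yoneda (C := C)).preimage (e.hom ≫ f ≫ e'.inv)
  have hf' : (Ind.yoneda (C := C)).map f' = e.hom ≫ f ≫ e'.inv := Functor.map_preimage _ _
  refine ⟨kernel f', ⟨PreservesKernel.iso (Ind.yoneda (C := C)) f' ≪≫
    kernel.mapIso _ _ e e' ?_⟩⟩
  rw [hf', Category.assoc, Category.assoc, Iso.inv_hom_id, Category.comp_id]

lemma rep_of_exact_epi (S : ShortComplex (Ind C)) (h1 : Rep S.X₁) (h2 : Rep S.X₂)
    (hS : S.Exact) [Epi S.g] : Rep S.X₃ :=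
  rep_of_iso (IsColimit.coconePointUniqueUpToIso (cokernelIsCokernel S.f) hS.gIsCokernel)
    (rep_cokernel h1 h2 S.f)

lemma rep_of_exact_mono (S : ShortComplex (Ind C)) (h2 : Rep S.X₂) (h3 : Rep S.X₃)
    (hS : S.Exact) [Mono S.f] : Rep S.X₁ :=
  rep_of_iso (IsLimit.conePointUniqueUpToIso (kernelIsKernel S.g) hS.fIsKernel)
    (rep_kernel h2 h3 S.g)

lemma chain_stab_ind (hart : ∀ X : C, IsArtinianObject X) (T₀ : Ind C) (T : ℕ → Ind C)
    (h₀ : Rep T₀) (hT : ∀ k, Rep (T k)) (h : ∀ k, T k ⟶ T₀) (m : ∀ k, T (k + 1) ⟶ T k)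
    (hm : ∀ k, m k ≫ h k = h (k + 1)) :
    ∃ N, ∀ k, N ≤ k → InIm (h (k + 1)) (h k) := by
  obtain ⟨X₀, ⟨e₀⟩⟩ := h₀
  have hT' : ∀ k, ∃ X : C, Nonempty ((Ind.yoneda (C := C)).obj X ≅ T k) := hT
  choose X hX using hT'
  let e : ∀ k, (Ind.yoneda (C := C)).obj (X k) ≅ T k := fun k => (hX k).some
  let h' : ∀ k, X k ⟶ X₀ := fun k =>
    (Ind.yoneda (C := C)).preimage ((e k).hom ≫ h k ≫ e₀.inv)
  have hh' : ∀ k, (Ind.yoneda (C := C)).map (h' k) = (e k).hom ≫ h k ≫ e₀.inv :=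
    fun k => Functor.map_preimage _ _
  let m' : ∀ k, X (k + 1) ⟶ X k := fun k =>
    (Ind.yoneda (C := C)).preimage ((e (k + 1)).hom ≫ m k ≫ (e k).inv)
  have hmm' : ∀ k, (Ind.yoneda (C := C)).map (m' k) = (e (k + 1)).hom ≫ m k ≫ (e k).inv :=
    fun k => Functor.map_preimage _ _
  have hm' : ∀ k, m' k ≫ h' k = h' (k + 1) := by
    intro k
    apply (Ind.yoneda (C := C)).map_injective
    rw [Functor.map_comp, hh', hh', hmm', ← hm k]
    simp only [Category.assoc, Iso.inv_hom_id_assoc]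
  let S : ℕ → Subobject X₀ := fun k => imageSubobject (h' k)
  have hanti : Antitone S := by
    apply antitone_nat_of_succ_le
    intro k
    show imageSubobject (h' (k + 1)) ≤ imageSubobject (h' k)
    rw [← hm' k]
    exact imageSubobject_comp_le _ _
  obtain ⟨N, hN⟩ := (isArtinianObject_iff_antitone_chain_condition X₀).1 (hart X₀)
    ⟨fun k => OrderDual.toDual (S k), fun a b hab => OrderDual.toDual_le_toDual.2 (hanti hab)⟩
  refine ⟨N, fun k hk => ?_⟩
  have hSk : S k = S (k + 1) :=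
    congrArg OrderDual.ofDual ((hN k hk).symm.trans (hN (k + 1) (by omega)))
  have hf : (imageSubobject (h' (k + 1))).Factors (h' k) := by
    show (S (k + 1)).Factors (h' k)
    rw [← hSk]
    show (imageSubobject (h' k)).Factors (h' k)
    simpa using imageSubobject_factors_comp_self (h' k) (𝟙 _)
  obtain ⟨W', π, hπ, w, hw⟩ := image_refine' _ _ hf
  have h4 := congrArg (Ind.yoneda (C := C)).map hw
  rw [Functor.map_comp, Functor.map_comp, hh', hh'] at h4
  have h5 : ((Ind.yoneda (C := C)).map π ≫ (e k).hom) ≫ h k =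
      ((Ind.yoneda (C := C)).map w ≫ (e (k + 1)).hom) ≫ h (k + 1) := by
    rw [← cancel_mono e₀.inv]
    simpa only [Category.assoc] using h4
  haveI := hπ
  haveI : Epi ((Ind.yoneda (C := C)).map π) := inferInstance
  exact InIm.of_epi ((Ind.yoneda (C := C)).map π ≫ (e k).hom)
    (by rw [h5]; exact inIm_self_comp _ _)

section torsion

variable (p : ℕ) (A : Ind C)

/-- Multiplication by `p ^ k`. -/
noncomputable abbrev mu (k : ℕ) : A ⟶ A := (p ^ k) • 𝟙 A

lemma mu_add (a b : ℕ) : mu p A (a + b) = mu p A a ≫ mu p A b := by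
  unfold mu
  rw [pow_add]
  exact nsmul_mul' _ _

lemma mu_zero : mu p A 0 = 𝟙 A := by
  unfold mu
  rw [pow_zero, one_nsmul]

lemma mu_nat {A B : Ind C} (f : A ⟶ B) (k : ℕ) : mu p A k ≫ f = f ≫ mu p B k :=
  nsmul_comm' f _

lemma tors_el (htor : ∀ X : C, ∃ n : ℕ, (p ^ n) • 𝟙 X = 0) (W : C)
    (y : (Ind.yoneda (C := C)).obj W ⟶ A) : ∃ s, y ≫ mu p A s = 0 := by
  obtain ⟨s, hs⟩ := htor W
  refine ⟨s, ?_⟩
  have h1 : (p ^ s) • 𝟙 ((Ind.yoneda (C := C)).obj W) = 0 := by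
    rw [← (Ind.yoneda (C := C)).map_id, ← Functor.map_nsmul, hs, Functor.map_zero]
  rw [← mu_nat]
  unfold mu
  rw [h1, zero_comp]

/-- Stabilization (at the level of `p`-torsion) of the chain `p^k A` from `N` on. -/
def Stab (N : ℕ) : Prop :=
  ∀ k, N ≤ k → ∀ ⦃Z : Ind C⦄ (w : Z ⟶ A), w ≫ mu p A 1 = 0 → InIm (mu p A k) w →
    InIm (mu p A (k + 1)) w

lemma exists_stab (hart : ∀ X : C, IsArtinianObject X)
    (hA : ∀ n : ℕ, Rep (kernel (mu p A n))) : ∃ N, Stab p A N := by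
  have hz : ∀ k, (kernel.ι (mu p A (k + 1)) ≫ mu p A k) ≫ mu p A 1 = 0 := by
    intro k
    rw [Category.assoc, ← mu_add, kernel.condition]
  have hz' : ∀ k, (kernel.ι (mu p A (k + 1 + 1)) ≫ mu p A 1) ≫ mu p A (k + 1) = 0 := by
    intro k
    rw [Category.assoc, ← mu_add, add_comm 1 (k + 1), kernel.condition]
  let T : ℕ → Ind C := fun k => kernel (mu p A (k + 1))
  let h : ∀ k, T k ⟶ kernel (mu p A 1) := fun k =>
    kernel.lift (mu p A 1) (kernel.ι (mu p A (k + 1)) ≫ mu p A k) (hz k)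
  let m : ∀ k, T (k + 1) ⟶ T k := fun k =>
    kernel.lift (mu p A (k + 1)) (kernel.ι (mu p A (k + 1 + 1)) ≫ mu p A 1) (hz' k)
  have hh : ∀ k, h k ≫ kernel.ι (mu p A 1) = kernel.ι (mu p A (k + 1)) ≫ mu p A k :=
    fun k => kernel.lift_ι _ _ _
  have hmι : ∀ k, m k ≫ kernel.ι (mu p A (k + 1)) = kernel.ι (mu p A (k + 1 + 1)) ≫ mu p A 1 :=
    fun k => kernel.lift_ι _ _ _
  have hm : ∀ k, m k ≫ h k = h (k + 1) := by
    intro k
    rw [← cancel_mono (kernel.ι (mu p A 1)), Category.assoc, hh, hh, ← Category.assoc, hmι,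
      Category.assoc, ← mu_add, add_comm 1 k]
  obtain ⟨N, hN⟩ := chain_stab_ind hart (kernel (mu p A 1)) T (hA 1) (fun k => hA (k + 1)) h m hm
  refine ⟨N, ?_⟩
  intro k hk Z w hw1 hwk
  obtain ⟨Z', π, hπ, u, hu⟩ := hwk.refine
  have hu0 : u ≫ mu p A (k + 1) = 0 := by
    rw [mu_add, ← Category.assoc, ← hu, Category.assoc, hw1, comp_zero]
  have e1 : π ≫ kernel.lift (mu p A 1) w hw1 = kernel.lift (mu p A (k + 1)) u hu0 ≫ h k := by
    rw [← cancel_mono (kernel.ι (mu p A 1)), Category.assoc, kernel.lift_ι, Category.assoc, hh,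
      ← Category.assoc, kernel.lift_ι]
    exact hu
  have h2 : InIm (h (k + 1)) (kernel.lift (mu p A (k + 1)) u hu0 ≫ h k) := (hN k hk).comp _
  obtain ⟨Z'', π₂, hπ₂, v, hv⟩ := h2.refine
  have e2 : (π₂ ≫ π) ≫ w = (v ≫ kernel.ι (mu p A (k + 1 + 1))) ≫ mu p A (k + 1) := by
    calc (π₂ ≫ π) ≫ w = π₂ ≫ (π ≫ kernel.lift (mu p A 1) w hw1) ≫ kernel.ι (mu p A 1) := by
          rw [Category.assoc, Category.assoc, kernel.lift_ι]
      _ = (v ≫ h (k + 1)) ≫ kernel.ι (mu p A 1) := by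
          rw [e1, ← Category.assoc, hv]
      _ = (v ≫ kernel.ι (mu p A (k + 1 + 1))) ≫ mu p A (k + 1) := by
          rw [Category.assoc, hh, Category.assoc]
  haveI := hπ
  haveI := hπ₂
  exact InIm.of_epi (π₂ ≫ π) (by rw [e2]; exact inIm_self_comp _ _)

lemma stab_claim {N : ℕ} (hN : Stab p A N) (k : ℕ) (hk : N ≤ k) :
    ∀ (s : ℕ) ⦃Z : Ind C⦄ (x : Z ⟶ A), InIm (mu p A k) x → x ≫ mu p A s = 0 →
      InIm (mu p A (k + 1)) x := by
  intro s
  induction s with
  | zero =>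
    intro Z x _ hx
    rw [mu_zero, Category.comp_id] at hx
    rw [hx]
    exact inIm_zero _
  | succ s ih =>
    intro Z x hxk hxs
    have hw1 : (x ≫ mu p A s) ≫ mu p A 1 = 0 := by
      rw [Category.assoc, ← mu_add]
      exact hxs
    have hwk : InIm (mu p A (k + s)) (x ≫ mu p A s) := by
      obtain ⟨Z', π, hπ, u, hu⟩ := hxk.refine
      have e : π ≫ (x ≫ mu p A s) = u ≫ mu p A (k + s) := by
        rw [← Category.assoc, hu, Category.assoc, ← mu_add]
      haveI := hπ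
      exact InIm.of_epi π (by rw [e]; exact inIm_self_comp _ _)
    have hw' : InIm (mu p A (k + s + 1)) (x ≫ mu p A s) := hN (k + s) (by omega) _ hw1 hwk
    obtain ⟨Z', π, hπ, u, hu⟩ := hw'.refine
    have e : mu p A (k + s + 1) = mu p A (k + 1) ≫ mu p A s := by
      rw [← mu_add]
      congr 1
      omega
    have hd : (π ≫ x - u ≫ mu p A (k + 1)) ≫ mu p A s = 0 := by
      rw [Preadditive.sub_comp, Category.assoc, Category.assoc, ← e, hu, sub_self]
    have hdk : InIm (mu p A k) (π ≫ x - u ≫ mu p A (k + 1)) := by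
      refine InIm.sub (hxk.comp π) ?_
      have e' : mu p A (k + 1) = mu p A 1 ≫ mu p A k := by
        rw [← mu_add, add_comm]
      rw [e', ← Category.assoc]
      exact inIm_self_comp _ _
    have h3 := ih _ hdk hd
    have h4 : InIm (mu p A (k + 1)) (π ≫ x) := by
      have h5 := InIm.add h3 (inIm_self_comp (mu p A (k + 1)) u)
      rwa [sub_add_cancel] at h5
    haveI := hπ
    exact InIm.of_epi π h4

lemma stab_image {N : ℕ} (hN : Stab p A N)
    (htorA : ∀ (W : C) (y : (Ind.yoneda (C := C)).obj W ⟶ A), ∃ s, y ≫ mu p A s = 0) (j : ℕ) :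
    InIm (mu p A (N + j)) (mu p A N) := by
  unfold InIm
  apply dense
  intro W y
  rw [comp_zero, ← Category.assoc]
  obtain ⟨s, hs⟩ := htorA W y
  have hs' : (y ≫ mu p A N) ≫ mu p A s = 0 := by
    rw [Category.assoc, ← mu_add, add_comm, mu_add, ← Category.assoc, hs, zero_comp]
  have key : ∀ j : ℕ, InIm (mu p A (N + j)) (y ≫ mu p A N) := by
    intro j
    induction j with
    | zero => exact inIm_self_comp _ _
    | succ j ih => exact stab_claim p A hN (N + j) (by omega) s _ ih hs'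
  exact key j

end torsion

end helpers

open CategoryTheory CategoryTheory.Limits in
/-- Let C be a small abelian category all of whose objects are Artinian and killed by some power of a
prime p, and let A be an ind-object of C of cofinite type (every A[p^n] is isomorphic to an object
of C). Then the decreasing sequence of sub-objects ⋯ ⊆ p²A ⊆ pA ⊆ A stabilizes: the image of
multiplication by p^n on A is the same sub-object for all large n. -/
theorem result {C : Type v} [SmallCategory C] [Abelian C]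
    (hart : ∀ X : C, IsArtinianObject X) (p : ℕ) (hp : p.Prime)
    (htor : ∀ X : C, ∃ n : ℕ, (p ^ n) • 𝟙 X = 0)
    (A : Ind C) (hA : ∀ n : ℕ, (Ind.yoneda (C := C)).essImage (kernel ((p ^ n) • 𝟙 A))) :
    ∃ N : ℕ, ∀ n : ℕ, N ≤ n →
      imageSubobject ((p ^ n) • 𝟙 A) = imageSubobject ((p ^ N) • 𝟙 A) := by
  obtain ⟨N, hN⟩ := exists_stab p A hart hA
  refine ⟨N, fun n hn => ?_⟩
  obtain ⟨j, rfl⟩ := Nat.exists_eq_add_of_le hn
  apply le_antisymm
  · have e : (p ^ (N + j)) • 𝟙 A = mu p A j ≫ mu p A N := by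
      rw [← mu_add, add_comm]
    rw [e]
    exact imageSubobject_comp_le _ _
  · exact le_of_inIm (stab_image p A hN (tors_el p A htor) j)

end Groth.Agent.S14494
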