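import Groth.Statements.S14492
import Mathlib
import Groth.Agent.S14494

set_option autoImplicit false
universe v
open IndCof

namespace Groth.Agent.S14492


section helpers
open CategoryTheory CategoryTheory.Limits Groth.Agent.S14494

variable {C : Type v} [SmallCategory C] [Abelian C]

lemma rep_coker (p : ℕ) (A : Ind C) (hA : ∀ n, Rep (kernel (mu p A n))) (N n : ℕ)
    (hN : InIm (mu p A (N + n)) (mu p A N)) : Rep (cokernel (mu p A n)) := by
  have hh0 : (kernel.ι (mu p A (N + n)) ≫ mu p A n) ≫ mu p A N = 0 := by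
    rw [Category.assoc, ← mu_add, add_comm n N, kernel.condition]
  let h := kernel.lift (mu p A N) (kernel.ι (mu p A (N + n)) ≫ mu p A n) hh0
  let g := kernel.ι (mu p A N) ≫ cokernel.π (mu p A n)
  have hhι : h ≫ kernel.ι (mu p A N) = kernel.ι (mu p A (N + n)) ≫ mu p A n :=
    kernel.lift_ι _ _ _
  have hhg : h ≫ g = 0 := by
    show h ≫ kernel.ι (mu p A N) ≫ cokernel.π (mu p A n) = 0
    rw [← Category.assoc, hhι, Category.assoc, cokernel.condition, comp_zero]
  have hS : (ShortComplex.mk h g hhg).Exact := by
    rw [ShortComplex.exact_iff_exact_up_to_refinements]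
    intro Z x hx
    have hx0 : InIm (mu p A n) (x ≫ kernel.ι (mu p A N)) := by
      unfold InIm
      rw [Category.assoc]
      exact hx
    obtain ⟨Z', π, hπ, u, hu⟩ := hx0.refine
    have hu0 : u ≫ mu p A (N + n) = 0 := by
      rw [add_comm N n, mu_add, ← Category.assoc, ← hu]
      simp only [Category.assoc, kernel.condition, comp_zero]
    refine ⟨Z', π, hπ, kernel.lift (mu p A (N + n)) u hu0, ?_⟩
    show π ≫ x = kernel.lift (mu p A (N + n)) u hu0 ≫ h
    rw [← cancel_mono (kernel.ι (mu p A N)), Category.assoc, Category.assoc, hhι,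
      kernel.lift_ι_assoc]
    exact hu
  haveI : Epi g := by
    rw [epi_iff_surjective_up_to_refinements]
    intro Z y
    obtain ⟨Z₁, π₁, hπ₁, a, ha⟩ := surjective_up_to_refinements_of_epi (cokernel.π (mu p A n)) y
    obtain ⟨Z₂, π₂, hπ₂, u, hu⟩ := (hN.comp a).refine
    have hd0 : (π₂ ≫ a - u ≫ mu p A n) ≫ mu p A N = 0 := by
      rw [Preadditive.sub_comp, Category.assoc, Category.assoc, hu, ← mu_add, add_comm n N,
        sub_self]
    haveI := hπ₁
    haveI := hπ₂
    refine ⟨Z₂, π₂ ≫ π₁, inferInstance, kernel.lift (mu p A N) _ hd0, ?_⟩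
    show (π₂ ≫ π₁) ≫ y = kernel.lift (mu p A N) _ hd0 ≫ kernel.ι (mu p A N) ≫ cokernel.π (mu p A n)
    rw [kernel.lift_ι_assoc, Preadditive.sub_comp, Category.assoc u, cokernel.condition, comp_zero,
      sub_zero, Category.assoc, Category.assoc, ha]
  haveI : Epi (ShortComplex.mk h g hhg).g := this
  exact rep_of_exact_epi (ShortComplex.mk h g hhg) (hA (N + n)) (hA N) hS

end helpers

open CategoryTheory CategoryTheory.Limits in
/-- Let C be a small abelian category all of whose objects are Artinian and killed by some power of a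
prime p, and let A be an ind-object of C of cofinite type, i.e. for every n the p^n-torsion
sub-object A[p^n] (the kernel of multiplication by p^n) is isomorphic to an object of C. Then A /
p^n A (the cokernel of multiplication by p^n) is isomorphic to an object of C for every n. -/
theorem result {C : Type v} [SmallCategory C] [Abelian C]
    (hart : ∀ X : C, IsArtinianObject X) (p : ℕ) (hp : p.Prime)
    (htor : ∀ X : C, ∃ n : ℕ, (p ^ n) • 𝟙 X = 0)
    (A : Ind C) (hA : ∀ n : ℕ, (Ind.yoneda (C := C)).essImage (kernel ((p ^ n) • 𝟙 A))) (n : ℕ) :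
    (Ind.yoneda (C := C)).essImage (cokernel ((p ^ n) • 𝟙 A)) := by
  obtain ⟨N, hN⟩ := Groth.Agent.S14494.exists_stab p A hart hA
  exact rep_coker p A hA N n (Groth.Agent.S14494.stab_image p A hN (Groth.Agent.S14494.tors_el p A htor) n)

end Groth.Agent.S14492
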