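import Groth.Statements.S14493
import Mathlib
import Groth.Agent.S14494

set_option autoImplicit false
universe v
open IndCof

namespace Groth.Agent.S14493


section helpers
open CategoryTheory CategoryTheory.Limits Groth.Agent.S14494

variable {C : Type v} [SmallCategory C] [Abelian C]

lemma rep_ker_kernel (p : ℕ) {A B : Ind C} (f : A ⟶ B) (hA : ∀ n, Rep (kernel (mu p A n)))
    (hB : ∀ n, Rep (kernel (mu p B n))) (n : ℕ) : Rep (kernel (mu p (kernel f) n)) := by
  have ha0 : (kernel.ι (mu p (kernel f) n) ≫ kernel.ι f) ≫ mu p A n = 0 := by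
    rw [Category.assoc, ← mu_nat, ← Category.assoc, kernel.condition, zero_comp]
  have hb0 : (kernel.ι (mu p A n) ≫ f) ≫ mu p B n = 0 := by
    rw [Category.assoc, ← mu_nat, ← Category.assoc, kernel.condition, zero_comp]
  let a := kernel.lift (mu p A n) (kernel.ι (mu p (kernel f) n) ≫ kernel.ι f) ha0
  let b := kernel.lift (mu p B n) (kernel.ι (mu p A n) ≫ f) hb0
  have haι : a ≫ kernel.ι (mu p A n) = kernel.ι (mu p (kernel f) n) ≫ kernel.ι f :=
    kernel.lift_ι _ _ _
  have hbι : b ≫ kernel.ι (mu p B n) = kernel.ι (mu p A n) ≫ f := kernel.lift_ι _ _ _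
  have hab : a ≫ b = 0 := by
    rw [← cancel_mono (kernel.ι (mu p B n)), Category.assoc, hbι, ← Category.assoc, haι,
      Category.assoc, kernel.condition, comp_zero, zero_comp]
  haveI : Mono a := mono_of_mono_fac haι
  have hS : (ShortComplex.mk a b hab).Exact := by
    rw [ShortComplex.exact_iff_exact_up_to_refinements]
    intro Z x hx
    have hx0 : x ≫ b = 0 := hx
    have hx1 : (x ≫ kernel.ι (mu p A n)) ≫ f = 0 := by
      rw [Category.assoc, ← hbι, ← Category.assoc, hx0, zero_comp]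
    have hv0 : kernel.lift f (x ≫ kernel.ι (mu p A n)) hx1 ≫ mu p (kernel f) n = 0 := by
      rw [← cancel_mono (kernel.ι f), zero_comp, Category.assoc, mu_nat, kernel.lift_ι_assoc,
        Category.assoc, kernel.condition, comp_zero]
    refine ⟨Z, 𝟙 Z, inferInstance, kernel.lift (mu p (kernel f) n) _ hv0, ?_⟩
    show 𝟙 Z ≫ x = kernel.lift (mu p (kernel f) n) _ hv0 ≫ a
    rw [Category.id_comp, ← cancel_mono (kernel.ι (mu p A n)), Category.assoc, haι,
      kernel.lift_ι_assoc, kernel.lift_ι]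
  haveI : Mono (ShortComplex.mk a b hab).f := ‹Mono a›
  exact rep_of_exact_mono (ShortComplex.mk a b hab) (hA n) (hB n) hS

/-- Quotient closure: if `A'` and `A` are of cofinite type then so is `A / A'`. -/
lemma cof_quot (p : ℕ) {A' A A'' : Ind C} (i : A' ⟶ A) (q : A ⟶ A'') [Mono i] [Epi q]
    (w : i ≫ q = 0) (hex : (ShortComplex.mk i q w).Exact)
    (hA' : ∀ n, Rep (kernel (mu p A' n))) (hA : ∀ n, Rep (kernel (mu p A n)))
    (N' n : ℕ) (hN' : InIm (mu p A' (N' + n)) (mu p A' N')) :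
    Rep (kernel (mu p A'' n)) := by
  haveI : Mono (ShortComplex.mk i q w).f := ‹Mono i›
  have hiN0 : (kernel.ι (mu p A' N') ≫ i) ≫ mu p A N' = 0 := by
    rw [Category.assoc, ← mu_nat, ← Category.assoc, kernel.condition, zero_comp]
  have hiM0 : (kernel.ι (mu p A' (n + N')) ≫ i) ≫ mu p A (n + N') = 0 := by
    rw [Category.assoc, ← mu_nat, ← Category.assoc, kernel.condition, zero_comp]
  have hh0 : (kernel.ι (mu p A (n + N')) ≫ mu p A n) ≫ mu p A N' = 0 := by
    rw [Category.assoc, ← mu_add, kernel.condition]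
  have hh'0 : (kernel.ι (mu p A' (n + N')) ≫ mu p A' n) ≫ mu p A' N' = 0 := by
    rw [Category.assoc, ← mu_add, kernel.condition]
  let iN := kernel.lift (mu p A N') (kernel.ι (mu p A' N') ≫ i) hiN0
  let iM := kernel.lift (mu p A (n + N')) (kernel.ι (mu p A' (n + N')) ≫ i) hiM0
  let h := kernel.lift (mu p A N') (kernel.ι (mu p A (n + N')) ≫ mu p A n) hh0
  let h' := kernel.lift (mu p A' N') (kernel.ι (mu p A' (n + N')) ≫ mu p A' n) hh'0
  have hiNι : iN ≫ kernel.ι (mu p A N') = kernel.ι (mu p A' N') ≫ i := kernel.lift_ι _ _ _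
  have hiMι : iM ≫ kernel.ι (mu p A (n + N')) = kernel.ι (mu p A' (n + N')) ≫ i :=
    kernel.lift_ι _ _ _
  have hhι : h ≫ kernel.ι (mu p A N') = kernel.ι (mu p A (n + N')) ≫ mu p A n :=
    kernel.lift_ι _ _ _
  have hh'ι : h' ≫ kernel.ι (mu p A' N') = kernel.ι (mu p A' (n + N')) ≫ mu p A' n :=
    kernel.lift_ι _ _ _
  have hsq : iM ≫ h = h' ≫ iN := by
    rw [← cancel_mono (kernel.ι (mu p A N')), Category.assoc, Category.assoc, hhι, hiNι,
      ← Category.assoc, hiMι, ← Category.assoc, hh'ι, Category.assoc, Category.assoc, mu_nat]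
  let φ := h ≫ cokernel.π iN
  have hRrep : Rep (kernel φ) :=
    rep_kernel (hA (n + N')) (rep_cokernel (hA' N') (hA N') iN) φ
  have hRim : InIm iN (kernel.ι φ ≫ h) := by
    unfold InIm
    rw [Category.assoc]
    exact kernel.condition φ
  have hg0 : (kernel.ι φ ≫ kernel.ι (mu p A (n + N')) ≫ q) ≫ mu p A'' n = 0 := by
    obtain ⟨Z, π, hπ, v, hv⟩ := hRim.refine
    haveI := hπ
    have e1 : (kernel.ι φ ≫ kernel.ι (mu p A (n + N')) ≫ q) ≫ mu p A'' n =
        (kernel.ι φ ≫ h) ≫ kernel.ι (mu p A N') ≫ q := by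
      simp only [Category.assoc]
      rw [← mu_nat p q n, ← Category.assoc h, hhι, Category.assoc]
    rw [e1, ← cancel_epi π, comp_zero, ← Category.assoc, hv, Category.assoc,
      ← Category.assoc iN, hiNι, Category.assoc, w, comp_zero, comp_zero]
  let g := kernel.lift (mu p A'' n) (kernel.ι φ ≫ kernel.ι (mu p A (n + N')) ≫ q) hg0
  have hgι : g ≫ kernel.ι (mu p A'' n) = kernel.ι φ ≫ kernel.ι (mu p A (n + N')) ≫ q :=
    kernel.lift_ι _ _ _
  have ht0 : iM ≫ φ = 0 := by
    show iM ≫ h ≫ cokernel.π iN = 0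
    rw [← Category.assoc, hsq, Category.assoc, cokernel.condition, comp_zero]
  let t := kernel.lift φ iM ht0
  have htι : t ≫ kernel.ι φ = iM := kernel.lift_ι _ _ _
  have htg : t ≫ g = 0 := by
    rw [← cancel_mono (kernel.ι (mu p A'' n)), zero_comp, Category.assoc, hgι, ← Category.assoc,
      htι, ← Category.assoc, hiMι, Category.assoc, w, comp_zero]
  have hS : (ShortComplex.mk t g htg).Exact := by
    rw [ShortComplex.exact_iff_exact_up_to_refinements]
    intro Z r hr
    have hr0 : r ≫ g = 0 := hr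
    have hr1 : (r ≫ kernel.ι φ ≫ kernel.ι (mu p A (n + N'))) ≫ q = 0 := by
      have h2 : (r ≫ g) ≫ kernel.ι (mu p A'' n) = 0 := by rw [hr0, zero_comp]
      rw [Category.assoc, hgι] at h2
      simpa only [Category.assoc] using h2
    obtain ⟨r', hr'⟩ : ∃ r' : Z ⟶ A', r' ≫ i = r ≫ kernel.ι φ ≫ kernel.ι (mu p A (n + N')) :=
      ⟨hex.lift _ hr1, hex.lift_f _ _⟩
    have hr'0 : r' ≫ mu p A' (n + N') = 0 := by
      rw [← cancel_mono i, zero_comp, Category.assoc, mu_nat, ← Category.assoc, hr']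
      simp only [Category.assoc, kernel.condition, comp_zero]
    refine ⟨Z, 𝟙 Z, inferInstance, kernel.lift (mu p A' (n + N')) r' hr'0, ?_⟩
    show 𝟙 Z ≫ r = kernel.lift (mu p A' (n + N')) r' hr'0 ≫ t
    rw [Category.id_comp, ← cancel_mono (kernel.ι φ), ← cancel_mono (kernel.ι (mu p A (n + N')))]
    simp only [Category.assoc]
    rw [← Category.assoc t, htι, hiMι, kernel.lift_ι_assoc, hr']
  haveI : Epi g := by
    rw [epi_iff_surjective_up_to_refinements]
    intro Z x
    obtain ⟨Z₁, π₁, hπ₁, a, ha⟩ :=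
      surjective_up_to_refinements_of_epi q (x ≫ kernel.ι (mu p A'' n))
    have ha1 : (a ≫ mu p A n) ≫ q = 0 := by
      rw [Category.assoc, mu_nat, ← Category.assoc, ← ha]
      simp only [Category.assoc, kernel.condition, comp_zero]
    obtain ⟨a', ha'⟩ : ∃ a' : Z₁ ⟶ A', a' ≫ i = a ≫ mu p A n :=
      ⟨hex.lift _ ha1, hex.lift_f _ _⟩
    obtain ⟨Z₂, π₂, hπ₂, u, hu⟩ := (hN'.comp a').refine
    obtain ⟨b, hb⟩ : ∃ b : Z₂ ⟶ A, b = π₂ ≫ a - u ≫ i := ⟨_, rfl⟩
    obtain ⟨t₀, ht₀⟩ : ∃ t₀ : Z₂ ⟶ A', t₀ = π₂ ≫ a' - u ≫ mu p A' n := ⟨_, rfl⟩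
    have hbq : b ≫ q = π₂ ≫ a ≫ q := by
      rw [hb, Preadditive.sub_comp, Category.assoc, Category.assoc, w, comp_zero, sub_zero]
    have ht₀i : t₀ ≫ i = b ≫ mu p A n := by
      rw [hb, ht₀, Preadditive.sub_comp, Preadditive.sub_comp, Category.assoc, Category.assoc,
        Category.assoc, Category.assoc, ha', mu_nat]
    have ht₀0 : t₀ ≫ mu p A' N' = 0 := by
      rw [ht₀, Preadditive.sub_comp, Category.assoc, Category.assoc, hu, ← mu_add, add_comm n N',
        sub_self]
    have hb0 : b ≫ mu p A (n + N') = 0 := by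
      rw [mu_add, ← Category.assoc, ← ht₀i, Category.assoc, ← mu_nat, ← Category.assoc, ht₀0,
        zero_comp]
    obtain ⟨bM, hbM⟩ : ∃ bM : Z₂ ⟶ kernel (mu p A (n + N')), bM ≫ kernel.ι _ = b :=
      ⟨kernel.lift _ b hb0, kernel.lift_ι _ _ _⟩
    obtain ⟨tN, htN⟩ : ∃ tN : Z₂ ⟶ kernel (mu p A' N'), tN ≫ kernel.ι _ = t₀ :=
      ⟨kernel.lift _ t₀ ht₀0, kernel.lift_ι _ _ _⟩
    have hbMh : bM ≫ h = tN ≫ iN := by
      rw [← cancel_mono (kernel.ι (mu p A N')), Category.assoc, Category.assoc, hhι, hiNι,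
        ← Category.assoc, hbM, ← Category.assoc, htN, ht₀i]
    have hbMφ : bM ≫ φ = 0 := by
      show bM ≫ h ≫ cokernel.π iN = 0
      rw [← Category.assoc, hbMh, Category.assoc, cokernel.condition, comp_zero]
    obtain ⟨bR, hbR⟩ : ∃ bR : Z₂ ⟶ kernel φ, bR ≫ kernel.ι φ = bM :=
      ⟨kernel.lift _ bM hbMφ, kernel.lift_ι _ _ _⟩
    haveI := hπ₁
    haveI := hπ₂
    refine ⟨Z₂, π₂ ≫ π₁, inferInstance, bR, ?_⟩
    rw [← cancel_mono (kernel.ι (mu p A'' n))]
    simp only [Category.assoc]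
    rw [hgι, ← Category.assoc bR, hbR, ← Category.assoc bM, hbM, hbq, ha]
  haveI : Epi (ShortComplex.mk t g htg).g := this
  exact rep_of_exact_epi (ShortComplex.mk t g htg) (hA' (n + N')) hRrep hS

lemma exists_stab_image (hart : ∀ X : C, IsArtinianObject X) (p : ℕ)
    (htor : ∀ X : C, ∃ n : ℕ, (p ^ n) • 𝟙 X = 0) (A' : Ind C)
    (hA' : ∀ n, Rep (kernel (mu p A' n))) (n : ℕ) :
    ∃ N', InIm (mu p A' (N' + n)) (mu p A' N') := by
  obtain ⟨N', hN'⟩ := exists_stab p A' hart hA'
  exact ⟨N', stab_image p A' hN' (tors_el p A' htor) n⟩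

lemma cof_kernel_cokernel (hart : ∀ X : C, IsArtinianObject X) (p : ℕ)
    (htor : ∀ X : C, ∃ n : ℕ, (p ^ n) • 𝟙 X = 0) {A B : Ind C} (f : A ⟶ B)
    (hA : ∀ n, Rep (kernel (mu p A n))) (hB : ∀ n, Rep (kernel (mu p B n))) :
    (∀ n, Rep (kernel (mu p (kernel f) n))) ∧ (∀ n, Rep (kernel (mu p (cokernel f) n))) := by
  have hK : ∀ n, Rep (kernel (mu p (kernel f) n)) := fun n => rep_ker_kernel p f hA hB n
  have hI : ∀ n, Rep (kernel (mu p (Abelian.image f) n)) := by
    intro n
    obtain ⟨N', hN'⟩ := exists_stab_image hart p htor (kernel f) hK n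
    have w : kernel.ι f ≫ Abelian.factorThruImage f = 0 := by
      rw [← cancel_mono (Abelian.image.ι f), Category.assoc, Abelian.image.fac, kernel.condition,
        zero_comp]
    have hex : (ShortComplex.mk (kernel.ι f) (Abelian.factorThruImage f) w).Exact := by
      rw [ShortComplex.exact_iff_exact_up_to_refinements]
      intro Z x hx
      have hx0 : x ≫ Abelian.factorThruImage f = 0 := hx
      have hx1 : x ≫ f = 0 := by
        calc x ≫ f = (x ≫ Abelian.factorThruImage f) ≫ Abelian.image.ι f := by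
              rw [Category.assoc, Abelian.image.fac]
          _ = 0 := by rw [hx0, zero_comp]
      refine ⟨Z, 𝟙 Z, inferInstance, kernel.lift f x hx1, ?_⟩
      show 𝟙 Z ≫ x = kernel.lift f x hx1 ≫ kernel.ι f
      rw [Category.id_comp, kernel.lift_ι]
    exact cof_quot p (kernel.ι f) (Abelian.factorThruImage f) w hex hK hA N' n hN'
  refine ⟨hK, fun n => ?_⟩
  obtain ⟨N', hN'⟩ := exists_stab_image hart p htor (Abelian.image f) hI n
  have w : Abelian.image.ι f ≫ cokernel.π f = 0 := kernel.condition _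
  have hex : (ShortComplex.mk (Abelian.image.ι f) (cokernel.π f) w).Exact :=
    ShortComplex.exact_of_f_is_kernel _ (kernelIsKernel (cokernel.π f))
  exact cof_quot p (Abelian.image.ι f) (cokernel.π f) w hex hI hB N' n hN'

end helpers

open CategoryTheory CategoryTheory.Limits in
/-- Let C be a small abelian category all of whose objects are Artinian and killed by some power of a
prime p. The ind-objects of cofinite type (those A in Ind C with every p^n-torsion sub-object A[p^n]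
isomorphic to an object of C) form an abelian subcategory of Ind C: for a morphism f : A ⟶ B between
ind-objects of cofinite type, the kernel and the cokernel of f in Ind C are of cofinite type. -/
theorem result {C : Type v} [SmallCategory C] [Abelian C]
    (hart : ∀ X : C, IsArtinianObject X) (p : ℕ) (hp : p.Prime)
    (htor : ∀ X : C, ∃ n : ℕ, (p ^ n) • 𝟙 X = 0)
    (A B : Ind C) (hA : ∀ n : ℕ, (Ind.yoneda (C := C)).essImage (kernel ((p ^ n) • 𝟙 A))) (hB : ∀ n : ℕ, (Ind.yoneda (C := C)).essImage (kernel ((p ^ n) • 𝟙 B))) (f : A ⟶ B) :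
    (∀ n : ℕ, (Ind.yoneda (C := C)).essImage (kernel ((p ^ n) • 𝟙 (kernel f)))) ∧
      (∀ n : ℕ, (Ind.yoneda (C := C)).essImage (kernel ((p ^ n) • 𝟙 (cokernel f)))) := by
  exact cof_kernel_cokernel hart p htor f hA hB

end Groth.Agent.S14493
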