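import Groth.Statements.S14499
import Mathlib
import Groth.Agent.S14494
import Groth.Agent.S14492

set_option autoImplicit false
universe v
open IndCof

namespace Groth.Agent.S14499


section helpers
open CategoryTheory CategoryTheory.Limits Groth.Agent.S14494

lemma nt1 (n : ℕ) : ∀ m : ℕ, 0 < m → ∃ s m₂, 0 < m₂ ∧ m ∣ m₂ * n ^ s ∧ Nat.Coprime m₂ n := by
  intro m
  induction m using Nat.strong_induction_on with
  | _ m ih =>
    intro hm
    by_cases hc : Nat.Coprime m n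
    · exact ⟨0, m, hm, by simp, hc⟩
    · have hd : 1 < Nat.gcd m n := by
        have h0 : 0 < Nat.gcd m n := Nat.gcd_pos_of_pos_left n hm
        have h1 : Nat.gcd m n ≠ 1 := hc
        omega
      obtain ⟨m', hm'⟩ := Nat.gcd_dvd_left m n
      have hm'pos : 0 < m' := by
        rcases Nat.eq_zero_or_pos m' with h | h
        · rw [h, mul_zero] at hm'
          omega
        · exact h
      have hlt : m' < m := by
        calc m' = 1 * m' := (one_mul _).symm
          _ < Nat.gcd m n * m' := Nat.mul_lt_mul_of_pos_right hd hm'pos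
          _ = m := hm'.symm
      obtain ⟨s, m₂, h0, h1, h2⟩ := ih m' hlt hm'pos
      refine ⟨s + 1, m₂, h0, ?_, h2⟩
      obtain ⟨t, ht⟩ := h1
      obtain ⟨r, hr⟩ := Nat.gcd_dvd_right m n
      refine ⟨t * r, ?_⟩
      calc m₂ * n ^ (s + 1) = (m₂ * n ^ s) * n := by ring
        _ = (m' * t) * (Nat.gcd m n * r) := by rw [ht, ← hr]
        _ = (Nat.gcd m n * m') * (t * r) := by ring
        _ = m * (t * r) := by rw [← hm']

lemma nt2 (n m₂ j : ℕ) (hn : 0 < n) (hm₂ : 0 < m₂) (hc : Nat.Coprime m₂ n) :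
    ∃ c e, c * n ^ j = 1 + e * m₂ := by
  rcases Nat.lt_or_ge 1 m₂ with h | h
  · obtain ⟨c, -, hc1⟩ := Nat.exists_mul_mod_eq_one_of_coprime (Nat.Coprime.pow_left j hc.symm) h
    refine ⟨c, n ^ j * c / m₂, ?_⟩
    have h2 := Nat.div_add_mod (n ^ j * c) m₂
    rw [hc1] at h2
    linarith [mul_comm c (n ^ j), mul_comm m₂ (n ^ j * c / m₂)]
  · have h1 : m₂ = 1 := by omega
    subst h1
    have h3 : 1 ≤ n ^ j := Nat.one_le_pow j n hn
    refine ⟨1, n ^ j - 1, ?_⟩
    rw [one_mul, mul_one]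
    omega

variable {C : Type v} [SmallCategory C] [Abelian C]

lemma comp_mu (p : ℕ) {Z A : Ind C} (x : Z ⟶ A) (k : ℕ) : x ≫ mu p A k = (p ^ k) • x := by
  unfold mu
  rw [Preadditive.comp_nsmul, Category.comp_id]

lemma InIm_nsmul {X Y Z : Ind C} {f : X ⟶ Y} {x : Z ⟶ Y} (h : InIm f x) (k : ℕ) :
    InIm f (k • x) := by
  unfold InIm at *
  rw [Preadditive.nsmul_comp, h, smul_zero]

lemma tors_el_gen (htor : ∀ X : C, ∃ n : ℕ, 0 < n ∧ n • 𝟙 X = 0) (A : Ind C) (W : C)
    (y : (Ind.yoneda (C := C)).obj W ⟶ A) : ∃ m, 0 < m ∧ m • y = 0 := by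
  obtain ⟨m, hm0, hm⟩ := htor W
  refine ⟨m, hm0, ?_⟩
  have h1 : m • 𝟙 ((Ind.yoneda (C := C)).obj W) = 0 := by
    rw [← (Ind.yoneda (C := C)).map_id, ← Functor.map_nsmul, hm, Functor.map_zero]
  have h2 : m • y = (m • 𝟙 _) ≫ y := by
    rw [Preadditive.nsmul_comp, Category.id_comp]
  rw [h2, h1, zero_comp]

lemma stab_image_gen (n : ℕ) (hn : 0 < n) (A : Ind C) {N : ℕ} (hN : Stab n A N)
    (htorA : ∀ (W : C) (y : (Ind.yoneda (C := C)).obj W ⟶ A), ∃ m, 0 < m ∧ m • y = 0) (j : ℕ) :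
    InIm (mu n A (N + j)) (mu n A N) := by
  unfold InIm
  apply dense
  intro W y
  rw [comp_zero, ← Category.assoc]
  change InIm (mu n A (N + j)) (y ≫ mu n A N)
  obtain ⟨m, hm0, hm⟩ := htorA W y
  obtain ⟨s, m₂, hm₂0, ⟨t, ht⟩, hcop⟩ := nt1 n m hm0
  obtain ⟨c, e, hce⟩ := nt2 n m₂ j hn hm₂0 hcop
  obtain ⟨x, hx⟩ : ∃ x : (Ind.yoneda (C := C)).obj W ⟶ A, x = y ≫ mu n A N := ⟨_, rfl⟩
  rw [← hx]
  have hxN : InIm (mu n A N) x := by
    rw [hx]
    exact inIm_self_comp _ _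
  have hmx : m • x = 0 := by
    rw [hx, ← Preadditive.nsmul_comp, hm, zero_comp]
  have hx₂s : (m₂ • x) ≫ mu n A s = 0 := by
    rw [comp_mu, ← mul_nsmul, ht, mul_nsmul, hmx, smul_zero]
  have hx₂N : InIm (mu n A N) (m₂ • x) := InIm_nsmul hxN m₂
  have key : ∀ j : ℕ, InIm (mu n A (N + j)) (m₂ • x) := by
    intro j
    induction j with
    | zero => exact hx₂N
    | succ j ih => exact stab_claim n A hN (N + j) (by omega) s _ ih hx₂s
  have h1 : InIm (mu n A (N + j)) ((c * n ^ j) • x) := by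
    rw [mul_nsmul', ← comp_mu, hx, Category.assoc, ← mu_add]
    exact InIm_nsmul (inIm_self_comp _ _) c
  have h2 : (c * n ^ j) • x - e • (m₂ • x) = x := by
    rw [hce, add_nsmul, one_nsmul, mul_nsmul', add_sub_cancel_right]
  rw [← h2]
  exact InIm.sub h1 (InIm_nsmul (key j) e)

lemma exists_stab_image_gen (hart : ∀ X : C, IsArtinianObject X)
    (htor : ∀ X : C, ∃ n : ℕ, 0 < n ∧ n • 𝟙 X = 0) (n : ℕ) (hn : 0 < n) (A' : Ind C)
    (hA' : ∀ k, Rep (kernel (mu n A' k))) (j : ℕ) :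
    ∃ N', InIm (mu n A' (N' + j)) (mu n A' N') := by
  obtain ⟨N', hN'⟩ := exists_stab n A' hart hA'
  exact ⟨N', stab_image_gen n hn A' hN' (tors_el_gen htor A') j⟩

end helpers

open CategoryTheory CategoryTheory.Limits in
/-- Let C be a small abelian category all of whose objects are Artinian and annihilated by a positive
integer (which need not be a prime power), and let A be an ind-object of C of cofinite type, i.e.
for every n ≥ 1 the n-torsion sub-object A[n] is isomorphic to an object of C. Then A / nA is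
isomorphic to an object of C for every n ≥ 1. -/
theorem result {C : Type v} [SmallCategory C] [Abelian C]
    (hart : ∀ X : C, IsArtinianObject X)
    (htor : ∀ X : C, ∃ n : ℕ, 0 < n ∧ n • 𝟙 X = 0)
    (A : Ind C) (hA : ∀ n : ℕ, 0 < n → (Ind.yoneda (C := C)).essImage (kernel (n • 𝟙 A))) (n : ℕ) (hn : 0 < n) :
    (Ind.yoneda (C := C)).essImage (cokernel (n • 𝟙 A)) := by
  have hA' : ∀ k, Groth.Agent.S14494.Rep (kernel (Groth.Agent.S14494.mu n A k)) :=
    fun k => hA (n ^ k) (pow_pos hn k)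
  obtain ⟨N, hN⟩ := exists_stab_image_gen hart htor n hn A hA' 1
  have h := Groth.Agent.S14492.rep_coker n A hA' N 1 hN
  simpa only [Groth.Agent.S14494.mu, pow_one] using h

end Groth.Agent.S14499
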