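import Groth.Statements.S14495
import Mathlib
import Groth.Agent.S14494
import Groth.Agent.S14499

set_option autoImplicit false
universe v
open IndCof

namespace Groth.Agent.S14495


section helpers
open CategoryTheory CategoryTheory.Limits Groth.Agent.S14494 Groth.Agent.S14499

variable {C : Type v} [SmallCategory C] [Abelian C]

lemma inIm_trans {X Y X' Z : Ind C} {f : X ⟶ Y} {g : X' ⟶ Y} {x : Z ⟶ Y} (h : InIm f x)
    (hfg : InIm g f) : InIm g x := by
  obtain ⟨Z', π, hπ, u, hu⟩ := h.refine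
  haveI := hπ
  exact InIm.of_epi π (by rw [hu]; exact hfg.comp u)

lemma inIm_refl {X Y : Ind C} (f : X ⟶ Y) : InIm f f := by
  have h := inIm_self_comp f (𝟙 _)
  rwa [Category.id_comp] at h

lemma inIm_conj {X Y Z X' Y' Z' : Ind C} {f : X ⟶ Y} {x : Z ⟶ Y} (h : InIm f x) (a : X' ≅ X)
    (b : Y ⟶ Y') (c : Z' ⟶ Z) : InIm (a.hom ≫ f ≫ b) (c ≫ x ≫ b) := by
  obtain ⟨Z'', π, hπ, u, hu⟩ := (h.comp c).refine
  haveI := hπ
  refine InIm.of_epi π ?_
  have e : π ≫ c ≫ x ≫ b = (u ≫ a.inv) ≫ a.hom ≫ f ≫ b := by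
    calc π ≫ c ≫ x ≫ b = (π ≫ c ≫ x) ≫ b := by simp only [Category.assoc]
      _ = (u ≫ f) ≫ b := by rw [hu]
      _ = (u ≫ a.inv) ≫ a.hom ≫ f ≫ b := by simp only [Category.assoc, Iso.inv_hom_id_assoc]
  rw [e]
  exact inIm_self_comp _ _

/-- Artinian transfer for a chain of images (no transition maps required). -/
lemma chain_stab_ind' (hart : ∀ X : C, IsArtinianObject X) (T₀ : Ind C) (T : ℕ → Ind C)
    (h₀ : Rep T₀) (hT : ∀ k, Rep (T k)) (h : ∀ k, T k ⟶ T₀)
    (hanti : ∀ k, InIm (h k) (h (k + 1))) :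
    ∃ N, ∀ k, N ≤ k → InIm (h (k + 1)) (h k) := by
  obtain ⟨X₀, ⟨e₀⟩⟩ := h₀
  have hT' : ∀ k, ∃ X : C, Nonempty ((Ind.yoneda (C := C)).obj X ≅ T k) := hT
  choose X hX using hT'
  let e : ∀ k, (Ind.yoneda (C := C)).obj (X k) ≅ T k := fun k => (hX k).some
  let h' : ∀ k, X k ⟶ X₀ := fun k =>
    (Ind.yoneda (C := C)).preimage ((e k).hom ≫ h k ≫ e₀.inv)
  have hh' : ∀ k, (Ind.yoneda (C := C)).map (h' k) = (e k).hom ≫ h k ≫ e₀.inv :=
    fun k => Functor.map_preimage _ _
  have hC : ∀ k, InIm (h' k) (h' (k + 1)) := by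
    intro k
    have h1 : InIm ((Ind.yoneda (C := C)).map (h' k)) ((Ind.yoneda (C := C)).map (h' (k + 1))) := by
      rw [hh', hh']
      exact inIm_conj (hanti k) (e k) e₀.inv (e (k + 1)).hom
    unfold InIm at h1 ⊢
    apply (Ind.yoneda (C := C)).map_injective
    rw [Functor.map_comp, ← π_comp_cokernelComparison (h' k) (Ind.yoneda (C := C)),
      ← Category.assoc, h1, zero_comp, Functor.map_zero]
  let S : ℕ → Subobject X₀ := fun k => imageSubobject (h' k)
  have hanti' : Antitone S := by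
    apply antitone_nat_of_succ_le
    intro k
    exact le_of_inIm (hC k)
  obtain ⟨N, hN⟩ := (isArtinianObject_iff_antitone_chain_condition X₀).1 (hart X₀)
    ⟨fun k => OrderDual.toDual (S k), fun a b hab => OrderDual.toDual_le_toDual.2 (hanti' hab)⟩
  refine ⟨N, fun k hk => ?_⟩
  have hSk : S k = S (k + 1) :=
    congrArg OrderDual.ofDual ((hN k hk).symm.trans (hN (k + 1) (by omega)))
  have hf : (imageSubobject (h' (k + 1))).Factors (h' k) := by
    show (S (k + 1)).Factors (h' k)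
    rw [← hSk]
    show (imageSubobject (h' k)).Factors (h' k)
    simpa using imageSubobject_factors_comp_self (h' k) (𝟙 _)
  obtain ⟨W', π, hπ, w, hw⟩ := image_refine' _ _ hf
  have h4 := congrArg (Ind.yoneda (C := C)).map hw
  rw [Functor.map_comp, Functor.map_comp, hh', hh'] at h4
  have h5 : ((Ind.yoneda (C := C)).map π ≫ (e k).hom) ≫ h k =
      ((Ind.yoneda (C := C)).map w ≫ (e (k + 1)).hom) ≫ h (k + 1) := by
    rw [← cancel_mono e₀.inv]
    simpa only [Category.assoc] using h4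
  haveI := hπ
  haveI : Epi ((Ind.yoneda (C := C)).map π) := inferInstance
  exact InIm.of_epi ((Ind.yoneda (C := C)).map π ≫ (e k).hom)
    (by rw [h5]; exact inIm_self_comp _ _)

section chain

variable (p : ℕ) (A : Ind C) (S : ℕ → Subobject A) (N : ℕ → ℕ)

/-- `p^{N m}` on `S m`, followed by the inclusion into `A`. -/
noncomputable def eMap (m : ℕ) : ((S m : Subobject A) : Ind C) ⟶ A :=
  mu p ((S m : Subobject A) : Ind C) (N m) ≫ (S m).arrow

lemma e_anti (hS : Antitone S)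
    (hD0 : ∀ m j, InIm (mu p ((S m : Subobject A) : Ind C) (N m + j))
      (mu p ((S m : Subobject A) : Ind C) (N m))) (m : ℕ) :
    InIm (eMap p A S N m) (eMap p A S N (m + 1)) := by
  obtain ⟨Z, π, hπ, u, hu⟩ := (hD0 (m + 1) (N m)).refine
  haveI := hπ
  refine InIm.of_epi π ?_
  have hle : S (m + 1) ≤ S m := hS (Nat.le_succ m)
  have hι : (S (m + 1)).ofLE (S m) hle ≫ (S m).arrow = (S (m + 1)).arrow :=
    Subobject.ofLE_arrow _
  have e1 : π ≫ eMap p A S N (m + 1) =
      (u ≫ mu p _ (N (m + 1)) ≫ (S (m + 1)).ofLE (S m) hle) ≫ eMap p A S N m := by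
    unfold eMap
    rw [← Category.assoc π, hu, mu_add]
    simp only [Category.assoc]
    rw [← hι, ← Category.assoc (mu p _ (N m)), mu_nat p ((S (m + 1)).ofLE (S m) hle) (N m)]
    simp only [Category.assoc]
  rw [e1]
  exact inIm_self_comp _ _

lemma hz (m : ℕ) : (kernel.ι (mu p ((S m : Subobject A) : Ind C) (N m + 1)) ≫ eMap p A S N m) ≫
    mu p A 1 = 0 := by
  unfold eMap
  simp only [Category.assoc]
  rw [← mu_nat p (S m).arrow 1, ← Category.assoc (mu p _ (N m)), ← mu_add,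
    kernel.condition_assoc, zero_comp]

noncomputable def hMap (m : ℕ) :
    kernel (mu p ((S m : Subobject A) : Ind C) (N m + 1)) ⟶ kernel (mu p A 1) :=
  kernel.lift _ _ (hz p A S N m)

lemma hMap_ι (m : ℕ) : hMap p A S N m ≫ kernel.ι (mu p A 1) =
    kernel.ι (mu p ((S m : Subobject A) : Ind C) (N m + 1)) ≫ eMap p A S N m :=
  kernel.lift_ι _ _ _

lemma lift_T (m : ℕ) {Z : Ind C} (u : Z ⟶ ((S m : Subobject A) : Ind C))
    (hu : (u ≫ eMap p A S N m) ≫ mu p A 1 = 0) :
    u ≫ mu p ((S m : Subobject A) : Ind C) (N m + 1) = 0 := by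
  rw [← cancel_mono (S m).arrow, zero_comp]
  have e : (u ≫ mu p ((S m : Subobject A) : Ind C) (N m + 1)) ≫ (S m).arrow =
      (u ≫ eMap p A S N m) ≫ mu p A 1 := by
    unfold eMap
    simp only [Category.assoc]
    rw [← mu_nat p (S m).arrow 1, ← Category.assoc (mu p _ (N m)), ← mu_add]
  rw [e, hu]

lemma h_anti (hS : Antitone S)
    (hD0 : ∀ m j, InIm (mu p ((S m : Subobject A) : Ind C) (N m + j))
      (mu p ((S m : Subobject A) : Ind C) (N m))) (m : ℕ) :
    InIm (hMap p A S N m) (hMap p A S N (m + 1)) := by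
  have h1 : InIm (eMap p A S N m)
      (kernel.ι (mu p ((S (m + 1) : Subobject A) : Ind C) (N (m + 1) + 1)) ≫
        eMap p A S N (m + 1)) := (e_anti p A S N hS hD0 m).comp _
  obtain ⟨Z, π, hπ, u, hu⟩ := h1.refine
  have hu1 : (u ≫ eMap p A S N m) ≫ mu p A 1 = 0 := by
    rw [← hu, Category.assoc, hz, comp_zero]
  have hu0 := lift_T p A S N m u hu1
  haveI := hπ
  refine InIm.of_epi π ?_
  have e1 : π ≫ hMap p A S N (m + 1) = kernel.lift _ u hu0 ≫ hMap p A S N m := by
    rw [← cancel_mono (kernel.ι (mu p A 1)), Category.assoc, Category.assoc, hMap_ι, hMap_ι,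
      kernel.lift_ι_assoc]
    exact hu
  rw [e1]
  exact inIm_self_comp _ _

lemma e_mono_claim (hS : Antitone S)
    (hD0 : ∀ m j, InIm (mu p ((S m : Subobject A) : Ind C) (N m + j))
      (mu p ((S m : Subobject A) : Ind C) (N m))) (m : ℕ)
    (hstab : InIm (hMap p A S N (m + 1)) (hMap p A S N m)) :
    ∀ (k : ℕ) ⦃Z : Ind C⦄ (y : Z ⟶ A), InIm (eMap p A S N m) y → y ≫ mu p A k = 0 →
      InIm (eMap p A S N (m + 1)) y := by
  intro k
  induction k with
  | zero =>
    intro Z y _ hy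
    rw [mu_zero, Category.comp_id] at hy
    rw [hy]
    exact inIm_zero _
  | succ k ih =>
    intro Z y hym hyk
    have hy'm : InIm (eMap p A S N m) (y ≫ mu p A k) := by
      rw [comp_mu]
      exact InIm_nsmul hym _
    have hy'1 : (y ≫ mu p A k) ≫ mu p A 1 = 0 := by
      rw [Category.assoc, ← mu_add]
      exact hyk
    obtain ⟨Z₁, π₁, hπ₁, u, hu⟩ := hy'm.refine
    have hu1 : (u ≫ eMap p A S N m) ≫ mu p A 1 = 0 := by
      rw [← hu, Category.assoc, hy'1, comp_zero]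
    have hu0 := lift_T p A S N m u hu1
    obtain ⟨Z₂, π₂, hπ₂, v₂, hv₂⟩ := (hstab.comp (kernel.lift _ u hu0)).refine
    have e2 : π₂ ≫ π₁ ≫ y ≫ mu p A k = (v₂ ≫ kernel.ι _) ≫ eMap p A S N (m + 1) := by
      rw [hu]
      have h9 := congrArg (· ≫ kernel.ι (mu p A 1)) hv₂
      simp only [Category.assoc, hMap_ι, kernel.lift_ι_assoc] at h9
      simpa only [Category.assoc] using h9
    obtain ⟨Z₃, π₃, hπ₃, z₂, hz₂⟩ := ((hD0 (m + 1) k).comp (v₂ ≫ kernel.ι _)).refine
    have e3 : π₃ ≫ π₂ ≫ π₁ ≫ y ≫ mu p A k = z₂ ≫ eMap p A S N (m + 1) ≫ mu p A k := by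
      calc π₃ ≫ π₂ ≫ π₁ ≫ y ≫ mu p A k
          = (π₃ ≫ (v₂ ≫ kernel.ι _) ≫ mu p _ (N (m + 1))) ≫ (S (m + 1)).arrow := by
            rw [e2]
            unfold eMap
            simp only [Category.assoc]
        _ = (z₂ ≫ mu p _ (N (m + 1) + k)) ≫ (S (m + 1)).arrow := by rw [hz₂]
        _ = z₂ ≫ eMap p A S N (m + 1) ≫ mu p A k := by
            unfold eMap
            rw [mu_add]
            simp only [Category.assoc]
            rw [mu_nat p (S (m + 1)).arrow k]
    have hd : (π₃ ≫ π₂ ≫ π₁ ≫ y - z₂ ≫ eMap p A S N (m + 1)) ≫ mu p A k = 0 := by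
      rw [Preadditive.sub_comp]
      simp only [Category.assoc]
      rw [e3, sub_self]
    have hdm : InIm (eMap p A S N m) (π₃ ≫ π₂ ≫ π₁ ≫ y - z₂ ≫ eMap p A S N (m + 1)) :=
      InIm.sub (((hym.comp π₁).comp π₂).comp π₃) ((e_anti p A S N hS hD0 m).comp z₂)
    have h3 := ih _ hdm hd
    have h4 : InIm (eMap p A S N (m + 1)) (π₃ ≫ π₂ ≫ π₁ ≫ y) := by
      have h5 := InIm.add h3 (inIm_self_comp (eMap p A S N (m + 1)) z₂)
      rwa [sub_add_cancel] at h5
    haveI := hπ₁
    haveI := hπ₂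
    haveI := hπ₃
    have h6 : InIm (eMap p A S N (m + 1)) ((π₃ ≫ π₂ ≫ π₁) ≫ y) := by
      simpa only [Category.assoc] using h4
    exact InIm.of_epi (π₃ ≫ π₂ ≫ π₁) h6

lemma e_mono (htor : ∀ X : C, ∃ n : ℕ, (p ^ n) • 𝟙 X = 0) (hS : Antitone S)
    (hD0 : ∀ m j, InIm (mu p ((S m : Subobject A) : Ind C) (N m + j))
      (mu p ((S m : Subobject A) : Ind C) (N m))) (m : ℕ)
    (hstab : InIm (hMap p A S N (m + 1)) (hMap p A S N m)) :
    InIm (eMap p A S N (m + 1)) (eMap p A S N m) := by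
  unfold InIm
  apply dense
  intro W z
  rw [comp_zero, ← Category.assoc]
  change InIm (eMap p A S N (m + 1)) (z ≫ eMap p A S N m)
  obtain ⟨s, hs⟩ := tors_el p ((S m : Subobject A) : Ind C) htor W z
  have hys : (z ≫ eMap p A S N m) ≫ mu p A s = 0 := by
    unfold eMap
    simp only [Category.assoc]
    rw [← mu_nat p (S m).arrow s, ← Category.assoc (mu p _ (N m)), ← mu_add, add_comm (N m) s,
      mu_add]
    simp only [Category.assoc]
    rw [← Category.assoc z, hs, zero_comp]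
  exact e_mono_claim p A S N hS hD0 m hstab s _ (inIm_self_comp _ _) hys

lemma decomp (hS : Antitone S)
    (hD0 : ∀ m j, InIm (mu p ((S m : Subobject A) : Ind C) (N m + j))
      (mu p ((S m : Subobject A) : Ind C) (N m))) (M₁ m : ℕ) (hm : M₁ ≤ m)
    (hE : InIm (eMap p A S N m) (eMap p A S N M₁)) {Z : Ind C}
    (x : Z ⟶ ((S m : Subobject A) : Ind C)) :
    ∃ (Z' : Ind C) (π : Z' ⟶ Z) (_ : Epi π) (d t : Z' ⟶ ((S m : Subobject A) : Ind C)),
      π ≫ x = d + t ∧ InIm (eMap p A S N m) (d ≫ (S m).arrow) ∧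
        t ≫ mu p ((S m : Subobject A) : Ind C) (N M₁) = 0 := by
  have hle : S m ≤ S M₁ := hS hm
  have hι : (S m).ofLE (S M₁) hle ≫ (S M₁).arrow = (S m).arrow := Subobject.ofLE_arrow _
  have e0 : (x ≫ (S m).ofLE (S M₁) hle) ≫ eMap p A S N M₁ =
      x ≫ mu p ((S m : Subobject A) : Ind C) (N M₁) ≫ (S m).arrow := by
    unfold eMap
    simp only [Category.assoc]
    rw [← Category.assoc ((S m).ofLE (S M₁) hle), ← mu_nat, Category.assoc, hι]
  have h1 : InIm (eMap p A S N m) ((x ≫ (S m).ofLE (S M₁) hle) ≫ eMap p A S N M₁) := hE.comp _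
  obtain ⟨Z₁, π₁, hπ₁, u, hu⟩ := h1.refine
  obtain ⟨Z₂, π₂, hπ₂, u₂, hu₂⟩ := ((hD0 m (N M₁)).comp u).refine
  haveI := hπ₁
  haveI := hπ₂
  refine ⟨Z₂, π₂ ≫ π₁, inferInstance, u₂ ≫ mu p _ (N m),
    (π₂ ≫ π₁) ≫ x - u₂ ≫ mu p _ (N m), (add_sub_cancel _ _).symm, ?_, ?_⟩
  · rw [Category.assoc]
    exact inIm_self_comp (eMap p A S N m) u₂
  · rw [← cancel_mono (S m).arrow, zero_comp, Preadditive.sub_comp, Preadditive.sub_comp,
      sub_eq_zero]
    calc (((π₂ ≫ π₁) ≫ x) ≫ mu p _ (N M₁)) ≫ (S m).arrow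
        = π₂ ≫ π₁ ≫ (x ≫ mu p _ (N M₁) ≫ (S m).arrow) := by simp only [Category.assoc]
      _ = π₂ ≫ (π₁ ≫ (x ≫ (S m).ofLE (S M₁) hle) ≫ eMap p A S N M₁) := by rw [← e0]
      _ = π₂ ≫ u ≫ eMap p A S N m := by rw [hu]
      _ = (π₂ ≫ u ≫ mu p _ (N m)) ≫ (S m).arrow := by
          unfold eMap
          simp only [Category.assoc]
      _ = (u₂ ≫ mu p _ (N m + N M₁)) ≫ (S m).arrow := by rw [hu₂]
      _ = ((u₂ ≫ mu p _ (N m)) ≫ mu p _ (N M₁)) ≫ (S m).arrow := by
          rw [mu_add]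
          simp only [Category.assoc]

lemma gz (n m : ℕ) : (kernel.ι (mu p ((S m : Subobject A) : Ind C) n) ≫ (S m).arrow) ≫
    mu p A n = 0 := by
  rw [Category.assoc, ← mu_nat, kernel.condition_assoc, zero_comp]

noncomputable def gMap (n m : ℕ) :
    kernel (mu p ((S m : Subobject A) : Ind C) n) ⟶ kernel (mu p A n) :=
  kernel.lift _ _ (gz p A S n m)

lemma gMap_ι (n m : ℕ) : gMap p A S n m ≫ kernel.ι (mu p A n) =
    kernel.ι (mu p ((S m : Subobject A) : Ind C) n) ≫ (S m).arrow :=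
  kernel.lift_ι _ _ _

lemma g_anti (hS : Antitone S) (n m : ℕ) : InIm (gMap p A S n m) (gMap p A S n (m + 1)) := by
  have hle : S (m + 1) ≤ S m := hS (Nat.le_succ m)
  have hι : (S (m + 1)).ofLE (S m) hle ≫ (S m).arrow = (S (m + 1)).arrow :=
    Subobject.ofLE_arrow _
  have hw0 : (kernel.ι (mu p ((S (m + 1) : Subobject A) : Ind C) n) ≫
      (S (m + 1)).ofLE (S m) hle) ≫ mu p ((S m : Subobject A) : Ind C) n = 0 := by
    rw [Category.assoc, ← mu_nat, kernel.condition_assoc, zero_comp]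
  have e1 : gMap p A S n (m + 1) = kernel.lift _ _ hw0 ≫ gMap p A S n m := by
    rw [← cancel_mono (kernel.ι (mu p A n)), Category.assoc, gMap_ι, gMap_ι,
      kernel.lift_ι_assoc, Category.assoc, hι]
  rw [e1]
  exact inIm_self_comp _ _

lemma main (hart : ∀ X : C, IsArtinianObject X) (htor : ∀ X : C, ∃ n : ℕ, (p ^ n) • 𝟙 X = 0)
    (hA : ∀ n : ℕ, Rep (kernel (mu p A n))) (hS : Antitone S)
    (hcof : ∀ m n : ℕ, Rep (kernel (mu p ((S m : Subobject A) : Ind C) n))) :
    ∃ M : ℕ, ∀ m : ℕ, M ≤ m → S m = S M := by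
  have h0 : ∀ m, ∃ Nm, Stab p ((S m : Subobject A) : Ind C) Nm :=
    fun m => exists_stab p _ hart (hcof m)
  choose N hN using h0
  have hD0 : ∀ m j, InIm (mu p ((S m : Subobject A) : Ind C) (N m + j))
      (mu p ((S m : Subobject A) : Ind C) (N m)) :=
    fun m j => stab_image p _ (hN m) (tors_el p _ htor) j
  obtain ⟨M₁, hM₁⟩ := chain_stab_ind' hart (kernel (mu p A 1))
    (fun m => kernel (mu p ((S m : Subobject A) : Ind C) (N m + 1))) (hA 1)
    (fun m => hcof m (N m + 1)) (hMap p A S N) (h_anti p A S N hS hD0)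
  have hE : ∀ a b, M₁ ≤ a → a ≤ b → InIm (eMap p A S N b) (eMap p A S N a) := by
    intro a b ha hab
    induction b, hab using Nat.le_induction with
    | base => exact inIm_refl _
    | succ b hb ih =>
      exact inIm_trans ih (e_mono p A S N htor hS hD0 b (hM₁ b (ha.trans hb)))
  obtain ⟨M₂, hM₂⟩ := chain_stab_ind' hart (kernel (mu p A (N M₁)))
    (fun m => kernel (mu p ((S m : Subobject A) : Ind C) (N M₁))) (hA _)
    (fun m => hcof m _) (gMap p A S (N M₁)) (g_anti p A S hS (N M₁))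
  have hG : ∀ a b, M₂ ≤ a → a ≤ b → InIm (gMap p A S (N M₁) b) (gMap p A S (N M₁) a) := by
    intro a b ha hab
    induction b, hab using Nat.le_induction with
    | base => exact inIm_refl _
    | succ b hb ih => exact inIm_trans ih (hM₂ b (ha.trans hb))
  refine ⟨max M₁ M₂, fun m hm => ?_⟩
  apply le_antisymm (hS hm)
  have key : InIm (S m).arrow (S (max M₁ M₂)).arrow := by
    obtain ⟨Z, π, hπ, d, t, hdt, hd, ht⟩ := decomp p A S N hS hD0 M₁ (max M₁ M₂)
      (le_max_left _ _) (hE M₁ (max M₁ M₂) le_rfl (le_max_left _ _)) (𝟙 _)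
    haveI := hπ
    refine InIm.of_epi π ?_
    have e1 : π ≫ (S (max M₁ M₂)).arrow =
        d ≫ (S (max M₁ M₂)).arrow + t ≫ (S (max M₁ M₂)).arrow := by
      rw [← Preadditive.add_comp, ← hdt, Category.comp_id]
    rw [e1]
    refine InIm.add ?_ ?_
    · have h1 : InIm (eMap p A S N m) (d ≫ (S (max M₁ M₂)).arrow) :=
        inIm_trans hd (hE (max M₁ M₂) m (le_max_left _ _) hm)
      have h2 : InIm (S m).arrow (eMap p A S N m) := by
        unfold eMap
        exact inIm_self_comp _ _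
      exact inIm_trans h1 h2
    · have hG' := hG (max M₁ M₂) m (le_max_right _ _) hm
      have h1 : InIm (gMap p A S (N M₁) m)
          (kernel.lift _ t ht ≫ gMap p A S (N M₁) (max M₁ M₂)) := hG'.comp _
      obtain ⟨Z₂, π₂, hπ₂, v, hv⟩ := h1.refine
      haveI := hπ₂
      refine InIm.of_epi π₂ ?_
      have e2 : π₂ ≫ t ≫ (S (max M₁ M₂)).arrow = (v ≫ kernel.ι _) ≫ (S m).arrow := by
        have h9 := congrArg (· ≫ kernel.ι (mu p A (N M₁))) hv
        simp only [Category.assoc, gMap_ι, kernel.lift_ι_assoc] at h9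
        simpa only [Category.assoc] using h9
      rw [e2]
      exact inIm_self_comp _ _
  have h3 := le_of_inIm key
  rwa [imageSubobject_mono, imageSubobject_mono, Subobject.mk_arrow, Subobject.mk_arrow] at h3

end chain

end helpers

open CategoryTheory CategoryTheory.Limits in
/-- Let C be a small abelian category all of whose objects are Artinian and killed by some power of a
prime p. The abelian category of ind-objects of C of cofinite type (those A with every A[p^n]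
isomorphic to an object of C) is Artinian: for A of cofinite type, every decreasing chain of
sub-objects of A in Ind C whose underlying objects are of cofinite type is eventually constant.
(Sub-objects of A in the full subcategory of cofinite-type objects are exactly such sub-objects,
since that subcategory is stable under kernels in Ind C.) -/
theorem result {C : Type v} [SmallCategory C] [Abelian C]
    (hart : ∀ X : C, IsArtinianObject X) (p : ℕ) (hp : p.Prime)
    (htor : ∀ X : C, ∃ n : ℕ, (p ^ n) • 𝟙 X = 0)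
    (A : Ind C) (hA : ∀ n : ℕ, (Ind.yoneda (C := C)).essImage (kernel ((p ^ n) • 𝟙 A))) (S : ℕ → Subobject A) (hS : Antitone S)
    (hcof : ∀ m n : ℕ, (Ind.yoneda (C := C)).essImage
      (kernel ((p ^ n) • 𝟙 ((S m : Subobject A) : Ind C)))) :
    ∃ N : ℕ, ∀ m : ℕ, N ≤ m → S m = S N := by
  obtain ⟨M, hM⟩ := main p A S hart htor hA hS hcof
  exact ⟨M, hM⟩

end Groth.Agent.S14495
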