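import Groth.Statements.S6794
import Mathlib
import Groth.Agent.S6792

set_option autoImplicit false
open CategoryTheory CategoryTheory.Limits
universe v u
open SpSeq SpSeq.FilCx

namespace Groth.Agent.S6794


section helpers

open CategoryTheory.Limits Groth.Agent.S6792

variable {A : Type u} [Category.{v} A] [Abelian A]

theorem factors_sub {X Y : A} (P : Subobject Y) (f g : X ⟶ Y) (hf : P.Factors f)
    (hg : P.Factors g) : P.Factors (f - g) := by
  have e : f - g = (P.factorThru f hf - P.factorThru g hg) ≫ P.arrow := by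
    rw [Preadditive.sub_comp, Subobject.factorThru_arrow, Subobject.factorThru_arrow]
  rw [e]
  exact Subobject.factors_comp_arrow _

theorem le_of_refinement {X : A} (S T : Subobject X) {W' : A} (π : W' ⟶ (S : A)) (hπ : Epi π)
    (h : T.Factors (π ≫ S.arrow)) : S ≤ T := by
  have : StrongEpi π := strongEpi_of_epi π
  have sq : CommSq (T.factorThru _ h) π T.arrow S.arrow := ⟨by simp⟩
  exact Subobject.le_of_comm sq.lift sq.fac_right

theorem exists_of_mk_factors {X Y Z : A} (f : Y ⟶ X) [Mono f] (g : Z ⟶ X)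
    (h : (Subobject.mk f).Factors g) : ∃ u : Z ⟶ Y, u ≫ f = g :=
  ⟨(Subobject.mk f).factorThru g h ≫ (Subobject.underlyingIso f).hom, by
    rw [Category.assoc, Subobject.underlyingIso_hom_comp_eq_mk, Subobject.factorThru_arrow]⟩

theorem mk_factors_comp {X Y Z : A} (f : Y ⟶ X) [Mono f] (u : Z ⟶ Y) :
    (Subobject.mk f).Factors (u ≫ f) :=
  Subobject.factors_of_factors_right u (Subobject.mk_factors_self f)

theorem image_refine {X Y W : A} (g : X ⟶ Y) (x : W ⟶ Y) (h : (imageSubobject g).Factors x) :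
    ∃ (W' : A) (π : W' ⟶ W) (_ : Epi π) (w : W' ⟶ X), π ≫ x = w ≫ g := by
  obtain ⟨W', π, hπ, w, hw⟩ :=
    surjective_up_to_refinements_of_epi (factorThruImageSubobject g)
      ((imageSubobject g).factorThru x h)
  refine ⟨W', π, hπ, w, ?_⟩
  rw [← Subobject.factorThru_arrow _ x h, ← Category.assoc, hw, Category.assoc,
    imageSubobject_arrow_comp]

theorem cycle_of_mono {F L : CochainComplex A ℤ} (i : F ⟶ L) [Mono i] {W : A} (m m' : ℤ)
    (y : W ⟶ F.X m) (h : (y ≫ i.f m) ≫ L.d m m' = 0) : y ≫ F.d m m' = 0 := by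
  rw [← cancel_mono (i.f m'), zero_comp, Category.assoc, ← i.comm, ← Category.assoc]
  exact h

variable (K : SpSeq.FilCx A)

theorem filX_le (n : ℤ) {p q : ℤ} (h : p ≤ q) : K.filX q n ≤ K.filX p n := K.filX_anti n h

theorem exists_of_filX_factors (p n : ℤ) {W : A} (x : W ⟶ K.obj.X n)
    (h : (K.filX p n).Factors x) :
    ∃ y : W ⟶ (K.fil p : CochainComplex A ℤ).X n, y ≫ (K.fil p).arrow.f n = x :=
  exists_of_mk_factors _ x h

theorem filX_factors_comp (p n : ℤ) {W : A} (y : W ⟶ (K.fil p : CochainComplex A ℤ).X n) :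
    (K.filX p n).Factors (y ≫ (K.fil p).arrow.f n) :=
  mk_factors_comp _ y

theorem stepLE_f (n : ℤ) {p q : ℤ} (h : p ≤ q) :
    (K.stepLE h).f n ≫ (K.fil p).arrow.f n = (K.fil q).arrow.f n := by
  rw [← HomologicalComplex.comp_f, Subobject.ofLE_arrow]

theorem image_factors_of_bdry (p n : ℤ) {W : A}
    (z : W ⟶ (K.fil p : CochainComplex A ℤ).X (n - 1)) :
    (imageSubobject ((K.filX p (n - 1)).arrow ≫ K.obj.d (n - 1) n)).Factors
      ((z ≫ (K.fil p : CochainComplex A ℤ).d (n - 1) n) ≫ (K.fil p).arrow.f n) := by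
  have hf := filX_factors_comp K p (n - 1) z
  have e : (z ≫ (K.fil p : CochainComplex A ℤ).d (n - 1) n) ≫ (K.fil p).arrow.f n =
      (K.filX p (n - 1)).factorThru _ hf ≫ ((K.filX p (n - 1)).arrow ≫ K.obj.d (n - 1) n) := by
    rw [← Category.assoc, Subobject.factorThru_arrow, Category.assoc, Category.assoc,
      (K.fil p).arrow.comm]
  rw [e]
  exact imageSubobject_factors_comp_self _ _

/-- The hypothesis: cycles of `F^q` in degree `n+1` that become boundaries in `K` are boundaries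
in `F^q` (up to refinement). -/
def BdryLift (q n : ℤ) : Prop :=
  ∀ ⦃W : A⦄ (y : W ⟶ (K.fil q : CochainComplex A ℤ).X (n + 1))
    (_ : y ≫ (K.fil q : CochainComplex A ℤ).d (n + 1) (n + 2) = 0)
    (x' : W ⟶ K.obj.X n) (_ : y ≫ (K.fil q).arrow.f (n + 1) = x' ≫ K.obj.d n (n + 1)),
    ∃ (W' : A) (π : W' ⟶ W) (_ : Epi π) (z : W' ⟶ (K.fil q : CochainComplex A ℤ).X n),
      π ≫ y = z ≫ (K.fil q : CochainComplex A ℤ).d n (n + 1)

theorem bdryLift_of_isZero (q n : ℤ)
    (h : IsZero ((K.fil q : CochainComplex A ℤ).homology (n + 1))) : BdryLift K q n := by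
  intro W y hy x' _
  have hex : (K.fil q : CochainComplex A ℤ).ExactAt (n + 1) := by
    rw [HomologicalComplex.exactAt_iff_isZero_homology]; exact h
  exact (HomologicalComplex.exactAt_iff_exact_up_to_refinements _ n (n + 1) (n + 2)
    (by simp) (by rw [CochainComplex.next]; omega)).mp hex y hy

theorem bdryLift_of_mono (q n : ℤ)
    (h : Mono (HomologicalComplex.homologyMap (K.fil q).arrow (n + 1))) : BdryLift K q n := by
  intro W y hy x' hx'
  exact (HomologicalComplex.mono_homologyMap_iff_up_to_refinements (K.fil q).arrow n (n + 1) (n + 2)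
    (by simp) (by rw [CochainComplex.next]; omega)).mp h y hy x' hx'

theorem stepA (p n q : ℤ) (hq : p ≤ q) (hB : BdryLift K q n) {W : A} (x : W ⟶ K.obj.X n)
    (hx1 : (K.filX p n).Factors x) (hx2 : (K.filX q (n + 1)).Factors (x ≫ K.obj.d n (n + 1))) :
    ∃ (W' : A) (π : W' ⟶ W) (_ : Epi π) (u v : W' ⟶ K.obj.X n), π ≫ x = u + v ∧
      (K.filX p n).Factors u ∧ u ≫ K.obj.d n (n + 1) = 0 ∧ (K.filX q n).Factors v := by
  obtain ⟨y, hy⟩ := exists_of_filX_factors K q (n + 1) _ hx2
  have hyc : y ≫ (K.fil q : CochainComplex A ℤ).d (n + 1) (n + 2) = 0 :=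
    cycle_of_mono (K.fil q).arrow (n + 1) (n + 2) y
      (by rw [hy, Category.assoc, K.obj.d_comp_d, comp_zero])
  obtain ⟨W', π, hπ, z, hz⟩ := hB y hyc x hy
  have e1 : π ≫ x ≫ K.obj.d n (n + 1) =
      (z ≫ (K.fil q : CochainComplex A ℤ).d n (n + 1)) ≫ (K.fil q).arrow.f (n + 1) := by
    rw [← hy, ← Category.assoc, hz]
  have e2 : (z ≫ (K.fil q).arrow.f n) ≫ K.obj.d n (n + 1) =
      (z ≫ (K.fil q : CochainComplex A ℤ).d n (n + 1)) ≫ (K.fil q).arrow.f (n + 1) := by
    rw [Category.assoc, (K.fil q).arrow.comm, ← Category.assoc]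
  refine ⟨W', π, hπ, π ≫ x - z ≫ (K.fil q).arrow.f n, z ≫ (K.fil q).arrow.f n,
    (sub_add_cancel _ _).symm, ?_, ?_, filX_factors_comp K q n z⟩
  · exact factors_sub _ _ _ (Subobject.factors_of_factors_right π hx1)
      (Subobject.factors_of_le _ (filX_le K n hq) (filX_factors_comp K q n z))
  · rw [Preadditive.sub_comp, Category.assoc, e1, e2, sub_self]

theorem ZTop_le_ZSub (r : ℕ) (p n : ℤ) : K.ZTop p n ≤ K.ZSub r p n := by
  unfold SpSeq.FilCx.ZTop SpSeq.FilCx.ZSub
  exact sup_le_sup_right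
    (inf_le_inf_left _ (SpSeq.FilCx.kernelSubobject_le_pullback _ _)) _

theorem BSub_le_BBot (r : ℕ) (p n : ℤ) : K.BSub r p n ≤ K.BBot p n := by
  unfold SpSeq.FilCx.BSub SpSeq.FilCx.BBot
  exact sup_le_sup_right (inf_le_inf_left _ (imageSubobject_comp_le _ _)) _

theorem ZSub_le_ZTop (r : ℕ) (p n : ℤ) (hr : 1 ≤ r)
    (hB : BdryLift K (p + (r : ℤ)) n) : K.ZSub r p n ≤ K.ZTop p n := by
  unfold SpSeq.FilCx.ZTop SpSeq.FilCx.ZSub
  refine sup_le ?_ le_sup_right
  set S := K.filX p n ⊓ (Subobject.pullback (K.obj.d n (n + 1))).obj (K.filX (p + (r : ℤ)) (n + 1))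
    with hS
  have hx1 : (K.filX p n).Factors S.arrow := Subobject.inf_arrow_factors_left _ _
  have hx2 : (K.filX (p + (r : ℤ)) (n + 1)).Factors (S.arrow ≫ K.obj.d n (n + 1)) :=
    (pullback_factors_iff _ _ _).mp (Subobject.inf_arrow_factors_right _ _)
  obtain ⟨W', π, hπ, u, v, huv, hu1, hu2, hv⟩ :=
    stepA K p n (p + (r : ℤ)) (by omega) hB S.arrow hx1 hx2
  refine le_of_refinement S _ π hπ ?_
  rw [huv]
  exact Subobject.factors_add _ _
    (Subobject.sup_factors_of_factors_left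
      ((Subobject.inf_factors u).mpr ⟨hu1, kernelSubobject_factors _ u hu2⟩))
    (Subobject.sup_factors_of_factors_right
      (Subobject.factors_of_le v (filX_le K n (by omega)) hv))

theorem stepB (p n q' q : ℤ) (hq'q : q' ≤ q) (hqp : q ≤ p)
    (hmono : Mono (HomologicalComplex.homologyMap (K.fil q).arrow n)) {W : A}
    (x : W ⟶ K.obj.X n) (hx1 : (K.filX p n).Factors x)
    (hx2 : (imageSubobject (K.obj.d (n - 1) n)).Factors x) :
    ∃ (W' : A) (π : W' ⟶ W) (_ : Epi π),
      (imageSubobject ((K.filX q' (n - 1)).arrow ≫ K.obj.d (n - 1) n)).Factors (π ≫ x) := by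
  obtain ⟨yp, hyp⟩ := exists_of_filX_factors K p n x hx1
  obtain ⟨W₁, π₁, hπ₁, w, hw⟩ := image_refine _ x hx2
  have hyq : (yp ≫ (K.stepLE hqp).f n) ≫ (K.fil q).arrow.f n = x := by
    rw [Category.assoc, stepLE_f, hyp]
  have hxd : x ≫ K.obj.d n (n + 1) = 0 := by
    rw [← cancel_epi π₁, ← Category.assoc, hw, Category.assoc, K.obj.d_comp_d, comp_zero,
      comp_zero]
  have hc : (π₁ ≫ yp ≫ (K.stepLE hqp).f n) ≫
      (K.fil q : CochainComplex A ℤ).d n (n + 1) = 0 := by
    rw [Category.assoc, cycle_of_mono (K.fil q).arrow n (n + 1) (yp ≫ (K.stepLE hqp).f n)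
      (by rw [hyq, hxd]), comp_zero]
  obtain ⟨W₂, π₂, hπ₂, x₁, hx₁⟩ :=
    (HomologicalComplex.mono_homologyMap_iff_up_to_refinements (K.fil q).arrow (n - 1) n (n + 1)
      (by simp) (by simp)).mp hmono (π₁ ≫ yp ≫ (K.stepLE hqp).f n) hc w
      (by rw [Category.assoc, hyq, hw])
  refine ⟨W₂, π₂ ≫ π₁, epi_comp _ _, ?_⟩
  have e : (π₂ ≫ π₁) ≫ x =
      (x₁ ≫ (K.fil q : CochainComplex A ℤ).d (n - 1) n) ≫ (K.fil q).arrow.f n := by
    rw [← hx₁, Category.assoc, Category.assoc, Category.assoc, hyq]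
  rw [e]
  have h1 := image_factors_of_bdry K q n x₁
  obtain ⟨W₃, π₃, hπ₃, w₃, hw₃⟩ := image_refine _ _ h1
  -- simpler: monotonicity of images
  have hle : imageSubobject ((K.filX q (n - 1)).arrow ≫ K.obj.d (n - 1) n) ≤
      imageSubobject ((K.filX q' (n - 1)).arrow ≫ K.obj.d (n - 1) n) := by
    have e3 : (K.filX q (n - 1)).arrow =
        (K.filX q (n - 1)).ofLE (K.filX q' (n - 1)) (filX_le K (n - 1) hq'q) ≫
          (K.filX q' (n - 1)).arrow := (Subobject.ofLE_arrow _).symm
    rw [e3, Category.assoc]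
    exact imageSubobject_comp_le _ _
  exact Subobject.factors_of_le _ hle h1

theorem BBot_le_BSub (r : ℕ) (p n q : ℤ) (hq : p - (r : ℤ) + 1 ≤ q) (hqp : q ≤ p)
    (hmono : Mono (HomologicalComplex.homologyMap (K.fil q).arrow n)) :
    K.BBot p n ≤ K.BSub r p n := by
  unfold SpSeq.FilCx.BSub SpSeq.FilCx.BBot
  refine sup_le_sup_right (le_inf inf_le_left ?_) _
  set S := K.filX p n ⊓ imageSubobject (K.obj.d (n - 1) n) with hS
  have hx1 : (K.filX p n).Factors S.arrow := Subobject.inf_arrow_factors_left _ _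
  have hx2 : (imageSubobject (K.obj.d (n - 1) n)).Factors S.arrow :=
    Subobject.inf_arrow_factors_right _ _
  obtain ⟨W', π, hπ, h⟩ := stepB K p n (p - (r : ℤ) + 1) q hq hqp hmono S.arrow hx1 hx2
  exact le_of_refinement S _ π hπ h

/-- The target subobject `B_1`, with simplified index. -/
noncomputable def Rsub (p n : ℤ) : Subobject (K.obj.X n) :=
  (K.filX p n ⊓ imageSubobject ((K.filX p (n - 1)).arrow ≫ K.obj.d (n - 1) n)) ⊔ K.filX (p + 1) n

theorem image_congr (n : ℤ) {a b : ℤ} (h : a = b) :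
    imageSubobject ((K.filX a (n - 1)).arrow ≫ K.obj.d (n - 1) n) =
      imageSubobject ((K.filX b (n - 1)).arrow ≫ K.obj.d (n - 1) n) := by
  subst h; rfl

theorem BSub_one (p n : ℤ) : K.BSub 1 p n = Rsub K p n := by
  unfold SpSeq.FilCx.BSub Rsub
  have e : p - ((1 : ℕ) : ℤ) + 1 = p := by push_cast; ring
  rw [image_congr K n e]

theorem cyc_large (p n : ℤ) (hH : IsZero ((K.fil p : CochainComplex A ℤ).homology n)) {W : A}
    (u : W ⟶ K.obj.X n) (hu1 : (K.filX p n).Factors u) (hu2 : u ≫ K.obj.d n (n + 1) = 0) :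
    ∃ (W' : A) (π : W' ⟶ W) (_ : Epi π), (Rsub K p n).Factors (π ≫ u) := by
  obtain ⟨up, hup⟩ := exists_of_filX_factors K p n u hu1
  have hc : up ≫ (K.fil p : CochainComplex A ℤ).d n (n + 1) = 0 :=
    cycle_of_mono (K.fil p).arrow n (n + 1) up (by rw [hup, hu2])
  have hex : (K.fil p : CochainComplex A ℤ).ExactAt n := by
    rw [HomologicalComplex.exactAt_iff_isZero_homology]; exact hH
  obtain ⟨W', π, hπ, z, hz⟩ :=
    (HomologicalComplex.exactAt_iff_exact_up_to_refinements _ (n - 1) n (n + 1)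
      (by simp) (by simp)).mp hex up hc
  refine ⟨W', π, hπ, ?_⟩
  have e : π ≫ u = (z ≫ (K.fil p : CochainComplex A ℤ).d (n - 1) n) ≫ (K.fil p).arrow.f n := by
    rw [← hz, Category.assoc, hup]
  unfold Rsub
  apply Subobject.sup_factors_of_factors_left
  rw [Subobject.inf_factors]
  constructor
  · exact Subobject.factors_of_factors_right π hu1
  · rw [e]
    exact image_factors_of_bdry K p n z

theorem cyc_small (p n : ℤ)
    (hepi : Epi (HomologicalComplex.homologyMap (K.fil (p + 1)).arrow n))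
    (hmono : Mono (HomologicalComplex.homologyMap (K.fil p).arrow n)) {W : A}
    (u : W ⟶ K.obj.X n) (hu1 : (K.filX p n).Factors u) (hu2 : u ≫ K.obj.d n (n + 1) = 0) :
    ∃ (W' : A) (π : W' ⟶ W) (_ : Epi π), (Rsub K p n).Factors (π ≫ u) := by
  obtain ⟨up, hup⟩ := exists_of_filX_factors K p n u hu1
  obtain ⟨W₂, π₂, hπ₂, c, hc, y₁, hy₁⟩ :=
    (HomologicalComplex.epi_homologyMap_iff_up_to_refinements (K.fil (p + 1)).arrow (n - 1) n
      (n + 1) (by simp) (by simp)).mp hepi u hu2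
  have hpp : p ≤ p + 1 := by omega
  -- the element `e` of `F^p`
  have he1 : (π₂ ≫ up - c ≫ (K.stepLE hpp).f n) ≫ (K.fil p).arrow.f n =
      y₁ ≫ K.obj.d (n - 1) n := by
    rw [Preadditive.sub_comp, Category.assoc, Category.assoc, stepLE_f, hup, hy₁,
      add_sub_cancel_left]
  have hec : (π₂ ≫ up - c ≫ (K.stepLE hpp).f n) ≫
      (K.fil p : CochainComplex A ℤ).d n (n + 1) = 0 :=
    cycle_of_mono (K.fil p).arrow n (n + 1) _
      (by rw [he1, Category.assoc, K.obj.d_comp_d, comp_zero])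
  obtain ⟨W₃, π₃, hπ₃, x₁, hx₁⟩ :=
    (HomologicalComplex.mono_homologyMap_iff_up_to_refinements (K.fil p).arrow (n - 1) n (n + 1)
      (by simp) (by simp)).mp hmono _ hec y₁ he1
  refine ⟨W₃, π₃ ≫ π₂, epi_comp _ _, ?_⟩
  have e : (π₃ ≫ π₂) ≫ u =
      (x₁ ≫ (K.fil p : CochainComplex A ℤ).d (n - 1) n) ≫ (K.fil p).arrow.f n +
        (π₃ ≫ c) ≫ (K.fil (p + 1)).arrow.f n := by
    rw [← hx₁, Category.assoc, Category.assoc, he1, Category.assoc, hy₁, Preadditive.comp_add,
      add_comm]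
  rw [e]
  unfold Rsub
  refine Subobject.factors_add _ _ (Subobject.sup_factors_of_factors_left ?_)
    (Subobject.sup_factors_of_factors_right (filX_factors_comp K (p + 1) n _))
  rw [Subobject.inf_factors]
  exact ⟨filX_factors_comp K p n _, image_factors_of_bdry K p n x₁⟩

theorem ZSub_one_le (p n : ℤ) (hB : BdryLift K (p + 1) n)
    (hcyc : ∀ ⦃W : A⦄ (u : W ⟶ K.obj.X n), (K.filX p n).Factors u → u ≫ K.obj.d n (n + 1) = 0 →
      ∃ (W' : A) (π : W' ⟶ W) (_ : Epi π), (Rsub K p n).Factors (π ≫ u)) :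
    K.ZSub 1 p n ≤ K.BSub 1 p n := by
  rw [BSub_one]
  unfold SpSeq.FilCx.ZSub
  rw [Nat.cast_one]
  refine sup_le ?_ (by unfold Rsub; exact le_sup_right)
  set S := K.filX p n ⊓ (Subobject.pullback (K.obj.d n (n + 1))).obj (K.filX (p + 1) (n + 1))
    with hS
  have hx1 : (K.filX p n).Factors S.arrow := Subobject.inf_arrow_factors_left _ _
  have hx2 : (K.filX (p + 1) (n + 1)).Factors (S.arrow ≫ K.obj.d n (n + 1)) :=
    (pullback_factors_iff _ _ _).mp (Subobject.inf_arrow_factors_right _ _)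
  obtain ⟨W', π, hπ, u, v, huv, hu1, hu2, hv⟩ :=
    stepA K p n (p + 1) (by omega) hB S.arrow hx1 hx2
  obtain ⟨W'', π', hπ', hR⟩ := hcyc u hu1 hu2
  refine le_of_refinement S _ (π' ≫ π) (epi_comp _ _) ?_
  rw [Category.assoc, huv, Preadditive.comp_add]
  refine Subobject.factors_add _ _ hR ?_
  unfold Rsub
  exact Subobject.sup_factors_of_factors_right (Subobject.factors_of_factors_right π' hv)

theorem E_one_isZero (p n : ℤ) (hB : BdryLift K (p + 1) n)
    (hcyc : ∀ ⦃W : A⦄ (u : W ⟶ K.obj.X n), (K.filX p n).Factors u → u ≫ K.obj.d n (n + 1) = 0 →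
      ∃ (W' : A) (π : W' ⟶ W) (_ : Epi π), (Rsub K p n).Factors (π ≫ u)) :
    IsZero (K.E 1 p n) := by
  unfold SpSeq.FilCx.E
  apply subquot_isZero
  exact le_antisymm (K.BSub_le_ZSub 1 p n) (ZSub_one_le K p n hB hcyc)

end helpers

/-- If the cohomology of the filtration steps of a filtered complex vanishes in each degree for large
filtration index and maps isomorphically to the cohomology of the whole complex for small filtration
index, then the spectral sequence is bounded from page `1` on, the induced filtrations on cohomology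
are finite, and the spectral sequence converges. (The published statement asserts boundedness
without naming a page, which read from page `0` fails for an acyclic complex with an infinite
filtration by acyclic subcomplexes; this row asserts boundedness from page `1`, which is what the
published proof shows.) -/
theorem result {A : Type u} [Category.{v} A] [Abelian A] (K : SpSeq.FilCx A) (h0 : ∀ n : ℤ, ∃ p₀ : ℤ, ∀ p : ℤ, p₀ ≤ p → IsZero ((K.fil p : CochainComplex A ℤ).homology n)) (h1 : ∀ n : ℤ, ∃ p₁ : ℤ, ∀ p : ℤ, p ≤ p₁ → IsIso (HomologicalComplex.homologyMap (K.fil p).arrow n)) : K.IsBounded 1 ∧ (∀ n : ℤ, (K.HFil n).IsFinite) ∧ K.Converges := by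
  have hfin : ∀ n : ℤ, (K.HFil n).IsFinite := by
    intro n
    obtain ⟨P0, hP0⟩ := h0 n
    obtain ⟨P1, hP1⟩ := h1 n
    refine ⟨⟨P1, ?_⟩, ⟨P0, ?_⟩⟩
    · show K.filH P1 n = ⊤
      unfold SpSeq.FilCx.filH
      haveI := hP1 P1 le_rfl
      rw [imageSubobject_mono, Subobject.mk_eq_top_of_isIso]
    · show K.filH P0 n = ⊥
      unfold SpSeq.FilCx.filH
      exact Groth.Agent.S6792.imageSubobject_eq_bot_of_eq_zero _
        ((hP0 P0 le_rfl).eq_of_src _ _)
  refine ⟨?_, hfin, ⟨?_, ⟨?_, fun n => Groth.Agent.S6792.sep_of_finite _ (hfin n)⟩, fun n => ?_⟩⟩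
  · -- bounded from page 1
    intro n
    obtain ⟨P0, hP0⟩ := h0 n
    obtain ⟨P0', hP0'⟩ := h0 (n + 1)
    obtain ⟨P1, hP1⟩ := h1 n
    obtain ⟨P1', hP1'⟩ := h1 (n + 1)
    apply (Set.finite_Ioo (min P1 P1' - 1) (max P0 P0')).subset
    intro p hp
    by_contra hcon
    apply hp
    rw [Set.mem_Ioo, not_and_or, not_lt, not_lt] at hcon
    rcases hcon with h | h
    · -- small p
      have a1 : p + 1 ≤ P1 := by have := min_le_left P1 P1'; omega
      have a2 : p + 1 ≤ P1' := by have := min_le_right P1 P1'; omega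
      haveI := hP1 (p + 1) a1
      haveI := hP1 p (by omega)
      haveI := hP1' (p + 1) a2
      exact E_one_isZero K p n (bdryLift_of_mono K (p + 1) n inferInstance)
        (fun W u hu1 hu2 => cyc_small K p n inferInstance inferInstance u hu1 hu2)
    · -- large p
      have b1 : P0 ≤ p := le_trans (le_max_left P0 P0') h
      have b2 : P0' ≤ p + 1 := by have := le_max_right P0 P0'; omega
      exact E_one_isZero K p n (bdryLift_of_isZero K (p + 1) n (hP0' (p + 1) b2))
        (fun W u hu1 hu2 => cyc_large K p n (hP0 p b1) u hu1 hu2)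
  · -- regular
    intro p n
    obtain ⟨P0, hP0⟩ := h0 (n + 1)
    have key : ∀ r : ℕ, max 1 (P0 - p).toNat ≤ r → K.ZSub r p n = K.ZTop p n := by
      intro r hr
      have hr1 : 1 ≤ r := le_trans (le_max_left _ _) hr
      have hr2 : (P0 - p).toNat ≤ r := le_trans (le_max_right _ _) hr
      exact le_antisymm (ZSub_le_ZTop K r p n hr1
        (bdryLift_of_isZero K _ n (hP0 _ (by omega)))) (ZTop_le_ZSub K r p n)
    exact ⟨max 1 (P0 - p).toNat, fun r hr => (key r hr).trans (key _ le_rfl).symm⟩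
  · -- weakly converges
    intro p n
    constructor
    · obtain ⟨P0, hP0⟩ := h0 (n + 1)
      constructor
      · rintro _ ⟨r, rfl⟩
        exact ZTop_le_ZSub K r p n
      · intro S hS
        have h1' : S ≤ K.ZSub (max 1 (P0 - p).toNat) p n := hS (Set.mem_range_self _)
        have hr1 : 1 ≤ max 1 (P0 - p).toNat := le_max_left _ _
        have hr2 : (P0 - p).toNat ≤ max 1 (P0 - p).toNat := le_max_right _ _
        exact h1'.trans (ZSub_le_ZTop K _ p n hr1
          (bdryLift_of_isZero K _ n (hP0 _ (by omega))))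
    · obtain ⟨P1, hP1⟩ := h1 n
      constructor
      · rintro _ ⟨r, rfl⟩
        exact BSub_le_BBot K r p n
      · intro S hS
        have h1' : K.BSub (p + 1 - min p P1).toNat p n ≤ S := hS (Set.mem_range_self _)
        haveI := hP1 (min p P1) (min_le_right _ _)
        refine le_trans (BBot_le_BSub K _ p n (min p P1) ?_ (min_le_left _ _) inferInstance) h1'
        have := min_le_left p P1
        omega
  · obtain ⟨-, ⟨b, hb⟩⟩ := hfin n
    exact Groth.Agent.S6792.complete_of_bot _ b hb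

end Groth.Agent.S6794
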