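import Groth.Statements.S14497
import Mathlib
import Groth.Agent.S6794

set_option autoImplicit false
universe v u
open IndCof

namespace Groth.Agent.S14497


section helpers
open CategoryTheory CategoryTheory.Limits

variable {V : Type u} [Category.{v} V] [Abelian V] {B : V}

lemma arrow_comm (S : Subobject B) (k : ℕ) :
    (k • 𝟙 (S : V)) ≫ S.arrow = S.arrow ≫ (k • 𝟙 B) := by
  rw [Preadditive.nsmul_comp, Preadditive.comp_nsmul, Category.id_comp, Category.comp_id]

lemma mu_mul (a b : ℕ) : ((a * b) • 𝟙 B : B ⟶ B) = (a • 𝟙 B) ≫ (b • 𝟙 B) := by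
  rw [Preadditive.nsmul_comp, Category.id_comp, mul_nsmul']

lemma le_image_of_epi (S : Subobject B) (k : ℕ) (h : Epi (k • 𝟙 (S : V))) :
    S ≤ imageSubobject (k • 𝟙 B) := by
  refine Groth.Agent.S6794.le_of_refinement S _ (k • 𝟙 (S : V)) h ?_
  rw [arrow_comm]
  exact imageSubobject_factors_comp_self _ _

lemma image_le_of_torsion (B' : Subobject B) (M : ℕ) (h : M • 𝟙 (cokernel B'.arrow) = 0) :
    imageSubobject (M • 𝟙 B) ≤ B' := by
  have h1 : M • cokernel.π B'.arrow = cokernel.π B'.arrow ≫ (M • 𝟙 _) := by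
    rw [Preadditive.comp_nsmul, Category.comp_id]
  have h0 : (M • 𝟙 B) ≫ cokernel.π B'.arrow = 0 := by
    rw [Preadditive.nsmul_comp, Category.id_comp, h1, h, comp_zero]
  exact imageSubobject_le _ (Abelian.monoLift B'.arrow _ h0) (Abelian.monoLift_comp _ _ _)

lemma isIso_ofLE_of_eq {X Y : Subobject B} (h : X = Y) : IsIso (X.ofLE Y h.le) := by
  subst h
  rw [Subobject.ofLE_refl]
  infer_instance

lemma epi_smul_image (m k : ℕ)
    (hI : imageSubobject ((k * m) • 𝟙 B) = imageSubobject (m • 𝟙 B)) :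
    Epi (k • 𝟙 ((imageSubobject (m • 𝟙 B) : Subobject B) : V)) := by
  have he : factorThruImageSubobject (m • 𝟙 B) ≫ (imageSubobject (m • 𝟙 B)).arrow = m • 𝟙 B :=
    imageSubobject_arrow_comp _
  have hg : (factorThruImageSubobject (m • 𝟙 B) ≫
      (k • 𝟙 ((imageSubobject (m • 𝟙 B) : Subobject B) : V))) ≫
      (imageSubobject (m • 𝟙 B)).arrow = (k * m) • 𝟙 B := by
    rw [Category.assoc, arrow_comm, ← Category.assoc, he, mul_comm, mu_mul]
  haveI := isIso_ofLE_of_eq hI
  have hg2 : factorThruImageSubobject (m • 𝟙 B) ≫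
      (k • 𝟙 ((imageSubobject (m • 𝟙 B) : Subobject B) : V)) =
      factorThruImageSubobject ((k * m) • 𝟙 B) ≫
        (imageSubobject ((k * m) • 𝟙 B)).ofLE (imageSubobject (m • 𝟙 B)) hI.le := by
    rw [← cancel_mono (imageSubobject (m • 𝟙 B)).arrow, hg, Category.assoc, Subobject.ofLE_arrow,
      imageSubobject_arrow_comp]
  haveI : Epi (factorThruImageSubobject (m • 𝟙 B) ≫
      (k • 𝟙 ((imageSubobject (m • 𝟙 B) : Subobject B) : V))) := by
    rw [hg2]; infer_instance
  exact epi_of_epi (factorThruImageSubobject (m • 𝟙 B)) _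

lemma torsion_coker_image (m : ℕ) :
    m • 𝟙 (cokernel (imageSubobject (m • 𝟙 B)).arrow) = 0 := by
  have e : (m • 𝟙 B) ≫ cokernel.π (imageSubobject (m • 𝟙 B)).arrow = 0 := by
    calc (m • 𝟙 B) ≫ cokernel.π (imageSubobject (m • 𝟙 B)).arrow
        = (factorThruImageSubobject (m • 𝟙 B) ≫ (imageSubobject (m • 𝟙 B)).arrow) ≫
            cokernel.π (imageSubobject (m • 𝟙 B)).arrow := by rw [imageSubobject_arrow_comp]
      _ = 0 := by rw [Category.assoc, cokernel.condition, comp_zero]
  rw [← cancel_epi (cokernel.π (imageSubobject (m • 𝟙 B)).arrow), comp_zero,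
    Preadditive.comp_nsmul, Category.comp_id]
  rw [Preadditive.nsmul_comp, Category.id_comp] at e
  exact e

end helpers

open CategoryTheory CategoryTheory.Limits in
/-- Let B be an object of an abelian category and consider the inverse system, indexed by the positive
integers ordered by divisibility, with every term equal to B and transition map from the m-th to the
n-th term (n ∣ m) given by multiplication by m/n. This system is Mittag-Leffler, i.e. for every n
the images in the n-th term of the transition maps are eventually constant, if and only if B has a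
divisible sub-object B' (multiplication by every positive integer is an epimorphism of B') with B/B'
killed by some positive integer. Moreover such a B' is the largest divisible sub-object of B. -/
theorem result
    {V : Type u} [Category.{v} V] [Abelian V] (B : V) :
    ((∀ n : ℕ, 0 < n → ∃ m : ℕ, 0 < m ∧ n ∣ m ∧ ∀ m' : ℕ, 0 < m' → m ∣ m' →
        imageSubobject ((m' / n) • 𝟙 B) = imageSubobject ((m / n) • 𝟙 B)) ↔
      ∃ B' : Subobject B, (∀ k : ℕ, 0 < k → Epi (k • 𝟙 (B' : V))) ∧
        ∃ M : ℕ, 0 < M ∧ M • 𝟙 (cokernel B'.arrow) = 0) ∧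
    (∀ B' : Subobject B, (∀ k : ℕ, 0 < k → Epi (k • 𝟙 (B' : V))) →
      (∃ M : ℕ, 0 < M ∧ M • 𝟙 (cokernel B'.arrow) = 0) →
      ∀ D : Subobject B, (∀ k : ℕ, 0 < k → Epi (k • 𝟙 (D : V))) → D ≤ B') := by
  refine ⟨⟨?_, ?_⟩, ?_⟩
  · intro hML
    obtain ⟨m, hm0, -, hm⟩ := hML 1 Nat.one_pos
    simp only [Nat.div_one] at hm
    refine ⟨imageSubobject (m • 𝟙 B), ?_, m, hm0, torsion_coker_image m⟩
    intro k hk
    exact epi_smul_image m k (hm (k * m) (Nat.mul_pos hk hm0) (Dvd.intro_left k rfl))
  · rintro ⟨B', hdiv, M, hM0, hM⟩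
    intro n hn
    have hIm : ∀ t : ℕ, 0 < t → imageSubobject ((M * t) • 𝟙 B) = B' := by
      intro t ht
      apply le_antisymm
      · calc imageSubobject ((M * t) • 𝟙 B)
            = imageSubobject ((t • 𝟙 B) ≫ (M • 𝟙 B)) := by rw [mul_comm, mu_mul]
          _ ≤ imageSubobject (M • 𝟙 B) := imageSubobject_comp_le _ _
          _ ≤ B' := image_le_of_torsion B' M hM
      · exact le_image_of_epi B' _ (hdiv _ (Nat.mul_pos hM0 ht))
    refine ⟨n * M, Nat.mul_pos hn hM0, Dvd.intro M rfl, ?_⟩
    intro m' hm'0 hdvd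
    obtain ⟨t, rfl⟩ := hdvd
    have ht : 0 < t := by
      rcases Nat.eq_zero_or_pos t with rfl | h
      · simp at hm'0
      · exact h
    have e1 : n * M * t / n = M * t := by
      rw [mul_assoc]; exact Nat.mul_div_cancel_left _ hn
    have e2 : n * M / n = M := Nat.mul_div_cancel_left _ hn
    rw [e1, e2, hIm t ht]
    have h1 := hIm 1 Nat.one_pos
    rw [mul_one] at h1
    exact h1.symm
  · intro B' _ hex D hD
    obtain ⟨M, hM0, hM⟩ := hex
    exact (le_image_of_epi D M (hD M hM0)).trans (image_le_of_torsion B' M hM)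

end Groth.Agent.S14497
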