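import Groth.Statements.S14496
import Mathlib
import Groth.Agent.S14494
import Groth.Agent.S14497

set_option autoImplicit false
universe v
open IndCof

namespace Groth.Agent.S14496


section helpers
open CategoryTheory CategoryTheory.Limits Groth.Agent.S14494

variable {C : Type v} [SmallCategory C] [Abelian C]

lemma epi_pow {X : Ind C} (p : ℕ) (h : Epi (p • 𝟙 X)) (k : ℕ) : Epi ((p ^ k) • 𝟙 X) := by
  induction k with
  | zero =>
    rw [pow_zero, one_nsmul]
    infer_instance
  | succ k ih =>
    rw [pow_succ, nsmul_mul']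
    haveI := ih
    haveI := h
    exact epi_comp _ _

/-- The `p^n`-torsion of a sub-object `D` of `A` onto which `A` surjects compatibly with `p^N`
is a quotient of `A[p^(N+n)]` by `A[p^N]`. -/
lemma rep_ker_image (p : ℕ) (A : Ind C) (hA : ∀ n, Rep (kernel (mu p A n))) (N n : ℕ)
    (D : Subobject A) (e : A ⟶ (D : Ind C)) [Epi e] (hea : e ≫ D.arrow = mu p A N) :
    Rep (kernel (mu p (D : Ind C) n)) := by
  have hιe : kernel.ι (mu p A N) ≫ e = 0 := by
    rw [← cancel_mono D.arrow, Category.assoc, hea, kernel.condition, zero_comp]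
  have hj0 : kernel.ι (mu p A N) ≫ mu p A (N + n) = 0 := by
    rw [mu_add, ← Category.assoc, kernel.condition, zero_comp]
  have hg0 : (kernel.ι (mu p A (N + n)) ≫ e) ≫ mu p (D : Ind C) n = 0 := by
    rw [← cancel_mono D.arrow, zero_comp, Category.assoc, Category.assoc, mu_nat,
      ← Category.assoc e, hea, ← mu_add, kernel.condition]
  let j := kernel.lift (mu p A (N + n)) (kernel.ι (mu p A N)) hj0
  let g := kernel.lift (mu p (D : Ind C) n) (kernel.ι (mu p A (N + n)) ≫ e) hg0
  have hjι : j ≫ kernel.ι (mu p A (N + n)) = kernel.ι (mu p A N) := kernel.lift_ι _ _ _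
  have hgι : g ≫ kernel.ι (mu p (D : Ind C) n) = kernel.ι (mu p A (N + n)) ≫ e :=
    kernel.lift_ι _ _ _
  have hjg : j ≫ g = 0 := by
    rw [← cancel_mono (kernel.ι (mu p (D : Ind C) n)), Category.assoc, hgι, ← Category.assoc,
      hjι, hιe, zero_comp]
  have hS : (ShortComplex.mk j g hjg).Exact := by
    rw [ShortComplex.exact_iff_exact_up_to_refinements]
    intro Z x hx
    have hx0 : x ≫ g = 0 := hx
    have h1 : (x ≫ kernel.ι (mu p A (N + n))) ≫ e = 0 := by
      rw [Category.assoc, ← hgι, ← Category.assoc, hx0, zero_comp]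
    have hx' : (x ≫ kernel.ι (mu p A (N + n))) ≫ mu p A N = 0 := by
      calc (x ≫ kernel.ι (mu p A (N + n))) ≫ mu p A N
          = ((x ≫ kernel.ι (mu p A (N + n))) ≫ e) ≫ D.arrow := by
            rw [Category.assoc _ e, hea]
        _ = 0 := by rw [h1, zero_comp]
    refine ⟨Z, 𝟙 Z, inferInstance, kernel.lift (mu p A N) (x ≫ kernel.ι _) hx', ?_⟩
    show 𝟙 Z ≫ x = kernel.lift (mu p A N) (x ≫ kernel.ι _) hx' ≫ j
    rw [Category.id_comp, ← cancel_mono (kernel.ι (mu p A (N + n))), Category.assoc, hjι,
      kernel.lift_ι]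
  haveI : Epi g := by
    rw [epi_iff_surjective_up_to_refinements]
    intro Z y
    obtain ⟨Z', π, hπ, u, hu⟩ :=
      surjective_up_to_refinements_of_epi e (y ≫ kernel.ι (mu p (D : Ind C) n))
    have hu0 : u ≫ mu p A (N + n) = 0 := by
      calc u ≫ mu p A (N + n) = (u ≫ e) ≫ D.arrow ≫ mu p A n := by
            rw [mu_add, ← hea]
            simp only [Category.assoc]
        _ = (π ≫ y ≫ kernel.ι (mu p (D : Ind C) n)) ≫ mu p (D : Ind C) n ≫ D.arrow := by
            rw [← hu, mu_nat]
        _ = 0 := by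
            simp only [Category.assoc, kernel.condition_assoc, zero_comp, comp_zero]
    refine ⟨Z', π, hπ, kernel.lift (mu p A (N + n)) u hu0, ?_⟩
    rw [← cancel_mono (kernel.ι (mu p (D : Ind C) n)), Category.assoc, Category.assoc, hgι,
      kernel.lift_ι_assoc]
    exact hu
  haveI : Epi (ShortComplex.mk j g hjg).g := this
  exact rep_of_exact_epi (ShortComplex.mk j g hjg) (hA N) (hA (N + n)) hS

end helpers

open CategoryTheory CategoryTheory.Limits in
/-- Let C be a small abelian category all of whose objects are Artinian and killed by some power of a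
prime p, and A an ind-object of C of cofinite type. Let N be such that p^n A = p^N A for all n ≥ N,
so that the divisible part A_div = ⋂ p^n A equals p^N A. Then A_div is of cofinite type and
divisible (multiplication by p on it is an epimorphism; integers prime to p act invertibly on every
ind-object here, so this is divisibility by all positive integers); it is the largest divisible
sub-object of A; and A / A_div is the largest quotient of A lying in C: every epimorphism from A
onto an object isomorphic to an object of C vanishes on A_div. (The row takes the stabilization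
index N as a hypothesis instead of forming the intersection; that A / A_div itself lies in C is the
statement about A / p^N A and is not repeated here.) -/
theorem result {C : Type v} [SmallCategory C] [Abelian C]
    (hart : ∀ X : C, IsArtinianObject X) (p : ℕ) (hp : p.Prime)
    (htor : ∀ X : C, ∃ n : ℕ, (p ^ n) • 𝟙 X = 0)
    (A : Ind C) (hA : ∀ n : ℕ, (Ind.yoneda (C := C)).essImage (kernel ((p ^ n) • 𝟙 A))) (N : ℕ)
    (hN : ∀ n : ℕ, N ≤ n → imageSubobject ((p ^ n) • 𝟙 A) = imageSubobject ((p ^ N) • 𝟙 A)) :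
    (∀ n : ℕ, (Ind.yoneda (C := C)).essImage
        (kernel ((p ^ n) • 𝟙 ((imageSubobject ((p ^ N) • 𝟙 A) : Subobject A) : Ind C)))) ∧
      Epi (p • 𝟙 ((imageSubobject ((p ^ N) • 𝟙 A) : Subobject A) : Ind C)) ∧
      (∀ D : Subobject A, Epi (p • 𝟙 (D : Ind C)) → D ≤ imageSubobject ((p ^ N) • 𝟙 A)) ∧
      (∀ (Q : Ind C) (q : A ⟶ Q), Epi q → (Ind.yoneda (C := C)).essImage Q →
        (imageSubobject ((p ^ N) • 𝟙 A)).arrow ≫ q = 0) := by
  refine ⟨?_, ?_, ?_, ?_⟩
  · intro n
    exact rep_ker_image p A hA N n (imageSubobject ((p ^ N) • 𝟙 A))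
      (factorThruImageSubobject ((p ^ N) • 𝟙 A)) (imageSubobject_arrow_comp _)
  · have hI : imageSubobject ((p * p ^ N) • 𝟙 A) = imageSubobject ((p ^ N) • 𝟙 A) := by
      rw [← pow_succ']
      exact hN (N + 1) (Nat.le_succ N)
    exact Groth.Agent.S14497.epi_smul_image (p ^ N) p hI
  · intro D hD
    exact Groth.Agent.S14497.le_image_of_epi D (p ^ N) (epi_pow p hD N)
  · intro Q q _ hQ
    obtain ⟨X, ⟨i⟩⟩ := hQ
    obtain ⟨s, hs⟩ := Groth.Agent.S14494.tors_el p Q htor X i.hom
    have hQs : Groth.Agent.S14494.mu p Q s = 0 := by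
      rw [← cancel_epi i.hom, hs, comp_zero]
    rw [← hN (N + s) (by omega)]
    rw [← cancel_epi (factorThruImageSubobject ((p ^ (N + s)) • 𝟙 A)), ← Category.assoc,
      imageSubobject_arrow_comp, comp_zero]
    have e1 : ((p ^ (N + s)) • 𝟙 A) ≫ q = q ≫ Groth.Agent.S14494.mu p Q (N + s) := Groth.Agent.S14494.mu_nat p q (N + s)
    rw [e1, Groth.Agent.S14494.mu_add, hQs, comp_zero, comp_zero]

end Groth.Agent.S14496
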