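import Groth.Statements.S14498
import Mathlib
open CategoryTheory CategoryTheory.Limits

set_option autoImplicit false
universe v u
open AbDiag

namespace Groth.Agent.S14498

open CategoryTheory CategoryTheory.Limits in
/-- In an abelian category, let 0 → F → W → E' → 0 (maps a, b) and 0 → E → W → F' → G → G' → 0 (maps c,
d, e, g) be exact sequences such that the composite F → W → F' is a monomorphism. Then the composite
E → W → E' is a monomorphism, and there is a short exact sequence 0 → Coker(E → E') → Coker(F → F')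
→ Ker(G → G') → 0 whose first map is induced by d (through the quotient map b) and whose second map
is induced by e. -/
theorem result
    {V : Type u} [Category.{v} V] [Abelian V] {F W E' E F' G G' : V}
    (a : F ⟶ W) (b : W ⟶ E') (c : E ⟶ W) (d : W ⟶ F') (e : F' ⟶ G) (g : G ⟶ G')
    [Mono a] [Epi b] (wab : a ≫ b = 0) (hab : (ShortComplex.mk a b wab).Exact)
    [Mono c] (wcd : c ≫ d = 0) (hcd : (ShortComplex.mk c d wcd).Exact)
    (wde : d ≫ e = 0) (hde : (ShortComplex.mk d e wde).Exact)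
    (weg : e ≫ g = 0) (heg : (ShortComplex.mk e g weg).Exact) [Epi g]
    (hmono : Mono (a ≫ d)) :
    Mono (c ≫ b) ∧
      ∃ (φ : cokernel (c ≫ b) ⟶ cokernel (a ≫ d)) (ψ : cokernel (a ≫ d) ⟶ kernel g)
        (w : φ ≫ ψ = 0),
        b ≫ cokernel.π (c ≫ b) ≫ φ = d ≫ cokernel.π (a ≫ d) ∧
        cokernel.π (a ≫ d) ≫ ψ ≫ kernel.ι g = e ∧
        (ShortComplex.mk φ ψ w).ShortExact := by
  have hma : Mono (ShortComplex.mk a b wab).f := ‹Mono a›
  have heb : Epi (ShortComplex.mk a b wab).g := ‹Epi b›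
  have hmc : Mono (ShortComplex.mk c d wcd).f := ‹Mono c›
  -- first assertion
  have hcb : Mono (c ≫ b) := by
    rw [Preadditive.mono_iff_cancel_zero]
    intro K k hk
    obtain ⟨l, hl⟩ : ∃ l : K ⟶ F, l ≫ a = k ≫ c :=
      hab.lift' (k ≫ c) (by
        show (k ≫ c) ≫ b = 0
        rw [Category.assoc]; exact hk)
    have hl0 : l = 0 := by
      rw [← cancel_mono (a ≫ d), ← Category.assoc, hl, Category.assoc, wcd, comp_zero,
        zero_comp]
    rw [hl0, zero_comp] at hl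
    rw [← cancel_mono c, zero_comp]; exact hl.symm
  refine ⟨hcb, ?_⟩
  -- the maps
  obtain ⟨θ, hθ⟩ : ∃ θ : E' ⟶ cokernel (a ≫ d), b ≫ θ = d ≫ cokernel.π (a ≫ d) :=
    hab.desc' (d ≫ cokernel.π (a ≫ d)) (by
      show a ≫ d ≫ cokernel.π (a ≫ d) = 0
      rw [← Category.assoc, cokernel.condition])
  have hθ0 : (c ≫ b) ≫ θ = 0 := by
    rw [Category.assoc, hθ, ← Category.assoc, wcd, zero_comp]
  obtain ⟨φ, hφ⟩ : ∃ φ : cokernel (c ≫ b) ⟶ cokernel (a ≫ d), cokernel.π (c ≫ b) ≫ φ = θ :=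
    ⟨cokernel.desc (c ≫ b) θ hθ0, cokernel.π_desc _ _ _⟩
  have hade : (a ≫ d) ≫ e = 0 := by rw [Category.assoc, wde, comp_zero]
  obtain ⟨ε, hε⟩ : ∃ ε : cokernel (a ≫ d) ⟶ G, cokernel.π (a ≫ d) ≫ ε = e :=
    ⟨cokernel.desc (a ≫ d) e hade, cokernel.π_desc _ _ _⟩
  have hεg : ε ≫ g = 0 := by
    rw [← cancel_epi (cokernel.π (a ≫ d)), ← Category.assoc, hε, weg, comp_zero]
  obtain ⟨ψ, hψ⟩ : ∃ ψ : cokernel (a ≫ d) ⟶ kernel g, ψ ≫ kernel.ι g = ε :=
    ⟨kernel.lift g ε hεg, kernel.lift_ι _ _ _⟩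
  have h1 : b ≫ cokernel.π (c ≫ b) ≫ φ = d ≫ cokernel.π (a ≫ d) := by rw [hφ, hθ]
  have h2 : cokernel.π (a ≫ d) ≫ ψ ≫ kernel.ι g = e := by rw [hψ, hε]
  have w : φ ≫ ψ = 0 := by
    rw [← cancel_mono (kernel.ι g), ← cancel_epi (cokernel.π (c ≫ b)), ← cancel_epi b]
    simp only [Category.assoc, zero_comp, comp_zero]
    rw [reassoc_of% h1, h2, wde]
  refine ⟨φ, ψ, w, h1, h2, ShortComplex.ShortExact.mk' ?_ ?_ ?_⟩
  · -- exactness in the middle
    rw [ShortComplex.exact_iff_exact_up_to_refinements]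
    intro A x hx
    have hx0 : x ≫ ψ = 0 := hx
    obtain ⟨A₁, π₁, hπ₁, f', hf'⟩ :=
      surjective_up_to_refinements_of_epi (cokernel.π (a ≫ d)) x
    have hf'e : f' ≫ e = 0 := by
      rw [← h2, ← Category.assoc, ← hf', Category.assoc, ← Category.assoc x, hx0, zero_comp,
        comp_zero]
    obtain ⟨A₂, π₂, hπ₂, y, hy⟩ : ∃ (A₂ : V) (π₂ : A₂ ⟶ A₁) (_ : Epi π₂) (y : A₂ ⟶ W),
        π₂ ≫ f' = y ≫ d := hde.exact_up_to_refinements f' hf'e
    refine ⟨A₂, π₂ ≫ π₁, epi_comp' hπ₂ hπ₁, y ≫ b ≫ cokernel.π (c ≫ b), ?_⟩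
    show (π₂ ≫ π₁) ≫ x = (y ≫ b ≫ cokernel.π (c ≫ b)) ≫ φ
    simp only [Category.assoc]
    rw [h1, hf', ← Category.assoc, hy, Category.assoc]
  · -- mono
    show Mono φ
    rw [Preadditive.mono_iff_cancel_zero]
    intro A x hx
    have : Epi (b ≫ cokernel.π (c ≫ b)) := epi_comp _ _
    obtain ⟨A₁, π₁, hπ₁, y, hy⟩ :=
      surjective_up_to_refinements_of_epi (b ≫ cokernel.π (c ≫ b)) x
    have hyd : (y ≫ d) ≫ cokernel.π (a ≫ d) = 0 := by
      rw [Category.assoc, ← h1, ← Category.assoc b, ← Category.assoc y, ← hy, Category.assoc, hx,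
        comp_zero]
    obtain ⟨A₂, π₂, hπ₂, f, hf⟩ : ∃ (A₂ : V) (π₂ : A₂ ⟶ A₁) (_ : Epi π₂) (f : A₂ ⟶ F),
        π₂ ≫ y ≫ d = f ≫ a ≫ d :=
      (ShortComplex.exact_cokernel (a ≫ d)).exact_up_to_refinements (y ≫ d) hyd
    have h3 : (π₂ ≫ y - f ≫ a) ≫ d = 0 := by
      rw [Preadditive.sub_comp, Category.assoc, Category.assoc, hf, sub_self]
    obtain ⟨A₃, π₃, hπ₃, z, hz⟩ : ∃ (A₃ : V) (π₃ : A₃ ⟶ A₂) (_ : Epi π₃) (z : A₃ ⟶ E),
        π₃ ≫ (π₂ ≫ y - f ≫ a) = z ≫ c := hcd.exact_up_to_refinements _ h3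
    have h4 : π₃ ≫ π₂ ≫ y = π₃ ≫ f ≫ a + z ≫ c := by
      rw [← hz, Preadditive.comp_sub, add_sub_cancel]
    have h5 : (π₃ ≫ π₂ ≫ π₁) ≫ x = 0 := by
      have : (π₃ ≫ π₂ ≫ π₁) ≫ x = (π₃ ≫ π₂ ≫ y) ≫ b ≫ cokernel.π (c ≫ b) := by
        simp only [Category.assoc, hy]
      rw [this, h4, Preadditive.add_comp]
      simp only [Category.assoc]
      rw [← Category.assoc a, wab, ← Category.assoc c b, cokernel.condition]
      simp
    have : Epi (π₃ ≫ π₂ ≫ π₁) := epi_comp' hπ₃ (epi_comp' hπ₂ hπ₁)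
    exact (cancel_epi (π₃ ≫ π₂ ≫ π₁)).1 (h5.trans comp_zero.symm)
  · -- epi
    show Epi ψ
    have he' : Epi (kernel.lift g e weg) :=
      (ShortComplex.exact_iff_epi_kernel_lift (ShortComplex.mk e g weg)).1 heg
    have hfac : cokernel.π (a ≫ d) ≫ ψ = kernel.lift g e weg := by
      rw [← cancel_mono (kernel.ι g), Category.assoc, h2, kernel.lift_ι]
    exact epi_of_epi_fac hfac

end Groth.Agent.S14498
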