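import Groth.Statements.S14500
import Mathlib
import Groth.Agent.S14494
import Groth.Agent.S14493
import Groth.Agent.S14499

set_option autoImplicit false
universe v
open IndCof

namespace Groth.Agent.S14500


section helpers
open CategoryTheory CategoryTheory.Limits Groth.Agent.S14494 Groth.Agent.S14493 Groth.Agent.S14499

variable {C : Type v} [SmallCategory C] [Abelian C]

lemma cof_kernel_cokernel_gen (hart : ∀ X : C, IsArtinianObject X)
    (htor : ∀ X : C, ∃ n : ℕ, 0 < n ∧ n • 𝟙 X = 0) (p : ℕ) (hp : 0 < p) {A B : Ind C} (f : A ⟶ B)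
    (hA : ∀ n, Rep (kernel (mu p A n))) (hB : ∀ n, Rep (kernel (mu p B n))) :
    (∀ n, Rep (kernel (mu p (kernel f) n))) ∧ (∀ n, Rep (kernel (mu p (cokernel f) n))) := by
  have hK : ∀ n, Rep (kernel (mu p (kernel f) n)) := fun n => rep_ker_kernel p f hA hB n
  have hI : ∀ n, Rep (kernel (mu p (Abelian.image f) n)) := by
    intro n
    obtain ⟨N', hN'⟩ := exists_stab_image_gen hart htor p hp (kernel f) hK n
    have w : kernel.ι f ≫ Abelian.factorThruImage f = 0 := by
      rw [← cancel_mono (Abelian.image.ι f), Category.assoc, Abelian.image.fac, kernel.condition,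
        zero_comp]
    have hex : (ShortComplex.mk (kernel.ι f) (Abelian.factorThruImage f) w).Exact := by
      rw [ShortComplex.exact_iff_exact_up_to_refinements]
      intro Z x hx
      have hx0 : x ≫ Abelian.factorThruImage f = 0 := hx
      have hx1 : x ≫ f = 0 := by
        calc x ≫ f = (x ≫ Abelian.factorThruImage f) ≫ Abelian.image.ι f := by
              rw [Category.assoc, Abelian.image.fac]
          _ = 0 := by rw [hx0, zero_comp]
      refine ⟨Z, 𝟙 Z, inferInstance, kernel.lift f x hx1, ?_⟩
      show 𝟙 Z ≫ x = kernel.lift f x hx1 ≫ kernel.ι f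
      rw [Category.id_comp, kernel.lift_ι]
    exact cof_quot p (kernel.ι f) (Abelian.factorThruImage f) w hex hK hA N' n hN'
  refine ⟨hK, fun n => ?_⟩
  obtain ⟨N', hN'⟩ := exists_stab_image_gen hart htor p hp (Abelian.image f) hI n
  have w : Abelian.image.ι f ≫ cokernel.π f = 0 := kernel.condition _
  have hex : (ShortComplex.mk (Abelian.image.ι f) (cokernel.π f) w).Exact :=
    ShortComplex.exact_of_f_is_kernel _ (kernelIsKernel (cokernel.π f))
  exact cof_quot p (Abelian.image.ι f) (cokernel.π f) w hex hI hB N' n hN'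

end helpers

open CategoryTheory CategoryTheory.Limits in
/-- Let C be a small abelian category all of whose objects are Artinian and killed by some positive
integer. The ind-objects of cofinite type (those A in Ind C with A[n] isomorphic to an object of C
for every n ≥ 1) form an abelian subcategory of Ind C: for a morphism f : A ⟶ B between such
objects, the kernel and the cokernel of f in Ind C are of cofinite type. -/
theorem result {C : Type v} [SmallCategory C] [Abelian C]
    (hart : ∀ X : C, IsArtinianObject X)
    (htor : ∀ X : C, ∃ n : ℕ, 0 < n ∧ n • 𝟙 X = 0)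
    (A B : Ind C) (hA : ∀ n : ℕ, 0 < n → (Ind.yoneda (C := C)).essImage (kernel (n • 𝟙 A))) (hB : ∀ n : ℕ, 0 < n → (Ind.yoneda (C := C)).essImage (kernel (n • 𝟙 B))) (f : A ⟶ B) :
    (∀ n : ℕ, 0 < n → (Ind.yoneda (C := C)).essImage (kernel (n • 𝟙 (kernel f)))) ∧
      (∀ n : ℕ, 0 < n → (Ind.yoneda (C := C)).essImage (kernel (n • 𝟙 (cokernel f)))) := by
  refine ⟨fun n hn => ?_, fun n hn => ?_⟩
  · have h := (cof_kernel_cokernel_gen hart htor n hn f (fun k => hA _ (pow_pos hn k))
      (fun k => hB _ (pow_pos hn k))).1 1
    simpa only [Groth.Agent.S14494.mu, pow_one] using h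
  · have h := (cof_kernel_cokernel_gen hart htor n hn f (fun k => hA _ (pow_pos hn k))
      (fun k => hB _ (pow_pos hn k))).2 1
    simpa only [Groth.Agent.S14494.mu, pow_one] using h

end Groth.Agent.S14500
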