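import Groth.Statements.S14509
import Mathlib

set_option autoImplicit false
open IntTh

namespace Groth.Agent.S14509

open PowerSeries in
theorem main (f : PowerSeries ℚ)
    (hf : f * (PowerSeries.exp ℚ - 1) = PowerSeries.X * PowerSeries.exp ℚ) :
    ∀ (n : ℕ) (m : ℤ),
    PowerSeries.coeff n (PowerSeries.rescale (m : ℚ) (PowerSeries.exp ℚ) * f ^ (n + 1)) =
      ((Ring.choose (m + (n : ℤ)) n : ℤ) : ℚ) := by
  set E : PowerSeries ℚ := PowerSeries.exp ℚ with hE
  set f' : PowerSeries ℚ := PowerSeries.derivative ℚ f with hf'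
  have hE1 : ∀ m : ℤ, rescale ((m + 1 : ℤ) : ℚ) E = rescale (m : ℚ) E * E := by
    intro m
    have := exp_mul_exp_eq_exp_add (A := ℚ) (m : ℚ) 1
    rw [rescale_one, RingHom.id_apply] at this
    rw [this]; push_cast; rfl
  have hneg : rescale ((-1 : ℤ) : ℚ) E * E = 1 := by
    have := hE1 (-1)
    rw [← this]
    simp [hE]
  -- key recurrence
  have key : ∀ (m : ℤ) (k : ℕ), rescale ((m + 1 : ℤ) : ℚ) E * f ^ (k + 1)
      = rescale (m : ℚ) E * f ^ (k + 1) + X * (rescale ((m + 1 : ℤ) : ℚ) E * f ^ k) := by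
    intro m k
    rw [hE1]
    have : rescale (m : ℚ) E * E * f ^ (k + 1) - rescale (m : ℚ) E * f ^ (k + 1)
        = rescale (m : ℚ) E * f ^ k * (f * (E - 1)) := by ring
    rw [hf] at this
    linear_combination this
  -- constant coefficient
  have hf0 : constantCoeff f = 1 := by
    have h1 := congrArg (coeff 1) hf
    rw [show (1 : ℕ) = 0 + 1 from rfl, coeff_succ_X_mul, coeff_mul] at h1
    simpa [Finset.Nat.antidiagonal_succ, hE] using h1
  -- ODE
  have hdE : PowerSeries.derivative ℚ E = E := derivative_exp ℚ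
  have hD1 : f' * (E - 1) + f = E := by
    have h1 := congrArg (PowerSeries.derivative ℚ) hf
    rw [Derivation.leibniz, Derivation.leibniz, map_sub, hdE, derivative_X] at h1
    simp only [smul_eq_mul, Derivation.map_one_eq_zero, sub_zero, mul_one] at h1
    rw [← hf'] at h1
    linear_combination h1 - hf
  have h2 : f ^ 2 = E * (f - X * f') := by
    have : E * (f - X * f') = E * f - (X * E) * f' := by ring
    rw [this, ← hf]
    linear_combination f * hD1
  have hC : ∀ k : ℕ, coeff (k + 1) (rescale ((-1 : ℤ) : ℚ) E * f ^ (k + 2)) = 0 := by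
    intro k
    have h3 : rescale ((-1 : ℤ) : ℚ) E * f ^ (k + 2) = f ^ (k + 1) - X * (f ^ k * f') := by
      have h4 : f ^ (k + 2) = E * (f ^ (k + 1) - X * (f ^ k * f')) := by
        calc f ^ (k + 2) = f ^ k * f ^ 2 := by ring
          _ = f ^ k * (E * (f - X * f')) := by rw [h2]
          _ = _ := by ring
      rw [h4, ← mul_assoc, hneg, one_mul]
    rw [h3, map_sub, coeff_succ_X_mul]
    have h4 := coeff_derivative (f ^ (k + 1)) k
    rw [derivative_pow, Nat.add_sub_cancel, mul_assoc, ← nsmul_eq_mul, map_nsmul, nsmul_eq_mul] at h4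
    have hk : ((k : ℚ) + 1) ≠ 0 := by positivity
    have h5 : coeff k (f ^ k * f') = coeff (k + 1) (f ^ (k + 1)) := by
      apply mul_left_cancel₀ hk
      push_cast at h4
      linarith
    rw [h5, sub_self]
  have pascal : ∀ (r : ℤ) (k : ℕ), Ring.choose (r + 1) (k + 1) = Ring.choose r k + Ring.choose r (k + 1) :=
    fun r k => Ring.choose_succ_succ r k
  intro n
  induction n with
  | zero =>
    intro m
    rw [coeff_zero_eq_constantCoeff_apply, map_mul, map_pow, hf0,
      ← coeff_zero_eq_constantCoeff_apply, coeff_rescale]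
    simp [Ring.choose_zero_right, hE]
  | succ k IH =>
    intro m
    induction m using Int.inductionOn' (b := -1) with
    | zero =>
      have h0 := hC k
      rw [show k + 2 = k + 1 + 1 from rfl] at h0
      rw [h0]
      have e0 : (-1 : ℤ) + ((k + 1 : ℕ) : ℤ) = ((k : ℕ) : ℤ) := by push_cast; ring
      rw [e0, Ring.choose_natCast, Nat.choose_succ_self]; simp
    | succ m _ ih =>
      have h1 := congrArg (coeff (k + 1)) (key m (k + 1))
      rw [map_add, coeff_succ_X_mul, ih, IH (m + 1)] at h1
      rw [h1]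
      have e1 : m + 1 + ((k + 1 : ℕ) : ℤ) = (m + ((k + 1 : ℕ) : ℤ)) + 1 := by ring
      have e2 : m + 1 + (k : ℤ) = m + ((k + 1 : ℕ) : ℤ) := by push_cast; ring
      rw [e1, pascal, e2]
      push_cast; ring
    | pred m _ ih =>
      have h1 := congrArg (coeff (k + 1)) (key (m - 1) (k + 1))
      rw [map_add, coeff_succ_X_mul, sub_add_cancel, ih, IH m] at h1
      have e1 : m + ((k + 1 : ℕ) : ℤ) = (m + (k : ℤ)) + 1 := by push_cast; ring
      have e2 : m - 1 + ((k + 1 : ℕ) : ℤ) = m + (k : ℤ) := by push_cast; ring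
      rw [e1, pascal] at h1
      rw [e2]
      push_cast at h1 ⊢
      linarith

/-- Let f(t) ∈ ℚ⟦t⟧ be the Todd series, characterised by f(t)·(e^t − 1) = t·e^t, i.e. f(t) = t/(1 −
e^(−t)). Then for every m ∈ ℤ and n ∈ ℕ the coefficient of t^n in e^(mt)·f(t)^(n+1) is the binomial
coefficient C(m+n, n), understood as the polynomial (m+n)(m+n−1)⋯(m+1)/n! in m (so for all integers
m). (The published statement is the Hirzebruch–Riemann–Roch formula χ(E) = ∫ ch(E)·td for vector
bundles on projective n-space; this row is the identity of formal power series to which its proof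
reduces it for E = O(m): the degree-n part of ch(O(m))·td(P^n) = e^(mζ)(ζ/(1 − e^(−ζ)))^(n+1)
against χ(P^n, O(m)) = C(m+n, n).) -/
theorem result (f : PowerSeries ℚ)
    (hf : f * (PowerSeries.exp ℚ - 1) = PowerSeries.X * PowerSeries.exp ℚ) (m : ℤ) (n : ℕ) :
    PowerSeries.coeff n (PowerSeries.rescale (m : ℚ) (PowerSeries.exp ℚ) * f ^ (n + 1)) =
      ((Ring.choose (m + n : ℤ) n : ℤ) : ℚ) := by
  exact main f hf n m

end Groth.Agent.S14509
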