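import Groth.Statements.S14506
import Mathlib
import Groth.Agent.S14509

set_option autoImplicit false
open IntTh

namespace Groth.Agent.S14506

open PowerSeries in
theorem uniq (f g : PowerSeries ℚ) (hf : ∀ n : ℕ, PowerSeries.coeff n (f ^ (n + 1)) = 1)
    (hg : ∀ n : ℕ, PowerSeries.coeff n (g ^ (n + 1)) = 1) : f = g := by
  have hf0 : constantCoeff f = 1 := by simpa using hf 0
  have hg0 : constantCoeff g = 1 := by simpa using hg 0
  ext n
  induction n using Nat.strong_induction_on with
  | _ n ih =>
    have hdvd : (X : PowerSeries ℚ) ^ n ∣ f - g := by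
      rw [X_pow_dvd_iff]
      intro m hm
      rw [map_sub, ih m hm, sub_self]
    obtain ⟨h, hh⟩ := hdvd
    have hS : f ^ (n + 1) - g ^ (n + 1)
        = X ^ n * ((∑ i ∈ Finset.range (n + 1), f ^ i * g ^ (n - i)) * h) := by
      have := geom_sum₂_mul f g (n + 1)
      rw [← this, hh]
      simp only [Nat.add_sub_cancel]
      ring
    have hc : coeff n (f ^ (n + 1) - g ^ (n + 1)) = 0 := by rw [map_sub, hf, hg, sub_self]
    have hx := coeff_X_pow_mul ((∑ i ∈ Finset.range (n + 1), f ^ i * g ^ (n - i)) * h) n 0
    rw [zero_add] at hx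
    rw [hS, hx, coeff_zero_eq_constantCoeff_apply, map_mul, map_sum] at hc
    simp only [map_mul, map_pow, hf0, hg0, one_pow, mul_one, Finset.sum_const, Finset.card_range,
      nsmul_eq_mul] at hc
    have hh0 : constantCoeff h = 0 := by
      rcases mul_eq_zero.mp hc with h1 | h1
      · exfalso
        have : ((n + 1 : ℕ) : ℚ) ≠ 0 := by positivity
        exact this h1
      · exact h1
    have h3 := congrArg (coeff n) hh
    have h2 := coeff_X_pow_mul h n 0
    rw [zero_add] at h2
    rw [map_sub, h2, coeff_zero_eq_constantCoeff_apply, hh0] at h3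
    exact sub_eq_zero.mp h3

open PowerSeries in
theorem todd_coeff (f : PowerSeries ℚ)
    (hf : f * (PowerSeries.exp ℚ - 1) = PowerSeries.X * PowerSeries.exp ℚ) (n : ℕ) :
    PowerSeries.coeff n (f ^ (n + 1)) = 1 := by
  have h := Groth.Agent.S14509.result f hf 0 n
  rw [Int.cast_zero, rescale_zero_apply, constantCoeff_exp, map_one, one_mul, zero_add,
    Ring.choose_natCast, Nat.choose_self] at h
  simpa using h

open PowerSeries in
theorem exists_todd : ∃ T : PowerSeries ℚ,
    T * (PowerSeries.exp ℚ - 1) = PowerSeries.X * PowerSeries.exp ℚ := by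
  set U : PowerSeries ℚ := PowerSeries.mk (fun n => (1 / ((n + 1).factorial : ℚ))) with hU
  have hXU : X * U = PowerSeries.exp ℚ - 1 := by
    ext n
    cases n with
    | zero => simp
    | succ n => rw [coeff_succ_X_mul, hU, coeff_mk, map_sub, coeff_exp, coeff_one]; simp
  have hU0 : constantCoeff U ≠ 0 := by
    rw [← coeff_zero_eq_constantCoeff_apply, hU, coeff_mk]; simp
  refine ⟨PowerSeries.exp ℚ * U⁻¹, ?_⟩
  rw [← hXU]
  have := PowerSeries.inv_mul_cancel U hU0
  calc PowerSeries.exp ℚ * U⁻¹ * (X * U) = X * PowerSeries.exp ℚ * (U⁻¹ * U) := by ring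
    _ = _ := by rw [this, mul_one]

/-- A formal power series f(t) ∈ ℚ⟦t⟧ satisfies, for every n ≥ 0, that the coefficient of t^n in
f(t)^(n+1) is 1, if and only if f(t)·(e^t − 1) = t·e^t, that is f(t) = t/(1 − e^(−t)) = 1 + t/2 +
t²/12 − ⋯. (The published statement is the existence and uniqueness of the Todd class of vector
bundles normalised by multiplicativity, td(O) = 1 and the Riemann–Roch identity for the structure
sheaf of every projective space; this row is the power-series fact its proof establishes: the
normalisation forces exactly these coefficient conditions on the one-variable series.) -/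
theorem result (f : PowerSeries ℚ) :
    (∀ n : ℕ, PowerSeries.coeff n (f ^ (n + 1)) = 1) ↔
      f * (PowerSeries.exp ℚ - 1) = PowerSeries.X * PowerSeries.exp ℚ := by
  constructor
  · intro h
    obtain ⟨T, hT⟩ := exists_todd
    have : f = T := uniq f T h (todd_coeff T hT)
    rw [this]; exact hT
  · intro h n
    exact todd_coeff f h n

end Groth.Agent.S14506
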