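import Groth.Statements.S14511
import Mathlib

set_option autoImplicit false
universe u
open CAlgX

namespace Groth.Agent.S14511

theorem cm {R : Type u} [CommRing R] {r : ℕ} (m : Fin r → ℕ) :
    ∑ J : Finset (Fin r), (-1 : R) ^ J.card * ∏ i, (if i ∈ J then (-1 : R) else 0) ^ m i =
      ∏ i, ((-1 : R) ^ (m i + 1) + 0 ^ m i) := by
  rw [Finset.prod_add, Finset.powerset_univ]
  refine Finset.sum_congr rfl (fun J _ => ?_)
  rw [← Finset.prod_sdiff (Finset.subset_univ J)]
  have h1 : ∏ i ∈ J, (if i ∈ J then (-1 : R) else 0) ^ m i = ∏ i ∈ J, (-1 : R) ^ m i :=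
    Finset.prod_congr rfl (fun i hi => by rw [if_pos hi])
  have h2 : ∏ i ∈ Finset.univ \ J, (if i ∈ J then (-1 : R) else 0) ^ m i =
      ∏ i ∈ Finset.univ \ J, (0 : R) ^ m i :=
    Finset.prod_congr rfl (fun i hi => by rw [if_neg (Finset.mem_sdiff.mp hi).2])
  have h3 : ∏ i ∈ J, (-1 : R) ^ (m i + 1) = (-1 : R) ^ J.card * ∏ i ∈ J, (-1 : R) ^ m i := by
    rw [← Finset.prod_const, ← Finset.prod_mul_distrib]
    exact Finset.prod_congr rfl (fun i _ => by rw [pow_succ, mul_comm])
  rw [h1, h2, h3]
  ring

/-- Let R be a commutative ring and P ∈ R[x_1, …, x_r] a polynomial of total degree at most r. Then the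
coefficient of the monomial x_1 ⋯ x_r in P equals Σ_J (−1)^{|J|} P(δ_J), the sum over all subsets J
⊆ {1, …, r} (the empty one included), where δ_J is the point with coordinate −1 at the indices in J
and 0 at the others. -/
theorem result (R : Type u) [CommRing R] (r : ℕ)
    (P : MvPolynomial (Fin r) R) (hP : P.totalDegree ≤ r) :
    MvPolynomial.coeff (∑ i : Fin r, Finsupp.single i 1) P =
      ∑ J : Finset (Fin r), (-1 : R) ^ J.card * MvPolynomial.eval (fun j => if j ∈ J then (-1 : R) else 0) P := by
  have hones_apply : ∀ j, (∑ i : Fin r, Finsupp.single i 1 : Fin r →₀ ℕ) j = 1 := by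
    intro j
    simp [Finsupp.finset_sum_apply, Finsupp.single_apply]
  generalize (∑ i : Fin r, Finsupp.single i 1 : Fin r →₀ ℕ) = ones at hones_apply ⊢
  have hc : ∀ d ∈ P.support, (∑ J : Finset (Fin r), (-1 : R) ^ J.card *
      ∏ i, (if i ∈ J then (-1 : R) else 0) ^ d i) = if d = ones then 1 else 0 := by
    intro d hd
    rw [cm]
    split_ifs with h
    · apply Finset.prod_eq_one
      intro i _
      rw [h, hones_apply i]
      norm_num
    · have hex : ∃ i, d i = 0 := by
        by_contra hne
        push_neg at hne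
        apply h
        have hsum : ∑ i, d i ≤ r := by
          have := MvPolynomial.le_totalDegree hd
          rw [Finsupp.sum_fintype _ _ (fun _ => rfl)] at this
          exact this.trans hP
        have hle : ∀ i ∈ (Finset.univ : Finset (Fin r)), (1 : ℕ) ≤ d i :=
          fun i _ => Nat.one_le_iff_ne_zero.mpr (hne i)
        have hsum1 : ∑ i : Fin r, (1 : ℕ) = r := by simp
        have heq : ∑ i : Fin r, (1 : ℕ) = ∑ i, d i :=
          le_antisymm (Finset.sum_le_sum hle) (hsum.trans hsum1.ge)
        have hall := (Finset.sum_eq_sum_iff_of_le hle).mp heq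
        ext i
        rw [hones_apply i]
        exact (hall i (Finset.mem_univ i)).symm
      obtain ⟨i, hi⟩ := hex
      apply Finset.prod_eq_zero (Finset.mem_univ i)
      rw [hi]
      norm_num
  calc MvPolynomial.coeff ones P
      = ∑ d ∈ P.support, MvPolynomial.coeff d P * (if d = ones then 1 else 0) := by
        simp only [mul_ite, mul_one, mul_zero]
        rw [Finset.sum_ite_eq']
        split_ifs with h
        · rfl
        · exact MvPolynomial.notMem_support_iff.mp h
    _ = ∑ d ∈ P.support, MvPolynomial.coeff d P * (∑ J : Finset (Fin r), (-1 : R) ^ J.card *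
          ∏ i, (if i ∈ J then (-1 : R) else 0) ^ d i) :=
        Finset.sum_congr rfl (fun d hd => by rw [hc d hd])
    _ = _ := by
        simp_rw [MvPolynomial.eval_eq', Finset.mul_sum]
        rw [Finset.sum_comm]
        refine Finset.sum_congr rfl (fun J _ => Finset.sum_congr rfl (fun d _ => by ring))

end Groth.Agent.S14511
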