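import Groth.Statements.S14519
import Mathlib
import Groth.Agent.Lib.Helper5.BirCodim1
import Groth.Agent.Lib.Helper24.SmoothReg
import Groth.Agent.H29.RegNormal

set_option autoImplicit false
universe u
open CategoryTheory CategoryTheory.Limits AlgebraicGeometry
open Curves

namespace Groth.Agent.S14519

/-- Let k be an algebraically closed field and f : X → Y a birational morphism over k between smooth
curves (X, Y integral, separated, of finite type and smooth over k, of dimension one; f sends the
generic point of X to that of Y and the induced map of function fields K(Y) → K(X) is bijective).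
Then f is an open immersion. -/
theorem result (k : Type u) [Field k] [IsAlgClosed k]
    (X Y : Scheme.{u}) [X.Over (Spec (CommRingCat.of k))] [Y.Over (Spec (CommRingCat.of k))]
    [IsIntegral X] [IsSeparated (X ↘ (Spec (CommRingCat.of k)))] [LocallyOfFiniteType (X ↘ (Spec (CommRingCat.of k)))] [QuasiCompact (X ↘ (Spec (CommRingCat.of k)))] [Smooth (X ↘ (Spec (CommRingCat.of k)))] (hdimX : topologicalKrullDim X = 1)
    [IsIntegral Y] [IsSeparated (Y ↘ (Spec (CommRingCat.of k)))] [LocallyOfFiniteType (Y ↘ (Spec (CommRingCat.of k)))] [QuasiCompact (Y ↘ (Spec (CommRingCat.of k)))] [Smooth (Y ↘ (Spec (CommRingCat.of k)))] (hdimY : topologicalKrullDim Y = 1)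
    (f : X ⟶ Y) (hf : f ≫ (Y ↘ (Spec (CommRingCat.of k))) = (X ↘ (Spec (CommRingCat.of k))))
    (e : f (genericPoint X) = genericPoint Y)
    (hbir : Function.Bijective (Y.presheaf.stalkSpecializes (specializes_of_eq e) ≫ f.stalkMap (genericPoint X)).hom) :
    IsOpenImmersion f := by
  haveI : IsNoetherianRing (CommRingCat.of k) := inferInstanceAs (IsNoetherianRing k)
  haveI : IsLocallyNoetherian Y :=
    LocallyOfFiniteType.isLocallyNoetherian (Y ↘ (Spec (CommRingCat.of k)))
  haveI hlft : LocallyOfFiniteType (f ≫ (Y ↘ (Spec (CommRingCat.of k)))) := by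
    rw [hf]; infer_instance
  haveI : LocallyOfFiniteType f := locallyOfFiniteType_of_comp f (Y ↘ (Spec (CommRingCat.of k)))
  haveI hsep : IsSeparated (f ≫ (Y ↘ (Spec (CommRingCat.of k)))) := by
    rw [hf]; infer_instance
  haveI : IsSeparated f := IsSeparated.of_comp f (Y ↘ (Spec (CommRingCat.of k)))
  -- birationality
  haveI hiso1 : IsIso (Y.presheaf.stalkSpecializes (specializes_of_eq e)) :=
    (Y.presheaf.stalkCongr (Inseparable.of_eq e.symm)).isIso_hom
  have hbir' : IsIso (f.stalkMap (genericPoint X)) := by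
    haveI h2 : IsIso (Y.presheaf.stalkSpecializes (specializes_of_eq e) ≫
        f.stalkMap (genericPoint X)) :=
      (ConcreteCategory.isIso_iff_bijective _).mpr hbir
    exact IsIso.of_isIso_comp_left (Y.presheaf.stalkSpecializes (specializes_of_eq e)) _
  -- dimension of the stalks
  have hdim : ∀ y : Y, ringKrullDim (Y.presheaf.stalk y) ≤ 1 := by
    intro y
    rw [ringKrullDim_stalk_eq_coheight y,
      ← Order.coheight_orderIso (irreducibleSetEquivPoints (α := Y)).symm y]
    calc Order.coheight ((irreducibleSetEquivPoints (α := Y)).symm y)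
        ≤ Order.krullDim (TopologicalSpace.IrreducibleCloseds Y) :=
          Order.coheight_le_krullDim _
      _ = 1 := hdimY
  have key : ∀ x : X, ∃ U : Y.Opens, f x ∈ U ∧ IsIso (f ∣_ U) := by
    intro x
    haveI : IsRegularLocalRing (Y.presheaf.stalk (f x)) :=
      Groth.Agent.Helper24.SmoothReg.isRegularLocalRing_stalk_of_smooth_field k
        (Y ↘ (Spec (CommRingCat.of k))) (f x)
    have hic : IsIntegrallyClosed (Y.presheaf.stalk (f x)) :=
      Groth.Agent.H29.isIntegrallyClosed_of_isRegularLocalRing _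
    haveI := hic
    haveI : ValuationRing (Y.presheaf.stalk (f x)) :=
      Groth.Agent.Helper5.BirCodim1.valuationRing_of_normal_dim_le_one _ (hdim (f x))
    exact Groth.Agent.Helper5.BirCodim1.exists_isIso_restrict_of_valuationRing f e hbir' x hic
  obtain ⟨V, hV, hmax⟩ := Groth.Agent.Helper5.BirCodim1.exists_max_isIso_restrict f
  have htop : f ⁻¹ᵁ V = ⊤ := by
    refine top_unique fun x _ => ?_
    obtain ⟨U, hxU, hU⟩ := key x
    exact hmax U hU hxU
  haveI := hV
  have h1 : (f ∣_ V) ≫ V.ι = (f ⁻¹ᵁ V).ι ≫ f := morphismRestrict_ι f V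
  have hι : ∀ W : X.Opens, W = ⊤ → IsIso W.ι := by
    rintro _ rfl
    exact (Scheme.topIso X).isIso_hom
  haveI := hι _ htop
  have h2 : f = inv (f ⁻¹ᵁ V).ι ≫ (f ∣_ V) ≫ V.ι := by
    rw [h1, IsIso.inv_hom_id_assoc]
  rw [h2]
  infer_instance

end Groth.Agent.S14519
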