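import Groth.Statements.S14523
import Mathlib
import Groth.Agent.Lib.Helper5.BirCodim1

set_option autoImplicit false
universe u
open CategoryTheory CategoryTheory.Limits AlgebraicGeometry
open Variety

namespace Groth.Agent.S14523

/-- Let k be an algebraically closed field and f : X → Y a proper, birational morphism over k of
irreducible varieties (X, Y integral, separated and of finite type over k; f restricts to an
isomorphism over some nonempty open subset of Y), with Y normal (all local rings integrally closed).
Let U ⊆ Y be the largest open subset over which f is an isomorphism (the domain of f^{-1}). Then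
codim_Y(Y ∖ U) ≥ 2: for every point y of Y whose local ring has Krull dimension at most one, f
restricts to an isomorphism over some open neighbourhood of y. -/
theorem result (k : Type u) [Field k] [IsAlgClosed k]
    (X Y : Scheme.{u}) [X.Over (Spec (CommRingCat.of k))] [Y.Over (Spec (CommRingCat.of k))]
    [IsIntegral X] [IsSeparated (X ↘ (Spec (CommRingCat.of k)))] [LocallyOfFiniteType (X ↘ (Spec (CommRingCat.of k)))] [QuasiCompact (X ↘ (Spec (CommRingCat.of k)))]
    [IsIntegral Y] [IsSeparated (Y ↘ (Spec (CommRingCat.of k)))] [LocallyOfFiniteType (Y ↘ (Spec (CommRingCat.of k)))] [QuasiCompact (Y ↘ (Spec (CommRingCat.of k)))] (hY : ∀ y : Y, IsIntegrallyClosed (Y.presheaf.stalk y))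
    (f : X ⟶ Y) (hf : f ≫ (Y ↘ (Spec (CommRingCat.of k))) = (X ↘ (Spec (CommRingCat.of k)))) [IsProper f]
    (hbir : ∃ V : Y.Opens, (V : Set Y).Nonempty ∧ IsIso (f ∣_ V))
    (y : Y) (hy : ringKrullDim (Y.presheaf.stalk y) ≤ 1) :
    ∃ V : Y.Opens, y ∈ V ∧ IsIso (f ∣_ V) := by
  obtain ⟨V, hVne, hViso⟩ := hbir
  haveI := hViso
  have hηV : genericPoint Y ∈ V :=
    ((genericPoint_spec Y).mem_open_set_iff V.isOpen).mpr (by simpa using hVne)
  obtain ⟨x₀, hx₀⟩ : ∃ x₀ : X, f x₀ = genericPoint Y := by
    obtain ⟨z, hz⟩ := (f ∣_ V).surjective ⟨genericPoint Y, hηV⟩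
    refine ⟨z.1, ?_⟩
    have h1 := congrArg Subtype.val hz
    rwa [morphismRestrict_base_coe] at h1
  haveI : IsDominant f := Groth.Agent.Helper5.BirNormal.isDominant_of_genericPoint_mem_range f
    ⟨x₀, hx₀⟩
  have hgen : f (genericPoint X) = genericPoint Y :=
    Groth.Agent.Helper5.BirNormal.map_genericPoint_of_isDominant f
  have hbir' : IsIso (f.stalkMap (genericPoint X)) :=
    Groth.Agent.Helper5.BirNormal.isIso_stalkMap_of_isIso_restrict f V _ (hgen ▸ hηV)
  haveI : IsNoetherianRing (CommRingCat.of k) := inferInstanceAs (IsNoetherianRing k)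
  haveI : IsLocallyNoetherian Y :=
    LocallyOfFiniteType.isLocallyNoetherian (Y ↘ (Spec (CommRingCat.of k)))
  exact Groth.Agent.Helper5.BirCodim1.exists_isIso_restrict_of_dim_le_one f hgen hbir' y (hY y) hy

end Groth.Agent.S14523
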