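import Groth.Statements.S14541
import Groth.Agent.H28.TorsEq

set_option autoImplicit false
universe u
open CategoryTheory MonoidalCategory CartesianMonoidalCategory MonObj GrpObj AlgebraicGeometry
open PrincBund

namespace Groth.Agent.S14541

/-- Let X be a scheme, J, J' and J'' group schemes affine over X, with no flatness or finiteness
condition, u : J → J' and v : J' → J'' homomorphisms, P a J-torsor, P' a J'-torsor and P'' a
J''-torsor, all for the fpqc topology, q' : P → P' an X-morphism compatible with u and q'' : P → P''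
an X-morphism compatible with the composite homomorphism J → J' → J''. Then there is exactly one
X-morphism r : P' → P'' compatible with v whose composite with q' is q''. Taking v to be the
identity, the push forward of a torsor along u is unique up to unique isomorphism. -/
theorem result {X : Scheme.{u}}
    {J J' J'' : Over X} [GrpObj J] [GrpObj J'] [GrpObj J''] [IsAffineHom J.hom] [IsAffineHom J'.hom]
    [IsAffineHom J''.hom] (u : J ⟶ J') [IsMonHom u] (v : J' ⟶ J'') [IsMonHom v] {P P' P'' : Over X}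
    (a : AlgGrp.Action J P) (a' : AlgGrp.Action J' P') (a'' : AlgGrp.Action J'' P'')
    (hP : NonAbH1.IsTorsorFor Scheme.fpqcPrecoverage a)
    (hP' : NonAbH1.IsTorsorFor Scheme.fpqcPrecoverage a')
    (hP'' : NonAbH1.IsTorsorFor Scheme.fpqcPrecoverage a'')
    (q' : P ⟶ P') (hq' : a.act ≫ q' = lift (fst J P ≫ u) (snd J P ≫ q') ≫ a'.act)
    (q'' : P ⟶ P'') (hq'' : a.act ≫ q'' = lift (fst J P ≫ u ≫ v) (snd J P ≫ q'') ≫ a''.act) :
    ∃! r : P' ⟶ P'', a'.act ≫ r = lift (fst J' P' ≫ v) (snd J' P' ≫ r) ≫ a''.act ∧ q' ≫ r = q'' := by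
  obtain ⟨hps, hlocP⟩ := hP
  obtain ⟨hps', -⟩ := hP'
  have hcovP : Groth.Agent.H28.FpqcCov.Cov (toUnit P).left := by
    rw [Groth.Agent.H28.TorsRed.toUnit_left]
    exact Groth.Agent.H28.TorsRed.cov_of_locTriv P _ le_rfl hlocP
  -- point forms
  have hq'pt : ∀ {T : Over X} (j : T ⟶ J) (p : T ⟶ P),
      (lift j p ≫ a.act) ≫ q' = lift (j ≫ u) (p ≫ q') ≫ a'.act := by
    intro T j p
    rw [Category.assoc, hq', ← Category.assoc, comp_lift, lift_fst_assoc, lift_snd_assoc]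
  have hq''pt : ∀ {T : Over X} (j : T ⟶ J) (p : T ⟶ P),
      (lift j p ≫ a.act) ≫ q'' = lift ((j ≫ u) ≫ v) (p ≫ q'') ≫ a''.act := by
    intro T j p
    rw [Category.assoc, hq'', ← Category.assoc, comp_lift, lift_fst_assoc, lift_snd_assoc,
      ← Category.assoc j]
  obtain ⟨ψ, hψdef⟩ : ∃ ψ : J' ⊗ P ⟶ P', ψ = (J' ◁ q') ≫ a'.act := ⟨_, rfl⟩
  obtain ⟨R, hRdef⟩ : ∃ R : J' ⊗ P ⟶ P'',
      R = lift (fst J' P ≫ v) (snd J' P ≫ q'') ≫ a''.act := ⟨_, rfl⟩
  have ψpt : ∀ {T : Over X} (j' : T ⟶ J') (p : T ⟶ P),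
      lift j' p ≫ ψ = lift j' (p ≫ q') ≫ a'.act := by
    intro T j' p
    rw [hψdef, ← Category.assoc, lift_whiskerLeft]
  have Rpt : ∀ {T : Over X} (j' : T ⟶ J') (p : T ⟶ P),
      lift j' p ≫ R = lift (j' ≫ v) (p ≫ q'') ≫ a''.act := by
    intro T j' p
    rw [hRdef, ← Category.assoc, comp_lift, lift_fst_assoc, lift_snd_assoc]
  -- ψ is a cover
  have sqψ : IsPullback (snd J' P) ψ (toUnit P) (toUnit P') := by
    refine Groth.Agent.H28.TorsRed.isPullback_of_existsUnique (toUnit_unique _ _) ?_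
    intro T x y _
    obtain ⟨j', hj'⟩ := Groth.Agent.S8039.torsor_exists a' hps' y (x ≫ q')
    refine ⟨lift j' x, ⟨lift_snd _ _, by rw [ψpt, hj']⟩, ?_⟩
    rintro m ⟨hm1, hm2⟩
    have hm : m = lift (m ≫ fst J' P) x := by
      rw [← hm1, lift_comp_fst_snd]
    rw [hm, ψpt, ← hj'] at hm2
    rw [hm, Groth.Agent.S8039.torsor_free a' hps' _ _ _ hm2]
  have hcovψ : Groth.Agent.H28.FpqcCov.Cov ψ.left :=
    Groth.Agent.H28.FpqcCov.Cov.of_isPullback (sqψ.map (Over.forget X)) hcovP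
  have hepiψ : Epi ψ := Groth.Agent.H28.FpqcCov.epi_of_cov _ hcovψ
  have hepiJψ : Epi (J' ◁ ψ) :=
    Groth.Agent.H28.FpqcCov.epi_of_cov _ (Groth.Agent.H28.FpqcCov.cov_whiskerLeft J' ψ hcovψ)
  -- descent condition
  have cond : ∀ (T : Over X) (m₁ m₂ : T ⟶ J' ⊗ P), m₁ ≫ ψ = m₂ ≫ ψ → m₁ ≫ R = m₂ ≫ R := by
    intro T m₁ m₂ h
    rw [← lift_comp_fst_snd m₁, ← lift_comp_fst_snd m₂] at h ⊢
    generalize m₁ ≫ fst J' P = j₁ at h ⊢
    generalize m₁ ≫ snd J' P = p₁ at h ⊢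
    generalize m₂ ≫ fst J' P = j₂ at h ⊢
    generalize m₂ ≫ snd J' P = p₂ at h ⊢
    obtain ⟨j, hj⟩ := Groth.Agent.S8039.torsor_exists a hps p₂ p₁
    rw [ψpt, ψpt, ← hj, hq'pt, ← Groth.Agent.H28.ActShear.lift_mul_act] at h
    have hj₁ := Groth.Agent.S8039.torsor_free a' hps' _ _ _ h
    rw [Rpt, Rpt, ← hj, hq''pt, ← Groth.Agent.H28.ActShear.lift_mul_act, hj₁, MonObj.mul_comp]
  obtain ⟨r, hr⟩ := Groth.Agent.H28.FpqcCov.desc_of_cov ψ hcovψ R cond
  have hR_of : ∀ r₁ : P' ⟶ P'',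
      a'.act ≫ r₁ = lift (fst J' P' ≫ v) (snd J' P' ≫ r₁) ≫ a''.act → q' ≫ r₁ = q'' →
      ψ ≫ r₁ = R := by
    intro r₁ h1 h2
    apply AlgGrp.Action.hom_ext_lift₂
    intro T j' p
    rw [← Category.assoc, ψpt, Category.assoc, h1, ← Category.assoc, comp_lift, lift_fst_assoc,
      lift_snd_assoc]
    rw [Category.assoc, h2, Rpt]
  have hqr : q' ≫ r = q'' := by
    have h1 : lift (1 : P ⟶ J') (𝟙 P) ≫ ψ = q' := by
      rw [ψpt, Category.id_comp, Groth.Agent.H28.ActShear.lift_one_act]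
    rw [← h1, Category.assoc, hr, Rpt, MonObj.one_comp, Category.id_comp,
      Groth.Agent.H28.ActShear.lift_one_act]
  have heq : a'.act ≫ r = lift (fst J' P' ≫ v) (snd J' P' ≫ r) ≫ a''.act := by
    rw [← cancel_epi (J' ◁ ψ)]
    apply AlgGrp.Action.hom_ext_lift₂
    intro T k' m
    rw [← lift_comp_fst_snd m]
    generalize m ≫ fst J' P = j' 
    generalize m ≫ snd J' P = p
    have hL : lift k' (lift j' p) ≫ (J' ◁ ψ) ≫ a'.act ≫ r =
        lift ((k' * j') ≫ v) (p ≫ q'') ≫ a''.act := by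
      rw [← Category.assoc, lift_whiskerLeft, ψpt, ← Category.assoc,
        ← Groth.Agent.H28.ActShear.lift_mul_act, ← ψpt, Category.assoc, hr, Rpt]
    have hRr : lift k' (lift j' p) ≫ (J' ◁ ψ) ≫ lift (fst J' P' ≫ v) (snd J' P' ≫ r) ≫ a''.act =
        lift ((k' * j') ≫ v) (p ≫ q'') ≫ a''.act := by
      rw [← Category.assoc, lift_whiskerLeft, ← Category.assoc, comp_lift, lift_fst_assoc,
        lift_snd_assoc, Category.assoc, hr, Rpt,
        ← Groth.Agent.H28.ActShear.lift_mul_act, MonObj.mul_comp]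
    rw [hL, hRr]
  refine ⟨r, ⟨heq, hqr⟩, ?_⟩
  rintro r₁ ⟨h1, h2⟩
  rw [← cancel_epi ψ, hR_of r₁ h1 h2, hr]

end Groth.Agent.S14541
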