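import Groth.Statements.S14547
import Groth.Agent.H28.FpqcFam
import Groth.Prelude.Def_ActBC

set_option autoImplicit false
universe u
open CategoryTheory MonoidalCategory CartesianMonoidalCategory MonObj GrpObj AlgebraicGeometry
open PrincBund

namespace Groth.Agent.S14547

theorem isIso_of_isIso_pullback_map {X X' : Scheme.{u}} (f : X' ⟶ X) [Flat f] [Surjective f]
    [QuasiCompact f] {A B : Over X} (φ : A ⟶ B) (h : IsIso ((Over.pullback f).map φ)) :
    IsIso φ := by
  have hbig : IsPullback (((Over.pullback f).map φ).left ≫ Limits.pullback.snd B.hom f)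
      (Limits.pullback.fst A.hom f) f (φ.left ≫ B.hom) := by
    have h1 : ((Over.pullback f).map φ).left ≫ Limits.pullback.snd B.hom f =
        Limits.pullback.snd A.hom f := by
      simp only [Over.pullback_map_left]
      exact Limits.pullback.lift_snd _ _ _
    rw [h1, Over.w φ]
    exact (IsPullback.of_hasPullback A.hom f).flip
  have hcomm : ((Over.pullback f).map φ).left ≫ Limits.pullback.fst B.hom f =
      Limits.pullback.fst A.hom f ≫ φ.left := by
    simp only [Over.pullback_map_left]
    exact Limits.pullback.lift_fst _ _ _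
  have sq := IsPullback.of_right hbig hcomm (IsPullback.of_hasPullback B.hom f).flip
  have hl : IsIso ((Over.pullback f).map φ).left :=
    inferInstanceAs (IsIso ((Over.forget X').map ((Over.pullback f).map φ)))
  have hφl : IsIso φ.left :=
    MorphismProperty.of_isPullback_of_descendsAlong (P := MorphismProperty.isomorphisms Scheme.{u})
      (Q := @Surjective ⊓ @Flat ⊓ @QuasiCompact) sq
      ⟨⟨inferInstance, inferInstance⟩, inferInstance⟩ hl
  have : IsIso ((Over.forget X).map φ) := hφl
  exact isIso_of_reflects_iso φ (Over.forget X)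

/-- Let f : X' → X be a faithfully flat quasi-compact morphism of schemes, J a group scheme affine over
X with an action a on an X-scheme P, and a' the induced action of the base change J' = J ×_X X' on
P' = P ×_X X'. Then P with a is a J-torsor for the fpqc topology if and only if P' with a' is a
J'-torsor for the fpqc topology. (The published statement allows any morphism X' → X that is
covering for the fpqc topology, and an action of a pregroupoid; this row is the case of a faithfully
flat quasi-compact X' → X and the trivial pregroupoid.) -/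
theorem result {X X' : Scheme.{u}} (f : X' ⟶ X)
    [Flat f] [Surjective f] [QuasiCompact f]
    {J P : Over X} [GrpObj J] [IsAffineHom J.hom] (a : AlgGrp.Action J P)
    (a' : AlgGrp.Action (Red.bc f J) (Red.bc f P))
    (ha' : Functor.LaxMonoidal.μ (Over.pullback f) J P ≫ (Over.pullback f).map a.act = a'.act) :
    NonAbH1.IsTorsorFor Scheme.fpqcPrecoverage a ↔ NonAbH1.IsTorsorFor Scheme.fpqcPrecoverage a' := by
  have hact : a'.act = (a.bc f).act := ha'.symm
  have key : lift (a.bc f).act (snd _ _) ≫ Functor.LaxMonoidal.μ (Over.pullback f) P P =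
      Functor.LaxMonoidal.μ (Over.pullback f) J P ≫
        (Over.pullback f).map (lift a.act (snd J P)) := by
    rw [← Functor.Monoidal.lift_μ, comp_lift_assoc, Functor.Monoidal.μ_snd, AlgGrp.Action.bc_act]
  constructor
  · intro h
    obtain ⟨h1, h2⟩ := NonAbH1.isTorsorFor_bc f Scheme.fpqcPrecoverage h
    refine ⟨?_, h2⟩
    unfold NonAbH1.IsPseudoTorsorSch at h1 ⊢
    rw [hact]
    exact h1
  · rintro ⟨hps', R', hR', hsec'⟩
    refine ⟨?_, ?_⟩
    · unfold NonAbH1.IsPseudoTorsorSch at hps' ⊢
      rw [hact] at hps'
      have h1 : IsIso (Functor.LaxMonoidal.μ (Over.pullback f) J P ≫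
          (Over.pullback f).map (lift a.act (snd J P))) := by
        rw [← key]
        infer_instance
      have h2 : IsIso ((Over.pullback f).map (lift a.act (snd J P))) :=
        IsIso.of_isIso_comp_left (Functor.LaxMonoidal.μ (Over.pullback f) J P) _
      exact isIso_of_isIso_pullback_map f _ h2
    · obtain ⟨𝒰', hqc', rfl⟩ :=
        Scheme.mem_propQCPrecoverage_iff_exists_quasiCompactCover.mp hR'
      have hf1 : Presieve.ofArrows (fun _ : PUnit.{1} => X') (fun _ => f) ∈
          Scheme.fpqcPrecoverage X := by
        rw [Presieve.ofArrows_pUnit]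
        exact Scheme.Hom.singleton_mem_fpqcPrecoverage f
      have hcomp := Precoverage.comp_mem_coverings (J := Scheme.fpqcPrecoverage)
        (fun _ : PUnit.{1} => f) hf1
        (σ := fun _ => 𝒰'.I₀) (Y := fun _ j => 𝒰'.X j) (fun _ j => 𝒰'.f j) (fun _ => hR')
      refine ⟨_, hcomp, ?_⟩
      rintro S' g ⟨p⟩
      obtain ⟨s, hs⟩ := hsec' (𝒰'.f p.2) ⟨p.2⟩
      refine ⟨s ≫ Limits.pullback.fst P.hom f, ?_⟩
      have hs' : s ≫ Limits.pullback.snd P.hom f = 𝒰'.f p.2 := hs
      rw [Category.assoc, Limits.pullback.condition, ← Category.assoc, hs']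


end Groth.Agent.S14547
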