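import Groth.Statements.S1458
import Mathlib

set_option autoImplicit false
universe u
open FlatMor

namespace Groth.Agent.S1458

section Aux

open TensorProduct

variable {A : Type u} [CommRing A] {B : Type u} [CommRing B] [Algebra A B] {n : ℕ}
  (π : (Fin n → A) →ₗ[A] B)

theorem pi_eq_sum (c : Fin n → A) : π c = ∑ k, c k • π (Pi.single k 1) := by
  conv_lhs => rw [← Finset.univ_sum_single c]
  rw [map_sum]
  refine Finset.sum_congr rfl fun k _ => ?_
  rw [← map_smul, ← Pi.single_smul, smul_eq_mul, mul_one]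

theorem exists_repr (hπ : Function.Surjective π) (A' : Type u) [CommRing A'] [Algebra A A']
    (z : B ⊗[A] A') : ∃ a : Fin n → A', z = ∑ i, π (Pi.single i 1) ⊗ₜ[A] a i := by
  induction z using TensorProduct.induction_on with
  | zero => exact ⟨0, by simp⟩
  | tmul b a' =>
    obtain ⟨c, rfl⟩ := hπ b
    refine ⟨fun k => c k • a', ?_⟩
    rw [pi_eq_sum π c, TensorProduct.sum_tmul]
    refine Finset.sum_congr rfl fun k _ => ?_
    rw [TensorProduct.smul_tmul]
  | add x y hx hy =>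
    obtain ⟨a, rfl⟩ := hx
    obtain ⟨a', rfl⟩ := hy
    refine ⟨a + a', ?_⟩
    rw [← Finset.sum_add_distrib]
    refine Finset.sum_congr rfl fun k _ => ?_
    rw [Pi.add_apply, TensorProduct.tmul_add]

theorem mem_span_of_sum_tmul_eq_zero (hπ : Function.Surjective π) (A' : Type u) [CommRing A']
    [Algebra A A'] (v : Fin n → A') (hv : ∑ k, π (Pi.single k 1) ⊗ₜ[A] v k = 0) :
    v ∈ Submodule.span A' (((Algebra.linearMap A A').compLeft (Fin n)) ''
      (LinearMap.ker π : Set (Fin n → A))) := by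
  obtain ⟨incl, hincl⟩ : ∃ incl : (Fin n → A) →ₗ[A] (Fin n → A'),
      incl = (Algebra.linearMap A A').compLeft (Fin n) := ⟨_, rfl⟩
  rw [← hincl]
  obtain ⟨N', hN'⟩ : ∃ N' : Submodule A' (Fin n → A'),
      N' = Submodule.span A' (incl '' (LinearMap.ker π : Set (Fin n → A))) := ⟨_, rfl⟩
  rw [← hN']
  have hle : LinearMap.ker π ≤ LinearMap.ker ((N'.mkQ.restrictScalars A) ∘ₗ incl) := by
    intro x hx
    rw [LinearMap.mem_ker, LinearMap.comp_apply]
    show N'.mkQ (incl x) = 0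
    rw [Submodule.mkQ_apply, Submodule.Quotient.mk_eq_zero, hN']
    exact Submodule.subset_span ⟨x, hx, rfl⟩
  let l : B →ₗ[A] ((Fin n → A') ⧸ N') :=
    ((LinearMap.ker π).liftQ ((N'.mkQ.restrictScalars A) ∘ₗ incl) hle) ∘ₗ
      (π.quotKerEquivOfSurjective hπ).symm.toLinearMap
  have hl : ∀ x, l (π x) = N'.mkQ (incl x) := by
    intro x
    show ((LinearMap.ker π).liftQ _ hle) ((π.quotKerEquivOfSurjective hπ).symm (π x)) = _
    rw [LinearMap.quotKerEquivOfSurjective_symm_apply, Submodule.liftQ_apply]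
    rfl
  let Ψ : A' ⊗[A] B →ₗ[A'] ((Fin n → A') ⧸ N') := l.liftBaseChange A'
  have h2 : ∀ k, incl (Pi.single k (1 : A)) = Pi.single k (1 : A') := by
    intro k
    ext j
    rw [hincl]
    show algebraMap A A' ((Pi.single k (1 : A) : Fin n → A) j) = _
    rw [Pi.single_apply, Pi.single_apply]
    split_ifs <;> simp
  have h1 : Ψ (∑ k, v k ⊗ₜ[A] π (Pi.single k 1)) = N'.mkQ v := by
    calc Ψ (∑ k, v k ⊗ₜ[A] π (Pi.single k 1)) = ∑ k, N'.mkQ (Pi.single k (v k)) := by
          rw [map_sum]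
          refine Finset.sum_congr rfl fun k _ => ?_
          rw [LinearMap.liftBaseChange_tmul, hl, h2, ← map_smul, ← Pi.single_smul, smul_eq_mul,
            mul_one]
      _ = N'.mkQ v := by rw [← map_sum, Finset.univ_sum_single]
  have h3 : (∑ k, v k ⊗ₜ[A] π (Pi.single k 1) : A' ⊗[A] B) = 0 := by
    have := congrArg (TensorProduct.comm A B A') hv
    rw [map_sum, map_zero] at this
    simpa using this
  rw [h3, map_zero] at h1
  exact (Submodule.Quotient.mk_eq_zero N').mp h1.symm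

theorem sum3 {M : Type*} [AddCommMonoid M] (f : Fin n → Fin n → Fin n → M) :
    ∑ i, ∑ j, ∑ k, f i j k = ∑ k, ∑ i, ∑ j, f i j k :=
  calc ∑ i, ∑ j, ∑ k, f i j k = ∑ i, ∑ k, ∑ j, f i j k :=
        Finset.sum_congr rfl (fun i _ => Finset.sum_comm)
    _ = ∑ k, ∑ i, ∑ j, f i j k := Finset.sum_comm

theorem T_mul (c : Fin n → Fin n → Fin n → A)
    (hc : ∀ i j, π (c i j) = π (Pi.single i 1) * π (Pi.single j 1))
    (A' : Type u) [CommRing A'] [Algebra A A'] (w w' : Fin n → A') :
    (∑ i, π (Pi.single i 1) ⊗ₜ[A] w i) * (∑ j, π (Pi.single j 1) ⊗ₜ[A] w' j) =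
      ∑ k, π (Pi.single k 1) ⊗ₜ[A] (∑ i, ∑ j, c i j k • (w i * w' j)) := by
  rw [Finset.sum_mul_sum]
  have h1 : ∀ i j, (π (Pi.single i 1) ⊗ₜ[A] w i) * (π (Pi.single j 1) ⊗ₜ[A] w' j) =
      ∑ k, π (Pi.single k 1) ⊗ₜ[A] (c i j k • (w i * w' j)) := by
    intro i j
    rw [Algebra.TensorProduct.tmul_mul_tmul, ← hc i j, pi_eq_sum π (c i j), TensorProduct.sum_tmul]
    refine Finset.sum_congr rfl fun k _ => ?_
    rw [TensorProduct.smul_tmul]
  rw [Finset.sum_congr rfl (fun i _ => Finset.sum_congr rfl (fun j _ => h1 i j)), sum3]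
  refine Finset.sum_congr rfl fun k _ => ?_
  rw [TensorProduct.tmul_sum]
  refine Finset.sum_congr rfl fun i _ => ?_
  rw [TensorProduct.tmul_sum]

theorem T_rel (ρ : Fin n → A) (hρ : π ρ = 0) (A' : Type u) [CommRing A'] [Algebra A A'] (y : A') :
    ∑ k, π (Pi.single k 1) ⊗ₜ[A] (ρ k • y) = 0 := by
  have : ∑ k, π (Pi.single k 1) ⊗ₜ[A] (ρ k • y) = (π ρ) ⊗ₜ[A] y := by
    rw [pi_eq_sum π ρ, TensorProduct.sum_tmul]
    refine Finset.sum_congr rfl fun k _ => ?_
    rw [TensorProduct.smul_tmul]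
  rw [this, hρ, TensorProduct.zero_tmul]

end Aux

open TensorProduct in
/-- Let A → B be a finite ring map of finite presentation. Then there are a finitely presented A-algebra
A_u and an idempotent e_u of B ⊗_A A_u such that for every A-algebra A' and every idempotent e of B
⊗_A A' there is an A-algebra map A_u → A' whose induced map B ⊗ A_u → B ⊗ A' sends e_u to e. -/
theorem result {A B : Type u} [CommRing A] [CommRing B] [Algebra A B] [Module.Finite A B] [Algebra.FinitePresentation A B] :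
    ∃ (Au : Type u) (_ : CommRing Au) (_ : Algebra A Au) (eu : B ⊗[A] Au), Algebra.FinitePresentation A Au ∧ IsIdempotentElem eu ∧
      ∀ (A' : Type u) [CommRing A'] [Algebra A A'] (e : B ⊗[A] A'), IsIdempotentElem e →
        ∃ φ : Au →ₐ[A] A', Algebra.TensorProduct.map (AlgHom.id A B) φ eu = e := by
  classical
  have : Module.FinitePresentation A B :=
    Module.FinitePresentation.of_finite_of_finitePresentation A B
  obtain ⟨n, π, hπ⟩ := Module.Finite.exists_fin' A B
  have hfg : (LinearMap.ker π).FG := Module.FinitePresentation.fg_ker π hπ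
  obtain ⟨L, r, hr⟩ := Submodule.fg_iff_exists_fin_generating_family.mp hfg
  have hrker : ∀ l, π (r l) = 0 := fun l =>
    LinearMap.mem_ker.mp (hr ▸ Submodule.subset_span ⟨l, rfl⟩)
  have hc : ∀ i j, ∃ c : Fin n → A, π c = π (Pi.single i 1) * π (Pi.single j 1) := fun i j => hπ _
  choose c hc using hc
  let E : Fin n → MvPolynomial (Fin n ⊕ Fin L) A := fun k =>
    (∑ i, ∑ j, c i j k • (MvPolynomial.X (Sum.inl i) * MvPolynomial.X (Sum.inl j)))
      - MvPolynomial.X (Sum.inl k) - ∑ l, r l k • MvPolynomial.X (Sum.inr l)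
  obtain ⟨Iu, hIu⟩ : ∃ Iu : Ideal (MvPolynomial (Fin n ⊕ Fin L) A), Iu = Ideal.span (Set.range E) :=
    ⟨_, rfl⟩
  have hIfg : Iu.FG := by rw [hIu]; exact Submodule.fg_span (Set.finite_range E)
  let x : Fin n → MvPolynomial (Fin n ⊕ Fin L) A ⧸ Iu := fun i =>
    Ideal.Quotient.mkₐ A Iu (MvPolynomial.X (Sum.inl i))
  let y : Fin L → MvPolynomial (Fin n ⊕ Fin L) A ⧸ Iu := fun l =>
    Ideal.Quotient.mkₐ A Iu (MvPolynomial.X (Sum.inr l))
  have hE : ∀ k, (∑ i, ∑ j, c i j k • (x i * x j)) = x k + ∑ l, r l k • y l := by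
    intro k
    have h0 : Ideal.Quotient.mkₐ A Iu (E k) = 0 := by
      show Ideal.Quotient.mk Iu (E k) = 0
      rw [Ideal.Quotient.eq_zero_iff_mem, hIu]
      exact Ideal.subset_span ⟨k, rfl⟩
    simp only [E, map_sub, map_sum, map_smul, map_mul] at h0
    rw [sub_sub, sub_eq_zero] at h0
    exact h0
  refine ⟨MvPolynomial (Fin n ⊕ Fin L) A ⧸ Iu, inferInstance, inferInstance,
    ∑ i, π (Pi.single i 1) ⊗ₜ[A] x i, Algebra.FinitePresentation.quotient hIfg, ?_, ?_⟩
  · -- idempotent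
    show (∑ i, π (Pi.single i 1) ⊗ₜ[A] x i) * (∑ i, π (Pi.single i 1) ⊗ₜ[A] x i) = _
    rw [T_mul π c hc _ x x]
    rw [Finset.sum_congr rfl (fun k _ => by rw [hE k])]
    simp only [TensorProduct.tmul_add, TensorProduct.tmul_sum, Finset.sum_add_distrib]
    rw [Finset.sum_comm]
    rw [Finset.sum_eq_zero (fun l _ => T_rel π (r l) (hrker l) _ (y l)), add_zero]
  · intro A' _ _ e he
    obtain ⟨a, rfl⟩ := exists_repr π hπ A' e
    have hid : (∑ i, π (Pi.single i 1) ⊗ₜ[A] a i) * (∑ i, π (Pi.single i 1) ⊗ₜ[A] a i) =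
        ∑ i, π (Pi.single i 1) ⊗ₜ[A] a i := he
    rw [T_mul π c hc A' a a] at hid
    have hv : ∑ k, π (Pi.single k 1) ⊗ₜ[A] ((∑ i, ∑ j, c i j k • (a i * a j)) - a k) = 0 := by
      simp only [TensorProduct.tmul_sub, Finset.sum_sub_distrib]
      rw [hid, sub_self]
    have hmem := mem_span_of_sum_tmul_eq_zero π hπ A' _ hv
    rw [← hr, ← Submodule.map_coe, Submodule.map_span, Submodule.span_span_of_tower,
      ← Set.range_comp, Submodule.mem_span_range_iff_exists_fun] at hmem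
    obtain ⟨yy, hyy⟩ := hmem
    have hyyk : ∀ k, ∑ l, yy l * algebraMap A A' (r l k) =
        (∑ i, ∑ j, c i j k • (a i * a j)) - a k := by
      intro k
      have := congrFun hyy k
      simpa [Finset.sum_apply] using this
    have hker : ∀ p ∈ Iu, MvPolynomial.aeval (Sum.elim a yy) p = 0 := by
      intro p hp
      have hle : Iu ≤ RingHom.ker (MvPolynomial.aeval (R := A) (Sum.elim a yy)).toRingHom := by
        rw [hIu, Ideal.span_le]
        rintro _ ⟨k, rfl⟩
        show MvPolynomial.aeval (Sum.elim a yy) (E k) = 0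
        simp only [E, map_sub, map_sum, map_smul, map_mul, MvPolynomial.aeval_X, Sum.elim_inl,
          Sum.elim_inr]
        rw [← hyyk k]
        rw [sub_eq_zero]
        refine Finset.sum_congr rfl fun l _ => ?_
        rw [Algebra.smul_def, mul_comm]
      exact hle hp
    refine ⟨Ideal.Quotient.liftₐ Iu (MvPolynomial.aeval (Sum.elim a yy)) hker, ?_⟩
    rw [map_sum]
    refine Finset.sum_congr rfl fun i _ => ?_
    rw [Algebra.TensorProduct.map_tmul]
    show _ ⊗ₜ[A] (Ideal.Quotient.liftₐ Iu (MvPolynomial.aeval (Sum.elim a yy)) hker)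
      (Ideal.Quotient.mk Iu (MvPolynomial.X (Sum.inl i))) = _
    rw [Ideal.Quotient.liftₐ_apply, Ideal.Quotient.lift_mk]
    simp

end Groth.Agent.S1458
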