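import Groth.Statements.S14588
import Mathlib
set_option linter.style.haveILetI false

set_option autoImplicit false
universe u
open CategoryTheory MonoidalCategory CartesianMonoidalCategory MonObj GrpObj AlgebraicGeometry CategoryTheory.Limits
open AlgGrp

namespace Groth.Agent.S14588

section Aux

lemma exists_annihilates_nilradical {A : Type*} [CommRing A] [IsNoetherianRing A] (p : Ideal A)
    [p.IsPrime] (Ap : Type*) [CommRing Ap] [Algebra A Ap] [IsLocalization.AtPrime Ap p]
    [_root_.IsReduced Ap] :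
    ∃ s : A, s ∉ p ∧ ∀ x : A, IsNilpotent x → s * x = 0 := by
  have hfin : Module.Finite A (nilradical A) := inferInstance
  have hsupp : (⟨p, inferInstance⟩ : PrimeSpectrum A) ∉ Module.support A (nilradical A) := by
    rw [Module.notMem_support_iff']
    rintro ⟨m, hm⟩
    have hm' : IsNilpotent (algebraMap A Ap m) := (mem_nilradical.mp hm).map _
    have h0 : algebraMap A Ap m = 0 := hm'.eq_zero
    obtain ⟨⟨r, hr⟩, hrm⟩ := (IsLocalization.map_eq_zero_iff p.primeCompl Ap m).mp h0
    exact ⟨r, hr, Subtype.ext (by simpa [smul_eq_mul] using hrm)⟩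
  rw [Module.mem_support_iff_of_finite, SetLike.not_le_iff_exists] at hsupp
  obtain ⟨s, hs, hsp⟩ := hsupp
  refine ⟨s, hsp, fun x hx => ?_⟩
  have := Module.mem_annihilator.mp hs ⟨x, mem_nilradical.mpr hx⟩
  simpa [Subtype.ext_iff] using this

lemma isReduced_away {A : Type*} [CommRing A] (s : A) (hs : ∀ x : A, IsNilpotent x → s * x = 0)
    (B : Type*) [CommRing B] [Algebra A B] [IsLocalization.Away s B] : _root_.IsReduced B := by
  refine ⟨fun b hb => ?_⟩
  obtain ⟨n, hn⟩ := hb
  obtain ⟨x, ⟨_, j, rfl⟩, rfl⟩ := IsLocalization.exists_mk'_eq (Submonoid.powers s) b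
  rw [← IsLocalization.mk'_pow, IsLocalization.mk'_eq_zero_iff] at hn
  obtain ⟨⟨_, i, rfl⟩, hi⟩ := hn
  rw [IsLocalization.mk'_eq_zero_iff]
  have hi' : s ^ i * x ^ n = 0 := hi
  have hnil : IsNilpotent (s ^ i * x) := ⟨n + 1, by
    have : (s ^ i * x) ^ (n + 1) = (s ^ i) ^ n * x * (s ^ i * x ^ n) := by ring
    rw [this, hi', mul_zero]⟩
  refine ⟨⟨s ^ (i + 1), i + 1, rfl⟩, ?_⟩
  have h2 := hs _ hnil
  show s ^ (i + 1) * x = 0
  rw [pow_succ', _root_.mul_assoc]; exact h2

lemma exists_reduced_open {X : Scheme.{u}} [IsLocallyNoetherian X] (x : X)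
    (hx : _root_.IsReduced (X.presheaf.stalk x)) :
    ∃ U : X.Opens, x ∈ U ∧ AlgebraicGeometry.IsReduced (U : Scheme.{u}) := by
  obtain ⟨_, ⟨V, hV, rfl⟩, hxV, -⟩ :=
    X.isBasis_affineOpens.exists_subset_of_mem_open (Set.mem_univ x) isOpen_univ
  have hN : IsNoetherianRing Γ(X, V) := IsLocallyNoetherian.component_noetherian ⟨V, hV⟩
  let _ := X.presheaf.algebra_section_stalk ⟨x, hxV⟩
  have hloc := hV.isLocalization_stalk ⟨x, hxV⟩
  obtain ⟨s, hsp, hs⟩ := exists_annihilates_nilradical (hV.primeIdealOf ⟨x, hxV⟩).asIdeal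
    (X.presheaf.stalk x)
  refine ⟨X.basicOpen s, ?_, ?_⟩
  · rw [X.mem_basicOpen s x hxV]
    exact IsLocalization.map_units (X.presheaf.stalk x)
      (⟨s, hsp⟩ : (hV.primeIdealOf ⟨x, hxV⟩).asIdeal.primeCompl)
  · have hU' : IsAffineOpen (X.basicOpen s) := hV.basicOpen s
    haveI : IsAffine (X.basicOpen s) := hU'
    have hloc2 := hV.isLocalization_basicOpen s
    have hred : _root_.IsReduced Γ(X, X.basicOpen s) := isReduced_away s hs _
    haveI : _root_.IsReduced Γ((X.basicOpen s : Scheme.{u}), ⊤) :=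
      isReduced_of_injective (X.basicOpen s).topIso.hom.hom
        ((ConcreteCategory.bijective_of_isIso (X.basicOpen s).topIso.hom).injective)
    exact isReduced_of_isAffine_isReduced _

set_option backward.defeqAttrib.useBackward true in
set_option backward.isDefEq.respectTransparency false in
lemma smooth_of_smoothLocus_nonempty {K : Type u} [Field K] [IsAlgClosed K]
    (H : Over (Spec (CommRingCat.of K))) [GrpObj H] [LocallyOfFiniteType H.hom]
    (hne : (H.hom.smoothLocus : Set H.left).Nonempty) : Smooth H.hom := by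
  have := LocallyOfFiniteType.jacobsonSpace H.hom
  rw [← Scheme.Hom.smoothLocus_eq_top_iff, ← TopologicalSpace.Opens.coe_eq_univ,
    ← not_ne_iff, ← Set.nonempty_compl]
  intro Hc
  obtain ⟨x, hx, hxc⟩ :=
    nonempty_inter_closedPoints Hc H.hom.smoothLocus.2.isClosed_compl.isLocallyClosed
  obtain ⟨y, hy : y ∈ H.hom.smoothLocus, hyc⟩ := nonempty_inter_closedPoints
    hne H.hom.smoothLocus.2.isLocallyClosed
  let x' : 𝟙_ _ ⟶ H := Over.homMk _ ((pointEquivClosedPoint H.hom).symm ⟨x, hxc⟩).2
  let y' : 𝟙_ _ ⟶ H := Over.homMk _ ((pointEquivClosedPoint H.hom).symm ⟨y, hyc⟩).2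
  let α := (GrpObj.mulRight (A := H) x').symm ≪≫ (GrpObj.mulRight (A := H) y')
  have hα : x' ≫ α.hom = y' := by
    dsimp only [Iso.trans_hom, Iso.symm_hom, α]
    rw [← Category.assoc, ← Iso.eq_comp_inv]
    simp [comp_lift_assoc]
  have hα' : α.hom.left x = y := by
    simpa [x', y', pointEquivClosedPoint] using congr(($hα).left (IsLocalRing.closedPoint K))
  rw! [← hα', ← α.hom.left.mem_preimage, Scheme.Hom.preimage_smoothLocus_eq,
    show α.hom.left ≫ H.hom = H.hom from α.hom.w] at hy
  exact hx hy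

lemma smooth_of_reduced_stalk {K : Type u} [Field K] [IsAlgClosed K]
    (H : Over (Spec (CommRingCat.of K))) [GrpObj H] [LocallyOfFiniteType H.hom] (x : H.left)
    (hx : _root_.IsReduced (H.left.presheaf.stalk x)) : Smooth H.hom := by
  haveI : IsLocallyNoetherian H.left := LocallyOfFiniteType.isLocallyNoetherian H.hom
  obtain ⟨U, hxU, hU⟩ := exists_reduced_open x hx
  apply smooth_of_smoothLocus_nonempty
  have hd := (U.ι ≫ H.hom).dense_smoothLocus_of_perfectField
  haveI : Nonempty U := ⟨⟨x, hxU⟩⟩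
  obtain ⟨y, hy⟩ := hd.nonempty
  refine ⟨U.ι y, ?_⟩
  rw [← Scheme.Hom.preimage_smoothLocus_eq] at hy
  exact hy

end Aux

/-- Let k be a field with algebraic closure K and G a k-group scheme locally of finite type. If the
local ring of G_K at its unit point is reduced, then G is smooth over k. -/
theorem result (k : Type u) [Field k]
    (G : Over (Spec (CommRingCat.of k))) [GrpObj G] [LocallyOfFiniteType G.hom]
    (t : ↥((𝟙_ (Over (Spec (CommRingCat.of (AlgebraicClosure k))))).left))
    (h : _root_.IsReduced ↑((Red.bc (Spec.map (CommRingCat.ofHom (algebraMap k (AlgebraicClosure k)))) G).left.presheaf.stalk ((η[Red.bc (Spec.map (CommRingCat.ofHom (algebraMap k (AlgebraicClosure k)))) G]).left.base t))) :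
    Smooth G.hom := by
  let Ω : Type u := AlgebraicClosure k
  let g : Spec (CommRingCat.of Ω) ⟶ Spec (CommRingCat.of k) :=
    Spec.map (CommRingCat.ofHom <| algebraMap k Ω)
  apply MorphismProperty.of_pullback_snd_of_descendsAlong
    (Q := @Surjective ⊓ @Flat ⊓ @QuasiCompact) (g := g)
  · exact ⟨⟨inferInstance, inferInstance⟩, inferInstance⟩
  · haveI : LocallyOfFiniteType (Red.bc g G).hom := by
      show LocallyOfFiniteType (pullback.snd G.hom g)
      infer_instance
    exact smooth_of_reduced_stalk (Red.bc g G) _ h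

end Groth.Agent.S14588
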