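import Groth.Statements.S1460
import Mathlib

set_option autoImplicit false
universe u
open FlatMor

namespace Groth.Agent.S1460

open AlgebraicGeometry CategoryTheory Limits TensorProduct

/-- Ring-level Noetherian descent for finitely presented algebras. -/
theorem ring_descent {R A : CommRingCat.{u}} (φ : R ⟶ A) (hφ : φ.hom.FinitePresentation) :
    ∃ (R₀ A₀ : CommRingCat.{u}) (α : R₀ ⟶ R) (β : R₀ ⟶ A₀) (γ : A₀ ⟶ A),
      Algebra.FiniteType ℤ R₀ ∧ β.hom.FiniteType ∧ IsPushout α β φ γ := by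
  algebraize [φ.hom]
  let P := Algebra.Presentation.ofFinitePresentation R A
  let R₀ := P.Core
  let A₀ := P.ModelOfHasCoeffs P.Core
  let e := P.tensorModelOfHasCoeffsEquiv P.Core
  let γ : A₀ →+* A := (e.toAlgHom.toRingHom).comp
    (Algebra.TensorProduct.includeRight (R := P.Core) (A := R) (B := A₀)).toRingHom
  refine ⟨CommRingCat.of R₀, CommRingCat.of A₀, CommRingCat.ofHom (algebraMap R₀ R),
    CommRingCat.ofHom (algebraMap R₀ A₀), CommRingCat.ofHom γ, ?_, ?_, ?_⟩
  · exact (inferInstance : Algebra.FiniteType ℤ P.Core)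
  · rw [CommRingCat.hom_ofHom, RingHom.finiteType_algebraMap]
    infer_instance
  · have h := CommRingCat.isPushout_tensorProduct R₀ R A₀
    refine h.of_iso (Iso.refl _) (Iso.refl _) (Iso.refl _) e.toRingEquiv.toCommRingCatIso
      (by simp) (by simp) ?_ ?_
    · ext r
      simp only [Iso.refl_hom, Category.id_comp]
      show e (r ⊗ₜ[R₀] (1 : A₀)) = φ.hom r
      have := e.commutes r
      rw [Algebra.TensorProduct.algebraMap_apply] at this
      simpa [RingHom.algebraMap_toAlgebra] using this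
    · rw [Iso.refl_hom, Category.id_comp]
      rfl

theorem result {X S : Scheme.{u}} (f : X ⟶ S) [IsAffine X] [IsAffine S] [LocallyOfFinitePresentation f] :
    ∃ (X₀ S₀ : Scheme.{u}) (f₀ : X₀ ⟶ S₀) (g : S ⟶ S₀) (g' : X ⟶ X₀), IsAffine X₀ ∧ IsAffine S₀ ∧ IsPullback g' f f₀ g ∧
      Algebra.FiniteType ℤ Γ(S₀, ⊤) ∧ LocallyOfFiniteType f₀ := by
  have hφ : f.appTop.hom.FinitePresentation :=
    (HasRingHomProperty.iff_of_isAffine (P := @LocallyOfFinitePresentation)).mp inferInstance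
  obtain ⟨R₀, A₀, α, β, γ, hR₀, hβ, hpo⟩ := ring_descent f.appTop hφ
  refine ⟨Spec A₀, Spec R₀, Spec.map β, S.isoSpec.hom ≫ Spec.map α, X.isoSpec.hom ≫ Spec.map γ,
    inferInstance, inferInstance, ?_, ?_, ?_⟩
  · have h := (isPullback_SpecMap_of_isPushout α β f.appTop γ hpo).flip
    refine h.of_iso' X.isoSpec (Iso.refl _) S.isoSpec (Iso.refl _) (by simp) ?_ (by simp) (by simp)
    exact Scheme.isoSpec_hom_naturality f
  · exact hR₀.equiv (Scheme.ΓSpecIso R₀).symm.commRingCatIsoToRingEquiv.toIntAlgEquiv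
  · exact (HasRingHomProperty.Spec_iff (P := @LocallyOfFiniteType)).mpr hβ

end Groth.Agent.S1460
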