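import Groth.Statements.S14606
import Mathlib

set_option autoImplicit false
universe u
open FrobAlg

namespace Groth.Agent.S14606

open TensorProduct

section aux

variable {k : Type u} [Field k] {R : Type u} [CommRing R] [Algebra k R]

theorem pure_mem (p m : ℕ) [Fact p.Prime] [CharP (AlgebraicClosure k ⊗[k] R) p] (s : R)
    (hs : s ∈ Algebra.adjoin k (Set.range (fun x : R => x ^ (p ^ m)))) :
    ∀ c : AlgebraicClosure k, ∃ w : AlgebraicClosure k ⊗[k] R, w ^ (p ^ m) = c ⊗ₜ[k] s := by
  have hp : p.Prime := Fact.out
  have hq : 0 < p ^ m := pos_of_ne_zero (pow_ne_zero _ hp.ne_zero)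
  induction hs using Algebra.adjoin_induction with
  | mem x hx =>
    obtain ⟨r, rfl⟩ := hx
    intro c
    obtain ⟨γ, hγ⟩ := IsAlgClosed.exists_pow_nat_eq c hq
    exact ⟨γ ⊗ₜ[k] r, by rw [Algebra.TensorProduct.tmul_pow, hγ]⟩
  | algebraMap a =>
    intro c
    obtain ⟨γ, hγ⟩ := IsAlgClosed.exists_pow_nat_eq (a • c) hq
    refine ⟨γ ⊗ₜ[k] 1, ?_⟩
    rw [Algebra.TensorProduct.tmul_pow, hγ, one_pow, Algebra.algebraMap_eq_smul_one,
      TensorProduct.smul_tmul]
  | add x y hx hy ihx ihy =>
    intro c
    obtain ⟨w, hw⟩ := ihx c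
    obtain ⟨w', hw'⟩ := ihy c
    exact ⟨w + w', by rw [add_pow_char_pow, hw, hw', TensorProduct.tmul_add]⟩
  | mul x y hx hy ihx ihy =>
    intro c
    obtain ⟨w, hw⟩ := ihx c
    obtain ⟨w', hw'⟩ := ihy 1
    exact ⟨w * w', by rw [mul_pow, hw, hw', Algebra.TensorProduct.tmul_mul_tmul, mul_one]⟩

end aux

/-- Let k be a field of characteristic p > 0 and R a finitely generated commutative k-algebra. The
scheme-theoretic image of the n-th relative Frobenius morphism of Spec R is the spectrum of the
k-subalgebra k[R^(p^n)] generated by all p^n-th powers; for n large enough this image is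
geometrically reduced: there is an n such that k[R^(p^n)] is a geometrically reduced k-algebra.
(Stated in affine, ring-theoretic form.) -/
theorem result (k : Type u) [Field k] (p : ℕ) [Fact p.Prime] [CharP k p]
    (R : Type u) [CommRing R] [Algebra k R] [Algebra.FiniteType k R] :
    ∃ n : ℕ, Algebra.IsGeometricallyReduced k ↥(Algebra.adjoin k (Set.range (fun x : R => x ^ (p ^ n)))) := by
  classical
  rcases subsingleton_or_nontrivial R with hR | hR
  · refine ⟨0, ?_⟩
    rw [Algebra.isGeometricallyReduced_field_iff]
    have hz : ∀ z : AlgebraicClosure k ⊗[k]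
        ↥(Algebra.adjoin k (Set.range (fun x : R => x ^ (p ^ 0)))), z = 0 := by
      intro z
      induction z using TensorProduct.induction_on with
      | zero => rfl
      | tmul c s => rw [Subsingleton.elim s 0, TensorProduct.tmul_zero]
      | add a b ha hb => rw [ha, hb, add_zero]
    exact ⟨fun z _ => hz z⟩
  · have hp : p.Prime := Fact.out
    have hT : IsNoetherianRing (AlgebraicClosure k ⊗[k] R) :=
      Algebra.FiniteType.isNoetherianRing (AlgebraicClosure k) (AlgebraicClosure k ⊗[k] R)
    obtain ⟨m, hm⟩ := IsNoetherianRing.isNilpotent_nilradical (AlgebraicClosure k ⊗[k] R)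
    refine ⟨m, ?_⟩
    have hmq : m ≤ p ^ m := (Nat.lt_pow_self hp.one_lt).le
    have hq : 0 < p ^ m := pos_of_ne_zero (pow_ne_zero _ hp.ne_zero)
    have hinjR : Function.Injective
        (Algebra.TensorProduct.includeRight : R →ₐ[k] AlgebraicClosure k ⊗[k] R) :=
      Algebra.TensorProduct.includeRight_injective (RingHom.injective _)
    have hTn : Nontrivial (AlgebraicClosure k ⊗[k] R) := hinjR.nontrivial
    haveI hcharK : CharP (AlgebraicClosure k) p :=
      charP_of_injective_algebraMap (algebraMap k (AlgebraicClosure k)).injective p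
    haveI hchar : CharP (AlgebraicClosure k ⊗[k] R) p :=
      charP_of_injective_algebraMap
        (algebraMap (AlgebraicClosure k) (AlgebraicClosure k ⊗[k] R)).injective p
    rw [Algebra.isGeometricallyReduced_field_iff]
    have hι : Function.Injective (Algebra.TensorProduct.map (AlgHom.id k (AlgebraicClosure k))
        (Algebra.adjoin k (Set.range (fun x : R => x ^ (p ^ m)))).val) := by
      have := Module.Flat.lTensor_preserves_injective_linearMap (M := AlgebraicClosure k)
        (Algebra.adjoin k (Set.range (fun x : R => x ^ (p ^ m)))).val.toLinearMap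
        Subtype.val_injective
      exact this
    have hrange : ∀ z : AlgebraicClosure k ⊗[k]
        ↥(Algebra.adjoin k (Set.range (fun x : R => x ^ (p ^ m)))),
        ∃ w : AlgebraicClosure k ⊗[k] R, w ^ (p ^ m) =
          Algebra.TensorProduct.map (AlgHom.id k (AlgebraicClosure k))
            (Algebra.adjoin k (Set.range (fun x : R => x ^ (p ^ m)))).val z := by
      intro z
      induction z using TensorProduct.induction_on with
      | zero => exact ⟨0, by rw [map_zero, zero_pow hq.ne']⟩
      | tmul c s =>
        rw [Algebra.TensorProduct.map_tmul]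
        exact pure_mem p m s.1 s.2 c
      | add a b ha hb =>
        obtain ⟨w, hw⟩ := ha
        obtain ⟨w', hw'⟩ := hb
        exact ⟨w + w', by rw [add_pow_char_pow, hw, hw', map_add]⟩
    refine ⟨fun z hz => ?_⟩
    obtain ⟨w, hw⟩ := hrange z
    have hnil : IsNilpotent (Algebra.TensorProduct.map (AlgHom.id k (AlgebraicClosure k))
        (Algebra.adjoin k (Set.range (fun x : R => x ^ (p ^ m)))).val z) := hz.map _
    rw [← hw, IsNilpotent.pow_iff_pos hq.ne'] at hnil
    have hwmem : w ∈ nilradical (AlgebraicClosure k ⊗[k] R) := mem_nilradical.mpr hnil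
    have hwm : w ^ m = 0 := by
      have h1 := Ideal.pow_mem_pow hwmem m
      rw [hm] at h1
      simpa using h1
    have h0 : Algebra.TensorProduct.map (AlgHom.id k (AlgebraicClosure k))
        (Algebra.adjoin k (Set.range (fun x : R => x ^ (p ^ m)))).val z = 0 := by
      rw [← hw]; exact pow_eq_zero_of_le hmq hwm
    exact hι (by rw [h0, map_zero])

end Groth.Agent.S14606
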