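import Groth.Statements.S14611
import Mathlib
import Mathlib
import Groth.Agent.H19.ProjCoker

set_option autoImplicit false
universe u
open FlatCx

namespace Groth.Agent.S14611

open CategoryTheory CategoryTheory.Limits TensorProduct

/-- `opcycles` as a quotient by the image of the incoming differential. -/
noncomputable def opcyclesEquiv {A : Type u} [CommRing A] {ι : Type} {c : ComplexShape ι}
    (K : HomologicalComplex (ModuleCat.{u} A) c) (i j : ι) (hij : c.Rel i j) :
    K.opcycles j ≃ₗ[A] (K.X j ⧸ LinearMap.range (K.d i j).hom) := by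
  have hprev : c.prev j = i := c.prev_eq' hij
  subst hprev
  exact ((K.sc j).moduleCatOpcyclesIso).toLinearEquiv

open CategoryTheory CategoryTheory.Limits in
/-- Let A be a Noetherian ring, Q a cochain complex whose terms are finitely generated projective
A-modules, and d an integer such that H^p(Q) = 0 for every p < d and H^p(Q ⊗_A A/m) = 0 for every p
< d and every maximal ideal m of A. Then Q^d / im(Q^{d-1} → Q^d), the degree-d term of the
truncation τ_{≥ d} Q, is a projective A-module, so that τ_{≥ d} Q is again a complex of projective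
modules. (The published statement also asserts that Q → τ_{≥ d} Q is a quasi-isomorphism when H^p(Q)
= 0 for p < d; this row omits that clause.) -/
theorem result (A : Type u) [CommRing A] [IsNoetherianRing A]
    (Q : CochainComplex (ModuleCat.{u} A) ℤ)
    (hQ : ∀ i, Module.Finite A (Q.X i) ∧ Module.Projective A (Q.X i)) (d : ℤ)
    (h1 : ∀ p < d, IsZero (Q.homology p))
    (h2 : ∀ (m : Ideal A) [m.IsMaximal], ∀ p < d,
      IsZero ((CohIII.tensorObj Q (ModuleCat.of A (A ⧸ m))).homology p)) :
    Module.Projective A (Q.opcycles d) := by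
  haveI : Module.Finite A (Q.X (d - 1)) := (hQ (d - 1)).1
  haveI : Module.Finite A (Q.X d) := (hQ d).1
  haveI : Module.Projective A (Q.X d) := (hQ d).2
  have hrel : (ComplexShape.up ℤ).Rel (d - 1) d := by simp
  have hba : (Q.d (d - 1) d).hom ∘ₗ (Q.d (d - 1 - 1) (d - 1)).hom = 0 := by
    have := Q.d_comp_d (d - 1 - 1) (d - 1) d
    exact congrArg ModuleCat.Hom.hom this
  have key : ∀ (m : Ideal A) [m.IsMaximal],
      Function.Exact ((Q.d (d - 1 - 1) (d - 1)).hom.lTensor (A ⧸ m))
        ((Q.d (d - 1) d).hom.lTensor (A ⧸ m)) := by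
    intro m hm
    have hz := h2 m (d - 1) (by omega)
    have hex : (CohIII.tensorObj Q (ModuleCat.of A (A ⧸ m))).ExactAt (d - 1) :=
      (HomologicalComplex.exactAt_iff_isZero_homology _ _).2 hz
    rw [HomologicalComplex.exactAt_iff' _ (d - 1 - 1) (d - 1) d (by simp) (by simp)] at hex
    have hex' : Function.Exact ((Q.d (d - 1 - 1) (d - 1)).hom.rTensor (A ⧸ m))
        ((Q.d (d - 1) d).hom.rTensor (A ⧸ m)) :=
      (ShortComplex.ShortExact.moduleCat_exact_iff_function_exact _).1 hex
    refine Function.Exact.of_ladder_linearEquiv_of_exact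
      (e₁ := TensorProduct.comm A (Q.X (d - 1 - 1)) (A ⧸ m))
      (e₂ := TensorProduct.comm A (Q.X (d - 1)) (A ⧸ m))
      (e₃ := TensorProduct.comm A (Q.X d) (A ⧸ m)) ?_ ?_ hex'
    · exact LinearMap.lTensor_comp_comm _
    · exact LinearMap.lTensor_comp_comm _
  haveI := Groth.Agent.H19.ProjCoker.projective_coker
    (Q.d (d - 1 - 1) (d - 1)).hom (Q.d (d - 1) d).hom hba key
  exact Module.Projective.of_equiv (Groth.Agent.S14611.opcyclesEquiv Q (d - 1) d hrel).symm

end Groth.Agent.S14611
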