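import Groth.Statements.S14614
import Mathlib

set_option autoImplicit false
universe u
open Mor

namespace Groth.Agent.S14614

section Helpers
open AlgebraicGeometry CategoryTheory CategoryTheory.Limits TopologicalSpace IsLocalRing

theorem artinian_quot_pow {R : Type u} [CommRing R] [IsNoetherianRing R] [IsLocalRing R] (n : ℕ)
    (hn : n ≠ 0) : IsArtinianRing (R ⧸ (maximalIdeal R) ^ n) := by
  apply IsLocalRing.quotient_artinian_of_mem_minimalPrimes_of_isLocalRing
  refine ⟨⟨inferInstance, Ideal.pow_le_self hn⟩, ?_⟩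
  rintro q ⟨hq, hle⟩ _
  haveI := hq
  exact (Ideal.IsPrime.pow_le_iff hn).mp hle

set_option backward.isDefEq.respectTransparency false in
theorem vanish_of_factor {Z S : Scheme.{u}} (i : Z ⟶ S) {R : CommRingCat.{u}} [IsLocalRing R]
    (g' : Spec R ⟶ Z) (g : Spec R ⟶ S) (hg : g' ≫ i = g) (U : S.Opens)
    (hU : g (closedPoint R) ∈ U) (a₀ : Γ(S, U))
    (h0 : ∀ (hw : g' (closedPoint R) ∈ i ⁻¹ᵁ U),
      Z.presheaf.germ (i ⁻¹ᵁ U) (g' (closedPoint R)) hw (i.app U a₀) = 0) :
    (S.presheaf.germ U (g (closedPoint R)) hU ≫ Scheme.stalkClosedPointTo g) a₀ = 0 := by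
  subst hg
  have h1 : Scheme.stalkClosedPointTo (g' ≫ i) =
      i.stalkMap (g' (closedPoint R)) ≫ Scheme.stalkClosedPointTo g' :=
    Scheme.stalkClosedPointTo_comp g' i
  have hw : g' (closedPoint R) ∈ i ⁻¹ᵁ U := hU
  have h2 : S.presheaf.germ U (i (g' (closedPoint R))) hU ≫ i.stalkMap (g' (closedPoint R)) =
      i.app U ≫ Z.presheaf.germ (i ⁻¹ᵁ U) (g' (closedPoint R)) hw :=
    Scheme.Hom.germ_stalkMap i U _ hU
  rw [h1]
  show (S.presheaf.germ U (i (g' (closedPoint R))) hU ≫
    i.stalkMap (g' (closedPoint R)) ≫ Scheme.stalkClosedPointTo g') a₀ = 0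
  rw [← Category.assoc, h2, Category.assoc, CommRingCat.comp_apply, CommRingCat.comp_apply,
    h0 hw, map_zero]

set_option backward.isDefEq.respectTransparency false in
theorem mem_pow14614 (S : Scheme.{u}) [IsLocallyNoetherian S]
    {Z : Scheme.{u}} (i : Z ⟶ S) [IsClosedImmersion i]
    (h : ∀ (A : Type u) [CommRing A] [IsArtinianRing A] [IsLocalRing A]
      (g : Spec (CommRingCat.of A) ⟶ S),
      (∃ t : Spec (CommRingCat.of (IsLocalRing.ResidueField A)) ⟶ Z,
          t ≫ i = Spec.map (CommRingCat.ofHom (IsLocalRing.residue A)) ≫ g) →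
        ∃ g' : Spec (CommRingCat.of A) ⟶ Z, g' ≫ i = g) (z : Z)
    (a : S.presheaf.stalk (i z)) (ha : (i.stalkMap z).hom a = 0) (n : ℕ) (hn : n ≠ 0) :
    a ∈ (maximalIdeal (S.presheaf.stalk (i z))) ^ n := by
  let I : Ideal (S.presheaf.stalk (i z)) := maximalIdeal (S.presheaf.stalk (i z)) ^ n
  have hne : I ≠ ⊤ := fun htop =>
    (Ideal.IsPrime.ne_top (inferInstance : (maximalIdeal (S.presheaf.stalk (i z))).IsPrime))
      (top_le_iff.mp (htop ▸ Ideal.pow_le_self hn))
  haveI : Nontrivial (S.presheaf.stalk (i z) ⧸ I) := Ideal.Quotient.nontrivial_iff.mpr hne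
  haveI : IsLocalRing (S.presheaf.stalk (i z) ⧸ I) :=
    IsLocalRing.of_surjective' (Ideal.Quotient.mk I) Ideal.Quotient.mk_surjective
  haveI hloc : IsLocalHom (Ideal.Quotient.mk I) :=
    IsLocalHom.of_surjective _ Ideal.Quotient.mk_surjective
  haveI : IsArtinianRing (S.presheaf.stalk (i z) ⧸ I) := artinian_quot_pow n hn
  let π : S.presheaf.stalk (i z) ⟶ CommRingCat.of (S.presheaf.stalk (i z) ⧸ I) :=
    CommRingCat.ofHom (Ideal.Quotient.mk I)
  haveI : IsLocalHom π.hom := hloc
  have hsurj : Function.Surjective (i.stalkMap z).hom := i.stalkMap_surjective z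
  let ρ : S.presheaf.stalk (i z) →+* ResidueField (S.presheaf.stalk (i z) ⧸ I) :=
    (residue _).comp (Ideal.Quotient.mk I)
  have hker : RingHom.ker (i.stalkMap z).hom ≤ RingHom.ker ρ := by
    intro b hb
    rw [RingHom.mem_ker] at hb ⊢
    show residue _ (Ideal.Quotient.mk I b) = 0
    rw [residue_eq_zero_iff, mem_maximalIdeal, mem_nonunits_iff]
    intro hu
    have hub : IsUnit b := isUnit_of_map_unit (Ideal.Quotient.mk I) b hu
    have hu2 : IsUnit ((i.stalkMap z).hom b) := hub.map _
    rw [hb] at hu2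
    exact not_isUnit_zero hu2
  let ψ : Z.presheaf.stalk z →+* ResidueField (S.presheaf.stalk (i z) ⧸ I) :=
    (i.stalkMap z).hom.liftOfSurjective hsurj ⟨ρ, hker⟩
  have hψ : ψ.comp (i.stalkMap z).hom = ρ := RingHom.liftOfSurjective_comp _ hsurj ⟨ρ, hker⟩
  have e : i.stalkMap z ≫ CommRingCat.ofHom ψ =
      π ≫ CommRingCat.ofHom (residue (S.presheaf.stalk (i z) ⧸ I)) := by
    ext b
    exact congrFun (congrArg DFunLike.coe hψ) b
  have ht : (Spec.map (CommRingCat.ofHom ψ) ≫ Z.fromSpecStalk z) ≫ i =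
      Spec.map (CommRingCat.ofHom (residue (S.presheaf.stalk (i z) ⧸ I))) ≫
        (Spec.map π ≫ S.fromSpecStalk (i z)) := by
    rw [Category.assoc, ← Scheme.SpecMap_stalkMap_fromSpecStalk, ← Category.assoc,
      ← Category.assoc, ← Spec.map_comp, ← Spec.map_comp, e]
  obtain ⟨g', hg'⟩ := h (S.presheaf.stalk (i z) ⧸ I) (Spec.map π ≫ S.fromSpecStalk (i z))
    ⟨_, ht⟩
  have hgc : (Spec.map π ≫ S.fromSpecStalk (i z))
      (closedPoint (CommRingCat.of (S.presheaf.stalk (i z) ⧸ I))) = i z := by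
    have h2 : (Spec.map π) (closedPoint (CommRingCat.of (S.presheaf.stalk (i z) ⧸ I))) =
        closedPoint (S.presheaf.stalk (i z)) := IsLocalRing.comap_closedPoint π.hom
    show (S.fromSpecStalk (i z)) ((Spec.map π) (closedPoint _)) = i z
    rw [h2, Scheme.fromSpecStalk_closedPoint]
  have hz' : g' (closedPoint (CommRingCat.of (S.presheaf.stalk (i z) ⧸ I))) = z := by
    apply i.isClosedEmbedding.injective
    rw [← Scheme.Hom.comp_apply, hg', hgc]
  obtain ⟨U, hU, a₀, rfl⟩ := S.presheaf.exists_germ_eq a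
  have h0z : Z.presheaf.germ (i ⁻¹ᵁ U) z hU (i.app U a₀) = 0 :=
    (Scheme.Hom.germ_stalkMap_apply i U z hU a₀).symm.trans ha
  have h0 : ∀ (w : Z), w = z → ∀ (hw : w ∈ i ⁻¹ᵁ U),
      Z.presheaf.germ (i ⁻¹ᵁ U) w hw (i.app U a₀) = 0 := by
    rintro w rfl hw
    exact h0z
  have hUg : (Spec.map π ≫ S.fromSpecStalk (i z))
      (closedPoint (CommRingCat.of (S.presheaf.stalk (i z) ⧸ I))) ∈ U := by
    rw [hgc]; exact hU
  have key := vanish_of_factor i g' (Spec.map π ≫ S.fromSpecStalk (i z)) hg' U hUg a₀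
    (fun hw => h0 _ hz' hw)
  rw [Scheme.germ_stalkClosedPointTo_Spec_fromSpecStalk π U hUg, CommRingCat.comp_apply] at key
  exact Ideal.Quotient.eq_zero_iff_mem.mp key

set_option backward.isDefEq.respectTransparency false in
theorem main14614 (S : Scheme.{u}) [IsLocallyNoetherian S]
    {Z : Scheme.{u}} (i : Z ⟶ S) [IsClosedImmersion i]
    (h : ∀ (A : Type u) [CommRing A] [IsArtinianRing A] [IsLocalRing A]
      (g : Spec (CommRingCat.of A) ⟶ S),
      (∃ t : Spec (CommRingCat.of (IsLocalRing.ResidueField A)) ⟶ Z,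
          t ≫ i = Spec.map (CommRingCat.ofHom (IsLocalRing.residue A)) ≫ g) →
        ∃ g' : Spec (CommRingCat.of A) ⟶ Z, g' ≫ i = g) :
    IsOpenImmersion i := by
  have hinj : ∀ z : Z, Function.Injective (i.stalkMap z).hom := by
    intro z
    rw [injective_iff_map_eq_zero]
    intro a ha
    have hkrull : (⨅ n : ℕ, (maximalIdeal (S.presheaf.stalk (i z))) ^ n) = ⊥ :=
      Ideal.iInf_pow_eq_bot_of_isLocalRing _ (Ideal.IsPrime.ne_top inferInstance)
    have hmem : a ∈ (⨅ n : ℕ, (maximalIdeal (S.presheaf.stalk (i z))) ^ n) := by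
      rw [Ideal.mem_iInf]
      intro n
      by_cases hn : n = 0
      · subst hn; simp
      · exact mem_pow14614 S i h z a ha n hn
    rw [hkrull] at hmem
    exact hmem
  haveI : Flat i := (Flat.iff_flat_stalkMap i).mpr
    (fun z => RingHom.Flat.of_bijective ⟨hinj z, i.stalkMap_surjective z⟩)
  haveI : LocallyOfFinitePresentation i :=
    LocallyOfFinitePresentation.iff_locallyOfFiniteType.mpr inferInstance
  exact IsOpenImmersion.of_flat_of_mono i

end Helpers

open CategoryTheory AlgebraicGeometry in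
/-- Let S be a locally Noetherian scheme and i : Z → S a closed immersion with the following property:
for every Artinian local ring A with residue field k and every morphism g : Spec A → S, if the
restriction Spec k → Spec A → S of g factors through i then so does g. Then i is also an open
immersion, i.e. the closed subscheme Z is open in S as a subscheme. (The published hypothesis is an
equivalence; its other direction always holds, so this row assumes only the implication.) -/
theorem result (S : Scheme.{u}) [IsLocallyNoetherian S]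
    {Z : Scheme.{u}} (i : Z ⟶ S) [IsClosedImmersion i]
    (h : ∀ (A : Type u) [CommRing A] [IsArtinianRing A] [IsLocalRing A] (g : Spec (CommRingCat.of A) ⟶ S),
      (∃ t : Spec (CommRingCat.of (IsLocalRing.ResidueField A)) ⟶ Z,
          t ≫ i = Spec.map (CommRingCat.ofHom (IsLocalRing.residue A)) ≫ g) →
        ∃ g' : Spec (CommRingCat.of A) ⟶ Z, g' ≫ i = g) :
    IsOpenImmersion i := by
  exact main14614 S i h

end Groth.Agent.S14614
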