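import Groth.Statements.S14616
import Groth.Agent.H3.TowerLim

set_option autoImplicit false
universe u
open Formal2

namespace Groth.Agent.S14616

open CategoryTheory in
theorem result (G : ℕ → Type u) [∀ n, AddCommGroup (G n)]
    (t : ∀ n, G (n + 1) →+ G n)
    (h : (Functor.ofOpSequence (X := fun n => AddCommGrpCat.of (G n))
      (fun n => AddCommGrpCat.ofHom (t n)) ⋙ forget AddCommGrpCat).IsMittagLeffler) :
    Function.Surjective (Formal2.towerDiff G t) := by
  let F₀ : ℕᵒᵖ ⥤ AddCommGrpCat := Functor.ofOpSequence (X := fun n => AddCommGrpCat.of (G n))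
    (fun n => AddCommGrpCat.ofHom (t n))
  let T : ∀ {i k : ℕ}, i ≤ k → (G k →+ G i) := fun {i k} h => (F₀.map (homOfLE h).op).hom
  apply Groth.Agent.H3.TowerLim.towerDiff_surjective_of_ML G t T
  · intro i x
    show (F₀.map (homOfLE (le_refl i)).op).hom x = x
    have h1 : (homOfLE (le_refl i)).op = 𝟙 (Opposite.op i) := Subsingleton.elim _ _
    rw [h1, F₀.map_id]
    rfl
  · intro n x
    show (F₀.map (homOfLE (Nat.le_succ n)).op).hom x = t n x
    have h1 : F₀.map (homOfLE (Nat.le_succ n)).op = AddCommGrpCat.ofHom (t n) :=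
      Functor.ofOpSequence_map_homOfLE_succ _ n
    rw [h1]
    rfl
  · intro i j k h1 h2 x
    show (F₀.map (homOfLE h1).op).hom ((F₀.map (homOfLE h2).op).hom x) =
      (F₀.map (homOfLE (h1.trans h2)).op).hom x
    have h3 : (homOfLE (h1.trans h2)).op = (homOfLE h2).op ≫ (homOfLE h1).op :=
      Subsingleton.elim _ _
    rw [h3, F₀.map_comp]
    rfl
  · intro n
    obtain ⟨i, f, hf⟩ := h (Opposite.op n)
    refine ⟨i.unop, leOfHom f.unop, fun k hk x => ?_⟩
    have hf' : f = (homOfLE (leOfHom f.unop)).op := Subsingleton.elim _ _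
    have hmem := hf (homOfLE hk).op ⟨x, rfl⟩
    obtain ⟨y, hy⟩ := hmem
    refine ⟨y, ?_⟩
    rw [hf'] at hy
    exact hy

end Groth.Agent.S14616
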