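import Groth.Statements.S14617
import Mathlib

set_option autoImplicit false
universe u
open Formal2

namespace Groth.Agent.S14617

theorem result (G' G G'' : ℕ → Type u)
    [∀ n, AddCommGroup (G' n)] [∀ n, AddCommGroup (G n)] [∀ n, AddCommGroup (G'' n)]
    (t' : ∀ n, G' (n + 1) →+ G' n) (t : ∀ n, G (n + 1) →+ G n) (t'' : ∀ n, G'' (n + 1) →+ G'' n)
    (u : ∀ n, G' n →+ G n) (v : ∀ n, G n →+ G'' n)
    (hu : ∀ n x, t n (u (n + 1) x) = u n (t' n x)) (hv : ∀ n x, t'' n (v (n + 1) x) = v n (t n x))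
    (hinj : ∀ n, Function.Injective (u n)) (hsurj : ∀ n, Function.Surjective (v n))
    (hex : ∀ n, (v n).ker = (u n).range) :
    ∃ (α : Formal2.limZero G' t' →+ Formal2.limZero G t) (β : Formal2.limZero G t →+ Formal2.limZero G'' t'')
      (δ : Formal2.limZero G'' t'' →+ Formal2.limOne G' t')
      (ε : Formal2.limOne G' t' →+ Formal2.limOne G t) (ζ : Formal2.limOne G t →+ Formal2.limOne G'' t''),
      (∀ (x : Formal2.limZero G' t') (n : ℕ), (α x : ∀ n, G n) n = u n ((x : ∀ n, G' n) n)) ∧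
      (∀ (x : Formal2.limZero G t) (n : ℕ), (β x : ∀ n, G'' n) n = v n ((x : ∀ n, G n) n)) ∧
      (∀ (z : Formal2.limZero G'' t'') (y : ∀ n, G n) (w : ∀ n, G' n),
          (∀ n, v n (y n) = (z : ∀ n, G'' n) n) → (∀ n, u n (w n) = Formal2.towerDiff G t y n) →
            δ z = (QuotientAddGroup.mk w : Formal2.limOne G' t')) ∧
      (∀ y : ∀ n, G' n, ε (QuotientAddGroup.mk y : Formal2.limOne G' t') =
          (QuotientAddGroup.mk (fun n => u n (y n)) : Formal2.limOne G t)) ∧
      (∀ y : ∀ n, G n, ζ (QuotientAddGroup.mk y : Formal2.limOne G t) =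
          (QuotientAddGroup.mk (fun n => v n (y n)) : Formal2.limOne G'' t'')) ∧
      Function.Injective α ∧ α.range = β.ker ∧ β.range = δ.ker ∧ δ.range = ε.ker ∧ ε.range = ζ.ker ∧
      Function.Surjective ζ := by
  classical
  -- product maps
  let U : (∀ n, G' n) →+ (∀ n, G n) :=
    { toFun := fun x n => u n (x n)
      map_zero' := by funext n; simp
      map_add' := fun x y => by funext n; simp }
  let V : (∀ n, G n) →+ (∀ n, G'' n) :=
    { toFun := fun x n => v n (x n)
      map_zero' := by funext n; simp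
      map_add' := fun x y => by funext n; simp }
  have hU : ∀ x n, U x n = u n (x n) := fun x n => rfl
  have hV : ∀ x n, V x n = v n (x n) := fun x n => rfl
  let D' := Formal2.towerDiff G' t'
  let D := Formal2.towerDiff G t
  let D'' := Formal2.towerDiff G'' t''
  have hD' : ∀ x n, D' x n = x n - t' n (x (n + 1)) := fun x n => rfl
  have hD : ∀ x n, D x n = x n - t n (x (n + 1)) := fun x n => rfl
  have hD'' : ∀ x n, D'' x n = x n - t'' n (x (n + 1)) := fun x n => rfl
  have c1 : ∀ x, D (U x) = U (D' x) := by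
    intro x; funext n
    rw [hD, hU, hU, hU, hD', hu, map_sub]
  have c2 : ∀ y, D'' (V y) = V (D y) := by
    intro y; funext n
    rw [hD'', hV, hV, hV, hD, hv, map_sub]
  have e1 : Function.Injective U := by
    intro x y hxy
    funext n
    exact hinj n (congrFun hxy n)
  have e2 : Function.Surjective V := by
    intro z
    choose y hy using fun n => hsurj n (z n)
    exact ⟨y, funext hy⟩
  have e3 : ∀ y, V y = 0 → ∃ x, U x = y := by
    intro y hy
    have : ∀ n, ∃ x : G' n, u n x = y n := by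
      intro n
      have h1 : y n ∈ (v n).ker := congrFun hy n
      rw [hex n] at h1
      exact h1
    choose x hx using this
    exact ⟨x, funext hx⟩
  have e4 : ∀ x, V (U x) = 0 := by
    intro x; funext n
    have : u n (x n) ∈ (u n).range := ⟨_, rfl⟩
    rw [← hex n] at this
    exact this
  -- α and β
  let α : Formal2.limZero G' t' →+ Formal2.limZero G t :=
    (U.comp (AddSubgroup.subtype _)).codRestrict _ (fun x => by
      show D (U x.1) = 0
      rw [c1, show D' x.1 = 0 from x.2, map_zero])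
  let β : Formal2.limZero G t →+ Formal2.limZero G'' t'' :=
    (V.comp (AddSubgroup.subtype _)).codRestrict _ (fun x => by
      show D'' (V x.1) = 0
      rw [c2, show D x.1 = 0 from x.2, map_zero])
  have hα : ∀ x : Formal2.limZero G' t', (α x).1 = U x.1 := fun x => rfl
  have hβ : ∀ x : Formal2.limZero G t, (β x).1 = V x.1 := fun x => rfl
  -- ε and ζ
  let ε : Formal2.limOne G' t' →+ Formal2.limOne G t :=
    QuotientAddGroup.map _ _ U (by
      rintro _ ⟨x, rfl⟩
      exact ⟨U x, c1 x⟩)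
  let ζ : Formal2.limOne G t →+ Formal2.limOne G'' t'' :=
    QuotientAddGroup.map _ _ V (by
      rintro _ ⟨x, rfl⟩
      exact ⟨V x, c2 x⟩)
  have hε : ∀ y, ε (QuotientAddGroup.mk y) = QuotientAddGroup.mk (U y) := fun y => rfl
  have hζ : ∀ y, ζ (QuotientAddGroup.mk y) = QuotientAddGroup.mk (V y) := fun y => rfl
  -- δ
  have hδex : ∀ z : Formal2.limZero G'' t'', ∃ (y : ∀ n, G n) (w : ∀ n, G' n),
      V y = z.1 ∧ U w = D y := by
    intro z
    obtain ⟨y, hy⟩ := e2 z.1
    obtain ⟨w, hw⟩ := e3 (D y) (by rw [← c2, hy]; exact z.2)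
    exact ⟨y, w, hy, hw⟩
  have hδwd : ∀ (y y' : ∀ n, G n) (w w' : ∀ n, G' n), V y = V y' → U w = D y → U w' = D y' →
      (QuotientAddGroup.mk w : Formal2.limOne G' t') = QuotientAddGroup.mk w' := by
    intro y y' w w' hyy hw hw'
    obtain ⟨x, hx⟩ := e3 (y - y') (by rw [map_sub, hyy, sub_self])
    rw [QuotientAddGroup.eq]
    refine ⟨-x, ?_⟩
    apply e1
    rw [← c1, map_neg, hx, map_neg, map_add, map_neg, hw, hw', map_sub]
    abel
  choose yδ wδ hyδ hwδ using hδex
  let δ : Formal2.limZero G'' t'' →+ Formal2.limOne G' t' :=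
    AddMonoidHom.mk' (fun z => QuotientAddGroup.mk (wδ z)) (by
      intro z1 z2
      show (QuotientAddGroup.mk (wδ (z1 + z2)) : Formal2.limOne G' t') =
        QuotientAddGroup.mk (wδ z1 + wδ z2)
      apply hδwd (yδ (z1 + z2)) (yδ z1 + yδ z2)
      · rw [hyδ, map_add, hyδ, hyδ]; rfl
      · exact hwδ _
      · rw [map_add, map_add, hwδ, hwδ])
  have hδ : ∀ (z : Formal2.limZero G'' t'') (y : ∀ n, G n) (w : ∀ n, G' n), V y = z.1 → U w = D y →
      δ z = QuotientAddGroup.mk w := by
    intro z y w hy hw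
    show (QuotientAddGroup.mk (wδ z) : Formal2.limOne G' t') = QuotientAddGroup.mk w
    exact hδwd (yδ z) y _ _ (by rw [hyδ, hy]) (hwδ z) hw
  refine ⟨α, β, δ, ε, ζ, fun x n => rfl, fun x n => rfl, ?_, fun y => rfl, fun y => rfl, ?_, ?_, ?_,
    ?_, ?_, ?_⟩
  · intro z y w hy hw
    exact hδ z y w (funext hy) (funext hw)
  · -- α injective
    intro x x' hxx
    apply Subtype.ext
    apply e1
    rw [← hα, ← hα, hxx]
  · -- range α = ker β
    ext y
    rw [AddMonoidHom.mem_range, AddMonoidHom.mem_ker]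
    constructor
    · rintro ⟨x, rfl⟩
      apply Subtype.ext
      rw [hβ, hα]
      exact e4 _
    · intro hy
      have hy' : V y.1 = 0 := by rw [← hβ, hy]; rfl
      obtain ⟨x, hx⟩ := e3 y.1 hy'
      have hx' : D' x = 0 := by
        apply e1
        rw [← c1, hx, map_zero]
        exact y.2
      exact ⟨⟨x, hx'⟩, Subtype.ext hx⟩
  · -- range β = ker δ
    ext z
    rw [AddMonoidHom.mem_range, AddMonoidHom.mem_ker]
    constructor
    · rintro ⟨y, rfl⟩
      rw [hδ (β y) y.1 0 rfl (by rw [map_zero]; exact y.2.symm)]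
      rfl
    · intro hz
      have h1 := hδ z (yδ z) (wδ z) (hyδ z) (hwδ z)
      rw [hz] at h1
      have h2 : wδ z ∈ D'.range := (QuotientAddGroup.eq_zero_iff _).mp h1.symm
      obtain ⟨x, hx⟩ := h2
      have h3 : D (yδ z - U x) = 0 := by
        rw [map_sub, c1, hx, hwδ, sub_self]
      refine ⟨⟨yδ z - U x, h3⟩, Subtype.ext ?_⟩
      rw [hβ]
      show V (yδ z - U x) = z.1
      rw [map_sub, e4, sub_zero, hyδ]
  · -- range δ = ker ε
    ext c
    rw [AddMonoidHom.mem_range, AddMonoidHom.mem_ker]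
    constructor
    · rintro ⟨z, rfl⟩
      rw [hδ z (yδ z) (wδ z) (hyδ z) (hwδ z), hε, hwδ]
      exact (QuotientAddGroup.eq_zero_iff _).mpr ⟨_, rfl⟩
    · intro hc
      obtain ⟨w, rfl⟩ := QuotientAddGroup.mk_surjective c
      rw [hε] at hc
      obtain ⟨y, hy⟩ := (QuotientAddGroup.eq_zero_iff _).mp hc
      have hz : D'' (V y) = 0 := by
        rw [c2]
        show V (D y) = 0
        rw [hy, e4]
      exact ⟨⟨V y, hz⟩, hδ ⟨V y, hz⟩ y w rfl hy.symm⟩
  · -- range ε = ker ζ
    ext c
    rw [AddMonoidHom.mem_range, AddMonoidHom.mem_ker]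
    constructor
    · rintro ⟨c', rfl⟩
      obtain ⟨w, rfl⟩ := QuotientAddGroup.mk_surjective c'
      rw [hε, hζ, e4]
      rfl
    · intro hc
      obtain ⟨y, rfl⟩ := QuotientAddGroup.mk_surjective c
      rw [hζ] at hc
      obtain ⟨z'', hz''⟩ := (QuotientAddGroup.eq_zero_iff _).mp hc
      obtain ⟨y₀, hy₀⟩ := e2 z''
      obtain ⟨w, hw⟩ := e3 (y - D y₀) (by
        rw [map_sub, ← c2, hy₀]
        show V y - D'' z'' = 0
        rw [hz'', sub_self])
      refine ⟨QuotientAddGroup.mk w, ?_⟩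
      rw [hε, hw, QuotientAddGroup.eq]
      refine ⟨y₀, ?_⟩
      show D y₀ = -(y - D y₀) + y
      abel
  · -- ζ surjective
    intro c
    obtain ⟨z, rfl⟩ := QuotientAddGroup.mk_surjective c
    obtain ⟨y, rfl⟩ := e2 z
    exact ⟨QuotientAddGroup.mk y, rfl⟩

end Groth.Agent.S14617
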