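import Mathlib
import Groth.Agent.H11.HensFinite
import Groth.Statements.S14620

set_option autoImplicit false
universe u
open Hensel

namespace Groth.Agent.S14620

/-- In the strictly henselian case, let f : A → B be a finite local homomorphism of local rings. If A is
strictly henselian (henselian local with separably closed residue field), then so is B. -/
theorem result {A B : Type u} [CommRing A] [IsLocalRing A]
    [CommRing B] [IsLocalRing B] (f : A →+* B) (hf : f.Finite) [IsLocalHom f]
    (hA : EtCoh.IsStrictlyHenselianLocalRing A) : EtCoh.IsStrictlyHenselianLocalRing B := by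

    obtain ⟨hH, hS⟩ := hA
    letI : Algebra A B := f.toAlgebra
    haveI : Module.Finite A B := hf
    haveI : IsLocalHom (algebraMap A B) := ‹IsLocalHom f›
    haveI hB : HenselianLocalRing B := Groth.Agent.H11.HensEt.henselian_of_finite A B
    haveI : Module.Finite (IsLocalRing.ResidueField A) (IsLocalRing.ResidueField B) :=
      IsLocalRing.ResidueField.finite_of_module_finite
    haveI : Algebra.IsAlgebraic (IsLocalRing.ResidueField A) (IsLocalRing.ResidueField B) :=
      Algebra.IsAlgebraic.of_finite _ _
    exact ⟨hB, Algebra.IsAlgebraic.isSepClosed (F := IsLocalRing.ResidueField A)⟩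

end Groth.Agent.S14620
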