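import Groth.Statements.S14621
import Groth.Agent.H25.ToposFin8

set_option autoImplicit false
open CategoryTheory CategoryTheory.Limits
universe u
open CohSite

namespace Groth.Agent.S14621

/-- Let C be a small category with pullbacks and J a Grothendieck topology on C in which every object is
quasi-compact in the site sense (every covering sieve contains finitely many morphisms which already
generate a covering sieve). Then for every small filtered category I the inclusion of sheaves of
sets on (C, J) into presheaves preserves colimits of shape I: filtered colimits of sheaves are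
computed objectwise. (Only sheaves of sets are stated; the same holds for sheaves of abelian groups
or modules. All pullbacks in C are assumed.) -/
theorem result {C : Type u} [SmallCategory C]
    [HasPullbacks C] (J : GrothendieckTopology C) (hJ : ∀ U : C, ToposFin.IsQCSite J U)
    (I : Type u) [SmallCategory I] [IsFiltered I] :
    PreservesColimitsOfShape I (sheafToPresheaf J (Type u)) := by
  have hQC : ToposFin.HasQCGenerators J := H25.TF.hasQCGenerators_of_isQCSite hJ
  constructor
  intro D
  refine preservesColimit_of_preserves_colimit_cocone (colimit.isColimit D) ?_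
  refine evaluationJointlyReflectsColimits _ (fun V => ?_)
  have hcoh : ToposFin.IsCoherent (ToposFin.eps J V.unop) := H25.TF.isCoherent_eps hJ V.unop
  have key : ∀ (F : ToposFin.Sh J) (x : F.obj.obj V),
      (H25.TF.secMap (F := F) (U := V.unop) x).hom.app (Opposite.op V.unop)
        (H25.TF.eta J V.unop (𝟙 V.unop)) = x := by
    intro F x
    rw [H25.TF.secMap_eta, op_id, Functor.map_id_apply]
  refine Types.FilteredColimit.isColimitOf' _ _ ?_ ?_
  · intro x
    obtain ⟨i, ψ, hψ⟩ := H25.TF.exists_lift_of_isCoherent hQC hcoh D
      (H25.TF.secMap (F := colimit D) (U := V.unop) x)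
    refine ⟨i, ψ.hom.app V (H25.TF.eta J V.unop (𝟙 V.unop)), ?_⟩
    have h1 := congrArg (fun t : ToposFin.eps J V.unop ⟶ colimit D =>
      t.hom.app (Opposite.op V.unop) (H25.TF.eta J V.unop (𝟙 V.unop))) hψ
    exact (h1.trans (key (colimit D) x)).symm
  · intro i x y hxy
    have hfg : H25.TF.secMap (F := D.obj i) (U := V.unop) x ≫ colimit.ι D i =
        H25.TF.secMap (F := D.obj i) (U := V.unop) y ≫ colimit.ι D i := by
      apply H25.TF.epsHom_ext
      show (colimit.ι D i).hom.app (Opposite.op V.unop)
          ((H25.TF.secMap (F := D.obj i) (U := V.unop) x).hom.app (Opposite.op V.unop)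
            (H25.TF.eta J V.unop (𝟙 V.unop))) =
        (colimit.ι D i).hom.app (Opposite.op V.unop)
          ((H25.TF.secMap (F := D.obj i) (U := V.unop) y).hom.app (Opposite.op V.unop)
            (H25.TF.eta J V.unop (𝟙 V.unop)))
      rw [key (D.obj i) x, key (D.obj i) y]
      exact hxy
    obtain ⟨k, a, ha⟩ := H25.TF.exists_map_eq_of_isQC hcoh.1 D i _ _ hfg
    refine ⟨k, a, ?_⟩
    have h1 := congrArg (fun t : ToposFin.eps J V.unop ⟶ D.obj k =>
      t.hom.app (Opposite.op V.unop) (H25.TF.eta J V.unop (𝟙 V.unop))) ha
    have h2 : (D.map a).hom.app (Opposite.op V.unop)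
          ((H25.TF.secMap (F := D.obj i) (U := V.unop) x).hom.app (Opposite.op V.unop)
            (H25.TF.eta J V.unop (𝟙 V.unop))) =
        (D.map a).hom.app (Opposite.op V.unop)
          ((H25.TF.secMap (F := D.obj i) (U := V.unop) y).hom.app (Opposite.op V.unop)
            (H25.TF.eta J V.unop (𝟙 V.unop))) := h1
    rw [key (D.obj i) x, key (D.obj i) y] at h2
    exact h2

end Groth.Agent.S14621
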