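import Groth.Statements.S14623
import Groth.Agent.H23.DerAdj

set_option autoImplicit false
open CategoryTheory CategoryTheory.Limits
universe w v u
open CohDer

namespace Groth.Agent.S14623

/-- Let A and B be abelian categories with enough injectives, L : A ⥤ B an exact additive functor and R
: B ⥤ A an additive right adjoint of L. Then on bounded below derived categories the functor induced
by L (written as its total right derived functor, L being exact) is left adjoint to the right
derived functor of R; the existence of an adjunction is asserted. -/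
theorem result {A B : Type u} [Category.{v} A] [Category.{v} B]
    [Abelian A] [Abelian B] [HasDerivedCategory.{w} A] [HasDerivedCategory.{w} B]
    [EnoughInjectives A] [EnoughInjectives B] {L : A ⥤ B} {R : B ⥤ A} (adj : L ⊣ R)
    [L.Additive] [R.Additive] [PreservesFiniteLimits L] [PreservesFiniteColimits L] :
    Nonempty (L.rightDerivedFunctorPlus ⊣ R.rightDerivedFunctorPlus) := by
  classical
  have hinv : (HomotopyCategory.Plus.quasiIso A).IsInvertedBy
      (L.mapHomotopyCategoryPlus ⋙ DerivedCategory.Plus.Qh) := by
    intro K K' f hf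
    obtain ⟨K₀, rfl⟩ := HomotopyCategory.Plus.quotient_obj_surjective K
    obtain ⟨K₁, rfl⟩ := HomotopyCategory.Plus.quotient_obj_surjective K'
    obtain ⟨g, rfl⟩ := (HomotopyCategory.Plus.quotient A).map_surjective f
    have hg : QuasiIso g.hom :=
      (HomologicalComplex.mem_quasiIso_iff _).1
        ((HomotopyCategory.quotient_map_mem_quasiIso_iff g.hom).1 hf)
    have hLg : QuasiIso ((L.mapHomologicalComplex (ComplexShape.up ℤ)).map g.hom) := inferInstance
    change IsIso (DerivedCategory.Plus.Qh.map (L.mapHomotopyCategoryPlus.map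
      ((HomotopyCategory.Plus.quotient A).map g)))
    rw [Groth.Agent.H23.DerPlus.isIso_PlusQh_map_iff]
    exact (HomotopyCategory.quotient_map_mem_quasiIso_iff
      ((L.mapHomologicalComplex (ComplexShape.up ℤ)).map g.hom)).2
      ((HomologicalComplex.mem_quasiIso_iff _).2 hLg)
  have hisoL : IsIso L.rightDerivedFunctorPlusUnit :=
    Functor.isIso_of_isRightDerivedFunctor_of_inverts L.rightDerivedFunctorPlus
      L.rightDerivedFunctorPlusUnit hinv
  let eL : DerivedCategory.Plus.Qh ⋙ L.rightDerivedFunctorPlus ≅
      L.mapHomotopyCategoryPlus ⋙ DerivedCategory.Plus.Qh :=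
    (asIso L.rightDerivedFunctorPlusUnit).symm
  have i1 : L.rightDerivedFunctorPlus.IsLeftDerivedFunctor eL.hom
      (HomotopyCategory.Plus.quasiIso A) :=
    Functor.isLeftDerivedFunctor_of_inverts (HomotopyCategory.Plus.quasiIso A)
      L.rightDerivedFunctorPlus eL
  let e3 : DerivedCategory.Plus.Qh ⋙ (L.rightDerivedFunctorPlus ⋙ R.rightDerivedFunctorPlus) ≅
      (L.mapHomotopyCategoryPlus ⋙ DerivedCategory.Plus.Qh) ⋙ R.rightDerivedFunctorPlus :=
    (Functor.associator _ _ _).symm ≪≫ Functor.isoWhiskerRight eL R.rightDerivedFunctorPlus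
  have i3 : (L.rightDerivedFunctorPlus ⋙ R.rightDerivedFunctorPlus).IsLeftDerivedFunctor
      ((Functor.associator _ _ _).inv ≫
        Functor.whiskerRight eL.hom R.rightDerivedFunctorPlus)
      (HomotopyCategory.Plus.quasiIso A) :=
    Functor.isLeftDerivedFunctor_of_inverts (HomotopyCategory.Plus.quasiIso A)
      (L.rightDerivedFunctorPlus ⋙ R.rightDerivedFunctorPlus) e3
  have i4 : (R.rightDerivedFunctorPlus ⋙ L.rightDerivedFunctorPlus).IsRightDerivedFunctor
      (Functor.whiskerRight R.rightDerivedFunctorPlusUnit L.rightDerivedFunctorPlus ≫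
        (Functor.associator _ _ _).hom)
      (HomotopyCategory.Plus.quasiIso B) := by
    apply (HomotopyCategory.Plus.localizerMorphism_derives _).isRightDerivedFunctor_of_isIso
    intro X₁
    simp only [NatTrans.comp_app, Functor.whiskerRight_app, Functor.associator_hom_app,
      Category.comp_id]
    infer_instance
  exact ⟨(Groth.Agent.H23.DerAdj.adjK adj).derived (HomotopyCategory.Plus.quasiIso A)
    (HomotopyCategory.Plus.quasiIso B) eL.hom R.rightDerivedFunctorPlusUnit⟩

end Groth.Agent.S14623
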