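import Groth.Statements.S14641
import Groth.Agent.H28.FpqcCov
import Groth.Agent.H28.ActShear
import Groth.Agent.H28.FpqcIso

set_option autoImplicit false
universe u
open CategoryTheory MonoidalCategory CartesianMonoidalCategory MonObj GrpObj AlgebraicGeometry CategoryTheory.Limits
open AlgGrp

namespace Groth.Agent.S14641

/-- Over a field k, let G be a k-group scheme of finite type, i : H → G a closed subgroup scheme, and
(Q, o) the quotient G/H: a k-scheme with a G-action and a rational point o exhibiting it as the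
quotient (orbit map flat and surjective, G × H ≅ G ×_Q G). Let n : N → G be a closed subgroup scheme
which is the kernel of the action of G on Q, i.e. for every k-scheme T, a T-point g of G factors
through N exactly when g acts as the identity on Q_T (on all points of Q over T-schemes). Then N is
normal in G and contained in H, and N is the largest such subgroup: every closed subgroup scheme N'
of G which is normal in G and factors through H factors through N. -/
theorem result (k : Type u) [Field k]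
    (G H Q N : Over (Spec (CommRingCat.of k))) [GrpObj G] [LocallyOfFiniteType G.hom] [QuasiCompact G.hom]
    [GrpObj H] (i : H ⟶ G) [IsMonHom i] [IsClosedImmersion i.left]
    (a : AlgGrp.Action G Q) (o : 𝟙_ (Over (Spec (CommRingCat.of k))) ⟶ Q) (hQ : AGF.IsQuotient i Q a o)
    [GrpObj N] (n : N ⟶ G) [IsMonHom n] [IsClosedImmersion n.left]
    (hN : ∀ (T : Over (Spec (CommRingCat.of k))) (g : T ⟶ G),
      (∃ m : T ⟶ N, m ≫ n = g) ↔
        ∀ (T' : Over (Spec (CommRingCat.of k))) (s : T' ⟶ T) (x : T' ⟶ Q),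
          CartesianMonoidalCategory.lift (s ≫ g) x ≫ a.act = x) :
    AlgGrp.IsNormalHom n ∧ (∃ f : N ⟶ H, f ≫ i = n) ∧
      ∀ (N' : Over (Spec (CommRingCat.of k))) [GrpObj N'] (n' : N' ⟶ G) [IsMonHom n'] [IsClosedImmersion n'.left],
        AlgGrp.IsNormalHom n' → (∃ f : N' ⟶ H, f ≫ i = n') → ∃ f' : N' ⟶ N, f' ≫ n = n' := by
  obtain ⟨hlft, hfl, hsj, hsq⟩ := hQ
  have hnoeth : IsNoetherian G.left := Groth.Agent.H28.FpqcIso.isNoetherian_of_finiteType k G
  have hqc : QuasiCompact (a.orbitMap o).left := inferInstance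
  have hcov : Groth.Agent.H28.FpqcCov.Cov (a.orbitMap o).left :=
    Groth.Agent.H28.FpqcCov.cov_of_flat_surj_qc _
  have hπ : ∀ {T : Over (Spec (CommRingCat.of k))} (g : T ⟶ G),
      g ≫ a.orbitMap o = lift g (toUnit T ≫ o) ≫ a.act := by
    intro T g
    unfold AlgGrp.Action.orbitMap
    rw [← Category.assoc]
    congr 1
    ext <;> simp
  have Q2 : ∀ {T : Over (Spec (CommRingCat.of k))} (g : T ⟶ G) (h : T ⟶ H),
      (g * (h ≫ i)) ≫ a.orbitMap o = g ≫ a.orbitMap o := by
    intro T g h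
    have h2 := congrArg (fun w => lift g h ≫ w) hsq.w
    beta_reduce at h2
    rw [← Category.assoc, lift_fst, ← Category.assoc, ← Category.assoc, lift_whiskerLeft,
      ← Hom.mul_def] at h2
    exact h2.symm
  have Q3 : ∀ {T : Over (Spec (CommRingCat.of k))} (g₁ g₂ : T ⟶ G),
      g₁ ≫ a.orbitMap o = g₂ ≫ a.orbitMap o → ∃ h : T ⟶ H, g₂ = g₁ * (h ≫ i) := by
    intro T g₁ g₂ hg
    refine ⟨hsq.lift g₁ g₂ hg ≫ snd G H, ?_⟩
    have h1 := hsq.lift_fst g₁ g₂ hg
    have h2 := hsq.lift_snd g₁ g₂ hg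
    generalize hsq.lift g₁ g₂ hg = w at h1 h2
    have h3 : lift (w ≫ fst G H) ((w ≫ snd G H) ≫ i) = w ≫ (G ◁ i) := by
      ext <;> simp
    rw [← h2, ← h1, Hom.mul_def, h3, Category.assoc]
  have hNid : ∀ {T : Over (Spec (CommRingCat.of k))} (m : T ⟶ N) (y : T ⟶ Q),
      lift (m ≫ n) y ≫ a.act = y := by
    intro T m y
    have := (hN T (m ≫ n)).mp ⟨m, rfl⟩ T (𝟙 T) y
    rwa [Category.id_comp] at this
  refine ⟨?_, ?_, ?_⟩
  · intro T g m
    suffices hsuff : ∃ m' : T ⟶ N, m' ≫ n = g * (m ≫ n) * g⁻¹ by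
      obtain ⟨m', hm'⟩ := hsuff
      exact ⟨m', hm'.symm⟩
    refine (hN T (g * (m ≫ n) * g⁻¹)).mpr ?_
    intro T' s x
    rw [MonObj.comp_mul, MonObj.comp_mul, GrpObj.comp_inv, ← Category.assoc,
      Groth.Agent.H28.ActShear.lift_mul_act, Groth.Agent.H28.ActShear.lift_mul_act, hNid,
      ← Groth.Agent.H28.ActShear.lift_mul_act, mul_inv_cancel,
      Groth.Agent.H28.ActShear.lift_one_act]
  · have h1 : (1 : N ⟶ G) ≫ a.orbitMap o = n ≫ a.orbitMap o := by
      rw [hπ, hπ, Groth.Agent.H28.ActShear.lift_one_act]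
      have := hNid (𝟙 N) (toUnit N ≫ o)
      rw [Category.id_comp] at this
      exact this.symm
    obtain ⟨h, hh⟩ := Q3 _ _ h1
    exact ⟨h, by rw [hh, _root_.one_mul]⟩
  · intro N' _ n' _ _ hN' hf
    obtain ⟨f, hf⟩ := hf
    refine (hN N' n').mpr ?_
    intro T' s x
    obtain ⟨T'', c, gm, hc, hcx⟩ := Groth.Agent.H28.FpqcCov.exists_lift (a.orbitMap o) hcov x
    rw [← cancel_epi c]
    obtain ⟨n'', hn''⟩ := hN' T'' gm⁻¹ (c ≫ s)
    rw [_root_.inv_inv] at hn''
    have h5 : (c ≫ s ≫ n') * gm = gm * ((n'' ≫ f) ≫ i) := by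
      rw [Category.assoc, hf, ← hn'', Category.assoc]
      group
    rw [← Category.assoc, comp_lift, hcx, hπ, ← Groth.Agent.H28.ActShear.lift_mul_act, ← hπ, h5,
      Q2, hπ]


end Groth.Agent.S14641
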