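import Groth.Statements.S14643
import Groth.Agent.H28.KerShear
import Groth.Agent.H28.ExtGrp
import Groth.Agent.H28.CartPB

set_option autoImplicit false
universe u
open CategoryTheory MonoidalCategory CartesianMonoidalCategory MonObj GrpObj AlgebraicGeometry CategoryTheory.Limits
open AlgGrp

namespace Groth.Agent.S14643

section Helpers
open CategoryTheory.Limits Groth.Agent.H28

variable {S : Scheme.{u}} {G N Q X : Over S} [GrpObj G] [GrpObj N] [GrpObj Q]

theorem exists_action (a : AlgGrp.Action G X) (n : N ⟶ G) [IsMonHom n] (π : G ⟶ Q) [IsMonHom π]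
    (hker : AlgGrp.IsKernel n π) (hcov : FpqcCov.Cov π.left)
    (htriv : ∀ (T : Over S) (w : T ⟶ N) (y : T ⟶ X), lift (w ≫ n) y ≫ a.act = y) :
    ∃ b : AlgGrp.Action Q X, (π ▷ X) ≫ b.act = a.act := by
  have hpb := KerShear.isPullback_shear n π hker
  obtain ⟨bact, hb⟩ := ExtGrp.desc_whiskerRight n π hpb hcov a.act (fun T x w y => by
    rw [AlgGrp.Action.lift_mul_act, htriv])
  have hbpt : ∀ (T : Over S) (g : T ⟶ G) (x : T ⟶ X),
      lift (g ≫ π) x ≫ bact = lift g x ≫ a.act := by
    intro T g x
    rw [← hb, lift_whiskerRight_assoc]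
  refine ⟨⟨bact, ?_, ?_⟩, hb⟩
  · rw [← IsMonHom.one_hom (f := π), comp_whiskerRight, Category.assoc, hb, a.one_act]
  · have : Epi ((π ⊗ₘ π) ▷ X) :=
      FpqcCov.epi_of_cov _ (FpqcCov.cov_whiskerRight _ (FpqcCov.cov_tensorHom π π hcov hcov) X)
    rw [← cancel_epi ((π ⊗ₘ π) ▷ X)]
    apply AlgGrp.Action.hom_ext_lift₃
    intro T g h x
    have e1 : lift (lift g h) x ≫ ((π ⊗ₘ π) ▷ X) = lift (lift (g ≫ π) (h ≫ π)) x := by
      rw [lift_whiskerRight, lift_map]
    rw [← Category.assoc, e1, lift_whiskerRight_assoc, ← Hom.mul_def, ← MonObj.mul_comp, hbpt,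
      ← Category.assoc, e1, lift_lift_associator_hom_assoc, lift_whiskerLeft_assoc, hbpt, hbpt,
      AlgGrp.Action.lift_mul_act]

theorem action_ext (b₁ b₂ : AlgGrp.Action Q X) (h : b₁.act = b₂.act) : b₁ = b₂ := by
  cases b₁
  cases b₂
  simp only at h
  subst h
  rfl

end Helpers

/-- Over a field k, let G be a smooth k-group scheme of finite type acting on a variety X (a separated,
geometrically integral k-scheme of finite type). Let n : N → G be the kernel of the action: a closed
subgroup scheme such that, for every k-scheme T, a T-point of G factors through N exactly when it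
acts as the identity on all points of X over T-schemes. Let π : G → Q be a homomorphism onto a
k-group scheme of finite type which is flat and surjective with kernel N (the quotient G/N). Then
there is a unique action of Q on X inducing the given one along π; this action of Q is faithful (a
T-point of Q acting as the identity on all points of X over T-schemes is the unit); and X is
homogeneous under G (surjective graph morphism (g, x) ↦ (x, g·x)) if and only if it is homogeneous
under Q, and almost homogeneous under G (dominant graph morphism) if and only if it is almost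
homogeneous under Q. -/
theorem result (k : Type u) [Field k]
    (G N Q X : Over (Spec (CommRingCat.of k))) [GrpObj G] [Smooth G.hom] [QuasiCompact G.hom]
    [IsSeparated X.hom] [LocallyOfFiniteType X.hom] [QuasiCompact X.hom] [GeometricallyIntegral X.hom] (a : AlgGrp.Action G X)
    [GrpObj N] (n : N ⟶ G) [IsMonHom n] [IsClosedImmersion n.left]
    (hN : ∀ (T : Over (Spec (CommRingCat.of k))) (g : T ⟶ G),
      (∃ m : T ⟶ N, m ≫ n = g) ↔
        ∀ (T' : Over (Spec (CommRingCat.of k))) (s : T' ⟶ T) (x : T' ⟶ X), CartesianMonoidalCategory.lift (s ≫ g) x ≫ a.act = x)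
    [GrpObj Q] [LocallyOfFiniteType Q.hom] [QuasiCompact Q.hom] (π : G ⟶ Q) [IsMonHom π] [Flat π.left] [Surjective π.left]
    (hker : AlgGrp.IsKernel n π) :
    (∃! b : AlgGrp.Action Q X, (π ▷ X) ≫ b.act = a.act) ∧
    ∀ b : AlgGrp.Action Q X, (π ▷ X) ≫ b.act = a.act →
      (∀ (T : Over (Spec (CommRingCat.of k))) (q : T ⟶ Q),
        (∀ (T' : Over (Spec (CommRingCat.of k))) (s : T' ⟶ T) (x : T' ⟶ X), CartesianMonoidalCategory.lift (s ≫ q) x ≫ b.act = x) → q = 1) ∧
      (Surjective (CartesianMonoidalCategory.lift (CartesianMonoidalCategory.snd G X) a.act).left ↔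
        Surjective (CartesianMonoidalCategory.lift (CartesianMonoidalCategory.snd Q X) b.act).left) ∧
      (IsDominant (CartesianMonoidalCategory.lift (CartesianMonoidalCategory.snd G X) a.act).left ↔
        IsDominant (CartesianMonoidalCategory.lift (CartesianMonoidalCategory.snd Q X) b.act).left) := by
  have hlfp : LocallyOfFinitePresentation π.left :=
    Groth.Agent.H28.KerShear.lfp_of_comp π.left Q.hom (by rw [Over.w π]; infer_instance)
      inferInstance
  have hcov : Groth.Agent.H28.FpqcCov.Cov π.left := by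
    refine Precoverage.generate_mem_toGrothendieck
      (Scheme.fppfPrecoverage_le_fpqcPrecoverage _ ?_)
    change Presieve.singleton _ ∈ Scheme.precoverage (@Flat ⊓ @LocallyOfFinitePresentation) _
    rw [Scheme.singleton_mem_precoverage_iff]
    exact ⟨‹Surjective π.left›.surj, inferInstance, hlfp⟩
  have hepi : Epi (π ▷ X) :=
    Groth.Agent.H28.FpqcCov.epi_of_cov _ (Groth.Agent.H28.FpqcCov.cov_whiskerRight π hcov X)
  have htriv : ∀ (T : Over (Spec (CommRingCat.of k))) (w : T ⟶ N) (y : T ⟶ X),
      lift (w ≫ n) y ≫ a.act = y := by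
    intro T w y
    have := (hN T (w ≫ n)).mp ⟨w, rfl⟩ T (𝟙 T) y
    rwa [Category.id_comp] at this
  obtain ⟨b₀, hb₀⟩ := exists_action a n π hker hcov htriv
  refine ⟨⟨b₀, hb₀, fun b' hb' => action_ext _ _ ?_⟩, ?_⟩
  · rw [← cancel_epi (π ▷ X), hb', hb₀]
  · intro b hb
    have hbpt : ∀ (T : Over (Spec (CommRingCat.of k))) (g : T ⟶ G) (x : T ⟶ X),
        lift (g ≫ π) x ≫ b.act = lift g x ≫ a.act := by
      intro T g x
      rw [← hb, lift_whiskerRight_assoc]
    have hgraph : (lift (snd G X) a.act).left = (π ▷ X).left ≫ (lift (snd Q X) b.act).left := by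
      rw [← Over.comp_left, comp_lift, whiskerRight_snd, hb]
    have hsurj : Surjective (π ▷ X).left := by
      have sq : IsPullback (π ▷ X).left (fst G X).left (fst Q X).left π.left :=
        (Groth.Agent.H28.CartPB.isPullback_whiskerRight π X).map (Over.forget _)
      exact MorphismProperty.of_isPullback (P := @Surjective) sq.flip ‹Surjective π.left›
    refine ⟨?_, ?_, ?_⟩
    · intro T q hq
      obtain ⟨T', c, g, hc, hcg⟩ := Groth.Agent.H28.FpqcCov.exists_lift π hcov q
      have hg : ∀ (T'' : Over (Spec (CommRingCat.of k))) (s : T'' ⟶ T') (x : T'' ⟶ X),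
          lift (s ≫ g) x ≫ a.act = x := by
        intro T'' s x
        rw [← hbpt, Category.assoc, ← hcg, ← Category.assoc]
        exact hq T'' (s ≫ c) x
      obtain ⟨m, hm⟩ := (hN T' g).mpr hg
      have h1 : g ≫ π = 1 := by
        rw [← hm, Category.assoc, Groth.Agent.H28.KerShear.i_f n π hker, MonObj.comp_one]
      rw [← cancel_epi c, hcg, h1, MonObj.comp_one]
    · rw [hgraph]
      exact Surjective.comp_iff _ _
    · rw [hgraph]
      exact IsDominant.comp_iff _ _

end Groth.Agent.S14643
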