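import Groth.Statements.S14654
import Mathlib

set_option autoImplicit false
universe u
open FiltBl

namespace Groth.Agent.S14654


open AlgebraicGeometry

section Aux

theorem KG {A : Type u} [CommRing A] (𝒜 : ℕ → AddSubgroup A) [GradedRing 𝒜]
    (p : Ideal A) [hpp : p.IsPrime] (hp : p.IsHomogeneous 𝒜)
    (α β : HomogeneousLocalization.AtPrime 𝒜 p) (γ : Localization.AtPrime p)
    (h : α.val = β.val * γ) : ∃ γ' : HomogeneousLocalization.AtPrime 𝒜 p, α = β * γ' := by
  classical
  obtain ⟨⟨i1, ⟨a1, ha1⟩, ⟨s1, hs1⟩, hs1p⟩, rfl⟩ := HomogeneousLocalization.mk_surjective α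
  obtain ⟨⟨i2, ⟨a2, ha2⟩, ⟨s2, hs2⟩, hs2p⟩, rfl⟩ := HomogeneousLocalization.mk_surjective β
  revert h
  refine Localization.induction_on γ (fun y => ?_)
  obtain ⟨c, ⟨t, ht⟩⟩ := y
  intro h
  rw [HomogeneousLocalization.val_mk, HomogeneousLocalization.val_mk, Localization.mk_mul,
    Localization.mk_eq_mk_iff, Localization.r_iff_exists] at h
  obtain ⟨⟨u, hu⟩, hu'⟩ := h
  have hu2 : u * ((s2 * t) * a1) = u * (s1 * (a2 * c)) := hu'
  have hmain : (a1 * s2) * (t * u) = (a2 * s1) * (c * u) := by linear_combination hu2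
  have hT : t * u ∉ p := fun hT => (hpp.mem_or_mem hT).elim ht hu
  obtain ⟨k, hk⟩ : ∃ k, (DirectSum.decompose 𝒜 (t * u) k : A) ∉ p := by
    by_contra hall
    push Not at hall
    exact hT ((hp.mem_iff).mpr hall)
  have h12 : a1 * s2 ∈ 𝒜 (i1 + i2) := SetLike.mul_mem_graded ha1 hs2
  have h21 : a2 * s1 ∈ 𝒜 (i1 + i2) := by
    rw [add_comm]; exact SetLike.mul_mem_graded ha2 hs1
  have hc := congrArg (fun z => (DirectSum.decompose 𝒜 z ((i1 + i2) + k) : A)) hmain
  simp only [] at hc
  rw [DirectSum.coe_decompose_mul_add_of_left_mem 𝒜 h12,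
    DirectSum.coe_decompose_mul_add_of_left_mem 𝒜 h21] at hc
  refine ⟨HomogeneousLocalization.mk ⟨k, DirectSum.decompose 𝒜 (c * u) k,
    DirectSum.decompose 𝒜 (t * u) k, hk⟩, HomogeneousLocalization.val_injective _ ?_⟩
  rw [HomogeneousLocalization.val_mul, HomogeneousLocalization.val_mk,
    HomogeneousLocalization.val_mk, HomogeneousLocalization.val_mk, Localization.mk_mul,
    Localization.mk_eq_mk_iff, Localization.r_iff_exists]
  refine ⟨1, ?_⟩
  show (1 : A) * ((s2 * (DirectSum.decompose 𝒜 (t * u) k : A)) * a1) =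
    1 * (s1 * (a2 * (DirectSum.decompose 𝒜 (c * u) k : A)))
  linear_combination hc

end Aux


open AlgebraicGeometry in
/-- Let A be a Noetherian ℕ-graded commutative ring which is normal, i.e. every localization of A at a
prime ideal is an integrally closed domain. Then the scheme Proj A is normal: every local ring of
Proj A is an integrally closed domain. -/
theorem result (A : Type u) [CommRing A] [IsNoetherianRing A]
    (𝒜 : ℕ → AddSubgroup A) [GradedRing 𝒜]
    (hA : ∀ (p : Ideal A) [p.IsPrime], IsDomain (Localization.AtPrime p) ∧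
      IsIntegrallyClosed (Localization.AtPrime p))
    (x : Proj 𝒜) :
    IsDomain ((Proj 𝒜).presheaf.stalk x) ∧ IsIntegrallyClosed ((Proj 𝒜).presheaf.stalk x) := by
  classical
  haveI hprime : (x.asHomogeneousIdeal.toIdeal).IsPrime := x.isPrime
  obtain ⟨hdom, hic⟩ := hA x.asHomogeneousIdeal.toIdeal
  let e : (Proj 𝒜).presheaf.stalk x ≃+*
      HomogeneousLocalization.AtPrime 𝒜 x.asHomogeneousIdeal.toIdeal :=
    (Proj.stalkIso 𝒜 x).commRingCatIsoToRingEquiv
  have hinj : Function.Injective
      (algebraMap (HomogeneousLocalization.AtPrime 𝒜 x.asHomogeneousIdeal.toIdeal)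
        (Localization.AtPrime x.asHomogeneousIdeal.toIdeal)) :=
    fun a b h => HomogeneousLocalization.val_injective _ h
  haveI hH : IsDomain (HomogeneousLocalization.AtPrime 𝒜 x.asHomogeneousIdeal.toIdeal) :=
    Function.Injective.isDomain (algebraMap _ _) hinj
  have hHic : IsIntegrallyClosed
      (HomogeneousLocalization.AtPrime 𝒜 x.asHomogeneousIdeal.toIdeal) := by
    refine (isIntegrallyClosed_iff (FractionRing
      (HomogeneousLocalization.AtPrime 𝒜 x.asHomogeneousIdeal.toIdeal))).mpr ?_
    intro ξ hξ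
    let ι : HomogeneousLocalization.AtPrime 𝒜 x.asHomogeneousIdeal.toIdeal →+*
        FractionRing (Localization.AtPrime x.asHomogeneousIdeal.toIdeal) :=
      (algebraMap (Localization.AtPrime x.asHomogeneousIdeal.toIdeal)
        (FractionRing (Localization.AtPrime x.asHomogeneousIdeal.toIdeal))).comp
        (algebraMap (HomogeneousLocalization.AtPrime 𝒜 x.asHomogeneousIdeal.toIdeal)
          (Localization.AtPrime x.asHomogeneousIdeal.toIdeal))
    have hι : Function.Injective ι :=
      (IsFractionRing.injective (Localization.AtPrime x.asHomogeneousIdeal.toIdeal)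
        (FractionRing (Localization.AtPrime x.asHomogeneousIdeal.toIdeal))).comp hinj
    let j : FractionRing (HomogeneousLocalization.AtPrime 𝒜 x.asHomogeneousIdeal.toIdeal) →+*
        FractionRing (Localization.AtPrime x.asHomogeneousIdeal.toIdeal) :=
      IsFractionRing.lift hι
    have hj : ∀ y, j (algebraMap _ _ y) = ι y := fun y => IsFractionRing.lift_algebraMap hι y
    obtain ⟨q, hqm, hq⟩ := hξ
    have hint : IsIntegral (Localization.AtPrime x.asHomogeneousIdeal.toIdeal) (j ξ) := by
      refine ⟨q.map (algebraMap _ _), hqm.map _, ?_⟩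
      have h1 := congrArg j hq
      rw [map_zero, Polynomial.hom_eval₂] at h1
      have h2 : j.comp (algebraMap _ _) = ι := RingHom.ext hj
      rw [h2] at h1
      rw [Polynomial.eval₂_map]
      exact h1
    obtain ⟨γ, hγ⟩ := IsIntegrallyClosed.algebraMap_eq_of_integral hint
    obtain ⟨α, β, hβ, rfl⟩ := IsFractionRing.div_surjective
      (A := HomogeneousLocalization.AtPrime 𝒜 x.asHomogeneousIdeal.toIdeal) ξ
    have hβ0 : ι β ≠ 0 := fun h0 =>
      (nonZeroDivisors.ne_zero hβ) (hι (h0.trans (map_zero ι).symm))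
    have h3' : algebraMap (Localization.AtPrime x.asHomogeneousIdeal.toIdeal)
        (FractionRing (Localization.AtPrime x.asHomogeneousIdeal.toIdeal)) γ = ι α / ι β := by
      rw [hγ, map_div₀, hj, hj]
    have h3 := (eq_div_iff hβ0).mp h3'
    have h4 : α.val = β.val * γ := by
      apply IsFractionRing.injective (Localization.AtPrime x.asHomogeneousIdeal.toIdeal)
        (FractionRing (Localization.AtPrime x.asHomogeneousIdeal.toIdeal))
      rw [map_mul]
      exact h3.symm.trans (mul_comm _ _)
    obtain ⟨γ', hγ'⟩ := KG 𝒜 x.asHomogeneousIdeal.toIdeal x.asHomogeneousIdeal.isHomogeneous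
      α β γ h4
    refine ⟨γ', ?_⟩
    have hb0 : algebraMap (HomogeneousLocalization.AtPrime 𝒜 x.asHomogeneousIdeal.toIdeal)
        (FractionRing (HomogeneousLocalization.AtPrime 𝒜 x.asHomogeneousIdeal.toIdeal)) β ≠ 0 :=
      fun h0 => (nonZeroDivisors.ne_zero hβ)
        ((IsFractionRing.injective _ _) (h0.trans (map_zero _).symm))
    rw [hγ', map_mul]
    exact (eq_div_iff hb0).mpr (mul_comm _ _)
  exact ⟨Function.Injective.isDomain e.toRingHom e.injective,
    @IsIntegrallyClosed.of_equiv _ _ _ _ e.symm hHic⟩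

end Groth.Agent.S14654
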