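import Groth.Statements.S14672
import Mathlib
import Groth.Agent.H14Lib.TSG4

set_option autoImplicit false
universe u
open scoped TensorProduct
open SymTen

namespace Groth.Agent.S14672

open scoped TensorProduct

theorem flat_prod (R : Type u) (M₁ M₂ : Type u) [CommRing R] [AddCommGroup M₁] [Module R M₁]
    [AddCommGroup M₂] [Module R M₂] [Module.Flat R M₁] [Module.Flat R M₂] :
    Module.Flat R (M₁ × M₂) := by
  rw [Module.Flat.iff_rTensor_preserves_injective_linearMap]
  intro P Q _ _ _ _ ι hι
  have key : ∀ x : P ⊗[R] (M₁ × M₂),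
      TensorProduct.prodRight R R Q M₁ M₂ (ι.rTensor (M₁ × M₂) x) =
        ((ι.rTensor M₁) (TensorProduct.prodRight R R P M₁ M₂ x).1,
         (ι.rTensor M₂) (TensorProduct.prodRight R R P M₁ M₂ x).2) := by
    intro x
    induction x using TensorProduct.induction_on with
    | zero => simp only [map_zero, Prod.fst_zero, Prod.snd_zero]; rfl
    | tmul n m => rfl
    | add x y hx hy =>
      simp only [map_add, hx, hy, Prod.fst_add, Prod.snd_add, Prod.mk_add_mk]
  rw [injective_iff_map_eq_zero]
  intro x hx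
  have h := key x
  rw [hx, map_zero] at h
  have h1 : (ι.rTensor M₁) (TensorProduct.prodRight R R P M₁ M₂ x).1 = 0 :=
    (congrArg Prod.fst h).symm
  have h2 : (ι.rTensor M₂) (TensorProduct.prodRight R R P M₁ M₂ x).2 = 0 :=
    (congrArg Prod.snd h).symm
  have h1' := (injective_iff_map_eq_zero _).1
    (Module.Flat.rTensor_preserves_injective_linearMap (M := M₁) ι hι) _ h1
  have h2' := (injective_iff_map_eq_zero _).1
    (Module.Flat.rTensor_preserves_injective_linearMap (M := M₂) ι hι) _ h2
  have h3 : TensorProduct.prodRight R R P M₁ M₂ x = 0 :=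
    Prod.ext (h1'.trans rfl) (h2'.trans rfl)
  exact (LinearEquiv.map_eq_zero_iff _).1 h3

theorem tmap_eq_map {A B C : Type u} [CommRing A] [CommRing B] [Algebra A B] [CommRing C]
    [Algebra A C] (d : ℕ) (q : B →ₐ[A] C) (z : ⨂[A] _ : Fin d, B) :
    SymTen.tmap A d q z = PiTensorProduct.map (fun _ : Fin d => q.toLinearMap) z := by
  induction z using PiTensorProduct.induction_on with
  | smul_tprod r g =>
    rw [map_smul, map_smul, SymTen.tmap_tprod, PiTensorProduct.map_tprod]; rfl
  | add x y hx hy => rw [map_add, map_add, hx, hy]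

theorem map_sym {R : Type*} [CommRing R] {M N : Type*} [AddCommGroup M] [Module R M]
    [AddCommGroup N] [Module R N] (n : ℕ) (h : M →ₗ[R] N) (s : ⨂[R] _ : Fin n, M)
    (hs : ∀ σ : Equiv.Perm (Fin n), PiTensorProduct.reindex R (fun _ : Fin n => M) σ s = s)
    (σ : Equiv.Perm (Fin n)) :
    PiTensorProduct.reindex R (fun _ : Fin n => N) σ
      (PiTensorProduct.map (fun _ : Fin n => h) s) =
      PiTensorProduct.map (fun _ : Fin n => h) s := by
  have h1 := PiTensorProduct.map_reindex (fun _ : Fin n => h) σ s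
  rw [hs σ] at h1
  exact h1.symm

theorem main (R : Type u) [CommRing R] (M N : Type u) [AddCommGroup M] [Module R M]
    [AddCommGroup N] [Module R N] [Module Rᵐᵒᵖ N] [IsCentralScalar R N]
    [Module.Flat R N] (f : M →ₗ[R] N) (hf : Function.Surjective f) (n : ℕ)
    (t : ⨂[R] _ : Fin n, N)
    (ht : ∀ σ : Equiv.Perm (Fin n), PiTensorProduct.reindex R (fun _ : Fin n => N) σ t = t) :
    ∃ s : ⨂[R] _ : Fin n, M,
      (∀ σ : Equiv.Perm (Fin n), PiTensorProduct.reindex R (fun _ : Fin n => M) σ s = s) ∧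
      PiTensorProduct.map (fun _ : Fin n => f) s = t := by
  classical
  obtain ⟨g, hg⟩ : ∃ g : (M →₀ R) →ₗ[R] M, Function.Surjective g :=
    ⟨Finsupp.linearCombination R id, Finsupp.linearCombination_id_surjective R M⟩
  have hflat : Module.Flat R (TrivSqZeroExt R N) := flat_prod R R N
  obtain ⟨q, hqdef⟩ : ∃ q : TrivSqZeroExt R (M →₀ R) →ₐ[R] TrivSqZeroExt R N,
      q = TrivSqZeroExt.map (f ∘ₗ g) := ⟨_, rfl⟩
  have hsnd : ∀ x, TrivSqZeroExt.snd (q x) = f (g (TrivSqZeroExt.snd x)) := by
    intro x; rw [hqdef, TrivSqZeroExt.snd_map]; rfl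
  have hfst : ∀ x, TrivSqZeroExt.fst (q x) = TrivSqZeroExt.fst x := by
    intro x; rw [hqdef, TrivSqZeroExt.fst_map]
  have hq : Function.Surjective q := by
    intro b
    obtain ⟨x, hx⟩ := (hf.comp hg) b.snd
    refine ⟨TrivSqZeroExt.inl b.fst + TrivSqZeroExt.inr x, ?_⟩
    apply TrivSqZeroExt.ext
    · rw [hfst]; simp
    · rw [hsnd]; simpa using hx
  have bas : Module.Basis (PUnit.{u+1} ⊕ M) R (TrivSqZeroExt R (M →₀ R)) :=
    (Module.Basis.singleton PUnit.{u+1} R).prod Finsupp.basisSingleOne
  obtain ⟨t', ht'def⟩ : ∃ t' : ⨂[R] _ : Fin n, TrivSqZeroExt R N,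
      t' = PiTensorProduct.map (fun _ => TrivSqZeroExt.inrHom R N) t := ⟨_, rfl⟩
  have ht' : t' ∈ SymTen.TS R (TrivSqZeroExt R N) n := by
    intro σ
    rw [ht'def]
    exact map_sym n _ t ht σ
  obtain ⟨z', hz', hzt⟩ := Groth.Agent.H14Lib.TSG.Ha_of_flat bas q hq t' ht'
  refine ⟨PiTensorProduct.map (fun _ => g ∘ₗ TrivSqZeroExt.sndHom R (M →₀ R)) z',
    fun σ => map_sym n _ z' hz' σ, ?_⟩
  have h1 : PiTensorProduct.map (fun _ : Fin n => f)
      (PiTensorProduct.map (fun _ : Fin n => g ∘ₗ TrivSqZeroExt.sndHom R (M →₀ R)) z') =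
      PiTensorProduct.map (fun _ : Fin n => TrivSqZeroExt.sndHom R N)
        (PiTensorProduct.map (fun _ : Fin n => q.toLinearMap) z') := by
    rw [← LinearMap.comp_apply, ← PiTensorProduct.map_comp, ← LinearMap.comp_apply,
      ← PiTensorProduct.map_comp]
    have e : (fun _ : Fin n => f ∘ₗ g ∘ₗ TrivSqZeroExt.sndHom R (M →₀ R)) =
        fun _ : Fin n => TrivSqZeroExt.sndHom R N ∘ₗ q.toLinearMap := by
      funext _
      refine LinearMap.ext fun x => ?_
      simp only [LinearMap.comp_apply, TrivSqZeroExt.sndHom_apply, AlgHom.toLinearMap_apply]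
      rw [hsnd]
    rw [e]
  rw [h1, ← tmap_eq_map, hzt, ht'def, ← LinearMap.comp_apply, ← PiTensorProduct.map_comp]
  have e2 : (fun _ : Fin n => TrivSqZeroExt.sndHom R N ∘ₗ TrivSqZeroExt.inrHom R N) =
      fun _ : Fin n => (LinearMap.id : N →ₗ[R] N) := by
    funext _
    refine LinearMap.ext fun x => ?_
    simp
  rw [e2, PiTensorProduct.map_id]
  rfl

/-- Let R be a commutative ring, f : M → N a surjective R-linear map whose target N is flat over R, and
n ≥ 0. Then the induced map on symmetric tensors of degree n is surjective: every element of the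
n-fold tensor power of N over R which is fixed by every permutation of the factors is the image,
under the n-fold tensor power of f, of an element of the n-fold tensor power of M fixed by every
permutation of the factors. -/
theorem result (R : Type u) [CommRing R] (M N : Type u) [AddCommGroup M] [Module R M]
    [AddCommGroup N] [Module R N] [Module.Flat R N] (f : M →ₗ[R] N) (hf : Function.Surjective f) (n : ℕ)
    (t : ⨂[R] _ : Fin n, N) (ht : ∀ σ : Equiv.Perm (Fin n), PiTensorProduct.reindex R (fun _ : Fin n => N) σ t = t) :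
    ∃ s : ⨂[R] _ : Fin n, M, (∀ σ : Equiv.Perm (Fin n), PiTensorProduct.reindex R (fun _ : Fin n => M) σ s = s) ∧
      PiTensorProduct.map (fun _ : Fin n => f) s = t := by
  letI : Module Rᵐᵒᵖ N := Module.compHom _ ((RingHom.id R).fromOpposite mul_comm)
  haveI : IsCentralScalar R N := ⟨fun r m => rfl⟩
  exact main R M N f hf n t ht

end Groth.Agent.S14672
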