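import Groth.Statements.S14671
import Mathlib
import Groth.Agent.H14Lib.TSG5
import Groth.Agent.S14672

set_option autoImplicit false
universe u
open scoped TensorProduct
open SymTen

namespace Groth.Agent.S14671

open scoped TensorProduct

theorem main (R : Type u) [CommRing R] (M : Type u) [AddCommGroup M] [Module R M]
    [Module Rᵐᵒᵖ M] [IsCentralScalar R M] [Module.Flat R M] (n : ℕ) :
    Module.Flat R ↥(⨅ σ : Equiv.Perm (Fin n),
      LinearMap.eqLocus (PiTensorProduct.reindex R (fun _ : Fin n => M) σ).toLinearMap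
        LinearMap.id) := by
  haveI : Module.Flat R (TrivSqZeroExt R M) := Groth.Agent.S14672.flat_prod R R M
  haveI : Module.Flat R (SymTen.TS R (TrivSqZeroExt R M) n) :=
    Groth.Agent.H14Lib.TSG.flat_TS_of_flat
  haveI : Module.Flat R (Subalgebra.toSubmodule (SymTen.TS R (TrivSqZeroExt R M) n)) :=
    inferInstance
  obtain ⟨W, hW⟩ : ∃ W : Submodule R (⨂[R] _ : Fin n, M), W = ⨅ σ : Equiv.Perm (Fin n),
      LinearMap.eqLocus (PiTensorProduct.reindex R (fun _ : Fin n => M) σ).toLinearMap
        LinearMap.id := ⟨_, rfl⟩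
  rw [← hW]
  have hmemW : ∀ x, x ∈ W ↔ ∀ σ : Equiv.Perm (Fin n),
      PiTensorProduct.reindex R (fun _ : Fin n => M) σ x = x := by
    intro x
    rw [hW, Submodule.mem_iInf]
    exact forall_congr' fun σ => LinearMap.mem_eqLocus
  obtain ⟨i₀, hi₀⟩ : ∃ i₀ : (⨂[R] _ : Fin n, M) →ₗ[R] (⨂[R] _ : Fin n, TrivSqZeroExt R M),
      i₀ = PiTensorProduct.map (fun _ => TrivSqZeroExt.inrHom R M) := ⟨_, rfl⟩
  obtain ⟨r₀, hr₀⟩ : ∃ r₀ : (⨂[R] _ : Fin n, TrivSqZeroExt R M) →ₗ[R] (⨂[R] _ : Fin n, M),
      r₀ = PiTensorProduct.map (fun _ => TrivSqZeroExt.sndHom R M) := ⟨_, rfl⟩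
  have hri : ∀ x, r₀ (i₀ x) = x := by
    intro x
    rw [hr₀, hi₀, ← LinearMap.comp_apply, ← PiTensorProduct.map_comp]
    have e2 : (fun _ : Fin n => TrivSqZeroExt.sndHom R M ∘ₗ TrivSqZeroExt.inrHom R M) =
        fun _ : Fin n => (LinearMap.id : M →ₗ[R] M) := by
      funext _
      refine LinearMap.ext fun x => ?_
      simp
    rw [e2, PiTensorProduct.map_id]
    rfl
  let i : W →ₗ[R] Subalgebra.toSubmodule (SymTen.TS R (TrivSqZeroExt R M) n) :=
    LinearMap.codRestrict (Subalgebra.toSubmodule (SymTen.TS R (TrivSqZeroExt R M) n))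
      (i₀ ∘ₗ W.subtype) (fun x σ => by
        rw [LinearMap.comp_apply, hi₀]
        exact Groth.Agent.S14672.map_sym n _ x.1 ((hmemW _).1 x.2) σ)
  let r : Subalgebra.toSubmodule (SymTen.TS R (TrivSqZeroExt R M) n) →ₗ[R] W :=
    LinearMap.codRestrict W
      (r₀ ∘ₗ (Subalgebra.toSubmodule (SymTen.TS R (TrivSqZeroExt R M) n)).subtype)
      (fun x => (hmemW _).2 (fun σ => by
        rw [LinearMap.comp_apply, hr₀]
        exact Groth.Agent.S14672.map_sym n _ x.1 x.2 σ))
  refine Module.Flat.of_retract i r ?_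
  refine LinearMap.ext fun x => Subtype.ext ?_
  exact hri x.1

/-- Let R be a commutative ring, M a flat R-module and n ≥ 0. Then the module of symmetric tensors of
degree n — the R-submodule of the n-fold tensor power of M over R consisting of the tensors fixed by
every permutation of the factors — is a flat R-module. (The published corollary also asserts that
forming symmetric tensors of a flat module commutes with every base change; only the flatness
assertion is stated here.) -/
theorem result (R : Type u) [CommRing R] (M : Type u) [AddCommGroup M] [Module R M]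
    [Module.Flat R M] (n : ℕ) :
    Module.Flat R ↥(⨅ σ : Equiv.Perm (Fin n),
      LinearMap.eqLocus (PiTensorProduct.reindex R (fun _ : Fin n => M) σ).toLinearMap LinearMap.id) := by
  letI : Module Rᵐᵒᵖ M := Module.compHom _ ((RingHom.id R).fromOpposite mul_comm)
  haveI : IsCentralScalar R M := ⟨fun r m => rfl⟩
  exact main R M n

end Groth.Agent.S14671
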