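import Groth.Statements.S14676
import Groth.Agent.Lib.Helper4.Hensel

set_option autoImplicit false
universe u
open CAlg

namespace Groth.Agent.S14676

/-- Let A be a commutative ring which is separated and complete for the I-adic topology of an ideal I,
let P be any polynomial over A (not assumed monic) and a₀ an element of A such that P(a₀) lies in I
and P'(a₀) is a unit modulo I. Then there is a unique a in A congruent to a₀ modulo I with P(a) = 0. -/
theorem result (A : Type u) [CommRing A] (I : Ideal A) [IsAdicComplete I A]
    (P : Polynomial A) (a₀ : A) (h₀ : P.eval a₀ ∈ I)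
    (h₁ : IsUnit (Ideal.Quotient.mk I (P.derivative.eval a₀))) :
    ∃! a : A, a - a₀ ∈ I ∧ P.IsRoot a := by
  obtain ⟨a, ha, haI⟩ := Groth.Agent.Helper4.adicComplete_exists_root I P a₀ h₀ h₁
  refine ⟨a, ⟨haI, ha⟩, ?_⟩
  rintro b ⟨hbI, hb⟩
  obtain ⟨c, hc⟩ := Polynomial.exists_mul_sq_add_linear_part_eq_eval_add P a (b - a)
  have hab : b - a ∈ I := by
    have : b - a = (b - a₀) - (a - a₀) := by ring
    rw [this]; exact I.sub_mem hbI haI
  have ha0 : P.eval a = 0 := ha
  have hb0 : P.eval b = 0 := hb
  rw [ha0, add_sub_cancel, hb0, add_zero] at hc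
  have hfac : (c * (b - a) + P.derivative.eval a) * (b - a) = 0 := by
    rw [← hc]; ring
  have hloc := isLocalHom_of_le_jacobson_bot I (IsAdicComplete.le_jacobson_bot I)
  have hu : IsUnit (c * (b - a) + P.derivative.eval a) := by
    apply IsUnit.of_map (Ideal.Quotient.mk I)
    have h2 : Ideal.Quotient.mk I (c * (b - a) + P.derivative.eval a) =
        Ideal.Quotient.mk I (P.derivative.eval a₀) := by
      rw [Ideal.Quotient.eq]
      have h3 : P.derivative.eval a - P.derivative.eval a₀ ∈ I := by
        have := Polynomial.sub_dvd_eval_sub a a₀ P.derivative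
        exact Ideal.mem_of_dvd I this haI
      have : c * (b - a) + P.derivative.eval a - P.derivative.eval a₀ =
          c * (b - a) + (P.derivative.eval a - P.derivative.eval a₀) := by ring
      rw [this]
      exact I.add_mem (I.mul_mem_left _ hab) h3
    rw [h2]; exact h₁
  have := (hu.mul_right_eq_zero).1 hfac
  exact sub_eq_zero.1 this

end Groth.Agent.S14676
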