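import Groth.Statements.S14677
import Mathlib

set_option autoImplicit false
universe u
open CAlg

namespace Groth.Agent.S14677

lemma map_val_of_eq {A : Type*} [CommRing A] (I : Ideal A) {N₁ N₂ : Type*}
    [AddCommGroup N₁] [Module A N₁] [AddCommGroup N₂] [Module A N₂]
    (f : N₁ →ₗ[A] N₂) (x : AdicCompletion I N₁) (n : ℕ) (m : N₁)
    (hm : x.val n = Submodule.Quotient.mk m) :
    (AdicCompletion.map I f x).val n = Submodule.Quotient.mk (f m) := by
  rw [AdicCompletion.map_val_apply, hm, LinearMap.reduceModIdeal_apply]

/-- Let A be a Noetherian commutative ring, I and J ideals of A and M a finitely generated A-module.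
Then the map of I-adic completions induced by the inclusion of the submodule JM into M is injective
with image exactly J·M̂, where M̂ is the I-adic completion of M; that is, the completion of JM is J
times the completion of M. (The published statement does not say that A is Noetherian; its proof
uses exactness of completion on finitely generated modules, which needs it, so this row assumes A
Noetherian.) -/
theorem result (A : Type u) [CommRing A] [IsNoetherianRing A] (I J : Ideal A)
    (M : Type u) [AddCommGroup M] [Module A M] [Module.Finite A M] :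
    Function.Injective (AdicCompletion.map I (J • (⊤ : Submodule A M)).subtype) ∧
      LinearMap.range (AdicCompletion.map I (J • (⊤ : Submodule A M)).subtype) =
        (J.map (algebraMap A (AdicCompletion I A))) • (⊤ : Submodule (AdicCompletion I A) (AdicCompletion I M)) := by
  classical
  refine ⟨AdicCompletion.map_injective I (Submodule.injective_subtype _), ?_⟩
  apply le_antisymm
  · rintro _ ⟨y, rfl⟩
    obtain ⟨s, hs⟩ := (IsNoetherian.noetherian J : J.FG)
    have hsJ : ∀ i : s, (i : A) ∈ J := fun i => by
      rw [← hs]
      exact Submodule.subset_span i.2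
    let ρ : (s → M) →ₗ[A] M :=
      ∑ i : s, (i : A) • (LinearMap.proj i : (s → M) →ₗ[A] M)
    have hρv : ∀ v : s → M, ρ v = ∑ i : s, (i : A) • v i := by
      intro v
      simp only [ρ, LinearMap.sum_apply, LinearMap.smul_apply, LinearMap.proj_apply]
    have hρmem : ∀ v, ρ v ∈ (J • ⊤ : Submodule A M) := by
      intro v
      rw [hρv]
      exact Submodule.sum_mem _ fun i _ => Submodule.smul_mem_smul (hsJ i) Submodule.mem_top
    let ρ' : (s → M) →ₗ[A] ↥(J • ⊤ : Submodule A M) := LinearMap.codRestrict _ ρ hρmem
    have hρ'surj : Function.Surjective ρ' := by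
      rintro ⟨y, hy⟩
      have hex : ∃ v, ρ v = y := by
        refine Submodule.smul_induction_on hy (fun a ha m _ => ?_) (fun y₁ y₂ h₁ h₂ => ?_)
        · rw [← hs] at ha
          obtain ⟨c, hc⟩ := Submodule.mem_span_finset'.1 ha
          refine ⟨fun i => c i • m, ?_⟩
          rw [hρv, ← hc, Finset.sum_smul]
          refine Finset.sum_congr rfl fun i _ => ?_
          rw [smul_smul, smul_eq_mul, mul_comm]
        · obtain ⟨v₁, hv₁⟩ := h₁
          obtain ⟨v₂, hv₂⟩ := h₂
          exact ⟨v₁ + v₂, by rw [map_add, hv₁, hv₂]⟩
      obtain ⟨v, hv⟩ := hex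
      exact ⟨v, Subtype.ext hv⟩
    obtain ⟨z, rfl⟩ := AdicCompletion.map_surjective I hρ'surj y
    rw [AdicCompletion.map_comp_apply]
    have hcomp : (J • (⊤ : Submodule A M)).subtype ∘ₗ ρ' = ρ := LinearMap.ext fun v => rfl
    rw [hcomp]
    have hsum : AdicCompletion.map I ρ z =
        ∑ i : s, algebraMap A (AdicCompletion I A) (i : A) •
          AdicCompletion.map I (LinearMap.proj i : (s → M) →ₗ[A] M) z := by
      refine AdicCompletion.ext fun n => ?_
      obtain ⟨v, hv⟩ := Submodule.Quotient.mk_surjective _ (z.val n)
      rw [map_val_of_eq I ρ z n v hv.symm, AdicCompletion.val_sum_apply, hρv,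
        ← Submodule.mkQ_apply, map_sum]
      refine Finset.sum_congr rfl fun i _ => ?_
      rw [algebraMap_smul, AdicCompletion.val_smul_apply, map_val_of_eq I _ z n v hv.symm,
        LinearMap.proj_apply, map_smul, Submodule.mkQ_apply]
    rw [hsum]
    exact Submodule.sum_mem _ fun i _ =>
      Submodule.smul_mem_smul (Ideal.mem_map_of_mem _ (hsJ i)) Submodule.mem_top
  · rw [Submodule.smul_le]
    intro r hr x _
    have hr' : r ∈ Submodule.span (AdicCompletion I A)
        (⇑(algebraMap A (AdicCompletion I A)) '' (J : Set A)) := hr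
    refine Submodule.span_induction
      (p := fun r _ => ∀ x : AdicCompletion I M, r • x ∈
        LinearMap.range (AdicCompletion.map I (J • (⊤ : Submodule A M)).subtype))
      ?_ ?_ ?_ ?_ hr' x
    · rintro _ ⟨a, ha, rfl⟩ x
      let μ : M →ₗ[A] ↥(J • ⊤ : Submodule A M) :=
        LinearMap.codRestrict _ (a • LinearMap.id)
          (fun m => Submodule.smul_mem_smul ha Submodule.mem_top)
      refine ⟨AdicCompletion.map I μ x, ?_⟩
      rw [AdicCompletion.map_comp_apply]
      refine AdicCompletion.ext fun n => ?_
      obtain ⟨m, hm⟩ := Submodule.Quotient.mk_surjective _ (x.val n)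
      rw [map_val_of_eq I _ x n m hm.symm, algebraMap_smul, AdicCompletion.val_smul_apply, ← hm]
      rfl
    · intro x
      rw [zero_smul]
      exact zero_mem _
    · intro r₁ r₂ _ _ h₁ h₂ x
      rw [add_smul]
      exact add_mem (h₁ x) (h₂ x)
    · intro c r _ h x
      rw [smul_eq_mul, mul_smul]
      exact Submodule.smul_mem _ c (h x)

end Groth.Agent.S14677
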