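import Groth.Statements.S14678
import Mathlib

set_option autoImplicit false
universe u
open CategoryTheory CategoryTheory.Limits AlgebraicGeometry
open EtBase

namespace Groth.Agent.S14678

/-- Let S be a scheme, s a point of S and ℓ a finite field extension of the residue field κ(s). Then,
fppf-locally around s, ℓ occurs as a residue field: there are an affine scheme U', a flat morphism b
: U' ⟶ S locally of finite presentation (so with open image containing s) and a morphism t : Spec ℓ
⟶ U' over the canonical morphism Spec ℓ ⟶ Spec κ(s) ⟶ S which is a preimmersion, i.e. the inclusion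
of a point s' of U' above s together with an identification of κ(s') with ℓ over κ(s); such a point
is closed in its fibre over s. (The published statement gives an affine open neighbourhood U of s
and an fppf morphism U' ⟶ U; this row asks only for a flat, locally finitely presented U' ⟶ S, whose
open image then contains s.) -/
theorem result (S : Scheme.{u}) (s : ↥S)
    (ℓ : Type u) [Field ℓ] [Algebra (S.residueField s) ℓ] [Module.Finite (S.residueField s) ℓ] :
    ∃ (U' : Scheme.{u}) (b : U' ⟶ S) (t : Spec (CommRingCat.of ℓ) ⟶ U'),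
      IsAffine U' ∧ Flat b ∧ LocallyOfFinitePresentation b ∧ IsPreimmersion t ∧
        t ≫ b = Spec.map (CommRingCat.ofHom (algebraMap (S.residueField s) ℓ)) ≫ S.fromSpecResidueField s := by
  obtain ⟨_, ⟨W, (hW : IsAffineOpen W), rfl⟩, hsW, -⟩ :=
    S.isBasis_affineOpens.exists_subset_of_mem_open (Set.mem_univ s) isOpen_univ
  obtain ⟨n, α, hα⟩ := Module.Finite.exists_fin (R := S.residueField s) (M := ℓ)
  letI : Algebra Γ(S, W) (S.presheaf.stalk s) := S.presheaf.algebra_section_stalk ⟨s, hsW⟩
  haveI := hW.isLocalization_stalk ⟨s, hsW⟩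
  let ψ : Γ(S, W) ⟶ CommRingCat.of ℓ := S.presheaf.germ W s hsW ≫ S.residue s ≫
    CommRingCat.ofHom (algebraMap (S.residueField s) ℓ)
  have hψ : ∀ a : Γ(S, W), ψ.hom a = algebraMap (S.residueField s) ℓ
      ((S.residue s).hom (algebraMap Γ(S, W) (S.presheaf.stalk s) a)) :=
    fun a => rfl
  let φ : MvPolynomial (Fin n) Γ(S, W) →+* ℓ := MvPolynomial.eval₂Hom ψ.hom α
  have hφC : ∀ a, φ (MvPolynomial.C a) = ψ.hom a := fun a => MvPolynomial.eval₂Hom_C _ _ _
  have hφX : ∀ i, φ (MvPolynomial.X i) = α i := fun i => MvPolynomial.eval₂Hom_X' _ _ _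
  refine ⟨Spec (CommRingCat.of (MvPolynomial (Fin n) Γ(S, W))),
    Spec.map (CommRingCat.ofHom (algebraMap Γ(S, W) (MvPolynomial (Fin n) Γ(S, W)))) ≫ hW.fromSpec,
    Spec.map (CommRingCat.ofHom φ), inferInstance, ?_, ?_, ?_, ?_⟩
  · haveI : Flat (Spec.map (CommRingCat.ofHom
        (algebraMap Γ(S, W) (MvPolynomial (Fin n) Γ(S, W))))) := by
      rw [HasRingHomProperty.Spec_iff (P := @Flat)]
      change RingHom.Flat (algebraMap _ _)
      rw [RingHom.flat_algebraMap_iff]
      infer_instance
    infer_instance
  · haveI : LocallyOfFinitePresentation (Spec.map (CommRingCat.ofHom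
        (algebraMap Γ(S, W) (MvPolynomial (Fin n) Γ(S, W))))) := by
      rw [HasRingHomProperty.Spec_iff (P := @LocallyOfFinitePresentation)]
      change RingHom.FinitePresentation (algebraMap _ _)
      rw [RingHom.finitePresentation_algebraMap]
      infer_instance
    infer_instance
  · apply IsPreimmersion.mk_SpecMap
    · exact Topology.IsEmbedding.of_subsingleton _
    · apply RingHom.surjectiveOnStalks_of_exists_div
      intro e
      obtain ⟨c, hc⟩ := (Submodule.mem_span_range_iff_exists_fun _).mp
        (hα ▸ Submodule.mem_top : e ∈ Submodule.span (S.residueField s) (Set.range α))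
      have hrs : Function.Surjective (S.residue s).hom := S.residue_surjective s
      choose c' hc' using fun i => hrs (c i)
      obtain ⟨b, hb⟩ := IsLocalization.exist_integer_multiples
        (hW.primeIdealOf ⟨s, hsW⟩).asIdeal.primeCompl Finset.univ c'
      choose a ha using fun i => hb i (Finset.mem_univ i)
      refine ⟨∑ i, MvPolynomial.C (a i) * MvPolynomial.X i, MvPolynomial.C b.1, ?_, ?_⟩
      · change IsUnit (φ (MvPolynomial.C b.1))
        rw [hφC, hψ]
        exact ((IsLocalization.map_units (S.presheaf.stalk s) b).map _).map _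
      · change φ (MvPolynomial.C b.1) * e = φ _
        rw [map_sum, ← hc, Finset.mul_sum]
        refine Finset.sum_congr rfl fun i _ => ?_
        have key : ψ.hom b.1 * algebraMap _ ℓ (c i) = ψ.hom (a i) := by
          rw [hψ, hψ, ha i, Algebra.smul_def, map_mul, map_mul, hc' i]
        rw [map_mul, hφC, hφC, hφX, Algebra.smul_def, ← mul_assoc, key]
  · rw [← Category.assoc, ← Spec.map_comp]
    have h1 : CommRingCat.ofHom (algebraMap Γ(S, W) (MvPolynomial (Fin n) Γ(S, W))) ≫
        CommRingCat.ofHom φ = ψ := by
      ext a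
      exact hφC a
    rw [h1, Scheme.fromSpecResidueField, ← hW.fromSpecStalk_eq_fromSpecStalk hsW,
      IsAffineOpen.fromSpecStalk]
    simp only [ψ, Spec.map_comp, Category.assoc]
    rfl

end Groth.Agent.S14678
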