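import Groth.Statements.S1468
import Mathlib
import Groth.Agent.Lib.Helper24.SmoothReg

set_option autoImplicit false
universe u
open FlatMor

namespace Groth.Agent.S1468

section Helpers
open TensorProduct

theorem regularHom1468 (A B : Type u) [CommRing A] [CommRing B] [Algebra A B]
    [Algebra.Smooth A B] : CAlg.IsRegularHom A B := by
  refine ⟨inferInstance, fun p _ => ⟨?_, fun k' _ _ _ => ?_⟩⟩
  · haveI : Algebra.FiniteType A B := inferInstance
    haveI : Algebra.FiniteType p.ResidueField (p.Fiber B) := inferInstance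
    exact Algebra.FiniteType.isNoetherianRing p.ResidueField _
  · haveI : IsRegularRing k' := inferInstance
    exact Groth.Agent.Helper24.SmoothReg.smooth_regular k' (k' ⊗[p.ResidueField] p.Fiber B)

end Helpers

open AlgebraicGeometry CategoryTheory Limits in
/-- A smooth morphism is regular; concretely, for affine opens U ⊆ f⁻¹(V) the ring map O_Y(V) → O_X(U)
is a regular ring map (flat, with Noetherian and geometrically regular fibre rings). -/
theorem result {X Y : Scheme.{u}} (f : X ⟶ Y) [Smooth f] (U : X.Opens) (V : Y.Opens) (hU : IsAffineOpen U) (hV : IsAffineOpen V) (hUV : U ≤ f ⁻¹ᵁ V) :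
    letI := (f.appLE V U hUV).hom.toAlgebra
    CAlg.IsRegularHom Γ(Y, V) Γ(X, U) := by
  have hsm : (f.appLE V U hUV).hom.Smooth := f.smooth_appLE hV hU hUV
  letI alg : Algebra Γ(Y, V) Γ(X, U) := (f.appLE V U hUV).hom.toAlgebra
  haveI : Algebra.Smooth Γ(Y, V) Γ(X, U) := hsm
  exact regularHom1468 Γ(Y, V) Γ(X, U)

end Groth.Agent.S1468
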