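import Groth.Statements.S14680
import Mathlib

set_option autoImplicit false
universe u
open CAlg

namespace Groth.Agent.S14680

/-- Let A be a Noetherian commutative ring and f : M' → M, g : M → M'' linear maps between finitely
generated A-modules. Then the sequence 0 → M' → M → M'' → 0 is exact — f injective, the image of f
equal to the kernel of g, g surjective — if and only if for every maximal ideal m of A the sequence
of m-adic completions 0 → M'^ → M^ → M''^ → 0 (maps induced by f and g) is exact in the same sense. -/
theorem result (A : Type u) [CommRing A] [IsNoetherianRing A]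
    (M' M M'' : Type u) [AddCommGroup M'] [Module A M'] [AddCommGroup M] [Module A M] [AddCommGroup M''] [Module A M'']
    [Module.Finite A M'] [Module.Finite A M] [Module.Finite A M''] (f : M' →ₗ[A] M) (g : M →ₗ[A] M'') :
    (Function.Injective f ∧ Function.Exact f g ∧ Function.Surjective g) ↔
      ∀ (m : Ideal A) [m.IsMaximal],
        Function.Injective (AdicCompletion.map m f) ∧ Function.Exact (AdicCompletion.map m f) (AdicCompletion.map m g) ∧
          Function.Surjective (AdicCompletion.map m g) := by
  -- faithfulness of the family of completions on finite modules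
  have FL : ∀ (H : Type u) [AddCommGroup H] [Module A H] [Module.Finite A H],
      (∀ (m : Ideal A) [m.IsMaximal], ∀ x : AdicCompletion m H, x = 0) → ∀ h : H, h = 0 := by
    intro H _ _ _ hH
    have hann : Module.annihilator A H = ⊤ := by
      by_contra hne
      obtain ⟨m, hm, hle⟩ := Ideal.exists_le_maximal _ hne
      haveI := hm
      have h1 : (⊤ : Submodule A H) ≤ m • ⊤ := by
        intro x _
        have h2 : (Submodule.Quotient.mk x : H ⧸ (m ^ 1 • ⊤ : Submodule A H)) = 0 := by
          obtain ⟨y, hy⟩ := AdicCompletion.eval_surjective m H 1 (Submodule.Quotient.mk x)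
          rw [← hy, hH m y, map_zero]
        rw [Submodule.Quotient.mk_eq_zero, pow_one] at h2
        exact h2
      obtain ⟨r, hr1, hr2⟩ := Submodule.exists_sub_one_mem_and_smul_eq_zero_of_fg_of_le_smul m ⊤
        Module.Finite.fg_top h1
      have hr : r ∈ Module.annihilator A H := by
        rw [Module.mem_annihilator]
        intro x
        exact hr2 x Submodule.mem_top
      have hrm : r ∈ m := hle hr
      have h3 : (1 : A) ∈ m := by
        have h4 := m.sub_mem hrm hr1
        simpa using h4
      exact hm.ne_top (m.eq_top_iff_one.mpr h3)
    intro h
    have h5 : (1 : A) ∈ Module.annihilator A H := by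
      rw [hann]
      trivial
    rw [Module.mem_annihilator] at h5
    simpa using h5 h
  constructor
  · rintro ⟨hf, hfg, hg⟩ m _
    exact ⟨AdicCompletion.map_injective m hf, AdicCompletion.map_exact hf hfg hg,
      AdicCompletion.map_surjective m hg⟩
  · intro h
    -- injectivity of f
    have hinj : Function.Injective f := by
      rw [← LinearMap.ker_eq_bot, Submodule.eq_bot_iff]
      intro x hx
      have hK := FL ↥(LinearMap.ker f) (fun m _ y => by
        have h1 : AdicCompletion.map m f
            (AdicCompletion.map m (LinearMap.ker f).subtype y) = 0 := by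
          rw [AdicCompletion.map_comp_apply]
          have h0 : f ∘ₗ (LinearMap.ker f).subtype = 0 := by
            ext z
            exact z.2
          rw [h0, AdicCompletion.map_zero, LinearMap.zero_apply]
        have h2 := (h m).1 (h1.trans (map_zero _).symm)
        exact AdicCompletion.map_injective m (Submodule.injective_subtype _)
          (h2.trans (map_zero _).symm)) ⟨x, hx⟩
      exact congrArg Subtype.val hK
    -- surjectivity of g
    have hsurj : Function.Surjective g := by
      rw [← LinearMap.range_eq_top, eq_top_iff]
      intro x _
      have hC := FL (M'' ⧸ LinearMap.range g) (fun m _ y => by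
        obtain ⟨z, rfl⟩ := AdicCompletion.map_surjective m
          (Submodule.mkQ_surjective (LinearMap.range g)) y
        obtain ⟨w, rfl⟩ := (h m).2.2 z
        rw [AdicCompletion.map_comp_apply, LinearMap.range_mkQ_comp, AdicCompletion.map_zero,
          LinearMap.zero_apply]) (Submodule.Quotient.mk x)
      exact (Submodule.Quotient.mk_eq_zero _).mp hC
    -- g ∘ f = 0
    have hcomp : g ∘ₗ f = 0 := by
      have hI := FL ↥(LinearMap.range (g ∘ₗ f)) (fun m _ y => by
        obtain ⟨x, rfl⟩ := AdicCompletion.map_surjective m
          (LinearMap.surjective_rangeRestrict (g ∘ₗ f)) y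
        apply AdicCompletion.map_injective m
          (Submodule.injective_subtype (LinearMap.range (g ∘ₗ f)))
        rw [AdicCompletion.map_comp_apply, map_zero]
        have h0 : (LinearMap.range (g ∘ₗ f)).subtype ∘ₗ (g ∘ₗ f).rangeRestrict = g ∘ₗ f :=
          LinearMap.ext fun _ => rfl
        rw [h0, ← AdicCompletion.map_comp_apply]
        exact (h m).2.1.apply_apply_eq_zero x)
      ext x
      have h1 := hI ⟨(g ∘ₗ f) x, LinearMap.mem_range_self _ x⟩
      exact congrArg Subtype.val h1
    have hfK : ∀ x, f x ∈ LinearMap.ker g := fun x => by
      rw [LinearMap.mem_ker]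
      exact LinearMap.congr_fun hcomp x
    -- ker g ≤ range f
    have hker : LinearMap.ker g ≤ LinearMap.range f := by
      let fK : M' →ₗ[A] ↥(LinearMap.ker g) := f.codRestrict (LinearMap.ker g) hfK
      have hfK' : (LinearMap.ker g).subtype ∘ₗ fK = f := LinearMap.ext fun _ => rfl
      have hH := FL (↥(LinearMap.ker g) ⧸ LinearMap.range fK) (fun m _ y => by
        obtain ⟨x, rfl⟩ := AdicCompletion.map_surjective m
          (Submodule.mkQ_surjective (LinearMap.range fK)) y
        have h1 : AdicCompletion.map m g
            (AdicCompletion.map m (LinearMap.ker g).subtype x) = 0 := by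
          rw [AdicCompletion.map_comp_apply]
          have h0 : g ∘ₗ (LinearMap.ker g).subtype = 0 := by
            ext z
            exact z.2
          rw [h0, AdicCompletion.map_zero, LinearMap.zero_apply]
        obtain ⟨w, hw⟩ := ((h m).2.1 _).mp h1
        have h2 : x = AdicCompletion.map m fK w := by
          apply AdicCompletion.map_injective m
            (Submodule.injective_subtype (LinearMap.ker g))
          rw [AdicCompletion.map_comp_apply, hfK', hw]
        rw [h2, AdicCompletion.map_comp_apply, LinearMap.range_mkQ_comp, AdicCompletion.map_zero,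
          LinearMap.zero_apply])
      intro x hx
      have h3 := hH (Submodule.Quotient.mk ⟨x, hx⟩)
      rw [Submodule.Quotient.mk_eq_zero] at h3
      obtain ⟨w, hw⟩ := h3
      exact ⟨w, congrArg Subtype.val hw⟩
    refine ⟨hinj, LinearMap.exact_iff.mpr (le_antisymm hker ?_), hsurj⟩
    rintro _ ⟨x, rfl⟩
    exact hfK x

end Groth.Agent.S14680
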