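import Groth.Statements.S1469
import Mathlib
import Groth.Agent.S1182

set_option autoImplicit false
universe u
open FlatMor

namespace Groth.Agent.S1469

section Helpers
open TensorProduct IsLocalRing AlgebraicGeometry CategoryTheory

theorem normalHom1469 (A B : Type u) [CommRing A] [CommRing B] [Algebra A B]
    [Algebra.Smooth A B] : EGA4.IsNormalHom A B := by
  refine ⟨inferInstance, fun p _ k' _ _ _ => ?_⟩
  intro Q _
  have hk : ∀ (P : Ideal k') [P.IsPrime],
      IsDomain (Localization.AtPrime P) ∧ IsIntegrallyClosed (Localization.AtPrime P) := by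
    intro P _
    exact ⟨IsLocalization.isDomain_localization (Ideal.primeCompl_le_nonZeroDivisors P),
      isIntegrallyClosed_of_isLocalization (Localization.AtPrime P) P.primeCompl
        (Ideal.primeCompl_le_nonZeroDivisors P)⟩
  exact Groth.Agent.S1182.smooth_normal1182 k' (k' ⊗[p.ResidueField] p.Fiber B) hk Q

end Helpers

open AlgebraicGeometry CategoryTheory Limits in
/-- A smooth morphism is normal; concretely, for affine opens U ⊆ f⁻¹(V) the ring map O_Y(V) → O_X(U) is
flat with geometrically normal fibre rings. -/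
theorem result {X Y : Scheme.{u}} (f : X ⟶ Y) [Smooth f] (U : X.Opens) (V : Y.Opens) (hU : IsAffineOpen U) (hV : IsAffineOpen V) (hUV : U ≤ f ⁻¹ᵁ V) :
    letI := (f.appLE V U hUV).hom.toAlgebra
    EGA4.IsNormalHom Γ(Y, V) Γ(X, U) := by
  have hsm : (f.appLE V U hUV).hom.Smooth := f.smooth_appLE hV hU hUV
  letI alg : Algebra Γ(Y, V) Γ(X, U) := (f.appLE V U hUV).hom.toAlgebra
  haveI : Algebra.Smooth Γ(Y, V) Γ(X, U) := hsm
  exact normalHom1469 Γ(Y, V) Γ(X, U)

end Groth.Agent.S1469
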