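import Groth.Statements.S14693
import Mathlib
set_option linter.style.haveILetI false

set_option autoImplicit false
universe u
open CategoryTheory AlgebraicGeometry
open SekSuwa

namespace Groth.Agent.S14693

section Aux
open SekSuwa CategoryTheory Limits AlgebraicGeometry MonObj CartesianMonoidalCategory

namespace H26K
variable (R : Type u) [CommRing R] (lam : R) (N : ℕ) (h : DivCond lam N)

/-- the four ring maps -/
noncomputable abbrev fPsi : CommRingCat.of (A R (lam ^ N)) ⟶ CommRingCat.of (A R lam) :=
  CommRingCat.ofHom (psiHom R lam N h : A R (lam ^ N) →+* A R lam)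
noncomputable abbrev fCo : CommRingCat.of (A R (lam ^ N)) ⟶ CommRingCat.of R :=
  CommRingCat.ofHom (Bialgebra.counitAlgHom R (A R (lam ^ N)) : A R (lam ^ N) →+* R)
noncomputable abbrev fMk : CommRingCat.of (A R lam) ⟶ CommRingCat.of (AK R lam N h) :=
  CommRingCat.ofHom (AK.mkHom R lam N h : A R lam →+* AK R lam N h)
noncomputable abbrev fAlg : CommRingCat.of R ⟶ CommRingCat.of (AK R lam N h) :=
  CommRingCat.ofHom (algebraMap R (AK R lam N h))

theorem sq : fPsi R lam N h ≫ fMk R lam N h = fCo R lam N ≫ fAlg R lam N h := by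
  apply CommRingCat.hom_ext
  apply RingHom.ext
  intro x
  exact DFunLike.congr_fun (mkHom_comp_psiHom R lam N h) x

theorem ker_le (s : PushoutCocone (fPsi R lam N h) (fCo R lam N)) :
    ∀ a ∈ kerIdeal lam N h, s.inl.hom a = 0 := by
  intro a ha
  obtain ⟨c, rfl⟩ := Ideal.mem_span_singleton'.mp ha
  have hc := congrArg (fun φ => φ.hom (A.t : A R (lam ^ N))) s.condition
  change s.inl.hom (psiHom R lam N h A.t) =
    s.inr.hom (CoalgebraStruct.counit (R := R) (A.t : A R (lam ^ N))) at hc
  rw [psiHom_t, A.counit_t, map_zero] at hc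
  rw [map_mul, hc, mul_zero]

/-- the descent map -/
noncomputable def desc (s : PushoutCocone (fPsi R lam N h) (fCo R lam N)) :
    CommRingCat.of (AK R lam N h) ⟶ s.pt :=
  CommRingCat.ofHom (Ideal.Quotient.lift (kerIdeal lam N h) s.inl.hom (ker_le R lam N h s))

theorem isPushout :
    IsPushout (fPsi R lam N h) (fCo R lam N) (fMk R lam N h) (fAlg R lam N h) := by
  refine ⟨⟨sq R lam N h⟩, ⟨PushoutCocone.IsColimit.mk _ (desc R lam N h) ?_ ?_ ?_⟩⟩
  · intro s
    apply CommRingCat.hom_ext
    apply RingHom.ext
    intro x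
    rfl
  · intro s
    apply CommRingCat.hom_ext
    apply RingHom.ext
    intro r
    have hc := congrArg (fun φ => φ.hom (algebraMap R (A R (lam ^ N)) r)) s.condition
    change s.inl.hom (psiHom R lam N h (algebraMap R (A R (lam ^ N)) r)) =
      s.inr.hom (Bialgebra.counitAlgHom R (A R (lam ^ N)) (algebraMap R (A R (lam ^ N)) r)) at hc
    rw [AlgHom.commutes] at hc
    have hp : psiHom R lam N h (algebraMap R (A R (lam ^ N)) r) = algebraMap R (A R lam) r :=
      AlgHomClass.commutes (psiHom R lam N h) r
    rw [hp] at hc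
    change s.inl.hom (algebraMap R (A R lam) r) = s.inr.hom r
    rw [hc]
    rfl
  · intro s m hm _
    apply CommRingCat.hom_ext
    apply Ideal.Quotient.ringHom_ext
    apply RingHom.ext
    intro x
    exact congrArg (fun φ => φ.hom x) hm

theorem main : AlgGrp.IsKernel (incl R lam N h) (psi R lam N h) := by
  unfold AlgGrp.IsKernel
  have e : incl R lam N h ≫ psi R lam N h =
      toUnit (GK R lam N h) ≫ η[G R (lam ^ N)] := incl_psi R lam N h
  refine IsPullback.of_map (Over.forget _) e ?_
  exact isPullback_SpecMap_of_isPushout _ _ _ _ (isPushout R lam N h)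

end H26K
end Aux

/-- For any commutative ring R, λ ∈ R and N such that λ is a non-zero-divisor and λ^N divides (1 + λX)^N
− 1 in R[X] with quotient P_{λ,N}, the closed subgroup scheme G_{λ,N} = Spec R[T]/(P_{λ,N}(T)) of
the affine R-group G^(λ) = Spec R[T, 1/(1+λT)] (group law s + t + λst) is the kernel of the
homomorphism ψ_{λ,N} : G^(λ) → G^(λ^N), T ↦ P_{λ,N}(T): the square with sides the inclusion G_{λ,N}
→ G^(λ), ψ_{λ,N}, the unit section of G^(λ^N) and G_{λ,N} → Spec R is cartesian. (The published
text, over a discrete valuation ring and with N = p^n, introduces G_{λ,n} as the kernel of the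
isogeny ψ_{λ,n}; this row is that assertion for every N, including the degenerate N = 0 where ψ is
trivial and G_{λ,0} = G^(λ).) -/
theorem result (R : Type u) [CommRing R] (lam : R) (N : ℕ) (h : SekSuwa.DivCond lam N) :
    AlgGrp.IsKernel (SekSuwa.incl R lam N h) (SekSuwa.psi R lam N h) := by
  exact H26K.main R lam N h

end Groth.Agent.S14693
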