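import Groth.Statements.S14709
import Groth.Agent.H23.HResLaws

set_option autoImplicit false
universe u
open HRes

namespace Groth.Agent.S14709

open CategoryTheory AlgebraicGeometry in
/-- Let g : T' ⟶ T and f : T ⟶ S be morphisms of schemes, K a precoverage on schemes with its big sites,
F an abelian sheaf on the big site of S and n ≥ 0. For every x ∈ H^n(S, F), the restriction of x
along g ≫ f is the restriction of x along f, restricted further along g, and then carried along the
map induced on cohomology by the canonical isomorphism g⁻¹(f⁻¹ F) ≅ (g ≫ f)⁻¹ F; this is the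
composition law of the presheaf U ↦ H^n(U, F) given by the restriction maps. The statement is
asserted for every precoverage K; it has no hypothesis depending on K. -/
theorem result (K : Precoverage Scheme.{u}) {S T T' : Scheme.{u}}
    (f : T ⟶ S) (g : T' ⟶ T) (F : BigSite.Ab K S) (n : ℕ) (x : BigSite.H K S F n) :
    HRes.pull K (g ≫ f) F n x =
      Sheaf.H.map ((K.toGrothendieck.overMapPullbackComp AddCommGrpCat.{u + 1} g f).hom.app F) n
        (HRes.pull K g ((BigSite.pullBig K f AddCommGrpCat.{u + 1}).obj F) n (HRes.pull K f F n x)) := by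
  have hnat := Groth.Agent.H23.ExtNat.mapExactFunctor_naturality
    (BigSite.pullBig K f AddCommGrpCat.{u + 1} ⋙ BigSite.pullBig K g AddCommGrpCat.{u + 1})
    (BigSite.pullBig K (g ≫ f) AddCommGrpCat.{u + 1})
    (K.toGrothendieck.overMapPullbackComp AddCommGrpCat.{u + 1} g f).hom n x
  have hcomp := Groth.Agent.H23.ExtNat.mapExactFunctor_comp_functor
    (BigSite.pullBig K f AddCommGrpCat.{u + 1}) (BigSite.pullBig K g AddCommGrpCat.{u + 1}) n x
  have hpc := Groth.Agent.H23.HResLaws.pullConst_comp K f g (AddCommGrpCat.of (ULift.{u + 1} ℤ))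
  refine Eq.symm ?_
  rw [HRes.pull_apply, HRes.pull_apply, HRes.pull_apply, Sheaf.H.map_apply]
  rw [Abelian.Ext.mapExactFunctor_comp, Abelian.Ext.mapExactFunctor_mk₀, ← hcomp]
  rw [Abelian.Ext.mk₀_comp_mk₀_assoc]
  refine (Abelian.Ext.comp_assoc _ _ _ (zero_add n) (add_zero n) (by lia)).trans ?_
  refine (congrArg (fun z => (Abelian.Ext.mk₀ ((HRes.pullConst K g
    (AddCommGrpCat.of (ULift.{u + 1} ℤ))).inv ≫ (BigSite.pullBig K g AddCommGrpCat.{u + 1}).map
      (HRes.pullConst K f (AddCommGrpCat.of (ULift.{u + 1} ℤ))).inv)).comp z (zero_add n))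
        hnat).trans ?_
  refine (Abelian.Ext.mk₀_comp_mk₀_assoc _ _ _).trans ?_
  rw [Category.assoc, hpc]

end Groth.Agent.S14709
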