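import Groth.Statements.S4368
import Mathlib.AlgebraicGeometry.IdealSheaf.Functorial

set_option autoImplicit false
universe u
open AlgebraicGeometry CategoryTheory

namespace Groth.Agent.S4368

open Scheme.IdealSheafData in
/-- Let X be a scheme and I a quasi-coherent sheaf of ideals of O_X whose support is all of X, so that
the closed subscheme it defines has underlying space X. Then that closed subscheme is reduced if and
only if I is the nilradical of O_X. In particular the closed subscheme defined by the nilradical is
the unique reduced closed subscheme of X with underlying space X (and, the support condition being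
equivalent to I being contained in the nilradical, the smallest one). -/
theorem result
    (X : Scheme.{u}) (I : X.IdealSheafData) (hI : I.support = ⊤) :
    IsReduced I.subscheme ↔ I = X.nilradical := by
  have hrad : I.radical = X.nilradical := by
    rw [← vanishingIdeal_support, hI, vanishingIdeal_top]
  constructor
  · intro hred
    rw [← hrad]
    ext U : 2
    rw [radical_ideal]
    have h1 : _root_.IsReduced Γ(I.subscheme, I.subschemeι ⁻¹ᵁ U) := inferInstance
    have h2 : _root_.IsReduced (Γ(X, U) ⧸ I.ideal U) :=
      isReduced_of_injective (I.subschemeObjIso U).inv.hom
        (ConcreteCategory.bijective_of_isIso (I.subschemeObjIso U).inv).1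
    exact ((Ideal.isRadical_iff_quotient_reduced _).2 h2).radical.symm
  · intro hIn
    have hred : ∀ U : X.affineOpens, _root_.IsReduced (Γ(X, U) ⧸ I.ideal U) := by
      intro U
      rw [← Ideal.isRadical_iff_quotient_reduced]
      have : I.ideal U = (I.ideal U).radical := by
        conv_lhs => rw [hIn, ← hrad, radical_ideal]
      rw [this]
      exact Ideal.radical_isRadical _
    have : ∀ U : X.affineOpens, IsReduced (I.subschemeCover.openCover.X U) := by
      intro U
      have := hred U
      change IsReduced (Spec (.of (Γ(X, U) ⧸ I.ideal U)))
      infer_instance
    exact IsReduced.of_openCover _ I.subschemeCover.openCover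

end Groth.Agent.S4368
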