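import Groth.Statements.S1471
import Mathlib
import Groth.Agent.S4368
import Groth.Agent.Lib.Helper5.FibClosed

set_option autoImplicit false
universe u
open FlatMor

namespace Groth.Agent.S1471

attribute [local instance] Algebra.TensorProduct.rightAlgebra in
/-- Fibre ring over a prime without proper generizations of a reduced algebra is reduced. -/
lemma isReduced_fiber_of_minimal {A B : Type u} [CommRing A] [CommRing B] [Algebra A B]
    [IsReduced B] (p : Ideal A) [p.IsPrime]
    (hmin : ∀ q : Ideal A, q.IsPrime → q ≤ p → q = p) : IsReduced (p.Fiber B) := by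
  have hnil : ∀ x ∈ IsLocalRing.maximalIdeal (Localization p.primeCompl), IsNilpotent x := by
    intro x hx
    rw [nilpotent_iff_mem_prime]
    intro J hJ
    have h1 : J ≤ IsLocalRing.maximalIdeal (Localization p.primeCompl) :=
      IsLocalRing.le_maximalIdeal hJ.ne_top
    have h2 : J.under A ≤ p := by
      have h := Ideal.comap_mono (f := algebraMap A (Localization p.primeCompl)) h1
      have e : (IsLocalRing.maximalIdeal (Localization p.primeCompl)).under A = p :=
        Localization.AtPrime.under_maximalIdeal
      exact le_of_le_of_eq h e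
    have h3 : J.under A = p := hmin _ (Ideal.IsPrime.under A J) h2
    have h4 : J = IsLocalRing.maximalIdeal (Localization p.primeCompl) := by
      rw [← IsLocalization.map_under p.primeCompl (Localization p.primeCompl) J, h3,
        IsLocalization.AtPrime.map_eq_maximalIdeal p (Localization p.primeCompl)]
    rw [h4]
    exact hx
  have h0 : (IsLocalRing.maximalIdeal (Localization p.primeCompl)).map
      (algebraMap (Localization p.primeCompl)
        (Localization (Algebra.algebraMapSubmonoid B p.primeCompl))) = ⊥ := by
    rw [eq_bot_iff, Ideal.map_le_iff_le_comap]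
    intro x hx
    rw [Ideal.mem_comap, Ideal.mem_bot]
    exact ((hnil x hx).map _).eq_zero
  haveI : IsReduced (Localization (Algebra.algebraMapSubmonoid B p.primeCompl) ⧸
      (IsLocalRing.maximalIdeal (Localization p.primeCompl)).map
        (algebraMap (Localization p.primeCompl)
          (Localization (Algebra.algebraMapSubmonoid B p.primeCompl)))) := by
    rw [h0]
    exact (Ideal.isRadical_iff_quotient_reduced ⊥).mp Ideal.isRadical_bot
  exact isReduced_of_injective (Ideal.Fiber.algEquivQuotient (S := B) p)
    (Ideal.Fiber.algEquivQuotient (S := B) p).injective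

open AlgebraicGeometry CategoryTheory Limits in
lemma isReduced_fiber_Spec {A B : CommRingCat.{u}} (φ : A ⟶ B) [IsReduced B] (p : PrimeSpectrum A)
    (hmin : ∀ q : PrimeSpectrum A, q ⤳ p → q = p) : IsReduced ((Spec.map φ).fiber p) := by
  algebraize [φ.hom]
  have e := Spec.fiberToSpecResidueFieldIso A B p
  haveI : IsReduced (p.asIdeal.Fiber B) := by
    apply isReduced_fiber_of_minimal
    intro q hq hle
    have h1 : (⟨q, hq⟩ : PrimeSpectrum A) ⤳ p := (PrimeSpectrum.le_iff_specializes ⟨q, hq⟩ p).mp hle
    exact congrArg PrimeSpectrum.asIdeal (hmin _ h1)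
  haveI : IsReduced (Spec (CommRingCat.of (p.asIdeal.Fiber B))) :=
    (affine_isReduced_iff _).mpr inferInstance
  have h2 : IsReduced ((Spec.map (CommRingCat.ofHom (algebraMap A B))).fiber p) :=
    @isReduced_of_isOpenImmersion _ _ e.hom.left inferInstance
      (by change IsReduced (Spec (CommRingCat.of (p.asIdeal.Fiber B))); infer_instance)
  exact h2

open AlgebraicGeometry CategoryTheory Limits in
lemma isReduced_fiber_of_affine_target {X : Scheme.{u}} {A : CommRingCat.{u}} [IsReduced X]
    (g : X ⟶ Spec A) (p : PrimeSpectrum A) (hmin : ∀ q : PrimeSpectrum A, q ⤳ p → q = p) :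
    IsReduced (g.fiber p) := by
  have key : ∀ j, IsReduced ((Scheme.Pullback.openCoverOfLeft X.affineOpenCover.openCover g
      ((Spec A).fromSpecResidueField p)).X j) := by
    intro j
    haveI : IsReduced (Spec (X.affineOpenCover.X j)) :=
      isReduced_of_isOpenImmersion (X.affineOpenCover.f j)
    haveI : IsReduced (X.affineOpenCover.X j) := (affine_isReduced_iff _).mp inferInstance
    obtain ⟨φ, hφ⟩ := Spec.map_surjective (X.affineOpenCover.f j ≫ g)
    have h1 := isReduced_fiber_Spec φ p hmin
    rw [hφ] at h1
    exact h1
  exact IsReduced.of_openCover _ (Scheme.Pullback.openCoverOfLeft X.affineOpenCover.openCover g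
      ((Spec A).fromSpecResidueField p))

open AlgebraicGeometry CategoryTheory Limits in
/-- Let f : X → Y and η a generic point of an irreducible component of Y. Then the fibre over η of the
composite X_red → X → Y is reduced; since it is a closed subscheme of X_η with the same underlying
set, this says (X_η)_red = (X_red)_η. -/
theorem result {X Y : Scheme.{u}} (f : X ⟶ Y) (η : Y) (W : Set ↑Y) (hW : W ∈ irreducibleComponents ↑Y) (hη : IsGenericPoint η W) :
    IsReduced ((X.nilradical.subschemeι ≫ f).fiber η) := by
  have hgenz : ∀ y : Y, y ⤳ η → y = η := by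
    intro y hy
    have h1 : IsIrreducible (closure ({y} : Set Y)) := isIrreducible_singleton.closure
    have h2 : W ≤ closure ({y} : Set Y) := by
      rw [← hη.def]
      exact specializes_iff_closure_subset.mp hy
    have h3 : closure ({y} : Set Y) ≤ W := hW.2 h1 h2
    have h4 : η ⤳ y := by
      rw [specializes_iff_closure_subset, hη.def]
      exact h3
    exact (hy.antisymm h4).eq
  haveI hred : IsReduced X.nilradical.subscheme :=
    (Groth.Agent.S4368.result X X.nilradical (Scheme.support_nilradical _)).mpr rfl
  obtain ⟨V, hV, hηV, -⟩ := exists_isAffineOpen_mem_and_subset (x := η) (U := ⊤) trivial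
  obtain ⟨g, hg⟩ : ∃ g : X.nilradical.subscheme ⟶ Y, g = X.nilradical.subschemeι ≫ f := ⟨_, rfl⟩
  rw [← hg]
  obtain ⟨p, hp⟩ : ∃ p, hV.fromSpec p = η := ⟨_, hV.fromSpec_primeIdealOf ⟨η, hηV⟩⟩
  have hminp : ∀ q, q ⤳ p → q = p := by
    intro q hq
    apply hV.fromSpec.isOpenEmbedding.injective
    rw [hp]
    apply hgenz
    rw [← hp]
    exact hq.map hV.fromSpec.continuous
  subst hp
  have sq := IsPullback.of_hasPullback g hV.fromSpec
  obtain ⟨e⟩ := Groth.Agent.Helper5.FibClosed.nonempty_fiber_iso sq p
  haveI : IsReduced (pullback g hV.fromSpec) :=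
    isReduced_of_isOpenImmersion (pullback.fst g hV.fromSpec)
  haveI := isReduced_fiber_of_affine_target (pullback.snd g hV.fromSpec) p hminp
  exact isReduced_of_isOpenImmersion e.inv

end Groth.Agent.S1471
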