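import Groth.Statements.S14727
import Mathlib

set_option autoImplicit false
universe u
open ValPrufer

namespace Groth.Agent.S14727

section aux
variable {R : Type u} [CommRing R] (I : Ideal R)

/-- the contraction to `R` of `I^n R_m` -/
def Q (n : ℕ) (m : Ideal R) [m.IsPrime] : Ideal R :=
  Ideal.comap (algebraMap R (Localization.AtPrime m))
    (Ideal.map (algebraMap R (Localization.AtPrime m)) (I ^ n))

lemma mem_Q_iff (n : ℕ) (m : Ideal R) [m.IsPrime] (x : R) :
    x ∈ Q I n m ↔ ∃ s : R, s ∉ m ∧ s * x ∈ I ^ n := by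
  constructor
  · intro hx
    rw [Q, Ideal.mem_comap, IsLocalization.mem_map_algebraMap_iff m.primeCompl] at hx
    obtain ⟨⟨i, s⟩, h⟩ := hx
    rw [← map_mul, IsLocalization.eq_iff_exists m.primeCompl] at h
    obtain ⟨t, ht⟩ := h
    refine ⟨t * s, m.primeCompl.mul_mem t.2 s.2, ?_⟩
    have e : (t : R) * s * x = t * i := by
      rw [← ht]
      ring
    rw [e]
    exact Ideal.mul_mem_left _ _ i.2
  · rintro ⟨s, hs, hsx⟩
    rw [Q, Ideal.mem_comap]
    have hu : IsUnit (algebraMap R (Localization.AtPrime m) s) :=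
      IsLocalization.map_units _ (⟨s, hs⟩ : m.primeCompl)
    have h := Ideal.mem_map_of_mem (algebraMap R (Localization.AtPrime m)) hsx
    rw [map_mul] at h
    exact (Ideal.unit_mul_mem_iff_mem _ hu).mp h

lemma exists_pow_mem_Q (hI : ∀ p : Ideal R, p.IsPrime → I ≤ p → p.IsMaximal) (n : ℕ)
    (m : Ideal R) [hm : m.IsMaximal] (u : R) (hu : u ∈ m) :
    ∃ N : ℕ, u ^ N ∈ Q I n m := by
  by_contra hcon
  push Not at hcon
  have hdisj : Disjoint ((I ^ n : Ideal R) : Set R)
      ((m.primeCompl ⊔ Submonoid.powers u : Submonoid R) : Set R) := by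
    rw [Set.disjoint_left]
    intro r hr hr'
    rw [SetLike.mem_coe, Submonoid.mem_sup] at hr'
    obtain ⟨s, hs, z, ⟨N, rfl⟩, rfl⟩ := hr'
    exact hcon N ((mem_Q_iff I n m _).mpr ⟨s, hs, hr⟩)
  obtain ⟨p, hp, hIp, hpd⟩ := Ideal.exists_le_prime_disjoint _ _ hdisj
  have hIp' : I ≤ p := hp.le_of_pow_le hIp
  have hpmax := hI p hp hIp'
  have hpm : p ≤ m := by
    intro r hr
    by_contra hrm
    exact Set.disjoint_left.mp hpd hr (Submonoid.mem_sup_left hrm)
  have hpeq : p = m := hpmax.eq_of_le hm.ne_top hpm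
  have hmem : u ∈ (m.primeCompl ⊔ Submonoid.powers u : Submonoid R) :=
    Submonoid.mem_sup_right (Submonoid.mem_powers u)
  exact Set.disjoint_left.mp hpd (hpeq ▸ hu) hmem

lemma exists_rep (hI : ∀ p : Ideal R, p.IsPrime → I ≤ p → p.IsMaximal) (n : ℕ)
    (m : Ideal R) [hm : m.IsMaximal] (y : Localization.AtPrime m) :
    ∃ b : R, algebraMap R (Localization.AtPrime m) b - y ∈
      Ideal.map (algebraMap R (Localization.AtPrime m)) (I ^ n) := by
  obtain ⟨a, s, rfl⟩ := IsLocalization.exists_mk'_eq m.primeCompl y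
  obtain ⟨t, i, hi, hti⟩ := hm.exists_inv s.2
  obtain ⟨N, hN⟩ := exists_pow_mem_Q I hI n m i hi
  obtain ⟨w, hw⟩ : (1 - i) ∣ 1 - i ^ N := by simpa using sub_dvd_pow_sub_pow 1 i N
  have h1i : 1 - i = t * s := by
    rw [← hti]
    ring
  refine ⟨a * (t * w), ?_⟩
  have hstw : (s : R) * (t * w) = 1 - i ^ N := by
    rw [hw, h1i]
    ring
  have hmk : IsLocalization.mk' (Localization.AtPrime m) a s *
      algebraMap R (Localization.AtPrime m) (s : R) = algebraMap R _ a :=
    IsLocalization.mk'_spec _ a s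
  have key : algebraMap R (Localization.AtPrime m) (a * (t * w)) -
      IsLocalization.mk' (Localization.AtPrime m) a s =
      - (IsLocalization.mk' (Localization.AtPrime m) a s *
        algebraMap R (Localization.AtPrime m) (i ^ N)) := by
    have e1 : algebraMap R (Localization.AtPrime m) (a * (t * w)) =
        IsLocalization.mk' (Localization.AtPrime m) a s *
          algebraMap R (Localization.AtPrime m) ((s : R) * (t * w)) := by
      rw [map_mul (algebraMap R (Localization.AtPrime m)) (s : R) (t * w),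
        ← mul_assoc (IsLocalization.mk' (Localization.AtPrime m) a s), hmk, ← map_mul]
    rw [e1, hstw, map_sub, map_one]
    ring
  rw [key]
  exact neg_mem (Ideal.mul_mem_left _ _ (Ideal.mem_comap.mp hN))

lemma Q_coprime (hI : ∀ p : Ideal R, p.IsPrime → I ≤ p → p.IsMaximal) (n : ℕ)
    (m m' : Ideal R) [hm : m.IsMaximal] [hm' : m'.IsMaximal] (hne : m ≠ m') :
    IsCoprime (Q I n m) (Q I n m') := by
  obtain ⟨u, hum, hum'⟩ : ∃ u ∈ m, u ∉ m' := by
    by_contra h
    push Not at h
    exact hne (hm.eq_of_le hm'.ne_top h)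
  obtain ⟨v, j, hj, hvj⟩ := hm'.exists_inv hum'
  obtain ⟨N, hN⟩ := exists_pow_mem_Q I hI n m u hum
  obtain ⟨N', hN'⟩ := exists_pow_mem_Q I hI n m' j hj
  have hcop : IsCoprime u j := ⟨v, 1, by rw [one_mul]; exact hvj⟩
  obtain ⟨α, β, hαβ⟩ := (hcop.pow (m := N) (n := N'))
  rw [Ideal.isCoprime_iff_exists]
  exact ⟨α * u ^ N, Ideal.mul_mem_left _ _ hN, β * j ^ N', Ideal.mul_mem_left _ _ hN', hαβ⟩

lemma level_inj (n : ℕ) (x : R)
    (h : ∀ m : {m : MaximalSpectrum R // I ≤ m.asIdeal}, x ∈ Q I n m.1.asIdeal) :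
    x ∈ I ^ n := by
  by_contra hx
  have hne : (Submodule.colon (I ^ n) {x} : Ideal R) ≠ ⊤ := by
    intro htop
    have h1 : (1 : R) ∈ (Submodule.colon (I ^ n) {x} : Ideal R) := by
      rw [htop]
      trivial
    rw [Submodule.mem_colon_singleton, one_smul] at h1
    exact hx h1
  obtain ⟨m', hm', hle⟩ := Ideal.exists_le_maximal _ hne
  have hIm' : I ≤ m' := by
    have h2 : I ^ n ≤ m' := fun r hr =>
      hle (Submodule.mem_colon_singleton.mpr (by
        rw [smul_eq_mul]
        exact Ideal.mul_mem_right _ _ hr))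
    exact hm'.isPrime.le_of_pow_le h2
  have := hm'.isPrime
  obtain ⟨s, hs, hsx⟩ := (mem_Q_iff I n m' x).mp (h ⟨⟨m', hm'⟩, hIm'⟩)
  exact hs (hle (Submodule.mem_colon_singleton.mpr (by rw [smul_eq_mul]; exact hsx)))

lemma level_surj [Finite (MaximalSpectrum R)]
    (hI : ∀ p : Ideal R, p.IsPrime → I ≤ p → p.IsMaximal) (n : ℕ)
    (y : ∀ m : {m : MaximalSpectrum R // I ≤ m.asIdeal}, Localization.AtPrime m.1.asIdeal) :
    ∃ x : R, ∀ m : {m : MaximalSpectrum R // I ≤ m.asIdeal},
      algebraMap R (Localization.AtPrime m.1.asIdeal) x - y m ∈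
        Ideal.map (algebraMap R (Localization.AtPrime m.1.asIdeal)) (I ^ n) := by
  choose b hb using fun m : {m : MaximalSpectrum R // I ≤ m.asIdeal} =>
    exists_rep I hI n m.1.asIdeal (y m)
  have hcop : Pairwise (Function.onFun IsCoprime
      (fun m : {m : MaximalSpectrum R // I ≤ m.asIdeal} => Q I n m.1.asIdeal)) := by
    intro m m' hne
    exact Q_coprime I hI n _ _ (fun h => hne (Subtype.ext (MaximalSpectrum.ext h)))
  obtain ⟨ξ, hξ⟩ := Ideal.quotientInfToPiQuotient_surj hcop
    (fun m => Ideal.Quotient.mk _ (b m))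
  obtain ⟨x, rfl⟩ := Ideal.Quotient.mk_surjective ξ
  refine ⟨x, fun m => ?_⟩
  have h1 := congrFun hξ m
  rw [Ideal.quotientInfToPiQuotient_mk', Ideal.Quotient.eq] at h1
  have h2 : algebraMap R (Localization.AtPrime m.1.asIdeal) (x - b m) ∈
      Ideal.map (algebraMap R (Localization.AtPrime m.1.asIdeal)) (I ^ n) :=
    Ideal.mem_comap.mp h1
  have e : algebraMap R (Localization.AtPrime m.1.asIdeal) x - y m =
      algebraMap R (Localization.AtPrime m.1.asIdeal) (x - b m) +
        (algebraMap R (Localization.AtPrime m.1.asIdeal) (b m) - y m) := by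
    rw [map_sub]
    ring
  rw [e]
  exact Ideal.add_mem _ h2 (hb m)

end aux

end Groth.Agent.S14727

namespace Groth.Agent.S14727

/-- Let R be a semilocal ring (finitely many maximal ideals) and I an ideal of R of co-height zero, i.e.
every prime ideal containing I is maximal. Then the canonical map from the I-adic completion of R to
the product, over the maximal ideals m ⊇ I, of the I-adic completions of the local rings R_m
(equivalently their IR_m-adic completions) is bijective; it is the continuous ring isomorphism of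
the source, stated here as bijectivity of the canonical map of completed modules. -/
theorem result
    (R : Type u) [CommRing R] (hR : Finite (MaximalSpectrum R)) (I : Ideal R)
    (hI : ∀ (p : Ideal R), p.IsPrime → I ≤ p → p.IsMaximal) :
    Function.Bijective (LinearMap.pi (fun m : {m : MaximalSpectrum R // I ≤ m.asIdeal} =>
      AdicCompletion.map I (Algebra.linearMap R (Localization.AtPrime m.1.asIdeal)))) := by
  have hfin : Finite (MaximalSpectrum R) := hR
  have hmem : ∀ (n : ℕ) (m : {m : MaximalSpectrum R // I ≤ m.asIdeal})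
      (z : Localization.AtPrime m.1.asIdeal),
      z ∈ (I ^ n • ⊤ : Submodule R (Localization.AtPrime m.1.asIdeal)) ↔
        z ∈ Ideal.map (algebraMap R (Localization.AtPrime m.1.asIdeal)) (I ^ n) := by
    intro n m z
    rw [Ideal.smul_top_eq_map]
    exact Iff.rfl
  have hmemR : ∀ (n : ℕ) (z : R), z ∈ (I ^ n • ⊤ : Submodule R R) ↔ z ∈ I ^ n := by
    intro n z
    rw [Ideal.smul_eq_mul, Ideal.mul_top]
  constructor
  · rw [injective_iff_map_eq_zero]
    intro a ha
    obtain ⟨f, rfl⟩ := AdicCompletion.mk_surjective I R a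
    refine AdicCompletion.ext fun n => ?_
    rw [AdicCompletion.mk_apply_coe, AdicCompletion.val_zero_apply, Submodule.mkQ_apply,
      Submodule.Quotient.mk_eq_zero, hmemR]
    apply level_inj I n
    intro m
    have h1 : AdicCompletion.map I (Algebra.linearMap R (Localization.AtPrime m.1.asIdeal))
        (AdicCompletion.mk I R f) = 0 := congrFun ha m
    have h2 : (Submodule.Quotient.mk (algebraMap R (Localization.AtPrime m.1.asIdeal) (f n)) :
        Localization.AtPrime m.1.asIdeal ⧸ (I ^ n • ⊤ : Submodule R _)) = 0 :=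
      congrArg (fun z => z.val n) h1
    rw [Submodule.Quotient.mk_eq_zero, hmem] at h2
    exact Ideal.mem_comap.mpr h2
  · intro b
    choose g hg using fun m : {m : MaximalSpectrum R // I ≤ m.asIdeal} =>
      AdicCompletion.mk_surjective I (Localization.AtPrime m.1.asIdeal) (b m)
    choose x hx using fun n => level_surj I hI n (fun m => g m n)
    have hcauchy : ∀ n, x n ≡ x (n + 1) [SMOD (I ^ n • ⊤ : Submodule R R)] := by
      intro n
      rw [SModEq.sub_mem, hmemR]
      apply level_inj I n
      intro m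
      rw [Q, Ideal.mem_comap]
      have h1 := hx n m
      have h2 : algebraMap R (Localization.AtPrime m.1.asIdeal) (x (n + 1)) - g m (n + 1) ∈
          Ideal.map (algebraMap R (Localization.AtPrime m.1.asIdeal)) (I ^ n) :=
        Ideal.map_mono (Ideal.pow_le_pow_right (Nat.le_succ n)) (hx (n + 1) m)
      have h3 : g m n - g m (n + 1) ∈
          Ideal.map (algebraMap R (Localization.AtPrime m.1.asIdeal)) (I ^ n) := by
        rw [← hmem, ← SModEq.sub_mem]
        exact (g m).property (Nat.le_succ n)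
      have e : algebraMap R (Localization.AtPrime m.1.asIdeal) (x n - x (n + 1)) =
          (algebraMap R (Localization.AtPrime m.1.asIdeal) (x n) - g m n) -
            (algebraMap R (Localization.AtPrime m.1.asIdeal) (x (n + 1)) - g m (n + 1)) +
            (g m n - g m (n + 1)) := by
        rw [map_sub]
        ring
      rw [e]
      exact Ideal.add_mem _ (Ideal.sub_mem _ h1 h2) h3
    refine ⟨AdicCompletion.mk I R (AdicCompletion.AdicCauchySequence.mk I R x hcauchy), ?_⟩
    funext m
    rw [LinearMap.pi_apply, AdicCompletion.map_mk, ← hg m]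
    refine AdicCompletion.ext fun n => ?_
    rw [AdicCompletion.mk_apply_coe, AdicCompletion.mk_apply_coe, Submodule.mkQ_apply,
      Submodule.mkQ_apply, Submodule.Quotient.eq, hmem]
    exact hx n m

end Groth.Agent.S14727
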