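import Groth.Statements.S14728
import Mathlib

set_option autoImplicit false
universe u
open ValPrufer

namespace Groth.Agent.S14728

lemma lemmaV {R : Type*} [CommRing R] [IsDomain R] (p : Ideal R) [p.IsPrime]
    (hV : ValuationRing (Localization.AtPrime p))
    {T : Type*} [CommRing T] [IsDomain T] (ψ : R →+* T)
    (h1 : ∀ s : R, s ∉ p → IsUnit (ψ s))
    (h2 : ∀ x : T, ∃ (a : R) (u : Tˣ), x = ψ a * u) : ValuationRing T := by
  rw [ValuationRing.iff_dvd_total]
  have key : ∀ a b : R, algebraMap R (Localization.AtPrime p) a ∣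
      algebraMap R (Localization.AtPrime p) b → ψ a ∣ ψ b := by
    rintro a b ⟨z, hz⟩
    obtain ⟨⟨c, s⟩, rfl⟩ := IsLocalization.mk'_surjective p.primeCompl z
    have h3 : algebraMap R (Localization.AtPrime p) (b * s) =
        algebraMap R (Localization.AtPrime p) (a * c) := by
      rw [map_mul, map_mul, hz, mul_assoc, IsLocalization.mk'_spec]
    have h4 : b * s = a * c :=
      IsLocalization.injective (Localization.AtPrime p) p.primeCompl_le_nonZeroDivisors h3
    have h5 : ψ a ∣ ψ b * ψ s := ⟨ψ c, by rw [← map_mul, ← map_mul, h4]⟩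
    exact ((h1 s s.2).dvd_mul_right).mp h5
  refine ⟨fun x y => ?_⟩
  obtain ⟨a, u, rfl⟩ := h2 x
  obtain ⟨b, v, rfl⟩ := h2 y
  rcases ValuationRing.dvd_total (algebraMap R (Localization.AtPrime p) a)
    (algebraMap R (Localization.AtPrime p) b) with h | h
  · left
    rw [Units.mul_right_dvd, Units.dvd_mul_right]
    exact key a b h
  · right
    rw [Units.mul_right_dvd, Units.dvd_mul_right]
    exact key b a h

end Groth.Agent.S14728

namespace Groth.Agent.S14728

/-- Let R be a Prüfer domain, i.e. a domain all of whose local rings at primes are valuation rings. (a)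
For a multiplicative subset S, any localisation B = S⁻¹R that is a domain (S not containing 0) is a
Prüfer domain. (b) For a prime ideal I, the quotient R/I is a Prüfer domain. -/
theorem result
    (R : Type u) [CommRing R] [IsDomain R]
    (hR : ∀ (p : Ideal R) [p.IsPrime], ValuationRing (Localization.AtPrime p))
    (S : Submonoid R) (B : Type u) [CommRing B] [IsDomain B] [Algebra R B] [IsLocalization S B]
    (I : Ideal R) [I.IsPrime] :
    (∀ (q : Ideal B) [q.IsPrime], ValuationRing (Localization.AtPrime q)) ∧
      (∀ (q : Ideal (R ⧸ I)) [q.IsPrime], ValuationRing (Localization.AtPrime q)) := by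
  constructor
  · intro q _
    refine lemmaV (q.comap (algebraMap R B)) (hR _)
      ((algebraMap B (Localization.AtPrime q)).comp (algebraMap R B)) ?_ ?_
    · intro s hs
      exact IsLocalization.map_units (Localization.AtPrime q)
        (⟨algebraMap R B s, hs⟩ : q.primeCompl)
    · intro x
      obtain ⟨⟨b, t⟩, hbt⟩ := IsLocalization.surj q.primeCompl x
      obtain ⟨⟨r, s⟩, hrs⟩ := IsLocalization.surj S b
      have ht : IsUnit (algebraMap B (Localization.AtPrime q) t) := IsLocalization.map_units _ t
      have hs : IsUnit (algebraMap B (Localization.AtPrime q) (algebraMap R B s)) :=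
        (IsLocalization.map_units B s).map _
      obtain ⟨ut, hut⟩ := ht
      obtain ⟨us, hus⟩ := hs
      refine ⟨r, (ut * us)⁻¹, ?_⟩
      rw [Units.eq_mul_inv_iff_mul_eq]
      simp only [Units.val_mul, hut, hus, RingHom.comp_apply]
      rw [← mul_assoc, hbt, ← map_mul, hrs]
  · intro q _
    refine lemmaV (q.comap (Ideal.Quotient.mk I)) (hR _)
      ((algebraMap (R ⧸ I) (Localization.AtPrime q)).comp (Ideal.Quotient.mk I)) ?_ ?_
    · intro s hs
      exact IsLocalization.map_units (Localization.AtPrime q)
        (⟨Ideal.Quotient.mk I s, hs⟩ : q.primeCompl)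
    · intro x
      obtain ⟨⟨b, t⟩, hbt⟩ := IsLocalization.surj q.primeCompl x
      obtain ⟨r, rfl⟩ := Ideal.Quotient.mk_surjective b
      have ht : IsUnit (algebraMap (R ⧸ I) (Localization.AtPrime q) t) :=
        IsLocalization.map_units _ t
      obtain ⟨ut, hut⟩ := ht
      refine ⟨r, ut⁻¹, ?_⟩
      rw [Units.eq_mul_inv_iff_mul_eq, hut]
      exact hbt

end Groth.Agent.S14728
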