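import Groth.Statements.S14729
import Mathlib

set_option autoImplicit false
universe u
open ValPrufer

namespace Groth.Agent.S14729aux

section Val
variable {L : Type*} [Field L] {Γ : Type*} [LinearOrderedCommGroupWithZero Γ] (v : Valuation L Γ)

/-- geometric sum -/
def gs (x : L) (n : ℕ) : L := ∑ i ∈ Finset.range n, x ^ i

lemma v_pow_le_one {x : L} (hx : v x ≤ 1) (n : ℕ) : v (x ^ n) ≤ 1 := by
  rw [map_pow]; exact pow_le_one' hx n

lemma v_gs_le_one {x : L} (hx : v x ≤ 1) (n : ℕ) : v (gs x n) ≤ 1 :=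
  v.map_sum_le (fun i _ => v_pow_le_one v hx i)

lemma v_pow_sub_one_le {x : L} (hx : v x ≤ 1) (n : ℕ) : v (x ^ n - 1) ≤ v (x - 1) := by
  have h := geom_sum_mul x n
  rw [← h, map_mul]
  exact mul_le_of_le_one_left' (v_gs_le_one v hx n)

lemma nat_le_one (n : ℕ) : v (n : L) ≤ 1 := by
  induction n with
  | zero => rw [Nat.cast_zero, map_zero]; exact zero_le_one
  | succ k ih => rw [Nat.cast_succ]; exact v.map_add_le ih (le_of_eq v.map_one)

lemma exists_nat_unit : ∃ d : ℕ, 1 ≤ d ∧ ∀ t : ℕ, v (((1 + d * t : ℕ)) : L) = 1 := by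
  by_cases h : ∃ n : ℕ, 1 ≤ n ∧ v (n : L) < 1
  · obtain ⟨n, hn1, hn⟩ := h
    refine ⟨n, hn1, fun t => ?_⟩
    rw [Nat.cast_add, Nat.cast_one, Nat.cast_mul]
    apply v.map_one_add_of_lt
    rw [map_mul]
    exact lt_of_le_of_lt (mul_le_of_le_one_right' (nat_le_one v t)) hn
  · refine ⟨1, le_rfl, fun t => le_antisymm (nat_le_one v _) ?_⟩
    by_contra hlt
    exact h ⟨1 + 1 * t, by omega, not_le.mp hlt⟩

lemma unit_case {x : L} (hx : v x ≤ 1) :
    ∃ d : ℕ, 1 ≤ d ∧ ∀ t : ℕ, v (gs x (1 + d * t)) = 1 := by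
  by_cases hx1 : v (x - 1) < 1
  · obtain ⟨d, hd, hdt⟩ := exists_nat_unit v
    refine ⟨d, hd, fun t => ?_⟩
    have key : gs x (1 + d * t) = ((1 + d * t : ℕ) : L)
        + ∑ i ∈ Finset.range (1 + d * t), (x ^ i - 1) := by
      rw [Finset.sum_sub_distrib, Finset.sum_const, Finset.card_range, nsmul_eq_mul, mul_one]
      unfold gs
      ring
    have small : v (∑ i ∈ Finset.range (1 + d * t), (x ^ i - 1)) < 1 :=
      v.map_sum_lt one_ne_zero (fun i _ => lt_of_le_of_lt (v_pow_sub_one_le v hx i) hx1)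
    rw [key, v.map_add_eq_of_lt_left (by rw [hdt t]; exact small), hdt t]
  · have hx1' : v (x - 1) = 1 :=
      le_antisymm (v.map_sub_le hx (le_of_eq v.map_one)) (not_lt.mp hx1)
    have keyid : ∀ s : ℕ, v (gs x s) = v (x ^ s - 1) := by
      intro s
      have h := congrArg v (geom_sum_mul x s)
      rw [map_mul, hx1', mul_one] at h
      exact h
    by_cases h : ∃ d : ℕ, 1 ≤ d ∧ v (x ^ d - 1) < 1
    · obtain ⟨d, hd, hdlt⟩ := h
      refine ⟨d, hd, fun t => ?_⟩
      rw [keyid]
      have e : x ^ (1 + d * t) - 1 = (x - 1) + x * ((x ^ d) ^ t - 1) := by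
        rw [pow_add, pow_one, pow_mul]; ring
      have h2 : v ((x ^ d) ^ t - 1) < 1 :=
        lt_of_le_of_lt (v_pow_sub_one_le v (v_pow_le_one v hx d) t) hdlt
      have h3 : v (x * ((x ^ d) ^ t - 1)) < 1 := by
        rw [map_mul]; exact lt_of_le_of_lt (mul_le_of_le_one_left' hx) h2
      rw [e, v.map_add_eq_of_lt_left (by rw [hx1']; exact h3), hx1']
    · refine ⟨1, le_rfl, fun t => ?_⟩
      rw [keyid]
      refine le_antisymm (v.map_sub_le (v_pow_le_one v hx _) (le_of_eq v.map_one)) ?_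
      by_contra hlt
      exact h ⟨1 + 1 * t, by omega, not_le.mp hlt⟩

lemma nonunit_case {x : L} (hx : 1 < v x) (s : ℕ) : v (gs x (s + 1)) = v x ^ s := by
  induction s with
  | zero => simp [gs]
  | succ k ih =>
    have e : gs x (k + 1 + 1) = gs x (k + 1) + x ^ (k + 1) := by
      unfold gs; rw [Finset.sum_range_succ]
    have hlt : v (gs x (k + 1)) < v (x ^ (k + 1)) := by
      rw [ih, map_pow]; exact pow_lt_pow_right₀ hx (Nat.lt_succ_self k)
    rw [e, v.map_add_eq_of_lt_right hlt, map_pow]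

end Val

section Fam
variable {L : Type*} [Field L]

lemma exists_S (ι : Type*) [Fintype ι] (V : ι → ValuationSubring L) (x : L) :
    ∃ S : ℕ, 2 ≤ S ∧ ∀ i, (V i).valuation x ≤ 1 → (V i).valuation (gs x S) = 1 := by
  classical
  have h : ∀ i, ∃ d : ℕ, 1 ≤ d ∧ ((V i).valuation x ≤ 1 →
      ∀ t : ℕ, (V i).valuation (gs x (1 + d * t)) = 1) := by
    intro i
    by_cases hx : (V i).valuation x ≤ 1
    · obtain ⟨d, hd, h⟩ := unit_case (V i).valuation hx
      exact ⟨d, hd, fun _ => h⟩
    · exact ⟨1, le_rfl, fun h => absurd h hx⟩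
  choose d hd1 hd using h
  refine ⟨1 + ∏ i, d i, ?_, ?_⟩
  · have : 0 < ∏ i, d i := Finset.prod_pos (fun i _ => hd1 i)
    omega
  · intro i hx
    obtain ⟨t, ht⟩ : d i ∣ ∏ j, d j := Finset.dvd_prod_of_mem d (Finset.mem_univ i)
    rw [ht]
    exact hd i hx t

end Fam

section Loc
variable {R L : Type*} [CommRing R] [IsDomain R] [Field L] [Algebra R L] [IsFractionRing R L]

/-- the localisation of `R` at `p`, as a subset of `L` -/
def locSet (p : Ideal R) : Set L :=
  {x | ∃ r s : R, s ∉ p ∧ x * algebraMap R L s = algebraMap R L r}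

def locSubring (p : Ideal R) [hp : p.IsPrime] : Subring L where
  carrier := locSet (L := L) p
  mul_mem' := by
    rintro a b ⟨r, s, hs, h⟩ ⟨r', s', hs', h'⟩
    exact ⟨r * r', s * s', fun hm => (hp.mem_or_mem hm).elim hs hs',
      by rw [map_mul, map_mul, ← h, ← h']; ring⟩
  one_mem' := ⟨1, 1, (Ideal.ne_top_iff_one p).mp hp.ne_top, by simp⟩
  add_mem' := by
    rintro a b ⟨r, s, hs, h⟩ ⟨r', s', hs', h'⟩
    exact ⟨r * s' + r' * s, s * s', fun hm => (hp.mem_or_mem hm).elim hs hs',
      by rw [map_add, map_mul, map_mul, map_mul, ← h, ← h']; ring⟩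
  zero_mem' := ⟨0, 1, (Ideal.ne_top_iff_one p).mp hp.ne_top, by simp⟩
  neg_mem' := by
    rintro a ⟨r, s, hs, h⟩
    exact ⟨-r, s, hs, by rw [map_neg, ← h]; ring⟩

lemma locSet_mem_or_inv_mem (p : Ideal R) [hp : p.IsPrime]
    (h : ValuationRing (Localization.AtPrime p)) (x : L) :
    x ∈ locSet (L := L) p ∨ x⁻¹ ∈ locSet (L := L) p := by
  obtain ⟨r, t, ht, rfl⟩ := IsFractionRing.div_surjective (A := R) x
  have ht0 : t ≠ 0 := nonZeroDivisors.ne_zero ht
  have hinjL : Function.Injective (algebraMap R L) := IsFractionRing.injective R L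
  have htL : algebraMap R L t ≠ 0 := (map_ne_zero_iff _ hinjL).mpr ht0
  by_cases hr : r = 0
  · left; subst hr; exact ⟨0, 1, (Ideal.ne_top_iff_one p).mp hp.ne_top, by simp⟩
  have hrL : algebraMap R L r ≠ 0 := (map_ne_zero_iff _ hinjL).mpr hr
  have hinj : Function.Injective (algebraMap R (Localization.AtPrime p)) :=
    IsLocalization.injective _ p.primeCompl_le_nonZeroDivisors
  obtain ⟨c, hc⟩ := ValuationRing.cond (algebraMap R (Localization.AtPrime p) r)
    (algebraMap R (Localization.AtPrime p) t)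
  obtain ⟨c₀, s₀, rfl⟩ := IsLocalization.exists_mk'_eq p.primeCompl c
  rcases hc with hc | hc
  · have e : r * c₀ = t * s₀ := by
      apply hinj
      calc algebraMap R (Localization.AtPrime p) (r * c₀)
          = algebraMap R (Localization.AtPrime p) r *
              (IsLocalization.mk' (Localization.AtPrime p) c₀ s₀ *
                algebraMap R (Localization.AtPrime p) (s₀ : R)) := by
            rw [IsLocalization.mk'_spec, map_mul]
        _ = (algebraMap R (Localization.AtPrime p) r *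
              IsLocalization.mk' (Localization.AtPrime p) c₀ s₀) *
                algebraMap R (Localization.AtPrime p) (s₀ : R) := by ring
        _ = algebraMap R (Localization.AtPrime p) (t * s₀) := by rw [hc, map_mul]
    have e' : algebraMap R L r * algebraMap R L c₀ = algebraMap R L t * algebraMap R L s₀ := by
      rw [← map_mul, ← map_mul, e]
    right
    refine ⟨c₀, s₀, s₀.2, ?_⟩
    rw [inv_div, div_mul_eq_mul_div, div_eq_iff hrL, ← e', mul_comm]
  · have e : t * c₀ = r * s₀ := by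
      apply hinj
      calc algebraMap R (Localization.AtPrime p) (t * c₀)
          = algebraMap R (Localization.AtPrime p) t *
              (IsLocalization.mk' (Localization.AtPrime p) c₀ s₀ *
                algebraMap R (Localization.AtPrime p) (s₀ : R)) := by
            rw [IsLocalization.mk'_spec, map_mul]
        _ = (algebraMap R (Localization.AtPrime p) t *
              IsLocalization.mk' (Localization.AtPrime p) c₀ s₀) *
                algebraMap R (Localization.AtPrime p) (s₀ : R) := by ring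
        _ = algebraMap R (Localization.AtPrime p) (r * s₀) := by rw [hc, map_mul]
    have e' : algebraMap R L t * algebraMap R L c₀ = algebraMap R L r * algebraMap R L s₀ := by
      rw [← map_mul, ← map_mul, e]
    left
    refine ⟨c₀, s₀, s₀.2, ?_⟩
    rw [div_mul_eq_mul_div, div_eq_iff htL, ← e', mul_comm]

def locVS (p : Ideal R) [hp : p.IsPrime] (h : ValuationRing (Localization.AtPrime p)) :
    ValuationSubring L :=
  { locSubring (L := L) p with
    mem_or_inv_mem' := locSet_mem_or_inv_mem p h }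

lemma algebraMap_mem_locSet (p : Ideal R) [hp : p.IsPrime] (r : R) :
    algebraMap R L r ∈ locSet (L := L) p :=
  ⟨r, 1, (Ideal.ne_top_iff_one p).mp hp.ne_top, by simp⟩

lemma val_lt_one_of_mem (p : Ideal R) [hp : p.IsPrime]
    (h : ValuationRing (Localization.AtPrime p)) {r : R} (hr : r ∈ p) :
    (locVS (L := L) p h).valuation (algebraMap R L r) < 1 := by
  show algebraMap R L r ∈ (locVS (L := L) p h).nonunits
  rw [ValuationSubring.mem_nonunits_iff_or]
  by_cases hr0 : algebraMap R L r = 0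
  · left; exact hr0
  right
  rintro ⟨r', s, hs, hrs⟩
  apply hs
  have e : algebraMap R L s = algebraMap R L (r * r') := by
    rw [map_mul, ← hrs, ← mul_assoc, mul_inv_cancel₀ hr0, one_mul]
  rw [IsFractionRing.injective R L e]
  exact p.mul_mem_right _ hr

def denomIdeal (x : L) : Ideal R where
  carrier := {d | ∃ r, algebraMap R L r = algebraMap R L d * x}
  add_mem' := by
    rintro a b ⟨r, hr⟩ ⟨r', hr'⟩
    exact ⟨r + r', by rw [map_add, map_add, hr, hr', add_mul]⟩
  zero_mem' := ⟨0, by simp⟩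
  smul_mem' := by
    rintro c a ⟨r, hr⟩
    exact ⟨c * r, by rw [smul_eq_mul, map_mul, map_mul, hr, mul_assoc]⟩

lemma mem_range_of_forall_mem (x : L)
    (hx : ∀ m : Ideal R, m.IsMaximal → x ∈ locSet (L := L) m) :
    x ∈ (algebraMap R L).range := by
  by_contra hcon
  have hne : denomIdeal (R := R) x ≠ ⊤ := by
    intro htop
    have h1 : (1 : R) ∈ denomIdeal (R := R) x := by rw [htop]; exact Submodule.mem_top
    obtain ⟨r, hr⟩ := h1
    exact hcon (RingHom.mem_range.mpr ⟨r, by rw [hr, map_one, one_mul]⟩)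
  obtain ⟨m, hm, hle⟩ := Ideal.exists_le_maximal _ hne
  obtain ⟨r, s, hs, hrs⟩ := hx m hm
  exact hs (hle ⟨r, by rw [← hrs, mul_comm]⟩)

variable (hR : ∀ (p : Ideal R) [p.IsPrime], ValuationRing (Localization.AtPrime p))

noncomputable def VV (i : MaximalSpectrum R) : ValuationSubring L :=
  haveI := i.isMaximal.isPrime
  locVS (L := L) i.asIdeal (hR i.asIdeal)

lemma mem_VV (i : MaximalSpectrum R) (x : L) :
    x ∈ VV (L := L) hR i ↔ x ∈ locSet (L := L) i.asIdeal := Iff.rfl

lemma val_lt_one_VV (i : MaximalSpectrum R) {r : R} (hr : r ∈ i.asIdeal) :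
    (VV (L := L) hR i).valuation (algebraMap R L r) < 1 := by
  haveI := i.isMaximal.isPrime
  exact val_lt_one_of_mem i.asIdeal (hR i.asIdeal) hr

lemma algebraMap_mem_VV (i : MaximalSpectrum R) (r : R) :
    algebraMap R L r ∈ VV (L := L) hR i := by
  haveI := i.isMaximal.isPrime
  exact algebraMap_mem_locSet i.asIdeal r

lemma main_lemma [Fintype (MaximalSpectrum R)] (K : Subfield L) (x : L) (hxK : x ∈ K) :
    ∃ u : L, u ≠ 0 ∧ u⁻¹ ∈ (algebraMap R L).range ⊓ K.toSubring ∧
      x * u⁻¹ ∈ (algebraMap R L).range ⊓ K.toSubring ∧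
      ∀ i : MaximalSpectrum R, x ∈ VV (L := L) hR i → (VV (L := L) hR i).valuation u = 1 := by
  obtain ⟨S, hS2, hS⟩ := exists_S (MaximalSpectrum R) (VV (L := L) hR) x
  have huK : gs x S ∈ K := sum_mem (fun i _ => pow_mem hxK i)
  have hval : ∀ i : MaximalSpectrum R,
      (1 < (VV (L := L) hR i).valuation x →
        (VV (L := L) hR i).valuation (gs x S) = (VV (L := L) hR i).valuation x ^ (S - 1)) := by
    intro i hx
    have h := nonunit_case (VV (L := L) hR i).valuation hx (S - 1)
    rwa [Nat.sub_add_cancel (by omega : 1 ≤ S)] at h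
  obtain ⟨m₀, hm₀⟩ := Ideal.exists_maximal R
  have hu0 : gs x S ≠ 0 := by
    intro h0
    rcases le_or_gt ((VV (L := L) hR ⟨m₀, hm₀⟩).valuation x) 1 with hx | hx
    · have h1 := hS ⟨m₀, hm₀⟩ hx
      rw [h0, map_zero] at h1
      exact zero_ne_one h1
    · have h1 := hval ⟨m₀, hm₀⟩ hx
      rw [h0, map_zero] at h1
      exact (pow_ne_zero _ (ne_of_gt (lt_trans zero_lt_one hx))) h1.symm
  have hmem : ∀ i : MaximalSpectrum R,
      (gs x S)⁻¹ ∈ VV (L := L) hR i ∧ x * (gs x S)⁻¹ ∈ VV (L := L) hR i := by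
    intro i
    rw [← ValuationSubring.valuation_le_one_iff, ← ValuationSubring.valuation_le_one_iff,
      map_mul, map_inv₀]
    rcases le_or_gt ((VV (L := L) hR i).valuation x) 1 with hx | hx
    · rw [hS i hx, inv_one, mul_one]; exact ⟨le_rfl, hx⟩
    · rw [hval i hx]
      have h1 : 1 ≤ (VV (L := L) hR i).valuation x := hx.le
      constructor
      · exact inv_le_one_of_one_le₀ (one_le_pow₀ h1)
      · rw [← div_eq_mul_inv, div_le_one₀ (pow_pos (lt_of_lt_of_le zero_lt_one h1) _)]
        exact le_self_pow₀ h1 (by omega)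
  refine ⟨gs x S, hu0, ?_, ?_, ?_⟩
  · refine Subring.mem_inf.mpr ⟨mem_range_of_forall_mem _ (fun m hm => ?_), K.inv_mem huK⟩
    exact (hmem ⟨m, hm⟩).1
  · refine Subring.mem_inf.mpr ⟨mem_range_of_forall_mem _ (fun m hm => ?_),
      K.mul_mem hxK (K.inv_mem huK)⟩
    exact (hmem ⟨m, hm⟩).2
  · intro i hxi
    exact hS i ((ValuationSubring.valuation_le_one_iff _ _).mpr hxi)

variable (K : Subfield L)

lemma coe_mem_VV (i : MaximalSpectrum R) (c : ↥((algebraMap R L).range ⊓ K.toSubring)) :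
    (c : L) ∈ VV (L := L) hR i := by
  obtain ⟨r, hr⟩ := (Subring.mem_inf.mp c.2).1
  rw [← hr]
  exact algebraMap_mem_VV hR i r

/-- contraction of the maximal ideal of `V_i` -/
def JJ (i : MaximalSpectrum R) : Ideal ↥((algebraMap R L).range ⊓ K.toSubring) where
  carrier := {c | (VV (L := L) hR i).valuation (c : L) < 1}
  add_mem' := fun {a b} ha hb => by
    show (VV (L := L) hR i).valuation ((a : L) + (b : L)) < 1
    exact (VV (L := L) hR i).valuation.map_add_lt ha hb
  zero_mem' := by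
    show (VV (L := L) hR i).valuation (0 : L) < 1
    rw [map_zero]; exact zero_lt_one
  smul_mem' := fun c a ha => by
    show (VV (L := L) hR i).valuation ((c : L) * (a : L)) < 1
    rw [map_mul]
    have hc : (VV (L := L) hR i).valuation (c : L) ≤ 1 :=
      (ValuationSubring.valuation_le_one_iff _ _).mpr (coe_mem_VV hR K i c)
    exact lt_of_le_of_lt (mul_le_of_le_one_left' hc) ha

lemma mem_JJ (i : MaximalSpectrum R) (c : ↥((algebraMap R L).range ⊓ K.toSubring)) :
    c ∈ JJ hR K i ↔ (VV (L := L) hR i).valuation (c : L) < 1 := Iff.rfl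

lemma JJ_isPrime (i : MaximalSpectrum R) : (JJ hR K i).IsPrime := by
  refine ⟨?_, ?_⟩
  · rw [Ideal.ne_top_iff_one, mem_JJ]
    intro h1
    rw [OneMemClass.coe_one, map_one] at h1
    exact lt_irrefl _ h1
  · intro a b hab
    rw [mem_JJ, Subring.coe_mul, map_mul] at hab
    by_contra hcon
    obtain ⟨ha, hb⟩ := not_or.mp hcon
    rw [mem_JJ, not_lt] at ha hb
    exact absurd hab (not_lt.mpr (Left.one_le_mul ha hb))

lemma exists_le_JJ [Fintype (MaximalSpectrum R)]
    (P : Ideal ↥((algebraMap R L).range ⊓ K.toSubring)) [hP : P.IsPrime] :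
    ∃ i, P ≤ JJ hR K i := by
  classical
  obtain ⟨m₀, hm₀⟩ := Ideal.exists_maximal R
  have key := (Ideal.subset_union_prime (s := Finset.univ) (f := JJ hR K)
    (⟨m₀, hm₀⟩ : MaximalSpectrum R) ⟨m₀, hm₀⟩
    (fun i _ _ _ => JJ_isPrime hR K i) (I := P)).mp ?_
  · obtain ⟨i, -, hi⟩ := key
    exact ⟨i, hi⟩
  intro c hc
  obtain ⟨r, hr⟩ := (Subring.mem_inf.mp c.2).1
  have hnu : r ∈ nonunits R := by
    intro hu
    obtain ⟨r', hrr'⟩ := hu.exists_right_inv
    have hcd : (c : L) * algebraMap R L r' = 1 := by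
      rw [← hr, ← map_mul, hrr', map_one]
    have hd : algebraMap R L r' = (c : L)⁻¹ := eq_inv_of_mul_eq_one_right hcd
    have dK : algebraMap R L r' ∈ K := by
      rw [hd]; exact K.inv_mem (Subring.mem_inf.mp c.2).2
    have dA : algebraMap R L r' ∈ (algebraMap R L).range ⊓ K.toSubring :=
      Subring.mem_inf.mpr ⟨RingHom.mem_range.mpr ⟨r', rfl⟩, dK⟩
    have h1 : c * ⟨algebraMap R L r', dA⟩ ∈ P := P.mul_mem_right _ hc
    have h2 : c * ⟨algebraMap R L r', dA⟩ = 1 := Subtype.ext hcd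
    rw [h2] at h1
    exact hP.ne_top ((Ideal.eq_top_iff_one P).mpr h1)
  obtain ⟨m, hm, hrm⟩ := exists_max_ideal_of_mem_nonunits hnu
  refine Set.mem_iUnion₂.mpr ⟨⟨m, hm⟩, Finset.mem_coe.mpr (Finset.mem_univ _), ?_⟩
  show (VV (L := L) hR ⟨m, hm⟩).valuation (c : L) < 1
  rw [← hr]
  exact val_lt_one_VV hR ⟨m, hm⟩ hrm

include hR in
lemma core [Fintype (MaximalSpectrum R)]
    (P : Ideal ↥((algebraMap R L).range ⊓ K.toSubring)) [hP : P.IsPrime]
    (x : L) (hxK : x ∈ K) :
    ∃ a b : ↥((algebraMap R L).range ⊓ K.toSubring), b ∉ P ∧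
      ((a : L) = x * b ∨ (a : L) = x⁻¹ * b) := by
  obtain ⟨i, hi⟩ := exists_le_JJ hR K P
  rcases (VV (L := L) hR i).mem_or_inv_mem x with h | h
  · obtain ⟨u, hu0, hb, ha, hval⟩ := main_lemma hR K x hxK
    refine ⟨⟨x * u⁻¹, ha⟩, ⟨u⁻¹, hb⟩, ?_, Or.inl rfl⟩
    intro hbP
    have h1 : (VV (L := L) hR i).valuation u⁻¹ < 1 := hi hbP
    rw [map_inv₀, hval i h, inv_one] at h1
    exact lt_irrefl _ h1
  · obtain ⟨u, hu0, hb, ha, hval⟩ := main_lemma hR K x⁻¹ (K.inv_mem hxK)
    refine ⟨⟨x⁻¹ * u⁻¹, ha⟩, ⟨u⁻¹, hb⟩, ?_, Or.inr rfl⟩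
    intro hbP
    have h1 : (VV (L := L) hR i).valuation u⁻¹ < 1 := hi hbP
    rw [map_inv₀, hval i h, inv_one] at h1
    exact lt_irrefl _ h1

include hR in
lemma valuationRing_loc [Fintype (MaximalSpectrum R)]
    (P : Ideal ↥((algebraMap R L).range ⊓ K.toSubring)) [hP : P.IsPrime] :
    ValuationRing (Localization.AtPrime P) := by
  have : PreValuationRing (Localization.AtPrime P) := by
    refine ⟨fun a b => ?_⟩
    obtain ⟨α, s, rfl⟩ := IsLocalization.exists_mk'_eq P.primeCompl a
    obtain ⟨β, t, rfl⟩ := IsLocalization.exists_mk'_eq P.primeCompl b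
    by_cases hβ : β = 0
    · exact ⟨0, Or.inl (by rw [hβ, IsLocalization.mk'_zero, mul_zero])⟩
    by_cases hα : α = 0
    · exact ⟨0, Or.inr (by rw [hα, IsLocalization.mk'_zero, mul_zero])⟩
    have hs0 : ((s : ↥((algebraMap R L).range ⊓ K.toSubring)) : L) ≠ 0 := by
      intro h
      exact s.2 ((Subtype.ext h : (s : ↥((algebraMap R L).range ⊓ K.toSubring)) = 0) ▸ P.zero_mem)
    have ht0 : ((t : ↥((algebraMap R L).range ⊓ K.toSubring)) : L) ≠ 0 := by
      intro h
      exact t.2 ((Subtype.ext h : (t : ↥((algebraMap R L).range ⊓ K.toSubring)) = 0) ▸ P.zero_mem)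
    have hα0 : (α : L) ≠ 0 := fun h => hα (Subtype.ext h)
    have hβ0 : (β : L) ≠ 0 := fun h => hβ (Subtype.ext h)
    obtain ⟨x, hx⟩ : ∃ x : L, x = ((α : L) * (t : ↥((algebraMap R L).range ⊓ K.toSubring)))
        / ((β : L) * (s : ↥((algebraMap R L).range ⊓ K.toSubring))) := ⟨_, rfl⟩
    have hxK : x ∈ K := by
      rw [hx]
      exact K.div_mem (K.mul_mem (Subring.mem_inf.mp α.2).2 (Subring.mem_inf.mp t.1.2).2)
        (K.mul_mem (Subring.mem_inf.mp β.2).2 (Subring.mem_inf.mp s.1.2).2)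
    have hx1 : x * ((β : L) * (s : ↥((algebraMap R L).range ⊓ K.toSubring)))
        = (α : L) * (t : ↥((algebraMap R L).range ⊓ K.toSubring)) := by
      rw [hx]; exact div_mul_cancel₀ _ (mul_ne_zero hβ0 hs0)
    have hx2 : x⁻¹ * ((α : L) * (t : ↥((algebraMap R L).range ⊓ K.toSubring)))
        = (β : L) * (s : ↥((algebraMap R L).range ⊓ K.toSubring)) := by
      rw [hx, inv_div]; exact div_mul_cancel₀ _ (mul_ne_zero hα0 ht0)
    obtain ⟨a', b', hb', hab⟩ := core hR K P x hxK
    rcases hab with hab | hab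
    · refine ⟨IsLocalization.mk' _ a' (⟨b', hb'⟩ : P.primeCompl), Or.inr ?_⟩
      have h1 : ((s : ↥((algebraMap R L).range ⊓ K.toSubring)) : L) * ((β : L) * (a' : L))
          = (((t : ↥((algebraMap R L).range ⊓ K.toSubring)) : L) * (b' : L)) * (α : L) := by
        rw [hab]; linear_combination (b' : L) * hx1
      have e : (s : ↥((algebraMap R L).range ⊓ K.toSubring)) * (β * a')
          = ((t : ↥((algebraMap R L).range ⊓ K.toSubring)) * b') * α := Subtype.ext h1
      rw [← IsLocalization.mk'_mul, IsLocalization.mk'_eq_iff_eq]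
      exact congrArg _ e
    · refine ⟨IsLocalization.mk' _ a' (⟨b', hb'⟩ : P.primeCompl), Or.inl ?_⟩
      have h1 : ((t : ↥((algebraMap R L).range ⊓ K.toSubring)) : L) * ((α : L) * (a' : L))
          = (((s : ↥((algebraMap R L).range ⊓ K.toSubring)) : L) * (b' : L)) * (β : L) := by
        rw [hab]; linear_combination (b' : L) * hx2
      have e : (t : ↥((algebraMap R L).range ⊓ K.toSubring)) * (α * a')
          = ((s : ↥((algebraMap R L).range ⊓ K.toSubring)) * b') * β := Subtype.ext h1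
      rw [← IsLocalization.mk'_mul, IsLocalization.mk'_eq_iff_eq]
      exact congrArg _ e
  exact .mk

end Loc

end Groth.Agent.S14729aux

namespace Groth.Agent.S14729

/-- Let R be a semilocal Prüfer domain (an integral domain with finitely many maximal ideals whose
localisations at primes are valuation rings) with fraction field L, and let K ⊆ L be a subfield.
Then R ∩ K is again a semilocal Prüfer domain and its fraction field is K, i.e. every element of K
is a quotient of two elements of R ∩ K. -/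
theorem result
    (R L : Type u) [CommRing R] [IsDomain R] [Field L] [Algebra R L] [IsFractionRing R L]
    (hR : ∀ (p : Ideal R) [p.IsPrime], ValuationRing (Localization.AtPrime p))
    (hfin : Finite (MaximalSpectrum R)) (K : Subfield L) :
    (∀ (p : Ideal ↥((algebraMap R L).range ⊓ K.toSubring)) [p.IsPrime],
        ValuationRing (Localization.AtPrime p)) ∧
      Finite (MaximalSpectrum ↥((algebraMap R L).range ⊓ K.toSubring)) ∧
      ∀ x : L, x ∈ K → ∃ a b : L, a ∈ (algebraMap R L).range ⊓ K.toSubring ∧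
        b ∈ (algebraMap R L).range ⊓ K.toSubring ∧ b ≠ 0 ∧ x = a / b := by
  classical
  haveI : Fintype (MaximalSpectrum R) := @Fintype.ofFinite _ hfin
  refine ⟨fun p _ => S14729aux.valuationRing_loc hR K p, ?_, ?_⟩
  · have h : ∀ M : MaximalSpectrum ↥((algebraMap R L).range ⊓ K.toSubring),
        ∃ i, M.asIdeal = S14729aux.JJ hR K i := by
      intro M
      haveI := M.isMaximal.isPrime
      obtain ⟨i, hi⟩ := S14729aux.exists_le_JJ hR K M.asIdeal
      exact ⟨i, M.isMaximal.eq_of_le (S14729aux.JJ_isPrime hR K i).ne_top hi⟩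
    choose φ hφ using h
    refine Finite.of_injective φ (fun M M' hMM' => ?_)
    apply MaximalSpectrum.ext
    rw [hφ M, hφ M', hMM']
  · intro x hx
    obtain ⟨u, hu0, hb, ha, -⟩ := S14729aux.main_lemma hR K x hx
    exact ⟨x * u⁻¹, u⁻¹, ha, hb, inv_ne_zero hu0,
      (mul_div_cancel_right₀ x (inv_ne_zero hu0)).symm⟩

end Groth.Agent.S14729
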