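import Groth.Statements.S14731
import Mathlib
import Groth.Agent.Lib.Helper26.GenericSmooth

set_option linter.style.haveILetI false

set_option autoImplicit false
universe u
open ValPrufer

namespace Groth.Agent.S14731

/-- In characteristic zero, every field K generated as a field by a finite set is the fraction field of
a subring A of K of finite type and smooth over the integers. -/
theorem result
    (K : Type u) [Field K] [CharZero K] (s : Finset K)
    (hs : Subfield.closure (↑s : Set K) = ⊤) :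
    ∃ A : Subring K, Algebra.FiniteType ℤ A ∧ Algebra.Smooth ℤ A ∧ IsFractionRing A K := by
  classical
  obtain ⟨A₀, hA₀⟩ : ∃ A₀ : Subalgebra ℤ K, A₀ = Algebra.adjoin ℤ (↑s : Set K) := ⟨_, rfl⟩
  have hfg : A₀.FG := by rw [hA₀]; exact Subalgebra.fg_adjoin_finset s
  have hfrac : ∀ z : K, ∃ x y : A₀, z = (x : K) / (y : K) := by
    rw [hA₀]; exact Groth.Agent.Helper26.GenericSmooth.exists_frac _ hs
  haveI : IsFractionRing A₀ K := Groth.Agent.Helper26.GenericSmooth.isFractionRing_of_frac A₀ hfrac
  haveI : Algebra.FiniteType ℤ A₀ := (Subalgebra.fg_iff_finiteType A₀).mp hfg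
  haveI : Algebra.EssFiniteType A₀ K :=
    Algebra.EssFiniteType.of_isLocalization K (nonZeroDivisors A₀)
  haveI : Algebra.EssFiniteType ℤ K := Algebra.EssFiniteType.comp ℤ A₀ K
  haveI : Algebra.EssFiniteType ℚ K := Algebra.EssFiniteType.of_comp ℤ ℚ K
  haveI : Algebra.FormallySmooth ℤ ℚ :=
    Algebra.FormallySmooth.of_isLocalization (nonZeroDivisors ℤ)
  haveI : Algebra.FormallySmooth ℚ K := inferInstance
  haveI : Algebra.FormallySmooth ℤ K := Algebra.FormallySmooth.comp ℤ ℚ K
  obtain ⟨A, hle, hsm⟩ :=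
    Groth.Agent.Helper26.GenericSmooth.exists_smooth_subalgebra A₀ hfg hfrac
  let e₀ : ↥A ≃+* ↥A.toSubring :=
    { toFun := fun x => ⟨x.1, x.2⟩
      invFun := fun x => ⟨x.1, x.2⟩
      left_inv := fun _ => rfl
      right_inv := fun _ => rfl
      map_mul' := fun _ _ => rfl
      map_add' := fun _ _ => rfl }
  let e : ↥A ≃ₐ[ℤ] ↥A.toSubring :=
    AlgEquiv.ofRingEquiv (f := e₀) (fun x => by rw [eq_intCast, eq_intCast, map_intCast])
  haveI hsm' : Algebra.Smooth ℤ ↥A.toSubring := Algebra.Smooth.of_equiv e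
  refine ⟨A.toSubring, ?_, hsm', ?_⟩
  · haveI := hsm'.finitePresentation
    infer_instance
  · haveI : FaithfulSMul ↥A.toSubring K :=
      (faithfulSMul_iff_algebraMap_injective _ K).mpr Subtype.val_injective
    refine IsFractionRing.of_field _ K (fun z => ?_)
    obtain ⟨x, y, h⟩ := hfrac z
    exact ⟨⟨x.1, hle x.2⟩, ⟨y.1, hle y.2⟩, h⟩

end Groth.Agent.S14731
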