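import Groth.Statements.S14732
import Mathlib
import Groth.Agent.Lib.Helper26.GenericSmooth

set_option linter.style.haveILetI false

set_option autoImplicit false
universe u
open ValPrufer

namespace Groth.Agent.S14732

/-- In characteristic p > 0, a field K that is finitely generated over its prime subfield F (a field
with p elements) is the fraction field of an integral scheme smooth over F; concretely, there is an
F-subalgebra A of K, of finite type and smooth over F, whose fraction field is K. -/
theorem result
    (K : Type u) [Field K] (p : ℕ) [Fact p.Prime] [CharP K p] (s : Finset K)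
    (hs : Subfield.closure (↑s : Set K) = ⊤) :
    ∃ A : Subalgebra (⊥ : Subfield K) K, Algebra.FiniteType (⊥ : Subfield K) A ∧
      Algebra.Smooth (⊥ : Subfield K) A ∧ IsFractionRing A K := by
  classical
  letI : Fintype (⊥ : Subfield K) := Subfield.fintypeBot K p
  haveI : Algebra.EssFiniteType (⊥ : Subfield K) K := Field.fg_iff_essFiniteType.mp ⟨⟨s, hs⟩⟩
  haveI : Algebra.FormallySmooth (⊥ : Subfield K) K := inferInstance
  obtain ⟨A₀, hA₀⟩ : ∃ A₀ : Subalgebra (⊥ : Subfield K) K,
      A₀ = Algebra.adjoin (⊥ : Subfield K) (↑s : Set K) := ⟨_, rfl⟩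
  have hfg : A₀.FG := by rw [hA₀]; exact Subalgebra.fg_adjoin_finset s
  have hfrac : ∀ z : K, ∃ x y : A₀, z = (x : K) / (y : K) := by
    rw [hA₀]; exact Groth.Agent.Helper26.GenericSmooth.exists_frac _ hs
  obtain ⟨A, hle, hsm⟩ :=
    Groth.Agent.Helper26.GenericSmooth.exists_smooth_subalgebra A₀ hfg hfrac
  refine ⟨A, ?_, hsm, Groth.Agent.Helper26.GenericSmooth.isFractionRing_of_frac A (fun z => ?_)⟩
  · haveI := hsm.finitePresentation
    infer_instance
  · obtain ⟨x, y, h⟩ := hfrac z
    exact ⟨⟨x.1, hle x.2⟩, ⟨y.1, hle y.2⟩, h⟩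

end Groth.Agent.S14732
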