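import Groth.Statements.S14738
import Mathlib
import Groth.Agent.Lib.Helper5.PruferFinite

set_option autoImplicit false
universe u
open ValPrufer

namespace Groth.Agent.S14738

/-- Let R be a semilocal Prüfer domain (an integral domain with finitely many maximal ideals whose
localisations at primes are valuation rings) of finite Krull dimension, and m a maximal ideal of R.
Then there is a ∈ R with V(a) = {m}, i.e. m is the only prime ideal containing a, and there is b ∉ m
such that R[1/b] is the localisation R_m (every element outside m becomes invertible after inverting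
b); consequently the spectra of the local rings R_m form a Zariski open covering of Spec R. (The
published remark assumes positive Krull dimension to construct a; for R a field the assertions hold
with a = 0 and b = 1. It also takes b to be the product of the elements a_n chosen in the same way
for the other maximal ideals n; that choice fails as soon as a non-maximal prime lies in another
maximal ideal but not in m, e.g. for the intersection of two independent rank-two valuation rings of
a field, so this row asserts only that some such b exists.) -/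
theorem result
    (R : Type u) [CommRing R] [IsDomain R]
    (hR : ∀ (p : Ideal R) [p.IsPrime], ValuationRing (Localization.AtPrime p))
    (hfin : Finite (MaximalSpectrum R)) (hdim : ringKrullDim R < ⊤)
    (m : Ideal R) [m.IsMaximal] :
    (∃ a : R, ∀ (p : Ideal R), p.IsPrime → (a ∈ p ↔ p = m)) ∧
      ∃ b : R, b ∉ m ∧ IsLocalization.AtPrime (Localization.Away b) m := by
  classical
  have hF : Finite (PrimeSpectrum R) :=
    Groth.Agent.Helper5.PruferFinite.finite_primeSpectrum hR hfin hdim
  have : Fintype (PrimeSpectrum R) := Fintype.ofFinite _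
  constructor
  · let s : Finset (PrimeSpectrum R) := Finset.univ.filter (fun p => p.asIdeal ≠ m)
    have key := (Ideal.subset_union_prime (s := s)
      (f := fun p : PrimeSpectrum R => p.asIdeal) (I := m) ⟨m, inferInstance⟩ ⟨m, inferInstance⟩
      (fun i _ _ _ => i.isPrime))
    have hnot : ¬ ∃ i ∈ s, m ≤ (fun p : PrimeSpectrum R => p.asIdeal) i := by
      rintro ⟨i, his, hmi⟩
      have h1 : m = i.asIdeal := Ideal.IsMaximal.eq_of_le inferInstance i.isPrime.ne_top hmi
      exact (Finset.mem_filter.mp his).2 h1.symm
    rw [← key] at hnot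
    obtain ⟨a, ham, ha⟩ := Set.not_subset.mp hnot
    refine ⟨a, fun p hp => ⟨fun hap => ?_, fun h => h ▸ ham⟩⟩
    by_contra hne
    apply ha
    have his : (⟨p, hp⟩ : PrimeSpectrum R) ∈ (↑s : Set (PrimeSpectrum R)) :=
      Finset.mem_coe.mpr (Finset.mem_filter.mpr ⟨Finset.mem_univ _, hne⟩)
    exact Set.mem_biUnion his hap
  · let Q : Finset (PrimeSpectrum R) := Finset.univ.filter (fun q => ¬ q.asIdeal ≤ m)
    have hex : ∀ q : PrimeSpectrum R, ∃ x : R, (¬ q.asIdeal ≤ m → x ∈ q.asIdeal) ∧ x ∉ m := by
      intro q
      by_cases hq : q.asIdeal ≤ m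
      · exact ⟨1, fun h => absurd hq h,
          (Ideal.ne_top_iff_one m).mp (Ideal.IsPrime.ne_top inferInstance)⟩
      · obtain ⟨x, hxq, hxm⟩ := Set.not_subset.mp hq
        exact ⟨x, fun _ => hxq, hxm⟩
    choose β hβ1 hβ2 using hex
    let b : R := ∏ q ∈ Q, β q
    have hbm : b ∉ m := by
      intro h
      obtain ⟨q, _, hq⟩ := (Ideal.IsPrime.prod_mem_iff).mp h
      exact hβ2 q hq
    have hbQ : ∀ q : PrimeSpectrum R, ¬ q.asIdeal ≤ m → b ∈ q.asIdeal := by
      intro q hq
      have hqQ : q ∈ Q := Finset.mem_filter.mpr ⟨Finset.mem_univ _, hq⟩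
      exact Ideal.mem_of_dvd _ (Finset.dvd_prod_of_mem _ hqQ) (hβ1 q hq)
    refine ⟨b, hbm, ?_⟩
    have hle : Submonoid.powers b ≤ m.primeCompl := by
      rintro _ ⟨k, rfl⟩
      show b ^ k ∉ m
      intro h
      exact hbm (Ideal.IsPrime.mem_of_pow_mem inferInstance k h)
    refine IsLocalization.of_le (M := Submonoid.powers b) m.primeCompl hle ?_
    intro s hs
    by_contra hnu
    obtain ⟨M, hM, hsM⟩ := exists_max_ideal_of_mem_nonunits hnu
    let P : PrimeSpectrum R :=
      ⟨M.comap (algebraMap R (Localization.Away b)), Ideal.comap_isPrime _ _⟩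
    have hsP : s ∈ P.asIdeal := hsM
    have hbP : b ∉ P.asIdeal := by
      intro h
      exact hM.ne_top (Ideal.eq_top_of_isUnit_mem _ h (IsLocalization.Away.algebraMap_isUnit b))
    have hPm : P.asIdeal ≤ m := by
      by_contra h
      exact hbP (hbQ P h)
    exact hs (hPm hsP)

end Groth.Agent.S14738
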