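import Groth.Statements.S14743

set_option autoImplicit false
universe u
open CategoryTheory MonoidalCategory CartesianMonoidalCategory MonObj GrpObj AlgebraicGeometry
open AlgGrp

namespace Groth.Agent.S14743

/-- Over an algebraically closed field k let L, G, B be commutative k-group schemes, i : L → G and π : G
→ B homomorphisms with i the kernel of π, and suppose that every k-morphism B × B → L is constant
(factors through a k-point of L). If π admits a section which is a morphism of k-schemes, then it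
admits a section which is a homomorphism, so the extension splits. (The published statement is for
algebraic groups, that is, of finite type over k; finiteness plays no role and is not assumed here.) -/
theorem result (k : Type u) [Field k] [IsAlgClosed k]
    (L G B : Over (Spec (CommRingCat.of k))) [GrpObj L] [GrpObj G] [GrpObj B]
    [IsCommMonObj L] [IsCommMonObj G] [IsCommMonObj B]
    (i : L ⟶ G) [IsMonHom i] (π : G ⟶ B) [IsMonHom π] (hker : AlgGrp.IsKernel i π)
    (hconst : ∀ f : B ⊗ B ⟶ L, ∃ l : 𝟙_ (Over (Spec (CommRingCat.of k))) ⟶ L, f = toUnit (B ⊗ B) ≫ l)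
    (s : B ⟶ G) (hs : s ≫ π = 𝟙 B) :
    ∃ s' : B ⟶ G, IsMonHom s' ∧ s' ≫ π = 𝟙 B := by
  classical
  set u : B ⟶ G := toUnit B ≫ η[B] ≫ s with hu
  set s' : B ⟶ G := s * u⁻¹ with hs'
  have hπu : u ≫ π = 1 := by
    rw [hu, Category.assoc, Category.assoc, hs, Category.comp_id, Hom.one_def]
  have hs'π : s' ≫ π = 𝟙 B := by
    rw [hs', MonObj.mul_comp, GrpObj.inv_comp, hπu, hs, inv_one, _root_.mul_one]
  have hηs' : η[B] ≫ s' = 1 := by
    rw [hs', MonObj.comp_mul, GrpObj.comp_inv, hu]
    have : η[B] ≫ toUnit B ≫ η[B] ≫ s = η[B] ≫ s := by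
      rw [← Category.assoc, toUnit_unique (η[B] ≫ toUnit B) (𝟙 _), Category.id_comp]
    rw [this, mul_inv_cancel]
  -- the cocycle
  set a : B ⊗ B ⟶ G := μ[B] ≫ s' with ha
  set b : B ⊗ B ⟶ G := snd B B ≫ s' with hb
  set d : B ⊗ B ⟶ G := fst B B ≫ s' with hd
  set c : B ⊗ B ⟶ G := a * b⁻¹ * d⁻¹ with hc
  have hμ : (μ[B] : B ⊗ B ⟶ B) = fst B B * snd B B := by
    rw [Hom.mul_def, lift_fst_snd, Category.id_comp]
  have hcπ : c ≫ π = toUnit (B ⊗ B) ≫ η[B] := by
    rw [hc, MonObj.mul_comp, MonObj.mul_comp, GrpObj.inv_comp, GrpObj.inv_comp, ha, hb, hd,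
      Category.assoc, Category.assoc, Category.assoc, hs'π, Category.comp_id, Category.comp_id,
      Category.comp_id, hμ, ← Hom.one_def]
    group
  obtain ⟨l, hl⟩ := hconst (hker.lift c (toUnit _) hcπ)
  have hfi : hker.lift c (toUnit _) hcπ ≫ i = c := hker.lift_fst _ _ _
  have hc2 : c = toUnit (B ⊗ B) ≫ l ≫ i := by
    rw [← hfi, hl, Category.assoc]
  set e : 𝟙_ (Over (Spec (CommRingCat.of k))) ⟶ B ⊗ B := lift η[B] η[B] with he
  have heμ : e ≫ μ[B] = η[B] := by
    rw [he, ← Hom.mul_def]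
    have : (η[B] : 𝟙_ (Over (Spec (CommRingCat.of k))) ⟶ B) = 1 := by
      rw [Hom.one_def, toUnit_unique (toUnit _) (𝟙 _), Category.id_comp]
    rw [this, _root_.mul_one]
  have hec : e ≫ c = 1 := by
    rw [hc, MonObj.comp_mul, MonObj.comp_mul, GrpObj.comp_inv, GrpObj.comp_inv, ha, hb, hd,
      ← Category.assoc, ← Category.assoc, ← Category.assoc, heμ, he, lift_snd, lift_fst, hηs']
    group
  have hli : l ≫ i = 1 := by
    rw [← hec, hc2, ← Category.assoc, toUnit_unique (e ≫ toUnit _) (𝟙 _), Category.id_comp]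
  have hc1 : c = 1 := by
    rw [hc2, hli, MonObj.comp_one]
  have hmul : a = d * b := by
    have h1 : a * b⁻¹ * d⁻¹ = 1 := by rw [← hc, hc1]
    have h2 : a * b⁻¹ = d := by
      rw [mul_inv_eq_one] at h1; exact h1
    rw [← h2, inv_mul_cancel_right]
  refine ⟨s', ⟨?_, ?_⟩, hs'π⟩
  · rw [hηs', Hom.one_def, toUnit_unique (toUnit _) (𝟙 _), Category.id_comp]
  · change μ[B] ≫ s' = (s' ⊗ₘ s') ≫ μ[G]
    rw [← lift_fst_comp_snd_comp, ← Hom.mul_def]
    exact hmul

end Groth.Agent.S14743
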