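import Mathlib
import Groth.Statements.S14768
-- import your own Groth.Agent.* helpers here

set_option autoImplicit false
universe u
open CategoryTheory CategoryTheory.Limits AlgebraicGeometry
open Subtr

namespace Groth.Agent.S14768

open IsLocalRing


/-- Let f : X ⟶ Y be any morphism of schemes. Then every base change of f has the lifting property for
ordered pairs of points if and only if this holds for the base changes X ×_Y Spec V ⟶ Spec V along
all morphisms Spec V ⟶ Y with V a valuation ring. (The published statement is about universally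
subtrusive morphisms and assumes f universally submersive for the constructible topologies; the
lifting property alone descends from valuation rings with the same proof, and for quasi-compact f
the two statements agree.) -/
theorem result {X Y : Scheme.{u}} (f : X ⟶ Y) :
    Subtr.UnivSSubtrusive f ↔
      ∀ (V : Type u) [CommRing V] [IsDomain V] [ValuationRing V] (g : Spec (CommRingCat.of V) ⟶ Y),
        Subtr.IsSSubtrusive (pullback.snd f g) := by
  constructor
  · intro hf V _ _ _ g
    exact hf _ _ _ (IsPullback.of_hasPullback f g).flip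
  · intro hV T' T i₁ i₂ f' hpb t t' h
    obtain ⟨φ, hφ⟩ : ∃ φ : T.presheaf.stalk t ⟶ T.residueField t',
        φ = T.presheaf.stalkSpecializes h ≫ T.residue t' := ⟨_, rfl⟩
    obtain ⟨A, hA, hA_local⟩ := exists_factor_valuationRing φ.hom
    obtain ⟨ψ, hψ⟩ : ∃ ψ : T.presheaf.stalk t ⟶ CommRingCat.of A,
        ψ = CommRingCat.ofHom (φ.hom.codRestrict _ hA) := ⟨_, rfl⟩
    obtain ⟨γ, hγ⟩ : ∃ γ : Spec (CommRingCat.of A) ⟶ T, γ = Spec.map ψ ≫ T.fromSpecStalk t :=
      ⟨_, rfl⟩
    have hcl : γ.base (closedPoint A) = t := by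
      rw [hγ, Scheme.Hom.comp_apply]
      have : Spec.map ψ (closedPoint A) = closedPoint (T.presheaf.stalk t) := by
        rw [hψ]
        exact comap_closedPoint (S := A) (φ.hom.codRestrict A.toSubring hA)
      rw [this, T.fromSpecStalk_closedPoint]
    have hη : Spec.map (CommRingCat.ofHom (algebraMap A (T.residueField t'))) ≫ γ =
        T.fromSpecResidueField t' := by
      rw [hγ, ← Category.assoc, ← Spec.map_comp, Scheme.fromSpecResidueField,
        ← Scheme.SpecMap_stalkSpecializes_fromSpecStalk h, ← Category.assoc, ← Spec.map_comp]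
      congr 2
      rw [hψ, ← hφ]
      rfl
    obtain ⟨g₀, hg₀⟩ : ∃ g₀ : ↥(Spec (CommRingCat.of A)),
        g₀ = (Spec.map (CommRingCat.ofHom (algebraMap A (T.residueField t')))).base
          (closedPoint (T.residueField t')) := ⟨_, rfl⟩
    have hgen : γ.base g₀ = t' := by
      rw [hg₀, ← Scheme.Hom.comp_apply, hη, Scheme.fromSpecResidueField_apply]
    have hsp : g₀ ⤳ closedPoint A := IsLocalRing.specializes_closedPoint g₀
    obtain ⟨z, z', hzz, hz, hz'⟩ := hV A (γ ≫ i₂) hsp
    obtain ⟨θ, hθ⟩ : ∃ θ : pullback f (γ ≫ i₂) ⟶ T',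
        θ = hpb.lift (pullback.snd f (γ ≫ i₂) ≫ γ) (pullback.fst f (γ ≫ i₂))
          (by rw [Category.assoc, ← pullback.condition]) := ⟨_, rfl⟩
    have hθf : θ ≫ f' = pullback.snd f (γ ≫ i₂) ≫ γ := by rw [hθ, hpb.lift_fst]
    refine ⟨θ.base z, θ.base z', hzz.map θ.continuous, ?_, ?_⟩
    · rw [← Scheme.Hom.comp_apply, hθf, Scheme.Hom.comp_apply, hz, hcl]
    · rw [← Scheme.Hom.comp_apply, hθf, Scheme.Hom.comp_apply, hz', hgen]

end Groth.Agent.S14768
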