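import Mathlib
import Groth.Statements.S14769
import Groth.Agent.S14768
-- import your own Groth.Agent.* helpers here

set_option autoImplicit false
universe u
open CategoryTheory CategoryTheory.Limits AlgebraicGeometry
open Subtr

namespace Groth.Agent.S14769

open IsLocalRing

theorem comap_surj_of_valuationRing {V A : Type u} [CommRing V] [IsDomain V] [ValuationRing V]
    [CommRing A] [IsDomain A] [IsLocalRing A] (β : V →+* A) [hloc : IsLocalHom β]
    (hinj : Function.Injective β) :
    Function.Surjective (PrimeSpectrum.comap β) := by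
  algebraize [β]
  haveI : Module.Flat V A := by
    rw [Module.Flat.flat_iff_torsion_eq_bot_of_isBezout, eq_bot_iff]
    intro a ha
    rw [Submodule.mem_torsion_iff] at ha
    obtain ⟨⟨r, hr⟩, h⟩ := ha
    have h' : β r * a = 0 := by
      have : r • a = 0 := h
      rwa [Algebra.smul_def] at this
    have hr0 : r ≠ 0 := nonZeroDivisors.ne_zero hr
    have hβr : β r ≠ 0 := fun h0 => hr0 (hinj (by rw [h0, map_zero]))
    rcases mul_eq_zero.mp h' with h1 | h1
    · exact absurd h1 hβr
    · rw [h1]; exact Submodule.zero_mem _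
  haveI : IsLocalHom (algebraMap V A) := hloc
  haveI := Module.FaithfullyFlat.of_flat_of_isLocalHom (A := V) (B := A)
  exact PrimeSpectrum.comap_surjective_of_faithfullyFlat


/-- Let f : X ⟶ Y be any morphism of schemes. Then every base change of f has the lifting property for
ordered pairs of points if and only if, for every valuation ring V and morphism g : Spec V ⟶ Y,
there are a valuation ring V', a morphism a : Spec V' ⟶ X and a surjective morphism b : Spec V' ⟶
Spec V with a ≫ f = b ≫ g. (The published statement assumes f universally submersive for the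
constructible topologies and concludes universal subtrusiveness; for quasi-compact f the two agree.) -/
theorem result {X Y : Scheme.{u}} (f : X ⟶ Y) :
    Subtr.UnivSSubtrusive f ↔
      ∀ (V : Type u) [CommRing V] [IsDomain V] [ValuationRing V] (g : Spec (CommRingCat.of V) ⟶ Y),
        ∃ (V' : Type u) (_ : CommRing V') (_ : IsDomain V') (_ : ValuationRing V')
          (a : Spec (CommRingCat.of V') ⟶ X) (b : Spec (CommRingCat.of V') ⟶ Spec (CommRingCat.of V)),
          Surjective b ∧ a ≫ f = b ≫ g := by
  constructor
  · intro hf V _ _ _ g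
    have hS : Subtr.IsSSubtrusive (pullback.snd f g) :=
      hf _ _ _ (IsPullback.of_hasPullback f g).flip
    obtain ⟨η, hηdef⟩ : ∃ η : ↥(Spec (CommRingCat.of V)),
        η = (⟨⊥, Ideal.isPrime_bot⟩ : PrimeSpectrum V) := ⟨_, rfl⟩
    have hηs : η ⤳ closedPoint V := IsLocalRing.specializes_closedPoint (R := V) η
    obtain ⟨t, t', h, ht, ht'⟩ := hS hηs
    obtain ⟨T, hT⟩ : ∃ T : Scheme.{u}, T = pullback f g := ⟨_, rfl⟩
    subst hT
    obtain ⟨φ, hφ⟩ : ∃ φ : (pullback f g).presheaf.stalk t ⟶ (pullback f g).residueField t',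
        φ = (pullback f g).presheaf.stalkSpecializes h ≫ (pullback f g).residue t' := ⟨_, rfl⟩
    obtain ⟨A, hA, hA_local⟩ := exists_factor_valuationRing φ.hom
    obtain ⟨ψ, hψ⟩ : ∃ ψ : (pullback f g).presheaf.stalk t ⟶ CommRingCat.of A,
        ψ = CommRingCat.ofHom (φ.hom.codRestrict _ hA) := ⟨_, rfl⟩
    obtain ⟨γ, hγ⟩ : ∃ γ : Spec (CommRingCat.of A) ⟶ pullback f g,
        γ = Spec.map ψ ≫ (pullback f g).fromSpecStalk t := ⟨_, rfl⟩
    have hcl : γ.base (closedPoint A) = t := by
      rw [hγ, Scheme.Hom.comp_apply]
      have : Spec.map ψ (closedPoint A) = closedPoint ((pullback f g).presheaf.stalk t) := by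
        rw [hψ]
        exact comap_closedPoint (S := A) (φ.hom.codRestrict A.toSubring hA)
      rw [this, (pullback f g).fromSpecStalk_closedPoint]
    have hη : Spec.map (CommRingCat.ofHom (algebraMap A ((pullback f g).residueField t'))) ≫ γ =
        (pullback f g).fromSpecResidueField t' := by
      rw [hγ, ← Category.assoc, ← Spec.map_comp, Scheme.fromSpecResidueField,
        ← Scheme.SpecMap_stalkSpecializes_fromSpecStalk h, ← Category.assoc, ← Spec.map_comp]
      congr 2
      rw [hψ, ← hφ]
      rfl
    obtain ⟨g₀, hg₀⟩ : ∃ g₀ : ↥(Spec (CommRingCat.of A)),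
        g₀ = (Spec.map (CommRingCat.ofHom (algebraMap A ((pullback f g).residueField t')))).base
          (closedPoint ((pullback f g).residueField t')) := ⟨_, rfl⟩
    have hgen : γ.base g₀ = t' := by
      rw [hg₀, ← Scheme.Hom.comp_apply, hη, Scheme.fromSpecResidueField_apply]
    obtain ⟨b, hb⟩ : ∃ b : Spec (CommRingCat.of A) ⟶ Spec (CommRingCat.of V),
        b = γ ≫ pullback.snd f g := ⟨_, rfl⟩
    refine ⟨A, inferInstance, inferInstance, inferInstance, γ ≫ pullback.fst f g, b, ?_, ?_⟩
    swap
    · rw [hb, Category.assoc, Category.assoc, pullback.condition]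
    have hbcl : b.base (closedPoint A) = closedPoint V := by
      rw [hb, Scheme.Hom.comp_apply, hcl, ht]
    have hbgen : b.base g₀ = η := by
      rw [hb, Scheme.Hom.comp_apply, hgen, ht']
    obtain ⟨β, hβ⟩ := Spec.map_surjective b
    haveI hloc : IsLocalHom β.hom := by
      rw [IsLocalRing.isLocalHom_iff_comap_closedPoint]
      rw [← hβ] at hbcl
      exact hbcl
    have hinj : Function.Injective β.hom := by
      rw [injective_iff_map_eq_zero]
      intro v hv
      have h1 : v ∈ (b.base g₀).asIdeal := by
        rw [← hβ, hg₀]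
        show v ∈ Ideal.comap β.hom (Ideal.comap (algebraMap A ((pullback f g).residueField t'))
          (closedPoint ((pullback f g).residueField t')).asIdeal)
        rw [Ideal.mem_comap, Ideal.mem_comap, hv, map_zero]
        exact Ideal.zero_mem _
      rw [hbgen, hηdef] at h1
      exact h1
    refine ⟨fun p => ?_⟩
    obtain ⟨q, hq⟩ := comap_surj_of_valuationRing β.hom hinj p
    refine ⟨q, ?_⟩
    rw [← hβ]
    exact hq
  · intro hcond
    rw [Groth.Agent.S14768.result]
    intro V _ _ _ g y y' h
    obtain ⟨V', _, _, _, a, b, hb, hab⟩ := hcond V g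
    obtain ⟨q, hq⟩ := hb.surj y
    obtain ⟨q', hq'⟩ := hb.surj y'
    obtain ⟨θ, hθ⟩ : ∃ θ : Spec (CommRingCat.of V') ⟶ pullback f g,
        θ = pullback.lift a b hab := ⟨_, rfl⟩
    have hθs : θ ≫ pullback.snd f g = b := by rw [hθ, pullback.lift_snd]
    have key : ∀ z : ↥(Spec (CommRingCat.of V')), (pullback.snd f g).base (θ.base z) = b.base z := by
      intro z
      rw [← Scheme.Hom.comp_apply, hθs]
    have htot := (ValuationRing.le_total_ideal (A := V')).total
      (PrimeSpectrum.asIdeal (R := V') q') (PrimeSpectrum.asIdeal (R := V') q)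
    rcases htot with h1 | h1
    · have hsp : q' ⤳ q := (PrimeSpectrum.le_iff_specializes (R := V') q' q).mp h1
      refine ⟨θ.base q, θ.base q', hsp.map θ.continuous, ?_, ?_⟩
      · rw [key, hq]
      · rw [key, hq']
    · have hsp : q ⤳ q' := (PrimeSpectrum.le_iff_specializes (R := V') q q').mp h1
      have h2 : y ⤳ y' := by
        have := hsp.map b.continuous
        rwa [hq, hq'] at this
      have heq : y = y' := (h2.antisymm h).eq
      refine ⟨θ.base q, θ.base q, specializes_rfl, ?_, ?_⟩
      · rw [key, hq]
      · rw [key, hq, heq]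

end Groth.Agent.S14769
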