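import Mathlib
import Groth.Statements.S14765
import Groth.Agent.S14769
-- import your own Groth.Agent.* helpers here

set_option autoImplicit false
universe u
open CategoryTheory CategoryTheory.Limits AlgebraicGeometry
open Subtr

namespace Groth.Agent.S14765

open IsLocalRing

theorem univSSub_of_flat_surj {X Y Z : Scheme.{u}} (i : Z ⟶ X) (f : X ⟶ Y)
    [Flat (i ≫ f)] [Surjective (i ≫ f)] : Subtr.UnivSSubtrusive f := by
  intro X' T i₁ i₂ f' hpb y y' h
  obtain ⟨z, hz⟩ := (pullback.snd (i ≫ f) i₂).surjective y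
  have hgen := Flat.generalizingMap (pullback.snd (i ≫ f) i₂)
  have hy : y' ⤳ (pullback.snd (i ≫ f) i₂) z := by rw [hz]; exact h
  obtain ⟨z', hz'z, hz'⟩ := hgen hy
  obtain ⟨θ, hθ⟩ : ∃ θ : pullback (i ≫ f) i₂ ⟶ X',
      θ = hpb.lift (pullback.snd (i ≫ f) i₂) (pullback.fst (i ≫ f) i₂ ≫ i)
        (by rw [Category.assoc, pullback.condition]) := ⟨_, rfl⟩
  have hθf : θ ≫ f' = pullback.snd (i ≫ f) i₂ := by rw [hθ, hpb.lift_fst]
  have key : ∀ w, f'.base (θ.base w) = (pullback.snd (i ≫ f) i₂).base w := by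
    intro w
    rw [← Scheme.Hom.comp_apply, hθf]
  refine ⟨θ.base z, θ.base z', hz'z.map θ.continuous, ?_, ?_⟩
  · rw [key]; exact hz
  · rw [key]; exact hz'

theorem flat_of_valuationRing {V B : Type u} [CommRing V] [IsDomain V] [ValuationRing V]
    [CommRing B] (β : V →+* B) (h : ∀ v : V, v ≠ 0 → ∀ b : B, β v * b = 0 → b = 0) : β.Flat := by
  algebraize [β]
  have : Module.Flat V B := by
    rw [Module.Flat.flat_iff_torsion_eq_bot_of_isBezout, eq_bot_iff]
    intro a ha
    rw [Submodule.mem_torsion_iff] at ha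
    obtain ⟨⟨r, hr⟩, h0⟩ := ha
    have h' : β r * a = 0 := by
      have : r • a = 0 := h0
      rwa [Algebra.smul_def] at this
    have hr0 : r ≠ 0 := nonZeroDivisors.ne_zero hr
    rw [h r hr0 a h']
    exact Submodule.zero_mem _
  exact RingHom.flat_algebraMap_iff.mpr this

theorem flat_of_surj_valRing {V W : Type u} [CommRing V] [IsDomain V] [ValuationRing V]
    [CommRing W] [IsDomain W] (b : Spec (CommRingCat.of W) ⟶ Spec (CommRingCat.of V))
    [Surjective b] : Flat b := by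
  obtain ⟨β, rfl⟩ := Spec.map_surjective b
  rw [HasRingHomProperty.Spec_iff (P := @Flat)]
  have hinj : Function.Injective β.hom := by
    rw [injective_iff_map_eq_zero]
    intro v hv
    obtain ⟨q, hq⟩ := (Spec.map β).surjective (⟨⊥, Ideal.isPrime_bot⟩ : PrimeSpectrum V)
    have h1 : v ∈ ((Spec.map β).base q).asIdeal := by
      show v ∈ Ideal.comap β.hom q.asIdeal
      rw [Ideal.mem_comap, hv]; exact Ideal.zero_mem _
    have hq' : (Spec.map β).base q = (⟨⊥, Ideal.isPrime_bot⟩ : PrimeSpectrum V) := hq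
    rw [hq'] at h1
    exact h1
  apply flat_of_valuationRing
  intro v hv b hb
  have hβv : β.hom v ≠ 0 := fun h0 => hv (hinj (by rw [h0, map_zero]))
  rcases mul_eq_zero.mp hb with h1 | h1
  · exact absurd h1 hβv
  · exact h1

theorem exists_gen_of_mem_closure {V B : Type u} [CommRing V] [IsDomain V] [CommRing B]
    (φ : V →+* B) (p : PrimeSpectrum B)
    (hp : p ∈ closure ((PrimeSpectrum.comap φ) ⁻¹'
      {(⟨⊥, Ideal.isPrime_bot⟩ : PrimeSpectrum V)})) :
    ∃ q : PrimeSpectrum B, q ⤳ p ∧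
      PrimeSpectrum.comap φ q = (⟨⊥, Ideal.isPrime_bot⟩ : PrimeSpectrum V) := by
  have h1p : (1 : B) ∉ p.asIdeal := (Ideal.ne_top_iff_one _).mp p.2.ne_top
  by_cases h : ∀ (π : V) (u : B), π ≠ 0 → u ∉ p.asIdeal → u * φ π ≠ 0
  · let M : Submonoid B :=
      { carrier := {b | ∃ u π, u ∉ p.asIdeal ∧ π ≠ 0 ∧ b = u * φ π}
        one_mem' := ⟨1, 1, h1p, one_ne_zero, by simp⟩
        mul_mem' := by
          rintro _ _ ⟨u, π, hu, hπ, rfl⟩ ⟨u', π', hu', hπ', rfl⟩
          refine ⟨u * u', π * π', ?_, mul_ne_zero hπ hπ', by rw [map_mul]; ring⟩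
          intro hmem
          rcases p.2.mem_or_mem hmem with h2 | h2
          · exact hu h2
          · exact hu' h2 }
    have hdisj : Disjoint ((⊥ : Ideal B) : Set B) (M : Set B) := by
      rw [Set.disjoint_left]
      rintro b hb ⟨u, π, hu, hπ, rfl⟩
      exact h π u hπ hu ((Ideal.mem_bot).mp hb)
    obtain ⟨q, hq, _, hqM⟩ := Ideal.exists_le_prime_disjoint ⊥ M hdisj
    refine ⟨⟨q, hq⟩, ?_, ?_⟩
    · rw [← PrimeSpectrum.le_iff_specializes]
      intro b hb
      by_contra hbp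
      exact Set.disjoint_left.mp hqM hb ⟨b, 1, hbp, one_ne_zero, by simp⟩
    · apply PrimeSpectrum.ext
      show Ideal.comap φ q = ⊥
      rw [eq_bot_iff]
      intro π hπ
      rw [Ideal.mem_bot]
      by_contra hne
      exact Set.disjoint_left.mp hqM (Ideal.mem_comap.mp hπ) ⟨1, π, h1p, hne, by simp⟩
  · push_neg at h
    obtain ⟨π, u, hπ, hu, hzero⟩ := h
    have hpu : p ∈ (PrimeSpectrum.basicOpen u : Set (PrimeSpectrum B)) := hu
    obtain ⟨q, hqu, hqη⟩ := mem_closure_iff.mp hp _ (PrimeSpectrum.basicOpen u).isOpen hpu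
    exfalso
    have hqu' : u ∉ q.asIdeal := hqu
    have hqη' : PrimeSpectrum.comap φ q = (⟨⊥, Ideal.isPrime_bot⟩ : PrimeSpectrum V) := hqη
    have h0 : u * φ π ∈ q.asIdeal := by rw [hzero]; exact Ideal.zero_mem _
    rcases q.2.mem_or_mem h0 with h2 | h2
    · exact hqu' h2
    · have h3 : π ∈ (PrimeSpectrum.comap φ q).asIdeal := h2
      rw [hqη'] at h3
      exact hπ ((Ideal.mem_bot).mp h3)

theorem gen_of_closure_affine {V : Type u} [CommRing V] [IsDomain V] {X : Scheme.{u}}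
    (f : X ⟶ Spec (CommRingCat.of V)) {R : CommRingCat.{u}} (j : Spec R ⟶ X) [IsOpenImmersion j]
    (x₀ : ↥(Spec R))
    (hx : j.base x₀ ∈ closure (f.base ⁻¹' {(⟨⊥, Ideal.isPrime_bot⟩ : PrimeSpectrum V)})) :
    ∃ x' : X, x' ⤳ j.base x₀ ∧ f.base x' = (⟨⊥, Ideal.isPrime_bot⟩ : PrimeSpectrum V) := by
  have h1 : x₀ ∈ j.base ⁻¹' closure (f.base ⁻¹' {(⟨⊥, Ideal.isPrime_bot⟩ : PrimeSpectrum V)}) := hx
  rw [j.isOpenEmbedding.isOpenMap.preimage_closure_eq_closure_preimage j.continuous] at h1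
  obtain ⟨φ, hφ⟩ := Spec.map_surjective (j ≫ f)
  have h2 : j.base ⁻¹' (f.base ⁻¹' {(⟨⊥, Ideal.isPrime_bot⟩ : PrimeSpectrum V)}) =
      (PrimeSpectrum.comap φ.hom) ⁻¹' {(⟨⊥, Ideal.isPrime_bot⟩ : PrimeSpectrum V)} := by
    ext z
    simp only [Set.mem_preimage, Set.mem_singleton_iff]
    rw [← Scheme.Hom.comp_apply, ← hφ]
    rfl
  rw [h2] at h1
  obtain ⟨q, hq, hqη⟩ := exists_gen_of_mem_closure φ.hom x₀ h1
  refine ⟨j.base q, hq.map j.continuous, ?_⟩
  rw [← Scheme.Hom.comp_apply, ← hφ]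
  exact hqη

theorem exists_valRing_of_pair {V : Type u} [CommRing V] [IsDomain V] [ValuationRing V]
    {X : Scheme.{u}} (f : X ⟶ Spec (CommRingCat.of V)) (t t' : X) (h : t' ⤳ t)
    (ht : f.base t = closedPoint V)
    (ht' : f.base t' = (⟨⊥, Ideal.isPrime_bot⟩ : PrimeSpectrum V)) :
    ∃ (W : Type u) (_ : CommRing W) (_ : IsDomain W) (_ : ValuationRing W)
      (g : Spec (CommRingCat.of W) ⟶ X), Surjective (g ≫ f) := by
  obtain ⟨φ, hφ⟩ : ∃ φ : X.presheaf.stalk t ⟶ X.residueField t',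
      φ = X.presheaf.stalkSpecializes h ≫ X.residue t' := ⟨_, rfl⟩
  obtain ⟨A, hA, hA_local⟩ := exists_factor_valuationRing φ.hom
  obtain ⟨ψ, hψ⟩ : ∃ ψ : X.presheaf.stalk t ⟶ CommRingCat.of A,
      ψ = CommRingCat.ofHom (φ.hom.codRestrict _ hA) := ⟨_, rfl⟩
  obtain ⟨γ, hγ⟩ : ∃ γ : Spec (CommRingCat.of A) ⟶ X,
      γ = Spec.map ψ ≫ X.fromSpecStalk t := ⟨_, rfl⟩
  have hcl : γ.base (closedPoint A) = t := by
    rw [hγ, Scheme.Hom.comp_apply]
    have : Spec.map ψ (closedPoint A) = closedPoint (X.presheaf.stalk t) := by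
      rw [hψ]
      exact comap_closedPoint (S := A) (φ.hom.codRestrict A.toSubring hA)
    rw [this, X.fromSpecStalk_closedPoint]
  have hη : Spec.map (CommRingCat.ofHom (algebraMap A (X.residueField t'))) ≫ γ =
      X.fromSpecResidueField t' := by
    rw [hγ, ← Category.assoc, ← Spec.map_comp, Scheme.fromSpecResidueField,
      ← Scheme.SpecMap_stalkSpecializes_fromSpecStalk h, ← Category.assoc, ← Spec.map_comp]
    congr 2
    rw [hψ, ← hφ]
    rfl
  obtain ⟨g₀, hg₀⟩ : ∃ g₀ : ↥(Spec (CommRingCat.of A)),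
      g₀ = (Spec.map (CommRingCat.ofHom (algebraMap A (X.residueField t')))).base
        (closedPoint (X.residueField t')) := ⟨_, rfl⟩
  have hgen : γ.base g₀ = t' := by
    rw [hg₀, ← Scheme.Hom.comp_apply, hη, Scheme.fromSpecResidueField_apply]
  obtain ⟨b, hb⟩ : ∃ b : Spec (CommRingCat.of A) ⟶ Spec (CommRingCat.of V),
      b = γ ≫ f := ⟨_, rfl⟩
  refine ⟨A, inferInstance, inferInstance, inferInstance, γ, ?_⟩
  rw [← hb]
  have hbcl : b.base (closedPoint A) = closedPoint V := by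
    rw [hb, Scheme.Hom.comp_apply, hcl, ht]
  have hbgen : b.base g₀ = (⟨⊥, Ideal.isPrime_bot⟩ : PrimeSpectrum V) := by
    rw [hb, Scheme.Hom.comp_apply, hgen, ht']
  obtain ⟨β, hβ⟩ := Spec.map_surjective b
  haveI hloc : IsLocalHom β.hom := by
    rw [IsLocalRing.isLocalHom_iff_comap_closedPoint]
    rw [← hβ] at hbcl
    exact hbcl
  have hinj : Function.Injective β.hom := by
    rw [injective_iff_map_eq_zero]
    intro v hv
    have h1 : v ∈ (b.base g₀).asIdeal := by
      rw [← hβ, hg₀]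
      show v ∈ Ideal.comap β.hom (Ideal.comap (algebraMap A (X.residueField t'))
        (closedPoint (X.residueField t')).asIdeal)
      rw [Ideal.mem_comap, Ideal.mem_comap, hv, map_zero]
      exact Ideal.zero_mem _
    rw [hbgen] at h1
    exact h1
  refine ⟨fun p => ?_⟩
  obtain ⟨q, hq⟩ := Groth.Agent.S14769.comap_surj_of_valuationRing β.hom hinj p
  refine ⟨q, ?_⟩
  rw [← hβ]
  exact hq


theorem exists_flat_closed {V : Type u} [CommRing V] [IsDomain V] [ValuationRing V]
    {X : Scheme.{u}} (f : X ⟶ Spec (CommRingCat.of V)) (x x' : X) (h : x' ⤳ x)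
    (hx : f.base x = closedPoint V)
    (hx' : f.base x' = (⟨⊥, Ideal.isPrime_bot⟩ : PrimeSpectrum V)) :
    ∃ (Z : Scheme.{u}) (i : Z ⟶ X), IsClosedImmersion i ∧ Flat (i ≫ f) ∧ Surjective (i ≫ f) := by
  haveI : IsDomain ↑(X.residueField x') :=
    inferInstanceAs (IsDomain (IsLocalRing.ResidueField (X.presheaf.stalk x')))
  haveI : IsNoetherianRing ↑(X.residueField x') :=
    inferInstanceAs (IsNoetherianRing (IsLocalRing.ResidueField (X.presheaf.stalk x')))
  obtain ⟨ι, hι⟩ : ∃ ι : Spec (X.residueField x') ⟶ X, ι = X.fromSpecResidueField x' := ⟨_, rfl⟩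
  haveI : QuasiCompact ι := inferInstance
  have hιpt : ∀ pt, ι.base pt = x' := by
    intro pt
    rw [hι]
    exact Scheme.fromSpecResidueField_apply x' pt
  have hflat : Flat (ι.imageι ≫ f) := by
    rw [IsZariskiLocalAtSource.iff_of_openCover (P := @Flat) ι.ker.subschemeCover.openCover]
    change ∀ U : X.affineOpens, Flat (ι.ker.subschemeCover.f U ≫ ι.ker.subschemeι ≫ f)
    intro U
    obtain ⟨φ, hφ⟩ := Spec.map_surjective (U.2.fromSpec ≫ f)
    have e1 : ι.ker.subschemeCover.f U ≫ ι.ker.subschemeι ≫ f =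
        Spec.map (φ ≫ CommRingCat.ofHom (Ideal.Quotient.mk (ι.ker.ideal U))) := by
      rw [Spec.map_comp, hφ, ← Category.assoc, ← Category.assoc,
        Scheme.IdealSheafData.subschemeCover_map_subschemeι,
        Scheme.IdealSheafData.glueDataObjι_ι]
      rfl
    suffices hsuff : Flat (Spec.map (φ ≫ CommRingCat.ofHom (Ideal.Quotient.mk (ι.ker.ideal U)))) by
      rw [e1]; exact hsuff
    rw [HasRingHomProperty.Spec_iff (P := @Flat)]
    apply flat_of_valuationRing
    intro v hv b hb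
    obtain ⟨b₀, rfl⟩ := Ideal.Quotient.mk_surjective b
    have hb' : φ.hom v * b₀ ∈ ι.ker.ideal U := by
      rw [← Ideal.Quotient.eq_zero_iff_mem, map_mul]
      exact hb
    rw [Scheme.Hom.ker_apply, RingHom.mem_ker, map_mul] at hb'
    rw [Ideal.Quotient.eq_zero_iff_mem, Scheme.Hom.ker_apply, RingHom.mem_ker]
    rw [← AlgebraicGeometry.basicOpen_eq_bot_iff, ← TopologicalSpace.Opens.not_nonempty_iff_eq_bot]
    rintro ⟨pt, hpt⟩
    have hptU : pt ∈ ι ⁻¹ᵁ U.1 := Scheme.basicOpen_le _ _ hpt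
    have hx'U : x' ∈ U.1 := by
      have : ι.base pt ∈ U.1 := hptU
      rwa [hιpt] at this
    have hp' : U.2.fromSpec.base (U.2.primeIdealOf ⟨x', hx'U⟩) = x' :=
      U.2.fromSpec_primeIdealOf ⟨x', hx'U⟩
    have hφv : φ.hom v ∉ (U.2.primeIdealOf ⟨x', hx'U⟩).asIdeal := by
      intro hmem
      have h1 : v ∈ ((Spec.map φ).base (U.2.primeIdealOf ⟨x', hx'U⟩)).asIdeal := hmem
      rw [hφ, Scheme.Hom.comp_apply, hp', hx'] at h1
      exact hv ((Ideal.mem_bot).mp h1)
    have h2 : U.2.primeIdealOf ⟨x', hx'U⟩ ∈ U.2.fromSpec ⁻¹ᵁ X.basicOpen (φ.hom v) := by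
      rw [U.2.fromSpec_preimage_basicOpen]
      exact hφv
    have h3 : x' ∈ X.basicOpen (φ.hom v) := by
      have : U.2.fromSpec.base (U.2.primeIdealOf ⟨x', hx'U⟩) ∈ X.basicOpen (φ.hom v) := h2
      rwa [hp'] at this
    have h4 : pt ∈ ι ⁻¹ᵁ X.basicOpen (φ.hom v) := by
      show ι.base pt ∈ X.basicOpen (φ.hom v)
      rw [hιpt]; exact h3
    rw [Scheme.preimage_basicOpen] at h4
    have h5 : pt ∈ (Spec (X.residueField x')).basicOpen
        ((ι.app U.1).hom (φ.hom v) * (ι.app U.1).hom b₀) := by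
      rw [Scheme.basicOpen_mul]
      exact ⟨h4, hpt⟩
    rw [hb', Scheme.basicOpen_zero] at h5
    exact h5
  have hxmem : x ∈ Set.range ι.imageι := by
    rw [Scheme.IdealSheafData.range_subschemeι, Scheme.Hom.support_ker, hι,
      Scheme.range_fromSpecResidueField]
    exact specializes_iff_mem_closure.mp h
  obtain ⟨z, hz⟩ := hxmem
  have hgen := Flat.generalizingMap (ι.imageι ≫ f)
  refine ⟨ι.image, ι.imageι, inferInstance, hflat, ⟨fun y => ?_⟩⟩
  have hy : y ⤳ (ι.imageι ≫ f) z := by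
    have e : (ι.imageι ≫ f) z = closedPoint V := by
      rw [Scheme.Hom.comp_apply, hz]; exact hx
    rw [e]
    exact IsLocalRing.specializes_closedPoint (R := V) y
  obtain ⟨z', -, hz'⟩ := hgen hy
  exact ⟨z', hz'⟩


/-- Let V be a valuation ring and f : X ⟶ Spec V any morphism of schemes. The following are equivalent:
(a) after every base change, every ordered pair of points of the target (a point and a
specialization of it) lifts to an ordered pair of points of the source; (b) every ordered pair of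
points of Spec V lifts to an ordered pair of points of X; (c) every point of Spec V is the image of
a point of X lying in the closure of the generic fibre; (d) the pair formed by the closed point and
the generic point of Spec V lifts to points x, x' of X with x a specialization of x'; (e) there are
a valuation ring W and a morphism Spec W ⟶ X whose composite with f is surjective; (f) there is a
closed subscheme Z of X such that Z ⟶ Spec V is flat and surjective. (The published list also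
contains subtrusiveness and universal subtrusiveness, which add submersiveness for the constructible
topology, and the lifting of arbitrary chains of points; this row omits those items and keeps the
lifting property alone in (a).) -/
theorem result (V : Type u) [CommRing V] [IsDomain V] [ValuationRing V]
    {X : Scheme.{u}} (f : X ⟶ Spec (CommRingCat.of V)) :
    List.TFAE [
      Subtr.UnivSSubtrusive f,
      Subtr.IsSSubtrusive f,
      ∀ y : Spec (CommRingCat.of V), ∃ x : X,
        x ∈ closure (f ⁻¹' {(⟨⊥, Ideal.isPrime_bot⟩ : PrimeSpectrum V)}) ∧ f x = y,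
      ∃ x x' : X, x' ⤳ x ∧ f x = IsLocalRing.closedPoint V ∧
        f x' = (⟨⊥, Ideal.isPrime_bot⟩ : PrimeSpectrum V),
      ∃ (W : Type u) (_ : CommRing W) (_ : IsDomain W) (_ : ValuationRing W)
        (g : Spec (CommRingCat.of W) ⟶ X), Surjective (g ≫ f),
      ∃ (Z : Scheme.{u}) (i : Z ⟶ X), IsClosedImmersion i ∧ Flat (i ≫ f) ∧ Surjective (i ≫ f)] := by
  tfae_have 1 → 2 := fun hf => MorphismProperty.universally_le _ _ hf
  tfae_have 2 → 3 := by
    intro hS y
    have hηy : (⟨⊥, Ideal.isPrime_bot⟩ : PrimeSpectrum V) ⤳ y := by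
      rw [← PrimeSpectrum.le_iff_specializes]
      show (⊥ : Ideal V) ≤ PrimeSpectrum.asIdeal (R := V) y
      exact bot_le
    obtain ⟨x, x', hxx, hx, hx'⟩ := hS hηy
    refine ⟨x, ?_, hx⟩
    have hx'mem : x' ∈ f ⁻¹' {(⟨⊥, Ideal.isPrime_bot⟩ : PrimeSpectrum V)} := hx'
    have h1 : x ∈ closure ({x'} : Set X) := specializes_iff_mem_closure.mp hxx
    exact closure_mono (Set.singleton_subset_iff.mpr hx'mem) h1
  tfae_have 2 → 4 := by
    intro hS
    exact hS (IsLocalRing.specializes_closedPoint (R := V)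
      (⟨⊥, Ideal.isPrime_bot⟩ : PrimeSpectrum V))
  tfae_have 3 → 4 := by
    intro hc
    obtain ⟨x, hxcl, hx⟩ := hc (closedPoint V)
    obtain ⟨i, hi⟩ : ∃ i, i = X.affineOpenCover.idx x := ⟨_, rfl⟩
    have hcov := X.affineOpenCover.covers x
    rw [← hi] at hcov
    obtain ⟨x₀, rfl⟩ := hcov
    obtain ⟨x', hx'x, hx'⟩ := gen_of_closure_affine f (X.affineOpenCover.f i) x₀ hxcl
    exact ⟨_, x', hx'x, hx, hx'⟩
  tfae_have 4 → 5 := by
    rintro ⟨x, x', hxx, hx, hx'⟩
    exact exists_valRing_of_pair f x x' hxx hx hx'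
  tfae_have 5 → 1 := by
    rintro ⟨W, _, _, _, g, hg⟩
    haveI := hg
    haveI : Flat (g ≫ f) := flat_of_surj_valRing (g ≫ f)
    exact univSSub_of_flat_surj g f
  tfae_have 4 → 6 := by
    rintro ⟨x, x', hxx, hx, hx'⟩
    exact exists_flat_closed f x x' hxx hx hx'
  tfae_have 6 → 1 := by
    rintro ⟨Z, i, _, hfl, hsurj⟩
    haveI := hfl
    haveI := hsurj
    exact univSSub_of_flat_surj i f
  tfae_finish

end Groth.Agent.S14765
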