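import Groth.Statements.S14766
import Mathlib

set_option autoImplicit false
universe u
open CategoryTheory CategoryTheory.Limits AlgebraicGeometry
open Subtr

namespace Groth.Agent.S14766

/-- Let V be a discrete valuation ring and f : X ⟶ Spec V any morphism of schemes. Then the underlying
continuous map of f is a quotient map (f is submersive) if and only if every ordered pair of points
of Spec V lifts to an ordered pair of points of X. -/
theorem result (V : Type u) [CommRing V] [IsDomain V]
    [IsDiscreteValuationRing V] {X : Scheme.{u}} (f : X ⟶ Spec (CommRingCat.of V)) :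
    Topology.IsQuotientMap f ↔ Subtr.IsSSubtrusive f := by
  classical
  obtain ⟨ϖ, hϖ⟩ := IsDiscreteValuationRing.exists_irreducible V
  have hmax : IsLocalRing.maximalIdeal V = Ideal.span {ϖ} := hϖ.maximalIdeal_eq
  let Z₀ : Set (PrimeSpectrum V) := PrimeSpectrum.zeroLocus {ϖ}
  have hZ₀mem : ∀ p : PrimeSpectrum V, p ∈ Z₀ ↔ ϖ ∈ p.asIdeal := by
    intro p
    simp [Z₀, PrimeSpectrum.mem_zeroLocus]
  have hZ₀cl : ∀ p : PrimeSpectrum V, p ∈ Z₀ → p = IsLocalRing.closedPoint V := by
    intro p hp
    have h1 : IsLocalRing.maximalIdeal V ≤ p.asIdeal := by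
      rw [hmax, Ideal.span_le, Set.singleton_subset_iff]
      exact (hZ₀mem p).mp hp
    apply PrimeSpectrum.ext
    exact le_antisymm (IsLocalRing.le_maximalIdeal p.2.ne_top) h1
  have hZ₀gen : ∀ p : PrimeSpectrum V, p ∉ Z₀ → p.asIdeal = ⊥ := by
    intro p hp
    by_contra hne
    have hm : p.asIdeal.IsMaximal := p.2.isMaximal hne
    have h1 : p.asIdeal = IsLocalRing.maximalIdeal V := IsLocalRing.eq_maximalIdeal hm
    apply hp
    rw [hZ₀mem, h1, hmax]
    exact Ideal.subset_span rfl
  have hZ₀eq : ∀ p q : PrimeSpectrum V, p ∉ Z₀ → q ∉ Z₀ → p = q := fun p q hp hq =>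
    PrimeSpectrum.ext ((hZ₀gen p hp).trans (hZ₀gen q hq).symm)
  have hZ₀closed : IsClosed Z₀ := PrimeSpectrum.isClosed_zeroLocus _
  constructor
  · intro hq y y' hyy'
    by_cases heq : y' = y
    · obtain ⟨x, hx⟩ := hq.surjective y
      exact ⟨x, x, specializes_rfl, hx, hx.trans heq.symm⟩
    · by_contra hno
      push Not at hno
      have hle : PrimeSpectrum.asIdeal (R := V) y' ≤ PrimeSpectrum.asIdeal (R := V) y :=
        (PrimeSpectrum.le_iff_specializes (R := V) y' y).mpr hyy'
      have hy' : (y' : PrimeSpectrum V) ∉ Z₀ := by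
        intro h
        have h1 := hZ₀cl _ h
        have h2 : (y : PrimeSpectrum V) ∈ Z₀ :=
          (hZ₀mem y).mpr (hle ((hZ₀mem y').mp h))
        exact heq (h1.trans (hZ₀cl _ h2).symm)
      have hy : (y : PrimeSpectrum V) ∈ Z₀ := by
        by_contra h
        exact heq (hZ₀eq _ _ hy' h)
      let Z : Set X := f ⁻¹' Z₀
      have hstab : StableUnderGeneralization Z := by
        intro x x' hx'x hx
        by_contra hx'
        have h1 : f x' = y' := hZ₀eq _ _ hx' hy'
        have h2 : f x = y := (hZ₀cl _ hx).trans (hZ₀cl _ hy).symm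
        exact hno x x' hx'x h2 h1
      have hZopen : IsOpen Z := by
        rw [isOpen_iff_forall_mem_open]
        intro x hx
        obtain ⟨R, j, hj, hxj, -⟩ :=
          AlgebraicGeometry.Scheme.exists_affine_mem_range_and_range_subset
            (X := X) (x := x) (U := ⊤) trivial
        have := hj
        refine ⟨j '' (j ⁻¹' Z), ?_, ?_, ?_⟩
        · rintro _ ⟨w, hw, rfl⟩
          exact hw
        · apply j.isOpenEmbedding.isOpenMap
          let φ := Spec.preimage (j ≫ f)
          have hφ : Spec.map φ = j ≫ f := Spec.map_preimage _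
          have hpre : j ⁻¹' Z = PrimeSpectrum.zeroLocus {φ.hom ϖ} := by
            have h0 : j ⁻¹' Z = (Spec.map φ) ⁻¹' Z₀ := by
              rw [hφ]
              rfl
            rw [h0]
            have h1 := PrimeSpectrum.preimage_comap_zeroLocus φ.hom {ϖ}
            rw [Set.image_singleton] at h1
            exact h1
          rw [hpre]
          apply PrimeSpectrum.isOpen_of_stableUnderGeneralization_of_isConstructible
          · rw [← hpre]
            exact hstab.preimage j.continuous
          · have h2 := (PrimeSpectrum.isConstructible_basicOpen (f := φ.hom ϖ)).compl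
            rwa [PrimeSpectrum.basicOpen_eq_zeroLocus_compl, compl_compl] at h2
        · obtain ⟨w, rfl⟩ := hxj
          exact ⟨w, hx, rfl⟩
      have hZ₀open : IsOpen Z₀ := hq.isCoinducing.isOpen_preimage.mp hZopen
      exact hy' (hyy'.mem_open hZ₀open hy)
  · intro hs
    have hsurj : Function.Surjective f := fun y => by
      obtain ⟨x, x', -, hx, -⟩ := hs (specializes_rfl (x := y))
      exact ⟨x, hx⟩
    refine ⟨Topology.isCoinducing_iff.mpr (fun U => ⟨fun hU => ?_, fun hU =>
      hU.preimage f.continuous⟩), hsurj⟩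
    have hstab : StableUnderGeneralization U := by
      intro y y' hy'y hy
      obtain ⟨x, x', hxx', hx, hx'⟩ := hs hy'y
      have h1 : x ∈ f ⁻¹' U := by
        show f x ∈ U
        rw [hx]
        exact hy
      have h2 : x' ∈ f ⁻¹' U := hxx'.mem_open hU h1
      rw [← hx']
      exact h2
    by_cases hsU : IsLocalRing.closedPoint V ∈ U
    · have h1 : U = Set.univ := Set.eq_univ_of_forall fun p =>
        hstab (IsLocalRing.specializes_closedPoint p) hsU
      rw [h1]
      exact isOpen_univ
    · have hsub : U ⊆ Z₀ᶜ := fun p hp hpZ => hsU (hZ₀cl p hpZ ▸ hp)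
      rcases U.eq_empty_or_nonempty with hemp | ⟨p, hp⟩
      · rw [hemp]
        exact isOpen_empty
      · have h1 : U = Z₀ᶜ := Set.Subset.antisymm hsub
          (fun q hq => (hZ₀eq p q (hsub hp) hq) ▸ hp)
        rw [h1]
        exact hZ₀closed.isOpen_compl

end Groth.Agent.S14766
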