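import Mathlib
import Groth.Statements.S14767
-- import your own Groth.Agent.* helpers here

set_option autoImplicit false
universe u
open CategoryTheory CategoryTheory.Limits AlgebraicGeometry
open Subtr

namespace Groth.Agent.S14767

open IsLocalRing

section
variable {X Y : Scheme.{u}} (f : X ⟶ Y)
  (hV : ∀ (V : Type u) [CommRing V] [IsDomain V] [ValuationRing V] (g : Spec (CommRingCat.of V) ⟶ Y),
        Topology.IsQuotientMap (pullback.snd f g))

include hV in
theorem surj_of_hV {T XT : Scheme.{u}} (i₁ : XT ⟶ X) (i₂ : T ⟶ Y) (fT : XT ⟶ T)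
    (hpb : IsPullback fT i₁ i₂ f) : Function.Surjective fT.base := by
  intro t
  have hd : @IsDomain (T.residueField t) (T.residueField t).commRing.toCommSemiring.toSemiring :=
    @Field.isDomain (T.residueField t) inferInstance
  have hv : @ValuationRing (T.residueField t) (T.residueField t).commRing hd :=
    @ValuationRing.of_field (T.residueField t) inferInstance
  have hq0 : Topology.IsQuotientMap (pullback.snd f (T.fromSpecResidueField t ≫ i₂)) :=
    @hV (T.residueField t) (T.residueField t).commRing hd hv (T.fromSpecResidueField t ≫ i₂)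
  obtain ⟨z, hz⟩ := hq0.surjective (closedPoint (T.residueField t))
  obtain ⟨θ, hθ⟩ : ∃ θ : pullback f (T.fromSpecResidueField t ≫ i₂) ⟶ XT,
      θ = hpb.lift (pullback.snd f (T.fromSpecResidueField t ≫ i₂) ≫ T.fromSpecResidueField t)
        (pullback.fst f (T.fromSpecResidueField t ≫ i₂))
        (by rw [Category.assoc, ← pullback.condition]) := ⟨_, rfl⟩
  have hθf : θ ≫ fT = pullback.snd f (T.fromSpecResidueField t ≫ i₂) ≫
      T.fromSpecResidueField t := by rw [hθ, hpb.lift_fst]
  refine ⟨θ.base z, ?_⟩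
  have h0 : (θ ≫ fT).base z = (pullback.snd f (T.fromSpecResidueField t ≫ i₂) ≫
      T.fromSpecResidueField t).base z := by rw [hθf]
  rw [Scheme.Hom.comp_apply, Scheme.Hom.comp_apply] at h0
  rw [h0]
  have hz' : (pullback.snd f (T.fromSpecResidueField t ≫ i₂)).base z =
      closedPoint (T.residueField t) := hz
  rw [hz', Scheme.fromSpecResidueField_apply]

include hV in
theorem stable_of_hV {T XT : Scheme.{u}} (i₁ : XT ⟶ X) (i₂ : T ⟶ Y) (fT : XT ⟶ T)
    (hpb : IsPullback fT i₁ i₂ f) (W : Set T) (hW : IsClosed (fT.base ⁻¹' W)) :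
    StableUnderSpecialization W := by
  intro t' t h ht'
  obtain ⟨φ, hφ⟩ : ∃ φ : T.presheaf.stalk t ⟶ T.residueField t',
      φ = T.presheaf.stalkSpecializes h ≫ T.residue t' := ⟨_, rfl⟩
  obtain ⟨A, hA, hA_local⟩ := exists_factor_valuationRing φ.hom
  obtain ⟨ψ, hψ⟩ : ∃ ψ : T.presheaf.stalk t ⟶ CommRingCat.of A,
      ψ = CommRingCat.ofHom (φ.hom.codRestrict _ hA) := ⟨_, rfl⟩
  obtain ⟨γ, hγ⟩ : ∃ γ : Spec (CommRingCat.of A) ⟶ T, γ = Spec.map ψ ≫ T.fromSpecStalk t :=
    ⟨_, rfl⟩
  have hcl : γ.base (closedPoint A) = t := by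
    rw [hγ, Scheme.Hom.comp_apply]
    have : Spec.map ψ (closedPoint A) = closedPoint (T.presheaf.stalk t) := by
      rw [hψ]
      exact comap_closedPoint (S := A) (φ.hom.codRestrict A.toSubring hA)
    rw [this, T.fromSpecStalk_closedPoint]
  have hη : Spec.map (CommRingCat.ofHom (algebraMap A (T.residueField t'))) ≫ γ =
      T.fromSpecResidueField t' := by
    rw [hγ, ← Category.assoc, ← Spec.map_comp, Scheme.fromSpecResidueField,
      ← Scheme.SpecMap_stalkSpecializes_fromSpecStalk h, ← Category.assoc, ← Spec.map_comp]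
    congr 2
    rw [hψ, ← hφ]
    rfl
  obtain ⟨g₀, hg₀⟩ : ∃ g₀ : ↥(Spec (CommRingCat.of A)),
      g₀ = (Spec.map (CommRingCat.ofHom (algebraMap A (T.residueField t')))).base
        (closedPoint (T.residueField t')) := ⟨_, rfl⟩
  have hgen : γ.base g₀ = t' := by
    rw [hg₀, ← Scheme.Hom.comp_apply, hη, Scheme.fromSpecResidueField_apply]
  have hsp : g₀ ⤳ closedPoint A := IsLocalRing.specializes_closedPoint g₀
  have hq := hV A (γ ≫ i₂)
  obtain ⟨θ, hθ⟩ : ∃ θ : pullback f (γ ≫ i₂) ⟶ XT,
      θ = hpb.lift (pullback.snd f (γ ≫ i₂) ≫ γ) (pullback.fst f (γ ≫ i₂))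
        (by rw [Category.assoc, ← pullback.condition]) := ⟨_, rfl⟩
  have hθf : θ ≫ fT = pullback.snd f (γ ≫ i₂) ≫ γ := by rw [hθ, hpb.lift_fst]
  have hpre : (pullback.snd f (γ ≫ i₂)).base ⁻¹' (γ.base ⁻¹' W) =
      θ.base ⁻¹' (fT.base ⁻¹' W) := by
    ext z
    simp only [Set.mem_preimage]
    have h0 : (θ ≫ fT).base z = (pullback.snd f (γ ≫ i₂) ≫ γ).base z := by rw [hθf]
    rw [Scheme.Hom.comp_apply, Scheme.Hom.comp_apply] at h0
    rw [h0]
  have hWA : IsClosed (γ.base ⁻¹' W) := by
    rw [← hq.isClosed_preimage]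
    show IsClosed ((pullback.snd f (γ ≫ i₂)).base ⁻¹' (γ.base ⁻¹' W))
    rw [hpre]
    exact hW.preimage θ.continuous
  have hmem : g₀ ∈ γ.base ⁻¹' W := by rw [Set.mem_preimage, hgen]; exact ht'
  have := hWA.stableUnderSpecialization hsp hmem
  rw [Set.mem_preimage, hcl] at this
  exact this

include hV in
theorem closed_affine [QuasiCompact f] {R : CommRingCat.{u}} {XT : Scheme.{u}} (i₁ : XT ⟶ X)
    (i₂ : Spec R ⟶ Y) (fT : XT ⟶ Spec R)
    (hpb : IsPullback fT i₁ i₂ f) (W : Set ↥(Spec R)) (hW : IsClosed (fT.base ⁻¹' W)) :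
    IsClosed W := by
  haveI : QuasiCompact fT := MorphismProperty.of_isPullback hpb.flip inferInstance
  haveI : CompactSpace XT := QuasiCompact.compactSpace_of_compactSpace fT
  obtain ⟨B, g, hg⟩ := compactSpace_iff_exists.mp ‹CompactSpace XT›
  obtain ⟨φ, hφ⟩ := Spec.map_surjective (g ≫ fT)
  have hsurj := surj_of_hV f hV i₁ i₂ fT hpb
  have hst := stable_of_hV f hV i₁ i₂ fT hpb W hW
  have hZ : IsClosed (g.base ⁻¹' (fT.base ⁻¹' W)) := hW.preimage g.continuous
  have himg : (Spec.map φ).base '' (g.base ⁻¹' (fT.base ⁻¹' W)) = W := by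
    rw [hφ]
    ext w
    constructor
    · rintro ⟨b, hb, rfl⟩
      rw [Scheme.Hom.comp_apply]
      exact hb
    · intro hw
      obtain ⟨x, hx⟩ := hsurj w
      obtain ⟨b, hb⟩ := hg x
      refine ⟨b, ?_, ?_⟩
      · show fT.base (g.base b) ∈ W
        rw [hb, hx]; exact hw
      · rw [Scheme.Hom.comp_apply, hb, hx]
  have := PrimeSpectrum.isClosed_image_of_stableUnderSpecialization φ.hom
    (g.base ⁻¹' (fT.base ⁻¹' W)) hZ (by
      show StableUnderSpecialization ((Spec.map φ).base '' (g.base ⁻¹' (fT.base ⁻¹' W)))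
      rw [himg]; exact hst)
  have h2 : IsClosed ((Spec.map φ).base '' (g.base ⁻¹' (fT.base ⁻¹' W))) := this
  rw [himg] at h2
  exact h2

end


/-- Let f : X ⟶ Y be a quasi-compact morphism of schemes. Then f is universally submersive if and only
if, for every valuation ring V and every morphism Spec V ⟶ Y, the base change X ×_Y Spec V ⟶ Spec V
is submersive (its underlying continuous map is a quotient map). (The published statement asks
instead that f be universally submersive for the constructible topologies, which holds for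
quasi-compact surjective morphisms; both sides here force f to be surjective.) -/
theorem result {X Y : Scheme.{u}} (f : X ⟶ Y) [QuasiCompact f] :
    SGA1.UnivSubmersive f ↔
      ∀ (V : Type u) [CommRing V] [IsDomain V] [ValuationRing V] (g : Spec (CommRingCat.of V) ⟶ Y),
        Topology.IsQuotientMap (pullback.snd f g) := by
  constructor
  · intro hf V _ _ _ g
    exact hf _ _ _ (IsPullback.of_hasPullback f g).flip
  · intro hV XT T i₁ i₂ fT hpb
    show Topology.IsQuotientMap fT.base
    rw [Topology.isQuotientMap_iff_isClosed]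
    refine ⟨surj_of_hV f hV i₁ i₂ fT hpb, fun W => ⟨fun hW => hW.preimage fT.continuous, ?_⟩⟩
    intro hW
    rw [← closure_subset_iff_isClosed]
    intro x hx
    obtain ⟨x₀, hx₀⟩ := T.affineCover.covers x
    obtain ⟨j, hj⟩ : ∃ j : T.affineCover.X (T.affineCover.idx x) ⟶ T,
        j = T.affineCover.f (T.affineCover.idx x) := ⟨_, rfl⟩
    haveI : IsOpenImmersion j := by rw [hj]; infer_instance
    rw [← hj] at hx₀
    have h1 : x₀ ∈ j.base ⁻¹' closure W := by rw [Set.mem_preimage, hx₀]; exact hx
    rw [j.isOpenEmbedding.isOpenMap.preimage_closure_eq_closure_preimage j.continuous] at h1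
    have hpb' : IsPullback (pullback.snd fT j) (pullback.fst fT j ≫ i₁) (j ≫ i₂) f :=
      (IsPullback.of_hasPullback fT j).flip.paste_vert hpb
    have h2 : IsClosed (j.base ⁻¹' W) := by
      refine closed_affine f hV (pullback.fst fT j ≫ i₁) (j ≫ i₂) (pullback.snd fT j) hpb' _ ?_
      have : (pullback.snd fT j).base ⁻¹' (j.base ⁻¹' W) =
          (pullback.fst fT j).base ⁻¹' (fT.base ⁻¹' W) := by
        ext z
        simp only [Set.mem_preimage]
        have h0 : (pullback.snd fT j ≫ j).base z = (pullback.fst fT j ≫ fT).base z := by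
          rw [pullback.condition]
        rw [Scheme.Hom.comp_apply, Scheme.Hom.comp_apply] at h0
        rw [h0]
      have h3 := hW.preimage (pullback.fst fT j).continuous
      rw [← this] at h3
      exact h3
    rw [h2.closure_eq] at h1
    rw [← hx₀]
    exact h1

end Groth.Agent.S14767
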