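import Groth.Statements.S14789
import Mathlib

set_option autoImplicit false
universe u
open CategoryTheory CategoryTheory.Limits AlgebraicGeometry
open Subtr

namespace Groth.Agent.S14789

/-- Let f : X ⟶ Y be a morphism of schemes with the lifting property for ordered pairs of points, and U
⊆ Y a subset containing every maximal point of Y (every point all of whose generizations are equal
to it). Then the closure of f⁻¹(U) maps onto Y. -/
theorem result {X Y : Scheme.{u}} (f : X ⟶ Y)
    (hf : Subtr.IsSSubtrusive f) (U : Set Y) (hU : ∀ y : Y, (∀ y' : Y, y' ⤳ y → y' = y) → y ∈ U) :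
    f '' closure (f ⁻¹' U) = Set.univ := by
  apply Set.eq_univ_of_forall
  intro y
  -- a maximal point specializing to y
  have hirr : IsIrreducible (irreducibleComponent y) := isIrreducible_irreducibleComponent
  have hcl : IsClosed (irreducibleComponent y) := isClosed_irreducibleComponent
  obtain ⟨η, hη⟩ := QuasiSober.sober hirr hcl
  have hηy : η ⤳ y := by
    rw [specializes_iff_mem_closure, hη.def]
    exact mem_irreducibleComponent
  have hmax : ∀ y' : Y, y' ⤳ η → y' = η := by
    intro y' hy'
    have h1 : IsPreirreducible (closure ({y'} : Set Y)) :=
      (isIrreducible_singleton.closure).isPreirreducible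
    have h2 : irreducibleComponent y ⊆ closure ({y'} : Set Y) := by
      rw [← hη.def]
      exact closure_minimal (Set.singleton_subset_iff.mpr (specializes_iff_mem_closure.mp hy'))
        isClosed_closure
    have h3 : closure ({y'} : Set Y) = irreducibleComponent y := eq_irreducibleComponent h1 h2
    have h4 : IsGenericPoint y' (irreducibleComponent y) := h3
    exact h4.eq hη
  have hηU : η ∈ U := hU η hmax
  obtain ⟨x, x', hxx', hx, hx'⟩ := hf hηy
  refine ⟨x, ?_, hx⟩
  have hx'U : x' ∈ f ⁻¹' U := by
    show f x' ∈ U
    rw [hx']
    exact hηU
  exact closure_mono (Set.singleton_subset_iff.mpr hx'U) (specializes_iff_mem_closure.mp hxx')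

end Groth.Agent.S14789
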