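import Groth.Statements.S14795
import Groth.Agent.H25.ColimUH
import Groth.Agent.H25.FieldPts
open Groth.Agent.H25

set_option autoImplicit false
universe u
open CategoryTheory CategoryTheory.Limits AlgebraicGeometry
open Subtr

namespace Groth.Agent.S14795

/-- Let A ⊆ B be an integral ring extension and C ⊆ B the weak subintegral closure of A in B, that is
the largest A-subalgebra C of B such that Spec C ⟶ Spec A is a universal homeomorphism (C is
characterised here by that maximality). Then b ∈ B lies in C if and only if b ⊗ 1 − 1 ⊗ b is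
nilpotent in B ⊗_A B (b ⊗ 1 = 1 ⊗ b in the reduction of B ⊗_A B). -/
theorem result {A B : Type u} [CommRing A] [CommRing B]
    [Algebra A B] (hinj : Function.Injective (algebraMap A B)) [Algebra.IsIntegral A B]
    (C : Subalgebra A B) (hC : FlatMor.IsUnivHomeo (Spec.map (CommRingCat.ofHom (algebraMap A C))))
    (hmax : ∀ D : Subalgebra A B, FlatMor.IsUnivHomeo (Spec.map (CommRingCat.ofHom (algebraMap A D))) → D ≤ C) (b : B) :
    b ∈ C ↔ IsNilpotent (b ⊗ₜ[A] (1 : B) - (1 : B) ⊗ₜ[A] b) := by
  constructor
  · -- b ∈ C ⇒ nilpotent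
    intro hb
    rw [ColimUH.univHomeo_iff] at hC
    rw [← mem_nilradical, nilradical_eq_sInf, Ideal.mem_sInf]
    intro 𝔓 h𝔓
    haveI : 𝔓.IsPrime := h𝔓
    let F := 𝔓.ResidueField
    let T := TensorProduct A B B
    let ψ₁ : B →+* F := (algebraMap T F).comp
      (Algebra.TensorProduct.includeLeft : B →ₐ[A] T).toRingHom
    let ψ₂ : B →+* F := (algebraMap T F).comp
      (Algebra.TensorProduct.includeRight : B →ₐ[A] T).toRingHom
    have h12 : (ψ₁.comp C.val.toRingHom).comp (algebraMap A C) =
        (ψ₂.comp C.val.toRingHom).comp (algebraMap A C) := by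
      ext a
      simp only [RingHom.comp_apply, ψ₁, ψ₂]
      congr 1
      change (Algebra.TensorProduct.includeLeft : B →ₐ[A] T) (algebraMap A B a) =
        (Algebra.TensorProduct.includeRight : B →ₐ[A] T) (algebraMap A B a)
      rw [AlgHom.commutes, AlgHom.commutes]
    have := hC.2.1 F _ _ h12
    have hb' := congr($this ⟨b, hb⟩)
    have hb2 : algebraMap T F (b ⊗ₜ[A] (1 : B)) = algebraMap T F ((1 : B) ⊗ₜ[A] b) := hb'
    rw [← Ideal.algebraMap_residueField_eq_zero (I := 𝔓), map_sub, hb2, sub_self]
  · intro hnil
    have hle : Algebra.adjoin A {b} ≤ C := by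
      apply hmax
      rw [ColimUH.univHomeo_iff]
      refine ⟨?_, ?_, ?_⟩
      · rintro ⟨x, hx⟩
        have h1 : IsIntegral A x := Algebra.IsIntegral.isIntegral x
        exact (isIntegral_algHom_iff (Algebra.adjoin A {b}).val Subtype.val_injective).1 h1
      · intro F _ ψ₁ ψ₂ h12
        let D := Algebra.adjoin A {b}
        have hiint : (D.val.toRingHom).IsIntegral := by
          intro x
          have h1 : IsIntegral A x := Algebra.IsIntegral.isIntegral x
          exact h1.tower_top
        have hiker : ∀ ψ : D →+* F, RingHom.ker D.val.toRingHom ≤ RingHom.ker ψ := by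
          intro ψ x hx
          have : x = 0 := Subtype.val_injective (by simpa using hx)
          rw [this]; exact zero_mem _
        obtain ⟨ψ₁', h1'⟩ := FieldPts.exists_extension D.val.toRingHom hiint ψ₁ (hiker ψ₁)
        obtain ⟨ψ₂', h2'⟩ := FieldPts.exists_extension D.val.toRingHom hiint ψ₂ (hiker ψ₂)
        let M := AlgebraicClosure F
        letI : Algebra A M := (ψ₁'.comp (algebraMap A B)).toAlgebra
        have hc1 : ∀ a, ψ₁' (algebraMap A B a) = algebraMap A M a := fun a => rfl
        have hc2 : ∀ a, ψ₂' (algebraMap A B a) = algebraMap A M a := by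
          intro a
          have e1 := congr($h1' (algebraMap A D a))
          have e2 := congr($h2' (algebraMap A D a))
          have e3 := congr($h12 a)
          simp only [RingHom.comp_apply] at e1 e2 e3
          change ψ₂' (algebraMap A B a) = ψ₁' (algebraMap A B a)
          have e4 : D.val.toRingHom (algebraMap A D a) = algebraMap A B a := rfl
          rw [e4] at e1 e2
          rw [e1, e2, e3]
        let f₁ : B →ₐ[A] M := { ψ₁' with commutes' := hc1 }
        let f₂ : B →ₐ[A] M := { ψ₂' with commutes' := hc2 }
        let pm := Algebra.TensorProduct.productMap f₁ f₂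
        have hpm : pm (b ⊗ₜ[A] (1 : B) - (1 : B) ⊗ₜ[A] b) = ψ₁' b - ψ₂' b := by
          simp only [pm, map_sub, Algebra.TensorProduct.productMap_apply_tmul, map_one, mul_one,
            one_mul]
          rfl
        have h0 : ψ₁' b - ψ₂' b = 0 := by
          rw [← hpm]
          exact (hnil.map pm).eq_zero
        have hbD : b ∈ D := Algebra.subset_adjoin (Set.mem_singleton b)
        have hb12 : ψ₁ ⟨b, hbD⟩ = ψ₂ ⟨b, hbD⟩ := by
          apply (algebraMap F M).injective
          have e1 := congr($h1' ⟨b, hbD⟩)
          have e2 := congr($h2' ⟨b, hbD⟩)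
          simp only [RingHom.comp_apply] at e1 e2
          rw [← e1, ← e2]
          exact sub_eq_zero.1 h0
        ext ⟨x, hx⟩
        induction hx using Algebra.adjoin_induction with
        | mem y hy =>
          obtain rfl : y = b := hy
          exact hb12
        | algebraMap r => exact congr($h12 r)
        | add x y hx hy h1 h2 =>
          have e : (⟨x + y, add_mem hx hy⟩ : Algebra.adjoin A {b}) = ⟨x, hx⟩ + ⟨y, hy⟩ := rfl
          rw [e, map_add, map_add, h1, h2]
        | mul x y hx hy h1 h2 =>
          have e : (⟨x * y, mul_mem hx hy⟩ : Algebra.adjoin A {b}) = ⟨x, hx⟩ * ⟨y, hy⟩ := rfl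
          rw [e, map_mul, map_mul, h1, h2]
      · intro a ha
        have h0 : algebraMap A B a = 0 := by
          have := congr(((Algebra.adjoin A {b}).val) $ha)
          simpa using this
        have : a = 0 := hinj (by rw [h0, map_zero])
        rw [this]; exact IsNilpotent.zero
    exact hle (Algebra.subset_adjoin (Set.mem_singleton b))

end Groth.Agent.S14795
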