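import Groth.Statements.S14798
import Mathlib
import Groth.Agent.Lib.Helper7.HJ7
-- import your own Groth.Agent.* helpers here

set_option autoImplicit false
open Finset
open HJFrac

namespace Groth.Agent.S14798

open Groth.Agent.Lib.Helper7.HJ7

/-- Let 0 < r < n be coprime integers and n/r = b₁ - 1/(b₂ - 1/(⋯ - 1/b_λ)) the Hirzebruch–Jung
expansion (λ ≥ 1, every b_i ≥ 2); let m₁, m₂ be positive integers prime to n with r m₂ + m₁ ≡ 0 mod
n, and let μ₁, …, μ_λ be positive integers solving the tridiagonal system b_i μ_i - μ_{i-1} -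
μ_{i+1} = 0 (1 ≤ i ≤ λ) with the conventions μ₀ = m₂ and μ_{λ+1} = m₁ (the multiplicity vector
attached to (n, r, m₂, m₁)). Then n/(m₁ m₂) = 1/(m₂ μ₁) + 1/(μ₁ μ₂) + ⋯ + 1/(μ_{λ-1} μ_λ) + 1/(μ_λ
m₁). -/
theorem result (l : ℕ) (hl : 1 ≤ l) (b : ℕ → ℤ)
    (hb : ∀ i, 1 ≤ i → i ≤ l → 2 ≤ b i)
    (n r : ℕ) (hr : 0 < r) (hrn : r < n) (hcop : Nat.Coprime r n)
    (hhj : (n : ℚ) / r = HJFrac.hjVal ((List.range l).map fun i => b (i + 1)))
    (m₁ m₂ : ℕ) (hm₁ : 0 < m₁) (hm₂ : 0 < m₂) (h₁ : Nat.Coprime m₁ n) (h₂ : Nat.Coprime m₂ n)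
    (hdvd : (n : ℤ) ∣ r * m₂ + m₁)
    (μ : ℕ → ℤ) (hμ0 : μ 0 = m₂) (hμl : μ (l + 1) = m₁) (hμpos : ∀ i, i ≤ l + 1 → 0 < μ i)
    (hsys : ∀ i, 1 ≤ i → i ≤ l → b i * μ i = μ (i - 1) + μ (i + 1)) :
    (n : ℚ) / ((m₁ : ℚ) * m₂) = ∑ i ∈ Finset.range (l + 1), 1 / ((μ i : ℚ) * (μ (i + 1) : ℚ)) := by
  have hν := key l b hb n r hr hrn hcop hhj (nu b) (by
    intro i h1 h2
    obtain ⟨j, rfl⟩ : ∃ j, i = j + 1 := ⟨i - 1, by omega⟩
    rw [Nat.add_sub_cancel, nu_succ_succ]; ring)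
  have hν' : nu b (l+1) = n := by rw [hν]; simp [nu]
  have hC : ∀ i, i ≤ l → μ i * nu b (i+1) - μ (i+1) * nu b i = m₂ := by
    intro i
    induction i with
    | zero => intro _; simp [nu, hμ0]
    | succ i ih =>
      intro hi
      have h1 := ih (by omega)
      have h2 := hsys (i+1) (by omega) hi
      rw [Nat.add_sub_cancel] at h2
      rw [nu_succ_succ]
      have e : μ (i+1+1) = b (i+1) * μ (i+1) - μ i := by linarith
      rw [e]; linear_combination h1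
  have hμne : ∀ i, i ≤ l+1 → (μ i : ℚ) ≠ 0 := fun i hi => by exact_mod_cast (hμpos i hi).ne'
  have hm₂ne : (m₂ : ℚ) ≠ 0 := by exact_mod_cast hm₂.ne'
  have hS : ∀ k, k ≤ l+1 → ∑ i ∈ Finset.range k, 1 / ((μ i : ℚ) * (μ (i+1) : ℚ)) =
      (nu b k : ℚ) / ((m₂ : ℚ) * μ k) := by
    intro k
    induction k with
    | zero => intro _; simp [nu]
    | succ k ih =>
      intro hk
      rw [Finset.sum_range_succ, ih (by omega)]
      have hc : (μ k : ℚ) * nu b (k+1) - μ (k+1) * nu b k = m₂ := by exact_mod_cast hC k (by omega)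
      have h1 := hμne k (by omega)
      have h2 := hμne (k+1) hk
      rw [div_add_div _ _ (mul_ne_zero hm₂ne h1) (mul_ne_zero h1 h2),
        div_eq_div_iff (mul_ne_zero (mul_ne_zero hm₂ne h1) (mul_ne_zero h1 h2))
          (mul_ne_zero hm₂ne h2)]
      linear_combination (-(m₂:ℚ) * μ k * μ (k+1)) * hc
  rw [hS (l+1) le_rfl, hν', hμl]
  push_cast
  ring

end Groth.Agent.S14798
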