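import Groth.Statements.S14802
import Mathlib
import Groth.Agent.Lib.Helper7.Contract
-- import your own Groth.Agent.* helpers here

set_option autoImplicit false
universe u
open Finset
open LabGraph

namespace Groth.Agent.S14802

open Groth.Agent.Helper7

lemma prop_aux1 (P Q R : Prop) (h : ¬ (P ↔ ¬ Q)) : (P ↔ R) ↔ (Q ↔ R) := by
  by_cases hP : P <;> by_cases hQ : Q <;> by_cases hR : R <;> simp_all

lemma prop_aux2 (P Q : Prop) (h : P ↔ ¬ Q) : ¬ (Q ↔ P) := by
  by_cases hP : P <;> by_cases hQ : Q <;> simp_all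

theorem main {V E : Type u} [Fintype V] [Fintype E] [DecidableEq V] [DecidableEq E]
    (ends : E → V × V) (β : V → ℤ) (hβ : LabGraph.IsMultFn ends β)
    (m : ℕ) (f : Fin (m + 1) → V) (e : Fin m → E) (hC : LabGraph.IsChain ends f e)
    (hconn : ∀ i, LabGraph.IsConnecting ends (e i)) (hβm : ∀ i, β (f i) = m)
    (hα : ∀ i, LabGraph.mfMatrix ends β (f i) (f i) = -2)
    (D : Finset E) (hDe : ∀ e', e' ∈ D ↔ ∃ i, e i = e')
    (x : DualGr.CtrVert ends D → ℤ)
    (hfx : LabGraph.liftAt ends D (f 0) x ∈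
      LinearMap.range (Matrix.mulVecLin (LabGraph.mfMatrix ends β))) :
    x ∈ LinearMap.range (Matrix.mulVecLin
      (LabGraph.mfMatrix (DualGr.ctrEnds ends D) (LabGraph.ctrFn ends D β))) := by
  classical
  have hm : 0 < m := by
    by_contra hm0
    have h1 := (hβ (f 0)).1
    rw [hβm 0] at h1
    omega
  have hmne : (m : ℤ) ≠ 0 := by exact_mod_cast hm.ne'
  have hβpos : ∀ v, 0 < β v := fun v => (hβ v).1
  obtain ⟨fn, hfn⟩ : ∃ fn : ℕ → V, ∀ k (h : k < m + 1), fn k = f ⟨k, h⟩ :=
    ⟨fun k => if h : k < m + 1 then f ⟨k, h⟩ else f 0, fun k h => dif_pos h⟩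
  obtain ⟨en, hen⟩ : ∃ en : ℕ → E, ∀ k (h : k < m), en k = e ⟨k, h⟩ :=
    ⟨fun k => if h : k < m then e ⟨k, h⟩ else e ⟨0, hm⟩, fun k h => dif_pos h⟩
  have hf0 : f 0 = fn 0 := by
    rw [hfn 0 (by omega)]
    exact congrArg f (Fin.ext (by simp))
  have hchain : ∀ k, k < m → ends (en k) = (fn k, fn (k+1)) ∨ ends (en k) = (fn (k+1), fn k) := by
    intro k hk
    rw [hen k hk, hfn k (by omega), hfn (k+1) (by omega)]
    exact hC.2.2 ⟨k, hk⟩
  have hfn_inj : ∀ j k, j ≤ m → k ≤ m → fn j = fn k → j = k := by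
    intro j k hj hk h
    rw [hfn j (by omega), hfn k (by omega)] at h
    have := hC.1 h
    exact Fin.mk.inj_iff.1 this
  have hfn_ne : ∀ j k, j ≤ m → k ≤ m → j ≠ k → fn j ≠ fn k :=
    fun j k hj hk hne h => hne (hfn_inj j k hj hk h)
  have hen_inj : ∀ j k, j < m → k < m → en j = en k → j = k := by
    intro j k hj hk h
    rw [hen j hj, hen k hk] at h
    have := hC.2.1 h
    exact Fin.mk.inj_iff.1 this
  have hD_mem : ∀ e', e' ∈ D ↔ ∃ k, k < m ∧ e' = en k := by
    intro e'
    constructor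
    · intro h
      obtain ⟨i, rfl⟩ := (hDe e').1 h
      exact ⟨i.val, i.isLt, (hen i.val i.isLt).symm⟩
    · rintro ⟨k, hk, rfl⟩
      exact (hDe _).2 ⟨⟨k, hk⟩, (hen k hk).symm⟩
  have hβn : ∀ k, k ≤ m → β (fn k) = m := by
    intro k hk
    rw [hfn k (by omega)]
    exact hβm _
  have hαn : ∀ k, k ≤ m → LabGraph.mfMatrix ends β (fn k) (fn k) = -2 := by
    intro k hk
    rw [hfn k (by omega)]
    exact hα _
  -- classes of the contraction
  have hq_chain : ∀ k, k ≤ m → DualGr.ctrMk ends D (fn k) = DualGr.ctrMk ends D (fn 0) := by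
    intro k
    induction k with
    | zero => intro _; rfl
    | succ k ih =>
      intro hk
      rw [← ih (by omega)]
      have hmem : en k ∈ D := (hD_mem _).2 ⟨k, by omega, rfl⟩
      have h1 := DualGr.ctrMk_fst_eq_ctrMk_snd ends D hmem
      rcases hchain k (by omega) with h | h <;> rw [h] at h1
      · exact h1.symm
      · exact h1
  have hq_eq : ∀ v w, DualGr.ctrMk ends D v = DualGr.ctrMk ends D w →
      v = w ∨ ((∃ k, k ≤ m ∧ v = fn k) ∧ (∃ k, k ≤ m ∧ w = fn k)) := by
    intro v w h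
    have h' : Relation.EqvGen (DualGr.CtrRel ends D) v w := Quotient.exact h
    clear h
    induction h' with
    | rel a b hab =>
      obtain ⟨e', he', hends⟩ := hab
      obtain ⟨k, hk, rfl⟩ := (hD_mem e').1 he'
      right
      rcases hchain k hk with h1 | h1
      · rw [h1] at hends
        obtain ⟨rfl, rfl⟩ := Prod.mk.inj hends
        exact ⟨⟨k, by omega, rfl⟩, ⟨k+1, by omega, rfl⟩⟩
      · rw [h1] at hends
        obtain ⟨rfl, rfl⟩ := Prod.mk.inj hends
        exact ⟨⟨k+1, by omega, rfl⟩, ⟨k, by omega, rfl⟩⟩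
    | refl a => left; rfl
    | symm a b _ ih =>
      rcases ih with h | ⟨h1, h2⟩
      · left; exact h.symm
      · right; exact ⟨h2, h1⟩
    | trans a b c _ _ ih1 ih2 =>
      rcases ih1 with h1 | ⟨h1, h1'⟩ <;> rcases ih2 with h2 | ⟨h2, h2'⟩
      · left; exact h1.trans h2
      · right; rw [h1]; exact ⟨h2, h2'⟩
      · right; rw [← h2]; exact ⟨h1, h1'⟩
      · right; exact ⟨h1, h2'⟩
  have hβ' : ∀ v, LabGraph.ctrFn ends D β (DualGr.ctrMk ends D v) = β v := by
    intro v
    have h1 : DualGr.ctrMk ends D (Quotient.out (DualGr.ctrMk ends D v)) = DualGr.ctrMk ends D v :=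
      Quotient.out_eq _
    show β (Quotient.out (DualGr.ctrMk ends D v)) = β v
    rcases hq_eq _ _ h1 with h | ⟨⟨j, hj, hj'⟩, ⟨k, hk, hk'⟩⟩
    · rw [h]
    · rw [hj', hβn j hj, hk', hβn k hk]
  -- the cut of the first edge
  obtain ⟨S, hS⟩ := hconn ⟨0, hm⟩
  have hS' : ∀ e', ((ends e').1 ∈ S ↔ (ends e').2 ∉ S) ↔ e' = en 0 := by
    intro e'
    rw [hen 0 hm]
    exact hS e'
  obtain ⟨inA, hinA⟩ : ∃ inA : V → Prop, ∀ v, inA v ↔ (v ∈ S ↔ fn 0 ∈ S) :=
    ⟨fun v => (v ∈ S ↔ fn 0 ∈ S), fun v => Iff.rfl⟩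
  have hA0 : inA (fn 0) := (hinA _).2 Iff.rfl
  have hA_edge : ∀ e', e' ≠ en 0 → (inA (ends e').1 ↔ inA (ends e').2) := by
    intro e' hne
    have h1 : ¬ ((ends e').1 ∈ S ↔ (ends e').2 ∉ S) := fun h => hne ((hS' e').1 h)
    rw [hinA, hinA]
    exact prop_aux1 _ _ _ h1
  have hA1 : ¬ inA (fn 1) := by
    have h1 := (hS' (en 0)).2 rfl
    have h01 : ends (en 0) = (fn 0, fn 1) ∨ ends (en 0) = (fn 1, fn 0) := hchain 0 hm
    rw [hinA]
    rcases h01 with h | h
    · have h2 : fn 0 ∈ S ↔ fn 1 ∉ S := by rw [h] at h1; exact h1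
      exact prop_aux2 _ _ h2
    · have h2 : fn 1 ∈ S ↔ fn 0 ∉ S := by rw [h] at h1; exact h1
      exact fun h3 => prop_aux2 _ _ h2 h3.symm
  have hAk : ∀ k, 1 ≤ k → k ≤ m → ¬ inA (fn k) := by
    intro k h1
    induction k, h1 using Nat.le_induction with
    | base => intro _; exact hA1
    | succ k h1 ih =>
      intro hk
      have hne : en k ≠ en 0 := fun h => by
        have := hen_inj k 0 (by omega) hm h
        omega
      have h2 := hA_edge (en k) hne
      rcases hchain k (by omega) with h | h <;> rw [h] at h2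
      · exact fun h' => ih (by omega) (h2.2 h')
      · exact fun h' => ih (by omega) (h2.1 h')
  -- interior analysis
  have hnb : ∀ k, k ≤ m → Contract.nbSum ends β (fn k) = 2 * m := by
    intro k hk
    have h1 := Contract.beta_mul_diag ends β (fn k) (hβ (fn k)).2
    rw [hαn k hk, hβn k hk] at h1
    linarith
  have hint : ∀ k, 1 ≤ k → k < m → ∀ e', (((ends e').1 = fn k ∧ (ends e').2 ≠ fn k) ∨
      ((ends e').2 = fn k ∧ (ends e').1 ≠ fn k)) → e' = en (k-1) ∨ e' = en k := by
    intro k hk1 hk2 e' hinc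
    by_contra hcon
    obtain ⟨hne1, hne2⟩ := not_or.1 hcon
    have hA : ∀ e'' : E, (0:ℤ) ≤ (if (ends e'').1 = fn k ∧ (ends e'').2 ≠ fn k then β (ends e'').2 else 0) := by
      intro e''
      split_ifs
      · exact (hβpos _).le
      · exact le_rfl
    have hB : ∀ e'' : E, (0:ℤ) ≤ (if (ends e'').2 = fn k ∧ (ends e'').1 ≠ fn k then β (ends e'').1 else 0) := by
      intro e''
      split_ifs
      · exact (hβpos _).le
      · exact le_rfl
    obtain ⟨n, hn⟩ : ∃ n : E → ℤ, ∀ e'', n e'' =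
      (if (ends e'').1 = fn k ∧ (ends e'').2 ≠ fn k then β (ends e'').2 else 0) +
      (if (ends e'').2 = fn k ∧ (ends e'').1 ≠ fn k then β (ends e'').1 else 0) := ⟨_, fun _ => rfl⟩
    have hsum : ∑ e'', n e'' = 2 * m := by
      rw [← hnb k (by omega)]
      unfold Contract.nbSum
      exact Finset.sum_congr rfl (fun e'' _ => hn e'')
    have hnonneg : ∀ e'', 0 ≤ n e'' := fun e'' => by
      rw [hn]
      exact add_nonneg (hA e'') (hB e'')
    have hn1 : n (en k) = m := by
      rw [hn, Contract.nb_term ends β (en k) (fn k) (fn (k+1))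
        (hfn_ne k (k+1) (by omega) (by omega) (by omega)) (hchain k hk2), hβn (k+1) (by omega)]
    have hn0 : n (en (k-1)) = m := by
      have hc := hchain (k-1) (by omega)
      rw [Nat.sub_add_cancel hk1] at hc
      rw [hn, Contract.nb_term ends β (en (k-1)) (fn k) (fn (k-1))
        (hfn_ne k (k-1) (by omega) (by omega) (by omega)) hc.symm, hβn (k-1) (by omega)]
    have hn' : 0 < n e' := by
      rw [hn]
      rcases hinc with h | h
      · have := hB e'
        rw [if_pos h]
        linarith [hβpos (ends e').2]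
      · have := hA e'
        rw [if_pos h]
        linarith [hβpos (ends e').1]
    have hne01 : en (k-1) ≠ en k := fun h => by
      have := hen_inj (k-1) k (by omega) hk2 h
      omega
    have hsub : ∑ e'' ∈ ({en (k-1), en k, e'} : Finset E), n e'' ≤ ∑ e'', n e'' :=
      Finset.sum_le_univ_sum_of_nonneg hnonneg
    rw [Finset.sum_insert (by simp [hne01, Ne.symm hne1]),
      Finset.sum_insert (by simp [Ne.symm hne2]), Finset.sum_singleton, hn0, hn1, hsum] at hsub
    linarith
  -- the vector y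
  obtain ⟨y, hy⟩ := hfx
  rw [Matrix.mulVecLin_apply] at hy
  have hlift0 : ∀ k, 1 ≤ k → k ≤ m → LabGraph.liftAt ends D (f 0) x (fn k) = 0 := by
    intro k hk1 hk
    have hcond : DualGr.ctrMk ends D (fn k) = DualGr.ctrMk ends D (f 0) ∧ fn k ≠ f 0 := by
      rw [hf0]
      exact ⟨hq_chain k hk, hfn_ne k 0 hk (by omega) (by omega)⟩
    simp only [LabGraph.liftAt]
    rw [if_pos hcond]
  have hbd0 : ∀ k, 1 ≤ k → k ≤ m →
      LabGraph.boundary ends (Contract.om ends β y) (fn k) = 0 := by
    intro k hk1 hk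
    have h1 := Contract.beta_mul_mulVec ends β y (fn k) (hβ (fn k)).2
    rw [hy, hlift0 k hk1 hk, mul_zero] at h1
    linarith
  have hrec : ∀ k, 1 ≤ k → k < m → y (fn (k+1)) - y (fn k) = y (fn k) - y (fn (k-1)) := by
    intro k hk1 hk2
    have h0 := hbd0 k hk1 (by omega)
    unfold LabGraph.boundary at h0
    have hne01 : en (k-1) ≠ en k := fun h => by
      have := hen_inj (k-1) k (by omega) hk2 h
      omega
    rw [Finset.sum_eq_add (en (k-1)) (en k) hne01 ?_ (fun h => absurd (Finset.mem_univ _) h)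
      (fun h => absurd (Finset.mem_univ _) h)] at h0
    · have hc := hchain (k-1) (by omega)
      rw [Nat.sub_add_cancel hk1] at hc
      rw [Contract.term_at ends β y (en (k-1)) (fn k) (fn (k-1))
          (hfn_ne k (k-1) (by omega) (by omega) (by omega)) hc.symm,
        Contract.term_at ends β y (en k) (fn k) (fn (k+1))
          (hfn_ne k (k+1) (by omega) (by omega) (by omega)) (hchain k hk2),
        hβn k (by omega), hβn (k-1) (by omega), hβn (k+1) (by omega)] at h0
      have h2 : (m:ℤ) * ((y (fn (k+1)) - y (fn k)) - (y (fn k) - y (fn (k-1)))) = 0 := by linarith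
      rcases mul_eq_zero.1 h2 with h | h
      · exact absurd h hmne
      · linarith
    · intro e' _ hne
      by_cases a1 : (ends e').1 = fn k <;> by_cases a2 : (ends e').2 = fn k
      · rw [if_pos a2, if_pos a1, sub_self]
      · exfalso
        rcases hint k hk1 hk2 e' (Or.inl ⟨a1, a2⟩) with h | h
        · exact hne.1 h
        · exact hne.2 h
      · exfalso
        rcases hint k hk1 hk2 e' (Or.inr ⟨a2, a1⟩) with h | h
        · exact hne.1 h
        · exact hne.2 h
      · rw [if_neg a2, if_neg a1, sub_self]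
  obtain ⟨δ, hδ⟩ : ∃ δ : ℤ, δ = y (fn 1) - y (fn 0) := ⟨_, rfl⟩
  have harith : ∀ k, (k ≤ m → y (fn k) = y (fn 0) + (k : ℕ) * δ) ∧
      (k + 1 ≤ m → y (fn (k+1)) = y (fn 0) + ((k+1 : ℕ) : ℤ) * δ) := by
    intro k
    induction k with
    | zero =>
      refine ⟨fun _ => by simp, fun _ => ?_⟩
      show y (fn 1) = y (fn 0) + ((1 : ℕ) : ℤ) * δ
      rw [hδ]
      push_cast
      ring
    | succ k ih =>
      refine ⟨ih.2, fun hk => ?_⟩
      have h1 := hrec (k+1) (by omega) (by omega)
      rw [Nat.add_sub_cancel] at h1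
      have h2 := ih.1 (by omega)
      have h3 := ih.2 (by omega)
      push_cast at h3 ⊢
      linear_combination h1 + 2 * h3 - h2
  -- the modified vector Y, constant on the chain
  obtain ⟨I, hI⟩ : ∃ I : Finset V, ∀ v, v ∈ I ↔ ∃ k, 1 ≤ k ∧ k < m ∧ v = fn k := by
    refine ⟨(Finset.Ico 1 m).image fn, fun v => ?_⟩
    constructor
    · intro h
      obtain ⟨k, hk, rfl⟩ := Finset.mem_image.1 h
      exact ⟨k, (Finset.mem_Ico.1 hk).1, (Finset.mem_Ico.1 hk).2, rfl⟩
    · rintro ⟨k, h1, h2, rfl⟩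
      exact Finset.mem_image_of_mem _ (Finset.mem_Ico.2 ⟨h1, h2⟩)
  obtain ⟨Y, hY⟩ : ∃ Y : V → ℤ, ∀ v, Y v =
      if v ∈ I then y (fn 0) else if inA v then y v else y v - δ * β v :=
    ⟨fun v => if v ∈ I then y (fn 0) else if inA v then y v else y v - δ * β v, fun v => rfl⟩
  have hYL : ∀ k, k ≤ m → Y (fn k) = y (fn 0) := by
    intro k hk
    rw [hY]
    by_cases hkI : fn k ∈ I
    · rw [if_pos hkI]
    · rw [if_neg hkI]
      have hk' : k = 0 ∨ k = m := by
        by_contra hcon
        apply hkI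
        exact (hI _).2 ⟨k, by omega, by omega, rfl⟩
      rcases hk' with h0 | h0
      · rw [h0, if_pos hA0]
      · rw [h0, if_neg (hAk m hm le_rfl), (harith m).1 le_rfl, hβn m le_rfl]
        ring
  have homY : ∀ e', e' ∉ D → Contract.om ends β Y e' = Contract.om ends β y e' := by
    intro e' he'
    by_cases hloop : (ends e').1 = (ends e').2
    · unfold Contract.om
      rw [hloop]
      ring
    · have h1I : (ends e').1 ∉ I := by
        intro h
        obtain ⟨k, hk1, hk2, hk⟩ := (hI _).1 h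
        rcases hint k hk1 hk2 e' (Or.inl ⟨hk, fun h2 => hloop (hk.trans h2.symm)⟩) with h3 | h3
        · exact he' ((hD_mem _).2 ⟨k-1, by omega, h3⟩)
        · exact he' ((hD_mem _).2 ⟨k, hk2, h3⟩)
      have h2I : (ends e').2 ∉ I := by
        intro h
        obtain ⟨k, hk1, hk2, hk⟩ := (hI _).1 h
        rcases hint k hk1 hk2 e' (Or.inr ⟨hk, fun h2 => hloop (h2.trans hk.symm)⟩) with h3 | h3
        · exact he' ((hD_mem _).2 ⟨k-1, by omega, h3⟩)
        · exact he' ((hD_mem _).2 ⟨k, hk2, h3⟩)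
      have hne0 : e' ≠ en 0 := fun h => he' ((hD_mem _).2 ⟨0, hm, h⟩)
      have hAe := hA_edge e' hne0
      unfold Contract.om
      rw [hY (ends e').1, hY (ends e').2, if_neg h1I, if_neg h2I]
      by_cases hA : inA (ends e').1
      · rw [if_pos hA, if_pos (hAe.1 hA)]
      · rw [if_neg hA, if_neg (fun h => hA (hAe.2 h))]
        ring
  obtain ⟨y', hy'⟩ : ∃ y' : DualGr.CtrVert ends D → ℤ, ∀ c, y' c = Y (Quotient.out c) :=
    ⟨fun c => Y (Quotient.out c), fun c => rfl⟩
  have hy'q : ∀ v, y' (DualGr.ctrMk ends D v) = Y v := by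
    intro v
    rw [hy']
    have h1 : DualGr.ctrMk ends D (Quotient.out (DualGr.ctrMk ends D v)) = DualGr.ctrMk ends D v :=
      Quotient.out_eq _
    rcases hq_eq _ _ h1 with h | ⟨⟨j, hj, hj'⟩, ⟨k, hk, hk'⟩⟩
    · rw [h]
    · rw [hj', hYL j hj, hk', hYL k hk]
  -- conclusion
  refine ⟨y', ?_⟩
  rw [Matrix.mulVecLin_apply]
  funext c
  obtain ⟨v0, rfl⟩ := DualGr.ctrMk_surjective ends D c
  have hb'ne : LabGraph.ctrFn ends D β (DualGr.ctrMk ends D v0) ≠ 0 := by
    rw [hβ']
    exact (hβpos v0).ne'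
  apply mul_left_cancel₀ hb'ne
  rw [Contract.beta_mul_mulVec _ _ _ _ (Contract.ctr_dvd ends D β hβ' (fun v => (hβ v).2) _)]
  have hom' : Contract.om (DualGr.ctrEnds ends D) (LabGraph.ctrFn ends D β) y' =
      DualGr.resE D (Contract.om ends β y) := by
    funext e'
    show LabGraph.ctrFn ends D β (DualGr.ctrMk ends D (ends e'.1).1) *
        y' (DualGr.ctrMk ends D (ends e'.1).2) -
      LabGraph.ctrFn ends D β (DualGr.ctrMk ends D (ends e'.1).2) *
        y' (DualGr.ctrMk ends D (ends e'.1).1) = Contract.om ends β y e'.1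
    rw [hβ', hβ', hy'q, hy'q]
    exact homY e'.1 e'.2
  rw [hom']
  have hpush := congrFun (DualGr.pushV_boundaryHom ends D (Contract.om ends β y))
    (DualGr.ctrMk ends D v0)
  simp only [DualGr.boundaryHom_apply] at hpush
  rw [← hpush]
  simp only [DualGr.pushV, LinearMap.coe_mk, AddHom.coe_mk]
  have hbd : ∀ v, LabGraph.boundary ends (Contract.om ends β y) v =
      -(β v * LabGraph.liftAt ends D (f 0) x v) := by
    intro v
    have h1 := Contract.beta_mul_mulVec ends β y v (hβ v).2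
    rw [hy] at h1
    linarith
  simp only [hbd]
  rw [Finset.sum_neg_distrib, neg_neg, hβ']
  by_cases hc : DualGr.ctrMk ends D v0 = DualGr.ctrMk ends D (fn 0)
  · rw [Finset.sum_eq_single_of_mem (fn 0) (Finset.mem_filter.2 ⟨Finset.mem_univ _, hc.symm⟩)]
    · have h1 : LabGraph.liftAt ends D (f 0) x (fn 0) = x (DualGr.ctrMk ends D (fn 0)) := by
        simp only [LabGraph.liftAt]
        rw [if_neg (fun h => h.2 hf0.symm)]
      have hbeq : β (fn 0) = β v0 := by rw [← hβ' (fn 0), ← hβ' v0, hc]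
      rw [h1, hbeq, hc]
    · intro w hw hne
      have hw' : DualGr.ctrMk ends D w = DualGr.ctrMk ends D v0 := (Finset.mem_filter.1 hw).2
      have h1 : LabGraph.liftAt ends D (f 0) x w = 0 := by
        simp only [LabGraph.liftAt]
        rw [if_pos ⟨by rw [hf0, hw', hc], by rw [hf0]; exact hne⟩]
      rw [h1, mul_zero]
  · rw [Finset.sum_eq_single_of_mem v0 ?_ ?_]
    · have h1 : LabGraph.liftAt ends D (f 0) x v0 = x (DualGr.ctrMk ends D v0) := by
        simp only [LabGraph.liftAt]
        rw [if_neg (fun h => hc (by rw [h.1, hf0]))]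
      rw [h1]
    · exact Finset.mem_filter.2 ⟨Finset.mem_univ _, rfl⟩
    · intro w hw hne
      exfalso
      have hw' : DualGr.ctrMk ends D w = DualGr.ctrMk ends D v0 := (Finset.mem_filter.1 hw).2
      rcases hq_eq _ _ hw' with h | ⟨_, ⟨k, hk, hk'⟩⟩
      · exact hne h
      · exact hc (by rw [hk']; exact hq_chain k hk)


/-- Let (G, β) be a connected finite multigraph with a multiplicity function and α its matrix; let L be
a connecting chain of length m (vertices v₀, …, v_m, edges e₁, …, e_m, each connecting) with β(v_i)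
= m and α_{v_i v_i} = -2 for all i; let (G', β') be the contraction of L and f : ℤ^{V(G')} →
ℤ^{V(G)} the extension by zero along the section sending the contracted vertex to v₀. Then the
homomorphism ker β'/im α' → ker β/im α induced by f is injective: if x ∈ ker β' and f(x) ∈ im α then
x ∈ im α'. With the surjectivity this gives Φ(G') ≅ Φ(G): the component group depends on the length
of such a chain only modulo m. -/
theorem result {V E : Type u} [Fintype V] [Fintype E] [DecidableEq V] [DecidableEq E]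
    (ends : E → V × V) (β : V → ℤ) (hβ : LabGraph.IsMultFn ends β) (hG : LabGraph.Connected ends)
    (m : ℕ) (f : Fin (m + 1) → V) (e : Fin m → E) (hC : LabGraph.IsChain ends f e)
    (hconn : ∀ i, LabGraph.IsConnecting ends (e i)) (hβm : ∀ i, β (f i) = m)
    (hα : ∀ i, LabGraph.mfMatrix ends β (f i) (f i) = -2)
    (x : DualGr.CtrVert ends (univ.image e) → ℤ)
    (hx : x ∈ LinearMap.ker (LabGraph.betaHom (LabGraph.ctrFn ends (univ.image e) β)))
    (hfx : LabGraph.liftAt ends (univ.image e) (f 0) x ∈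
      LinearMap.range (Matrix.mulVecLin (LabGraph.mfMatrix ends β))) :
    x ∈ LinearMap.range (Matrix.mulVecLin
      (LabGraph.mfMatrix (DualGr.ctrEnds ends (univ.image e)) (LabGraph.ctrFn ends (univ.image e) β))) := by
  exact main ends β hβ m f e hC hconn hβm hα (univ.image e) (fun e' => by simp) x hfx

end Groth.Agent.S14802
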