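import Groth.Statements.S14803
import Mathlib
import Groth.Agent.Lib.Helper7.MatTree3
import Groth.Agent.Lib.Helper7.MatTree4
-- import your own Groth.Agent.* helpers here

set_option autoImplicit false
universe u
open Finset
open LabGraph

namespace Groth.Agent.S14803

open Groth.Agent.Helper7.LabG Groth.Agent.Helper7.MatTree Matrix

section aux
variable {V E : Type u} [Fintype V] [Fintype E] [DecidableEq V] [DecidableEq E]

lemma edge_term (ends : E → V × V) (β : V → ℤ) {v w : V} (hvw : v ≠ w) (e : E) :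
    β v * (if ends e = (v, w) ∨ ends e = (w, v) then 1 else 0) * β w =
      -((β (ends e).1 * β (ends e).2) * (bvec ends ℤ e v * bvec ends ℤ e w)) := by
  have e1 : (if v = w then (1:ℤ) else 0) = 0 := if_neg hvw
  have e2 : (if w = v then (1:ℤ) else 0) = 0 := if_neg hvw.symm
  have e3 : (if v = v then (1:ℤ) else 0) = 1 := if_pos rfl
  have e4 : (if w = w then (1:ℤ) else 0) = 1 := if_pos rfl
  by_cases h1 : ends e = (v, w)
  · have ha : (ends e).1 = v := by rw [h1]
    have hb : (ends e).2 = w := by rw [h1]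
    rw [if_pos (Or.inl h1), bvec_apply, bvec_apply, ha, hb, e1, e2, e3, e4]
    ring
  · by_cases h2 : ends e = (w, v)
    · have ha : (ends e).1 = w := by rw [h2]
      have hb : (ends e).2 = v := by rw [h2]
      rw [if_pos (Or.inr h2), bvec_apply, bvec_apply, ha, hb, e1, e2, e3, e4]
      ring
    · rw [if_neg (not_or.2 ⟨h1, h2⟩), mul_zero, zero_mul]
      have h0 : bvec ends ℤ e v * bvec ends ℤ e w = 0 := by
        rw [bvec_apply, bvec_apply]
        by_cases ha : v = (ends e).1
        · have hb : w ≠ (ends e).2 := fun hb => h1 (Prod.ext ha.symm hb.symm)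
          have ha' : w ≠ (ends e).1 := fun h => hvw (ha.trans h.symm)
          simp [hb, ha']
        · by_cases hb : v = (ends e).2
          · have ha' : w ≠ (ends e).1 := fun h => h2 (Prod.ext h.symm hb.symm)
            have hb' : w ≠ (ends e).2 := fun h => hvw (hb.trans h.symm)
            simp [ha', hb']
          · simp [ha, hb]
      rw [h0, mul_zero, neg_zero]

lemma lap_off (ends : E → V × V) (β : V → ℤ) {v w : V} (hvw : v ≠ w) :
    β v * (LabGraph.edgeMult ends v w : ℤ) * β w =
      -∑ e, (β (ends e).1 * β (ends e).2) * (bvec ends ℤ e v * bvec ends ℤ e w) := by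
  unfold LabGraph.edgeMult
  rw [Finset.card_filter]
  push_cast
  rw [Finset.mul_sum, Finset.sum_mul, ← Finset.sum_neg_distrib]
  exact Finset.sum_congr rfl fun e _ => edge_term ends β hvw e

lemma lap_rowsum (ends : E → V × V) (β : V → ℤ) (v : V) :
    ∑ w, ∑ e, (β (ends e).1 * β (ends e).2) * (bvec ends ℤ e v * bvec ends ℤ e w) = 0 := by
  rw [Finset.sum_comm]
  refine Finset.sum_eq_zero fun e _ => ?_
  rw [← Finset.mul_sum, ← Finset.mul_sum, sum_bvec, mul_zero, mul_zero]

lemma lap (ends : E → V × V) (β : V → ℤ) (hβ : LabGraph.IsMultFn ends β) (v w : V) :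
    β v * LabGraph.mfMatrix ends β v w * β w =
      -∑ e, (β (ends e).1 * β (ends e).2) * (bvec ends ℤ e v * bvec ends ℤ e w) := by
  by_cases hvw : v = w
  · subst hvw
    have hdiag : β v * LabGraph.mfMatrix ends β v v =
        -(∑ u ∈ Finset.univ.erase v, β u * (LabGraph.edgeMult ends v u : ℤ)) := by
      simp only [LabGraph.mfMatrix, if_pos rfl]
      exact Int.mul_ediv_cancel' (dvd_neg.2 (hβ v).2)
    rw [hdiag, neg_mul, neg_inj, Finset.sum_mul]
    have h1 : ∀ u ∈ Finset.univ.erase v, β u * (LabGraph.edgeMult ends v u : ℤ) * β v =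
        -∑ e, (β (ends e).1 * β (ends e).2) * (bvec ends ℤ e v * bvec ends ℤ e u) := by
      intro u hu
      have hne : v ≠ u := fun h => (Finset.mem_erase.1 hu).1 h.symm
      rw [← lap_off ends β hne]; ring
    rw [Finset.sum_congr rfl h1, Finset.sum_neg_distrib]
    have h2 := lap_rowsum ends β v
    rw [← Finset.add_sum_erase Finset.univ _ (Finset.mem_univ v)] at h2
    linarith
  · rw [show LabGraph.mfMatrix ends β v w = (LabGraph.edgeMult ends v w : ℤ) by
      simp [LabGraph.mfMatrix, hvw]]
    exact lap_off ends β hvw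

lemma exists_tree (ends : E → V × V) [Nonempty V] (h : SConn ends Finset.univ) :
    ∃ T : Finset E, SConn ends T ∧ T.card + 1 = Fintype.card V := by
  classical
  let 𝒮 : Finset (Finset E) := Finset.univ.filter (fun S => SConn ends S)
  have hne : 𝒮.Nonempty := ⟨Finset.univ, Finset.mem_filter.2 ⟨Finset.mem_univ _, h⟩⟩
  obtain ⟨T, hT𝒮, hTmin⟩ := Finset.exists_min_image 𝒮 Finset.card hne
  have hTconn : SConn ends T := (Finset.mem_filter.1 hT𝒮).2
  have hF : ∀ C : Finset E, C ⊆ T → ¬ LabGraph.IsCircuit ends C := by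
    intro C hCT hC
    obtain ⟨e₁, he₁⟩ := hC.1
    have h1 := erase_conn ends hCT hC.2.1 he₁ hTconn
    have h2 : T.erase e₁ ∈ 𝒮 := Finset.mem_filter.2 ⟨Finset.mem_univ _, h1⟩
    have h3 := hTmin _ h2
    have h4 := Finset.card_erase_lt_of_mem (hCT he₁)
    omega
  exact ⟨T, hTconn, le_antisymm (card_le_of_forest ends hF) (card_ge_of_sconn ends hTconn)⟩

open Classical in
/-- the weighted number of spanning trees -/
noncomputable def treeSum (ends : E → V × V) (β : V → ℤ) : ℤ :=
  ∑ T ∈ Finset.univ.filter (fun T : Finset E => SConn ends T ∧ T.card + 1 = Fintype.card V),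
    ∏ e ∈ T, (β (ends e).1 * β (ends e).2)

lemma sum_good' [Nonempty V] (ends : E → V × V) (u β : V → ℤ) :
    ∑ p : V → Option E, (∏ v, cw ends β (p v)) * ((incMat ends u).submatrix id p).det ^ 2 =
      ((Fintype.card V).factorial : ℤ) * ((∑ x, u x) ^ 2 * ((-1) ^ (Fintype.card V - 1) *
        treeSum ends β)) := by
  rw [sum_good ends u β]
  unfold treeSum
  congr!

lemma treeSum_pos [Nonempty V] (ends : E → V × V) (β : V → ℤ) (hβ : ∀ v, 0 < β v)
    (h : SConn ends Finset.univ) : 0 < treeSum ends β := by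
  classical
  obtain ⟨T, hT1, hT2⟩ := exists_tree ends h
  unfold treeSum
  apply Finset.sum_pos
  · intro T _; exact Finset.prod_pos fun e _ => mul_pos (hβ _) (hβ _)
  · exact ⟨T, Finset.mem_filter.2 ⟨Finset.mem_univ _, hT1, hT2⟩⟩

lemma treeSum_cast [Nonempty V] (ends : E → V × V) (β : V → ℤ) (hβ : ∀ v, 0 < β v)
    (inst : DecidablePred fun T : Finset E => LabGraph.IsSpanningTree ends T) :
    ∑ T ∈ @Finset.filter _ (fun T : Finset E => LabGraph.IsSpanningTree ends T) inst
        Finset.univ.powerset,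
      ∏ v : V, ((β v : ℚ) ^ ((LabGraph.nbrCount ends T v : ℤ) - 2)) =
    (treeSum ends β : ℚ) / ((∏ v, β v : ℤ) : ℚ) ^ 2 := by
  classical
  unfold treeSum
  rw [Int.cast_sum, Finset.sum_div]
  refine Finset.sum_congr ?_ ?_
  · ext T
    simp only [Finset.mem_filter, Finset.mem_powerset, Finset.subset_univ, Finset.mem_univ,
      true_and]
    exact tree_iff ends T
  · intro T hT
    have hT' : LabGraph.IsSpanningTree ends T := (tree_iff ends T).2 (Finset.mem_filter.1 hT).2
    have hF := forest_of_tree ends hT'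
    have hne : ∀ v, (β v : ℚ) ≠ 0 := fun v => by exact_mod_cast (hβ v).ne'
    have h1 : ∀ v, ((β v : ℚ) ^ ((LabGraph.nbrCount ends T v : ℤ) - 2)) =
        (β v : ℚ) ^ (LabGraph.endCount ends T v) / (β v : ℚ) ^ 2 := by
      intro v
      rw [nbrCount_eq_endCount ends hF v, zpow_sub₀ (hne v), zpow_natCast]
      norm_num
    simp only [h1]
    rw [Finset.prod_div_distrib, prod_edge_weight ends β T]
    push_cast
    rw [Finset.prod_pow]

end aux


open Classical in
/-- Let (G, β) be a connected finite multigraph with a multiplicity function, α its matrix (α_{vw} =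
#edges(v, w) for v ≠ w, Σ_w β(w) α_{vw} = 0) and Φ(G) = ker β / im α its component group; let m be
the gcd of all the values β(v). Then Φ(G) is finite of order m² · Σ_T Π_v β(v)^{#N_T(v) - 2}, where
T runs over the spanning trees of G and N_T(v) is the set of neighbours of v in T. (The published
statement gives this order for the Néron component group of a curve's Jacobian, G being the weighted
dual graph of a proper regular model and β its component multiplicities; this row states the
identity for every connected pair (G, β) with a positive multiplicity function.) -/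
theorem result {V E : Type u} [Fintype V] [Fintype E] [DecidableEq V] [DecidableEq E]
    (ends : E → V × V) (β : V → ℤ) (hβ : LabGraph.IsMultFn ends β) (hG : LabGraph.Connected ends) :
    (Nat.card (LabGraph.CompGrp ends β) : ℚ) =
      ((univ.gcd β : ℤ) : ℚ) ^ 2 *
        ∑ T ∈ univ.powerset.filter (fun T : Finset E => LabGraph.IsSpanningTree ends T),
          ∏ v : V, ((β v : ℚ) ^ ((LabGraph.nbrCount ends T v : ℤ) - 2)) := by
  classical
  have : Nonempty V := hG.1
  obtain ⟨v₀⟩ := hG.1
  have hβpos : ∀ v, 0 < β v := fun v => (hβ v).1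
  have hβne : ∀ v, β v ≠ 0 := fun v => (hβpos v).ne'
  have hconnU : SConn ends Finset.univ := fun x y => (hG.2 x y).lift id (fun a b hab => by
    obtain ⟨e, he⟩ := hab
    exact ⟨e, Finset.mem_univ e, he⟩)
  obtain ⟨m, hm_def⟩ : ∃ m : ℤ, m = Finset.univ.gcd β := ⟨_, rfl⟩
  have hmdvd : ∀ v, m ∣ β v := fun v => hm_def ▸ Finset.gcd_dvd (Finset.mem_univ v)
  have hm0 : m ≠ 0 := by
    intro h0
    have h1 := hmdvd v₀
    rw [h0, zero_dvd_iff] at h1
    exact hβne v₀ h1
  obtain ⟨r, hr⟩ := Finset.gcd_eq_sum_mul Finset.univ β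
  have hr' : ∑ v, β v * r v = m := by rw [hm_def]; exact hr.symm
  obtain ⟨b, hb⟩ : ∃ b : V → ℤ, ∀ v, β v = m * b v :=
    ⟨fun v => β v / m, fun v => (Int.mul_ediv_cancel' (hmdvd v)).symm⟩
  rw [← hm_def]
  set α := LabGraph.mfMatrix ends β with hα
  have hlap : ∀ v w, β v * α v w * β w =
      -∑ e, (β (ends e).1 * β (ends e).2) * (bvec ends ℤ e v * bvec ends ℤ e w) :=
    lap ends β hβ
  have hrow : ∀ v, ∑ w, α v w * β w = 0 := by
    intro v
    have h1 : β v * ∑ w, α v w * β w = 0 := by
      rw [Finset.mul_sum]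
      have h2 : ∀ w, β v * (α v w * β w) =
          -∑ e, (β (ends e).1 * β (ends e).2) * (bvec ends ℤ e v * bvec ends ℤ e w) :=
        fun w => by rw [← hlap v w]; ring
      simp only [h2, Finset.sum_neg_distrib, lap_rowsum, neg_zero]
    exact (mul_eq_zero.1 h1).resolve_left (hβne v)
  have hcol : ∀ w, ∑ v, β v * α v w = 0 := by
    intro w
    have h1 : (∑ v, β v * α v w) * β w = 0 := by
      rw [Finset.sum_mul]
      have h2 : ∀ v, β v * α v w * β w =
          -∑ e, (β (ends e).1 * β (ends e).2) * (bvec ends ℤ e w * bvec ends ℤ e v) :=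
        fun v => by
          rw [hlap v w]; congr 1; exact Finset.sum_congr rfl fun e _ => by ring
      simp only [h2, Finset.sum_neg_distrib, lap_rowsum, neg_zero]
    exact (mul_eq_zero.1 h1).resolve_right (hβne w)
  obtain ⟨M', hM'⟩ : ∃ M' : Matrix V V ℤ, ∀ v w, M' v w = α v w + r v * r w :=
    ⟨fun v w => α v w + r v * r w, fun _ _ => rfl⟩
  obtain ⟨u, hu⟩ : ∃ u : V → ℤ, ∀ v, u v = β v * r v := ⟨fun v => β v * r v, fun _ => rfl⟩
  have husum : ∑ x, u x = m := by simp only [hu]; exact hr'
  have hgram : Matrix.diagonal β * M' * Matrix.diagonal β =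
      incMat ends u * Matrix.diagonal (cw ends β) * (incMat ends u)ᵀ := by
    ext v w
    rw [Matrix.mul_diagonal, Matrix.diagonal_mul, Groth.Agent.Helper7.MatTree.gram_apply,
      Fintype.sum_option, hM']
    simp only [incMat_none, incMat_some, cw, Option.elim_none, Option.elim_some]
    have h2 : ∑ e, bvec ends ℤ e v * -(β (ends e).1 * β (ends e).2) * bvec ends ℤ e w =
        β v * α v w * β w := by
      rw [hlap v w, ← Finset.sum_neg_distrib]
      exact Finset.sum_congr rfl fun e _ => by ring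
    rw [h2, hu v, hu w]; ring
  have hdetP : (Matrix.diagonal β * M' * Matrix.diagonal β).det = (∏ v, β v) ^ 2 * M'.det := by
    rw [Matrix.det_mul, Matrix.det_mul, Matrix.det_diagonal]; ring
  have hCB := cauchy_binet_sq (incMat ends u) (cw ends β)
  rw [← hgram, hdetP, sum_good' ends u β, husum] at hCB
  have hfact : ((Fintype.card V).factorial : ℤ) ≠ 0 := by
    exact_mod_cast (Nat.factorial_ne_zero _)
  have hstar : (∏ v, β v) ^ 2 * M'.det =
      m ^ 2 * ((-1) ^ (Fintype.card V - 1) * treeSum ends β) := mul_left_cancel₀ hfact hCB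
  have hSpos := treeSum_pos ends β hβpos hconnU
  have hdet : M'.det ≠ 0 := by
    intro h0
    rw [h0, mul_zero] at hstar
    have h1 : m ^ 2 ≠ 0 := pow_ne_zero 2 hm0
    have h2 : ((-1:ℤ)) ^ (Fintype.card V - 1) ≠ 0 := pow_ne_zero _ (by norm_num)
    exact (mul_ne_zero h1 (mul_ne_zero h2 hSpos.ne')) hstar.symm
  have hcard : Nat.card (LabGraph.CompGrp ends β) = M'.det.natAbs :=
    card_quot_ker α M' β r b m hm0 hb hr' hrow hcol hM' hdet
  have habs : (M'.det.natAbs : ℤ) * (∏ v, β v) ^ 2 = m ^ 2 * treeSum ends β := by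
    have h1 := congrArg abs hstar
    simp only [abs_mul, abs_pow, abs_neg, abs_one, one_pow, one_mul, abs_of_pos hSpos,
      sq_abs] at h1
    rw [Int.natCast_natAbs]
    linarith
  rw [hcard, treeSum_cast ends β hβpos]
  have hP : ((∏ v, β v : ℤ) : ℚ) ≠ 0 := by
    exact_mod_cast (Finset.prod_pos fun v _ => hβpos v).ne'
  have habsQ : ((M'.det.natAbs : ℤ) : ℚ) * ((∏ v, β v : ℤ) : ℚ) ^ 2 =
      (m:ℚ) ^ 2 * (treeSum ends β : ℚ) := by exact_mod_cast habs
  rw [← mul_div_assoc, eq_div_iff (pow_ne_zero 2 hP), ← habsQ, Int.cast_natCast]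

end Groth.Agent.S14803
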