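import Groth.Statements.S14804
import Mathlib
import Groth.Agent.Lib.Helper7.LabG
-- import your own Groth.Agent.* helpers here

set_option autoImplicit false
universe u
open Finset
open LabGraph

namespace Groth.Agent.S14804

open Groth.Agent.Helper7.LabG

section aux
variable {V E : Type u} [Fintype V] [Fintype E] [DecidableEq V] [DecidableEq E]

lemma step_symm (ends : E → V × V) (S : Finset E) : Symmetric (step ends S) := by
  rintro a b ⟨e, he, h⟩
  exact ⟨e, he, h.symm⟩

lemma rtg_symm (ends : E → V × V) (S : Finset E) {a b : V}
    (h : Relation.ReflTransGen (step ends S) a b) : Relation.ReflTransGen (step ends S) b a := by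
  induction h with
  | refl => exact Relation.ReflTransGen.refl
  | tail _ hbc ih => exact Relation.ReflTransGen.head (step_symm ends S hbc) ih

lemma erase_conn (ends : E → V × V) {S C : Finset E} (hCS : C ⊆ S)
    (hC : ∀ v, Even (LabGraph.endCount ends C v)) {e₁ : E} (he₁ : e₁ ∈ C)
    (hS : ∀ x y, Relation.ReflTransGen (step ends S) x y) :
    ∀ x y, Relation.ReflTransGen (step ends (S.erase e₁)) x y := by
  have h12 : Relation.ReflTransGen (step ends (S.erase e₁)) (ends e₁).1 (ends e₁).2 := by
    have key : (Relation.ReflTransGen (step ends (S.erase e₁)) (ends e₁).1 (ends e₁).1) =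
        (Relation.ReflTransGen (step ends (S.erase e₁)) (ends e₁).1 (ends e₁).2) := by
      refine level_parity ends hC he₁
        (fun w => Relation.ReflTransGen (step ends (S.erase e₁)) (ends e₁).1 w) ?_
      intro e' he' hne
      have hmem : e' ∈ S.erase e₁ := Finset.mem_erase.2 ⟨hne, hCS he'⟩
      change Relation.ReflTransGen (step ends (S.erase e₁)) (ends e₁).1 (ends e').1 =
        Relation.ReflTransGen (step ends (S.erase e₁)) (ends e₁).1 (ends e').2
      apply propext
      constructor
      · intro h; exact h.tail ⟨e', hmem, Or.inl rfl⟩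
      · intro h; exact h.tail ⟨e', hmem, Or.inr rfl⟩
    exact key.mp Relation.ReflTransGen.refl
  have h21 : Relation.ReflTransGen (step ends (S.erase e₁)) (ends e₁).2 (ends e₁).1 :=
    rtg_symm ends _ h12
  intro x y
  have hxy := hS x y
  induction hxy with
  | refl => exact Relation.ReflTransGen.refl
  | tail _ hbc ih =>
    refine ih.trans ?_
    obtain ⟨e', he', h⟩ := hbc
    by_cases hee : e' = e₁
    · rw [hee] at h
      rcases h with h | h
      · simpa [h] using h12
      · simpa [h] using h21
    · exact Relation.ReflTransGen.single ⟨e', Finset.mem_erase.2 ⟨hee, he'⟩, h⟩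

end aux


/-- In a connected finite multigraph G, a vertex v belongs to some cycle of G (here: v is an endpoint of
an edge of some circuit, a circuit being a minimal nonempty edge set meeting every vertex in an even
number of edge-ends, which includes loops and pairs of parallel edges) if and only if G has a
spanning tree T such that some edge outside T has v as an endpoint. (The published statement is for
an arbitrary multigraph; when G is disconnected it has no spanning tree while a vertex may lie on a
cycle, so G is taken connected here, the case of dual graphs for which it is used.) -/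
theorem result
    {V E : Type u} [Fintype V] [Fintype E] [DecidableEq V] [DecidableEq E]
    (ends : E → V × V) (hG : LabGraph.Connected ends) (v : V) :
    (∃ C : Finset E, LabGraph.IsCircuit ends C ∧ LabGraph.endCount ends C v ≠ 0) ↔
      ∃ T : Finset E, LabGraph.IsSpanningTree ends T ∧
        ∃ e : E, e ∉ T ∧ ((ends e).1 = v ∨ (ends e).2 = v) := by
  classical
  constructor
  · rintro ⟨C, hC, hv⟩
    have hex : ∃ e ∈ C, ((ends e).1 = v ∨ (ends e).2 = v) := by
      by_contra hcon
      push Not at hcon
      apply hv
      unfold LabGraph.endCount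
      refine Finset.sum_eq_zero (fun e he => ?_)
      have := hcon e he
      simp [this.1, this.2]
    obtain ⟨e, heC, hev⟩ := hex
    have huniv : ∀ x y, Relation.ReflTransGen (step ends Finset.univ) x y := fun x y =>
      (hG.2 x y).lift id (fun a b h => by
        obtain ⟨e', h⟩ := h
        exact ⟨e', Finset.mem_univ e', h⟩)
    have h0 := erase_conn ends (Finset.subset_univ C) hC.2.1 heC huniv
    let 𝒮 : Finset (Finset E) := (Finset.univ.erase e).powerset.filter
      (fun S => ∀ x y, Relation.ReflTransGen (step ends S) x y)
    have hne : 𝒮.Nonempty := ⟨Finset.univ.erase e,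
      Finset.mem_filter.2 ⟨Finset.mem_powerset.2 (Finset.Subset.refl _), h0⟩⟩
    obtain ⟨T, hT𝒮, hTmin⟩ := Finset.exists_min_image 𝒮 Finset.card hne
    obtain ⟨hTsub, hTconn⟩ := Finset.mem_filter.1 hT𝒮
    rw [Finset.mem_powerset] at hTsub
    refine ⟨T, ⟨⟨hG.1, fun x y => (hTconn x y).lift id ?_⟩, ?_⟩, e, ?_, hev⟩
    · rintro a b ⟨e', he', h⟩
      exact ⟨⟨e', he'⟩, h⟩
    · intro C' hC'
      obtain ⟨⟨⟨e₁, he₁T⟩, he₁⟩, hev', -⟩ := hC'
      let C'' : Finset E := C'.map (Function.Embedding.subtype _)
      have hsub : C'' ⊆ T := by
        intro x hx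
        obtain ⟨y, -, rfl⟩ := Finset.mem_map.1 hx
        exact y.2
      have hmem : e₁ ∈ C'' := Finset.mem_map.2 ⟨⟨e₁, he₁T⟩, he₁, rfl⟩
      have heven : ∀ w, Even (LabGraph.endCount ends C'' w) := by
        intro w
        have hh : LabGraph.endCount ends C'' w = LabGraph.endCount (fun e : ↥T => ends e.1) C' w :=
          Finset.sum_map C' (Function.Embedding.subtype _) _
        rw [hh]
        exact hev' w
      have h1 := erase_conn ends hsub heven hmem hTconn
      have h2 : T.erase e₁ ∈ 𝒮 := Finset.mem_filter.2
        ⟨Finset.mem_powerset.2 ((Finset.erase_subset _ _).trans hTsub), h1⟩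
      have h3 := hTmin _ h2
      have h4 := Finset.card_erase_lt_of_mem he₁T
      omega
    · exact fun h => (Finset.mem_erase.1 (hTsub h)).1 rfl
  · rintro ⟨T, hT, e, heT, hev⟩
    have hconn : Relation.ReflTransGen (step ends T) (ends e).2 (ends e).1 :=
      (hT.1.2 (ends e).2 (ends e).1).lift id (fun a b h => by
        obtain ⟨e', h⟩ := h
        exact ⟨e'.1, e'.2, h⟩)
    obtain ⟨D, hDT, hD⟩ := exists_odd_set ends T hconn
    have heD : e ∉ D := fun h => heT (hDT h)
    have hD' : ∀ w, Even (LabGraph.endCount ends (insert e D) w) := by
      intro w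
      have h1 : LabGraph.endCount ends (insert e D) w =
          ((if (ends e).1 = w then 1 else 0) + (if (ends e).2 = w then 1 else 0)) +
            LabGraph.endCount ends D w := by
        simp only [LabGraph.endCount]
        exact Finset.sum_insert heD
      have h2 := hD w
      rw [Nat.even_iff, h1]
      split_ifs at h2 ⊢ <;> omega
    obtain ⟨C, hCsub, heC, hC⟩ := exists_circuit ends hD' (Finset.mem_insert_self e D)
    refine ⟨C, hC, ?_⟩
    intro h0
    have := Finset.sum_eq_zero_iff.1 h0 e heC
    rcases hev with h | h
    · rw [if_pos h] at this; omega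
    · rw [if_pos h] at this; omega

end Groth.Agent.S14804
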