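import Groth.Statements.S14807
import Mathlib
-- import your own Groth.Agent.* helpers here

set_option autoImplicit false
universe u
open CAlg

namespace Groth.Agent.S14807

/-- Let G be a finite abelian group, written additively, and ℓ a prime number. Every sequence (g_n)_{n ≥
0} of elements of G with ℓ^n · g_n = 0 and ℓ · g_{n+1} = g_n for all n is identically zero; in other
words the inverse limit of the subgroups of ℓ^n-torsion elements, with transition maps
multiplication by ℓ, vanishes. -/
theorem result (G : Type u) [AddCommGroup G] [Finite G]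
    (ℓ : ℕ) (hℓ : ℓ.Prime) (g : ℕ → G) (htor : ∀ n : ℕ, ℓ ^ n • g n = 0)
    (hcomp : ∀ n : ℕ, ℓ • g (n + 1) = g n) (n : ℕ) : g n = 0 := by
  have hm : 0 < Nat.card G := Nat.card_pos
  set m := Nat.card G with hmdef
  -- g n = ℓ ^ k • g (n + k)
  have hiter : ∀ k : ℕ, ℓ ^ k • g (n + k) = g n := by
    intro k
    induction k with
    | zero => simp
    | succ k ih =>
      rw [pow_succ, mul_smul, ← add_assoc, hcomp, ih]
  rw [← hiter m]
  set x := g (n + m) with hx
  have h1 : addOrderOf x ∣ ℓ ^ (n + m) := addOrderOf_dvd_of_nsmul_eq_zero (htor (n + m))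
  obtain ⟨b, -, hb⟩ := (Nat.dvd_prime_pow hℓ).mp h1
  have h2 : addOrderOf x ∣ m := addOrderOf_dvd_natCard x
  have h3 : ℓ ^ b ≤ m := hb ▸ Nat.le_of_dvd hm h2
  have h4 : b < ℓ ^ b := Nat.lt_pow_self hℓ.one_lt
  have h5 : addOrderOf x ∣ ℓ ^ m := by
    rw [hb]
    exact pow_dvd_pow ℓ (by omega)
  exact addOrderOf_dvd_iff_nsmul_eq_zero.mp h5

end Groth.Agent.S14807
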