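import Groth.Statements.S14839
import Mathlib
import Groth.Agent.Lib.Helper7.Coalg7
-- import your own Groth.Agent.* helpers here

set_option autoImplicit false
universe u v
open HopfRep

namespace Groth.Agent.S14839

open Groth.Agent.H29 Groth.Agent.Helper7.Coalg7 in
attribute [local instance] Groth.Agent.H29.dualModule


open TensorProduct in
/-- Over a field K, every simple coalgebra is finite-dimensional. Here a subcoalgebra of C is a subspace
B whose comultiplication lands in the image of B ⊗ B in C ⊗ C, and C is simple when it is nonzero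
and its only subcoalgebras are 0 and C. -/
theorem result {K : Type u} {C : Type v} [Field K] [AddCommGroup C]
    [Module K C] [Coalgebra K C] [Nontrivial C]
    (hsimple : ∀ B : Submodule K C,
      (∀ b ∈ B, CoalgebraStruct.comul (R := K) b ∈ LinearMap.range (TensorProduct.map B.subtype B.subtype)) →
        B = ⊥ ∨ B = ⊤) :
    Module.Finite K C := by
  classical
  obtain ⟨c, hc⟩ := exists_ne (0 : C)
  obtain ⟨W, hWfin, hcW, hW⟩ := Groth.Agent.H15.FundComod.fund K C C c
  have hfinN : Module.Finite K (Groth.Agent.H29.ofDualSub (Groth.Agent.H29.toDualSub W hW)) :=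
    (Groth.Agent.H29.ofDualSub_toDualSub W hW).symm ▸ hWfin
  have hfin := Groth.Agent.Helper7.Coalg7.finite_coeffOf (Groth.Agent.H29.toDualSub W hW)
  have hself : W ≤ Groth.Agent.Helper7.Coalg7.coeffOf (Groth.Agent.H29.toDualSub W hW) :=
    fun w hw => Groth.Agent.Helper7.Coalg7.map_mem_coeffOf (Groth.Agent.H29.toDualSub W hW)
      (Groth.Agent.H29.toDualSub W hW).subtype ⟨w, hw⟩
  rcases hsimple _ (Groth.Agent.Helper7.Coalg7.coeffOf_isSubcoalg (Groth.Agent.H29.toDualSub W hW))
    with h | h
  · exfalso
    have h1 := hself hcW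
    rw [h, Submodule.mem_bot] at h1
    exact hc h1
  · rw [h] at hfin
    exact Module.finite_def.mpr (Module.Finite.iff_fg.mp hfin)

end Groth.Agent.S14839
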