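import Groth.Statements.S1484
import Mathlib.Tactic

set_option autoImplicit false
universe u
open FlatMor

namespace Groth.Agent.S1484

/-- Let R be a ring, p_1, …, p_r primes of R none of which is contained in another, k_i ⊆ κ(p_i)
subfields over which κ(p_i) is not algebraic, and J an ideal of R contained in none of the p_i. Then
some x ∈ J has image in κ(p_i) transcendental over k_i for every i. -/
theorem result {R : Type u} [CommRing R] {r : ℕ} (p : Fin r → Ideal R) [∀ i, (p i).IsPrime]
    (hp : ∀ i j, i ≠ j → ¬ p i ≤ p j) (k : ∀ i, Subfield (p i).ResidueField)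
    (hk : ∀ i, ¬ Algebra.IsAlgebraic ↥(k i) (p i).ResidueField) (J : Ideal R) (hJ : ∀ i, ¬ J ≤ p i) :
    ∃ x ∈ J, ∀ i, Transcendental ↥(k i) (algebraMap R (p i).ResidueField x) := by
  classical
  have key : ∀ i, ∃ x ∈ J, (∀ j, j ≠ i → x ∈ p j) ∧
      Transcendental ↥(k i) (algebraMap R (p i).ResidueField x) := by
    intro i
    have h1 : ¬ (J * ∏ j ∈ Finset.univ.erase i, p j) ≤ p i := by
      intro hle
      rcases (Ideal.IsPrime.mul_le inferInstance).mp hle with h | h
      · exact hJ i h
      · obtain ⟨j, hj, hle'⟩ := (Ideal.IsPrime.prod_le inferInstance).mp h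
        exact hp j i (Finset.ne_of_mem_erase hj) hle'
    obtain ⟨y, hy, hyi⟩ : ∃ y ∈ J * ∏ j ∈ Finset.univ.erase i, p j, y ∉ p i := by
      by_contra hcon
      push Not at hcon
      exact h1 hcon
    have hyJ : y ∈ J := Ideal.mul_le_left hy
    have hyj : ∀ j, j ≠ i → y ∈ p j := by
      intro j hj
      have h3 : y ∈ ∏ j ∈ Finset.univ.erase i, p j := Ideal.mul_le_right hy
      exact (Ideal.prod_le_inf.trans
        (Finset.inf_le (Finset.mem_erase.mpr ⟨hj, Finset.mem_univ j⟩))) h3
    have h2 : ∃ z : R, Transcendental ↥(k i) (algebraMap R (p i).ResidueField z) := by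
      by_contra hcon
      push Not at hcon
      apply hk i
      constructor
      intro t
      obtain ⟨a, b, -, rfl⟩ := IsFractionRing.div_surjective (A := R ⧸ p i) t
      obtain ⟨a, rfl⟩ := Ideal.Quotient.mk_surjective a
      obtain ⟨b, rfl⟩ := Ideal.Quotient.mk_surjective b
      rw [Ideal.algebraMap_quotient_residueField_mk, Ideal.algebraMap_quotient_residueField_mk]
      have ha' := hcon a
      have hb' := hcon b
      rw [Transcendental, not_not] at ha' hb'
      rw [div_eq_mul_inv]
      exact ha'.mul hb'.inv
    obtain ⟨z, hz⟩ := h2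
    have hy0 : algebraMap R (p i).ResidueField y ≠ 0 := by
      rwa [Ne, Ideal.algebraMap_residueField_eq_zero]
    by_cases hyt : Transcendental ↥(k i) (algebraMap R (p i).ResidueField y)
    · exact ⟨y, hyJ, hyj, hyt⟩
    · refine ⟨y * z, J.mul_mem_right _ hyJ, fun j hj => (p j).mul_mem_right _ (hyj j hj), ?_⟩
      intro halg
      apply hz
      rw [Transcendental, not_not] at hyt
      rw [map_mul] at halg
      have h4 : algebraMap R (p i).ResidueField z = (algebraMap R (p i).ResidueField y)⁻¹ *
          (algebraMap R (p i).ResidueField y * algebraMap R (p i).ResidueField z) := by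
        field_simp
      rw [h4]
      exact hyt.inv.mul halg
  let x : Fin r → R := fun i => Classical.choose (key i)
  have hxJ : ∀ i, x i ∈ J := fun i => (Classical.choose_spec (key i)).1
  have hxj : ∀ i j, j ≠ i → x i ∈ p j := fun i => (Classical.choose_spec (key i)).2.1
  have hxt : ∀ i, Transcendental ↥(k i) (algebraMap R (p i).ResidueField (x i)) :=
    fun i => (Classical.choose_spec (key i)).2.2
  refine ⟨∑ i, x i, J.sum_mem fun i _ => hxJ i, fun i => ?_⟩
  have h5 : algebraMap R (p i).ResidueField (∑ j, x j) = algebraMap R (p i).ResidueField (x i) := by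
    rw [map_sum, Finset.sum_eq_single i]
    · intro j _ hj
      rw [Ideal.algebraMap_residueField_eq_zero]
      exact hxj j i hj.symm
    · intro h; exact absurd (Finset.mem_univ _) h
  rw [h5]; exact hxt i

end Groth.Agent.S1484
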