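import Groth.Statements.S14841
import Mathlib
import Groth.Agent.Lib.Helper7.Coalg7
-- import your own Groth.Agent.* helpers here

set_option autoImplicit false
universe u v w
open HopfRep

namespace Groth.Agent.S14841

open Groth.Agent.H29 Groth.Agent.Helper7.Coalg7

attribute [local instance] Groth.Agent.H29.dualModule


open TensorProduct in
/-- Over a field K, let C be a coalgebra and E a simple right C-comodule, and let D be the coefficient
space of E, the least subspace D' of C such that the coaction of E lands in E ⊗ D'. Then D is a
simple subcoalgebra of C: it is nonzero, its comultiplication lands in the image of D ⊗ D, and any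
subcoalgebra of C contained in D is 0 or D. Here a subcoalgebra of C is a subspace B whose
comultiplication lands in the image of B ⊗ B, and a simple subcoalgebra is a nonzero subcoalgebra D
whose only subcoalgebras contained in D are 0 and D. (Stated for right comodules; the published
statement is for left comodules, with D' ⊗ E in place of E ⊗ D'.) -/
theorem result {K : Type u} {C : Type v} [Field K]
    [AddCommGroup C] [Module K C] [Coalgebra K C]
    {E : Type w} [AddCommGroup E] [Module K E] [HopfRep.Comod K C E]
    (hE : HopfRep.IsSimpleComod K C E) (D : Submodule K C)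
    (hD : IsLeast {D' : Submodule K C |
      ∀ e : E, HopfRep.Comod.coact (k := K) (A := C) e ∈ LinearMap.range (LinearMap.lTensor E D'.subtype)} D) :
    D ≠ ⊥ ∧ (∀ b ∈ D, CoalgebraStruct.comul (R := K) b ∈ LinearMap.range (TensorProduct.map D.subtype D.subtype)) ∧
      ∀ B : Submodule K C, B ≤ D → (∀ b ∈ B, CoalgebraStruct.comul (R := K) b ∈ LinearMap.range (TensorProduct.map B.subtype B.subtype)) → B = ⊥ ∨ B = D := by
  classical
  have hsE : IsSimpleModule (DualAlg K C) E := isSimpleModule_of_isSimpleComod K C E hE
  have hsT : IsSimpleModule (DualAlg K C) (⊤ : Submodule (DualAlg K C) E) :=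
    IsSimpleModule.congr (M := ↥(⊤ : Submodule (DualAlg K C) E)) (N := E) Submodule.topEquiv
  have hDeq : D = coeffOf (⊤ : Submodule (DualAlg K C) E) := by
    apply le_antisymm
    · apply hD.2
      intro e
      exact coact_mem_of_coeffOf_le ⊤ _ le_rfl Submodule.mem_top
    · exact coeffOf_le_of_coact_mem ⊤ D (fun n _ => hD.1 n)
  subst hDeq
  have hnt : Nontrivial E := hE.1
  refine ⟨coeffOf_ne_bot ⊤ top_ne_bot, coeffOf_isSubcoalg ⊤, fun B hB1 hB2 => ?_⟩
  by_cases hB0 : B = ⊥
  · left
    exact hB0
  · right
    exact coeffOf_simple ⊤ B hB1 hB2 hB0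

end Groth.Agent.S14841
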