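import Groth.Statements.S14842
import Mathlib
import Groth.Agent.Lib.Helper7.Coalg7
-- import your own Groth.Agent.* helpers here

set_option autoImplicit false
universe u v
open HopfRep

namespace Groth.Agent.S14842

open Groth.Agent.H29 Groth.Agent.Helper7.Coalg7

attribute [local instance] Groth.Agent.H29.dualModule


open TensorProduct in
/-- Over a field K, every simple subcoalgebra D of a coalgebra C is the coefficient space of a simple
comodule. Precisely: there is a subspace E of C contained in D which is a simple subcomodule of the
regular right comodule C (E is nonzero, stable under the coaction, and its only subcomodules are 0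
and E) and such that D is the least subspace D' of C with comul(E) inside the image of E ⊗ D'. Here
a subcoalgebra of C is a subspace B whose comultiplication lands in the image of B ⊗ B, and a simple
subcoalgebra is a nonzero subcoalgebra D whose only subcoalgebras contained in D are 0 and D.
(Stated for right comodules; the published statement is for left comodules.) -/
theorem result {K : Type u} {C : Type v} [Field K]
    [AddCommGroup C] [Module K C] [Coalgebra K C]
    (D : Submodule K C) (hD0 : D ≠ ⊥) (hD : (∀ b ∈ D, CoalgebraStruct.comul (R := K) b ∈ LinearMap.range (TensorProduct.map D.subtype D.subtype)))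
    (hDs : ∀ B : Submodule K C, B ≤ D → (∀ b ∈ B, CoalgebraStruct.comul (R := K) b ∈ LinearMap.range (TensorProduct.map B.subtype B.subtype)) → B = ⊥ ∨ B = D) :
    ∃ E : Submodule K C, E ≤ D ∧ E ≠ ⊥ ∧ HopfRep.IsSubcomod (k := K) (A := C) E ∧
      (∀ E' : Submodule K C, E' ≤ E → HopfRep.IsSubcomod (k := K) (A := C) E' → E' = ⊥ ∨ E' = E) ∧
      IsLeast {D' : Submodule K C |
        ∀ e ∈ E, CoalgebraStruct.comul (R := K) e ∈ LinearMap.range (TensorProduct.map E.subtype D'.subtype)} D := by
  classical
  have hDsub : HopfRep.IsSubcomod (k := K) (A := C) D := isSubcomod_of_isSubcoalg D hD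
  have hne : toDualSub D hDsub ≠ ⊥ := fun h =>
    hD0 (by rw [← ofDualSub_toDualSub D hDsub, h, ofDualSub_bot])
  obtain ⟨S, hSle, hS⟩ := exists_simple_le (toDualSub D hDsub) hne
  have hSD : ofDualSub S ≤ D := fun x hx => hSle hx
  have hatom : IsAtom S := isSimpleModule_iff_isAtom.mp hS
  have hS0 : S ≠ ⊥ := hatom.1
  have hcoef : coeffOf S = D := by
    have hle : coeffOf S ≤ D :=
      coeffOf_le_of_injective S D hD S.subtype S.subtype_injective (fun n => hSle n.2)
    rcases hDs (coeffOf S) hle (coeffOf_isSubcoalg S) with h | h
    · exact absurd h (coeffOf_ne_bot S hS0)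
    · exact h
  refine ⟨ofDualSub S, hSD, ?_, isSubcomod_ofDualSub S, ?_, ?_, ?_⟩
  · intro h
    apply hS0
    apply ofDualSub_injective
    rw [h, ofDualSub_bot]
  · intro E' hE'le hE'
    rcases hatom.le_iff.mp (show toDualSub E' hE' ≤ S from hE'le) with h | h
    · left
      rw [← ofDualSub_toDualSub E' hE', h, ofDualSub_bot]
    · right
      rw [← ofDualSub_toDualSub E' hE', h]
  · intro e he
    apply mem_range_map_of_mem
    · exact isSubcomod_ofDualSub S e he
    · obtain ⟨z, hz⟩ := hD e (hSD he)
      refine ⟨D.subtype.rTensor D z, ?_⟩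
      rw [← hz]
      exact LinearMap.congr_fun (LinearMap.lTensor_comp_rTensor _ D.subtype D.subtype) z
  · intro D' hD'
    rw [← hcoef]
    apply coeffOf_le_of_coact_mem
    intro n hn
    obtain ⟨z, hz⟩ := hD' n hn
    refine ⟨(ofDualSub S).subtype.rTensor D' z, ?_⟩
    have h2 : HopfRep.Comod.coact (k := K) (A := C) n = CoalgebraStruct.comul (R := K) n := rfl
    rw [h2, ← hz]
    exact LinearMap.congr_fun (LinearMap.lTensor_comp_rTensor _ (ofDualSub S).subtype D'.subtype) z

end Groth.Agent.S14842
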