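import Groth.Statements.S14843
import Mathlib
import Groth.Agent.Lib.Helper7.Coalg7b
-- import your own Groth.Agent.* helpers here

set_option autoImplicit false
universe u v
open HopfRep

namespace Groth.Agent.S14843

open Groth.Agent.H29 Groth.Agent.Helper7.Coalg7

attribute [local instance] Groth.Agent.H29.dualModule


open TensorProduct in
/-- Over a field K, a coalgebra C is cosemisimple, i.e. C is the internal direct sum of a family of
simple subcoalgebras, if and only if every right C-comodule is completely reducible (every
subcomodule admits a complementary subcomodule). Here a subcoalgebra of C is a subspace B whose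
comultiplication lands in the image of B ⊗ B, and a simple subcoalgebra is a nonzero subcoalgebra D
whose only subcoalgebras contained in D are 0 and D. (Comodules are quantified in the universe of C;
the published statement is for left comodules, and the equivalence of 'direct sum of simple
subcomodules' with 'every subcomodule is a direct summand' is the standard one.) -/
theorem result {K : Type u} {C : Type v} [Field K]
    [AddCommGroup C] [Module K C] [Coalgebra K C] :
    (∃ (ι : Type v) (D : ι → Submodule K C), iSupIndep D ∧ iSup D = ⊤ ∧ ∀ i,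
        D i ≠ ⊥ ∧ (∀ b ∈ D i, CoalgebraStruct.comul (R := K) b ∈ LinearMap.range (TensorProduct.map (D i).subtype (D i).subtype)) ∧
        ∀ B : Submodule K C, B ≤ D i → (∀ b ∈ B, CoalgebraStruct.comul (R := K) b ∈ LinearMap.range (TensorProduct.map B.subtype B.subtype)) → B = ⊥ ∨ B = D i) ↔
      ∀ (V : Type v) [AddCommGroup V] [Module K V] [HopfRep.Comod K C V],
        HopfRep.IsSemisimpleComod K C V := by
  classical
  constructor
  · rintro ⟨ι, D, -, hsup, hD⟩ V _ _ _
    have hreg : IsSemisimpleModule (DualAlg K C) C := isSemisimpleModule_regular D hsup hD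
    have hV : IsSemisimpleModule (DualAlg K C) V := isSemisimpleModule_of_regular
    exact isSemisimpleComod_of_isSemisimpleModule K C V hV
  · intro h
    have hreg : IsSemisimpleModule (DualAlg K C) C :=
      isSemisimpleModule_of_isSemisimpleComod K C C (h C)
    have hsubc : ∀ j : {D : Submodule K C // IsSimpleSubcoalg D},
        HopfRep.IsSubcomod (k := K) (A := C) j.1 := fun j => isSubcomod_of_isSubcoalg j.1 j.2.2.1
    refine ⟨{D : Submodule K C // IsSimpleSubcoalg D}, fun j => j.1, ?_, ?_, fun j => j.2⟩
    · intro i
      rw [disjoint_iff]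
      by_contra hne
      let P : Submodule (DualAlg K C) C := toDualSub i.1 (hsubc i) ⊓
        ⨆ j, ⨆ (_ : j ≠ i), toDualSub j.1 (hsubc j)
      have hP : ofDualSub P = i.1 ⊓ ⨆ j, ⨆ (_ : j ≠ i), j.1 := by
        rw [ofDualSub_inf, ofDualSub_toDualSub]
        simp_rw [Groth.Agent.H13.ComodSS.ofDualSub_iSup, ofDualSub_toDualSub]
      have hP0 : P ≠ ⊥ := by
        intro h0
        apply hne
        rw [← hP, h0, ofDualSub_bot]
      obtain ⟨S, hSle, hS⟩ := exists_simple_le P hP0
      have h1 : coeffOf S = i.1 :=
        coeffOf_eq_of_le S i.1 i.2 S.subtype S.subtype_injective (fun n => (hSle n.2).1)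
      let s' : Set (Submodule (DualAlg K C) C) :=
        {m | IsSimpleModule (DualAlg K C) m ∧ ∃ j : {D : Submodule K C // IsSimpleSubcoalg D},
          j ≠ i ∧ m ≤ toDualSub j.1 (hsubc j)}
      have hle : S ≤ sSup s' := by
        refine le_trans (le_trans hSle inf_le_right) ?_
        apply iSup_le
        intro j
        apply iSup_le
        intro hj
        rw [← IsSemisimpleModule.sSup_simples_le (toDualSub j.1 (hsubc j))]
        exact sSup_le_sSup (fun m hm => ⟨hm.1, j, hj, hm.2⟩)
      have hall : ∀ m : s', IsSimpleModule (DualAlg K C) m.1 := fun m => m.2.1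
      obtain ⟨S', ⟨-, j, hj, hS'le⟩, ⟨e⟩⟩ := Submodule.linearEquiv_of_le_sSup S s' hle
      have h2 : coeffOf S = j.1 :=
        coeffOf_eq_of_le S j.1 j.2 (S'.subtype ∘ₗ e.toLinearMap)
          (S'.subtype_injective.comp e.injective) (fun n => hS'le (e n).2)
      exact hj (Subtype.ext (h2.symm.trans h1))
    · let T' : Submodule (DualAlg K C) C := ⨆ j : {D : Submodule K C // IsSimpleSubcoalg D},
        toDualSub j.1 (hsubc j)
      have hT' : ofDualSub T' = ⨆ j : {D : Submodule K C // IsSimpleSubcoalg D}, j.1 := by
        simp_rw [T', Groth.Agent.H13.ComodSS.ofDualSub_iSup, ofDualSub_toDualSub]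
      have htop : T' = ⊤ := by
        rw [eq_top_iff, ← IsSemisimpleModule.sSup_simples_eq_top (DualAlg K C) C]
        apply sSup_le
        intro m hm
        have hms : IsSimpleModule (DualAlg K C) m := hm
        have hmle : m ≤ toDualSub (coeffOf m) (hsubc ⟨coeffOf m, isSimpleSubcoalg_coeffOf m⟩) :=
          fun x hx => map_mem_coeffOf m m.subtype ⟨x, hx⟩
        exact le_trans hmle (le_iSup (fun j : {D : Submodule K C // IsSimpleSubcoalg D} =>
          toDualSub j.1 (hsubc j)) ⟨coeffOf m, isSimpleSubcoalg_coeffOf m⟩)
      rw [← hT', htop, ofDualSub_top]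

end Groth.Agent.S14843
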