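import Groth.Statements.S14850
import Mathlib
import Groth.Agent.Lib.Helper7.Coalg7b
-- import your own Groth.Agent.* helpers here

set_option autoImplicit false
universe u v
open HopfRep

namespace Groth.Agent.S14850

open Groth.Agent.H29 Groth.Agent.Helper7.Coalg7

attribute [local instance] Groth.Agent.H29.dualModule


open TensorProduct in
/-- Over a field K, a nonzero coalgebra C is simple if and only if C is isotypic as a right comodule
over itself, i.e. C is the internal direct sum of the images of a family of injective comodule maps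
from one simple right C-comodule E. Here a subcoalgebra of C is a subspace B whose comultiplication
lands in the image of B ⊗ B, and C is simple when its only subcoalgebras are 0 and C. (Stated for
the right regular comodule; the published statement allows left or right.) -/
theorem result {K : Type u} {C : Type v} [Field K] [AddCommGroup C]
    [Module K C] [Coalgebra K C] [Nontrivial C] :
    (∀ B : Submodule K C, (∀ b ∈ B, CoalgebraStruct.comul (R := K) b ∈ LinearMap.range (TensorProduct.map B.subtype B.subtype)) → B = ⊥ ∨ B = ⊤) ↔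
    ∃ (E : Type v) (_ : AddCommGroup E) (_ : Module K E) (_ : HopfRep.Comod K C E),
      HopfRep.IsSimpleComod K C E ∧
      ∃ (ι : Type v) (f : ι → (E →ₗ[K] C)),
        (∀ i, Hoch.IsComodHom C (f i) ∧ Function.Injective (f i)) ∧
        iSupIndep (fun i => LinearMap.range (f i)) ∧ (⨆ i, LinearMap.range (f i)) = ⊤ := by
  classical
  constructor
  · intro hsimple
    have hnt : (⊤ : Submodule (DualAlg K C) C) ≠ ⊥ := top_ne_bot
    obtain ⟨S, -, hS⟩ := exists_simple_le (⊤ : Submodule (DualAlg K C) C) hnt
    have hcoef : coeffOf S = ⊤ := by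
      rcases hsimple (coeffOf S) (coeffOf_isSubcoalg S) with h | h
      · exact absurd h (coeffOf_ne_bot S (isSimpleModule_iff_isAtom.mp hS).1)
      · exact h
    have hcopies : sSup (copies S) = ⊤ := by
      rw [eq_top_iff]
      intro x _
      have hx : x ∈ coeffOf S := by rw [hcoef]; exact Submodule.mem_top
      exact coeffOf_le_sSup_copies S hx
    have hreg : IsSemisimpleModule (DualAlg K C) C := by
      apply IsSemisimpleModule.of_sSup_simples_eq_top
      rw [eq_top_iff, ← hcopies]
      exact sSup_le_sSup (fun m hm => isSimpleModule_of_mem_copies S ⟨m, hm⟩)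
    obtain ⟨s, hind, hsup, hsimp⟩ :=
      IsSemisimpleModule.exists_sSupIndep_sSup_simples_eq_top (DualAlg K C) C
    have hiso : ∀ m : ↥s, Nonempty (↥S ≃ₗ[DualAlg K C] ↥m.1) := by
      rintro ⟨m, hm⟩
      have hms := hsimp m hm
      have hle : m ≤ sSup (copies S) := by rw [hcopies]; exact le_top
      have hall : ∀ m' : copies S, IsSimpleModule (DualAlg K C) m'.1 :=
        isSimpleModule_of_mem_copies S
      obtain ⟨M, ⟨e⟩, ⟨e'⟩⟩ := Submodule.linearEquiv_of_le_sSup m (copies S) hle
      exact ⟨e.trans e'.symm⟩
    let e : ∀ m : ↥s, ↥S ≃ₗ[DualAlg K C] ↥m.1 := fun m => (hiso m).some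
    have hrange : ∀ m : ↥s,
        LinearMap.range (ofSub S (m.1.subtype ∘ₗ (e m).toLinearMap)) = ofDualSub m.1 :=
      fun m => range_ofSub S m.1 (e m)
    refine ⟨↥(ofDualSub S), inferInstance, inferInstance, subComod S, isSimpleComod_sub S, ↥s,
      fun m => ofSub S (m.1.subtype ∘ₗ (e m).toLinearMap), fun m => ⟨isComodHom_ofSub S _, ?_⟩,
      ?_, ?_⟩
    · exact ofSub_injective S _ (m.1.subtype_injective.comp (e m).injective)
    · have h1 : (fun m : ↥s => LinearMap.range (ofSub S (m.1.subtype ∘ₗ (e m).toLinearMap))) =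
          fun m : ↥s => ofDualSub m.1 := funext hrange
      rw [h1]
      exact iSupIndep_ofDualSub (fun m : ↥s => m.1) ((sSupIndep_iff s).mp hind)
    · have h1 : (fun m : ↥s => LinearMap.range (ofSub S (m.1.subtype ∘ₗ (e m).toLinearMap))) =
          fun m : ↥s => ofDualSub m.1 := funext hrange
      rw [h1, ← Groth.Agent.H13.ComodSS.ofDualSub_iSup, ← sSup_eq_iSup', hsup, ofDualSub_top]
  · rintro ⟨E, iE1, iE2, iE3, hE, ι, f, hf, -, hsup⟩ B hB
    by_cases hB0 : B = ⊥
    · left
      exact hB0
    · right
      have hsE : IsSimpleModule (DualAlg K C) E := isSimpleModule_of_isSimpleComod K C E hE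
      have hsT : IsSimpleModule (DualAlg K C) (⊤ : Submodule (DualAlg K C) E) :=
        IsSimpleModule.congr (M := ↥(⊤ : Submodule (DualAlg K C) E)) (N := E) Submodule.topEquiv
      have hcoef : coeffOf (⊤ : Submodule (DualAlg K C) E) = ⊤ := by
        rw [eq_top_iff, ← hsup]
        apply iSup_le
        rintro i _ ⟨x, rfl⟩
        exact map_mem_coeffOf (⊤ : Submodule (DualAlg K C) E)
          ((toDualHom (f i) (hf i).1).domRestrict ⊤) ⟨x, Submodule.mem_top⟩
      rw [← hcoef]
      exact coeffOf_simple ⊤ B (by rw [hcoef]; exact le_top) hB hB0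

end Groth.Agent.S14850
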