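import Groth.Statements.S14856
import Mathlib

set_option autoImplicit false
universe u
open CAlg

namespace Groth.Agent.S14856

/-- Let p be a prime and S a commutative ring in which p is a non-zero-divisor. For a p-typical Witt
vector x over S, a natural number m and an integer s ≥ 1, the power p^s divides each of the Witt
components x_0, …, x_m if and only if p^(n+s) divides the n-th ghost component w_n(x) = x_0^(p^n) +
p x_1^(p^(n-1)) + ⋯ + p^n x_n for every n ≤ m. -/
theorem result (p : ℕ) [Fact p.Prime] (S : Type u) [CommRing S]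
    (hS : ∀ y : S, (p : S) * y = 0 → y = 0) (x : WittVector p S) (m s : ℕ) (hs : 1 ≤ s) :
    (∀ i ≤ m, (p : S) ^ s ∣ x.coeff i) ↔
      (∀ n ≤ m, (p : S) ^ (n + s) ∣ WittVector.ghostComponent n x) := by
  classical
  have hp1 : 1 < p := (Fact.out : p.Prime).one_lt
  -- explicit formula for the ghost components
  have hw : ∀ n : ℕ, WittVector.ghostComponent n x =
      ∑ i ∈ Finset.range (n + 1), (p : S) ^ i * x.coeff i ^ (p ^ (n - i)) := by
    intro n
    rw [WittVector.ghostComponent_apply, wittPolynomial_eq_sum_C_mul_X_pow, map_sum]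
    apply Finset.sum_congr rfl
    intro i _
    simp
  have hineq : ∀ k : ℕ, s + k ≤ s * p ^ k := by
    intro k
    have hk1 : k + 1 ≤ p ^ k := Nat.lt_pow_self hp1
    calc s + k ≤ s * (k + 1) := by nlinarith
      _ ≤ s * p ^ k := Nat.mul_le_mul_left s hk1
  -- divisibility of a single term
  have hterm : ∀ n j : ℕ, j ≤ n → (p : S) ^ s ∣ x.coeff j →
      (p : S) ^ (n + s) ∣ (p : S) ^ j * x.coeff j ^ (p ^ (n - j)) := by
    intro n j hjn hdiv
    have h1 : ((p : S) ^ s) ^ (p ^ (n - j)) ∣ x.coeff j ^ (p ^ (n - j)) := pow_dvd_pow_of_dvd hdiv _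
    have h2 : (p : S) ^ j * ((p : S) ^ s) ^ (p ^ (n - j)) ∣ (p : S) ^ j * x.coeff j ^ (p ^ (n - j)) :=
      mul_dvd_mul_left _ h1
    refine dvd_trans ?_ h2
    rw [← pow_mul, ← pow_add]
    apply pow_dvd_pow
    have := hineq (n - j)
    omega
  have hcancel : ∀ (i : ℕ) (a b : S), (p : S) ^ i * a = (p : S) ^ i * b → a = b := by
    intro i
    induction i with
    | zero => intro a b h; simpa using h
    | succ i ih =>
      intro a b h
      apply ih
      rw [pow_succ, mul_assoc, mul_assoc] at h
      have h' := ih _ _ h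
      have h'' : (p : S) * (a - b) = 0 := by rw [mul_sub, h', sub_self]
      have := hS _ h''
      rw [sub_eq_zero.mp this]
  constructor
  · intro h n hn
    rw [hw]
    apply Finset.dvd_sum
    intro j hj
    have hjn : j ≤ n := Nat.lt_succ_iff.mp (Finset.mem_range.mp hj)
    exact hterm n j hjn (h j (hjn.trans hn))
  · intro h i
    induction i using Nat.strong_induction_on with
    | _ i ih =>
      intro him
      have hwi := h i him
      rw [hw, Finset.sum_range_succ, Nat.sub_self, pow_zero, pow_one] at hwi
      have hsum : (p : S) ^ (i + s) ∣ ∑ j ∈ Finset.range i, (p : S) ^ j * x.coeff j ^ (p ^ (i - j)) := by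
        apply Finset.dvd_sum
        intro j hj
        have hji : j < i := Finset.mem_range.mp hj
        exact hterm i j hji.le (ih j hji (hji.le.trans him))
      obtain ⟨z, hz⟩ := (dvd_add_right hsum).mp hwi
      refine ⟨z, ?_⟩
      apply hcancel i
      rw [hz, pow_add, mul_assoc]

end Groth.Agent.S14856
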