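import Groth.Statements.S14857
import Mathlib
import Groth.Agent.Lib.Helper8.WittV

set_option autoImplicit false
open CAlg

namespace Groth.Agent.S14857

/-- For a prime p, the Teichmüller representative [p^p] of the element p^p of the p-adic integers is
divisible by p in the ring of p-typical Witt vectors W(ℤ_p). -/
theorem result (p : ℕ) [Fact p.Prime] :
    (p : WittVector p ℤ_[p]) ∣ WittVector.teichmuller p ((p : ℤ_[p]) ^ p) := by
  classical
  have hp1 : 1 < p := (Fact.out : p.Prime).one_lt
  have h1 : WittVector.teichmuller p ((p : ℤ_[p]) ^ p) =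
      (WittVector.teichmuller p (p : ℤ_[p])) ^ p := map_pow _ _ _
  have hvI : WittVector.teichmuller p (p : ℤ_[p]) - (p : WittVector p ℤ_[p]) ∈
      RingHom.ker (WittVector.constantCoeff : WittVector p ℤ_[p] →+* ℤ_[p]) := by
    rw [RingHom.mem_ker, map_sub, WittVector.constantCoeff_apply, WittVector.teichmuller_coeff_zero,
      map_natCast, sub_self]
  have hvp : (p : WittVector p ℤ_[p]) ∣
      (WittVector.teichmuller p (p : ℤ_[p]) - (p : WittVector p ℤ_[p])) ^ p := by
    have hmem : (WittVector.teichmuller p (p : ℤ_[p]) - (p : WittVector p ℤ_[p])) ^ p ∈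
        RingHom.ker (WittVector.constantCoeff : WittVector p ℤ_[p] →+* ℤ_[p]) ^ (p - 1 + 1) := by
      rw [Nat.sub_add_cancel hp1.le]
      exact Ideal.pow_mem_pow hvI p
    have h2 := Groth.Agent.Helper8.ker_constantCoeff_pow_succ_le p ℤ_[p] (p - 1) hmem
    have h3 : (WittVector.teichmuller p (p : ℤ_[p]) - (p : WittVector p ℤ_[p])) ^ p ∈
        Ideal.span {(p : WittVector p ℤ_[p])} :=
      Ideal.pow_le_self (by omega) (Ideal.mul_le_left h2)
    exact Ideal.mem_span_singleton.mp h3
  have hsplit : WittVector.teichmuller p (p : ℤ_[p]) =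
      (p : WittVector p ℤ_[p]) +
        (WittVector.teichmuller p (p : ℤ_[p]) - (p : WittVector p ℤ_[p])) :=
    (add_sub_cancel _ _).symm
  rw [h1, hsplit, add_pow]
  apply Finset.dvd_sum
  intro m _
  rcases Nat.eq_zero_or_pos m with hm | hm
  · subst hm
    rw [pow_zero, one_mul, Nat.sub_zero]
    exact Dvd.dvd.mul_right hvp _
  · apply Dvd.dvd.mul_right
    apply Dvd.dvd.mul_right
    exact dvd_pow_self _ hm.ne'

end Groth.Agent.S14857
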