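import Groth.Statements.S14859
import Mathlib

set_option autoImplicit false
universe u v w
open Disp

namespace Groth.Agent.S14859

/-- Let p be a prime, R a commutative ring with p-typical Witt vectors W = W(R), and (P, Q, F, V⁻¹) a
3n-display over R with a normal decomposition P = L ⊕ T, Q = L + I_R·T. Then V⁻¹ ⊕ F : L ⊕ T → P is
a Frobenius-linear isomorphism; stated here in the case where L and T are free with bases (l_i) and
(t_j): the family consisting of the V⁻¹(l_i) and the F(t_j) is a basis of the W-module P, i.e. it is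
linearly independent over W and spans P. -/
theorem result (p : ℕ) [Fact p.Prime] (R : Type u) [CommRing R]
    (P : Type v) [AddCommGroup P] [Module (WittVector p R) P] (D : W4c1extbt610.Display3n p R P)
    (L T : Submodule (WittVector p R) P) (hLT : IsCompl L T)
    (hQ : D.Q = L ⊔ W4c1extbt610.IV p R • T) (hLQ : L ≤ D.Q)
    (ιL ιT : Type w) (bL : Module.Basis ιL (WittVector p R) L) (bT : Module.Basis ιT (WittVector p R) T) :
    LinearIndependent (WittVector p R)
        (Sum.elim (fun i : ιL => D.Vinv ⟨(bL i : P), hLQ (bL i).2⟩) (fun j : ιT => D.F (bT j : P))) ∧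
      Submodule.span (WittVector p R)
        (Set.range (Sum.elim (fun i : ιL => D.Vinv ⟨(bL i : P), hLQ (bL i).2⟩) (fun j : ιT => D.F (bT j : P)))) = ⊤ := by
  classical
  set v : ιL ⊕ ιT → P := Sum.elim (fun i : ιL => D.Vinv ⟨(bL i : P), hLQ (bL i).2⟩)
    (fun j : ιT => D.F (bT j : P)) with hv
  set S : Submodule (WittVector p R) P := Submodule.span (WittVector p R) (Set.range v) with hS
  have hIV : ∀ a ∈ W4c1extbt610.IV p R, ∃ w : WittVector p R, a = WittVector.verschiebung w := by
    intro a ha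
    refine Submodule.span_induction
      (p := fun a _ => ∃ w : WittVector p R, a = WittVector.verschiebung w) ?_ ?_ ?_ ?_ ha
    · rintro _ ⟨w, rfl⟩
      exact ⟨w, rfl⟩
    · exact ⟨0, (map_zero _).symm⟩
    · rintro x y _ _ ⟨w1, rfl⟩ ⟨w2, rfl⟩
      exact ⟨w1 + w2, (map_add _ _ _).symm⟩
    · rintro r x _ ⟨w, rfl⟩
      exact ⟨w * WittVector.frobenius r, by
        rw [WittVector.verschiebung_mul_frobenius, smul_eq_mul, mul_comm]⟩
  have hVinvL : ∀ l : L, D.Vinv ⟨(l : P), hLQ l.2⟩ ∈ S := by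
    let φ : L →ₛₗ[(WittVector.frobenius : WittVector p R →+* WittVector p R)] P :=
      D.Vinv.comp (Submodule.inclusion hLQ)
    have h1 : (⊤ : Submodule (WittVector p R) L) ≤ S.comap φ := by
      rw [← bL.span_eq, Submodule.span_le]
      rintro _ ⟨i, rfl⟩
      show φ (bL i) ∈ S
      exact Submodule.subset_span ⟨Sum.inl i, rfl⟩
    exact fun l => h1 (Submodule.mem_top : l ∈ ⊤)
  have hFT : ∀ t : T, D.F (t : P) ∈ S := by
    let ψ : T →ₛₗ[(WittVector.frobenius : WittVector p R →+* WittVector p R)] P :=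
      D.F.comp T.subtype
    have h1 : (⊤ : Submodule (WittVector p R) T) ≤ S.comap ψ := by
      rw [← bT.span_eq, Submodule.span_le]
      rintro _ ⟨j, rfl⟩
      show ψ (bT j) ∈ S
      exact Submodule.subset_span ⟨Sum.inr j, rfl⟩
    exact fun t => h1 (Submodule.mem_top : t ∈ ⊤)
  have hIT : ∀ z ∈ W4c1extbt610.IV p R • T, ∃ hz : z ∈ D.Q, D.Vinv ⟨z, hz⟩ ∈ S := by
    intro z hz
    refine Submodule.smul_induction_on hz ?_ ?_
    · intro r hr n hn
      obtain ⟨w, rfl⟩ := hIV r hr
      refine ⟨D.IV_smul_le (Submodule.smul_mem_smul (W4c1extbt610.verschiebung_mem_IV p R w)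
        Submodule.mem_top), ?_⟩
      rw [D.Vinv_verschiebung_smul w n]
      exact S.smul_mem _ (hFT ⟨n, hn⟩)
    · rintro x y ⟨hx, hx'⟩ ⟨hy, hy'⟩
      refine ⟨D.Q.add_mem hx hy, ?_⟩
      have e : (⟨x + y, D.Q.add_mem hx hy⟩ : D.Q) = ⟨x, hx⟩ + ⟨y, hy⟩ := rfl
      rw [e, map_add]
      exact S.add_mem hx' hy'
  have hrange : Set.range D.Vinv ⊆ (S : Set P) := by
    rintro _ ⟨q, rfl⟩
    have hq : (q : P) ∈ L ⊔ W4c1extbt610.IV p R • T := by
      rw [← hQ]
      exact q.2
    obtain ⟨l, hl, z, hz, hlz⟩ := Submodule.mem_sup.mp hq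
    obtain ⟨hz', hz''⟩ := hIT z hz
    have e : q = ⟨l, hLQ hl⟩ + ⟨z, hz'⟩ := Subtype.ext hlz.symm
    rw [e, map_add]
    exact S.add_mem (hVinvL ⟨l, hl⟩) hz''
  have hspan : S = ⊤ := by
    rw [eq_top_iff, ← D.span_range_Vinv]
    exact Submodule.span_le.mpr hrange
  refine ⟨?_, hspan⟩
  haveI := D.finite
  let b : Module.Basis (ιL ⊕ ιT) (WittVector p R) P :=
    (bL.prod bT).map (Submodule.prodEquivOfIsCompl L T hLT)
  let f : P →ₗ[WittVector p R] P := b.constr (WittVector p R) v
  have hsurj : Function.Surjective f := by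
    rw [← LinearMap.range_eq_top, Module.Basis.constr_range]
    exact hspan
  have hinj : Function.Injective f := OrzechProperty.injective_of_surjective_endomorphism f hsurj
  have hli := b.linearIndependent.map' f (LinearMap.ker_eq_bot.mpr hinj)
  have e : f ∘ b = v := by
    funext i
    exact b.constr_basis (WittVector p R) v i
  rw [e] at hli
  exact hli

end Groth.Agent.S14859
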