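import Groth.Statements.S14864
import Mathlib

set_option autoImplicit false
universe u
open CAlg

namespace Groth.Agent.S14864

/-- Let p be a prime and R a commutative ring in which p is nilpotent; write W = W(R) for the p-typical
Witt vectors, I ⊆ W for the kernel of the projection onto the zeroth component, and I_n ⊆ W for the
kernel of the truncation W → W_n(R). The p-adic topology on W equals its I-adic topology — every
power of the ideal pW contains some power of I and every power of I contains some power of pW — and
this common topology is finer than the V-adic one: every I_n contains some power of pW. -/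
theorem result (p : ℕ) [Fact p.Prime] (R : Type u) [CommRing R]
    (hp : IsNilpotent (p : R)) :
    (∀ n : ℕ, ∃ m : ℕ, (RingHom.ker (WittVector.constantCoeff : WittVector p R →+* R)) ^ m ≤ Ideal.span {(p : WittVector p R)} ^ n) ∧
      (∀ n : ℕ, ∃ m : ℕ, Ideal.span {(p : WittVector p R)} ^ m ≤ (RingHom.ker (WittVector.constantCoeff : WittVector p R →+* R)) ^ n) ∧
        ∀ n : ℕ, ∃ m : ℕ, Ideal.span {(p : WittVector p R)} ^ m ≤ RingHom.ker (WittVector.truncate (p := p) (R := R) n) := by
  classical
  obtain ⟨N, hN⟩ := hp
  have hIV : ∀ x ∈ RingHom.ker (WittVector.constantCoeff : WittVector p R →+* R),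
      ∃ y : WittVector p R, x = WittVector.verschiebung y := by
    intro x hx
    rw [RingHom.mem_ker, WittVector.constantCoeff_apply] at hx
    refine ⟨x.shift 1, ?_⟩
    have h1 := WittVector.eq_iterate_verschiebung (x := x) (n := 1)
      (by intro i hi; interval_cases i; exact hx)
    simpa using h1
  have hVI : ∀ y : WittVector p R,
      WittVector.verschiebung y ∈ RingHom.ker (WittVector.constantCoeff : WittVector p R →+* R) := by
    intro y
    rw [RingHom.mem_ker, WittVector.constantCoeff_apply, WittVector.verschiebung_coeff_zero]
  have hVV : ∀ x y : WittVector p R, WittVector.verschiebung x * WittVector.verschiebung y =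
      (p : WittVector p R) * WittVector.verschiebung (x * y) := by
    intro x y
    rw [← WittVector.verschiebung_mul_frobenius, WittVector.frobenius_verschiebung, ← mul_assoc,
      mul_comm (x * y) (p : WittVector p R), ← nsmul_eq_mul, map_nsmul, nsmul_eq_mul]
  have hI2 : RingHom.ker (WittVector.constantCoeff : WittVector p R →+* R) *
      RingHom.ker (WittVector.constantCoeff : WittVector p R →+* R) ≤
      Ideal.span {(p : WittVector p R)} *
        RingHom.ker (WittVector.constantCoeff : WittVector p R →+* R) := by
    rw [Ideal.mul_le]
    intro a ha b hb
    obtain ⟨x, rfl⟩ := hIV a ha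
    obtain ⟨y, rfl⟩ := hIV b hb
    rw [hVV]
    exact Ideal.mul_mem_mul (Ideal.mem_span_singleton_self _) (hVI _)
  have hIpow : ∀ k : ℕ, RingHom.ker (WittVector.constantCoeff : WittVector p R →+* R) ^ (k + 1) ≤
      Ideal.span {(p : WittVector p R)} ^ k *
        RingHom.ker (WittVector.constantCoeff : WittVector p R →+* R) := by
    intro k
    induction k with
    | zero => simp
    | succ k ih =>
      calc RingHom.ker (WittVector.constantCoeff : WittVector p R →+* R) ^ (k + 1 + 1)
          = RingHom.ker (WittVector.constantCoeff : WittVector p R →+* R) ^ (k + 1) *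
              RingHom.ker (WittVector.constantCoeff : WittVector p R →+* R) := pow_succ _ _
        _ ≤ (Ideal.span {(p : WittVector p R)} ^ k *
              RingHom.ker (WittVector.constantCoeff : WittVector p R →+* R)) *
              RingHom.ker (WittVector.constantCoeff : WittVector p R →+* R) := Ideal.mul_mono_left ih
        _ = Ideal.span {(p : WittVector p R)} ^ k *
              (RingHom.ker (WittVector.constantCoeff : WittVector p R →+* R) *
              RingHom.ker (WittVector.constantCoeff : WittVector p R →+* R)) := mul_assoc _ _ _
        _ ≤ Ideal.span {(p : WittVector p R)} ^ k * (Ideal.span {(p : WittVector p R)} *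
              RingHom.ker (WittVector.constantCoeff : WittVector p R →+* R)) :=
            Ideal.mul_mono_right hI2
        _ = Ideal.span {(p : WittVector p R)} ^ (k + 1) *
              RingHom.ker (WittVector.constantCoeff : WittVector p R →+* R) := by
            rw [← mul_assoc, ← pow_succ]
  have hcc : ∀ y : WittVector p R, ((p : WittVector p R) ^ N * y).coeff 0 = 0 := by
    intro y
    rw [← WittVector.constantCoeff_apply, map_mul, map_pow, map_natCast, hN, zero_mul]
  refine ⟨fun n => ⟨n + 1, (hIpow n).trans Ideal.mul_le_left⟩, fun n => ⟨N * n, ?_⟩,
    fun n => ⟨N * n, ?_⟩⟩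
  · have hPN : Ideal.span {(p : WittVector p R)} ^ N ≤
        RingHom.ker (WittVector.constantCoeff : WittVector p R →+* R) := by
      rw [Ideal.span_singleton_pow, Ideal.span_le, Set.singleton_subset_iff]
      show (p : WittVector p R) ^ N ∈ RingHom.ker (WittVector.constantCoeff : WittVector p R →+* R)
      rw [RingHom.mem_ker, map_pow, map_natCast, hN]
    rw [pow_mul]
    exact Ideal.pow_right_mono hPN n
  · rw [Ideal.span_singleton_pow, Ideal.span_le, Set.singleton_subset_iff]
    show (p : WittVector p R) ^ (N * n) ∈ RingHom.ker (WittVector.truncate (p := p) (R := R) n)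
    rw [WittVector.mem_ker_truncate]
    induction n with
    | zero => intro i hi; omega
    | succ n ih =>
      have hx := WittVector.eq_iterate_verschiebung ih
      have hprod : (p : WittVector p R) ^ (N * (n + 1)) =
          WittVector.verschiebung^[n] ((p : WittVector p R) ^ N *
            ((p : WittVector p R) ^ (N * n)).shift n) := by
        have h1 : (p : WittVector p R) ^ (N * (n + 1)) =
            (p : WittVector p R) ^ N * (p : WittVector p R) ^ (N * n) := by
          rw [← pow_add]
          congr 1
          ring
        rw [h1]
        conv_lhs => rw [hx]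
        rw [← Nat.cast_pow, ← nsmul_eq_mul, ← nsmul_eq_mul, iterate_map_nsmul]
      intro i hi
      rw [hprod]
      rcases Nat.lt_succ_iff_lt_or_eq.mp hi with hlt | heq
      · exact WittVector.iterate_verschiebung_coeff_eq_zero _ hlt
      · have h2 := WittVector.iterate_verschiebung_coeff (p := p) (R := R)
          ((p : WittVector p R) ^ N * ((p : WittVector p R) ^ (N * n)).shift n) n 0
        rw [zero_add] at h2
        rw [heq, h2]
        exact hcc _

end Groth.Agent.S14864
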