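import Groth.Statements.S14869
import Mathlib

set_option autoImplicit false
universe u v w
open CAlg

namespace Groth.Agent.S14869

open TensorProduct in
/-- Let S → R be a surjective homomorphism of commutative rings, let π : P_1 → P_2 be a surjective
homomorphism of S-modules with P_2 projective, and let π̄ : R ⊗_S P_1 → R ⊗_S P_2 be its base
change. Then every R-linear section σ̄ of π̄ lifts to a section of π: there is an S-linear map σ :
P_2 → P_1 with π ∘ σ = id whose base change R ⊗_S σ is σ̄. -/
theorem result (S R : Type u) [CommRing S] [CommRing R] [Algebra S R]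
    (hSR : Function.Surjective (algebraMap S R))
    (P₁ : Type v) [AddCommGroup P₁] [Module S P₁]
    (P₂ : Type w) [AddCommGroup P₂] [Module S P₂] [Module.Projective S P₂]
    (π : P₁ →ₗ[S] P₂) (hπ : Function.Surjective π)
    (σ' : R ⊗[S] P₂ →ₗ[R] R ⊗[S] P₁) (hσ' : (π.baseChange R).comp σ' = LinearMap.id) :
    ∃ σ : P₂ →ₗ[S] P₁, π.comp σ = LinearMap.id ∧ σ.baseChange R = σ' := by
  classical
  -- a first section
  obtain ⟨σ₀, hσ₀⟩ := Module.projective_lifting_property π LinearMap.id hπ
  -- projection onto the kernel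
  let q : P₁ →ₗ[S] P₁ := LinearMap.id - σ₀.comp π
  have hπq : π.comp q = 0 := by
    ext x
    have := LinearMap.congr_fun hσ₀ (π x)
    simp only [LinearMap.comp_apply, LinearMap.id_apply] at this
    simp [q, this]
  -- the map 1 ⊗ - is surjective
  have hmk : Function.Surjective (TensorProduct.mk S R P₁ 1) := by
    intro y
    induction y using TensorProduct.induction_on with
    | zero => exact ⟨0, by simp⟩
    | tmul r x =>
      obtain ⟨s, rfl⟩ := hSR r
      refine ⟨s • x, ?_⟩
      simp only [TensorProduct.mk_apply]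
      rw [TensorProduct.tmul_smul, TensorProduct.smul_tmul', Algebra.smul_def, mul_one]
    | add y z hy hz =>
      obtain ⟨a, ha⟩ := hy
      obtain ⟨b, hb⟩ := hz
      exact ⟨a + b, by rw [map_add, ha, hb]⟩
  -- difference
  let D : R ⊗[S] P₂ →ₗ[R] R ⊗[S] P₁ := σ' - σ₀.baseChange R
  let g : P₂ →ₗ[S] R ⊗[S] P₁ := (D.restrictScalars S).comp (TensorProduct.mk S R P₂ 1)
  obtain ⟨δ₀, hδ₀⟩ := Module.projective_lifting_property (TensorProduct.mk S R P₁ 1) g hmk
  have hδ₀' : δ₀.baseChange R = D := by
    apply TensorProduct.AlgebraTensorModule.curry_injective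
    ext p
    have := LinearMap.congr_fun hδ₀ p
    simpa [g] using this
  have hπD : (π.baseChange R).comp D = 0 := by
    simp only [D, LinearMap.comp_sub, hσ', ← LinearMap.baseChange_comp, hσ₀,
      LinearMap.baseChange_id]
    ext x; simp
  have hqD : (q.baseChange R).comp D = D := by
    simp only [q, LinearMap.baseChange_sub, LinearMap.baseChange_id, LinearMap.baseChange_comp,
      LinearMap.sub_comp, LinearMap.id_comp, LinearMap.comp_assoc, hπD, LinearMap.comp_zero]
    ext x; simp
  refine ⟨σ₀ + q.comp δ₀, ?_, ?_⟩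
  · rw [LinearMap.comp_add, hσ₀, ← LinearMap.comp_assoc, hπq, LinearMap.zero_comp, add_zero]
  · rw [LinearMap.baseChange_add, LinearMap.baseChange_comp, hδ₀', hqD]
    ext x; simp [D]

end Groth.Agent.S14869
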