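import Groth.Statements.S14871
import Mathlib

set_option autoImplicit false
universe u v
open PLie

namespace Groth.Agent.S14871

/-- Let `L` be a finite-dimensional Lie algebra over a field of characteristic `p` equipped with a
`p`-mapping `φ`. Then the solvable radical of `L` is stable under `φ` (it is a `p`-subalgebra). -/
theorem result
    (k : Type u) [Field k] (p : ℕ) [Fact p.Prime] [CharP k p]
    (L : Type v) [LieRing L] [LieAlgebra k L] [Module.Finite k L]
    (φ : PLie.PMap k p L) (x : L) (hx : x ∈ LieAlgebra.radical k L) :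
    φ x ∈ LieAlgebra.radical k L := by
  classical
  have hp : p ≠ 0 := (Fact.out : p.Prime).ne_zero
  -- powers of `ad x` land in the radical
  have hpow : ∀ (m : ℕ) (y : L), (LieAlgebra.ad k L x ^ (m + 1)) y ∈ LieAlgebra.radical k L := by
    intro m y
    rw [pow_succ', Module.End.mul_apply, LieAlgebra.ad_apply]
    exact lie_mem_left k L _ x _ hx
  -- the ideal of elements central modulo the radical
  let C : LieIdeal k L :=
    { carrier := {z | ∀ y : L, ⁅z, y⁆ ∈ LieAlgebra.radical k L}
      add_mem' := by
        intro a b ha hb y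
        rw [add_lie]
        exact add_mem (ha y) (hb y)
      zero_mem' := by
        intro y
        rw [zero_lie]
        exact zero_mem _
      smul_mem' := by
        intro c a ha y
        rw [smul_lie]
        exact (LieAlgebra.radical k L).smul_mem c (ha y)
      lie_mem := by
        intro w z hz y
        rw [lie_lie]
        exact sub_mem (lie_mem_right k L _ _ _ (hz _)) (hz _) }
  have hCmem : ∀ z : L, z ∈ C ↔ ∀ y : L, ⁅z, y⁆ ∈ LieAlgebra.radical k L := fun z => Iff.rfl
  have hCsolv : LieAlgebra.IsSolvable C := by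
    obtain ⟨n, hn⟩ := LieAlgebra.IsSolvable.solvable k (LieAlgebra.radical k L)
    rw [LieIdeal.derivedSeries_eq_bot_iff] at hn
    refine LieAlgebra.IsSolvable.mk (R := k) (k := n + 1) ?_
    rw [LieIdeal.derivedSeries_eq_bot_iff, LieAlgebra.derivedSeriesOfIdeal_add, ← le_bot_iff, ← hn]
    apply LieAlgebra.derivedSeriesOfIdeal_mono
    rw [LieAlgebra.derivedSeriesOfIdeal_succ, LieAlgebra.derivedSeriesOfIdeal_zero,
      LieSubmodule.lie_le_iff]
    intro a ha b _
    exact (hCmem a).mp ha b
  have hCle : C ≤ LieAlgebra.radical k L := (LieAlgebra.LieIdeal.solvable_iff_le_radical k L C).mp hCsolv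
  apply hCle
  rw [hCmem]
  intro y
  rw [← LieAlgebra.ad_apply (R := k), φ.ad_map]
  obtain ⟨m, rfl⟩ : ∃ m, p = m + 1 := Nat.exists_eq_succ_of_ne_zero hp
  exact hpow m y

end Groth.Agent.S14871
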