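import Groth.Statements.S14872
import Mathlib
import Groth.Agent.Lib.Helper8.LieNil

set_option autoImplicit false
universe u v
open PLie

namespace Groth.Agent.S14872

/-- Let `L` be a finite-dimensional Lie algebra over a field of characteristic `p` equipped with a
`p`-mapping `φ`, and let `N` be its nilradical, i.e. the ideal of `L` that is nilpotent as a Lie
ring and contains every ideal of `L` nilpotent as a Lie ring. Then `N` is stable under `φ` (it is a
`p`-subalgebra). (The nilradical is given here through its characterising property; it is not the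
largest submodule on which `L` acts nilpotently.) -/
theorem result
    (k : Type u) [Field k] (p : ℕ) [Fact p.Prime] [CharP k p]
    (L : Type v) [LieRing L] [LieAlgebra k L] [Module.Finite k L]
    (φ : PLie.PMap k p L) (N : LieIdeal k L) (hN : LieRing.IsNilpotent N)
    (hmax : ∀ I : LieIdeal k L, LieRing.IsNilpotent I → I ≤ N)
    (x : L) (hx : x ∈ N) : φ x ∈ N := by
  classical
  have hp : p ≠ 0 := (Fact.out : p.Prime).ne_zero
  -- Step 1: `N` acts nilpotently on `L`
  have hadN : ∀ n : N, IsNilpotent (LieModule.toEnd k N L n) := by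
    rintro ⟨n, hn⟩
    obtain ⟨m, hm⟩ := Groth.Agent.Helper8.ad_isNilpotent_of_mem_nilpotent_ideal k L N hN n hn
    refine ⟨m, ?_⟩
    ext y
    have hcmp : ∀ (j : ℕ) (w : L), ((LieModule.toEnd k N L ⟨n, hn⟩) ^ j) w = (LieAlgebra.ad k L n ^ j) w := by
      intro j
      induction j with
      | zero => intro w; simp
      | succ j ih =>
        intro w
        rw [pow_succ', pow_succ', Module.End.mul_apply, Module.End.mul_apply, ih, LieAlgebra.ad_apply,
          LieModule.toEnd_apply_apply]
        rfl
    rw [hcmp, hm]
  have hNL : LieModule.IsNilpotent N L := (LieModule.isNilpotent_iff_forall' (R := k)).mpr hadN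
  obtain ⟨m, hm⟩ := (LieModule.isNilpotent_iff k N L).mp hNL
  have hE : N.lcs L m = ⊥ := by
    rw [← LieSubmodule.toSubmodule_inj, LieIdeal.coe_lcs_eq, hm]
    simp
  -- Step 2: the ideal of elements shifting the filtration `N.lcs L i`
  let K : LieIdeal k L :=
    { carrier := {z | ∀ (i : ℕ) (e : L), e ∈ N.lcs L i → ⁅z, e⁆ ∈ N.lcs L (i + 1)}
      add_mem' := by
        intro a b ha hb i e he
        rw [add_lie]
        exact add_mem (ha i e he) (hb i e he)
      zero_mem' := by
        intro i e _
        rw [zero_lie]
        exact zero_mem _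
      smul_mem' := by
        intro c a ha i e he
        rw [smul_lie]
        exact (N.lcs L (i + 1)).smul_mem c (ha i e he)
      lie_mem := by
        intro w z hz i e he
        rw [lie_lie]
        exact sub_mem ((N.lcs L (i + 1)).lie_mem (hz i e he)) (hz i _ ((N.lcs L i).lie_mem he)) }
  have hKmem : ∀ z : L, z ∈ K ↔ ∀ (i : ℕ) (e : L), e ∈ N.lcs L i → ⁅z, e⁆ ∈ N.lcs L (i + 1) :=
    fun z => Iff.rfl
  have hNK : ∀ n ∈ N, n ∈ K := by
    intro n hn
    rw [hKmem]
    intro i e he
    rw [LieIdeal.lcs_succ]
    exact LieSubmodule.lie_mem_lie hn he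
  have hstab : ∀ (q i : ℕ) (e : L), e ∈ N.lcs L i → (LieAlgebra.ad k L x ^ q) e ∈ N.lcs L i := by
    intro q
    induction q with
    | zero => intro i e he; simpa using he
    | succ q ih =>
      intro i e he
      rw [pow_succ', Module.End.mul_apply, LieAlgebra.ad_apply]
      exact (N.lcs L i).lie_mem (ih i e he)
  have hφK : φ x ∈ K := by
    rw [hKmem]
    intro i e he
    rw [← LieAlgebra.ad_apply (R := k), φ.ad_map]
    obtain ⟨q, rfl⟩ : ∃ q, p = q + 1 := Nat.exists_eq_succ_of_ne_zero hp
    rw [pow_succ, Module.End.mul_apply, LieAlgebra.ad_apply]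
    exact hstab q (i + 1) _ ((hKmem x).mp (hNK x hx) i e he)
  -- Step 3: `K` is nilpotent, by Engel
  have hKnil : LieRing.IsNilpotent K := by
    apply Groth.Agent.Helper8.isNilpotent_ideal_of_forall_ad
    intro z hz
    refine ⟨m, ?_⟩
    have hchain : ∀ (j : ℕ) (e : L), (LieAlgebra.ad k L z ^ j) e ∈ N.lcs L j := by
      intro j
      induction j with
      | zero => intro e; simp
      | succ j ih =>
        intro e
        rw [pow_succ', Module.End.mul_apply, LieAlgebra.ad_apply]
        exact (hKmem z).mp hz j _ (ih e)
    ext y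
    have := hchain m y
    rw [hE] at this
    simpa using this
  exact hmax K hKnil hφK

end Groth.Agent.S14872
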