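import Groth.Statements.S14875
import Mathlib
import Groth.Agent.Lib.Helper8.KillingOrtho

set_option autoImplicit false
universe u v
open PLie

namespace Groth.Agent.S14875

/-- Let `L` be a finite-dimensional Lie algebra over a field of characteristic `p` equipped with a
`p`-mapping `φ`, whose Killing form is non-degenerate. Let `U` and `H` be Lie subalgebras of `L`
such that `H` is the normaliser of `U`, `U` is the set of elements of `H` that lie in the solvable
radical of `H` and are `p`-nilpotent, and the orthogonal of `U` for the Killing form is closed under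
the bracket. Then `U` is the orthogonal of `H` for the Killing form. (The published statement is for
the Lie algebra of a reductive group over a field of characteristic `p` with its canonical
`p`-structure; this row states it for any finite-dimensional Lie algebra with a `p`-mapping.) -/
theorem result
    (k : Type u) [Field k] (p : ℕ) [Fact p.Prime] [CharP k p]
    (L : Type v) [LieRing L] [LieAlgebra k L] [Module.Finite k L]
    (φ : PLie.PMap k p L) (hκ : (killingForm k L).Nondegenerate)
    (U H : LieSubalgebra k L) (hH : H = U.normalizer)
    (hU : ∀ x : L, x ∈ U ↔ ∃ hx : x ∈ H, (⟨x, hx⟩ : ↥H) ∈ LieAlgebra.radical k ↥H ∧ PLie.IsPNilpotent φ x)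
    (hperp : ∀ a b : L, (∀ y ∈ U, killingForm k L a y = 0) → (∀ y ∈ U, killingForm k L b y = 0) →
      ∀ y ∈ U, killingForm k L ⁅a, b⁆ y = 0) :
    ∀ x : L, x ∈ U ↔ ∀ h ∈ H, killingForm k L h x = 0 := by
  classical
  have hiter : ∀ (n : ℕ) (x : L),
      LieAlgebra.ad k L (φ.toFun^[n] x) = LieAlgebra.ad k L x ^ (p ^ n) := by
    intro n
    induction n with
    | zero => intro x; simp
    | succ n ih =>
      intro x
      rw [Function.iterate_succ_apply', φ.ad_map, ih, ← pow_mul, pow_succ]
  have hnil : ∀ u ∈ U, IsNilpotent (LieAlgebra.ad k L u) := by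
    intro u hu
    obtain ⟨hx, -, n, hn⟩ := (hU u).1 hu
    exact ⟨p ^ n, by rw [← hiter, hn, map_zero]⟩
  have h1 := Groth.Agent.Helper8.KillingOrtho.killing_ortho U H hH hnil
  have hsymm : ∀ x y, killingForm k L x y = killingForm k L y x :=
    LieModule.traceForm_comm k L L
  have hrefl : (killingForm k L).IsRefl := (LieModule.traceForm_isSymm k L L).isRefl
  have hdd := LinearMap.BilinForm.orthogonal_orthogonal hκ hrefl U.toSubmodule
  have h2 : ∀ a, (∀ y ∈ U, killingForm k L a y = 0) → a ∈ H := by
    intro a ha
    rw [hH, LieSubalgebra.mem_normalizer_iff]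
    intro u hu
    have h3 : ⁅a, u⁆ ∈ (killingForm k L).orthogonal
        ((killingForm k L).orthogonal U.toSubmodule) := by
      rw [LinearMap.BilinForm.mem_orthogonal_iff]
      intro b hb
      rw [LinearMap.BilinForm.mem_orthogonal_iff] at hb
      have e := LieModule.traceForm_apply_lie_apply k L L b a u
      change killingForm k L ⁅b, a⁆ u = killingForm k L b ⁅a, u⁆ at e
      rw [← e]
      exact hperp b a (fun y hy => by rw [hsymm]; exact hb y hy) ha u hu
    rw [hdd] at h3
    exact h3
  intro x
  constructor
  · intro hx h hh
    exact h1 h hh x hx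
  · intro hx
    have h3 : x ∈ (killingForm k L).orthogonal
        ((killingForm k L).orthogonal U.toSubmodule) := by
      rw [LinearMap.BilinForm.mem_orthogonal_iff]
      intro b hb
      rw [LinearMap.BilinForm.mem_orthogonal_iff] at hb
      exact hx b (h2 b (fun y hy => by rw [hsymm]; exact hb y hy))
    rw [hdd] at h3
    exact h3

end Groth.Agent.S14875
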