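import Groth.Statements.S14877
import Groth.Agent.H28.IsoTriv

set_option autoImplicit false
universe u
open CategoryTheory MonoidalCategory CartesianMonoidalCategory MonObj GrpObj AlgebraicGeometry CategoryTheory.Limits
open AlgGrp

namespace Groth.Agent.S14877


section Helpers

open Groth.Agent.H28

variable {S : Scheme.{u}}

/-- The sieve on `T` of morphisms along which `z : T ⟶ X` factors through one of the `ψ i`. -/
def isoSieve {X T : Over S} (z : T ⟶ X) {I : Type u} (U' : I → Scheme.{u})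
    (ψ : ∀ i, U' i ⟶ X.left) : Sieve T where
  arrows V c := ∃ (i : I) (u : V.left ⟶ U' i), u ≫ ψ i = c.left ≫ z.left
  downward_closed := by
    rintro V V' c ⟨i, u, hu⟩ d
    exact ⟨i, d.left ≫ u, by rw [Category.assoc, hu, Over.comp_left, Category.assoc]⟩

theorem isoSieve_mem {X T : Over S} (z : T ⟶ X) {I : Type u} (U' : I → Scheme.{u})
    (ψ : ∀ i, U' i ⟶ X.left) (hψ : ∀ i, Flat (ψ i) ∧ LocallyOfFinitePresentation (ψ i))
    (hcov : ∀ x : X.left, ∃ i, x ∈ Set.range (ψ i).base) :
    isoSieve z U' ψ ∈ QuotSh.J Scheme.fppfPrecoverage S T := by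
  rw [GrothendieckTopology.mem_over_iff]
  have hmem : Presieve.ofArrows (fun i : I => pullback z.left (ψ i))
      (fun i : I => pullback.fst z.left (ψ i)) ∈ Scheme.fppfPrecoverage T.left := by
    change Presieve.ofArrows _ _ ∈ Scheme.precoverage (@Flat ⊓ @LocallyOfFinitePresentation) _
    rw [Scheme.ofArrows_mem_precoverage_iff]
    refine ⟨fun t => ?_, fun i => ?_⟩
    · obtain ⟨i, u', hu'⟩ := hcov (z.left.base t)
      obtain ⟨w, hw1, -⟩ := Scheme.Pullback.exists_preimage_pullback (f := z.left) (g := ψ i)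
        t u' hu'.symm
      exact ⟨i, w, hw1⟩
    · have h1 : Flat (ψ i) := (hψ i).1
      have h2 : LocallyOfFinitePresentation (ψ i) := (hψ i).2
      exact ⟨inferInstance, inferInstance⟩
  refine GrothendieckTopology.superset_covering _ ?_ (Precoverage.generate_mem_toGrothendieck hmem)
  intro Z g hg
  obtain ⟨W, a, b, hb, rfl⟩ := hg
  cases hb with
  | mk i =>
    rw [Sieve.overEquiv_iff]
    exact ⟨i, a ≫ pullback.snd z.left (ψ i), by
      change (a ≫ pullback.snd z.left (ψ i)) ≫ ψ i = (a ≫ pullback.fst z.left (ψ i)) ≫ z.left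
      rw [Category.assoc, Category.assoc, pullback.condition]⟩

theorem locTriv_of_sections {G P X : Over S} [GrpObj G] (a : AlgGrp.Action G P) (π : P ⟶ X)
    {I : Type u} (U'' : I → Over S) (ψ : ∀ i, U'' i ⟶ X)
    (hψ : ∀ i, Flat (ψ i).left ∧ LocallyOfFinitePresentation (ψ i).left)
    (hcov : ∀ x : X.left, ∃ i, x ∈ Set.range (ψ i).left.base)
    (s : ∀ i, U'' i ⟶ P)
    (hs : ∀ i, s i ≫ π = ψ i)
    (hsq : ∀ i, IsPullback (fst (U'' i) G).left
      (lift (snd (U'' i) G) (fst (U'' i) G ≫ s i) ≫ a.act).left (ψ i).left π.left) :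
    IsoTriv.LocTriv Scheme.fppfPrecoverage a π := by
  intro T z
  refine ⟨isoSieve z (fun i => (U'' i).left) (fun i => (ψ i).left),
    isoSieve_mem z _ _ hψ hcov, ?_⟩
  rintro V c ⟨i, u, hu⟩
  have huV : u ≫ (U'' i).hom = V.hom := by
    rw [← Over.w (ψ i), ← Category.assoc, hu, Category.assoc, Over.w z, Over.w c]
  let û : V ⟶ U'' i := Over.homMk u huV
  have hû : û ≫ ψ i = c ≫ z := Over.OverMorphism.ext hu
  refine ⟨û ≫ s i, by rw [Category.assoc, hs, hû], ?_⟩
  intro V' d y hy
  let m : U'' i ⊗ G ⟶ P := lift (snd (U'' i) G) (fst (U'' i) G ≫ s i) ≫ a.act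
  have hm : ∀ g' : V' ⟶ G, lift (d ≫ û) g' ≫ m = lift g' (d ≫ û ≫ s i) ≫ a.act := by
    intro g'
    change lift (d ≫ û) g' ≫ lift (snd (U'' i) G) (fst (U'' i) G ≫ s i) ≫ a.act = _
    rw [← Category.assoc, comp_lift, lift_snd, ← Category.assoc (lift (d ≫ û) g'), lift_fst,
      Category.assoc]
  have hcond : (d.left ≫ u) ≫ (ψ i).left = y.left ≫ π.left := by
    rw [Category.assoc, hu, ← Over.comp_left, ← Over.comp_left, ← Over.comp_left, hy]
  obtain ⟨w, hw1, hw2⟩ : ∃ w : V'.left ⟶ (U'' i ⊗ G).left,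
      w ≫ (fst (U'' i) G).left = d.left ≫ u ∧ w ≫ m.left = y.left :=
    ⟨(hsq i).lift _ _ hcond, (hsq i).lift_fst _ _ _, (hsq i).lift_snd _ _ _⟩
  have hwV : w ≫ (U'' i ⊗ G).hom = V'.hom := by
    rw [← Over.w (fst (U'' i) G), ← Category.assoc, hw1, Category.assoc, huV, Over.w d]
  let ŵ : V' ⟶ U'' i ⊗ G := Over.homMk w hwV
  have hŵ1 : ŵ ≫ fst (U'' i) G = d ≫ û := Over.OverMorphism.ext hw1
  have hŵ2 : ŵ ≫ m = y := Over.OverMorphism.ext hw2
  have hŵ : ŵ = lift (d ≫ û) (ŵ ≫ snd (U'' i) G) := by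
    apply CartesianMonoidalCategory.hom_ext
    · rw [lift_fst, hŵ1]
    · rw [lift_snd]
  refine ⟨ŵ ≫ snd (U'' i) G, ?_, ?_⟩
  · change lift (ŵ ≫ snd (U'' i) G) (d ≫ û ≫ s i) ≫ a.act = y
    rw [← hm, ← hŵ, hŵ2]
  · intro g' hg'
    have h1 : lift (d ≫ û) g' = ŵ := by
      apply Over.OverMorphism.ext
      apply (hsq i).hom_ext
      · have e1 : (lift (d ≫ û) g' ≫ fst (U'' i) G).left = d.left ≫ u := by
          rw [lift_fst]
          rfl
        exact e1.trans hw1.symm
      · exact (congrArg CommaMorphism.left ((hm g').trans hg')).trans hw2.symm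
    rw [← h1, lift_snd]

end Helpers

/-- Over an algebraically closed field k of characteristic zero, let G be an algebraic group (a smooth
k-group scheme of finite type) acting on a variety P (reduced, separated, of finite type over k),
and let π : P → X be a geometric quotient by this action onto a variety X: π is invariant,
surjective and open, the map (g, p) ↦ (g·p, p) from G × P to P ×_X P is surjective on points, and
for every open U of X the sections of O_X over U are exactly the invariant sections of O_P over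
π⁻¹U. Suppose the bundle is locally isotrivial: every point of X has an open neighbourhood U with a
finite étale surjective morphism U' → U and a morphism s : U' → P lifting U' → U → X such that (u,
g) ↦ g·s(u) exhibits U' × G as the fibre product U' ×_X P. Then the bundle is principal: (g, p) ↦
(g·p, p) is an isomorphism of G × P onto P ×_X P, and π is flat. (The published definition of an
étale covering asks only for a finite étale morphism; this row also requires it to be surjective,
since an empty cover would make every bundle isotrivial.) -/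
theorem result (k : Type u) [Field k] [IsAlgClosed k] [CharZero k]
    (G P X : Over (Spec (CommRingCat.of k))) [GrpObj G] [Smooth G.hom] [QuasiCompact G.hom]
    [LocallyOfFiniteType P.hom] [QuasiCompact P.hom] [IsSeparated P.hom] [IsReduced P.left]
    [LocallyOfFiniteType X.hom] [QuasiCompact X.hom] [IsSeparated X.hom] [IsReduced X.left]
    (a : AlgGrp.Action G P) (π : P ⟶ X) (hinv : GIT.IsInvariant a π)
    (hq : Function.Surjective π.left.base ∧ IsOpenMap π.left.base ∧
      Function.Surjective (GIT.PsiY a π hinv).base ∧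
      ∀ U : X.left.Opens, Function.Injective (π.left.app U) ∧
        Set.range (π.left.app U) = {f | GIT.IsInvSection a π U f})
    (hli : ∀ x : ↥X.left, ∃ (U : X.left.Opens) (_ : x ∈ U) (U' : Scheme.{u}) (φ : U' ⟶ ↑U)
      (_ : IsFinite φ) (_ : Etale φ) (_ : Surjective φ) (s : Over.mk (φ ≫ U.ι ≫ X.hom) ⟶ P),
      s.left ≫ π.left = φ ≫ U.ι ∧
      IsPullback (fst (Over.mk (φ ≫ U.ι ≫ X.hom)) G).left (lift (snd (Over.mk (φ ≫ U.ι ≫ X.hom)) G) (fst (Over.mk (φ ≫ U.ι ≫ X.hom)) G ≫ s) ≫ a.act).left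
        (φ ≫ U.ι) π.left) :
    IsIso (GIT.PsiY a π hinv) ∧ Flat π.left := by
  choose U hxU U' φ hfin het hsurj s hs hsq using hli
  have hflat : ∀ x, Flat (φ x ≫ (U x).ι) ∧ LocallyOfFinitePresentation (φ x ≫ (U x).ι) := by
    intro x
    have := het x
    exact ⟨inferInstance, inferInstance⟩
  have hpt : ∀ x : X.left, ∃ u' : U' x, (φ x ≫ (U x).ι).base u' = x := by
    intro x
    obtain ⟨u', hu'⟩ := (hsurj x).surj ⟨x, hxU x⟩
    refine ⟨u', ?_⟩
    rw [Scheme.Hom.comp_base, TopCat.comp_app]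
    erw [hu']
    rfl
  have hLT : Groth.Agent.H28.IsoTriv.LocTriv Scheme.fppfPrecoverage a π := by
    refine locTriv_of_sections a π (fun x => Over.mk (φ x ≫ (U x).ι ≫ X.hom))
      (fun x => Over.homMk (φ x ≫ (U x).ι) (Category.assoc _ _ _)) hflat ?_ s ?_ hsq
    · intro x
      obtain ⟨u', hu'⟩ := hpt x
      exact ⟨x, u', hu'⟩
    · intro x
      exact Over.OverMorphism.ext (hs x)
  refine ⟨Groth.Agent.H28.IsoTriv.isIso_psiY_of_existsUnique hinv
    (fun y' y hy => Groth.Agent.H28.IsoTriv.existsUnique_of_locTriv hinv hLT y' y hy), ?_⟩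
  apply Groth.Agent.H28.IsoTriv.flat_of_forall_exists_isPullback
  intro p
  obtain ⟨u', hu'⟩ := hpt (π.left.base p)
  obtain ⟨e, -, he2⟩ := Groth.Agent.H28.CartPB.exists_preimage_of_isPullback
    (hsq (π.left.base p)) u' p hu'
  refine ⟨_, _, _, _, _, hsq (π.left.base p), (hflat _).1, ?_, ⟨e, he2⟩⟩
  have sq : IsPullback (fst (Over.mk (φ (π.left.base p) ≫ (U (π.left.base p)).ι ≫ X.hom)) G).left
      (snd (Over.mk (φ (π.left.base p) ≫ (U (π.left.base p)).ι ≫ X.hom)) G).left
      (Over.mk (φ (π.left.base p) ≫ (U (π.left.base p)).ι ≫ X.hom)).hom G.hom :=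
    IsPullback.of_hasPullback _ _
  exact MorphismProperty.of_isPullback (P := @Flat) sq.flip inferInstance

end Groth.Agent.S14877
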