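import Groth.Statements.S14879
import Mathlib
import Groth.Agent.Lib.Helper8.LaplaceSum

set_option autoImplicit false
universe u
open Finset
open AlgGrp

namespace Groth.Agent.S14879

open Groth.Agent.Helper8 Equiv Finset Matrix

theorem sign_shuffle {p r : ℕ} (A : Finset (Fin (p + r))) (α : Fin p ↪o Fin (p + r))
    (β : Fin r ↪o Fin (p + r))
    (hα : ∀ x, x ∈ A ↔ ∃ a, α a = x) (hβ : ∀ x, x ∉ A ↔ ∃ b, β b = x)
    (ρ : Perm (Fin (p + r))) (h1 : ∀ a, ρ (Fin.castAdd r a) = α a)
    (h2 : ∀ b, ρ (Fin.natAdd p b) = β b) :
    Perm.sign ρ = (-1 : ℤˣ) ^ ((A ×ˢ Aᶜ).filter (fun ab => ab.2 < ab.1)).card := by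
  classical
  rw [Perm.sign_eq_prod_prod_Ioi, Finset.prod_sigma', Finset.prod_ite, Finset.prod_const_one,
    one_mul, Finset.prod_const]
  congr 1
  apply Finset.card_nbij' (fun x => (ρ x.1, ρ x.2)) (fun y => ⟨ρ.symm y.1, ρ.symm y.2⟩)
  · intro x hx
    simp only [Finset.coe_filter, Finset.mem_sigma, Finset.mem_univ, Finset.mem_Ioi, true_and,
      Set.mem_setOf_eq, not_lt] at hx
    obtain ⟨hlt, hle⟩ := hx
    simp only [Finset.coe_filter, Finset.mem_product, Finset.mem_compl, Set.mem_setOf_eq]
    obtain ⟨i, j⟩ := x
    simp only at hlt hle ⊢
    induction i using Fin.addCases with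
    | left a =>
      induction j using Fin.addCases with
      | left a' =>
        exfalso
        rw [h1, h1] at hle
        have h3 : a < a' := by
          have := Fin.lt_def.mp hlt
          simp only [Fin.val_castAdd] at this
          exact Fin.lt_def.mpr this
        exact absurd (α.lt_iff_lt.mpr h3) (not_lt.mpr hle)
      | right b =>
        rw [h1, h2] at hle ⊢
        have hA : α a ∈ A := (hα _).mpr ⟨a, rfl⟩
        have hB : β b ∉ A := (hβ _).mpr ⟨b, rfl⟩
        refine ⟨⟨hA, hB⟩, lt_of_le_of_ne hle ?_⟩
        intro h
        rw [h] at hB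
        exact hB hA
    | right b =>
      induction j using Fin.addCases with
      | left a =>
        exfalso
        have := Fin.lt_def.mp hlt
        simp only [Fin.val_castAdd, Fin.val_natAdd] at this
        omega
      | right b' =>
        exfalso
        rw [h2, h2] at hle
        have h3 : b < b' := by
          have := Fin.lt_def.mp hlt
          simp only [Fin.val_natAdd] at this
          exact Fin.lt_def.mpr (by omega)
        exact absurd (β.lt_iff_lt.mpr h3) (not_lt.mpr hle)
  · intro y hy
    simp only [Finset.coe_filter, Finset.mem_product, Finset.mem_compl, Set.mem_setOf_eq] at hy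
    obtain ⟨⟨hA, hB⟩, hlt⟩ := hy
    simp only [Finset.coe_filter, Finset.mem_sigma, Finset.mem_univ, Finset.mem_Ioi, true_and,
      Set.mem_setOf_eq, not_lt, Equiv.apply_symm_apply]
    obtain ⟨a, ha⟩ := (hα _).mp hA
    obtain ⟨b, hb⟩ := (hβ _).mp hB
    refine ⟨?_, hlt.le⟩
    have e1 : ρ.symm y.1 = Fin.castAdd r a := by
      rw [Equiv.symm_apply_eq, h1, ha]
    have e2 : ρ.symm y.2 = Fin.natAdd p b := by
      rw [Equiv.symm_apply_eq, h2, hb]
    rw [e1, e2, Fin.lt_def]
    simp only [Fin.val_castAdd, Fin.val_natAdd]
    omega
  · intro x _
    simp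
  · intro y _
    simp

/-- Let k be a field of characteristic zero, n = p + r with p, r ≥ 1, M an n × n matrix over k, A a set
of p row indices and B a set of r row indices, both listed increasingly. For a permutation π of the
indices, with permutation matrix P_π, let Y_A(M·P_π) be the minor of M·P_π on the rows A and the
first p columns, and Z_B(M·P_π) the minor on the rows B and the last r columns. Then the sum over
all π of sign(π)·Y_A(M·P_π)·Z_B(M·P_π) equals p!·r!·(−1)^N·det M when B is the complement of A,
where N is the number of pairs (a, b) with a in A, b outside A and b < a, and equals 0 otherwise.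
Taking det M = 1 this says that the pairing (f, h) ↦ Σ_π sign(π) f(π) h(π) between the spans of the
left p-minors and of the right r-minors is invariant under left translation by matrices of
determinant one and pairs Y_A with the signed complementary minor to p!·r!. (The published statement
asserts that the two families of minors are dual bases for this pairing, that is, the value 1 in
place of p!·r!; the p!·r! permutations preserving the two column blocks each contribute the same
signed term, so this row carries that factor, which is 1 only for n = 2.) -/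
theorem result (k : Type u) [Field k] [CharZero k]
    (p r : ℕ) (hp : 1 ≤ p) (hr : 1 ≤ r) (M : Matrix (Fin (p + r)) (Fin (p + r)) k)
    (A : Finset (Fin (p + r))) (hA : A.card = p) (B : Finset (Fin (p + r))) (hB : B.card = r) :
    ∑ π : Equiv.Perm (Fin (p + r)), (((Equiv.Perm.sign π : ℤˣ) : ℤ) : k) *
      ((M * π.permMatrix k).submatrix (A.orderEmbOfFin hA) (Fin.castAdd r)).det *
      ((M * π.permMatrix k).submatrix (B.orderEmbOfFin hB) (Fin.natAdd p)).det =
    if B = Aᶜ then ((p.factorial * r.factorial : ℕ) : k) *
      (-1 : k) ^ ((A ×ˢ Aᶜ).filter (fun ab => ab.2 < ab.1)).card * M.det else 0 := by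
  classical
  let ρ : Fin (p + r) → Fin (p + r) :=
    fun i => Fin.addCases (fun a => A.orderEmbOfFin hA a) (fun b => B.orderEmbOfFin hB b) i
  have hρl : ∀ a, ρ (Fin.castAdd r a) = A.orderEmbOfFin hA a := fun a => Fin.addCases_left a
  have hρr : ∀ b, ρ (Fin.natAdd p b) = B.orderEmbOfFin hB b := fun b => Fin.addCases_right b
  have hsum : (∑ π : Equiv.Perm (Fin (p + r)), (((Equiv.Perm.sign π : ℤˣ) : ℤ) : k) *
      ((M * π.permMatrix k).submatrix (A.orderEmbOfFin hA) (Fin.castAdd r)).det *
      ((M * π.permMatrix k).submatrix (B.orderEmbOfFin hB) (Fin.natAdd p)).det) =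
      ∑ π : Equiv.Perm (Fin (p + r)), (((Equiv.Perm.sign π : ℤˣ) : ℤ) : k) *
        (Matrix.of fun a c : Fin p =>
          (M.submatrix ρ id) (Fin.castAdd r a) (π (Fin.castAdd r c))).det *
        (Matrix.of fun b d : Fin r =>
          (M.submatrix ρ id) (Fin.natAdd p b) (π (Fin.natAdd p d))).det := by
    rw [← Equiv.sum_comp (Equiv.inv (Equiv.Perm (Fin (p + r))))]
    refine Finset.sum_congr rfl fun π _ => ?_
    simp only [Equiv.inv_apply, Equiv.Perm.sign_inv]
    have h1 : M * (π⁻¹).permMatrix k = M.submatrix id π := by
      rw [Equiv.Perm.permMatrix, PEquiv.mul_toMatrix_toPEquiv]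
      rfl
    have e1 : (M.submatrix id π).submatrix (A.orderEmbOfFin hA) (Fin.castAdd r) =
        Matrix.of fun a c : Fin p =>
          (M.submatrix ρ id) (Fin.castAdd r a) (π (Fin.castAdd r c)) := by
      ext a c
      simp [hρl]
    have e2 : (M.submatrix id π).submatrix (B.orderEmbOfFin hB) (Fin.natAdd p) =
        Matrix.of fun b d : Fin r =>
          (M.submatrix ρ id) (Fin.natAdd p b) (π (Fin.natAdd p d)) := by
      ext b d
      simp [hρr]
    rw [h1, e1, e2]
  rw [hsum, laplace_sum]
  split_ifs with hBA
  · -- complementary case
    have hBmem : ∀ b, B.orderEmbOfFin hB b ∉ A := fun b => by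
      have h3 := B.orderEmbOfFin_mem hB b
      have h4 := (Finset.ext_iff.mp hBA _).mp h3
      exact Finset.mem_compl.mp h4
    have hinj : Function.Injective ρ := by
      intro i j hij
      induction i using Fin.addCases with
      | left a =>
        induction j using Fin.addCases with
        | left a' =>
          rw [hρl, hρl] at hij
          rw [(A.orderEmbOfFin hA).injective hij]
        | right b =>
          exfalso
          rw [hρl, hρr] at hij
          have h1 := A.orderEmbOfFin_mem hA a
          have h2 := hBmem b
          rw [← hij] at h2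
          exact h2 h1
      | right b =>
        induction j using Fin.addCases with
        | left a =>
          exfalso
          rw [hρl, hρr] at hij
          have h1 := A.orderEmbOfFin_mem hA a
          have h2 := hBmem b
          rw [hij] at h2
          exact h2 h1
        | right b' =>
          rw [hρr, hρr] at hij
          rw [(B.orderEmbOfFin hB).injective hij]
    let ρe : Equiv.Perm (Fin (p + r)) :=
      Equiv.ofBijective ρ (Finite.injective_iff_bijective.mp hinj)
    have hdet : (M.submatrix ρ id).det = (((Equiv.Perm.sign ρe : ℤˣ) : ℤ) : k) * M.det :=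
      Matrix.det_permute ρe M
    have hsign := sign_shuffle A (A.orderEmbOfFin hA) (B.orderEmbOfFin hB)
      (fun x => by
        have := A.range_orderEmbOfFin hA
        constructor
        · intro hx
          have hx' : x ∈ Set.range (A.orderEmbOfFin hA) := by rw [this]; exact hx
          exact hx'
        · rintro ⟨a, rfl⟩
          exact A.orderEmbOfFin_mem hA a)
      (fun x => by
        have := B.range_orderEmbOfFin hB
        constructor
        · intro hx
          have hx' : x ∈ Set.range (B.orderEmbOfFin hB) := by
            rw [this]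
            exact (Finset.ext_iff.mp hBA x).mpr (Finset.mem_compl.mpr hx)
          exact hx'
        · rintro ⟨b, rfl⟩
          exact hBmem b)
      ρe hρl hρr
    rw [hdet, hsign]
    push_cast
    ring
  · -- overlapping case
    have hex : ∃ a b, A.orderEmbOfFin hA a = B.orderEmbOfFin hB b := by
      by_contra hne
      push Not at hne
      apply hBA
      apply Finset.eq_of_subset_of_card_le
      · intro y hy
        rw [Finset.mem_compl]
        intro hyA
        have h1 : y ∈ Set.range (B.orderEmbOfFin hB) := by
          rw [B.range_orderEmbOfFin hB]; exact hy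
        have h2 : y ∈ Set.range (A.orderEmbOfFin hA) := by
          rw [A.range_orderEmbOfFin hA]; exact hyA
        obtain ⟨b, rfl⟩ := h1
        obtain ⟨a, ha⟩ := h2
        exact hne a b ha
      · rw [Finset.card_compl, hA, hB, Fintype.card_fin]
        omega
    obtain ⟨a, b, hab⟩ := hex
    have hne : Fin.castAdd r a ≠ Fin.natAdd p b := by
      intro h
      have := congrArg Fin.val h
      simp only [Fin.val_castAdd, Fin.val_natAdd] at this
      omega
    rw [Matrix.det_zero_of_row_eq hne, mul_zero]
    ext j
    simp only [Matrix.submatrix_apply, hρl, hρr, hab]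

end Groth.Agent.S14879
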