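import Groth.Statements.S14886
import Groth.Agent.H28.AssocBundle2

set_option autoImplicit false
universe u
open CategoryTheory MonoidalCategory CartesianMonoidalCategory MonObj GrpObj AlgebraicGeometry CategoryTheory.Limits
open AlgGrp

namespace Groth.Agent.S14886

/-- Over an algebraically closed field k of characteristic zero, let G be a connected algebraic group (a
smooth connected k-group scheme of finite type) and H an algebraic subgroup (a smooth closed
subgroup scheme, j : H → G). Let π : G → B be the quotient of G by H (a geometric quotient for the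
action h·g = g·h⁻¹ which is a principal H-bundle: (h, g) ↦ (g·h⁻¹, g) is an isomorphism H × G ≅ G
×_B G and π is flat). Let X and Y be varieties (reduced, separated, of finite type over k) with
H-actions, in each of which every finite set of points lies in an affine open subset, and let qX : G
× X → QX, qY : G × Y → QY and qXY : G × (X × Y) → QXY be the associated bundles G_H(X), G_H(Y) and
G_H(X × Y): geometric quotients (invariant, surjective, open, fibre-pair map surjective on points,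
sections = invariant sections) which are principal H-bundles, for the actions h·(g, x) = (g·h⁻¹,
h·x), h·(g, y) = (g·h⁻¹, h·y) and h·(g, x, y) = (g·h⁻¹, h·x, h·y), with QX, QY, QXY varieties over B
= G/H through pX, pY, pXY satisfying p ∘ q = π ∘ pr₁. Let fX : QXY → QX and fY : QXY → QY be the
morphisms over B induced by the projections, fX ∘ qXY = qX ∘ (id × pr₁) and fY ∘ qXY = qY ∘ (id ×
pr₂). Then the square formed by fX, fY, pX, pY is cartesian: G_H(X × Y) is the fibre product of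
G_H(X) and G_H(Y) over G/H. -/
theorem result (k : Type u) [Field k] [IsAlgClosed k] [CharZero k]
    (G H : Over (Spec (CommRingCat.of k))) [GrpObj G] [Smooth G.hom] [QuasiCompact G.hom]
    [ConnectedSpace ↥G.left] [GrpObj H] (j : H ⟶ G) [IsMonHom j] [IsClosedImmersion j.left] [Smooth H.hom]
    (B : Over (Spec (CommRingCat.of k))) [LocallyOfFiniteType B.hom] [QuasiCompact B.hom] [IsSeparated B.hom] [IsReduced B.left]
    (r : AlgGrp.Action H G) (hr : ∀ (T : Over (Spec (CommRingCat.of k))) (h : T ⟶ H) (g : T ⟶ G),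
      lift h g ≫ r.act = g * (h ≫ j)⁻¹)
    (π : G ⟶ B) (hπinv : GIT.IsInvariant r π)
    (hπ : (Function.Surjective π.left.base ∧ IsOpenMap π.left.base ∧
      Function.Surjective (GIT.PsiY r π hπinv).base ∧
      (∀ U : B.left.Opens, Function.Injective (π.left.app U) ∧
        Set.range (π.left.app U) = {f | GIT.IsInvSection r π U f}) ∧
      IsIso (GIT.PsiY r π hπinv) ∧ Flat π.left))
    (X Y : Over (Spec (CommRingCat.of k))) [LocallyOfFiniteType X.hom] [QuasiCompact X.hom] [IsSeparated X.hom] [IsReduced X.left] [LocallyOfFiniteType Y.hom] [QuasiCompact Y.hom] [IsSeparated Y.hom] [IsReduced Y.left]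
    (hFX : ∀ F : Finset ↥X.left, ∃ U : X.left.Opens, IsAffineOpen U ∧ (↑F : Set ↥X.left) ⊆ (U : Set ↥X.left))
    (hFY : ∀ F : Finset ↥Y.left, ∃ U : Y.left.Opens, IsAffineOpen U ∧ (↑F : Set ↥Y.left) ⊆ (U : Set ↥Y.left))
    (aX : AlgGrp.Action H X) (aY : AlgGrp.Action H Y)
    (b : AlgGrp.Action H (G ⊗ X))
    (hb : ∀ (T : Over (Spec (CommRingCat.of k))) (h : T ⟶ H) (g : T ⟶ G) (x : T ⟶ X),
      lift h (lift g x) ≫ b.act = lift (g * (h ≫ j)⁻¹) (lift h x ≫ aX.act))
    (c : AlgGrp.Action H (G ⊗ Y))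
    (hc : ∀ (T : Over (Spec (CommRingCat.of k))) (h : T ⟶ H) (g : T ⟶ G) (x : T ⟶ Y),
      lift h (lift g x) ≫ c.act = lift (g * (h ≫ j)⁻¹) (lift h x ≫ aY.act))
    (d : AlgGrp.Action H (G ⊗ (X ⊗ Y)))
    (hd : ∀ (T : Over (Spec (CommRingCat.of k))) (h : T ⟶ H) (g : T ⟶ G) (x : T ⟶ X) (y : T ⟶ Y),
      lift h (lift g (lift x y)) ≫ d.act = lift (g * (h ≫ j)⁻¹) (lift (lift h x ≫ aX.act) (lift h y ≫ aY.act)))
    (QX QY QXY : Over (Spec (CommRingCat.of k))) [LocallyOfFiniteType QX.hom] [QuasiCompact QX.hom] [IsSeparated QX.hom] [IsReduced QX.left] [LocallyOfFiniteType QY.hom] [QuasiCompact QY.hom] [IsSeparated QY.hom] [IsReduced QY.left] [LocallyOfFiniteType QXY.hom] [QuasiCompact QXY.hom] [IsSeparated QXY.hom] [IsReduced QXY.left]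
    (qX : G ⊗ X ⟶ QX) (hqXinv : GIT.IsInvariant b qX) (hqX : (Function.Surjective qX.left.base ∧ IsOpenMap qX.left.base ∧
      Function.Surjective (GIT.PsiY b qX hqXinv).base ∧
      (∀ U : QX.left.Opens, Function.Injective (qX.left.app U) ∧
        Set.range (qX.left.app U) = {f | GIT.IsInvSection b qX U f}) ∧
      IsIso (GIT.PsiY b qX hqXinv) ∧ Flat qX.left))
    (qY : G ⊗ Y ⟶ QY) (hqYinv : GIT.IsInvariant c qY) (hqY : (Function.Surjective qY.left.base ∧ IsOpenMap qY.left.base ∧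
      Function.Surjective (GIT.PsiY c qY hqYinv).base ∧
      (∀ U : QY.left.Opens, Function.Injective (qY.left.app U) ∧
        Set.range (qY.left.app U) = {f | GIT.IsInvSection c qY U f}) ∧
      IsIso (GIT.PsiY c qY hqYinv) ∧ Flat qY.left))
    (qXY : G ⊗ (X ⊗ Y) ⟶ QXY) (hqXYinv : GIT.IsInvariant d qXY) (hqXY : (Function.Surjective qXY.left.base ∧ IsOpenMap qXY.left.base ∧
      Function.Surjective (GIT.PsiY d qXY hqXYinv).base ∧
      (∀ U : QXY.left.Opens, Function.Injective (qXY.left.app U) ∧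
        Set.range (qXY.left.app U) = {f | GIT.IsInvSection d qXY U f}) ∧
      IsIso (GIT.PsiY d qXY hqXYinv) ∧ Flat qXY.left))
    (pX : QX ⟶ B) (hpX : qX ≫ pX = fst G X ≫ π) (pY : QY ⟶ B) (hpY : qY ≫ pY = fst G Y ≫ π)
    (pXY : QXY ⟶ B) (hpXY : qXY ≫ pXY = fst G (X ⊗ Y) ≫ π)
    (fX : QXY ⟶ QX) (hfX : qXY ≫ fX = (G ◁ fst X Y) ≫ qX) (hfXp : fX ≫ pX = pXY)
    (fY : QXY ⟶ QY) (hfY : qXY ≫ fY = (G ◁ snd X Y) ≫ qY) (hfYp : fY ≫ pY = pXY) :
    IsPullback fX.left fY.left pX.left pY.left := by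
  obtain ⟨hπs, -, -, -, hπiso, hπflat⟩ := hπ
  obtain ⟨hqXs, -, -, -, hqXiso, hqXflat⟩ := hqX
  obtain ⟨hqYs, -, -, -, hqYiso, hqYflat⟩ := hqY
  obtain ⟨hqXYs, -, -, -, hqXYiso, hqXYflat⟩ := hqXY
  have := hπiso
  have := hqXiso
  have := hqYiso
  have := hqXYiso
  have : QuasiCompact (G ⊗ X).hom := Groth.Agent.H28.AssocBundle.quasiCompact_tensor_hom G X
  have : QuasiCompact (G ⊗ Y).hom := Groth.Agent.H28.AssocBundle.quasiCompact_tensor_hom G Y
  have : QuasiCompact (X ⊗ Y).hom := Groth.Agent.H28.AssocBundle.quasiCompact_tensor_hom X Y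
  have : QuasiCompact (G ⊗ (X ⊗ Y)).hom :=
    Groth.Agent.H28.AssocBundle.quasiCompact_tensor_hom G (X ⊗ Y)
  have hcovπ := Groth.Agent.H28.AssocBundle.cov_of_quot π hπs hπflat
  have hcovX := Groth.Agent.H28.AssocBundle.cov_of_quot qX hqXs hqXflat
  have hcovY := Groth.Agent.H28.AssocBundle.cov_of_quot qY hqYs hqYflat
  have hcovXY := Groth.Agent.H28.AssocBundle.cov_of_quot qXY hqXYs hqXYflat
  have sX := Groth.Agent.H28.AssocBundle.bundle_isPullback j r hr π hπinv aX b hb qX hqXinv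
    hcovX pX hpX
  have sY := Groth.Agent.H28.AssocBundle.bundle_isPullback j r hr π hπinv aY c hc qY hqYinv
    hcovY pY hpY
  have sXY := Groth.Agent.H28.AssocBundle.bundle_isPullback' j r hr π hπinv d (by
    intro T h t
    have e1 : t = lift (t ≫ fst G (X ⊗ Y)) (lift (t ≫ snd G (X ⊗ Y) ≫ fst X Y)
        (t ≫ snd G (X ⊗ Y) ≫ snd X Y)) := by
      apply CartesianMonoidalCategory.hom_ext
      · simp
      · apply CartesianMonoidalCategory.hom_ext <;> simp
    conv_lhs => rw [e1, hd, lift_fst]) qXY hqXYinv hcovXY pXY hpXY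
  have key : IsPullback fX fY pX pY := by
    refine Groth.Agent.H28.AssocBundle.isPullback_of_local (by rw [hfXp, hfYp]) ?_ ?_
    · intro T t₁ t₂ h1 h2
      obtain ⟨T', c', g, hcg, hc'⟩ :=
        Groth.Agent.H28.AssocBundle.exists_cov_lift π hcovπ (t₁ ≫ pXY)
      have hcepi : Epi c' := Groth.Agent.H28.FpqcCov.epi_of_cov _ hc'
      have hp12 : t₂ ≫ pXY = t₁ ≫ pXY := by
        rw [← hfXp, ← Category.assoc, ← Category.assoc, h1]
      have w1 : g ≫ π = (c' ≫ t₁) ≫ pXY := by rw [Category.assoc, hcg]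
      have w2 : g ≫ π = (c' ≫ t₂) ≫ pXY := by rw [Category.assoc, hp12, hcg]
      obtain ⟨u₁, hu₁f, hu₁q⟩ : ∃ u : T' ⟶ G ⊗ (X ⊗ Y), u ≫ fst G (X ⊗ Y) = g ∧
          u ≫ qXY = c' ≫ t₁ := ⟨sXY.lift g (c' ≫ t₁) w1, sXY.lift_fst _ _ _, sXY.lift_snd _ _ _⟩
      obtain ⟨u₂, hu₂f, hu₂q⟩ : ∃ u : T' ⟶ G ⊗ (X ⊗ Y), u ≫ fst G (X ⊗ Y) = g ∧
          u ≫ qXY = c' ≫ t₂ := ⟨sXY.lift g (c' ≫ t₂) w2, sXY.lift_fst _ _ _, sXY.lift_snd _ _ _⟩
      have hX : u₁ ≫ (G ◁ fst X Y) = u₂ ≫ (G ◁ fst X Y) := by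
        apply sX.hom_ext
        · rw [Category.assoc, Category.assoc, whiskerLeft_fst, hu₁f, hu₂f]
        · rw [Category.assoc, Category.assoc, ← hfX, ← Category.assoc, ← Category.assoc, hu₁q,
            hu₂q, Category.assoc, Category.assoc, h1]
      have hY : u₁ ≫ (G ◁ snd X Y) = u₂ ≫ (G ◁ snd X Y) := by
        apply sY.hom_ext
        · rw [Category.assoc, Category.assoc, whiskerLeft_fst, hu₁f, hu₂f]
        · rw [Category.assoc, Category.assoc, ← hfY, ← Category.assoc, ← Category.assoc, hu₁q,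
            hu₂q, Category.assoc, Category.assoc, h2]
      have hu : u₁ = u₂ := by
        apply CartesianMonoidalCategory.hom_ext
        · rw [hu₁f, hu₂f]
        · apply CartesianMonoidalCategory.hom_ext
          · have e := congrArg (· ≫ snd G X) hX
            simpa using e
          · have e := congrArg (· ≫ snd G Y) hY
            simpa using e
      rw [← cancel_epi c', ← hu₁q, ← hu₂q, hu]
    · intro T a b' hab
      obtain ⟨T', c', g, hcg, hc'⟩ :=
        Groth.Agent.H28.AssocBundle.exists_cov_lift π hcovπ (a ≫ pX)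
      have w1 : g ≫ π = (c' ≫ a) ≫ pX := by rw [Category.assoc, hcg]
      have w2 : g ≫ π = (c' ≫ b') ≫ pY := by rw [Category.assoc, ← hab, hcg]
      obtain ⟨ux, huxf, huxq⟩ : ∃ u : T' ⟶ G ⊗ X, u ≫ fst G X = g ∧ u ≫ qX = c' ≫ a :=
        ⟨sX.lift g (c' ≫ a) w1, sX.lift_fst _ _ _, sX.lift_snd _ _ _⟩
      obtain ⟨uy, huyf, huyq⟩ : ∃ u : T' ⟶ G ⊗ Y, u ≫ fst G Y = g ∧ u ≫ qY = c' ≫ b' :=
        ⟨sY.lift g (c' ≫ b') w2, sY.lift_fst _ _ _, sY.lift_snd _ _ _⟩
      have e1 : lift g (lift (ux ≫ snd G X) (uy ≫ snd G Y)) ≫ (G ◁ fst X Y) = ux := by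
        apply CartesianMonoidalCategory.hom_ext
        · rw [Category.assoc, whiskerLeft_fst, lift_fst, huxf]
        · rw [Category.assoc, whiskerLeft_snd, ← Category.assoc, lift_snd, lift_fst]
      have e2 : lift g (lift (ux ≫ snd G X) (uy ≫ snd G Y)) ≫ (G ◁ snd X Y) = uy := by
        apply CartesianMonoidalCategory.hom_ext
        · rw [Category.assoc, whiskerLeft_fst, lift_fst, huyf]
        · rw [Category.assoc, whiskerLeft_snd, ← Category.assoc, lift_snd, lift_snd]
      refine ⟨T', c', lift g (lift (ux ≫ snd G X) (uy ≫ snd G Y)) ≫ qXY, hc', ?_, ?_⟩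
      · rw [Category.assoc, hfX, ← Category.assoc, e1, huxq]
      · rw [Category.assoc, hfY, ← Category.assoc, e2, huyq]
  exact key.map (Over.forget _)

end Groth.Agent.S14886
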