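import Mathlib
import Groth.Statements.S14888
-- import your own Groth.Agent.* helpers here

set_option autoImplicit false
universe u
open CategoryTheory AlgebraicGeometry
open CAlg

namespace Groth.Agent.S14888


open CategoryTheory.Limits

/-- A point with a finite open neighbourhood has a minimal affine open neighbourhood. -/
theorem exists_min_affine {X : Scheme.{u}} (x : X) (V : X.Opens) (hxV : x ∈ V) [Finite V] :
    ∃ W : X.Opens, IsAffineOpen W ∧ x ∈ W ∧ ∀ O : X.Opens, x ∈ O → W ≤ O := by
  have hop : IsOpen (nhdsKer ({⟨x, hxV⟩} : Set V)) := isOpen_nhdsKer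
  have hop1 : IsOpen (Subtype.val '' nhdsKer ({⟨x, hxV⟩} : Set V)) :=
    V.2.isOpenMap_subtype_val _ hop
  have hx1 : x ∈ Subtype.val '' nhdsKer ({⟨x, hxV⟩} : Set V) :=
    ⟨⟨x, hxV⟩, subset_nhdsKer (Set.mem_singleton _), rfl⟩
  have hmin : ∀ O : X.Opens, x ∈ O → Subtype.val '' nhdsKer ({⟨x, hxV⟩} : Set V) ⊆ (O : Set X) := by
    intro O hxO
    rintro _ ⟨y, hy, rfl⟩
    have h1 : nhdsKer ({⟨x, hxV⟩} : Set V) ⊆ Subtype.val ⁻¹' (O : Set X) :=
      nhdsKer_minimal (by simpa using hxO) (O.2.preimage continuous_subtype_val)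
    exact h1 hy
  obtain ⟨_, ⟨W, hW, rfl⟩, hxW, hW1⟩ :=
    X.isBasis_affineOpens.exists_subset_of_mem_open hx1 hop1
  exact ⟨W, hW, hxW, fun O hxO => (hW1.trans (hmin O hxO))⟩

/-- Let R be a valuation ring whose spectrum is finite (finite height) and let f : X → Spec R be locally
of finite type with locally quasi-finite fibres. For every x ∈ X the canonical morphism Spec O_{X,x}
→ X is an open immersion, and the composite Spec O_{X,x} → Spec R is locally of finite type; in
particular O_{X,x} is finitely generated as an R-algebra. (The published statement takes X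
quasi-finite over Spec R; the assertions are local at x, so this row assumes only that X is locally
of finite type with discrete fibres.) -/
theorem result
    (R : Type u) [CommRing R] [IsDomain R] [ValuationRing R] [Finite (PrimeSpectrum R)]
    {X : Scheme.{u}} (f : X ⟶ Spec (CommRingCat.of R)) [LocallyOfFiniteType f] [LocallyQuasiFinite f]
    (x : X) :
    IsOpenImmersion (X.fromSpecStalk x) ∧ LocallyOfFiniteType (X.fromSpecStalk x ≫ f) := by
  -- affine neighbourhood
  obtain ⟨V, hV, hxV⟩ : ∃ V : X.Opens, IsAffineOpen V ∧ x ∈ V := by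
    obtain ⟨_, ⟨V, hV, rfl⟩, hxV, -⟩ :=
      X.isBasis_affineOpens.exists_subset_of_mem_open (Set.mem_univ x) isOpen_univ
    exact ⟨V, hV, hxV⟩
  haveI : IsAffine V.toScheme := hV
  haveI : Finite ↥(Spec (CommRingCat.of R)) := ‹Finite (PrimeSpectrum R)›
  haveI hfinV : Finite V := by
    have h1 : ((V.ι ≫ f) ⁻¹' Set.univ).Finite := Scheme.Hom.finite_preimage (V.ι ≫ f) Set.finite_univ
    rw [Set.preimage_univ] at h1
    exact Set.finite_univ_iff.mp h1
  obtain ⟨W, hW, hxW, hmin⟩ := exists_min_affine x V hxV
  have hbij : Function.Bijective (X.presheaf.germ W x hxW) := by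
    constructor
    · rw [injective_iff_map_eq_zero]
      intro s hs
      have hs' : X.presheaf.germ W x hxW s = X.presheaf.germ W x hxW 0 := by rw [hs, map_zero]
      obtain ⟨O, hxO, iU, iV, hO⟩ := TopCat.Presheaf.germ_eq X.presheaf x hxW hxW s 0 hs'
      have hWO : W ≤ O := hmin O hxO
      have hle : O = W := le_antisymm iU.le hWO
      subst hle
      have h1 : X.presheaf.map iU.op = 𝟙 _ := by
        rw [Subsingleton.elim iU (𝟙 _)]; exact X.presheaf.map_id _
      rw [map_zero, h1] at hO
      exact hO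
    · intro t
      obtain ⟨O, hxO, s, hs⟩ := TopCat.Presheaf.exists_germ_eq X.presheaf t
      refine ⟨X.presheaf.map (homOfLE (hmin O hxO)).op s, ?_⟩
      rw [TopCat.Presheaf.germ_res_apply]
      exact hs
  haveI : IsIso (X.presheaf.germ W x hxW) := (ConcreteCategory.isIso_iff_bijective _).mpr hbij
  have hoi : IsOpenImmersion (X.fromSpecStalk x) := by
    rw [← hW.fromSpecStalk_eq_fromSpecStalk hxW]
    unfold IsAffineOpen.fromSpecStalk
    infer_instance
  refine ⟨hoi, ?_⟩
  infer_instance

end Groth.Agent.S14888
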