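import Groth.Statements.S1489
import Mathlib
import Groth.Agent.S1487

set_option autoImplicit false
universe u
open FlatMor

namespace Groth.Agent.S1489

open AlgebraicGeometry CategoryTheory Limits in
/-- A morphism f : X → S is étale if and only if it is locally of finite presentation and formally
étale, i.e. has the unique lifting property against first order thickenings of affine schemes (rings
in the same universe). -/
theorem result {X S : Scheme.{u}} (f : X ⟶ S) :
    Etale f ↔ LocallyOfFinitePresentation f ∧ MoreMor.IsFormallyEtaleHom f := by
  constructor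
  · intro h
    haveI := h
    refine ⟨⟨fun {V} hV {U} hU e => ?_⟩,
      (Groth.Agent.S1487.result f).mpr fun U V hU hV hUV => ?_⟩
    · have h1 : @Algebra.Etale _ _ _ _ (f.appLE V U e).hom.toAlgebra :=
        Etale.etale_appLE f hV hU e
      exact @Algebra.Etale.finitePresentation _ _ _ _ (f.appLE V U e).hom.toAlgebra h1
    · have h1 : @Algebra.Etale _ _ _ _ (f.appLE V U hUV).hom.toAlgebra :=
        Etale.etale_appLE f hV hU hUV
      exact @Algebra.Etale.formallyEtale _ _ _ _ (f.appLE V U hUV).hom.toAlgebra h1
  · rintro ⟨h1, h2⟩
    haveI := h1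
    have h3 := (Groth.Agent.S1487.result f).mp h2
    refine ⟨fun {V} hV {U} hU e => ?_⟩
    exact @Algebra.Etale.mk _ _ _ _ (f.appLE V U e).hom.toAlgebra (h3 U V hU hV e)
      (LocallyOfFinitePresentation.finitePresentation_appLE f hV hU e)

end Groth.Agent.S1489
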