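import Groth.Statements.S14892
import Mathlib
import Groth.Agent.Lib.Helper8.ValDim

set_option autoImplicit false
universe u
open CAlg

namespace Groth.Agent.S14892

/-- If the field K has finite transcendence degree d over its prime subfield, then every valuation
subring of K has height (Krull dimension) at most d + 1. -/
theorem result
    (K : Type u) [Field K] (A : ValuationSubring K) (d : ℕ)
    (hd : Algebra.trdeg (⊥ : Subfield K) K = d) :
    ringKrullDim A ≤ ((d + 1 : ℕ) : WithBot ℕ∞) := by
  have h := Groth.Agent.Helper8.ValDim.dim_le A.valuation d hd
  rwa [A.valuationSubring_valuation] at h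

end Groth.Agent.S14892
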