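import Groth.Statements.S14902
import Mathlib

set_option autoImplicit false
universe u
open MovLem

namespace Groth.Agent.S14902

theorem settheory {X1 X2 X3 X12 X23 X13 X123 : Type*} (a₁ : X12 → X1) (a₂ : X12 → X2)
    (b₂ : X23 → X2) (b₃ : X23 → X3) (q₁₂ : X123 → X12) (q₂₃ : X123 → X23) (c₁ : X13 → X1)
    (c₃ : X13 → X3) (p₁₃ : X123 → X13) (r₁ : X123 → X1) (r₃ : X123 → X3)
    (hr₁ : ∀ z, r₁ z = a₁ (q₁₂ z)) (hr₃ : ∀ z, r₃ z = b₃ (q₂₃ z))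
    (e1 : ∀ z, c₁ (p₁₃ z) = a₁ (q₁₂ z)) (e3 : ∀ z, c₃ (p₁₃ z) = b₃ (q₂₃ z))
    (e2 : ∀ z, a₂ (q₁₂ z) = b₂ (q₂₃ z))
    (hsurj : ∀ u v, a₂ u = b₂ v → ∃ z, q₁₂ z = u ∧ q₂₃ z = v)
    (W₁ : Set X12) (W₂ : Set X23) (R₁ : Set X1) :
    r₃ '' ((q₁₂ ⁻¹' W₁ ∩ q₂₃ ⁻¹' W₂) ∩ r₁ ⁻¹' R₁) =
        c₃ '' (p₁₃ '' (q₁₂ ⁻¹' W₁ ∩ q₂₃ ⁻¹' W₂) ∩ c₁ ⁻¹' R₁) ∧
      r₃ '' ((q₁₂ ⁻¹' W₁ ∩ q₂₃ ⁻¹' W₂) ∩ r₁ ⁻¹' R₁) =
        b₃ '' (W₂ ∩ b₂ ⁻¹' (a₂ '' (W₁ ∩ a₁ ⁻¹' R₁))) := by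
  constructor
  · ext x₃
    constructor
    · rintro ⟨z, ⟨hz, hzR⟩, rfl⟩
      refine ⟨p₁₃ z, ⟨⟨z, hz, rfl⟩, ?_⟩, ?_⟩
      · rw [Set.mem_preimage, e1, ← hr₁]; exact hzR
      · rw [e3, hr₃]
    · rintro ⟨w, ⟨⟨z, hz, rfl⟩, hwR⟩, rfl⟩
      refine ⟨z, ⟨hz, ?_⟩, ?_⟩
      · rw [Set.mem_preimage, hr₁, ← e1]; exact hwR
      · rw [e3, hr₃]
  · ext x₃
    constructor
    · rintro ⟨z, ⟨hz, hzR⟩, rfl⟩
      refine ⟨q₂₃ z, ⟨hz.2, ?_⟩, (hr₃ z).symm⟩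
      rw [Set.mem_preimage, ← e2]
      refine ⟨q₁₂ z, ⟨hz.1, ?_⟩, rfl⟩
      rw [Set.mem_preimage, ← hr₁]; exact hzR
    · rintro ⟨v, ⟨hv, u, ⟨hu, huR⟩, huv⟩, rfl⟩
      obtain ⟨z, hz1, hz2⟩ := hsurj u v huv
      refine ⟨z, ⟨⟨?_, ?_⟩, ?_⟩, ?_⟩
      · rw [Set.mem_preimage, hz1]; exact hu
      · rw [Set.mem_preimage, hz2]; exact hv
      · rw [Set.mem_preimage, hr₁, hz1]; exact huR
      · rw [hr₃, hz2]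

open AlgebraicGeometry CategoryTheory CategoryTheory.Limits in
/-- Let X₁, X₂, X₃ be schemes over a field k, with the fibre products X₁₂ = X₁ ×_k X₂, X₂₃ = X₂ ×_k X₃,
X₁₃ = X₁ ×_k X₃ and X₁₂₃ = X₁₂ ×_{X₂} X₂₃ = X₁ ×_k X₂ ×_k X₃. Write p₁₂ : X₁₂₃ → X₁₂, p₂₃ : X₁₂₃ →
X₂₃, p₁₃ : X₁₂₃ → X₁₃, p₁ : X₁₂₃ → X₁ and p₃ : X₁₂₃ → X₃ for the projections from the triple
product, and, on the double products, pr₁ : X₁₂ → X₁, pr₂ : X₁₂ → X₂, pr₁ : X₁₃ → X₁, pr₃ : X₁₃ →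
X₃, pr₂ : X₂₃ → X₂ and pr₃ : X₂₃ → X₃ for the projections (indexed by the target factor). Let W₁ ⊆
X₁₂, W₂ ⊆ X₂₃ and R₁ ⊆ X₁ be arbitrary subsets of the underlying spaces, and put W₁₂ = p₁₂⁻¹(W₁) ∩
p₂₃⁻¹(W₂), W₃ = p₁₃(W₁₂), R₂ = pr₂(W₁ ∩ pr₁⁻¹(R₁)) and R₃ = p₃(W₁₂ ∩ p₁⁻¹(R₁)). Then R₃ = pr₃(W₃ ∩
pr₁⁻¹(R₁)), computed in X₁₃, and R₃ = pr₃(W₂ ∩ pr₂⁻¹(R₂)), computed in X₂₃, as identities of point
sets. (The published statement concerns supports of algebraic cycles on smooth projective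
equidimensional k-schemes; this row is stated for arbitrary subsets of the underlying spaces of
arbitrary k-schemes.) -/
theorem result (k : Type u) [Field k] (X₁ X₂ X₃ : Scheme.{u})
    (π₁ : X₁ ⟶ Spec (CommRingCat.of k)) (π₂ : X₂ ⟶ Spec (CommRingCat.of k)) (π₃ : X₃ ⟶ Spec (CommRingCat.of k))
    (p₁₃ : pullback (pullback.snd π₁ π₂) (pullback.fst π₂ π₃) ⟶ pullback π₁ π₃)
    (h₁₃ : p₁₃ ≫ pullback.fst π₁ π₃ =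
      pullback.fst (pullback.snd π₁ π₂) (pullback.fst π₂ π₃) ≫ pullback.fst π₁ π₂)
    (h₁₃' : p₁₃ ≫ pullback.snd π₁ π₃ =
      pullback.snd (pullback.snd π₁ π₂) (pullback.fst π₂ π₃) ≫ pullback.snd π₂ π₃)
    (W₁ : Set ↥(pullback π₁ π₂)) (W₂ : Set ↥(pullback π₂ π₃)) (R₁ : Set X₁)
    (W₁₂ : Set ↥(pullback (pullback.snd π₁ π₂) (pullback.fst π₂ π₃)))
    (hW₁₂ : W₁₂ = (pullback.fst (pullback.snd π₁ π₂) (pullback.fst π₂ π₃)).base ⁻¹' W₁ ∩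
      (pullback.snd (pullback.snd π₁ π₂) (pullback.fst π₂ π₃)).base ⁻¹' W₂)
    (W₃ : Set ↥(pullback π₁ π₃)) (hW₃ : W₃ = p₁₃.base '' W₁₂)
    (R₂ : Set X₂) (hR₂ : R₂ = (pullback.snd π₁ π₂).base '' (W₁ ∩ (pullback.fst π₁ π₂).base ⁻¹' R₁))
    (R₃ : Set X₃) (hR₃ : R₃ = (pullback.snd (pullback.snd π₁ π₂) (pullback.fst π₂ π₃) ≫ pullback.snd π₂ π₃).base ''
      (W₁₂ ∩ (pullback.fst (pullback.snd π₁ π₂) (pullback.fst π₂ π₃) ≫ pullback.fst π₁ π₂).base ⁻¹' R₁)) :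
    R₃ = (pullback.snd π₁ π₃).base '' (W₃ ∩ (pullback.fst π₁ π₃).base ⁻¹' R₁) ∧
      R₃ = (pullback.snd π₂ π₃).base '' (W₂ ∩ (pullback.fst π₂ π₃).base ⁻¹' R₂) := by
  subst hW₁₂ hW₃ hR₂ hR₃
  exact settheory (pullback.fst π₁ π₂).base (pullback.snd π₁ π₂).base
    (pullback.fst π₂ π₃).base (pullback.snd π₂ π₃).base
    (pullback.fst (pullback.snd π₁ π₂) (pullback.fst π₂ π₃)).base
    (pullback.snd (pullback.snd π₁ π₂) (pullback.fst π₂ π₃)).base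
    (pullback.fst π₁ π₃).base (pullback.snd π₁ π₃).base p₁₃.base
    (pullback.fst (pullback.snd π₁ π₂) (pullback.fst π₂ π₃) ≫ pullback.fst π₁ π₂).base
    (pullback.snd (pullback.snd π₁ π₂) (pullback.fst π₂ π₃) ≫ pullback.snd π₂ π₃).base
    (fun z => rfl) (fun z => rfl)
    (fun z => congrArg (fun f : _ ⟶ X₁ => f.base z) h₁₃)
    (fun z => congrArg (fun f : _ ⟶ X₃ => f.base z) h₁₃')
    (fun z => congrArg (fun f : _ ⟶ X₂ => f.base z)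
      (pullback.condition (f := pullback.snd π₁ π₂) (g := pullback.fst π₂ π₃)))
    (fun u v huv => AlgebraicGeometry.Scheme.Pullback.exists_preimage_pullback
        (f := pullback.snd π₁ π₂) (g := pullback.fst π₂ π₃) u v huv)
    W₁ W₂ R₁

end Groth.Agent.S14902
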