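import Mathlib
import Groth.Statements.S14909
import Groth.Agent.Lib.Helper4.PSEval
-- import your own Groth.Agent.* helpers here

set_option autoImplicit false
universe u
open Neron

namespace Groth.Agent.S14909


open IsLocalRing

/-- ring identity core of part (1) -/
theorem alg1 {A : Type*} [CommRing A] (x y ϖ u₁ u₆ p s V W' a₁ a₆ : A)
    (ha₁ : a₁ = u₁ * p * ϖ) (ha₆ : a₆ = u₆ * ϖ)
    (hUV : (u₆ - u₁ * p * x * y) * V = 1) (hs : s * 3 = 1)
    (hWW' : (1 + s * u₁ * p * V * x * y) * W' = 1)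
    (hF : y ^ 2 + a₁ * (x * y) - x ^ 3 - a₆ = 0) (hFx : 3 * x ^ 2 - a₁ * y = 0) :
    x ^ 2 = (W' * s * u₁ * p * V) * y ^ 3 ∧ ϖ = V * (y ^ 2 - x ^ 3) := by
  subst ha₁ ha₆
  have h1 : ϖ * (u₆ - u₁ * p * x * y) = y ^ 2 - x ^ 3 := by linear_combination (-1 : A) * hF
  have h2 : ϖ = V * (y ^ 2 - x ^ 3) := by linear_combination V * h1 - ϖ * hUV
  have h3 : x ^ 2 = s * u₁ * p * ϖ * y := by linear_combination s * hFx - x ^ 2 * hs
  have h4 : x ^ 2 * (1 + s * u₁ * p * V * x * y) = s * u₁ * p * V * y ^ 3 := by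
    linear_combination h3 + s * u₁ * p * y * h2
  have h5 : x ^ 2 = (W' * s * u₁ * p * V) * y ^ 3 := by
    linear_combination W' * h4 - x ^ 2 * hWW'
  exact ⟨h5, h2⟩

theorem pow_le_aux {A : Type*} [CommRing A] (x y t : A) (h : x ^ 2 = t * y ^ 3) (j : ℕ) :
    (Ideal.span {x, y}) ^ (j + 1) ≤ Ideal.span {y ^ (j + 1), x * y ^ j} := by
  induction j with
  | zero =>
    rw [zero_add, pow_one, Ideal.span_le]
    intro z hz
    simp only [Set.mem_insert_iff, Set.mem_singleton_iff] at hz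
    rcases hz with rfl | rfl
    · exact Ideal.mem_span_pair.mpr ⟨0, 1, by ring⟩
    · exact Ideal.mem_span_pair.mpr ⟨1, 0, by ring⟩
  | succ j ih =>
    rw [pow_succ]
    refine (Ideal.mul_mono_left ih).trans ?_
    rw [Ideal.span_pair_mul_span_pair, Ideal.span_le]
    intro z hz
    simp only [Set.mem_insert_iff, Set.mem_singleton_iff] at hz
    rcases hz with rfl | rfl | rfl | rfl
    · exact Ideal.mem_span_pair.mpr ⟨0, 1, by ring⟩
    · exact Ideal.mem_span_pair.mpr ⟨1, 0, by ring⟩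
    · refine Ideal.mem_span_pair.mpr ⟨t * y, 0, ?_⟩
      have : x * y ^ j * x = x ^ 2 * y ^ j := by ring
      rw [this, h]; ring
    · exact Ideal.mem_span_pair.mpr ⟨0, 1, by ring⟩

theorem part1 (R : Type u) [CommRing R] [IsDomain R] [IsDiscreteValuationRing R]
    (ϖ a₁ a₆ : R) (v : ℕ) (hv : 1 ≤ v) (u₁ u₆ : Rˣ) (ha₁ : a₁ = u₁ * ϖ ^ v) (ha₆ : a₆ = u₆ * ϖ)
    (h2 : (2 : R) ∈ IsLocalRing.maximalIdeal R ^ v)
    (x y : MvPowerSeries (Fin 2) R) (hx : x = MvPowerSeries.X 0) (hy : y = MvPowerSeries.X 1)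
    (I M : Ideal (MvPowerSeries (Fin 2) R))
    (hF : y ^ 2 + a₁ • (x * y) - x ^ 3 - algebraMap R (MvPowerSeries (Fin 2) R) a₆ ∈ I)
    (hFx : 3 * x ^ 2 - a₁ • y ∈ I)
    (hM : M = Ideal.span {algebraMap R (MvPowerSeries (Fin 2) R) ϖ, x, y}) (j : ℕ) :
    M ^ (j + 1) ⊔ I = Ideal.span {y ^ (j + 1), x * y ^ j} ⊔ I := by
  have h2m : (2 : R) ∈ IsLocalRing.maximalIdeal R := Ideal.pow_le_self (by omega) h2
  have h3u : IsUnit (3 : R) := by
    by_contra h
    have h3m : (3 : R) ∈ IsLocalRing.maximalIdeal R := (IsLocalRing.mem_maximalIdeal _).mpr h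
    have h1m : (1 : R) ∈ IsLocalRing.maximalIdeal R := by
      have := Ideal.sub_mem _ h3m h2m
      have e : (3 : R) - 2 = 1 := by norm_num
      rwa [e] at this
    exact (IsLocalRing.maximalIdeal.isMaximal R).ne_top ((Ideal.eq_top_iff_one _).mpr h1m)
  obtain ⟨s, hs⟩ := h3u.exists_left_inv
  obtain ⟨k, rfl⟩ : ∃ k, v = k + 1 := ⟨v - 1, by omega⟩
  have hU : IsUnit ((MvPowerSeries.C u₆ : MvPowerSeries (Fin 2) R) -
      MvPowerSeries.C (u₁ : R) * MvPowerSeries.C (ϖ ^ k) * x * y) := by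
    rw [MvPowerSeries.isUnit_iff_constantCoeff]
    simp [hx, hy]
  obtain ⟨V, hV⟩ := hU.exists_right_inv
  have hW : IsUnit ((1 : MvPowerSeries (Fin 2) R) +
      MvPowerSeries.C s * MvPowerSeries.C (u₁ : R) * MvPowerSeries.C (ϖ ^ k) * V * x * y) := by
    rw [MvPowerSeries.isUnit_iff_constantCoeff]
    simp [hx, hy]
  obtain ⟨W', hW'⟩ := hW.exists_right_inv
  have hsurj : Function.Surjective (Ideal.Quotient.mk I) := Ideal.Quotient.mk_surjective
  have key := alg1 (Ideal.Quotient.mk I x) (Ideal.Quotient.mk I y)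
    (Ideal.Quotient.mk I (MvPowerSeries.C ϖ)) (Ideal.Quotient.mk I (MvPowerSeries.C (u₁ : R)))
    (Ideal.Quotient.mk I (MvPowerSeries.C (u₆ : R))) (Ideal.Quotient.mk I (MvPowerSeries.C (ϖ ^ k)))
    (Ideal.Quotient.mk I (MvPowerSeries.C s)) (Ideal.Quotient.mk I V) (Ideal.Quotient.mk I W')
    (Ideal.Quotient.mk I (MvPowerSeries.C a₁)) (Ideal.Quotient.mk I (MvPowerSeries.C a₆))
    (by simp only [← map_mul]; rw [ha₁, pow_succ, mul_assoc])
    (by simp only [← map_mul]; rw [ha₆])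
    (by simpa only [map_sub, map_mul, map_one] using congrArg (Ideal.Quotient.mk I) hV)
    (by
      have := congrArg (fun r => Ideal.Quotient.mk I (MvPowerSeries.C r : MvPowerSeries (Fin 2) R)) hs
      simpa only [map_mul, map_ofNat, map_one] using this)
    (by simpa only [map_add, map_mul, map_one] using congrArg (Ideal.Quotient.mk I) hW')
    (by
      have := Ideal.Quotient.eq_zero_iff_mem.mpr hF
      rw [MvPowerSeries.smul_eq_C_mul, ← MvPowerSeries.c_eq_algebraMap] at this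
      simpa only [map_sub, map_add, map_mul, map_pow] using this)
    (by
      have := Ideal.Quotient.eq_zero_iff_mem.mpr hFx
      rw [MvPowerSeries.smul_eq_C_mul] at this
      simpa only [map_sub, map_add, map_mul, map_pow, map_ofNat] using this)
  obtain ⟨hx2, hϖ⟩ := key
  have hred : ∀ K : Ideal (MvPowerSeries (Fin 2) R),
      K ⊔ I = (K.map (Ideal.Quotient.mk I)).comap (Ideal.Quotient.mk I) := fun K => by
    rw [Ideal.comap_map_of_surjective _ hsurj, ← RingHom.ker_eq_comap_bot, Ideal.mk_ker]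
  rw [hred, hred]
  congr 1
  apply le_antisymm
  · rw [Ideal.map_pow, hM, Ideal.map_span, Ideal.map_span]
    have h1 : Ideal.span ((Ideal.Quotient.mk I) ''
        {algebraMap R (MvPowerSeries (Fin 2) R) ϖ, x, y}) ≤
        Ideal.span {Ideal.Quotient.mk I x, Ideal.Quotient.mk I y} := by
      rw [Ideal.span_le]
      rintro _ ⟨z, hz, rfl⟩
      simp only [Set.mem_insert_iff, Set.mem_singleton_iff] at hz
      rcases hz with rfl | rfl | rfl
      · rw [← MvPowerSeries.c_eq_algebraMap]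
        show Ideal.Quotient.mk I (MvPowerSeries.C ϖ) ∈ _
        rw [hϖ]
        exact Ideal.mem_span_pair.mpr
          ⟨- Ideal.Quotient.mk I V * Ideal.Quotient.mk I x ^ 2,
            Ideal.Quotient.mk I V * Ideal.Quotient.mk I y, by ring⟩
      · exact Ideal.subset_span (by simp)
      · exact Ideal.subset_span (by simp)
    refine (Ideal.pow_right_mono h1 _).trans ?_
    refine (pow_le_aux _ _ _ hx2 j).trans ?_
    apply Ideal.span_mono
    intro z hz
    simp only [Set.mem_insert_iff, Set.mem_singleton_iff] at hz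
    rcases hz with rfl | rfl
    · exact ⟨y ^ (j + 1), by simp, by simp⟩
    · exact ⟨x * y ^ j, by simp, by simp⟩
  · apply Ideal.map_mono
    rw [Ideal.span_le]
    have hxM : x ∈ M := hM ▸ Ideal.subset_span (by simp)
    have hyM : y ∈ M := hM ▸ Ideal.subset_span (by simp)
    intro z hz
    simp only [Set.mem_insert_iff, Set.mem_singleton_iff] at hz
    rcases hz with rfl | rfl
    · exact Ideal.pow_mem_pow hyM _
    · rw [pow_succ']
      exact Ideal.mul_mem_mul hxM (Ideal.pow_mem_pow hyM _)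

/-! ### Part 2: the test ring -/

noncomputable def poly {R : Type u} [CommRing R] (c : R) : Polynomial R :=
  Polynomial.X ^ 2 - Polynomial.C c

theorem poly_monic {R : Type u} [CommRing R] (c : R) : (poly c).Monic :=
  Polynomial.monic_X_pow_sub_C c (by norm_num)

noncomputable abbrev Rp {R : Type u} [CommRing R] (c : R) : Type u :=
  AdjoinRoot (poly c)

noncomputable abbrev rt {R : Type u} [CommRing R] (c : R) : Rp c :=
  AdjoinRoot.root (poly c)

theorem rt_sq {R : Type u} [CommRing R] (c : R) : rt c ^ 2 = algebraMap R (Rp c) c := by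
  have := AdjoinRoot.eval₂_root (poly c)
  rw [poly] at this
  simp only [Polynomial.eval₂_sub, Polynomial.eval₂_pow, Polynomial.eval₂_X,
    Polynomial.eval₂_C] at this
  rw [AdjoinRoot.algebraMap_eq]
  exact sub_eq_zero.mp this

theorem rt_regular {R : Type u} [CommRing R] [IsDomain R] (c : R) (hc : c ≠ 0) (z : Rp c)
    (hz : rt c * z = 0) : z = 0 := by
  haveI hfree : Module.Free R (Rp c) := Module.Free.of_basis
    (AdjoinRoot.powerBasis' (poly_monic c)).basis
  have : c • z = 0 := by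
    rw [Algebra.smul_def, ← rt_sq, pow_two (rt c), mul_assoc, hz, mul_zero]
  exact (smul_eq_zero.mp this).resolve_left hc

theorem rt_pow_regular {R : Type u} [CommRing R] [IsDomain R] (c : R) (hc : c ≠ 0) (n : ℕ)
    (z : Rp c) (hz : rt c ^ n * z = 0) : z = 0 := by
  induction n generalizing z with
  | zero => simpa using hz
  | succ n ih =>
    rw [pow_succ (rt c) n, mul_assoc] at hz
    exact rt_regular c hc z (ih _ hz)

theorem mem_of_rt_dvd {R : Type u} [CommRing R] [IsLocalRing R] (c : R)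
    (hc : c ∈ IsLocalRing.maximalIdeal R) (a : R)
    (h : rt c ∣ algebraMap R (Rp c) a) : a ∈ IsLocalRing.maximalIdeal R := by
  let φ : Rp c →+* IsLocalRing.ResidueField R :=
    AdjoinRoot.lift (IsLocalRing.residue R) 0 (by
      rw [poly]
      simp only [Polynomial.eval₂_sub, Polynomial.eval₂_pow, Polynomial.eval₂_X,
        Polynomial.eval₂_C]
      rw [(IsLocalRing.residue_eq_zero_iff c).mpr hc]; simp)
  obtain ⟨w, hw⟩ := h
  have := congrArg φ hw
  rw [AdjoinRoot.algebraMap_eq, AdjoinRoot.lift_of, map_mul, AdjoinRoot.lift_root, zero_mul]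
    at this
  exact (IsLocalRing.residue_eq_zero_iff a).mp this

theorem rt_pow_dvd {R : Type u} [CommRing R] (u : Rˣ) (ϖ : R) (v : ℕ) :
    rt ((u : R) * ϖ) ^ (2 * v) ∣ algebraMap R (Rp ((u : R) * ϖ)) (ϖ ^ v) := by
  refine ⟨algebraMap R _ ((↑u⁻¹ : R) ^ v), ?_⟩
  rw [pow_mul, rt_sq, ← map_pow, ← map_mul]
  congr 1
  rw [← mul_pow]
  congr 1
  rw [mul_comm (u : R) ϖ, mul_assoc, Units.mul_inv, mul_one]

open TrivSqZeroExt

noncomputable def Kid {R : Type u} [CommRing R] (c : R) (n m : ℕ) (h : m ≤ n) :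
    Ideal (TrivSqZeroExt (Rp c) (Rp c)) where
  carrier := {z | rt c ^ n ∣ z.fst ∧ rt c ^ m ∣ z.snd}
  add_mem' := fun ha hb =>
    ⟨by rw [fst_add]; exact dvd_add ha.1 hb.1, by rw [snd_add]; exact dvd_add ha.2 hb.2⟩
  zero_mem' := ⟨by simp, by simp⟩
  smul_mem' := fun w z hz => by
    refine ⟨?_, ?_⟩
    · rw [smul_eq_mul, fst_mul]; exact Dvd.dvd.mul_left hz.1 _
    · rw [smul_eq_mul, snd_mul]
      refine dvd_add ?_ ?_
      · rw [smul_eq_mul]; exact Dvd.dvd.mul_left hz.2 _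
      · rw [op_smul_eq_mul]
        exact Dvd.dvd.mul_left ((pow_dvd_pow _ h).trans hz.1) _

theorem mem_Kid {R : Type u} [CommRing R] (c : R) (n m : ℕ) (h : m ≤ n)
    (z : TrivSqZeroExt (Rp c) (Rp c)) :
    z ∈ Kid c n m h ↔ rt c ^ n ∣ z.fst ∧ rt c ^ m ∣ z.snd := Iff.rfl

theorem Kid_mul {R : Type u} [CommRing R] (c : R) (j : ℕ) :
    Kid c (j + 1) j (Nat.le_succ j) * Kid c 1 0 (Nat.zero_le 1) ≤
      Kid c (j + 2) (j + 1) (Nat.le_succ _) := by
  rw [Ideal.mul_le]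
  intro z hz w hw
  rw [mem_Kid] at hz hw ⊢
  obtain ⟨hz1, hz2⟩ := hz
  obtain ⟨hw1, hw2⟩ := hw
  rw [pow_one] at hw1
  refine ⟨?_, ?_⟩
  · rw [fst_mul, pow_succ (rt c) (j + 1)]
    exact mul_dvd_mul hz1 hw1
  · rw [snd_mul, smul_eq_mul, op_smul_eq_mul]
    refine dvd_add ?_ ?_
    · exact Dvd.dvd.mul_right hz1 _
    · rw [pow_succ (rt c) j]; exact mul_dvd_mul hz2 hw1

theorem Kid_pow {R : Type u} [CommRing R] (c : R) (j : ℕ) :
    Kid c 1 0 (Nat.zero_le 1) ^ (j + 1) ≤ Kid c (j + 1) j (Nat.le_succ j) := by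
  induction j with
  | zero => exact (pow_one (Kid c 1 0 (Nat.zero_le 1))).le
  | succ j ih =>
    rw [pow_succ (Kid c 1 0 (Nat.zero_le 1)) (j + 1)]
    exact (Ideal.mul_mono_left ih).trans (Kid_mul c j)

theorem part2 (R : Type u) [CommRing R] [IsDomain R] [IsDiscreteValuationRing R]
    (ϖ a₁ a₆ : R) (hϖ : Irreducible ϖ) (v : ℕ) (u₁ u₆ : Rˣ) (ha₁ : a₁ = u₁ * ϖ ^ v)
    (ha₆ : a₆ = u₆ * ϖ) (h2 : (2 : R) ∈ IsLocalRing.maximalIdeal R ^ v)
    (x y : MvPowerSeries (Fin 2) R) (hx : x = MvPowerSeries.X 0) (hy : y = MvPowerSeries.X 1)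
    (I M : Ideal (MvPowerSeries (Fin 2) R))
    (hI : I = Ideal.span {y ^ 2 + a₁ • (x * y) - x ^ 3 - algebraMap R (MvPowerSeries (Fin 2) R) a₆,
      2 * y + a₁ • x, 3 * x ^ 2 - a₁ • y})
    (hM : M = Ideal.span {algebraMap R (MvPowerSeries (Fin 2) R) ϖ, x, y})
    (j : ℕ) (hj : 2 * v = j + 1) (a b : R)
    (hab : a • y ^ (j + 1) + b • (x * y ^ j) ∈ M ^ (j + 2) ⊔ I) :
    a ∈ IsLocalRing.maximalIdeal R ∧ b ∈ IsLocalRing.maximalIdeal R := by
  have hϖm : ϖ ∈ IsLocalRing.maximalIdeal R := (IsLocalRing.mem_maximalIdeal _).mpr hϖ.not_isUnit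
  have hcm : (u₆ : R) * ϖ ∈ IsLocalRing.maximalIdeal R := Ideal.mul_mem_left _ _ hϖm
  have hc0 : (u₆ : R) * ϖ ≠ 0 := mul_ne_zero (Units.ne_zero _) hϖ.ne_zero
  -- 2 = d * ϖ^v
  obtain ⟨d, hd⟩ : ∃ d : R, (2 : R) = d * ϖ ^ v := by
    rw [hϖ.maximalIdeal_eq, Ideal.span_singleton_pow, Ideal.mem_span_singleton] at h2
    obtain ⟨d, hd⟩ := h2
    exact ⟨d, by rw [hd, mul_comm]⟩
  -- the target ring
  have hdvd : rt ((u₆ : R) * ϖ) ^ (j + 1) ∣ algebraMap R (Rp ((u₆ : R) * ϖ)) (ϖ ^ v) := by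
    rw [← hj]; exact rt_pow_dvd u₆ ϖ v
  have hdvd1 : rt ((u₆ : R) * ϖ) ∣ algebraMap R (Rp ((u₆ : R) * ϖ)) ϖ := by
    have := rt_pow_dvd u₆ ϖ 1
    rw [pow_one] at this
    exact (dvd_pow_self _ (by norm_num)).trans this
  let J := Kid ((u₆ : R) * ϖ) (j + 2) (j + 1) (Nat.le_succ _)
  let q := Ideal.Quotient.mkₐ R J
  have hq0 : ∀ w, w ∈ J → q w = 0 := fun w hw => by
    rw [Ideal.Quotient.mkₐ_eq_mk]; exact Ideal.Quotient.eq_zero_iff_mem.mpr hw
  have hq0' : ∀ w, q w = 0 → w ∈ J := fun w hw => by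
    rw [Ideal.Quotient.mkₐ_eq_mk] at hw; exact Ideal.Quotient.eq_zero_iff_mem.mp hw
  let Zx : TrivSqZeroExt (Rp ((u₆ : R) * ϖ)) (Rp ((u₆ : R) * ϖ)) := inr 1
  let Zy : TrivSqZeroExt (Rp ((u₆ : R) * ϖ)) (Rp ((u₆ : R) * ϖ)) := inl (rt ((u₆ : R) * ϖ))
  have hZxx : Zx * Zx = 0 := by ext <;> simp [Zx]
  have hZyn : ∀ n : ℕ, Zy ^ n = inl (rt ((u₆ : R) * ϖ) ^ n) := fun n => (inl_pow _ _)
  have hZxy : ∀ n : ℕ, Zx * Zy ^ n = inr (rt ((u₆ : R) * ϖ) ^ n) := fun n => by
    rw [hZyn]; ext <;> simp [Zx]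
  have hnil : ∀ i, IsNilpotent ((![q Zx, q Zy] : Fin 2 → _) i) := by
    intro i
    fin_cases i
    · refine ⟨2, ?_⟩
      show q Zx ^ 2 = 0
      rw [pow_two (q Zx), ← map_mul, hZxx, map_zero]
    · refine ⟨j + 2, ?_⟩
      show q Zy ^ (j + 2) = 0
      rw [← map_pow, hZyn]
      apply hq0
      show _ ∈ Kid _ _ _ _
      rw [mem_Kid]
      exact ⟨by simp, by simp⟩
  obtain ⟨g, -, hg⟩ := Groth.Agent.Helper4.exists_psAlgHom (A := R) (n := 2) (⊥ : Ideal R)
    ⟨1, by simp⟩ ![q Zx, q Zy] hnil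
  have hgx : g x = q Zx := by rw [hx, hg]; rfl
  have hgy : g y = q Zy := by rw [hy, hg]; rfl
  -- generators of I
  have hIker : ∀ f ∈ I, g f = 0 := by
    intro f hf
    have hle : I ≤ RingHom.ker g.toRingHom := by
      rw [hI, Ideal.span_le]
      intro f hf
      simp only [Set.mem_insert_iff, Set.mem_singleton_iff] at hf
      rcases hf with rfl | rfl | rfl
      · show g _ = 0
        have e : g (y ^ 2 + a₁ • (x * y) - x ^ 3 - algebraMap R (MvPowerSeries (Fin 2) R) a₆) =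
            q (Zy ^ 2 + a₁ • (Zx * Zy ^ 1) - Zx * Zx * Zx - algebraMap R _ a₆) := by
          simp only [map_sub, map_add, map_mul, map_pow, map_smul, AlgHom.commutes, hgx, hgy,
            pow_one]
          ring
        rw [e]
        apply hq0
        show _ ∈ Kid _ _ _ _
        rw [mem_Kid, hZyn, hZxy, hZxx, zero_mul, algebraMap_eq_inl']
        refine ⟨?_, ?_⟩
        · simp only [fst_sub, fst_add, fst_inl, fst_smul, fst_inr, smul_zero, fst_zero, add_zero,
            sub_zero]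
          rw [rt_sq, ha₆, sub_self]
          exact dvd_zero _
        · simp only [snd_sub, snd_add, snd_inl, snd_smul, snd_inr, snd_zero, zero_add, sub_zero]
          rw [ha₁, pow_one, Algebra.smul_def, map_mul]
          exact Dvd.dvd.mul_right (Dvd.dvd.mul_left hdvd _) _
      · show g _ = 0
        have e : g (2 * y + a₁ • x) = q (Zy ^ 1 + Zy ^ 1 + a₁ • (Zx * Zy ^ 0)) := by
          simp only [map_add, map_mul, map_pow, map_smul, map_ofNat, hgx, hgy, pow_one, pow_zero,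
            mul_one]
          ring
        rw [e]
        apply hq0
        show _ ∈ Kid _ _ _ _
        rw [mem_Kid, hZyn, hZxy]
        refine ⟨?_, ?_⟩
        · simp only [fst_add, fst_inl, fst_smul, fst_inr, smul_zero, add_zero, pow_one]
          have e2 : rt ((u₆ : R) * ϖ) + rt ((u₆ : R) * ϖ) =
              algebraMap R _ (d * ϖ ^ v) * rt ((u₆ : R) * ϖ) := by
            rw [← hd, map_ofNat]; ring
          rw [e2, pow_succ, map_mul]
          exact mul_dvd_mul (Dvd.dvd.mul_left hdvd _) dvd_rfl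
        · simp only [snd_add, snd_inl, snd_smul, snd_inr, add_zero, zero_add, pow_zero]
          rw [ha₁, Algebra.smul_def, mul_one, map_mul]
          exact Dvd.dvd.mul_left hdvd _
      · show g _ = 0
        have e : g (3 * x ^ 2 - a₁ • y) = q (3 * (Zx * Zx) - a₁ • (Zy ^ 1)) := by
          simp only [map_sub, map_mul, map_pow, map_smul, map_ofNat, hgx, hgy, pow_one]
          ring
        rw [e]
        apply hq0
        show _ ∈ Kid _ _ _ _
        rw [mem_Kid, hZyn, hZxx, mul_zero, zero_sub]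
        refine ⟨?_, ?_⟩
        · simp only [fst_neg, fst_smul, fst_inl, pow_one]
          rw [ha₁, Algebra.smul_def, map_mul, pow_succ, dvd_neg]
          exact mul_dvd_mul (Dvd.dvd.mul_left hdvd _) dvd_rfl
        · simp only [snd_neg, snd_smul, snd_inl, smul_zero, neg_zero]
          exact dvd_zero _
    exact hle hf
  -- powers of M
  have hMker : ∀ f ∈ M ^ (j + 2), g f = 0 := by
    intro f hf
    let 𝔫 : Ideal _ := (Kid ((u₆ : R) * ϖ) 1 0 (Nat.zero_le 1)).map (Ideal.Quotient.mk J)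
    have hMle : M ≤ 𝔫.comap g.toRingHom := by
      rw [hM, Ideal.span_le]
      intro f hf
      simp only [Set.mem_insert_iff, Set.mem_singleton_iff] at hf
      rcases hf with h | h | h
      · rw [h]
        show g _ ∈ 𝔫
        rw [AlgHom.commutes, ← q.commutes]
        refine Ideal.mem_map_of_mem _ ?_
        rw [mem_Kid, algebraMap_eq_inl']
        exact ⟨by simpa using hdvd1, by simp⟩
      · rw [h]
        show g x ∈ 𝔫
        rw [hgx]
        refine Ideal.mem_map_of_mem _ ?_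
        rw [mem_Kid]
        exact ⟨by simp [Zx], by simp⟩
      · rw [h]
        show g y ∈ 𝔫
        rw [hgy]
        refine Ideal.mem_map_of_mem _ ?_
        rw [mem_Kid]
        exact ⟨by simp [Zy], by simp⟩
    have h1 : f ∈ (𝔫 ^ (j + 2)).comap g.toRingHom :=
      Ideal.le_comap_pow _ _ (Ideal.pow_right_mono hMle _ hf)
    have h2 : 𝔫 ^ (j + 2) = ⊥ := by
      have h3 := Ideal.map_pow (Ideal.Quotient.mk J)
        (Kid ((u₆ : R) * ϖ) 1 0 (Nat.zero_le 1)) (j + 2)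
      exact eq_bot_iff.mpr (h3.symm.le.trans ((Ideal.map_mono (Kid_pow _ (j + 1))).trans
        (Ideal.map_quotient_self J).le))
    rw [h2] at h1
    exact h1
  -- evaluate
  obtain ⟨p, hp, r, hr, hpr⟩ := Submodule.mem_sup.mp hab
  have hzero : g (a • y ^ (j + 1) + b • (x * y ^ j)) = 0 := by
    rw [← hpr, map_add, hMker p hp, hIker r hr, add_zero]
  have e : g (a • y ^ (j + 1) + b • (x * y ^ j)) = q (a • Zy ^ (j + 1) + b • (Zx * Zy ^ j)) := by
    simp only [map_add, map_mul, map_pow, map_smul, hgx, hgy]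
  rw [e] at hzero
  have hmem := hq0' _ hzero
  change _ ∈ Kid _ _ _ _ at hmem
  rw [mem_Kid, hZyn, hZxy] at hmem
  obtain ⟨hm1, hm2⟩ := hmem
  simp only [fst_add, fst_inl, fst_smul, fst_inr, smul_zero, add_zero] at hm1
  simp only [snd_add, snd_inl, snd_smul, snd_inr, smul_zero, zero_add] at hm2
  refine ⟨?_, ?_⟩
  · apply mem_of_rt_dvd _ hcm
    obtain ⟨w, hw⟩ := hm1
    refine ⟨w, ?_⟩
    have : rt ((u₆ : R) * ϖ) ^ (j + 1) * (algebraMap R _ a - rt ((u₆ : R) * ϖ) * w) = 0 := by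
      rw [mul_sub, ← mul_assoc, ← pow_succ, ← hw, Algebra.smul_def]; ring
    exact sub_eq_zero.mp (rt_pow_regular _ hc0 _ _ this)
  · apply mem_of_rt_dvd _ hcm
    obtain ⟨w, hw⟩ := hm2
    refine ⟨w, ?_⟩
    have : rt ((u₆ : R) * ϖ) ^ j * (algebraMap R _ b - rt ((u₆ : R) * ϖ) * w) = 0 := by
      rw [mul_sub, ← mul_assoc, ← pow_succ, ← hw, Algebra.smul_def]; ring
    exact sub_eq_zero.mp (rt_pow_regular _ hc0 _ _ this)

/-- Let R be a discrete valuation ring with uniformizer ϖ, let a₁, a₆ ∈ R with a₁ of valuation v ≥ 1, a₆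
of valuation 1, and 2 of valuation at least v (so the residue characteristic is 2; 2 = 0 is
allowed). In the power series ring S = R[[x, y]] let M = (ϖ, x, y) be the maximal ideal and I the
ideal generated by y² + a₁xy − x³ − a₆, 2y + a₁x and 3x² − a₁y, so that S/I is a local ring with
maximal ideal m = M/I. Then the classes of y^(2v) and x·y^(2v−1) form a basis of the vector space
m^(2v)/m^(2v+1) over the residue field: M^(2v) + I = (y^(2v), x·y^(2v−1)) + I, and whenever a·y^(2v)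
+ b·x·y^(2v−1) ∈ M^(2v+1) + I with a, b ∈ R, both a and b lie in the maximal ideal of R. (Generation
holds with any exponent i ≥ 1 in place of 2v: M^i + I = (y^i, x·y^(i−1)) + I.) -/
theorem result (R : Type u) [CommRing R] [IsDomain R] [IsDiscreteValuationRing R]
    (ϖ a₁ a₆ : R) (hϖ : Irreducible ϖ) (v : ℕ) (hv : 1 ≤ v) (u₁ u₆ : Rˣ) (ha₁ : a₁ = u₁ * ϖ ^ v) (ha₆ : a₆ = u₆ * ϖ)
    (h2 : (2 : R) ∈ IsLocalRing.maximalIdeal R ^ v)
    (x y : MvPowerSeries (Fin 2) R) (hx : x = MvPowerSeries.X 0) (hy : y = MvPowerSeries.X 1)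
    (I M : Ideal (MvPowerSeries (Fin 2) R))
    (hI : I = Ideal.span {y ^ 2 + a₁ • (x * y) - x ^ 3 - algebraMap R (MvPowerSeries (Fin 2) R) a₆,
      2 * y + a₁ • x, 3 * x ^ 2 - a₁ • y})
    (hM : M = Ideal.span {algebraMap R (MvPowerSeries (Fin 2) R) ϖ, x, y}) :
    M ^ (2 * v) ⊔ I = Ideal.span {y ^ (2 * v), x * y ^ (2 * v - 1)} ⊔ I ∧
      ∀ a b : R, a • y ^ (2 * v) + b • (x * y ^ (2 * v - 1)) ∈ M ^ (2 * v + 1) ⊔ I →
        a ∈ IsLocalRing.maximalIdeal R ∧ b ∈ IsLocalRing.maximalIdeal R := by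
  obtain ⟨j, hj⟩ : ∃ j, 2 * v = j + 1 := ⟨2 * v - 1, by omega⟩
  have hjs : 2 * v - 1 = j := by omega
  have hj2 : 2 * v + 1 = j + 2 := by omega
  rw [hjs, hj2, hj]
  refine ⟨?_, ?_⟩
  · exact part1 R ϖ a₁ a₆ v hv u₁ u₆ ha₁ ha₆ h2 x y hx hy I M
      (hI ▸ Ideal.subset_span (by simp)) (hI ▸ Ideal.subset_span (by simp)) hM j
  · intro a b hab
    exact part2 R ϖ a₁ a₆ hϖ v u₁ u₆ ha₁ ha₆ h2 x y hx hy I M hI hM j hj a b hab

end Groth.Agent.S14909
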