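import Mathlib
import Groth.Statements.S14913
import Groth.Agent.Lib.Helper9.Perf
-- import your own Groth.Agent.* helpers here

set_option autoImplicit false
universe u
open CategoryTheory AlgebraicGeometry
open PerfSch

namespace Groth.Agent.S14913

open Groth.Agent.Helper9.Perf

/-- Let p be a prime and let X, Y, X', Y' be schemes of characteristic p (p = 0 in the structure sheaf).
Let π_X : X' ⟶ X and π_Y : Y' ⟶ Y be perfections: X' is perfect (its absolute Frobenius is an
isomorphism) and every morphism from a perfect scheme of characteristic p to X factors uniquely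
through π_X, and likewise for π_Y. Let f : X ⟶ Y be a morphism and f' : X' ⟶ Y' the induced morphism
of perfections, the one with f' ≫ π_Y = π_X ≫ f. Then f is quasi-compact if and only if f' is
quasi-compact. -/
theorem result (p : ℕ) [Fact p.Prime] {X Y XP YP : Scheme.{u}}
    [FrobSch.IsCharP X p] [FrobSch.IsCharP Y p] [FrobSch.IsCharP XP p] [FrobSch.IsCharP YP p]
    (πX : XP ⟶ X) (πY : YP ⟶ Y) (hX : FrobSch.IsPerfection πX p) (hY : FrobSch.IsPerfection πY p)
    (f : X ⟶ Y) (fP : XP ⟶ YP) (w : fP ≫ πY = πX ≫ f) :
    AlgebraicGeometry.QuasiCompact f ↔ AlgebraicGeometry.QuasiCompact fP := by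
  have hX' := isHomeomorph_of_isPerfection p πX hX
  have hY' := isHomeomorph_of_isPerfection p πY hY
  have hw := comp_apply_eq πX πY f fP w
  rw [quasiCompact_iff, quasiCompact_iff]
  constructor
  · intro h V hVo hVc
    have h1 : IsCompact (f ⁻¹' (πY '' V)) :=
      h _ (hY'.isOpenMap _ hVo) (hVc.image hY'.continuous)
    have h2 : fP ⁻¹' V = πX ⁻¹' (f ⁻¹' (πY '' V)) := by
      ext x
      simp only [Set.mem_preimage, Set.mem_image]
      constructor
      · intro hx
        exact ⟨fP x, hx, hw x⟩
      · rintro ⟨y, hy, hyx⟩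
        have : y = fP x := hY'.injective (hyx.trans (hw x).symm)
        rwa [← this]
    rw [h2]
    exact hX'.isClosedEmbedding.isCompact_preimage h1
  · intro h V hVo hVc
    have h1 : IsCompact (fP ⁻¹' (πY ⁻¹' V)) :=
      h _ (hVo.preimage hY'.continuous) (hY'.isClosedEmbedding.isCompact_preimage hVc)
    have h2 : f ⁻¹' V = πX '' (fP ⁻¹' (πY ⁻¹' V)) := by
      ext x
      constructor
      · intro hx
        obtain ⟨x', rfl⟩ := hX'.surjective x
        refine ⟨x', ?_, rfl⟩
        simp only [Set.mem_preimage, hw]
        exact hx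
      · rintro ⟨x', hx', rfl⟩
        simp only [Set.mem_preimage, hw] at hx'
        exact hx'
    rw [h2]
    exact h1.image hX'.continuous

end Groth.Agent.S14913
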