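import Mathlib
import Groth.Statements.S14914
import Groth.Agent.Lib.Helper9.Perf
-- import your own Groth.Agent.* helpers here

set_option autoImplicit false
universe u
open CategoryTheory AlgebraicGeometry
open PerfSch

namespace Groth.Agent.S14914

open Groth.Agent.Helper9.Perf

/-- Let p be a prime and let X, Y, X', Y' be schemes of characteristic p (p = 0 in the structure sheaf).
Let π_X : X' ⟶ X and π_Y : Y' ⟶ Y be perfections: X' is perfect (its absolute Frobenius is an
isomorphism) and every morphism from a perfect scheme of characteristic p to X factors uniquely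
through π_X, and likewise for π_Y. Let f : X ⟶ Y be a morphism and f' : X' ⟶ Y' the induced morphism
of perfections, the one with f' ≫ π_Y = π_X ≫ f. Then f is quasi-separated if and only if f' is
quasi-separated. -/
theorem result (p : ℕ) [Fact p.Prime] {X Y XP YP : Scheme.{u}}
    [FrobSch.IsCharP X p] [FrobSch.IsCharP Y p] [FrobSch.IsCharP XP p] [FrobSch.IsCharP YP p]
    (πX : XP ⟶ X) (πY : YP ⟶ Y) (hX : FrobSch.IsPerfection πX p) (hY : FrobSch.IsPerfection πY p)
    (f : X ⟶ Y) (fP : XP ⟶ YP) (w : fP ≫ πY = πX ≫ f) :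
    AlgebraicGeometry.QuasiSeparated f ↔ AlgebraicGeometry.QuasiSeparated fP := by
  have iX := isIntegralHom_of_isPerfection p πX hX
  have iY := isIntegralHom_of_isPerfection p πY hY
  have hX' := isHomeomorph_of_isPerfection p πX hX
  have hw := comp_apply_eq πX πY f fP w
  constructor
  · intro h
    have h1 : QuasiSeparated (fP ≫ πY) := by rw [w]; infer_instance
    exact QuasiSeparated.of_comp fP πY
  · intro h
    refine HasAffineProperty.of_iSup_eq_top (P := @QuasiSeparated)
      (fun V : Y.affineOpens => V) (iSup_affineOpens_eq_top Y) (fun V => ?_)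
    change QuasiSeparatedSpace ↥(f ⁻¹ᵁ (V : Y.Opens))
    refine (isQuasiSeparated_iff_quasiSeparatedSpace _ (f ⁻¹ᵁ (V : Y.Opens)).isOpen).mp ?_
    have hV' : IsAffineOpen (πY ⁻¹ᵁ (V : Y.Opens)) := V.2.preimage πY
    have h1 : IsQuasiSeparated (fP ⁻¹ᵁ (πY ⁻¹ᵁ (V : Y.Opens)) : Set XP) :=
      fP.isQuasiSeparated_preimage hV'.isQuasiSeparated
    have h2 : (f ⁻¹ᵁ (V : Y.Opens) : Set X) = πX '' (fP ⁻¹ᵁ (πY ⁻¹ᵁ (V : Y.Opens)) : Set XP) := by
      ext x
      constructor
      · intro hx
        obtain ⟨x', rfl⟩ := hX'.surjective x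
        refine ⟨x', ?_, rfl⟩
        change πY (fP x') ∈ (V : Y.Opens)
        rw [hw]
        exact hx
      · rintro ⟨x', hx', rfl⟩
        change πY (fP x') ∈ (V : Y.Opens) at hx'
        rw [hw] at hx'
        exact hx'
    rw [h2]
    exact h1.image_of_isEmbedding hX'.isEmbedding

end Groth.Agent.S14914
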