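import Mathlib
import Groth.Statements.S14915
import Groth.Agent.Lib.Helper9.PerfAffine
-- import your own Groth.Agent.* helpers here

set_option autoImplicit false
universe u
open CategoryTheory AlgebraicGeometry
open PerfSch

namespace Groth.Agent.S14915


/-- Let p be a prime and let X, Y, X', Y' be schemes of characteristic p (p = 0 in the structure sheaf).
Let π_X : X' ⟶ X and π_Y : Y' ⟶ Y be perfections: X' is perfect (its absolute Frobenius is an
isomorphism) and every morphism from a perfect scheme of characteristic p to X factors uniquely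
through π_X, and likewise for π_Y. Let f : X ⟶ Y be a morphism and f' : X' ⟶ Y' the induced morphism
of perfections, the one with f' ≫ π_Y = π_X ≫ f. Then f is affine if and only if f' is affine. -/
theorem result (p : ℕ) [Fact p.Prime] {X Y XP YP : Scheme.{u}}
    [FrobSch.IsCharP X p] [FrobSch.IsCharP Y p] [FrobSch.IsCharP XP p] [FrobSch.IsCharP YP p]
    (πX : XP ⟶ X) (πY : YP ⟶ Y) (hX : FrobSch.IsPerfection πX p) (hY : FrobSch.IsPerfection πY p)
    (f : X ⟶ Y) (fP : XP ⟶ YP) (w : fP ≫ πY = πX ≫ f) :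
    AlgebraicGeometry.IsAffineHom f ↔ AlgebraicGeometry.IsAffineHom fP := by
  have iX := Groth.Agent.Helper9.Perf.isIntegralHom_of_isPerfection p πX hX
  have iY := Groth.Agent.Helper9.Perf.isIntegralHom_of_isPerfection p πY hY
  constructor
  · intro hf
    haveI : IsAffineHom (fP ≫ πY) := by rw [w]; infer_instance
    exact IsAffineHom.of_comp fP πY
  · intro hfP
    refine ⟨fun V hV => ?_⟩
    have h1 : IsAffineOpen (πY ⁻¹ᵁ V) := hV.preimage πY
    have h2 : IsAffineOpen (fP ⁻¹ᵁ (πY ⁻¹ᵁ V)) := h1.preimage fP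
    have h3 : fP ⁻¹ᵁ (πY ⁻¹ᵁ V) = πX ⁻¹ᵁ (f ⁻¹ᵁ V) := by
      rw [← Scheme.Hom.comp_preimage, ← Scheme.Hom.comp_preimage, w]
    rw [h3] at h2
    haveI : IsAffine (πX ⁻¹ᵁ (f ⁻¹ᵁ V)).toScheme := h2
    exact Groth.Agent.Helper9.Perf.isAffine_of_isPerfection p (πX ∣_ (f ⁻¹ᵁ V))
      (Groth.Agent.Helper9.Perf.isPerfection_restrict p πX hX (f ⁻¹ᵁ V))

end Groth.Agent.S14915
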