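import Mathlib
import Groth.Statements.S14919
import Groth.Agent.Lib.Helper9.PerfLocal
-- import your own Groth.Agent.* helpers here

set_option autoImplicit false
universe u
open CategoryTheory AlgebraicGeometry
open PerfSch

namespace Groth.Agent.S14919

open Groth.Agent.Helper9.Perf

/-- Let p be a prime and let X, Y, X', Y' be schemes of characteristic p (p = 0 in the structure sheaf).
Let π_X : X' ⟶ X and π_Y : Y' ⟶ Y be perfections: X' is perfect (its absolute Frobenius is an
isomorphism) and every morphism from a perfect scheme of characteristic p to X factors uniquely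
through π_X, and likewise for π_Y. Let f : X ⟶ Y be a morphism and f' : X' ⟶ Y' the induced morphism
of perfections, the one with f' ≫ π_Y = π_X ≫ f. If f is a closed immersion, then so is f'. -/
theorem result (p : ℕ) [Fact p.Prime] {X Y XP YP : Scheme.{u}}
    [FrobSch.IsCharP X p] [FrobSch.IsCharP Y p] [FrobSch.IsCharP XP p] [FrobSch.IsCharP YP p]
    (πX : XP ⟶ X) (πY : YP ⟶ Y) (hX : FrobSch.IsPerfection πX p) (hY : FrobSch.IsPerfection πY p)
    (f : X ⟶ Y) (fP : XP ⟶ YP) (w : fP ≫ πY = πX ≫ f)
    [AlgebraicGeometry.IsClosedImmersion f] : AlgebraicGeometry.IsClosedImmersion fP := by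
  have iX := isIntegralHom_of_isPerfection p πX hX
  have iY := isIntegralHom_of_isPerfection p πY hY
  refine HasAffineProperty.of_iSup_eq_top (P := @IsClosedImmersion)
    (fun V : Y.affineOpens => ⟨πY ⁻¹ᵁ (V : Y.Opens), V.2.preimage πY⟩) ?_ (fun V => ?_)
  · have h1 := iSup_affineOpens_eq_top Y
    have h2 := congrArg (fun U => πY ⁻¹ᵁ U) h1
    simp only [Scheme.Hom.preimage_iSup, Scheme.Hom.preimage_top] at h2
    exact h2
  · refine ⟨?_, ?_⟩
    · have h1 : IsAffineOpen ((fP ≫ πY) ⁻¹ᵁ (V : Y.Opens)) := by
        rw [w]; exact (V.2.preimage f).preimage πX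
      exact h1
    · exact surjective_morphismRestrict_appTop fP _
        (surjective_app_of_isClosedImmersion p πX πY hX hY f fP w V V.2)

end Groth.Agent.S14919
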