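import Mathlib
import Groth.Statements.S14922
import Groth.Agent.Lib.Helper9.PerfMor
-- import your own Groth.Agent.* helpers here

set_option autoImplicit false
universe u
open CategoryTheory AlgebraicGeometry
open PerfSch

namespace Groth.Agent.S14922

open Groth.Agent.Helper9 Groth.Agent.Helper9.Perf CategoryTheory.Limits FrobSch

/-- An étale, universally injective, surjective morphism is an isomorphism. -/
theorem isIso_of_etale_of_universallyInjective_of_surjective {X Y : Scheme.{u}} (h : X ⟶ Y)
    [Etale h] [UniversallyInjective h] [Surjective h] : IsIso h := by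
  have hΔo : IsOpenImmersion (pullback.diagonal h) := inferInstance
  have hΔs : Surjective (pullback.diagonal h) :=
    (UniversallyInjective.iff_diagonal h).mp inferInstance
  have hΔ : IsIso (pullback.diagonal h) :=
    (isIso_iff_isOpenImmersion_and_surjective _).mpr ⟨hΔo, hΔs⟩
  have hm : Mono h := (pullback.isIso_diagonal_iff h).mp hΔ
  have ho : IsOpenImmersion h := IsOpenImmersion.of_flat_of_mono h
  exact (isIso_iff_isOpenImmersion_and_surjective _).mpr ⟨ho, inferInstance⟩

/-- A scheme étale over a perfect scheme is perfect. -/
theorem isPerfect_of_etale (p : ℕ) [Fact p.Prime] {T S : Scheme.{u}} [IsCharP T p] [IsCharP S p]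
    (g : T ⟶ S) [Etale g] (hS : IsPerfect S p) : IsPerfect T p := by
  have : IsIso (frob S p) := hS
  have h1 : frob T p ≫ g = g ≫ frob S p := frob_comp p g
  have h2 : Etale (frob T p ≫ g) := by rw [h1]; infer_instance
  have h3 : Etale (frob T p) := Etale.of_comp (frob T p) g
  exact isIso_of_etale_of_universallyInjective_of_surjective (frob T p)


/-- Let p be a prime and let X, Y, X', Y' be schemes of characteristic p (p = 0 in the structure sheaf).
Let π_X : X' ⟶ X and π_Y : Y' ⟶ Y be perfections: X' is perfect (its absolute Frobenius is an
isomorphism) and every morphism from a perfect scheme of characteristic p to X factors uniquely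
through π_X, and likewise for π_Y. Let f : X ⟶ Y be a morphism and f' : X' ⟶ Y' the induced morphism
of perfections, the one with f' ≫ π_Y = π_X ≫ f. If f is etale, then the commutative square formed
by f', π_X, π_Y and f is cartesian, i.e. X' with the maps f' and π_X is a fibre product of Y' and X
over Y; in particular f', being a base change of f, is etale. (The published item states that the
perfection of an etale morphism is etale; this row states what its proof establishes, that X' ⟶ X
×_Y Y' is an isomorphism, from which etaleness of f' follows by base change.) -/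
theorem result (p : ℕ) [Fact p.Prime] {X Y XP YP : Scheme.{u}}
    [FrobSch.IsCharP X p] [FrobSch.IsCharP Y p] [FrobSch.IsCharP XP p] [FrobSch.IsCharP YP p]
    (πX : XP ⟶ X) (πY : YP ⟶ Y) (hX : FrobSch.IsPerfection πX p) (hY : FrobSch.IsPerfection πY p)
    (f : X ⟶ Y) (fP : XP ⟶ YP) (w : fP ≫ πY = πX ≫ f)
    [AlgebraicGeometry.Etale f] : IsPullback fP πX πY f := by
  have : IsCharP (pullback f πY) p := IsCharP.of_hom (pullback.snd f πY) p
  have hTperf : IsPerfect (pullback f πY) p := isPerfect_of_etale p (pullback.snd f πY) hY.1
  have hT : IsPerfection (pullback.fst f πY) p := by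
    refine ⟨hTperf, fun W _ hW => ⟨?_, ?_⟩⟩
    · intro t1 t2 h12
      simp only at h12
      apply pullback.hom_ext h12
      apply (hY.2 W hW).1
      simp only [Category.assoc, ← pullback.condition]
      rw [← Category.assoc, h12, Category.assoc]
    · intro a
      obtain ⟨b, hb⟩ := (hY.2 W hW).2 (a ≫ f)
      simp only at hb
      exact ⟨pullback.lift a b hb.symm, pullback.lift_fst _ _ _⟩
  obtain ⟨e, he⟩ := exists_iso_of_isPerfection p πX (pullback.fst f πY) hX hT
  have he2 : e.hom ≫ pullback.snd f πY = fP := by
    apply (hY.2 XP hX.1).1
    simp only [Category.assoc, ← pullback.condition]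
    rw [← Category.assoc, he, w]
  have hpb : IsPullback (pullback.snd f πY) (pullback.fst f πY) πY f :=
    (IsPullback.of_hasPullback f πY).flip
  refine IsPullback.of_iso hpb e.symm (Iso.refl _) (Iso.refl _) (Iso.refl _) ?_ ?_ ?_ ?_
  · simp only [Iso.refl_hom, Category.comp_id, Iso.symm_hom, ← he2, Iso.inv_hom_id_assoc]
  · simp only [Iso.refl_hom, Category.comp_id, Iso.symm_hom, ← he, Iso.inv_hom_id_assoc]
  · simp
  · simp

end Groth.Agent.S14922
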