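import Groth.Statements.S5004
import Mathlib
import Groth.Agent.Helper1.QuasiReg

set_option autoImplicit false
universe u
open CategoryTheory CategoryTheory.Limits AlgebraicGeometry TopologicalSpace
open Nrm16

namespace Groth.Agent.S5004

/-- elementwise weak regularity modulo `K` up to powers of `g` -/
def EWg {A : Type*} [CommRing A] (g : A) (K : Ideal A) (rs : List A) : Prop :=
  ∀ (i : ℕ) (hi : i < rs.length) (x : A),
    rs[i] * x ∈ K ⊔ Ideal.ofList (rs.take i) → ∃ n : ℕ, g ^ n * x ∈ K ⊔ Ideal.ofList (rs.take i)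

theorem EWg_cons {A : Type*} [CommRing A] (g : A) (K : Ideal A) (r : A) (rs : List A)
    (h1 : ∀ x, r * x ∈ K → ∃ n : ℕ, g ^ n * x ∈ K) (h2 : EWg g (K ⊔ Ideal.span {r}) rs) :
    EWg g K (r :: rs) := by
  intro i hi x hx
  cases i with
  | zero =>
    simp only [List.getElem_cons_zero, List.take_zero, Ideal.ofList_nil, sup_bot_eq] at hx ⊢
    exact h1 x hx
  | succ i =>
    simp only [List.getElem_cons_succ, List.take_succ_cons, Ideal.ofList_cons] at hx ⊢
    rw [← sup_assoc] at hx ⊢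
    exact h2 i (by simpa using hi) x hx

theorem EWg_mul_left {A : Type*} [CommRing A] (g h : A) (K : Ideal A) (rs : List A)
    (H : EWg g K rs) : EWg (h * g) K rs := by
  intro i hi x hx
  obtain ⟨n, hn⟩ := H i hi x hx
  refine ⟨n, ?_⟩
  rw [mul_pow, mul_assoc]
  exact Ideal.mul_mem_left _ _ hn

theorem krull_single {A : Type*} [CommRing A] [IsNoetherianRing A] (K J : Ideal A) :
    ∃ r ∈ J, ∀ ξ : A, (∀ ν : ℕ, ξ ∈ K ⊔ J ^ ν) → (1 - r) * ξ ∈ K := by
  let N : Submodule A (A ⧸ K) := ⨅ i : ℕ, J ^ i • (⊤ : Submodule A (A ⧸ K))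
  have hle : N ≤ J • N := by
    obtain ⟨k, hk⟩ := Ideal.exists_pow_inf_eq_pow_smul J N
    have h1 := hk (k + 1) (Nat.le_succ k)
    have h2 : J ^ (k + 1) • (⊤ : Submodule A (A ⧸ K)) ⊓ N = N :=
      inf_eq_right.mpr (iInf_le _ (k + 1))
    have h3 : J ^ k • (⊤ : Submodule A (A ⧸ K)) ⊓ N = N :=
      inf_eq_right.mpr (iInf_le _ k)
    rw [h2, h3, Nat.add_sub_cancel_left, pow_one] at h1
    exact le_of_eq h1
  obtain ⟨r, hr, hr2⟩ := Submodule.exists_mem_and_smul_eq_self_of_fg_of_le_smul J N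
    (IsNoetherian.noetherian N) hle
  refine ⟨r, hr, fun ξ hξ => ?_⟩
  have h1 : (Ideal.Quotient.mk K ξ : A ⧸ K) ∈ N := by
    rw [Submodule.mem_iInf]; intro ν
    rw [Groth.Agent.Helper1.RegSpan.mem_smul_top_quot]; exact hξ ν
  have h2 := hr2 _ h1
  rw [← Ideal.Quotient.eq_zero_iff_mem, map_mul, map_sub, map_one, sub_mul, one_mul, sub_eq_zero]
  have h3 : r • (Ideal.Quotient.mk K ξ : A ⧸ K) = Ideal.Quotient.mk K r * Ideal.Quotient.mk K ξ := by
    rw [Algebra.smul_def]; rfl
  rw [← h3, h2]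

open Groth.Agent.Helper1.QuasiReg in
theorem EWg_of_QRK {A : Type*} [CommRing A] [IsNoetherianRing A] : ∀ (c : ℕ) (K : Ideal A)
    (f : Fin c → A), QRK K f → ∃ r ∈ Ideal.span (Set.range f), EWg (1 - r) K (List.ofFn f) := by
  intro c
  induction c with
  | zero =>
    intro K f _
    exact ⟨0, Ideal.zero_mem _, fun i hi => by simp at hi⟩
  | succ c ih =>
    intro K f hq
    obtain ⟨r₀, hr₀, h0⟩ := krull_single K (Ideal.span (Set.range f))
    have hfirst : ∀ x, f 0 * x ∈ K → (1 - r₀) * x ∈ K := fun x hx =>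
      h0 x (fun ν => QRK_div K f hq 0 (ν + 1) x (Ideal.mem_sup_left hx) ν le_rfl)
    obtain ⟨r', hr', h'⟩ := ih (K ⊔ Ideal.span {f 0}) (fun i => f i.succ) (QRK_tail K f hq)
    have hr'J : r' ∈ Ideal.span (Set.range f) :=
      (Ideal.span_mono (by rintro _ ⟨i, rfl⟩; exact ⟨i.succ, rfl⟩)) hr'
    refine ⟨r₀ + r' - r₀ * r', ?_, ?_⟩
    · exact Ideal.sub_mem _ (Ideal.add_mem _ hr₀ hr'J) (Ideal.mul_mem_left _ _ hr'J)
    · have e : (1 : A) - (r₀ + r' - r₀ * r') = (1 - r₀) * (1 - r') := by ring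
      rw [e, List.ofFn_succ]
      apply EWg_cons
      · intro x hx
        refine ⟨1, ?_⟩
        rw [pow_one, mul_comm (1 - r₀), mul_assoc]
        exact Ideal.mul_mem_left _ _ (hfirst x hx)
      · exact EWg_mul_left _ _ _ _ h'

open Groth.Agent.Helper1.RegSpan in
theorem isWeaklyRegular_away {A B : Type*} [CommRing A] [CommRing B] [Algebra A B] (g : A)
    [IsLocalization.Away g B] (rs : List A) (h : EWg g ⊥ rs) :
    RingTheory.Sequence.IsWeaklyRegular B (rs.map (algebraMap A B)) := by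
  rw [isWeaklyRegular_self_iff]
  intro i hi y hy
  have hi' : i < rs.length := by simpa using hi
  simp only [List.getElem_map, bot_sup_eq] at hy ⊢
  rw [← List.map_take, ← Ideal.map_ofList] at hy ⊢
  obtain ⟨m, a, ha⟩ := IsLocalization.Away.surj g y
  have h1 : algebraMap A B (rs[i] * a) ∈ (Ideal.ofList (rs.take i)).map (algebraMap A B) := by
    rw [map_mul, ← ha, ← mul_assoc]; exact Ideal.mul_mem_right _ _ hy
  rw [IsLocalization.mem_map_algebraMap_iff (Submonoid.powers g)] at h1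
  obtain ⟨⟨⟨b, hb⟩, ⟨s, hs⟩⟩, h2⟩ := h1
  simp only at h2
  rw [← map_mul, IsLocalization.eq_iff_exists (Submonoid.powers g)] at h2
  obtain ⟨⟨t, ht⟩, h3⟩ := h2
  simp only at h3
  have h4 : rs[i] * (a * s * t) ∈ ⊥ ⊔ Ideal.ofList (rs.take i) := by
    rw [bot_sup_eq]
    have : rs[i] * (a * s * t) = t * b := by rw [← h3]; ring
    rw [this]; exact Ideal.mul_mem_left _ _ hb
  obtain ⟨n, hn⟩ := h i hi' _ h4
  rw [bot_sup_eq] at hn
  have h5 := Ideal.mem_map_of_mem (algebraMap A B) hn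
  have hmem : g ^ m * (g ^ n * s * t) ∈ Submonoid.powers g :=
    Submonoid.mul_mem _ (Submonoid.pow_mem _ (Submonoid.mem_powers g) _)
      (Submonoid.mul_mem _ (Submonoid.mul_mem _ (Submonoid.pow_mem _ (Submonoid.mem_powers g) _) hs) ht)
  have hu : IsUnit (algebraMap A B (g ^ m * (g ^ n * s * t))) :=
    IsLocalization.map_units B (⟨_, hmem⟩ : Submonoid.powers g)
  have h6 : y * algebraMap A B (g ^ m * (g ^ n * s * t)) = algebraMap A B (g ^ n * (a * s * t)) := by
    rw [map_mul, ← mul_assoc, map_pow, ha, ← map_mul]; congr 1; ring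
  rw [← h6] at h5
  exact (Ideal.mul_unit_mem_iff_mem _ hu).mp h5

theorem isRegular_away {A B : Type*} [CommRing A] [CommRing B] [Algebra A B] (g : A)
    [IsLocalization.Away g B] (rs : List A) (h : EWg g ⊥ rs)
    (hne : (Ideal.ofList rs).map (algebraMap A B) ≠ ⊤) :
    RingTheory.Sequence.IsRegular B (rs.map (algebraMap A B)) := by
  refine ⟨isWeaklyRegular_away g rs h, ?_⟩
  intro htop
  apply hne
  rw [Ideal.map_ofList]
  apply eq_top_iff.mpr
  intro z _
  have hz : z ∈ Ideal.ofList (rs.map (algebraMap A B)) • (⊤ : Submodule B B) := by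
    rw [← htop]; exact Submodule.mem_top
  exact (Submodule.smul_le.mpr (fun a ha b _ => Ideal.mul_mem_right _ _ ha)) hz

/-- On a locally Noetherian scheme, every quasi-regular (quasi-coherent) ideal sheaf is a regular ideal
sheaf. -/
theorem result {X : Scheme.{u}} [IsLocallyNoetherian X] (I : X.IdealSheafData)
    (h : RegImm.IsRegularIdeal RegImm.Kind.quasi I) : RegImm.IsRegularIdeal RegImm.Kind.regular I := by
  intro x hx
  obtain ⟨U, hxU, rs, hq, hI⟩ := h x hx
  change CAlgX.IsQuasiRegular rs.get at hq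
  haveI : IsNoetherianRing Γ(X, U.1) := IsLocallyNoetherian.component_noetherian U
  have hspan : Ideal.span (Set.range rs.get) = Ideal.ofList rs := by
    rw [Set.range_list_get]
  have hQ : Groth.Agent.Helper1.QuasiReg.QRK ⊥ rs.get := by
    intro n P hP hev d
    rw [bot_sup_eq] at hev ⊢
    exact hq n P hP hev d
  obtain ⟨r, hr, hE⟩ := EWg_of_QRK rs.length ⊥ rs.get hQ
  rw [List.ofFn_get] at hE
  rw [hspan, ← hI] at hr
  have hxz : x ∈ X.zeroLocus (U := U.1) (I.ideal U) :=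
    (Scheme.IdealSheafData.mem_support_iff_of_mem hxU).mp hx
  have hxr : x ∉ X.basicOpen r := (X.mem_zeroLocus_iff _ x).mp hxz r hr
  have hxg : x ∈ X.basicOpen (1 - r) := by
    rw [Scheme.mem_basicOpen _ _ x hxU] at hxr ⊢
    rw [map_sub, map_one]
    exact IsLocalRing.isUnit_one_sub_self_of_mem_nonunits _ hxr
  refine ⟨X.affineBasicOpen (1 - r), hxg,
    rs.map (algebraMap Γ(X, U.1) Γ(X, X.basicOpen (1 - r))), ?_, ?_⟩
  · haveI := U.2.isLocalization_basicOpen (1 - r)
    show RingTheory.Sequence.IsRegular Γ(X, X.basicOpen (1 - r))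
      (rs.map (algebraMap Γ(X, U.1) Γ(X, X.basicOpen (1 - r))))
    refine isRegular_away (1 - r) rs hE ?_
    intro h1
    have h2 : I.ideal (X.affineBasicOpen (1 - r)) = ⊤ := by
      rw [← I.map_ideal_basicOpen U (1 - r), hI]; exact h1
    have hxz' : x ∈ X.zeroLocus (U := (X.affineBasicOpen (1 - r)).1)
        (I.ideal (X.affineBasicOpen (1 - r))) :=
      (Scheme.IdealSheafData.mem_support_iff_of_mem (U := X.affineBasicOpen (1 - r)) hxg).mp hx
    have h3 := (X.mem_zeroLocus_iff _ x).mp hxz' 1 (by rw [h2]; trivial)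
    rw [Scheme.basicOpen_of_isUnit _ isUnit_one] at h3
    exact h3 hxg
  · rw [← I.map_ideal_basicOpen U (1 - r), hI, Ideal.map_ofList]; rfl

end Groth.Agent.S5004
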