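import Groth.Statements.S5003
import Mathlib
import Groth.Agent.S5802
import Groth.Agent.S5004

set_option autoImplicit false
universe u
open CategoryTheory CategoryTheory.Limits AlgebraicGeometry TopologicalSpace
open Nrm16

namespace Groth.Agent.S5003

/-- algebra core: kernel of a localized map -/
theorem ker_away {A B A' B' : Type*} [CommRing A] [CommRing B] [CommRing A'] [CommRing B']
    [Algebra A A'] [Algebra B B'] (g : A) (φ : A →+* B) (φ' : A' →+* B')
    [IsLocalization.Away g A'] [IsLocalization.Away (φ g) B']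
    (hcomm : ∀ a : A, φ' (algebraMap A A' a) = algebraMap B B' (φ a)) :
    RingHom.ker φ' = (RingHom.ker φ).map (algebraMap A A') := by
  apply le_antisymm
  · intro t ht
    rw [RingHom.mem_ker] at ht
    obtain ⟨m, a, ha⟩ := IsLocalization.Away.surj g t
    have h1 : algebraMap B B' (φ a) = 0 := by
      rw [← hcomm, ← ha, map_mul, ht, zero_mul]
    rw [IsLocalization.map_eq_zero_iff (Submonoid.powers (φ g))] at h1
    obtain ⟨⟨s, ⟨n, rfl⟩⟩, hs⟩ := h1
    simp only at hs
    have h2 : g ^ n * a ∈ RingHom.ker φ := by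
      rw [RingHom.mem_ker, map_mul, map_pow]; exact hs
    have h3 := Ideal.mem_map_of_mem (algebraMap A A') h2
    have hu : IsUnit (algebraMap A A' (g ^ (n + m))) :=
      IsLocalization.map_units A' (⟨_, ⟨n + m, rfl⟩⟩ : Submonoid.powers g)
    have h4 : t * algebraMap A A' (g ^ (n + m)) = algebraMap A A' (g ^ n * a) := by
      rw [pow_add, map_mul, map_mul, ← ha, map_pow, map_pow]; ring
    rw [← h4] at h3
    exact (Ideal.mul_unit_mem_iff_mem _ hu).mp h3
  · rw [Ideal.map_le_iff_le_comap]
    intro a ha
    rw [RingHom.mem_ker] at ha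
    rw [Ideal.mem_comap, RingHom.mem_ker, hcomm, ha, map_zero]

/-- Let X be a locally Noetherian scheme and j : Y ⟶ X a morphism. Then j is a regular immersion if and
only if j is a quasi-regular immersion. -/
theorem result {X Y : Scheme.{u}} [IsLocallyNoetherian X] (j : Y ⟶ X) :
    RegImm.IsRegularImmersion RegImm.Kind.regular j ↔ RegImm.IsRegularImmersion RegImm.Kind.quasi j := by
  constructor
  · rintro ⟨him, h⟩
    refine ⟨him, fun z => ?_⟩
    obtain ⟨U, hzU, hcl, rs, hreg, hker⟩ := h z
    refine ⟨U, hzU, hcl, rs, ?_, hker⟩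
    change CAlgX.IsQuasiRegular rs.get
    have hreg' : RingTheory.Sequence.IsRegular Γ(X, U.1) rs := hreg
    apply Groth.Agent.S5802.result
    rw [List.ofFn_get]
    exact hreg'.toIsWeaklyRegular
  · rintro ⟨him, h⟩
    refine ⟨him, fun z => ?_⟩
    obtain ⟨U, hzU, hcl, rs, hq, hker⟩ := h z
    change CAlgX.IsQuasiRegular rs.get at hq
    haveI : IsNoetherianRing Γ(X, U.1) := IsLocallyNoetherian.component_noetherian U
    have hspan : Ideal.span (Set.range rs.get) = Ideal.ofList rs := by
      rw [Set.range_list_get]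
    have hQ : Groth.Agent.Helper1.QuasiReg.QRK ⊥ rs.get := by
      intro n P hP hev d
      rw [bot_sup_eq] at hev ⊢
      exact hq n P hP hev d
    obtain ⟨r, hr, hE⟩ := Groth.Agent.S5004.EWg_of_QRK rs.length ⊥ rs.get hQ
    rw [List.ofFn_get] at hE
    rw [hspan, ← hker, RingHom.mem_ker] at hr
    -- the point lies in D(1 - r)
    have hxr : j z ∉ X.basicOpen r := by
      intro hmem
      have h1 : z ∈ j ⁻¹ᵁ X.basicOpen r := hmem
      rw [Scheme.Hom.preimage_basicOpen, hr, Scheme.basicOpen_zero] at h1
      exact h1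
    have hxg : j z ∈ X.basicOpen (1 - r) := by
      rw [Scheme.mem_basicOpen _ _ (j z) hzU] at hxr ⊢
      rw [map_sub, map_one]
      exact IsLocalRing.isUnit_one_sub_self_of_mem_nonunits _ hxr
    -- closed immersion over the smaller open
    have hcl' : IsClosedImmersion (j ∣_ X.basicOpen (1 - r)) := by
      have h1 : IsClosedImmersion (j ∣_ U.1 ∣_
          U.1.toScheme.basicOpen (X.presheaf.map (eqToHom U.1.isOpenEmbedding_obj_top).op (1 - r))) :=
        IsZariskiLocalAtTarget.restrict hcl _
      exact (MorphismProperty.arrow_mk_iso_iff @IsClosedImmersion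
        (morphismRestrictRestrictBasicOpen j U.1 (1 - r))).mp h1
    -- affineness of the preimage
    have hV : IsAffineOpen (j ⁻¹ᵁ U.1) := by
      haveI : IsAffine (U.1 : Scheme) := U.2
      exact isAffine_of_isAffineHom (j ∣_ U.1)
    have e : Y.basicOpen ((j.app U.1).hom (1 - r)) = j ⁻¹ᵁ X.basicOpen (1 - r) :=
      (Scheme.Hom.preimage_basicOpen j (1 - r)).symm
    haveI := U.2.isLocalization_basicOpen (1 - r)
    haveI := hV.isLocalization_basicOpen ((j.app U.1).hom (1 - r))
    have hmor : X.presheaf.map (homOfLE (X.basicOpen_le (1 - r))).op ≫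
        j.app (X.basicOpen (1 - r)) ≫ Y.presheaf.map (eqToHom e).op =
        j.app U.1 ≫ Y.presheaf.map (homOfLE (Y.basicOpen_le ((j.app U.1).hom (1 - r)))).op := by
      rw [← Category.assoc, j.naturality, Category.assoc, ← Functor.map_comp]
      rfl
    have hinj : Function.Injective (Y.presheaf.map (eqToHom e).op).hom :=
      (ConcreteCategory.bijective_of_isIso (Y.presheaf.map (eqToHom e).op)).injective
    have hkerφ' : RingHom.ker (j.app (X.basicOpen (1 - r)) ≫ Y.presheaf.map (eqToHom e).op).hom =
        RingHom.ker (j.app (X.basicOpen (1 - r))).hom := by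
      ext t
      rw [RingHom.mem_ker, RingHom.mem_ker, CommRingCat.hom_comp, RingHom.comp_apply,
        map_eq_zero_iff _ hinj]
    have hka := ker_away (1 - r) (j.app U.1).hom
      (j.app (X.basicOpen (1 - r)) ≫ Y.presheaf.map (eqToHom e).op).hom
      (A' := Γ(X, X.basicOpen (1 - r))) (B' := Γ(Y, Y.basicOpen ((j.app U.1).hom (1 - r))))
      (fun a => ConcreteCategory.congr_hom hmor a)
    rw [hkerφ', hker] at hka
    refine ⟨X.affineBasicOpen (1 - r), hxg, hcl',
      rs.map (algebraMap Γ(X, U.1) Γ(X, X.basicOpen (1 - r))), ?_, ?_⟩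
    · show RingTheory.Sequence.IsRegular Γ(X, X.basicOpen (1 - r))
        (rs.map (algebraMap Γ(X, U.1) Γ(X, X.basicOpen (1 - r))))
      refine Groth.Agent.S5004.isRegular_away (1 - r) rs hE ?_
      intro htop
      rw [htop] at hka
      have h1 : (1 : Γ(X, X.basicOpen (1 - r))) ∈ RingHom.ker (j.app (X.basicOpen (1 - r))).hom := by
        rw [hka]; trivial
      rw [RingHom.mem_ker, map_one] at h1
      have hzV : z ∈ j ⁻¹ᵁ X.basicOpen (1 - r) := hxg
      have h2 := congrArg (Y.presheaf.germ _ z hzV).hom h1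
      rw [map_one, map_zero] at h2
      exact one_ne_zero h2
    · rw [Ideal.map_ofList] at hka
      exact hka

end Groth.Agent.S5003
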