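import Groth.Statements.S8855
import Mathlib
import Groth.Agent.S5003
import Groth.Agent.S5004
import Groth.Agent.Helper1.RegIdeal2

set_option autoImplicit false
universe u
open CategoryTheory CategoryTheory.Limits AlgebraicGeometry TopologicalSpace
open SDiv

namespace Groth.Agent.S8855

/-- pointwise version: an element whose image lies in the extended ideal is multiplied into the
ideal by something outside the prime. -/
theorem exists_mul_mem_pt {A R : Type*} [CommRing A] [CommRing R] [Algebra A R] (p : Ideal A)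
    [p.IsPrime] [IsLocalization.AtPrime R p] (N : Ideal A) (x : A)
    (h : algebraMap A R x ∈ N.map (algebraMap A R)) : ∃ s : A, s ∉ p ∧ s * x ∈ N := by
  rw [IsLocalization.mem_map_algebraMap_iff p.primeCompl] at h
  obtain ⟨⟨⟨c, hc⟩, ⟨s, hs⟩⟩, h2⟩ := h
  simp only at h2
  rw [← map_mul, IsLocalization.eq_iff_exists p.primeCompl] at h2
  obtain ⟨⟨t, ht⟩, h3⟩ := h2
  simp only at h3
  refine ⟨t * s, ?_, ?_⟩
  · intro hmem
    rcases (Ideal.IsPrime.mem_or_mem inferInstance hmem) with h | h
    · exact ht h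
    · exact hs h
  · have : t * s * x = t * c := by rw [← h3]; ring
    rw [this]; exact Ideal.mul_mem_left _ _ hc

theorem exists_mul_mem {A R : Type*} [CommRing A] [CommRing R] [Algebra A R] (p : Ideal A)
    [p.IsPrime] [IsLocalization.AtPrime R p] (N C : Ideal A) (hC : C.FG)
    (h : ∀ x ∈ C, algebraMap A R x ∈ N.map (algebraMap A R)) :
    ∃ g : A, g ∉ p ∧ ∀ x ∈ C, g * x ∈ N := by
  classical
  obtain ⟨S, hS⟩ := hC
  have key : ∀ T : Finset A, (∀ x ∈ T, x ∈ C) → ∃ g : A, g ∉ p ∧ ∀ x ∈ T, g * x ∈ N := by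
    intro T
    induction T using Finset.induction_on with
    | empty => intro _; exact ⟨1, (Ideal.ne_top_iff_one p).mp (Ideal.IsPrime.ne_top inferInstance), by simp⟩
    | insert a T ha ih =>
      intro hT
      obtain ⟨g, hg, hgT⟩ := ih (fun x hx => hT x (Finset.mem_insert_of_mem hx))
      obtain ⟨s, hs, hsa⟩ := exists_mul_mem_pt (R := R) p N a (h a (hT a (Finset.mem_insert_self a T)))
      refine ⟨s * g, ?_, ?_⟩
      · intro hmem
        rcases (Ideal.IsPrime.mem_or_mem inferInstance hmem) with h | h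
        · exact hs h
        · exact hg h
      · intro x hx
        rcases Finset.mem_insert.mp hx with rfl | hx
        · have : s * g * x = g * (s * x) := by ring
          rw [this]; exact Ideal.mul_mem_left _ _ hsa
        · rw [mul_assoc]; exact Ideal.mul_mem_left _ _ (hgT x hx)
  obtain ⟨g, hg, hgS⟩ := key S (fun x hx => hS ▸ Ideal.subset_span hx)
  refine ⟨g, hg, fun x hx => ?_⟩
  rw [← hS] at hx
  induction hx using Submodule.span_induction with
  | mem y hy => exact hgS y hy
  | zero => rw [mul_zero]; exact N.zero_mem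
  | add y z _ _ hy hz => rw [mul_add]; exact N.add_mem hy hz
  | smul c y _ hy =>
    rw [smul_eq_mul, mul_left_comm]; exact Ideal.mul_mem_left _ _ hy

open Groth.Agent.Helper1.RegSpan in
/-- unit multiples keep elementwise weak regularity and the generated ideal. -/
theorem EW_unit {R : Type*} [CommRing R] {ys ys' : List R}
    (h : List.Forall₂ (fun y y' => ∃ u : R, IsUnit u ∧ y' = y * u) ys ys') :
    (∀ K : Ideal R, EW K ys → EW K ys') ∧ Ideal.ofList ys' = Ideal.ofList ys := by
  induction h with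
  | nil => exact ⟨fun K hK => hK, rfl⟩
  | @cons y y' ys ys' hy _ ih =>
    obtain ⟨u, hu, rfl⟩ := hy
    have hspan : Ideal.span {y * u} = Ideal.span {y} := Ideal.span_singleton_mul_right_unit hu y
    refine ⟨fun K hK => ?_, ?_⟩
    · rw [EW_cons] at hK ⊢
      refine ⟨fun x hx => ?_, ?_⟩
      · have h1 : y * (u * x) ∈ K := by rw [← mul_assoc]; exact hx
        have h2 := hK.1 _ h1
        exact (Ideal.unit_mul_mem_iff_mem _ hu).mp h2
      · rw [hspan]; exact ih.1 _ hK.2
    · rw [Ideal.ofList_cons, Ideal.ofList_cons, hspan, ih.2]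

open Groth.Agent.Helper1.RegSpan in
theorem spread {A R : Type*} [CommRing A] [IsNoetherianRing A] [CommRing R] [Algebra A R]
    (p : Ideal A) [p.IsPrime] [IsLocalization.AtPrime R p] (I : Ideal A) (ys : List R)
    (hreg : RingTheory.Sequence.IsWeaklyRegular R ys)
    (hgen : Ideal.ofList ys = I.map (algebraMap A R)) :
    ∃ (g : A) (bs : List A), g ∉ p ∧ Groth.Agent.S5004.EWg g ⊥ bs ∧ (∀ b ∈ bs, b ∈ I) ∧
      ∀ a ∈ I, g * a ∈ Ideal.ofList bs := by
  classical
  have hlift : ∀ y ∈ ys, ∃ b : A, b ∈ I ∧ ∃ u : R, IsUnit u ∧ algebraMap A R b = y * u := by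
    intro y hy
    have hyI : y ∈ I.map (algebraMap A R) := hgen ▸ Ideal.subset_span hy
    rw [IsLocalization.mem_map_algebraMap_iff p.primeCompl] at hyI
    obtain ⟨⟨⟨b, hb⟩, s⟩, h2⟩ := hyI
    exact ⟨b, hb, algebraMap A R s, IsLocalization.map_units R s, h2.symm⟩
  have hbs : ∃ bs : List A, (∀ b ∈ bs, b ∈ I) ∧
      List.Forall₂ (fun y y' => ∃ u : R, IsUnit u ∧ y' = y * u) ys (bs.map (algebraMap A R)) := by
    clear hreg hgen
    induction ys with
    | nil => exact ⟨[], by simp, by simp⟩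
    | cons y ys ih =>
      obtain ⟨bs, hbsI, hF⟩ := ih (fun y' hy' => hlift y' (List.mem_cons_of_mem _ hy'))
      obtain ⟨b, hb, u, hu, hbu⟩ := hlift y List.mem_cons_self
      refine ⟨b :: bs, ?_, ?_⟩
      · intro b' hb'
        rcases List.mem_cons.mp hb' with rfl | hb'
        · exact hb
        · exact hbsI b' hb'
      · rw [List.map_cons]
        exact List.Forall₂.cons ⟨u, hu, hbu⟩ hF
  obtain ⟨bs, hbsI, hF⟩ := hbs
  obtain ⟨hEW, hof⟩ := EW_unit hF
  have hEWR : EW ⊥ (bs.map (algebraMap A R)) := hEW ⊥ ((isWeaklyRegular_self_iff ys).mp hreg)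
  have hofR : (Ideal.ofList bs).map (algebraMap A R) = I.map (algebraMap A R) := by
    rw [Ideal.map_ofList, hof, hgen]
  obtain ⟨g₁, hg₁, hg₁I⟩ := exists_mul_mem (R := R) p (Ideal.ofList bs) I (IsNoetherian.noetherian I)
    (fun x hx => by rw [hofR]; exact Ideal.mem_map_of_mem _ hx)
  have hone : (1 : A) ∉ p := (Ideal.ne_top_iff_one p).mp (Ideal.IsPrime.ne_top inferInstance)
  have hk : ∀ k : ℕ, ∃ g : A, g ∉ p ∧ ∀ (hk : k < bs.length) (x : A),
      bs[k] * x ∈ Ideal.ofList (bs.take k) → g * x ∈ Ideal.ofList (bs.take k) := by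
    intro k
    by_cases hkl : k < bs.length
    · let C : Ideal A := Submodule.comap (LinearMap.mulLeft A bs[k]) (Ideal.ofList (bs.take k))
      obtain ⟨g, hg, hgC⟩ := exists_mul_mem (R := R) p (Ideal.ofList (bs.take k)) C
        (IsNoetherian.noetherian C) (fun x hx => by
          have hx' : bs[k] * x ∈ Ideal.ofList (bs.take k) := hx
          have h1 := Ideal.mem_map_of_mem (algebraMap A R) hx'
          rw [map_mul, Ideal.map_ofList, List.map_take] at h1
          have hk' : k < (bs.map (algebraMap A R)).length := by simpa using hkl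
          have h2 := hEWR k hk' (algebraMap A R x)
          simp only [List.getElem_map, bot_sup_eq] at h2
          have h3 := h2 h1
          rw [← List.map_take, ← Ideal.map_ofList] at h3
          exact h3)
      exact ⟨g, hg, fun _ x hx => hgC x hx⟩
    · exact ⟨1, hone, fun hk' => absurd hk' hkl⟩
  choose gk hgk hgk' using hk
  have hG : (∏ k ∈ Finset.range bs.length, gk k) ∉ p := by
    intro hmem
    rw [Ideal.IsPrime.prod_mem_iff] at hmem
    obtain ⟨k, _, hk⟩ := hmem
    exact hgk k hk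
  refine ⟨g₁ * ∏ k ∈ Finset.range bs.length, gk k, bs, ?_, ?_, hbsI, ?_⟩
  · intro hmem
    rcases (Ideal.IsPrime.mem_or_mem inferInstance hmem) with h | h
    · exact hg₁ h
    · exact hG h
  · intro k hk x hx
    rw [bot_sup_eq] at hx ⊢
    refine ⟨1, ?_⟩
    rw [pow_one]
    obtain ⟨c, hc⟩ := Finset.dvd_prod_of_mem gk (Finset.mem_range.mpr hk)
    have : g₁ * (∏ k ∈ Finset.range bs.length, gk k) * x = g₁ * c * (gk k * x) := by
      rw [hc]; ring
    rw [this]; exact Ideal.mul_mem_left _ _ (hgk' k hk x hx)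
  · intro a ha
    have : g₁ * (∏ k ∈ Finset.range bs.length, gk k) * a =
        (∏ k ∈ Finset.range bs.length, gk k) * (g₁ * a) := by ring
    rw [this]; exact Ideal.mul_mem_left _ _ (hg₁I a ha)

/-- kernel of a map of localizations induced by a surjection. -/
theorem ker_loc {A B R R' : Type*} [CommRing A] [CommRing B] [CommRing R] [CommRing R']
    [Algebra A R] [Algebra B R'] (φ : A →+* B) (hφ : Function.Surjective φ)
    (p : Ideal A) [p.IsPrime] [IsLocalization.AtPrime R p]
    (q : Ideal B) [q.IsPrime] [IsLocalization.AtPrime R' q] (hpq : ∀ a : A, a ∈ p → φ a ∈ q)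
    (σ : R →+* R') (hσ : ∀ a : A, σ (algebraMap A R a) = algebraMap B R' (φ a)) :
    RingHom.ker σ = (RingHom.ker φ).map (algebraMap A R) := by
  apply le_antisymm
  · intro ρ hρ
    rw [RingHom.mem_ker] at hρ
    obtain ⟨⟨a, s⟩, has⟩ := IsLocalization.surj p.primeCompl ρ
    simp only at has
    have h1 : algebraMap B R' (φ a) = 0 := by
      rw [← hσ, ← has, map_mul, hρ, zero_mul]
    rw [IsLocalization.map_eq_zero_iff q.primeCompl] at h1
    obtain ⟨⟨t, ht⟩, h2⟩ := h1
    simp only at h2
    obtain ⟨t', rfl⟩ := hφ t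
    have ht' : t' ∈ p.primeCompl := fun hmem => ht (hpq t' hmem)
    have h3 : t' * a ∈ RingHom.ker φ := by rw [RingHom.mem_ker, map_mul]; exact h2
    have h4 := Ideal.mem_map_of_mem (algebraMap A R) h3
    have hu : IsUnit (algebraMap A R (s * t')) :=
      IsLocalization.map_units R (⟨s * t', Submonoid.mul_mem _ s.2 ht'⟩ : p.primeCompl)
    have h5 : ρ * algebraMap A R (s * t') = algebraMap A R (t' * a) := by
      rw [map_mul, ← mul_assoc, has, ← map_mul, mul_comm]
    rw [← h5] at h4
    exact (Ideal.mul_unit_mem_iff_mem _ hu).mp h4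
  · rw [Ideal.map_le_iff_le_comap]
    intro a ha
    rw [RingHom.mem_ker] at ha
    rw [Ideal.mem_comap, RingHom.mem_ker, hσ, ha, map_zero]

/-- a surjection of regular local rings has a regular ideal as kernel. -/
theorem ker_regular {R R' : Type u} [CommRing R] [CommRing R'] [IsRegularLocalRing R]
    [IsRegularLocalRing R'] (σ : R →+* R') (hσ : Function.Surjective σ) :
    CInt.IsRegularIdeal (RingHom.ker σ) := by
  have hne : RingHom.ker σ ≠ ⊤ := RingHom.ker_ne_top σ
  have hle : RingHom.ker σ ≤ IsLocalRing.maximalIdeal R := IsLocalRing.le_maximalIdeal hne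
  have hreg : IsRegularLocalRing (R ⧸ RingHom.ker σ) :=
    IsRegularLocalRing.of_ringEquiv (RingHom.quotientKerEquivOfSurjective hσ).symm
  rw [Groth.Agent.Helper1.RegIdeal.result2838 R (RingHom.ker σ) (RingHom.ker σ) le_rfl hle hreg,
    Ideal.map_quotient_self]
  exact ⟨[], RingTheory.Sequence.IsRegular.nil _ _, Ideal.ofList_nil⟩

/-- Let i : Z ⟶ X be an immersion of schemes with Z and X regular (locally Noetherian, all local rings
regular local rings). Then i is a regular immersion. -/
theorem result {Z X : Scheme.{u}} (i : Z ⟶ X) [IsImmersion i]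
    [IsLocallyNoetherian X] [IsLocallyNoetherian Z]
    (hX : ∀ x : ↥X, IsRegularLocalRing ↑(X.presheaf.stalk x)) (hZ : ∀ z : ↥Z, IsRegularLocalRing ↑(Z.presheaf.stalk z)) :
    RegImm.IsRegularImmersion RegImm.Kind.regular i := by
  refine ⟨inferInstance, fun z => ?_⟩
  -- Step A: an affine open around `i z` over which `i` is a closed immersion
  obtain ⟨U, hzU, hcl⟩ : ∃ U : X.affineOpens, i z ∈ U.1 ∧ IsClosedImmersion (i ∣_ U.1) := by
    obtain ⟨O, C, hO, hC, hOC⟩ := i.isLocallyClosed_range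
    have hzO : i z ∈ O := (hOC ▸ (Set.mem_range_self z : i z ∈ Set.range i)).1
    have hzO' : i z ∈ (⟨O, hO⟩ : X.Opens) := hzO
    obtain ⟨U, hUaff, hzU, hUO⟩ :=
      (TopologicalSpace.Opens.isBasis_iff_nbhd.mp X.isBasis_affineOpens) hzO'
    refine ⟨⟨U, hUaff⟩, hzU, ?_⟩
    haveI : IsPreimmersion (i ∣_ U) :=
      IsZariskiLocalAtTarget.restrict (P := @IsPreimmersion) (inferInstance : IsPreimmersion i) U
    apply IsClosedImmersion.of_isPreimmersion
    have hr : Set.range (i ∣_ U) = Subtype.val ⁻¹' C := by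
      ext u
      simp only [Set.mem_range]
      constructor
      · rintro ⟨w, rfl⟩
        have h1 : ((i ∣_ U) w).1 = i w.1 := morphismRestrict_base_coe i U w
        have h2 : i w.1 ∈ C := (hOC ▸ (Set.mem_range_self w.1 : i w.1 ∈ Set.range i)).2
        have h3 : ((i ∣_ U) w).1 ∈ C := by rw [h1]; exact h2
        exact h3
      · intro hu
        have h1 : u.1 ∈ Set.range i := by rw [hOC]; exact ⟨hUO u.2, hu⟩
        obtain ⟨y, hy⟩ := h1
        have hyU : y ∈ i ⁻¹ᵁ U := by
          show i y ∈ U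
          rw [hy]; exact u.2
        refine ⟨⟨y, hyU⟩, Subtype.ext ?_⟩
        exact (morphismRestrict_base_coe i U ⟨y, hyU⟩).trans hy
    rw [hr]
    exact hC.preimage continuous_subtype_val
  haveI : IsNoetherianRing Γ(X, U.1) := IsLocallyNoetherian.component_noetherian U
  -- affineness of the preimage, surjectivity on sections
  have hV : IsAffineOpen (i ⁻¹ᵁ U.1) := by
    haveI : IsAffine (U.1 : Scheme) := U.2
    exact isAffine_of_isAffineHom (i ∣_ U.1)
  have hsurj : Function.Surjective (i.app U.1).hom := by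
    haveI : IsAffine (U.1 : Scheme) := U.2
    have h1 := Scheme.Hom.app_surjective (i ∣_ U.1) ⊤ (isAffineOpen_top _)
    rw [morphismRestrict_app] at h1
    have h2 : Function.Surjective (i.app (U.1.ι ''ᵁ ⊤)).hom := by
      intro b
      have hbij := ConcreteCategory.bijective_of_isIso
        (Z.presheaf.map (eqToHom (image_morphismRestrict_preimage i U.1 ⊤)).op)
      obtain ⟨a, ha⟩ := h1 (Z.presheaf.map (eqToHom (image_morphismRestrict_preimage i U.1 ⊤)).op b)
      exact ⟨a, hbij.injective ha⟩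
    have key : ∀ W : X.Opens, W = U.1 → Function.Surjective (i.app W).hom →
        Function.Surjective (i.app U.1).hom := by
      rintro W rfl h; exact h
    exact key _ (Scheme.Opens.ι_image_top _) h2
  -- the stalks as localizations
  letI algX : Algebra Γ(X, U.1) (X.presheaf.stalk (i z)) :=
    X.presheaf.algebra_section_stalk ⟨i z, hzU⟩
  haveI locX : IsLocalization.AtPrime (X.presheaf.stalk (i z)) (U.2.primeIdealOf ⟨i z, hzU⟩).asIdeal :=
    U.2.isLocalization_stalk ⟨i z, hzU⟩
  have hzV : z ∈ i ⁻¹ᵁ U.1 := hzU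
  letI algZ : Algebra Γ(Z, i ⁻¹ᵁ U.1) (Z.presheaf.stalk z) :=
    Z.presheaf.algebra_section_stalk ⟨z, hzV⟩
  haveI locZ : IsLocalization.AtPrime (Z.presheaf.stalk z) (hV.primeIdealOf ⟨z, hzV⟩).asIdeal :=
    hV.isLocalization_stalk ⟨z, hzV⟩
  haveI := hX (i z)
  haveI := hZ z
  have hσ : ∀ a : Γ(X, U.1), (i.stalkMap z).hom (algebraMap Γ(X, U.1) (X.presheaf.stalk (i z)) a) =
      algebraMap Γ(Z, i ⁻¹ᵁ U.1) (Z.presheaf.stalk z) ((i.app U.1).hom a) :=
    fun a => Scheme.Hom.germ_stalkMap_apply i U.1 z hzU a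
  have hpq : ∀ a : Γ(X, U.1), a ∈ (U.2.primeIdealOf ⟨i z, hzU⟩).asIdeal →
      (i.app U.1).hom a ∈ (hV.primeIdealOf ⟨z, hzV⟩).asIdeal := by
    intro a ha
    by_contra hcon
    have h1 : IsUnit (algebraMap Γ(Z, i ⁻¹ᵁ U.1) (Z.presheaf.stalk z) ((i.app U.1).hom a)) :=
      (IsLocalization.AtPrime.isUnit_to_map_iff (Z.presheaf.stalk z)
        (hV.primeIdealOf ⟨z, hzV⟩).asIdeal _).mpr hcon
    rw [← hσ] at h1
    have h2 := isUnit_of_map_unit (i.stalkMap z).hom _ h1
    exact (IsLocalization.AtPrime.isUnit_to_map_iff (X.presheaf.stalk (i z))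
      (U.2.primeIdealOf ⟨i z, hzU⟩).asIdeal a).mp h2 ha
  have hkerσ := ker_loc (i.app U.1).hom hsurj (U.2.primeIdealOf ⟨i z, hzU⟩).asIdeal
    (hV.primeIdealOf ⟨z, hzV⟩).asIdeal hpq (i.stalkMap z).hom hσ
  obtain ⟨ys, hysreg, hys⟩ := ker_regular (i.stalkMap z).hom (i.stalkMap_surjective z)
  rw [hkerσ] at hys
  obtain ⟨g, bs, hgp, hE, hbsI, hgI⟩ := spread (U.2.primeIdealOf ⟨i z, hzU⟩).asIdeal
    (RingHom.ker (i.app U.1).hom) ys hysreg.toIsWeaklyRegular hys
  -- the point lies in D(g)
  have hxg : i z ∈ X.basicOpen g := by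
    rw [Scheme.mem_basicOpen _ _ (i z) hzU]
    exact (IsLocalization.AtPrime.isUnit_to_map_iff (X.presheaf.stalk (i z))
      (U.2.primeIdealOf ⟨i z, hzU⟩).asIdeal g).mpr hgp
  -- closed immersion over the smaller open
  have hcl' : IsClosedImmersion (i ∣_ X.basicOpen g) := by
    have h1 : IsClosedImmersion (i ∣_ U.1 ∣_
        U.1.toScheme.basicOpen (X.presheaf.map (eqToHom U.1.isOpenEmbedding_obj_top).op g)) :=
      IsZariskiLocalAtTarget.restrict hcl _
    exact (MorphismProperty.arrow_mk_iso_iff @IsClosedImmersion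
      (morphismRestrictRestrictBasicOpen i U.1 g)).mp h1
  have e : Z.basicOpen ((i.app U.1).hom g) = i ⁻¹ᵁ X.basicOpen g :=
    (Scheme.Hom.preimage_basicOpen i g).symm
  haveI := U.2.isLocalization_basicOpen g
  haveI := hV.isLocalization_basicOpen ((i.app U.1).hom g)
  have hmor : X.presheaf.map (homOfLE (X.basicOpen_le g)).op ≫
      i.app (X.basicOpen g) ≫ Z.presheaf.map (eqToHom e).op =
      i.app U.1 ≫ Z.presheaf.map (homOfLE (Z.basicOpen_le ((i.app U.1).hom g))).op := by
    rw [← Category.assoc, i.naturality, Category.assoc, ← Functor.map_comp]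
    rfl
  have hinj : Function.Injective (Z.presheaf.map (eqToHom e).op).hom :=
    (ConcreteCategory.bijective_of_isIso (Z.presheaf.map (eqToHom e).op)).injective
  have hkerφ' : RingHom.ker (i.app (X.basicOpen g) ≫ Z.presheaf.map (eqToHom e).op).hom =
      RingHom.ker (i.app (X.basicOpen g)).hom := by
    ext t
    rw [RingHom.mem_ker, RingHom.mem_ker, CommRingCat.hom_comp, RingHom.comp_apply,
      map_eq_zero_iff _ hinj]
  have hka := Groth.Agent.S5003.ker_away g (i.app U.1).hom
    (i.app (X.basicOpen g) ≫ Z.presheaf.map (eqToHom e).op).hom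
    (A' := Γ(X, X.basicOpen g)) (B' := Γ(Z, Z.basicOpen ((i.app U.1).hom g)))
    (fun a => ConcreteCategory.congr_hom hmor a)
  rw [hkerφ'] at hka
  -- the extended kernel is generated by the images of `bs`
  have hgu : IsUnit (algebraMap Γ(X, U.1) Γ(X, X.basicOpen g) g) :=
    IsLocalization.map_units _ (⟨g, Submonoid.mem_powers g⟩ : Submonoid.powers g)
  have hmapeq : (RingHom.ker (i.app U.1).hom).map (algebraMap Γ(X, U.1) Γ(X, X.basicOpen g)) =
      (Ideal.ofList bs).map (algebraMap Γ(X, U.1) Γ(X, X.basicOpen g)) := by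
    apply le_antisymm
    · rw [Ideal.map_le_iff_le_comap]
      intro a ha
      have h1 := Ideal.mem_map_of_mem (algebraMap Γ(X, U.1) Γ(X, X.basicOpen g)) (hgI a ha)
      rw [map_mul] at h1
      exact (Ideal.unit_mul_mem_iff_mem _ hgu).mp h1
    · apply Ideal.map_mono
      rw [Ideal.ofList, Ideal.span_le]
      intro b hb
      exact hbsI b hb
  rw [hmapeq] at hka
  refine ⟨X.affineBasicOpen g, hxg, hcl',
    bs.map (algebraMap Γ(X, U.1) Γ(X, X.basicOpen g)), ?_, ?_⟩
  · show RingTheory.Sequence.IsRegular Γ(X, X.basicOpen g)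
      (bs.map (algebraMap Γ(X, U.1) Γ(X, X.basicOpen g)))
    refine Groth.Agent.S5004.isRegular_away g bs hE ?_
    intro htop
    rw [htop] at hka
    have h1 : (1 : Γ(X, X.basicOpen g)) ∈ RingHom.ker (i.app (X.basicOpen g)).hom := by
      rw [hka]; trivial
    rw [RingHom.mem_ker, map_one] at h1
    have hzV' : z ∈ i ⁻¹ᵁ X.basicOpen g := hxg
    have h2 := congrArg (Z.presheaf.germ _ z hzV').hom h1
    rw [map_one, map_zero] at h2
    exact one_ne_zero h2
  · rw [Ideal.map_ofList] at hka
    exact hka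

end Groth.Agent.S8855
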