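import Groth.Statements.S1493
import Mathlib
import Groth.Agent.S8855
import Groth.Agent.S5004
import Groth.Agent.S15821

set_option autoImplicit false
universe u
attribute [local instance] HasDerivedCategory.standard
open FlatMor

namespace Groth.Agent.S1493

open AlgebraicGeometry CategoryTheory in
theorem regRing_of_affine {X : Scheme.{u}} [IsLocallyNoetherian X]
    (hX : ∀ x : X, IsRegularLocalRing ↑(X.presheaf.stalk x)) (U : X.Opens) (hU : IsAffineOpen U) :
    IsRegularRing Γ(X, U) := by
  haveI : IsNoetherianRing Γ(X, U) := IsLocallyNoetherian.component_noetherian ⟨U, hU⟩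
  rw [isRegularRing_iff]
  intro p hp
  have hy : hU.fromSpec ⟨p, hp⟩ ∈ U := by
    have h := hU.range_fromSpec
    have h2 : hU.fromSpec ⟨p, hp⟩ ∈ Set.range hU.fromSpec := Set.mem_range_self _
    rw [h] at h2
    exact h2
  letI := TopCat.Presheaf.algebra_section_stalk X.presheaf ⟨hU.fromSpec ⟨p, hp⟩, hy⟩
  haveI : IsLocalization.AtPrime (X.presheaf.stalk (hU.fromSpec ⟨p, hp⟩)) p :=
    hU.isLocalization_stalk' ⟨p, hp⟩ hy
  haveI := hX (hU.fromSpec ⟨p, hp⟩)
  exact IsRegularLocalRing.of_ringEquiv (IsLocalization.algEquiv p.primeCompl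
    (X.presheaf.stalk (hU.fromSpec ⟨p, hp⟩)) (Localization.AtPrime p)).toRingEquiv

theorem lci_of_regular (A B : Type u) [CommRing A] [CommRing B] [Algebra A B] [IsRegularRing A]
    [IsRegularRing B] [hft : Algebra.FiniteType A B] : LCI.IsLCI A B := by
  refine ⟨hft, ?_⟩
  obtain ⟨n, f, hf⟩ := Algebra.FiniteType.iff_quotient_mvPolynomial''.mp hft
  refine ⟨n, f, hf, ?_⟩
  haveI : IsRegularRing (MvPolynomial (Fin n) A) := inferInstance
  intro 𝔭 h𝔭
  let φ : MvPolynomial (Fin n) A →+* B := f.toRingHom
  have hφ : Function.Surjective φ := hf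
  let q : Ideal B := 𝔭.asIdeal.map φ
  have hcomap : q.comap φ = 𝔭.asIdeal := by
    rw [Ideal.comap_map_of_surjective φ hφ]
    apply le_antisymm
    · apply sup_le le_rfl
      intro x hx
      rw [Ideal.mem_comap] at hx
      exact h𝔭 ((RingHom.mem_ker).mpr (Ideal.mem_bot.mp hx))
    · exact le_sup_left
  haveI hq : q.IsPrime := Ideal.map_isPrime_of_surjective hφ h𝔭
  let σ : Localization.AtPrime 𝔭.asIdeal →+* Localization.AtPrime q :=
    Localization.localRingHom 𝔭.asIdeal q φ hcomap.symm
  have key : ∀ (p : Ideal (MvPolynomial (Fin n) A)) [p.IsPrime] (h : p = q.comap φ),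
      Function.Surjective (Localization.localRingHom p q φ h) := by
    intro p _ h
    subst h
    exact RingHom.surjective_localRingHom_of_surjective φ hφ q
  have hσ : Function.Surjective σ := key 𝔭.asIdeal hcomap.symm
  have hker := Groth.Agent.S8855.ker_loc (R := Localization.AtPrime 𝔭.asIdeal)
    (R' := Localization.AtPrime q) φ hφ 𝔭.asIdeal q
    (fun a ha => Ideal.mem_map_of_mem φ ha) σ
    (fun a => Localization.localRingHom_to_map 𝔭.asIdeal q φ hcomap.symm a)
  obtain ⟨ys, hys, hI⟩ := Groth.Agent.S8855.ker_regular σ hσ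
  obtain ⟨g, bs, hg, hEW, hbsI, hgI⟩ := Groth.Agent.S8855.spread 𝔭.asIdeal (RingHom.ker φ) ys
    hys.toIsWeaklyRegular (hI.trans hker)
  refine ⟨g, hg, bs.map (algebraMap _ (Localization.Away g)), ?_, ?_⟩
  · exact (Groth.Agent.S15821.result _ _ (Groth.Agent.S5004.isWeaklyRegular_away g bs hEW)).1
  · have hofl : Ideal.span {x | x ∈ bs.map (algebraMap _ (Localization.Away g))} =
        (Ideal.ofList bs).map (algebraMap _ (Localization.Away g)) := by
      rw [Ideal.map_ofList]
    rw [hofl]
    apply le_antisymm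
    · rw [Ideal.map_le_iff_le_comap]
      intro a ha
      rw [Ideal.mem_comap]
      have h1 := Ideal.mem_map_of_mem (algebraMap _ (Localization.Away g)) (hgI a ha)
      rw [map_mul] at h1
      have hu : IsUnit (algebraMap (MvPolynomial (Fin n) A) (Localization.Away g) g) :=
        IsLocalization.Away.algebraMap_isUnit g
      exact (Ideal.unit_mul_mem_iff_mem _ hu).mp h1
    · apply Ideal.map_mono
      rw [Ideal.span_le]
      intro b hb
      exact hbsI b hb

open AlgebraicGeometry CategoryTheory Limits in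
/-- Let f : X → Y be locally of finite type with X and Y regular (locally Noetherian with regular local
rings). Then f is a local complete intersection morphism (affine-locally: local complete
intersection ring maps). -/
theorem result {X Y : Scheme.{u}} (f : X ⟶ Y) [LocallyOfFiniteType f] [IsLocallyNoetherian X] [IsLocallyNoetherian Y]
    (hX : ∀ x : X, IsRegularLocalRing ↑(X.presheaf.stalk x)) (hY : ∀ y : Y, IsRegularLocalRing ↑(Y.presheaf.stalk y)) :
    (∀ (U : X.Opens) (V : Y.Opens) (hU : IsAffineOpen U) (hV : IsAffineOpen V) (hUV : U ≤ f ⁻¹ᵁ V),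
        letI := (f.appLE V U hUV).hom.toAlgebra
        LCI.IsLCI Γ(Y, V) Γ(X, U)) := by
  intro U V hU hV hUV
  letI := (f.appLE V U hUV).hom.toAlgebra
  haveI := regRing_of_affine hX U hU
  haveI := regRing_of_affine hY V hV
  haveI : Algebra.FiniteType Γ(Y, V) Γ(X, U) := LocallyOfFiniteType.finiteType_appLE f hV hU hUV
  exact lci_of_regular Γ(Y, V) Γ(X, U)

end Groth.Agent.S1493
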