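import Mathlib
import Groth.Statements.S14931
import Groth.Agent.Lib.Helper9.FrobHomeo

set_option autoImplicit false
universe u
open CategoryTheory CategoryTheory.Limits AlgebraicGeometry

namespace Groth.Agent.S14931

theorem result (p : ℕ) [Fact p.Prime]
    {X S : Scheme.{u}} [FrobSch.IsCharP S p] (f : X ⟶ S) [LocallyOfFiniteType f] :
    IsFinite (FrobSch.relFrob f p) := by
  have h1 : IsIntegralHom (FrobSch.relFrob f p) := (Groth.Agent.Helper9.relFrob_props p f).2.1
  have h2 : LocallyOfFiniteType (FrobSch.relFrob f p ≫ pullback.snd f (FrobSch.frob S p)) := by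
    rw [FrobSch.relFrob_snd]; infer_instance
  have h3 : LocallyOfFiniteType (FrobSch.relFrob f p) :=
    locallyOfFiniteType_of_comp _ (pullback.snd f (FrobSch.frob S p))
  exact (IsFinite.iff_isIntegralHom_and_locallyOfFiniteType _).2 ⟨h1, h3⟩

end Groth.Agent.S14931
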