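import Groth.Statements.S14950
import Mathlib

set_option autoImplicit false
universe u
open TensorProduct
open EtAlg

namespace Groth.Agent.S14950

section
variable {B' B A' A : Type u} [CommRing B'] [CommRing B] [CommRing A'] [CommRing A]
    [Algebra B' B] [Algebra B' A'] [Algebra B A] [Algebra A' A] [Algebra B' A]
    [IsScalarTower B' B A] [IsScalarTower B' A' A]

theorem compat (j : B') (hj : algebraMap B' B j = 0) (a' : A') :
    algebraMap B A 0 = algebraMap A' A (a' * algebraMap B' A' j) := by
  rw [map_zero, map_mul, ← IsScalarTower.algebraMap_apply B' A' A,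
    IsScalarTower.algebraMap_apply B' B A, hj, map_zero, mul_zero]

/-- The element of `B'` with image `0` in `B` and image `a' * j` in `A'`. -/
noncomputable def psiFun (hsq : EtMil.IsFibreSquare B' B A' A) (j : B')
    (hj : algebraMap B' B j = 0) (a' : A') : B' :=
  (hsq.2 0 (a' * algebraMap B' A' j) (compat j hj a')).choose

theorem psiFun_spec (hsq : EtMil.IsFibreSquare B' B A' A) (j : B')
    (hj : algebraMap B' B j = 0) (a' : A') :
    algebraMap B' B (psiFun hsq j hj a') = 0 ∧
      algebraMap B' A' (psiFun hsq j hj a') = a' * algebraMap B' A' j :=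
  (hsq.2 0 (a' * algebraMap B' A' j) (compat j hj a')).choose_spec.1

theorem psiFun_unique (hsq : EtMil.IsFibreSquare B' B A' A) (j : B')
    (hj : algebraMap B' B j = 0) (a' : A') (b' : B') (h1 : algebraMap B' B b' = 0)
    (h2 : algebraMap B' A' b' = a' * algebraMap B' A' j) : b' = psiFun hsq j hj a' :=
  (hsq.2 0 (a' * algebraMap B' A' j) (compat j hj a')).choose_spec.2 b' ⟨h1, h2⟩

/-- `psiFun` as a `B'`-linear map `A' → B'`. -/
noncomputable def psi (hsq : EtMil.IsFibreSquare B' B A' A) (j : B')
    (hj : algebraMap B' B j = 0) : A' →ₗ[B'] B' where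
  toFun := psiFun hsq j hj
  map_add' x y := by
    symm
    apply psiFun_unique
    · rw [map_add, (psiFun_spec hsq j hj x).1, (psiFun_spec hsq j hj y).1, add_zero]
    · rw [map_add, (psiFun_spec hsq j hj x).2, (psiFun_spec hsq j hj y).2, add_mul]
  map_smul' r x := by
    symm
    apply psiFun_unique
    · rw [RingHom.id_apply, smul_eq_mul, map_mul, (psiFun_spec hsq j hj x).1, mul_zero]
    · rw [RingHom.id_apply, smul_eq_mul, map_mul, (psiFun_spec hsq j hj x).2, Algebra.smul_def,
        mul_assoc]

theorem psi_one (hsq : EtMil.IsFibreSquare B' B A' A) (j : B')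
    (hj : algebraMap B' B j = 0) : psi hsq j hj 1 = j := by
  exact (psiFun_unique hsq j hj 1 j hj (by rw [one_mul])).symm

theorem surj_B (hsq : EtMil.IsFibreSquare B' B A' A) :
    Function.Surjective (algebraMap B' B) := by
  intro b
  obtain ⟨a', ha'⟩ := hsq.1 (algebraMap B A b)
  obtain ⟨b', ⟨hb', -⟩, -⟩ := hsq.2 b a' ha'.symm
  exact ⟨b', hb'⟩

end

/-- Let B' = B ×_A A' be a fibre product of commutative rings with A' → A surjective, let J be the
kernel of B' → B and L' a B'-module. The canonical map from L' to pairs in (B ⊗_{B'} L') × (A'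
⊗_{B'} L') has kernel annihilated by J and contained in J L': if l ∈ L' satisfies 1 ⊗ l = 0 in B
⊗_{B'} L' and 1 ⊗ l = 0 in A' ⊗_{B'} L', then j • l = 0 for every j ∈ J, and l ∈ J L'. (Surjectivity
of that map onto the compatible pairs is a separate result.) -/
theorem result (B' B A' A : Type u) [CommRing B'] [CommRing B] [CommRing A'] [CommRing A]
    [Algebra B' B] [Algebra B' A'] [Algebra B A] [Algebra A' A] [Algebra B' A] [IsScalarTower B' B A] [IsScalarTower B' A' A]
    (hsq : EtMil.IsFibreSquare B' B A' A)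
    (L' : Type u) [AddCommGroup L'] [Module B' L'] (l : L')
    (h1 : ((1 : B) ⊗ₜ[B'] l : B ⊗[B'] L') = 0) (h2 : ((1 : A') ⊗ₜ[B'] l : A' ⊗[B'] L') = 0) :
    (∀ j : B', algebraMap B' B j = 0 → j • l = 0) ∧
      l ∈ (RingHom.ker (algebraMap B' B)) • (⊤ : Submodule B' L') := by
  constructor
  · intro j hj
    let Ψ : A' ⊗[B'] L' →ₗ[B'] L' :=
      TensorProduct.lift ((LinearMap.lsmul B' L').comp (psi hsq j hj))
    have hΨ : Ψ ((1 : A') ⊗ₜ[B'] l) = j • l := by
      simp only [Ψ, TensorProduct.lift.tmul, LinearMap.comp_apply, LinearMap.lsmul_apply, psi_one]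
    rw [← hΨ, h2, map_zero]
  · have hsurj : Function.Surjective (Algebra.ofId B' B) := surj_B hsq
    let e : (B' ⧸ RingHom.ker (Algebra.ofId B' B)) ≃ₐ[B'] B :=
      Ideal.quotientKerAlgEquivOfSurjective hsurj
    have hker : RingHom.ker (Algebra.ofId B' B) = RingHom.ker (algebraMap B' B) := rfl
    let E := LinearEquiv.rTensor L' e.toLinearEquiv
    have hE : E ((1 : B' ⧸ RingHom.ker (Algebra.ofId B' B)) ⊗ₜ[B'] l) = (1 : B) ⊗ₜ[B'] l := by
      simp [E]
    have h3 : ((1 : B' ⧸ RingHom.ker (Algebra.ofId B' B)) ⊗ₜ[B'] l) = 0 := by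
      apply E.injective
      rw [hE, h1, map_zero]
    have h4 := congrArg (TensorProduct.quotTensorEquivQuotSMul L' (RingHom.ker (Algebra.ofId B' B))) h3
    rw [TensorProduct.quotTensorEquivQuotSMul_mk_one_tmul, map_zero,
      Submodule.Quotient.mk_eq_zero] at h4
    rw [← hker]
    exact h4

end Groth.Agent.S14950
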