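import Groth.Statements.S14955
import Mathlib

set_option autoImplicit false
universe u
open TensorProduct
open EtAlg

namespace Groth.Agent.S14955

/-- Let B' = B ×_A A' be a fibre product of commutative rings with A' → A surjective. Then the square is
also a pushout of commutative rings: the canonical map B ⊗_{B'} A' → A is an isomorphism. -/
theorem result (B' B A' A : Type u) [CommRing B'] [CommRing B] [CommRing A'] [CommRing A]
    [Algebra B' B] [Algebra B' A'] [Algebra B A] [Algebra A' A] [Algebra B' A] [IsScalarTower B' B A] [IsScalarTower B' A' A]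
    (hsq : EtMil.IsFibreSquare B' B A' A) : Algebra.IsPushout B' B A' A := by
  obtain ⟨hsurj, huniq⟩ := hsq
  constructor
  apply IsBaseChange.of_lift_unique
  intro Q _ _ _ _ g
  letI : AddCommGroup Q := Module.addCommMonoidToAddCommGroup B'
  have hB'surj : Function.Surjective (algebraMap B' B) := by
    intro b
    obtain ⟨a', ha'⟩ := hsurj (algebraMap B A b)
    obtain ⟨b', ⟨hb'1, _⟩, -⟩ := huniq b a' ha'.symm
    exact ⟨b', hb'1⟩
  have hker : ∀ a' : A', algebraMap A' A a' = 0 → g a' = 0 := by
    intro a' ha'
    obtain ⟨k, ⟨hk1, hk2⟩, -⟩ := huniq 0 a' (by rw [map_zero, ha'])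
    have h1 : a' = k • (1 : A') := by rw [Algebra.smul_def, mul_one, hk2]
    rw [h1, map_smul, ← algebraMap_smul B k (g 1), hk1, zero_smul]
  set φ : A' →ₗ[B'] A := (IsScalarTower.toAlgHom B' A' A).toLinearMap with hφ
  have hφa : ∀ a', φ a' = algebraMap A' A a' := fun a' => rfl
  have hφs : Function.Surjective φ := hsurj
  have hle : LinearMap.ker φ ≤ LinearMap.ker g := by
    intro a' ha'
    rw [LinearMap.mem_ker] at ha' ⊢
    exact hker a' ha'
  let g₀ : A →ₗ[B'] Q :=
    ((LinearMap.ker φ).liftQ g hle).comp (LinearMap.quotKerEquivOfSurjective φ hφs).symm.toLinearMap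
  have hg₀ : ∀ a', g₀ (φ a') = g a' := by
    intro a'
    have : (LinearMap.quotKerEquivOfSurjective φ hφs).symm (φ a') = (LinearMap.ker φ).mkQ a' := by
      rw [LinearEquiv.symm_apply_eq]
      rfl
    simp only [g₀, LinearMap.comp_apply, LinearEquiv.coe_coe, this]
    rfl
  let g' : A →ₗ[B] Q :=
    { toFun := g₀
      map_add' := g₀.map_add
      map_smul' := by
        intro b a
        obtain ⟨b', rfl⟩ := hB'surj b
        simp only [RingHom.id_apply]
        rw [algebraMap_smul, algebraMap_smul, map_smul] }
  refine ⟨g', ?_, ?_⟩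
  · ext a'
    exact hg₀ a'
  · intro g'' hg''
    ext a
    obtain ⟨a', rfl⟩ := hφs a
    have := congrArg (fun h => h a') hg''
    simp only [LinearMap.comp_apply, LinearMap.restrictScalars_apply] at this
    rw [this]
    exact (hg₀ a').symm

end Groth.Agent.S14955
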