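import Groth.Statements.S14956
import Mathlib
import Groth.Agent.H10.AzumayaBC
import Groth.Agent.H10.MilnorAz
import Groth.Agent.H10.MilnorFP

set_option autoImplicit false
universe u
open TensorProduct
open Brauer

namespace Groth.Agent.S14956

open Groth.Agent.H10 in
theorem faithful_of_baseChange {R S D : Type*} [CommRing R] [CommRing S] [Algebra R S]
    [AddCommGroup D] [Module R D] [FaithfulSMul S (S ⊗[R] D)] (r₁ r₂ : R)
    (h : ∀ d : D, r₁ • d = r₂ • d) : algebraMap R S r₁ = algebraMap R S r₂ := by
  apply FaithfulSMul.eq_of_smul_eq_smul (α := S ⊗[R] D)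
  intro y
  induction y using TensorProduct.induction_on with
  | zero => simp
  | tmul s b =>
    rw [algebraMap_smul, algebraMap_smul, ← TensorProduct.tmul_smul, ← TensorProduct.tmul_smul,
      h b]
  | add a b ha hb => rw [smul_add, smul_add, ha, hb]

open Groth.Agent.H10 in
theorem coker_tensor_eq_zero {R S P Q : Type*} [CommRing R] [CommRing S] [Algebra R S]
    [AddCommGroup P] [Module R P] [AddCommGroup Q] [Module R Q] (φ : P →ₗ[R] Q)
    (hφ : Function.Surjective (LinearMap.lTensor S φ)) (c : Q ⧸ LinearMap.range φ) :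
    (1 : S) ⊗ₜ[R] c = (0 : S ⊗[R] (Q ⧸ LinearMap.range φ)) := by
  obtain ⟨q, rfl⟩ := Submodule.mkQ_surjective _ c
  obtain ⟨w, hw⟩ := hφ ((1 : S) ⊗ₜ[R] q)
  have h1 : (LinearMap.lTensor S (LinearMap.range φ).mkQ) ((1 : S) ⊗ₜ[R] q) =
      (1 : S) ⊗ₜ[R] ((LinearMap.range φ).mkQ q) := rfl
  rw [← h1, ← hw, ← LinearMap.comp_apply, ← LinearMap.lTensor_comp]
  have h2 : (LinearMap.range φ).mkQ ∘ₗ φ = 0 := LinearMap.range_mkQ_comp φ
  rw [h2, LinearMap.lTensor_zero, LinearMap.zero_apply]


/-- Let B' = B ×_A A' be a fibre product of commutative rings with A' → A surjective and D' a B'-algebra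
(associative, unital, not necessarily commutative). Then D' is an Azumaya algebra over B' if and
only if B ⊗_{B'} D' is an Azumaya algebra over B and A' ⊗_{B'} D' is an Azumaya algebra over A'.
(The published statement is for a quasi-coherent algebra on the pushout scheme Y of a closed
immersion and an affine morphism; this row is the case of an affine Y. Azumaya is taken in the
finite-projective-faithful sense.) -/
theorem result (B' B A' A : Type u) [CommRing B'] [CommRing B] [CommRing A'] [CommRing A]
    [Algebra B' B] [Algebra B' A'] [Algebra B A] [Algebra A' A] [Algebra B' A] [IsScalarTower B' B A] [IsScalarTower B' A' A]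
    (hsq : EtMil.IsFibreSquare B' B A' A)
    (D' : Type u) [Ring D'] [Algebra B' D'] :
    IsAzumaya B' D' ↔ IsAzumaya B (B ⊗[B'] D') ∧ IsAzumaya A' (A' ⊗[B'] D') := by
  constructor
  · intro h
    exact ⟨Groth.Agent.H10.isAzumaya_baseChange B' B D', Groth.Agent.H10.isAzumaya_baseChange B' A' D'⟩
  · rintro ⟨hB, hA'⟩
    have : Module.Finite B' D' := Groth.Agent.H10.finite_of_milnor hsq D'
    have : Module.FinitePresentation B (B ⊗[B'] D') := Module.finitePresentation_of_projective _ _
    have : Module.FinitePresentation A' (A' ⊗[B'] D') := Module.finitePresentation_of_projective _ _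
    have : Module.FinitePresentation B' D' := Groth.Agent.H10.fp_of_milnor hsq D'
    have : Module.Flat B' D' := Groth.Agent.H10.flat_of_milnor hsq D'
    have : Module.Projective B' D' := Module.Flat.projective_of_finitePresentation
    have : FaithfulSMul B' D' := by
      refine ⟨fun {r₁ r₂} h => ?_⟩
      exact Groth.Agent.H10.fs_ext hsq r₁ r₂ (faithful_of_baseChange (S := B) r₁ r₂ h)
        (faithful_of_baseChange (S := A') r₁ r₂ h)
    have hφB : Function.Bijective (LinearMap.lTensor B (AlgHom.mulLeftRight B' D').toLinearMap) :=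
      (Groth.Agent.H10.bijective_mulLeftRight_baseChange_iff B' B D').1 IsAzumaya.bij
    have hφA : Function.Bijective (LinearMap.lTensor A' (AlgHom.mulLeftRight B' D').toLinearMap) :=
      (Groth.Agent.H10.bijective_mulLeftRight_baseChange_iff B' A' D').1 IsAzumaya.bij
    have : Module.Flat B' D'ᵐᵒᵖ := Module.Flat.of_linearEquiv (MulOpposite.opLinearEquiv B').symm
    refine { bij := ⟨?_, ?_⟩ }
    · rw [injective_iff_map_eq_zero]
      intro x hx
      have hx' : (AlgHom.mulLeftRight B' D').toLinearMap x = 0 := hx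
      apply Groth.Agent.H10.fs_eq_zero_of_flat hsq (D' ⊗[B'] D'ᵐᵒᵖ) x
      · apply hφB.1
        rw [LinearMap.lTensor_tmul, hx', TensorProduct.tmul_zero, map_zero]
      · apply hφA.1
        rw [LinearMap.lTensor_tmul, hx', TensorProduct.tmul_zero, map_zero]
    · intro q
      have h0 := Groth.Agent.H10.fs_eq_zero_of_tensor_eq_zero hsq
        (Module.End B' D' ⧸ LinearMap.range (AlgHom.mulLeftRight B' D').toLinearMap)
        (coker_tensor_eq_zero _ hφB.2) (coker_tensor_eq_zero _ hφA.2)
        ((LinearMap.range (AlgHom.mulLeftRight B' D').toLinearMap).mkQ q)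
      rw [Submodule.mkQ_apply, Submodule.Quotient.mk_eq_zero] at h0
      obtain ⟨x, hx⟩ := h0
      exact ⟨x, hx⟩

end Groth.Agent.S14956
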