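import Groth.Statements.S14963
import Mathlib
import Groth.Agent.H10.AzumayaBC
import Groth.Agent.H10.SpecSurj

set_option autoImplicit false
universe u v w
open TensorProduct
open Brauer

namespace Groth.Agent.S14963

/-- Let R → S be a ring homomorphism with Spec S → Spec R surjective and B an R-algebra which is
finitely generated and projective as an R-module. If S ⊗_R B is an Azumaya S-algebra, then B is an
Azumaya R-algebra. (The published statement is for a surjective morphism of schemes X → Y and a
finite locally free O_Y-algebra; this row is the case of affine X and Y. The converse direction,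
base change, is omitted.) -/
theorem result (R : Type u) [CommRing R]
    (S : Type v) [CommRing S] [Algebra R S]
    (hS : Function.Surjective (PrimeSpectrum.comap (algebraMap R S)))
    (B : Type w) [Ring B] [Algebra R B] [Module.Finite R B] [Module.Projective R B]
    [IsAzumaya S (S ⊗[R] B)] : IsAzumaya R B := by
  have hfaith : FaithfulSMul R B :=
    Groth.Agent.H10.faithfulSMul_of_baseChange_of_comap_surjective hS B
  obtain ⟨hEf, hEp⟩ := Groth.Agent.H10.end_finite_projective R B
  have hEf' : Module.Finite R (Module.End R B) := hEf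
  have hEp' : Module.Projective R (Module.End R B) := hEp
  have hφS : Function.Bijective (LinearMap.lTensor S (AlgHom.mulLeftRight R B).toLinearMap) :=
    (Groth.Agent.H10.bijective_mulLeftRight_baseChange_iff R S B).1 IsAzumaya.bij
  have hsurj : Function.Surjective (AlgHom.mulLeftRight R B).toLinearMap := by
    intro q
    have h0 := Groth.Agent.H10.eq_zero_of_tensor_eq_zero_of_comap_surjective hS
      (Module.End R B ⧸ LinearMap.range (AlgHom.mulLeftRight R B).toLinearMap)
      (Groth.Agent.H10.coker_tensor_eq_zero _ hφS.2)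
      ((LinearMap.range (AlgHom.mulLeftRight R B).toLinearMap).mkQ q)
    rw [Submodule.mkQ_apply, Submodule.Quotient.mk_eq_zero] at h0
    obtain ⟨x, hx⟩ := h0
    exact ⟨x, hx⟩
  have : Module.Finite R Bᵐᵒᵖ := Module.Finite.equiv (MulOpposite.opLinearEquiv R)
  obtain ⟨σ, hσ⟩ := Module.projective_lifting_property
    (AlgHom.mulLeftRight R B).toLinearMap LinearMap.id hsurj
  have hσ' : ∀ y, (AlgHom.mulLeftRight R B).toLinearMap (σ y) = y := fun y => by
    have := congrArg (fun ψ : Module.End R B →ₗ[R] Module.End R B => ψ y) hσ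
    simpa using this
  refine { bij := ⟨?_, hsurj⟩ }
  rw [injective_iff_map_eq_zero]
  intro x hx
  have hx' : (AlgHom.mulLeftRight R B).toLinearMap x = 0 := hx
  have hM : ∀ m : (B ⊗[R] Bᵐᵒᵖ) ⧸ LinearMap.range σ,
      (1 : S) ⊗ₜ[R] m = (0 : S ⊗[R] ((B ⊗[R] Bᵐᵒᵖ) ⧸ LinearMap.range σ)) := by
    intro m
    obtain ⟨y, rfl⟩ := Submodule.mkQ_surjective _ m
    set k := y - σ ((AlgHom.mulLeftRight R B).toLinearMap y) with hk
    have hmk : (LinearMap.range σ).mkQ y = (LinearMap.range σ).mkQ k := by
      rw [hk, map_sub, Submodule.mkQ_apply _ (σ _),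
        (Submodule.Quotient.mk_eq_zero (LinearMap.range σ)).2 ⟨_, rfl⟩, sub_zero]
    have hφk : (AlgHom.mulLeftRight R B).toLinearMap k = 0 := by
      rw [hk, map_sub, hσ', sub_self]
    have h1 : (1 : S) ⊗ₜ[R] k = (0 : S ⊗[R] (B ⊗[R] Bᵐᵒᵖ)) := by
      apply hφS.1
      rw [LinearMap.lTensor_tmul, hφk, TensorProduct.tmul_zero, map_zero]
    have h2 := congrArg (LinearMap.lTensor S (LinearMap.range σ).mkQ) h1
    rw [LinearMap.lTensor_tmul, map_zero] at h2
    rw [hmk]
    exact h2
  have h0 := Groth.Agent.H10.eq_zero_of_tensor_eq_zero_of_comap_surjective hS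
    ((B ⊗[R] Bᵐᵒᵖ) ⧸ LinearMap.range σ) hM ((LinearMap.range σ).mkQ x)
  rw [Submodule.mkQ_apply, Submodule.Quotient.mk_eq_zero] at h0
  obtain ⟨y, rfl⟩ := h0
  have : y = 0 := by rw [← hσ' y, hx']
  rw [this, map_zero]

end Groth.Agent.S14963
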