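import Groth.Statements.S14964
import Mathlib

set_option autoImplicit false
universe u v w
open EtAlg

namespace Groth.Agent.S14964

/-- Let f : A → A' be a homomorphism of commutative rings, M an A-module and M' an A'-module together
with an A-linear map u : M → M' whose image generates M' over A' (so M' is a quotient of A' ⊗_A M).
Let I be an ideal of A such that the ideal of A' generated by f(I) consists of the elements f(i), i
∈ I. Then f(I) M' = u(I M) as subsets of M'; in particular u(I M) is an A'-submodule. -/
theorem result (A : Type u) [CommRing A] (A' : Type v) [CommRing A'] [Algebra A A']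
    (M : Type w) [AddCommGroup M] [Module A M] (M' : Type w) [AddCommGroup M'] [Module A' M'] [Module A M'] [IsScalarTower A A' M']
    (u : M →ₗ[A] M') (hu : Submodule.span A' (Set.range u) = ⊤)
    (I : Ideal A) (hI : ∀ a ∈ Ideal.map (algebraMap A A') I, ∃ i ∈ I, algebraMap A A' i = a) :
    ((Ideal.map (algebraMap A A') I) • (⊤ : Submodule A' M')).restrictScalars A = Submodule.map u (I • (⊤ : Submodule A M)) := by
  apply le_antisymm
  · intro x hx
    rw [Submodule.restrictScalars_mem] at hx
    have key : ∀ y : M', ∀ a ∈ Ideal.map (algebraMap A A') I,
        a • y ∈ Submodule.map u (I • (⊤ : Submodule A M)) := by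
      intro y
      have hy : y ∈ Submodule.span A' (Set.range u) := by rw [hu]; trivial
      induction hy using Submodule.span_induction with
      | mem y hy =>
        obtain ⟨m, rfl⟩ := hy
        intro a ha
        obtain ⟨i, hi, rfl⟩ := hI a ha
        refine ⟨i • m, Submodule.smul_mem_smul hi trivial, ?_⟩
        rw [map_smul, algebraMap_smul]
      | zero => intro a _; rw [smul_zero]; exact Submodule.zero_mem _
      | add y1 y2 _ _ h1 h2 =>
        intro a ha; rw [smul_add]; exact Submodule.add_mem _ (h1 a ha) (h2 a ha)
      | smul c y1 _ h1 =>
        intro a ha; rw [smul_smul]; exact h1 (a * c) (Ideal.mul_mem_right _ _ ha)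
    exact Submodule.smul_induction_on hx (fun a ha y _ => key y a ha)
      (fun x y hx hy => Submodule.add_mem _ hx hy)
  · rw [Submodule.map_le_iff_le_comap, Submodule.smul_le]
    intro i hi m _
    rw [Submodule.mem_comap, map_smul, Submodule.restrictScalars_mem, ← algebraMap_smul A' i (u m)]
    exact Submodule.smul_mem_smul (Ideal.mem_map_of_mem _ hi) trivial

end Groth.Agent.S14964
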