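import Groth.Statements.S14965
import Mathlib
import Groth.Agent.H10.AzumayaBC
import Groth.Agent.H10.FibreSquare
import Groth.Agent.S14956

set_option autoImplicit false
universe u
open TensorProduct
open Brauer

namespace Groth.Agent.S14965

section Generic

theorem exists_one_tmul {R Q : Type*} [CommRing R] [CommRing Q] [Algebra R Q]
    (hs : Function.Surjective (algebraMap R Q)) {M : Type*} [AddCommGroup M] [Module R M]
    (z : Q ⊗[R] M) : ∃ m : M, z = (1 : Q) ⊗ₜ[R] m := by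
  induction z using TensorProduct.induction_on with
  | zero => exact ⟨0, (TensorProduct.tmul_zero _ _).symm⟩
  | tmul q m =>
    obtain ⟨r, rfl⟩ := hs q
    refine ⟨r • m, ?_⟩
    rw [TensorProduct.tmul_smul, TensorProduct.smul_tmul', Algebra.smul_def, mul_one]
  | add a b ha hb =>
    obtain ⟨m₁, rfl⟩ := ha
    obtain ⟨m₂, rfl⟩ := hb
    exact ⟨m₁ + m₂, (TensorProduct.tmul_add _ _ _).symm⟩

theorem mem_ker_smul_top {R Q : Type*} [CommRing R] [CommRing Q] [Algebra R Q]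
    (hs : Function.Surjective (algebraMap R Q)) {M : Type*} [AddCommGroup M] [Module R M] (x : M)
    (hx : (1 : Q) ⊗ₜ[R] x = (0 : Q ⊗[R] M)) :
    x ∈ (RingHom.ker (algebraMap R Q)) • (⊤ : Submodule R M) := by
  let f : R →ₗ[R] Q := Algebra.linearMap R Q
  have hf : Function.Surjective f := hs
  have hex := rTensor_exact M (LinearMap.exact_subtype_ker_map f) hf
  have h1 : f.rTensor M ((1 : R) ⊗ₜ[R] x) = 0 := by
    rw [LinearMap.rTensor_tmul]
    have : f 1 = 1 := map_one (algebraMap R Q)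
    rw [this, hx]
  obtain ⟨z, hz⟩ := (hex _).mp h1
  have key : ∀ z : (LinearMap.ker f) ⊗[R] M,
      TensorProduct.lid R M ((LinearMap.ker f).subtype.rTensor M z) ∈
        (RingHom.ker (algebraMap R Q)) • (⊤ : Submodule R M) := by
    intro z
    induction z using TensorProduct.induction_on with
    | zero => simp
    | tmul k q =>
      rw [LinearMap.rTensor_tmul, TensorProduct.lid_tmul, Submodule.subtype_apply]
      have hk : (k : R) ∈ RingHom.ker (algebraMap R Q) := by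
        rw [RingHom.mem_ker]
        exact k.2
      exact Submodule.smul_mem_smul hk Submodule.mem_top
    | add a b ha hb => rw [map_add, map_add]; exact Submodule.add_mem _ ha hb
  have := key z
  rw [hz, TensorProduct.lid_tmul, one_smul] at this
  exact this

end Generic


/-- Let B' = B ×_A A' be a fibre product of commutative rings with A' → A surjective, N an Azumaya
B-algebra, M' an Azumaya A'-algebra and φ : A ⊗_B N ≅ A ⊗_{A'} M' an isomorphism of A-algebras. If a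
B'-algebra D' with B'-algebra homomorphisms π₁ : D' → N and π₂ : D' → M' is the glued algebra N ×_φ
M', in the sense that (π₁, π₂) is injective with image the pairs (n, m') satisfying φ(1 ⊗ n) = 1 ⊗
m', then D' is an Azumaya B'-algebra. (The published statement is for Azumaya algebras on the
pushout scheme of a closed immersion and an affine morphism, glued as u_*B' ×_{h_*} f_*A; this row
is the case of an affine pushout.) -/
theorem result (B' B A' A : Type u) [CommRing B'] [CommRing B] [CommRing A'] [CommRing A]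
    [Algebra B' B] [Algebra B' A'] [Algebra B A] [Algebra A' A] [Algebra B' A] [IsScalarTower B' B A] [IsScalarTower B' A' A]
    (hsq : EtMil.IsFibreSquare B' B A' A)
    (N : Type u) [Ring N] [Algebra B N] [Algebra B' N] [IsScalarTower B' B N] [IsAzumaya B N]
    (M' : Type u) [Ring M'] [Algebra A' M'] [Algebra B' M'] [IsScalarTower B' A' M'] [IsAzumaya A' M']
    (φ : A ⊗[B] N ≃ₐ[A] A ⊗[A'] M')
    (D' : Type u) [Ring D'] [Algebra B' D'] (π₁ : D' →ₐ[B'] N) (π₂ : D' →ₐ[B'] M')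
    (hinj : ∀ d : D', π₁ d = 0 → π₂ d = 0 → d = 0)
    (himg : ∀ (n : N) (m' : M'), φ ((1 : A) ⊗ₜ[B] n) = (1 : A) ⊗ₜ[A'] m' ↔ ∃ d : D', π₁ d = n ∧ π₂ d = m') :
    IsAzumaya B' D' := by
  classical
  set I : Ideal A' := RingHom.ker (algebraMap A' A) with hI
  have hsA : Function.Surjective (algebraMap A' A) := hsq.1
  have hsB : Function.Surjective (algebraMap B' B) := Groth.Agent.H10.fs_surj hsq
  have hlift : ∀ i ∈ I, ∃ j : B', algebraMap B' B j = 0 ∧ algebraMap B' A' j = i :=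
    fun i hi => Groth.Agent.H10.fs_exists_ker hsq i (RingHom.mem_ker.1 hi)
  have hπ₁ : Function.Surjective π₁ := by
    intro n
    obtain ⟨m', hm'⟩ := exists_one_tmul hsA (φ ((1 : A) ⊗ₜ[B] n))
    obtain ⟨d, hd, -⟩ := (himg n m').1 hm'
    exact ⟨d, hd⟩
  have hφd : ∀ d : D', φ ((1 : A) ⊗ₜ[B] π₁ d) = (1 : A) ⊗ₜ[A'] π₂ d := fun d =>
    (himg (π₁ d) (π₂ d)).2 ⟨d, rfl, rfl⟩
  have hjd : ∀ (j : B') (d : D'), algebraMap B' B j = 0 → π₁ (j • d) = 0 := fun j d hj => by
    rw [map_smul, ← algebraMap_smul B, hj, zero_smul]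
  have hjd2 : ∀ (j : B') (d : D'), π₂ (j • d) = algebraMap B' A' j • π₂ d := fun j d => by
    rw [map_smul, algebraMap_smul]
  have hsm : ∀ (a' : A') (x : M'),
      algebraMap A' A a' • ((1 : A) ⊗ₜ[A'] x) = (1 : A) ⊗ₜ[A'] (a' • x) := fun a' x => by
    rw [TensorProduct.smul_tmul', smul_eq_mul, mul_one, TensorProduct.tmul_smul,
      TensorProduct.smul_tmul', Algebra.smul_def, mul_one]
  -- Step 3: the A'-span of the image of π₂ is everything
  have hP : Submodule.span A' (Set.range π₂) = ⊤ := by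
    rw [eq_top_iff]
    intro m _
    have key : ∀ w : A ⊗[B] N, ∃ p ∈ Submodule.span A' (Set.range π₂),
        φ w = (1 : A) ⊗ₜ[A'] p := by
      intro w
      induction w using TensorProduct.induction_on with
      | zero => exact ⟨0, Submodule.zero_mem _, by rw [map_zero, TensorProduct.tmul_zero]⟩
      | tmul a n =>
        obtain ⟨a', rfl⟩ := hsA a
        obtain ⟨d, rfl⟩ := hπ₁ n
        refine ⟨a' • π₂ d, Submodule.smul_mem _ _ (Submodule.subset_span ⟨d, rfl⟩), ?_⟩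
        have h1 : (algebraMap A' A a') ⊗ₜ[B] π₁ d =
            (algebraMap A' A a') • ((1 : A) ⊗ₜ[B] π₁ d) := by
          rw [TensorProduct.smul_tmul', smul_eq_mul, mul_one]
        rw [h1, map_smul, hφd, hsm]
      | add x y hx hy =>
        obtain ⟨p, hp, hpx⟩ := hx
        obtain ⟨q, hq, hqy⟩ := hy
        exact ⟨p + q, Submodule.add_mem _ hp hq, by
          rw [map_add, hpx, hqy, TensorProduct.tmul_add]⟩
    obtain ⟨p, hp, hpw⟩ := key (φ.symm ((1 : A) ⊗ₜ[A'] m))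
    rw [AlgEquiv.apply_symm_apply] at hpw
    have h2 : φ ((1 : A) ⊗ₜ[B] (0 : N)) = (1 : A) ⊗ₜ[A'] (m - p) := by
      rw [TensorProduct.tmul_zero, map_zero, TensorProduct.tmul_sub, hpw, sub_self]
    obtain ⟨d, -, hd⟩ := (himg 0 (m - p)).1 h2
    have hmp : m = (m - p) + p := by abel
    rw [hmp]
    exact Submodule.add_mem _ (Submodule.subset_span ⟨d, hd⟩) hp
  -- Step 2: Ψ₁
  let Ψ₁ : B ⊗[B'] D' →ₐ[B] N :=
    Algebra.TensorProduct.lift (Algebra.ofId B N) π₁ (fun b d => Algebra.commutes b (π₁ d))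
  have hΨ₁ : ∀ (b : B) (d : D'), Ψ₁ (b ⊗ₜ d) = algebraMap B N b * π₁ d := fun b d =>
    Algebra.TensorProduct.lift_tmul _ _ _ b d
  have hQ : ∀ m ∈ Submodule.span A' (Set.range π₂), ∀ i ∈ I, ∃ e : D',
      π₁ e = 0 ∧ π₂ e = i • m ∧ (1 : B) ⊗ₜ[B'] e = (0 : B ⊗[B'] D') := by
    intro m hm
    refine Submodule.span_induction (p := fun m _ => ∀ i ∈ I, ∃ e : D',
      π₁ e = 0 ∧ π₂ e = i • m ∧ (1 : B) ⊗ₜ[B'] e = (0 : B ⊗[B'] D')) ?_ ?_ ?_ ?_ hm
    · rintro _ ⟨d₀, rfl⟩ i hi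
      obtain ⟨j, hj1, hj2⟩ := hlift i hi
      refine ⟨j • d₀, hjd j d₀ hj1, by rw [hjd2, hj2], ?_⟩
      rw [TensorProduct.tmul_smul, TensorProduct.smul_tmul', Algebra.smul_def, hj1, zero_mul,
        TensorProduct.zero_tmul]
    · intro i _
      exact ⟨0, map_zero _, by rw [map_zero, smul_zero], TensorProduct.tmul_zero _ _⟩
    · intro x y _ _ hx hy i hi
      obtain ⟨e₁, h1, h2, h3⟩ := hx i hi
      obtain ⟨e₂, h1', h2', h3'⟩ := hy i hi
      exact ⟨e₁ + e₂, by rw [map_add, h1, h1', add_zero], by rw [map_add, h2, h2', smul_add],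
        by rw [TensorProduct.tmul_add, h3, h3', add_zero]⟩
    · intro a' x _ hx i hi
      obtain ⟨e, h1, h2, h3⟩ := hx (i * a') (I.mul_mem_right a' hi)
      exact ⟨e, h1, by rw [h2, mul_smul], h3⟩
  have hkey1 : ∀ x ∈ I • (⊤ : Submodule A' M'), ∃ e : D',
      π₁ e = 0 ∧ π₂ e = x ∧ (1 : B) ⊗ₜ[B'] e = (0 : B ⊗[B'] D') := by
    intro x hx
    refine Submodule.smul_induction_on hx (fun i hi m _ => ?_) (fun x y hx hy => ?_)
    · exact hQ m (hP ▸ Submodule.mem_top) i hi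
    · obtain ⟨e₁, h1, h2, h3⟩ := hx
      obtain ⟨e₂, h1', h2', h3'⟩ := hy
      exact ⟨e₁ + e₂, by rw [map_add, h1, h1', add_zero], by rw [map_add, h2, h2'],
        by rw [TensorProduct.tmul_add, h3, h3', add_zero]⟩
  have hΨ₁inj : Function.Injective Ψ₁ := by
    rw [injective_iff_map_eq_zero]
    intro z hz
    obtain ⟨d, rfl⟩ := exists_one_tmul hsB z
    rw [hΨ₁, map_one, one_mul] at hz
    have h1 : (1 : A) ⊗ₜ[A'] π₂ d = (0 : A ⊗[A'] M') := by
      rw [← hφd, hz, TensorProduct.tmul_zero, map_zero]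
    have h2 := mem_ker_smul_top hsA (π₂ d) h1
    obtain ⟨e, he1, he2, he3⟩ := hkey1 _ h2
    have hde : d = e := by
      have := hinj (d - e) (by rw [map_sub, hz, he1, sub_zero]) (by rw [map_sub, he2, sub_self])
      exact sub_eq_zero.1 this
    rw [hde, he3]
  have hΨ₁surj : Function.Surjective Ψ₁ := fun n => by
    obtain ⟨d, rfl⟩ := hπ₁ n
    exact ⟨1 ⊗ₜ d, by rw [hΨ₁, map_one, one_mul]⟩
  -- Step 4: Ψ₂
  let Ψ₂ : A' ⊗[B'] D' →ₐ[A'] M' :=
    Algebra.TensorProduct.lift (Algebra.ofId A' M') π₂ (fun a d => Algebra.commutes a (π₂ d))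
  have hΨ₂ : ∀ (a : A') (d : D'), Ψ₂ (a ⊗ₜ d) = algebraMap A' M' a * π₂ d := fun a d =>
    Algebra.TensorProduct.lift_tmul _ _ _ a d
  have hΨ₂surj : Function.Surjective Ψ₂ := by
    intro m
    have hm : m ∈ Submodule.span A' (Set.range π₂) := hP ▸ Submodule.mem_top
    refine Submodule.span_induction (p := fun m _ => ∃ z, Ψ₂ z = m) ?_ ?_ ?_ ?_ hm
    · rintro _ ⟨d, rfl⟩
      exact ⟨1 ⊗ₜ d, by rw [hΨ₂, map_one, one_mul]⟩
    · exact ⟨0, map_zero _⟩
    · rintro x y _ _ ⟨z₁, rfl⟩ ⟨z₂, rfl⟩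
      exact ⟨z₁ + z₂, map_add _ _ _⟩
    · rintro a x _ ⟨z, rfl⟩
      exact ⟨a • z, map_smul _ _ _⟩
  let c₁ := TensorProduct.AlgebraTensorModule.cancelBaseChange B' A' A A D'
  let c₂ := TensorProduct.AlgebraTensorModule.cancelBaseChange B' B A A D'
  have hcomm : ∀ v : A ⊗[B] (B ⊗[B'] D'),
      (Ψ₂.toLinearMap.baseChange A) (c₁.symm (c₂ v)) =
        φ ((Ψ₁.toLinearMap.baseChange A) v) := by
    intro v
    induction v using TensorProduct.induction_on with
    | zero => simp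
    | tmul a y =>
      induction y using TensorProduct.induction_on with
      | zero => simp
      | tmul b d =>
        rw [TensorProduct.AlgebraTensorModule.cancelBaseChange_tmul,
          TensorProduct.AlgebraTensorModule.cancelBaseChange_symm_tmul,
          LinearMap.baseChange_tmul, LinearMap.baseChange_tmul]
        show (b • a) ⊗ₜ[A'] Ψ₂ ((1 : A') ⊗ₜ[B'] d) = φ (a ⊗ₜ[B] Ψ₁ (b ⊗ₜ[B'] d))
        rw [hΨ₂, hΨ₁, map_one, one_mul, ← Algebra.smul_def, ← TensorProduct.smul_tmul]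
        have h1 : (b • a) ⊗ₜ[B] π₁ d = (b • a) • ((1 : A) ⊗ₜ[B] π₁ d) := by
          rw [TensorProduct.smul_tmul', smul_eq_mul, mul_one]
        rw [h1, map_smul, hφd, TensorProduct.smul_tmul', smul_eq_mul, mul_one]
      | add y z hy hz => simp only [TensorProduct.tmul_add, map_add, hy, hz]
    | add u v hu hv => simp only [map_add, hu, hv]
  have hΨ₁bc : Function.Injective (Ψ₁.toLinearMap.baseChange A) := by
    have hb : Function.Bijective (LinearMap.lTensor A Ψ₁.toLinearMap) :=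
      Groth.Agent.H10.lTensor_bijective_of_bijective B A _ ⟨hΨ₁inj, hΨ₁surj⟩
    rw [LinearMap.baseChange_eq_ltensor]
    exact hb.1
  have hΨ₂bc : ∀ u : A ⊗[A'] (A' ⊗[B'] D'), (Ψ₂.toLinearMap.baseChange A) u = 0 → u = 0 := by
    intro u hu
    obtain ⟨v, rfl⟩ : ∃ v, c₁.symm (c₂ v) = u := ⟨c₂.symm (c₁ u), by simp⟩
    rw [hcomm] at hu
    have h1 : (Ψ₁.toLinearMap.baseChange A) v = 0 := φ.injective (by rw [hu, map_zero])
    have h2 : v = 0 := hΨ₁bc (by rw [h1, map_zero])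
    rw [h2, map_zero, map_zero]
  have hkey2 : ∀ z ∈ I • (⊤ : Submodule A' (A' ⊗[B'] D')), ∃ e : D',
      π₁ e = 0 ∧ z = (1 : A') ⊗ₜ[B'] e := by
    have hQ2 : ∀ t : A' ⊗[B'] D', ∀ i ∈ I, ∃ e : D', π₁ e = 0 ∧ i • t = (1 : A') ⊗ₜ[B'] e := by
      intro t
      induction t using TensorProduct.induction_on with
      | zero => intro i _; exact ⟨0, map_zero _, by rw [smul_zero, TensorProduct.tmul_zero]⟩
      | tmul a' d =>
        intro i hi
        obtain ⟨j, hj1, hj2⟩ := hlift (i * a') (I.mul_mem_right a' hi)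
        refine ⟨j • d, hjd j d hj1, ?_⟩
        rw [TensorProduct.smul_tmul', smul_eq_mul, TensorProduct.tmul_smul,
          TensorProduct.smul_tmul', Algebra.smul_def, hj2, mul_one]
      | add x y hx hy =>
        intro i hi
        obtain ⟨e₁, h1, h2⟩ := hx i hi
        obtain ⟨e₂, h1', h2'⟩ := hy i hi
        exact ⟨e₁ + e₂, by rw [map_add, h1, h1', add_zero],
          by rw [smul_add, h2, h2', TensorProduct.tmul_add]⟩
    intro z hz
    refine Submodule.smul_induction_on hz (fun i hi t _ => hQ2 t i hi) (fun x y hx hy => ?_)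
    obtain ⟨e₁, h1, rfl⟩ := hx
    obtain ⟨e₂, h1', rfl⟩ := hy
    exact ⟨e₁ + e₂, by rw [map_add, h1, h1', add_zero], (TensorProduct.tmul_add _ _ _).symm⟩
  have hΨ₂inj : Function.Injective Ψ₂ := by
    rw [injective_iff_map_eq_zero]
    intro z hz
    have h1 : (1 : A) ⊗ₜ[A'] z = (0 : A ⊗[A'] (A' ⊗[B'] D')) := by
      apply hΨ₂bc
      rw [LinearMap.baseChange_tmul]
      show (1 : A) ⊗ₜ[A'] Ψ₂ z = 0
      rw [hz, TensorProduct.tmul_zero]
    have h2 := mem_ker_smul_top hsA z h1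
    obtain ⟨e, he1, rfl⟩ := hkey2 z h2
    rw [hΨ₂, map_one, one_mul] at hz
    have he0 : e = 0 := hinj e he1 hz
    rw [he0, TensorProduct.tmul_zero]
  have e₁ : B ⊗[B'] D' ≃ₐ[B] N := AlgEquiv.ofBijective Ψ₁ ⟨hΨ₁inj, hΨ₁surj⟩
  have e₂ : A' ⊗[B'] D' ≃ₐ[A'] M' := AlgEquiv.ofBijective Ψ₂ ⟨hΨ₂inj, hΨ₂surj⟩
  have hB : IsAzumaya B (B ⊗[B'] D') := IsAzumaya.of_AlgEquiv (e := e₁.symm)
  have hA' : IsAzumaya A' (A' ⊗[B'] D') := IsAzumaya.of_AlgEquiv (e := e₂.symm)
  exact (Groth.Agent.S14956.result B' B A' A hsq D').2 ⟨hB, hA'⟩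

end Groth.Agent.S14965
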