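import Groth.Statements.S14966
import Mathlib

set_option autoImplicit false
universe u
open EtAlg

namespace Groth.Agent.S14966

/-- Let A → A' be an injective homomorphism of commutative rings and let I ⊆ A be the conductor, i.e.
the annihilator of the A-module A'/A. Then the conductor square formed by A → A/I, A → A', A/I →
A'/IA' and A' → A'/IA' is a fibre product square of rings with A' → A'/IA' surjective: A = A/I
×_{A'/IA'} A'. (The published Lemma is for the conductor square of a finite modification of schemes;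
this row is the underlying statement for one injective ring map, which needs no finiteness.) -/
theorem result (A A' : Type u) [CommRing A] [CommRing A'] [Algebra A A']
    (hinj : Function.Injective (algebraMap A A')) :
    EtMil.IsFibreSquare A (A ⧸ Module.annihilator A (A' ⧸ LinearMap.range (Algebra.linearMap A A'))) A'
      (A' ⧸ Ideal.map (algebraMap A A') (Module.annihilator A (A' ⧸ LinearMap.range (Algebra.linearMap A A')))) := by
  set I := Module.annihilator A (A' ⧸ LinearMap.range (Algebra.linearMap A A')) with hI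
  have hcond : ∀ i ∈ I, ∀ a' : A', ∃ a : A, algebraMap A A' a = algebraMap A A' i * a' := by
    intro i hi a'
    have h0 := Module.mem_annihilator.mp hi (Submodule.Quotient.mk a')
    rw [← Submodule.Quotient.mk_smul, Submodule.Quotient.mk_eq_zero] at h0
    obtain ⟨a, ha⟩ := h0
    refine ⟨a, ?_⟩
    rw [Algebra.linearMap_apply] at ha
    rw [ha, Algebra.smul_def]
  have hmap : ∀ x ∈ Ideal.map (algebraMap A A') I, ∃ i ∈ I, algebraMap A A' i = x := by
    intro x hx
    refine Submodule.span_induction ?_ ?_ ?_ ?_ hx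
    · rintro _ ⟨i, hi, rfl⟩
      exact ⟨i, hi, rfl⟩
    · exact ⟨0, I.zero_mem, map_zero _⟩
    · rintro x y _ _ ⟨i, hi, rfl⟩ ⟨j, hj, rfl⟩
      exact ⟨i + j, I.add_mem hi hj, map_add _ _ _⟩
    · rintro a' x _ ⟨i, hi, rfl⟩
      obtain ⟨a, ha⟩ := hcond i hi a'
      refine ⟨a, ?_, by rw [ha, smul_eq_mul, mul_comm]⟩
      rw [hI, Module.mem_annihilator]
      intro c
      obtain ⟨c', rfl⟩ := Submodule.Quotient.mk_surjective _ c
      rw [← Submodule.Quotient.mk_smul, Submodule.Quotient.mk_eq_zero]
      obtain ⟨a2, ha2⟩ := hcond i hi (a' * c')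
      exact ⟨a2, by rw [Algebra.linearMap_apply, ha2, Algebra.smul_def, ha, mul_assoc]⟩
  refine ⟨Ideal.Quotient.mk_surjective, ?_⟩
  intro b a' h
  obtain ⟨a₀, rfl⟩ := Ideal.Quotient.mk_surjective b
  rw [Ideal.Quotient.algebraMap_quotient_map_quotient] at h
  have h' : a' - algebraMap A A' a₀ ∈ Ideal.map (algebraMap A A') I := by
    rw [← Ideal.Quotient.eq]
    exact h.symm
  obtain ⟨i, hi, hia⟩ := hmap _ h'
  refine ⟨a₀ + i, ⟨?_, ?_⟩, ?_⟩
  · change Ideal.Quotient.mk I (a₀ + i) = Ideal.Quotient.mk I a₀
    rw [Ideal.Quotient.eq]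
    simpa using hi
  · rw [map_add, hia]
    ring
  · rintro y ⟨-, hy2⟩
    apply hinj
    rw [hy2, map_add, hia]
    ring

end Groth.Agent.S14966
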