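import Groth.Statements.S14967
import Mathlib
import Groth.Agent.H10.AzumayaBC

set_option autoImplicit false
universe u v w
open TensorProduct
open Brauer

namespace Groth.Agent.S14967

/-- Let R → S be a faithfully flat homomorphism of commutative rings and B an R-algebra, with no
finiteness assumption. If S ⊗_R B is an Azumaya S-algebra then B is an Azumaya R-algebra. (The
published statement is for a flat surjective morphism of schemes X → Y and a quasi-coherent
O_Y-algebra; this row is the case of affine X and Y, where flat and surjective means faithfully
flat. The converse, base change, is omitted.) -/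
theorem result (R : Type u) [CommRing R]
    (S : Type v) [CommRing S] [Algebra R S] [Module.FaithfullyFlat R S]
    (B : Type w) [Ring B] [Algebra R B] [IsAzumaya S (S ⊗[R] B)] : IsAzumaya R B := by
  have : Module.Finite R B := Module.Finite.of_finite_tensorProduct_of_faithfullyFlat S
  have : Module.FinitePresentation S (S ⊗[R] B) := Module.finitePresentation_of_projective _ _
  have : Module.FinitePresentation R B :=
    Groth.Agent.H10.finitePresentation_of_faithfullyFlat R S B
  have : Module.Flat R B := Module.Flat.of_flat_tensorProduct R B S
  have : Module.Projective R B := Module.Flat.projective_of_finitePresentation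
  have : FaithfulSMul R B := by
    refine ⟨fun {r₁ r₂} h => ?_⟩
    apply FaithfulSMul.algebraMap_injective R S
    apply FaithfulSMul.eq_of_smul_eq_smul (α := S ⊗[R] B)
    intro y
    induction y using TensorProduct.induction_on with
    | zero => simp
    | tmul s b =>
      rw [algebraMap_smul, algebraMap_smul, ← TensorProduct.tmul_smul, ← TensorProduct.tmul_smul,
        h b]
    | add a b ha hb => rw [smul_add, smul_add, ha, hb]
  refine { bij := ?_ }
  exact (Module.FaithfullyFlat.lTensor_bijective_iff_bijective R S _).1
    ((Groth.Agent.H10.bijective_mulLeftRight_baseChange_iff R S B).1 IsAzumaya.bij)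

end Groth.Agent.S14967
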