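import Groth.Statements.S14984
import Mathlib
-- import your own Groth.Agent.* helpers here

set_option autoImplicit false
universe u v w
open HopfRep

namespace Groth.Agent.S14984

open TensorProduct

theorem descend_integral {R : Type u} {A : Type v} {B : Type w}
    [CommRing R] [CommRing A] [HopfAlgebra R A]
    [CommRing B] [Algebra R B] [HopfRep.Comod R A B] [GLin.IsCoactAlg R A B]
    (C : Subalgebra R B)
    (hCinv : ∀ c ∈ C, HopfRep.Comod.coact (k := R) (A := A) c = c ⊗ₜ[R] (1 : A))
    (β : TensorProduct R ↥C A →ₗ[↥C] TensorProduct R ↥C B)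
    (hβ : @Hoch.IsComodHom ↥C _ (TensorProduct R ↥C A) _ _ _
        (TensorProduct R ↥C A) _ _ (HopfRep.Comod.regular ↥C (TensorProduct R ↥C A))
        (TensorProduct R ↥C B) _ _ (CoactBr.Comod.baseChange R ↥C A B) β)
    (hβ1 : β 1 = 1) :
    ∃ α : A →ₗ[R] B, Hoch.IsComodHom A α ∧ α 1 = 1 := by
  let μ : TensorProduct R ↥C B →ₗ[R] B := LinearMap.mul' R B ∘ₗ (C.val.toLinearMap).rTensor B
  have hμ : ∀ (c : ↥C) (b : B), μ (c ⊗ₜ[R] b) = (c : B) * b := by
    intro c b
    show LinearMap.mul' R B ((C.val.toLinearMap).rTensor B (c ⊗ₜ[R] b)) = _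
    rw [LinearMap.rTensor_tmul, LinearMap.mul'_apply]
    rfl
  let α : A →ₗ[R] B := μ ∘ₗ (β.restrictScalars R) ∘ₗ (TensorProduct.mk R ↥C A 1)
  have hα : ∀ a : A, α a = μ (β ((1 : ↥C) ⊗ₜ[R] a)) := fun a => rfl
  let Φ : TensorProduct ↥C (TensorProduct R ↥C B) (TensorProduct R ↥C A) →ₗ[R] TensorProduct R B A :=
    μ.rTensor A ∘ₗ ((TensorProduct.AlgebraTensorModule.cancelBaseChange R ↥C ↥C
      (TensorProduct R ↥C B) A).toLinearMap.restrictScalars R)
  have hΦ : ∀ (z : TensorProduct R ↥C B) (c : ↥C) (a : A),
      Φ (z ⊗ₜ[↥C] (c ⊗ₜ[R] a)) = μ (c • z) ⊗ₜ[R] a := by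
    intro z c a
    show μ.rTensor A (TensorProduct.AlgebraTensorModule.cancelBaseChange R ↥C ↥C
      (TensorProduct R ↥C B) A (z ⊗ₜ[↥C] (c ⊗ₜ[R] a))) = _
    rw [TensorProduct.AlgebraTensorModule.cancelBaseChange_tmul, LinearMap.rTensor_tmul]
  have F1 : ∀ (c : ↥C) (t : TensorProduct R B A),
      Φ (TensorProduct.AlgebraTensorModule.tensorTensorTensorComm R ↥C R ↥C ↥C ↥C B A
        (((1 : ↥C) ⊗ₜ[↥C] c) ⊗ₜ[R] t)) = (LinearMap.mulLeft R (c : B)).rTensor A t := by
    intro c t
    induction t using TensorProduct.induction_on with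
    | zero => simp
    | tmul b0 b1 =>
      rw [TensorProduct.AlgebraTensorModule.tensorTensorTensorComm_tmul, hΦ,
        TensorProduct.smul_tmul', hμ, LinearMap.rTensor_tmul, LinearMap.mulLeft_apply,
        smul_eq_mul, mul_one]
    | add x y hx hy => simp only [map_add, TensorProduct.tmul_add, hx, hy]
  have F2 : ∀ (c : ↥C) (b : B), HopfRep.Comod.coact (k := R) (A := A) ((c : B) * b) =
      (LinearMap.mulLeft R (c : B)).rTensor A (HopfRep.Comod.coact (k := R) (A := A) b) := by
    intro c b
    rw [GLin.IsCoactAlg.coact_mul, hCinv c c.2]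
    generalize HopfRep.Comod.coact (k := R) (A := A) b = t
    induction t using TensorProduct.induction_on with
    | zero => simp
    | tmul b0 b1 =>
      rw [Algebra.TensorProduct.tmul_mul_tmul, one_mul, LinearMap.rTensor_tmul,
        LinearMap.mulLeft_apply]
    | add x y hx hy => simp only [mul_add, map_add, hx, hy]
  have F3 : ∀ y : TensorProduct R ↥C B, Φ ((CoactBr.Comod.baseChange R ↥C A B).coact y) =
      HopfRep.Comod.coact (k := R) (A := A) (μ y) := by
    intro y
    induction y using TensorProduct.induction_on with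
    | zero => simp
    | tmul c b => rw [CoactBr.baseChange_coact_tmul, F1, hμ, F2]
    | add x y hx hy => simp only [map_add, hx, hy]
  have F5 : ∀ t : TensorProduct R A A,
      Φ (β.rTensor (TensorProduct R ↥C A)
        (TensorProduct.AlgebraTensorModule.tensorTensorTensorComm R ↥C R ↥C ↥C ↥C A A
          (((1 : ↥C) ⊗ₜ[↥C] (1 : ↥C)) ⊗ₜ[R] t))) = α.rTensor A t := by
    intro t
    induction t using TensorProduct.induction_on with
    | zero => simp
    | tmul a1 a2 =>
      rw [TensorProduct.AlgebraTensorModule.tensorTensorTensorComm_tmul, LinearMap.rTensor_tmul,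
        hΦ, one_smul, LinearMap.rTensor_tmul, hα]
    | add x y hx hy => simp only [map_add, TensorProduct.tmul_add, hx, hy]
  refine ⟨α, ?_, ?_⟩
  · apply LinearMap.ext
    intro a
    show HopfRep.Comod.coact (k := R) (A := A) (α a) =
      α.rTensor A (CoalgebraStruct.comul (R := R) a)
    rw [hα, ← F3, ← F5]
    have h1 := LinearMap.congr_fun hβ ((1 : ↥C) ⊗ₜ[R] a)
    exact congrArg Φ h1
  · show μ (β ((1 : ↥C) ⊗ₜ[R] (1 : A))) = 1
    rw [← Algebra.TensorProduct.one_def, hβ1, Algebra.TensorProduct.one_def, hμ]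
    simp


/-- Let `R` be a commutative ring, `A` a commutative Hopf algebra over `R`, flat as an `R`-module, `B` a
commutative `R`-algebra with a coaction of `A` that is an algebra map (an action of `G = Spec A` on
`X = Spec B`), and `C = B^A` the ring of invariants. If the action base-changed along `R → C` — the
`C`-Hopf algebra `C ⊗ A` coacting on `C ⊗ B` — is tame, i.e. there is a `C`-linear comodule map `β :
C ⊗ A → C ⊗ B` (regular coaction on the source, base-changed coaction on the target) with `β 1 = 1`,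
then the original action is tame: there is an `R`-linear comodule map `α : A → B` with `α 1 = 1`.
(The converse is the case `S = C` of stability of tameness under base change. The published lemma
also lists, as a third equivalent condition, tameness of the action of `C ⊗ A` on `B` itself over
`C`; that condition is not stated here.) -/
theorem result
    (R : Type u) (A : Type v) (B : Type w)
    [CommRing R] [CommRing A] [HopfAlgebra R A] [Module.Flat R A]
    [CommRing B] [Algebra R B] [HopfRep.Comod R A B] [GLin.IsCoactAlg R A B]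
    (h : ∃ β : TensorProduct R ↥(GLin.invariants R A B) A →ₗ[↥(GLin.invariants R A B)]
        TensorProduct R ↥(GLin.invariants R A B) B,
      @Hoch.IsComodHom ↥(GLin.invariants R A B) _ (TensorProduct R ↥(GLin.invariants R A B) A) _ _ _
        (TensorProduct R ↥(GLin.invariants R A B) A) _ _
        (HopfRep.Comod.regular ↥(GLin.invariants R A B) (TensorProduct R ↥(GLin.invariants R A B) A))
        (TensorProduct R ↥(GLin.invariants R A B) B) _ _
        (CoactBr.Comod.baseChange R ↥(GLin.invariants R A B) A B) β ∧ β 1 = 1) :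
    ∃ α : A →ₗ[R] B, Hoch.IsComodHom A α ∧ α 1 = 1 := by
  obtain ⟨β, hβ, hβ1⟩ := h
  exact descend_integral (GLin.invariants R A B) (fun c hc => hc) β hβ hβ1

end Groth.Agent.S14984
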