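import Groth.Statements.S14997
import Mathlib

set_option autoImplicit false
open HilbPol

namespace Groth.Agent.S14997


open Polynomial

section Aux

lemma coeff_comp_sub (a : ℚ) (R : ℚ[X]) (m : ℕ) :
    (R.comp (X - C a)).coeff m
      = ∑ i ∈ Finset.range (R.natDegree + 1), R.coeff i * ((-a) ^ (i - m) * (i.choose m : ℚ)) := by
  have hX : (X - C a : ℚ[X]) = X + C (-a) := by rw [C_neg, sub_eq_add_neg]
  rw [hX, comp_eq_sum_left, Polynomial.sum_over_range _ (by intro n; simp), finset_sum_coeff]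
  refine Finset.sum_congr rfl fun i _ => ?_
  rw [coeff_C_mul, coeff_X_add_C_pow]

lemma dcoeff (a : ℚ) (R : ℚ[X]) (t q : ℕ) (hR : R.natDegree = t + 1 + q) :
    (R - R.comp (X - C a)).coeff t * (t.factorial : ℚ)
      = - ∑ s ∈ Finset.range (q + 1),
          (R.coeff (t + 1 + s) * ((t + 1 + s).factorial : ℚ)) *
            ((-a) ^ (s + 1) / ((s + 1).factorial : ℚ)) := by
  have e : t + 1 + q + 1 = (t + 1) + (q + 1) := by ring
  have h0 : ∑ i ∈ Finset.range t, R.coeff i * ((-a) ^ (i - t) * (i.choose t : ℚ)) = 0 := by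
    refine Finset.sum_eq_zero fun i hi => ?_
    rw [Nat.choose_eq_zero_of_lt (Finset.mem_range.mp hi)]; simp
  have key : (R.comp (X - C a)).coeff t = R.coeff t + ∑ s ∈ Finset.range (q + 1),
      R.coeff (t + 1 + s) * ((-a) ^ (s + 1) * ((t + 1 + s).choose t : ℚ)) := by
    rw [coeff_comp_sub, hR, e, Finset.sum_range_add, Finset.sum_range_succ, h0, Nat.sub_self,
      Nat.choose_self]
    simp only [pow_zero, Nat.cast_one, mul_one, zero_add]
    congr 1
    refine Finset.sum_congr rfl fun s _ => ?_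
    have hsub : t + 1 + s - t = s + 1 := by omega
    rw [hsub]
  rw [coeff_sub, key, sub_add_cancel_left, neg_mul, Finset.sum_mul]
  congr 1
  refine Finset.sum_congr rfl fun s _ => ?_
  have hch : ((t + 1 + s).choose t : ℚ) * (t.factorial : ℚ) * ((s + 1).factorial : ℚ)
      = ((t + 1 + s).factorial : ℚ) := by
    have := Nat.add_choose_mul_factorial_mul_factorial (s + 1) t
    have e2 : s + 1 + t = t + 1 + s := by ring
    rw [e2] at this
    have h3 : ((t + 1 + s).choose t : ℚ) * ((s + 1).factorial : ℚ) * (t.factorial : ℚ)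
        = ((t + 1 + s).factorial : ℚ) := by exact_mod_cast this
    rw [← h3]; ring
  have hf : ((s + 1).factorial : ℚ) ≠ 0 := Nat.cast_ne_zero.mpr (Nat.factorial_ne_zero _)
  rw [← hch]
  field_simp

lemma main_formula (a : ℚ) (ha : a ≠ 0) (R : ℚ[X]) (d i : ℕ) (hd : R.natDegree = d) (hR0 : R ≠ 0)
    (hi : i + 2 ≤ d) :
    ((R - R.comp (X - C a)).coeff (d - 1 - 1 - i) * ((d - 1 - 1 - i).factorial : ℚ)) /
        ((R - R.comp (X - C a)).coeff (d - 1) * ((d - 1).factorial : ℚ))
      = - (∑ s ∈ Finset.range (i + 1),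
            ((R.coeff (d - 1 - (i - s)) * ((d - 1 - (i - s)).factorial : ℚ)) /
                (R.coeff d * (d.factorial : ℚ)))
              * ((-a) ^ (s + 1) / (((s + 1).factorial : ℚ) * a)))
        - (-a) ^ (i + 2) / (((i + 2).factorial : ℚ) * a) := by
  obtain ⟨t, rfl⟩ : ∃ t, d = t + 1 + (i + 1) := ⟨d - 2 - i, by omega⟩
  have e1 : t + 1 + (i + 1) - 1 - 1 - i = t := by omega
  have e2 : t + 1 + (i + 1) - 1 = t + 1 + i := by omega
  rw [e1, e2]
  have hc : R.coeff (t + 1 + (i + 1)) ≠ 0 := by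
    rw [← hd]; exact leadingCoeff_ne_zero.mpr hR0
  have hfac : ((t + 1 + (i + 1)).factorial : ℚ) ≠ 0 :=
    Nat.cast_ne_zero.mpr (Nat.factorial_ne_zero _)
  have hden : - ∑ s ∈ Finset.range (0 + 1),
      (R.coeff (t + 1 + i + 1 + s) * ((t + 1 + i + 1 + s).factorial : ℚ)) *
        ((-a) ^ (s + 1) / ((s + 1).factorial : ℚ))
      = a * (R.coeff (t + 1 + (i + 1)) * ((t + 1 + (i + 1)).factorial : ℚ)) := by
    have e3 : t + 1 + i + 1 + 0 = t + 1 + (i + 1) := by ring
    simp only [zero_add, Finset.range_one, Finset.sum_singleton, e3, Nat.factorial_one,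
      Nat.cast_one, pow_one, div_one]
    ring
  rw [dcoeff a R t (i + 1) hd, dcoeff a R (t + 1 + i) 0 (by rw [hd]; ring), hden]
  rw [Finset.sum_range_succ]
  have e4 : i + 1 + 1 = i + 2 := rfl
  rw [neg_div, add_div, Finset.sum_div, neg_add, ← sub_eq_add_neg]
  congr 1
  · congr 1
    refine Finset.sum_congr rfl fun s hs => ?_
    have hs' : s ≤ i := Nat.lt_succ_iff.mp (Finset.mem_range.mp hs)
    have e5 : t + 1 + i - (i - s) = t + 1 + s := by omega
    have hf : ((s + 1).factorial : ℚ) ≠ 0 := Nat.cast_ne_zero.mpr (Nat.factorial_ne_zero _)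
    rw [e5]
    field_simp
  · have hf : ((i + 2).factorial : ℚ) ≠ 0 := Nat.cast_ne_zero.mpr (Nat.factorial_ne_zero _)
    rw [e4]
    field_simp

lemma lex_transfer {ℓ : ℕ} (x y x' y' : Fin ℓ → ℚ)
    (H : ∀ i : Fin ℓ, (∀ j : Fin ℓ, j < i → x j = y j) → x' i - y' i = x i - y i) :
    toLex x ≤ toLex y ↔ toLex x' ≤ toLex y' := by
  have pre : ∀ i : Fin ℓ, (∀ j : Fin ℓ, j < i → x j = y j) ↔
      (∀ j : Fin ℓ, j < i → x' j = y' j) := by
    intro i
    constructor
    · intro h j hj
      have := H j (fun j' hj' => h j' (lt_trans hj' hj))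
      rw [h j hj, sub_self] at this
      exact sub_eq_zero.mp this
    · intro h
      have aux : ∀ n : ℕ, ∀ j : Fin ℓ, (j : ℕ) = n → j < i → x j = y j := by
        intro n
        induction n using Nat.strong_induction_on with
        | _ n ih =>
          intro j hjn hji
          have hp : ∀ j' : Fin ℓ, j' < j → x j' = y j' := fun j' hj' =>
            ih (j' : ℕ) (by rw [← hjn]; exact hj') j' rfl (lt_trans hj' hji)
          have := H j hp
          rw [h j hji, sub_self] at this
          exact (sub_eq_zero.mp this.symm)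
      exact fun j hj => aux j j rfl hj
  have hlt : toLex x < toLex y ↔ toLex x' < toLex y' := by
    constructor
    · intro h
      obtain ⟨i, hi, hlt⟩ :=
        (show ∃ i : Fin ℓ, (∀ j, j < i → x j = y j) ∧ x i < y i from h)
      have := H i hi
      exact (show ∃ i : Fin ℓ, (∀ j, j < i → x' j = y' j) ∧ x' i < y' i from
        ⟨i, (pre i).mp hi, by linarith⟩)
    · intro h
      obtain ⟨i, hi, hlt⟩ :=
        (show ∃ i : Fin ℓ, (∀ j, j < i → x' j = y' j) ∧ x' i < y' i from h)
      have hi' := (pre i).mpr hi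
      have := H i hi'
      exact (show ∃ i : Fin ℓ, (∀ j, j < i → x j = y j) ∧ x i < y i from
        ⟨i, hi', by linarith⟩)
  have heq : x = y ↔ x' = y' := by
    constructor
    · intro h
      subst h
      funext i
      have := H i (fun _ _ => rfl)
      rw [sub_self] at this
      exact sub_eq_zero.mp this
    · intro h
      funext i
      have hp : ∀ j : Fin ℓ, j < i → x j = y j := (pre i).mpr (fun j _ => congrFun h j)
      have := H i hp
      rw [congrFun h i, sub_self] at this
      exact sub_eq_zero.mp this.symm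
  rw [le_iff_eq_or_lt, le_iff_eq_or_lt, toLex_inj, toLex_inj, heq]
  exact or_congr Iff.rfl hlt

end Aux


open Polynomial in
/-- Let d and ℓ be natural numbers with ℓ + 1 ≤ d, let a be a nonzero rational number and let P, Q be
polynomials with rational coefficients, both of degree exactly d. For a polynomial R of degree e
write R(m) = Σ_i α_i(R) m^i / i! (so α_i(R) = i! · coeff_i(R)) and let r_ℓ(R) ∈ ℚ^ℓ be the vector
(α_{e−1}(R)/α_e(R), …, α_{e−ℓ}(R)/α_e(R)) of the ℓ coefficients after the leading one of the reduced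
polynomial R/α_e(R), ordered lexicographically. The polynomials P(m) − P(m − a) and Q(m) − Q(m − a)
have degree d − 1, and r_ℓ(P) ≤ r_ℓ(Q) lexicographically if and only if r_ℓ(P(m) − P(m − a)) ≤
r_ℓ(Q(m) − Q(m − a)) lexicographically (hence the same with strict inequalities, by exchanging P and
Q). When P and Q are the Hilbert polynomials of pure d-dimensional coherent sheaves E → F on a
polarized projective scheme and D is a hypersurface section of degree a containing no associated
point of E or F, the Hilbert polynomials of E|_D and F|_D are P(m) − P(m − a) and Q(m) − Q(m − a),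
and the two sides are the comparisons of the ℓ-truncated reduced Hilbert polynomials p_ℓ(E) ≥ p_ℓ(F)
and p_ℓ(E|_D) ≥ p_ℓ(F|_D). (The published statement is phrased for the sheaves; this row is the
statement about their Hilbert polynomials that the displayed coefficient formula yields.) -/
theorem result (d ℓ : ℕ) (hℓ : ℓ + 1 ≤ d) (a : ℚ) (ha : a ≠ 0)
    (P Q : ℚ[X]) (hP : P.natDegree = d) (hQ : Q.natDegree = d) (hP0 : P ≠ 0) (hQ0 : Q ≠ 0) :
    toLex (fun j : Fin ℓ => ((P).coeff (d - 1 - (j : ℕ)) * (Nat.factorial (d - 1 - (j : ℕ)) : ℚ)) / ((P).coeff (d) * (Nat.factorial (d) : ℚ))) ≤ toLex (fun j : Fin ℓ => ((Q).coeff (d - 1 - (j : ℕ)) * (Nat.factorial (d - 1 - (j : ℕ)) : ℚ)) / ((Q).coeff (d) * (Nat.factorial (d) : ℚ))) ↔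
      toLex (fun j : Fin ℓ => ((P - P.comp (X - C a)).coeff ((d - 1) - 1 - (j : ℕ)) * (Nat.factorial ((d - 1) - 1 - (j : ℕ)) : ℚ)) / ((P - P.comp (X - C a)).coeff ((d - 1)) * (Nat.factorial ((d - 1)) : ℚ))) ≤
        toLex (fun j : Fin ℓ => ((Q - Q.comp (X - C a)).coeff ((d - 1) - 1 - (j : ℕ)) * (Nat.factorial ((d - 1) - 1 - (j : ℕ)) : ℚ)) / ((Q - Q.comp (X - C a)).coeff ((d - 1)) * (Nat.factorial ((d - 1)) : ℚ))) := by
  apply lex_transfer
  intro i hpre
  beta_reduce at hpre ⊢
  have hi2 : (i : ℕ) + 2 ≤ d := by have := i.isLt; omega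
  rw [main_formula a ha P d i hP hP0 hi2, main_formula a ha Q d i hQ hQ0 hi2]
  have hsum : ∑ s ∈ Finset.range (i : ℕ),
        ((P.coeff (d - 1 - ((i : ℕ) - (s + 1))) * ((d - 1 - ((i : ℕ) - (s + 1))).factorial : ℚ)) /
            (P.coeff d * (d.factorial : ℚ)))
          * ((-a) ^ (s + 1 + 1) / (((s + 1 + 1).factorial : ℚ) * a))
      = ∑ s ∈ Finset.range (i : ℕ),
        ((Q.coeff (d - 1 - ((i : ℕ) - (s + 1))) * ((d - 1 - ((i : ℕ) - (s + 1))).factorial : ℚ)) /
            (Q.coeff d * (d.factorial : ℚ)))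
          * ((-a) ^ (s + 1 + 1) / (((s + 1 + 1).factorial : ℚ) * a)) := by
    refine Finset.sum_congr rfl fun s hs => ?_
    have hs' : s < (i : ℕ) := Finset.mem_range.mp hs
    have hlt : (i : ℕ) - (s + 1) < ℓ := by have := i.isLt; omega
    have := hpre ⟨(i : ℕ) - (s + 1), hlt⟩ (by
      show (i : ℕ) - (s + 1) < (i : ℕ)
      omega)
    have this' : (P.coeff (d - 1 - ((i : ℕ) - (s + 1))) * ((d - 1 - ((i : ℕ) - (s + 1))).factorial : ℚ)) /
            (P.coeff d * (d.factorial : ℚ)) = (Q.coeff (d - 1 - ((i : ℕ) - (s + 1))) * ((d - 1 - ((i : ℕ) - (s + 1))).factorial : ℚ)) /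
            (Q.coeff d * (d.factorial : ℚ)) := this
    rw [this']
  rw [Finset.sum_range_succ', Finset.sum_range_succ', hsum]
  have hw0 : (-a) ^ (0 + 1) / ((((0 + 1).factorial : ℕ) : ℚ) * a) = -1 := by
    simp only [zero_add, Nat.factorial_one, Nat.cast_one, pow_one, one_mul]
    rw [neg_div, div_self ha]
  rw [hw0, Nat.sub_zero]
  ring

end Groth.Agent.S14997
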