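import Groth.Statements.S15004
import Mathlib
-- import your own Groth.Agent.* helpers here

set_option autoImplicit false
universe u v
open Harb

namespace Groth.Agent.S15004

/-- Let C be a finite family of d curves, recorded as an incidence relation between a type of points and
a finite index type, such that any two distinct curves of the family meet in exactly h points; for a
point p write r_p for the number of curves of the family through p. Then for every curve C_i of the
family, Σ_{p ∈ C_i} (r_p − 1) = h (d − 1), the sum being finitely supported. (The published
statement is for a transversal arrangement of curves on a geometrically ruled surface with invariant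
e, all numerically equivalent to a C₀ + b f, where any two of the curves meet transversally in h =
2ab − a²e points; only this common pairwise intersection count enters the proof, and this row states
the identity for an abstract incidence relation.) -/
theorem result (P : Type u) (ι : Type v) [Fintype ι]
    (inc : P → ι → Prop) (h : ℕ)
    (hfin : ∀ i j : ι, i ≠ j → {p : P | inc p i ∧ inc p j}.Finite)
    (hcount : ∀ i j : ι, i ≠ j → {p : P | inc p i ∧ inc p j}.ncard = h) (i : ι) :
    ∑ᶠ p ∈ {p : P | inc p i}, (Nat.card {j : ι // inc p j} - 1) = h * (Fintype.card ι - 1) := by
  classical
  have key : ∀ p, inc p i → Nat.card {j : ι // inc p j} - 1 =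
      ∑ j ∈ Finset.univ.erase i, (if inc p j then 1 else 0) := by
    intro p hp
    rw [Nat.card_eq_fintype_card, Fintype.card_subtype, Finset.card_filter,
      ← Finset.add_sum_erase Finset.univ _ (Finset.mem_univ i), if_pos hp]
    omega
  have hone : ∀ T : Set P, T.Finite → ∀ [DecidablePred (· ∈ T)], ∑ᶠ p, (if p ∈ T then 1 else 0) = T.ncard := by
    intro T hT _
    rw [finsum_eq_sum_of_support_subset (s := hT.toFinset), Set.ncard_eq_toFinset_card T hT]
    · simp only [Finset.sum_boole, Nat.cast_id]
      congr 1
      ext x
      simp
    · intro p hp
      simp only [Function.mem_support, ne_eq, ite_eq_right_iff, one_ne_zero, imp_false,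
        not_not] at hp
      simpa using hp
  rw [finsum_mem_congr (s := {p : P | inc p i}) rfl (fun p hp => key p hp), finsum_mem_def]
  have e1 : ∀ p, Set.indicator {p : P | inc p i}
      (fun p => ∑ j ∈ Finset.univ.erase i, (if inc p j then 1 else 0)) p =
      ∑ j ∈ Finset.univ.erase i, (if p ∈ {p : P | inc p i ∧ inc p j} then 1 else 0) := by
    intro p
    by_cases hp : inc p i
    · rw [Set.indicator_of_mem (by exact hp)]
      simp [hp]
    · rw [Set.indicator_of_notMem (by exact hp)]
      simp [hp]
  rw [finsum_congr e1, finsum_sum_comm]
  · rw [Finset.sum_congr rfl (fun j hj => by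
      rw [hone _ (hfin i j (Finset.ne_of_mem_erase hj).symm),
        hcount i j (Finset.ne_of_mem_erase hj).symm])]
    rw [Finset.sum_const, Finset.card_erase_of_mem (Finset.mem_univ i), Finset.card_univ,
      smul_eq_mul, mul_comm]
  · intro j hj
    apply Set.Finite.subset (hfin i j (Finset.ne_of_mem_erase hj).symm)
    intro p hp
    simp only [Function.mem_support, ne_eq, ite_eq_right_iff, one_ne_zero, imp_false,
      not_not] at hp
    exact hp

end Groth.Agent.S15004
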