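import Groth.Statements.S15005
import Mathlib
-- import your own Groth.Agent.* helpers here

set_option autoImplicit false
universe u v
open Harb

namespace Groth.Agent.S15005

/-- Let C be a finite family of d curves, recorded as an incidence relation between a type of points and
a finite index type, such that any two distinct curves of the family meet in exactly h points; let
t_k be the number of k-fold points (points lying on exactly k curves of the family). Then f₂ − f₁ =
Σ_{k ≥ 2} k(k − 1) t_k equals h d(d − 1), where f_i = Σ_{k ≥ 2} k^i t_k. (The published statement is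
for a transversal arrangement of curves on a geometrically ruled surface with invariant e, all
numerically equivalent to a C₀ + b f, where any two of the curves meet transversally in h = 2ab −
a²e points; only this common pairwise intersection count enters the proof, and this row states the
identity for an abstract incidence relation.) -/
theorem result (P : Type u) (ι : Type v) [Fintype ι]
    (inc : P → ι → Prop) (h : ℕ)
    (hfin : ∀ i j : ι, i ≠ j → {p : P | inc p i ∧ inc p j}.Finite)
    (hcount : ∀ i j : ι, i ≠ j → {p : P | inc p i ∧ inc p j}.ncard = h) :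
    ∑ k ∈ Finset.Icc 2 (Fintype.card ι), k * (k - 1) * Nat.card {p : P // Nat.card {j : ι // inc p j} = k} =
      h * (Fintype.card ι * (Fintype.card ι - 1)) := by
  classical
  set R : P → Finset ι := fun p => Finset.univ.filter (fun j => inc p j) with hRdef
  have hr : ∀ p, Nat.card {j : ι // inc p j} = (R p).card := by
    intro p
    rw [Nat.card_eq_fintype_card, Fintype.card_subtype]
  simp only [hr]
  -- the finite set of multiple points
  have hMfin : {p : P | 2 ≤ (R p).card}.Finite := by
    apply Set.Finite.subset (s := ⋃ i : ι, ⋃ j : ι, ⋃ _ : i ≠ j, {p : P | inc p i ∧ inc p j})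
    · exact Set.finite_iUnion fun i => Set.finite_iUnion fun j => Set.finite_iUnion fun hij => hfin i j hij
    · intro p hp
      obtain ⟨a, ha, b, hb, hab⟩ := Finset.one_lt_card.mp (show 1 < (R p).card from hp)
      simp only [Set.mem_iUnion]
      refine ⟨a, b, hab, ?_, ?_⟩
      · simpa [hRdef] using ha
      · simpa [hRdef] using hb
  set Mf := hMfin.toFinset with hMf
  have hmemM : ∀ p, p ∈ Mf ↔ 2 ≤ (R p).card := by
    intro p; simp [hMf]
  have hpair : ∀ i j : ι, i ≠ j → ∀ p, inc p i → inc p j → p ∈ Mf := by
    intro i j hij p hi hj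
    rw [hmemM]
    apply Finset.one_lt_card.mpr
    exact ⟨i, by simp [hRdef, hi], j, by simp [hRdef, hj], hij⟩
  -- (1)
  have h1 : ∑ p ∈ Mf, (R p).card * ((R p).card - 1) =
      h * (Fintype.card ι * (Fintype.card ι - 1)) := by
    have e : ∀ p, (R p).card * ((R p).card - 1) =
        ∑ x ∈ (Finset.univ : Finset ι).offDiag, if (inc p x.1 ∧ inc p x.2) then 1 else 0 := by
      intro p
      rw [← Finset.card_filter, Nat.mul_sub_one, ← Finset.offDiag_card]
      congr 1
      ext x
      simp [Finset.mem_offDiag, hRdef]
      tauto
    rw [Finset.sum_congr rfl (fun p _ => e p), Finset.sum_comm]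
    have e2 : ∀ x ∈ (Finset.univ : Finset ι).offDiag,
        (∑ p ∈ Mf, if (inc p x.1 ∧ inc p x.2) then 1 else 0) = h := by
      intro x hx
      have hne : x.1 ≠ x.2 := by
        simp [Finset.mem_offDiag] at hx
        exact hx
      rw [← Finset.card_filter, ← hcount x.1 x.2 hne, ← Set.ncard_coe_finset]
      congr 1
      ext p
      simp only [Finset.coe_filter, Set.mem_setOf_eq]
      constructor
      · exact fun hp => hp.2
      · exact fun hp => ⟨hpair x.1 x.2 hne p hp.1 hp.2, hp⟩
    rw [Finset.sum_congr rfl e2, Finset.sum_const, Finset.offDiag_card, Finset.card_univ,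
      smul_eq_mul, Nat.mul_sub_one, mul_comm]
  rw [← h1]
  -- (2)
  have hmaps : ∀ p ∈ Mf, (R p).card ∈ Finset.Icc 2 (Fintype.card ι) := by
    intro p hp
    rw [Finset.mem_Icc]
    exact ⟨(hmemM p).mp hp, Finset.card_le_univ _⟩
  rw [← Finset.sum_fiberwise_of_maps_to hmaps]
  apply Finset.sum_congr rfl
  intro k hk
  rw [Finset.mem_Icc] at hk
  have e3 : ∀ p ∈ Mf.filter (fun p => (R p).card = k), (R p).card * ((R p).card - 1) = k * (k - 1) := by
    intro p hp
    rw [(Finset.mem_filter.mp hp).2]
  rw [Finset.sum_congr rfl e3, Finset.sum_const, smul_eq_mul, mul_comm]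
  congr 1
  have : Nat.card {p : P // (R p).card = k} = {p : P | (R p).card = k}.ncard :=
    Nat.card_coe_set_eq _
  rw [this, ← Set.ncard_coe_finset]
  congr 1
  ext p
  simp only [Finset.coe_filter, Set.mem_setOf_eq]
  constructor
  · intro hp
    exact ⟨(hmemM p).mpr (by omega), hp⟩
  · exact fun hp => hp.2

end Groth.Agent.S15005
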