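import Groth.Statements.S15006
import Mathlib
-- import your own Groth.Agent.* helpers here

set_option autoImplicit false
universe u v
open Harb

namespace Groth.Agent.S15006

/-- Let C be a finite family of d ≥ 2 curves, recorded as an incidence relation between a type of points
and a finite index type, such that any two distinct curves of the family meet in exactly h ≥ 1
points and no point lies on every curve of the family. Then f₀ ≥ d: the number of multiple points
(points lying on at least two of the curves) is at least the number of curves. (The published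
statement is for a transversal arrangement of d ≥ 4 curves on a geometrically ruled surface with
invariant e ≥ 4, all numerically equivalent to a C₀ + b f with a ≥ 1 and b ≥ ae and with no point
common to all of them, satisfying in addition either a ≥ 2, or a = 1 with some four of the curves
having no point in common, where any two of the curves meet transversally in h = 2ab − a²e ≥ 1
points; only d ≥ 2, h ≥ 1 and the absence of a common point enter the proof, and this row states the
bound for an abstract incidence relation.) -/
theorem result (P : Type u) (ι : Type v) [Fintype ι]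
    (inc : P → ι → Prop) (h : ℕ) (hh : 0 < h) (hd : 2 ≤ Fintype.card ι)
    (hfin : ∀ i j : ι, i ≠ j → {p : P | inc p i ∧ inc p j}.Finite)
    (hcount : ∀ i j : ι, i ≠ j → {p : P | inc p i ∧ inc p j}.ncard = h)
    (hnone : ∀ p : P, ∃ i : ι, ¬ inc p i) :
    Fintype.card ι ≤ Nat.card {p : P // 2 ≤ Nat.card {j : ι // inc p j}} := by
  classical
  set R : P → Finset ι := fun p => Finset.univ.filter (fun j => inc p j) with hRdef
  have hr : ∀ p, Nat.card {j : ι // inc p j} = (R p).card := by
    intro p
    rw [Nat.card_eq_fintype_card, Fintype.card_subtype]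
  simp only [hr]
  have hMfin : {p : P | 2 ≤ (R p).card}.Finite := by
    apply Set.Finite.subset (s := ⋃ i : ι, ⋃ j : ι, ⋃ _ : i ≠ j, {p : P | inc p i ∧ inc p j})
    · exact Set.finite_iUnion fun i => Set.finite_iUnion fun j => Set.finite_iUnion fun hij => hfin i j hij
    · intro p hp
      obtain ⟨a, ha, b, hb, hab⟩ := Finset.one_lt_card.mp (show 1 < (R p).card from hp)
      simp only [Set.mem_iUnion]
      refine ⟨a, b, hab, ?_, ?_⟩
      · simpa [hRdef] using ha
      · simpa [hRdef] using hb
  set Mf := hMfin.toFinset with hMf
  have hmemM : ∀ p, p ∈ Mf ↔ 2 ≤ (R p).card := by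
    intro p; simp [hMf]
  have hpair : ∀ i j : ι, i ≠ j → ∀ p, inc p i → inc p j → p ∈ Mf := by
    intro i j hij p hi hj
    rw [hmemM]
    apply Finset.one_lt_card.mpr
    exact ⟨i, by simp [hRdef, hi], j, by simp [hRdef, hj], hij⟩
  have hcard : Nat.card {p : P // 2 ≤ (R p).card} = Mf.card := by
    have : Nat.card {p : P // 2 ≤ (R p).card} = {p : P | 2 ≤ (R p).card}.ncard :=
      Nat.card_coe_set_eq _
    rw [this, Set.ncard_eq_toFinset_card _ hMfin]
  rw [hcard]
  -- Gram data
  set a : ι → ℕ := fun i => (Mf.filter (fun p => inc p i)).card with ha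
  have hg : ∀ i j : ι, i ≠ j → (Mf.filter (fun p => inc p i ∧ inc p j)).card = h := by
    intro i j hij
    rw [← hcount i j hij, ← Set.ncard_coe_finset]
    congr 1
    ext p
    simp only [Finset.coe_filter, Set.mem_setOf_eq]
    constructor
    · exact fun hp => hp.2
    · exact fun hp => ⟨hpair i j hij p hp.1 hp.2, hp⟩
  -- a_i > h
  have hai : ∀ i, h < a i := by
    intro i
    obtain ⟨j, hij⟩ : ∃ j, i ≠ j := by
      obtain ⟨x, y, hxy⟩ := Fintype.exists_pair_of_one_lt_card (α := ι) (by omega)
      by_cases hx : i = x
      · exact ⟨y, by rw [hx]; exact hxy⟩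
      · exact ⟨x, hx⟩
    have hle : h ≤ a i := by
      rw [← hg i j hij]
      apply Finset.card_le_card
      intro p hp
      simp only [Finset.mem_filter] at hp ⊢
      exact ⟨hp.1, hp.2.1⟩
    rcases Nat.lt_or_ge h (a i) with hlt | hge
    · exact hlt
    · exfalso
      have heq : a i = h := le_antisymm hge hle
      -- every point of A_i lies on every curve
      have hall : ∀ k, k ≠ i → ∀ p ∈ Mf.filter (fun p => inc p i), inc p k := by
        intro k hki p hp
        have hsub : Mf.filter (fun p => inc p i ∧ inc p k) ⊆ Mf.filter (fun p => inc p i) := by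
          intro p hp
          simp only [Finset.mem_filter] at hp ⊢
          exact ⟨hp.1, hp.2.1⟩
        have := Finset.eq_of_subset_of_card_le hsub (by rw [hg i k hki.symm]; exact heq.le)
        rw [← this] at hp
        exact (Finset.mem_filter.mp hp).2.2
      have hpos : 0 < (Mf.filter (fun p => inc p i)).card := by
        show 0 < a i
        omega
      obtain ⟨p, hp⟩ := Finset.card_pos.mp hpos
      obtain ⟨k, hk⟩ := hnone p
      have hki : k ≠ i := by
        rintro rfl
        exact hk (Finset.mem_filter.mp hp).2
      exact hk (hall k hki p hp)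
  -- linear independence of the incidence vectors
  let v : ι → (Mf → ℚ) := fun i p => if inc (p : P) i then 1 else 0
  have hli : LinearIndependent ℚ v := by
    rw [Fintype.linearIndependent_iff]
    intro c hc
    have hpt : ∀ p : Mf, ∑ i, c i * v i p = 0 := by
      intro p
      have := congrFun hc p
      simpa [Finset.sum_apply, Pi.smul_apply, smul_eq_mul] using this
    have hsq : ∑ p : Mf, (∑ i, c i * v i p) * (∑ j, c j * v j p) = 0 := by
      apply Finset.sum_eq_zero
      intro p _
      rw [hpt p, zero_mul]
    have hgram : ∀ i j : ι, ∑ p : Mf, v i p * v j p =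
        if i = j then (a i : ℚ) else (h : ℚ) := by
      intro i j
      have e1 : ∀ p : Mf, v i p * v j p = if (inc (p : P) i ∧ inc (p : P) j) then 1 else 0 := by
        intro p
        by_cases h1 : inc (p : P) i <;> by_cases h2 : inc (p : P) j <;> simp [v, h1, h2]
      rw [Finset.sum_congr rfl (fun p _ => e1 p)]
      rw [Finset.sum_boole]
      have e2 : (Finset.univ.filter (fun p : Mf => inc (p : P) i ∧ inc (p : P) j)).card =
          (Mf.filter (fun p => inc p i ∧ inc p j)).card := by
        rw [← Finset.card_map (Function.Embedding.subtype _)]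
        congr 1
        ext p
        simp only [Finset.mem_map, Finset.mem_filter, Finset.mem_univ, true_and,
          Function.Embedding.coe_subtype, Subtype.exists, exists_and_right, exists_eq_right]
        constructor
        · rintro ⟨⟨hp, h1⟩, h2⟩
          exact ⟨hp, h1, h2⟩
        · rintro ⟨hp, h1, h2⟩
          exact ⟨⟨hp, h1⟩, h2⟩
      rw [e2]
      split_ifs with hij
      · subst hij
        simp only [and_self]
        rfl
      · rw [hg i j hij]
    have hexp : ∑ p : Mf, (∑ i, c i * v i p) * (∑ j, c j * v j p) =
        (h : ℚ) * (∑ i, c i) ^ 2 + ∑ i, c i ^ 2 * ((a i : ℚ) - h) := by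
      have e3 : ∀ p : Mf, (∑ i, c i * v i p) * (∑ j, c j * v j p) =
          ∑ i, ∑ j, c i * c j * (v i p * v j p) := by
        intro p
        rw [Finset.sum_mul_sum]
        apply Finset.sum_congr rfl; intro i _
        apply Finset.sum_congr rfl; intro j _
        ring
      rw [Finset.sum_congr rfl (fun p _ => e3 p), Finset.sum_comm]
      have e4 : ∀ i, ∑ p : Mf, ∑ j, c i * c j * (v i p * v j p) =
          ∑ j, c i * c j * (if i = j then (a i : ℚ) else (h : ℚ)) := by
        intro i
        rw [Finset.sum_comm]
        apply Finset.sum_congr rfl; intro j _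
        rw [← Finset.mul_sum, hgram]
      rw [Finset.sum_congr rfl (fun i _ => e4 i)]
      have e5 : ∀ i j, c i * c j * (if i = j then (a i : ℚ) else (h : ℚ)) =
          (h : ℚ) * (c i * c j) + (if i = j then c i ^ 2 * ((a i : ℚ) - h) else 0) := by
        intro i j
        split_ifs with hij
        · subst hij; ring
        · ring
      simp only [e5, Finset.sum_add_distrib, Finset.sum_ite_eq, Finset.mem_univ, if_true]
      congr 1
      rw [sq, Finset.sum_mul_sum, Finset.mul_sum]
      apply Finset.sum_congr rfl; intro i _
      rw [Finset.mul_sum]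
    rw [hexp] at hsq
    have hnn1 : 0 ≤ (h : ℚ) * (∑ i, c i) ^ 2 := by positivity
    have hnn2 : ∀ i ∈ Finset.univ, 0 ≤ c i ^ 2 * ((a i : ℚ) - h) := by
      intro i _
      have : (h : ℚ) < a i := by exact_mod_cast hai i
      have : 0 ≤ (a i : ℚ) - h := by linarith
      positivity
    have hsum0 : ∑ i, c i ^ 2 * ((a i : ℚ) - h) = 0 := by
      have := Finset.sum_nonneg hnn2
      linarith
    intro i
    have := (Finset.sum_eq_zero_iff_of_nonneg hnn2).mp hsum0 i (Finset.mem_univ i)
    have hpos : (0 : ℚ) < (a i : ℚ) - h := by
      have : (h : ℚ) < a i := by exact_mod_cast hai i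
      linarith
    have : c i ^ 2 = 0 := by
      rcases mul_eq_zero.mp this with h1 | h1
      · exact h1
      · linarith
    exact pow_eq_zero_iff (two_ne_zero) |>.mp this
  have := hli.fintype_card_le_finrank
  simpa using this

end Groth.Agent.S15006
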