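import Groth.Statements.S15007
import Mathlib
-- import your own Groth.Agent.* helpers here

set_option autoImplicit false
universe u v
open Harb

namespace Groth.Agent.S15007

/-- Let C be a finite family of d ≥ 2 curves, recorded as an incidence relation between a type of points
and a finite index type, such that any two distinct curves of the family meet in exactly h ≥ 1
points and no point lies on every curve of the family. Then f₀ ≥ h + 2: the number of multiple
points (points lying on at least two of the curves) is at least h + 2. (The published claim reads f₀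
≥ 2ab − a²e + 2 for a transversal arrangement of d ≥ 4 curves on a geometrically ruled surface with
invariant e ≥ 4, all numerically equivalent to a C₀ + b f with a ≥ 1 and b ≥ ae and with no point
common to all of them, satisfying in addition either a ≥ 2, or a = 1 with some four of the curves
having no point in common, where any two of the curves meet transversally in h = 2ab − a²e ≥ 1
points; only d ≥ 2, h ≥ 1 and the absence of a common point enter the proof, and this row states the
bound for an abstract incidence relation.) -/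
theorem result (P : Type u) (ι : Type v) [Fintype ι]
    (inc : P → ι → Prop) (h : ℕ) (hh : 0 < h) (hd : 2 ≤ Fintype.card ι)
    (hfin : ∀ i j : ι, i ≠ j → {p : P | inc p i ∧ inc p j}.Finite)
    (hcount : ∀ i j : ι, i ≠ j → {p : P | inc p i ∧ inc p j}.ncard = h)
    (hnone : ∀ p : P, ∃ i : ι, ¬ inc p i) :
    h + 2 ≤ Nat.card {p : P // 2 ≤ Nat.card {j : ι // inc p j}} := by
  classical
  set R : P → Finset ι := fun p => Finset.univ.filter (fun j => inc p j) with hRdef
  have hr : ∀ p, Nat.card {j : ι // inc p j} = (R p).card := by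
    intro p
    rw [Nat.card_eq_fintype_card, Fintype.card_subtype]
  simp only [hr]
  have hMfin : {p : P | 2 ≤ (R p).card}.Finite := by
    apply Set.Finite.subset (s := ⋃ i : ι, ⋃ j : ι, ⋃ _ : i ≠ j, {p : P | inc p i ∧ inc p j})
    · exact Set.finite_iUnion fun i => Set.finite_iUnion fun j => Set.finite_iUnion fun hij => hfin i j hij
    · intro p hp
      obtain ⟨a, ha, b, hb, hab⟩ := Finset.one_lt_card.mp (show 1 < (R p).card from hp)
      simp only [Set.mem_iUnion]
      refine ⟨a, b, hab, ?_, ?_⟩
      · simpa [hRdef] using ha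
      · simpa [hRdef] using hb
  have hpair : ∀ i j : ι, i ≠ j → ∀ p, inc p i → inc p j → p ∈ {p : P | 2 ≤ (R p).card} := by
    intro i j hij p hi hj
    apply Finset.one_lt_card.mpr
    exact ⟨i, by simp [hRdef, hi], j, by simp [hRdef, hj], hij⟩
  have hcard : Nat.card {p : P // 2 ≤ (R p).card} = {p : P | 2 ≤ (R p).card}.ncard :=
    Nat.card_coe_set_eq _
  rw [hcard]
  -- two distinct curves
  obtain ⟨i1, i2, h12⟩ := Fintype.exists_pair_of_one_lt_card (α := ι) (by omega)
  -- a point on both
  have hne : {p : P | inc p i1 ∧ inc p i2}.Nonempty := by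
    rw [← Set.ncard_pos (hfin i1 i2 h12), hcount i1 i2 h12]
    exact hh
  obtain ⟨p, hp1, hp2⟩ := hne
  obtain ⟨i3, hp3⟩ := hnone p
  have h13 : i1 ≠ i3 := by rintro rfl; exact hp3 hp1
  have h23 : i2 ≠ i3 := by rintro rfl; exact hp3 hp2
  -- a point of T23 outside C_1
  have hq : ∃ q, inc q i2 ∧ inc q i3 ∧ ¬ inc q i1 := by
    by_contra hno
    push Not at hno
    have hsub : {q : P | inc q i2 ∧ inc q i3} ⊆ {q : P | inc q i1 ∧ inc q i2} :=
      fun q hq => ⟨hno q hq.1 hq.2, hq.1⟩
    have heq := Set.eq_of_subset_of_ncard_le hsub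
      (by rw [hcount i1 i2 h12, hcount i2 i3 h23]) (hfin i1 i2 h12)
    have : p ∈ {q : P | inc q i2 ∧ inc q i3} := by
      rw [heq]; exact ⟨hp1, hp2⟩
    exact hp3 this.2
  obtain ⟨q, hq2, hq3, hq1⟩ := hq
  have hpq : p ≠ q := by rintro rfl; exact hp3 hq3
  have hp13 : p ∉ {x : P | inc x i1 ∧ inc x i3} := fun hx => hp3 hx.2
  have hq13 : q ∉ {x : P | inc x i1 ∧ inc x i3} := fun hx => hq1 hx.1
  have hsub : insert p (insert q {x : P | inc x i1 ∧ inc x i3}) ⊆ {p : P | 2 ≤ (R p).card} := by
    intro x hx
    rcases hx with rfl | rfl | hx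
    · exact hpair i1 i2 h12 _ hp1 hp2
    · exact hpair i2 i3 h23 _ hq2 hq3
    · exact hpair i1 i3 h13 _ hx.1 hx.2
  have h1 := Set.ncard_le_ncard hsub hMfin
  have hfin13 := hfin i1 i3 h13
  rw [Set.ncard_insert_of_notMem (by
      intro hx
      rcases hx with rfl | hx
      · exact hpq rfl
      · exact hp13 hx) (hfin13.insert q),
    Set.ncard_insert_of_notMem hq13 hfin13, hcount i1 i3 h13] at h1
  exact h1

end Groth.Agent.S15007
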