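import Groth.Statements.S15013
import Groth.Agent.Lib.TorsionFree
import Mathlib.Algebra.Homology.ShortComplex.ModuleCat
import Mathlib.Algebra.Category.ModuleCat.Projective
import Mathlib.Algebra.Homology.DerivedCategory.Ext.EnoughProjectives
import Mathlib.Algebra.Homology.DerivedCategory.Ext.ExactSequences

set_option autoImplicit false
universe u
open CategoryTheory
open TFCurv

namespace Groth.Agent.S15013

/-- Let O be a one-dimensional Noetherian local domain with algebraically closed residue field whose
integral closure O~ in its fraction field K is a finite O-module, and let w be a canonical ideal of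
O, taken here as a nonzero finitely generated O-submodule of K whose injective dimension as an
O-module is at most one. Then Ext^i_O(M, w) vanishes for all i ≥ 1 and every finitely generated
torsion-free O-module M. -/
theorem result (O : Type u) [CommRing O] [IsDomain O] [IsNoetherianRing O] [IsLocalRing O] (hdim : ringKrullDim O = 1) [IsAlgClosed (IsLocalRing.ResidueField O)] (K : Type u) [Field K] [Algebra O K] [IsFractionRing O K] (hfin : Module.Finite O ↥(integralClosure O K)) (ω : Submodule O K) (hω0 : ω ≠ ⊥) (hωfg : ω.FG) (hωinj : HasInjectiveDimensionLT (ModuleCat.of O ↥ω) 2) (M : Type u) [AddCommGroup M] [Module O M] [Module.Finite O M] [NoZeroSMulDivisors O M] (i : ℕ) (hi : 1 ≤ i) : Subsingleton (Abelian.Ext (ModuleCat.of O M) (ModuleCat.of O ↥ω) i) := by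
  by_cases h2 : 2 ≤ i
  · exact HasInjectiveDimensionLT.subsingleton (ModuleCat.of O ↥ω) 2 i h2 (ModuleCat.of O M)
  · obtain rfl : i = 1 := by omega
    haveI : Module.IsTorsionFree O M :=
      Module.IsTorsionFree.of_smul_eq_zero (fun r m h => smul_eq_zero.1 h)
    obtain ⟨n, f, hf⟩ := Groth.Agent.Lib.exists_injective_of_isTorsionFree O M
    have hex : Function.Exact f (LinearMap.range f).mkQ := LinearMap.exact_map_mkQ_range f
    have hsurj : Function.Surjective (LinearMap.range f).mkQ := Submodule.mkQ_surjective _
    let S : ShortComplex (ModuleCat.{u} O) :=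
      ShortComplex.mk (ModuleCat.ofHom f) (ModuleCat.ofHom (LinearMap.range f).mkQ) (by
        apply ModuleCat.hom_ext
        apply LinearMap.ext
        intro y
        exact hex.apply_apply_eq_zero y)
    have hS : S.ShortExact :=
      { exact := (CategoryTheory.ShortComplex.ShortExact.moduleCat_exact_iff_function_exact S).2 hex
        mono_f := (ModuleCat.mono_iff_injective _).2 hf
        epi_g := (ModuleCat.epi_iff_surjective _).2 hsurj }
    suffices h : ∀ x : Abelian.Ext (ModuleCat.of O M) (ModuleCat.of O ↥ω) 1, x = 0 from
      ⟨fun x y => (h x).trans (h y).symm⟩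
    intro x₁
    have hx₁ : hS.extClass.comp (x₁ : Abelian.Ext S.X₁ (ModuleCat.of O ↥ω) 1)
        (rfl : 1 + 1 = 2) = 0 := by
      haveI := HasInjectiveDimensionLT.subsingleton (ModuleCat.of O ↥ω) 2 2 le_rfl S.X₃
      exact Subsingleton.elim _ _
    obtain ⟨x₂, hx₂⟩ := Abelian.Ext.contravariant_sequence_exact₁ hS _ x₁ rfl hx₁
    haveI : Projective S.X₂ := by
      show Projective (ModuleCat.of O (Fin n → O))
      infer_instance
    have h0 : x₂ = 0 := Abelian.Ext.eq_zero_of_projective x₂
    rw [← hx₂, h0, Abelian.Ext.comp_zero]

end Groth.Agent.S15013
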