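import Groth.Statements.S15015
import Mathlib
-- import your own Groth.Agent.* helpers here

set_option autoImplicit false
universe u
open TFCurv

namespace Groth.Agent.S15015

/-- Let k be an algebraically closed field and A ≠ k[[t]] a k-subalgebra of k[[t]] that is closed in the
t-adic topology, over which k[[t]] is a finite module, and such that every power series is carried
into A by multiplication with some nonzero element of A (so k[[t]] lies in the fraction field of A
and is its normalisation, as for the complete local ring of a unibranch curve singularity), and let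
Γ ⊆ ℕ be the set of t-orders of the nonzero elements of A (its value semigroup). Then ℕ ∖ Γ is
finite and the k-dimension of k[[t]]/A equals the number of gaps of Γ. -/
theorem result (k : Type u) [Field k] [IsAlgClosed k] (A : Subalgebra k (PowerSeries k)) (hA : Module.Finite ↥A (PowerSeries k)) (hcl : ∀ f : PowerSeries k, (∀ n : ℕ, ∃ g ∈ A, (n : ℕ∞) ≤ PowerSeries.order (f - g)) → f ∈ A) (hsing : A ≠ ⊤) (hbir : ∀ f : PowerSeries k, ∃ a ∈ A, a ≠ 0 ∧ a * f ∈ A) (Γ : Set ℕ) (hΓ : ∀ n : ℕ, n ∈ Γ ↔ ∃ f ∈ A, PowerSeries.order f = n) : Γᶜ.Finite ∧ Module.finrank k (PowerSeries k ⧸ Subalgebra.toSubmodule A) = Γᶜ.ncard := by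
  classical
  -- Step 1: a conductor
  obtain ⟨s, hs⟩ := Module.finite_def.mp hA
  choose! af haf using hbir
  set a := ∏ g ∈ s, af g with hadef
  have haA : a ∈ A := Subalgebra.prod_mem _ (fun g _ => (haf g).1)
  have ha0 : a ≠ 0 := Finset.prod_ne_zero_iff.mpr (fun g _ => (haf g).2.1)
  have hag : ∀ g ∈ s, a * g ∈ A := by
    intro g hg
    have : a = (∏ x ∈ s.erase g, af x) * af g := by rw [Finset.prod_erase_mul _ _ hg]
    rw [this, mul_assoc]
    exact A.mul_mem (Subalgebra.prod_mem _ (fun x _ => (haf x).1)) (haf g).2.2
  have hall : ∀ f : PowerSeries k, a * f ∈ A := by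
    intro f
    have hf : f ∈ Submodule.span ↥A (↑s : Set (PowerSeries k)) := by rw [hs]; trivial
    induction hf using Submodule.span_induction with
    | mem x hx => exact hag x hx
    | zero => rw [mul_zero]; exact A.zero_mem
    | add x y _ _ hx hy => rw [mul_add]; exact A.add_mem hx hy
    | smul b x _ hx =>
      have : a * (b • x) = (b : PowerSeries k) * (a * x) := by
        rw [Subalgebra.smul_def, smul_eq_mul]; ring
      rw [this]; exact A.mul_mem b.2 hx
  set m := (PowerSeries.order a).toNat with hmdef
  have hm : ∀ f : PowerSeries k, (m : ℕ∞) ≤ PowerSeries.order f → f ∈ A := by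
    intro f hf
    have hdvd : (PowerSeries.X : PowerSeries k) ^ m ∣ f := by
      rw [PowerSeries.X_pow_dvd_iff]
      intro i hi
      exact PowerSeries.coeff_of_lt_order i (lt_of_lt_of_le (by exact_mod_cast hi) hf)
    obtain ⟨f', rfl⟩ := hdvd
    obtain ⟨u, hu⟩ := PowerSeries.isUnit_divided_by_X_pow_order ha0
    have hau : a = (PowerSeries.X : PowerSeries k) ^ m * (↑u : PowerSeries k) := by
      rw [hu]; exact (PowerSeries.X_pow_order_mul_divXPowOrder (f := a)).symm
    have : (PowerSeries.X : PowerSeries k) ^ m * f' = a * (↑u⁻¹ * f') := by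
      rw [hau, mul_assoc, ← mul_assoc (↑u : PowerSeries k), Units.mul_inv, one_mul]
    rw [this]; exact hall _
  have hΓm : ∀ n, m ≤ n → n ∈ Γ := fun n hn =>
    (hΓ n).mpr ⟨PowerSeries.X ^ n, hm _ (by rw [PowerSeries.order_X_pow]; exact_mod_cast hn),
      PowerSeries.order_X_pow n⟩
  have hfin : Γᶜ.Finite := (Set.finite_lt_nat m).subset (fun n hn => by
    by_contra h
    exact hn (hΓm n (not_lt.mp h)))
  refine ⟨hfin, ?_⟩
  letI : Fintype ↥(Γᶜ) := hfin.fintype
  set W := Subalgebra.toSubmodule A with hW
  have hmemW : ∀ f, f ∈ W ↔ f ∈ A := fun f => Iff.rfl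
  let b : ↥(Γᶜ) → (PowerSeries k ⧸ W) := fun g =>
    Submodule.Quotient.mk ((PowerSeries.X : PowerSeries k) ^ (g : ℕ))
  -- linear independence
  have hli : LinearIndependent k b := by
    rw [Fintype.linearIndependent_iff]
    intro c hc i
    by_contra hci
    set F : PowerSeries k := ∑ g : ↥(Γᶜ), c g • (PowerSeries.X : PowerSeries k) ^ (g : ℕ) with hF
    have hFA : F ∈ A := by
      have h0 : W.mkQ F = ∑ g, c g • b g := by
        rw [hF, map_sum]
        apply Finset.sum_congr rfl
        intro g _
        rw [map_smul]
        rfl
      rw [← hmemW]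
      exact (Submodule.Quotient.mk_eq_zero W).mp (h0.trans hc)
    have hcoeff : ∀ n, PowerSeries.coeff n F =
        ∑ g : ↥(Γᶜ), c g * (if n = (g : ℕ) then 1 else 0) := by
      intro n
      rw [hF, map_sum]
      apply Finset.sum_congr rfl
      intro g _
      rw [PowerSeries.coeff_smul, PowerSeries.coeff_X_pow, smul_eq_mul]
    have hc1 : ∀ n, n ∉ Γᶜ → PowerSeries.coeff n F = 0 := by
      intro n hn
      rw [hcoeff]
      apply Finset.sum_eq_zero
      intro g _
      have : n ≠ (g : ℕ) := by
        rintro rfl
        exact hn g.2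
      rw [if_neg this, mul_zero]
    have hc2 : PowerSeries.coeff (i : ℕ) F = c i := by
      rw [hcoeff, Finset.sum_eq_single i]
      · simp
      · intro g _ hgi
        have : (i : ℕ) ≠ (g : ℕ) := fun h => hgi (Subtype.ext h.symm)
        rw [if_neg this, mul_zero]
      · intro h; exact absurd (Finset.mem_univ i) h
    have hF0 : F ≠ 0 := by
      intro h
      rw [h] at hc2
      simp at hc2
      exact hci hc2.symm
    have h1 := PowerSeries.coeff_order hF0
    have h2 : (PowerSeries.order F).toNat ∈ Γᶜ := by
      by_contra h
      exact h1 (hc1 _ h)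
    exact h2 ((hΓ _).mpr ⟨F, hFA,
      (ENat.coe_toNat (ne_of_lt (PowerSeries.order_finite_iff_ne_zero.mpr hF0))).symm⟩)
  -- spanning
  have key : ∀ j : ℕ, ∀ f : PowerSeries k, ((m - j : ℕ) : ℕ∞) ≤ PowerSeries.order f →
      (Submodule.Quotient.mk f : PowerSeries k ⧸ W) ∈ Submodule.span k (Set.range b) := by
    intro j
    induction j with
    | zero =>
      intro f hf
      have : f ∈ W := (hmemW f).mpr (hm f (by simpa using hf))
      rw [(Submodule.Quotient.mk_eq_zero W).mpr this]
      exact zero_mem _
    | succ j ih =>
      intro f hf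
      by_cases hlt : ((m - j : ℕ) : ℕ∞) ≤ PowerSeries.order f
      · exact ih f hlt
      · have hjm : j < m := by
          by_contra h
          apply hlt
          rw [show m - j = 0 by omega]
          simp
        obtain ⟨n, hn⟩ : ∃ n, n = m - (j + 1) := ⟨_, rfl⟩
        have hn1 : m - j = n + 1 := by omega
        rw [← hn] at hf
        rw [hn1] at hlt ih
        have hord : PowerSeries.order f = n := by
          apply le_antisymm _ hf
          push Not at hlt
          exact Order.le_of_lt_add_one (by exact_mod_cast hlt)
        set lam := PowerSeries.coeff n f with hlam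
        by_cases hnΓ : n ∈ Γ
        · obtain ⟨a', ha'A, ha'o⟩ := (hΓ n).mp hnΓ
          have hμ : PowerSeries.coeff n a' ≠ 0 := (PowerSeries.order_eq_nat.mp ha'o).1
          have hf' : ((n + 1 : ℕ) : ℕ∞) ≤
              PowerSeries.order (f - (lam / PowerSeries.coeff n a') • a') := by
            apply PowerSeries.nat_le_order
            intro i hi
            rw [map_sub, PowerSeries.coeff_smul]
            rcases Nat.lt_succ_iff_lt_or_eq.mp hi with hi' | rfl
            · rw [PowerSeries.coeff_of_lt_order i (by rw [hord]; exact_mod_cast hi'),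
                PowerSeries.coeff_of_lt_order i (by rw [ha'o]; exact_mod_cast hi')]
              simp
            · rw [← hlam, smul_eq_mul, div_mul_cancel₀ _ hμ, sub_self]
          have h3 := ih _ hf'
          have e : (Submodule.Quotient.mk f : PowerSeries k ⧸ W) =
              Submodule.Quotient.mk (f - (lam / PowerSeries.coeff n a') • a') := by
            rw [Submodule.Quotient.eq]
            have : f - (f - (lam / PowerSeries.coeff n a') • a') =
                (lam / PowerSeries.coeff n a') • a' := by ring
            rw [this, hmemW]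
            exact A.smul_mem ha'A _
          rw [e]; exact h3
        · have hf' : ((n + 1 : ℕ) : ℕ∞) ≤
              PowerSeries.order (f - lam • (PowerSeries.X : PowerSeries k) ^ n) := by
            apply PowerSeries.nat_le_order
            intro i hi
            rw [map_sub, PowerSeries.coeff_smul, PowerSeries.coeff_X_pow]
            rcases Nat.lt_succ_iff_lt_or_eq.mp hi with hi' | rfl
            · rw [PowerSeries.coeff_of_lt_order i (by rw [hord]; exact_mod_cast hi'),
                if_neg (by omega)]
              simp
            · rw [if_pos rfl, ← hlam, smul_eq_mul, mul_one, sub_self]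
          have h3 := ih _ hf'
          have e : (Submodule.Quotient.mk f : PowerSeries k ⧸ W) =
              Submodule.Quotient.mk (f - lam • (PowerSeries.X : PowerSeries k) ^ n) +
                lam • b ⟨n, hnΓ⟩ := by
            simp only [b]
            rw [← Submodule.Quotient.mk_smul, ← Submodule.Quotient.mk_add]
            congr 1
            ring
          rw [e]
          exact add_mem h3 (Submodule.smul_mem _ _ (Submodule.subset_span ⟨_, rfl⟩))
  have hspan : ⊤ ≤ Submodule.span k (Set.range b) := by
    intro v _
    obtain ⟨f, rfl⟩ := Submodule.Quotient.mk_surjective W v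
    exact key m f (by simp)
  rw [Module.finrank_eq_card_basis (Module.Basis.mk hli hspan), ← Nat.card_eq_fintype_card,
    Nat.card_coe_set_eq]

end Groth.Agent.S15015
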