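import Groth.Statements.S15016
import Mathlib
-- import your own Groth.Agent.* helpers here

set_option autoImplicit false
universe u
open TFCurv

namespace Groth.Agent.S15016

/-- Let k be an algebraically closed field and A ≠ k[[t]] a k-subalgebra of k[[t]] that is closed in the
t-adic topology and over which k[[t]] is a finite module (as for the complete local ring of a
unibranch curve singularity inside its normalisation), and let Γ ⊆ ℕ be the set of t-orders of the
nonzero elements of A (its value semigroup); let c be the conductor of Γ, so that every n ≥ c lies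
in Γ and c − 1 does not. Then for a power series f, f · k[[t]] ⊆ A holds exactly when the order of f
is at least c: the conductor of A in k[[t]] is t^c · k[[t]], of codimension c. -/
theorem result (k : Type u) [Field k] [IsAlgClosed k] (A : Subalgebra k (PowerSeries k)) (hA : Module.Finite ↥A (PowerSeries k)) (hcl : ∀ f : PowerSeries k, (∀ n : ℕ, ∃ g ∈ A, (n : ℕ∞) ≤ PowerSeries.order (f - g)) → f ∈ A) (hsing : A ≠ ⊤) (Γ : Set ℕ) (hΓ : ∀ n : ℕ, n ∈ Γ ↔ ∃ f ∈ A, PowerSeries.order f = n) (c : ℕ) (hc : ∀ n : ℕ, c ≤ n → n ∈ Γ) (hc0 : c ≠ 0) (hc1 : c - 1 ∉ Γ) (f : PowerSeries k) : (∀ g : PowerSeries k, g * f ∈ A) ↔ (c : ℕ∞) ≤ PowerSeries.order f := by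
  have hbig : ∀ h : PowerSeries k, (c : ℕ∞) ≤ PowerSeries.order h → h ∈ A := by
    intro h hh
    apply hcl
    have key : ∀ n : ℕ, ∃ g ∈ A, (n : ℕ∞) ≤ PowerSeries.order (h - g) ∧
        (c : ℕ∞) ≤ PowerSeries.order (h - g) := by
      intro n
      induction n with
      | zero => exact ⟨0, A.zero_mem, by simp, by simpa using hh⟩
      | succ n ih =>
        obtain ⟨g, hg, h1, h2⟩ := ih
        by_cases hlt : ((n + 1 : ℕ) : ℕ∞) ≤ PowerSeries.order (h - g)
        · exact ⟨g, hg, hlt, h2⟩
        · have heq : PowerSeries.order (h - g) = n := by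
            apply le_antisymm _ h1
            push Not at hlt
            exact Order.le_of_lt_add_one (by exact_mod_cast hlt)
          have hcn : c ≤ n := by
            rw [heq] at h2
            exact_mod_cast h2
          obtain ⟨a, haA, hao⟩ := (hΓ n).mp (hc n hcn)
          have hμ : PowerSeries.coeff n a ≠ 0 := by
            have := (PowerSeries.order_eq_nat.mp hao).1
            exact this
          set lam := PowerSeries.coeff n (h - g) with hlam
          set μ := PowerSeries.coeff n a with hμdef
          refine ⟨g + (lam / μ) • a, A.add_mem hg (A.smul_mem haA _), ?_⟩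
          have hord : ((n + 1 : ℕ) : ℕ∞) ≤ PowerSeries.order (h - (g + (lam / μ) • a)) := by
            apply PowerSeries.nat_le_order
            intro i hi
            have e : h - (g + (lam / μ) • a) = (h - g) - (lam / μ) • a := by ring
            rw [e, map_sub, PowerSeries.coeff_smul]
            rcases Nat.lt_succ_iff_lt_or_eq.mp hi with hi' | rfl
            · rw [PowerSeries.coeff_of_lt_order i (by rw [heq]; exact_mod_cast hi'),
                PowerSeries.coeff_of_lt_order i (by rw [hao]; exact_mod_cast hi')]
              simp
            · rw [← hlam, ← hμdef]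
              rw [smul_eq_mul, div_mul_cancel₀ _ hμ, sub_self]
          refine ⟨hord, le_trans ?_ hord⟩
          exact_mod_cast (by omega : c ≤ n + 1)
    intro n
    obtain ⟨g, hg, h1, _⟩ := key n
    exact ⟨g, hg, h1⟩
  constructor
  · intro h
    by_contra hlt
    push Not at hlt
    have hf0 : f ≠ 0 := by
      rintro rfl
      simp at hlt
    obtain ⟨m, hm⟩ : ∃ m : ℕ, PowerSeries.order f = m := by
      have := PowerSeries.order_finite_iff_ne_zero.mpr hf0
      exact ⟨(PowerSeries.order f).toNat, (ENat.coe_toNat (ne_of_lt this)).symm⟩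
    have hmc : m < c := by
      rw [hm] at hlt
      exact_mod_cast hlt
    apply hc1
    rw [hΓ]
    refine ⟨PowerSeries.X ^ (c - 1 - m) * f, h _, ?_⟩
    rw [PowerSeries.order_mul, PowerSeries.order_X_pow, hm]
    norm_cast
    omega
  · intro hcf g
    apply hbig
    rw [PowerSeries.order_mul]
    exact le_trans hcf le_add_self

end Groth.Agent.S15016
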