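import Groth.Statements.S15017
-- import your own Groth.Agent.* helpers here

set_option autoImplicit false
open TFCurv

namespace Groth.Agent.S15017

/-- Let Γ be a numerical semigroup (a submonoid of (ℕ, +) with finite complement), Γ ≠ ℕ, with conductor
c (every n ≥ c lies in Γ, c − 1 does not). If Γ is symmetric (for x < c, x is a gap exactly when c −
1 − x ∈ Γ) and has multiplicity greater than 2 (neither 1 nor 2 lies in Γ), then Γ is generated by
its elements smaller than c: every minimal generator of Γ is less than the conductor. -/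
theorem result (Γ : AddSubmonoid ℕ) (c : ℕ) (hc : ∀ n : ℕ, c ≤ n → n ∈ Γ) (hc0 : c ≠ 0) (hc1 : c - 1 ∉ Γ) (hsymm : ∀ x : ℕ, x < c → (x ∉ Γ ↔ c - 1 - x ∈ Γ)) (he : (1 : ℕ) ∉ Γ ∧ (2 : ℕ) ∉ Γ) : AddSubmonoid.closure {γ : ℕ | γ ∈ Γ ∧ γ < c} = Γ := by
  obtain ⟨he1, he2⟩ := he
  have c1 : 1 < c := by
    by_contra h
    exact he1 (hc 1 (by omega))
  have c2 : 2 < c := by
    by_contra h
    exact he2 (hc 2 (by omega))
  have h2 : c - 2 ∈ Γ := by
    have := (hsymm 1 c1).mp he1
    rwa [show c - 1 - 1 = c - 2 by omega] at this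
  have h3 : c - 3 ∈ Γ := by
    have := (hsymm 2 c2).mp he2
    rwa [show c - 1 - 2 = c - 3 by omega] at this
  -- decomposition lemma
  have dec : ∀ n, c ≤ n → ∃ a b, a ∈ Γ ∧ b ∈ Γ ∧ a ≠ 0 ∧ b ≠ 0 ∧ a + b = n := by
    intro n hn
    by_contra hno
    push Not at hno
    obtain ⟨j, hj⟩ : ∃ j, n = c - 1 + j := ⟨n - (c - 1), by omega⟩
    have hj1 : 1 ≤ j := by omega
    -- (i)
    have hi : ∀ a, a ∈ Γ → a ≠ 0 → a < c → j ≤ a ∧ a - j ∈ Γ := by
      intro a ha ha0 hac
      have hja : j ≤ a := by
        by_contra hlt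
        exact hno a (n - a) ha (hc _ (by omega)) ha0 (by omega) (by omega)
      refine ⟨hja, ?_⟩
      by_contra hg
      have hb : c - 1 - (a - j) ∈ Γ := (hsymm (a - j) (by omega)).mp hg
      exact hno a (c - 1 - (a - j)) ha hb ha0 (by omega) (by omega)
    -- (ii)
    have hii : ∀ a, a ∈ Γ → a < c → j ∣ a := by
      intro a
      induction a using Nat.strong_induction_on with
      | _ a ih =>
        intro ha hac
        by_cases ha0 : a = 0
        · subst ha0; exact dvd_zero _
        · obtain ⟨hja, hmem⟩ := hi a ha ha0 hac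
          have := ih (a - j) (by omega) hmem (by omega)
          have e : a = (a - j) + j := by omega
          rw [e]
          exact Nat.dvd_add this (Nat.dvd_refl j)
    have d2 := hii (c - 2) h2 (by omega)
    have d3 := hii (c - 3) h3 (by omega)
    have d1 : j ∣ 1 := by
      have := (Nat.dvd_sub d2 d3)
      rwa [show c - 2 - (c - 3) = 1 by omega] at this
    have hj' : j = 1 := Nat.dvd_one.mp d1
    subst hj'
    have down : ∀ k, k ≤ c - 3 → c - 2 - k ∈ Γ := by
      intro k
      induction k with
      | zero => intro _; simpa using h2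
      | succ k ih =>
        intro hk
        have h := ih (by omega)
        have := (hi (c - 2 - k) h (by omega) (by omega)).2
        rwa [show c - 2 - k - 1 = c - 2 - (k + 1) by omega] at this
    have := down (c - 3) le_rfl
    rw [show c - 2 - (c - 3) = 1 by omega] at this
    exact he1 this
  apply le_antisymm
  · exact AddSubmonoid.closure_le.mpr (fun x hx => hx.1)
  · intro n
    induction n using Nat.strong_induction_on with
    | _ n ih =>
      intro hn
      by_cases hlt : n < c
      · exact AddSubmonoid.subset_closure ⟨hn, hlt⟩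
      · obtain ⟨a, b, ha, hb, ha0, hb0, hab⟩ := dec n (not_lt.mp hlt)
        rw [← hab]
        exact AddSubmonoid.add_mem _ (ih a (by omega) ha) (ih b (by omega) hb)

end Groth.Agent.S15017
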