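import Groth.Statements.S15018
-- import your own Groth.Agent.* helpers here

set_option autoImplicit false
open TFCurv

namespace Groth.Agent.S15018

/-- Let Γ be a numerical semigroup (a submonoid of (ℕ, +) with finite complement), Γ ≠ ℕ, with conductor
c (every n ≥ c lies in Γ, c − 1 does not). Then Γ is symmetric (for x < c, x is a gap exactly when c
− 1 − x ∈ Γ) if and only if there is exactly one gap n of Γ such that Γ ∪ {n} is again stable under
adding elements of Γ, i.e. n + γ ∈ Γ for every nonzero γ ∈ Γ. -/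
theorem result (Γ : AddSubmonoid ℕ) (c : ℕ) (hc : ∀ n : ℕ, c ≤ n → n ∈ Γ) (hc0 : c ≠ 0) (hc1 : c - 1 ∉ Γ) : (∀ x : ℕ, x < c → (x ∉ Γ ↔ c - 1 - x ∈ Γ)) ↔ ∃! n : ℕ, n ∉ Γ ∧ ∀ γ : ℕ, γ ∈ Γ → γ ≠ 0 → n + γ ∈ Γ := by
  have hF : c - 1 ∉ Γ ∧ ∀ γ : ℕ, γ ∈ Γ → γ ≠ 0 → c - 1 + γ ∈ Γ :=
    ⟨hc1, fun γ _ hγ0 => hc _ (by omega)⟩
  constructor
  · intro hsymm
    refine ⟨c - 1, hF, ?_⟩
    rintro n ⟨hn, hnadd⟩
    have hnc : n < c := by
      by_contra h
      exact hn (hc _ (not_lt.mp h))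
    have h1 : c - 1 - n ∈ Γ := (hsymm n hnc).mp hn
    by_contra hne
    have h2 := hnadd (c - 1 - n) h1 (by omega)
    have e : n + (c - 1 - n) = c - 1 := by omega
    rw [e] at h2
    exact hc1 h2
  · rintro ⟨n, _, huniq⟩
    have hu : ∀ y, (y ∉ Γ ∧ ∀ γ : ℕ, γ ∈ Γ → γ ≠ 0 → y + γ ∈ Γ) → y = c - 1 := by
      intro y hy
      rw [huniq y hy, huniq (c - 1) hF]
    have key : ∀ d x, c - x = d → x < c → x ∉ Γ → c - 1 - x ∈ Γ := by
      intro d
      induction d using Nat.strong_induction_on with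
      | _ d ih =>
        intro x hd hx hxΓ
        by_cases hp : ∀ γ : ℕ, γ ∈ Γ → γ ≠ 0 → x + γ ∈ Γ
        · have : x = c - 1 := hu x ⟨hxΓ, hp⟩
          rw [this, Nat.sub_self]
          exact Γ.zero_mem
        · push Not at hp
          obtain ⟨γ, hγ, hγ0, hxγ⟩ := hp
          have hlt : x + γ < c := by
            by_contra h
            exact hxγ (hc _ (not_lt.mp h))
          have h3 := ih (c - (x + γ)) (by omega) (x + γ) rfl hlt hxγ
          have e : c - 1 - x = (c - 1 - (x + γ)) + γ := by omega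
          rw [e]
          exact Γ.add_mem h3 hγ
    intro x hx
    constructor
    · exact key _ x rfl hx
    · intro h hxΓ
      have := Γ.add_mem hxΓ h
      have e : x + (c - 1 - x) = c - 1 := by omega
      rw [e] at this
      exact hc1 this

end Groth.Agent.S15018
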