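import Groth.Statements.S15019
import Mathlib
-- import your own Groth.Agent.* helpers here

set_option autoImplicit false
open TFCurv

namespace Groth.Agent.S15019


theorem aux (e : ℕ) (T : Set ℕ) (h0 : ∀ n ∈ T, n % e ≠ 0)
    (hinj : ∀ n ∈ T, ∀ n' ∈ T, n < n' → n % e ≠ n' % e) (he0 : e ≠ 0) :
    T.encard ≤ ((e - 1 : ℕ) : ℕ∞) := by
  have h1 : T.encard ≤ ((Finset.Ico 1 e : Finset ℕ) : Set ℕ).encard := by
    apply Set.encard_le_encard_of_injOn (f := fun n => n % e)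
    · intro n hn
      simp only [Finset.coe_Ico, Set.mem_Ico]
      exact ⟨Nat.one_le_iff_ne_zero.mpr (h0 n hn), Nat.mod_lt _ (Nat.pos_of_ne_zero he0)⟩
    · intro n hn n' hn' heq
      simp only at heq
      rcases lt_trichotomy n n' with h | h | h
      · exact absurd heq (hinj n hn n' hn' h)
      · exact h
      · exact absurd heq.symm (hinj n' hn' n hn h)
  rw [Set.encard_coe_eq_coe_finsetCard, Nat.card_Ico] at h1
  exact h1

/-- Let Γ be a numerical semigroup (a submonoid of (ℕ, +) with finite complement), Γ ≠ ℕ, with conductor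
c (every n ≥ c lies in Γ, c − 1 does not), let e be its multiplicity (the least nonzero element of
Γ), and let S ⊆ ℕ be a Γ-module in normal form: 0 ∈ S and γ + s ∈ S for all γ ∈ Γ, s ∈ S. Then the
set of gaps n of S with S ∪ {n} again a Γ-module (n + γ ∈ S for every nonzero γ ∈ Γ) has at most e −
1 elements, and so does the set of nonzero s ∈ S with S ∖ {s} again a Γ-module (s − γ ∉ S for every
nonzero γ ∈ Γ with γ ≤ s). -/
theorem result (Γ : AddSubmonoid ℕ) (c : ℕ) (hc : ∀ n : ℕ, c ≤ n → n ∈ Γ) (hc0 : c ≠ 0) (hc1 : c - 1 ∉ Γ) (e : ℕ) (he : e ∈ Γ) (he0 : e ≠ 0) (hemin : ∀ γ : ℕ, γ ∈ Γ → γ ≠ 0 → e ≤ γ) (S : Set ℕ) (hS0 : (0 : ℕ) ∈ S) (hS : ∀ γ : ℕ, γ ∈ Γ → ∀ s : ℕ, s ∈ S → γ + s ∈ S) : {n : ℕ | n ∉ S ∧ ∀ γ : ℕ, γ ∈ Γ → γ ≠ 0 → n + γ ∈ S}.encard ≤ ((e - 1 : ℕ) : ℕ∞) ∧ {s : ℕ | s ∈ S ∧ s ≠ 0 ∧ ∀ γ : ℕ, γ ∈ Γ → γ ≠ 0 → γ ≤ s → s - γ ∉ S}.encard ≤ ((e - 1 : ℕ) : ℕ∞) := by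
  have hΓS : ∀ γ, γ ∈ Γ → γ ∈ S := by
    intro γ hγ
    have := hS γ hγ 0 hS0
    simpa using this
  have hke : ∀ k : ℕ, k * e ∈ Γ := by
    intro k
    have := Γ.nsmul_mem he k
    simpa [smul_eq_mul] using this
  constructor
  · apply aux e _ _ _ he0
    · rintro n ⟨hn, _⟩ hmod
      obtain ⟨k, hk⟩ := Nat.dvd_of_mod_eq_zero hmod
      apply hn
      rw [hk, mul_comm]
      exact hΓS _ (hke k)
    · rintro n ⟨_, hn⟩ n' ⟨hn', _⟩ hlt heq
      have hmod : (n' - n) % e = 0 := Nat.sub_mod_eq_zero_of_mod_eq heq.symm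
      obtain ⟨k, hk⟩ := Nat.dvd_of_mod_eq_zero hmod
      have hk0 : k ≠ 0 := by
        rintro rfl
        omega
      have := hn (k * e) (hke k) (Nat.mul_ne_zero hk0 he0)
      apply hn'
      have e1 : n' = n + k * e := by
        rw [mul_comm]; omega
      rw [e1]; exact this
  · apply aux e _ _ _ he0
    · rintro s ⟨hs, hs0, hs'⟩ hmod
      obtain ⟨k, hk⟩ := Nat.dvd_of_mod_eq_zero hmod
      have hk0 : k ≠ 0 := by
        rintro rfl
        exact hs0 (by simpa using hk)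
      have := hs' (k * e) (hke k) (Nat.mul_ne_zero hk0 he0) (by rw [hk, mul_comm])
      apply this
      rw [hk, mul_comm, Nat.sub_self]
      exact hS0
    · rintro s ⟨hs, _, _⟩ s' ⟨_, _, hs'⟩ hlt heq
      have hmod : (s' - s) % e = 0 := Nat.sub_mod_eq_zero_of_mod_eq heq.symm
      obtain ⟨k, hk⟩ := Nat.dvd_of_mod_eq_zero hmod
      have hk0 : k ≠ 0 := by
        rintro rfl
        omega
      have hle : k * e ≤ s' := by
        rw [mul_comm, ← hk]; omega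
      have := hs' (k * e) (hke k) (Nat.mul_ne_zero hk0 he0) hle
      apply this
      have e1 : s' - k * e = s := by
        rw [mul_comm, ← hk]; omega
      rw [e1]; exact hs

end Groth.Agent.S15019
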