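import Groth.Statements.S6935
import Groth.Agent.Lib.Helper6.PCm4

set_option autoImplicit false
universe u
open CategoryTheory CategoryTheory.Limits
attribute [local instance] HasDerivedCategory.standard
open DRing

namespace Groth.Agent.S6935

/-- Let R be a commutative ring and M an R-module, viewed as the complex M[0] in D(R). Then M[0] is
0-pseudo-coherent exactly when M is finitely generated over R, and M[0] is (-1)-pseudo-coherent
exactly when M admits a finite presentation over R. -/
theorem result (R : Type u) [CommRing R]
    (M : Type u) [AddCommGroup M] [Module R M] :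
    (DRing.IsPseudoCoherentModule R 0 M ↔ Module.Finite R M) ∧
      (DRing.IsPseudoCoherentModule R (-1) M ↔ Module.FinitePresentation R M) := by
  have hvan : ∀ i : ℤ, 0 < i → Limits.IsZero
      ((DerivedCategory.homologyFunctor (ModuleCat.{u} R) i).obj (Dual.inD R M)) :=
    fun i hi => DerivedCategory.isZero_of_isLE (Dual.inD R M) 0 i hi
  let e : ((DerivedCategory.homologyFunctor (ModuleCat.{u} R) 0).obj (Dual.inD R M)) ≃ₗ[R] M :=
    ((DerivedCategory.singleFunctorCompHomologyFunctorIso (ModuleCat.{u} R) 0).app
      (ModuleCat.of R M)).toLinearEquiv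
  refine ⟨⟨fun h => ?_, fun h => ?_⟩, ⟨fun h => ?_, fun h => ?_⟩⟩
  · have h' : Groth.Agent.Helper6.PCm.IsPC 0 (Dual.inD R M) := h
    haveI := Groth.Agent.Helper6.PCm.finite_of_isPC h' hvan
    exact Module.Finite.equiv e
  · haveI : Module.Finite R (ModuleCat.of R M) := h
    exact Groth.Agent.Helper6.PCm.isPC_single_of_finite (ModuleCat.of R M)
  · have h' : Groth.Agent.Helper6.PCm.IsPC (-1) (Dual.inD R M) := h
    haveI := Groth.Agent.Helper6.PCm.finitePresentation_of_isPC' (m' := 0) (by norm_num) h' hvan
    exact Module.FinitePresentation.of_equiv e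
  · haveI : Module.FinitePresentation R (ModuleCat.of R M) := h
    exact Groth.Agent.Helper6.PCm.isPC_single_of_fp (ModuleCat.of R M)

end Groth.Agent.S6935
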