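import Groth.Statements.S7168
import Mathlib
import Groth.Agent.S6935
import Groth.Agent.Lib.Helper6.PCm8

set_option autoImplicit false
universe u
attribute [local instance] HasDerivedCategory.standard
open FlatMor

namespace Groth.Agent.S7168

theorem fp_of_pc (A B : Type u) [CommRing A] [CommRing B] [Algebra A B]
    (h : MoreMor.IsPseudoCoherentHom A B) : Algebra.FinitePresentation A B := by
  obtain ⟨n, φ, hφ, hpc⟩ := h
  letI : Algebra (MvPolynomial (Fin n) A) B := φ.toRingHom.toAlgebra
  have h1 : Groth.Agent.Helper6.PCm.IsPC (-1) (Dual.inD (MvPolynomial (Fin n) A) B) :=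
    (Groth.Agent.Helper6.PCm.forall_isPC_iff_rep _).2 hpc (-1)
  haveI hfp : Module.FinitePresentation (MvPolynomial (Fin n) A) B :=
    (Groth.Agent.S6935.result (MvPolynomial (Fin n) A) B).2.1 h1
  have hsurj : Function.Surjective (Algebra.linearMap (MvPolynomial (Fin n) A) B) := hφ
  have hker := Module.FinitePresentation.fg_ker (Algebra.linearMap (MvPolynomial (Fin n) A) B) hsurj
  refine ⟨n, φ, hφ, ?_⟩
  have e : RingHom.ker φ.toRingHom =
      LinearMap.ker (Algebra.linearMap (MvPolynomial (Fin n) A) B) := by
    ext x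
    rfl
  rw [e]
  exact hker


open AlgebraicGeometry CategoryTheory Limits in
/-- A pseudo-coherent morphism of schemes is locally of finite presentation. -/
theorem result {X S : Scheme.{u}} (f : X ⟶ S) (hf : MoreMor.IsPseudoCoherentMor f) :
    LocallyOfFinitePresentation f := by
  rw [HasRingHomProperty.iff_appLE (P := @LocallyOfFinitePresentation)]
  intro U V e
  have h1 := hf V.1 U.1 V.2 U.2 e
  letI := (f.appLE U.1 V.1 e).hom.toAlgebra
  exact fp_of_pc _ _ h1

end Groth.Agent.S7168
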