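import Groth.Statements.S15036
import Mathlib
-- import your own Groth.Agent.* helpers here

set_option autoImplicit false
open TFCurv

namespace Groth.Agent.S15036

/-- Let Γ be a numerical semigroup (a submonoid of (ℕ, +) with finite complement), Γ ≠ ℕ, with conductor
c (every n ≥ c lies in Γ, c − 1 does not); let S ⊆ ℕ be a Γ-module in normal form (0 ∈ S, γ + s ∈ S
for γ ∈ Γ, s ∈ S) with conductor c(S) (all n ≥ c(S) in S, c(S) − 1 ∉ S), and let s be a gap of S
such that S ∪ {s} is again a Γ-module. Enumerate S increasingly as s_0 < s_1 < ⋯ and put τ_i(S) =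
s_i + ℓ(S), where ℓ counts the gaps of Γ filled; since ℓ(S ∪ {s}) = ℓ(S) + 1, the termwise
comparison τ(S) ≤ τ(S ∪ {s}) says that the i-th element of S is at most one more than the i-th
element of S ∪ {s} for every i. This holds if and only if s = c(S) − 1, the largest gap of S. -/
theorem result (Γ : AddSubmonoid ℕ) (c : ℕ) (hc : ∀ n : ℕ, c ≤ n → n ∈ Γ) (hc0 : c ≠ 0) (hc1 : c - 1 ∉ Γ) (S : Set ℕ) (hS0 : (0 : ℕ) ∈ S) (hS : ∀ γ : ℕ, γ ∈ Γ → ∀ s : ℕ, s ∈ S → γ + s ∈ S) (cS : ℕ) (hcS : ∀ n : ℕ, cS ≤ n → n ∈ S) (hcS0 : cS ≠ 0) (hcS1 : cS - 1 ∉ S) (s : ℕ) (hs : s ∉ S) (hs' : ∀ γ : ℕ, γ ∈ Γ → γ ≠ 0 → s + γ ∈ S) : (∀ i : ℕ, Nat.nth (fun m => m ∈ S) i ≤ Nat.nth (fun m => m ∈ insert s S) i + 1) ↔ s + 1 = cS := by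
  classical
  set p : ℕ → Prop := fun m => m ∈ S with hp
  set p' : ℕ → Prop := fun m => m ∈ insert s S with hp'
  have hpp' : ∀ n, p n → p' n := fun n hn => Set.mem_insert_of_mem s hn
  have hp'iff : ∀ n, p' n ↔ (n = s ∨ p n) := fun n => Set.mem_insert_iff
  have hinf : (Set.ofPred p).Infinite := by
    apply Set.infinite_of_forall_exists_gt
    intro a
    exact ⟨max a cS + 1, hcS _ (by omega), by omega⟩
  have hinf' : (Set.ofPred p').Infinite := by
    apply Set.infinite_of_forall_exists_gt
    intro a
    exact ⟨max a cS + 1, hpp' _ (hcS _ (by omega)), by omega⟩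
  have hscS : s < cS := by
    by_contra h
    exact hs (hcS s (not_lt.mp h))
  have hcnt : ∀ n, Nat.count p' n = Nat.count p n + if s < n then 1 else 0 := by
    intro n
    induction n with
    | zero => simp
    | succ n ih =>
      rw [Nat.count_succ, Nat.count_succ, ih]
      have e1 : (if p' n then 1 else 0) = (if p n then 1 else 0) + (if n = s then 1 else 0) := by
        by_cases h1 : n = s
        · have h2 : ¬ p n := by rw [h1]; exact hs
          have h3 : p' n := (hp'iff n).mpr (Or.inl h1)
          rw [if_pos h3, if_neg h2, if_pos h1]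
        · by_cases h2 : p n
          · rw [if_pos (hpp' n h2), if_pos h2, if_neg h1]
          · have h3 : ¬ p' n := by
              rw [hp'iff]; push Not; exact ⟨h1, h2⟩
            rw [if_neg h3, if_neg h2, if_neg h1]
      rw [e1]
      split_ifs <;> omega
  have hc2 : ∀ x, Nat.count p (x + 2) = Nat.count p x + (if p x then 1 else 0) +
      (if p (x + 1) then 1 else 0) := by
    intro x
    rw [show x + 2 = (x + 1) + 1 from rfl, Nat.count_succ, Nat.count_succ]
  constructor
  · intro H
    by_contra hne
    have hlt : s + 1 < cS := by omega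
    have hs2 : s ≤ cS - 2 := by omega
    set x := Nat.findGreatest p' (cS - 2) with hxdef
    have hx : p' x := Nat.findGreatest_spec (P := p') hs2 ((hp'iff s).mpr (Or.inl rfl))
    have hsx : s ≤ x := Nat.le_findGreatest hs2 ((hp'iff s).mpr (Or.inl rfl))
    have hxle : x ≤ cS - 2 := Nat.findGreatest_le _
    have hmax : ∀ y, x < y → y ≤ cS - 2 → ¬ p' y := fun y h1 h2 =>
      Nat.findGreatest_is_greatest h1 h2
    have hi := H (Nat.count p' x)
    rw [Nat.nth_count hx] at hi
    have hi2 : Nat.nth p (Nat.count p' x) < x + 2 := by omega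
    have hi3 := (Nat.lt_nth_iff_count_lt hinf).mpr hi2
    rw [hcnt, hc2] at hi3
    have hnp : ¬ p (x + 1) := by
      by_cases h1 : x + 1 = cS - 1
      · rw [h1]; exact hcS1
      · intro h2
        exact hmax (x + 1) (by omega) (by omega) (hpp' _ h2)
    rw [if_neg hnp] at hi3
    by_cases hpx : p x
    · rw [if_pos hpx] at hi3
      have hxs : ¬ s < x := by
        intro h
        rw [if_pos h] at hi3
        omega
      have : x = s := by omega
      rw [this] at hpx
      exact hs hpx
    · rw [if_neg hpx] at hi3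
      split_ifs at hi3 <;> omega
  · intro hsc i
    have hx : p' (Nat.nth p' i) := Nat.nth_mem_of_infinite hinf' i
    have hci : Nat.count p' (Nat.nth p' i) = i := Nat.count_nth_of_infinite hinf' i
    set x := Nat.nth p' i with hxdef
    have : Nat.nth p i < x + 2 := by
      apply (Nat.lt_nth_iff_count_lt hinf).mp
      rw [hc2]
      conv_lhs => rw [← hci, hcnt]
      rcases (hp'iff x).mp hx with h1 | h1
      · have h2 : p (x + 1) := hcS _ (by omega)
        have h3 : ¬ s < x := by omega
        rw [if_neg h3, if_pos h2]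
        split_ifs <;> omega
      · rw [if_pos h1]
        by_cases h3 : s < x
        · have h2 : p (x + 1) := hcS _ (by omega)
          rw [if_pos h3, if_pos h2]
          omega
        · rw [if_neg h3]
          split_ifs <;> omega
    omega

end Groth.Agent.S15036
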