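import Groth.Statements.S15037
import Mathlib
-- import your own Groth.Agent.* helpers here

set_option autoImplicit false
open TFCurv

namespace Groth.Agent.S15037


open Classical in
theorem count_add_not (T : Set ℕ) (n : ℕ) :
    Nat.count (fun m => m ∈ T) n + Nat.count (fun m => m ∉ T) n = n := by
  induction n with
  | zero => simp
  | succ n ih =>
    rw [Nat.count_succ, Nat.count_succ]
    by_cases h : n ∈ T
    · rw [if_pos h, if_neg (not_not.mpr h)]; omega
    · rw [if_neg h, if_pos h]; omega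

open Classical in
theorem gaps_eq (T : Set ℕ) (cT : ℕ) (hT : ∀ n, cT ≤ n → n ∈ T) :
    Tᶜ.ncard = Nat.count (fun m => m ∉ T) cT := by
  rw [Nat.count_eq_card_filter_range, ← Set.ncard_coe_finset]
  congr 1
  ext m
  simp only [Set.mem_compl_iff, Finset.coe_filter, Finset.mem_range, Set.mem_setOf_eq]
  constructor
  · intro h
    refine ⟨?_, h⟩
    by_contra hge
    exact h (hT m (not_lt.mp hge))
  · exact fun h => h.2

open Classical in
theorem below_eq (T : Set ℕ) (cT : ℕ) :
    (T ∩ Set.Iio cT).ncard = Nat.count (fun m => m ∈ T) cT := by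
  rw [Nat.count_eq_card_filter_range, ← Set.ncard_coe_finset]
  congr 1
  ext m
  simp only [Set.mem_inter_iff, Set.mem_Iio, Finset.coe_filter, Finset.mem_range,
    Set.mem_setOf_eq]
  tauto

open Classical in
theorem count_not_le (T : Set ℕ) (cT : ℕ) (hT : ∀ n, cT ≤ n → n ∈ T) (n : ℕ) :
    Nat.count (fun m => m ∉ T) n ≤ Nat.count (fun m => m ∉ T) cT := by
  rcases le_total n cT with h | h
  · exact Nat.count_monotone _ h
  · obtain ⟨k, rfl⟩ := Nat.exists_eq_add_of_le h
    induction k with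
    | zero => simp
    | succ k ih =>
      rw [← add_assoc, Nat.count_succ, if_neg (not_not.mpr (hT _ (by omega)))]
      exact ih (by omega)

open Classical in
theorem count_not_eq (T : Set ℕ) (cT : ℕ) (hT : ∀ n, cT ≤ n → n ∈ T) (n : ℕ) (hn : cT ≤ n) :
    Nat.count (fun m => m ∉ T) n = Nat.count (fun m => m ∉ T) cT :=
  le_antisymm (count_not_le T cT hT n) (Nat.count_monotone _ hn)

/-- Let Γ be a numerical semigroup (a submonoid of (ℕ, +) with finite complement), Γ ≠ ℕ, with conductor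
c (every n ≥ c lies in Γ, c − 1 does not); let S and S' ⊆ ℕ be Γ-modules in normal form with
conductors c(S), c(S'), let δ(S), δ(S') be their numbers of gaps and r(S), r(S') their numbers of
elements below the conductor, and enumerate them increasingly as s_i, s'_i (i ≥ 0). With τ_i(S) =
s_i + ℓ(S) and ℓ(S) = δ(Γ) − δ(S), the termwise order τ(S) ≤ τ(S') reads s_i + δ(S') ≤ s'_i + δ(S)
for all i. It holds if and only if r(S') ≤ r(S) and s_i + δ(S') ≤ s'_i + δ(S) for all i < r(S')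
(beyond r(S) the entries τ_i(S) = i + δ(Γ) are the largest possible). -/
theorem result (Γ : AddSubmonoid ℕ) (c : ℕ) (hc : ∀ n : ℕ, c ≤ n → n ∈ Γ) (hc0 : c ≠ 0) (hc1 : c - 1 ∉ Γ) (S : Set ℕ) (hS0 : (0 : ℕ) ∈ S) (hS : ∀ γ : ℕ, γ ∈ Γ → ∀ s : ℕ, s ∈ S → γ + s ∈ S) (cS : ℕ) (hcS : ∀ n : ℕ, cS ≤ n → n ∈ S) (hcS1 : cS = 0 ∨ cS - 1 ∉ S) (S' : Set ℕ) (hS'0 : (0 : ℕ) ∈ S') (hS' : ∀ γ : ℕ, γ ∈ Γ → ∀ s : ℕ, s ∈ S' → γ + s ∈ S') (cS' : ℕ) (hcS' : ∀ n : ℕ, cS' ≤ n → n ∈ S') (hcS'1 : cS' = 0 ∨ cS' - 1 ∉ S') : (∀ i : ℕ, Nat.nth (fun m => m ∈ S) i + S'ᶜ.ncard ≤ Nat.nth (fun m => m ∈ S') i + Sᶜ.ncard) ↔ ((S' ∩ Set.Iio cS').ncard ≤ (S ∩ Set.Iio cS).ncard ∧ ∀ i : ℕ, i < (S' ∩ Set.Iio cS').ncard → Nat.nth (fun m => m ∈ S) i + S'ᶜ.ncard ≤ Nat.nth (fun m => m ∈ S') i + Sᶜ.ncard) := by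
  classical
  -- generic facts for a set with conductor
  have gen : ∀ (T : Set ℕ) (cT : ℕ), (∀ n, cT ≤ n → n ∈ T) → (cT = 0 ∨ cT - 1 ∉ T) →
      ((∀ i, Nat.nth (fun m => m ∈ T) i ≤ i + Tᶜ.ncard) ∧
       (∀ i, (T ∩ Set.Iio cT).ncard ≤ i → Nat.nth (fun m => m ∈ T) i = i + Tᶜ.ncard) ∧
       (1 ≤ (T ∩ Set.Iio cT).ncard →
          Nat.nth (fun m => m ∈ T) ((T ∩ Set.Iio cT).ncard - 1) + 2 ≤ cT) ∧
       cT = (T ∩ Set.Iio cT).ncard + Tᶜ.ncard) := by
    intro T cT hT hT1
    have hinf : (Set.ofPred (fun m => m ∈ T)).Infinite := by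
      apply Set.infinite_of_forall_exists_gt
      intro a
      exact ⟨max a cT + 1, hT _ (by omega), by omega⟩
    have hδ := gaps_eq T cT hT
    have hr := below_eq T cT
    have hsum := count_add_not T
    have hmem : ∀ i, (fun m => m ∈ T) (Nat.nth (fun m => m ∈ T) i) := fun i => Nat.nth_mem_of_infinite hinf i
    have hcn : ∀ i, Nat.count (fun m => m ∈ T) (Nat.nth (fun m => m ∈ T) i) = i := fun i => Nat.count_nth_of_infinite hinf i
    refine ⟨?_, ?_, ?_, ?_⟩
    · intro i
      have h1 := hsum (Nat.nth (fun m => m ∈ T) i)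
      have h2 := count_not_le T cT hT (Nat.nth (fun m => m ∈ T) i)
      have h3 := hcn i
      rw [hδ]
      omega
    · intro i hi
      have hge : cT ≤ Nat.nth (fun m => m ∈ T) i := by
        by_contra hlt
        push Not at hlt
        have h1 : Nat.count (fun m => m ∈ T) (Nat.nth (fun m => m ∈ T) i) < Nat.count (fun m => m ∈ T) (Nat.nth (fun m => m ∈ T) i + 1) :=
          Nat.count_lt_count_succ_iff.mpr (hmem i)
        have h2 : Nat.count (fun m => m ∈ T) (Nat.nth (fun m => m ∈ T) i + 1) ≤ Nat.count (fun m => m ∈ T) cT := Nat.count_monotone _ hlt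
        rw [hcn i] at h1
        rw [hr] at hi
        omega
      have h1 := hsum (Nat.nth (fun m => m ∈ T) i)
      have h2 := count_not_eq T cT hT (Nat.nth (fun m => m ∈ T) i) hge
      have h3 := hcn i
      rw [hδ]
      omega
    · intro h1
      set r := (T ∩ Set.Iio cT).ncard with hrdef
      have hlt : Nat.nth (fun m => m ∈ T) (r - 1) < cT := by
        by_contra hge
        push Not at hge
        have := Nat.count_monotone (fun m => m ∈ T) hge
        rw [hcn, ← hr] at this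
        omega
      have hc0 : cT ≠ 0 := by omega
      have hne : Nat.nth (fun m => m ∈ T) (r - 1) ≠ cT - 1 := by
        intro h
        rcases hT1 with h0 | h0
        · exact hc0 h0
        · apply h0
          rw [← h]
          exact hmem _
      omega
    · have h1 := hsum cT
      rw [hδ, hr]
      omega
  obtain ⟨f1, g1, h1, e1⟩ := gen S cS hcS hcS1
  obtain ⟨f2, g2, h2, e2⟩ := gen S' cS' hcS' hcS'1
  constructor
  · intro H
    refine ⟨?_, fun i _ => H i⟩
    by_contra hlt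
    push Not at hlt
    have a1 := g1 ((S' ∩ Set.Iio cS').ncard - 1) (by omega)
    have a2 := h2 (by omega)
    have a3 := H ((S' ∩ Set.Iio cS').ncard - 1)
    omega
  · rintro ⟨_, H⟩ i
    by_cases hi : i < (S' ∩ Set.Iio cS').ncard
    · exact H i hi
    · have a1 := f1 i
      have a2 := g2 i (by omega)
      omega

end Groth.Agent.S15037
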