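import Groth.Statements.S15038
import Mathlib
-- import your own Groth.Agent.* helpers here

set_option autoImplicit false
open TFCurv

namespace Groth.Agent.S15038


theorem card_aux (e : ℕ) (he0 : e ≠ 0) (T : Finset ℕ) (h0 : ∀ n ∈ T, n % e ≠ 0)
    (hinj : ∀ n ∈ T, ∀ n' ∈ T, n < n' → n % e ≠ n' % e) : T.card ≤ e - 1 := by
  have h1 : T.card ≤ (Finset.Ico 1 e).card := by
    apply Finset.card_le_card_of_injOn (fun n => n % e)
    · intro n hn
      simp only [Finset.coe_Ico, Set.mem_Ico]
      exact ⟨Nat.one_le_iff_ne_zero.mpr (h0 n hn), Nat.mod_lt _ (Nat.pos_of_ne_zero he0)⟩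
    · intro n hn n' hn' heq
      simp only at heq
      rcases lt_trichotomy n n' with h | h | h
      · exact absurd heq (hinj n hn n' hn' h)
      · exact h
      · exact absurd heq.symm (hinj n' hn' n hn h)
  simpa using h1

/-- Let Γ be a numerical semigroup (a submonoid of (ℕ, +) with finite complement), Γ ≠ ℕ, with conductor
c (every n ≥ c lies in Γ, c − 1 does not). If Γ is symmetric (for x < c, x is a gap exactly when c −
1 − x ∈ Γ) and its multiplicity e, the least nonzero element of Γ, is greater than 2, then Γ is
generated as an additive monoid by at most e − 1 elements. -/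
theorem result (Γ : AddSubmonoid ℕ) (c : ℕ) (hc : ∀ n : ℕ, c ≤ n → n ∈ Γ) (hc0 : c ≠ 0) (hc1 : c - 1 ∉ Γ) (hsymm : ∀ x : ℕ, x < c → (x ∉ Γ ↔ c - 1 - x ∈ Γ)) (e : ℕ) (he : e ∈ Γ) (he0 : e ≠ 0) (hemin : ∀ γ : ℕ, γ ∈ Γ → γ ≠ 0 → e ≤ γ) (he2 : 2 < e) : ∃ G : Finset ℕ, G.card ≤ e - 1 ∧ AddSubmonoid.closure (↑G : Set ℕ) = Γ := by
  classical
  have hke : ∀ k : ℕ, k * e ∈ Γ := by
    intro k
    have := Γ.nsmul_mem he k
    simpa [smul_eq_mul] using this
  have hce : e ≤ c := by
    by_contra hlt
    have := hemin c (hc c le_rfl) hc0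
    omega
  set A : Finset ℕ := (Finset.range (c + e)).filter (fun γ => γ ∈ Γ ∧ γ ≠ 0 ∧ γ - e ∉ Γ) with hA
  have hmemA : ∀ γ, γ ∈ A ↔ γ ∈ Γ ∧ γ ≠ 0 ∧ γ - e ∉ Γ := by
    intro γ
    simp only [hA, Finset.mem_filter, Finset.mem_range]
    constructor
    · exact fun h => h.2
    · intro h
      refine ⟨?_, h⟩
      by_contra hge
      exact h.2.2 (hc _ (by omega))
  have hwmax : c - 1 + e ∈ A := by
    rw [hmemA]
    refine ⟨hc _ (by omega), by omega, ?_⟩
    rw [show c - 1 + e - e = c - 1 by omega]
    exact hc1
  have hAcard : A.card ≤ e - 1 := by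
    apply card_aux e he0 A
    · intro n hn hmod
      obtain ⟨hnΓ, hn0, hne⟩ := (hmemA n).mp hn
      obtain ⟨k, hk⟩ := Nat.dvd_of_mod_eq_zero hmod
      have hk0 : k ≠ 0 := by
        rintro rfl
        exact hn0 (by simpa using hk)
      apply hne
      have : n - e = (k - 1) * e := by
        rw [hk, Nat.sub_one_mul, mul_comm]
      rw [this]
      exact hke _
    · intro n hn n' hn' hlt heq
      obtain ⟨hnΓ, hn0, hne⟩ := (hmemA n).mp hn
      obtain ⟨hnΓ', hn0', hne'⟩ := (hmemA n').mp hn'
      have hmod : (n' - n) % e = 0 := Nat.sub_mod_eq_zero_of_mod_eq heq.symm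
      obtain ⟨k, hk⟩ := Nat.dvd_of_mod_eq_zero hmod
      have hk0 : k ≠ 0 := by
        rintro rfl
        omega
      apply hne'
      have : n' - e = n + (k - 1) * e := by
        rw [Nat.sub_one_mul]
        have : e * k = k * e := mul_comm _ _
        have h2 : e ≤ k * e := Nat.le_mul_of_pos_left e (Nat.pos_of_ne_zero hk0)
        omega
      rw [this]
      exact Γ.add_mem hnΓ (hke _)
  refine ⟨insert e (A.erase (c - 1 + e)), ?_, ?_⟩
  · have h1 := Finset.card_insert_le e (A.erase (c - 1 + e))
    have h2 := Finset.card_erase_of_mem hwmax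
    have h3 : 0 < A.card := Finset.card_pos.mpr ⟨_, hwmax⟩
    omega
  · apply le_antisymm
    · apply AddSubmonoid.closure_le.mpr
      intro x hx
      simp only [Finset.coe_insert, Set.mem_insert_iff, Finset.mem_coe] at hx
      rcases hx with rfl | hx
      · exact he
      · exact ((hmemA x).mp (Finset.mem_of_mem_erase hx)).1
    · -- existence of an Apery element in a given nonzero class
      have hap : ∀ n, n ∈ Γ → n % e ≠ 0 → ∃ a ∈ Γ, a % e = n % e ∧ a - e ∉ Γ := by
        intro n
        induction n using Nat.strong_induction_on with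
        | _ n ih =>
          intro hn hmod
          by_cases hne : n - e ∈ Γ
          · have hn0 : n ≠ 0 := by
              rintro rfl
              simp at hmod
            have hen : e ≤ n := hemin n hn hn0
            have hm : (n - e) % e = n % e := by
              conv_rhs => rw [← Nat.sub_add_cancel hen]
              simp
            obtain ⟨a, ha, ha1, ha2⟩ := ih (n - e) (by omega) hne (by rw [hm]; exact hmod)
            exact ⟨a, ha, by rw [ha1, hm], ha2⟩
          · exact ⟨n, hn, rfl, hne⟩
      -- a class different from 0 and from that of c - 1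
      have hcls : ∃ n, n ∈ Γ ∧ n % e ≠ 0 ∧ n % e ≠ (c - 1) % e := by
        have hA1 : c % e ≠ (c - 1) % e := by
          intro h
          have := Nat.sub_mod_eq_zero_of_mod_eq h
          rw [show c - (c - 1) = 1 by omega] at this
          have := Nat.dvd_of_mod_eq_zero this
          have := Nat.le_of_dvd one_pos this
          omega
        have hA2 : (c + 1) % e ≠ (c - 1) % e := by
          intro h
          have := Nat.sub_mod_eq_zero_of_mod_eq h
          rw [show c + 1 - (c - 1) = 2 by omega] at this
          have := Nat.dvd_of_mod_eq_zero this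
          have := Nat.le_of_dvd two_pos this
          omega
        by_cases h0 : c % e = 0
        · refine ⟨c + 1, hc _ (by omega), ?_, hA2⟩
          intro h1
          have := Nat.sub_mod_eq_zero_of_mod_eq (h1.trans h0.symm)
          rw [show c + 1 - c = 1 by omega] at this
          have := Nat.dvd_of_mod_eq_zero this
          have := Nat.le_of_dvd one_pos this
          omega
        · exact ⟨c, hc _ le_rfl, h0, hA1⟩
      obtain ⟨n, hnΓ, hn0, hn1⟩ := hcls
      obtain ⟨a, haΓ, hamod, hae⟩ := hap n hnΓ hn0
      have ha0 : a ≠ 0 := by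
        rintro rfl
        rw [← hamod] at hn0
        simp at hn0
      have hea : e ≤ a := hemin a haΓ ha0
      have hane : a ≠ c - 1 + e := by
        intro h
        apply hn1
        rw [← hamod, h]
        simp
      have hagap : a - e < c := by
        by_contra h
        exact hae (hc _ (not_lt.mp h))
      have hu : c - 1 - (a - e) ∈ Γ := (hsymm (a - e) hagap).mp hae
      intro γ
      induction γ using Nat.strong_induction_on with
      | _ γ ih =>
        intro hγ
        by_cases hγ0 : γ = 0
        · subst hγ0; exact AddSubmonoid.zero_mem _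
        have heγ : e ≤ γ := hemin γ hγ hγ0
        by_cases hγe : γ - e ∈ Γ
        · have h1 := ih (γ - e) (by omega) hγe
          have h2 : e ∈ AddSubmonoid.closure (↑(insert e (A.erase (c - 1 + e))) : Set ℕ) :=
            AddSubmonoid.subset_closure (by simp)
          have := AddSubmonoid.add_mem _ h1 h2
          rwa [Nat.sub_add_cancel heγ] at this
        · by_cases hγw : γ = c - 1 + e
          · have h1 := ih a (by omega) haΓ
            have h2 := ih (c - 1 - (a - e)) (by omega) hu
            have := AddSubmonoid.add_mem _ h1 h2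
            rwa [show a + (c - 1 - (a - e)) = γ by omega] at this
          · apply AddSubmonoid.subset_closure
            simp only [Finset.coe_insert, Set.mem_insert_iff, Finset.mem_coe]
            right
            exact Finset.mem_erase.mpr ⟨hγw, (hmemA γ).mpr ⟨hγ, hγ0, hγe⟩⟩

end Groth.Agent.S15038
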