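import Groth.Statements.S15047
import Groth.Agent.Lib.Lead.Amitsur
-- import your own Groth.Agent.* helpers here

set_option autoImplicit false
universe u
open TensorProduct
open Desc

namespace Groth.Agent.S15047

/-- Let A → A' be a faithfully flat homomorphism of commutative rings and M, N any A-modules. An
A'-linear map f : A' ⊗_A M → A' ⊗_A N whose two base changes to A' ⊗_A A' (along a ↦ a ⊗ 1 and a ↦ 1
⊗ a) coincide is the base change of a unique A-linear map h : M → N. Since (A' ⊗_A A') ⊗_A M is
generated over A' ⊗_A A' by the elements 1 ⊗ m, the agreement of the two base changes is stated on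
these generators: for every m, the two images of f (1 ⊗ m) in (A' ⊗_A A') ⊗_A N agree. Equivalently,
the sequence Hom_A(M, N) → Hom_{A'}(A' ⊗ M, A' ⊗ N) ⇉ Hom_{A' ⊗ A'}(A' ⊗ A' ⊗ M, A' ⊗ A' ⊗ N) is an
equalizer diagram. -/
theorem result (A A' : Type u) [CommRing A] [CommRing A'] [Algebra A A']
    [Module.FaithfullyFlat A A'] (M N : Type u) [AddCommGroup M] [Module A M] [AddCommGroup N] [Module A N]
    (f : A' ⊗[A] M →ₗ[A'] A' ⊗[A] N)
    (hf : ∀ m : M,
      LinearMap.rTensor N (Algebra.TensorProduct.includeLeft : A' →ₐ[A] A' ⊗[A] A').toLinearMap (f (1 ⊗ₜ[A] m)) =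
        LinearMap.rTensor N (Algebra.TensorProduct.includeRight : A' →ₐ[A] A' ⊗[A] A').toLinearMap (f (1 ⊗ₜ[A] m))) :
    ∃! h : M →ₗ[A] N, h.baseChange A' = f := by
  classical
  have hinj := Groth.Agent.Lead.one_tmul_injective A A' N
  have hex : ∀ m : M, ∃ n : N, (1 : A') ⊗ₜ[A] n = f (1 ⊗ₜ[A] m) := fun m =>
    Groth.Agent.Lead.exists_one_tmul_eq A A' N _ (hf m)
  choose h0 hh0 using hex
  let h : M →ₗ[A] N :=
    { toFun := h0
      map_add' := by
        intro x y
        apply hinj
        simp only
        rw [hh0, TensorProduct.tmul_add, map_add, TensorProduct.tmul_add, hh0, hh0]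
      map_smul' := by
        intro a x
        apply hinj
        simp only [RingHom.id_apply]
        rw [hh0, TensorProduct.tmul_smul, TensorProduct.tmul_smul, hh0]
        exact (f.restrictScalars A).map_smul a _ }
  have hh : ∀ m, h m = h0 m := fun m => rfl
  refine ⟨h, ?_, ?_⟩
  · apply TensorProduct.AlgebraTensorModule.curry_injective
    ext m
    show (LinearMap.baseChange A' h) (1 ⊗ₜ[A] m) = f (1 ⊗ₜ[A] m)
    rw [LinearMap.baseChange_tmul, hh, hh0]
  · intro h' hh'
    ext m
    apply hinj
    simp only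
    rw [hh, hh0, ← hh', LinearMap.baseChange_tmul]

end Groth.Agent.S15047
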