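import Groth.Statements.S15054
import Mathlib
set_option linter.style.haveILetI false

set_option autoImplicit false
universe u
open CategoryTheory CategoryTheory.Limits MonoidalCategory CartesianMonoidalCategory MonObj GrpObj AlgebraicGeometry
open BTGrp

namespace Groth.Agent.S15054

section Aux

namespace H26BT

variable {S : Scheme.{u}}

theorem isKernel_iff {N G Q : Over S} [GrpObj Q] (i : N ⟶ G) (q : G ⟶ Q) :
    AlgGrp.IsKernel i q ↔
      (i ≫ q = 1) ∧ ∀ (T : Over S) (x : T ⟶ G), x ≫ q = 1 → ∃! x' : T ⟶ N, x' ≫ i = x := by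
  constructor
  · intro h
    have h' : IsPullback i (toUnit N) q η[Q] := h
    refine ⟨h'.w, fun T x hx => ⟨h'.lift x (toUnit T) hx, h'.lift_fst _ _ _, fun y hy => ?_⟩⟩
    apply h'.hom_ext
    · rw [h'.lift_fst]; exact hy
    · exact toUnit_unique _ _
  · rintro ⟨hw, hT⟩
    have key : ∀ s : PullbackCone q η[Q], s.fst ≫ q = 1 := by
      intro s
      rw [s.condition, toUnit_unique s.snd (toUnit s.pt)]
      rfl
    exact ⟨⟨hw⟩, ⟨PullbackCone.IsLimit.mk hw (fun s => (hT s.pt s.fst (key s)).choose)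
      (fun s => (hT s.pt s.fst (key s)).choose_spec.1) (fun s => toUnit_unique _ _)
      (fun s m hm _ => (hT s.pt s.fst (key s)).choose_spec.2 m hm)⟩⟩

theorem main (ℓ h : ℕ) [Fact ℓ.Prime] (G : BTGrp.ProBT ℓ S h)
    (i : (t : ℕ) → (G.G 1 ⟶ G.G (t + 1))) (hi0 : i 0 = 𝟙 (G.G 1))
    (hi : ∀ t : ℕ, i (t + 1) = i t ≫ G.incl (t + 1)) (t : ℕ) :
    AlgGrp.IsKernel (i t) ((𝟙 (G.G (t + 1))) ^ ℓ) := by
  rw [isKernel_iff]
  induction t with
  | zero =>
    have h0 := ((isKernel_iff (G.incl 0) _).mp (G.isKernel 0)).1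
    rw [_root_.pow_zero, _root_.pow_one, Category.comp_id] at h0
    have hl : (𝟙 (G.G (0 + 1))) ^ ℓ = 1 := by
      rw [← G.proj_incl 0, h0, MonObj.comp_one]
    refine ⟨by rw [hi0, Category.id_comp]; exact hl,
      fun T x _ => ⟨x, by rw [hi0]; exact Category.comp_id x, fun y hy => ?_⟩⟩
    have hy' : y ≫ i 0 = x := hy
    rw [← hy', hi0, Category.comp_id]
  | succ t ih =>
    obtain ⟨ih1, ih2⟩ := ih
    obtain ⟨kj1, kj2⟩ := (isKernel_iff (G.incl (t + 1)) _).mp (G.isKernel (t + 1))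
    have ih1' : (i t) ^ ℓ = 1 := by
      rw [MonObj.comp_pow, Category.comp_id] at ih1
      exact ih1
    have hmono : ∀ (T : Over S) (y y' : T ⟶ G.G (t + 1)),
        y ≫ G.incl (t + 1) = y' ≫ G.incl (t + 1) → y = y' := by
      intro T y y' hyy
      have hz : (y' ≫ G.incl (t + 1)) ≫ (𝟙 (G.G (t + 1 + 1))) ^ (ℓ ^ (t + 1)) = 1 := by
        rw [Category.assoc, kj1, MonObj.comp_one]
      obtain ⟨z, -, hz2⟩ := kj2 T (y' ≫ G.incl (t + 1)) hz
      rw [hz2 y hyy, hz2 y' rfl]
    refine ⟨?_, fun T x hx => ?_⟩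
    · rw [hi, MonObj.comp_pow, Category.comp_id, ← MonObj.pow_comp, ih1', MonObj.one_comp]
    · have hx' : x ^ ℓ = 1 := by
        rw [MonObj.comp_pow, Category.comp_id] at hx
        exact hx
      have hxl : x ≫ (𝟙 (G.G (t + 1 + 1))) ^ (ℓ ^ (t + 1)) = 1 := by
        rw [MonObj.comp_pow, Category.comp_id, _root_.pow_succ', _root_.pow_mul, hx', _root_.one_pow]
      obtain ⟨x', hx'1, hx'2⟩ := kj2 T x hxl
      have hx'l : x' ^ ℓ = 1 := by
        apply hmono T
        rw [MonObj.pow_comp, hx'1, hx', MonObj.one_comp]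
      obtain ⟨x'', hx''1, hx''2⟩ := ih2 T x' (by rw [MonObj.comp_pow, Category.comp_id]; exact hx'l)
      refine ⟨x'', by show x'' ≫ i (t + 1) = x; rw [hi, ← Category.assoc, hx''1, hx'1], fun y hy => ?_⟩
      have hy' : y ≫ i (t + 1) = x := hy
      rw [hi, ← Category.assoc] at hy'
      exact hx''2 y (hx'2 (y ≫ i t) hy')

end H26BT

end Aux

/-- Let ℓ be a prime and G = (G_ν)_ν an ℓ-divisible (Barsotti–Tate) group of height h over a scheme S,
given as the system of its finite locally free layers G_ν of order ℓ^{νh} with inclusions G_ν →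
G_{ν+1} exhibiting G_ν as the ℓ^ν-torsion of G_{ν+1} and projections G_{ν+1} → G_ν (multiplication
by ℓ). Let i_t : G_1 → G_{t+1} denote the iterated inclusions, pinned by i_0 = id and i_{t+1} = i_t
followed by G_{t+1} → G_{t+2}. Then for every t, i_t identifies G_1 with the kernel of
multiplication by ℓ on G_{t+1}: the ℓ-torsion of every layer is the first layer. (The published
statement identifies G_v with the ℓ^v-torsion of G_{v+t} for all v; this row is its case v = 1. The
published base is the spectrum of a Noetherian ring; the argument is formal and any base scheme is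
allowed here.) -/
theorem result {S : Scheme.{u}} (ℓ h : ℕ) [Fact ℓ.Prime] (G : BTGrp.ProBT ℓ S h)
    (i : (t : ℕ) → (G.G 1 ⟶ G.G (t + 1))) (hi0 : i 0 = 𝟙 (G.G 1))
    (hi : ∀ t : ℕ, i (t + 1) = i t ≫ G.incl (t + 1)) (t : ℕ) :
    AlgGrp.IsKernel (i t) ((𝟙 (G.G (t + 1))) ^ ℓ) := by
  exact H26BT.main ℓ h G i hi0 hi t

end Groth.Agent.S15054
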