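import Groth.Statements.S15084
import Mathlib

set_option linter.style.haveILetI false

set_option autoImplicit false
universe u
open MovLem

namespace Groth.Agent.S15084

/-- Let A be a Noetherian integrally closed domain with fraction field K, let B be a domain with
fraction field L, and let A → B be an injective ring homomorphism, with K → L the induced map of
fraction fields, such that Spec B → Spec A is surjective (every prime ideal of A is the contraction
of a prime ideal of B). If a ∈ K is such that its image in L lies in B, then a ∈ A. (The published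
statement: for a surjective morphism f : Y → X of normal integral separated schemes of finite type
over a perfect field and a Cartier divisor D on X, if f^*D is effective then D is effective; a
Cartier divisor is locally the divisor of a nonzero rational function a, effectivity of div(a) on a
normal scheme means that a is a regular function, and this row is that local statement, which is
what the published proof establishes.) -/
theorem result
    (A B K L : Type u) [CommRing A] [IsDomain A] [IsNoetherianRing A] [IsIntegrallyClosed A]
    [CommRing B] [IsDomain B] [Field K] [Field L]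
    [Algebra A B] [Algebra A K] [IsFractionRing A K] [Algebra B L] [IsFractionRing B L]
    [Algebra K L] [Algebra A L] [IsScalarTower A K L] [IsScalarTower A B L]
    (hinj : Function.Injective (algebraMap A B))
    (hsurj : ∀ p : Ideal A, p.IsPrime → ∃ q : Ideal B, q.IsPrime ∧ q.comap (algebraMap A B) = p)
    (a : K) (ha : algebraMap K L a ∈ (algebraMap B L).range) :
    a ∈ (algebraMap A K).range := by
  classical
  by_contra hna
  let I : Ideal A :=
    { carrier := {x | ∃ c : A, algebraMap A K c = algebraMap A K x * a}
      add_mem' := by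
        rintro x y ⟨c, hc⟩ ⟨d, hd⟩
        exact ⟨c + d, by rw [map_add, map_add, hc, hd, add_mul]⟩
      zero_mem' := ⟨0, by simp⟩
      smul_mem' := by
        rintro r x ⟨c, hc⟩
        exact ⟨r * c, by rw [smul_eq_mul, map_mul, map_mul, hc, mul_assoc]⟩ }
  have hI : ∀ x, x ∈ I ↔ ∃ c : A, algebraMap A K c = algebraMap A K x * a := fun x => Iff.rfl
  have hI1 : (1 : A) ∉ I := by
    rintro ⟨c, hc⟩
    exact hna ⟨c, by rw [hc, map_one, one_mul]⟩
  have hnt : Nontrivial (A ⧸ I) :=
    Ideal.Quotient.nontrivial_iff.mpr (fun h => hI1 (h ▸ Submodule.mem_top))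
  obtain ⟨p, hp⟩ := associatedPrimes.nonempty A (A ⧸ I)
  obtain ⟨hpp, m, hpm⟩ := (isAssociatedPrime_iff).mp hp
  obtain ⟨y, rfl⟩ := Ideal.Quotient.mk_surjective m
  have hmem : ∀ x, x ∈ p ↔ x * y ∈ I := by
    intro x
    rw [hpm, Submodule.mem_colon_singleton, Submodule.mem_bot, ← Ideal.Quotient.eq_zero_iff_mem]
    rfl
  set b : K := algebraMap A K y * a with hb
  have hmem' : ∀ x, x ∈ p ↔ ∃ c : A, algebraMap A K c = algebraMap A K x * b := by
    intro x
    rw [hmem, hI, hb, map_mul, mul_assoc]
  have hbA : ¬ ∃ c : A, algebraMap A K c = b := by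
    rintro ⟨c, hc⟩
    have : (1 : A) ∈ p := (hmem' 1).mpr ⟨c, by rw [hc, map_one, one_mul]⟩
    exact hpp.ne_top ((Ideal.eq_top_iff_one p).mpr this)
  obtain ⟨β, hβ⟩ := ha
  have hbB : algebraMap K L b = algebraMap B L (algebraMap A B y * β) := by
    rw [hb, map_mul, map_mul, hβ, ← IsScalarTower.algebraMap_apply A K L,
      ← IsScalarTower.algebraMap_apply A B L]
  obtain ⟨q, hq, hqp⟩ := hsurj p hpp
  by_cases hcase : ∀ x ∈ p, ∀ c : A, algebraMap A K c = algebraMap A K x * b → c ∈ p
  · apply hbA
    have hint : IsIntegral A b := by
      refine isIntegral_of_smul_mem_submodule (M := K)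
        (Submodule.map (Algebra.linearMap A K) p) ?_ ?_ b ?_
      · obtain ⟨d, hd0, hd⟩ : ∃ d : A, d ≠ 0 ∧ d ∈ p := by
          obtain ⟨n, d, hdn, hd⟩ := IsFractionRing.div_surjective (A := A) b
          have hd0 : d ≠ 0 := nonZeroDivisors.ne_zero hdn
          have hd0' : algebraMap A K d ≠ 0 := by
            rwa [Ne, map_eq_zero_iff _ (IsFractionRing.injective A K)]
          refine ⟨d, hd0, (hmem' d).mpr ⟨n, ?_⟩⟩
          rw [← hd]
          field_simp
        intro hbot
        have : algebraMap A K d ∈ Submodule.map (Algebra.linearMap A K) p := ⟨d, hd, rfl⟩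
        rw [hbot, Submodule.mem_bot] at this
        exact hd0 ((map_eq_zero_iff _ (IsFractionRing.injective A K)).mp this)
      · exact (Submodule.FG.map _ (IsNoetherian.noetherian p))
      · rintro _ ⟨x, hx, rfl⟩
        obtain ⟨c, hc⟩ := (hmem' x).mp hx
        refine ⟨c, hcase x hx c hc, ?_⟩
        rw [Algebra.linearMap_apply, hc, smul_eq_mul, Algebra.linearMap_apply, mul_comm]
    exact (IsIntegrallyClosed.isIntegral_iff).mp hint
  · push_neg at hcase
    obtain ⟨x, hx, c, hc, hcp⟩ := hcase
    apply hcp
    rw [← hqp, Ideal.mem_comap]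
    have hcB : algebraMap A B c = algebraMap A B x * (algebraMap A B y * β) := by
      apply IsFractionRing.injective B L
      rw [map_mul (algebraMap B L), ← hbB, ← IsScalarTower.algebraMap_apply A B L,
        ← IsScalarTower.algebraMap_apply A B L,
        IsScalarTower.algebraMap_apply A K L, IsScalarTower.algebraMap_apply A K L x, hc, map_mul]
    rw [hcB]
    apply Ideal.mul_mem_right
    have hxq : x ∈ q.comap (algebraMap A B) := hqp ▸ hx
    exact hxq

end Groth.Agent.S15084
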