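import Groth.Statements.S15115
import Mathlib
import Groth.Agent.Lib.Helper4.LinRed
import Groth.Agent.Lib.Helper7.HochInt
-- import your own Groth.Agent.* helpers here

set_option autoImplicit false
universe u
open HopfRep

namespace Groth.Agent.S15115


open TensorProduct Groth.Agent.H29 Groth.Agent.Helper4.LinRed

section

variable {k : Type u} [Field k] {H : Type u} [CommRing H] [HopfAlgebra k H]

lemma integral_fixed {V : Type u} [AddCommGroup V] [Module k V] [HopfRep.Comod k H V]
    (J : H →ₗ[k] k)
    (hJ : ∀ a : H, rAct H J (CoalgebraStruct.comul (R := k) a) = J a • (1 : H)) (v : V) :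
    dualAct J v ∈ HopfRep.fixedPts k H V := by
  show HopfRep.Comod.coact (k := k) (A := H) (dualAct J v) = dualAct J v ⊗ₜ[k] (1 : H)
  have hco := LinearMap.congr_fun (HopfRep.Comod.coassoc (k := k) (A := H) (V := V)) v
  simp only [LinearMap.comp_apply, LinearEquiv.coe_coe] at hco
  rw [dualAct_apply, rAct_natural J (HopfRep.Comod.coact (k := k) (A := H))
    (HopfRep.Comod.coact (k := k) (A := H) v)]
  have h2 : (HopfRep.Comod.coact (k := k) (A := H)).rTensor H
      (HopfRep.Comod.coact (k := k) (A := H) v) =
      (TensorProduct.assoc k V H H).symm ((CoalgebraStruct.comul (R := k) (A := H)).lTensor V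
        (HopfRep.Comod.coact (k := k) (A := H) v)) := by
    rw [← hco, LinearEquiv.symm_apply_apply]
  rw [h2]
  generalize HopfRep.Comod.coact (k := k) (A := H) v = z
  induction z using TensorProduct.induction_on with
  | zero => simp
  | tmul w a =>
    rw [LinearMap.lTensor_tmul, Groth.Agent.Helper7.HochInt.rAct_assoc_symm, hJ, rAct_tmul,
      TensorProduct.tmul_smul, TensorProduct.smul_tmul']
  | add s t hs ht => simp only [map_add, hs, ht, TensorProduct.add_tmul]

lemma rAct_smul_left {A : Type*} [CommRing A] [Algebra k A] {M : Type*} [AddCommGroup M]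
    [Module k M] [Module A M] [IsScalarTower k A M] (J : H →ₗ[k] k) (a : A) (z : M ⊗[k] H) :
    rAct M J (a • z) = a • rAct M J z := by
  induction z using TensorProduct.induction_on with
  | zero => simp
  | tmul m h => rw [TensorProduct.smul_tmul', rAct_tmul, rAct_tmul, smul_comm]
  | add s t hs ht => rw [smul_add, map_add, map_add, hs, ht, smul_add]

end


open TensorProduct in
/-- Let k be an algebraically closed field, H a finite-dimensional commutative Hopf algebra over k all
of whose finite-dimensional comodules are semisimple (a finite linearly reductive group scheme G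
over k), A a commutative k-algebra, and M an A-module with an H-coaction that is A-linear (G acts on
M by A-module maps, A carrying the trivial action). Let A' be a commutative A-algebra and N = A' ⊗_A
M its base change, exhibited by an A-linear map φ : M → N, with the induced coaction: A'-linear and
compatible with φ. Then invariants commute with this base change: writing M^G for the A-submodule of
coinvariant elements of M, the natural map A' ⊗_A M^G → N, a' ⊗ m ↦ a' φ(m), is injective and its
image is exactly the set of coinvariant elements of N. (The published statement is the isomorphism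
ρ^* π_* F → π'_* σ^* F for a tame Deligne–Mumford stack with coarse moduli space π and any base
change ρ of the coarse space; this row is the statement about invariants to which its proof reduces
it, for modules that need not be finitely generated.) -/
theorem result (k : Type u) [Field k] [IsAlgClosed k]
    (H : Type u) [CommRing H] [HopfAlgebra k H] [Module.Finite k H] (hred : HopfRep.IsLinearlyReductive k H)
    (A : Type u) [CommRing A] [Algebra k A]
    (M : Type u) [AddCommGroup M] [Module k M] [Module A M] [IsScalarTower k A M] [HopfRep.Comod k H M]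
    (hlin : ∀ (a : A) (m : M), HopfRep.Comod.coact (k := k) (A := H) (a • m) = a • HopfRep.Comod.coact (k := k) (A := H) m)
    (A' : Type u) [CommRing A'] [Algebra k A'] [Algebra A A'] [IsScalarTower k A A']
    (N : Type u) [AddCommGroup N] [Module k N] [Module A N] [Module A' N]
    [IsScalarTower k A N] [IsScalarTower A A' N] [IsScalarTower k A' N] [HopfRep.Comod k H N]
    (φ : M →ₗ[A] N) (hφ : IsBaseChange A' φ)
    (hcomp : ∀ m : M, HopfRep.Comod.coact (k := k) (A := H) (φ m) =
      LinearMap.rTensor H (φ.restrictScalars k) (HopfRep.Comod.coact (k := k) (A := H) m))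
    (hlinN : ∀ (a' : A') (n : N), HopfRep.Comod.coact (k := k) (A := H) (a' • n) = a' • HopfRep.Comod.coact (k := k) (A := H) n)
    (P : Submodule A M) (hP : (P : Set M) = (HopfRep.fixedPts k H M : Set M)) :
    Function.Injective (TensorProduct.lift (((Algebra.lsmul A A N : A' →ₐ[A] Module.End A N).toLinearMap).compl₂ (φ ∘ₗ P.subtype))) ∧
      Set.range (TensorProduct.lift (((Algebra.lsmul A A N : A' →ₐ[A] Module.End A N).toLinearMap).compl₂ (φ ∘ₗ P.subtype))) =
        (HopfRep.fixedPts k H N : Set N) := by
  classical
  obtain ⟨I, hI1, hI⟩ := exists_integral hred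
  obtain ⟨J, hJ1, hJ⟩ := Groth.Agent.Helper7.HochInt.exists_right_integral I hI1 hI
  have hPmem : ∀ m, m ∈ P ↔ m ∈ HopfRep.fixedPts k H M := by
    intro m
    rw [← SetLike.mem_coe, hP]
    rfl
  have hEM_mem : ∀ m : M, dualAct J m ∈ P := fun m => (hPmem _).mpr (integral_fixed J hJ m)
  have hEM_smul : ∀ (a : A) (m : M), dualAct J (a • m) = a • dualAct J m := by
    intro a m
    rw [dualAct_apply, dualAct_apply, hlin, rAct_smul_left]
  have hEN_smul : ∀ (a' : A') (n : N), dualAct J (a' • n) = a' • dualAct J n := by
    intro a' n
    rw [dualAct_apply, dualAct_apply, hlinN, rAct_smul_left]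
  have hEφ : ∀ m : M, dualAct J (φ m) = φ (dualAct J m) := by
    intro m
    rw [dualAct_apply, dualAct_apply, hcomp]
    exact (rAct_natural J (φ.restrictScalars k) _).symm
  have hfix : ∀ (V : Type u) [AddCommGroup V] [Module k V] [HopfRep.Comod k H V] (v : V),
      v ∈ HopfRep.fixedPts k H V → dualAct J v = v := by
    intro V _ _ _ v hv
    rw [(mem_fixedPts_iff v).mp hv J, hJ1, one_smul]
  let EP : M →ₗ[A] P :=
    { toFun := fun m => ⟨dualAct J m, hEM_mem m⟩
      map_add' := fun x y => Subtype.ext (map_add _ x y)
      map_smul' := fun a m => Subtype.ext (hEM_smul a m) }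
  have hEP : EP ∘ₗ P.subtype = LinearMap.id := by
    apply LinearMap.ext
    intro p
    apply Subtype.ext
    exact hfix M (p : M) ((hPmem _).mp p.2)
  set T := TensorProduct.lift (((Algebra.lsmul A A N : A' →ₐ[A] Module.End A N).toLinearMap).compl₂
    (φ ∘ₗ P.subtype)) with hT
  have hT_tmul : ∀ (a' : A') (p : P), T (a' ⊗ₜ[A] p) = a' • φ (p : M) := by
    intro a' p
    rw [hT]
    simp
  have hTe : ∀ x : A' ⊗[A] P, T x = hφ.equiv (P.subtype.lTensor A' x) := by
    intro x
    induction x using TensorProduct.induction_on with
    | zero => simp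
    | tmul a' p =>
      rw [hT_tmul, LinearMap.lTensor_tmul, IsBaseChange.equiv_tmul]
      rfl
    | add x y hx hy => simp only [map_add, hx, hy]
  constructor
  · intro x y hxy
    rw [hTe, hTe] at hxy
    have h1 := hφ.equiv.injective hxy
    have h2 := congrArg (EP.lTensor A') h1
    rw [← LinearMap.lTensor_comp_apply, ← LinearMap.lTensor_comp_apply, hEP,
      LinearMap.lTensor_id_apply, LinearMap.lTensor_id_apply] at h2
    exact h2
  · apply Set.ext
    intro n
    constructor
    · rintro ⟨x, rfl⟩
      show T x ∈ HopfRep.fixedPts k H N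
      induction x using TensorProduct.induction_on with
      | zero => rw [map_zero]; exact Submodule.zero_mem _
      | tmul a' p =>
        rw [hT_tmul]
        show HopfRep.Comod.coact (k := k) (A := H) (a' • φ (p : M)) =
          (a' • φ (p : M)) ⊗ₜ[k] (1 : H)
        have hp : HopfRep.Comod.coact (k := k) (A := H) (p : M) = (p : M) ⊗ₜ[k] (1 : H) :=
          (hPmem _).mp p.2
        rw [hlinN, hcomp, hp, LinearMap.rTensor_tmul, TensorProduct.smul_tmul',
          LinearMap.restrictScalars_apply]
      | add x y hx hy => rw [map_add]; exact Submodule.add_mem _ hx hy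
    · intro hn
      have hn' : dualAct J n = n := hfix N n hn
      have key : ∀ y : A' ⊗[A] M, ∃ x, T x = dualAct J (hφ.equiv y) := by
        intro y
        induction y using TensorProduct.induction_on with
        | zero => exact ⟨0, by simp⟩
        | tmul a' m =>
          refine ⟨a' ⊗ₜ[A] (⟨dualAct J m, hEM_mem m⟩ : P), ?_⟩
          rw [hT_tmul, IsBaseChange.equiv_tmul, hEN_smul, hEφ]
        | add y z hy hz =>
          obtain ⟨x1, h1⟩ := hy
          obtain ⟨x2, h2⟩ := hz
          exact ⟨x1 + x2, by rw [map_add, map_add, map_add, h1, h2]⟩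
      obtain ⟨x, hx⟩ := key (hφ.equiv.symm n)
      refine ⟨x, ?_⟩
      rw [hx, LinearEquiv.apply_symm_apply, hn']

end Groth.Agent.S15115
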