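import Groth.Statements.S15117
import Mathlib

set_option autoImplicit false
universe u v w
open TensorProduct
open NRGIT

namespace Groth.Agent.S15117

/-- Let k be a field, π : A → B a map of commutative bialgebras over k, W a right A-comodule and V ⊆ W a
subcomodule all of whose elements are coinvariant for the B-coaction induced through π. Then the
coaction of every v ∈ V lies in V ⊗ A' ⊆ W ⊗ A, where A' ⊆ A is the set of elements a with (π ⊗
id)(Δ a) = 1 ⊗ a, i.e. coinvariant for the coaction of B on A through π on the left factor; the row
states membership in the span of the pure tensors w ⊗ a with w ∈ V and a ∈ A'. (The published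
statement is for a linear algebraic group H over an algebraically closed field of characteristic
zero, a normal subgroup N and an H-stable space V of N-invariant sections of a linearised line
bundle, with the coaction landing in O(H)^N ⊗ V, where O(H)^N is the ring of functions on H
invariant under N acting by right multiplication; this row is the comodule form, for any bialgebra
map over a field, where normality of N is not needed.) -/
theorem result (k : Type u) [Field k]
    (A B : Type v) [CommRing A] [CommRing B] [Bialgebra k A] [Bialgebra k B] (π : A →ₐc[k] B)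
    (W : Type w) [AddCommGroup W] [Module k W] [HopfRep.Comod k A W]
    (V : Submodule k W) (hV : HopfRep.IsSubcomod (k := k) (A := A) V)
    (hfix : ∀ v ∈ V, (π.toLinearMap.lTensor W) (HopfRep.Comod.coact (k := k) (A := A) v) = v ⊗ₜ[k] (1 : B))
    (v : W) (hv : v ∈ V) :
    HopfRep.Comod.coact (k := k) (A := A) v ∈
      Submodule.span k {x : W ⊗[k] A | ∃ w ∈ V, ∃ a : A,
        (π.toLinearMap.rTensor A) (Coalgebra.comul (R := k) a) = (1 : B) ⊗ₜ[k] a ∧ x = w ⊗ₜ[k] a} := by
  classical
  -- naturality of the associator
  have hnat : ∀ (y : W ⊗[k] A) (c : A),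
      (LinearMap.lTensor W (π.toLinearMap.rTensor A)) ((TensorProduct.assoc k W A A) (y ⊗ₜ[k] c)) =
        (TensorProduct.assoc k W B A) (((π.toLinearMap.lTensor W) y) ⊗ₜ[k] c) := by
    intro y c
    induction y using TensorProduct.induction_on with
    | zero => simp
    | tmul w a => simp
    | add y y' hy hy' => rw [TensorProduct.add_tmul, map_add, map_add, hy, hy', map_add,
        TensorProduct.add_tmul, map_add]
  -- the key identity on the image of V ⊗ A
  have hclaim : ∀ z : (V : Type _) ⊗[k] A,
      (LinearMap.lTensor W (π.toLinearMap.rTensor A)) ((TensorProduct.assoc k W A A)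
        ((HopfRep.Comod.coact (k := k) (A := A)).rTensor A ((V.subtype.rTensor A) z))) =
      (LinearMap.lTensor W ((TensorProduct.mk k B A) 1)) ((V.subtype.rTensor A) z) := by
    intro z
    induction z using TensorProduct.induction_on with
    | zero => simp
    | tmul w c =>
      rw [LinearMap.rTensor_tmul, LinearMap.rTensor_tmul, hnat, Submodule.subtype_apply,
        hfix w.1 w.2]
      simp
    | add z z' hz hz' => simp only [map_add, hz, hz']
  obtain ⟨z, hz⟩ := hV v hv
  let T : A →ₗ[k] B ⊗[k] A :=
    π.toLinearMap.rTensor A ∘ₗ (Coalgebra.comul (R := k) (A := A)) - (TensorProduct.mk k B A) 1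
  have hT : (LinearMap.lTensor W T) (HopfRep.Comod.coact (k := k) (A := A) v) = 0 := by
    have hco := LinearMap.congr_fun (HopfRep.Comod.coassoc (k := k) (A := A) (V := W)) v
    simp only [LinearMap.comp_apply, LinearEquiv.coe_coe] at hco
    have h1 := hclaim z
    rw [hz, hco] at h1
    simp only [T, LinearMap.lTensor_sub, LinearMap.sub_apply, LinearMap.lTensor_comp,
      LinearMap.comp_apply]
    rw [sub_eq_zero]
    exact h1
  have hinj : Function.Injective (V.subtype.rTensor (B ⊗[k] A)) :=
    Module.Flat.rTensor_preserves_injective_linearMap V.subtype (Submodule.injective_subtype V)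
  have hTz : (LinearMap.lTensor (V : Type _) T) z = 0 := by
    apply hinj
    rw [map_zero, ← hT, ← hz]
    rw [← LinearMap.comp_apply, ← LinearMap.comp_apply, LinearMap.rTensor_comp_lTensor,
      LinearMap.lTensor_comp_rTensor]
  let b := Module.Free.chooseBasis k V
  obtain ⟨c, hc⟩ := TensorProduct.eq_repr_basis_left b z
  have hd : c.mapRange T T.map_zero = 0 := by
    apply TensorProduct.sum_tmul_basis_left_eq_zero b
    rw [Finsupp.sum_mapRange_index (by intro i; simp), ← hTz, ← hc]
    simp only [Finsupp.sum, map_sum, LinearMap.lTensor_tmul]
  have hTc : ∀ i, T (c i) = 0 := by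
    intro i
    have := DFunLike.congr_fun hd i
    simpa using this
  rw [← hz, ← hc]
  simp only [Finsupp.sum, map_sum, LinearMap.rTensor_tmul]
  apply Submodule.sum_mem
  intro i _
  apply Submodule.subset_span
  refine ⟨b i, (b i).2, c i, ?_, rfl⟩
  have h2 := hTc i
  simp only [T, LinearMap.sub_apply, LinearMap.comp_apply, sub_eq_zero] at h2
  exact h2

end Groth.Agent.S15117
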