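import Groth.Statements.S15122
import Mathlib

set_option autoImplicit false
universe u v w
open GIT

namespace Groth.Agent.S15122

/-- Let R be a commutative ring, A a commutative R-algebra graded by the natural numbers, σ a
homogeneous element of degree zero, and B the localisation of A away from σ, equipped with a grading
by the natural numbers for which the localisation map ι : A → B is a graded ring homomorphism (such
a grading is necessarily the one induced from A). Then the homogeneous ideal of B generated by the
image of the irrelevant ideal of A is the whole irrelevant ideal of B; in other words the induced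
rational map from Proj B to Proj A is defined everywhere. (The published statement also assumes σ a
non-zero-divisor, which this step does not use, and goes on to conclude that Proj B → Proj A is an
open immersion onto the basic open set of σ.) -/
theorem result
    (R : Type u) (A : Type v) (B : Type w) [CommRing R] [CommRing A] [CommRing B] [Algebra R A] [Algebra R B]
    [Algebra A B] [IsScalarTower R A B]
    (𝒜 : ℕ → Submodule R A) [GradedAlgebra 𝒜] (ℬ : ℕ → Submodule R B) [GradedAlgebra ℬ]
    (σ : A) (hσ0 : σ ∈ 𝒜 0) [IsLocalization.Away σ B]
    (ι : 𝒜 →+*ᵍ ℬ) (hι : ∀ a : A, ι a = algebraMap A B a) :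
    (HomogeneousIdeal.irrelevant 𝒜).map ι = HomogeneousIdeal.irrelevant ℬ := by
  apply HomogeneousIdeal.toIdeal_injective
  rw [HomogeneousIdeal.toIdeal_map]
  apply le_antisymm
  · rw [Ideal.map_le_iff_le_comap]
    intro x hx
    rw [Ideal.mem_comap]
    change x ∈ HomogeneousIdeal.irrelevant 𝒜 at hx
    change ι x ∈ HomogeneousIdeal.irrelevant ℬ
    rw [HomogeneousIdeal.mem_irrelevant_iff, GradedRing.proj_apply] at hx ⊢
    rw [← ι.map_directSumDecompose, hx, map_zero]
  · intro b hb
    change b ∈ HomogeneousIdeal.irrelevant ℬ at hb
    rw [HomogeneousIdeal.mem_irrelevant_iff, GradedRing.proj_apply] at hb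
    classical
    rw [← DirectSum.sum_support_decompose ℬ b]
    apply Ideal.sum_mem
    intro i _
    by_cases hi : i = 0
    · subst hi
      rw [hb]
      exact Ideal.zero_mem _
    · have hipos : 0 < i := Nat.pos_of_ne_zero hi
      set c : B := (DirectSum.decompose ℬ b i : B) with hc
      have hcmem : c ∈ ℬ i := (DirectSum.decompose ℬ b i).2
      obtain ⟨n, a, hna⟩ := IsLocalization.Away.surj σ c
      have hunit : IsUnit (algebraMap A B σ ^ n) :=
        (IsLocalization.Away.algebraMap_isUnit σ).pow n
      rw [← Ideal.mul_unit_mem_iff_mem _ hunit]
      have hσ : algebraMap A B σ ^ n ∈ ℬ 0 := by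
        have h1 : algebraMap A B σ ∈ ℬ 0 := by rw [← hι]; exact ι.map_mem hσ0
        have := SetLike.pow_mem_graded n h1
        simpa using this
      have hprod : c * algebraMap A B σ ^ n ∈ ℬ i := by
        have := SetLike.mul_mem_graded hcmem hσ
        simpa using this
      have heq : c * algebraMap A B σ ^ n = ι (DirectSum.decompose 𝒜 a i) := by
        rw [ι.map_directSumDecompose, hι, ← hna]
        exact (DirectSum.decompose_of_mem_same ℬ hprod).symm
      rw [heq]
      apply Ideal.mem_map_of_mem
      exact HomogeneousIdeal.mem_irrelevant_of_mem 𝒜 hipos (DirectSum.decompose 𝒜 a i).2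

end Groth.Agent.S15122
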