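import Groth.Statements.S15124
import Mathlib
import Groth.Agent.H29.ComodDual
-- import your own Groth.Agent.* helpers here

set_option autoImplicit false
universe u v w
open InvQ

namespace Groth.Agent.S15124

open TensorProduct Groth.Agent.H29

section

variable {k : Type u} [Field k] {Λ : Type v} [AddCommGroup Λ]

/-- The coefficient at `a`. -/
noncomputable def chi (a : Λ) : AddMonoidAlgebra k Λ →ₗ[k] k :=
  Finsupp.lapply a ∘ₗ (AddMonoidAlgebra.coeffLinearEquiv k).toLinearMap

lemma chi_single [DecidableEq Λ] (a b : Λ) (r : k) :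
    chi a (AddMonoidAlgebra.single b r) = if b = a then r else 0 := by
  show (Finsupp.single b r : Λ →₀ k) a = _
  rw [Finsupp.single_apply]

lemma rAct_chi_comul (a : Λ) (c : AddMonoidAlgebra k Λ) :
    rAct (AddMonoidAlgebra k Λ) (chi a) (CoalgebraStruct.comul (R := k) c) =
      chi a c • AddMonoidAlgebra.single a (1 : k) := by
  classical
  have h : rAct (AddMonoidAlgebra k Λ) (chi (k := k) a) ∘ₗ CoalgebraStruct.comul (R := k) =
      LinearMap.smulRight (chi (k := k) a) (AddMonoidAlgebra.single a (1 : k)) := by
    apply AddMonoidAlgebra.lhom_ext'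
    intro x
    apply LinearMap.ext_ring
    simp only [LinearMap.comp_apply, AddMonoidAlgebra.lsingle_apply, LinearMap.smulRight_apply]
    rw [AddMonoidAlgebra.comul_single, CommSemiring.comul_apply, TensorProduct.map_tmul,
      AddMonoidAlgebra.lsingle_apply, rAct_tmul, chi_single]
    by_cases hx : x = a
    · subst hx
      rfl
    · rw [if_neg hx, zero_smul, zero_smul]
  exact LinearMap.congr_fun h c

lemma chi_mul_single (w : Λ) (c : AddMonoidAlgebra k Λ) :
    chi (k := k) 0 (c * AddMonoidAlgebra.single w (1 : k)) = chi (k := k) (-w) c := by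
  classical
  have h : chi (k := k) 0 ∘ₗ LinearMap.mulRight k (AddMonoidAlgebra.single w (1 : k)) =
      chi (k := k) (-w) := by
    apply AddMonoidAlgebra.lhom_ext'
    intro x
    apply LinearMap.ext_ring
    simp only [LinearMap.comp_apply, AddMonoidAlgebra.lsingle_apply, LinearMap.mulRight_apply]
    rw [AddMonoidAlgebra.single_mul_single, chi_single, chi_single, mul_one]
    by_cases hx : x = -w
    · rw [if_pos hx, if_pos (by rw [hx, neg_add_cancel])]
    · rw [if_neg hx, if_neg (fun h => hx (eq_neg_of_add_eq_zero_left h))]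
  exact LinearMap.congr_fun h c

variable {R : Type w} [CommRing R] [Algebra k R] [HopfRep.Comod k (AddMonoidAlgebra k Λ) R]

lemma rAct_assoc_symm' (J : AddMonoidAlgebra k Λ →ₗ[k] k) (x : R)
    (t : AddMonoidAlgebra k Λ ⊗[k] AddMonoidAlgebra k Λ) :
    rAct (R ⊗[k] AddMonoidAlgebra k Λ) J
        ((TensorProduct.assoc k R (AddMonoidAlgebra k Λ) (AddMonoidAlgebra k Λ)).symm
          (x ⊗ₜ[k] t)) =
      x ⊗ₜ[k] (rAct (AddMonoidAlgebra k Λ) J t) := by
  induction t using TensorProduct.induction_on with
  | zero => simp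
  | tmul b c => simp [TensorProduct.tmul_smul]
  | add s t hs ht => simp only [TensorProduct.tmul_add, map_add, hs, ht]

lemma comp_mem_eigenspace (a : Λ) (f : R) :
    dualAct (chi (k := k) a) f ∈
      HopfRep.eigenspace k (AddMonoidAlgebra k Λ) R (AddMonoidAlgebra.single a 1) := by
  show HopfRep.Comod.coact (k := k) (A := AddMonoidAlgebra k Λ) (dualAct (chi (k := k) a) f) =
    dualAct (chi (k := k) a) f ⊗ₜ[k] AddMonoidAlgebra.single a (1 : k)
  have hco := LinearMap.congr_fun
    (HopfRep.Comod.coassoc (k := k) (A := AddMonoidAlgebra k Λ) (V := R)) f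
  simp only [LinearMap.comp_apply, LinearEquiv.coe_coe] at hco
  have h1 : ∀ z : R ⊗[k] AddMonoidAlgebra k Λ,
      rAct (R ⊗[k] AddMonoidAlgebra k Λ) (chi (k := k) a)
        ((TensorProduct.assoc k R (AddMonoidAlgebra k Λ) (AddMonoidAlgebra k Λ)).symm
          ((CoalgebraStruct.comul (R := k) (A := AddMonoidAlgebra k Λ)).lTensor R z)) =
      rAct R (chi (k := k) a) z ⊗ₜ[k] AddMonoidAlgebra.single a (1 : k) := by
    intro z
    induction z using TensorProduct.induction_on with
    | zero => simp
    | tmul r c =>
      rw [LinearMap.lTensor_tmul, rAct_assoc_symm', rAct_chi_comul, rAct_tmul,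
        TensorProduct.tmul_smul, TensorProduct.smul_tmul']
    | add s t hs ht => simp only [map_add, TensorProduct.add_tmul, hs, ht]
  rw [dualAct_apply, rAct_natural (chi (k := k) a)
    (HopfRep.Comod.coact (k := k) (A := AddMonoidAlgebra k Λ) (V := R)), ← h1, ← hco,
    LinearEquiv.symm_apply_apply]

omit [HopfRep.Comod k (AddMonoidAlgebra k Λ) R] in
lemma counit_eq_sum (z : R ⊗[k] AddMonoidAlgebra k Λ) :
    ∃ S : Finset Λ, ∀ S' : Finset Λ, S ⊆ S' →
      rAct R (Coalgebra.counit (R := k) (A := AddMonoidAlgebra k Λ)) z =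
        ∑ w ∈ S', rAct R (chi (k := k) w) z := by
  classical
  induction z using TensorProduct.induction_on with
  | zero => exact ⟨∅, fun S' _ => by simp⟩
  | tmul r c =>
    induction c using AddMonoidAlgebra.induction_linear with
    | zero => exact ⟨∅, fun S' _ => by simp⟩
    | add c d hc hd =>
      obtain ⟨S1, h1⟩ := hc
      obtain ⟨S2, h2⟩ := hd
      refine ⟨S1 ∪ S2, fun S' hS' => ?_⟩
      rw [TensorProduct.tmul_add, map_add, h1 S' (Finset.union_subset_left hS'),
        h2 S' (Finset.union_subset_right hS'), ← Finset.sum_add_distrib]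
      simp only [map_add]
    | single a t =>
      refine ⟨{a}, fun S' hS' => ?_⟩
      have ha : a ∈ S' := hS' (Finset.mem_singleton_self a)
      simp only [rAct_tmul, chi_single]
      rw [AddMonoidAlgebra.counit_single, CommSemiring.counit_apply, Finset.sum_eq_single a]
      · rw [if_pos rfl]
      · intro b _ hb
        rw [if_neg (Ne.symm hb), zero_smul]
      · intro h
        exact absurd ha h
  | add z z' hz hz' =>
    obtain ⟨S1, h1⟩ := hz
    obtain ⟨S2, h2⟩ := hz'
    refine ⟨S1 ∪ S2, fun S' hS' => ?_⟩
    rw [map_add, h1 S' (Finset.union_subset_left hS'),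
      h2 S' (Finset.union_subset_right hS'), ← Finset.sum_add_distrib]
    simp only [map_add]

omit [HopfRep.Comod k (AddMonoidAlgebra k Λ) R] in
lemma rAct_mul_eig (w : Λ) (y : R) (z : R ⊗[k] AddMonoidAlgebra k Λ) :
    rAct R (chi (k := k) 0) (z * (y ⊗ₜ[k] AddMonoidAlgebra.single w (1 : k))) =
      rAct R (chi (k := k) (-w)) z * y := by
  classical
  induction z using TensorProduct.induction_on with
  | zero => simp
  | tmul r c =>
    rw [Algebra.TensorProduct.tmul_mul_tmul, rAct_tmul, rAct_tmul, chi_mul_single,
      smul_mul_assoc]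
  | add z z' hz hz' => rw [add_mul, map_add, map_add, hz, hz', add_mul]

end


/-- Let k be an algebraically closed field of characteristic zero, Λ a finitely generated free abelian
group with group algebra k[Λ] (the coordinate Hopf algebra of a torus T), and R a reduced finitely
generated commutative k-algebra with a multiplicative coaction of k[Λ] (an action of T on the affine
variety X = Spec R) whose grading monoid is positive: if R has non-zero eigenvectors of weights w
and −w then w = 0. Let I be the ideal of R generated by all eigenvectors of non-zero weight (the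
ideal of the fixed-point subscheme X^T). Then the composite of the inclusion of the ring of
invariants R^T into R with the projection R → R/I is bijective: the fixed-point subscheme maps
isomorphically onto the affine quotient Spec R^T. (The published statement phrases this as: X^T is
affine and X → X^T is a good quotient; the good-quotient property itself is not restated here.) -/
theorem result
    (k : Type u) [Field k] [IsAlgClosed k] [CharZero k]
    (Λ : Type v) [AddCommGroup Λ] [Module.Free ℤ Λ] [Module.Finite ℤ Λ]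
    (R : Type w) [CommRing R] [Algebra k R] [Algebra.FiniteType k R] [IsReduced R]
    [HopfRep.Comod k (AddMonoidAlgebra k Λ) R] [GLin.IsCoactAlg k (AddMonoidAlgebra k Λ) R]
    (hpos : ∀ w : Λ, HopfRep.eigenspace k (AddMonoidAlgebra k Λ) R (AddMonoidAlgebra.single w 1) ≠ ⊥ →
      HopfRep.eigenspace k (AddMonoidAlgebra k Λ) R (AddMonoidAlgebra.single (-w) 1) ≠ ⊥ → w = 0) :
    Function.Bijective
      ((Ideal.Quotient.mkₐ k (Ideal.span {f : R | ∃ w : Λ, w ≠ 0 ∧
          f ∈ HopfRep.eigenspace k (AddMonoidAlgebra k Λ) R (AddMonoidAlgebra.single w 1)})).comp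
        (GLin.invariants k (AddMonoidAlgebra k Λ) R).val) := by
  classical
  obtain ⟨I, hI⟩ : ∃ I : Ideal R, I = Ideal.span {f : R | ∃ w : Λ, w ≠ 0 ∧
      f ∈ HopfRep.eigenspace k (AddMonoidAlgebra k Λ) R (AddMonoidAlgebra.single w 1)} :=
    ⟨_, rfl⟩
  rw [← hI]
  have hPmem : ∀ (w : Λ) (f : R), dualAct (chi (k := k) w) f ∈
      HopfRep.eigenspace k (AddMonoidAlgebra k Λ) R (AddMonoidAlgebra.single w 1) :=
    fun w f => comp_mem_eigenspace w f
  have hPI : ∀ (w : Λ) (f : R), w ≠ 0 → dualAct (chi (k := k) w) f ∈ I := by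
    intro w f hw
    rw [hI]
    exact Ideal.subset_span ⟨w, hw, hPmem w f⟩
  have hP0 : ∀ f : R, dualAct (chi (k := k) (0 : Λ)) f ∈
      GLin.invariants k (AddMonoidAlgebra k Λ) R := by
    intro f
    have h1 : HopfRep.Comod.coact (k := k) (A := AddMonoidAlgebra k Λ)
        (dualAct (chi (k := k) (0 : Λ)) f) =
        dualAct (chi (k := k) (0 : Λ)) f ⊗ₜ[k] AddMonoidAlgebra.single (0 : Λ) (1 : k) := hPmem 0 f
    show HopfRep.Comod.coact (k := k) (A := AddMonoidAlgebra k Λ)
        (dualAct (chi (k := k) (0 : Λ)) f) =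
        dualAct (chi (k := k) (0 : Λ)) f ⊗ₜ[k] (1 : AddMonoidAlgebra k Λ)
    rw [AddMonoidAlgebra.one_def]
    exact h1
  have hdec : ∀ f : R, f - dualAct (chi (k := k) (0 : Λ)) f ∈ I := by
    intro f
    obtain ⟨S, hS⟩ := counit_eq_sum
      (HopfRep.Comod.coact (k := k) (A := AddMonoidAlgebra k Λ) f)
    have h1 := hS (insert 0 S) (Finset.subset_insert 0 S)
    have h2 : rAct R (Coalgebra.counit (R := k) (A := AddMonoidAlgebra k Λ))
        (HopfRep.Comod.coact (k := k) (A := AddMonoidAlgebra k Λ) f) = f := by
      rw [← dualAct_apply, dualAct_counit]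
    rw [h2] at h1
    have h3 : f - dualAct (chi (k := k) (0 : Λ)) f =
        ∑ w ∈ (insert 0 S).erase 0, dualAct (chi (k := k) w) f := by
      rw [sub_eq_iff_eq_add, Finset.sum_erase_add (insert 0 S) (fun w => dualAct (chi (k := k) w) f) (Finset.mem_insert_self 0 S)]
      exact h1
    rw [h3]
    apply Ideal.sum_mem
    intro w hw
    exact hPI w f (Finset.ne_of_mem_erase hw)
  have hmulP : ∀ (w : Λ) (y : R),
      y ∈ HopfRep.eigenspace k (AddMonoidAlgebra k Λ) R (AddMonoidAlgebra.single w 1) →
      ∀ s : R, dualAct (chi (k := k) (0 : Λ)) (s * y) = dualAct (chi (k := k) (-w)) s * y := by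
    intro w y hy s
    have hy' : HopfRep.Comod.coact (k := k) (A := AddMonoidAlgebra k Λ) y =
        y ⊗ₜ[k] AddMonoidAlgebra.single w (1 : k) := hy
    rw [dualAct_apply, GLin.IsCoactAlg.coact_mul (k := k) (A := AddMonoidAlgebra k Λ), hy',
      dualAct_apply]
    exact rAct_mul_eig w y _
  constructor
  · rw [injective_iff_map_eq_zero]
    intro a ha
    have ha' : (a : R) ∈ I := by
      have h1 : Ideal.Quotient.mk I (a : R) = 0 := ha
      exact Ideal.Quotient.eq_zero_iff_mem.mp h1
    have hkey : ∀ y ∈ I, ∀ s : R, dualAct (chi (k := k) (0 : Λ)) (s * y) = 0 := by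
      intro y hy
      rw [hI] at hy
      induction hy using Submodule.span_induction with
      | mem y hy =>
        obtain ⟨w, hw, hyw⟩ := hy
        intro s
        rw [hmulP w y hyw s]
        by_cases hy0 : y = 0
        · rw [hy0, mul_zero]
        · have hw1 : HopfRep.eigenspace k (AddMonoidAlgebra k Λ) R
              (AddMonoidAlgebra.single w 1) ≠ ⊥ := by
            intro hbot
            rw [hbot] at hyw
            exact hy0 ((Submodule.mem_bot k).mp hyw)
          by_cases hs0 : dualAct (chi (k := k) (-w)) s = 0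
          · rw [hs0, zero_mul]
          · exfalso
            have hw2 : HopfRep.eigenspace k (AddMonoidAlgebra k Λ) R
                (AddMonoidAlgebra.single (-w) 1) ≠ ⊥ := by
              intro hbot
              have h2 := hPmem (-w) s
              rw [hbot] at h2
              exact hs0 ((Submodule.mem_bot k).mp h2)
            exact hw (hpos w hw1 hw2)
      | zero => intro s; rw [mul_zero, map_zero]
      | add y z _ _ hy hz => intro s; rw [mul_add, map_add, hy s, hz s, add_zero]
      | smul b y _ hy =>
        intro s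
        rw [smul_eq_mul, ← mul_assoc]
        exact hy (s * b)
    have h0 : dualAct (chi (k := k) (0 : Λ)) (a : R) = (a : R) := by
      have ha2 : HopfRep.Comod.coact (k := k) (A := AddMonoidAlgebra k Λ) (a : R) =
          (a : R) ⊗ₜ[k] (1 : AddMonoidAlgebra k Λ) := a.2
      rw [dualAct_apply, ha2, rAct_tmul, AddMonoidAlgebra.one_def, chi_single, if_pos rfl,
        one_smul]
    apply Subtype.ext
    show (a : R) = 0
    have h5 := hkey _ ha' 1
    rw [one_mul, h0] at h5
    exact h5
  · intro q
    obtain ⟨f, rfl⟩ := Ideal.Quotient.mk_surjective q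
    refine ⟨⟨dualAct (chi (k := k) (0 : Λ)) f, hP0 f⟩, ?_⟩
    show Ideal.Quotient.mk I (dualAct (chi (k := k) (0 : Λ)) f) = Ideal.Quotient.mk I f
    rw [eq_comm, Ideal.Quotient.eq]
    exact hdec f

end Groth.Agent.S15124
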