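import Mathlib
import Groth.Agent.H11.DiagComp
import Groth.Statements.S15125

set_option autoImplicit false
universe u
open scoped TensorProduct
open Fields

namespace Groth.Agent.S15125

/-- Let L be a finitely generated field extension of K, and I ⊆ L ⊗_K L the kernel of multiplication L
⊗_K L → L. An element x of L has the property that x ⊗ 1 and 1 ⊗ x have the same image in the I-adic
completion of L ⊗_K L if and only if x is separable algebraic over K. Equivalently, the equaliser of
the two natural maps from L to that completion is the separable algebraic closure of K in L. -/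
theorem result
    (K L : Type u) [Field K] [Field L] [Algebra K L]
    (hfg : (⊤ : IntermediateField K L).FG) (x : L) :
    AdicCompletion.of (KaehlerDifferential.ideal K L) (L ⊗[K] L) (x ⊗ₜ[K] (1 : L)) =
        AdicCompletion.of (KaehlerDifferential.ideal K L) (L ⊗[K] L) ((1 : L) ⊗ₜ[K] x) ↔
      x ∈ separableClosure K L := by

    classical
    set I := KaehlerDifferential.ideal K L with hI
    set e : L ⊗[K] L := x ⊗ₜ[K] (1 : L) - (1 : L) ⊗ₜ[K] x with he
    have key : (AdicCompletion.of I (L ⊗[K] L) (x ⊗ₜ[K] (1 : L)) =
        AdicCompletion.of I (L ⊗[K] L) ((1 : L) ⊗ₜ[K] x)) ↔ ∀ n : ℕ, e ∈ I ^ n := by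
      constructor
      · intro h n
        have h1 := congrArg (fun z => z.1 n) h
        simp only [AdicCompletion.of_apply] at h1
        have h2 := (Submodule.Quotient.eq _).mp h1
        rw [smul_eq_mul, Ideal.mul_top] at h2
        exact h2
      · intro h
        apply AdicCompletion.ext
        intro n
        rw [AdicCompletion.of_apply, AdicCompletion.of_apply]
        refine (Submodule.Quotient.eq _).mpr ?_
        rw [smul_eq_mul, Ideal.mul_top]
        exact h n
    rw [key]
    constructor
    · intro h
      by_contra hx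
      haveI : Algebra.EssFiniteType K L := IntermediateField.fg_top_iff.mp hfg
      haveI : IsNoetherianRing (L ⊗[K] L) := Algebra.EssFiniteType.isNoetherianRing L (L ⊗[K] L)
      have hmem : e ∈ (⨅ i : ℕ, I ^ i • ⊤ : Submodule (L ⊗[K] L) (L ⊗[K] L)) := by
        rw [Submodule.mem_iInf]
        intro i
        rw [smul_eq_mul, Ideal.mul_top]
        exact h i
      obtain ⟨r, hr⟩ := (Ideal.mem_iInf_smul_pow_eq_bot_iff I e).mp hmem
      have h0 : (1 - (r : L ⊗[K] L)) * e = 0 := by
        rw [sub_mul, one_mul, ← smul_eq_mul (r : L ⊗[K] L), hr, sub_self]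
      have h1 := Groth.Agent.H11.DiagComp.lmul'_eq_zero_of_mul_eq_zero x hx (1 - r) h0
      have hr0 : Algebra.TensorProduct.lmul' K (r : L ⊗[K] L) = 0 := RingHom.mem_ker.mp r.2
      rw [map_sub, map_one, hr0, sub_zero] at h1
      exact one_ne_zero h1
    · intro hx
      rw [mem_separableClosure_iff] at hx
      have hint : IsIntegral K x := hx.isIntegral
      set f := minpoly K x with hf
      have hfx : Polynomial.aeval x f = 0 := minpoly.aeval K x
      have hc : Polynomial.aeval x (Polynomial.derivative f) ≠ 0 :=
        Polynomial.Separable.aeval_derivative_ne_zero hx hfx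
      set c := Polynomial.aeval x (Polynomial.derivative f) with hcdef
      have hu : Polynomial.aeval (x ⊗ₜ[K] (1 : L)) f = 0 := by
        have := Polynomial.aeval_algHom_apply
          (Algebra.TensorProduct.includeLeft : L →ₐ[K] L ⊗[K] L) x f
        rw [hfx, map_zero] at this
        exact this
      have hv : Polynomial.aeval ((1 : L) ⊗ₜ[K] x) f = 0 := by
        have := Polynomial.aeval_algHom_apply
          (Algebra.TensorProduct.includeRight : L →ₐ[K] L ⊗[K] L) x f
        rw [hfx, map_zero] at this
        exact this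
      have hv' : Polynomial.aeval ((1 : L) ⊗ₜ[K] x) (Polynomial.derivative f) = (1 : L) ⊗ₜ[K] c :=
        Polynomial.aeval_algHom_apply
          (Algebra.TensorProduct.includeRight : L →ₐ[K] L ⊗[K] L) x (Polynomial.derivative f)
      obtain ⟨k, hk⟩ := Polynomial.binomExpansion (f.map (algebraMap K (L ⊗[K] L)))
        ((1 : L) ⊗ₜ[K] x) e
      have huv : (1 : L) ⊗ₜ[K] x + e = x ⊗ₜ[K] (1 : L) := by rw [he]; abel
      rw [huv, Polynomial.eval_map_algebraMap, Polynomial.eval_map_algebraMap, hu, hv,
        Polynomial.derivative_map, Polynomial.eval_map_algebraMap, hv', zero_add] at hk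
      have hee : e = (-((1 : L) ⊗ₜ[K] c⁻¹) * k * e) * e := by
        have h2 : ((1 : L) ⊗ₜ[K] c⁻¹ : L ⊗[K] L) * ((1 : L) ⊗ₜ[K] c) = 1 := by
          rw [Algebra.TensorProduct.tmul_mul_tmul, mul_one, inv_mul_cancel₀ hc]
          rfl
        have h3 : e = ((1 : L) ⊗ₜ[K] c⁻¹ * (1 : L) ⊗ₜ[K] c) * e := by rw [h2, one_mul]
        have h4 : (1 : L) ⊗ₜ[K] c * e = - (k * e ^ 2) := by
          rw [eq_neg_iff_add_eq_zero]; exact hk.symm
        rw [mul_assoc, h4] at h3
        calc e = (1 : L) ⊗ₜ[K] c⁻¹ * -(k * e ^ 2) := h3
          _ = (-((1 : L) ⊗ₜ[K] c⁻¹) * k * e) * e := by ring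
      have heI : e ∈ I := by
        have := KaehlerDifferential.one_smul_sub_smul_one_mem_ideal K x
        rw [he, ← neg_sub]
        exact I.neg_mem this
      intro n
      induction n with
      | zero => simp
      | succ n ih =>
        rw [hee, pow_succ']
        exact Ideal.mul_mem_mul (I.mul_mem_left _ heI) ih

end Groth.Agent.S15125
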