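import Groth.Statements.S15126
import Mathlib

set_option autoImplicit false
universe u
open Formal

namespace Groth.Agent.S15126

noncomputable section Construction

variable (k : Type u) [Field k] (n : ℕ) (R : Type u) [CommRing R]
  [Algebra (MvPowerSeries (Fin n) k) R]

/-- The relations forcing `r ↦ ∑ x_{r,m} z^m` to be a `k[[z]]`-algebra homomorphism. -/
def rels : Set (MvPolynomial (R × (Fin n →₀ ℕ)) k) :=
  {p | (∃ (r s : R) (m : Fin n →₀ ℕ),
          p = MvPolynomial.X (r + s, m) - MvPolynomial.X (r, m) - MvPolynomial.X (s, m)) ∨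
       (∃ (r s : R) (m : Fin n →₀ ℕ),
          p = MvPolynomial.X (r * s, m) -
            ∑ q ∈ Finset.HasAntidiagonal.antidiagonal m, MvPolynomial.X (r, q.1) * MvPolynomial.X (s, q.2)) ∨
       (∃ (c : MvPowerSeries (Fin n) k) (m : Fin n →₀ ℕ),
          p = MvPolynomial.X (algebraMap (MvPowerSeries (Fin n) k) R c, m) -
            MvPolynomial.C (MvPowerSeries.coeff m c))}

def relI : Ideal (MvPolynomial (R × (Fin n →₀ ℕ)) k) := Ideal.span (rels k n R)

abbrev P : Type u := MvPolynomial (R × (Fin n →₀ ℕ)) k ⧸ relI k n R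

def gen (r : R) (m : Fin n →₀ ℕ) : P k n R :=
  Ideal.Quotient.mk (relI k n R) (MvPolynomial.X (r, m))

theorem gen_add (r s : R) (m : Fin n →₀ ℕ) :
    gen k n R (r + s) m = gen k n R r m + gen k n R s m := by
  have h : (MvPolynomial.X (r + s, m) - MvPolynomial.X (r, m) - MvPolynomial.X (s, m) :
      MvPolynomial (R × (Fin n →₀ ℕ)) k) ∈ relI k n R :=
    Ideal.subset_span (Or.inl ⟨r, s, m, rfl⟩)
  have h2 := Ideal.Quotient.eq_zero_iff_mem.mpr h
  rw [map_sub, map_sub] at h2
  unfold gen
  linear_combination h2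

theorem gen_mul (r s : R) (m : Fin n →₀ ℕ) :
    gen k n R (r * s) m = ∑ q ∈ Finset.HasAntidiagonal.antidiagonal m, gen k n R r q.1 * gen k n R s q.2 := by
  have h : (MvPolynomial.X (r * s, m) -
      ∑ q ∈ Finset.HasAntidiagonal.antidiagonal m, MvPolynomial.X (r, q.1) * MvPolynomial.X (s, q.2) :
      MvPolynomial (R × (Fin n →₀ ℕ)) k) ∈ relI k n R :=
    Ideal.subset_span (Or.inr (Or.inl ⟨r, s, m, rfl⟩))
  have h2 := Ideal.Quotient.eq_zero_iff_mem.mpr h
  rw [map_sub, map_sum, sub_eq_zero] at h2
  unfold gen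
  rw [h2]
  exact Finset.sum_congr rfl (fun q _ => map_mul _ _ _)

theorem gen_alg (c : MvPowerSeries (Fin n) k) (m : Fin n →₀ ℕ) :
    gen k n R (algebraMap (MvPowerSeries (Fin n) k) R c) m =
      algebraMap k (P k n R) (MvPowerSeries.coeff m c) := by
  have h : (MvPolynomial.X (algebraMap (MvPowerSeries (Fin n) k) R c, m) -
      MvPolynomial.C (MvPowerSeries.coeff m c) :
      MvPolynomial (R × (Fin n →₀ ℕ)) k) ∈ relI k n R :=
    Ideal.subset_span (Or.inr (Or.inr ⟨c, m, rfl⟩))
  have h2 := Ideal.Quotient.eq_zero_iff_mem.mpr h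
  rw [map_sub, sub_eq_zero] at h2
  unfold gen
  rw [h2]
  rfl

def uFun (r : R) : MvPowerSeries (Fin n) (P k n R) := fun m => gen k n R r m

theorem coeff_uFun (r : R) (m : Fin n →₀ ℕ) :
    MvPowerSeries.coeff m (uFun k n R r) = gen k n R r m := rfl

def uHom : R →+* MvPowerSeries (Fin n) (P k n R) where
  toFun := uFun k n R
  map_one' := by
    have h1 : (1 : MvPowerSeries (Fin n) (P k n R)) =
        MvPowerSeries.map (algebraMap k (P k n R)) (1 : MvPowerSeries (Fin n) k) :=
      (map_one _).symm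
    refine MvPowerSeries.ext (fun m => ?_)
    have h := gen_alg k n R 1 m
    rw [map_one] at h
    rw [coeff_uFun, h, h1, MvPowerSeries.coeff_map]
  map_mul' := fun r s => by
    refine MvPowerSeries.ext (fun m => ?_)
    rw [coeff_uFun, MvPowerSeries.coeff_mul, gen_mul]
    rfl
  map_zero' := by
    refine MvPowerSeries.ext (fun m => ?_)
    have h := gen_alg k n R 0 m
    rw [map_zero, map_zero, map_zero] at h
    rw [coeff_uFun, h, map_zero]
  map_add' := fun r s => by
    refine MvPowerSeries.ext (fun m => ?_)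
    rw [coeff_uFun, map_add, coeff_uFun, coeff_uFun, gen_add]

def uAlg : R →ₐ[MvPowerSeries (Fin n) k] MvPowerSeries (Fin n) (P k n R) :=
  { uHom k n R with
    commutes' := fun c => by
      refine MvPowerSeries.ext (fun m => ?_)
      show MvPowerSeries.coeff m (uFun k n R (algebraMap (MvPowerSeries (Fin n) k) R c)) =
        MvPowerSeries.coeff m (MvPowerSeries.map (algebraMap k (P k n R)) c)
      rw [coeff_uFun, gen_alg, MvPowerSeries.coeff_map] }

theorem exists_unique_lift (Q : Type u) [CommRing Q] [Algebra k Q]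
    (f : R →ₐ[MvPowerSeries (Fin n) k] MvPowerSeries (Fin n) Q) :
    ∃! g : P k n R →ₐ[k] Q,
      (MvPowerSeries.map (σ := Fin n) (g : P k n R →+* Q)).comp
        (uAlg k n R : R →+* MvPowerSeries (Fin n) (P k n R)) =
        (f : R →+* MvPowerSeries (Fin n) Q) := by
  let g₀ : MvPolynomial (R × (Fin n →₀ ℕ)) k →ₐ[k] Q :=
    MvPolynomial.aeval (fun x : R × (Fin n →₀ ℕ) => MvPowerSeries.coeff x.2 (f x.1))
  have hg₀X : ∀ (r : R) (m : Fin n →₀ ℕ),
      g₀ (MvPolynomial.X (r, m)) = MvPowerSeries.coeff m (f r) :=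
    fun r m => MvPolynomial.aeval_X _ _
  have hle : relI k n R ≤ RingHom.ker (g₀ : MvPolynomial (R × (Fin n →₀ ℕ)) k →+* Q) := by
    refine Ideal.span_le.mpr ?_
    rintro p (⟨r, s, m, rfl⟩ | ⟨r, s, m, rfl⟩ | ⟨c, m, rfl⟩)
    · rw [SetLike.mem_coe, RingHom.mem_ker]
      show g₀ _ = 0
      rw [map_sub, map_sub, hg₀X, hg₀X, hg₀X, map_add, map_add]
      ring
    · rw [SetLike.mem_coe, RingHom.mem_ker]
      show g₀ _ = 0
      rw [map_sub, map_sum, hg₀X, map_mul, MvPowerSeries.coeff_mul, sub_eq_zero]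
      refine Finset.sum_congr rfl (fun q _ => ?_)
      rw [map_mul, hg₀X, hg₀X]
    · rw [SetLike.mem_coe, RingHom.mem_ker]
      show g₀ _ = 0
      rw [map_sub, hg₀X, MvPolynomial.algHom_C, f.commutes, sub_eq_zero]
      show MvPowerSeries.coeff m (MvPowerSeries.map (algebraMap k Q) c) = _
      rw [MvPowerSeries.coeff_map]
  have hkill : ∀ a ∈ relI k n R, g₀ a = 0 := fun a ha => RingHom.mem_ker.mp (hle ha)
  let g : P k n R →ₐ[k] Q := Ideal.Quotient.liftₐ (relI k n R) g₀ hkill
  have hg_gen : ∀ (r : R) (m : Fin n →₀ ℕ),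
      g (gen k n R r m) = MvPowerSeries.coeff m (f r) := by
    intro r m
    show g (Ideal.Quotient.mk (relI k n R) (MvPolynomial.X (r, m))) = _
    rw [Ideal.Quotient.liftₐ_apply, Ideal.Quotient.lift_mk]
    exact hg₀X r m
  refine ⟨g, ?_, ?_⟩
  · refine RingHom.ext (fun r => MvPowerSeries.ext (fun m => ?_))
    show MvPowerSeries.coeff m (MvPowerSeries.map (g : P k n R →+* Q) (uFun k n R r)) =
      MvPowerSeries.coeff m (f r)
    rw [MvPowerSeries.coeff_map, coeff_uFun]
    exact hg_gen r m
  · intro g' hg'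
    have hg'_gen : ∀ (r : R) (m : Fin n →₀ ℕ),
        g' (gen k n R r m) = MvPowerSeries.coeff m (f r) := by
      intro r m
      have h1 := congrArg (MvPowerSeries.coeff m) (RingHom.congr_fun hg' r)
      have h2 : MvPowerSeries.coeff m
          (MvPowerSeries.map (g' : P k n R →+* Q) (uFun k n R r)) =
          MvPowerSeries.coeff m (f r) := h1
      rw [MvPowerSeries.coeff_map, coeff_uFun] at h2
      exact h2
    refine Ideal.Quotient.algHom_ext k ?_
    refine MvPolynomial.algHom_ext (fun i => ?_)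
    obtain ⟨r, m⟩ := i
    show g' (gen k n R r m) = g (gen k n R r m)
    rw [hg'_gen, hg_gen]

theorem countable_gen
    (hs : ∃ s : Set R, s.Countable ∧ Algebra.adjoin (MvPowerSeries (Fin n) k) s = ⊤) :
    ∃ t : Set (P k n R), t.Countable ∧ Algebra.adjoin k t = ⊤ := by
  obtain ⟨s, hsc, hs⟩ := hs
  haveI : Countable ↥s := hsc.to_subtype
  refine ⟨Set.range (fun x : ↥s × (Fin n →₀ ℕ) => gen k n R x.1.1 x.2),
    Set.countable_range _, ?_⟩
  obtain ⟨P', hP'⟩ : ∃ P' : Subalgebra k (P k n R), P' = Algebra.adjoin k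
      (Set.range (fun x : ↥s × (Fin n →₀ ℕ) => gen k n R x.1.1 x.2)) := ⟨_, rfl⟩
  rw [← hP']
  obtain ⟨R', hR'⟩ : ∃ R' : Subalgebra (MvPowerSeries (Fin n) k) R,
      ∀ r, r ∈ R' ↔ ∀ m, gen k n R r m ∈ P' :=
    ⟨{ carrier := {r | ∀ m, gen k n R r m ∈ P'}
       mul_mem' := fun {a b} ha hb m => by
         rw [gen_mul]
         exact Subalgebra.sum_mem _ (fun q _ => Subalgebra.mul_mem _ (ha q.1) (hb q.2))
       add_mem' := fun {a b} ha hb m => by
         rw [gen_add]
         exact Subalgebra.add_mem _ (ha m) (hb m)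
       algebraMap_mem' := fun c m => by
         rw [gen_alg]
         exact Subalgebra.algebraMap_mem _ _ }, fun r => Iff.rfl⟩
  have hsR' : s ⊆ (R' : Set R) := fun r hr => (hR' r).mpr (fun m => by
    rw [hP']
    exact Algebra.subset_adjoin ⟨(⟨r, hr⟩, m), rfl⟩)
  have htop : ∀ (r : R) (m : Fin n →₀ ℕ), gen k n R r m ∈ P' := by
    intro r
    have hle : Algebra.adjoin (MvPowerSeries (Fin n) k) s ≤ R' := Algebra.adjoin_le hsR'
    rw [hs] at hle
    exact (hR' r).mp (hle Algebra.mem_top)
  suffices hall : ∀ x : P k n R, x ∈ P' from eq_top_iff.mpr (fun x _ => hall x)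
  intro x
  obtain ⟨p, rfl⟩ := Ideal.Quotient.mk_surjective x
  induction p using MvPolynomial.induction_on with
  | C a => exact Subalgebra.algebraMap_mem P' a
  | add p q hp hq =>
    rw [map_add]
    exact Subalgebra.add_mem _ hp hq
  | mul_X p i hp =>
    rw [map_mul]
    exact Subalgebra.mul_mem _ hp (htop i.1 i.2)

end Construction

/-- Affine case. Let k be a field, n > 0, and R a commutative algebra over the power series ring
k[[z_1,…,z_n]]; for a commutative k-algebra Q regard Q[[z_1,…,z_n]] as a k[[z]]-algebra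
coefficientwise. Then the functor Q ↦ Hom_{k[[z]]-alg}(R, Q[[z]]) on commutative k-algebras is
corepresentable: there exist a commutative k-algebra P and a k[[z]]-algebra homomorphism u : R →
P[[z]] such that every k[[z]]-algebra homomorphism R → Q[[z]] arises from u by applying a unique
k-algebra homomorphism P → Q coefficientwise. If moreover R is countably generated as a
k[[z]]-algebra, P may be taken countably generated over k. (The published statement is for an adic
formal scheme Y over the formal disc Spf k[[z]], asserting that the sheaf of sections of Y over the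
disc is a scheme, affine over the fibre of Y at the origin, and of pro-finite type when Y is; this
row is the case Y = Spf R, to which the published argument reduces, stated for the underlying
algebra R; k is algebraically closed there, which is not used.) -/
theorem result
    (k : Type u) [Field k] (n : ℕ) (hn : 0 < n)
    (R : Type u) [CommRing R] [Algebra (MvPowerSeries (Fin n) k) R] :
    ∃ (P : Type u) (_ : CommRing P) (_ : Algebra k P)
      (u : R →ₐ[MvPowerSeries (Fin n) k] MvPowerSeries (Fin n) P),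
      (∀ (Q : Type u) [CommRing Q] [Algebra k Q]
          (f : R →ₐ[MvPowerSeries (Fin n) k] MvPowerSeries (Fin n) Q),
          ∃! g : P →ₐ[k] Q,
            (MvPowerSeries.map (σ := Fin n) (g : P →+* Q)).comp (u : R →+* MvPowerSeries (Fin n) P) =
              (f : R →+* MvPowerSeries (Fin n) Q)) ∧
      ((∃ s : Set R, s.Countable ∧ Algebra.adjoin (MvPowerSeries (Fin n) k) s = ⊤) →
        ∃ t : Set P, t.Countable ∧ Algebra.adjoin k t = ⊤) := by
  exact ⟨P k n R, inferInstance, inferInstance, uAlg k n R,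
    fun Q _ _ f => exists_unique_lift k n R Q f, countable_gen k n R⟩

end Groth.Agent.S15126
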