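import Groth.Statements.S15128
import Groth.Agent.H13.ArtinLocal

set_option autoImplicit false
universe u v
open CAlg

namespace Groth.Agent.S15128

/-- Over an Artinian local ring A with residue field k, a linear map h between flat A-modules (of any
size) is injective, resp. surjective, as soon as its reduction k ⊗_A h is. (The published statement
is for local Artinian algebras over an algebraically closed field of characteristic zero having that
field as residue field; this row allows any Artinian local ring.) -/
theorem result
    (A : Type u) [CommRing A] [IsLocalRing A] [IsArtinianRing A]
    (P L : Type v) [AddCommGroup P] [Module A P] [AddCommGroup L] [Module A L]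
    [Module.Flat A P] [Module.Flat A L] (h : P →ₗ[A] L) :
    (Function.Injective (h.lTensor (IsLocalRing.ResidueField A)) → Function.Injective h) ∧
    (Function.Surjective (h.lTensor (IsLocalRing.ResidueField A)) → Function.Surjective h) := by
  have hm := Groth.Agent.H13.ArtinLocal.isNilpotent_maximalIdeal (A := A)
  exact ⟨Groth.Agent.H13.ArtinLocal.injective_of_lTensor_injective hm h,
    Groth.Agent.H13.ArtinLocal.surjective_of_lTensor_surjective hm h⟩

end Groth.Agent.S15128
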