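import Groth.Statements.S15133
import Groth.Agent.H13.ArtinLocal

set_option autoImplicit false
universe u
open CategoryTheory
open CAlg

namespace Groth.Agent.S15133

/-- Let A be an Artinian local ring with residue field k, n ≥ 1, and 0 → I → P₀ → P₁ → ⋯ → Pₙ a complex
of A-modules with P₀, …, Pₙ flat whose reduction 0 → k ⊗ I → k ⊗ P₀ → ⋯ → k ⊗ Pₙ is exact. Then I
and coker(Pₙ₋₁ → Pₙ) are flat. The complex is written as a cochain complex C indexed by ℕ with C⁰ =
I and Cⁱ⁺¹ = Pᵢ; its terms in degrees above n + 1 play no role. (The published statement adds that I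
maps onto the kernel of k ⊗ P₀ → k ⊗ P₁, which is already part of the exactness hypothesis, and is
for local Artinian algebras over an algebraically closed field of characteristic zero having that
field as residue field; this row allows any Artinian local ring.) -/
theorem result
    (A : Type u) [CommRing A] [IsLocalRing A] [IsArtinianRing A] (n : ℕ) (hn : 0 < n)
    (C : CochainComplex (ModuleCat.{u} A) ℕ)
    (hflat : ∀ i, i ≤ n → Module.Flat A (C.X (i + 1)))
    (hred : ∀ j, j ≤ n →
      (((MonoidalCategory.tensorLeft (ModuleCat.of A (IsLocalRing.ResidueField A))).mapHomologicalComplex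
        (ComplexShape.up ℕ)).obj C).ExactAt j) :
    Module.Flat A (C.X 0) ∧ Module.Flat A (C.X (n + 1) ⧸ LinearMap.range (C.d n (n + 1)).hom) := by
  have hm := Groth.Agent.H13.ArtinLocal.isNilpotent_maximalIdeal (A := A)
  -- translate exactness
  have hex : ∀ j, j + 1 ≤ n → Function.Exact
      ((C.d j (j+1)).hom.lTensor (IsLocalRing.ResidueField A))
      ((C.d (j+1) (j+2)).hom.lTensor (IsLocalRing.ResidueField A)) := by
    intro j hj
    have h := hred (j + 1) hj
    rw [HomologicalComplex.exactAt_iff' _ j (j+1) (j+2) (by simp) (by simp)] at h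
    rw [ShortComplex.ShortExact.moduleCat_exact_iff_function_exact] at h
    exact h
  have hinj : Function.Injective ((C.d 0 1).hom.lTensor (IsLocalRing.ResidueField A)) := by
    have h := hred 0 (Nat.zero_le _)
    rw [HomologicalComplex.exactAt_iff' _ 0 0 1 (by simp) (by simp)] at h
    rw [ShortComplex.ShortExact.moduleCat_exact_iff_function_exact] at h
    rw [injective_iff_map_eq_zero]
    intro x hx
    obtain ⟨y, hy⟩ := (h x).mp hx
    rw [← hy]
    simp
    rfl
  obtain ⟨m, rfl⟩ : ∃ m, n = m + 1 := ⟨n - 1, by omega⟩
  constructor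
  · haveI := hflat 0 (Nat.zero_le _)
    haveI := hflat 1 (by omega)
    refine Groth.Agent.H13.ArtinLocal.flat_of_reduction_exact hm (C.d 0 1).hom (C.d 1 2).hom ?_
      hinj (hex 0 (by omega))
    rw [← ModuleCat.hom_comp, C.d_comp_d]
    rfl
  · haveI := hflat m (by omega)
    haveI := hflat (m + 1) (by omega)
    have key := Groth.Agent.H13.ArtinLocal.free_and_exact_of_reduction_exact hm
      (C.d m (m+1)).hom (C.d (m+1) (m+1+1)).hom (LinearMap.range (C.d (m+1) (m+1+1)).hom).mkQ
      (by rw [← ModuleCat.hom_comp, C.d_comp_d]; rfl)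
      (LinearMap.exact_map_mkQ_range _) (Submodule.mkQ_surjective _) (hex m (by omega))
    haveI := key.1
    infer_instance

end Groth.Agent.S15133
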