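import Groth.Statements.S15134
import Mathlib
import Groth.Agent.H15.ArtInd

set_option autoImplicit false
universe u v
open CategoryTheory
open ArtFun

namespace Groth.Agent.S15134

open CategoryTheory ArtFun ArtFun.Art Groth.Agent.H15.ArtSmooth in
theorem exists_desc {Λ k : Type u} [CommRing Λ] [Field k] [Algebra Λ k] {B A C : Art Λ k}
    (f : B ⟶ A) (hf : Function.Surjective f) (g : B ⟶ C) (h : ∀ b : B, f b = 0 → g b = 0) :
    ∃ s : A ⟶ C, f ≫ s = g := by
  let e := Ideal.quotientKerAlgEquivOfSurjective (f := f.toAlgHom) hf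
  let L : (B ⧸ RingHom.ker f.toAlgHom) →ₐ[Λ] C := Ideal.Quotient.liftₐ (RingHom.ker f.toAlgHom)
    g.toAlgHom (fun b hb => h b ((RingHom.mem_ker).1 hb))
  let s₀ : A →ₐ[Λ] C := L.comp e.symm.toAlgHom
  have hs₀ : ∀ b : B, s₀ (f b) = g b := by
    intro b
    have : e.symm (f b) = Ideal.Quotient.mk _ b := by
      apply e.injective; rw [AlgEquiv.apply_symm_apply]; rfl
    show L (e.symm (f b)) = g b
    rw [this]; rfl
  refine ⟨⟨s₀, ?_⟩, ?_⟩
  · apply AlgHom.ext; intro a; obtain ⟨b, rfl⟩ := hf a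
    show C.res (s₀ (f b)) = A.res (f b)
    rw [hs₀, res_app, res_app]
  · apply hom_ext; apply AlgHom.ext; intro b; exact hs₀ b

/-- Let k be a field and F a functor on local Artinian k-algebras with residue field k with F(k) a
point. If F satisfies (H2') — the comparison map F(A₁ ×_k A₂) → F(A₁) × F(A₂) is bijective for every
pair of objects — then F satisfies condition (L): for every small extension f : B → A with kernel J,
writing P = B ×_k B, Q = A ×_k A, r : P → Q for the map induced by f, and C = P/K with K the ideal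
of P consisting of the pairs (b, b) with b ∈ J, every element of F(Q) whose two images in F(A) agree
lifts along F(C) → F(Q). Here P and Q are pinned as fibre products over k, K is described through
the two projections, and the two inequalities on K (it lies in the maximal ideal of P and is killed
by r), which always hold, are taken as hypotheses so that the quotient object and the factored map
can be named. -/
theorem result
    {k : Type u} [Field k] (F : ArtFun.Art k k ⥤ Type v) (h0 : ArtFun.H0 F)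
    (h2' : ∀ ⦃P A' A'' : ArtFun.Art k k⦄ (p' : P ⟶ A') (p'' : P ⟶ A'')
      (h : ArtFun.Art.IsFibreProd p' p'' (ArtFun.Art.toBase A') (ArtFun.Art.toBase A'')),
      Function.Bijective (ArtFun.cmp F h))
    ⦃B A : ArtFun.Art k k⦄ (f : B ⟶ A) (hf : ArtFun.Art.IsSmallExt f)
    ⦃P : ArtFun.Art k k⦄ (p₁ p₂ : P ⟶ B)
    (hP : ArtFun.Art.IsFibreProd p₁ p₂ (ArtFun.Art.toBase B) (ArtFun.Art.toBase B))
    ⦃Q : ArtFun.Art k k⦄ (q₁ q₂ : Q ⟶ A)
    (hQ : ArtFun.Art.IsFibreProd q₁ q₂ (ArtFun.Art.toBase A) (ArtFun.Art.toBase A))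
    (r : P ⟶ Q) (hr₁ : r ≫ q₁ = p₁ ≫ f) (hr₂ : r ≫ q₂ = p₂ ≫ f)
    (hK : Ideal.span {z : P | p₁ z = p₂ z ∧ f (p₁ z) = 0} ≤ IsLocalRing.maximalIdeal P)
    (hKr : Ideal.span {z : P | p₁ z = p₂ z ∧ f (p₁ z) = 0} ≤ RingHom.ker r.toAlgHom)
    (y : F.obj Q) (hy : F.map q₁ y = F.map q₂ y) :
    ∃ z : F.obj (ArtFun.Art.quot P (Ideal.span {z : P | p₁ z = p₂ z ∧ f (p₁ z) = 0}) hK),
      F.map (ArtFun.Art.quotFactor hK r hKr) z = y := by
  open CategoryTheory ArtFun ArtFun.Art Groth.Agent.H15.ArtSmooth in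
  obtain ⟨hsurj, -, -, -⟩ := hf
  obtain ⟨ΔB, hΔB1, hΔB2⟩ := exists_lift_hom hP (𝟙 B) (𝟙 B) rfl
  obtain ⟨ΔA, hΔA1, hΔA2⟩ := exists_lift_hom hQ (𝟙 A) (𝟙 A) rfl
  obtain ⟨s, hs⟩ := exists_desc f hsurj (ΔB ≫ quotMk P _ hK) (by
    intro b hb
    show quotMk P _ hK (ΔB b) = 0
    rw [quotMk_apply]
    refine Ideal.Quotient.eq_zero_iff_mem.2 ?_
    apply Ideal.subset_span
    have e1 : p₁ (ΔB b) = b := congrArg (fun φ : B ⟶ B => φ b) hΔB1
    have e2 : p₂ (ΔB b) = b := congrArg (fun φ : B ⟶ B => φ b) hΔB2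
    exact ⟨e1.trans e2.symm, by rw [e1]; exact hb⟩)
  have hcomm : ΔB ≫ r = f ≫ ΔA := by
    apply hom_ext; apply AlgHom.ext; intro b
    apply hQ.inj
    · show q₁ (r (ΔB b)) = q₁ (ΔA (f b))
      have e1 : q₁ (r (ΔB b)) = f (p₁ (ΔB b)) := congrArg (fun φ : P ⟶ A => φ (ΔB b)) hr₁
      have e2 : p₁ (ΔB b) = b := congrArg (fun φ : B ⟶ B => φ b) hΔB1
      have e3 : q₁ (ΔA (f b)) = f b := congrArg (fun φ : A ⟶ A => φ (f b)) hΔA1
      rw [e1, e2, e3]
    · show q₂ (r (ΔB b)) = q₂ (ΔA (f b))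
      have e1 : q₂ (r (ΔB b)) = f (p₂ (ΔB b)) := congrArg (fun φ : P ⟶ A => φ (ΔB b)) hr₂
      have e2 : p₂ (ΔB b) = b := congrArg (fun φ : B ⟶ B => φ b) hΔB2
      have e3 : q₂ (ΔA (f b)) = f b := congrArg (fun φ : A ⟶ A => φ (f b)) hΔA2
      rw [e1, e2, e3]
  have hsq : s ≫ quotFactor hK r hKr = ΔA := by
    apply hom_ext; apply AlgHom.ext; intro a
    obtain ⟨b, rfl⟩ := hsurj a
    have e1 : (f ≫ s ≫ quotFactor hK r hKr) b = (f ≫ ΔA) b := by
      rw [← Category.assoc, hs, Category.assoc, quotMk_quotFactor, hcomm]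
    exact e1
  have hyx : y = F.map ΔA (F.map q₁ y) := by
    apply (h2' _ _ hQ).1
    apply FibProd.ext
    · show F.map q₁ y = F.map q₁ (F.map ΔA (F.map q₁ y))
      rw [← Functor.map_comp_apply F ΔA, hΔA1, Functor.map_id_apply]
    · show F.map q₂ y = F.map q₂ (F.map ΔA (F.map q₁ y))
      rw [← Functor.map_comp_apply F ΔA, hΔA2, Functor.map_id_apply, ← hy]
  refine ⟨F.map s (F.map q₁ y), ?_⟩
  rw [← Functor.map_comp_apply, hsq, ← hyx]

end Groth.Agent.S15134
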