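import Groth.Statements.S15135
-- import your own Groth.Agent.* helpers here

set_option autoImplicit false
universe u v
open Deform

namespace Groth.Agent.S15135

/-- For R-modules M ⊆ N, the first-order embedded deformations of M in N are in canonical bijection with
Hom_R(M, N/M). Writing N ⊗ k[ε] = N ⊕ εN as N × N (the pair (x, y) standing for x + εy), such a
deformation is an R-submodule L of N × N which is stable under multiplication by ε (if (x, y) ∈ L
then (0, x) ∈ L), reduces to M (x ∈ M exactly when (x, y) ∈ L for some y) and is flat over the dual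
numbers, flatness being stated elementwise as: (0, y) ∈ L only if y ∈ M (for a submodule reducing to
M this is the equality of the kernel and the image of ε on L, i.e. flatness over k[ε] when R is an
algebra over a field k). To φ : M → N/M corresponds the submodule of all (x, y) with x ∈ M and y ≡
φ(x) mod M. The first clause says this rule defines exactly one submodule for each φ; the second
says that a submodule has the three properties precisely when its membership is given by this rule
for some φ. (The published statement is a linear isomorphism t_G ≅ Hom_R(M, N/M) for the functor G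
of flat deformations of M inside N ⊗ A over local Artinian algebras A; this row states only the
underlying bijection, and the obstruction half is not stated here.) -/
theorem result
    (R : Type u) [CommRing R] (N : Type v) [AddCommGroup N] [Module R N] (M : Submodule R N) :
    (∀ φ : M →ₗ[R] (N ⧸ M), ∃! L : Submodule R (N × N),
        ∀ x y : N, (x, y) ∈ L ↔ ∃ h : x ∈ M, Submodule.Quotient.mk y = φ ⟨x, h⟩) ∧
    (∀ L : Submodule R (N × N),
      ((∀ x y : N, (x, y) ∈ L → ((0 : N), x) ∈ L) ∧
        (∀ x : N, x ∈ M ↔ ∃ y : N, (x, y) ∈ L) ∧
        (∀ y : N, ((0 : N), y) ∈ L → y ∈ M)) ↔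
      ∃ φ : M →ₗ[R] (N ⧸ M), ∀ x y : N, (x, y) ∈ L ↔ ∃ h : x ∈ M, Submodule.Quotient.mk y = φ ⟨x, h⟩) := by
  constructor
  · intro φ
    refine ⟨{ carrier := {z : N × N | ∃ h : z.1 ∈ M, Submodule.Quotient.mk z.2 = φ ⟨z.1, h⟩}
              add_mem' := ?_
              zero_mem' := ?_
              smul_mem' := ?_ }, ?_, ?_⟩
    · rintro ⟨x, y⟩ ⟨x', y'⟩ ⟨h, e⟩ ⟨h', e'⟩
      refine ⟨M.add_mem h h', ?_⟩
      have : (⟨x + x', M.add_mem h h'⟩ : M) = ⟨x, h⟩ + ⟨x', h'⟩ := rfl
      simp only [Prod.snd_add, Prod.fst_add, Submodule.Quotient.mk_add]
      rw [this, map_add]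
      simp only at e e'
      rw [e, e']
    · refine ⟨M.zero_mem, ?_⟩
      have : (⟨0, M.zero_mem⟩ : M) = 0 := rfl
      simp only [Prod.snd_zero, Prod.fst_zero, Submodule.Quotient.mk_zero]
      rw [this, map_zero]
    · rintro c ⟨x, y⟩ ⟨h, e⟩
      refine ⟨M.smul_mem c h, ?_⟩
      have : (⟨c • x, M.smul_mem c h⟩ : M) = c • ⟨x, h⟩ := rfl
      simp only [Prod.smul_snd, Prod.smul_fst, Submodule.Quotient.mk_smul]
      rw [this, map_smul]
      simp only at e
      rw [e]
    · intro x y
      rfl
    · intro L' hL'
      ext ⟨x, y⟩
      rw [hL' x y]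
      rfl
  · intro L
    constructor
    · rintro ⟨ha, hb, hc⟩
      -- key facts
      have h0 : ∀ y : N, y ∈ M → ((0 : N), y) ∈ L := by
        intro y hy
        obtain ⟨z, hz⟩ := (hb y).1 hy
        exact ha y z hz
      have hwd : ∀ x y y' : N, (x, y) ∈ L → (x, y') ∈ L → y - y' ∈ M := by
        intro x y y' h h'
        apply hc
        have := L.sub_mem h h'
        simpa using this
      have hex : ∀ x : M, ∃ y : N, ((x : N), y) ∈ L := fun x => (hb x).1 x.2
      choose g hg using hex
      have hmk : ∀ (x : M) (y : N), ((x : N), y) ∈ L →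
          (Submodule.Quotient.mk y : N ⧸ M) = Submodule.Quotient.mk (g x) := by
        intro x y h
        rw [Submodule.Quotient.eq]
        exact hwd _ _ _ h (hg x)
      let φ : M →ₗ[R] (N ⧸ M) :=
        { toFun := fun x => Submodule.Quotient.mk (g x)
          map_add' := by
            intro x x'
            rw [← Submodule.Quotient.mk_add]
            symm
            apply hmk
            have := L.add_mem (hg x) (hg x')
            simpa using this
          map_smul' := by
            intro c x
            simp only [RingHom.id_apply]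
            rw [← Submodule.Quotient.mk_smul]
            symm
            apply hmk
            have := L.smul_mem c (hg x)
            simpa using this }
      refine ⟨φ, ?_⟩
      intro x y
      constructor
      · intro h
        have hx : x ∈ M := (hb x).2 ⟨y, h⟩
        exact ⟨hx, hmk ⟨x, hx⟩ y h⟩
      · rintro ⟨hx, e⟩
        have e' : (Submodule.Quotient.mk y : N ⧸ M) = Submodule.Quotient.mk (g ⟨x, hx⟩) := e
        rw [Submodule.Quotient.eq] at e'
        have h1 := h0 _ e'
        have h2 := hg ⟨x, hx⟩
        have := L.add_mem h2 h1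
        simpa using this
    · rintro ⟨φ, hφ⟩
      refine ⟨?_, ?_, ?_⟩
      · intro x y h
        obtain ⟨hx, _⟩ := (hφ x y).1 h
        rw [hφ]
        refine ⟨M.zero_mem, ?_⟩
        have : (⟨0, M.zero_mem⟩ : M) = 0 := rfl
        rw [this, map_zero, Submodule.Quotient.mk_eq_zero]
        exact hx
      · intro x
        constructor
        · intro hx
          obtain ⟨y, hy⟩ := Submodule.Quotient.mk_surjective M (φ ⟨x, hx⟩)
          exact ⟨y, (hφ x y).2 ⟨hx, hy⟩⟩
        · rintro ⟨y, hy⟩
          exact ((hφ x y).1 hy).1
      · intro y hy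
        obtain ⟨h, e⟩ := (hφ 0 y).1 hy
        have : (⟨0, h⟩ : M) = 0 := rfl
        rw [this, map_zero, Submodule.Quotient.mk_eq_zero] at e
        exact e

end Groth.Agent.S15135
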