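import Groth.Statements.S15146
import Groth.Agent.H13.PSOrder

set_option autoImplicit false
universe u
open HilbZeta

namespace Groth.Agent.S15146

/-- Let k be a field, s a natural number and R a k-subalgebra of the product of s copies of the power
series ring k[[x]], of finite codimension δ over k and local with residue field k (all components of
an element of R have the same constant term); write v_i for the x-adic order of the i-th component
of an s-tuple, and let c = (c_1, …, c_s) be the conductor exponents, so that an s-tuple f satisfies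
f·g ∈ R for every s-tuple g exactly when v_i(f) ≥ c_i for all i (over an algebraically closed field
such an R is precisely the completed local ring of a reduced curve singularity having s branches
sitting inside its normalisation, δ is its delta invariant and the conductor ideal is generated by
the x_i^{c_i}). If J is an ideal of R of finite colength which contains, for each i, an element f_i
with v_i(f_i) = l_i, then every s-tuple g with v_i(g) ≥ l_i + c_i for all i lies in R and belongs to
J. (The published statement is over an algebraically closed field; this row allows any field.) -/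
theorem result (k : Type u) [Field k] (s : ℕ)
    (R : Subalgebra k (Fin s → PowerSeries k))
    (hfin : Module.Finite k ((Fin s → PowerSeries k) ⧸ Subalgebra.toSubmodule R))
    (hloc : ∀ f ∈ R, ∀ i j : Fin s, PowerSeries.constantCoeff (f i) = PowerSeries.constantCoeff (f j))
    (c : Fin s → ℕ)
    (hc : ∀ f : Fin s → PowerSeries k,
      (∀ g : Fin s → PowerSeries k, g * f ∈ R) ↔ ∀ i, ((c i : ℕ) : ℕ∞) ≤ (f i).order)
    (J : Ideal ↥R) (hJ : Module.Finite k (↥R ⧸ J))
    (l : Fin s → ℕ) (hl : ∀ i : Fin s, ∃ f ∈ J, ((f : Fin s → PowerSeries k) i).order = ((l i : ℕ) : ℕ∞))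
    (g : Fin s → PowerSeries k) (hg : ∀ i : Fin s, ((l i + c i : ℕ) : ℕ∞) ≤ (g i).order) :
    ∃ hgR : g ∈ R, (⟨g, hgR⟩ : ↥R) ∈ J := by
  classical
  -- the image of J in the ambient product, as an additive subgroup
  let J' : Submodule k (Fin s → PowerSeries k) :=
    Submodule.map R.val.toLinearMap (J.restrictScalars k)
  have hJ' : ∀ x, x ∈ J' ↔ ∃ y ∈ J, (y : Fin s → PowerSeries k) = x := by
    intro x
    simp only [J', Submodule.mem_map, Submodule.restrictScalars_mem]
    rfl
  suffices hmem : g ∈ J' by
    obtain ⟨y, hy, rfl⟩ := (hJ' g).mp hmem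
    exact ⟨y.2, hy⟩
  have hsum : g = ∑ i, Pi.single i (g i) := (Finset.univ_sum_single g).symm
  rw [hsum]
  apply Submodule.sum_mem
  intro i _
  obtain ⟨f, hfJ, hford⟩ := hl i
  obtain ⟨u, u', huu', hfu⟩ := Groth.Agent.H13.PSOrder.exists_unit_of_order_eq (l i) _ hford
  obtain ⟨h, hh⟩ := (Groth.Agent.H13.PSOrder.le_order_iff_dvd (l i + c i) (g i)).mp (hg i)
  set t : Fin s → PowerSeries k := Pi.single i (PowerSeries.X ^ (c i) * h * u') with ht
  have htR : t ∈ R := by
    have h1 : ∀ j, ((c j : ℕ) : ℕ∞) ≤ (t j).order := by
      intro j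
      by_cases hj : j = i
      · subst hj
        rw [ht, Pi.single_eq_same, Groth.Agent.H13.PSOrder.le_order_iff_dvd, mul_assoc]
        exact Dvd.intro _ rfl
      · rw [ht, Pi.single_eq_of_ne hj, PowerSeries.order_zero]
        exact le_top
    have h2 := (hc t).mpr h1 1
    rwa [one_mul] at h2
  rw [hJ']
  refine ⟨f * ⟨t, htR⟩, Ideal.mul_mem_right _ _ hfJ, ?_⟩
  funext j
  show (f : Fin s → PowerSeries k) j * t j = (Pi.single i (g i) : Fin s → PowerSeries k) j
  by_cases hj : j = i
  · subst hj
    rw [ht, Pi.single_eq_same, Pi.single_eq_same, hfu, hh, pow_add]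
    calc PowerSeries.X ^ l j * u * (PowerSeries.X ^ c j * h * u')
        = PowerSeries.X ^ l j * PowerSeries.X ^ c j * h * (u * u') := by ring
      _ = PowerSeries.X ^ l j * PowerSeries.X ^ c j * h := by rw [huu', mul_one]
  · rw [ht, Pi.single_eq_of_ne hj, Pi.single_eq_of_ne hj, mul_zero]

end Groth.Agent.S15146
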