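import Groth.Statements.S15150
import Mathlib

set_option autoImplicit false
universe u
open HilbZeta

namespace Groth.Agent.S15150

open TensorProduct in
theorem prod_eq_zero_of_nilpotent {K C : Type*} [Field K] [CommRing C] [Algebra K C]
    [FiniteDimensional K C] (y : ℕ → C) (hy : ∀ i, IsNilpotent (y i)) :
    ∏ i ∈ Finset.range (Module.finrank K C), y i = 0 := by
  classical
  have key : ∀ k : ℕ, (∏ i ∈ Finset.range k, y i = 0) ∨
      Module.finrank K (LinearMap.range (LinearMap.mulLeft K (∏ i ∈ Finset.range k, y i))) + k ≤
        Module.finrank K C := by
    intro k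
    induction k with
    | zero =>
      right
      rw [add_zero]
      exact Submodule.finrank_le _
    | succ k ih =>
      by_cases hz' : ∏ i ∈ Finset.range (k + 1), y i = 0
      · exact Or.inl hz'
      right
      rcases ih with h0 | hle
      · exfalso; apply hz'; rw [Finset.prod_range_succ, h0, zero_mul]
      have hzk : ∏ i ∈ Finset.range k, y i ≠ 0 := by
        intro h0; apply hz'; rw [Finset.prod_range_succ, h0, zero_mul]
      have hlt : LinearMap.range (LinearMap.mulLeft K (∏ i ∈ Finset.range (k + 1), y i)) <
          LinearMap.range (LinearMap.mulLeft K (∏ i ∈ Finset.range k, y i)) := by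
        apply lt_of_le_of_ne
        · rintro _ ⟨c, rfl⟩
          refine ⟨y k * c, ?_⟩
          simp only [LinearMap.mulLeft_apply, Finset.prod_range_succ]
          ring
        · intro heq
          have h1 : ∏ i ∈ Finset.range k, y i ∈
              LinearMap.range (LinearMap.mulLeft K (∏ i ∈ Finset.range k, y i)) :=
            ⟨1, by simp⟩
          rw [← heq] at h1
          obtain ⟨c, hc⟩ := h1
          simp only [LinearMap.mulLeft_apply, Finset.prod_range_succ] at hc
          have hnil : IsNilpotent (y k * c) := (Commute.all _ _).isNilpotent_mul_right (hy k)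
          have hunit : IsUnit (1 - y k * c) := hnil.isUnit_one_sub
          have h2 : (∏ i ∈ Finset.range k, y i) * (1 - y k * c) = 0 := by
            rw [mul_sub, mul_one, ← mul_assoc, hc, sub_self]
          exact hzk ((hunit.mul_left_eq_zero).mp h2)
      have := Submodule.finrank_lt_finrank_of_lt hlt
      omega
  rcases key (Module.finrank K C) with h | h
  · exact h
  · have h0 : Module.finrank K (LinearMap.range
        (LinearMap.mulLeft K (∏ i ∈ Finset.range (Module.finrank K C), y i))) = 0 := by omega
    rw [Submodule.finrank_eq_zero] at h0
    have h1 : ∏ i ∈ Finset.range (Module.finrank K C), y i ∈ LinearMap.range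
        (LinearMap.mulLeft K (∏ i ∈ Finset.range (Module.finrank K C), y i)) := ⟨1, by simp⟩
    rw [h0] at h1
    exact (Submodule.mem_bot K).mp h1

theorem pow_le_of_forall_prod {S : Type*} [CommRing S] (m : Ideal S) : ∀ (k : ℕ) (J : Ideal S),
    (∀ x : ℕ → S, (∀ i, x i ∈ m) → ∏ i ∈ Finset.range k, x i ∈ J) → m ^ k ≤ J := by
  intro k
  induction k with
  | zero =>
    intro J h
    have h1 := h (fun _ => 0) (fun _ => m.zero_mem)
    simp only [Finset.range_zero, Finset.prod_empty] at h1
    rw [(Ideal.eq_top_iff_one J).mpr h1]
    exact le_top
  | succ k ih =>
    intro J h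
    rw [pow_succ, Ideal.mul_le]
    intro b hb a ha
    have h2 := ih (Submodule.comap (LinearMap.mulRight S a) J) (by
      intro x hx
      rw [Submodule.mem_comap, LinearMap.mulRight_apply]
      have h3 := h (fun i => if i < k then x i else a) (by
        intro i
        show (if i < k then x i else a) ∈ m
        split_ifs
        · exact hx i
        · exact ha)
      rw [Finset.prod_range_succ] at h3
      simp only [lt_self_iff_false, if_false] at h3
      have h4 : ∏ i ∈ Finset.range k, (if i < k then x i else a) = ∏ i ∈ Finset.range k, x i := by
        apply Finset.prod_congr rfl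
        intro i hi
        rw [if_pos (Finset.mem_range.mp hi)]
      rwa [h4] at h3)
    exact h2 hb

/-- Let A be a reduced commutative ring, S an A-algebra together with an A-algebra homomorphism π : S →
A (a section of Spec S → Spec A), with kernel m, and I an ideal of S such that S/I is a finite
projective A-module of constant rank d and m is contained in the radical of I (the finite flat
subscheme Spec S/I of degree d lies, as a set, on the section). Then m^d ⊆ I: the subscheme lies in
the (d−1)-st infinitesimal neighbourhood of the section. (The published statement is for a closed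
subscheme, flat and proper of degree d over a Noetherian base, of a family of reduced curve
singularities with a section, with no reducedness assumption on the base; over the dual numbers k[ε]
the ideal (x − ε) of k[ε][x] has quotient free of rank one and radical containing x but does not
contain x, so the base is taken reduced here, and the statement is given in its affine form, to
which the argument reduces at once; the curve hypotheses play no role and are dropped; the condition
that Spec S/I lies set-theoretically on the section, which the published argument deduces from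
properness of Z inside the germ, is a hypothesis here.) -/
theorem result (A : Type u) [CommRing A] [IsReduced A]
    (S : Type u) [CommRing S] [Algebra A S] (π : S →ₐ[A] A) (I : Ideal S) (d : ℕ)
    [Module.Finite A (S ⧸ I)] [Module.Projective A (S ⧸ I)]
    (hrank : ∀ p : PrimeSpectrum A, Module.rankAtStalk (R := A) (S ⧸ I) p = d)
    (hsupp : RingHom.ker π ≤ I.radical) :
    RingHom.ker π ^ d ≤ I := by
  classical
  apply pow_le_of_forall_prod
  intro x hx
  rw [← Ideal.Quotient.eq_zero_iff_mem, map_prod]
  have hnil : ∀ i, IsNilpotent (Ideal.Quotient.mk I (x i)) := by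
    intro i
    obtain ⟨n, hn⟩ := Ideal.mem_radical_iff.mp (hsupp (hx i))
    exact ⟨n, by rw [← map_pow]; exact Ideal.Quotient.eq_zero_iff_mem.mpr hn⟩
  obtain ⟨n, pr, hpr⟩ := Module.Finite.exists_fin' A (S ⧸ I)
  obtain ⟨g, hg⟩ := Module.projective_lifting_property pr LinearMap.id hpr
  have hginj : Function.Injective g := by
    intro u v huv
    have h1 := congrArg pr huv
    rwa [← LinearMap.comp_apply, ← LinearMap.comp_apply, hg] at h1
  apply hginj
  rw [map_zero]
  funext j
  have hmem : (g (∏ i ∈ Finset.range d, Ideal.Quotient.mk I (x i))) j ∈ nilradical A := by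
    rw [nilradical_eq_sInf, Ideal.mem_sInf]
    intro p hp
    have hp' : p.IsPrime := hp
    have hfin : Module.finrank p.ResidueField (TensorProduct A p.ResidueField (S ⧸ I)) = d := by
      rw [← hrank ⟨p, hp'⟩, Module.rankAtStalk_eq]
    have hz := prod_eq_zero_of_nilpotent (K := p.ResidueField)
      (C := TensorProduct A p.ResidueField (S ⧸ I))
      (fun i => (Algebra.TensorProduct.includeRight :
        (S ⧸ I) →ₐ[A] TensorProduct A p.ResidueField (S ⧸ I)) (Ideal.Quotient.mk I (x i)))
      (fun i => (hnil i).map _)
    rw [hfin, ← map_prod] at hz
    have h1 : ∀ b : S ⧸ I, ((TensorProduct.rid A p.ResidueField).toLinearMap ∘ₗ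
        LinearMap.lTensor p.ResidueField ((LinearMap.proj j) ∘ₗ g))
        ((Algebra.TensorProduct.includeRight :
          (S ⧸ I) →ₐ[A] TensorProduct A p.ResidueField (S ⧸ I)) b) =
        algebraMap A p.ResidueField ((g b) j) := by
      intro b
      simp [Algebra.TensorProduct.includeRight_apply, Algebra.algebraMap_eq_smul_one]
    have h1 := h1 (∏ i ∈ Finset.range d, Ideal.Quotient.mk I (x i))
    rw [hz, map_zero] at h1
    exact Ideal.algebraMap_residueField_eq_zero.mp h1.symm
  exact IsReduced.eq_zero _ (mem_nilradical.mp hmem)

end Groth.Agent.S15150
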