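import Groth.Statements.S15151
import Mathlib

set_option autoImplicit false
universe u
open CategoryTheory AlgebraicGeometry
open HilbZeta

namespace Groth.Agent.S15151


/-- Let k be a field, and let f : X → Y and g : Y → Spec k[t] be morphisms of schemes with f
quasi-compact and with zero kernel ideal sheaf (Y is the scheme-theoretic image of f), such that the
composite X → Spec k[t] is flat. Then g is flat; in particular a k[t]-subalgebra of a flat
k[t]-algebra is flat. (The published statement has no quasi-compactness hypothesis on f and is over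
an algebraically closed field; this row assumes f quasi-compact and allows any field.) -/
theorem result (k : Type u) [Field k]
    (X Y : Scheme.{u}) (f : X ⟶ Y) (g : Y ⟶ Spec (CommRingCat.of (Polynomial k)))
    [QuasiCompact f] (hker : f.ker = ⊥) [Flat (f ≫ g)] : Flat g := by
  classical
  rw [HasRingHomProperty.iff_of_iSup_eq_top (P := @Flat) (fun V : Y.affineOpens => V)
    (iSup_affineOpens_eq_top Y)]
  intro V
  -- injectivity of f.app V
  have hinj : Function.Injective (f.app V.1).hom := by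
    rw [injective_iff_map_eq_zero]
    intro m hm
    have h1 : m ∈ RingHom.ker (f.app V.1).hom := hm
    rw [← Scheme.Hom.ker_apply, hker, Scheme.IdealSheafData.ideal_bot] at h1
    exact h1
  -- the base ring is a PID
  let e : Γ(Spec (CommRingCat.of (Polynomial k)), ⊤) ≃+* Polynomial k :=
    (Scheme.ΓSpecIso (CommRingCat.of (Polynomial k))).commRingCatIsoToRingEquiv
  haveI : IsDomain Γ(Spec (CommRingCat.of (Polynomial k)), ⊤) := MulEquiv.isDomain _ e.toMulEquiv
  haveI : IsPrincipalIdealRing Γ(Spec (CommRingCat.of (Polynomial k)), ⊤) :=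
    IsPrincipalIdealRing.of_surjective e.symm.toRingHom e.symm.surjective
  have hflatX : ∀ U : X.affineOpens, ∀ hU : U.1 ≤ (f ≫ g) ⁻¹ᵁ ⊤,
      ((f ≫ g).appLE ⊤ U.1 hU).hom.Flat := fun U hU =>
    HasRingHomProperty.appLE (P := @Flat) (f ≫ g) inferInstance ⟨⊤, isAffineOpen_top _⟩ U hU
  algebraize [(g.appLE ⊤ V.1 le_top).hom]
  rw [RingHom.Flat]
  apply Module.Flat.flat_iff_torsion_eq_bot_of_isBezout.mpr
  rw [eq_bot_iff]
  rintro m ⟨⟨r, hr⟩, h⟩
  have h' : (g.appLE ⊤ V.1 le_top).hom r * m = 0 := h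
  rw [Submodule.mem_bot]
  apply hinj
  rw [map_zero]
  -- locally zero on affine opens of f⁻¹V
  apply X.sheaf.eq_of_locally_eq' (fun U : {U : X.affineOpens // U.1 ≤ f ⁻¹ᵁ V.1} => U.1.1)
    (f ⁻¹ᵁ V.1) (fun U => homOfLE U.2)
  · intro x hx
    obtain ⟨U, hU, hxU, hUV⟩ := (TopologicalSpace.Opens.isBasis_iff_nbhd.mp X.isBasis_affineOpens) hx
    rw [TopologicalSpace.Opens.mem_iSup]
    exact ⟨⟨⟨U, hU⟩, hUV⟩, hxU⟩
  · rintro ⟨U, hU⟩
    refine Eq.trans ?_ (map_zero (X.presheaf.map (homOfLE hU).op).hom).symm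
    change (f.appLE V.1 U.1 hU).hom m = 0
    have hUtop : U.1 ≤ (f ≫ g) ⁻¹ᵁ ⊤ := le_top
    have hfl := hflatX U hUtop
    algebraize [((f ≫ g).appLE ⊤ U.1 hUtop).hom]
    have hreg := Module.Flat.isSMulRegular_of_nonZeroDivisors (M := Γ(X, U.1)) hr
    apply hreg
    change r • _ = r • (0 : Γ(X, U.1))
    rw [smul_zero]
    change ((f ≫ g).appLE ⊤ U.1 hUtop).hom r * _ = 0
    have hcomp : (f ≫ g).appLE ⊤ U.1 hUtop = g.appLE ⊤ V.1 le_top ≫ f.appLE V.1 U.1 hU :=
      (Scheme.Hom.appLE_comp_appLE f g ⊤ V.1 U.1 le_top hU).symm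
    rw [hcomp]
    change (f.appLE V.1 U.1 hU).hom ((g.appLE ⊤ V.1 le_top).hom r) * _ = 0
    rw [← map_mul, h', map_zero]

end Groth.Agent.S15151
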