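import Groth.Statements.S15153
import Mathlib

set_option autoImplicit false
universe u
open TensorProduct
open HilbZeta

namespace Groth.Agent.S15153

lemma exists_rows {K : Type*} [Field K] {m n : Type*} [Fintype m] [Fintype n]
    (N : Matrix m n K) (j : ℕ) (hj : j ≤ N.rank) :
    ∃ rows : Fin j → m, LinearIndependent K (fun l => N (rows l)) := by
  obtain ⟨κ, a, ha, hspan, hli⟩ := exists_linearIndependent' K N.row
  haveI : Finite κ := Finite.of_injective a ha
  cases nonempty_fintype κ
  have hcard : Fintype.card κ = N.rank := by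
    rw [N.rank_eq_finrank_span_row, ← hspan]
    exact (linearIndependent_iff_card_eq_finrank_span.mp hli)
  have hle : Fintype.card (Fin j) ≤ Fintype.card κ := by simpa [hcard] using hj
  obtain ⟨e⟩ := Function.Embedding.nonempty_of_card_le hle
  exact ⟨a ∘ e, hli.comp e e.injective⟩

lemma rank_ge_iff_minor {K : Type*} [Field K] {m n : Type*} [Fintype m] [Fintype n]
    [DecidableEq m] [DecidableEq n]
    (N : Matrix m n K) (j : ℕ) :
    j ≤ N.rank ↔ ∃ (rows : Fin j → m) (cols : Fin j → n), (N.submatrix rows cols).det ≠ 0 := by
  constructor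
  · intro hj
    obtain ⟨rows, hrows⟩ := exists_rows N j hj
    have hr : (N.submatrix rows id).rank = j := by
      have := LinearIndependent.rank_matrix (M := N.submatrix rows id) hrows
      simpa using this
    have hr' : j ≤ (N.submatrix rows id).transpose.rank := by
      rw [Matrix.rank_transpose, hr]
    obtain ⟨cols, hcols⟩ := exists_rows _ j hr'
    refine ⟨rows, cols, ?_⟩
    have hu : IsUnit ((N.submatrix rows cols).transpose) :=
      Matrix.linearIndependent_rows_iff_isUnit.mp hcols
    have hd := (Matrix.isUnit_iff_isUnit_det _).mp hu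
    rw [Matrix.det_transpose] at hd
    exact hd.ne_zero
  · rintro ⟨rows, cols, hdet⟩
    have h1 := Matrix.rank_of_det_ne_zero hdet
    have h2 := Matrix.rank_submatrix_le N rows cols
    simpa [h1] using h2

lemma rank_residue_ge_iff {A : Type*} [CommRing A] {r : ℕ} {c : Type*} [Fintype c] [DecidableEq c]
    (Mat : Matrix (Fin r) c A) (p : PrimeSpectrum A) (j : ℕ) :
    j ≤ (Mat.map (algebraMap A p.asIdeal.ResidueField)).rank ↔
      ∃ (rows : Fin j → Fin r) (cols : Fin j → c), (Mat.submatrix rows cols).det ∉ p.asIdeal := by
  rw [rank_ge_iff_minor]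
  refine exists_congr fun rows => exists_congr fun cols => ?_
  rw [← Ideal.algebraMap_residueField_eq_zero, RingHom.map_det]
  rfl

lemma isOpen_rank_ge {A : Type*} [CommRing A] {r : ℕ} {c : Type*} [Fintype c] [DecidableEq c]
    (Mat : Matrix (Fin r) c A) (j : ℕ) :
    IsOpen {p : PrimeSpectrum A | j ≤ (Mat.map (algebraMap A p.asIdeal.ResidueField)).rank} := by
  have : {p : PrimeSpectrum A | j ≤ (Mat.map (algebraMap A p.asIdeal.ResidueField)).rank} =
      ⋃ (rows : Fin j → Fin r) (cols : Fin j → c),
        (PrimeSpectrum.basicOpen ((Mat.submatrix rows cols).det) : Set (PrimeSpectrum A)) := by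
    ext p
    simp only [Set.mem_setOf_eq, Set.mem_iUnion, rank_residue_ge_iff]
    rfl
  rw [this]
  exact isOpen_iUnion fun rows => isOpen_iUnion fun cols => (PrimeSpectrum.basicOpen _).isOpen

lemma constructible_rank_eq {A : Type*} [CommRing A] [IsNoetherianRing A] {r : ℕ} {c : Type*}
    [Fintype c] [DecidableEq c] (Mat : Matrix (Fin r) c A) (n : ℕ) :
    Topology.IsConstructible
      {p : PrimeSpectrum A | (Mat.map (algebraMap A p.asIdeal.ResidueField)).rank = n} := by
  have h1 := isOpen_rank_ge Mat n
  have h2 := isOpen_rank_ge Mat (n + 1)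
  have e : {p : PrimeSpectrum A | (Mat.map (algebraMap A p.asIdeal.ResidueField)).rank = n} =
      {p : PrimeSpectrum A | n ≤ (Mat.map (algebraMap A p.asIdeal.ResidueField)).rank} \
      {p : PrimeSpectrum A | n + 1 ≤ (Mat.map (algebraMap A p.asIdeal.ResidueField)).rank} := by
    ext p
    simp only [Set.mem_setOf_eq, Set.mem_diff]
    omega
  rw [e]
  exact ((TopologicalSpace.NoetherianSpace.isCompact _).isConstructible h1).sdiff
    ((TopologicalSpace.NoetherianSpace.isCompact _).isConstructible h2)

lemma fibre_rank {A : Type u} [CommRing A] [IsNoetherianRing A] (S : Type u) [CommRing S]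
    [Algebra A S] (Q : Type u) [AddCommGroup Q] [Module A Q] [Module S Q] [IsScalarTower A S Q]
    [Module.Finite A Q] [Module.Flat A Q] :
    ∃ (r t : ℕ) (Mat : Matrix (Fin r) (Fin t × Fin t) A), ∀ p : PrimeSpectrum A,
      Module.finrank p.asIdeal.ResidueField
        (Submodule.span p.asIdeal.ResidueField
          (Set.range fun s : S =>
            LinearMap.baseChange p.asIdeal.ResidueField (DistribSMul.toLinearMap A Q s))) =
      (Mat.map (algebraMap A p.asIdeal.ResidueField)).rank := by
  classical
  haveI : Module.FinitePresentation A Q := Module.finitePresentation_of_finite A Q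
  haveI : Module.Projective A Q := Module.Flat.projective_of_finitePresentation
  obtain ⟨t, π, hπ⟩ := Module.Finite.exists_fin' A Q
  obtain ⟨ι, hι⟩ := Module.projective_lifting_property π LinearMap.id hπ
  have hπι : ∀ y, π (ι y) = y := fun y => LinearMap.congr_fun hι y
  set q : Fin t → Q := fun i => π (fun j => if i = j then 1 else 0) with hq
  have hrec : ∀ y : Q, y = ∑ j, (ι y j) • q j := by
    intro y
    conv_lhs => rw [← hπι y]
    exact LinearMap.pi_apply_eq_sum_univ π (ι y)
  set w : S →ₗ[A] (Fin t × Fin t → A) := LinearMap.pi fun ij =>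
    (LinearMap.proj ij.2) ∘ₗ ι ∘ₗ ((LinearMap.toSpanSingleton S Q (q ij.1)).restrictScalars A)
    with hwdef
  have hw : ∀ s i j, w s (i, j) = ι (s • q i) j := fun _ _ _ => rfl
  have hfg : (LinearMap.range w).FG := IsNoetherian.noetherian _
  obtain ⟨r, gen, hgen⟩ := Submodule.fg_iff_exists_fin_generating_family.mp hfg
  have hsl : ∀ l, ∃ s, w s = gen l := fun l => by
    have : gen l ∈ LinearMap.range w := hgen ▸ Submodule.subset_span ⟨l, rfl⟩
    exact this
  choose sl hsl using hsl
  refine ⟨r, t, Matrix.of gen, fun p => ?_⟩
  set κ := p.asIdeal.ResidueField with hκ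
  set lam : Fin t → (κ ⊗[A] Q →ₗ[κ] κ) := fun j =>
    LinearMap.liftBaseChange κ ((Algebra.linearMap A κ) ∘ₗ (LinearMap.proj j) ∘ₗ ι) with hlam
  have hlam_tmul : ∀ j (c : κ) (y : Q), lam j (c ⊗ₜ[A] y) = c * algebraMap A κ (ι y j) := by
    intro j c y
    simp [hlam, LinearMap.liftBaseChange_tmul]
  have hrecκ : ∀ x : κ ⊗[A] Q, x = ∑ j, (lam j x) • ((1 : κ) ⊗ₜ[A] q j) := by
    intro x
    induction x using TensorProduct.induction_on with
    | zero => simp
    | tmul c y =>
      have h1 : ∀ j, (lam j (c ⊗ₜ[A] y)) • ((1 : κ) ⊗ₜ[A] q j) = c ⊗ₜ[A] ((ι y j) • q j) := by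
        intro j
        rw [hlam_tmul, TensorProduct.smul_tmul', TensorProduct.tmul_smul, smul_eq_mul, mul_one,
          TensorProduct.smul_tmul', Algebra.smul_def, mul_comm]
      simp_rw [h1]
      rw [← TensorProduct.tmul_sum, ← hrec y]
    | add x y hx hy =>
      conv_lhs => rw [hx, hy]
      rw [← Finset.sum_add_distrib]
      apply Finset.sum_congr rfl
      intro j _
      rw [map_add, add_smul]
  set Φ : Module.End κ (κ ⊗[A] Q) →ₗ[κ] (Fin t × Fin t → κ) := LinearMap.pi fun ij =>
    (lam ij.2) ∘ₗ (LinearMap.applyₗ ((1 : κ) ⊗ₜ[A] q ij.1)) with hΦdef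
  have hΦ : ∀ (T' : Module.End κ (κ ⊗[A] Q)) i j, Φ T' (i, j) = lam j (T' ((1 : κ) ⊗ₜ[A] q i)) :=
    fun _ _ _ => rfl
  have hΦinj : Function.Injective Φ := by
    rw [injective_iff_map_eq_zero]
    intro T' hT'
    have h0 : ∀ i, T' ((1 : κ) ⊗ₜ[A] q i) = 0 := by
      intro i
      rw [hrecκ (T' ((1 : κ) ⊗ₜ[A] q i))]
      apply Finset.sum_eq_zero
      intro j _
      rw [← hΦ, hT']
      simp
    apply LinearMap.ext
    intro x
    rw [hrecκ x, map_sum]
    simp only [map_smul, h0, smul_zero, Finset.sum_const_zero, LinearMap.zero_apply]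
  have hΦT : ∀ s : S, Φ (LinearMap.baseChange κ (DistribSMul.toLinearMap A Q s)) =
      fun ij => algebraMap A κ (w s ij) := by
    intro s
    funext ij
    obtain ⟨i, j⟩ := ij
    rw [hΦ, LinearMap.baseChange_tmul, hlam_tmul, one_mul, hw]
    rfl
  have hspan : Submodule.span κ (Set.range (⇑Φ ∘ fun s : S =>
      LinearMap.baseChange κ (DistribSMul.toLinearMap A Q s))) =
      Submodule.span κ (Set.range ((Matrix.of gen).map (algebraMap A κ)).row) := by
    apply le_antisymm
    · rw [Submodule.span_le]
      rintro _ ⟨s, rfl⟩
      simp only [Function.comp_apply, hΦT]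
      have hmem : w s ∈ Submodule.span A (Set.range gen) := hgen ▸ LinearMap.mem_range_self w s
      obtain ⟨c, hc⟩ := (Submodule.mem_span_range_iff_exists_fun A).mp hmem
      have : (fun ij => algebraMap A κ (w s ij)) =
          ∑ l, algebraMap A κ (c l) • ((Matrix.of gen).map (algebraMap A κ)).row l := by
        funext ij
        rw [← hc]
        simp [Matrix.row, Finset.sum_apply, map_sum]
        apply Finset.sum_congr rfl
        intro l _
        rw [Algebra.smul_def]
      rw [this]
      exact Submodule.sum_mem _ fun l _ => Submodule.smul_mem _ _ (Submodule.subset_span ⟨l, rfl⟩)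
    · rw [Submodule.span_le]
      rintro _ ⟨l, rfl⟩
      apply Submodule.subset_span
      refine ⟨sl l, ?_⟩
      simp only [Function.comp_apply, hΦT, hsl]
      rfl
  refine (LinearEquiv.finrank_eq (Submodule.equivMapOfInjective Φ hΦinj _)).trans ?_
  rw [Submodule.map_span, ← Set.range_comp, Matrix.rank_eq_finrank_span_row, hspan]

/-- Let A be a Noetherian commutative ring, S a commutative A-algebra and Q an S-module which is finite
and flat as an A-module. For a prime p of A with residue field κ(p), multiplication by an element of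
S induces a κ(p)-linear endomorphism of the fibre κ(p) ⊗_A Q; let φ(p) be the κ(p)-dimension of the
span of these endomorphisms, which is the colength of the annihilator of the fibre module κ(p) ⊗_A Q
in the fibre algebra κ(p) ⊗_A S (the length of the smallest subscheme of the fibre carrying it).
Then p ↦ φ(p) is a constructible function: for every n the primes with φ(p) = n form a constructible
subset of Spec A. (The published statement is for a coherent sheaf, flat and finite over a
Noetherian base, on a family of reduced curve singularities with a section, and its function of the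
base point is this colength; the curve hypotheses play no role and the row is the affine form over
any Noetherian ring.) -/
theorem result (A : Type u) [CommRing A] [IsNoetherianRing A]
    (S : Type u) [CommRing S] [Algebra A S]
    (Q : Type u) [AddCommGroup Q] [Module A Q] [Module S Q] [IsScalarTower A S Q]
    [Module.Finite A Q] [Module.Flat A Q] (n : ℕ) :
    Topology.IsConstructible {p : PrimeSpectrum A |
      Module.finrank p.asIdeal.ResidueField
        (Submodule.span p.asIdeal.ResidueField
          (Set.range fun s : S =>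
            LinearMap.baseChange p.asIdeal.ResidueField (DistribSMul.toLinearMap A Q s))) = n} := by
  classical
  obtain ⟨r, t, Mat, hMat⟩ := fibre_rank (A := A) S Q
  have := constructible_rank_eq Mat n
  have e : {p : PrimeSpectrum A |
      Module.finrank p.asIdeal.ResidueField
        (Submodule.span p.asIdeal.ResidueField
          (Set.range fun s : S =>
            LinearMap.baseChange p.asIdeal.ResidueField (DistribSMul.toLinearMap A Q s))) = n} =
      {p : PrimeSpectrum A | (Mat.map (algebraMap A p.asIdeal.ResidueField)).rank = n} := by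
    ext p
    simp only [Set.mem_setOf_eq]
    rw [hMat p]
  rw [e]
  exact this

end Groth.Agent.S15153
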