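import Groth.Statements.S15159
import Mathlib

set_option autoImplicit false
open CAlg

namespace Groth.Agent.S15159

lemma finrank_biSup {H : Type} [AddCommGroup H] [Module ℂ H] [FiniteDimensional ℂ H]
    {ι : Type} (Hs : ι → Submodule ℂ H) (hind : iSupIndep Hs) (S : Finset ι) :
    Module.finrank ℂ ↥(⨆ i ∈ S, Hs i) = ∑ i ∈ S, Module.finrank ℂ (Hs i) := by
  classical
  induction S using Finset.induction_on with
  | empty => simp
  | insert a S ha ih =>
    rw [Finset.sum_insert ha, Finset.iSup_insert]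
    have hdisj : Disjoint (Hs a) (⨆ i ∈ S, Hs i) := by
      have := hind.disjoint_biSup (x := a) (y := (↑S : Set ι)) (by simpa using ha)
      simpa using this
    have h2 := Submodule.finrank_sup_add_finrank_inf_eq (Hs a) (⨆ i ∈ S, Hs i)
    rw [hdisj.eq_bot, finrank_bot, add_zero] at h2
    rw [h2, ih]

lemma layer (z : ℤ) (K : ℕ) :
    ∑ a ∈ Finset.range K, ((if (a:ℤ) < z then (1:ℤ) else 0) -
      (if z ≤ -((a:ℤ)+1) then (1:ℤ) else 0)) = max (-(K:ℤ)) (min z K) := by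
  induction K with
  | zero => simp
  | succ K ih =>
    rw [Finset.sum_range_succ, ih]
    push_cast
    split_ifs <;> omega

lemma comb {ι : Type} [Fintype ι] (m : ι → ℤ) (d : ι → ℕ) (N P : ℤ → ℕ)
    (hN : ∀ c, N c = ∑ i ∈ Finset.univ.filter (fun i => m i ≤ c), d i)
    (hP : ∀ c, P c = ∑ i ∈ Finset.univ.filter (fun i => c < m i), d i)
    (hsum : ∑ i, m i * (d i : ℤ) = 0)
    (h1 : ∀ a : ℕ, N (-((a:ℤ)+1)) ≤ P a)
    (h2 : (∀ a : ℕ, N (-((a:ℤ)+1)) ≤ P ((a:ℤ)+1)) ∨
      (∀ a : ℕ, 0 < N (-((a:ℤ)+1)) → N (-((a:ℤ)+1)) < P a)) :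
    ∀ i, m i ≠ 0 → d i = 0 := by
  classical
  set M : ℕ := ∑ i, (m i).natAbs with hMdef
  have hM : ∀ i, (m i).natAbs ≤ M := fun i =>
    Finset.single_le_sum (f := fun i => (m i).natAbs) (fun _ _ => Nat.zero_le _) (Finset.mem_univ i)
  have hrew : ∑ i, m i * (d i : ℤ) =
      ∑ a ∈ Finset.range M, ((P a : ℤ) - (N (-((a:ℤ)+1)) : ℤ)) := by
    have hpt : ∀ i, m i = ∑ a ∈ Finset.range M, ((if (a:ℤ) < m i then (1:ℤ) else 0) -
        (if m i ≤ -((a:ℤ)+1) then (1:ℤ) else 0)) := by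
      intro i
      rw [layer (m i) M]
      have := hM i
      omega
    calc ∑ i, m i * (d i : ℤ) = ∑ i, ∑ a ∈ Finset.range M,
          ((if (a:ℤ) < m i then (1:ℤ) else 0) -
            (if m i ≤ -((a:ℤ)+1) then (1:ℤ) else 0)) * (d i : ℤ) := by
          apply Finset.sum_congr rfl
          intro i _
          conv_lhs => rw [hpt i]
          rw [Finset.sum_mul]
      _ = ∑ a ∈ Finset.range M, ∑ i, ((if (a:ℤ) < m i then (1:ℤ) else 0) -
            (if m i ≤ -((a:ℤ)+1) then (1:ℤ) else 0)) * (d i : ℤ) := Finset.sum_comm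
      _ = _ := by
          apply Finset.sum_congr rfl
          intro a _
          rw [hP, hN]
          push_cast
          rw [Finset.sum_filter, Finset.sum_filter, ← Finset.sum_sub_distrib]
          apply Finset.sum_congr rfl
          intro i _
          split_ifs <;> simp
  have hnn : ∀ a ∈ Finset.range M, (0:ℤ) ≤ (P a : ℤ) - (N (-((a:ℤ)+1)) : ℤ) := by
    intro a _
    have := h1 a
    omega
  have hz := (Finset.sum_eq_zero_iff_of_nonneg hnn).mp (hrew ▸ hsum)
  have hbig : ∀ a : ℕ, M ≤ a → P a = 0 ∧ N (-((a:ℤ)+1)) = 0 := by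
    intro a ha
    constructor
    · rw [hP]; apply Finset.sum_eq_zero; intro i hi
      rw [Finset.mem_filter] at hi
      have := hM i; omega
    · rw [hN]; apply Finset.sum_eq_zero; intro i hi
      rw [Finset.mem_filter] at hi
      have := hM i; omega
  have hEq : ∀ a : ℕ, N (-((a:ℤ)+1)) = P a := by
    intro a
    by_cases ha : a < M
    · have := hz a (Finset.mem_range.mpr ha); omega
    · obtain ⟨h3, h4⟩ := hbig a (by omega); rw [h3, h4]
  have hfin : P 0 = 0 ∧ N (-1) = 0 := by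
    rcases h2 with h2 | h2
    · have hmono : ∀ a : ℕ, P 0 ≤ P a := by
        intro a
        induction a with
        | zero => simp
        | succ a ih =>
          have h5 := h2 a
          have h6 := hEq a
          push_cast
          omega
      have h5 := (hbig M le_rfl).1
      have h6 := hmono M
      have h7 : P 0 = 0 := by omega
      have h8 := hEq 0
      simp at h8
      exact ⟨h7, by omega⟩
    · have h8 := hEq 0
      have h9 := h2 0
      simp at h8 h9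
      omega
  intro i hi
  obtain ⟨hP0, hN1⟩ := hfin
  rcases lt_or_gt_of_ne hi with hlt | hgt
  · have : d i ≤ N (-1) := by
      rw [hN]
      exact Finset.single_le_sum (f := d) (fun _ _ => Nat.zero_le _)
        (Finset.mem_filter.mpr ⟨Finset.mem_univ i, by omega⟩)
    omega
  · have : d i ≤ P 0 := by
      rw [hP]
      exact Finset.single_le_sum (f := d) (fun _ _ => Nat.zero_le _)
        (Finset.mem_filter.mpr ⟨Finset.mem_univ i, by omega⟩)
    omega

lemma bil {W H : Type} [AddCommGroup W] [Module ℂ W] [AddCommGroup H] [Module ℂ H]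
    (q : H →ₗ[ℂ] H →ₗ[ℂ] W) {ι : Type} (Hs : ι → Submodule ℂ H) (S T : Finset ι)
    (h : ∀ i ∈ T, ∀ j ∈ S, ∀ x ∈ Hs i, ∀ y ∈ Hs j, q x y = 0) :
    ∀ x ∈ (⨆ i ∈ T, Hs i), ∀ y ∈ (⨆ j ∈ S, Hs j), q x y = 0 := by
  intro x hx y hy
  have step1 : ∀ i ∈ T, ∀ x ∈ Hs i, ∀ y ∈ (⨆ j ∈ S, Hs j), q x y = 0 := by
    intro i hi x hx y hy
    have hle : (⨆ j ∈ S, Hs j) ≤ LinearMap.ker (q x) :=
      iSup₂_le (fun j hj y hy => LinearMap.mem_ker.mpr (h i hi j hj x hx y hy))
    exact LinearMap.mem_ker.mp (hle hy)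
  have hle : (⨆ i ∈ T, Hs i) ≤ LinearMap.ker (q.flip y) :=
    iSup₂_le (fun i hi x hx => by
      rw [LinearMap.mem_ker, LinearMap.flip_apply]; exact step1 i hi x hx y hy)
  have := hle hx
  rwa [LinearMap.mem_ker, LinearMap.flip_apply] at this

lemma mem_perp {W H : Type} [AddCommGroup W] [Module ℂ W] [AddCommGroup H] [Module ℂ H]
    (q : H →ₗ[ℂ] H →ₗ[ℂ] W) (V : Submodule ℂ H) (x : H) :
    x ∈ (⨅ (y : H) (_ : y ∈ V), LinearMap.ker (q.flip y) : Submodule ℂ H) ↔
      ∀ y ∈ V, q x y = 0 := by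
  simp only [Submodule.mem_iInf, LinearMap.mem_ker, LinearMap.flip_apply]

lemma key {W H : Type} [AddCommGroup W] [Module ℂ W] [AddCommGroup H] [Module ℂ H]
    [FiniteDimensional ℂ H]
    (q : H →ₗ[ℂ] H →ₗ[ℂ] W) {ι : Type} (Hs : ι → Submodule ℂ H) (hind : iSupIndep Hs)
    (S T : Finset ι)
    (hSS : ∀ i ∈ S, ∀ j ∈ S, ∀ x ∈ Hs i, ∀ y ∈ Hs j, q x y = 0)
    (hTS : ∀ i ∈ T, ∀ j ∈ S, ∀ x ∈ Hs i, ∀ y ∈ Hs j, q x y = 0) :
    (∀ x ∈ (⨆ i ∈ S, Hs i), ∀ y ∈ (⨆ i ∈ S, Hs i), q x y = 0) ∧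
    ∑ i ∈ T, Module.finrank ℂ (Hs i) ≤
      Module.finrank ℂ ↥(⨅ (y : H) (_ : y ∈ (⨆ i ∈ S, Hs i)), LinearMap.ker (q.flip y) :
        Submodule ℂ H) := by
  refine ⟨bil q Hs S S hSS, ?_⟩
  rw [← finrank_biSup Hs hind T]
  apply Submodule.finrank_mono
  intro x hx
  rw [mem_perp]
  intro y hy
  exact bil q Hs S T hTS x hx y hy

lemma dirB_le {W H : Type} [AddCommGroup W] [Module ℂ W] [AddCommGroup H] [Module ℂ H]
    [FiniteDimensional ℂ H] (q : H →ₗ[ℂ] H →ₗ[ℂ] W)
    (hV : ∀ V : Submodule ℂ H, V ≠ ⊥ → (∀ x ∈ V, ∀ y ∈ V, q x y = 0) →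
        Module.finrank ℂ V + Module.finrank ℂ ↥(⨅ (y : H) (_ : y ∈ V), LinearMap.ker (q.flip y) : Submodule ℂ H) ≤ Module.finrank ℂ H)
    (ι : Type) [Fintype ι] [DecidableEq ι] (Hs : ι → Submodule ℂ H) (m : ι → ℤ)
    (hint : DirectSum.IsInternal Hs) (hsum : (∑ i, m i * (Module.finrank ℂ (Hs i) : ℤ)) = 0)
    (hex : ∃ i, m i ≠ 0 ∧ Hs i ≠ ⊥) :
    ∃ i j, (∃ x ∈ Hs i, ∃ y ∈ Hs j, q x y ≠ 0) ∧ m i + m j ≤ 0 := by
  by_contra hne
  have hvan : ∀ i j, m i + m j ≤ 0 → ∀ x ∈ Hs i, ∀ y ∈ Hs j, q x y = 0 := by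
    intro i j hij x hx y hy
    by_contra hxy
    exact hne ⟨i, j, ⟨x, hx, y, hy, hxy⟩, hij⟩
  have hind := hint.submodule_iSupIndep
  have htop := hint.submodule_iSup_eq_top
  have hh : ∑ i, Module.finrank ℂ (Hs i) = Module.finrank ℂ H := by
    have := finrank_biSup Hs hind Finset.univ
    have e : (⨆ i ∈ (Finset.univ : Finset ι), Hs i) = ⊤ := by simp [htop]
    rw [e, finrank_top] at this
    exact this.symm
  have hNP : ∀ c : ℤ, (∑ i ∈ Finset.univ.filter (fun i => m i ≤ c), Module.finrank ℂ (Hs i)) +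
      (∑ i ∈ Finset.univ.filter (fun i => c < m i), Module.finrank ℂ (Hs i)) =
      Module.finrank ℂ H := by
    intro c
    rw [← hh, ← Finset.sum_filter_add_sum_filter_not Finset.univ (fun i => m i ≤ c)]
    simp only [not_le]
  obtain ⟨i0, hm0, hH0⟩ := hex
  apply hH0
  rw [← Submodule.finrank_eq_zero]
  have claimA : ∀ a : ℕ, (∑ i ∈ Finset.univ.filter (fun i => m i ≤ -((a:ℤ)+1)),
      Module.finrank ℂ (Hs i)) ≤
      ∑ i ∈ Finset.univ.filter (fun i => ((a:ℤ)+1) < m i), Module.finrank ℂ (Hs i) := by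
    intro a
    obtain ⟨hiso, hperp⟩ := key q Hs hind (Finset.univ.filter (fun i => m i ≤ -((a:ℤ)+1)))
      (Finset.univ.filter (fun i => m i ≤ (a:ℤ)+1))
      (by
        intro i hi j hj
        rw [Finset.mem_filter] at hi hj
        exact hvan i j (by omega))
      (by
        intro i hi j hj
        rw [Finset.mem_filter] at hi hj
        exact hvan i j (by omega))
    have hfr := finrank_biSup Hs hind (Finset.univ.filter (fun i => m i ≤ -((a:ℤ)+1)))
    by_cases hbot : (⨆ i ∈ Finset.univ.filter (fun i => m i ≤ -((a:ℤ)+1)), Hs i) = ⊥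
    · rw [hbot, finrank_bot] at hfr
      omega
    · have h3 := hV _ hbot hiso
      have h4 := hNP ((a:ℤ)+1)
      omega
  refine comb m (fun i => Module.finrank ℂ (Hs i))
    (fun c => ∑ i ∈ Finset.univ.filter (fun i => m i ≤ c), Module.finrank ℂ (Hs i))
    (fun c => ∑ i ∈ Finset.univ.filter (fun i => c < m i), Module.finrank ℂ (Hs i))
    (fun _ => rfl) (fun _ => rfl) hsum ?_ (Or.inl claimA) i0 hm0
  intro a
  refine le_trans (claimA a) ?_
  apply Finset.sum_le_sum_of_subset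
  intro i hi
  rw [Finset.mem_filter] at hi ⊢
  exact ⟨hi.1, by omega⟩

lemma dirB_lt {W H : Type} [AddCommGroup W] [Module ℂ W] [AddCommGroup H] [Module ℂ H]
    [FiniteDimensional ℂ H] (q : H →ₗ[ℂ] H →ₗ[ℂ] W)
    (hV : ∀ V : Submodule ℂ H, V ≠ ⊥ → (∀ x ∈ V, ∀ y ∈ V, q x y = 0) →
        Module.finrank ℂ V + Module.finrank ℂ ↥(⨅ (y : H) (_ : y ∈ V), LinearMap.ker (q.flip y) : Submodule ℂ H) < Module.finrank ℂ H)
    (ι : Type) [Fintype ι] [DecidableEq ι] (Hs : ι → Submodule ℂ H) (m : ι → ℤ)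
    (hint : DirectSum.IsInternal Hs) (hsum : (∑ i, m i * (Module.finrank ℂ (Hs i) : ℤ)) = 0)
    (hex : ∃ i, m i ≠ 0 ∧ Hs i ≠ ⊥) :
    ∃ i j, (∃ x ∈ Hs i, ∃ y ∈ Hs j, q x y ≠ 0) ∧ m i + m j < 0 := by
  by_contra hne
  have hvan : ∀ i j, m i + m j < 0 → ∀ x ∈ Hs i, ∀ y ∈ Hs j, q x y = 0 := by
    intro i j hij x hx y hy
    by_contra hxy
    exact hne ⟨i, j, ⟨x, hx, y, hy, hxy⟩, hij⟩
  have hind := hint.submodule_iSupIndep
  have htop := hint.submodule_iSup_eq_top
  have hh : ∑ i, Module.finrank ℂ (Hs i) = Module.finrank ℂ H := by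
    have := finrank_biSup Hs hind Finset.univ
    have e : (⨆ i ∈ (Finset.univ : Finset ι), Hs i) = ⊤ := by simp [htop]
    rw [e, finrank_top] at this
    exact this.symm
  have hNP : ∀ c : ℤ, (∑ i ∈ Finset.univ.filter (fun i => m i ≤ c), Module.finrank ℂ (Hs i)) +
      (∑ i ∈ Finset.univ.filter (fun i => c < m i), Module.finrank ℂ (Hs i)) =
      Module.finrank ℂ H := by
    intro c
    rw [← hh, ← Finset.sum_filter_add_sum_filter_not Finset.univ (fun i => m i ≤ c)]
    simp only [not_le]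
  obtain ⟨i0, hm0, hH0⟩ := hex
  apply hH0
  rw [← Submodule.finrank_eq_zero]
  have claimA : ∀ a : ℕ, ((∑ i ∈ Finset.univ.filter (fun i => m i ≤ -((a:ℤ)+1)),
      Module.finrank ℂ (Hs i)) = 0) ∨ (∑ i ∈ Finset.univ.filter (fun i => m i ≤ -((a:ℤ)+1)),
      Module.finrank ℂ (Hs i)) <
      ∑ i ∈ Finset.univ.filter (fun i => (a:ℤ) < m i), Module.finrank ℂ (Hs i) := by
    intro a
    obtain ⟨hiso, hperp⟩ := key q Hs hind (Finset.univ.filter (fun i => m i ≤ -((a:ℤ)+1)))
      (Finset.univ.filter (fun i => m i ≤ (a:ℤ)))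
      (by
        intro i hi j hj
        rw [Finset.mem_filter] at hi hj
        exact hvan i j (by omega))
      (by
        intro i hi j hj
        rw [Finset.mem_filter] at hi hj
        exact hvan i j (by omega))
    have hfr := finrank_biSup Hs hind (Finset.univ.filter (fun i => m i ≤ -((a:ℤ)+1)))
    by_cases hbot : (⨆ i ∈ Finset.univ.filter (fun i => m i ≤ -((a:ℤ)+1)), Hs i) = ⊥
    · rw [hbot, finrank_bot] at hfr
      left; omega
    · have h3 := hV _ hbot hiso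
      have h4 := hNP (a:ℤ)
      right; omega
  refine comb m (fun i => Module.finrank ℂ (Hs i))
    (fun c => ∑ i ∈ Finset.univ.filter (fun i => m i ≤ c), Module.finrank ℂ (Hs i))
    (fun c => ∑ i ∈ Finset.univ.filter (fun i => c < m i), Module.finrank ℂ (Hs i))
    (fun _ => rfl) (fun _ => rfl) hsum ?_ (Or.inr ?_) i0 hm0
  · intro a
    rcases claimA a with h | h
    · show (∑ i ∈ Finset.univ.filter (fun i => m i ≤ -((a:ℤ)+1)), Module.finrank ℂ (Hs i)) ≤ _
      rw [h]; exact Nat.zero_le _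
    · exact le_of_lt h
  · intro a ha
    rcases claimA a with h | h
    · exfalso
      have ha' : 0 < (∑ i ∈ Finset.univ.filter (fun i => m i ≤ -((a:ℤ)+1)), Module.finrank ℂ (Hs i)) := ha
      omega
    · exact h

lemma dirA_core {W H : Type} [AddCommGroup W] [Module ℂ W] [AddCommGroup H] [Module ℂ H]
    [FiniteDimensional ℂ H] (s : W →ₗ[ℂ] W)
    (q : H →ₗ[ℂ] H →ₗ[ℂ] W) (hq : ∀ x y : H, q x y = s (q y x)) (hq0 : q ≠ 0)
    (V : Submodule ℂ H) (hV0 : V ≠ ⊥) (hiso : ∀ x ∈ V, ∀ y ∈ V, q x y = 0) :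
    ∃ (Hs : Fin 3 → Submodule ℂ H) (m : Fin 3 → ℤ), DirectSum.IsInternal Hs ∧
      (∑ i, m i * (Module.finrank ℂ (Hs i) : ℤ)) = 0 ∧ (∃ i, m i ≠ 0 ∧ Hs i ≠ ⊥) ∧
      ∀ i j, (∃ x ∈ Hs i, ∃ y ∈ Hs j, q x y ≠ 0) →
        2 * ((Module.finrank ℂ V : ℤ) + (Module.finrank ℂ ↥(⨅ (y : H) (_ : y ∈ V),
          LinearMap.ker (q.flip y) : Submodule ℂ H) : ℤ) - (Module.finrank ℂ H : ℤ)) ≤ m i + m j := by
  classical
  set Pp : Submodule ℂ H := (⨅ (y : H) (_ : y ∈ V), LinearMap.ker (q.flip y) : Submodule ℂ H)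
    with hPp
  have hmemP : ∀ x, x ∈ Pp ↔ ∀ y ∈ V, q x y = 0 := fun x => mem_perp q V x
  have hVP : V ≤ Pp := fun x hx => (hmemP x).mpr (fun y hy => hiso x hx y hy)
  obtain ⟨C, hC⟩ := Submodule.exists_isCompl V
  obtain ⟨V'', hV''⟩ := Submodule.exists_isCompl Pp
  set V' : Submodule ℂ H := C ⊓ Pp with hV'
  have hsup : V ⊔ V' = Pp := by
    rw [hV', ← sup_inf_assoc_of_le C hVP, hC.sup_eq_top, top_inf_eq]
  have hinf : V ⊓ V' = ⊥ := by
    rw [eq_bot_iff, ← hC.inf_eq_bot]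
    exact inf_le_inf_left V inf_le_left
  have F1 : Module.finrank ℂ V + Module.finrank ℂ V' = Module.finrank ℂ Pp := by
    have := Submodule.finrank_sup_add_finrank_inf_eq V V'
    rw [hsup, hinf, finrank_bot, add_zero] at this
    exact this.symm
  have F2 : Module.finrank ℂ Pp + Module.finrank ℂ V'' = Module.finrank ℂ H :=
    Submodule.finrank_add_eq_of_isCompl hV''
  -- zero intersection facts
  have hPV'' : ∀ b, b ∈ Pp → b ∈ V'' → b = 0 := by
    intro b h1 h2
    have : b ∈ Pp ⊓ V'' := ⟨h1, h2⟩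
    rw [hV''.inf_eq_bot] at this
    exact (Submodule.mem_bot ℂ).mp this
  have hVC : ∀ b, b ∈ V → b ∈ C → b = 0 := by
    intro b h1 h2
    have : b ∈ V ⊓ C := ⟨h1, h2⟩
    rw [hC.inf_eq_bot] at this
    exact (Submodule.mem_bot ℂ).mp this
  have d0 : Disjoint V (V' ⊔ V'') := by
    rw [Submodule.disjoint_def]
    intro x hx hx2
    obtain ⟨a, ha, b, hb, hab⟩ := Submodule.mem_sup.mp hx2
    have hbP : b ∈ Pp := by
      have : b = x - a := by rw [← hab]; abel
      rw [this]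
      exact Pp.sub_mem (hVP hx) ha.2
    have hb0 := hPV'' b hbP hb
    rw [hb0, add_zero] at hab
    exact hVC x hx (hab ▸ ha.1)
  have d1 : Disjoint V' (V ⊔ V'') := by
    rw [Submodule.disjoint_def]
    intro x hx hx2
    obtain ⟨a, ha, b, hb, hab⟩ := Submodule.mem_sup.mp hx2
    have hbP : b ∈ Pp := by
      have : b = x - a := by rw [← hab]; abel
      rw [this]
      exact Pp.sub_mem hx.2 (hVP ha)
    have hb0 := hPV'' b hbP hb
    rw [hb0, add_zero] at hab
    exact hVC x (hab ▸ ha) hx.1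
  have d2 : Disjoint V'' (V ⊔ V') := by
    rw [hsup]; exact hV''.disjoint.symm
  have F1' : (Module.finrank ℂ V : ℤ) + (Module.finrank ℂ V' : ℤ) = Module.finrank ℂ Pp := by
    exact_mod_cast F1
  have F2' : (Module.finrank ℂ Pp : ℤ) + (Module.finrank ℂ V'' : ℤ) = Module.finrank ℂ H := by
    exact_mod_cast F2
  obtain ⟨t, ht⟩ : ∃ t : ℤ, t = (Module.finrank ℂ V : ℤ) + (Module.finrank ℂ Pp : ℤ) -
      (Module.finrank ℂ H : ℤ) := ⟨_, rfl⟩
  obtain ⟨hh, hhh⟩ : ∃ hh : ℤ, hh = (Module.finrank ℂ H : ℤ) := ⟨_, rfl⟩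
  rw [← ht]
  refine ⟨![V, V', V''], ![t - hh, t, t + hh], ?_, ?_, ?_, ?_⟩
  · apply DirectSum.isInternal_submodule_of_iSupIndep_of_iSup_eq_top
    · intro i
      fin_cases i
      · refine d0.mono_right (iSup₂_le ?_)
        intro j hj
        fin_cases j
        · exact absurd rfl hj
        · exact le_sup_left
        · exact le_sup_right
      · refine d1.mono_right (iSup₂_le ?_)
        intro j hj
        fin_cases j
        · exact le_sup_left
        · exact absurd rfl hj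
        · exact le_sup_right
      · refine d2.mono_right (iSup₂_le ?_)
        intro j hj
        fin_cases j
        · exact le_sup_left
        · exact le_sup_right
        · exact absurd rfl hj
    · rw [eq_top_iff, ← hV''.sup_eq_top, ← hsup]
      refine sup_le (sup_le ?_ ?_) ?_
      · exact le_iSup (![V, V', V'']) 0
      · exact le_iSup (![V, V', V'']) 1
      · exact le_iSup (![V, V', V'']) 2
  · rw [Fin.sum_univ_three]
    show (t - hh) * (Module.finrank ℂ V : ℤ) + t * (Module.finrank ℂ V' : ℤ) +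
      (t + hh) * (Module.finrank ℂ V'' : ℤ) = 0
    rw [ht, hhh]
    linear_combination ((Module.finrank ℂ V : ℤ) + (Module.finrank ℂ Pp : ℤ) -
      (Module.finrank ℂ H : ℤ)) * F1' + ((Module.finrank ℂ V : ℤ) + (Module.finrank ℂ Pp : ℤ) -
      (Module.finrank ℂ H : ℤ) + (Module.finrank ℂ H : ℤ)) * F2'
  · refine ⟨0, ?_, hV0⟩
    show t - hh ≠ 0
    intro h0
    have hle1 : Module.finrank ℂ V ≤ Module.finrank ℂ H := Submodule.finrank_le V
    have hle2 : Module.finrank ℂ Pp ≤ Module.finrank ℂ H := Submodule.finrank_le Pp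
    have hVH : Module.finrank ℂ V = Module.finrank ℂ H := by omega
    have hVtop : V = ⊤ := Submodule.eq_top_of_finrank_eq hVH
    apply hq0
    ext x y
    exact hiso x (hVtop ▸ Submodule.mem_top) y (hVtop ▸ Submodule.mem_top)
  · intro i j hij
    obtain ⟨x, hx, y, hy, hxy⟩ := hij
    have hh0 : (0:ℤ) ≤ hh := by rw [hhh]; exact Int.natCast_nonneg _
    fin_cases i <;> fin_cases j
    · exact absurd (hiso x hx y hy) hxy
    · exfalso; apply hxy
      have hy' : y ∈ V' := hy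
      rw [hq x y, (hmemP y).mp hy'.2 x hx, map_zero]
    · show 2 * t ≤ (t - hh) + (t + hh)
      omega
    · exfalso; apply hxy
      have hx' : x ∈ V' := hx
      exact (hmemP x).mp hx'.2 y hy
    · show 2 * t ≤ t + t
      omega
    · show 2 * t ≤ t + (t + hh)
      omega
    · show 2 * t ≤ (t + hh) + (t - hh)
      omega
    · show 2 * t ≤ (t + hh) + t
      omega
    · show 2 * t ≤ (t + hh) + (t + hh)
      omega

/-- Let W be a finite-dimensional complex vector space with an involution s, H a finite-dimensional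
complex vector space and q : H → H → W a nonzero bilinear map with q(x)(y) = s(q(y)(x)). Write V^⊥ =
{x | q(x)(y) = 0 for all y ∈ V} and call V totally isotropic when q vanishes on V × V. The pair (H,
q) is semistable (dim V + dim V^⊥ ≤ dim H for every nonzero totally isotropic subspace V),
respectively stable (strict inequality), if and only if the line of q is semistable, respectively
stable, for the action of SL(H), the latter being expressed through one-parameter subgroups: for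
every decomposition H = ⊕_i H_i into subspaces with integer weights m_i such that Σ_i m_i dim H_i =
0 and some nonzero H_i has nonzero weight, there are indices i, j with q(H_i, H_j) ≠ 0 and m_i + m_j
≤ 0, respectively m_i + m_j < 0. (The published statement speaks of semistability and stability of
the point of the projective space of such forms under SL(H); this row states the numerical condition
on one-parameter subgroups to which that is equivalent and which the published argument verifies.) -/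
theorem result
    (W : Type) [AddCommGroup W] [Module ℂ W] [FiniteDimensional ℂ W]
    (s : W →ₗ[ℂ] W) (hs : s ∘ₗ s = LinearMap.id)
    (H : Type) [AddCommGroup H] [Module ℂ H] [FiniteDimensional ℂ H]
    (q : H →ₗ[ℂ] H →ₗ[ℂ] W) (hq : ∀ x y : H, q x y = s (q y x)) (hq0 : q ≠ 0) :
    ((∀ V : Submodule ℂ H, V ≠ ⊥ → (∀ x ∈ V, ∀ y ∈ V, q x y = 0) →
        Module.finrank ℂ V + Module.finrank ℂ ↥(⨅ (y : H) (_ : y ∈ V), LinearMap.ker (q.flip y) : Submodule ℂ H) ≤ Module.finrank ℂ H) ↔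
      (∀ (ι : Type) [Fintype ι] [DecidableEq ι] (Hs : ι → Submodule ℂ H) (m : ι → ℤ),
        DirectSum.IsInternal Hs → (∑ i, m i * (Module.finrank ℂ (Hs i) : ℤ)) = 0 →
        (∃ i, m i ≠ 0 ∧ Hs i ≠ ⊥) →
        ∃ i j, (∃ x ∈ Hs i, ∃ y ∈ Hs j, q x y ≠ 0) ∧ m i + m j ≤ 0)) ∧
    ((∀ V : Submodule ℂ H, V ≠ ⊥ → (∀ x ∈ V, ∀ y ∈ V, q x y = 0) →
        Module.finrank ℂ V + Module.finrank ℂ ↥(⨅ (y : H) (_ : y ∈ V), LinearMap.ker (q.flip y) : Submodule ℂ H) < Module.finrank ℂ H) ↔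
      (∀ (ι : Type) [Fintype ι] [DecidableEq ι] (Hs : ι → Submodule ℂ H) (m : ι → ℤ),
        DirectSum.IsInternal Hs → (∑ i, m i * (Module.finrank ℂ (Hs i) : ℤ)) = 0 →
        (∃ i, m i ≠ 0 ∧ Hs i ≠ ⊥) →
        ∃ i j, (∃ x ∈ Hs i, ∃ y ∈ Hs j, q x y ≠ 0) ∧ m i + m j < 0)) := by
  refine ⟨⟨fun hV ι _ _ Hs m hint hsum hex => dirB_le q hV ι Hs m hint hsum hex,
    fun hnum V hV0 hiso => ?_⟩,
    ⟨fun hV ι _ _ Hs m hint hsum hex => dirB_lt q hV ι Hs m hint hsum hex,
    fun hnum V hV0 hiso => ?_⟩⟩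
  · obtain ⟨Hs, m, hint, hsum, hex, hbd⟩ := dirA_core s q hq hq0 V hV0 hiso
    obtain ⟨i, j, hij, hle⟩ := hnum (Fin 3) Hs m hint hsum hex
    have := hbd i j hij
    omega
  · obtain ⟨Hs, m, hint, hsum, hex, hbd⟩ := dirA_core s q hq hq0 V hV0 hiso
    obtain ⟨i, j, hij, hle⟩ := hnum (Fin 3) Hs m hint hsum hex
    have := hbd i j hij
    omega

end Groth.Agent.S15159
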