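import Groth.Statements.S1516
import Mathlib

set_option autoImplicit false
universe u
open FlatMor

namespace Groth.Agent.S1516

section Helpers
open AlgebraicGeometry CategoryTheory Limits

local notation "SM(" f ")" => Spec.map (CommRingCat.ofHom f)

/-- the lifting property over one open of the thickened scheme -/
def Good {X S T T' : Scheme.{u}} (f : X ⟶ S) (t : T ⟶ T') (a : T ⟶ X) (b : T' ⟶ S)
    (W : T'.Opens) (μ : W.toScheme ⟶ X) : Prop :=
  μ ≫ f = W.ι ≫ b ∧ ∀ (Z : Scheme.{u}) (u : Z ⟶ T) (v : Z ⟶ W.toScheme),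
    u ≫ t = v ≫ W.ι → u ≫ a = v ≫ μ

theorem good_existsUnique {X S : Scheme.{u}} (f : X ⟶ S) (hf : MoreMor.IsFormallyEtaleHom f)
    {T T' : Scheme.{u}} (t : T ⟶ T') (ht : MoreMor.IsFirstOrderThickening t) (a : T ⟶ X)
    (b : T' ⟶ S) (w : t ≫ b = a ≫ f) (W : T'.Opens) (hW : IsAffineOpen W) :
    ∃ μ : W.toScheme ⟶ X, Good f t a b W μ ∧ ∀ μ' : W.toScheme ⟶ X, Good f t a b W μ' → μ' = μ := by
  obtain ⟨⟨hcl, hsurj⟩, hker⟩ := ht
  haveI := hcl
  have hW' : IsAffineOpen (t ⁻¹ᵁ W) := hW.preimage t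
  obtain ⟨ρ, hρ⟩ : ∃ ρ : Γ(T', W) →+* Γ(T, t ⁻¹ᵁ W), ρ = (t.app W).hom := ⟨_, rfl⟩
  have hρ' : t.appLE W (t ⁻¹ᵁ W) le_rfl = CommRingCat.ofHom ρ := by
    rw [Scheme.Hom.appLE_eq_app, hρ]
    rfl
  have hρsurj : Function.Surjective ρ := by
    rw [hρ]
    exact t.app_surjective W hW
  have hI : (RingHom.ker ρ) ^ 2 = ⊥ := by
    have h1 := congrArg (fun J => J.ideal ⟨W, hW⟩) hker
    simp only [Scheme.IdealSheafData.ideal_mul, Pi.mul_apply, Scheme.IdealSheafData.ideal_bot,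
      Pi.bot_apply, Scheme.Hom.ker_apply] at h1
    rw [pow_two, hρ]
    exact h1
  obtain ⟨e, he⟩ : ∃ e : CommRingCat.of (Γ(T', W) ⧸ RingHom.ker ρ) ≅ Γ(T, t ⁻¹ᵁ W),
      CommRingCat.ofHom ρ ≫ e.inv = CommRingCat.ofHom (Ideal.Quotient.mk (RingHom.ker ρ)) := by
    refine ⟨(RingHom.quotientKerEquivOfSurjective hρsurj).toCommRingCatIso, ?_⟩
    apply CommRingCat.hom_ext
    refine RingHom.ext fun x => ?_
    exact RingHom.quotientKerEquivOfSurjective_symm_apply hρsurj x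
  obtain ⟨j, hj⟩ : ∃ j : Spec (CommRingCat.of (Γ(T', W) ⧸ RingHom.ker ρ)) ⟶ T,
      j = Spec.map e.inv ≫ hW'.fromSpec := ⟨_, rfl⟩
  have K : SM(Ideal.Quotient.mk (RingHom.ker ρ)) ≫ hW.fromSpec = j ≫ t := by
    rw [hj, Category.assoc, ← IsAffineOpen.SpecMap_appLE_fromSpec t hW hW' le_rfl, hρ',
      ← Category.assoc, ← Spec.map_comp, he]
  have hab : SM(Ideal.Quotient.mk (RingHom.ker ρ)) ≫ (hW.fromSpec ≫ b) = (j ≫ a) ≫ f := by
    rw [← Category.assoc, K, Category.assoc, w, Category.assoc]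
  obtain ⟨l, ⟨hl1, hl2⟩, hluniq⟩ := hf Γ(T', W) (RingHom.ker ρ) hI (j ≫ a) (hW.fromSpec ≫ b) hab
  refine ⟨hW.isoSpec.hom ≫ l, ⟨?_, ?_⟩, ?_⟩
  · rw [Category.assoc, hl2, IsAffineOpen.isoSpec_hom_fromSpec_assoc]
  · intro Z u v huv
    have hrange : Set.range u ⊆ Set.range (t ⁻¹ᵁ W).ι := by
      rw [Scheme.Opens.range_ι]
      rintro _ ⟨z, rfl⟩
      show t (u z) ∈ W
      rw [← Scheme.Hom.comp_apply, huv, Scheme.Hom.comp_apply]
      exact (v z).2
    obtain ⟨u', hu'⟩ : ∃ u' : Z ⟶ Spec (CommRingCat.of (Γ(T', W) ⧸ RingHom.ker ρ)),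
        u' ≫ j = u := by
      refine ⟨IsOpenImmersion.lift (t ⁻¹ᵁ W).ι u hrange ≫ hW'.isoSpec.hom ≫ Spec.map e.hom, ?_⟩
      rw [hj, Category.assoc, Category.assoc, ← Spec.map_comp_assoc, e.inv_hom_id, Spec.map_id,
        Category.id_comp, IsAffineOpen.isoSpec_hom_fromSpec, IsOpenImmersion.lift_fac]
    have h3 : u' ≫ SM(Ideal.Quotient.mk (RingHom.ker ρ)) = v ≫ hW.isoSpec.hom := by
      rw [← cancel_mono hW.fromSpec, Category.assoc, K, ← Category.assoc, hu', huv,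
        Category.assoc, IsAffineOpen.isoSpec_hom_fromSpec]
    rw [← hu', Category.assoc, ← hl1, ← Category.assoc, h3, Category.assoc]
  · rintro μ' ⟨hμ1, hμ2⟩
    have h4 : hW.isoSpec.inv ≫ μ' = l := by
      apply hluniq
      constructor
      · have h5 := hμ2 _ j (SM(Ideal.Quotient.mk (RingHom.ker ρ)) ≫ hW.isoSpec.inv) (by
          rw [Category.assoc, IsAffineOpen.isoSpec_inv_ι, K])
        rw [h5, Category.assoc]
      · rw [Category.assoc, hμ1, ← Category.assoc, IsAffineOpen.isoSpec_inv_ι]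
    rw [← h4, Iso.hom_inv_id_assoc]

theorem main {X S : Scheme.{u}} (f : X ⟶ S) (hf : MoreMor.IsFormallyEtaleHom f)
    {T T' : Scheme.{u}} (t : T ⟶ T') (ht : MoreMor.IsFirstOrderThickening t) (a : T ⟶ X)
    (b : T' ⟶ S) (w : t ≫ b = a ≫ f) : ∃! l : T' ⟶ X, t ≫ l = a ∧ l ≫ f = b := by
  have key := fun W : T'.affineOpens => good_existsUnique f hf t ht a b w W.1 W.2
  choose μ hμ hμu using key
  have htrans' : ∀ (i j : T'.affineOpens) (hij : i ≤ j), T'.homOfLE hij ≫ μ j = μ i := by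
    intro i j hij
    apply hμu i
    constructor
    · rw [Category.assoc, (hμ j).1, Scheme.homOfLE_ι_assoc]
    · intro Z u v huv
      have h1 := (hμ j).2 Z u (v ≫ T'.homOfLE hij) (by
        rw [Category.assoc, Scheme.homOfLE_ι]
        exact huv)
      exact h1.trans (Category.assoc _ _ _)
  have htrans : ∀ {i j : T'.directedAffineCover.I₀} (hij : i ⟶ j),
      T'.directedAffineCover.trans hij ≫ μ j = μ i := by
    intro i j hij
    have h0 : hij = homOfLE (leOfHom hij) := Subsingleton.elim _ _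
    rw [h0]
    exact htrans' i j (leOfHom hij)
  obtain ⟨L, hL⟩ : ∃ L : T' ⟶ X, ∀ W : T'.affineOpens, W.1.ι ≫ L = μ W :=
    ⟨T'.directedAffineCover.glueMorphismsOfLocallyDirected μ htrans,
      fun W => T'.directedAffineCover.map_glueMorphismsOfLocallyDirected μ htrans W⟩
  have E2 : L ≫ f = b := by
    refine T'.directedAffineCover.hom_ext _ _ fun W => ?_
    show W.1.ι ≫ L ≫ f = W.1.ι ≫ b
    rw [← Category.assoc, hL W, (hμ W).1]
  have E1 : t ≫ L = a := by
    refine Scheme.Cover.hom_ext (T'.directedAffineCover.pullback₁ t) _ _ fun W => ?_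
    show pullback.fst t W.1.ι ≫ t ≫ L = pullback.fst t W.1.ι ≫ a
    rw [(hμ W).2 _ (pullback.fst t W.1.ι) (pullback.snd t W.1.ι) pullback.condition,
      pullback.condition_assoc, hL W]
  refine ⟨L, ⟨E1, E2⟩, ?_⟩
  rintro L' ⟨hL'1, hL'2⟩
  refine T'.directedAffineCover.hom_ext _ _ fun W => ?_
  show W.1.ι ≫ L' = W.1.ι ≫ L
  rw [hL W]
  apply hμu W
  constructor
  · rw [Category.assoc, hL'2]
  · intro Z u v huv
    rw [← Category.assoc, ← huv, Category.assoc, hL'1]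

end Helpers

open AlgebraicGeometry CategoryTheory Limits in
/-- Let f : X → S be formally étale (unique infinitesimal lifting against first order thickenings of
affine schemes). Then for every first order thickening t : T → T' of schemes and every commutative
square with T → X on top and T' → S at the bottom there is exactly one lift T' → X. -/
theorem result {X S : Scheme.{u}} (f : X ⟶ S) (hf : MoreMor.IsFormallyEtaleHom f)
    {T T' : Scheme.{u}} (t : T ⟶ T') (ht : MoreMor.IsFirstOrderThickening t) (a : T ⟶ X) (b : T' ⟶ S) (w : t ≫ b = a ≫ f) :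
    ∃! l : T' ⟶ X, t ≫ l = a ∧ l ≫ f = b := by
  exact main f hf t ht a b w

end Groth.Agent.S1516
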