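import Groth.Statements.S15162
import Mathlib

set_option autoImplicit false
open Matrix
open BddFin

namespace Groth.Agent.S15162

open Matrix in
theorem triv_of_det_one (M : Matrix (Fin 2) (Fin 2) ℤ) (hdet : M.det = 1)
    (hv : ∃ v : Fin 2 → ℤ, v ≠ 0 ∧ M *ᵥ v = v) (n : ℕ) (hn : 0 < n) (hpow : M ^ n = 1) : M = 1 := by
  obtain ⟨v, hv0, hv⟩ := hv
  have h1 : (M - 1).det = 0 := by
    apply Matrix.exists_mulVec_eq_zero_iff.mp
    exact ⟨v, hv0, by rw [Matrix.sub_mulVec, hv, Matrix.one_mulVec, sub_self]⟩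
  rw [Matrix.det_fin_two] at h1 hdet
  simp only [Matrix.sub_apply, Matrix.one_apply_eq, Matrix.one_apply_ne, ne_eq, one_ne_zero,
    not_false_eq_true, zero_ne_one, sub_zero, Fin.isValue] at h1
  have htr : M 0 0 + M 1 1 = 2 := by linarith
  have hN : (M - 1) * (M - 1) = 0 := by
    ext i j
    fin_cases i <;> fin_cases j <;> simp [Matrix.mul_apply, Fin.sum_univ_two]
    · linear_combination (M 0 0 - 1) * htr - h1
    · linear_combination (M 0 1) * htr
    · linear_combination (M 1 0) * htr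
    · linear_combination (M 1 1 - 1) * htr - h1
  have hpw : ∀ k : ℕ, M ^ k = 1 + k • (M - 1) := by
    intro k
    induction k with
    | zero => simp
    | succ k ih =>
      have hM : M = 1 + (M - 1) := by abel
      rw [pow_succ, ih]
      nth_rewrite 2 [hM]
      simp only [add_mul, mul_add, smul_mul_assoc, hN, mul_one, one_mul, smul_zero, add_zero,
        add_smul, one_smul]
      abel
  have h2 : n • (M - 1) = 0 := by
    have := hpw n
    rw [hpow] at this
    simpa using this.symm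
  have h3 : M - 1 = 0 := by
    ext i j
    have := congrFun (congrFun h2 i) j
    simp only [Matrix.smul_apply, Matrix.zero_apply, nsmul_eq_mul] at this
    rcases mul_eq_zero.mp this with h | h
    · exfalso; exact_mod_cast (hn.ne' (by exact_mod_cast h))
    · simpa using h
  exact sub_eq_zero.mp h3

/-- Let Γ be a finite subgroup of GL_2(ℤ) acting on ℤ² by matrix multiplication. If every element of Γ
has a non-zero fixed vector in ℤ², then there is a non-zero vector of ℤ² fixed by all of Γ. -/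
theorem result
    (Γ : Subgroup (Matrix.GeneralLinearGroup (Fin 2) ℤ)) [Finite Γ]
    (h : ∀ γ ∈ Γ, ∃ v : Fin 2 → ℤ, v ≠ 0 ∧ (γ : Matrix (Fin 2) (Fin 2) ℤ) *ᵥ v = v) :
    ∃ v : Fin 2 → ℤ, v ≠ 0 ∧ ∀ γ ∈ Γ, (γ : Matrix (Fin 2) (Fin 2) ℤ) *ᵥ v = v := by
  have triv : ∀ γ ∈ Γ, (γ : Matrix (Fin 2) (Fin 2) ℤ).det = 1 → γ = 1 := by
    intro γ hγ hdet
    obtain ⟨n, hn, hpow⟩ := (isOfFinOrder_iff_pow_eq_one.mp (isOfFinOrder_of_finite (⟨γ, hγ⟩ : Γ)))
    have hpow' : γ ^ n = 1 := by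
      have := congrArg Subtype.val hpow
      simpa using this
    have hpow'' : (γ : Matrix (Fin 2) (Fin 2) ℤ) ^ n = 1 := by
      have := congrArg Units.val hpow'
      simpa using this
    apply Units.ext
    exact triv_of_det_one _ hdet (h γ hγ) n hn hpow''
  have hdet : ∀ γ : Matrix.GeneralLinearGroup (Fin 2) ℤ,
      (γ : Matrix (Fin 2) (Fin 2) ℤ).det = 1 ∨ (γ : Matrix (Fin 2) (Fin 2) ℤ).det = -1 := by
    intro γ
    exact Int.isUnit_iff.mp ((Matrix.isUnit_iff_isUnit_det _).mp (Units.isUnit γ))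
  have uniq : ∀ γ ∈ Γ, ∀ γ' ∈ Γ, γ ≠ 1 → γ' ≠ 1 → γ' = γ := by
    intro γ hγ γ' hγ' h1 h1'
    have d1 : (γ : Matrix (Fin 2) (Fin 2) ℤ).det = -1 := by
      rcases hdet γ with hh | hh
      · exact absurd (triv γ hγ hh) h1
      · exact hh
    have d1' : (γ' : Matrix (Fin 2) (Fin 2) ℤ).det = -1 := by
      rcases hdet γ' with hh | hh
      · exact absurd (triv γ' hγ' hh) h1'
      · exact hh
    have e1 : γ * γ' = 1 := by
      apply triv _ (Γ.mul_mem hγ hγ')
      rw [Units.val_mul, Matrix.det_mul, d1, d1']; norm_num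
    have e2 : γ * γ = 1 := by
      apply triv _ (Γ.mul_mem hγ hγ)
      rw [Units.val_mul, Matrix.det_mul, d1]; norm_num
    exact mul_left_cancel (e1.trans e2.symm)
  by_cases hex : ∃ γ ∈ Γ, γ ≠ 1
  · obtain ⟨γ, hγ, h1⟩ := hex
    obtain ⟨v, hv0, hv⟩ := h γ hγ
    refine ⟨v, hv0, fun γ' hγ' => ?_⟩
    by_cases h1' : γ' = 1
    · rw [h1']; simp
    · rw [uniq γ hγ γ' hγ' h1 h1']; exact hv
  · push Not at hex
    refine ⟨fun _ => 1, ?_, fun γ hγ => ?_⟩
    · intro h0
      have := congrFun h0 0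
      simp at this
    · rw [hex γ hγ]; simp

end Groth.Agent.S15162
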