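import Groth.Statements.S15163
import Groth.Agent.S15162
import Mathlib

set_option autoImplicit false
open Matrix
open BddFin

namespace Groth.Agent.S15163

open Matrix in
theorem abs_trace_le_two (M : Matrix (Fin 2) (Fin 2) ℤ) (hdet : M.det = 1 ∨ M.det = -1)
    (n : ℕ) (hn : 0 < n) (hpow : M ^ n = 1) : |M.trace| ≤ 2 := by
  by_contra hlt
  push Not at hlt
  have hCH : M * M = M.trace • M - M.det • (1 : Matrix (Fin 2) (Fin 2) ℤ) := by
    ext i j
    rw [Matrix.sub_apply, Matrix.smul_apply, Matrix.smul_apply, Matrix.mul_apply, Fin.sum_univ_two,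
      Matrix.trace_fin_two, Matrix.det_fin_two]
    fin_cases i <;> fin_cases j <;> simp <;> ring
  have hrec : ∀ k : ℕ, (M ^ (k + 2)).trace = M.trace * (M ^ (k + 1)).trace - M.det * (M ^ k).trace := by
    intro k
    have : M ^ (k + 2) = M.trace • M ^ (k + 1) - M.det • M ^ k := by
      rw [pow_add, pow_two, hCH, mul_sub, mul_smul_comm, mul_smul_comm, mul_one, pow_succ]
    rw [this, Matrix.trace_sub, Matrix.trace_smul, Matrix.trace_smul]
    simp
  have habsdet : |M.det| = 1 := by
    rcases hdet with h | h <;> rw [h] <;> simp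
  have key : ∀ k : ℕ, |(M ^ k).trace| < |(M ^ (k + 1)).trace| ∧ 2 ≤ |(M ^ k).trace| := by
    intro k
    induction k with
    | zero =>
      simp only [pow_zero, zero_add, pow_one, Matrix.trace_one, Fintype.card_fin]
      norm_num
      exact hlt
    | succ k ih =>
      obtain ⟨ih1, ih2⟩ := ih
      refine ⟨?_, by linarith⟩
      rw [hrec k]
      have h1 : |M.trace * (M ^ (k + 1)).trace| - |M.det * (M ^ k).trace| ≤
          |M.trace * (M ^ (k + 1)).trace - M.det * (M ^ k).trace| := abs_sub_abs_le_abs_sub _ _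
      rw [abs_mul, abs_mul, habsdet, one_mul] at h1
      have h2 : 3 * |(M ^ (k + 1)).trace| ≤ |M.trace| * |(M ^ (k + 1)).trace| := by
        apply mul_le_mul_of_nonneg_right _ (abs_nonneg _)
        linarith
      linarith
  obtain ⟨m, rfl⟩ : ∃ m, n = m + 1 := ⟨n - 1, by omega⟩
  have := (key m).1
  have h2 := (key m).2
  rw [hpow] at this
  simp at this
  linarith

/-- Let Γ be a finite subgroup of GL_2(ℤ) and d > 6 an integer. Suppose some vector w of (ℤ/dℤ)², with
m·w ≠ 0 for all 0 < m < d, is fixed by the reduction modulo d of every element of Γ. Then some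
non-zero vector of ℤ² is fixed by all of Γ. -/
theorem result
    (Γ : Subgroup (Matrix.GeneralLinearGroup (Fin 2) ℤ)) [Finite Γ] (d : ℕ) (hd : 6 < d)
    (w : Fin 2 → ZMod d) (hw : ∀ m : ℕ, 0 < m → m < d → m • w ≠ 0)
    (hfix : ∀ γ ∈ Γ, ((γ : Matrix (Fin 2) (Fin 2) ℤ).map (Int.castRingHom (ZMod d))) *ᵥ w = w) :
    ∃ v : Fin 2 → ℤ, v ≠ 0 ∧ ∀ γ ∈ Γ, (γ : Matrix (Fin 2) (Fin 2) ℤ) *ᵥ v = v := by
  haveI : NeZero d := ⟨by omega⟩
  apply Groth.Agent.S15162.result Γ
  intro γ hγ
  obtain ⟨n, hn, hpow⟩ := (isOfFinOrder_iff_pow_eq_one.mp (isOfFinOrder_of_finite (⟨γ, hγ⟩ : Γ)))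
  have hpow' : γ ^ n = 1 := by
    have := congrArg Subtype.val hpow
    simpa using this
  have hpow'' : (γ : Matrix (Fin 2) (Fin 2) ℤ) ^ n = 1 := by
    have := congrArg Units.val hpow'
    simpa using this
  set M : Matrix (Fin 2) (Fin 2) ℤ := (γ : Matrix (Fin 2) (Fin 2) ℤ) with hM
  have hdet : M.det = 1 ∨ M.det = -1 :=
    Int.isUnit_iff.mp ((Matrix.isUnit_iff_isUnit_det _).mp (Units.isUnit γ))
  have htr := abs_trace_le_two M hdet n hn hpow''
  -- d ∣ det (M - 1)
  have hdvd : (d : ℤ) ∣ (M - 1).det := by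
    set N : Matrix (Fin 2) (Fin 2) (ZMod d) := (M - 1).map (Int.castRingHom (ZMod d)) with hN
    have hNw : N *ᵥ w = 0 := by
      have : N = M.map (Int.castRingHom (ZMod d)) - 1 := by
        rw [hN]
        ext i j
        simp [Matrix.one_apply]
      rw [this, Matrix.sub_mulVec, hfix γ hγ, Matrix.one_mulVec, sub_self]
    have h1 : N.det • w = 0 := by
      have := congrArg (fun u => N.adjugate *ᵥ u) hNw
      simp only [Matrix.mulVec_mulVec, Matrix.adjugate_mul, Matrix.mulVec_zero] at this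
      rw [Matrix.smul_mulVec, Matrix.one_mulVec] at this
      exact this
    have h2 : N.det = 0 := by
      by_contra hne
      have hval : 0 < N.det.val := by
        rcases Nat.eq_zero_or_pos N.det.val with h0 | h0
        · exact absurd ((ZMod.val_eq_zero _).mp h0) hne
        · exact h0
      apply hw N.det.val hval (ZMod.val_lt _)
      rw [← h1]
      ext i
      simp [nsmul_eq_mul]
    have h3 : N.det = ((M - 1).det : ZMod d) := by
      rw [hN]
      exact ((Int.castRingHom (ZMod d)).map_det (M - 1)).symm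
    rw [h3] at h2
    exact (ZMod.intCast_zmod_eq_zero_iff_dvd _ _).mp h2
  have hzero : (M - 1).det = 0 := by
    apply Int.eq_zero_of_abs_lt_dvd hdvd
    have : (M - 1).det = 1 - M.trace + M.det := by
      rw [Matrix.det_fin_two, Matrix.det_fin_two, Matrix.trace_fin_two]
      simp
      ring
    rw [this]
    have h6 : (6 : ℤ) < d := by exact_mod_cast hd
    rw [abs_le] at htr
    rcases hdet with h | h <;> rw [h] <;> rw [abs_lt] <;> constructor <;> linarith
  obtain ⟨v, hv0, hv⟩ := Matrix.exists_mulVec_eq_zero_iff.mpr hzero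
  refine ⟨v, hv0, ?_⟩
  rw [Matrix.sub_mulVec, Matrix.one_mulVec, sub_eq_zero] at hv
  exact hv

end Groth.Agent.S15163
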