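import Groth.Statements.S15164
import Mathlib

set_option autoImplicit false
universe u v
open BddFin

namespace Groth.Agent.S15164


/-- Let K be a field of characteristic p > 2, V a finite-dimensional K-vector space and q a quadratic
form on V that does not represent zero (q x = 0 only for x = 0). Then the group of K-linear
automorphisms of V preserving q has no element of order p: if g preserves q and g ^ p = 1 then g =
1. (Non-degeneracy of q, also assumed in the published statement, follows from anisotropy since 2 is
invertible, so it is not repeated here.) -/
theorem result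
    (K : Type u) [Field K] (p : ℕ) [Fact p.Prime] [CharP K p] (hp : p ≠ 2)
    (V : Type v) [AddCommGroup V] [Module K V] [FiniteDimensional K V]
    (q : QuadraticForm K V) (hq : q.Anisotropic)
    (g : V ≃ₗ[K] V) (hg : ∀ x : V, q (g x) = q x) (hgp : g ^ p = 1) : g = 1 := by
  have h2 : (2 : K) ≠ 0 := by
    intro h
    have h' : ((2 : ℕ) : K) = 0 := by exact_mod_cast h
    rw [CharP.cast_eq_zero_iff K p] at h'
    exact hp ((Nat.prime_dvd_prime_iff_eq Fact.out Nat.prime_two).mp h')
  let G : Module.End K V := g.toLinearMap
  let N : Module.End K V := G - 1
  have hGp : G ^ p = 1 := by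
    have := congrArg (LinearEquiv.automorphismGroup.toLinearMapMonoidHom (R := K) (M := V)) hgp
    rw [map_pow, map_one] at this
    exact this
  have hNp : N ^ p = 0 := by
    have h1 : ((Polynomial.X : Polynomial K) - 1) ^ p = Polynomial.X ^ p - 1 := by
      rw [sub_pow_char, one_pow]
    have := congrArg (Polynomial.aeval G) h1
    simp only [map_pow, map_sub, Polynomial.aeval_X, map_one] at this
    rw [hGp, sub_self] at this
    exact this
  -- key lemma
  have key : ∀ u : V, N (N u) = 0 → N u = 0 := by
    intro u hu
    set w := N u with hw
    have hgu : g u = u + w := by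
      simp only [hw, N, G, LinearMap.sub_apply, LinearEquiv.coe_coe, Module.End.one_apply]
      abel
    have hgw : g w = w := by
      have : N w = g w - w := by
        simp only [N, G, LinearMap.sub_apply, LinearEquiv.coe_coe, Module.End.one_apply]
      rw [this] at hu
      exact sub_eq_zero.mp hu
    have e1 : q (u + w) = q u := by rw [← hgu, hg]
    have e2 : q (u + (w + w)) = q u := by
      have : g (u + w) = u + (w + w) := by rw [map_add, hgu, hgw, add_assoc]
      rw [← this, hg, e1]
    have p1 := QuadraticMap.polar_self q w
    have e3 : q (u + w) = q u + q w + QuadraticMap.polar q u w := by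
      simp [QuadraticMap.polar]
    have e4 : q (u + (w + w)) = q u + q (w + w) + QuadraticMap.polar q u (w + w) := by
      simp [QuadraticMap.polar]
    rw [QuadraticMap.polar_add_right] at e4
    have e5 : q (w + w) = 4 * q w := by
      have : w + w = (2 : K) • w := by rw [two_smul]
      rw [this, QuadraticMap.map_smul, smul_eq_mul]; ring
    rw [e5, e2] at e4
    rw [e1] at e3
    have : (2 : K) * q w = 0 := by linear_combination 2 * e3 - e4
    have hqw : q w = 0 := by
      rcases mul_eq_zero.mp this with h | h
      · exact absurd h h2
      · exact h
    exact hq w hqw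
  have step : ∀ j : ℕ, N ^ (j + 1) = 0 → N = 0 := by
    intro j
    induction j with
    | zero => intro h; simpa using h
    | succ j ih =>
      intro h
      apply ih
      ext v
      have h1 : N (N ((N ^ j) v)) = 0 := by
        have := congrArg (fun f : Module.End K V => f v) h
        simpa [pow_succ', Module.End.mul_apply] using this
      have h2 := key _ h1
      simpa [pow_succ', Module.End.mul_apply] using h2
  have hp1 : p = (p - 1) + 1 := (Nat.succ_pred_eq_of_pos (Fact.out : p.Prime).pos).symm
  have hN0 : N = 0 := step (p - 1) (by rw [← hp1]; exact hNp)
  ext v
  have := congrArg (fun f : Module.End K V => f v) hN0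
  simp only [N, G, LinearMap.sub_apply, LinearEquiv.coe_coe, Module.End.one_apply, LinearMap.zero_apply] at this
  simpa using sub_eq_zero.mp this

end Groth.Agent.S15164
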