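import Groth.Statements.S15165
import Mathlib

set_option autoImplicit false
universe u v
open Polynomial
open BddFin

namespace Groth.Agent.S15165

/-- For an isometry `f` of an anisotropic form in char ≠ 2, `ker (f-1)^2 = ker (f-1)`. -/
theorem key_sub_one {K : Type u} [Field K] (h2 : (2 : K) ≠ 0)
    {V : Type v} [AddCommGroup V] [Module K V]
    (q : QuadraticForm K V) (hq : q.Anisotropic)
    (f : V →ₗ[K] V) (hf : ∀ x : V, q (f x) = q x) (u : V)
    (hu : f (f u - u) - (f u - u) = 0) : f u - u = 0 := by
  set w := f u - u with hw
  have hgu : f u = u + w := by rw [hw]; abel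
  have hgw : f w = w := sub_eq_zero.mp hu
  have e1 : q (u + w) = q u := by rw [← hgu, hf]
  have e2 : q (u + (w + w)) = q u := by
    have : f (u + w) = u + (w + w) := by rw [map_add, hgu, hgw, add_assoc]
    rw [← this, hf, e1]
  have e3 : q (u + w) = q u + q w + QuadraticMap.polar q u w := by
    simp [QuadraticMap.polar]
  have e4 : q (u + (w + w)) = q u + q (w + w) + QuadraticMap.polar q u (w + w) := by
    simp [QuadraticMap.polar]
  rw [QuadraticMap.polar_add_right] at e4
  have e5 : q (w + w) = 4 * q w := by
    have : w + w = (2 : K) • w := by rw [two_smul]
    rw [this, QuadraticMap.map_smul, smul_eq_mul]; ring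
  rw [e5, e2] at e4
  rw [e1] at e3
  have : (2 : K) * q w = 0 := by linear_combination 2 * e3 - e4
  have hqw : q w = 0 := by
    rcases mul_eq_zero.mp this with h | h
    · exact absurd h h2
    · exact h
  exact hq w hqw

theorem main_ind {K : Type u} [Field K] (h2 : (2 : K) ≠ 0)
    {V : Type v} [AddCommGroup V] [Module K V]
    (q : QuadraticForm K V) (hq : q.Anisotropic)
    (G : Module.End K V) (hG : ∀ x : V, q (G x) = q x) (s : Multiset K) :
    ∀ v : V, (Polynomial.aeval G (s.map (fun a => Polynomial.X - Polynomial.C a)).prod) v = 0 →
      G (G v) - v = 0 := by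
  induction s using Multiset.induction_on with
  | empty =>
    intro v hv
    simp at hv
    simp [hv]
  | cons ζ s ih =>
    intro v hv
    rw [Multiset.map_cons, Multiset.prod_cons] at hv
    set P := (s.map (fun a => Polynomial.X - Polynomial.C a)).prod with hP
    have hv1 : G ((Polynomial.aeval G P) v) - ζ • ((Polynomial.aeval G P) v) = 0 := by
      have := hv
      rw [map_mul, Module.End.mul_apply] at this
      simpa [Polynomial.aeval_X, Polynomial.aeval_C, Module.algebraMap_end_apply] using this
    have hcomm : ∀ (A : Polynomial K) (x : V), (Polynomial.aeval G P) ((Polynomial.aeval G A) x)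
        = (Polynomial.aeval G A) ((Polynomial.aeval G P) x) := by
      intro A x
      rw [← Module.End.mul_apply, ← Module.End.mul_apply, ← map_mul, ← map_mul, mul_comm]
    by_cases h1 : ζ = 1
    · subst h1
      -- apply ih to (G - 1) v
      have h3 : (Polynomial.aeval G P) (G v - v) = 0 := by
        have := hcomm (Polynomial.X - 1) v
        simp only [map_sub, Polynomial.aeval_X, map_one, LinearMap.sub_apply, Module.End.one_apply] at this
        rw [map_sub, this]
        simpa using hv1
      have h4 := ih (G v - v) h3
      -- (G-1)(G-1)((G+1) v) = 0
      have h5 : G (G (G v + v) - (G v + v)) - (G (G v + v) - (G v + v)) = 0 := by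
        simp only [map_add, map_sub] at h4 ⊢
        rw [← h4]; abel
      have h6 := key_sub_one h2 q hq G hG (G v + v) h5
      rw [← h6]; simp only [map_add]; abel
    · by_cases h1' : ζ = -1
      · subst h1'
        have h3 : (Polynomial.aeval G P) (G v + v) = 0 := by
          have := hcomm (Polynomial.X + 1) v
          simp only [map_add, Polynomial.aeval_X, map_one, LinearMap.add_apply, Module.End.one_apply] at this
          rw [map_add, this]
          simpa using hv1
        have h4 := ih (G v + v) h3
        -- apply key to -G
        have hG' : ∀ x : V, q ((-G) x) = q x := by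
          intro x; rw [LinearMap.neg_apply, QuadraticMap.map_neg, hG]
        have h5 : (-G) ((-G) (G v - v) - (G v - v)) - ((-G) (G v - v) - (G v - v)) = 0 := by
          simp only [LinearMap.neg_apply, map_add, map_sub, map_neg] at h4 ⊢
          rw [← h4]; abel
        have h6 := key_sub_one h2 q hq (-G) hG' (G v - v) h5
        simp only [LinearMap.neg_apply, map_sub] at h6
        have e : G (G v) - v = -(-G (G v) - -G v - (G v - v)) := by abel
        rw [e, h6, neg_zero]
      · -- injectivity
        have hw : (Polynomial.aeval G P) v = 0 := by
          set w := (Polynomial.aeval G P) v with hw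
          have hGw : G w = ζ • w := sub_eq_zero.mp hv1
          have e := hG w
          rw [hGw, QuadraticMap.map_smul, smul_eq_mul] at e
          have hz : ζ * ζ - 1 ≠ 0 := by
            intro h
            have : (ζ - 1) * (ζ + 1) = 0 := by linear_combination h
            rcases mul_eq_zero.mp this with h | h
            · exact h1 (sub_eq_zero.mp h)
            · exact h1' (eq_neg_of_add_eq_zero_left h)
          have : (ζ * ζ - 1) * q w = 0 := by linear_combination e
          rcases mul_eq_zero.mp this with h | h
          · exact absurd h hz
          · exact hq w h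
        exact ih v hw

/-- Let K be a field of characteristic different from 2 such that K contains all roots of unity (for
every n ≥ 1 the polynomial X^n − 1 splits into linear factors over K), V a finite-dimensional
K-vector space and q a quadratic form on V that does not represent zero. If a K-linear automorphism
g of V preserves q and has finite order (g ^ d = 1 for some d ≥ 1), then g ^ 2 = 1. (The published
statement also covers perfect fields of characteristic 2; this row is the case of characteristic ≠
2.) -/
theorem result
    (K : Type u) [Field K] (hK : ∀ n : ℕ, 0 < n → (X ^ n - 1 : K[X]).Splits) (h2 : (2 : K) ≠ 0)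
    (V : Type v) [AddCommGroup V] [Module K V] [FiniteDimensional K V]
    (q : QuadraticForm K V) (hq : q.Anisotropic)
    (g : V ≃ₗ[K] V) (hg : ∀ x : V, q (g x) = q x) (d : ℕ) (hd : 0 < d) (hgd : g ^ d = 1) :
    g ^ 2 = 1 := by
  let G : Module.End K V := g.toLinearMap
  have hGd : G ^ d = 1 := by
    have := congrArg (LinearEquiv.automorphismGroup.toLinearMapMonoidHom (R := K) (M := V)) hgd
    rw [map_pow, map_one] at this
    exact this
  have hmonic : (Polynomial.X ^ d - 1 : Polynomial K).Monic := by
    have := Polynomial.monic_X_pow_sub_C (1 : K) hd.ne'
    simpa using this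
  have hprod := (hK d hd).eq_prod_roots_of_monic hmonic
  have h0 : Polynomial.aeval G (Polynomial.X ^ d - 1 : Polynomial K) = 0 := by
    simp [hGd]
  rw [hprod] at h0
  ext v
  have := main_ind h2 q hq G (fun x => hg x) _ v (by rw [h0]; rfl)
  have h3 : g (g v) = v := sub_eq_zero.mp this
  simp [pow_two, h3]

end Groth.Agent.S15165
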