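import Groth.Statements.S15166
import Mathlib
import Groth.Agent.S15165

set_option autoImplicit false
universe u v
open Polynomial
open BddFin

namespace Groth.Agent.S15166

open Module

/-- a finite family of commuting involutions (char ≠ 2) has at most `2 ^ dim` elements -/
theorem card_involutions {K : Type u} [Field K] (h2 : (2 : K) ≠ 0)
    {V : Type v} [AddCommGroup V] [Module K V] [FiniteDimensional K V]
    (G : Subgroup (V ≃ₗ[K] V)) [Finite G] (hsq : ∀ g ∈ G, g * g = 1)
    (hcomm : ∀ g ∈ G, ∀ h ∈ G, g * h = h * g) : Nat.card G ≤ 2 ^ Module.finrank K V := by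
  classical
  let f : G → Module.End K V := fun g => (g.1 : V ≃ₗ[K] V).toLinearMap
  have hf : ∀ (g : G) (v : V), f g v = g.1 v := fun g v => rfl
  have hinv : ∀ (g : G) (v : V), g.1 (g.1 v) = v := by
    intro g v
    have := congrArg (fun e : V ≃ₗ[K] V => e v) (hsq g.1 g.2)
    simpa using this
  have hcomm' : Pairwise fun i j : G => Commute (f i) (f j) := by
    intro i j _
    refine LinearMap.ext fun v => ?_
    have := congrArg (fun e : V ≃ₗ[K] V => e v) (hcomm i.1 i.2 j.1 j.2)
    simp only [LinearEquiv.mul_apply] at this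
    exact this
  have h' : ∀ g : G, ⨆ μ, (f g).maxGenEigenspace μ = ⊤ := by
    intro g
    rw [eq_top_iff]
    intro v _
    have hv : v = (2 : K)⁻¹ • (v + g.1 v) + (2 : K)⁻¹ • (v - g.1 v) := by
      rw [← smul_add, add_add_sub_cancel, ← two_smul K v, smul_smul, inv_mul_cancel₀ h2, one_smul]
    rw [hv]
    refine add_mem ?_ ?_
    · refine Submodule.smul_mem _ _ (Submodule.mem_iSup_of_mem (1 : K)
        (Module.End.eigenspace_le_maxGenEigenspace ?_))
      rw [Module.End.mem_eigenspace_iff, hf, map_add, hinv, one_smul, add_comm]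
    · refine Submodule.smul_mem _ _ (Submodule.mem_iSup_of_mem (-1 : K)
        (Module.End.eigenspace_le_maxGenEigenspace ?_))
      rw [Module.End.mem_eigenspace_iff, hf, map_sub, hinv, neg_one_smul, neg_sub]
  let W : (G → K) → Submodule K V := fun χ => ⨅ g, (f g).maxGenEigenspace (χ g)
  have hInd : iSupIndep W :=
    Module.End.independent_iInf_maxGenEigenspace_of_forall_mapsTo f
      (fun i j φ => Module.End.mapsTo_maxGenEigenspace_of_comm (by
        rcases eq_or_ne j i with rfl | hij
        · exact Commute.refl _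
        · exact hcomm' hij) φ)
  have hTop : ⨆ χ, W χ = ⊤ :=
    Module.End.iSup_iInf_maxGenEigenspace_eq_top_of_iSup_maxGenEigenspace_eq_top_of_commute f
      hcomm' h'
  -- semisimplicity
  have hss : ∀ g : G, (f g).IsSemisimple := by
    intro g
    refine Module.End.isSemisimple_of_squarefree_aeval_eq_zero (p := X ^ 2 - C (1 : K))
      (Polynomial.separable_X_pow_sub_C (1 : K) (by exact_mod_cast h2) one_ne_zero).squarefree ?_
    refine LinearMap.ext fun v => ?_
    simp [pow_two, hf, hinv]
  have hact : ∀ (χ : G → K) (g : G) (w : V), w ∈ W χ → g.1 w = χ g • w := by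
    intro χ g w hw
    have h1 : w ∈ (f g).maxGenEigenspace (χ g) := (Submodule.mem_iInf _).mp hw g
    rw [(hss g).isFinitelySemisimple.maxGenEigenspace_eq_eigenspace,
      Module.End.mem_eigenspace_iff] at h1
    exact h1
  have hpm : ∀ (χ : G → K), W χ ≠ ⊥ → ∀ g : G, χ g = 1 ∨ χ g = -1 := by
    intro χ hχ g
    obtain ⟨w, hw, hw0⟩ := (Submodule.ne_bot_iff _).mp hχ
    have h1 := hinv g w
    rw [hact χ g w hw, map_smul, hact χ g w hw, smul_smul] at h1
    have h3 : (χ g * χ g - 1) • w = 0 := by rw [sub_smul, h1, one_smul, sub_self]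
    have h4 : χ g * χ g - 1 = 0 := by
      rcases smul_eq_zero.mp h3 with h | h
      · exact h
      · exact absurd h hw0
    have h5 : (χ g - 1) * (χ g + 1) = 0 := by ring_nf; ring_nf at h4; linear_combination h4
    rcases mul_eq_zero.mp h5 with h | h
    · left; exact sub_eq_zero.mp h
    · right; exact eq_neg_of_add_eq_zero_left h
  letI : Fintype {χ // W χ ≠ ⊥} := hInd.fintypeNeBotOfFiniteDimensional
  have hcard : Fintype.card {χ // W χ ≠ ⊥} ≤ Module.finrank K V := hInd.subtype_ne_bot_le_finrank
  let Φ : G → Set {χ // W χ ≠ ⊥} := fun g => {χ | χ.1 g = 1}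
  have hΦ : Function.Injective Φ := by
    intro g h hgh
    refine Subtype.ext (LinearEquiv.ext fun v => ?_)
    have hv : v ∈ ⨆ χ, W χ := by rw [hTop]; trivial
    induction hv using Submodule.iSup_induction' with
    | mem χ w hw =>
      by_cases hχ : W χ = ⊥
      · rw [hχ, Submodule.mem_bot] at hw
        rw [hw, map_zero, map_zero]
      · rw [hact χ g w hw, hact χ h w hw]
        congr 1
        have hiff : χ g = 1 ↔ χ h = 1 := by
          have := Set.ext_iff.mp hgh ⟨χ, hχ⟩
          simpa [Φ] using this
        rcases hpm χ hχ g with h1 | h1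
        · rw [h1, hiff.mp h1]
        · rcases hpm χ hχ h with h3 | h3
          · rw [hiff.mpr h3, h3]
          · rw [h1, h3]
    | zero => rw [map_zero, map_zero]
    | add x y _ _ hx hy => rw [map_add, map_add, hx, hy]
  calc Nat.card G ≤ Nat.card (Set {χ // W χ ≠ ⊥}) := Nat.card_le_card_of_injective Φ hΦ
    _ = 2 ^ Fintype.card {χ // W χ ≠ ⊥} := by rw [Nat.card_eq_fintype_card, Fintype.card_set]
    _ ≤ 2 ^ Module.finrank K V := Nat.pow_le_pow_right (by norm_num) hcard

/-- Let K be a field of characteristic different from 2 such that K contains all roots of unity (for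
every n ≥ 1 the polynomial X^n − 1 splits into linear factors over K), V a finite-dimensional
K-vector space and q a quadratic form on V that does not represent zero. Then every finite subgroup
of the group of K-linear automorphisms of V preserving q is abelian and has order at most 2 ^ (dim
V). (The published statement also covers perfect fields of characteristic 2; this row is the case of
characteristic ≠ 2.) -/
theorem result
    (K : Type u) [Field K] (hK : ∀ n : ℕ, 0 < n → (X ^ n - 1 : K[X]).Splits) (h2 : (2 : K) ≠ 0)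
    (V : Type v) [AddCommGroup V] [Module K V] [FiniteDimensional K V]
    (q : QuadraticForm K V) (hq : q.Anisotropic)
    (G : Subgroup (V ≃ₗ[K] V)) [Finite G] (hG : ∀ g ∈ G, ∀ x : V, q (g x) = q x) :
    (∀ g ∈ G, ∀ h ∈ G, g * h = h * g) ∧ Nat.card G ≤ 2 ^ Module.finrank K V := by
  have hsq : ∀ g ∈ G, g * g = 1 := by
    intro g hg
    have hfin : IsOfFinOrder (⟨g, hg⟩ : G) := isOfFinOrder_of_finite _
    obtain ⟨d, hd, hgd⟩ := hfin.exists_pow_eq_one
    have hgd' : g ^ d = 1 := by
      have := congrArg Subtype.val hgd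
      simpa using this
    have := Groth.Agent.S15165.result K hK h2 V q hq g (hG g hg) d hd hgd'
    rwa [pow_two] at this
  have hcomm : ∀ g ∈ G, ∀ h ∈ G, g * h = h * g := by
    intro g hg h hh
    have h1 := hsq (g * h) (G.mul_mem hg hh)
    have h2' := hsq g hg
    have h3 := hsq h hh
    calc g * h = g * ((g * h) * (g * h)) * h := by rw [h1, mul_one]
      _ = (g * g) * (h * g) * (h * h) := by simp only [mul_assoc]
      _ = h * g := by rw [h2', h3, one_mul, mul_one]
  exact ⟨hcomm, card_involutions h2 G hsq hcomm⟩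

end Groth.Agent.S15166
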