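import Groth.Statements.S15169
import Mathlib

set_option autoImplicit false
universe u v
open BddFin

namespace Groth.Agent.S15169

section general
variable {K : Type u} [Field K] {A : Type v} [DivisionRing A] [Algebra K A]

lemma psi_exists (m : Polynomial K) [Fact (Irreducible m)] (x : A)
    (hx : Polynomial.aeval x m = 0) :
    ∃ ψ : AdjoinRoot m →ₐ[K] A, Function.Injective ψ ∧
      ∀ q : Polynomial K, ψ (AdjoinRoot.mk m q) = Polynomial.aeval x q := by
  let ψ : AdjoinRoot m →ₐ[K] A :=
    Ideal.Quotient.liftₐ (Ideal.span {m}) (Polynomial.aeval x) (by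
      intro a ha
      obtain ⟨c, rfl⟩ := Ideal.mem_span_singleton.mp ha
      rw [map_mul, hx, zero_mul])
  exact ⟨ψ, (ψ : AdjoinRoot m →+* A).injective, fun q => rfl⟩

lemma finrank_adjoinRoot (m : Polynomial K) [hm : Fact (Irreducible m)] :
    Module.finrank K (AdjoinRoot m) = m.natDegree := by
  rw [(AdjoinRoot.powerBasis hm.out.ne_zero).finrank, AdjoinRoot.powerBasis_dim]

lemma deg_dvd [FiniteDimensional K A] (m : Polynomial K) [Fact (Irreducible m)] (x : A)
    (hx : Polynomial.aeval x m = 0) : m.natDegree ∣ Module.finrank K A := by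
  obtain ⟨ψ, hψ, -⟩ := psi_exists m x hx
  letI : Module (AdjoinRoot m) A := Module.compHom A (ψ : AdjoinRoot m →+* A)
  haveI : IsScalarTower K (AdjoinRoot m) A := by
    refine ⟨fun k a y => ?_⟩
    change ψ (k • a) * y = k • (ψ a * y)
    rw [map_smul, smul_mul_assoc]
  have := Module.finrank_mul_finrank K (AdjoinRoot m) A
  rw [finrank_adjoinRoot] at this
  exact Dvd.intro _ this

lemma comm_of_deg_eq [FiniteDimensional K A] (m : Polynomial K) [Fact (Irreducible m)] (x : A)
    (hx : Polynomial.aeval x m = 0) (h : m.natDegree = Module.finrank K A) (a b : A) :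
    a * b = b * a := by
  obtain ⟨ψ, hψ, -⟩ := psi_exists m x hx
  have hfin : Module.finrank K (AdjoinRoot m) = Module.finrank K A := by
    rw [finrank_adjoinRoot, h]
  haveI : FiniteDimensional K (AdjoinRoot m) :=
    Module.finite_of_finrank_pos (by rw [hfin]; exact Module.finrank_pos)
  have hsurj : Function.Surjective ψ :=
    (LinearMap.injective_iff_surjective_of_finrank_eq_finrank hfin (f := ψ.toLinearMap)).mp hψ
  obtain ⟨a', rfl⟩ := hsurj a
  obtain ⟨b', rfl⟩ := hsurj b
  rw [← map_mul, ← map_mul, mul_comm]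

end general

lemma comm_pow (p : ℕ) [hpp : Fact p.Prime] {A : Type v} [Ring A] [CharP A p] (v u₀ : A)
    (hvu : v * u₀ - u₀ * v = 1) : v * u₀ ^ p = u₀ ^ p * v := by
  have hp : p.Prime := hpp.out
  have hvu' : v * u₀ = u₀ * v + 1 := by rw [← hvu]; abel
  have key : ∀ n : ℕ, v * u₀ ^ (n + 1) = u₀ ^ (n + 1) * v + ((n + 1 : ℕ) : A) * u₀ ^ n := by
    intro n
    induction n with
    | zero => simpa using hvu'
    | succ n ih =>
      have hcast : ((n + 1 : ℕ) : A) * u₀ ^ n * u₀ = ((n + 1 : ℕ) : A) * u₀ ^ (n + 1) := by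
        rw [mul_assoc, ← pow_succ]
      rw [pow_succ u₀ (n + 1), ← mul_assoc, ih, add_mul, mul_assoc, hvu', mul_add, mul_one,
        hcast, ← mul_assoc, ← pow_succ, add_assoc]
      congr 1
      have : ((n + 1 + 1 : ℕ) : A) = ((n + 1 : ℕ) : A) + 1 := Nat.cast_succ (n + 1)
      rw [this, add_mul, one_mul, add_comm]
  have := key (p - 1)
  rw [Nat.sub_add_cancel hp.one_le, CharP.cast_eq_zero, zero_mul, add_zero] at this
  exact this

section main
variable {K : Type u} [Field K] (p : ℕ) [hpp : Fact p.Prime] [CharP K p]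
  {A : Type v} [DivisionRing A] [Algebra K A] [Algebra.IsCentral K A] [FiniteDimensional K A]

lemma insep_structure (hA : Module.finrank K A = p ^ 2) (v : A) (hv : ¬ IsSeparable K v) :
    (∃ c : K, v ^ p = algebraMap K A c) ∧ (minpoly K v).natDegree = p := by
  have hp : p.Prime := hpp.out
  have hint : IsIntegral K v := Algebra.IsIntegral.isIntegral v
  have hirr : Irreducible (minpoly K v) := minpoly.irreducible hint
  haveI : Fact (Irreducible (minpoly K v)) := ⟨hirr⟩
  rcases Polynomial.separable_or p hirr with hsep | ⟨-, g, hg, hgf⟩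
  · exact absurd hsep hv
  have hdeg : (minpoly K v).natDegree = g.natDegree * p := by
    rw [← hgf, Polynomial.natDegree_expand]
  have hdvd : (minpoly K v).natDegree ∣ p ^ 2 := by
    rw [← hA]
    exact deg_dvd _ v (minpoly.aeval K v)
  have hne : (minpoly K v).natDegree ≠ p ^ 2 := by
    intro hd
    have hcomm := comm_of_deg_eq (minpoly K v) v (minpoly.aeval K v) (by rw [hd, hA])
    have hc : v ∈ Subalgebra.center K A := by
      rw [Subalgebra.mem_center_iff]
      intro b
      exact hcomm b v
    rw [Algebra.IsCentral.center_eq_bot, Algebra.mem_bot] at hc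
    obtain ⟨c, rfl⟩ := hc
    apply hv
    unfold IsSeparable
    rw [minpoly.eq_X_sub_C_of_algebraMap_inj c (algebraMap K A).injective]
    exact Polynomial.separable_X_sub_C
  have hg1 : g.natDegree = 1 := by
    have hgpos : 0 < g.natDegree := hg.natDegree_pos
    rw [hdeg] at hdvd hne
    obtain ⟨k, hk2, hk⟩ := (Nat.dvd_prime_pow hp).mp hdvd
    interval_cases k
    · rw [pow_zero] at hk
      have := Nat.eq_one_of_mul_eq_one_left hk
      exact absurd this hp.one_lt.ne'
    · rw [pow_one] at hk
      exact Nat.eq_of_mul_eq_mul_right hp.pos (by rw [hk, one_mul])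
    · exact absurd hk hne
  refine ⟨?_, by rw [hdeg, hg1, one_mul]⟩
  have hgm : g.Monic := by
    have := minpoly.monic hint
    rw [← hgf] at this
    exact (Polynomial.monic_expand_iff hp.pos).mp this
  have hgX := hgm.eq_X_add_C hg1
  have hv0 := minpoly.aeval K v
  rw [← hgf, hgX, map_add, Polynomial.expand_X, Polynomial.expand_C, map_add, map_pow,
    Polynomial.aeval_X, Polynomial.aeval_C] at hv0
  refine ⟨-(g.coeff 0), ?_⟩
  rw [map_neg]
  exact eq_neg_of_add_eq_zero_left hv0


omit [Algebra.IsCentral K A] [FiniteDimensional K A] in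
lemma exists_commutator_one (v : A) (c : K) (hvp : v ^ p = algebraMap K A c)
    (hnc : ∃ x : A, v * x ≠ x * v) : ∃ u₀ : A, v * u₀ - u₀ * v = 1 := by
  classical
  have hp : p.Prime := hpp.out
  obtain ⟨x, hx⟩ := hnc
  let D : Module.End K A := LinearMap.mulLeft K v - LinearMap.mulRight K v
  have hDapp : ∀ y : A, D y = v * y - y * v := fun y => rfl
  have hLR : Commute (LinearMap.mulLeft K v) (LinearMap.mulRight K v) := by
    ext y
    change v * (y * v) = (v * y) * v
    rw [mul_assoc]
  haveI : CharP (Module.End K A) p :=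
    charP_of_injective_algebraMap (algebraMap K (Module.End K A)).injective p
  have hLpow : ∀ (n : ℕ) (y : A), ((LinearMap.mulLeft K v) ^ n) y = v ^ n * y := by
    intro n
    induction n with
    | zero => intro y; simp
    | succ n ih =>
      intro y
      rw [pow_succ, Module.End.mul_apply, LinearMap.mulLeft_apply, ih, pow_succ, mul_assoc]
  have hRpow : ∀ (n : ℕ) (y : A), ((LinearMap.mulRight K v) ^ n) y = y * v ^ n := by
    intro n
    induction n with
    | zero => intro y; simp
    | succ n ih =>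
      intro y
      rw [pow_succ, Module.End.mul_apply, LinearMap.mulRight_apply, ih, pow_succ', mul_assoc]
  have hDp : ∀ y : A, (D ^ p) y = 0 := by
    intro y
    have : D ^ p = (LinearMap.mulLeft K v) ^ p - (LinearMap.mulRight K v) ^ p :=
      sub_pow_char_of_commute p hLR
    rw [this, LinearMap.sub_apply, hLpow, hRpow, hvp, Algebra.commutes, sub_self]
  have hex : ∃ n : ℕ, (D ^ n) x = 0 := ⟨p, hDp x⟩
  have hk0 : Nat.find hex ≠ 0 := by
    intro h0
    have := Nat.find_spec hex
    rw [h0, pow_zero, Module.End.one_apply] at this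
    apply hx
    rw [this, mul_zero, zero_mul]
  have hk1 : Nat.find hex ≠ 1 := by
    intro h1
    have := Nat.find_spec hex
    rw [h1, pow_one, hDapp] at this
    exact hx (sub_eq_zero.mp this)
  obtain ⟨j, hj⟩ : ∃ j, Nat.find hex = j + 2 := ⟨Nat.find hex - 2, by omega⟩
  have hz0 : (D ^ (j + 1)) x ≠ 0 := by
    have := Nat.find_min hex (m := j + 1) (by omega)
    exact this
  have hDz : D ((D ^ (j + 1)) x) = 0 := by
    have := Nat.find_spec hex
    rw [hj, pow_succ', Module.End.mul_apply] at this
    exact this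
  have hDy : D ((D ^ j) x) = (D ^ (j + 1)) x := by
    rw [pow_succ', Module.End.mul_apply]
  set z := (D ^ (j + 1)) x with hz
  set y := (D ^ j) x with hy
  rw [hDapp] at hDz hDy
  have hcz : Commute v z := sub_eq_zero.mp hDz
  have hczi : Commute v z⁻¹ := hcz.inv_right₀
  refine ⟨z⁻¹ * y, ?_⟩
  rw [← mul_assoc, hczi.eq, mul_assoc, mul_assoc, ← mul_sub, hDy, inv_mul_cancel₀ hz0]


omit [Algebra.IsCentral K A] in
lemma adjoin_eq_top (hA : Module.finrank K A = p ^ 2) (v u₀ : A) (hvu : v * u₀ - u₀ * v = 1)
    (hdeg : (minpoly K v).natDegree = p) : Algebra.adjoin K {v, u₀} = ⊤ := by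
  have hp : p.Prime := hpp.out
  have hint : IsIntegral K v := Algebra.IsIntegral.isIntegral v
  haveI : Fact (Irreducible (minpoly K v)) := ⟨minpoly.irreducible hint⟩
  obtain ⟨ψ, hψ, hψq⟩ := psi_exists (minpoly K v) v (minpoly.aeval K v)
  have hvB : v ∈ Algebra.adjoin K {v, u₀} := Algebra.subset_adjoin (by simp)
  have huB : u₀ ∈ Algebra.adjoin K {v, u₀} := Algebra.subset_adjoin (by simp)
  have hψB : ∀ e, ψ e ∈ Algebra.adjoin K {v, u₀} := by
    intro e
    obtain ⟨q, rfl⟩ := AdjoinRoot.mk_surjective e
    rw [hψq]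
    exact Algebra.adjoin_mono (by simp) (Polynomial.aeval_mem_adjoin_singleton K v)
  let ψ' : AdjoinRoot (minpoly K v) →ₗ[K] Algebra.adjoin K {v, u₀} :=
    ψ.toLinearMap.codRestrict (Subalgebra.toSubmodule (Algebra.adjoin K {v, u₀})) hψB
  have hψ'inj : Function.Injective ψ' := by
    intro a b hab
    apply hψ
    exact congrArg Subtype.val hab
  haveI : FiniteDimensional K (AdjoinRoot (minpoly K v)) :=
    Module.finite_of_finrank_pos (by rw [finrank_adjoinRoot, hdeg]; exact hp.pos)
  have hle : p ≤ Module.finrank K (Algebra.adjoin K {v, u₀}) := by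
    have := LinearMap.finrank_le_finrank_of_injective hψ'inj
    rwa [finrank_adjoinRoot, hdeg] at this
  have hnep : Module.finrank K (Algebra.adjoin K {v, u₀}) ≠ p := by
    intro heq
    have hfin : Module.finrank K (AdjoinRoot (minpoly K v)) =
        Module.finrank K (Algebra.adjoin K {v, u₀}) := by rw [finrank_adjoinRoot, hdeg, heq]
    have hsurj : Function.Surjective ψ' :=
      (LinearMap.injective_iff_surjective_of_finrank_eq_finrank hfin).mp hψ'inj
    obtain ⟨a, ha⟩ := hsurj ⟨v, hvB⟩
    obtain ⟨b, hb⟩ := hsurj ⟨u₀, huB⟩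
    have ha' : ψ a = v := congrArg Subtype.val ha
    have hb' : ψ b = u₀ := congrArg Subtype.val hb
    have hc : ψ a * ψ b = ψ b * ψ a := by rw [← map_mul, ← map_mul, mul_comm]
    rw [ha', hb'] at hc
    rw [hc, sub_self] at hvu
    exact zero_ne_one hvu
  have hdvd : Module.finrank K (Algebra.adjoin K {v, u₀}) ∣ p ^ 2 := by
    letI : DivisionRing (Algebra.adjoin K {v, u₀}) :=
      divisionRingOfFiniteDimensional K (Algebra.adjoin K {v, u₀})
    have := Module.finrank_mul_finrank K (Algebra.adjoin K {v, u₀}) A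
    rw [hA] at this
    exact Dvd.intro _ this
  have hfin : Module.finrank K (Algebra.adjoin K {v, u₀}) = p ^ 2 := by
    obtain ⟨k, hk2, hk⟩ := (Nat.dvd_prime_pow hp).mp hdvd
    interval_cases k
    · rw [hk, pow_zero] at hle
      exact absurd hle (not_le.mpr hp.one_lt)
    · rw [pow_one] at hk
      exact absurd hk hnep
    · exact hk
  rw [← Algebra.toSubmodule_eq_top]
  apply Submodule.eq_top_of_finrank_eq
  exact hfin.trans hA.symm

end main

/-- (1) ⇒ (2): let K be a field with char K = p > 0 and A a central division K-algebra with dim_K A = p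
^ 2. If some element of A is not separable over K, then there are v, u in A with v ^ p and u ^ p in
K and v * u - u * v = 1 which generate A as a K-algebra. -/
theorem result
    (K : Type u) [Field K] (p : ℕ) [Fact p.Prime] [CharP K p]
    (A : Type v) [DivisionRing A] [Algebra K A] [Algebra.IsCentral K A] [FiniteDimensional K A]
    (hA : Module.finrank K A = p ^ 2) (h : ∃ v : A, ¬ IsSeparable K v) :
    ∃ v u : A, v ^ p ∈ (algebraMap K A).range ∧ u ^ p ∈ (algebraMap K A).range ∧ v * u - u * v = 1 ∧
      Algebra.adjoin K {v, u} = ⊤ := by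
  obtain ⟨v, hv⟩ := h
  obtain ⟨⟨c, hc⟩, hdeg⟩ := insep_structure p hA v hv
  have hnc : ∃ x : A, v * x ≠ x * v := by
    by_contra hcon
    push Not at hcon
    have hcen : v ∈ Subalgebra.center K A := by
      rw [Subalgebra.mem_center_iff]
      intro b
      exact (hcon b).symm
    rw [Algebra.IsCentral.center_eq_bot, Algebra.mem_bot] at hcen
    obtain ⟨k, rfl⟩ := hcen
    apply hv
    unfold IsSeparable
    rw [minpoly.eq_X_sub_C_of_algebraMap_inj k (algebraMap K A).injective]
    exact Polynomial.separable_X_sub_C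
  obtain ⟨u₀, hu₀⟩ := exists_commutator_one p v c hc hnc
  have htop := adjoin_eq_top p hA v u₀ hu₀ hdeg
  refine ⟨v, u₀, ⟨c, hc.symm⟩, ?_, hu₀, htop⟩
  haveI : CharP A p := charP_of_injective_algebraMap (algebraMap K A).injective p
  have h1 : v * u₀ ^ p = u₀ ^ p * v := comm_pow p v u₀ hu₀
  have hcen : u₀ ^ p ∈ Subalgebra.center K A := by
    rw [Subalgebra.mem_center_iff]
    intro b
    have hb : b ∈ Algebra.adjoin K {v, u₀} := by rw [htop]; trivial
    have hle : Algebra.adjoin K {v, u₀} ≤ Subalgebra.centralizer K {u₀ ^ p} := by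
      rw [Algebra.adjoin_le_iff]
      intro w hw
      rcases hw with rfl | hw
      · intro z hz
        rw [Set.mem_singleton_iff] at hz
        rw [hz]
        exact h1.symm
      · rw [Set.mem_singleton_iff] at hw
        rw [hw]
        intro z hz
        rw [Set.mem_singleton_iff] at hz
        rw [hz, ← pow_succ, ← pow_succ']
    have := hle hb (u₀ ^ p) (Set.mem_singleton _)
    exact this.symm
  rw [Algebra.IsCentral.center_eq_bot, Algebra.mem_bot] at hcen
  obtain ⟨k, hk⟩ := hcen
  exact ⟨k, hk⟩

end Groth.Agent.S15169
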