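import Groth.Statements.S15168
import Groth.Agent.S15169
import Groth.Agent.Lib.Helper4.Centralizer
import Mathlib

set_option autoImplicit false
universe u v
open Polynomial
open BddFin

namespace Groth.Agent.S15168

lemma pow_deg_mem {K : Type u} [Field K]
    (hK : ∀ n : ℕ, 0 < n → (Polynomial.X ^ n - 1 : Polynomial K).Splits)
    (f : Polynomial K) [hirr : Fact (Irreducible f)] (hf : f.Monic) (m : ℕ) (hm : 0 < m) (a : K)
    (hroot : (AdjoinRoot.root f) ^ m = algebraMap K (AdjoinRoot f) a)
    (hne : AdjoinRoot.root f ≠ 0) :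
    ∃ b : K, (AdjoinRoot.root f) ^ f.natDegree = algebraMap K (AdjoinRoot f) b := by
  classical
  have hinjΩ : Function.Injective (algebraMap (AdjoinRoot f) (AlgebraicClosure (AdjoinRoot f))) :=
    (algebraMap (AdjoinRoot f) (AlgebraicClosure (AdjoinRoot f))).injective
  set ρ : AlgebraicClosure (AdjoinRoot f) :=
    algebraMap (AdjoinRoot f) (AlgebraicClosure (AdjoinRoot f)) (AdjoinRoot.root f) with hρ
  have hρ0 : ρ ≠ 0 := by
    intro h
    apply hne
    apply hinjΩ
    rw [map_zero]
    exact h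
  have hρm : ρ ^ m = algebraMap K (AlgebraicClosure (AdjoinRoot f)) a := by
    rw [hρ, ← map_pow, hroot, ← IsScalarTower.algebraMap_apply]
  have ha0 : algebraMap K (AlgebraicClosure (AdjoinRoot f)) a ≠ 0 := by
    rw [← hρm]
    exact pow_ne_zero m hρ0
  have hdvd : f ∣ Polynomial.X ^ m - Polynomial.C a := by
    rw [← AdjoinRoot.mk_eq_zero, map_sub, map_pow, AdjoinRoot.mk_X, AdjoinRoot.mk_C, hroot]
    exact sub_self _
  have hs : (f.map (algebraMap K (AlgebraicClosure (AdjoinRoot f)))).Splits :=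
    IsAlgClosed.splits _
  have hmon : (f.map (algebraMap K (AlgebraicClosure (AdjoinRoot f)))).Monic := hf.map _
  have hrootsm : ∀ y ∈ (f.map (algebraMap K (AlgebraicClosure (AdjoinRoot f)))).roots,
      y ^ m = algebraMap K (AlgebraicClosure (AdjoinRoot f)) a := by
    intro y hy
    rw [Polynomial.mem_roots hmon.ne_zero] at hy
    have h1 : (f.map (algebraMap K (AlgebraicClosure (AdjoinRoot f)))) ∣
        (Polynomial.X ^ m - Polynomial.C a).map (algebraMap K (AlgebraicClosure (AdjoinRoot f))) :=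
      Polynomial.map_dvd _ hdvd
    have h2 := hy.dvd h1
    rw [Polynomial.IsRoot.def, Polynomial.eval_map, Polynomial.eval₂_sub, Polynomial.eval₂_pow,
      Polynomial.eval₂_X, Polynomial.eval₂_C] at h2
    exact sub_eq_zero.mp h2
  have hform : ∀ y ∈ (f.map (algebraMap K (AlgebraicClosure (AdjoinRoot f)))).roots,
      ∃ ζ : K, ζ ≠ 0 ∧ y = algebraMap K (AlgebraicClosure (AdjoinRoot f)) ζ * ρ := by
    intro y hy
    have hym := hrootsm y hy
    have h1 : (y / ρ) ^ m = 1 := by
      rw [div_pow, hym, hρm, div_self ha0]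
    have hX : (Polynomial.X ^ m - 1 : Polynomial K) ≠ 0 :=
      Polynomial.X_pow_sub_C_ne_zero hm 1
    have h2 : ((Polynomial.X ^ m - 1 : Polynomial K).map
        (algebraMap K (AlgebraicClosure (AdjoinRoot f)))).IsRoot (y / ρ) := by
      rw [Polynomial.IsRoot.def, Polynomial.eval_map, Polynomial.eval₂_sub, Polynomial.eval₂_pow,
        Polynomial.eval₂_X, Polynomial.eval₂_one, h1, sub_self]
    obtain ⟨ζ, hζ⟩ := (hK m hm).mem_range_of_isRoot hX h2
    refine ⟨ζ, ?_, ?_⟩
    · rintro rfl
      rw [map_zero] at hζ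
      have hy0 : y = 0 := by
        rcases div_eq_zero_iff.mp hζ.symm with h | h
        · exact h
        · exact absurd h hρ0
      rw [hy0, zero_pow hm.ne'] at hym
      exact ha0 hym.symm
    · rw [hζ, div_mul_cancel₀ y hρ0]
  have hprod : ∀ s : Multiset (AlgebraicClosure (AdjoinRoot f)),
      (∀ y ∈ s, ∃ ζ : K, ζ ≠ 0 ∧ y = algebraMap K (AlgebraicClosure (AdjoinRoot f)) ζ * ρ) →
      ∃ c : K, c ≠ 0 ∧ s.prod = algebraMap K (AlgebraicClosure (AdjoinRoot f)) c * ρ ^ (Multiset.card s) := by
    intro s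
    induction s using Multiset.induction_on with
    | empty =>
      intro _
      exact ⟨1, one_ne_zero, by simp⟩
    | cons y s ih =>
      intro h
      obtain ⟨c, hc0, hc⟩ := ih (fun z hz => h z (Multiset.mem_cons_of_mem hz))
      obtain ⟨ζ, hζ0, hζ⟩ := h y (Multiset.mem_cons_self y s)
      refine ⟨ζ * c, mul_ne_zero hζ0 hc0, ?_⟩
      rw [Multiset.prod_cons, hc, hζ, Multiset.card_cons, map_mul, pow_succ]
      ring
  obtain ⟨c, hc0, hc⟩ := hprod _ hform
  have hcoeff := hs.coeff_zero_eq_prod_roots_of_monic hmon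
  rw [hc, ← hs.natDegree_eq_card_roots, Polynomial.natDegree_map, Polynomial.coeff_map] at hcoeff
  refine ⟨c⁻¹ * ((-1) ^ f.natDegree * f.coeff 0), ?_⟩
  apply hinjΩ
  rw [map_pow, ← hρ, ← IsScalarTower.algebraMap_apply, map_mul, map_mul, hcoeff, map_pow, map_neg,
    map_one, map_inv₀]
  have hc0' : algebraMap K (AlgebraicClosure (AdjoinRoot f)) c ≠ 0 := by
    rw [Ne, map_eq_zero]
    exact hc0
  have hsq : ((-1 : AlgebraicClosure (AdjoinRoot f)) ^ f.natDegree) *
      ((-1 : AlgebraicClosure (AdjoinRoot f)) ^ f.natDegree) = 1 := by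
    rw [← mul_pow, neg_one_mul, neg_neg, one_pow]
  field_simp
  rw [sq, hsq]

/-- Let K be a field such that K contains all roots of unity (for every n ≥ 1 the polynomial X^n − 1
splits into linear factors over K), A a central division algebra of dimension n ^ 2 over K, and x an
element of A some power x ^ m (m ≥ 1) of which lies in K. Then x ^ n lies in K; that is, the order
of the class of x in the quotient of the unit group of A by that of K divides n. -/
theorem result
    (K : Type u) [Field K] (hK : ∀ n : ℕ, 0 < n → (X ^ n - 1 : K[X]).Splits)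
    (A : Type v) [DivisionRing A] [Algebra K A] [Algebra.IsCentral K A] [FiniteDimensional K A]
    (n : ℕ) (hn : Module.finrank K A = n ^ 2)
    (x : A) (hxm : ∃ m : ℕ, 0 < m ∧ x ^ m ∈ (algebraMap K A).range) :
    x ^ n ∈ (algebraMap K A).range := by
  classical
  obtain ⟨m, hm, a, ha⟩ := hxm
  have hn0 : 0 < n := by
    have hpos : 0 < Module.finrank K A := Module.finrank_pos
    rw [hn] at hpos
    exact Nat.pos_of_ne_zero (fun h => by rw [h] at hpos; simp at hpos)
  by_cases hx0 : x = 0
  · rw [hx0, zero_pow hn0.ne']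
    exact ⟨0, map_zero _⟩
  have hint : IsIntegral K x := Algebra.IsIntegral.isIntegral x
  haveI : Fact (Irreducible (minpoly K x)) := ⟨minpoly.irreducible hint⟩
  obtain ⟨ψ, hψ, hψq⟩ := Groth.Agent.S15169.psi_exists (minpoly K x) x (minpoly.aeval K x)
  have hψroot : ψ (AdjoinRoot.root (minpoly K x)) = x := by
    rw [← AdjoinRoot.mk_X, hψq, Polynomial.aeval_X]
  have hrne : AdjoinRoot.root (minpoly K x) ≠ 0 := by
    intro h
    apply hx0
    rw [← hψroot, h, map_zero]
  have hrm : (AdjoinRoot.root (minpoly K x)) ^ m = algebraMap K (AdjoinRoot (minpoly K x)) a := by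
    apply hψ
    rw [map_pow, hψroot, AlgHom.commutes]
    exact ha.symm
  obtain ⟨b, hb⟩ := pow_deg_mem hK (minpoly K x) (minpoly.monic hint) m hm a hrm hrne
  have hxr : x ^ (minpoly K x).natDegree = algebraMap K A b := by
    have h := congrArg ψ hb
    rw [map_pow, hψroot, AlgHom.commutes] at h
    exact h
  -- degree divides n
  have hdvd : (minpoly K x).natDegree ∣ n := by
    haveI : IsSimpleRing ψ.range :=
      IsSimpleRing.of_ringEquiv (AlgEquiv.ofInjective ψ hψ).toRingEquiv inferInstance
    have h1 := Groth.Agent.Helper4.finrank_eq_mul_finrank_centralizer K A ψ.range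
    have h2 : Module.finrank K ψ.range = (minpoly K x).natDegree := by
      rw [← (AlgEquiv.ofInjective ψ hψ).toLinearEquiv.finrank_eq,
        Groth.Agent.S15169.finrank_adjoinRoot]
    have hmem : ∀ e, ψ e ∈ Subalgebra.centralizer K (ψ.range : Set A) := by
      intro e z hz
      obtain ⟨e', rfl⟩ := hz
      change ψ e' * ψ e = ψ e * ψ e'
      rw [← map_mul, ← map_mul, mul_comm]
    let φ : AdjoinRoot (minpoly K x) →ₐ[K] Subalgebra.centralizer K (ψ.range : Set A) :=
      ψ.codRestrict _ hmem
    letI : Module (AdjoinRoot (minpoly K x)) (Subalgebra.centralizer K (ψ.range : Set A)) :=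
      Module.compHom _ φ.toRingHom
    haveI : IsScalarTower K (AdjoinRoot (minpoly K x))
        (Subalgebra.centralizer K (ψ.range : Set A)) := by
      refine ⟨fun k e y => ?_⟩
      change φ (k • e) * y = k • (φ e * y)
      rw [map_smul, smul_mul_assoc]
    have h3 := Module.finrank_mul_finrank K (AdjoinRoot (minpoly K x))
      (Subalgebra.centralizer K (ψ.range : Set A))
    rw [Groth.Agent.S15169.finrank_adjoinRoot] at h3
    rw [hn, h2, ← h3, ← mul_assoc, ← sq] at h1
    have h4 : (minpoly K x).natDegree ^ 2 ∣ n ^ 2 := Dvd.intro _ h1.symm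
    exact (Nat.pow_dvd_pow_iff two_ne_zero).mp h4
  obtain ⟨t, ht⟩ := hdvd
  refine ⟨b ^ t, ?_⟩
  rw [map_pow, ← hxr, ← pow_mul, ← ht]

end Groth.Agent.S15168
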