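import Groth.Statements.S1517
import Mathlib

set_option autoImplicit false
universe u
open Brauer

namespace Groth.Agent.S1517

/-- Let A be a ring with no nontrivial two-sided ideals and M a nonzero right ideal, viewed as a right
A-module with endomorphism ring A'. Then every A'-linear endomorphism of M is right multiplication
by exactly one element of A; that is, the natural map from A to the bicommutant of M is a bijection. -/
theorem result (A : Type u) [Ring A] [IsSimpleRing A]
    (M : Submodule Aᵐᵒᵖ A) (hM : M ≠ ⊥)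
    (g : Module.End (Module.End Aᵐᵒᵖ M) M) :
    ∃! a : A, ∀ m : M, (g m : A) = (m : A) * a := by
  classical
  have hMr : ∀ (m : A) (r : A), m ∈ M → m * r ∈ M := by
    intro m r hm
    have h0 := M.smul_mem (MulOpposite.op r) hm
    simpa using h0
  have h1 : (1 : A) ∈ Ideal.span (M : Set A) := by
    have htwo : (Ideal.span (M : Set A)).IsTwoSided := by
      constructor
      intro a b ha
      refine Submodule.span_induction (p := fun y _ => y * b ∈ Ideal.span (M : Set A))
        ?_ ?_ ?_ ?_ ha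
      · intro y hy
        exact Ideal.subset_span (hMr y b hy)
      · simp
      · intro x y _ _ hx hy
        rw [add_mul]
        exact Ideal.add_mem _ hx hy
      · intro r x _ hx
        rw [smul_eq_mul, mul_assoc]
        exact Ideal.mul_mem_left _ r hx
    obtain ⟨x, hxM, hx0⟩ := Submodule.exists_mem_ne_zero_of_ne_bot hM
    have h2 := IsSimpleRing.one_mem_of_ne_zero_mem (Ideal.span (M : Set A)).toTwoSided hx0
      (Ideal.mem_toTwoSided.mpr (Ideal.subset_span hxM))
    exact Ideal.mem_toTwoSided.mp h2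
  let L : M → Module.End Aᵐᵒᵖ M := fun n =>
    { toFun := fun x => ⟨(n : A) * (x : A), hMr _ _ n.2⟩
      map_add' := fun x y => Subtype.ext (by simp [mul_add])
      map_smul' := fun r x => Subtype.ext (by simp [mul_assoc]) }
  have hgL : ∀ (n x : M),
      (g ⟨(n : A) * (x : A), hMr _ _ n.2⟩ : A) = (n : A) * (g x : A) := by
    intro n x
    have h2 := g.map_smul (L n) x
    have h3 : (L n) • x = ⟨(n : A) * (x : A), hMr _ _ n.2⟩ := rfl
    rw [h3] at h2
    rw [h2]
    rfl
  have hex : ∀ x ∈ Ideal.span (M : Set A), ∃ a : A, ∀ m : M,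
      (g ⟨(m : A) * x, hMr _ _ m.2⟩ : A) = (m : A) * a := by
    intro x hx
    refine Submodule.span_induction (p := fun x _ => ∃ a : A, ∀ m : M,
      (g ⟨(m : A) * x, hMr _ _ m.2⟩ : A) = (m : A) * a) ?_ ?_ ?_ ?_ hx
    · intro y hy
      exact ⟨(g ⟨y, hy⟩ : A), fun m => hgL m ⟨y, hy⟩⟩
    · refine ⟨0, fun m => ?_⟩
      have h4 : (⟨(m : A) * 0, hMr _ _ m.2⟩ : M) = 0 := Subtype.ext (mul_zero _)
      rw [h4, map_zero, mul_zero]
      rfl
    · rintro x y _ _ ⟨a, ha⟩ ⟨b, hb⟩
      refine ⟨a + b, fun m => ?_⟩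
      have h4 : (⟨(m : A) * (x + y), hMr _ _ m.2⟩ : M) =
          ⟨(m : A) * x, hMr _ _ m.2⟩ + ⟨(m : A) * y, hMr _ _ m.2⟩ :=
        Subtype.ext (mul_add _ _ _)
      rw [h4, map_add, Submodule.coe_add, ha, hb, mul_add]
    · rintro r x _ ⟨a, ha⟩
      refine ⟨r * a, fun m => ?_⟩
      have h4 : (⟨(m : A) * (r • x), hMr _ _ m.2⟩ : M) =
          ⟨((⟨(m : A) * r, hMr _ _ m.2⟩ : M) : A) * x, hMr _ _ (hMr _ _ m.2)⟩ :=
        Subtype.ext (by simp [mul_assoc])
      rw [h4, ha ⟨(m : A) * r, hMr _ _ m.2⟩, mul_assoc]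
  obtain ⟨a, ha⟩ := hex 1 h1
  have ha' : ∀ m : M, (g m : A) = (m : A) * a := by
    intro m
    have h5 := ha m
    have h3 : (⟨(m : A) * 1, hMr _ _ m.2⟩ : M) = m := Subtype.ext (mul_one _)
    rwa [h3] at h5
  refine ⟨a, ha', fun b hb => ?_⟩
  have hd : ∀ x ∈ Ideal.span (M : Set A), x * (b - a) = 0 := by
    intro x hx
    refine Submodule.span_induction (p := fun x _ => x * (b - a) = 0) ?_ ?_ ?_ ?_ hx
    · intro y hy
      have h4 : (g ⟨y, hy⟩ : A) = y * b := hb ⟨y, hy⟩
      have h5 : (g ⟨y, hy⟩ : A) = y * a := ha' ⟨y, hy⟩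
      rw [mul_sub, ← h4, ← h5, sub_self]
    · exact zero_mul _
    · intro x y _ _ hx hy
      rw [add_mul, hx, hy, add_zero]
    · intro r x _ hx
      rw [smul_eq_mul, mul_assoc, hx, mul_zero]
  have h6 := hd 1 h1
  rw [one_mul] at h6
  exact sub_eq_zero.mp h6

end Groth.Agent.S1517
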