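import Groth.Statements.S15170
import Mathlib

set_option autoImplicit false
universe u v
open BddFin

namespace Groth.Agent.S15170

lemma transport {K : Type u} [Field K] {E : Type u} [Field E] [Algebra K E] {A : Type v} [Ring A]
    [Algebra K A] (ψ : E →ₐ[K] A) (hψ : Function.Injective ψ) [IsGalois K E] (p : ℕ)
    (hE : Module.finrank K E = p) :
    ∃ (L : Type v) (_ : Field L) (_ : Algebra K L), IsGalois K L ∧ Module.finrank K L = p ∧
      Nonempty (L →ₐ[K] A) := by
  let e : ↥(Set.range ψ) ≃ E := (Equiv.ofInjective ψ hψ).symm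
  letI : Field ↥(Set.range ψ) := e.field
  letI : Algebra K ↥(Set.range ψ) := e.algebra K
  let ea : ↥(Set.range ψ) ≃ₐ[K] E := e.algEquiv K
  exact ⟨↥(Set.range ψ), inferInstance, inferInstance, IsGalois.of_algEquiv ea.symm,
    by rw [← hE]; exact ea.toLinearEquiv.finrank_eq, ⟨ψ.comp ea.toAlgHom⟩⟩

lemma conj_aeval {K : Type u} [Field K] {A : Type v} [Ring A] [Algebra K A] (v a b : A)
    (h : v * a = b * v) (q : Polynomial K) :
    v * Polynomial.aeval a q = Polynomial.aeval b q * v := by
  induction q using Polynomial.induction_on' with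
  | add q₁ q₂ h₁ h₂ => rw [map_add, map_add, mul_add, add_mul, h₁, h₂]
  | monomial n k =>
    rw [Polynomial.aeval_monomial, Polynomial.aeval_monomial]
    have hpow : ∀ n : ℕ, v * a ^ n = b ^ n * v := by
      intro n
      induction n with
      | zero => simp
      | succ n ih => rw [pow_succ, ← mul_assoc, ih, mul_assoc, h, ← mul_assoc, ← pow_succ]
    rw [← mul_assoc, ← Algebra.commutes k v, mul_assoc, hpow, mul_assoc]

section shift
variable {K : Type u} [Field K] (p : ℕ) [hpp : Fact p.Prime] [CharP K p] (m : Polynomial K)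
  [hm : Fact (Irreducible m)]

lemma hshift (hcomp : m.comp (Polynomial.X + Polynomial.C 1) = m) (z : AdjoinRoot m) :
    Polynomial.aeval (z + 1) m = Polynomial.aeval z m := by
  have := congrArg (Polynomial.aeval z) hcomp
  rw [Polynomial.aeval_comp, map_add, Polynomial.aeval_X, Polynomial.aeval_C, map_one] at this
  exact this

lemma hroots (hcomp : m.comp (Polynomial.X + Polynomial.C 1) = m) (n : ℕ) :
    Polynomial.aeval (AdjoinRoot.root m + (n : AdjoinRoot m)) m = 0 := by
  induction n with
  | zero => simp
  | succ n ih => rw [Nat.cast_succ, ← add_assoc, hshift m hcomp, ih]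

noncomputable def Zset : Finset (AdjoinRoot m) := by
  classical
  exact (Finset.range p).image (fun i : ℕ => AdjoinRoot.root m + (i : AdjoinRoot m))

lemma Zset_card : (Zset p m).card = p := by
  classical
  haveI : CharP (AdjoinRoot m) p := charP_of_injective_algebraMap (algebraMap K (AdjoinRoot m)).injective p
  unfold Zset
  rw [Finset.card_image_of_injOn, Finset.card_range]
  intro i hi j hj hij
  have hij' : (i : AdjoinRoot m) = (j : AdjoinRoot m) := add_left_cancel hij
  exact CharP.natCast_injOn_Iio (AdjoinRoot m) p (by simpa using hi) (by simpa using hj) hij'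

lemma Zset_sub (hcomp : m.comp (Polynomial.X + Polynomial.C 1) = m) :
    (Zset p m).val ⊆ (m.map (algebraMap K (AdjoinRoot m))).roots := by
  classical
  intro z hz
  unfold Zset at hz
  rw [Finset.mem_val, Finset.mem_image] at hz
  obtain ⟨i, -, rfl⟩ := hz
  rw [Polynomial.mem_roots (Polynomial.map_ne_zero hm.out.ne_zero), Polynomial.IsRoot,
    Polynomial.eval_map_algebraMap]
  exact hroots m hcomp i

lemma p_le_deg (hcomp : m.comp (Polynomial.X + Polynomial.C 1) = m) : p ≤ m.natDegree := by
  have := Polynomial.card_le_degree_of_subset_roots (Zset_sub p m hcomp)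
  rwa [Zset_card, Polynomial.natDegree_map] at this

lemma galois_adjoinRoot (hcomp : m.comp (Polynomial.X + Polynomial.C 1) = m)
    (hdeg : m.natDegree = p) : IsGalois K (AdjoinRoot m) := by
  have hne : m.map (algebraMap K (AdjoinRoot m)) ≠ 0 := Polynomial.map_ne_zero hm.out.ne_zero
  have hle : (Zset p m).val ≤ (m.map (algebraMap K (AdjoinRoot m))).roots :=
    Finset.val_le_iff_val_subset.mpr (Zset_sub p m hcomp)
  have hcard : (m.map (algebraMap K (AdjoinRoot m))).roots.card = p := by
    apply le_antisymm
    · have := Polynomial.card_roots' (m.map (algebraMap K (AdjoinRoot m)))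
      rwa [Polynomial.natDegree_map, hdeg] at this
    · have := Multiset.card_le_card hle
      rwa [Finset.card_val, Zset_card] at this
  have hsplit : (m.map (algebraMap K (AdjoinRoot m))).Splits := by
    rw [Polynomial.splits_iff_card_roots, hcard, Polynomial.natDegree_map, hdeg]
  have hroots_eq : (Zset p m).val = (m.map (algebraMap K (AdjoinRoot m))).roots :=
    Multiset.eq_of_le_of_card_le hle (by rw [hcard, Finset.card_val, Zset_card])
  have hsep : m.Separable := by
    rw [← Polynomial.separable_map (algebraMap K (AdjoinRoot m)),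
      ← Polynomial.nodup_roots_iff_of_splits hne hsplit, ← hroots_eq]
    exact (Zset p m).nodup
  haveI : Polynomial.IsSplittingField K (AdjoinRoot m) m := by
    refine ⟨hsplit, ?_⟩
    rw [eq_top_iff, ← AdjoinRoot.adjoinRoot_eq_top (f := m)]
    apply Algebra.adjoin_mono
    rw [Set.singleton_subset_iff, Polynomial.mem_rootSet]
    exact ⟨hm.out.ne_zero, by simpa using hroots m hcomp 0⟩
  exact IsGalois.of_separable_splitting_field hsep

end shift

/-- (2) ⇒ (3): let K be a field with char K = p > 0 and A a central division K-algebra with dim_K A = p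
^ 2. If v, u in A satisfy v ^ p ∈ K, u ^ p ∈ K and v * u - u * v = 1, then some Galois extension L
of K with [L : K] = p admits a K-algebra embedding into A (so A has a Galois subfield of degree p
over K). -/
theorem result
    (K : Type u) [Field K] (p : ℕ) [Fact p.Prime] [CharP K p]
    (A : Type v) [DivisionRing A] [Algebra K A] [Algebra.IsCentral K A] [FiniteDimensional K A]
    (hA : Module.finrank K A = p ^ 2) (v u : A) (hv : v ^ p ∈ (algebraMap K A).range)
    (hu : u ^ p ∈ (algebraMap K A).range) (hvu : v * u - u * v = 1) :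
    ∃ (L : Type v) (_ : Field L) (_ : Algebra K L), IsGalois K L ∧ Module.finrank K L = p ∧
      Nonempty (L →ₐ[K] A) := by
  classical
  have hp : p.Prime := Fact.out
  have hv0 : v ≠ 0 := by
    intro h
    rw [h, zero_mul, mul_zero, sub_zero] at hvu
    exact zero_ne_one hvu
  have hvu' : v * u = 1 + u * v := by rw [← hvu]; abel
  have hvw : v * (u * v) = (u * v + 1) * v := by
    rw [← mul_assoc, hvu', add_comm]
  have hint : IsIntegral K (u * v) := Algebra.IsIntegral.isIntegral _
  have hirr : Irreducible (minpoly K (u * v)) := minpoly.irreducible hint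
  have hmon : (minpoly K (u * v)).Monic := minpoly.monic hint
  have h1 : Polynomial.aeval (u * v + 1) (minpoly K (u * v)) = 0 := by
    have := conj_aeval v (u * v) (u * v + 1) hvw (minpoly K (u * v))
    rw [minpoly.aeval, mul_zero] at this
    exact (mul_eq_zero.mp this.symm).resolve_right hv0
  have hcomp : (minpoly K (u * v)).comp (Polynomial.X + Polynomial.C 1) = minpoly K (u * v) := by
    have hdvd : minpoly K (u * v) ∣ (minpoly K (u * v)).comp (Polynomial.X + Polynomial.C 1) := by
      apply minpoly.dvd
      rw [Polynomial.aeval_comp, map_add, Polynomial.aeval_X, Polynomial.aeval_C, map_one]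
      exact h1
    exact Polynomial.eq_of_monic_of_dvd_of_natDegree_le hmon (hmon.comp_X_add_C 1) hdvd (by
      rw [Polynomial.natDegree_comp, Polynomial.natDegree_X_add_C, mul_one])
  haveI : Fact (Irreducible (minpoly K (u * v))) := ⟨hirr⟩
  have hple := p_le_deg p (minpoly K (u * v)) hcomp
  -- the embedding
  let ψ : AdjoinRoot (minpoly K (u * v)) →ₐ[K] A :=
    Ideal.Quotient.liftₐ (Ideal.span {minpoly K (u * v)}) (Polynomial.aeval (u * v)) (by
      intro a ha
      obtain ⟨c, rfl⟩ := Ideal.mem_span_singleton.mp ha
      rw [map_mul, minpoly.aeval, zero_mul])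
  have hψinj : Function.Injective ψ := (ψ : AdjoinRoot (minpoly K (u * v)) →+* A).injective
  have hfr : Module.finrank K (AdjoinRoot (minpoly K (u * v))) = (minpoly K (u * v)).natDegree := by
    rw [(AdjoinRoot.powerBasis hirr.ne_zero).finrank, AdjoinRoot.powerBasis_dim]
  -- divisibility
  have hdvd : (minpoly K (u * v)).natDegree ∣ p ^ 2 := by
    letI : Module (AdjoinRoot (minpoly K (u * v))) A :=
      Module.compHom A (ψ : AdjoinRoot (minpoly K (u * v)) →+* A)
    haveI : IsScalarTower K (AdjoinRoot (minpoly K (u * v))) A := by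
      refine ⟨fun k a x => ?_⟩
      change ψ (k • a) * x = k • (ψ a * x)
      rw [map_smul, smul_mul_assoc]
    have := Module.finrank_mul_finrank K (AdjoinRoot (minpoly K (u * v))) A
    rw [hfr, hA] at this
    exact Dvd.intro _ this
  have hne : (minpoly K (u * v)).natDegree ≠ p ^ 2 := by
    intro hd
    have hfin : Module.finrank K (AdjoinRoot (minpoly K (u * v))) = Module.finrank K A := by
      rw [hfr, hd, hA]
    haveI : FiniteDimensional K (AdjoinRoot (minpoly K (u * v))) :=
      Module.finite_of_finrank_pos (by rw [hfr, hd]; exact pow_pos hp.pos 2)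
    have hsurj : Function.Surjective ψ :=
      (LinearMap.injective_iff_surjective_of_finrank_eq_finrank hfin (f := ψ.toLinearMap)).mp hψinj
    obtain ⟨a, ha⟩ := hsurj v
    obtain ⟨b, hb⟩ := hsurj u
    have hc : ψ a * ψ b = ψ b * ψ a := by rw [← map_mul, ← map_mul, mul_comm]
    rw [ha, hb] at hc
    rw [hc, sub_self] at hvu
    exact zero_ne_one hvu
  have hdeg : (minpoly K (u * v)).natDegree = p := by
    obtain ⟨k, hk2, hk⟩ := (Nat.dvd_prime_pow hp).mp hdvd
    interval_cases k
    · rw [hk, pow_zero] at hple
      exact absurd hple (not_le.mpr hp.one_lt)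
    · rw [hk, pow_one]
    · exact absurd hk hne
  haveI := galois_adjoinRoot p (minpoly K (u * v)) hcomp hdeg
  exact transport ψ hψinj p (hfr.trans hdeg)

end Groth.Agent.S15170
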