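import Groth.Statements.S15171
import Mathlib

set_option autoImplicit false
universe u v w
open BddFin

namespace Groth.Agent.S15171

lemma gal_moves {K : Type u} [Field K] (p : ℕ) [Fact p.Prime] (L : Type w) [Field L] [Algebra K L]
    [FiniteDimensional K L] [IsGalois K L] (hL : Module.finrank K L = p) (θ : L)
    (hθ : θ ∉ Set.range (algebraMap K L)) (g : L ≃ₐ[K] L) (hg : g ≠ 1) : g θ ≠ θ := by
  intro hgθ
  apply hθ
  rw [IsGalois.mem_range_algebraMap_iff_fixed]
  intro h
  have hcard : Nat.card (L ≃ₐ[K] L) = p := by rw [IsGalois.card_aut_eq_finrank, hL]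
  have hmem : h ∈ Subgroup.zpowers g := mem_zpowers_of_prime_card hcard hg
  have hle : Subgroup.zpowers g ≤ MulAction.stabilizer (L ≃ₐ[K] L) θ := by
    rw [Subgroup.zpowers_le]
    exact hgθ
  exact hle hmem

lemma sep_mem {K : Type u} [Field K] (p : ℕ) [hp : Fact p.Prime] [CharP K p] {A : Type v} [Ring A]
    [IsDomain A] [Algebra K A] (x : A) (hint : IsIntegral K x) (hsep : IsSeparable K x) :
    ∃ Q : Polynomial K, x = Polynomial.aeval (x ^ p) Q := by
  have hirr : Irreducible (minpoly K x) := minpoly.irreducible hint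
  haveI : Fact (Irreducible (minpoly K x)) := ⟨hirr⟩
  haveI : ExpChar K p := ExpChar.prime hp.out
  have hmin : minpoly K (AdjoinRoot.root (minpoly K x)) = minpoly K x := by
    rw [AdjoinRoot.minpoly_root hirr.ne_zero, (minpoly.monic hint).leadingCoeff, inv_one,
      Polynomial.C_1, mul_one]
  have ha : IsSeparable K (AdjoinRoot.root (minpoly K x)) := by
    unfold IsSeparable
    rw [hmin]
    exact hsep
  have haint : IsIntegral K (AdjoinRoot.root (minpoly K x)) := ha.isIntegral
  have h1 := IntermediateField.adjoin_simple_eq_adjoin_pow_expChar_of_isSeparable K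
    (AdjoinRoot (minpoly K x)) ha p
  have h2 : AdjoinRoot.root (minpoly K x) ∈ IntermediateField.adjoin K {(AdjoinRoot.root (minpoly K x)) ^ p} := by
    rw [← h1]
    exact IntermediateField.mem_adjoin_simple_self K _
  have h3 : AdjoinRoot.root (minpoly K x) ∈
      (IntermediateField.adjoin K {(AdjoinRoot.root (minpoly K x)) ^ p}).toSubalgebra := h2
  rw [IntermediateField.adjoin_simple_toSubalgebra_of_isAlgebraic (haint.pow p).isAlgebraic,
    Algebra.adjoin_singleton_eq_range_aeval] at h3
  obtain ⟨Q, hQ⟩ := h3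
  refine ⟨Q, ?_⟩
  have h4 : Polynomial.aeval (AdjoinRoot.root (minpoly K x))
      (Polynomial.X - Q.comp (Polynomial.X ^ p)) = 0 := by
    rw [map_sub, Polynomial.aeval_X, Polynomial.aeval_comp, map_pow, Polynomial.aeval_X]
    exact sub_eq_zero.mpr hQ.symm
  have h5 : minpoly K x ∣ Polynomial.X - Q.comp (Polynomial.X ^ p) := by
    rw [← hmin]
    exact minpoly.dvd K _ h4
  obtain ⟨r, hr⟩ := h5
  have h6 := congrArg (Polynomial.aeval x) hr
  rw [map_mul, minpoly.aeval, zero_mul, map_sub, Polynomial.aeval_X, Polynomial.aeval_comp,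
    map_pow, Polynomial.aeval_X] at h6
  exact sub_eq_zero.mp h6

lemma aeval_mulRight {K : Type u} [Field K] {A : Type v} [Ring A] [Algebra K A] (a : A)
    (q : Polynomial K) (y : A) :
    (Polynomial.aeval (LinearMap.mulRight K a) q) y = y * Polynomial.aeval a q := by
  induction q using Polynomial.induction_on' with
  | add q₁ q₂ h₁ h₂ => rw [map_add, map_add, LinearMap.add_apply, h₁, h₂, mul_add]
  | monomial n k =>
    rw [Polynomial.aeval_monomial, Polynomial.aeval_monomial]
    have : ∀ n : ℕ, ((LinearMap.mulRight K a) ^ n) y = y * a ^ n := by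
      intro n
      induction n generalizing y with
      | zero => simp
      | succ n ih =>
        rw [pow_succ, Module.End.mul_apply, LinearMap.mulRight_apply, ih, pow_succ', mul_assoc]
    rw [Module.End.mul_apply, this, Module.algebraMap_end_apply, Algebra.smul_def,
      ← mul_assoc, ← mul_assoc, Algebra.commutes k y]

/-- (3) ⇒ (1): let K be a field with char K = p > 0 and A a central division K-algebra with dim_K A = p
^ 2. If some Galois extension L of K with [L : K] = p admits a K-algebra embedding into A, then some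
element of A is not separable over K. -/
theorem result
    (K : Type u) [Field K] (p : ℕ) [Fact p.Prime] [CharP K p]
    (A : Type v) [DivisionRing A] [Algebra K A] [Algebra.IsCentral K A] [FiniteDimensional K A]
    (hA : Module.finrank K A = p ^ 2) (L : Type w) [Field L] [Algebra K L] [IsGalois K L]
    (hL : Module.finrank K L = p) (ι : L →ₐ[K] A) :
    ∃ v : A, ¬ IsSeparable K v := by
  classical
  have hp : p.Prime := Fact.out
  haveI : FiniteDimensional K L := Module.finite_of_finrank_pos (by rw [hL]; exact hp.pos)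
  have hιinj : Function.Injective ι := ι.toRingHom.injective
  -- primitive element
  obtain ⟨θ, hθtop⟩ := Field.exists_primitive_element K L
  have hθ : θ ∉ Set.range (algebraMap K L) := by
    intro hmem
    have h1 : IntermediateField.adjoin K {θ} = ⊥ := by
      rw [IntermediateField.adjoin_simple_eq_bot_iff, IntermediateField.mem_bot]
      exact hmem
    rw [hθtop] at h1
    have h2 := congrArg (fun F : IntermediateField K L => Module.finrank K F) h1
    simp only [IntermediateField.finrank_top', IntermediateField.finrank_bot, hL] at h2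
    exact hp.one_lt.ne' h2
  have hadj : Algebra.adjoin K {θ} = ⊤ := by
    have := IntermediateField.adjoin_simple_toSubalgebra_of_isAlgebraic
      (Algebra.IsAlgebraic.isAlgebraic (R := K) θ)
    rw [hθtop] at this
    rw [← this]
    rfl
  -- a not central
  obtain ⟨x, hx⟩ : ∃ x : A, x * ι θ ≠ ι θ * x := by
    by_contra hcon
    push Not at hcon
    have hc : ι θ ∈ Subalgebra.center K A := by
      rw [Subalgebra.mem_center_iff]
      intro b
      exact hcon b
    rw [Algebra.IsCentral.center_eq_bot, Algebra.mem_bot] at hc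
    obtain ⟨k, hk⟩ := hc
    apply hθ
    refine ⟨k, hιinj ?_⟩
    rw [AlgHom.commutes, hk]
  -- the ring hom Φ
  let F : L →ₐ[K] Module.End K A := (Algebra.lmul K A).comp ι
  let T : Module.End K A := LinearMap.mulRight K (ι θ)
  have hFT : ∀ c : L, Commute ((F : L →+* Module.End K A) c) T := by
    intro c
    ext y
    change ι c * (y * ι θ) = (ι c * y) * ι θ
    rw [mul_assoc]
  let Φ : Polynomial L →+* Module.End K A := Polynomial.eval₂RingHom' (F : L →+* Module.End K A) T hFT
  have hΦX : ∀ (c : L) (y : A), Φ (Polynomial.X - Polynomial.C c) y = y * ι θ - ι c * y := by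
    intro c y
    change (Polynomial.eval₂ (F : L →+* Module.End K A) T (Polynomial.X - Polynomial.C c)) y = _
    rw [Polynomial.eval₂_sub, Polynomial.eval₂_X, Polynomial.eval₂_C]
    rfl
  -- the polynomial P
  have hlift : (∏ g : (L ≃ₐ[K] L), (Polynomial.X - Polynomial.C (g θ))) ∈
      Polynomial.lifts (algebraMap K L) := by
    rw [Polynomial.lifts_iff_coeff_lifts]
    intro n
    rw [IsGalois.mem_range_algebraMap_iff_fixed]
    intro h
    have hmap : (∏ g : (L ≃ₐ[K] L), (Polynomial.X - Polynomial.C (g θ))).map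
        (h : L →+* L) = ∏ g : (L ≃ₐ[K] L), (Polynomial.X - Polynomial.C (g θ)) := by
      rw [Polynomial.map_prod]
      simp only [Polynomial.map_sub, Polynomial.map_X, Polynomial.map_C]
      exact Fintype.prod_equiv (Equiv.mulLeft h) _ _ (fun g => rfl)
    have := congrArg (fun q => Polynomial.coeff q n) hmap
    simp only [Polynomial.coeff_map] at this
    exact this
  obtain ⟨P₀, hP₀m⟩ := hlift
  have hP₀ : P₀.map (algebraMap K L) = ∏ g : (L ≃ₐ[K] L), (Polynomial.X - Polynomial.C (g θ)) :=
    hP₀m
  have hΦP : ∀ y : A, Φ (∏ g : (L ≃ₐ[K] L), (Polynomial.X - Polynomial.C (g θ))) y = 0 := by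
    intro y
    rw [← hP₀]
    change (Polynomial.eval₂ (F : L →+* Module.End K A) T (P₀.map (algebraMap K L))) y = 0
    rw [Polynomial.eval₂_map]
    have hcomp : (F : L →+* Module.End K A).comp (algebraMap K L) =
        algebraMap K (Module.End K A) := F.comp_algebraMap
    rw [hcomp, ← Polynomial.aeval_def, aeval_mulRight]
    have h0 : Polynomial.aeval (ι θ) P₀ = 0 := by
      rw [Polynomial.aeval_algHom_apply]
      have : Polynomial.aeval θ P₀ = 0 := by
        rw [Polynomial.aeval_def, ← Polynomial.eval_map, hP₀, Polynomial.eval_prod]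
        apply Finset.prod_eq_zero (Finset.mem_univ (1 : L ≃ₐ[K] L))
        simp
      rw [this, map_zero]
    rw [h0, mul_zero]
  -- descending
  have key : ∀ (S : Finset (L ≃ₐ[K] L)) (y : A), y ≠ 0 →
      Φ (∏ g ∈ S, (Polynomial.X - Polynomial.C (g θ))) y = 0 →
      ∃ g ∈ S, ∃ u : A, u ≠ 0 ∧ u * ι θ = ι (g θ) * u := by
    classical
    intro S
    induction S using Finset.induction_on with
    | empty =>
      intro y hy h
      rw [Finset.prod_empty, map_one] at h
      exact absurd h hy
    | insert g S hg ih =>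
      intro y hy h
      rw [Finset.prod_insert hg, map_mul, Module.End.mul_apply] at h
      by_cases h0 : Φ (∏ g ∈ S, (Polynomial.X - Polynomial.C (g θ))) y = 0
      · obtain ⟨g', hg', u, hu⟩ := ih y hy h0
        exact ⟨g', Finset.mem_insert_of_mem hg', u, hu⟩
      · refine ⟨g, Finset.mem_insert_self g S, _, h0, ?_⟩
        rw [hΦX] at h
        exact sub_eq_zero.mp h
  have hy0 : x * ι θ - ι θ * x ≠ 0 := sub_ne_zero.mpr hx
  obtain ⟨g, hgS, u, hu0, hu⟩ := key (Finset.univ.erase 1) (x * ι θ - ι θ * x) hy0 (by
    classical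
    have h1 := hΦP x
    rw [← Finset.prod_erase_mul Finset.univ _ (Finset.mem_univ (1 : L ≃ₐ[K] L)), map_mul,
      Module.End.mul_apply, hΦX] at h1
    exact h1)
  have hg1 : g ≠ 1 := (Finset.mem_erase.mp hgS).1
  -- extension to all of L
  have hall : ∀ z : L, u * ι z = ι (g z) * u := by
    intro z
    have hz : z ∈ Algebra.adjoin K {θ} := by rw [hadj]; trivial
    induction hz using Algebra.adjoin_induction with
    | mem z hz =>
      rw [Set.mem_singleton_iff] at hz
      rw [hz]
      exact hu
    | algebraMap k =>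
      rw [AlgEquiv.commutes, AlgHom.commutes]
      exact (Algebra.commutes k u).symm
    | add z₁ z₂ _ _ h₁ h₂ => rw [map_add, map_add, map_add, mul_add, add_mul, h₁, h₂]
    | mul z₁ z₂ _ _ h₁ h₂ =>
      rw [map_mul, map_mul, map_mul, ← mul_assoc, h₁, mul_assoc, h₂, mul_assoc]
  have hpow : ∀ (n : ℕ) (z : L), u ^ n * ι z = ι ((g ^ n) z) * u ^ n := by
    intro n
    induction n with
    | zero => intro z; simp
    | succ n ih =>
      intro z
      rw [pow_succ, mul_assoc, hall, ← mul_assoc, ih, mul_assoc, pow_succ]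
      rfl
  have hgp : g ^ p = 1 := by
    have hcard : Nat.card (L ≃ₐ[K] L) = p := by rw [IsGalois.card_aut_eq_finrank, hL]
    rw [← hcard]
    exact pow_card_eq_one'
  have hup : u ^ p * ι θ = ι θ * u ^ p := by
    have := hpow p θ
    rwa [hgp] at this
  refine ⟨u, fun hsep => ?_⟩
  obtain ⟨Q, hQ⟩ := sep_mem p u (Algebra.IsIntegral.isIntegral u) hsep
  have hcomm_u : u * ι θ = ι θ * u := by
    have hmem : Polynomial.aeval (u ^ p) Q ∈ Subalgebra.centralizer K {ι θ} := by
      have h1 : Algebra.adjoin K {u ^ p} ≤ Subalgebra.centralizer K {ι θ} := by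
        rw [Algebra.adjoin_le_iff]
        intro w hw
        rw [Set.mem_singleton_iff] at hw
        rw [hw]
        intro b hb
        rw [Set.mem_singleton_iff] at hb
        rw [hb]
        exact hup.symm
      exact h1 (Polynomial.aeval_mem_adjoin_singleton K (u ^ p))
    rw [← hQ] at hmem
    exact (hmem (ι θ) (Set.mem_singleton _)).symm
  have h7 : ι (g θ) * u = ι θ * u := by rw [← hu, hcomm_u]
  have h8 : ι (g θ) = ι θ := mul_right_cancel₀ hu0 h7
  exact gal_moves p L hL θ hθ g hg1 (hιinj h8)

end Groth.Agent.S15171
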