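import Groth.Statements.S15172
import Mathlib

set_option autoImplicit false
universe u v
open Polynomial
open BddFin

namespace Groth.Agent.S15172

lemma neg_mem_of {L : Type u} [Field L] (p : ℕ) [hp : Fact p.Prime] [CharP L p] (s : Finset L)
    (hadd : ∀ a ∈ s, ∀ b ∈ s, a + b ∈ s) (a : L) (ha : a ∈ s) : -a ∈ s := by
  have hn : ∀ n : ℕ, (n + 1) • a ∈ s := by
    intro n
    induction n with
    | zero => simpa using ha
    | succ n ih =>
      rw [succ_nsmul]
      exact hadd _ ih _ ha
  have h1 := hn (p - 2)
  have h2 : p - 2 + 1 = p - 1 := by have := hp.out.two_le; omega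
  rw [h2] at h1
  have h3 : (p - 1) • a = -a := by
    have h4 : ((p - 1 : ℕ) : L) = -1 := by
      have h5 : ((p - 1 : ℕ) : L) + 1 = 0 := by
        have : ((p - 1 + 1 : ℕ) : L) = 0 := by
          rw [Nat.sub_add_cancel hp.out.one_le]
          exact CharP.cast_eq_zero L p
        push_cast at this
        exact this
      exact eq_neg_of_add_eq_zero_left h5
    rw [nsmul_eq_mul, h4]
    ring
  rw [h3] at h1
  exact h1

lemma comp_shift {L : Type u} [Field L] (p : ℕ) [Fact p.Prime] [CharP L p] (s : Finset L)
    (hadd : ∀ a ∈ s, ∀ b ∈ s, a + b ∈ s) (a : L) (ha : a ∈ s) :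
    (∏ b ∈ s, (X - C b : L[X])).comp (C a + X) = ∏ b ∈ s, (X - C b : L[X]) := by
  rw [Polynomial.prod_comp]
  simp only [sub_comp, X_comp, C_comp]
  refine Finset.prod_nbij' (fun b => b - a) (fun b => b + a) ?_ ?_ ?_ ?_ ?_
  · intro b hb
    rw [sub_eq_add_neg]
    exact hadd b hb _ (neg_mem_of p s hadd a ha)
  · intro b hb
    exact hadd b hb a ha
  · intro b _
    ring
  · intro b _
    ring
  · intro b _
    rw [C_sub]
    ring

/-- Let L be a field of characteristic p > 0 and s a finite subset of L containing 0 and closed under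
addition (a finite additive subgroup). Then the polynomial f = ∏_{a ∈ s} (X - a) is additive: f (x +
y) = f x + f y for all x, y in any commutative L-algebra (equivalently, as an identity of
polynomials in two variables). -/
theorem result
    (L : Type u) [Field L] (p : ℕ) [Fact p.Prime] [CharP L p] (s : Finset L) (h0 : (0 : L) ∈ s)
    (hadd : ∀ a ∈ s, ∀ b ∈ s, a + b ∈ s) (R : Type v) [CommRing R] [Algebra L R] (x y : R) :
    aeval (x + y) (∏ a ∈ s, (X - C a)) = aeval x (∏ a ∈ s, (X - C a)) + aeval y (∏ a ∈ s, (X - C a)) := by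
  set f : L[X] := ∏ a ∈ s, (X - C a) with hf
  have hfm : f.Monic := monic_prod_of_monic _ _ (fun a _ => monic_X_sub_C a)
  have hfdeg : f.natDegree = s.card := by
    rw [hf, natDegree_prod_of_monic _ _ (fun a _ => monic_X_sub_C a)]
    simp
  have hs1 : 1 ≤ s.card := Finset.card_pos.mpr ⟨0, h0⟩
  -- bivariate
  let F : L[X][X] := f.map (C : L →+* L[X])
  let T : L[X][X] := X + C (X : L[X])
  have hFm : F.Monic := hfm.map _
  have hFdeg : F.natDegree = s.card := by rw [← hfdeg]; exact hfm.natDegree_map _
  have hHm : (F.comp T).Monic := hFm.comp_X_add_C _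
  have hHdeg : (F.comp T).natDegree = s.card := by
    rw [natDegree_comp, hFdeg, natDegree_X_add_C, mul_one]
  have hG : F.comp T - F - C f = 0 := by
    by_contra hne
    apply hne
    have hdeg : (F.comp T - F - C f).natDegree < Fintype.card s := by
      rw [Fintype.card_coe]
      rw [natDegree_lt_iff_degree_lt hne]
      have h1 : (F.comp T - F).degree < (s.card : WithBot ℕ) := by
        have hd : (F.comp T).degree = F.degree := by
          rw [degree_eq_natDegree hHm.ne_zero, degree_eq_natDegree hFm.ne_zero, hHdeg, hFdeg]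
        have := degree_sub_lt_left hd hHm.ne_zero (by rw [hHm.leadingCoeff, hFm.leadingCoeff])
        rwa [degree_eq_natDegree hHm.ne_zero, hHdeg] at this
      have h2 : (C f : L[X][X]).degree < (s.card : WithBot ℕ) :=
        lt_of_le_of_lt degree_C_le (by exact_mod_cast hs1)
      exact lt_of_le_of_lt (degree_sub_le _ _) (max_lt h1 h2)
    refine eq_zero_of_natDegree_lt_card_of_eval_eq_zero (F.comp T - F - C f)
      (f := fun a : s => (C (a : L) : L[X])) ?_ ?_ hdeg
    · intro a b hab
      exact Subtype.ext (C_injective hab)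
    · intro a
      rw [eval_sub, eval_sub, eval_C, eval_comp]
      have e1 : eval (C (a : L)) T = C (a : L) + X := by
        simp only [T, eval_add, eval_X, eval_C]
      have e2 : eval (C (a : L)) F = 0 := by
        simp only [F]
        rw [eval_map, eval₂_at_apply]
        have : eval (a : L) f = 0 := by
          rw [hf, eval_prod]
          apply Finset.prod_eq_zero a.2
          simp
        rw [this, map_zero]
      have e3 : eval (C (a : L) + X) F = f := by
        simp only [F]
        rw [eval_map]
        exact comp_shift p s hadd a a.2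
      rw [e1, e2, e3]
      ring
  have h := congrArg (eval₂ ((aeval x : L[X] →ₐ[L] R) : L[X] →+* R) y) hG
  rw [eval₂_sub, eval₂_sub, eval₂_C, eval₂_comp, eval₂_zero] at h
  have e4 : eval₂ ((aeval x : L[X] →ₐ[L] R) : L[X] →+* R) y T = y + x := by
    simp only [T, eval₂_add, eval₂_X, eval₂_C]
    simp
  have e5 : ∀ z : R, eval₂ ((aeval x : L[X] →ₐ[L] R) : L[X] →+* R) z F = aeval z f := by
    intro z
    simp only [F]
    rw [eval₂_map, aeval_def]
    congr 1
    ext c
    simp
  rw [e4, e5, e5] at h
  have h' : aeval (y + x) f = aeval y f + aeval x f := by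
    have := sub_eq_zero.mp h
    rw [sub_eq_iff_eq_add] at this
    rw [this]
    exact add_comm _ _
  rw [add_comm x y, h', add_comm]

end Groth.Agent.S15172
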