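import Groth.Statements.S15183
import Mathlib

set_option autoImplicit false
universe u v
open Polynomial
open BddFin

namespace Groth.Agent.S15183

lemma exists_prim {K : Type u} [Field K]
    (hK : ∀ n : ℕ, 0 < n → (Polynomial.X ^ n - 1 : Polynomial K).Splits) (d : ℕ) (hd : 0 < d)
    (hdK : (d : K) ≠ 0) : ∃ ζ : K, IsPrimitiveRoot ζ d := by
  haveI : NeZero (d : K) := ⟨hdK⟩
  have hdvd : Polynomial.cyclotomic d K ∣ Polynomial.X ^ d - 1 :=
    Polynomial.cyclotomic.dvd_X_pow_sub_one d K
  have hs : (Polynomial.cyclotomic d K).Splits :=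
    Polynomial.Splits.of_dvd (hK d hd) (Polynomial.X_pow_sub_C_ne_zero hd 1) hdvd
  obtain ⟨ζ, hζ⟩ := hs.exists_eval_eq_zero (Polynomial.degree_cyclotomic_pos d K hd).ne'
  exact ⟨ζ, Polynomial.isRoot_cyclotomic_iff.mp hζ⟩

lemma exists_nontriv_idem {A : Type v} [Ring A] [IsSimpleRing A] [IsArtinianRing A]
    (hA : ∃ y : A, y ≠ 0 ∧ ¬ IsUnit y) : ∃ e : A, e * e = e ∧ e ≠ 0 ∧ e ≠ 1 := by
  classical
  obtain ⟨n, hn, D, _, ⟨σ⟩⟩ := IsSimpleRing.exists_ringEquiv_matrix_divisionRing A
  have hn0 : n ≠ 0 := NeZero.ne n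
  by_cases hn1 : n = 1
  · subst hn1
    exfalso
    obtain ⟨y, hy0, hyu⟩ := hA
    apply hyu
    let τ : A ≃+* D := σ.trans Matrix.uniqueRingEquiv
    have h1 : τ y ≠ 0 := by
      intro h
      apply hy0
      exact τ.injective (h.trans (map_zero τ).symm)
    have h2 : IsUnit (τ y) := IsUnit.mk0 _ h1
    exact (MulEquiv.isUnit_map (τ : A ≃* D)).mp h2
  · have h2 : 1 < n := by omega
    obtain ⟨k, rfl⟩ : ∃ k, n = k + 2 := ⟨n - 2, by omega⟩
    refine ⟨σ.symm (Matrix.single (0 : Fin (k + 2)) 0 1), ?_, ?_, ?_⟩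
    · rw [← map_mul, Matrix.single_mul_single_same, mul_one]
    · intro h
      have h3 : Matrix.single (0 : Fin (k + 2)) (0 : Fin (k + 2)) (1 : D) = 0 := by
        have := congrArg σ h
        rwa [RingEquiv.apply_symm_apply, map_zero] at this
      have h4 := congrFun (congrFun h3 0) 0
      rw [Matrix.single_apply_same] at h4
      exact one_ne_zero h4
    · intro h
      have h3 : Matrix.single (0 : Fin (k + 2)) (0 : Fin (k + 2)) (1 : D) = 1 := by
        have := congrArg σ h
        rwa [RingEquiv.apply_symm_apply, map_one] at this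
      have h4 := congrFun (congrFun h3 1) 1
      rw [Matrix.single_apply_of_ne, Matrix.one_apply_eq] at h4
      · exact zero_ne_one h4
      · intro h5
        exact absurd h5.1 (by simp)

/-- Let K be a field such that K contains all roots of unity (for every n ≥ 1 the polynomial X^n − 1
splits into linear factors over K), and A a finite-dimensional central simple K-algebra which is not
a division algebra (some non-zero element is not a unit). Then the quotient of the unit group of A
by that of K has elements of every finite order invertible in K: for every d ≥ 1 with d ≠ 0 in K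
there is a unit x of A with x ^ d in K and x ^ k not in K for 0 < k < d. (The published assertion is
phrased for the automorphism group of the Severi–Brauer variety of A, which is isomorphic to the
units of A modulo those of K; this row is the algebra-side statement its proof establishes.) -/
theorem result
    (K : Type u) [Field K] (hK : ∀ n : ℕ, 0 < n → (X ^ n - 1 : K[X]).Splits)
    (A : Type v) [Ring A] [Algebra K A] [Algebra.IsCentral K A] [IsSimpleRing A] [FiniteDimensional K A]
    (hA : ∃ y : A, y ≠ 0 ∧ ¬ IsUnit y) (d : ℕ) (hd : 0 < d) (hdK : (d : K) ≠ 0) :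
    ∃ x : A, IsUnit x ∧ x ^ d ∈ (algebraMap K A).range ∧
      ∀ k : ℕ, 0 < k → k < d → x ^ k ∉ (algebraMap K A).range := by
  classical
  obtain ⟨ζ, hζ⟩ := exists_prim hK d hd hdK
  haveI : IsArtinianRing A := IsArtinianRing.of_finite K A
  obtain ⟨e, hee, he0, he1⟩ := exists_nontriv_idem hA
  have h10 : (1 - e) * e = 0 := by rw [sub_mul, one_mul, hee, sub_self]
  have h01 : e * (1 - e) = 0 := by rw [mul_sub, mul_one, hee, sub_self]
  have h11 : (1 - e) * (1 - e) = 1 - e := by rw [mul_sub, mul_one, h10, sub_zero]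
  have hne1 : (1 - e) ≠ 0 := fun h => he1 (sub_eq_zero.mp h).symm
  have hpow : ∀ k : ℕ, (ζ • e + (1 - e)) ^ k = ζ ^ k • e + (1 - e) := by
    intro k
    induction k with
    | zero => simp
    | succ k ih =>
      rw [pow_succ, ih, add_mul, mul_add, mul_add, smul_mul_smul_comm, hee, smul_mul_assoc, h01,
        smul_zero, add_zero, mul_smul_comm, h10, smul_zero, zero_add, h11, ← pow_succ]
  have hd1 : (ζ • e + (1 - e)) ^ d = 1 := by
    rw [hpow, hζ.pow_eq_one, one_smul]
    abel
  refine ⟨ζ • e + (1 - e), IsUnit.of_pow_eq_one hd1 hd.ne', ⟨1, by rw [map_one, hd1]⟩, ?_⟩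
  intro k hk0 hkd hmem
  obtain ⟨c, hc⟩ := hmem
  rw [hpow] at hc
  have hc1 : c = 1 := by
    have h := congrArg (fun z => z * (1 - e)) hc
    simp only [add_mul, smul_mul_assoc, h01, smul_zero, zero_add, h11] at h
    rw [Algebra.algebraMap_eq_smul_one, smul_mul_assoc, one_mul] at h
    have h2 : (c - 1) • (1 - e) = 0 := by rw [sub_smul, one_smul, h, sub_self]
    rcases smul_eq_zero.mp h2 with h3 | h3
    · exact sub_eq_zero.mp h3
    · exact absurd h3 hne1
  have hζk : ζ ^ k = 1 := by
    have h := congrArg (fun z => z * e) hc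
    simp only [add_mul, smul_mul_assoc, h10, hee, add_zero] at h
    rw [Algebra.algebraMap_eq_smul_one, smul_mul_assoc, one_mul, hc1, one_smul] at h
    have h2 : (ζ ^ k - 1) • e = 0 := by rw [sub_smul, one_smul, ← h, sub_self]
    rcases smul_eq_zero.mp h2 with h3 | h3
    · exact sub_eq_zero.mp h3
    · exact absurd h3 he0
  exact hζ.pow_ne_one_of_pos_of_lt hk0.ne' hkd hζk

end Groth.Agent.S15183
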