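import Groth.Statements.S15173
import Groth.Agent.S15169
import Groth.Agent.S15183
import Mathlib

set_option autoImplicit false
universe u v
open Polynomial
open BddFin

namespace Groth.Agent.S15173

lemma large_subgroup (G : Type u) [CommGroup G] (Z : Subgroup G) (htors : IsMulTorsion (G ⧸ Z))
    (N : ℕ) (f : ℕ → G)
    (hf : Set.InjOn (fun i : ℕ => (QuotientGroup.mk (f i) : G ⧸ Z)) (Finset.range (N + 1) : Set ℕ)) :
    ∃ H : Subgroup G, Z ≤ H ∧ N < Z.relIndex H := by
  classical
  set S : Finset (G ⧸ Z) := (Finset.range (N + 1)).image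
    (fun i : ℕ => (QuotientGroup.mk (f i) : G ⧸ Z)) with hS
  have hScard : S.card = N + 1 := by
    rw [hS, Finset.card_image_of_injOn hf, Finset.card_range]
  set T : Subgroup (G ⧸ Z) := Subgroup.closure (S : Set (G ⧸ Z)) with hT
  haveI : Group.FG T := (Group.fg_iff_subgroup_fg T).mpr ⟨S, rfl⟩
  haveI hfin : Finite T := CommGroup.finite_of_fg_isMulTorsion T (htors.subgroup T)
  have hTcard : N < Nat.card T := by
    have h1 : (S : Set (G ⧸ Z)) ⊆ (T : Set (G ⧸ Z)) := Subgroup.subset_closure
    have h2 := Set.ncard_le_ncard h1 (Set.toFinite _)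
    rw [Set.ncard_coe_finset, hScard] at h2
    have h3 : Nat.card T = (T : Set (G ⧸ Z)).ncard := rfl
    omega
  refine ⟨T.comap (QuotientGroup.mk' Z), ?_, ?_⟩
  · intro z hz
    rw [Subgroup.mem_comap]
    have h1 : (QuotientGroup.mk' Z) z = 1 := (QuotientGroup.eq_one_iff z).mpr hz
    rw [h1]
    exact one_mem T
  · have hker : (QuotientGroup.mk' Z).ker = Z := QuotientGroup.ker_mk' Z
    have h1 : Z.relIndex (T.comap (QuotientGroup.mk' Z)) = Nat.card T := by
      have h2 := Subgroup.relIndex_ker (QuotientGroup.mk' Z) (K := T.comap (QuotientGroup.mk' Z))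
      rw [hker, Subgroup.map_comap_eq_self_of_surjective (QuotientGroup.mk'_surjective Z)] at h2
      exact h2
    rw [h1]
    exact hTcard

/-- Let K be a field of characteristic p > 0 such that K contains all roots of unity (for every n ≥ 1
the polynomial X^n − 1 splits into linear factors over K), and A a finite-dimensional central
division algebra over K. If A contains an element w not in K with w ^ p in K, then the quotient of
the unit group of A by that of K has unbounded finite subgroups: for every N there is a subgroup H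
of the units of A containing the units of K as a subgroup of finite index greater than N. (The
published statement assumes only that some element of A is inseparable over K and passes at once to
a purely inseparable subfield of degree p; this row assumes an element generating such a subfield
directly, which is what the rest of the printed argument uses.) -/
theorem result
    (K : Type u) [Field K] (p : ℕ) [Fact p.Prime] [CharP K p] (hK : ∀ n : ℕ, 0 < n → (X ^ n - 1 : K[X]).Splits)
    (A : Type v) [DivisionRing A] [Algebra K A] [Algebra.IsCentral K A] [FiniteDimensional K A]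
    (w : A) (hw : w ^ p ∈ (algebraMap K A).range) (hwK : w ∉ (algebraMap K A).range) (N : ℕ) :
    ∃ H : Subgroup Aˣ, (Units.map (algebraMap K A : K →* A)).range ≤ H ∧
      N < ((Units.map (algebraMap K A : K →* A)).range).relIndex H := by
  classical
  have hpp : p.Prime := Fact.out
  have hint : IsIntegral K w := Algebra.IsIntegral.isIntegral w
  haveI : Fact (Irreducible (minpoly K w)) := ⟨minpoly.irreducible hint⟩
  obtain ⟨ψ, hψ, hψq⟩ := Groth.Agent.S15169.psi_exists (minpoly K w) w (minpoly.aeval K w)
  have hψρ : ψ (AdjoinRoot.root (minpoly K w)) = w := by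
    rw [← AdjoinRoot.mk_X, hψq, Polynomial.aeval_X]
  have hρK : AdjoinRoot.root (minpoly K w) ∉ (algebraMap K (AdjoinRoot (minpoly K w))).range := by
    rintro ⟨k, hk⟩
    apply hwK
    refine ⟨k, ?_⟩
    have h := congrArg ψ hk
    rw [AlgHom.commutes, hψρ] at h
    exact h
  obtain ⟨a, ha⟩ := hw
  have hρp : (AdjoinRoot.root (minpoly K w)) ^ p = algebraMap K (AdjoinRoot (minpoly K w)) a := by
    apply hψ
    rw [map_pow, hψρ, AlgHom.commutes, ha]
  haveI : CharP (AdjoinRoot (minpoly K w)) p :=
    charP_of_injective_algebraMap (algebraMap K (AdjoinRoot (minpoly K w))).injective p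
  have hpow : ∀ y : AdjoinRoot (minpoly K w),
      y ^ p ∈ (algebraMap K (AdjoinRoot (minpoly K w))).range := by
    intro y
    have hy : y ∈ Algebra.adjoin K {AdjoinRoot.root (minpoly K w)} := by
      rw [AdjoinRoot.adjoinRoot_eq_top]; trivial
    induction hy using Algebra.adjoin_induction with
    | mem z hz =>
      rw [Set.mem_singleton_iff] at hz
      rw [hz, hρp]
      exact ⟨a, rfl⟩
    | algebraMap k => exact ⟨k ^ p, by rw [map_pow]⟩
    | add y z _ _ hy hz =>
      rw [add_pow_char]
      exact Subring.add_mem _ hy hz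
    | mul y z _ _ hy hz =>
      rw [mul_pow]
      exact Subring.mul_mem _ hy hz
  have htors : IsMulTorsion ((AdjoinRoot (minpoly K w))ˣ ⧸
      (Units.map (algebraMap K (AdjoinRoot (minpoly K w)) : K →* AdjoinRoot (minpoly K w))).range) := by
    intro g
    obtain ⟨y, rfl⟩ := QuotientGroup.mk_surjective g
    rw [isOfFinOrder_iff_pow_eq_one]
    refine ⟨p, hpp.pos, ?_⟩
    rw [← QuotientGroup.mk_pow, QuotientGroup.eq_one_iff]
    obtain ⟨k, hk⟩ := hpow (y : AdjoinRoot (minpoly K w))
    have hk0 : k ≠ 0 := by
      rintro rfl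
      rw [map_zero] at hk
      exact (pow_ne_zero p y.ne_zero) hk.symm
    refine ⟨Units.mk0 k hk0, Units.ext ?_⟩
    rw [Units.val_pow_eq_pow_val, ← hk]
    rfl
  -- primitive root of large order
  obtain ⟨ζ, hζ⟩ := Groth.Agent.S15183.exists_prim hK (p * (N + 1) + 1) (by positivity) (by
    push_cast
    rw [CharP.cast_eq_zero K p, zero_mul, zero_add]
    exact one_ne_zero)
  have hu0 : ∀ c : K, 1 + algebraMap K (AdjoinRoot (minpoly K w)) c *
      AdjoinRoot.root (minpoly K w) ≠ 0 := by
    intro c h
    by_cases hc : c = 0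
    · rw [hc, map_zero, zero_mul, add_zero] at h
      exact one_ne_zero h
    · apply hρK
      refine ⟨-c⁻¹, ?_⟩
      have hc' : algebraMap K (AdjoinRoot (minpoly K w)) c ≠ 0 := by
        rw [Ne, map_eq_zero]; exact hc
      have h2 : algebraMap K (AdjoinRoot (minpoly K w)) c * AdjoinRoot.root (minpoly K w) = -1 :=
        (eq_neg_of_add_eq_zero_right h)
      rw [map_neg, map_inv₀]
      field_simp
      exact h2.symm
  have hinj : ∀ c c' : K,
      (QuotientGroup.mk (Units.mk0 _ (hu0 c)) : (AdjoinRoot (minpoly K w))ˣ ⧸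
      (Units.map (algebraMap K (AdjoinRoot (minpoly K w)) : K →* AdjoinRoot (minpoly K w))).range)
        = QuotientGroup.mk (Units.mk0 _ (hu0 c')) → c = c' := by
    intro c c' h
    rw [QuotientGroup.eq] at h
    obtain ⟨k, hk⟩ := h
    have h1 : (1 + algebraMap K (AdjoinRoot (minpoly K w)) c' * AdjoinRoot.root (minpoly K w)) =
        (1 + algebraMap K (AdjoinRoot (minpoly K w)) c * AdjoinRoot.root (minpoly K w)) *
          algebraMap K (AdjoinRoot (minpoly K w)) (k : K) := by
      have h2 : Units.mk0 _ (hu0 c') = Units.mk0 _ (hu0 c) *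
          Units.map (algebraMap K (AdjoinRoot (minpoly K w)) : K →* AdjoinRoot (minpoly K w)) k := by
        rw [hk, mul_inv_cancel_left]
      exact congrArg Units.val h2
    have h3 : algebraMap K (AdjoinRoot (minpoly K w)) (c' - c * (k : K)) *
        AdjoinRoot.root (minpoly K w) = algebraMap K (AdjoinRoot (minpoly K w)) ((k : K) - 1) := by
      rw [map_sub, map_sub, map_mul, map_one]
      linear_combination h1
    by_cases h4 : c' - c * (k : K) = 0
    · rw [h4, map_zero, zero_mul] at h3
      have h5 : (k : K) - 1 = 0 :=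
        (algebraMap K (AdjoinRoot (minpoly K w))).injective (h3.symm.trans (map_zero _).symm)
      rw [sub_eq_zero] at h5
      rw [h5, mul_one, sub_eq_zero] at h4
      exact h4.symm
    · exfalso
      apply hρK
      refine ⟨(c' - c * (k : K))⁻¹ * ((k : K) - 1), ?_⟩
      have h4' : algebraMap K (AdjoinRoot (minpoly K w)) (c' - c * (k : K)) ≠ 0 := by
        rw [Ne, map_eq_zero]; exact h4
      rw [map_mul, map_inv₀, ← h3, inv_mul_cancel_left₀ h4']
  -- the finite set of classes
  have hSinj : Set.InjOn (fun i : ℕ =>
      (QuotientGroup.mk (Units.mk0 _ (hu0 (ζ ^ i))) : (AdjoinRoot (minpoly K w))ˣ ⧸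
      (Units.map (algebraMap K (AdjoinRoot (minpoly K w)) : K →* AdjoinRoot (minpoly K w))).range))
      (Finset.range (N + 1) : Set ℕ) := by
    intro i hi j hj hij
    have hi' : i < N + 1 := Finset.mem_range.mp hi
    have hj' : j < N + 1 := Finset.mem_range.mp hj
    have h1 := hinj _ _ hij
    have hpN : N + 1 ≤ p * (N + 1) + 1 := by
      have := hpp.one_le
      nlinarith
    exact hζ.pow_inj (by omega) (by omega) h1
  obtain ⟨HE, hZle, hrel⟩ := large_subgroup (AdjoinRoot (minpoly K w))ˣ
    (Units.map (algebraMap K (AdjoinRoot (minpoly K w)) : K →* AdjoinRoot (minpoly K w))).range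
    htors N (fun i => Units.mk0 _ (hu0 (ζ ^ i))) hSinj
  -- transport to A
  have hΨ : Function.Injective (Units.map (ψ : AdjoinRoot (minpoly K w) →* A)) :=
    Units.map_injective hψ
  have hZ : (Units.map (algebraMap K A : K →* A)).range =
      ((Units.map (algebraMap K (AdjoinRoot (minpoly K w)) :
        K →* AdjoinRoot (minpoly K w))).range).map
        (Units.map (ψ : AdjoinRoot (minpoly K w) →* A)) := by
    rw [MonoidHom.map_range, ← Units.map_comp]
    congr 2
    ext k
    simp only [MonoidHom.coe_comp, MonoidHom.coe_coe, Function.comp_apply]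
    exact (ψ.commutes k).symm
  refine ⟨HE.map (Units.map (ψ : AdjoinRoot (minpoly K w) →* A)), ?_, ?_⟩
  · rw [hZ]
    exact Subgroup.map_mono hZle
  · rw [hZ, Subgroup.relIndex_map_map_of_injective _ _ hΨ]
    exact hrel

end Groth.Agent.S15173
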