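import Groth.Statements.S15184
import Groth.Agent.S15171
import Groth.Agent.S15169
import Mathlib

set_option autoImplicit false
universe u v
open BddFin

namespace Groth.Agent.S15184

section general
variable {K : Type u} [Field K] (p : ℕ) [hpp : Fact p.Prime] [CharP K p]
  {A : Type v} [DivisionRing A] [Algebra K A] [Algebra.IsCentral K A] [FiniteDimensional K A]

omit [CharP K p] in
lemma nc_deg (hA : Module.finrank K A = p ^ 2) (a : A) (ha : a ∉ Set.range (algebraMap K A)) :
    (minpoly K a).natDegree = p := by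
  have hp : p.Prime := hpp.out
  have hint : IsIntegral K a := Algebra.IsIntegral.isIntegral a
  haveI : Fact (Irreducible (minpoly K a)) := ⟨minpoly.irreducible hint⟩
  have hdvd : (minpoly K a).natDegree ∣ p ^ 2 := by
    rw [← hA]
    exact Groth.Agent.S15169.deg_dvd _ a (minpoly.aeval K a)
  obtain ⟨k, hk2, hk⟩ := (Nat.dvd_prime_pow hp).mp hdvd
  interval_cases k
  · exfalso
    rw [pow_zero] at hk
    rw [minpoly.natDegree_eq_one_iff] at hk
    exact ha hk
  · rw [hk, pow_one]
  · exfalso
    have hcomm := Groth.Agent.S15169.comm_of_deg_eq (minpoly K a) a (minpoly.aeval K a)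
      (by rw [hk, hA])
    have hc : a ∈ Subalgebra.center K A := by
      rw [Subalgebra.mem_center_iff]
      intro b
      exact hcomm b a
    rw [Algebra.IsCentral.center_eq_bot, Algebra.mem_bot] at hc
    exact ha hc

omit [CharP K p] [Algebra.IsCentral K A] in
lemma subalg_dim (hA : Module.finrank K A = p ^ 2) (m : Polynomial K) [Fact (Irreducible m)]
    (hdeg : m.natDegree = p) (a : A) (ψ : AdjoinRoot m →ₐ[K] A) (hψ : Function.Injective ψ)
    (hψq : ∀ q : Polynomial K, ψ (AdjoinRoot.mk m q) = Polynomial.aeval a q)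
    (B : Subalgebra K A) (haB : a ∈ B) (hB : B ≠ ⊤) (b : A) (hb : b ∈ B) :
    ∃ e : AdjoinRoot m, ψ e = b := by
  have hp : p.Prime := hpp.out
  have hψB : ∀ e, ψ e ∈ B := by
    intro e
    obtain ⟨q, rfl⟩ := AdjoinRoot.mk_surjective e
    rw [hψq]
    exact (Algebra.adjoin_le (Set.singleton_subset_iff.mpr haB) :
      Algebra.adjoin K {a} ≤ B) (Polynomial.aeval_mem_adjoin_singleton K a)
  let ψ' : AdjoinRoot m →ₗ[K] B :=
    ψ.toLinearMap.codRestrict (Subalgebra.toSubmodule B) hψB
  have hψ'inj : Function.Injective ψ' := by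
    intro x y hxy
    apply hψ
    exact congrArg Subtype.val hxy
  haveI : FiniteDimensional K (AdjoinRoot m) :=
    Module.finite_of_finrank_pos (by
      rw [Groth.Agent.S15169.finrank_adjoinRoot, hdeg]; exact hp.pos)
  have hle : p ≤ Module.finrank K B := by
    have := LinearMap.finrank_le_finrank_of_injective hψ'inj
    rwa [Groth.Agent.S15169.finrank_adjoinRoot, hdeg] at this
  have hdvd : Module.finrank K B ∣ p ^ 2 := by
    letI : DivisionRing B := divisionRingOfFiniteDimensional K B
    have := Module.finrank_mul_finrank K B A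
    rw [hA] at this
    exact Dvd.intro _ this
  have hne2 : Module.finrank K B ≠ p ^ 2 := by
    intro hfin
    apply hB
    rw [← Algebra.toSubmodule_eq_top]
    apply Submodule.eq_top_of_finrank_eq
    exact hfin.trans hA.symm
  have hfin : Module.finrank K B = p := by
    obtain ⟨k, hk2, hk⟩ := (Nat.dvd_prime_pow hp).mp hdvd
    interval_cases k
    · rw [hk, pow_zero] at hle
      exact absurd hle (not_le.mpr hp.one_lt)
    · rw [pow_one] at hk
      exact hk
    · exact absurd hk hne2
  have hfin' : Module.finrank K (AdjoinRoot m) = Module.finrank K B := by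
    rw [Groth.Agent.S15169.finrank_adjoinRoot, hdeg, hfin]
  have hsurj : Function.Surjective ψ' :=
    (LinearMap.injective_iff_surjective_of_finrank_eq_finrank hfin').mp hψ'inj
  obtain ⟨e, he⟩ := hsurj ⟨b, hb⟩
  exact ⟨e, congrArg Subtype.val he⟩

lemma final (hA : Module.finrank K A = p ^ 2) (m : Polynomial K) [hm : Fact (Irreducible m)]
    (hdeg : m.natDegree = p) (hsep : m.Separable)
    (hsplit : (m.map (algebraMap K (AdjoinRoot m))).Splits)
    (ψ : AdjoinRoot m →ₐ[K] A) : ∃ v : A, ¬ IsSeparable K v := by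
  haveI : m.IsSplittingField K (AdjoinRoot m) := by
    refine ⟨hsplit, ?_⟩
    rw [eq_top_iff, ← AdjoinRoot.adjoinRoot_eq_top (f := m)]
    apply Algebra.adjoin_mono
    rw [Set.singleton_subset_iff, Polynomial.mem_rootSet]
    exact ⟨hm.out.ne_zero, AdjoinRoot.aeval_eq m ▸ AdjoinRoot.mk_self⟩
  haveI : IsGalois K (AdjoinRoot m) := IsGalois.of_separable_splitting_field hsep
  exact Groth.Agent.S15171.result K p A hA (AdjoinRoot m)
    (by rw [Groth.Agent.S15169.finrank_adjoinRoot, hdeg]) ψ

end general

section core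
variable {K : Type u} [Field K] {A : Type v} [DivisionRing A] [Algebra K A]

lemma cube_central [CharP A 3] (a : A)
    (h : ∀ y : A, (y * a - a * y) * a = a * (y * a - a * y)) (y : A) :
    y * (a * a * a) = (a * a * a) * y := by
  have h1 : y * (a * a * a) - (a * a * a) * y =
      (y * a - a * y) * a * a + a * ((y * a - a * y) * a) + a * a * (y * a - a * y) := by
    noncomm_ring
  have h2 : (y * a - a * y) * a * a = a * a * (y * a - a * y) := by
    rw [h y, mul_assoc, h y, ← mul_assoc]
  have h5 : y * (a * a * a) - (a * a * a) * y = (3 : ℕ) • (a * a * (y * a - a * y)) := by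
    rw [h1, h2, h y, ← mul_assoc]
    abel
  rw [nsmul_eq_mul, CharP.cast_eq_zero A 3, zero_mul] at h5
  exact sub_eq_zero.mp h5

lemma core (c₀ c₁ c₂ : K) (a d : A)
    (hm : a * a * a + c₂ • (a * a) + c₁ • a + c₀ • (1 : A) = 0)
    (hδ : (d * a - a * d) * a ≠ a * (d * a - a * d)) :
    ∃ a₂ : A, a₂ ≠ a ∧ a₂ * a₂ * a₂ + c₂ • (a₂ * a₂) + c₁ • a₂ + c₀ • (1 : A) = 0 ∧
      ((a * a₂ - a₂ * a) * a = a₂ * (a * a₂ - a₂ * a)) ∧
      ((a * a₂ - a₂ * a) * (a * a₂ - a₂ * a) * (a * a₂ - a₂ * a) * a =
        a * ((a * a₂ - a₂ * a) * (a * a₂ - a₂ * a) * (a * a₂ - a₂ * a))) ∧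
      ((a * a₂ - a₂ * a) * (a * a₂ - a₂ * a) * (a * a₂ - a₂ * a) * a₂ =
        a₂ * ((a * a₂ - a₂ * a) * (a * a₂ - a₂ * a) * (a * a₂ - a₂ * a))) := by
  set δ := d * a - a * d with hδdef
  have hδ0 : δ ≠ 0 := by
    intro h0
    apply hδ
    rw [h0, zero_mul, mul_zero]
  set a₂ := δ * a * δ⁻¹ with ha₂
  have e1 : a₂ * δ = δ * a := inv_mul_cancel_right₀ hδ0 (δ * a)
  have e1' : ∀ x, a₂ * (δ * x) = δ * (a * x) := by
    intro x
    rw [← mul_assoc, e1, mul_assoc]
  clear_value a₂
  have hne : a₂ ≠ a := by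
    intro h
    apply hδ
    rw [← e1, h]
  -- the relation R
  have hR : a * a + a * a₂ + a₂ * a₂ + c₂ • (a + a₂) + c₁ • (1 : A) = 0 := by
    have h1 : (a * a + a * a₂ + a₂ * a₂ + c₂ • (a + a₂) + c₁ • (1 : A)) * δ =
        d * (a * a * a + c₂ • (a * a) + c₁ • a + c₀ • (1 : A)) -
          (a * a * a + c₂ • (a * a) + c₁ • a + c₀ • (1 : A)) * d := by
      have h2 : (a * a + a * a₂ + a₂ * a₂ + c₂ • (a + a₂) + c₁ • (1 : A)) * δ =
          a * (a * δ) + a * (δ * a) + δ * (a * a) + c₂ • (a * δ + δ * a) + c₁ • δ := by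
        simp only [add_mul, smul_mul_assoc, one_mul, mul_assoc, e1, e1']
      rw [h2, hδdef]
      simp only [mul_add, add_mul, mul_sub, sub_mul, smul_add, smul_sub, mul_smul_comm,
        smul_mul_assoc, mul_one, one_mul, mul_assoc]
      abel
    rw [hm, mul_zero, zero_mul, sub_zero] at h1
    exact (mul_eq_zero.mp h1).resolve_right hδ0
  have hm₂ : a₂ * a₂ * a₂ + c₂ • (a₂ * a₂) + c₁ • a₂ + c₀ • (1 : A) = 0 := by
    have h1 : (a₂ * a₂ * a₂ + c₂ • (a₂ * a₂) + c₁ • a₂ + c₀ • (1 : A)) * δ =
        δ * (a * a * a + c₂ • (a * a) + c₁ • a + c₀ • (1 : A)) := by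
      simp only [add_mul, mul_add, smul_mul_assoc, mul_smul_comm, one_mul, mul_one, mul_assoc,
        e1, e1']
    rw [hm, mul_zero] at h1
    exact (mul_eq_zero.mp h1).resolve_right hδ0
  set θ := a * a₂ - a₂ * a with hθ
  have t1 : θ * a = a₂ * θ := by
    have h1 : θ * a - a₂ * θ =
        (a * a + a * a₂ + a₂ * a₂ + c₂ • (a + a₂) + c₁ • (1 : A)) * a
        - a₂ * (a * a + a * a₂ + a₂ * a₂ + c₂ • (a + a₂) + c₁ • (1 : A))
        - (a * a * a + c₂ • (a * a) + c₁ • a + c₀ • (1 : A))
        + (a₂ * a₂ * a₂ + c₂ • (a₂ * a₂) + c₁ • a₂ + c₀ • (1 : A)) := by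
      rw [hθ]
      simp only [mul_add, add_mul, mul_sub, sub_mul, smul_add, smul_sub, mul_smul_comm,
        smul_mul_assoc, mul_one, one_mul, mul_assoc]
      abel
    rw [hR, hm, hm₂, zero_mul, mul_zero, sub_zero, sub_zero, add_zero] at h1
    exact sub_eq_zero.mp h1
  have t2 : θ * a₂ = (-(c₂ • (1 : A)) - a - a₂) * θ := by
    have h1 : θ * a₂ - (-(c₂ • (1 : A)) - a - a₂) * θ =
        a * (a * a + a * a₂ + a₂ * a₂ + c₂ • (a + a₂) + c₁ • (1 : A))
        - (a * a + a * a₂ + a₂ * a₂ + c₂ • (a + a₂) + c₁ • (1 : A)) * a := by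
      rw [hθ]
      simp only [mul_add, add_mul, mul_sub, sub_mul, smul_add, smul_sub, mul_smul_comm,
        smul_mul_assoc, mul_one, one_mul, mul_assoc, neg_mul, mul_neg]
      abel
    rw [hR, zero_mul, mul_zero, sub_zero] at h1
    exact sub_eq_zero.mp h1
  have t3 : θ * (-(c₂ • (1 : A)) - a - a₂) = a * θ := by
    rw [mul_sub, mul_sub, t1, t2]
    simp only [mul_add, add_mul, mul_sub, sub_mul, smul_add, smul_sub, mul_smul_comm,
        smul_mul_assoc, mul_one, one_mul, mul_assoc, neg_mul, mul_neg]
    abel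
  refine ⟨a₂, hne, hm₂, t1, ?_, ?_⟩
  · calc θ * θ * θ * a = θ * θ * (θ * a) := by rw [mul_assoc]
      _ = θ * (θ * a₂) * θ := by rw [t1]; simp only [mul_assoc]
      _ = θ * (-(c₂ • (1 : A)) - a - a₂) * θ * θ := by rw [t2]; simp only [mul_assoc]
      _ = a * (θ * θ * θ) := by rw [t3]; simp only [mul_assoc]
  · calc θ * θ * θ * a₂ = θ * θ * (θ * a₂) := by rw [mul_assoc]
      _ = θ * (θ * (-(c₂ • (1 : A)) - a - a₂)) * θ := by rw [t2]; simp only [mul_assoc]
      _ = θ * a * θ * θ := by rw [t3]; simp only [mul_assoc]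
      _ = a₂ * (θ * θ * θ) := by rw [t1]; simp only [mul_assoc]


lemma aeval_cubic (m : Polynomial K) (hm : m.Monic) (hdeg : m.natDegree = 3) (x : A) :
    Polynomial.aeval x m =
      x * x * x + m.coeff 2 • (x * x) + m.coeff 1 • x + m.coeff 0 • (1 : A) := by
  rw [Polynomial.aeval_eq_sum_range, hdeg]
  have h3 : m.coeff 3 = 1 := by rw [← hdeg]; exact hm.coeff_natDegree
  simp only [Finset.sum_range_succ, Finset.range_zero, Finset.sum_empty, h3, one_smul, pow_zero,
    pow_succ, one_mul, zero_add]
  abel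

end core

/-- Let K be a field with char K = p > 0 and A a central division K-algebra with dim_K A = p ^ 2. If p =
2 or p = 3, then some element of A is not separable over K. -/
theorem result
    (K : Type u) [Field K] (p : ℕ) [Fact p.Prime] [CharP K p]
    (A : Type v) [DivisionRing A] [Algebra K A] [Algebra.IsCentral K A] [FiniteDimensional K A]
    (hA : Module.finrank K A = p ^ 2) (hp : p = 2 ∨ p = 3) :
    ∃ v : A, ¬ IsSeparable K v := by
  classical
  by_contra hcon
  push Not at hcon
  have hpp : p.Prime := Fact.out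
  obtain ⟨a, ha⟩ : ∃ a : A, a ∉ Set.range (algebraMap K A) := by
    by_contra h
    push Not at h
    have h1 : Module.finrank K A = 1 := by
      have e : K ≃ₗ[K] A := LinearEquiv.ofBijective (Algebra.linearMap K A)
        ⟨(algebraMap K A).injective, h⟩
      rw [← e.finrank_eq, Module.finrank_self]
    rw [hA] at h1
    have := hpp.one_lt
    have h2 : 1 < p ^ 2 := Nat.one_lt_pow (by norm_num) this
    omega
  have hint : IsIntegral K a := Algebra.IsIntegral.isIntegral a
  haveI : Fact (Irreducible (minpoly K a)) := ⟨minpoly.irreducible hint⟩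
  have hdeg : (minpoly K a).natDegree = p := nc_deg p hA a ha
  have hsep : (minpoly K a).Separable := hcon a
  obtain ⟨ψ, hψ, hψq⟩ := Groth.Agent.S15169.psi_exists (minpoly K a) a (minpoly.aeval K a)
  have hψroot : ψ (AdjoinRoot.root (minpoly K a)) = a := by
    rw [← AdjoinRoot.mk_X, hψq, Polynomial.aeval_X]
  have hroot : ((minpoly K a).map (algebraMap K (AdjoinRoot (minpoly K a)))).IsRoot
      (AdjoinRoot.root (minpoly K a)) := by
    rw [Polynomial.IsRoot.def, Polynomial.eval_map, ← Polynomial.aeval_def, AdjoinRoot.aeval_eq,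
      AdjoinRoot.mk_self]
  suffices hsplit : ((minpoly K a).map (algebraMap K (AdjoinRoot (minpoly K a)))).Splits by
    obtain ⟨v, hv⟩ := final p hA (minpoly K a) hdeg hsep hsplit ψ
    exact hv (hcon v)
  have h1 := Polynomial.mul_divByMonic_eq_iff_isRoot.mpr hroot
  rcases hp with rfl | rfl
  · rw [← h1]
    refine Polynomial.Splits.mul (Polynomial.Splits.X_sub_C _)
      (Polynomial.Splits.of_natDegree_le_one ?_)
    rw [Polynomial.natDegree_divByMonic _ (Polynomial.monic_X_sub_C _), Polynomial.natDegree_map,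
      hdeg, Polynomial.natDegree_X_sub_C]
  · haveI : CharP A 3 := charP_of_injective_algebraMap (algebraMap K A).injective 3
    obtain ⟨d, hd⟩ : ∃ d : A, (d * a - a * d) * a ≠ a * (d * a - a * d) := by
      by_contra h
      push Not at h
      have hcen : a * a * a ∈ Subalgebra.center K A := by
        rw [Subalgebra.mem_center_iff]
        intro b
        exact cube_central a h b
      rw [Algebra.IsCentral.center_eq_bot, Algebra.mem_bot] at hcen
      obtain ⟨k, hk⟩ := hcen
      obtain ⟨Q, hQ⟩ := Groth.Agent.S15171.sep_mem 3 a hint (hcon a)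
      apply ha
      rw [hQ, pow_succ, pow_two, ← hk, Polynomial.aeval_algebraMap_apply_eq_algebraMap_eval]
      exact ⟨_, rfl⟩
    have hmon : (minpoly K a).Monic := minpoly.monic hint
    have hm : a * a * a + (minpoly K a).coeff 2 • (a * a) + (minpoly K a).coeff 1 • a
        + (minpoly K a).coeff 0 • (1 : A) = 0 := by
      rw [← aeval_cubic (minpoly K a) hmon hdeg a, minpoly.aeval]
    obtain ⟨a₂, hne, hm₂, t1, t3a, t3b⟩ :=
      core ((minpoly K a).coeff 0) ((minpoly K a).coeff 1) ((minpoly K a).coeff 2) a d hm hd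
    have haev₂ : Polynomial.aeval a₂ (minpoly K a) = 0 := by
      rw [aeval_cubic (minpoly K a) hmon hdeg a₂, hm₂]
    by_cases hθ : a * a₂ - a₂ * a = 0
    · have hcomm : a * a₂ = a₂ * a := sub_eq_zero.mp hθ
      have hane : Subalgebra.centralizer K {a} ≠ ⊤ := by
        intro htop
        apply ha
        have hc : a ∈ Subalgebra.center K A := by
          rw [Subalgebra.mem_center_iff]
          intro b
          have hb : b ∈ Subalgebra.centralizer K {a} := by rw [htop]; trivial
          exact (hb a (Set.mem_singleton a)).symm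
        rw [Algebra.IsCentral.center_eq_bot, Algebra.mem_bot] at hc
        exact hc
      obtain ⟨e, he⟩ := subalg_dim 3 hA (minpoly K a) hdeg a ψ hψ hψq
        (Subalgebra.centralizer K {a})
        (by intro z hz; rw [Set.mem_singleton_iff] at hz; rw [hz])
        hane a₂
        (by intro z hz; rw [Set.mem_singleton_iff] at hz; rw [hz]; exact hcomm)
      have hene : e ≠ AdjoinRoot.root (minpoly K a) := by
        intro h
        apply hne
        rw [← he, h, hψroot]
      have heroot : ((minpoly K a).map (algebraMap K (AdjoinRoot (minpoly K a)))).IsRoot e := by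
        rw [Polynomial.IsRoot.def, Polynomial.eval_map, ← Polynomial.aeval_def]
        apply hψ
        rw [← Polynomial.aeval_algHom_apply, he, haev₂, map_zero]
      have hroot2 : (((minpoly K a).map (algebraMap K (AdjoinRoot (minpoly K a)))) /ₘ
          (Polynomial.X - Polynomial.C (AdjoinRoot.root (minpoly K a)))).IsRoot e := by
        have h2 := heroot
        rw [← h1, Polynomial.IsRoot.def, Polynomial.eval_mul, Polynomial.eval_sub,
          Polynomial.eval_X, Polynomial.eval_C] at h2
        rcases mul_eq_zero.mp h2 with h | h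
        · exact absurd (sub_eq_zero.mp h) hene
        · exact h
      have h2 := Polynomial.mul_divByMonic_eq_iff_isRoot.mpr hroot2
      rw [← h1, ← h2]
      refine Polynomial.Splits.mul (Polynomial.Splits.X_sub_C _)
        (Polynomial.Splits.mul (Polynomial.Splits.X_sub_C _)
          (Polynomial.Splits.of_natDegree_le_one ?_))
      rw [Polynomial.natDegree_divByMonic _ (Polynomial.monic_X_sub_C _),
        Polynomial.natDegree_divByMonic _ (Polynomial.monic_X_sub_C _), Polynomial.natDegree_map,
        hdeg, Polynomial.natDegree_X_sub_C, Polynomial.natDegree_X_sub_C]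
    · exfalso
      have htop : Algebra.adjoin K {a, a₂} = ⊤ := by
        by_contra hB
        obtain ⟨e, he⟩ := subalg_dim 3 hA (minpoly K a) hdeg a ψ hψ hψq
          (Algebra.adjoin K {a, a₂}) (Algebra.subset_adjoin (by simp)) hB a₂
          (Algebra.subset_adjoin (by simp))
        apply hθ
        rw [sub_eq_zero, ← hψroot, ← he, ← map_mul, ← map_mul, mul_comm]
      have hcen : (a * a₂ - a₂ * a) * (a * a₂ - a₂ * a) * (a * a₂ - a₂ * a) ∈
          Subalgebra.center K A := by
        rw [Subalgebra.mem_center_iff]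
        intro b
        have hb : b ∈ Algebra.adjoin K {a, a₂} := by rw [htop]; trivial
        have hle : Algebra.adjoin K {a, a₂} ≤ Subalgebra.centralizer K
            {(a * a₂ - a₂ * a) * (a * a₂ - a₂ * a) * (a * a₂ - a₂ * a)} := by
          rw [Algebra.adjoin_le_iff]
          intro w hw
          rcases hw with rfl | hw
          · intro z hz
            rw [Set.mem_singleton_iff] at hz
            rw [hz]
            exact t3a
          · rw [Set.mem_singleton_iff] at hw
            rw [hw]
            intro z hz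
            rw [Set.mem_singleton_iff] at hz
            rw [hz]
            exact t3b
        exact (hle hb _ (Set.mem_singleton _)).symm
      rw [Algebra.IsCentral.center_eq_bot, Algebra.mem_bot] at hcen
      obtain ⟨k, hk⟩ := hcen
      obtain ⟨Q, hQ⟩ := Groth.Agent.S15171.sep_mem 3 (a * a₂ - a₂ * a)
        (Algebra.IsIntegral.isIntegral _) (hcon _)
      have hθK : (a * a₂ - a₂ * a) ∈ Set.range (algebraMap K A) := by
        rw [hQ, pow_succ, pow_two, ← hk, Polynomial.aeval_algebraMap_apply_eq_algebraMap_eval]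
        exact ⟨_, rfl⟩
      obtain ⟨k', hk'⟩ := hθK
      apply hne
      have h3 : a₂ * (a * a₂ - a₂ * a) = a * (a * a₂ - a₂ * a) := by
        rw [← t1, ← hk', Algebra.commutes]
      exact mul_right_cancel₀ hθ h3


end Groth.Agent.S15184
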