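import Groth.Statements.S15185
import Groth.Agent.S15168
import Groth.Agent.S15169
import Groth.Agent.Lib.Helper4.Centralizer
import Mathlib

set_option autoImplicit false
universe u v
open Polynomial
open BddFin

namespace Groth.Agent.S15185

lemma struct {K : Type u} [Field K]
    (hK : ∀ n : ℕ, 0 < n → (Polynomial.X ^ n - 1 : Polynomial K).Splits)
    {A : Type v} [DivisionRing A] [Algebra K A] [Algebra.IsCentral K A] [FiniteDimensional K A]
    (n : ℕ) (hn : Module.finrank K A = n ^ 2) (x : A) (hx0 : x ≠ 0) (m : ℕ) (hm : 0 < m) (a : K)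
    (ha : algebraMap K A a = x ^ m) :
    ∃ c : K, x ^ (minpoly K x).natDegree = algebraMap K A c ∧ (minpoly K x).natDegree ∣ n := by
  classical
  have hint : IsIntegral K x := Algebra.IsIntegral.isIntegral x
  haveI : Fact (Irreducible (minpoly K x)) := ⟨minpoly.irreducible hint⟩
  obtain ⟨ψ, hψ, hψq⟩ := Groth.Agent.S15169.psi_exists (minpoly K x) x (minpoly.aeval K x)
  have hψroot : ψ (AdjoinRoot.root (minpoly K x)) = x := by
    rw [← AdjoinRoot.mk_X, hψq, Polynomial.aeval_X]
  have hrne : AdjoinRoot.root (minpoly K x) ≠ 0 := by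
    intro h
    apply hx0
    rw [← hψroot, h, map_zero]
  have hrm : (AdjoinRoot.root (minpoly K x)) ^ m = algebraMap K (AdjoinRoot (minpoly K x)) a := by
    apply hψ
    rw [map_pow, hψroot, AlgHom.commutes]
    exact ha.symm
  obtain ⟨b, hb⟩ := Groth.Agent.S15168.pow_deg_mem hK (minpoly K x) (minpoly.monic hint) m hm a
    hrm hrne
  have hxr : x ^ (minpoly K x).natDegree = algebraMap K A b := by
    have h := congrArg ψ hb
    rw [map_pow, hψroot, AlgHom.commutes] at h
    exact h
  refine ⟨b, hxr, ?_⟩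
  haveI : IsSimpleRing ψ.range :=
    IsSimpleRing.of_ringEquiv (AlgEquiv.ofInjective ψ hψ).toRingEquiv inferInstance
  have h1 := Groth.Agent.Helper4.finrank_eq_mul_finrank_centralizer K A ψ.range
  have h2 : Module.finrank K ψ.range = (minpoly K x).natDegree := by
    rw [← (AlgEquiv.ofInjective ψ hψ).toLinearEquiv.finrank_eq,
      Groth.Agent.S15169.finrank_adjoinRoot]
  have hmem : ∀ e, ψ e ∈ Subalgebra.centralizer K (ψ.range : Set A) := by
    intro e z hz
    obtain ⟨e', rfl⟩ := hz
    change ψ e' * ψ e = ψ e * ψ e'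
    rw [← map_mul, ← map_mul, mul_comm]
  let φ : AdjoinRoot (minpoly K x) →ₐ[K] Subalgebra.centralizer K (ψ.range : Set A) :=
    ψ.codRestrict _ hmem
  letI : Module (AdjoinRoot (minpoly K x)) (Subalgebra.centralizer K (ψ.range : Set A)) :=
    Module.compHom _ φ.toRingHom
  haveI : IsScalarTower K (AdjoinRoot (minpoly K x))
      (Subalgebra.centralizer K (ψ.range : Set A)) := by
    refine ⟨fun k e y => ?_⟩
    change φ (k • e) * y = k • (φ e * y)
    rw [map_smul, smul_mul_assoc]
  have h3 := Module.finrank_mul_finrank K (AdjoinRoot (minpoly K x))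
    (Subalgebra.centralizer K (ψ.range : Set A))
  rw [Groth.Agent.S15169.finrank_adjoinRoot] at h3
  rw [hn, h2, ← h3, ← mul_assoc, ← sq] at h1
  have h4 : (minpoly K x).natDegree ^ 2 ∣ n ^ 2 := Dvd.intro _ h1.symm
  exact (Nat.pow_dvd_pow_iff two_ne_zero).mp h4

lemma pth_power {K : Type u} [Field K] (p n' : ℕ) (hcop : Nat.Coprime n' p) (c d : K) (hc0 : c ≠ 0)
    (h : c ^ n' = d ^ p) : ∃ g : K, c = g ^ p := by
  have hb := Nat.gcd_eq_gcd_ab n' p
  rw [hcop.gcd_eq_one] at hb
  refine ⟨d ^ (Nat.gcdA n' p) * c ^ (Nat.gcdB n' p), ?_⟩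
  have h1 : c = c ^ ((n' : ℤ) * Nat.gcdA n' p + (p : ℤ) * Nat.gcdB n' p) := by
    rw [← hb]
    simp
  rw [zpow_add₀ hc0, zpow_mul, zpow_natCast, h, mul_comm (p : ℤ), zpow_mul, zpow_natCast] at h1
  rw [mul_pow, ← zpow_natCast (d ^ Nat.gcdA n' p), ← zpow_mul, mul_comm (Nat.gcdA n' p), zpow_mul,
    zpow_natCast]
  exact h1

/-- Let K be a field of characteristic p > 0 such that K contains all roots of unity (for every n ≥ 1
the polynomial X^n − 1 splits into linear factors over K), A a central division algebra of dimension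
n ^ 2 over K, and write n = n' · p ^ m with n' prime to p; let N be the reduced norm of A. Consider
the kernel of the homomorphism from the units of A modulo those of K to Kˣ/(Kˣ)^(p^m) induced by N.
Every element of finite order of that kernel has order dividing n': if x ≠ 0 in A has x ^ r in K for
some r ≥ 1 and N x is a (p ^ m)-th power of a non-zero element of K, then x ^ n' lies in K. -/
theorem result
    (K : Type u) [Field K] (p : ℕ) [Fact p.Prime] [CharP K p] (hK : ∀ n : ℕ, 0 < n → (X ^ n - 1 : K[X]).Splits)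
    (A : Type v) [DivisionRing A] [Algebra K A] [Algebra.IsCentral K A] [FiniteDimensional K A]
    (n n' m : ℕ) (hA : Module.finrank K A = n ^ 2) (hn : n = n' * p ^ m) (hn' : ¬ p ∣ n')
    (N : A →* K) (hN : CSAGal.IsRedNorm K A N)
    (x : A) (hx : x ≠ 0) (hxr : ∃ r : ℕ, 0 < r ∧ x ^ r ∈ (algebraMap K A).range)
    (hNx : ∃ b : K, b ≠ 0 ∧ N x = b ^ (p ^ m)) :
    x ^ n' ∈ (algebraMap K A).range := by
  classical
  have hpp : p.Prime := Fact.out
  obtain ⟨r, hr, a, ha⟩ := hxr
  obtain ⟨c, hc, hsn⟩ := struct hK n hA x hx r hr a ha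
  have hint : IsIntegral K x := Algebra.IsIntegral.isIntegral x
  have hs0 : 0 < (minpoly K x).natDegree := minpoly.natDegree_pos hint
  have hc0 : c ≠ 0 := by
    rintro rfl
    rw [map_zero] at hc
    exact hx (pow_eq_zero_iff hs0.ne' |>.mp hc)
  obtain ⟨K', _, _, _, n₁, φ, hφ⟩ := hN
  have hn₁ : n₁ = n := by
    have h1 : Module.finrank K' (TensorProduct K K' A) = Module.finrank K A :=
      Module.finrank_baseChange
    have h2 := φ.toLinearEquiv.finrank_eq
    rw [h1, Module.finrank_matrix, Fintype.card_fin, Module.finrank_self, mul_one, hA, ← sq] at h2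
    exact (Nat.pow_left_injective two_ne_zero h2).symm
  have hNc : N (algebraMap K A c) = c ^ n := by
    apply (algebraMap K K').injective
    rw [hφ, map_pow]
    have h1 : (1 : K') ⊗ₜ[K] (algebraMap K A c) =
        algebraMap K' (TensorProduct K K' A) (algebraMap K K' c) := by
      rw [Algebra.TensorProduct.algebraMap_apply, Algebra.algebraMap_eq_smul_one (A := A) c,
        TensorProduct.tmul_smul, TensorProduct.smul_tmul', Algebra.smul_def, mul_one]
      rfl
    rw [h1, AlgEquiv.commutes, Algebra.algebraMap_eq_smul_one, Matrix.det_smul, Matrix.det_one,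
      mul_one, Fintype.card_fin, hn₁]
  have h1 : (N x) ^ (minpoly K x).natDegree = c ^ n := by rw [← map_pow, hc, hNc]
  obtain ⟨b, hb0, hb⟩ := hNx
  haveI : ExpChar K p := ExpChar.prime hpp
  have h2 : b ^ (minpoly K x).natDegree = c ^ n' := by
    apply iterateFrobenius_inj K p m
    rw [iterateFrobenius_def, iterateFrobenius_def, ← pow_mul, ← pow_mul, ← hn, ← h1, hb,
      ← pow_mul, mul_comm]
  have hps : ¬ p ∣ (minpoly K x).natDegree := by
    rintro ⟨t, ht⟩
    have ht0 : 0 < t := by
      rcases Nat.eq_zero_or_pos t with h | h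
      · rw [h, mul_zero] at ht; omega
      · exact h
    have hcop : Nat.Coprime n' p := ((Nat.Prime.coprime_iff_not_dvd hpp).mpr hn').symm
    have h3 : c ^ n' = (b ^ t) ^ p := by rw [← h2, ht, mul_comm, pow_mul]
    obtain ⟨g, hg⟩ := pth_power p n' hcop c (b ^ t) hc0 h3
    haveI : CharP A p := charP_of_injective_algebraMap (algebraMap K A).injective p
    have h4 : minpoly K x ∣ (X ^ t - C g) ^ p := by
      apply minpoly.dvd
      rw [map_pow, map_sub, map_pow, aeval_X, aeval_C,
        sub_pow_char_of_commute p (Algebra.commutes g (x ^ t)).symm, ← pow_mul, mul_comm t p,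
        ← ht, hc, ← map_pow, ← hg, sub_self]
    have h5 : minpoly K x ∣ X ^ t - C g := (minpoly.prime hint).dvd_of_dvd_pow h4
    have h6 := natDegree_le_of_dvd h5 (X_pow_sub_C_ne_zero ht0 g)
    rw [natDegree_X_pow_sub_C, ht] at h6
    have := hpp.two_le
    nlinarith
  have hsn' : (minpoly K x).natDegree ∣ n' := by
    rw [hn] at hsn
    exact Nat.Coprime.dvd_of_dvd_mul_right
      (Nat.Coprime.pow_right m ((Nat.Prime.coprime_iff_not_dvd hpp).mpr hps).symm) hsn
  obtain ⟨t, ht⟩ := hsn'
  exact ⟨c ^ t, by rw [map_pow, ← hc, ← pow_mul, ← ht]⟩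

end Groth.Agent.S15185
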