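import Groth.Statements.S15237
import Mathlib

set_option autoImplicit false
open CategoryTheory AlgebraicGeometry
universe u
open Variety

namespace Groth.Agent.S15237

lemma isAlgebraic_of_countable_adjoin (k L : Type u) [Field k] [Uncountable k] [Field L]
    [Algebra k L] (T : Set L) (hT : T.Countable) (hadj : Algebra.adjoin k T = ⊤) :
    Algebra.IsAlgebraic k L := by
  have hrank : Module.rank k L ≤ Cardinal.aleph0 := by
    rw [← Subalgebra.rank_top (F := k) (E := L), ← hadj]
    refine (Algebra.rank_adjoin_le T).trans (max_le ?_ le_rfl)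
    exact Cardinal.le_aleph0_iff_set_countable.mpr hT
  constructor
  intro t
  by_contra ht
  have hli := Transcendental.linearIndependent_sub_inv (F := k) (E := L) (x := t) ht
  have h1 := hli.cardinal_le_rank
  have h2 : Cardinal.aleph0 < Cardinal.mk k := Cardinal.aleph0_lt_mk_iff.mpr inferInstance
  exact absurd (h1.trans hrank) (not_le.mpr h2)

lemma exists_maximal_of_domain (k A : Type u) [Field k] [Uncountable k] [CommRing A] [IsDomain A]
    [Algebra k A] [Algebra.FiniteType k A] (g : ℕ → A) (hg : ∀ n, g n ≠ 0) :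
    ∃ m : Ideal A, m.IsMaximal ∧ ∀ n, g n ∉ m := by
  classical
  have hM : Submonoid.closure (Set.range g) ≤ nonZeroDivisors A := by
    rw [Submonoid.closure_le]
    rintro _ ⟨n, rfl⟩
    exact mem_nonZeroDivisors_of_ne_zero (hg n)
  let B := Localization (Submonoid.closure (Set.range g))
  haveI : Nontrivial B := (IsLocalization.injective B hM).nontrivial
  obtain ⟨Mx, hMx⟩ := Ideal.exists_maximal B
  haveI := hMx
  letI : Field (B ⧸ Mx) := Ideal.Quotient.field Mx
  let φ0 : A →+* (B ⧸ Mx) := (Ideal.Quotient.mk Mx).comp (algebraMap A B)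
  letI : Algebra k (B ⧸ Mx) := (φ0.comp (algebraMap k A)).toAlgebra
  let φ : A →ₐ[k] (B ⧸ Mx) := { φ0 with commutes' := fun r => rfl }
  have hφ : ∀ a, φ a = Ideal.Quotient.mk Mx (algebraMap A B a) := fun a => rfl
  have hunit : ∀ m ∈ Submonoid.closure (Set.range g), φ m ≠ 0 := by
    intro m hm
    have h1 : IsUnit (algebraMap A B m) :=
      IsLocalization.map_units B (⟨m, hm⟩ : Submonoid.closure (Set.range g))
    exact (h1.map (Ideal.Quotient.mk Mx)).ne_zero
  obtain ⟨s, hs⟩ := (Algebra.FiniteType.out : (⊤ : Subalgebra k A).FG)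
  let T : Set (B ⧸ Mx) := φ '' (s : Set A) ∪ Set.range (fun n => (φ (g n))⁻¹)
  have hT : T.Countable := (s.countable_toSet.image _).union (Set.countable_range _)
  have hinvM : ∀ m ∈ Submonoid.closure (Set.range g), (φ m)⁻¹ ∈ Algebra.adjoin k T := by
    intro m hm
    induction hm using Submonoid.closure_induction with
    | mem x hx =>
      obtain ⟨n, rfl⟩ := hx
      exact Algebra.subset_adjoin (Or.inr ⟨n, rfl⟩)
    | one => rw [map_one, inv_one]; exact one_mem _
    | mul x y _ _ hx hy => rw [map_mul, mul_inv]; exact mul_mem hx hy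
  have hadj : Algebra.adjoin k T = ⊤ := by
    rw [eq_top_iff]
    intro l _
    obtain ⟨b, rfl⟩ := Ideal.Quotient.mk_surjective l
    obtain ⟨a, m, rfl⟩ := IsLocalization.exists_mk'_eq (Submonoid.closure (Set.range g)) b
    have h1 : Ideal.Quotient.mk Mx (IsLocalization.mk' B a m) = φ a * (φ m)⁻¹ := by
      rw [eq_mul_inv_iff_mul_eq₀ (hunit m m.2), hφ, hφ, ← map_mul, IsLocalization.mk'_spec]
    rw [h1]
    refine mul_mem ?_ (hinvM m m.2)
    have h2 : φ a ∈ (Algebra.adjoin k (s : Set A)).map φ := by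
      rw [hs]; exact ⟨a, trivial, rfl⟩
    rw [AlgHom.map_adjoin] at h2
    exact Algebra.adjoin_mono Set.subset_union_left h2
  haveI : Algebra.IsAlgebraic k (B ⧸ Mx) := isAlgebraic_of_countable_adjoin k _ T hT hadj
  refine ⟨RingHom.ker φ.toRingHom, ?_, ?_⟩
  · rw [Ideal.isMaximal_iff]
    refine ⟨?_, fun J a hJ ha haJ => ?_⟩
    · rw [RingHom.mem_ker]
      show φ 1 ≠ 0
      rw [map_one]; exact one_ne_zero
    · have ha' : φ a ≠ 0 := fun h => ha ((RingHom.mem_ker).mpr h)
      have hinv : (φ a)⁻¹ ∈ φ.range :=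
        Subalgebra.inv_mem_of_algebraic (A := φ.range) (x := ⟨φ a, a, rfl⟩)
          (Algebra.IsAlgebraic.isAlgebraic _)
      obtain ⟨b, hb⟩ := hinv
      have h0 : a * b - 1 ∈ RingHom.ker φ.toRingHom := by
        rw [RingHom.mem_ker]
        show φ (a * b - 1) = 0
        rw [map_sub, map_mul, map_one]
        have : φ b = (φ a)⁻¹ := hb
        rw [this, mul_inv_cancel₀ ha', sub_self]
      have h1 : a * b - 1 ∈ J := hJ h0
      have h2 : a * b ∈ J := J.mul_mem_right b haJ
      have h3 : (1 : A) = a * b - (a * b - 1) := by ring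
      rw [h3]; exact J.sub_mem h2 h1
  · intro n hn
    exact hunit (g n) (Submonoid.subset_closure ⟨n, rfl⟩) ((RingHom.mem_ker).mp hn)

lemma exists_maximal_of_prime (k A : Type u) [Field k] [Uncountable k] [CommRing A]
    [Algebra k A] [Algebra.FiniteType k A] (P : Ideal A) [P.IsPrime] (g : ℕ → A)
    (hg : ∀ n, g n ∉ P) :
    ∃ m : Ideal A, m.IsMaximal ∧ P ≤ m ∧ ∀ n, g n ∉ m := by
  haveI : Algebra.FiniteType k (A ⧸ P) :=
    Algebra.FiniteType.of_surjective (Ideal.Quotient.mkₐ k P) (Ideal.Quotient.mkₐ_surjective k P)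
  obtain ⟨m', hm', hgm'⟩ := exists_maximal_of_domain k (A ⧸ P)
    (fun n => Ideal.Quotient.mk P (g n))
    (fun n h => hg n (Ideal.Quotient.eq_zero_iff_mem.mp h))
  refine ⟨m'.comap (Ideal.Quotient.mk P), ?_, ?_, ?_⟩
  · exact Ideal.comap_isMaximal_of_surjective (Ideal.Quotient.mk P) Ideal.Quotient.mk_surjective
  · intro x hx
    rw [Ideal.mem_comap, Ideal.Quotient.eq_zero_iff_mem.mpr hx]
    exact m'.zero_mem
  · intro n hn
    exact hgm' n hn

open AlgebraicGeometry CategoryTheory Limits in
lemma exists_closedPoint_mem (k : Type u) [Field k] [Uncountable k]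
    (X : Scheme.{u}) (sX : X ⟶ Spec (CommRingCat.of k)) [IrreducibleSpace X]
    [LocallyOfFiniteType sX]
    (Z : ℕ → TopologicalSpace.Closeds X) (hZ : ∀ n, (Z n : Set X) ≠ Set.univ)
    (U : X.Opens) (hU : IsAffineOpen U) (hne : (U : Set X).Nonempty) :
    ∃ x : X, x ∈ U ∧ IsClosed ({x} : Set X) ∧ ∀ n, x ∉ Z n := by
  haveI : JacobsonSpace X := LocallyOfFiniteType.jacobsonSpace sX
  have hle : U ≤ sX ⁻¹ᵁ ⊤ := le_top
  let ψ : CommRingCat.of k ⟶ Γ(X, U) :=
    (Scheme.ΓSpecIso (CommRingCat.of k)).inv ≫ sX.appLE ⊤ U hle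
  letI : Algebra k Γ(X, U) := ψ.hom.toAlgebra
  haveI : Algebra.FiniteType k Γ(X, U) := by
    have h1 : (sX.appLE ⊤ U hle).hom.FiniteType :=
      sX.finiteType_appLE (isAffineOpen_top _) hU hle
    have h2 : (Scheme.ΓSpecIso (CommRingCat.of k)).inv.hom.FiniteType :=
      RingHom.FiniteType.of_surjective _
        ((ConcreteCategory.bijective_of_isIso
          (Scheme.ΓSpecIso (CommRingCat.of k)).inv).surjective)
    exact h1.comp h2
  have hηU : genericPoint X ∈ (U : Set X) :=
    ((genericPoint_spec X).mem_open_set_iff U.2).mpr (by simpa using hne)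
  have hηZ : ∀ n, genericPoint X ∉ (Z n : Set X) := by
    intro n hn
    apply hZ n
    apply Set.eq_univ_of_univ_subset
    have h1 : closure {genericPoint X} ⊆ (Z n : Set X) :=
      closure_minimal (Set.singleton_subset_iff.mpr hn) (Z n).isClosed
    rwa [(genericPoint_spec X).def] at h1
  have hrange : Set.range hU.fromSpec = U := hU.range_fromSpec
  obtain ⟨P, hP⟩ : ∃ P, hU.fromSpec P = genericPoint X := by
    have : genericPoint X ∈ Set.range hU.fromSpec := by rw [hrange]; exact hηU
    exact this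
  have hI : ∀ n, ∃ I : Ideal Γ(X, U),
      hU.fromSpec ⁻¹' (Z n : Set X) = PrimeSpectrum.zeroLocus (I : Set Γ(X, U)) := by
    intro n
    exact (PrimeSpectrum.isClosed_iff_zeroLocus_ideal _).mp
      ((Z n).isClosed.preimage hU.fromSpec.continuous)
  choose I hI using hI
  have hg : ∀ n, ∃ g : Γ(X, U), g ∈ I n ∧ g ∉ P.asIdeal := by
    intro n
    have h1 : P ∉ hU.fromSpec ⁻¹' (Z n : Set X) := by
      intro h; exact hηZ n (by rw [← hP]; exact h)
    rw [hI n] at h1
    have h1' : ¬ ((I n : Set Γ(X, U)) ⊆ P.asIdeal) :=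
      fun h => h1 ((PrimeSpectrum.mem_zeroLocus P _).mpr h)
    obtain ⟨a, ha, ha'⟩ := Set.not_subset.mp h1'
    exact ⟨a, ha, ha'⟩
  choose g hgI hgP using hg
  haveI : P.asIdeal.IsPrime := P.isPrime
  obtain ⟨m, hm, hPm, hgm⟩ := exists_maximal_of_prime k Γ(X, U) P.asIdeal g hgP
  let xm : Spec Γ(X, U) := ⟨m, hm.isPrime⟩
  refine ⟨hU.fromSpec xm, ?_, ?_, ?_⟩
  · rw [← SetLike.mem_coe, ← hrange]; exact ⟨xm, rfl⟩
  · apply isClosed_singleton_of_isLocallyClosed_singleton
    have hcl : IsClosed ({xm} : Set (Spec Γ(X, U))) :=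
      (PrimeSpectrum.isClosed_singleton_iff_isMaximal xm).mpr hm
    have hemb := hU.fromSpec.isOpenEmbedding
    have := hcl.isLocallyClosed.image hemb.isInducing hemb.isOpen_range.isLocallyClosed
    rwa [Set.image_singleton] at this
  · intro n hn
    have h1 : xm ∈ hU.fromSpec ⁻¹' (Z n : Set X) := hn
    rw [hI n] at h1
    have h1' : (I n : Set Γ(X, U)) ⊆ m := (PrimeSpectrum.mem_zeroLocus xm _).mp h1
    exact hgm n (h1' (hgI n))

/-- Let k be an uncountable field and X an irreducible k-scheme of finite type. Then the closed points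
of X are not covered by countably many closed subsets of X different from X: for every sequence Z₀,
Z₁, … of closed subsets of X with Zₙ ≠ X for all n there is a closed point of X lying in no Zₙ. (The
published statement is for an irreducible quasi-projective variety and says that the variety is not
a countable union of closed subsets different from it, a variety being read through its closed
points; with the generic point of the scheme that assertion would be immediate, so this row asks for
a closed point, and it assumes only finite type over k.) -/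
theorem result (k : Type u) [Field k] [Uncountable k]
    (X : Scheme.{u}) (sX : X ⟶ Spec (CommRingCat.of k)) [IrreducibleSpace X]
    [LocallyOfFiniteType sX] [QuasiCompact sX]
    (Z : ℕ → TopologicalSpace.Closeds X) (hZ : ∀ n, (Z n : Set X) ≠ Set.univ) :
    ∃ x : X, IsClosed ({x} : Set X) ∧ ∀ n, x ∉ Z n := by
  obtain ⟨U, hU, hxU⟩ : ∃ U : X.Opens, IsAffineOpen U ∧ genericPoint X ∈ U := by
    obtain ⟨_, ⟨U, hU, rfl⟩, hxU, -⟩ := X.isBasis_affineOpens.exists_subset_of_mem_open
      (Set.mem_univ (genericPoint X)) isOpen_univ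
    exact ⟨U, hU, hxU⟩
  obtain ⟨x, -, hx, hxZ⟩ := exists_closedPoint_mem k X sX Z hZ U hU ⟨_, hxU⟩
  exact ⟨x, hx, hxZ⟩

end Groth.Agent.S15237
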