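import Groth.Statements.S15258
import Mathlib
import Groth.Agent.S15260

set_option autoImplicit false
universe u
open CategoryTheory CategoryTheory.Limits AlgebraicGeometry TopologicalSpace
open W4c2seshadripos

namespace Groth.Agent.S15258

theorem essFT_of_comp {A B C : Type*} [CommRing A] [CommRing B] [CommRing C] (φ : A →+* B)
    (ψ : B →+* C) (h : (ψ.comp φ).EssFiniteType) : ψ.EssFiniteType := by
  algebraize [φ, ψ, ψ.comp φ]
  exact Algebra.EssFiniteType.of_comp A B C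

theorem essFT_of_away {A B : Type*} [CommRing A] [CommRing B] (ρ : A →+* B) (a : A)
    (h : @IsLocalization.Away _ _ a B _ ρ.toAlgebra) : ρ.EssFiniteType := by
  letI := ρ.toAlgebra
  haveI := h
  exact Algebra.EssFiniteType.of_isLocalization B (Submonoid.powers a)

/-- the local step: around a point of `f⁻¹ U₀`, produce an affine open with essentially finite
type coordinate ring over `Γ(U₀)` -/
theorem local_step {X Y : Scheme.{u}} (f : X ⟶ Y) (U₀ U : Y.affineOpens) (V : X.affineOpens)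
    (e : (V : X.Opens) ≤ f ⁻¹ᵁ (U : Y.Opens))
    (hess : (f.appLE (U : Y.Opens) (V : X.Opens) e).hom.EssFiniteType)
    (x : X) (hxV : x ∈ (V : X.Opens)) (hx₀ : f.base x ∈ (U₀ : Y.Opens)) :
    ∃ V' : X.affineOpens, x ∈ (V' : X.Opens) ∧
      ∃ e' : (V' : X.Opens) ≤ f ⁻¹ᵁ (U₀ : Y.Opens),
        (f.appLE (U₀ : Y.Opens) (V' : X.Opens) e').hom.EssFiniteType := by
  have hxU : f.base x ∈ (U : Y.Opens) := e hxV
  obtain ⟨a, b, hab, hy⟩ := exists_basicOpen_le_affine_inter U₀.2 U.2 (f.base x) ⟨hx₀, hxU⟩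
  have hDU : Y.basicOpen b ≤ (U : Y.Opens) := Y.basicOpen_le b
  have hDU₀ : Y.basicOpen b ≤ (U₀ : Y.Opens) := hab ▸ Y.basicOpen_le a
  obtain ⟨b', hb'⟩ : ∃ b' : Γ(X, (V : X.Opens)), b' = (f.appLE (U : Y.Opens) (V : X.Opens) e) b :=
    ⟨_, rfl⟩
  have hV'eq : X.basicOpen b' = (V : X.Opens) ⊓ f ⁻¹ᵁ (Y.basicOpen b) := by
    rw [hb']; exact Scheme.basicOpen_appLE f _ _ e b
  have hV'V : X.basicOpen b' ≤ (V : X.Opens) := X.basicOpen_le b'
  have e₂ : X.basicOpen b' ≤ f ⁻¹ᵁ (Y.basicOpen b) := by rw [hV'eq]; exact inf_le_right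
  have hxV' : x ∈ X.basicOpen b' := by
    rw [hV'eq]
    exact ⟨hxV, hab ▸ hy⟩
  refine ⟨⟨X.basicOpen b', V.2.basicOpen b'⟩, hxV', ?_⟩
  have e' : X.basicOpen b' ≤ f ⁻¹ᵁ (U₀ : Y.Opens) :=
    e₂.trans ((Opens.map f.base).map (homOfLE hDU₀)).le
  refine ⟨e', ?_⟩
  -- the four ring maps
  have hρ₀ : (Y.presheaf.map (homOfLE hDU₀).op).hom.EssFiniteType :=
    essFT_of_away _ a (U₀.2.isLocalization_of_eq_basicOpen a (homOfLE hDU₀) hab.symm)
  have hlam : (X.presheaf.map (homOfLE hV'V).op).hom.EssFiniteType :=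
    essFT_of_away _ b' (V.2.isLocalization_of_eq_basicOpen b' (homOfLE hV'V) rfl)
  have h1 : Y.presheaf.map (homOfLE hDU).op ≫ f.appLE (Y.basicOpen b) (X.basicOpen b') e₂ =
      f.appLE (U : Y.Opens) (V : X.Opens) e ≫ X.presheaf.map (homOfLE hV'V).op := by
    rw [Scheme.Hom.map_appLE, Scheme.Hom.appLE_map]
  have h2 : ((f.appLE (Y.basicOpen b) (X.basicOpen b') e₂).hom.comp
      (Y.presheaf.map (homOfLE hDU).op).hom).EssFiniteType := by
    rw [← CommRingCat.hom_comp, h1, CommRingCat.hom_comp]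
    exact Groth.Agent.S15260.essFT_comp _ _ hess hlam
  have hψ : (f.appLE (Y.basicOpen b) (X.basicOpen b') e₂).hom.EssFiniteType :=
    essFT_of_comp _ _ h2
  have h3 : f.appLE (U₀ : Y.Opens) (X.basicOpen b') e' =
      Y.presheaf.map (homOfLE hDU₀).op ≫ f.appLE (Y.basicOpen b) (X.basicOpen b') e₂ := by
    rw [Scheme.Hom.map_appLE]
  show (f.appLE (U₀ : Y.Opens) (X.basicOpen b') e').hom.EssFiniteType
  rw [h3, CommRingCat.hom_comp]
  exact Groth.Agent.S15260.essFT_comp _ _ hρ₀ hψ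

/-- Call f : X → Y locally essentially of finite type when Y has a cover by affine opens U = Spec A such
that each f⁻¹(U) has a cover by affine opens Spec B with A → B essentially of finite type (a
localization of a finite-type A-algebra; Mathlib's RingHom.EssFiniteType), and essentially of finite
type when moreover f is quasi-compact. Then f is locally essentially of finite type exactly when
every affine open U = Spec A of Y has f⁻¹(U) covered by affine opens V = Spec B of X with A → B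
essentially of finite type. -/
theorem result {X Y : Scheme.{u}} (f : X ⟶ Y) :
    (∃ S : Set Y.affineOpens, (⋃ U ∈ S, ((U : Y.Opens) : Set ↥Y)) = Set.univ ∧
      ∀ U ∈ S, ∃ T : Set X.affineOpens, (⋃ V ∈ T, ((V : X.Opens) : Set ↥X)) = ((f ⁻¹ᵁ (U : Y.Opens)) : Set ↥X) ∧
        ∀ V ∈ T, ∃ e : (V : X.Opens) ≤ f ⁻¹ᵁ (U : Y.Opens), (f.appLE (U : Y.Opens) (V : X.Opens) e).hom.EssFiniteType) ↔
    ∀ U : Y.affineOpens, ∃ T : Set X.affineOpens, (⋃ V ∈ T, ((V : X.Opens) : Set ↥X)) = ((f ⁻¹ᵁ (U : Y.Opens)) : Set ↥X) ∧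
        ∀ V ∈ T, ∃ e : (V : X.Opens) ≤ f ⁻¹ᵁ (U : Y.Opens), (f.appLE (U : Y.Opens) (V : X.Opens) e).hom.EssFiniteType := by
  constructor
  · rintro ⟨S, hScov, hS⟩ U₀
    refine ⟨{V' | ∃ e' : (V' : X.Opens) ≤ f ⁻¹ᵁ (U₀ : Y.Opens),
      (f.appLE (U₀ : Y.Opens) (V' : X.Opens) e').hom.EssFiniteType}, ?_, fun V' hV' => hV'⟩
    ext x
    constructor
    · intro hx
      obtain ⟨V', ⟨e', _⟩, hxV'⟩ := Set.mem_iUnion₂.1 hx
      exact e' hxV'
    · intro hx
      have hx₀ : f.base x ∈ (U₀ : Y.Opens) := hx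
      have hy : f.base x ∈ (⋃ U ∈ S, ((U : Y.Opens) : Set ↥Y)) := by
        rw [hScov]; exact Set.mem_univ _
      obtain ⟨U, hU, hyU⟩ := Set.mem_iUnion₂.1 hy
      obtain ⟨T, hTcov, hT⟩ := hS U hU
      have hxU : x ∈ ((f ⁻¹ᵁ (U : Y.Opens)) : Set ↥X) := hyU
      rw [← hTcov] at hxU
      obtain ⟨V, hV, hxV⟩ := Set.mem_iUnion₂.1 hxU
      obtain ⟨e, hess⟩ := hT V hV
      obtain ⟨V', hxV', e', hess'⟩ := local_step f U₀ U V e hess x hxV hx₀
      exact Set.mem_iUnion₂.2 ⟨V', ⟨e', hess'⟩, hxV'⟩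
  · intro h
    refine ⟨Set.univ, ?_, fun U _ => h U⟩
    have h1 := congrArg (fun W : Y.Opens => (W : Set ↥Y)) (iSup_affineOpens_eq_top Y)
    simp only [TopologicalSpace.Opens.coe_iSup, TopologicalSpace.Opens.coe_top] at h1
    rw [← h1]
    ext y
    simp only [Set.mem_iUnion, Set.mem_univ, exists_const, exists_true_left]

end Groth.Agent.S15258
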