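import Groth.Statements.S15285

set_option autoImplicit false
universe v v' u u'
open PicCat

namespace Groth.Agent.S15285

open CategoryTheory MonoidalCategory in
/-- Let C and D be Picard categories (monoidal groupoids in which tensoring on either side with any
object is an equivalence of categories) and F : C ⥤ D a lax monoidal functor. If F induces a
bijection on isomorphism classes of objects (it is essentially surjective, and F X ≅ F Y only when X
≅ Y) and a bijection on endomorphisms of the unit object, then F is an equivalence of categories. -/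
theorem result
    {C : Type u} [Category.{v} C] [MonoidalCategory C] [IsGroupoid C]
    {D : Type u'} [Category.{v'} D] [MonoidalCategory D] [IsGroupoid D]
    (hC : ∀ X : C, (tensorLeft X).IsEquivalence ∧ (tensorRight X).IsEquivalence)
    (hD : ∀ X : D, (tensorLeft X).IsEquivalence ∧ (tensorRight X).IsEquivalence)
    (F : C ⥤ D) [F.LaxMonoidal] [F.EssSurj]
    (h0 : ∀ X Y : C, Nonempty (F.obj X ≅ F.obj Y) → Nonempty (X ≅ Y))
    (h1 : Function.Bijective (fun φ : 𝟙_ C ⟶ 𝟙_ C => F.map φ)) :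
    F.IsEquivalence := by
  have hA : ∀ (X : C) (ψ : X ⟶ X), F.map ψ = 𝟙 _ → ψ = 𝟙 X := by
    intro X ψ hψ
    have hX := (hC X).1
    have hFX := (hD (F.obj X)).1
    obtain ⟨φ, hφ⟩ : ∃ φ : 𝟙_ C ⟶ 𝟙_ C, X ◁ φ = (ρ_ X).hom ≫ ψ ≫ (ρ_ X).inv :=
      ⟨(tensorLeft X).preimage ((ρ_ X).hom ≫ ψ ≫ (ρ_ X).inv), (tensorLeft X).map_preimage _⟩
    have h2 : F.map (X ◁ φ) = 𝟙 _ := by
      rw [hφ, F.map_comp, F.map_comp, hψ, Category.id_comp, ← F.map_comp, Iso.hom_inv_id, F.map_id]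
    have h3 : F.obj X ◁ F.map φ = 𝟙 _ := by
      have h := Functor.LaxMonoidal.μ_natural_right F X φ
      rw [h2, Category.comp_id] at h
      exact (cancel_mono (Functor.LaxMonoidal.μ F X (𝟙_ C))).1 (by rw [h, Category.id_comp])
    have h4 : F.map φ = 𝟙 _ := by
      apply (tensorLeft (F.obj X)).map_injective
      change F.obj X ◁ F.map φ = F.obj X ◁ 𝟙 _
      rw [h3, MonoidalCategory.whiskerLeft_id]
    have h5 : φ = 𝟙 _ := h1.1 (by
      change F.map φ = F.map (𝟙 _)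
      rw [h4, F.map_id])
    rw [h5, MonoidalCategory.whiskerLeft_id] at hφ
    have h6 : ψ = (ρ_ X).inv ≫ ((ρ_ X).hom ≫ ψ ≫ (ρ_ X).inv) ≫ (ρ_ X).hom := by simp
    rw [h6, ← hφ]
    simp
  have hB : ∀ (X : C) (θ : F.obj X ⟶ F.obj X), ∃ ψ : X ⟶ X, F.map ψ = θ := by
    intro X θ
    have hX := (hC X).1
    have hFX := (hD (F.obj X)).1
    obtain ⟨m, hm⟩ : ∃ m : F.obj X ⊗ F.obj (𝟙_ C) ⟶ F.obj X,
        m = Functor.LaxMonoidal.μ F X (𝟙_ C) ≫ F.map (ρ_ X).hom := ⟨_, rfl⟩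
    obtain ⟨χ, hχ⟩ : ∃ χ : F.obj (𝟙_ C) ⟶ F.obj (𝟙_ C), F.obj X ◁ χ = m ≫ θ ≫ inv m :=
      ⟨(tensorLeft (F.obj X)).preimage (m ≫ θ ≫ inv m), (tensorLeft (F.obj X)).map_preimage _⟩
    obtain ⟨φ, hφ⟩ := h1.2 χ
    change F.map φ = χ at hφ
    refine ⟨(ρ_ X).inv ≫ (X ◁ φ) ≫ (ρ_ X).hom, ?_⟩
    have h := Functor.LaxMonoidal.μ_natural_right F X φ
    rw [hφ, hχ] at h
    have h2 : F.map (X ◁ φ) = inv (Functor.LaxMonoidal.μ F X (𝟙_ C)) ≫ (m ≫ θ ≫ inv m) ≫
        Functor.LaxMonoidal.μ F X (𝟙_ C) := by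
      rw [h, IsIso.inv_hom_id_assoc]
    rw [F.map_comp, F.map_comp, h2, hm]
    simp only [Category.assoc, IsIso.inv_comp, IsIso.inv_hom_id_assoc]
    rw [← F.map_inv, ← F.map_comp, ← F.map_comp_assoc]
    simp
  have hfaithful : F.Faithful := ⟨fun {X Y} f g hfg => by
    have h := hA X (f ≫ inv g) (by
      rw [F.map_comp, hfg, ← F.map_comp, IsIso.hom_inv_id, F.map_id])
    calc f = (f ≫ inv g) ≫ g := by simp
      _ = g := by rw [h, Category.id_comp]⟩
  have hfull : F.Full := ⟨fun {X Y} θ => by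
    obtain ⟨g⟩ := h0 X Y ⟨asIso θ⟩
    obtain ⟨ψ, hψ⟩ := hB X (θ ≫ inv (F.map g.hom))
    exact ⟨ψ ≫ g.hom, by
      rw [F.map_comp, hψ, Category.assoc, IsIso.inv_hom_id, Category.comp_id]⟩⟩
  exact { faithful := hfaithful, full := hfull, essSurj := inferInstance }

end Groth.Agent.S15285
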