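import Groth.Statements.S15295
import Groth.Agent.H16.ExtBC
import Groth.Agent.H16.DeRhamGen
-- import your own Groth.Agent.* helpers here

set_option autoImplicit false
universe u
open DeRham

namespace Groth.Agent.S15295

open exteriorPower TensorProduct in
/-- The de Rham complex commutes with base change. Let R → A and R → S be ring maps and B = S ⊗_R A (an
R-algebra over A and S with the pushout property), and let ψ be the induced map of de Rham complexes
from the p-forms of A over R to the p-forms of B over S (additive maps sending b₀ db₁ ∧ … ∧ db_p to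
g(b₀) d(g b₁) ∧ … ∧ d(g b_p), g : A → B the structure map). Then in each degree p the S-linear
extension S ⊗_R ⋀^p Ω_{A/R} → ⋀^p Ω_{B/S}, s ⊗ x ↦ s · ψ_p(x), is bijective. (This row states the
degreewise bijectivity, with the base change written S ⊗_R − rather than − ⊗_R S; the compatibility
of ψ with the differentials, which makes this an isomorphism of complexes, holds for any square of
ring maps.) -/
theorem result (R S A B : Type u) [CommRing R] [CommRing S] [CommRing A] [CommRing B]
    [Algebra R S] [Algebra R A] [Algebra R B] [Algebra A B] [Algebra S B]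
    [IsScalarTower R A B] [IsScalarTower R S B] [Algebra.IsPushout R S A B]
    (ψ : ∀ p : ℕ, ↥(⋀[A]^p (Ω[A⁄R])) →+ ↥(⋀[B]^p (Ω[B⁄S])))
    (hψ : DeRham.IsCxMap (KaehlerDifferential.D R A) (KaehlerDifferential.D S B) (algebraMap A B) ψ)
    (p : ℕ) (Φ : S ⊗[R] ↥(⋀[A]^p (Ω[A⁄R])) →+ ↥(⋀[B]^p (Ω[B⁄S])))
    (hΦ : ∀ (s : S) (x : ↥(⋀[A]^p (Ω[A⁄R]))), Φ (s ⊗ₜ[R] x) = s • ψ p x) :
    Function.Bijective Φ := by
  classical
  let e : B ⊗[A] (Ω[A⁄R]) ≃ₗ[B] Ω[B⁄S] := KaehlerDifferential.tensorKaehlerEquiv R S A B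
  let T : ↥(⋀[B]^p (B ⊗[A] (Ω[A⁄R]))) →ₗ[B] ↥(⋀[B]^p (Ω[B⁄S])) :=
    exteriorPower.map p e.toLinearMap
  let T' : ↥(⋀[B]^p (Ω[B⁄S])) →ₗ[B] ↥(⋀[B]^p (B ⊗[A] (Ω[A⁄R]))) :=
    exteriorPower.map p e.symm.toLinearMap
  have hTT' : ∀ y, T (T' y) = y := by
    intro y
    have h : T ∘ₗ T' = LinearMap.id := by
      show exteriorPower.map p e.toLinearMap ∘ₗ exteriorPower.map p e.symm.toLinearMap = _
      rw [← exteriorPower.map_comp]
      have : e.toLinearMap ∘ₗ e.symm.toLinearMap = LinearMap.id :=
        LinearMap.ext fun x => e.apply_symm_apply x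
      rw [this, exteriorPower.map_id]
    exact LinearMap.congr_fun h y
  have hT'T : ∀ y, T' (T y) = y := by
    intro y
    have h : T' ∘ₗ T = LinearMap.id := by
      show exteriorPower.map p e.symm.toLinearMap ∘ₗ exteriorPower.map p e.toLinearMap = _
      rw [← exteriorPower.map_comp]
      have : e.symm.toLinearMap ∘ₗ e.toLinearMap = LinearMap.id :=
        LinearMap.ext fun x => e.symm_apply_apply x
      rw [this, exteriorPower.map_id]
    exact LinearMap.congr_fun h y
  have hTbij : Function.Bijective T :=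
    ⟨Function.LeftInverse.injective hT'T, Function.RightInverse.surjective hTT'⟩
  have hψ' : ∀ x, ψ p x = T (Groth.Agent.H16.ExtBC.jLin A B (Ω[A⁄R]) p x) := by
    apply Groth.Agent.Helper16.gen_induction p
    · rw [map_zero, map_zero, map_zero]
    · intro x y hx hy
      rw [map_add, map_add, map_add, hx, hy]
    · intro b₀ b
      rw [hψ p b₀ b]
      unfold DeRham.gen
      rw [map_smul, Groth.Agent.H16.ExtBC.jLin_ιMulti, ← algebraMap_smul B b₀, map_smul]
      congr 1
      show _ = exteriorPower.map p e.toLinearMap _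
      rw [exteriorPower.map_apply_ιMulti]
      congr 1
      funext i
      show _ = KaehlerDifferential.tensorKaehlerEquiv R S A B
        ((1 : B) ⊗ₜ[A] KaehlerDifferential.D R A (b i))
      rw [KaehlerDifferential.tensorKaehlerEquiv_tmul_D, one_smul]
  let c := (Algebra.IsPushout.cancelBaseChange R S A B (↥(⋀[A]^p (Ω[A⁄R])))).symm
  have hΦ' : ∀ z, Φ z = T (Groth.Agent.H16.ExtBC.Psi A B (Ω[A⁄R]) p (c z)) := by
    intro z
    induction z using TensorProduct.induction_on with
    | zero => rw [map_zero, map_zero, map_zero, map_zero]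
    | add x y hx hy => rw [map_add, map_add, map_add, map_add, hx, hy]
    | tmul s x =>
      rw [hΦ, hψ']
      show _ = T (Groth.Agent.H16.ExtBC.Psi A B (Ω[A⁄R]) p
        ((Algebra.IsPushout.cancelBaseChange R S A B (↥(⋀[A]^p (Ω[A⁄R])))).symm (s ⊗ₜ[R] x)))
      rw [Algebra.IsPushout.cancelBaseChange_symm_tmul, Groth.Agent.H16.ExtBC.Psi_tmul, map_smul,
        algebraMap_smul]
  have hfun : (Φ : _ → _) = T ∘ (Groth.Agent.H16.ExtBC.Psi A B (Ω[A⁄R]) p) ∘ c := funext hΦ'
  rw [hfun]
  exact hTbij.comp ((Groth.Agent.H16.ExtBC.Psi_bijective A B (Ω[A⁄R]) p).comp c.bijective)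

end Groth.Agent.S15295
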