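import Groth.Statements.S15297
import Groth.Agent.H16.DeRhamGen
-- import your own Groth.Agent.* helpers here

set_option autoImplicit false
universe u
open DeRham

namespace Groth.Agent.S15297

open exteriorPower in
/-- Let R → A be a ring map and d a de Rham differential of the Kähler differentials of A over R. Then
each d from p-forms to (p+1)-forms, an R-linear map between A-modules, is a differential operator of
order at most 1 relative to R → A: every commutator of d with multiplication by an element of A is
A-linear. -/
theorem result (R A : Type u) [CommRing R] [CommRing A] [Algebra R A]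
    (d : ∀ p : ℕ, ↥(⋀[A]^p (Ω[A⁄R])) →ₗ[R] ↥(⋀[A]^(p + 1) (Ω[A⁄R])))
    (hd : DeRham.IsDiff (KaehlerDifferential.D R A) d) (p : ℕ) :
    Diff16.IsDiffOpLE R A ↥(⋀[A]^p (Ω[A⁄R])) ↥(⋀[A]^(p + 1) (Ω[A⁄R])) 1 (d p) := by
  intro a c m
  show (Diff16.commutator R A _ _ (d p) a) (c • m) = c • (Diff16.commutator R A _ _ (d p) a) m
  have hcomm : ∀ x : ↥(⋀[A]^p (Ω[A⁄R])),
      (Diff16.commutator R A _ _ (d p) a) x = d p (a • x) - a • d p x := fun x => rfl
  rw [hcomm, hcomm]
  revert m
  apply Groth.Agent.Helper16.gen_induction p
  · simp
  · intro x y hx hy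
    simp only [smul_add, map_add]
    have e1 : d p (a • c • x) + d p (a • c • y) - (a • d p (c • x) + a • d p (c • y)) =
        (d p (a • c • x) - a • d p (c • x)) + (d p (a • c • y) - a • d p (c • y)) := by abel
    have e2 : c • (d p (a • x) + d p (a • y) - (a • d p x + a • d p y)) =
        c • (d p (a • x) - a • d p x) + c • (d p (a • y) - a • d p y) := by
      simp only [smul_sub, smul_add]; abel
    rw [e1, e2, hx, hy]
  · intro b₀ b
    have hW : ∀ (x₀ : A), d p (DeRham.gen (KaehlerDifferential.D R A) p x₀ b) =
        exteriorPower.ιMulti A (p + 1) (Fin.cons (KaehlerDifferential.D R A x₀)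
          (fun i => KaehlerDifferential.D R A (b i))) := fun x₀ => hd.1 p x₀ b
    have hL : ∀ (x y : A), exteriorPower.ιMulti A (p + 1) (Fin.cons (KaehlerDifferential.D R A (x * y))
          (fun i => KaehlerDifferential.D R A (b i))) =
        x • exteriorPower.ιMulti A (p + 1) (Fin.cons (KaehlerDifferential.D R A y)
          (fun i => KaehlerDifferential.D R A (b i))) +
        y • exteriorPower.ιMulti A (p + 1) (Fin.cons (KaehlerDifferential.D R A x)
          (fun i => KaehlerDifferential.D R A (b i))) := by
      intro x y
      rw [Derivation.leibniz]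
      have h1 := (exteriorPower.ιMulti A (p + 1) (M := Ω[A⁄R])).toMultilinearMap.cons_add
        (fun i => KaehlerDifferential.D R A (b i)) (x • KaehlerDifferential.D R A y)
        (y • KaehlerDifferential.D R A x)
      have h2 := (exteriorPower.ιMulti A (p + 1) (M := Ω[A⁄R])).toMultilinearMap.cons_smul
        (fun i => KaehlerDifferential.D R A (b i)) x (KaehlerDifferential.D R A y)
      have h3 := (exteriorPower.ιMulti A (p + 1) (M := Ω[A⁄R])).toMultilinearMap.cons_smul
        (fun i => KaehlerDifferential.D R A (b i)) y (KaehlerDifferential.D R A x)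
      simp only [AlternatingMap.coe_multilinearMap] at h1 h2 h3
      rw [h1, h2, h3]
    rw [Groth.Agent.Helper16.smul_gen, Groth.Agent.Helper16.smul_gen, Groth.Agent.Helper16.smul_gen,
      hW, hW, hW, hW, hL a (c * b₀), hL a b₀, add_sub_cancel_left, add_sub_cancel_left, smul_smul]

end Groth.Agent.S15297
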