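import Groth.Statements.S15298
import Mathlib
import Groth.Agent.Lib.Helper4.CDVR

set_option autoImplicit false
universe u
open CAlg

namespace Groth.Agent.S15298

/-- Let k be a field, A a Noetherian k-algebra and x a non-zero-divisor of A such that A is separated
and complete for the (x)-adic topology, and assume that B = A/xA is formally smooth over k. Then A
is a power series ring over B in the variable x: there is a k-algebra isomorphism e : B[[T]] ≅ A
with e(T) = x whose reduction modulo x is the constant-coefficient map, i.e. e(f) ≡ f(0) mod x for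
every power series f. -/
theorem result (k A : Type u) [Field k]
    [CommRing A] [Algebra k A] [IsNoetherianRing A] (x : A) (hx : x ∈ nonZeroDivisors A)
    [IsAdicComplete (Ideal.span {x}) A] [Algebra.FormallySmooth k (A ⧸ Ideal.span {x})] :
    ∃ e : PowerSeries (A ⧸ Ideal.span {x}) ≃ₐ[k] A,
      e PowerSeries.X = x ∧
      ∀ f : PowerSeries (A ⧸ Ideal.span {x}),
        Ideal.Quotient.mk (Ideal.span {x}) (e f) = PowerSeries.constantCoeff f := by
  classical
  -- a section of the projection
  obtain ⟨σ, hσ⟩ := Algebra.FormallySmooth.exists_mkₐ_comp_eq_of_isAdicComplete (R := k)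
    (A := A ⧸ Ideal.span {x}) (S := A) (I := Ideal.span {x}) (AlgHom.id k (A ⧸ Ideal.span {x}))
  have hσ' : ∀ b : A ⧸ Ideal.span {x}, Ideal.Quotient.mk (Ideal.span {x}) (σ b) = b := by
    intro b
    have h1 := congrArg (fun g => g b) hσ
    exact h1
  letI : Algebra (A ⧸ Ideal.span {x}) A := σ.toRingHom.toAlgebra
  have halg : ∀ b : A ⧸ Ideal.span {x}, algebraMap (A ⧸ Ideal.span {x}) A b = σ b := fun b => rfl
  have hxI : x ∈ Ideal.span {x} := Ideal.mem_span_singleton_self x
  obtain ⟨φ, hφ⟩ := Groth.Agent.Helper4.exists_powerSeries_algHom_of_complete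
    (A ⧸ Ideal.span {x}) A (Ideal.span {x}) x hxI
  have hφC : ∀ b : A ⧸ Ideal.span {x}, φ (PowerSeries.C b) = σ b := by
    intro b
    rw [← PowerSeries.algebraMap_eq, φ.commutes, halg]
  have hconst : ∀ f : PowerSeries (A ⧸ Ideal.span {x}),
      Ideal.Quotient.mk (Ideal.span {x}) (φ f) = PowerSeries.constantCoeff f := by
    intro f
    have h1 := Groth.Agent.Helper4.powerSeries_algHom_approx (Ideal.span {x}) x hxI φ hφ f 1
    rw [Finset.sum_range_one, pow_zero, mul_one, pow_one, ← Ideal.Quotient.eq, halg] at h1
    rw [h1, hσ', PowerSeries.coeff_zero_eq_constantCoeff_apply]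
  have hImap : (Ideal.span {(PowerSeries.X : PowerSeries (A ⧸ Ideal.span {x}))}).map φ.toRingHom =
      Ideal.span {x} := by
    rw [Ideal.map_span, Set.image_singleton]
    have h1 : φ.toRingHom PowerSeries.X = x := hφ
    rw [h1]
  have hsurj : Function.Surjective φ := by
    have : IsHausdorff ((Ideal.span
        {(PowerSeries.X : PowerSeries (A ⧸ Ideal.span {x}))}).map φ.toRingHom) A := by
      rw [hImap]
      infer_instance
    have h1 : Function.Surjective φ.toRingHom := by
      apply surjective_of_mk_map_comp_surjective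
        (I := Ideal.span {(PowerSeries.X : PowerSeries (A ⧸ Ideal.span {x}))})
      intro y
      obtain ⟨a, rfl⟩ := Ideal.Quotient.mk_surjective y
      refine ⟨PowerSeries.C (Ideal.Quotient.mk (Ideal.span {x}) a), ?_⟩
      rw [RingHom.comp_apply, Ideal.Quotient.eq, hImap]
      have h2 : φ.toRingHom (PowerSeries.C (Ideal.Quotient.mk (Ideal.span {x}) a)) =
          σ (Ideal.Quotient.mk (Ideal.span {x}) a) := hφC _
      rw [h2, ← Ideal.Quotient.eq, hσ']
    exact h1
  have hinj : Function.Injective φ := by
    rw [injective_iff_map_eq_zero]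
    intro f hf
    by_contra hne
    have hex : ∃ n, PowerSeries.coeff n f ≠ 0 := by
      by_contra hcon
      push Not at hcon
      apply hne
      ext n
      rw [hcon n, map_zero]
    obtain ⟨hn, hmin⟩ : PowerSeries.coeff (Nat.find hex) f ≠ 0 ∧
        ∀ m < Nat.find hex, PowerSeries.coeff m f = 0 :=
      ⟨Nat.find_spec hex, fun m hm => not_not.mp (Nat.find_min hex hm)⟩
    obtain ⟨g, hg⟩ := PowerSeries.X_pow_dvd_iff.mpr hmin
    have hg0 : PowerSeries.constantCoeff g ≠ 0 := by
      have h1 := PowerSeries.coeff_X_pow_mul g (Nat.find hex) 0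
      rw [zero_add, ← hg] at h1
      rw [← PowerSeries.coeff_zero_eq_constantCoeff_apply, ← h1]
      exact hn
    rw [hg, map_mul, map_pow, hφ] at hf
    have hxn : x ^ (Nat.find hex) ∈ nonZeroDivisors A := pow_mem hx _
    have hφg : φ g = 0 := by
      apply (mem_nonZeroDivisors_iff.mp hxn).2
      rw [mul_comm]
      exact hf
    apply hg0
    rw [← hconst, hφg, map_zero]
  -- the `k`-algebra equivalence
  let φk : PowerSeries (A ⧸ Ideal.span {x}) →ₐ[k] A :=
    { φ.toRingHom with
      commutes' := by
        intro c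
        change φ (algebraMap k (PowerSeries (A ⧸ Ideal.span {x})) c) = algebraMap k A c
        rw [PowerSeries.algebraMap_apply, hφC, σ.commutes] }
  refine ⟨AlgEquiv.ofBijective φk ⟨hinj, hsurj⟩, hφ, hconst⟩

end Groth.Agent.S15298
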