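import Groth.Statements.S15299
import Groth.Agent.H16.PN3
-- import your own Groth.Agent.* helpers here

set_option autoImplicit false
universe u
open Omega

namespace Groth.Agent.S15299

/-- Let k be a field of characteristic zero, A = k[x_1, …, x_n] and Ω = Ω_{A/k}. Let d be a k-linear
endomorphism of the exterior algebra ⋀_A Ω which agrees with the universal derivation on A, sends
⋀^p Ω into ⋀^(p+1) Ω, is a graded derivation and satisfies d ∘ d = 0 (these properties characterise
the de Rham differential). Then the de Rham complex 0 → k → A → Ω → ⋀^2 Ω → ⋯ → ⋀^n Ω → 0 is exact: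
an element of A with d a = 0 is a constant, and every d-closed element of ⋀^(p+1) Ω is d of some
element of ⋀^p Ω. -/
theorem result (k : Type u) [Field k] [CharZero k] (n : ℕ)
    (d : ExteriorAlgebra (MvPolynomial (Fin n) k) (KaehlerDifferential k (MvPolynomial (Fin n) k)) →ₗ[k]
      ExteriorAlgebra (MvPolynomial (Fin n) k) (KaehlerDifferential k (MvPolynomial (Fin n) k)))
    (h0 : ∀ a : MvPolynomial (Fin n) k,
      d (algebraMap (MvPolynomial (Fin n) k) _ a) =
        ExteriorAlgebra.ι (MvPolynomial (Fin n) k) (KaehlerDifferential.D k (MvPolynomial (Fin n) k) a))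
    (hdeg : ∀ (p : ℕ) (ω : ExteriorAlgebra (MvPolynomial (Fin n) k) (KaehlerDifferential k (MvPolynomial (Fin n) k))),
      ω ∈ ExteriorAlgebra.exteriorPower (MvPolynomial (Fin n) k) p (KaehlerDifferential k (MvPolynomial (Fin n) k)) →
        d ω ∈ ExteriorAlgebra.exteriorPower (MvPolynomial (Fin n) k) (p + 1) (KaehlerDifferential k (MvPolynomial (Fin n) k)))
    (hder : ∀ (p : ℕ) (ω η : ExteriorAlgebra (MvPolynomial (Fin n) k) (KaehlerDifferential k (MvPolynomial (Fin n) k))),
      ω ∈ ExteriorAlgebra.exteriorPower (MvPolynomial (Fin n) k) p (KaehlerDifferential k (MvPolynomial (Fin n) k)) →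
        d (ω * η) = d ω * η + (-1) ^ p * ω * d η)
    (hdd : ∀ ω, d (d ω) = 0) :
    (∀ a : MvPolynomial (Fin n) k, d (algebraMap (MvPolynomial (Fin n) k) _ a) = 0 →
        ∃ c : k, a = MvPolynomial.C c) ∧
    ∀ (p : ℕ) (ω : ExteriorAlgebra (MvPolynomial (Fin n) k) (KaehlerDifferential k (MvPolynomial (Fin n) k))),
      ω ∈ ExteriorAlgebra.exteriorPower (MvPolynomial (Fin n) k) (p + 1) (KaehlerDifferential k (MvPolynomial (Fin n) k)) →
        d ω = 0 →
          ∃ θ ∈ ExteriorAlgebra.exteriorPower (MvPolynomial (Fin n) k) p (KaehlerDifferential k (MvPolynomial (Fin n) k)),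
            d θ = ω := by
  constructor
  · intro a ha
    rw [h0] at ha
    have hinj := ExteriorAlgebra.ι_leftInverse (R := MvPolynomial (Fin n) k)
      (M := KaehlerDifferential k (MvPolynomial (Fin n) k))
    have hD : KaehlerDifferential.D k (MvPolynomial (Fin n) k) a = 0 := by
      have h1 := congrArg (ExteriorAlgebra.ιInv (R := MvPolynomial (Fin n) k)
        (M := KaehlerDifferential k (MvPolynomial (Fin n) k))) ha
      rw [hinj, map_zero] at h1
      exact h1
    exact Groth.Agent.H16.PM.const_of_D_eq_zero a hD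
  · intro p ω hω hcl
    have hdiff := Groth.Agent.H16.PM.dP_isDiff d h0 hdeg hder hdd
    have hpo := Groth.Agent.H16.PM.poincare (Groth.Agent.H16.PM.dP d hdeg) hdiff p
    have hmem : (⟨ω, hω⟩ : ↥(⋀[MvPolynomial (Fin n) k]^(p + 1)
        (Ω[MvPolynomial (Fin n) k⁄k]))) ∈ DeRham.cocycles (Groth.Agent.H16.PM.dP d hdeg) (p + 1) := by
      show Groth.Agent.H16.PM.dP d hdeg (p + 1) ⟨ω, hω⟩ = 0
      apply Subtype.ext
      exact hcl
    obtain ⟨θ, hθ⟩ := hpo hmem
    refine ⟨θ.1, θ.2, ?_⟩
    have := congrArg Subtype.val hθ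
    exact this

end Groth.Agent.S15299
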