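import Groth.Statements.S15300
import Mathlib
import Groth.Agent.S2370
import Groth.Agent.S14617

set_option autoImplicit false
universe u
open HomAlg3

namespace Groth.Agent.S15300

section helpers

open CategoryTheory CategoryTheory.Limits Opposite
open Groth.Agent.S2370

/-! ### generalities on towers -/

theorem towerDiff_surj (G : ℕ → Type u) [∀ n, AddCommGroup (G n)] (t : ∀ n, G (n + 1) →+ G n)
    (ht : ∀ n, Function.Surjective (t n)) : Function.Surjective (Formal2.towerDiff G t) := by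
  intro y
  let x : ∀ n, G n := fun n => Nat.rec (motive := fun n => G n) 0
    (fun n xn => Classical.choose (ht n (xn - y n))) n
  refine ⟨x, ?_⟩
  funext n
  have h1 : t n (x (n + 1)) = x n - y n := Classical.choose_spec (ht n (x n - y n))
  show x n - t n (x (n + 1)) = y n
  rw [h1, sub_sub_cancel]

theorem limOne_eq_zero (G : ℕ → Type u) [∀ n, AddCommGroup (G n)] (t : ∀ n, G (n + 1) →+ G n)
    (ht : ∀ n, Function.Surjective (t n)) (c : Formal2.limOne G t) : c = 0 := by
  obtain ⟨y, rfl⟩ := QuotientAddGroup.mk_surjective c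
  obtain ⟨x, hx⟩ := towerDiff_surj G t ht y
  exact (QuotientAddGroup.eq_zero_iff y).mpr ⟨x, hx⟩

theorem limZero_compat (G : ℕ → Type u) [∀ n, AddCommGroup (G n)] (t : ∀ n, G (n + 1) →+ G n)
    (y : ∀ n, G n) (hy : y ∈ Formal2.limZero G t) (n : ℕ) : t n (y (n + 1)) = y n := by
  have h1 : Formal2.towerDiff G t y = 0 := AddMonoidHom.mem_ker.mp hy
  have h2 : y n - t n (y (n + 1)) = 0 := congrFun h1 n
  exact (sub_eq_zero.mp h2).symm

theorem limZero_mem (G : ℕ → Type u) [∀ n, AddCommGroup (G n)] (t : ∀ n, G (n + 1) →+ G n)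
    (y : ∀ n, G n) (hy : ∀ n, t n (y (n + 1)) = y n) : y ∈ Formal2.limZero G t := by
  apply AddMonoidHom.mem_ker.mpr
  funext n
  show y n - t n (y (n + 1)) = 0
  rw [hy n, sub_self]

noncomputable def limZeroMap {G G' : ℕ → Type u} [∀ n, AddCommGroup (G n)] [∀ n, AddCommGroup (G' n)]
    (t : ∀ n, G (n + 1) →+ G n) (t' : ∀ n, G' (n + 1) →+ G' n) (u : ∀ n, G n →+ G' n)
    (hu : ∀ n x, t' n (u (n + 1) x) = u n (t n x)) :
    Formal2.limZero G t →+ Formal2.limZero G' t' :=
  AddMonoidHom.codRestrict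
    ((AddMonoidHom.pi (fun n => (u n).comp (Pi.evalAddMonoidHom G n))).comp
      (Formal2.limZero G t).subtype)
    (Formal2.limZero G' t')
    (fun x => limZero_mem G' t' _ (fun n => by
      show t' n (u (n + 1) (x.1 (n + 1))) = u n (x.1 n)
      rw [hu, limZero_compat G t x.1 x.2 n]))

theorem step_b (G' G G'' : ℕ → Type u)
    [∀ n, AddCommGroup (G' n)] [∀ n, AddCommGroup (G n)] [∀ n, AddCommGroup (G'' n)]
    (t' : ∀ n, G' (n + 1) →+ G' n) (t : ∀ n, G (n + 1) →+ G n) (t'' : ∀ n, G'' (n + 1) →+ G'' n)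
    (u : ∀ n, G' n →+ G n) (v : ∀ n, G n →+ G'' n)
    (hu : ∀ n x, t n (u (n + 1) x) = u n (t' n x)) (hv : ∀ n x, t'' n (v (n + 1) x) = v n (t n x))
    (hinj : ∀ n, Function.Injective (u n)) (hsurj : ∀ n, Function.Surjective (v n))
    (hex : ∀ n, (v n).ker = (u n).range)
    (ht : ∀ n, Function.Surjective (t n)) :
    ∃ (β : Formal2.limZero G t →+ Formal2.limZero G'' t''),
      (∀ (x : Formal2.limZero G t) (n : ℕ), (β x : ∀ n, G'' n) n = v n ((x : ∀ n, G n) n)) ∧
      Nonempty ((Formal2.limZero G'' t'' ⧸ β.range) ≃+ Formal2.limOne G' t') := by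
  obtain ⟨α, β, δ, ε, ζ, hα, hβ, hδ, hε, hζ, hαi, h1, h2, h3, h4, h5⟩ :=
    Groth.Agent.S14617.result G' G G'' t' t t'' u v hu hv hinj hsurj hex
  refine ⟨β, hβ, ?_⟩
  have hδs : Function.Surjective δ := by
    intro c
    have hc : c ∈ ε.ker := by
      rw [AddMonoidHom.mem_ker]
      exact limOne_eq_zero G t ht _
    rw [← h3] at hc
    exact AddMonoidHom.mem_range.mp hc
  exact ⟨(QuotientAddGroup.quotientAddEquivOfEq h2).trans
    (QuotientAddGroup.quotientKerEquivOfSurjective δ hδs)⟩

theorem step_c (G' G G'' : ℕ → Type u)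
    [∀ n, AddCommGroup (G' n)] [∀ n, AddCommGroup (G n)] [∀ n, AddCommGroup (G'' n)]
    (t' : ∀ n, G' (n + 1) →+ G' n) (t : ∀ n, G (n + 1) →+ G n) (t'' : ∀ n, G'' (n + 1) →+ G'' n)
    (u : ∀ n, G' n →+ G n) (v : ∀ n, G n →+ G'' n)
    (hu : ∀ n x, t n (u (n + 1) x) = u n (t' n x)) (hv : ∀ n x, t'' n (v (n + 1) x) = v n (t n x))
    (hinj : ∀ n, Function.Injective (u n)) (hsurj : ∀ n, Function.Surjective (v n))
    (hex : ∀ n, (v n).ker = (u n).range)
    (ht' : ∀ n, Function.Surjective (t' n)) :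
    Nonempty (Formal2.limOne G t ≃+ Formal2.limOne G'' t'') := by
  obtain ⟨α, β, δ, ε, ζ, hα, hβ, hδ, hε, hζ, hαi, h1, h2, h3, h4, h5⟩ :=
    Groth.Agent.S14617.result G' G G'' t' t t'' u v hu hv hinj hsurj hex
  refine ⟨AddEquiv.ofBijective ζ ⟨?_, h5⟩⟩
  rw [injective_iff_map_eq_zero]
  intro c hc
  have hc' : c ∈ ε.range := by
    rw [h4]
    exact AddMonoidHom.mem_ker.mpr hc
  obtain ⟨c', rfl⟩ := AddMonoidHom.mem_range.mp hc'
  rw [limOne_eq_zero G' t' ht' c', map_zero]

/-! ### towers from functors on `ℕᵒᵖ` -/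

abbrev fam (A : ℕᵒᵖ ⥤ AddCommGrpCat.{u}) (n : ℕ) : Type u := A.obj (op n)

abbrev tr (A : ℕᵒᵖ ⥤ AddCommGrpCat.{u}) (n : ℕ) : fam A (n + 1) →+ fam A n :=
  (A.map (homOfLE (Nat.le_succ n)).op).hom

theorem compat_aux (A : ℕᵒᵖ ⥤ AddCommGrpCat.{u}) (s : ∀ n, fam A n)
    (hs : ∀ n, tr A n (s (n + 1)) = s n) :
    ∀ (k b : ℕ) (f : op (b + k) ⟶ op b), (A.map f).hom (s (b + k)) = s b := by
  intro k
  induction k with
  | zero =>
    intro b f
    have hf : f = 𝟙 _ := Subsingleton.elim _ _
    rw [hf, A.map_id]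
    rfl
  | succ k ih =>
    intro b f
    have hf : f = (homOfLE (Nat.le_succ (b + k))).op ≫ (homOfLE (Nat.le_add_right b k)).op :=
      Subsingleton.elim _ _
    rw [hf, A.map_comp]
    have h1 : (A.map (homOfLE (Nat.le_succ (b + k))).op).hom (s (b + k + 1)) = s (b + k) :=
      hs (b + k)
    exact (congrArg (A.map (homOfLE (Nat.le_add_right b k)).op).hom h1).trans (ih b _)

theorem compat_all (A : ℕᵒᵖ ⥤ AddCommGrpCat.{u}) (s : ∀ n, fam A n)
    (hs : ∀ n, tr A n (s (n + 1)) = s n) {i j : ℕᵒᵖ} (f : i ⟶ j) :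
    (A.map f).hom (s i.unop) = s j.unop := by
  obtain ⟨a⟩ := i
  obtain ⟨b⟩ := j
  have hle : b ≤ a := f.unop.le
  obtain ⟨k, rfl⟩ := Nat.exists_eq_add_of_le hle
  exact compat_aux A s hs k b f

theorem surj_aux (A : ℕᵒᵖ ⥤ AddCommGrpCat.{u}) (hA : ∀ n, Function.Surjective (tr A n)) :
    ∀ (k b : ℕ) (f : op (b + k) ⟶ op b), Function.Surjective (A.map f).hom := by
  intro k
  induction k with
  | zero =>
    intro b f
    have hf : f = 𝟙 _ := Subsingleton.elim _ _
    rw [hf, A.map_id]
    exact fun x => ⟨x, rfl⟩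
  | succ k ih =>
    intro b f
    have hf : f = (homOfLE (Nat.le_succ (b + k))).op ≫ (homOfLE (Nat.le_add_right b k)).op :=
      Subsingleton.elim _ _
    rw [hf, A.map_comp]
    intro y
    obtain ⟨x1, h1⟩ := ih b (homOfLE (Nat.le_add_right b k)).op y
    obtain ⟨x2, h2⟩ := hA (b + k) x1
    exact ⟨x2, (congrArg (A.map (homOfLE (Nat.le_add_right b k)).op).hom h2).trans h1⟩

theorem surj_all (A : ℕᵒᵖ ⥤ AddCommGrpCat.{u}) (hA : ∀ n, Function.Surjective (tr A n))
    {i j : ℕᵒᵖ} (f : i ⟶ j) : Function.Surjective (A.map f).hom := by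
  obtain ⟨a⟩ := i
  obtain ⟨b⟩ := j
  have hle : b ≤ a := f.unop.le
  obtain ⟨k, rfl⟩ := Nat.exists_eq_add_of_le hle
  exact surj_aux A hA k b f

/-! ### the tower of complexes -/

variable (K : ℕᵒᵖ ⥤ Cx.{u})

theorem Bs_tr_surj
    (hK : ∀ (n : ℕ) (q : ℤ), Function.Surjective ((K.map (homOfLE (Nat.le_succ n)).op).f q).hom)
    (q : ℤ) (n : ℕ) : Function.Surjective (tr (Bs K q) n) := by
  intro b
  obtain ⟨x, hx⟩ := hv1 K (q - 1) q (by omega) (op n) b
  obtain ⟨x', hx'⟩ := hK n (q - 1) x
  refine ⟨((dB K (q - 1) q).app (op (n + 1))).hom x', ?_⟩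
  have h1 := G68.nat_apply (dB K (q - 1) q) (homOfLE (Nat.le_succ n)).op x'
  have h2 : ((Xs K (q - 1)).map (homOfLE (Nat.le_succ n)).op).hom x' = x := hx'
  rw [h2, hx] at h1
  exact h1

theorem cyc_ext (p : ℤ) (z z' : (limit K).cycles p)
    (h : ∀ n : ℕ, (HomologicalComplex.cyclesMap (limit.π K (op n)) p).hom z =
      (HomologicalComplex.cyclesMap (limit.π K (op n)) p).hom z') : z = z' := by
  apply iCycles_injective (limit K) p
  apply L_ext K p
  intro i
  obtain ⟨n⟩ := i
  have e : ∀ w : (limit K).cycles p,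
      ((limit.π K (op n)).f p).hom (((limit K).iCycles p).hom w) =
        ((K.obj (op n)).iCycles p).hom
          ((HomologicalComplex.cyclesMap (limit.π K (op n)) p).hom w) :=
    fun w => (hom_congr_apply (HomologicalComplex.cyclesMap_i (limit.π K (op n)) p) w).symm
  rw [e, e, h n]

theorem cyc_lift (p : ℤ) (y : ∀ n, fam (Zs K p) n)
    (hy : ∀ n, tr (Zs K p) n (y (n + 1)) = y n) :
    ∃ zL : (limit K).cycles p,
      ∀ n : ℕ, (HomologicalComplex.cyclesMap (limit.π K (op n)) p).hom zL = y n := by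
  have hx : ∀ n, tr (Xs K p) n (((K.obj (op (n + 1))).iCycles p).hom (y (n + 1))) =
      ((K.obj (op n)).iCycles p).hom (y n) := by
    intro n
    rw [← hy n]
    exact (hom_congr_apply
      (HomologicalComplex.cyclesMap_i (K.map (homOfLE (Nat.le_succ n)).op) p) (y (n + 1))).symm
  obtain ⟨xL, hxL⟩ := L_exists K p (fun i => ((K.obj (op i.unop)).iCycles p).hom (y i.unop))
    (fun {i j} f => compat_all (Xs K p) (fun n => ((K.obj (op n)).iCycles p).hom (y n)) hx f)
  have hxL' : ∀ n : ℕ, ((limit.π K (op n)).f p).hom xL = ((K.obj (op n)).iCycles p).hom (y n) :=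
    fun n => hxL (op n)
  have hdx : ((limit K).d p (p + 1)).hom xL = 0 := by
    apply L_ext K (p + 1)
    intro i
    obtain ⟨n⟩ := i
    rw [map_zero]
    have e1 : ((limit.π K (op n)).f (p + 1)).hom (((limit K).d p (p + 1)).hom xL) =
        ((K.obj (op n)).d p (p + 1)).hom (((limit.π K (op n)).f p).hom xL) :=
      (hom_congr_apply ((limit.π K (op n)).comm p (p + 1)) xL).symm
    rw [e1, hxL' n]
    exact hom_congr_apply ((K.obj (op n)).iCycles_d p (p + 1)) (y n)
  obtain ⟨zL, hzL⟩ := exists_cycle (limit K) p (p + 1) rfl xL hdx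
  refine ⟨zL, fun n => ?_⟩
  apply iCycles_injective (K.obj (op n)) p
  rw [← hxL' n, ← hzL]
  exact hom_congr_apply (HomologicalComplex.cyclesMap_i (limit.π K (op n)) p) zL

noncomputable def Rmap (p : ℤ) :
    (limit K).cycles p →+ Formal2.limZero (fam (Zs K p)) (tr (Zs K p)) :=
  AddMonoidHom.codRestrict
    (AddMonoidHom.pi (fun n => (HomologicalComplex.cyclesMap (limit.π K (op n)) p).hom) :
      (limit K).cycles p →+ ∀ n, fam (Zs K p) n)
    (Formal2.limZero (fam (Zs K p)) (tr (Zs K p)))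
    (fun z => limZero_mem _ _ _ (fun n => by
      show (HomologicalComplex.cyclesMap (K.map (homOfLE (Nat.le_succ n)).op) p).hom
        ((HomologicalComplex.cyclesMap (limit.π K (op (n + 1))) p).hom z) =
          (HomologicalComplex.cyclesMap (limit.π K (op n)) p).hom z
      rw [← comp_hom_apply, ← HomologicalComplex.cyclesMap_comp, limit.w]))

theorem Rmap_bij (p : ℤ) : Function.Bijective (Rmap K p) := by
  constructor
  · intro z z' h
    apply cyc_ext K p
    intro n
    exact congrFun (congrArg Subtype.val h) n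
  · intro y
    obtain ⟨zL, hzL⟩ := cyc_lift K p y.1 (fun n => limZero_compat _ _ y.1 y.2 n)
    exact ⟨zL, Subtype.ext (funext hzL)⟩

noncomputable def E (p : ℤ) :
    (limit K).cycles p ≃+ Formal2.limZero (fam (Zs K p)) (tr (Zs K p)) :=
  AddEquiv.ofBijective (Rmap K p) (Rmap_bij K p)

theorem E_symm_spec (p : ℤ) (y : Formal2.limZero (fam (Zs K p)) (tr (Zs K p))) (n : ℕ) :
    (HomologicalComplex.cyclesMap (limit.π K (op n)) p).hom ((E K p).symm y) = y.1 n := by
  have h := (E K p).apply_symm_apply y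
  exact congrFun (congrArg Subtype.val h) n

noncomputable def inclBZ (p : ℤ) :
    Formal2.limZero (fam (Bs K p)) (tr (Bs K p)) →+ Formal2.limZero (fam (Zs K p)) (tr (Zs K p)) :=
  limZeroMap (tr (Bs K p)) (tr (Zs K p)) (fun n => ((jB K p).app (op n)).hom)
    (fun n x => G68.nat_apply (jB K p) (homOfLE (Nat.le_succ n)).op x)

noncomputable def zOf (p : ℤ) (b : Formal2.limZero (fam (Bs K p)) (tr (Bs K p))) :
    (limit K).cycles p := (E K p).symm (inclBZ K p b)

theorem zOf_spec (p : ℤ) (b : Formal2.limZero (fam (Bs K p)) (tr (Bs K p))) (n : ℕ) :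
    (HomologicalComplex.cyclesMap (limit.π K (op n)) p).hom (zOf K p b) = (b.1 n).1 :=
  E_symm_spec K p (inclBZ K p b) n

noncomputable def Lam0 (p : ℤ) :
    Formal2.limZero (fam (Bs K p)) (tr (Bs K p)) →+ (limit K).homology p :=
  ((limit K).homologyπ p).hom.comp ((E K p).symm.toAddMonoidHom.comp (inclBZ K p))

theorem Lam0_apply (p : ℤ) (b : Formal2.limZero (fam (Bs K p)) (tr (Bs K p))) :
    Lam0 K p b = ((limit K).homologyπ p).hom (zOf K p b) := rfl

theorem post_ker_iff (p : ℤ) (h : (limit K).homology p) :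
    h ∈ (limit.post K (HomologicalComplex.homologyFunctor AddCommGrpCat.{u}
        (ComplexShape.up ℤ) p)).hom.ker ↔
      ∀ n : ℕ, (HomologicalComplex.homologyMap (limit.π K (op n)) p).hom h = 0 := by
  constructor
  · intro hh' n
    have hh := AddMonoidHom.mem_ker.mp hh'
    have h3 := hom_congr_apply
      (limit.post_π K (HomologicalComplex.homologyFunctor _ _ p) (op n)) h
    have h5 : (limit.π (Hs K p) (op n)).hom
        ((limit.post K (HomologicalComplex.homologyFunctor _ _ p)).hom h) = 0 :=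
      (congrArg (limit.π (Hs K p) (op n)).hom hh).trans (map_zero _)
    exact h3.symm.trans h5
  · intro hh
    apply AddMonoidHom.mem_ker.mpr
    apply Concrete.limit_ext
    intro i
    obtain ⟨n⟩ := i
    have h3 := hom_congr_apply
      (limit.post_π K (HomologicalComplex.homologyFunctor _ _ p) (op n)) h
    exact h3.trans ((hh n).trans (map_zero _).symm)

theorem homologyMap_π_apply (p : ℤ) (n : ℕ) (z : (limit K).cycles p) :
    (HomologicalComplex.homologyMap (limit.π K (op n)) p).hom (((limit K).homologyπ p).hom z) =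
      ((K.obj (op n)).homologyπ p).hom
        ((HomologicalComplex.cyclesMap (limit.π K (op n)) p).hom z) :=
  hom_congr_apply (HomologicalComplex.homologyπ_naturality (limit.π K (op n)) p) z

theorem Lam0_mem (p : ℤ) (b : Formal2.limZero (fam (Bs K p)) (tr (Bs K p))) :
    Lam0 K p b ∈ (limit.post K (HomologicalComplex.homologyFunctor AddCommGrpCat.{u}
        (ComplexShape.up ℤ) p)).hom.ker := by
  rw [post_ker_iff]
  intro n
  rw [Lam0_apply, homologyMap_π_apply, zOf_spec]
  exact (b.1 n).2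

theorem π_compat (q : ℤ) (n : ℕ) (xL : (limit K).X q) :
    tr (Xs K q) n (((limit.π K (op (n + 1))).f q).hom xL) = ((limit.π K (op n)).f q).hom xL := by
  have h := congrArg (fun φ : limit K ⟶ K.obj (op n) => (φ.f q).hom xL)
    (limit.w K (homOfLE (Nat.le_succ n)).op)
  exact h

theorem exists_Lambda (p q : ℤ) (hqp : q + 1 = p)
    (β : Formal2.limZero (fam (Xs K q)) (tr (Xs K q)) →+
      Formal2.limZero (fam (Bs K p)) (tr (Bs K p)))
    (hβ : ∀ (x : Formal2.limZero (fam (Xs K q)) (tr (Xs K q))) (n : ℕ),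
      (β x : ∀ n, fam (Bs K p) n) n =
        ((dB K q p).app (op n)).hom ((x : ∀ n, fam (Xs K q) n) n)) :
    ∃ Λ : Formal2.limZero (fam (Bs K p)) (tr (Bs K p)) →+
        (limit.post K (HomologicalComplex.homologyFunctor AddCommGrpCat.{u}
          (ComplexShape.up ℤ) p)).hom.ker,
      Function.Surjective Λ ∧ Λ.ker = β.range := by
  refine ⟨(Lam0 K p).codRestrict _ (Lam0_mem K p), ?_, ?_⟩
  · rintro ⟨h, hh⟩
    obtain ⟨zL, rfl⟩ := homologyπ_surjective (limit K) p h
    have hmem : ∀ n : ℕ, (HomologicalComplex.cyclesMap (limit.π K (op n)) p).hom zL ∈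
        ((K.obj (op n)).homologyπ p).hom.ker := by
      intro n
      rw [AddMonoidHom.mem_ker, ← homologyMap_π_apply]
      exact (post_ker_iff K p _).mp hh n
    let b : ∀ n, fam (Bs K p) n := fun n =>
      ⟨(HomologicalComplex.cyclesMap (limit.π K (op n)) p).hom zL, hmem n⟩
    have hb : b ∈ Formal2.limZero (fam (Bs K p)) (tr (Bs K p)) := by
      apply limZero_mem
      intro n
      apply Subtype.ext
      show (HomologicalComplex.cyclesMap (K.map (homOfLE (Nat.le_succ n)).op) p).hom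
        ((HomologicalComplex.cyclesMap (limit.π K (op (n + 1))) p).hom zL) =
          (HomologicalComplex.cyclesMap (limit.π K (op n)) p).hom zL
      rw [← comp_hom_apply, ← HomologicalComplex.cyclesMap_comp, limit.w]
    have hz : zOf K p ⟨b, hb⟩ = zL := by
      apply cyc_ext K p
      intro n
      rw [zOf_spec]
    refine ⟨⟨b, hb⟩, Subtype.ext ?_⟩
    show Lam0 K p ⟨b, hb⟩ = ((limit K).homologyπ p).hom zL
    rw [Lam0_apply, hz]
  · ext b
    constructor
    · intro hb
      have h0 : Lam0 K p b = 0 := congrArg Subtype.val (AddMonoidHom.mem_ker.mp hb)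
      rw [Lam0_apply] at h0
      obtain ⟨xL, hxL⟩ := exists_bdry (limit K) q p hqp (zOf K p b) h0
      let x : ∀ n, fam (Xs K q) n := fun n => ((limit.π K (op n)).f q).hom xL
      have hx : x ∈ Formal2.limZero (fam (Xs K q)) (tr (Xs K q)) :=
        limZero_mem _ _ _ (fun n => π_compat K q n xL)
      refine AddMonoidHom.mem_range.mpr ⟨⟨x, hx⟩, ?_⟩
      apply Subtype.ext
      funext n
      rw [hβ]
      apply Subtype.ext
      show ((K.obj (op n)).toCycles q p).hom (((limit.π K (op n)).f q).hom xL) = (b.1 n).1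
      rw [toCycles_nat, hxL, zOf_spec]
    · intro hb
      obtain ⟨x, rfl⟩ := AddMonoidHom.mem_range.mp hb
      apply AddMonoidHom.mem_ker.mpr
      apply Subtype.ext
      show Lam0 K p (β x) = 0
      obtain ⟨xL, hxL⟩ := L_exists K q (fun i => x.1 i.unop)
        (fun {i j} f => compat_all (Xs K q) x.1 (fun n => limZero_compat _ _ x.1 x.2 n) f)
      have hxL' : ∀ n : ℕ, ((limit.π K (op n)).f q).hom xL = x.1 n := fun n => hxL (op n)
      have hz : ((limit K).toCycles q p).hom xL = zOf K p (β x) := by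
        apply cyc_ext K p
        intro n
        rw [← toCycles_nat, hxL' n, zOf_spec, hβ]
        rfl
      rw [Lam0_apply, ← hz]
      exact hom_congr_apply ((limit K).toCycles_comp_homologyπ q p) xL

theorem main (K : ℕᵒᵖ ⥤ HomologicalComplex AddCommGrpCat.{u} (ComplexShape.up ℤ))
    (hK : ∀ (n : ℕ) (q : ℤ), Function.Surjective ((K.map (homOfLE (Nat.le_succ n)).op).f q).hom)
    (p q : ℤ) (hqp : q + 1 = p) :
    Function.Surjective (limit.post K (HomologicalComplex.homologyFunctor _ _ p)).hom ∧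
      Nonempty ((limit.post K (HomologicalComplex.homologyFunctor _ _ p)).hom.ker ≃+
        Formal2.limOne (fun n => (K.obj (op n)).homology q)
          (fun n => (HomologicalComplex.homologyMap (K.map (homOfLE (Nat.le_succ n)).op) q).hom)) := by
  constructor
  · have hcof : ∃ s : Set ℕ, s.Countable ∧ ∀ i, ∃ j ∈ s, i ≤ j :=
      ⟨Set.univ, Set.countable_univ, fun i => ⟨i, trivial, le_rfl⟩⟩
    have hML : ((Xs K q) ⋙ forget AddCommGrpCat).IsMittagLeffler :=
      Functor.isMittagLeffler_of_surjective _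
        (fun i j f => surj_all (Xs K q) (fun n => hK n q) f)
    exact core_surj K hcof p q hqp hML
  · obtain ⟨β, hβ, ⟨eb⟩⟩ := step_b (fam (Zs K q)) (fam (Xs K q)) (fam (Bs K p))
      (tr (Zs K q)) (tr (Xs K q)) (tr (Bs K p))
      (fun n => ((iZ K q).app (op n)).hom) (fun n => ((dB K q p).app (op n)).hom)
      (fun n x => G68.nat_apply (iZ K q) (homOfLE (Nat.le_succ n)).op x)
      (fun n x => G68.nat_apply (dB K q p) (homOfLE (Nat.le_succ n)).op x)
      (fun n => hu1 K q (op n)) (fun n => hv1 K q p hqp (op n))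
      (fun n => hex1 K q p hqp (op n)) (fun n => hK n q)
    obtain ⟨ec⟩ := step_c (fam (Bs K q)) (fam (Zs K q)) (fam (Hs K q))
      (tr (Bs K q)) (tr (Zs K q)) (tr (Hs K q))
      (fun n => ((jB K q).app (op n)).hom) (fun n => ((πH K q).app (op n)).hom)
      (fun n x => G68.nat_apply (jB K q) (homOfLE (Nat.le_succ n)).op x)
      (fun n x => G68.nat_apply (πH K q) (homOfLE (Nat.le_succ n)).op x)
      (fun n => hu2 K q (op n)) (fun n => hv2 K q (op n))
      (fun n => hex2 K q (op n)) (fun n => Bs_tr_surj K hK q n)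
    obtain ⟨Λ, hΛs, hΛk⟩ := exists_Lambda K p q hqp β hβ
    exact ⟨((QuotientAddGroup.quotientKerEquivOfSurjective Λ hΛs).symm.trans
      (QuotientAddGroup.quotientAddEquivOfEq hΛk)).trans (eb.trans ec)⟩

end helpers

open CategoryTheory CategoryTheory.Limits Opposite in
/-- For abelian groups, let (A_n)_n be a tower of cochain complexes of abelian groups, indexed by the
natural numbers, all of whose transition maps A_{n+1}^p → A_n^p are surjective. Then for every p
there is a short exact sequence 0 → lim¹_n h^(p-1)(A_n) → h^p(lim_n A_n) → lim_n h^p(A_n) → 0: the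
comparison map h^p(lim A_n) → lim h^p(A_n) is surjective and its kernel is isomorphic to lim¹ of the
tower of the (p-1)-st cohomology groups (existence of an isomorphism only). (The published statement
is made in an axiomatic setting that also covers quasi-coherent sheaves; this row is the case of
abelian groups.) -/
theorem result
    (K : ℕᵒᵖ ⥤ HomologicalComplex AddCommGrpCat.{u} (ComplexShape.up ℤ))
    (hK : ∀ (n : ℕ) (q : ℤ), Function.Surjective ((K.map (homOfLE (Nat.le_succ n)).op).f q).hom)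
    (p q : ℤ) (hqp : q + 1 = p) :
    Function.Surjective (limit.post K (HomologicalComplex.homologyFunctor _ _ p)).hom ∧
      Nonempty ((limit.post K (HomologicalComplex.homologyFunctor _ _ p)).hom.ker ≃+
        Formal2.limOne (fun n => (K.obj (op n)).homology q)
          (fun n => (HomologicalComplex.homologyMap (K.map (homOfLE (Nat.le_succ n)).op) q).hom)) := by
  exact Groth.Agent.S15300.main K hK p q hqp

end Groth.Agent.S15300
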