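import Groth.Statements.S15302
import Mathlib

set_option autoImplicit false
universe v u
open HomAlg3

namespace Groth.Agent.S15302

section helpers
open CategoryTheory CategoryTheory.Limits ZeroObject

variable {C : Type u} [Category.{v} C] [Abelian C]

lemma exists_iso_biprod {X Y : C} (f : X ⟶ Y) (s : Y ⟶ X) (h : s ≫ f = 𝟙 Y) :
    ∃ (K : C) (e : X ≅ Y ⊞ K), f = e.hom ≫ biprod.fst := by
  have hk : (𝟙 X - f ≫ s) ≫ f = 0 := by
    rw [Preadditive.sub_comp, Category.id_comp, Category.assoc, h, Category.comp_id, sub_self]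
  have h1 : s ≫ kernel.lift f (𝟙 X - f ≫ s) hk = 0 := by
    rw [← cancel_mono (kernel.ι f), Category.assoc, kernel.lift_ι, zero_comp,
      Preadditive.comp_sub, Category.comp_id, ← Category.assoc, h, Category.id_comp, sub_self]
  have h2 : kernel.ι f ≫ kernel.lift f (𝟙 X - f ≫ s) hk = 𝟙 _ := by
    rw [← cancel_mono (kernel.ι f), Category.assoc, kernel.lift_ι, Category.id_comp,
      Preadditive.comp_sub, Category.comp_id, ← Category.assoc, kernel.condition, zero_comp,
      sub_zero]
  refine ⟨kernel f, ⟨biprod.lift f (kernel.lift f (𝟙 X - f ≫ s) hk),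
    biprod.desc s (kernel.ι f), ?_, ?_⟩, (biprod.lift_fst _ _).symm⟩
  · rw [biprod.lift_desc, kernel.lift_ι]; abel
  · apply biprod.hom_ext'
    · rw [biprod.inl_desc_assoc, Category.comp_id]
      apply biprod.hom_ext
      · rw [Category.assoc, biprod.lift_fst, h, biprod.inl_fst]
      · rw [Category.assoc, biprod.lift_snd, h1, biprod.inl_snd]
    · rw [biprod.inr_desc_assoc, Category.comp_id]
      apply biprod.hom_ext
      · rw [Category.assoc, biprod.lift_fst, kernel.condition, biprod.inr_fst]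
      · rw [Category.assoc, biprod.lift_snd, h2, biprod.inr_snd]

section Path

variable (I : CochainComplex C ℕ)

noncomputable def Zsh : ℕ → C
  | 0 => 0
  | (p + 1) => I.X p

noncomputable def dsh : ∀ p, Zsh I p ⟶ I.X p
  | 0 => 0
  | (p + 1) => I.d p (p + 1)

noncomputable def toZ (p : ℕ) : I.X p ⟶ Zsh I (p + 1) := 𝟙 (I.X p)
noncomputable def ofZ (p : ℕ) : Zsh I (p + 1) ⟶ I.X p := 𝟙 (I.X p)

@[reassoc (attr := simp)]
lemma toZ_ofZ (p : ℕ) : toZ I p ≫ ofZ I p = 𝟙 _ := Category.id_comp (𝟙 (I.X p))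
@[reassoc (attr := simp)]
lemma ofZ_toZ (p : ℕ) : ofZ I p ≫ toZ I p = 𝟙 _ := Category.id_comp (𝟙 (I.X p))

lemma dsh_succ (p : ℕ) : dsh I (p + 1) = ofZ I p ≫ I.d p (p + 1) :=
  (Category.id_comp (I.d p (p + 1))).symm

lemma dsh_zero : dsh I 0 = 0 := rfl

@[reassoc (attr := simp)]
lemma dsh_d : ∀ p, dsh I p ≫ I.d p (p + 1) = 0
  | 0 => zero_comp
  | (p + 1) => I.d_comp_d _ _ _

lemma isZero_Zsh_zero : IsZero (Zsh I 0) := isZero_zero C

instance injective_Zsh [∀ n, Injective (I.X n)] : ∀ p, Injective (Zsh I p)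
  | 0 => (inferInstance : Injective (0 : C))
  | (p + 1) => (inferInstance : Injective (I.X p))

noncomputable abbrev PX (p : ℕ) : C := I.X p ⊞ Zsh I p

noncomputable def Pd (p : ℕ) : PX I p ⟶ PX I (p + 1) :=
  biprod.lift (biprod.fst ≫ I.d p (p + 1)) ((biprod.fst - biprod.snd ≫ dsh I p) ≫ toZ I p)

lemma Pd_sq (p : ℕ) : Pd I p ≫ Pd I (p + 1) = 0 := by
  unfold Pd
  apply biprod.hom_ext
  · simp
  · simp [dsh_succ]

noncomputable abbrev Pcx : CochainComplex C ℕ := CochainComplex.of (PX I) (Pd I) (Pd_sq I)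

lemma Pcx_d (p : ℕ) : (Pcx I).d p (p + 1) = Pd I p := CochainComplex.of_d _ _ p

noncomputable def piP : Pcx I ⟶ I where
  f p := (biprod.fst : I.X p ⊞ Zsh I p ⟶ I.X p)
  comm' i j hij := by
    obtain rfl : i + 1 = j := hij
    rw [Pcx_d]
    simp [Pd]

noncomputable def hP (p : ℕ) : PX I (p + 1) ⟶ PX I p := biprod.snd ≫ ofZ I p ≫ biprod.inl

lemma comm_zero : 𝟙 (PX I 0) = Pd I 0 ≫ hP I 0 := by
  unfold Pd hP PX
  have h0 : (biprod.snd : I.X 0 ⊞ Zsh I 0 ⟶ Zsh I 0) = 0 := (isZero_Zsh_zero I).eq_of_tgt _ _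
  apply biprod.hom_ext
  · simp [dsh_zero]
  · simp [h0]

lemma comm_succ (p : ℕ) : 𝟙 (PX I (p + 1)) = Pd I (p + 1) ≫ hP I (p + 1) + hP I p ≫ Pd I p := by
  unfold Pd hP PX
  apply biprod.hom_ext
  · simp [dsh_succ]
  · simp [dsh_succ]

noncomputable def homP : Homotopy (𝟙 (Pcx I)) 0 where
  hom i j := if h : j + 1 = i then eqToHom (by subst h; rfl) ≫ hP I j else 0
  zero i j hij := dif_neg hij
  comm i := by
    cases i with
    | zero =>
      rw [Homotopy.dNext_cochainComplex, Homotopy.prevD_zero_cochainComplex, dif_pos rfl, Pcx_d]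
      simp only [eqToHom_refl, Category.id_comp, add_zero, HomologicalComplex.zero_f]
      exact comm_zero I
    | succ p =>
      rw [Homotopy.dNext_cochainComplex, Homotopy.prevD_succ_cochainComplex, dif_pos rfl, dif_pos rfl, Pcx_d, Pcx_d]
      simp only [eqToHom_refl, Category.id_comp, add_zero, HomologicalComplex.zero_f]
      exact comm_succ I p

end Path

noncomputable def homotopyEquivInl (K P : CochainComplex C ℕ) (h : Homotopy (𝟙 P) 0) :
    HomotopyEquiv K (K ⊞ P) where
  hom := biprod.inl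
  inv := biprod.fst
  homotopyHomInvId := Homotopy.ofEq (by simp)
  homotopyInvHomId := by
    have h1 : Homotopy ((biprod.snd : K ⊞ P ⟶ P) ≫ 𝟙 P ≫ (biprod.inr : P ⟶ K ⊞ P))
        ((biprod.snd : K ⊞ P ⟶ P) ≫ 0 ≫ biprod.inr) := (h.compRight biprod.inr).compLeft biprod.snd
    have h2 := (Homotopy.refl ((biprod.fst : K ⊞ P ⟶ K) ≫ biprod.inl)).add h1
    exact (Homotopy.ofEq (by simp)).trans (h2.symm.trans (Homotopy.ofEq (by simp [biprod.total])))

lemma split_aux (K P I : CochainComplex C ℕ) (φ : K ⟶ I) (π : P ⟶ I) (p : ℕ)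
    (s : I.X p ⟶ P.X p) (hs : s ≫ π.f p = 𝟙 _) :
    ∃ (K' : C) (e : (K ⊞ P).X p ≅ I.X p ⊞ K'), (biprod.desc φ π).f p = e.hom ≫ biprod.fst := by
  apply exists_iso_biprod _ (s ≫ (biprod.inr : P ⟶ K ⊞ P).f p)
  rw [Category.assoc, ← HomologicalComplex.comp_f, biprod.inr_desc, hs]

theorem main [EnoughInjectives C] {G F : C} (α : G ⟶ F) (I : InjectiveResolution F) :
    ∃ (J : InjectiveResolution G) (β : J.cocomplex ⟶ I.cocomplex),
      J.ι ≫ β = (CochainComplex.single₀ C).map α ≫ I.ι ∧
      ∀ p : ℕ, ∃ (K : C) (e : J.cocomplex.X p ≅ I.cocomplex.X p ⊞ K),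
        β.f p = e.hom ≫ biprod.fst := by
  let J₀ : InjectiveResolution G := InjectiveResolution.of G
  let φ := InjectiveResolution.desc α I J₀
  let P := Pcx I.cocomplex
  let π : P ⟶ I.cocomplex := piP I.cocomplex
  let E := homotopyEquivInl J₀.cocomplex P (homP I.cocomplex)
  haveI : QuasiIso (biprod.inl : J₀.cocomplex ⟶ J₀.cocomplex ⊞ P) :=
    (inferInstance : QuasiIso E.hom)
  haveI : ∀ n, Injective (P.X n) := fun n =>
    (inferInstance : Injective (I.cocomplex.X n ⊞ Zsh I.cocomplex n))
  let J : InjectiveResolution G :=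
    { cocomplex := J₀.cocomplex ⊞ P
      injective := fun n => Injective.of_iso (HomologicalComplex.biprodXIso _ _ n).symm inferInstance
      ι := J₀.ι ≫ biprod.inl
      quasiIso := inferInstance }
  refine ⟨J, biprod.desc φ π, ?_, ?_⟩
  · show (J₀.ι ≫ biprod.inl) ≫ biprod.desc φ π = _
    rw [Category.assoc, biprod.inl_desc]
    exact InjectiveResolution.desc_commutes α I J₀
  · intro p
    exact split_aux J₀.cocomplex P I.cocomplex φ π p biprod.inl biprod.inl_fst


end helpers

open CategoryTheory CategoryTheory.Limits in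
/-- In an abelian category with enough injectives, let α : G ⟶ F be a morphism and I an injective
resolution of F. Then G has an injective resolution J together with a morphism of cochain complexes
β : J ⟶ I lying over α (the augmentations commute with α and β) such that for every p there are an
object K^p and an isomorphism J^p ≅ I^p ⊕ K^p identifying β^p with the projection onto the first
factor (so K^p is injective as well). (The published statement is for abelian sheaves on a
topological space; its proof uses only an embedding of G into an injective object and cokernels, so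
the row is stated in any abelian category with enough injectives.) -/
theorem result {C : Type u} [Category.{v} C] [Abelian C]
    [EnoughInjectives C] {G F : C} (α : G ⟶ F) (I : InjectiveResolution F) :
    ∃ (J : InjectiveResolution G) (β : J.cocomplex ⟶ I.cocomplex),
      J.ι ≫ β = (CochainComplex.single₀ C).map α ≫ I.ι ∧
      ∀ p : ℕ, ∃ (K : C) (e : J.cocomplex.X p ≅ I.cocomplex.X p ⊞ K), β.f p = e.hom ≫ biprod.fst := by
  exact Groth.Agent.S15302.main α I

end Groth.Agent.S15302
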