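import Groth.Statements.S15319
import Mathlib

set_option autoImplicit false
universe u
open ArLef ArLef.NodeAlg

namespace Groth.Agent.S15319

open MvPowerSeries in
theorem X0X1 {B : Type u} [CommRing B] : (X 0 * X 1 : MvPowerSeries (Fin 2) B) =
    monomial (Finsupp.single 0 1 + Finsupp.single 1 1) 1 := by
  rw [X_def, X_def, monomial_mul_monomial, one_mul]

noncomputable def mkPS {B : Type u} (g' : (Fin 2 →₀ ℕ) → B) : MvPowerSeries (Fin 2) B := g'

theorem coeff_mkPS {B : Type u} [CommRing B] (g' : (Fin 2 →₀ ℕ) → B) (m : Fin 2 →₀ ℕ) :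
    MvPowerSeries.coeff m (mkPS g') = g' m := rfl

open MvPowerSeries in
theorem mem_span_rel_of_C_mul_mem {B : Type u} [CommRing B] [IsDomain B] (π : B) (hπ : π ≠ 0)
    (f : MvPowerSeries (Fin 2) B)
    (h : C π * f ∈ Ideal.span {(X 0 * X 1 - C π : MvPowerSeries (Fin 2) B)}) :
    f ∈ Ideal.span {(X 0 * X 1 - C π : MvPowerSeries (Fin 2) B)} := by
  obtain ⟨g, hg⟩ := Ideal.mem_span_singleton'.1 h
  have hdiv : ∀ m, π ∣ coeff m g := by
    intro m
    have h1 := congrArg (coeff (m + (Finsupp.single 0 1 + Finsupp.single 1 1))) hg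
    rw [mul_sub, map_sub, X0X1, coeff_add_mul_monomial, coeff_mul_C, coeff_C_mul, mul_one] at h1
    exact ⟨coeff (m + (Finsupp.single 0 1 + Finsupp.single 1 1)) f +
      coeff (m + (Finsupp.single 0 1 + Finsupp.single 1 1)) g, by linear_combination h1⟩
  choose g' hg' using hdiv
  have hgg : g = C π * mkPS g' := by
    ext m
    rw [coeff_C_mul, hg' m, coeff_mkPS]
  rw [hgg, mul_assoc] at hg
  have hC : (C π : MvPowerSeries (Fin 2) B) ≠ 0 := by
    intro h0
    have := congrArg (constantCoeff (σ := Fin 2) (R := B)) h0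
    rw [constantCoeff_C, map_zero] at this; exact hπ this
  have := mul_left_cancel₀ hC hg
  rw [Ideal.mem_span_singleton']
  exact ⟨_, this⟩

/-- Let B be a discrete valuation ring with uniformizer π, N = B[[t, e]]/(te - π) the complete local
ring of a semi-stable arithmetic surface over B at a singular point of the closed fibre, and σ a
ring automorphism of N sending π to π + γ π^j with γ a unit of B and j ≥ 1 (σ lies over an
automorphism τ of B with v(τ(π) - π) = j). Then the fixed-point ideal of σ is not contained in (π^j)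
= (t^j e^j): the two branches through the point cannot both occur with multiplicity j in the
divisorial part of the fixed locus. (The published setting has B complete with algebraically closed
residue field.) -/
theorem result (B : Type u) [CommRing B] [IsDomain B] [IsDiscreteValuationRing B] (π : B) (hπ : Irreducible π)
    (j : ℕ) (hj : 1 ≤ j) (γ : B) (hγ : IsUnit γ)
    (σ : ArLef.NodeAlg B π ≃+* ArLef.NodeAlg B π)
    (hσ : σ (algebraMap B (ArLef.NodeAlg B π) π) = algebraMap B (ArLef.NodeAlg B π) (π + γ * π ^ j)) :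
    ¬ ArLef.fixIdeal σ ≤ Ideal.span ({algebraMap B (ArLef.NodeAlg B π) (π ^ j)} : Set (ArLef.NodeAlg B π)) := by
  intro hle
  have hπ0 : π ≠ 0 := hπ.ne_zero
  have halg : ∀ b : B, algebraMap B (ArLef.NodeAlg B π) b =
      Ideal.Quotient.mk _ (MvPowerSeries.C b) := fun b => rfl
  have hte : ArLef.NodeAlg.t π * ArLef.NodeAlg.e π = algebraMap B (ArLef.NodeAlg B π) π := by
    show Ideal.Quotient.mk _ (MvPowerSeries.X 0) * Ideal.Quotient.mk _ (MvPowerSeries.X 1) = _
    rw [← map_mul, halg, Ideal.Quotient.eq]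
    exact Ideal.subset_span rfl
  have hnzd : ∀ z : ArLef.NodeAlg B π, algebraMap B (ArLef.NodeAlg B π) π * z = 0 → z = 0 := by
    intro z hz
    obtain ⟨f, rfl⟩ := Ideal.Quotient.mk_surjective z
    rw [halg, ← map_mul, Ideal.Quotient.eq_zero_iff_mem] at hz
    exact Ideal.Quotient.eq_zero_iff_mem.2 (mem_span_rel_of_C_mul_mem π hπ0 f hz)
  have hnzd' : ∀ (k : ℕ) (z : ArLef.NodeAlg B π),
      (algebraMap B (ArLef.NodeAlg B π) π) ^ k * z = 0 → z = 0 := by
    intro k
    induction k with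
    | zero => intro z hz; simpa using hz
    | succ k ih =>
      intro z hz
      rw [pow_succ, mul_assoc] at hz
      exact hnzd z (ih _ hz)
  let φ : ArLef.NodeAlg B π →+* B ⧸ Ideal.span {π} :=
    Ideal.Quotient.lift _ ((Ideal.Quotient.mk (Ideal.span {π})).comp
      (MvPowerSeries.constantCoeff (σ := Fin 2) (R := B))) (by
      intro x hx
      obtain ⟨c, rfl⟩ := Ideal.mem_span_singleton'.1 hx
      simp only [RingHom.comp_apply, map_mul, map_sub, MvPowerSeries.constantCoeff_X,
        MvPowerSeries.constantCoeff_C, mul_zero, zero_sub, map_neg]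
      rw [Ideal.Quotient.eq_zero_iff_mem.2 (Ideal.mem_span_singleton_self π)]; simp)
  have hφt : φ (ArLef.NodeAlg.t π) = 0 := by
    show φ (Ideal.Quotient.mk _ (MvPowerSeries.X 0)) = 0
    rw [Ideal.Quotient.lift_mk]; simp
  have hφe : φ (ArLef.NodeAlg.e π) = 0 := by
    show φ (Ideal.Quotient.mk _ (MvPowerSeries.X 1)) = 0
    rw [Ideal.Quotient.lift_mk]; simp
  have hφB : ∀ b : B, φ (algebraMap B (ArLef.NodeAlg B π) b) = Ideal.Quotient.mk _ b := by
    intro b
    rw [halg, Ideal.Quotient.lift_mk]; simp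
  have h1 : σ (ArLef.NodeAlg.t π) - ArLef.NodeAlg.t π ∈ Ideal.span
      ({algebraMap B (ArLef.NodeAlg B π) (π ^ j)} : Set (ArLef.NodeAlg B π)) :=
    hle (Ideal.subset_span ⟨_, rfl⟩)
  have h2 : σ (ArLef.NodeAlg.e π) - ArLef.NodeAlg.e π ∈ Ideal.span
      ({algebraMap B (ArLef.NodeAlg B π) (π ^ j)} : Set (ArLef.NodeAlg B π)) :=
    hle (Ideal.subset_span ⟨_, rfl⟩)
  obtain ⟨a, ha⟩ := Ideal.mem_span_singleton'.1 h1
  obtain ⟨b, hb⟩ := Ideal.mem_span_singleton'.1 h2
  have hσP : σ (ArLef.NodeAlg.t π) * σ (ArLef.NodeAlg.e π) =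
      algebraMap B (ArLef.NodeAlg B π) (π + γ * π ^ j) := by rw [← map_mul, hte, hσ]
  rw [map_pow] at ha hb
  have hσt : σ (ArLef.NodeAlg.t π) =
      ArLef.NodeAlg.t π + a * (algebraMap B (ArLef.NodeAlg B π) π) ^ j := by rw [ha]; ring
  have hσe : σ (ArLef.NodeAlg.e π) =
      ArLef.NodeAlg.e π + b * (algebraMap B (ArLef.NodeAlg B π) π) ^ j := by rw [hb]; ring
  have key : (algebraMap B (ArLef.NodeAlg B π) π) ^ j *
      (algebraMap B (ArLef.NodeAlg B π) γ - (a * ArLef.NodeAlg.e π + b * ArLef.NodeAlg.t π +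
        a * b * (algebraMap B (ArLef.NodeAlg B π) π) ^ j)) = 0 := by
    rw [hσt, hσe, map_add, map_mul, map_pow] at hσP
    linear_combination (-1) * hσP + hte
  have h3 := hnzd' j _ key
  have h4 := congrArg φ h3
  rw [map_sub, map_add, map_add, map_mul, map_mul, map_mul, map_mul, map_pow, hφt, hφe, hφB, hφB,
    map_zero, Ideal.Quotient.eq_zero_iff_mem.2 (Ideal.mem_span_singleton_self π),
    zero_pow (by omega : j ≠ 0)] at h4
  simp only [mul_zero, add_zero, sub_zero] at h4
  have h5 : γ ∈ Ideal.span ({π} : Set B) := Ideal.Quotient.eq_zero_iff_mem.1 h4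
  have h6 : π ∣ γ := Ideal.mem_span_singleton.1 h5
  exact hπ.not_isUnit (isUnit_of_dvd_unit h6 hγ)

end Groth.Agent.S15319
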