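import Mathlib
import Groth.Statements.S4447
-- import your own Groth.Agent.* helpers here

set_option autoImplicit false
universe u
open CategoryTheory CategoryTheory.Limits AlgebraicGeometry
open EGA2

namespace Groth.Agent.S4447


/-- Let p : X ⟶ Y be a morphism, x a point of X, y = p(x) and y' a specialization of y distinct from y.
Then there are a valuation ring A which is not a field, with field of fractions the residue field
k(x), and a morphism Spec A ⟶ Y mapping the closed point to y' and restricting on Spec k(x) to the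
canonical morphism Spec k(x) ⟶ X ⟶ Y (in particular the generic point of Spec A goes to y). -/
theorem result {X Y : Scheme.{u}} (p : X ⟶ Y) (x : X) (y' : Y)
    (hsp : p.base x ⤳ y') (hne : y' ≠ p.base x) :
    ∃ (A : ValuationSubring (X.residueField x)) (h : Spec (CommRingCat.of A) ⟶ Y), A ≠ ⊤ ∧
      h.base (IsLocalRing.closedPoint A) = y' ∧
      Spec.map (CommRingCat.ofHom A.subtype) ≫ h = X.fromSpecResidueField x ≫ p := by
  classical
  let sp := Y.presheaf.stalkSpecializes hsp
  let Φ : Y.presheaf.stalk y' ⟶ X.residueField x := sp ≫ p.stalkMap x ≫ X.residue x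
  let φ : Y.presheaf.stalk y' →+* X.residueField x := Φ.hom
  have hΦ : Spec.map Φ ≫ Y.fromSpecStalk y' = X.fromSpecResidueField x ≫ p := by
    simp only [Φ, sp, Spec.map_comp, Category.assoc, Scheme.SpecMap_stalkSpecializes_fromSpecStalk,
      Scheme.SpecMap_stalkMap_fromSpecStalk, Scheme.fromSpecResidueField]
  have hc : ∃ c ∈ IsLocalRing.maximalIdeal (Y.presheaf.stalk y'), φ c ≠ 0 := by
    by_contra hcon
    push Not at hcon
    apply hne
    let ξ : Spec (X.residueField x) := IsLocalRing.closedPoint (X.residueField x)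
    have h1 : (Spec.map Φ) ξ = IsLocalRing.closedPoint (Y.presheaf.stalk y') := by
      apply PrimeSpectrum.ext
      have hmax : IsLocalRing.maximalIdeal (Y.presheaf.stalk y') ≤ ((Spec.map Φ) ξ).asIdeal := by
        intro c hc
        show φ c ∈ ξ.asIdeal
        rw [hcon c hc]; exact zero_mem _
      exact ((IsLocalRing.maximalIdeal.isMaximal _).eq_of_le
        ((Spec.map Φ) ξ).isPrime.ne_top hmax).symm
    have h2 : (Spec.map Φ ≫ Y.fromSpecStalk y') ξ = (X.fromSpecResidueField x ≫ p) ξ := by
      rw [hΦ]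
    rw [Scheme.Hom.comp_apply, Scheme.Hom.comp_apply, h1, Scheme.fromSpecStalk_closedPoint,
      Scheme.fromSpecResidueField_apply] at h2
    exact h2
  obtain ⟨c, hcm, hc0⟩ := hc
  obtain ⟨V, hV, hloc⟩ := IsLocalRing.exists_factor_valuationRing φ
  let φV : Y.presheaf.stalk y' →+* V := φ.codRestrict V.toSubring hV
  haveI : IsLocalHom φV := hloc
  refine ⟨V, Spec.map (CommRingCat.ofHom φV) ≫ Y.fromSpecStalk y', ?_, ?_, ?_⟩
  · intro htop
    have h1 : ¬ IsUnit (φV c) := fun hu => hcm ((isUnit_of_map_unit φV c hu))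
    apply h1
    have h2 : (φ c)⁻¹ ∈ V := by rw [htop]; exact ValuationSubring.mem_top _
    refine ⟨⟨φV c, ⟨(φ c)⁻¹, h2⟩, ?_, ?_⟩, rfl⟩
    · apply Subtype.ext; exact mul_inv_cancel₀ hc0
    · apply Subtype.ext; exact inv_mul_cancel₀ hc0
  · rw [Scheme.Hom.comp_apply]
    have h1 : (Spec.map (CommRingCat.ofHom φV)) (IsLocalRing.closedPoint V)
        = IsLocalRing.closedPoint (Y.presheaf.stalk y') := IsLocalRing.comap_closedPoint φV
    rw [h1, Scheme.fromSpecStalk_closedPoint]
  · rw [← Category.assoc, ← Spec.map_comp, ← hΦ]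
    rfl

end Groth.Agent.S4447
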