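import Mathlib
import Groth.Statements.S15344
import Groth.Agent.Lib.Helper9.ReflSpec
import Groth.Agent.Lib.Helper9.MonoVal
import Groth.Agent.Lib.Helper9.MonoVal2
import Groth.Agent.S4447
-- import your own Groth.Agent.* helpers here

set_option autoImplicit false
universe u
open CategoryTheory CategoryTheory.Limits AlgebraicGeometry
open Mor

namespace Groth.Agent.S15344


/-- Let f : Y ⟶ X be a monomorphism of schemes, X quasi-separated. Then the projection Y ×_X X' ⟶ X'
reflects specializations (if the image of y₁ specializes to the image of y₀ then y₁ specializes to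
y₀) after every base change X' ⟶ X if and only if, for every valuation ring A with fraction field K
and every commutative square Spec K ⟶ Y, Spec A ⟶ X over f such that, in addition, some morphism
from the spectrum of the residue field of A to Y lies over Spec A ⟶ X, the square admits a lift Spec
A ⟶ Y. -/
theorem result {X Y : Scheme.{u}} [QuasiSeparatedSpace ↥X]
    (f : Y ⟶ X) [Mono f] :
    (∀ (X' : Scheme.{u}) (g : X' ⟶ X) (y₀ y₁ : ↥(pullback f g)),
        (pullback.snd f g).base y₁ ⤳ (pullback.snd f g).base y₀ → y₁ ⤳ y₀) ↔
      ∀ S : ValuativeCommSq f,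
        (∃ l₀ : Spec (CommRingCat.of (IsLocalRing.ResidueField S.R)) ⟶ Y,
            l₀ ≫ f = Spec.map (CommRingCat.ofHom (IsLocalRing.residue S.R)) ≫ S.i₂) →
          S.commSq.HasLift := by
  constructor
  · intro H S hl
    obtain ⟨l₀, hl₀⟩ := hl
    have hRefl : Groth.Agent.Helper9.ReflSpec.Refl (pullback.fst S.i₂ f) :=
      Groth.Agent.Helper9.ReflSpec.RP_of_isPullback (IsPullback.of_hasPullback f S.i₂)
        (fun a b hab => H _ S.i₂ a b hab) _ _ _ (IsPullback.of_hasPullback S.i₂ f).flip
    have hfst : pullback.lift (Spec.map (CommRingCat.ofHom (IsLocalRing.residue S.R))) l₀ hl₀.symm ≫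
        pullback.fst S.i₂ f = Spec.map (CommRingCat.ofHom (IsLocalRing.residue S.R)) :=
      pullback.lift_fst _ _ _
    have h₂ : (pullback.fst S.i₂ f).base
        ((pullback.lift (Spec.map (CommRingCat.ofHom (IsLocalRing.residue S.R))) l₀ hl₀.symm).base
          (IsLocalRing.closedPoint (IsLocalRing.ResidueField S.R))) = IsLocalRing.closedPoint S.R := by
      have h := congrArg (fun φ : Spec (CommRingCat.of (IsLocalRing.ResidueField S.R)) ⟶
        Spec (CommRingCat.of S.R) => φ.base (IsLocalRing.closedPoint (IsLocalRing.ResidueField S.R))) hfst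
      refine h.trans ?_
      haveI : IsLocalHom (CommRingCat.ofHom (IsLocalRing.residue S.R)).hom :=
        inferInstanceAs (IsLocalHom (IsLocalRing.residue S.R))
      exact Spec_closedPoint
    refine Groth.Agent.Helper9.MonoVal2.hasLift_of_exists f S ⟨_, ?_, h₂⟩
    apply hRefl
    rw [h₂]
    exact IsLocalRing.specializes_closedPoint _
  · intro H X' g y₀ y₁ hyp
    by_cases hne : (pullback.snd f g).base y₀ = (pullback.snd f g).base y₁
    · have : y₀ = y₁ := (pullback.snd f g).injective hne
      rw [this]
    · obtain ⟨A, hA, -, hcl, hgen⟩ := Groth.Agent.S4447.result (𝟙 X')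
        ((pullback.snd f g).base y₁) ((pullback.snd f g).base y₀) (by simpa using hyp)
        (by simpa using hne)
      refine Groth.Agent.Helper9.MonoVal.specializes_of_lift f g y₀ y₁ A hA hcl
        (by simpa using hgen) ?_
      intro i₁ i₂ sq hl₀
      let S : ValuativeCommSq f :=
        { R := A, K := X'.residueField ((pullback.snd f g).base y₁), i₁ := i₁, i₂ := i₂,
          commSq := sq }
      exact H S hl₀

end Groth.Agent.S15344
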