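import Mathlib
import Groth.Statements.S15346
import Groth.Agent.Lib.Helper9.ReflSpec
import Groth.Agent.Lib.Helper9.MonoVal
import Groth.Agent.S4450
-- import your own Groth.Agent.* helpers here

set_option autoImplicit false
universe u
open CategoryTheory CategoryTheory.Limits AlgebraicGeometry
open Mor

namespace Groth.Agent.S15346


/-- Let X be a locally Noetherian scheme and f : Y ⟶ X a monomorphism. Suppose that for every discrete
valuation ring A with fraction field K and every commutative square Spec K ⟶ Y, Spec A ⟶ X over f
such that some morphism from the spectrum of the residue field of A to Y lies over Spec A ⟶ X, the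
square admits a lift Spec A ⟶ Y. Then after every base change X' ⟶ X the projection Y ×_X X' ⟶ X'
reflects specializations. -/
theorem result {X Y : Scheme.{u}} [IsLocallyNoetherian X]
    (f : Y ⟶ X) [Mono f]
    (h : ∀ S : ValuativeCommSq f, IsDiscreteValuationRing S.R →
        (∃ l₀ : Spec (CommRingCat.of (IsLocalRing.ResidueField S.R)) ⟶ Y,
            l₀ ≫ f = Spec.map (CommRingCat.ofHom (IsLocalRing.residue S.R)) ≫ S.i₂) →
          S.commSq.HasLift) :
    ∀ (X' : Scheme.{u}) (g : X' ⟶ X) (y₀ y₁ : ↥(pullback f g)),
        (pullback.snd f g).base y₁ ⤳ (pullback.snd f g).base y₀ → y₁ ⤳ y₀ := by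
  intro X' g
  refine Groth.Agent.Helper9.ReflSpec.main f (fun X' g _ => ?_) X' g
  intro y₀ y₁ hyp
  haveI : IsLocallyNoetherian X' := LocallyOfFiniteType.isLocallyNoetherian g
  by_cases hne : (pullback.snd f g).base y₀ = (pullback.snd f g).base y₁
  · have : y₀ = y₁ := (pullback.snd f g).injective hne
    rw [this]
  · obtain ⟨A, hA, hdvr, hcl, hgen⟩ := Groth.Agent.S4450.result (𝟙 X')
      ((pullback.snd f g).base y₁) ((pullback.snd f g).base y₀) (by simpa using hyp)
      (by simpa using hne)
    refine Groth.Agent.Helper9.MonoVal.specializes_of_lift f g y₀ y₁ A hA hcl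
      (by simpa using hgen) ?_
    intro i₁ i₂ sq hl₀
    let S : ValuativeCommSq f :=
      { R := A, K := X'.residueField ((pullback.snd f g).base y₁), i₁ := i₁, i₂ := i₂,
        commSq := sq }
    exact h S hdvr hl₀

end Groth.Agent.S15346
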