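import Mathlib
import Groth.Statements.S15347
import Groth.Agent.Lib.Helper9.MonoVal2
-- import your own Groth.Agent.* helpers here

set_option autoImplicit false
universe u
open CategoryTheory CategoryTheory.Limits AlgebraicGeometry
open Mor

namespace Groth.Agent.S15347


/-- Let f : Y ⟶ X be an immersion of schemes. Then: for every valuation ring A with fraction field K and
every commutative square Spec K ⟶ Y, Spec A ⟶ X over f such that some morphism from the spectrum of
the residue field of A to Y lies over Spec A ⟶ X, the square admits a lift; and for every integral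
domain A and every morphism s : Spec A ⟶ X such that the points of a dense subset of Spec A lift to
Y (the residue field of each such point maps to Y over s), there is a nonempty open subscheme U of
Spec A with a morphism U ⟶ Y over s. (The published statement is for a representable, locally
finitely presented morphism of algebraic stacks with locally Noetherian target and a quasi-compact
immersion, and also lists that f is a monomorphism; this row is the case of schemes, for any
immersion and any target.) -/
theorem result {X Y : Scheme.{u}} (f : Y ⟶ X) [IsImmersion f] :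
    (∀ S : ValuativeCommSq f,
        (∃ l₀ : Spec (CommRingCat.of (IsLocalRing.ResidueField S.R)) ⟶ Y,
            l₀ ≫ f = Spec.map (CommRingCat.ofHom (IsLocalRing.residue S.R)) ≫ S.i₂) →
          S.commSq.HasLift) ∧
      ∀ (A : Type u) [CommRing A] [IsDomain A] (s : Spec (CommRingCat.of A) ⟶ X) (D : Set ↥(Spec (CommRingCat.of A))),
        Dense D →
        (∀ p ∈ D, ∃ l : Spec ((Spec (CommRingCat.of A)).residueField p) ⟶ Y,
            l ≫ f = (Spec (CommRingCat.of A)).fromSpecResidueField p ≫ s) →
          ∃ U : (Spec (CommRingCat.of A)).Opens, (U : Set ↥(Spec (CommRingCat.of A))).Nonempty ∧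
            ∃ l : (U : Scheme.{u}) ⟶ Y, l ≫ f = U.ι ≫ s := by
  constructor
  · intro S hl
    refine Groth.Agent.Helper9.MonoVal2.hasLift_of_refl f ?_ S hl
    intro X' g y₀ y₁ hyp
    haveI : IsImmersion (pullback.snd f g) :=
      MorphismProperty.pullback_snd (P := @IsImmersion) f g inferInstance
    exact ((pullback.snd f g).isEmbedding.isInducing.specializes_iff).mp hyp
  · intro A _ _ s D hD hlift
    have hf : f.liftCoborder ≫ f.coborderRange.ι = f := f.liftCoborder_ι
    have hrange : ∀ p ∈ D, ∃ y : Y, f.base y = s.base p := by
      intro p hp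
      obtain ⟨l, hl⟩ := hlift p hp
      refine ⟨l.base (IsLocalRing.closedPoint _), ?_⟩
      have h1 := congrArg (fun φ : Spec ((Spec (CommRingCat.of A)).residueField p) ⟶ X =>
        φ.base (IsLocalRing.closedPoint _)) hl
      refine h1.trans ?_
      show s.base (((Spec (CommRingCat.of A)).fromSpecResidueField p).base _) = _
      rw [Scheme.fromSpecResidueField_apply]
    have hfW : ∀ y : Y, f.base y ∈ f.coborderRange := by
      intro y
      have : f.base y = f.coborderRange.ι.base (f.liftCoborder.base y) :=
        (congrArg (fun φ : Y ⟶ X => φ.base y) hf).symm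
      rw [this]; exact (f.liftCoborder.base y).2
    have hDU : D ⊆ ((s ⁻¹ᵁ f.coborderRange : (Spec (CommRingCat.of A)).Opens) : Set _) := by
      intro p hp
      obtain ⟨y, hy⟩ := hrange p hp
      show s.base p ∈ f.coborderRange
      rw [← hy]; exact hfW y
    obtain ⟨p₀, hp₀⟩ := hD.nonempty
    haveI : IsClosedImmersion (pullback.snd f.liftCoborder (s ∣_ f.coborderRange)) :=
      MorphismProperty.pullback_snd (P := @IsClosedImmersion) _ _ inferInstance
    haveI : Surjective (pullback.snd f.liftCoborder (s ∣_ f.coborderRange)) := ⟨by
      intro u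
      have hr : Set.range (pullback.snd f.liftCoborder (s ∣_ f.coborderRange)).base =
          (s ∣_ f.coborderRange).base ⁻¹' Set.range f.liftCoborder.base :=
        Scheme.Pullback.range_snd _ _
      have hcl : IsClosed (Set.range (pullback.snd f.liftCoborder (s ∣_ f.coborderRange)).base) :=
        (pullback.snd f.liftCoborder (s ∣_ f.coborderRange)).isClosedEmbedding.isClosed_range
      have hdense : Dense (Set.range
          (pullback.snd f.liftCoborder (s ∣_ f.coborderRange)).base) := by
        have hD' : Dense ((s ⁻¹ᵁ f.coborderRange).ι.base ⁻¹' D) :=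
          hD.preimage (s ⁻¹ᵁ f.coborderRange).ι.isOpenEmbedding.isOpenMap
        refine hD'.mono ?_
        intro u hu
        rw [hr]
        obtain ⟨y, hy⟩ := hrange _ hu
        refine ⟨y, ?_⟩
        apply f.coborderRange.ι.isOpenEmbedding.injective
        have e1 : f.coborderRange.ι.base (f.liftCoborder.base y) = f.base y :=
          congrArg (fun φ : Y ⟶ X => φ.base y) hf
        have e2 : f.coborderRange.ι.base ((s ∣_ f.coborderRange).base u) =
            s.base ((s ⁻¹ᵁ f.coborderRange).ι.base u) :=
          congrArg (fun φ : ((s ⁻¹ᵁ f.coborderRange : (Spec (CommRingCat.of A)).Opens) : Scheme.{u}) ⟶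
            X => φ.base u) (morphismRestrict_ι s f.coborderRange)
        rw [e1, e2, hy]
      have : u ∈ closure (Set.range
          (pullback.snd f.liftCoborder (s ∣_ f.coborderRange)).base) := by
        rw [hdense.closure_eq]; trivial
      rwa [hcl.closure_eq] at this⟩
    haveI : IsIso (pullback.snd f.liftCoborder (s ∣_ f.coborderRange)) :=
      isIso_of_isClosedImmersion_of_surjective _
    refine ⟨s ⁻¹ᵁ f.coborderRange, ⟨p₀, hDU hp₀⟩,
      inv (pullback.snd f.liftCoborder (s ∣_ f.coborderRange)) ≫
        pullback.fst f.liftCoborder (s ∣_ f.coborderRange), ?_⟩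
    calc (inv (pullback.snd f.liftCoborder (s ∣_ f.coborderRange)) ≫
          pullback.fst f.liftCoborder (s ∣_ f.coborderRange)) ≫ f
        = (inv (pullback.snd f.liftCoborder (s ∣_ f.coborderRange)) ≫
          pullback.fst f.liftCoborder (s ∣_ f.coborderRange)) ≫
            f.liftCoborder ≫ f.coborderRange.ι := by rw [hf]
      _ = inv (pullback.snd f.liftCoborder (s ∣_ f.coborderRange)) ≫
          (pullback.fst f.liftCoborder (s ∣_ f.coborderRange) ≫ f.liftCoborder) ≫
            f.coborderRange.ι := by simp only [Category.assoc]
      _ = inv (pullback.snd f.liftCoborder (s ∣_ f.coborderRange)) ≫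
          (pullback.snd f.liftCoborder (s ∣_ f.coborderRange) ≫ (s ∣_ f.coborderRange)) ≫
            f.coborderRange.ι := by rw [pullback.condition]
      _ = (s ∣_ f.coborderRange) ≫ f.coborderRange.ι := by simp
      _ = (s ⁻¹ᵁ f.coborderRange).ι ≫ s := morphismRestrict_ι s f.coborderRange

end Groth.Agent.S15347
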