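import Groth.Statements.S15353
import Mathlib

set_option autoImplicit false
universe u
open CAlg

namespace Groth.Agent.S15353

open scoped TensorProduct
open CommRing (Pic)

private theorem ker_mapMatrix_nilpotent {R : Type u} [CommRing R] (I : Ideal R)
    (hI : IsNilpotent I) (n : ℕ) (x : Matrix (Fin n) (Fin n) R)
    (hx : x ∈ RingHom.ker (RingHom.mapMatrix (Ideal.Quotient.mk I) :
      Matrix (Fin n) (Fin n) R →+* Matrix (Fin n) (Fin n) (R ⧸ I))) : IsNilpotent x := by
  obtain ⟨k, hk⟩ := hI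
  have hx' : ∀ a b, x a b ∈ I := by
    intro a b
    have := congrArg (fun m : Matrix (Fin n) (Fin n) (R ⧸ I) => m a b) (RingHom.mem_ker.mp hx)
    simp only [RingHom.mapMatrix_apply, Matrix.map_apply, Matrix.zero_apply] at this
    exact Ideal.Quotient.eq_zero_iff_mem.mp this
  have hpow : ∀ j : ℕ, ∀ a b, (x ^ j) a b ∈ I ^ j := by
    intro j
    induction j with
    | zero => intro a b; simp
    | succ j ih =>
      intro a b
      rw [pow_succ x j, Matrix.mul_apply, pow_succ I j]
      exact Ideal.sum_mem _ fun c _ => Ideal.mul_mem_mul (ih a c) (hx' c b)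
  refine ⟨k, ?_⟩
  ext a b
  have := hpow k a b
  rw [hk] at this
  simpa using this

private theorem lemmaL {R : Type u} [CommRing R] (I : Ideal R) (hI : IsNilpotent I)
    (P : Type u) [AddCommGroup P] [Module R P] [Module.Finite R P] [Module.Projective R P]
    (e : (R ⧸ I) ⊗[R] P ≃ₗ[R ⧸ I] R ⧸ I) : Nonempty (P ≃ₗ[R] R) := by
  obtain ⟨k, hk⟩ := hI
  have hIjac : I ≤ (⊥ : Ideal R).jacobson := by
    intro x hx
    apply Ideal.radical_le_jacobson
    refine ⟨k, ?_⟩
    have : x ^ k ∈ I ^ k := Ideal.pow_mem_pow hx k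
    rw [hk] at this
    exact this
  let q : (P ⧸ (I • ⊤ : Submodule R P)) ≃ₗ[R] (R ⧸ I) :=
    (TensorProduct.quotTensorEquivQuotSMul P I).symm ≪≫ₗ e.restrictScalars R
  have hq : ∀ x : P, q (Submodule.Quotient.mk x) = e (1 ⊗ₜ x) := fun x => rfl
  obtain ⟨p, hp⟩ : ∃ p : P, e (1 ⊗ₜ p) = 1 := by
    obtain ⟨y, hy⟩ := q.surjective 1
    obtain ⟨p, rfl⟩ := Submodule.Quotient.mk_surjective _ y
    exact ⟨p, by rw [← hq]; exact hy⟩
  have hqφ : ∀ r : R, e (1 ⊗ₜ[R] (r • p)) = Ideal.Quotient.mk I r := by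
    intro r
    have h1 : e (1 ⊗ₜ[R] (r • p)) = r • e (1 ⊗ₜ[R] p) := by
      rw [TensorProduct.tmul_smul]
      exact (e.restrictScalars R).map_smul r _
    rw [h1, hp, Algebra.smul_def, mul_one]
    rfl
  have hsurj : Function.Surjective (LinearMap.toSpanSingleton R P p) := by
    apply LinearMap.surjective_of_surjective_comp_mkQ (LinearMap.toSpanSingleton R P p) I hIjac
    intro y
    obtain ⟨r, hr⟩ := Ideal.Quotient.mk_surjective (q y)
    refine ⟨r, q.injective ?_⟩
    rw [← hr]
    exact hqφ r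
  obtain ⟨ψ, hψ⟩ := Module.projective_lifting_property (LinearMap.toSpanSingleton R P p)
    LinearMap.id hsurj
  have hψ' : ∀ x, (ψ x) • p = x := fun x => LinearMap.congr_fun hψ x
  have hφc : (1 - ψ p) • p = 0 := by rw [sub_smul, one_smul, hψ', sub_self]
  have hcI : (1 - ψ p) ∈ I := by
    have := hqφ (1 - ψ p)
    rw [hφc, TensorProduct.tmul_zero, map_zero] at this
    exact Ideal.Quotient.eq_zero_iff_mem.mp this.symm
  have hcc : (1 - ψ p) * (1 - ψ p) = (1 - ψ p) := by
    have h1 : ψ ((1 - ψ p) • p) = (1 - ψ p) * ψ p := by rw [map_smul, smul_eq_mul]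
    rw [hφc, map_zero] at h1
    calc (1 - ψ p) * (1 - ψ p) = (1 - ψ p) - (1 - ψ p) * ψ p := by ring
      _ = (1 - ψ p) := by rw [← h1, sub_zero]
  have hc0 : (1 - ψ p) = 0 := by
    have h1 : (1 - ψ p) ^ (k + 1) = (1 - ψ p) := IsIdempotentElem.pow_succ_eq k hcc
    have h2 : (1 - ψ p) ^ (k + 1) ∈ I ^ k := by
      rw [pow_succ]
      exact Ideal.mul_mem_right _ _ (Ideal.pow_mem_pow hcI k)
    rw [hk, h1] at h2
    exact h2
  have hψp : ψ p = 1 := by
    have := hc0
    rw [sub_eq_zero] at this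
    exact this.symm
  have hinj : Function.Injective (LinearMap.toSpanSingleton R P p) := by
    rw [injective_iff_map_eq_zero]
    intro r hr
    have hr' : r • p = 0 := hr
    have : ψ (r • p) = r := by rw [map_smul, hψp, smul_eq_mul, mul_one]
    rw [← this, hr', map_zero]
  exact ⟨(LinearEquiv.ofBijective (LinearMap.toSpanSingleton R P p) ⟨hinj, hsurj⟩).symm⟩

private theorem liftProj {R : Type u} [CommRing R] (I : Ideal R) (hI : IsNilpotent I)
    (N : Type u) [AddCommGroup N] [Module (R ⧸ I) N] [Module.Finite (R ⧸ I) N]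
    [Module.Projective (R ⧸ I) N] :
    ∃ (M' : Type u) (_ : AddCommGroup M') (_ : Module R M') (_ : Module.Finite R M')
      (_ : Module.Projective R M'), Nonempty ((R ⧸ I) ⊗[R] M' ≃ₗ[R ⧸ I] N) := by
  classical
  obtain ⟨n, f, g, hf, hg, hfg⟩ := Module.Finite.exists_comp_eq_id_of_projective (R ⧸ I) N
  have hfg' : ∀ m, f (g m) = m := fun m => LinearMap.congr_fun hfg m
  have hE : IsIdempotentElem (LinearMap.toMatrix' (g ∘ₗ f)) := by
    unfold IsIdempotentElem
    rw [← LinearMap.toMatrix'_comp]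
    congr 1
    refine LinearMap.ext fun x => ?_
    simp only [LinearMap.comp_apply, hfg']
  have hrange : LinearMap.toMatrix' (g ∘ₗ f) ∈ (RingHom.mapMatrix (Ideal.Quotient.mk I) :
      Matrix (Fin n) (Fin n) R →+* Matrix (Fin n) (Fin n) (R ⧸ I)).range := by
    refine ⟨(LinearMap.toMatrix' (g ∘ₗ f)).map
      (Function.surjInv Ideal.Quotient.mk_surjective), ?_⟩
    ext a b
    simp only [RingHom.mapMatrix_apply, Matrix.map_apply]
    exact Function.surjInv_eq _ _
  obtain ⟨E', hE', hE'E⟩ := exists_isIdempotentElem_eq_of_ker_isNilpotent _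
    (ker_mapMatrix_nilpotent I hI n) _ hrange hE
  have he'e' : ∀ x, Matrix.toLin' E' (Matrix.toLin' E' x) = Matrix.toLin' E' x := by
    intro x
    rw [← LinearMap.comp_apply, ← Matrix.toLin'_mul, hE'.eq]
  have hproj : Module.Projective R (LinearMap.range (Matrix.toLin' E')) := by
    refine Module.Projective.of_split (LinearMap.range (Matrix.toLin' E')).subtype
      (Matrix.toLin' E').rangeRestrict ?_
    ext ⟨x, y, rfl⟩ : 2
    exact he'e' y
  refine ⟨LinearMap.range (Matrix.toLin' E'), inferInstance, inferInstance, inferInstance, hproj,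
    ?_⟩
  have hgf : (g ∘ₗ f) = Matrix.toLin' (LinearMap.toMatrix' (g ∘ₗ f)) :=
    (Matrix.toLin'_toMatrix' _).symm
  have hC : ∀ t : (R ⧸ I) ⊗[R] (Fin n → R),
      TensorProduct.piScalarRight R (R ⧸ I) (R ⧸ I) (Fin n)
        ((Matrix.toLin' E').baseChange (R ⧸ I) t) =
      g (f (TensorProduct.piScalarRight R (R ⧸ I) (R ⧸ I) (Fin n) t)) := by
    intro t
    induction t using TensorProduct.induction_on with
    | zero => simp
    | add x y hx hy => simp only [map_add, hx, hy]
    | tmul s x =>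
      rw [LinearMap.baseChange_tmul, TensorProduct.piScalarRight_apply,
        TensorProduct.piScalarRightHom_tmul, TensorProduct.piScalarRight_apply,
        TensorProduct.piScalarRightHom_tmul, ← LinearMap.comp_apply, hgf, ← hE'E]
      ext a
      simp only [Matrix.toLin'_apply, Matrix.mulVec, dotProduct, RingHom.mapMatrix_apply,
        Matrix.map_apply, Algebra.smul_def, Ideal.Quotient.algebraMap_eq, map_sum, map_mul,
        Finset.sum_mul, mul_assoc]
  have hir : ∀ t : (R ⧸ I) ⊗[R] (Fin n → R),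
      (LinearMap.range (Matrix.toLin' E')).subtype.baseChange (R ⧸ I)
        ((Matrix.toLin' E').rangeRestrict.baseChange (R ⧸ I) t) =
      (Matrix.toLin' E').baseChange (R ⧸ I) t := by
    intro t
    rw [← LinearMap.comp_apply, ← LinearMap.baseChange_comp]
    rfl
  have hri : ∀ t : (R ⧸ I) ⊗[R] (LinearMap.range (Matrix.toLin' E')),
      (Matrix.toLin' E').rangeRestrict.baseChange (R ⧸ I)
        ((Matrix.toLin' E').baseChange (R ⧸ I)
          ((LinearMap.range (Matrix.toLin' E')).subtype.baseChange (R ⧸ I) t)) = t := by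
    intro t
    rw [← LinearMap.comp_apply, ← LinearMap.comp_apply, ← LinearMap.baseChange_comp,
      ← LinearMap.baseChange_comp]
    have : ((Matrix.toLin' E').rangeRestrict ∘ₗ Matrix.toLin' E') ∘ₗ
        (LinearMap.range (Matrix.toLin' E')).subtype = LinearMap.id := by
      ext ⟨x, y, rfl⟩ : 2
      show Matrix.toLin' E' (Matrix.toLin' E' (Matrix.toLin' E' y)) = Matrix.toLin' E' y
      rw [he'e', he'e']
    rw [this, LinearMap.baseChange_id, LinearMap.id_apply]
  refine ⟨LinearEquiv.ofLinear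
    (f ∘ₗ (TensorProduct.piScalarRight R (R ⧸ I) (R ⧸ I) (Fin n)).toLinearMap ∘ₗ
      (LinearMap.range (Matrix.toLin' E')).subtype.baseChange (R ⧸ I))
    ((Matrix.toLin' E').rangeRestrict.baseChange (R ⧸ I) ∘ₗ
      (TensorProduct.piScalarRight R (R ⧸ I) (R ⧸ I) (Fin n)).symm.toLinearMap ∘ₗ g) ?_ ?_⟩
  · refine LinearMap.ext fun m => ?_
    simp only [LinearMap.comp_apply, LinearEquiv.coe_coe, LinearMap.id_apply]
    rw [hir, hC, LinearEquiv.apply_symm_apply, hfg', hfg']
  · refine LinearMap.ext fun t => ?_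
    simp only [LinearMap.comp_apply, LinearEquiv.coe_coe, LinearMap.id_apply]
    rw [← hC, LinearEquiv.symm_apply_apply, hri]

private theorem inj_part {R : Type u} [CommRing R] (I : Ideal R) (hI : IsNilpotent I) :
    Function.Injective (Pic.mapAlgebra R (R ⧸ I)) := by
  rw [injective_iff_map_eq_one]
  intro M hM
  rw [Pic.mapAlgebra_apply] at hM
  obtain ⟨e⟩ := Pic.mk_eq_one_iff.mp hM
  obtain ⟨e'⟩ := lemmaL I hI M e
  rw [← Pic.mk_eq_self (M := M)]
  exact Pic.mk_eq_one_iff.mpr ⟨e'⟩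

private theorem surj_part {R : Type u} [CommRing R] (I : Ideal R) (hI : IsNilpotent I) :
    Function.Surjective (Pic.mapAlgebra R (R ⧸ I)) := by
  intro N
  obtain ⟨M', _, _, _, _, ⟨e1⟩⟩ := liftProj I hI N
  obtain ⟨M'', _, _, _, _, ⟨e2⟩⟩ := liftProj I hI (N⁻¹ : Pic (R ⧸ I))
  have h3 : Pic.mk (R ⧸ I) ((N : Type u) ⊗[R ⧸ I] ((N⁻¹ : Pic (R ⧸ I)) : Type u)) = 1 := by
    rw [Pic.mk_tensor, Pic.mk_eq_self, Pic.mk_eq_self, mul_inv_cancel]
  obtain ⟨e3⟩ := Pic.mk_eq_one_iff.mp h3
  obtain ⟨e4⟩ := lemmaL I hI (M' ⊗[R] M'')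
    (TensorProduct.AlgebraTensorModule.distribBaseChange R (R ⧸ I) M' M'' ≪≫ₗ
      TensorProduct.congr e1 e2 ≪≫ₗ e3)
  haveI : Module.Invertible R M' := Module.Invertible.left e4
  refine ⟨Pic.mk R M', ?_⟩
  rw [Pic.mapAlgebra_apply, Pic.mk_eq_iff]
  exact ⟨TensorProduct.AlgebraTensorModule.congr (LinearEquiv.refl (R ⧸ I) (R ⧸ I))
    (Pic.mk.linearEquiv R M') ≪≫ₗ e1⟩

/-- Let f : A' → A be a surjective ring homomorphism whose kernel is a nilpotent ideal. Then the induced
homomorphism of Picard groups Pic(A') → Pic(A), base change of invertible modules along f, is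
bijective. -/
theorem result {A' A : Type u} [CommRing A'] [CommRing A]
    (f : A' →+* A) (hf : Function.Surjective f) (hker : IsNilpotent (RingHom.ker f)) :
    Function.Bijective (CommRing.Pic.mapRingHom f) := by

  let e : (A' ⧸ RingHom.ker f) ≃+* A := RingHom.quotientKerEquivOfSurjective hf
  have hfac : f = (e : (A' ⧸ RingHom.ker f) →+* A).comp (Ideal.Quotient.mk (RingHom.ker f)) := by
    ext x
    rfl
  rw [hfac, ← CommRing.Pic.mapRingHom_comp_mapRingHom, MonoidHom.coe_comp]
  refine Function.Bijective.comp ?_ ?_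
  · refine Function.bijective_iff_has_inverse.mpr
      ⟨CommRing.Pic.mapRingHom (e.symm : A →+* (A' ⧸ RingHom.ker f)), ?_, ?_⟩
    · intro M
      rw [CommRing.Pic.mapRingHom_mapRingHom]
      have h1 : (e.symm : A →+* (A' ⧸ RingHom.ker f)).comp (e : (A' ⧸ RingHom.ker f) →+* A) =
          RingHom.id _ := by
        ext x
        simp
      rw [h1, CommRing.Pic.mapRingHom_id_apply]
    · intro M
      rw [CommRing.Pic.mapRingHom_mapRingHom]
      have h1 : (e : (A' ⧸ RingHom.ker f) →+* A).comp (e.symm : A →+* (A' ⧸ RingHom.ker f)) =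
          RingHom.id _ := by
        ext x
        simp
      rw [h1, CommRing.Pic.mapRingHom_id_apply]
  · rw [← Ideal.Quotient.algebraMap_eq, CommRing.Pic.mapRingHom_algebraMap]
    exact ⟨inj_part _ hker, surj_part _ hker⟩


end Groth.Agent.S15353
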