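import Groth.Statements.S15354
import Mathlib

set_option autoImplicit false
universe u
open CategoryTheory CategoryTheory.Limits AlgebraicGeometry
open Mor

namespace Groth.Agent.S15354

/-- Let f : Y ⟶ X be a morphism of schemes, A a valuation ring with fraction field K and residue field
k, and ξ, η : Spec A ⟶ Y two A-points of Y over the same A-point of X. If ξ and η restrict to the
same K-point and to the same k-point of Y, then ξ = η. (The published statement is an equivalence,
for algebraic spaces locally of finite presentation over a Noetherian scheme, between local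
separatedness of f and conditions (a), (b); this row is the necessity of (a) in the case of schemes,
where no hypothesis on f is needed.) -/
theorem result {X Y : Scheme.{u}} (f : Y ⟶ X)
    (A : Type u) [CommRing A] [IsDomain A] [ValuationRing A] (K : Type u) [Field K] [Algebra A K]
    [IsFractionRing A K] (ξ η : Spec (CommRingCat.of A) ⟶ Y) (hf : ξ ≫ f = η ≫ f)
    (hK : Spec.map (CommRingCat.ofHom (algebraMap A K)) ≫ ξ = Spec.map (CommRingCat.ofHom (algebraMap A K)) ≫ η)
    (hk : Spec.map (CommRingCat.ofHom (IsLocalRing.residue A)) ≫ ξ =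
      Spec.map (CommRingCat.ofHom (IsLocalRing.residue A)) ≫ η) :
    ξ = η := by
  -- the closed point has the same image
  have hpt : ξ (IsLocalRing.closedPoint A) = η (IsLocalRing.closedPoint A) := by
    have s₀ : Spec (CommRingCat.of (IsLocalRing.ResidueField A)) :=
      (⊥ : PrimeSpectrum (IsLocalRing.ResidueField A))
    have e : (Spec.map (CommRingCat.ofHom (IsLocalRing.residue A))) s₀ =
        IsLocalRing.closedPoint A :=
      IsLocalRing.PrimeSpectrum.comap_residue A s₀
    have h1 := congrArg (fun φ => φ s₀) hk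
    simp only [Scheme.Hom.comp_apply] at h1
    rw [e] at h1
    exact h1
  -- affine open around the image
  obtain ⟨V, hV, hyV⟩ : ∃ V : Y.Opens, IsAffineOpen V ∧ ξ (IsLocalRing.closedPoint A) ∈ V := by
    obtain ⟨_, ⟨V, hV, rfl⟩, hyV, -⟩ :=
      (Y.isBasis_affineOpens).exists_subset_of_mem_open (Set.mem_univ (ξ (IsLocalRing.closedPoint A)))
        isOpen_univ
    exact ⟨V, hV, hyV⟩
  have h1 : ξ ⁻¹ᵁ V = ⊤ := Scheme.preimage_eq_top_of_closedPoint_mem (R := CommRingCat.of A) ξ hyV
  have h2 : η ⁻¹ᵁ V = ⊤ := Scheme.preimage_eq_top_of_closedPoint_mem (R := CommRingCat.of A) η (hpt ▸ hyV)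
  have r1 : Set.range ξ ⊆ Set.range V.ι := by
    rintro _ ⟨x, rfl⟩
    rw [Scheme.Opens.range_ι]
    have : x ∈ ξ ⁻¹ᵁ V := by rw [h1]; trivial
    exact this
  have r2 : Set.range η ⊆ Set.range V.ι := by
    rintro _ ⟨x, rfl⟩
    rw [Scheme.Opens.range_ι]
    have : x ∈ η ⁻¹ᵁ V := by rw [h2]; trivial
    exact this
  have hξ : IsOpenImmersion.lift V.ι ξ r1 ≫ V.ι = ξ := IsOpenImmersion.lift_fac _ _ _
  have hη : IsOpenImmersion.lift V.ι η r2 ≫ V.ι = η := IsOpenImmersion.lift_fac _ _ _
  have hVaff : IsAffine V.toScheme := hV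
  rw [← hξ, ← hη]
  congr 1
  -- compare the two lifts, maps into an affine scheme
  have hK' : Spec.map (CommRingCat.ofHom (algebraMap A K)) ≫ IsOpenImmersion.lift V.ι ξ r1 =
      Spec.map (CommRingCat.ofHom (algebraMap A K)) ≫ IsOpenImmersion.lift V.ι η r2 := by
    rw [← cancel_mono V.ι, Category.assoc, Category.assoc, hξ, hη]
    exact hK
  -- transport to Spec Γ(V)
  have hiso : IsIso (V.toScheme.isoSpec.hom) := inferInstance
  rw [← cancel_mono V.toScheme.isoSpec.hom]
  obtain ⟨a, ha⟩ := Spec.map_surjective (IsOpenImmersion.lift V.ι ξ r1 ≫ V.toScheme.isoSpec.hom)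
  obtain ⟨b, hb⟩ := Spec.map_surjective (IsOpenImmersion.lift V.ι η r2 ≫ V.toScheme.isoSpec.hom)
  rw [← ha, ← hb]
  congr 1
  have hK'' : Spec.map (a ≫ CommRingCat.ofHom (algebraMap A K)) =
      Spec.map (b ≫ CommRingCat.ofHom (algebraMap A K)) := by
    rw [Spec.map_comp, Spec.map_comp, ha, hb, ← Category.assoc, ← Category.assoc, hK']
  have hab := Spec.map_injective hK''
  ext x
  have := congrArg (fun φ => φ.hom x) hab
  simp only [CommRingCat.hom_comp, CommRingCat.hom_ofHom, RingHom.coe_comp, Function.comp_apply] at this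
  exact IsFractionRing.injective A K this

end Groth.Agent.S15354
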