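import Groth.Statements.S15355
import Mathlib

set_option autoImplicit false
universe u
open CategoryTheory CategoryTheory.Limits AlgebraicGeometry
open Mor

namespace Groth.Agent.S15355

/-- Let f : Y ⟶ X be a morphism of schemes, A an integral domain and ξ, η : Spec A ⟶ Y two A-points of Y
over the same A-point of X. If ξ and η induce the same κ(p)-point of Y at every point p of some
dense subset of Spec A, then ξ and η agree on a nonempty open subscheme of Spec A. (The published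
statement is an equivalence, for algebraic spaces locally of finite presentation over a Noetherian
scheme, between local separatedness of f and conditions (a), (b); this row is the necessity of (b)
in the case of schemes, where no hypothesis on f is needed.) -/
theorem result {X Y : Scheme.{u}} (f : Y ⟶ X)
    (A : Type u) [CommRing A] [IsDomain A] (ξ η : Spec (CommRingCat.of A) ⟶ Y) (hf : ξ ≫ f = η ≫ f)
    (D : Set ↥(Spec (CommRingCat.of A))) (hD : Dense D)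
    (hpt : ∀ p ∈ D, (Spec (CommRingCat.of A)).fromSpecResidueField p ≫ ξ =
      (Spec (CommRingCat.of A)).fromSpecResidueField p ≫ η) :
    ∃ U : (Spec (CommRingCat.of A)).Opens, (U : Set ↥(Spec (CommRingCat.of A))).Nonempty ∧ U.ι ≫ ξ = U.ι ≫ η := by
  have hne : Nonempty (Spec (CommRingCat.of A)) :=
    inferInstanceAs (Nonempty (PrimeSpectrum A))
  obtain ⟨x₀, hx₀⟩ := hD.nonempty
  have hpt0 : ξ x₀ = η x₀ := by
    have h1 := hpt x₀ hx₀
    have s : Spec ((Spec (CommRingCat.of A)).residueField x₀) :=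
      (⊥ : PrimeSpectrum ((Spec (CommRingCat.of A)).residueField x₀))
    have h2 := congrArg (fun φ => φ s) h1
    simpa [Scheme.fromSpecResidueField_apply] using h2
  obtain ⟨V, hV, hxV⟩ : ∃ V : Y.Opens, IsAffineOpen V ∧ ξ x₀ ∈ V := by
    obtain ⟨_, ⟨V, hV, rfl⟩, hyV, -⟩ :=
      (Y.isBasis_affineOpens).exists_subset_of_mem_open (Set.mem_univ (ξ x₀)) isOpen_univ
    exact ⟨V, hV, hyV⟩
  have hx₀U : x₀ ∈ ξ ⁻¹ᵁ V ⊓ η ⁻¹ᵁ V := ⟨hxV, by
    change η x₀ ∈ V
    rw [← hpt0]; exact hxV⟩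
  refine ⟨ξ ⁻¹ᵁ V ⊓ η ⁻¹ᵁ V, ⟨x₀, hx₀U⟩, ?_⟩
  have r1 : Set.range ((ξ ⁻¹ᵁ V ⊓ η ⁻¹ᵁ V).ι ≫ ξ) ⊆ Set.range V.ι := by
    rintro _ ⟨x, rfl⟩
    rw [Scheme.Opens.range_ι]
    exact x.2.1
  have r2 : Set.range ((ξ ⁻¹ᵁ V ⊓ η ⁻¹ᵁ V).ι ≫ η) ⊆ Set.range V.ι := by
    rintro _ ⟨x, rfl⟩
    rw [Scheme.Opens.range_ι]
    exact x.2.2
  have ha : IsOpenImmersion.lift V.ι _ r1 ≫ V.ι = (ξ ⁻¹ᵁ V ⊓ η ⁻¹ᵁ V).ι ≫ ξ :=
    IsOpenImmersion.lift_fac _ _ _
  have hb : IsOpenImmersion.lift V.ι _ r2 ≫ V.ι = (ξ ⁻¹ᵁ V ⊓ η ⁻¹ᵁ V).ι ≫ η :=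
    IsOpenImmersion.lift_fac _ _ _
  have hab : IsOpenImmersion.lift V.ι _ r1 = IsOpenImmersion.lift V.ι _ r2 := by
    have hVaff : IsAffine V.toScheme := hV
    have hint : IsIntegral (Spec (CommRingCat.of A)) := inferInstance
    refine ext_of_fromSpecResidueField_eq _ _ (terminal.from _)
      ((ξ ⁻¹ᵁ V ⊓ η ⁻¹ᵁ V).ι ⁻¹' D) ?_ ?_ (Subsingleton.elim _ _)
    · exact hD.preimage (ξ ⁻¹ᵁ V ⊓ η ⁻¹ᵁ V).ι.isOpenEmbedding.isOpenMap
    · intro x hx
      rw [← cancel_mono V.ι, Category.assoc, Category.assoc, ha, hb, ← Category.assoc,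
        ← Category.assoc, ← Scheme.Hom.SpecMap_residueFieldMap_fromSpecResidueField,
        Category.assoc, Category.assoc, hpt _ hx]
  rw [← ha, ← hb, hab]

end Groth.Agent.S15355
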