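import Groth.Statements.S15361
import Mathlib

set_option autoImplicit false
open GalCoh

namespace Groth.Agent.S15361

open Matrix

private lemma mulVec_bij (p : ℕ) [Fact p.Prime] (K : Type) [Field K] [Finite K]
    (ι : K →+* Matrix (Fin 2) (Fin 2) (ZMod p)) (hcard : Nat.card K = p ^ 2)
    (v : Fin 2 → ZMod p) (hv : v ≠ 0) :
    Function.Bijective (fun e : K => ι e *ᵥ v) := by
  have hinj : Function.Injective (fun e : K => ι e *ᵥ v) := by
    intro e₁ e₂ h
    by_contra hne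
    have hd : e₁ - e₂ ≠ 0 := sub_ne_zero.mpr hne
    have h0 : ι (e₁ - e₂) *ᵥ v = 0 := by
      rw [map_sub, Matrix.sub_mulVec]; exact sub_eq_zero.mpr h
    apply hv
    calc v = (1 : Matrix (Fin 2) (Fin 2) (ZMod p)) *ᵥ v := (Matrix.one_mulVec v).symm
      _ = ι ((e₁ - e₂)⁻¹ * (e₁ - e₂)) *ᵥ v := by rw [inv_mul_cancel₀ hd, map_one]
      _ = ι (e₁ - e₂)⁻¹ *ᵥ (ι (e₁ - e₂) *ᵥ v) := by rw [map_mul, Matrix.mulVec_mulVec]
      _ = 0 := by rw [h0, Matrix.mulVec_zero]
  refine hinj.bijective_of_nat_card_le ?_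
  rw [hcard, Nat.card_eq_fintype_card, Fintype.card_fun, ZMod.card, Fintype.card_fin]

private lemma det_eq_norm (p : ℕ) [Fact p.Prime] (K : Type) [Field K] [Finite K] [Algebra (ZMod p) K]
    (ι : K →+* Matrix (Fin 2) (Fin 2) (ZMod p)) (hcard : Nat.card K = p ^ 2) (x : K) :
    (ι x).det = Algebra.norm (ZMod p) x := by
  have hv : (Pi.single 0 1 : Fin 2 → ZMod p) ≠ 0 := by
    intro h
    have := congrFun h 0
    simp at this
  have hbij := mulVec_bij p K ι hcard _ hv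
  let f : K →+ (Fin 2 → ZMod p) :=
    { toFun := fun e => ι e *ᵥ Pi.single 0 1
      map_zero' := by
        show ι 0 *ᵥ (Pi.single 0 1 : Fin 2 → ZMod p) = 0
        rw [map_zero, Matrix.zero_mulVec]
      map_add' := fun a b => by
        show ι (a + b) *ᵥ (Pi.single 0 1 : Fin 2 → ZMod p) = ι a *ᵥ Pi.single 0 1 + ι b *ᵥ Pi.single 0 1
        rw [map_add, Matrix.add_mulVec] }
  let φ : K ≃ₗ[ZMod p] (Fin 2 → ZMod p) := LinearEquiv.ofBijective (f.toZModLinearMap p) hbij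
  have hφ : ∀ e : K, φ e = ι e *ᵥ Pi.single 0 1 := fun e => rfl
  calc (ι x).det = LinearMap.det (Matrix.toLin' (ι x)) := (LinearMap.det_toLin' _).symm
    _ = LinearMap.det ((φ : K →ₗ[ZMod p] (Fin 2 → ZMod p)) ∘ₗ (Algebra.lmul (ZMod p) K x) ∘ₗ
          (φ.symm : (Fin 2 → ZMod p) →ₗ[ZMod p] K)) := by
        congr 1
        apply LinearMap.ext
        intro w
        obtain ⟨e, rfl⟩ := φ.surjective w
        simp only [LinearMap.comp_apply, LinearEquiv.coe_coe, LinearEquiv.symm_apply_apply,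
          Matrix.toLin'_apply]
        rw [hφ, hφ]
        show ι x *ᵥ (ι e *ᵥ Pi.single 0 1) = ι (x * e) *ᵥ Pi.single 0 1
        rw [map_mul, Matrix.mulVec_mulVec]
    _ = LinearMap.det (Algebra.lmul (ZMod p) K x) := LinearMap.det_conj _ φ
    _ = Algebra.norm (ZMod p) x := (Algebra.norm_apply _ _).symm

private lemma det_surj (p : ℕ) [Fact p.Prime] (K : Type) [Field K] [Finite K]
    (ι : K →+* Matrix (Fin 2) (Fin 2) (ZMod p)) (hcard : Nat.card K = p ^ 2) (δ : ZMod p) :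
    ∃ x : K, (ι x).det = δ := by
  haveI : CharP K p := RingHom.charP ι ι.injective p
  letI : Algebra (ZMod p) K := ZMod.algebra K p
  obtain ⟨x, hx⟩ := FiniteField.norm_surjective (ZMod p) K δ
  exact ⟨x, by rw [det_eq_norm p K ι hcard x, hx]⟩

private lemma unipotent_of_order (p : ℕ) [Fact p.Prime] (h : GL (Fin 2) (ZMod p)) (hord : orderOf h = p) :
    (h : Matrix (Fin 2) (Fin 2) (ZMod p)) - 1 ≠ 0 ∧
      ((h : Matrix (Fin 2) (Fin 2) (ZMod p)) - 1) * ((h : Matrix (Fin 2) (Fin 2) (ZMod p)) - 1) = 0 := by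
  have hp : p.Prime := Fact.out
  have hA : (h : Matrix (Fin 2) (Fin 2) (ZMod p)) ^ p = 1 := by
    have h1 : h ^ p = 1 := by
      have h2 := pow_orderOf_eq_one h
      rwa [hord] at h2
    rw [← Units.val_pow_eq_pow_val, h1]; rfl
  constructor
  · intro h0
    have h1 : h = 1 := Units.ext (sub_eq_zero.mp h0)
    rw [h1, orderOf_one] at hord
    exact hp.one_lt.ne hord
  · obtain ⟨N, hN⟩ : ∃ N, N = (h : Matrix (Fin 2) (Fin 2) (ZMod p)) - 1 := ⟨_, rfl⟩
    rw [← hN]
    have hNp : N ^ p = 0 := by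
      rw [hN, sub_pow_char_of_commute p (Commute.one_right _), hA, one_pow, sub_self]
    have hnil : IsNilpotent N := ⟨p, hNp⟩
    have htr : N.trace = 0 := (Matrix.isNilpotent_trace_of_isNilpotent hnil).eq_zero
    have hdet : N.det = 0 := by
      have h2 : N.det ^ p = 0 := by rw [← Matrix.det_pow, hNp, Matrix.det_zero]
      exact pow_eq_zero_iff hp.ne_zero |>.mp h2
    have hCH := Matrix.aeval_self_charpoly N
    rw [Matrix.charpoly_fin_two, htr, hdet] at hCH
    simpa [pow_two] using hCH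

private lemma fin2_cases {i j : Fin 2} (hij : i ≠ j) (k : Fin 2) : k = i ∨ k = j := by
  fin_cases i <;> fin_cases j <;> fin_cases k <;> simp_all

private lemma fin2_sum {α : Type*} [AddCommMonoid α] {i j : Fin 2} (hij : i ≠ j) (f : Fin 2 → α) :
    ∑ k, f k = f i + f j := by
  fin_cases i <;> fin_cases j <;> simp_all [Fin.sum_univ_two, add_comm]

private lemma transvection_pow (p : ℕ) {i j : Fin 2} (hij : i ≠ j) (a : ZMod p) (k : ℕ) :
    (Matrix.transvection i j a) ^ k = Matrix.transvection i j (k • a) := by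
  induction k with
  | zero => simp
  | succ k ih => rw [pow_succ, ih, Matrix.transvection_mul_transvection_same i j hij, succ_nsmul]

private lemma transvection_mem (p : ℕ) [Fact p.Prime] (H : Subgroup (GL (Fin 2) (ZMod p)))
    (g : GL (Fin 2) (ZMod p)) (hg : g ∈ H) {i j : Fin 2} (hij : i ≠ j)
    (hfix : (g : Matrix (Fin 2) (Fin 2) (ZMod p)) *ᵥ Pi.single i 1 = Pi.single i 1)
    (hsq : ((g : Matrix (Fin 2) (Fin 2) (ZMod p)) - 1) *
      ((g : Matrix (Fin 2) (Fin 2) (ZMod p)) - 1) = 0)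
    (hne : (g : Matrix (Fin 2) (Fin 2) (ZMod p)) - 1 ≠ 0) (b : ZMod p) :
    ∃ u ∈ H, (u : Matrix (Fin 2) (Fin 2) (ZMod p)) = Matrix.transvection i j b := by
  obtain ⟨N, hN⟩ : ∃ N, N = (g : Matrix (Fin 2) (Fin 2) (ZMod p)) - 1 := ⟨_, rfl⟩
  rw [← hN] at hsq hne
  have hgN : (g : Matrix (Fin 2) (Fin 2) (ZMod p)) = 1 + N := by rw [hN]; abel
  have hNe : N *ᵥ Pi.single i 1 = 0 := by
    rw [hN, Matrix.sub_mulVec, hfix, Matrix.one_mulVec, sub_self]
  have hcol : ∀ k, N k i = 0 := fun k => by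
    have h1 := congrFun hNe k
    rwa [Matrix.mulVec_single_one] at h1
  have hjj : N j j = 0 := by
    have h1 := congrFun (congrFun hsq j) j
    rw [Matrix.mul_apply, fin2_sum hij, hcol j, zero_mul, zero_add] at h1
    exact mul_self_eq_zero.mp h1
  have hNeq : N = Matrix.single i j (N i j) := by
    ext r s
    rcases fin2_cases hij r with h1 | h1 <;> rcases fin2_cases hij s with h2 | h2 <;>
      rw [h1, h2] <;> simp [Matrix.single_apply, hij, hij.symm, hcol, hjj]
  have ha : N i j ≠ 0 := by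
    intro h0
    apply hne
    rw [hNeq, h0]
    simp
  have hgt : (g : Matrix (Fin 2) (Fin 2) (ZMod p)) = Matrix.transvection i j (N i j) := by
    rw [hgN]
    exact congrArg (fun X => 1 + X) hNeq
  haveI : NeZero p := ⟨(Fact.out : p.Prime).ne_zero⟩
  refine ⟨g ^ (b / N i j).val, H.pow_mem hg _, ?_⟩
  rw [Units.val_pow_eq_pow_val, hgt, transvection_pow p hij, nsmul_eq_mul, ZMod.natCast_zmod_val,
    div_mul_cancel₀ _ ha]


private lemma diag_eq (p : ℕ) [Fact p.Prime] (a : ZMod p) (ha : a ≠ 0) :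
    Matrix.diagonal ![a, a⁻¹] =
      Matrix.transvection 0 1 a * Matrix.transvection 1 0 (-a⁻¹) * Matrix.transvection 0 1 a *
      (Matrix.transvection 0 1 (-1) * Matrix.transvection 1 0 1 * Matrix.transvection 0 1 (-1)) := by
  have h01 : ∀ c : ZMod p, Matrix.transvection (0 : Fin 2) 1 c = !![1, c; 0, 1] := by
    intro c; ext r s; fin_cases r <;> fin_cases s <;> simp [Matrix.transvection]
  have h10 : ∀ c : ZMod p, Matrix.transvection (1 : Fin 2) 0 c = !![1, 0; c, 1] := by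
    intro c; ext r s; fin_cases r <;> fin_cases s <;> simp [Matrix.transvection]
  have hd : Matrix.diagonal ![a, a⁻¹] = !![a, 0; 0, a⁻¹] := by
    ext r s; fin_cases r <;> fin_cases s <;> simp
  have hinv : a * a⁻¹ = 1 := mul_inv_cancel₀ ha
  have hinv' : a⁻¹ * a = 1 := inv_mul_cancel₀ ha
  simp only [h01, h10, hd, Matrix.mul_fin_two]
  congr 1
  simp only [mul_one, mul_zero, zero_mul, one_mul, add_zero, zero_add, mul_neg, hinv, neg_mul,
    neg_neg, add_neg_cancel, neg_add_cancel, neg_zero, hinv']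

private lemma backward (p : ℕ) [Fact p.Prime] (H C : Subgroup (GL (Fin 2) (ZMod p)))
    (E : Subring (Matrix (Fin 2) (Fin 2) (ZMod p))) (hCH : C ≤ H) (hE : IsField E)
    (hcard : Nat.card E = p ^ 2)
    (hEC : (E : Set (Matrix (Fin 2) (Fin 2) (ZMod p))) =
      insert 0 ((fun g : GL (Fin 2) (ZMod p) => (g : Matrix (Fin 2) (Fin 2) (ZMod p))) ''
        (C : Set (GL (Fin 2) (ZMod p)))))
    (hp : p ∣ Nat.card H) : H = ⊤ := by
  letI : Field E := hE.toField
  haveI : Finite E := Nat.finite_of_card_ne_zero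
    (by rw [hcard]; exact pow_ne_zero _ (Fact.out : p.Prime).ne_zero)
  -- step 1
  have hC : ∀ x ∈ E, x ≠ 0 → ∃ c ∈ C, (c : Matrix (Fin 2) (Fin 2) (ZMod p)) = x := by
    intro x hx hx0
    have hx' : x ∈ (E : Set (Matrix (Fin 2) (Fin 2) (ZMod p))) := hx
    rw [hEC] at hx'
    rcases hx' with h0 | ⟨c, hc, rfl⟩
    · exact absurd h0 hx0
    · exact ⟨c, hc, rfl⟩
  -- step 2
  have htrans : ∀ v w : Fin 2 → ZMod p, v ≠ 0 → w ≠ 0 →
      ∃ c ∈ C, (c : Matrix (Fin 2) (Fin 2) (ZMod p)) *ᵥ v = w := by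
    intro v w hv hw
    obtain ⟨e, he⟩ := (mulVec_bij p E E.subtype hcard v hv).2 w
    have he' : (e : Matrix (Fin 2) (Fin 2) (ZMod p)) *ᵥ v = w := he
    have hne : (e : Matrix (Fin 2) (Fin 2) (ZMod p)) ≠ 0 := by
      intro h0
      rw [h0, Matrix.zero_mulVec] at he'
      exact hw he'.symm
    obtain ⟨c, hc, hce⟩ := hC e.1 e.2 hne
    exact ⟨c, hc, by rw [hce]; exact he'⟩
  -- step 3
  have hdet : ∀ δ : ZMod p, δ ≠ 0 →
      ∃ c ∈ C, (c : Matrix (Fin 2) (Fin 2) (ZMod p)).det = δ := by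
    intro δ hδ
    obtain ⟨x, hx⟩ := det_surj p E E.subtype hcard δ
    have hx' : (x : Matrix (Fin 2) (Fin 2) (ZMod p)).det = δ := hx
    have hne : (x : Matrix (Fin 2) (Fin 2) (ZMod p)) ≠ 0 := by
      intro h0
      rw [h0, Matrix.det_zero] at hx'
      exact hδ hx'.symm
    obtain ⟨c, hc, hcx⟩ := hC x.1 x.2 hne
    exact ⟨c, hc, by rw [hcx]; exact hx'⟩
  -- step 4: Cauchy
  obtain ⟨⟨h, hh⟩, hord⟩ := exists_prime_orderOf_dvd_card' (G := H) p hp
  have hord' : orderOf h = p :=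
    (Subgroup.orderOf_coe (⟨h, hh⟩ : H)).trans hord
  obtain ⟨hN0, hNsq⟩ := unipotent_of_order p h hord'
  obtain ⟨N, hN⟩ : ∃ N, N = (h : Matrix (Fin 2) (Fin 2) (ZMod p)) - 1 := ⟨_, rfl⟩
  rw [← hN] at hN0 hNsq
  -- step 6
  obtain ⟨w, hw⟩ : ∃ w : Fin 2 → ZMod p, N *ᵥ w ≠ 0 := by
    by_contra hcon
    apply hN0
    ext i j
    have h2 : N *ᵥ (Pi.single j 1 : Fin 2 → ZMod p) = 0 := by
      by_contra h3
      exact hcon ⟨_, h3⟩
    have h1 := congrFun h2 i
    rwa [Matrix.mulVec_single_one] at h1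
  have hNv : N *ᵥ (N *ᵥ w) = 0 := by rw [Matrix.mulVec_mulVec, hNsq, Matrix.zero_mulVec]
  have hhv : (h : Matrix (Fin 2) (Fin 2) (ZMod p)) *ᵥ (N *ᵥ w) = N *ᵥ w := by
    have h1 : (h : Matrix (Fin 2) (Fin 2) (ZMod p)) = 1 + N := by rw [hN]; abel
    rw [h1, Matrix.add_mulVec, Matrix.one_mulVec, hNv, add_zero]
  -- step 7
  have hT : ∀ (i j : Fin 2), i ≠ j → ∀ b : ZMod p,
      ∃ u ∈ H, (u : Matrix (Fin 2) (Fin 2) (ZMod p)) = Matrix.transvection i j b := by
    intro i j hij b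
    have hei : (Pi.single i 1 : Fin 2 → ZMod p) ≠ 0 := by
      intro h0
      have h1 := congrFun h0 i
      simp at h1
    obtain ⟨c, hc, hcv⟩ := htrans (N *ᵥ w) (Pi.single i 1) hw hei
    obtain ⟨cm, hcm⟩ : ∃ cm, cm = (c : Matrix (Fin 2) (Fin 2) (ZMod p)) := ⟨_, rfl⟩
    obtain ⟨ci, hci⟩ : ∃ ci, ci = ((c⁻¹ : GL (Fin 2) (ZMod p)) :
      Matrix (Fin 2) (Fin 2) (ZMod p)) := ⟨_, rfl⟩
    have hci1 : ci * cm = 1 := by rw [hci, hcm, Units.inv_mul]
    have hci2 : cm * ci = 1 := by rw [hci, hcm, Units.mul_inv]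
    rw [← hcm] at hcv
    have hcinv : ci *ᵥ Pi.single i 1 = N *ᵥ w := by
      rw [← hcv, Matrix.mulVec_mulVec, hci1, Matrix.one_mulVec]
    have hval : ((c * h * c⁻¹ : GL (Fin 2) (ZMod p)) : Matrix (Fin 2) (Fin 2) (ZMod p)) =
        cm * (h : Matrix (Fin 2) (Fin 2) (ZMod p)) * ci := by
      rw [Units.val_mul, Units.val_mul, hcm, hci]
    have hsub : cm * (h : Matrix (Fin 2) (Fin 2) (ZMod p)) * ci - 1 = cm * N * ci := by
      rw [hN, Matrix.mul_sub, Matrix.sub_mul, mul_one, hci2]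
    refine transvection_mem p H (c * h * c⁻¹)
      (H.mul_mem (H.mul_mem (hCH hc) hh) (H.inv_mem (hCH hc))) hij ?_ ?_ ?_ b
    · rw [hval, ← Matrix.mulVec_mulVec, hcinv, ← Matrix.mulVec_mulVec, hhv, hcv]
    · rw [hval, hsub]
      calc cm * N * ci * (cm * N * ci) = cm * (N * (ci * cm) * N) * ci := by
            simp only [mul_assoc]
        _ = 0 := by rw [hci1, mul_one, hNsq, mul_zero, zero_mul]
    · rw [hval, hsub]
      intro h0
      apply hN0
      calc N = (ci * cm) * N * (ci * cm) := by rw [hci1, one_mul, mul_one]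
        _ = ci * (cm * N * ci) * cm := by simp only [mul_assoc]
        _ = 0 := by rw [h0, mul_zero, zero_mul]
  -- step 8
  have hL : ∀ L : List (Matrix.TransvectionStruct (Fin 2) (ZMod p)),
      ∃ u ∈ H, (u : Matrix (Fin 2) (Fin 2) (ZMod p)) =
        (L.map Matrix.TransvectionStruct.toMatrix).prod := by
    intro L
    induction L with
    | nil => exact ⟨1, H.one_mem, by simp⟩
    | cons t L ih =>
      obtain ⟨u, hu, hu'⟩ := ih
      obtain ⟨w', hw', hw''⟩ := hT t.i t.j t.hij t.c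
      refine ⟨w' * u, H.mul_mem hw' hu, ?_⟩
      rw [List.map_cons, List.prod_cons, Units.val_mul, hw'', hu']
      rfl
  -- step 9
  have hW : ∀ a : ZMod p, a ≠ 0 →
      ∃ u ∈ H, (u : Matrix (Fin 2) (Fin 2) (ZMod p)) = Matrix.diagonal ![a, a⁻¹] := by
    intro a ha
    obtain ⟨u1, hu1, hu1'⟩ := hT 0 1 (by decide) a
    obtain ⟨u2, hu2, hu2'⟩ := hT 1 0 (by decide) (-a⁻¹)
    obtain ⟨u3, hu3, hu3'⟩ := hT 0 1 (by decide) (-1)
    obtain ⟨u4, hu4, hu4'⟩ := hT 1 0 (by decide) 1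
    refine ⟨u1 * u2 * u1 * (u3 * u4 * u3),
      H.mul_mem (H.mul_mem (H.mul_mem hu1 hu2) hu1) (H.mul_mem (H.mul_mem hu3 hu4) hu3), ?_⟩
    rw [diag_eq p a ha]
    simp only [Units.val_mul, hu1', hu2', hu3', hu4']
  -- step 10
  have hX : ∀ δ : ZMod p, δ ≠ 0 → ∃ e : Fin 2 → ZMod p, e 0 * e 1 = δ ∧
      ∃ u ∈ H, (u : Matrix (Fin 2) (Fin 2) (ZMod p)) = Matrix.diagonal e := by
    intro δ hδ
    obtain ⟨c, hc, hcdet⟩ := hdet δ hδ
    obtain ⟨L, L', D, hD⟩ := Matrix.Pivot.exists_list_transvec_mul_diagonal_mul_list_transvec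
      (c : Matrix (Fin 2) (Fin 2) (ZMod p))
    obtain ⟨u1, hu1, hu1'⟩ := hL L
    obtain ⟨u2, hu2, hu2'⟩ := hL L'
    refine ⟨D, ?_, u1⁻¹ * c * u2⁻¹, H.mul_mem (H.mul_mem (H.inv_mem hu1) (hCH hc)) (H.inv_mem hu2), ?_⟩
    · rw [← hcdet, hD, Matrix.det_mul, Matrix.det_mul, Matrix.TransvectionStruct.det_toMatrix_prod,
        Matrix.TransvectionStruct.det_toMatrix_prod, Matrix.det_diagonal, Fin.prod_univ_two, one_mul,
        mul_one]
    · rw [Units.val_mul, Units.val_mul, hD, ← hu1', ← hu2']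
      simp only [mul_assoc, Units.mul_inv, mul_one, Units.inv_mul_cancel_left]
  -- step 11
  rw [eq_top_iff]
  intro g _
  obtain ⟨L, L', D, hD⟩ := Matrix.Pivot.exists_list_transvec_mul_diagonal_mul_list_transvec
    (g : Matrix (Fin 2) (Fin 2) (ZMod p))
  obtain ⟨u1, hu1, hu1'⟩ := hL L
  obtain ⟨u2, hu2, hu2'⟩ := hL L'
  have hdetg : D 0 * D 1 = (g : Matrix (Fin 2) (Fin 2) (ZMod p)).det := by
    rw [hD, Matrix.det_mul, Matrix.det_mul, Matrix.TransvectionStruct.det_toMatrix_prod,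
      Matrix.TransvectionStruct.det_toMatrix_prod, Matrix.det_diagonal, Fin.prod_univ_two, one_mul,
      mul_one]
  have hδ : D 0 * D 1 ≠ 0 := by
    rw [hdetg]
    exact (Matrix.isUnits_det_units g).ne_zero
  obtain ⟨e, he, w', hw', hw''⟩ := hX (D 0 * D 1) hδ
  have he0 : e 0 ≠ 0 := fun h0 => hδ (by rw [← he, h0, zero_mul])
  have hD0 : D 0 ≠ 0 := fun h0 => hδ (by rw [h0, zero_mul])
  have ha : D 0 / e 0 ≠ 0 := div_ne_zero hD0 he0
  obtain ⟨z, hz, hz'⟩ := hW (D 0 / e 0) ha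
  have hdiag : Matrix.diagonal D = Matrix.diagonal e * Matrix.diagonal ![D 0 / e 0, (D 0 / e 0)⁻¹] := by
    rw [Matrix.diagonal_mul_diagonal]
    congr 1
    funext r
    fin_cases r
    · show D 0 = e 0 * (D 0 / e 0)
      field_simp
    · show D 1 = e 1 * (D 0 / e 0)⁻¹
      have he1 : e 1 = D 0 * D 1 / e 0 := by rw [← he]; field_simp
      rw [he1]
      field_simp
  have hg : g = u1 * (w' * z) * u2 := by
    apply Units.ext
    rw [Units.val_mul, Units.val_mul, Units.val_mul, hu1', hu2', hw'', hz', ← hdiag, hD]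
  rw [hg]
  exact H.mul_mem (H.mul_mem hu1 (H.mul_mem hw' hz)) hu2


private lemma forward (p : ℕ) [Fact p.Prime] :
    (∃ (C : Subgroup (GL (Fin 2) (ZMod p))) (E : Subring (Matrix (Fin 2) (Fin 2) (ZMod p))),
          C ≤ (⊤ : Subgroup (GL (Fin 2) (ZMod p))) ∧ IsField E ∧ Nat.card E = p ^ 2 ∧
            (E : Set (Matrix (Fin 2) (Fin 2) (ZMod p))) =
              insert 0 ((fun g : GL (Fin 2) (ZMod p) => (g : Matrix (Fin 2) (Fin 2) (ZMod p))) ''
                (C : Set (GL (Fin 2) (ZMod p))))) ∧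
        p ∣ Nat.card (⊤ : Subgroup (GL (Fin 2) (ZMod p))) := by
  have hp : p.Prime := Fact.out
  constructor
  · have hfr : Module.finrank (ZMod p) (GaloisField p 2) = 2 := GaloisField.finrank p (by norm_num)
    obtain ⟨b⟩ : Nonempty (Module.Basis (Fin 2) (ZMod p) (GaloisField p 2)) :=
      ⟨Module.finBasisOfFinrankEq (ZMod p) (GaloisField p 2) hfr⟩
    obtain ⟨ι, hι⟩ : ∃ ι : GaloisField p 2 →+* Matrix (Fin 2) (Fin 2) (ZMod p),
        ι = (Algebra.leftMulMatrix b).toRingHom := ⟨_, rfl⟩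
    have hinj : Function.Injective ι := ι.injective
    refine ⟨(Units.map (ι : GaloisField p 2 →* Matrix (Fin 2) (Fin 2) (ZMod p))).range, ι.range,
      le_top, ?_, ?_, ?_⟩
    · have e : GaloisField p 2 ≃+* ι.range :=
        RingEquiv.ofBijective ι.rangeRestrict
          ⟨fun x y hxy => hinj (congrArg Subtype.val hxy), ι.rangeRestrict_surjective⟩
      exact e.symm.toMulEquiv.isField (Field.toIsField _)
    · have e : GaloisField p 2 ≃ ι.range :=
        Equiv.ofBijective ι.rangeRestrict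
          ⟨fun x y hxy => hinj (congrArg Subtype.val hxy), ι.rangeRestrict_surjective⟩
      rw [← Nat.card_congr e, GaloisField.card p 2 (by norm_num)]
    · ext m
      constructor
      · rintro ⟨x, rfl⟩
        by_cases hx : x = 0
        · left
          rw [hx, map_zero]
        · right
          exact ⟨Units.map (ι : GaloisField p 2 →* Matrix (Fin 2) (Fin 2) (ZMod p)) (Units.mk0 x hx),
            ⟨_, rfl⟩, rfl⟩
      · rintro (h0 | ⟨g, ⟨u, rfl⟩, rfl⟩)
        · rw [h0]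
          exact ι.range.zero_mem
        · exact ⟨(u : GaloisField p 2), rfl⟩
  · rw [Subgroup.card_top]
    have h1 : Matrix.transvection (0 : Fin 2) 1 (1 : ZMod p) * Matrix.transvection 0 1 (-1) = 1 := by
      rw [Matrix.transvection_mul_transvection_same 0 1 (by decide), add_neg_cancel,
        Matrix.transvection_zero]
    have h2 : Matrix.transvection (0 : Fin 2) 1 (-1 : ZMod p) * Matrix.transvection 0 1 1 = 1 := by
      rw [Matrix.transvection_mul_transvection_same 0 1 (by decide), neg_add_cancel,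
        Matrix.transvection_zero]
    obtain ⟨t, ht⟩ : ∃ t : GL (Fin 2) (ZMod p),
        (t : Matrix (Fin 2) (Fin 2) (ZMod p)) = Matrix.transvection 0 1 1 := ⟨⟨_, _, h1, h2⟩, rfl⟩
    have hord : orderOf t = p := by
      apply orderOf_eq_prime
      · apply Units.ext
        rw [Units.val_pow_eq_pow_val, ht, transvection_pow p (by decide), nsmul_one,
          ZMod.natCast_self, Matrix.transvection_zero]
        rfl
      · intro h0
        have h3 : (t : Matrix (Fin 2) (Fin 2) (ZMod p)) 0 1 = (1 : Matrix (Fin 2) (Fin 2) (ZMod p)) 0 1 := by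
          rw [h0]; rfl
        rw [ht] at h3
        simp [Matrix.transvection] at h3
    have h4 := orderOf_dvd_natCard t
    rwa [hord] at h4


/-- Let p be a prime and H a subgroup of GL₂(𝔽_p). Then H = GL₂(𝔽_p) if and only if (i) some non-split
Cartan subgroup lies in H, i.e. some subgroup C ≤ H such that C ∪ {0} is a subfield of the matrix
algebra M₂(𝔽_p) with p² elements, and (ii) p divides the order of H. -/
theorem result (p : ℕ) [Fact p.Prime]
    (H : Subgroup (GL (Fin 2) (ZMod p))) :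
    H = ⊤ ↔
      (∃ (C : Subgroup (GL (Fin 2) (ZMod p))) (E : Subring (Matrix (Fin 2) (Fin 2) (ZMod p))),
          C ≤ H ∧ IsField E ∧ Nat.card E = p ^ 2 ∧
            (E : Set (Matrix (Fin 2) (Fin 2) (ZMod p))) =
              insert 0 ((fun g : GL (Fin 2) (ZMod p) => (g : Matrix (Fin 2) (Fin 2) (ZMod p))) ''
                (C : Set (GL (Fin 2) (ZMod p))))) ∧
        p ∣ Nat.card H := by
  constructor
  · rintro rfl
    exact forward p
  · rintro ⟨⟨C, E, hCH, hE, hcard, hEC⟩, hp⟩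
    exact backward p H C E hCH hE hcard hEC hp

end Groth.Agent.S15361
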