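import Groth.Statements.S15363
import Mathlib
set_option linter.style.haveILetI false

set_option autoImplicit false
universe u
open CategoryTheory AlgebraicGeometry
open SekSuwa

namespace Groth.Agent.S15363

section Aux
open SekSuwa CategoryTheory Limits AlgebraicGeometry

namespace H26F

theorem tf_aux {R : CommRingCat.{u}} {X : Scheme.{u}} (π : X ⟶ Spec R) [Flat π]
    (r : R) (hr : r ∈ nonZeroDivisors R) (s : Γ(X, ⊤))
    (hs : π.appTop.hom ((Scheme.ΓSpecIso R).inv.hom r) * s = 0)
    (B : CommRingCat.{u}) (j : Spec B ⟶ X) [IsOpenImmersion j] : j.appTop.hom s = 0 := by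
  obtain ⟨φ, hφ⟩ := Spec.map_surjective (j ≫ π)
  haveI : Flat (Spec.map φ) := by rw [hφ]; infer_instance
  have hflat : φ.hom.Flat := Flat.SpecMap_iff.mp inferInstance
  have h1 : j.appTop.hom (π.appTop.hom ((Scheme.ΓSpecIso R).inv.hom r)) * j.appTop.hom s = 0 := by
    rw [← map_mul, hs, map_zero]
  have h2 : j.appTop.hom (π.appTop.hom ((Scheme.ΓSpecIso R).inv.hom r)) =
      (Scheme.ΓSpecIso B).inv.hom (φ.hom r) := by
    have e1 : π.appTop ≫ j.appTop = (Spec.map φ).appTop := by
      rw [← Scheme.Hom.comp_appTop, hφ]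
    have e2 := Scheme.ΓSpecIso_inv_naturality φ
    rw [← e1] at e2
    exact (congrArg (fun ψ => ψ.hom r) e2).symm
  rw [h2] at h1
  have h3 : φ.hom r * (Scheme.ΓSpecIso B).hom.hom (j.appTop.hom s) = 0 := by
    have := congrArg (Scheme.ΓSpecIso B).hom.hom h1
    rw [map_mul, map_zero] at this
    rw [← this]
    congr 1
    exact (congrArg (fun ψ => ψ.hom (φ.hom r)) (Scheme.ΓSpecIso B).inv_hom_id).symm
  algebraize [φ.hom]
  have hreg : IsSMulRegular B r := Module.Flat.isSMulRegular_of_nonZeroDivisors hr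
  have h4 : (Scheme.ΓSpecIso B).hom.hom (j.appTop.hom s) = 0 := by
    apply hreg
    simp only [smul_zero]
    rw [Algebra.smul_def]
    exact h3
  have := congrArg (Scheme.ΓSpecIso B).inv.hom h4
  rw [map_zero] at this
  rw [← this]
  exact (congrArg (fun ψ => ψ.hom (j.appTop.hom s)) (Scheme.ΓSpecIso B).hom_inv_id).symm

theorem tf {R : CommRingCat.{u}} {X : Scheme.{u}} (π : X ⟶ Spec R) [Flat π]
    (r : R) (hr : r ∈ nonZeroDivisors R) (s : Γ(X, ⊤))
    (hs : π.appTop.hom ((Scheme.ΓSpecIso R).inv.hom r) * s = 0) : s = 0 := by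
  apply Scheme.zero_of_zero_cover s X.affineOpenCover.openCover
  intro i
  exact tf_aux π r hr s hs _ (X.affineOpenCover.f i)

theorem comp_eq {B C : CommRingCat.{u}} {X : Scheme.{u}} (a : B ⟶ C) (f : X ⟶ Spec C) :
    a ≫ (Scheme.ΓSpecIso C).inv ≫ f.appTop = (Scheme.ΓSpecIso B).inv ≫ (f ≫ Spec.map a).appTop := by
  rw [Scheme.Hom.comp_appTop, Scheme.ΓSpecIso_inv_naturality_assoc]

theorem ring_main {R : Type u} [CommRing R] (lam : R) (N : ℕ) (h : DivCond lam N)
    {Γ : Type u} [CommRing Γ] (φ₁ φ₂ : AK R lam N h →+* Γ)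
    (hR : φ₁.comp (algebraMap R (AK R lam N h)) = φ₂.comp (algebraMap R (AK R lam N h)))
    (hα : φ₁.comp (alphaNHom R lam N h : MonoidAlgebra R (Multiplicative (ZMod N)) →+* AK R lam N h) =
      φ₂.comp (alphaNHom R lam N h : MonoidAlgebra R (Multiplicative (ZMod N)) →+* AK R lam N h))
    (htf : ∀ s : Γ, φ₁ (algebraMap R (AK R lam N h) lam) * s = 0 → s = 0) : φ₁ = φ₂ := by
  letI : Algebra R Γ := (φ₁.comp (algebraMap R (AK R lam N h))).toAlgebra
  let ψ₁ : AK R lam N h →ₐ[R] Γ := { φ₁ with commutes' := fun r => rfl }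
  let ψ₂ : AK R lam N h →ₐ[R] Γ :=
    { φ₂ with commutes' := fun r => (congrArg (fun f => f r) hR).symm }
  have hu : φ₁ (1 + lam • AK.t) = φ₂ (1 + lam • AK.t) := by
    have := congrArg (fun f => f (MonoidAlgebra.single (Multiplicative.ofAdd (1 : ZMod N)) 1)) hα
    change φ₁ (alphaNHom R lam N h _) = φ₂ (alphaNHom R lam N h _) at this
    rwa [alphaNHom_single_one] at this
  have ht : φ₁ AK.t = φ₂ AK.t := by
    have hd : φ₁ (algebraMap R (AK R lam N h) lam) * (φ₁ AK.t - φ₂ AK.t) = 0 := by
      have e1 : φ₁ (lam • AK.t) = φ₁ (algebraMap R _ lam) * φ₁ AK.t := by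
        rw [Algebra.smul_def, map_mul]
      have e2 : φ₂ (lam • AK.t) = φ₁ (algebraMap R _ lam) * φ₂ AK.t := by
        rw [Algebra.smul_def, map_mul]
        congr 1
        exact (congrArg (fun f => f lam) hR).symm
      rw [map_add, map_add, map_one, map_one, e1, e2] at hu
      rw [mul_sub]
      exact sub_eq_zero.mpr (add_left_cancel hu)
    exact sub_eq_zero.mp (htf _ hd)
  have hui : (1 + lam • (AK.t : AK R lam N h)) * AK.inv = 1 := by
    have := congrArg (AK.mkHom R lam N h) (A.u_mul_inv (R := R) (lam := lam))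
    rw [map_mul, map_one, A.u, map_add, map_one, map_smul] at this
    exact this
  have a1 : φ₁ (1 + lam • AK.t) * φ₁ AK.inv = 1 := by rw [← map_mul, hui, map_one]
  have a2 : φ₂ (1 + lam • AK.t) * φ₂ AK.inv = 1 := by rw [← map_mul, hui, map_one]
  have hinv : φ₁ AK.inv = φ₂ AK.inv := by
    calc φ₁ AK.inv = φ₁ AK.inv * (φ₂ (1 + lam • AK.t) * φ₂ AK.inv) := by rw [a2, _root_.mul_one]
      _ = (φ₁ (1 + lam • AK.t) * φ₁ AK.inv) * φ₂ AK.inv := by rw [← hu]; ring
      _ = φ₂ AK.inv := by rw [a1, _root_.one_mul]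
  have key : ψ₁ = ψ₂ := AK.algHom_ext ht hinv
  exact RingHom.ext fun x => DFunLike.congr_fun key x

theorem main (R : Type u) [CommRing R] (N : ℕ) (lam : R) (h : DivCond lam N)
    (G : Over (Spec (CommRingCat.of R))) [Flat G.hom]
    (f g : G ⟶ GK R lam N h)
    (hfg : f ≫ alphaN R lam N h = g ≫ alphaN R lam N h) : f = g := by
  apply Over.OverMorphism.ext
  haveI : IsAffine (GK R lam N h).left :=
    inferInstanceAs (IsAffine (Spec (CommRingCat.of (AK R lam N h))))
  apply ext_of_isAffine
  let e := Scheme.ΓSpecIso (CommRingCat.of (AK R lam N h))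
  have h1 := comp_eq (CommRingCat.ofHom (algebraMap R (AK R lam N h))) f.left
  have h2 := comp_eq (CommRingCat.ofHom (algebraMap R (AK R lam N h))) g.left
  have w1 : f.left ≫ Spec.map (CommRingCat.ofHom (algebraMap R (AK R lam N h))) = G.hom := Over.w f
  have w2 : g.left ≫ Spec.map (CommRingCat.ofHom (algebraMap R (AK R lam N h))) = G.hom := Over.w g
  replace h1 := h1.trans (congrArg (fun m : G.left ⟶ Spec (CommRingCat.of R) =>
    (Scheme.ΓSpecIso (CommRingCat.of R)).inv ≫ m.appTop) w1)
  replace h2 := h2.trans (congrArg (fun m : G.left ⟶ Spec (CommRingCat.of R) =>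
    (Scheme.ΓSpecIso (CommRingCat.of R)).inv ≫ m.appTop) w2)
  have key : e.inv ≫ f.left.appTop = e.inv ≫ g.left.appTop := by
    apply CommRingCat.hom_ext
    apply ring_main lam N h (Γ := Γ(G.left, ⊤))
    · exact congrArg CommRingCat.Hom.hom (h1.trans h2.symm)
    · have k1 := comp_eq (CommRingCat.ofHom
        (alphaNHom R lam N h : MonoidAlgebra R (Multiplicative (ZMod N)) →+* AK R lam N h)) f.left
      have k2 := comp_eq (CommRingCat.ofHom
        (alphaNHom R lam N h : MonoidAlgebra R (Multiplicative (ZMod N)) →+* AK R lam N h)) g.left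
      have hl : f.left ≫ Spec.map (CommRingCat.ofHom
          (alphaNHom R lam N h : MonoidAlgebra R (Multiplicative (ZMod N)) →+* AK R lam N h)) =
          g.left ≫ Spec.map (CommRingCat.ofHom
          (alphaNHom R lam N h : MonoidAlgebra R (Multiplicative (ZMod N)) →+* AK R lam N h)) :=
        congrArg (fun m => m.left) hfg
      replace k1 := k1.trans (congrArg (fun m : G.left ⟶
        Spec (CommRingCat.of (MonoidAlgebra R (Multiplicative (ZMod N)))) =>
        (Scheme.ΓSpecIso (CommRingCat.of (MonoidAlgebra R (Multiplicative (ZMod N))))).inv ≫ m.appTop) hl)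
      exact congrArg CommRingCat.Hom.hom (k1.trans k2.symm)
    · intro s hs
      refine tf G.hom lam h.nzd s ?_
      have := congrArg (fun ψ => ψ.hom lam) h1
      change (e.inv ≫ f.left.appTop).hom (algebraMap R (AK R lam N h) lam) =
        G.hom.appTop.hom ((Scheme.ΓSpecIso (CommRingCat.of R)).inv.hom lam) at this
      rw [← this]
      exact hs
  exact (cancel_epi e.inv).mp key

end H26F
end Aux

/-- Let R be an integral domain, p a prime and λ ∈ R a non-zero element with λ^p dividing (1 + λX)^p −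
1, so that the congruence group scheme G_λ = Spec R[T]/(P_λ(T)) of level λ and its homomorphism θ_λ
: G_λ → μ_p, X ↦ 1 + λT, are defined. For every scheme G flat over Spec R, composition with θ_λ is
injective on R-morphisms G → G_λ; in particular θ_λ induces an injective map from the homomorphisms
G → G_λ of a flat R-group scheme G to its homomorphisms G → μ_p. (The published statement is over
the ring of integers of an algebraic closure of a complete discretely valued field of mixed
characteristic, for finite flat commutative group schemes killed by p; the published argument, that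
θ_λ is an isomorphism on the generic fibre and G is flat, gives the form stated here.) -/
theorem result (R : Type u) [CommRing R] [IsDomain R]
    (p : ℕ) [Fact p.Prime] (lam : R) (h : SekSuwa.DivCond lam p)
    (G : Over (Spec (CommRingCat.of R))) [Flat G.hom]
    (f g : G ⟶ SekSuwa.GK R lam p h)
    (hfg : f ≫ SekSuwa.alphaN R lam p h = g ≫ SekSuwa.alphaN R lam p h) : f = g := by
  exact H26F.main R p lam h G f g hfg

end Groth.Agent.S15363
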