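import Groth.Statements.S15365
import Mathlib

set_option autoImplicit false
universe u
open scoped BigOperators
open CAlg

namespace Groth.Agent.S15365

open MvPolynomial in
private noncomputable abbrev Rel (p : ℕ) (A : Type u) [CommRing A] (n : ℕ) (h : Matrix (Fin n) (Fin n) A) :
    Ideal (MvPolynomial (Fin n) A) :=
  Ideal.span (Set.range fun j : Fin n =>
    (X j : MvPolynomial (Fin n) A) ^ p - ∑ i : Fin n, C (h i j) * X i)

open MvPolynomial in
private noncomputable def P0 (p : ℕ) (A : Type u) [CommRing A] (n : ℕ)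
    (h : Matrix (Fin n) (Fin n) A) :
    Algebra.PreSubmersivePresentation A (MvPolynomial (Fin n) A ⧸ Rel p A n h) (Fin n) (Fin n) :=
  Algebra.PreSubmersivePresentation.naive (R := A)
    (v := fun j : Fin n => (X j : MvPolynomial (Fin n) A) ^ p - ∑ i : Fin n, C (h i j) * X i)
    (id : Fin n → Fin n) Function.injective_id

open MvPolynomial in
private lemma key (p : ℕ) (hp2 : 2 ≤ p) (A : Type u) [CommRing A] (n : ℕ)
    (h : Matrix (Fin n) (Fin n) A) (m : Ideal A) [m.IsMaximal] (w : Fin n → A ⧸ m)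
    (hw : ∀ j, ∑ i, Ideal.Quotient.mk m (h i j) * w i = 0)
    [Algebra.FormallyUnramified A (MvPolynomial (Fin n) A ⧸ Rel p A n h)] :
    w = 0 := by
  classical
  letI : Algebra A (TrivSqZeroExt (A ⧸ m) (A ⧸ m)) :=
    ((algebraMap (A ⧸ m) (TrivSqZeroExt (A ⧸ m) (A ⧸ m))).comp (Ideal.Quotient.mk m)).toAlgebra
  have halg : ∀ a : A, algebraMap A (TrivSqZeroExt (A ⧸ m) (A ⧸ m)) a =
      TrivSqZeroExt.inl (Ideal.Quotient.mk m a) := fun a => rfl
  have hker : ∀ x : Fin n → TrivSqZeroExt (A ⧸ m) (A ⧸ m),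
      (∀ j, x j ^ p - ∑ i, algebraMap A (TrivSqZeroExt (A ⧸ m) (A ⧸ m)) (h i j) * x i = 0) →
      ∀ a ∈ Rel p A n h, aeval x a = 0 := by
    intro x hx a ha
    have hle : Rel p A n h ≤
        RingHom.ker (aeval x : MvPolynomial (Fin n) A →ₐ[A] TrivSqZeroExt (A ⧸ m) (A ⧸ m)) := by
      rw [Ideal.span_le]
      rintro _ ⟨j, rfl⟩
      rw [SetLike.mem_coe, RingHom.mem_ker, map_sub, map_pow, aeval_X, map_sum]
      simp only [map_mul, aeval_C, aeval_X]
      exact hx j
    exact hle ha
  have hx0 : ∀ j, (0 : Fin n → TrivSqZeroExt (A ⧸ m) (A ⧸ m)) j ^ p -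
      ∑ i, algebraMap A (TrivSqZeroExt (A ⧸ m) (A ⧸ m)) (h i j) *
        (0 : Fin n → TrivSqZeroExt (A ⧸ m) (A ⧸ m)) i = 0 := by
    intro j
    simp only [Pi.zero_apply, mul_zero, Finset.sum_const_zero, sub_zero]
    exact zero_pow (by omega)
  have hx1 : ∀ j, (fun i => (TrivSqZeroExt.inr (w i) : TrivSqZeroExt (A ⧸ m) (A ⧸ m))) j ^ p -
      ∑ i, algebraMap A (TrivSqZeroExt (A ⧸ m) (A ⧸ m)) (h i j) *
        (fun i => (TrivSqZeroExt.inr (w i) : TrivSqZeroExt (A ⧸ m) (A ⧸ m))) i = 0 := by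
    intro j
    have h1 : (TrivSqZeroExt.inr (w j) : TrivSqZeroExt (A ⧸ m) (A ⧸ m)) ^ p = 0 := by
      rw [← Nat.sub_add_cancel hp2, pow_add, pow_two, TrivSqZeroExt.inr_mul_inr, mul_zero]
    have h2 : ∑ i, algebraMap A (TrivSqZeroExt (A ⧸ m) (A ⧸ m)) (h i j) *
        (TrivSqZeroExt.inr (w i) : TrivSqZeroExt (A ⧸ m) (A ⧸ m)) = 0 := by
      have h3 : ∀ i, algebraMap A (TrivSqZeroExt (A ⧸ m) (A ⧸ m)) (h i j) *
          (TrivSqZeroExt.inr (w i) : TrivSqZeroExt (A ⧸ m) (A ⧸ m)) =
          TrivSqZeroExt.inr (Ideal.Quotient.mk m (h i j) * w i) := by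
        intro i
        rw [halg, TrivSqZeroExt.inl_mul_inr, smul_eq_mul]
      simp only [h3]
      rw [← TrivSqZeroExt.inr_sum, hw j, TrivSqZeroExt.inr_zero]
    simp only [h1, h2, sub_zero]
  have hg0 : ∀ i, Ideal.Quotient.liftₐ (Rel p A n h) (aeval 0) (hker 0 hx0)
      (Ideal.Quotient.mk _ (X i)) = 0 := by
    intro i
    rw [Ideal.Quotient.liftₐ_apply, Ideal.Quotient.lift_mk]
    simp
  have hg1 : ∀ i, Ideal.Quotient.liftₐ (Rel p A n h)
      (aeval fun i => (TrivSqZeroExt.inr (w i) : TrivSqZeroExt (A ⧸ m) (A ⧸ m))) (hker _ hx1)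
      (Ideal.Quotient.mk _ (X i)) = TrivSqZeroExt.inr (w i) := by
    intro i
    rw [Ideal.Quotient.liftₐ_apply, Ideal.Quotient.lift_mk]
    simp
  have heq : Ideal.Quotient.liftₐ (Rel p A n h) (aeval 0) (hker 0 hx0) =
      Ideal.Quotient.liftₐ (Rel p A n h)
      (aeval fun i => (TrivSqZeroExt.inr (w i) : TrivSqZeroExt (A ⧸ m) (A ⧸ m))) (hker _ hx1) := by
    apply Algebra.FormallyUnramified.comp_injective (TrivSqZeroExt.kerIdeal (A ⧸ m) (A ⧸ m))
      (TrivSqZeroExt.kerIdeal_sq _ _)
    apply Ideal.Quotient.algHom_ext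
    apply MvPolynomial.algHom_ext
    intro i
    simp only [AlgHom.comp_apply, Ideal.Quotient.mkₐ_eq_mk]
    rw [hg0 i, hg1 i, Ideal.Quotient.eq]
    exact (TrivSqZeroExt.mem_kerIdeal_iff_inr _ _ _).mpr (by simp)
  funext i
  have h5 := congrArg (fun g => g (Ideal.Quotient.mk _ (X i))) heq
  simp only [hg0, hg1] at h5
  exact TrivSqZeroExt.inr_injective (R := A ⧸ m)
    (h5.symm.trans (TrivSqZeroExt.inr_zero (A ⧸ m)).symm)

/-- Let A be a commutative ring of characteristic p > 0 and (h_{ij})_{1 ≤ i,j ≤ n} a square matrix over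
A, the matrix of a commutative p-Lie algebra (L, φ) with L free with basis e_1, …, e_n and φ(e_j) =
Σ_i h_{ij} e_i. The associated finite group scheme Spec A[X_1, …, X_n]/(X_j^p − Σ_i h_{ij} X_i)_{1 ≤
j ≤ n} is étale over A if and only if the matrix (h_{ij}) is invertible, i.e. its determinant is a
unit of A. Only the algebra structure enters this assertion. -/
theorem result (p : ℕ) [Fact p.Prime]
    (A : Type u) [CommRing A] [CharP A p] (n : ℕ) (h : Matrix (Fin n) (Fin n) A) :
    Algebra.Etale A (MvPolynomial (Fin n) A ⧸ Ideal.span (Set.range fun j : Fin n =>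
        (MvPolynomial.X j : MvPolynomial (Fin n) A) ^ p -
          ∑ i : Fin n, MvPolynomial.C (h i j) * MvPolynomial.X i)) ↔
      IsUnit h.det := by

  classical
  constructor
  · intro hE
    by_contra hdet
    obtain ⟨m, hm, hmem⟩ := exists_max_ideal_of_mem_nonunits (show h.det ∈ nonunits A from hdet)
    haveI := hm
    have hdet0 : (h.map (Ideal.Quotient.mk m)).det = 0 := by
      have := RingHom.map_det (Ideal.Quotient.mk m) h
      rw [RingHom.mapMatrix_apply] at this
      rw [← this]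
      exact Ideal.Quotient.eq_zero_iff_mem.mpr hmem
    obtain ⟨w, hw0, hw⟩ := Matrix.exists_vecMul_eq_zero_iff.mpr hdet0
    apply hw0
    haveI : Algebra.FormallyUnramified A (MvPolynomial (Fin n) A ⧸ Rel p A n h) := by
      haveI := hE
      infer_instance
    refine key p (Fact.out : p.Prime).two_le A n h m w ?_
    intro j
    have := congrFun hw j
    simp only [Matrix.vecMul, dotProduct, Matrix.map_apply, Pi.zero_apply] at this
    rw [← this]
    exact Finset.sum_congr rfl (fun i _ => mul_comm _ _)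
  · intro hdet
    have hM : (P0 p A n h).jacobiMatrix = -(h.map MvPolynomial.C) := by
      ext i j
      unfold P0
      rw [Algebra.PreSubmersivePresentation.jacobiMatrix_naive]
      simp only [id, map_sub, map_sum, Derivation.leibniz_pow, MvPolynomial.pderiv_C_mul,
        MvPolynomial.pderiv_X, Matrix.neg_apply, Matrix.map_apply]
      rw [nsmul_eq_mul, CharP.cast_eq_zero (MvPolynomial (Fin n) A) p, zero_mul, zero_sub]
      congr 1
      simp [Pi.single_apply]
    have hjac : IsUnit (P0 p A n h).jacobian := by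
      rw [Algebra.PreSubmersivePresentation.jacobian_eq_jacobiMatrix_det, hM, Matrix.det_neg]
      apply IsUnit.map
      have hC : (h.map (MvPolynomial.C : A →+* MvPolynomial (Fin n) A)).det =
          MvPolynomial.C h.det := by
        have := RingHom.map_det (MvPolynomial.C : A →+* MvPolynomial (Fin n) A) h
        rw [RingHom.mapMatrix_apply] at this
        exact this.symm
      rw [hC]
      exact ((isUnit_one.neg).pow _).mul (hdet.map MvPolynomial.C)
    let P : Algebra.SubmersivePresentation A (MvPolynomial (Fin n) A ⧸ Rel p A n h)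
        (Fin n) (Fin n) := ⟨P0 p A n h, hjac⟩
    haveI : Algebra.IsStandardSmoothOfRelativeDimension 0 A
        (MvPolynomial (Fin n) A ⧸ Rel p A n h) :=
      P.isStandardSmoothOfRelativeDimension (by simp [Algebra.Presentation.dimension])
    infer_instance


end Groth.Agent.S15365
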