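import Groth.Statements.S15367
import Mathlib

set_option autoImplicit false
universe u v
open TensorProduct
open CAlg

namespace Groth.Agent.S15367

open DirectSum

section Cyc
variable {R : Type u} [CommRing R] [IsDomain R]

private noncomputable def mc (a c : R) :
    (R ⧸ Ideal.span {a}) →ₗ[R] (R ⧸ Ideal.span {a * c}) :=
  Submodule.mapQ (Ideal.span {a}) (Ideal.span {a * c}) (LinearMap.mulLeft R c) (by
    intro x hx
    obtain ⟨t, rfl⟩ := Ideal.mem_span_singleton'.mp hx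
    show c * (t * a) ∈ Ideal.span {a * c}
    exact Ideal.mem_span_singleton'.mpr ⟨t, by ring⟩)

private lemma mc_mk (a c x : R) :
    mc a c (Ideal.Quotient.mk _ x) = Ideal.Quotient.mk _ (c * x) := rfl

private noncomputable def Phi (a c : R) : (R ⧸ Ideal.span {a}) →ₗ[R]
    ((R ⧸ Ideal.span {a}) →ₗ[R] (R ⧸ Ideal.span {a * c})) :=
  (LinearMap.llcomp R _ _ _ (mc a c)).comp (LinearMap.mul R (R ⧸ Ideal.span {a}))

private lemma Phi_apply (a c : R) (w y : R ⧸ Ideal.span {a}) :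
    Phi a c w y = mc a c (w * y) := rfl

private lemma Phi_bijective (a c : R) (ha : a ≠ 0) (hc : c ≠ 0) :
    Function.Bijective (Phi a c) := by
  constructor
  · rw [injective_iff_map_eq_zero]
    intro w hw
    obtain ⟨w', rfl⟩ := Ideal.Quotient.mk_surjective w
    have h1 : Phi a c (Ideal.Quotient.mk _ w') 1 = 0 := by rw [hw]; rfl
    rw [Phi_apply, mul_one, mc_mk, Ideal.Quotient.eq_zero_iff_mem,
      Ideal.mem_span_singleton'] at h1
    obtain ⟨t, ht⟩ := h1
    have h2 : w' = t * a := by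
      apply mul_left_cancel₀ hc
      rw [← ht]; ring
    rw [Ideal.Quotient.eq_zero_iff_mem, Ideal.mem_span_singleton']
    exact ⟨t, h2.symm⟩
  · intro f
    obtain ⟨z, hz⟩ := Ideal.Quotient.mk_surjective (f 1)
    have h1 : (Ideal.Quotient.mk (Ideal.span {a * c}) (a * z)) = 0 := by
      have h2 : a • f 1 = 0 := by
        rw [← map_smul]
        have h3 : a • (1 : R ⧸ Ideal.span {a}) = 0 := by
          rw [Algebra.smul_def, mul_one]
          exact Ideal.Quotient.eq_zero_iff_mem.mpr (Ideal.mem_span_singleton_self a)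
        rw [h3, map_zero]
      rw [← hz] at h2
      exact h2
    rw [Ideal.Quotient.eq_zero_iff_mem, Ideal.mem_span_singleton'] at h1
    obtain ⟨t, ht⟩ := h1
    have hzt : z = c * t := by
      apply mul_left_cancel₀ ha
      rw [← ht]; ring
    refine ⟨Ideal.Quotient.mk _ t, ?_⟩
    apply LinearMap.ext
    intro y
    obtain ⟨y', rfl⟩ := Ideal.Quotient.mk_surjective y
    rw [Phi_apply, ← map_mul, mc_mk]
    have h4 : f (Ideal.Quotient.mk _ y') = Ideal.Quotient.mk _ (y' * z) := by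
      have h2 : (Ideal.Quotient.mk (Ideal.span {a}) y') = y' • (1 : R ⧸ Ideal.span {a}) := by
        rw [Algebra.smul_def, mul_one]
        rfl
      rw [h2, map_smul, ← hz]
      rfl
    rw [h4, hzt]
    congr 1
    ring

end Cyc

/-- Let R be a discrete valuation ring with uniformizer π and residue field k, n ≥ 0, and M₀ a finitely
generated module over R/πⁿR, viewed as an R-module killed by πⁿ; put M₀* = Hom_R(M₀, R/πⁿR). Then
dim_k(M₀*/πM₀*) = dim_k(M₀/πM₀). The published lemma is stated for a finitely presented module over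
the quotient of the ring of integers of an algebraic closure of K by the elements of valuation ≥ t,
with its dual into that quotient ring, and the published proof reduces it by descent to exactly this
statement over the valuation ring of a finite extension of K; the row states that step. -/
theorem result
    (R : Type u) [CommRing R] [IsDomain R] [IsDiscreteValuationRing R] (ϖ : R) (hϖ : Irreducible ϖ) (n : ℕ)
    (M : Type v) [AddCommGroup M] [Module R M] [Module.Finite R M] (hM : ∀ m : M, ϖ ^ n • m = 0) :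
    Module.finrank (IsLocalRing.ResidueField R)
        (IsLocalRing.ResidueField R ⊗[R] (M →ₗ[R] (R ⧸ Ideal.span {ϖ ^ n}))) =
      Module.finrank (IsLocalRing.ResidueField R) (IsLocalRing.ResidueField R ⊗[R] M) := by
  classical
  have hM' : Module.IsTorsion' M (Submonoid.powers ϖ) := fun x => ⟨⟨ϖ ^ n, n, rfl⟩, hM x⟩
  obtain ⟨d, k, ⟨e0⟩⟩ := Module.torsion_by_prime_power_decomposition hϖ hM'
  have e : M ≃ₗ[R] ⨁ i : Fin d, R ⧸ Ideal.span {ϖ ^ k i} := e0
  have hk : ∀ i, k i ≤ n := by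
    intro i
    have h1 : ϖ ^ n • e.symm (DirectSum.of (fun i : Fin d => R ⧸ Ideal.span {ϖ ^ k i}) i 1) = 0 :=
      hM _
    rw [← map_smul, LinearEquiv.map_eq_zero_iff] at h1
    have h2 : ϖ ^ n • (DirectSum.of (fun i : Fin d => R ⧸ Ideal.span {ϖ ^ k i}) i 1) =
        DirectSum.of (fun i : Fin d => R ⧸ Ideal.span {ϖ ^ k i}) i
          (Ideal.Quotient.mk _ (ϖ ^ n)) := by
      rw [← DirectSum.of_smul]
      congr 1
      rw [Algebra.smul_def, mul_one]
      rfl
    rw [h2] at h1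
    have h3 := DirectSum.of_injective (β := fun i : Fin d => R ⧸ Ideal.span {ϖ ^ k i}) i
      (h1.trans (map_zero _).symm)
    rw [Ideal.Quotient.eq_zero_iff_mem, Ideal.mem_span_singleton] at h3
    exact (pow_dvd_pow_iff hϖ.ne_zero hϖ.not_isUnit).mp h3
  have hcyc : ∀ i, Nonempty (((R ⧸ Ideal.span {ϖ ^ k i}) →ₗ[R] (R ⧸ Ideal.span {ϖ ^ n})) ≃ₗ[R]
      (R ⧸ Ideal.span {ϖ ^ k i})) := by
    intro i
    have hpow : ϖ ^ n = ϖ ^ k i * ϖ ^ (n - k i) := by
      rw [← pow_add, Nat.add_sub_cancel' (hk i)]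
    rw [hpow]
    exact ⟨(LinearEquiv.ofBijective (Phi _ _) (Phi_bijective _ _ (pow_ne_zero _ hϖ.ne_zero)
      (pow_ne_zero _ hϖ.ne_zero))).symm⟩
  let E1 : (M →ₗ[R] R ⧸ Ideal.span {ϖ ^ n}) ≃ₗ[R]
      ((⨁ i : Fin d, R ⧸ Ideal.span {ϖ ^ k i}) →ₗ[R] R ⧸ Ideal.span {ϖ ^ n}) :=
    LinearEquiv.congrLeft (R ⧸ Ideal.span {ϖ ^ n}) R e
  let E2 : ((⨁ i : Fin d, R ⧸ Ideal.span {ϖ ^ k i}) →ₗ[R] R ⧸ Ideal.span {ϖ ^ n}) ≃ₗ[R]
      (∀ i : Fin d, (R ⧸ Ideal.span {ϖ ^ k i}) →ₗ[R] R ⧸ Ideal.span {ϖ ^ n}) :=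
    (DFinsupp.lsum R (M := fun i : Fin d => R ⧸ Ideal.span {ϖ ^ k i})
      (N := R ⧸ Ideal.span {ϖ ^ n})).symm
  let E3 : (∀ i : Fin d, (R ⧸ Ideal.span {ϖ ^ k i}) →ₗ[R] R ⧸ Ideal.span {ϖ ^ n}) ≃ₗ[R]
      (∀ i : Fin d, R ⧸ Ideal.span {ϖ ^ k i}) :=
    LinearEquiv.piCongrRight (fun i => (hcyc i).some)
  let E4 : (∀ i : Fin d, R ⧸ Ideal.span {ϖ ^ k i}) ≃ₗ[R]
      (⨁ i : Fin d, R ⧸ Ideal.span {ϖ ^ k i}) :=
    (DirectSum.linearEquivFunOnFintype R (Fin d) (fun i : Fin d => R ⧸ Ideal.span {ϖ ^ k i})).symm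
  let E : (M →ₗ[R] R ⧸ Ideal.span {ϖ ^ n}) ≃ₗ[R] M := E1 ≪≫ₗ E2 ≪≫ₗ E3 ≪≫ₗ E4 ≪≫ₗ e.symm
  exact LinearEquiv.finrank_eq
    (TensorProduct.AlgebraTensorModule.congr
      (LinearEquiv.refl (IsLocalRing.ResidueField R) (IsLocalRing.ResidueField R)) E)

end Groth.Agent.S15367
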