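import Groth.Statements.S15368
import Mathlib

set_option autoImplicit false
universe u v
open TensorProduct
open CAlg

namespace Groth.Agent.S15368

private theorem pid_spanFinrank_le {R : Type u} [CommRing R] [IsDomain R] [IsPrincipalIdealRing R]
    {M : Type v} [AddCommGroup M] [Module R M] [Module.Finite R M] (N : Submodule R M) :
    N.spanFinrank ≤ (⊤ : Submodule R M).spanFinrank := by
  classical
  obtain ⟨s, hs1, hs2⟩ :=
    (Module.Finite.fg_top : (⊤ : Submodule R M).FG).exists_span_finset_card_eq_spanFinrank
  have hsurj : Function.Surjective (Fintype.linearCombination R (fun x : s => (x : M))) := by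
    rw [← LinearMap.range_eq_top, Fintype.range_linearCombination, Subtype.range_coe_subtype]
    exact hs2
  have hmap : (N.comap (Fintype.linearCombination R (fun x : s => (x : M)))).map
      (Fintype.linearCombination R (fun x : s => (x : M))) = N :=
    Submodule.map_comap_eq_of_surjective hsurj N
  have hfg : (N.comap (Fintype.linearCombination R (fun x : s => (x : M)))).FG :=
    IsNoetherian.noetherian _
  calc N.spanFinrank
      = ((N.comap (Fintype.linearCombination R (fun x : s => (x : M)))).map
          (Fintype.linearCombination R (fun x : s => (x : M)))).spanFinrank := by rw [hmap]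
    _ ≤ (N.comap (Fintype.linearCombination R (fun x : s => (x : M)))).spanFinrank :=
        Submodule.spanFinrank_map_le_of_fg _ hfg
    _ = Module.finrank R (N.comap (Fintype.linearCombination R (fun x : s => (x : M)))) := by
        rw [Module.finrank_eq_spanFinrank_of_free, Submodule.spanFinrank_top]
    _ ≤ Module.finrank R (s → R) := Submodule.finrank_le _
    _ = (⊤ : Submodule R M).spanFinrank := by
        rw [Module.finrank_fintype_fun_eq_card, Fintype.card_coe, hs1]

/-- Let R be a discrete valuation ring with uniformizer π and residue field k, n ≥ 0, M₀ a finitely
generated R-module killed by πⁿ and N₀ a submodule of M₀. Then dim_k(N₀/πN₀) ≤ dim_k(M₀/πM₀). The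
published lemma is stated for a finitely presented submodule N of a finitely presented module M over
the quotient of the ring of integers of an algebraic closure of K by the elements of valuation ≥ t,
and the published proof reduces it by descent to exactly this statement over the valuation ring of a
finite extension of K (comparing π-torsion with π-cotorsion by additivity of length); the row states
that step. -/
theorem result
    (R : Type u) [CommRing R] [IsDomain R] [IsDiscreteValuationRing R] (ϖ : R) (hϖ : Irreducible ϖ) (n : ℕ)
    (M : Type v) [AddCommGroup M] [Module R M] [Module.Finite R M] (hM : ∀ m : M, ϖ ^ n • m = 0)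
    (N : Submodule R M) :
    Module.finrank (IsLocalRing.ResidueField R) (IsLocalRing.ResidueField R ⊗[R] N) ≤
      Module.finrank (IsLocalRing.ResidueField R) (IsLocalRing.ResidueField R ⊗[R] M) := by

  classical
  have hNfg : N.FG := IsNoetherian.noetherian N
  have h1 : Module.finrank (IsLocalRing.ResidueField R) (IsLocalRing.ResidueField R ⊗[R] N) =
      N.spanFinrank := by
    rw [Module.finrank_eq_spanFinrank_of_free,
      TensorProduct.spanFinrank_top_eq_of_residueField N hNfg]
  have h2 : Module.finrank (IsLocalRing.ResidueField R) (IsLocalRing.ResidueField R ⊗[R] M) =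
      (⊤ : Submodule R M).spanFinrank := by
    have e : IsLocalRing.ResidueField R ⊗[R] (⊤ : Submodule R M) ≃ₗ[IsLocalRing.ResidueField R]
        IsLocalRing.ResidueField R ⊗[R] M :=
      TensorProduct.AlgebraTensorModule.congr (LinearEquiv.refl _ _) Submodule.topEquiv
    rw [← e.finrank_eq, Module.finrank_eq_spanFinrank_of_free,
      TensorProduct.spanFinrank_top_eq_of_residueField ⊤ Module.Finite.fg_top]
  rw [h1, h2]
  exact pid_spanFinrank_le N


end Groth.Agent.S15368
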