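import Groth.Statements.S4619
import Groth.Agent.S2150
import Groth.Agent.S2502

set_option autoImplicit false
open CategoryTheory AlgebraicGeometry
universe u
open FBase

namespace Groth.Agent.S4619

/-- For a connected scheme: let X be a connected scheme over a field k and x a point of X whose residue
field κ(x) is a primary extension of k, i.e. the separable algebraic closure of k in κ(x) is k
itself (this holds in particular when x is a k-rational point). Then X is geometrically connected
over k. (The published statement concerns the connected component of x in an arbitrary scheme over
k; this row takes X connected.) -/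
theorem result {k : Type u} [Field k] {X : Scheme.{u}}
    [ConnectedSpace X] (f : X ⟶ Spec (CommRingCat.of k)) (x : X)
    (hx : FBase.ResidueFieldProp f x (fun K _ _ => separableClosure k K = ⊥)) :
    GeometricallyConnected f := by
  obtain ⟨φ, hφ, hsep⟩ := hx
  letI : Algebra k (X.residueField x) := φ.toAlgebra
  have hirr : ∀ (k' : Type u) [Field k'] [Algebra k k'],
      IrreducibleSpace (PrimeSpectrum (TensorProduct k k' (X.residueField x))) := by
    refine (Groth.Agent.S2150.result (k := k) (K := X.residueField x)).mpr ?_
    intro α hα
    have h1 : α ∈ separableClosure k (X.residueField x) := mem_separableClosure_iff.mpr hα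
    rw [hsep] at h1
    exact IntermediateField.mem_bot.mp h1
  haveI hgc : GeometricallyConnected (Spec.map (CommRingCat.ofHom φ)) := by
    refine ⟨geometrically_iff_of_commRing_of_isClosedUnderIsomorphisms.mpr fun k' _ _ => ?_⟩
    haveI := hirr k'
    haveI : ConnectedSpace (PrimeSpectrum (TensorProduct k k' (X.residueField x))) := inferInstance
    let e1 : PrimeSpectrum (TensorProduct k k' (X.residueField x)) ≃ₜ
        PrimeSpectrum (TensorProduct k (X.residueField x) k') :=
      PrimeSpectrum.homeomorphOfRingEquiv
        (Algebra.TensorProduct.comm k k' (X.residueField x)).toRingEquiv
    haveI : ConnectedSpace (PrimeSpectrum (TensorProduct k (X.residueField x) k')) :=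
      e1.surjective.connectedSpace e1.continuous
    haveI : ConnectedSpace ↥(Spec (CommRingCat.of (TensorProduct k (X.residueField x) k'))) :=
      ‹ConnectedSpace (PrimeSpectrum (TensorProduct k (X.residueField x) k'))›
    have e := pullbackSpecIso k (X.residueField x) k'
    exact e.inv.homeomorph.surjective.connectedSpace e.inv.homeomorph.continuous
  haveI : GeometricallyConnected (X.fromSpecResidueField x ≫ f) := by rw [← hφ]; exact hgc
  exact Groth.Agent.S2502.result (X.fromSpecResidueField x) f

end Groth.Agent.S4619
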