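import Groth.Statements.S1537
import Mathlib
import Groth.Agent.S4619

set_option autoImplicit false
universe u
open CategoryTheory CategoryTheory.Limits AlgebraicGeometry
open Variety

namespace Groth.Agent.S1537

theorem fromSpecRes_comp1537 (k : Type u) [Field k] (X : Scheme.{u})
    [X.Over (Spec (CommRingCat.of k))] (x : X) :
    X.fromSpecResidueField x ≫ (X ↘ Spec (CommRingCat.of k)) =
      Spec.map (CommRingCat.ofHom (Curv2.resMap k X x)) := by
  apply ext_of_isAffine
  rw [← cancel_mono (Scheme.ΓSpecIso _).hom, Scheme.ΓSpecIso_naturality]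
  simp only [Scheme.fromSpecResidueField, Scheme.Hom.comp_appTop, Scheme.fromSpecStalk_appTop,
    Category.assoc, Scheme.ΓSpecIso_naturality]
  have e : ∀ (h : (X.fromSpecStalk x) ⁻¹ᵁ ⊤ ≤ ⊤),
      (Spec (X.presheaf.stalk x)).presheaf.map (homOfLE h).op = 𝟙 _ :=
    fun h => (Spec _).presheaf.map_id _
  have hres : CommRingCat.ofHom (Curv2.resMap k X x) =
      (Scheme.ΓSpecIso (CommRingCat.of k)).inv ≫ (X ↘ Spec (CommRingCat.of k)).appTop ≫
        X.presheaf.germ ⊤ x trivial ≫ X.residue x := rfl
  erw [e]
  rw [Category.id_comp, Iso.inv_hom_id_assoc, hres, Iso.hom_inv_id_assoc]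

/-- A connected k-scheme is geometrically connected as soon as it has a point whose residue field
contains no element integral over k other than the elements of k. -/
theorem result (k : Type u) [Field k] (X : Scheme.{u}) [X.Over (Spec (CommRingCat.of k))] [ConnectedSpace X]
    (x : X) (hx : ∀ a : X.residueField x, (Curv2.resMap k X x).IsIntegralElem a → a ∈ (Curv2.resMap k X x).range) :
    GeometricallyConnected (X ↘ (Spec (CommRingCat.of k))) := by
  refine Groth.Agent.S4619.result (X ↘ Spec (CommRingCat.of k)) x
    ⟨Curv2.resMap k X x, (fromSpecRes_comp1537 k X x).symm, ?_⟩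
  letI : Algebra k (X.residueField x) := (Curv2.resMap k X x).toAlgebra
  show separableClosure k (X.residueField x) = ⊥
  refine eq_bot_iff.mpr ?_
  intro a ha
  have hsep : IsSeparable k a := mem_separableClosure_iff.mp ha
  have hint : IsIntegral k a := hsep.isIntegral
  have hmem : a ∈ (Curv2.resMap k X x).range := hx a hint
  obtain ⟨c, hc⟩ := hmem
  exact IntermediateField.mem_bot.mpr ⟨c, hc⟩

end Groth.Agent.S1537
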