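import Groth.Statements.S15391
import Mathlib

set_option autoImplicit false
universe u
open TensorProduct
open TorFree

namespace Groth.Agent.S15391

/-- Let R be a reduced Noetherian commutative ring, M a finitely generated torsion-free R-module (no
non-zero element of M is annihilated by a non-zero-divisor of R), and t an element of M whose image
1 ⊗ t in the fibre κ(p) ⊗_R M vanishes for every prime ideal p of R, κ(p) being the residue field at
p. Then t = 0. This is the affine form of the claim that a global section of a coherent torsion-free
module on a reduced Noetherian scheme which vanishes in every fibre is zero. -/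
theorem result (R : Type u) [CommRing R] [IsReduced R] [IsNoetherianRing R]
    (M : Type u) [AddCommGroup M] [Module R M] [Module.Finite R M] [Module.IsTorsionFree R M]
    (t : M) (ht : ∀ p : PrimeSpectrum R, (1 : p.asIdeal.ResidueField) ⊗ₜ[R] t = (0 : p.asIdeal.ResidueField ⊗[R] M)) :
    t = 0 := by
  classical
  -- Step 1: for each minimal prime p there is u ∉ p with u • t = 0
  have step1 : ∀ p ∈ minimalPrimes R, ∃ u : R, u ∉ p ∧ u • t = 0 := by
    intro p hp
    have hpp : p.IsPrime := hp.1.1
    have hred : IsReduced (Localization.AtPrime p) := inferInstance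
    have hmax : IsLocalRing.maximalIdeal (Localization.AtPrime p) = ⊥ := by
      have h1 := IsLocalization.AtPrime.radical_map_of_mem_minimalPrimes
        (Localization.AtPrime p) p ⊥ hp
      rw [Ideal.map_bot, Localization.AtPrime.map_eq_maximalIdeal] at h1
      rw [← h1]
      exact nilradical_eq_zero _
    have hbij : Function.Bijective (IsLocalRing.residue (Localization.AtPrime p)) := by
      refine ⟨?_, IsLocalRing.residue_surjective⟩
      rw [injective_iff_map_eq_zero]
      intro x hx
      have : x ∈ IsLocalRing.maximalIdeal (Localization.AtPrime p) := by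
        rwa [← IsLocalRing.residue_eq_zero_iff]
      rw [hmax] at this
      simpa using this
    let e : Localization.AtPrime p ≃ₗ[R] p.ResidueField :=
      LinearEquiv.ofBijective (IsScalarTower.toAlgHom R (Localization.AtPrime p)
        p.ResidueField).toLinearMap hbij
    have he1 : e 1 = 1 := map_one (IsScalarTower.toAlgHom R (Localization.AtPrime p)
        p.ResidueField)
    have h0 := ht ⟨p, hpp⟩
    have h1 : (1 : Localization.AtPrime p) ⊗ₜ[R] t = 0 := by
      have := congrArg (TensorProduct.map e.symm.toLinearMap LinearMap.id) h0
      rw [TensorProduct.map_tmul, map_zero] at this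
      rw [← this]
      congr 1
      rw [← he1]
      simp
    have h2 : LocalizedModule.mk t (1 : p.primeCompl) = 0 := by
      have := congrArg (LocalizedModule.equivTensorProduct p.primeCompl M).symm h1
      simpa using this
    rw [← LocalizedModule.zero_mk (1 : p.primeCompl), LocalizedModule.mk_eq] at h2
    obtain ⟨u, hu⟩ := h2
    refine ⟨u.1, u.2, ?_⟩
    have hu' : u • t = 0 := by simpa using hu
    exact hu'
  -- Step 2: the annihilator of t contains an element outside all minimal primes
  have hfin := minimalPrimes.finite_of_isNoetherianRing R
  obtain ⟨s, hst, hs⟩ : ∃ s : R, s • t = 0 ∧ ∀ p ∈ minimalPrimes R, s ∉ p := by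
    by_contra hcon
    push_neg at hcon
    have hsub : ((LinearMap.ker (LinearMap.toSpanSingleton R M t) : Ideal R) : Set R) ⊆
        ⋃ p ∈ (hfin.toFinset : Set (Ideal R)), ((id p : Ideal R) : Set R) := by
      intro s hs
      have hs' : s • t = 0 := by simpa using hs
      obtain ⟨p, hp, hsp⟩ := hcon s hs'
      simp only [Set.Finite.coe_toFinset, id_eq, Set.mem_iUnion, SetLike.mem_coe, exists_prop]
      exact ⟨p, hp, hsp⟩
    obtain ⟨p, hp, hle⟩ := (Ideal.subset_union_prime (f := id) (s := hfin.toFinset) ⊥ ⊥
      (fun i hi _ _ => by
        have : i ∈ minimalPrimes R := by simpa using hi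
        exact this.1.1)).mp hsub
    have hp' : p ∈ minimalPrimes R := by simpa using hp
    obtain ⟨u, hup, hut⟩ := step1 p hp'
    exact hup (hle (by simpa using hut))
  -- Step 3: s is regular
  have hreg : IsRegular s := by
    rw [← isLeftRegular_iff_isRegular]
    intro x y hxy
    have h0 : s * (x - y) = 0 := by
      have : s * x = s * y := hxy
      rw [mul_sub, this, sub_self]
    have hmem : x - y ∈ nilradical R := by
      rw [nilradical_eq_sInf, Ideal.mem_sInf]
      intro q hq
      have hqprime : q.IsPrime := hq
      obtain ⟨p, hp, hpq⟩ := Ideal.exists_minimalPrimes_le (bot_le : (⊥ : Ideal R) ≤ q)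
      have hp' : p ∈ minimalPrimes R := hp
      have hpprime : p.IsPrime := hp.1.1
      have : s * (x - y) ∈ p := by rw [h0]; exact p.zero_mem
      rcases hpprime.mem_or_mem this with h | h
      · exact absurd h (hs p hp')
      · exact hpq h
    rw [nilradical_eq_zero] at hmem
    exact sub_eq_zero.mp (by simpa using hmem)
  exact hreg.isSMulRegular (by simpa using hst)

end Groth.Agent.S15391
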