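import Groth.Statements.S1540
import Mathlib
import Groth.Agent.S2150
import Groth.Agent.S1537
import Groth.Agent.Lib.Helper18.GeomIrrField

set_option autoImplicit false
universe u
open CategoryTheory CategoryTheory.Limits AlgebraicGeometry
attribute [local instance] Curv2.resAlgebra Curv2.stalkAlgebra
open Variety

namespace Groth.Agent.S1540

/-- An irreducible scheme X over k with generic point ξ is geometrically irreducible if and only if the
separable algebraic closure of k in the residue field of ξ is k itself. -/
theorem result (k : Type u) [Field k] (X : Scheme.{u}) [X.Over (Spec (CommRingCat.of k))] [IrreducibleSpace X] :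
    GeometricallyIrreducible (X ↘ (Spec (CommRingCat.of k))) ↔
      ∀ a : X.residueField (genericPoint X), IsSeparable k a → a ∈ Set.range (algebraMap k (X.residueField (genericPoint X))) := by
  have key : ∀ (k' : Type u) [Field k'] [Algebra k k'],
      IrreducibleSpace ↥(pullback (X ↘ Spec (CommRingCat.of k))
        (Spec.map (CommRingCat.ofHom (algebraMap k k')))) ↔
      IrreducibleSpace (PrimeSpectrum
        (TensorProduct k k' (X.residueField (genericPoint X)))) := by
    intro k' _ _
    rw [Groth.Agent.Helper18.GeomIrrField.irr_iff (k' := k') (X ↘ Spec (CommRingCat.of k)),
      Groth.Agent.S1537.fromSpecRes_comp1537]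
    have e := pullbackSpecIso k (X.residueField (genericPoint X)) k'
    let e1 : PrimeSpectrum (TensorProduct k k' (X.residueField (genericPoint X))) ≃ₜ
        PrimeSpectrum (TensorProduct k (X.residueField (genericPoint X)) k') :=
      PrimeSpectrum.homeomorphOfRingEquiv
        (Algebra.TensorProduct.comm k k' (X.residueField (genericPoint X))).toRingEquiv
    have h1 : IrreducibleSpace ↥(pullback
        (Spec.map (CommRingCat.ofHom (algebraMap k (X.residueField (genericPoint X)))))
        (Spec.map (CommRingCat.ofHom (algebraMap k k')))) ↔
        IrreducibleSpace ↥(Spec (CommRingCat.of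
          (TensorProduct k (X.residueField (genericPoint X)) k'))) :=
      e.hom.homeomorph.irreducibleSpace_iff
    have h2 : IrreducibleSpace (PrimeSpectrum
        (TensorProduct k k' (X.residueField (genericPoint X)))) ↔
        IrreducibleSpace (PrimeSpectrum
          (TensorProduct k (X.residueField (genericPoint X)) k')) :=
      e1.irreducibleSpace_iff
    exact h1.trans h2.symm
  rw [← Groth.Agent.S2150.result (k := k) (K := X.residueField (genericPoint X)),
    geometricallyIrreducible_iff, geometrically_iff_of_commRing_of_isClosedUnderIsomorphisms]
  constructor
  · intro h k' _ _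
    exact (key k').mp (h k')
  · intro h k' _ _
    exact (key k').mpr (h k')

end Groth.Agent.S1540
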