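import Groth.Statements.S15412
import Mathlib

set_option autoImplicit false
universe w v u
open CategoryTheory Opposite
open Bitors

namespace Groth.Agent.S15412

open CategoryTheory Opposite in
theorem rightStr_ext {C : Type u} [Category.{v} C] {J : GrothendieckTopology C}
    {G H : Sheaf J GrpCat.{w}} {P : NonAbH1.GSheaf G} (ρ ρ' : Bitors.RightStr P H)
    (h : ∀ (U : Cᵒᵖ) (p : P.P.obj.obj U) (x : H.obj.obj U), ρ.rsmul p x = ρ'.rsmul p x) : ρ = ρ' := by
  cases ρ with | mk r1 _ _ _ _ _ =>
  cases ρ' with | mk r2 _ _ _ _ _ =>
  have : @r1 = @r2 := by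
    funext U p x
    exact h U p x
  subst this
  rfl

open CategoryTheory Opposite in
theorem isomFamily_ext {C : Type u} [Category.{v} C] {J : GrothendieckTopology C}
    {G H : Sheaf J GrpCat.{w}} {P : NonAbH1.GSheaf G} (φ φ' : Bitors.IsomFamily P H)
    (h : ∀ (U : Cᵒᵖ) (p : P.P.obj.obj U) (x : H.obj.obj U), φ.φ p x = φ'.φ p x) : φ = φ' := by
  cases φ with | mk f1 _ _ =>
  cases φ' with | mk f2 _ _ =>
  have : @f1 = @f2 := by
    funext U p
    exact MulEquiv.ext (h U p)
  subst this
  rfl

/-- On a site, let G and H be sheaves of groups and P a sheaf of sets with a left G-action which is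
simply transitive on every set of sections P(U). The right H-actions on P that are compatible with
restriction, commute with the G-action and are simply transitive on every P(U) (for P a G-torsor:
the structures of (G, H)-bitorsor on P) correspond exactly to the families of group isomorphisms φ_p
: H(U) ≃ G(U), one for each section p of P over each U, compatible with restriction and with φ_{g·p}
= g φ_p g⁻¹ (the equivariant maps from P to the sheaf of isomorphisms from H to G); the
correspondence is the rule p · h = φ_p(h) · p, and the statement is that every right structure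
arises by this rule from exactly one family and every family from exactly one right structure. (The
published statement takes P a left G-torsor; only the simple transitivity of the G-action on
sections enters, so local existence of sections is not assumed.) -/
theorem result
    {C : Type u} [Category.{v} C] {J : GrothendieckTopology C}
    (G H : Sheaf J GrpCat.{w}) (P : NonAbH1.GSheaf G) (hP : P.IsPseudoTorsor) :
    (∀ ρ : Bitors.RightStr P H, ∃! φ : Bitors.IsomFamily P H,
        ∀ (U : Cᵒᵖ) (p : P.P.obj.obj U) (h : H.obj.obj U), ρ.rsmul p h = P.smul (φ.φ p h) p) ∧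
    (∀ φ : Bitors.IsomFamily P H, ∃! ρ : Bitors.RightStr P H,
        ∀ (U : Cᵒᵖ) (p : P.P.obj.obj U) (h : H.obj.obj U), ρ.rsmul p h = P.smul (φ.φ p h) p) := by
  have huniq : ∀ {U : Cᵒᵖ} (p : P.P.obj.obj U) (g g' : G.obj.obj U),
      P.smul g p = P.smul g' p → g = g' := by
    intro U p g g' h
    exact (hP U p (P.smul g' p)).unique h rfl
  constructor
  · intro ρ
    -- the function
    let f : ∀ {U : Cᵒᵖ}, P.P.obj.obj U → H.obj.obj U → G.obj.obj U :=
      fun {U} p h ↦ (hP U p (ρ.rsmul p h)).choose
    have hf : ∀ {U : Cᵒᵖ} (p : P.P.obj.obj U) (h : H.obj.obj U), P.smul (f p h) p = ρ.rsmul p h :=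
      fun {U} p h ↦ (hP U p (ρ.rsmul p h)).choose_spec.1
    have hmul : ∀ {U : Cᵒᵖ} (p : P.P.obj.obj U) (h h' : H.obj.obj U),
        f p (h * h') = f p h * f p h' := by
      intro U p h h'
      apply huniq p
      rw [hf, ρ.rsmul_mul, ← hf p h, ρ.smul_rsmul, ← hf p h', ← P.mul_smul]
    let finv : ∀ {U : Cᵒᵖ}, P.P.obj.obj U → G.obj.obj U → H.obj.obj U :=
      fun {U} p g ↦ (ρ.existsUnique_rsmul p (P.smul g p)).choose
    have hfinv : ∀ {U : Cᵒᵖ} (p : P.P.obj.obj U) (g : G.obj.obj U),
        ρ.rsmul p (finv p g) = P.smul g p :=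
      fun {U} p g ↦ (ρ.existsUnique_rsmul p (P.smul g p)).choose_spec.1
    have hruniq : ∀ {U : Cᵒᵖ} (p : P.P.obj.obj U) (h h' : H.obj.obj U),
        ρ.rsmul p h = ρ.rsmul p h' → h = h' := by
      intro U p h h' hh
      exact (ρ.existsUnique_rsmul p (ρ.rsmul p h')).unique hh rfl
    let Φ : Bitors.IsomFamily P H :=
      { φ := fun {U} p ↦
          { toFun := f p
            invFun := finv p
            left_inv := fun h ↦ by
              apply hruniq p
              rw [hfinv, hf]
            right_inv := fun g ↦ by
              apply huniq p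
              rw [hf, hfinv]
            map_mul' := hmul p }
        map_φ := fun {U V} k p h ↦ by
          apply huniq (P.P.obj.map k p)
          show P.smul (G.obj.map k (f p h)) _ = P.smul (f _ _) _
          rw [hf, ← P.map_smul, hf, ρ.map_rsmul]
        φ_smul := fun {U} g p h ↦ by
          apply huniq (P.smul g p)
          show P.smul (f _ _) _ = P.smul (g * f p h * g⁻¹) _
          rw [hf, ρ.smul_rsmul, ← hf p h, ← P.mul_smul, ← P.mul_smul, inv_mul_cancel_right] }
    refine ⟨Φ, fun U p h ↦ (hf p h).symm, ?_⟩
    intro Φ' hΦ'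
    apply Groth.Agent.S15412.isomFamily_ext
    intro U p x
    apply huniq p
    rw [← hΦ' U p x]
    exact (hf p x).symm
  · intro φ
    let R : Bitors.RightStr P H :=
      { rsmul := fun {U} p h ↦ P.smul (φ.φ p h) p
        rsmul_one := fun {U} p ↦ by rw [map_one, P.one_smul]
        rsmul_mul := fun {U} p h h' ↦ by
          rw [φ.φ_smul, ← P.mul_smul, inv_mul_cancel_right, map_mul]
        map_rsmul := fun {U V} k p h ↦ by
          rw [P.map_smul, φ.map_φ]
        smul_rsmul := fun {U} g p h ↦ by
          rw [φ.φ_smul, ← P.mul_smul, ← P.mul_smul, inv_mul_cancel_right]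
        existsUnique_rsmul := fun {U} p q ↦ by
          obtain ⟨g, hg, hg'⟩ := hP U p q
          refine ⟨(φ.φ p).symm g, ?_, ?_⟩
          · show P.smul _ p = q
            rw [MulEquiv.apply_symm_apply, hg]
          · intro h' hh'
            have : φ.φ p h' = g := hg' _ hh'
            rw [← this, MulEquiv.symm_apply_apply] }
    refine ⟨R, fun U p h ↦ rfl, ?_⟩
    intro R' hR'
    apply Groth.Agent.S15412.rightStr_ext
    intro U p x
    rw [hR' U p x]

end Groth.Agent.S15412
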