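import Groth.Statements.S15426
import Groth.Agent.H13.LCBasic

set_option autoImplicit false
set_option linter.style.haveILetI false
universe u
open LocCoh

namespace Groth.Agent.S15426

/-- Let A be a commutative ring, I an ideal, M an A-module and i ≥ 0. Every element of the local
cohomology module H^i_I(M), the direct limit over n of Ext^i_A(A/I^n, M), is annihilated by some
power of I. -/
theorem result (A : Type u) [CommRing A] (I : Ideal A) (i : ℕ)
    (M : Type u) [AddCommGroup M] [Module A M] :
    LocCoh.IsPowerTorsion I (LocCoh.H I i M) := by
  exact Groth.Agent.H13.LC.isPowerTorsion I i (ModuleCat.of A M)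

end Groth.Agent.S15426
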