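import Groth.Statements.S15429
import Mathlib
import Groth.Agent.S15428

set_option autoImplicit false
universe u
open GrSyz

namespace Groth.Agent.S15429

/-- The polynomial `e ↦ C(r + e, r)`. -/
noncomputable def binomPoly (r : ℕ) : Polynomial ℚ :=
  Polynomial.C (1 / (r.factorial : ℚ)) * (ascPochhammer ℚ r).comp (Polynomial.X + 1)

theorem binomPoly_eval_of_nonneg (r n : ℕ) :
    (binomPoly r).eval (n : ℚ) = ((Nat.choose (r + n) r : ℕ) : ℚ) := by
  unfold binomPoly
  rw [Polynomial.eval_mul, Polynomial.eval_C, Polynomial.eval_comp, Polynomial.eval_add,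
    Polynomial.eval_X, Polynomial.eval_one]
  have h1 : ((n : ℚ) + 1) = ((n + 1 : ℕ) : ℚ) := by push_cast; ring
  rw [h1, ascPochhammer_nat_eq_natCast_ascFactorial, Nat.ascFactorial_eq_factorial_mul_choose]
  have hr : (r.factorial : ℚ) ≠ 0 := by exact_mod_cast Nat.factorial_ne_zero r
  push_cast
  rw [Nat.add_comm n r, Nat.choose_symm_add]
  field_simp

theorem binomPoly_eval_of_neg (r : ℕ) (e : ℤ) (h1 : -(r : ℤ) ≤ e) (h2 : e < 0) :
    (binomPoly r).eval (e : ℚ) = 0 := by
  unfold binomPoly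
  rw [Polynomial.eval_mul, Polynomial.eval_C, Polynomial.eval_comp, Polynomial.eval_add,
    Polynomial.eval_X, Polynomial.eval_one]
  have : (ascPochhammer ℚ r).eval ((e : ℚ) + 1) = 0 := by
    rw [ascPochhammer_eval_eq_zero_iff]
    refine ⟨(-e - 1).toNat, ?_, ?_⟩
    · omega
    · have h3 : (((-e - 1).toNat : ℕ) : ℤ) = -e - 1 := Int.toNat_of_nonneg (by omega)
      have h4 : (((-e - 1).toNat : ℕ) : ℚ) = ((((-e - 1).toNat : ℕ) : ℤ) : ℚ) := by norm_cast
      rw [h4, h3]
      push_cast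
      ring
  rw [this, mul_zero]

/-- Let k be a field, S = k[x_0, …, x_r] graded by degree and M a ℤ-graded S-module with a finite graded
free resolution 0 → F_m → … → F_0 → M → 0 by free modules of finite rank with homogeneous bases, the
basis vectors of F_i having degrees a_{i,b}. Then there is a polynomial P with rational
coefficients, the Hilbert polynomial of M, with dim_k M_d = P(d) for every integer d such that d ≥
a_{i,b} − r for all i and b. -/
theorem result (k : Type u) [Field k] (r : ℕ)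
    (M : Type u) [AddCommGroup M] [Module k M] [Module (MvPolynomial (Fin (r + 1)) k) M]
    [IsScalarTower k (MvPolynomial (Fin (r + 1)) k) M] [Module.Finite (MvPolynomial (Fin (r + 1)) k) M]
    (ℳ : ℤ → Submodule k M) [DirectSum.Decomposition ℳ] [SetLike.GradedSMul (GrSyz.stdGr k (Fin (r + 1))) ℳ]
    (F : GrSyz.FreeRes (GrSyz.stdGr k (Fin (r + 1))) ℳ) (m : ℕ) (hF : F.HasLengthLE m) :
    ∃ P : Polynomial ℚ, ∀ d : ℤ, (∀ (i : ℕ) (b : Fin (F.rk i)), F.deg i b - (r : ℤ) ≤ d) →
      ((Module.finrank k ↥(ℳ d) : ℤ) : ℚ) = P.eval (d : ℚ) := by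
  refine ⟨∑ i ∈ Finset.range (m + 1), Polynomial.C ((-1 : ℚ) ^ i) * ∑ b : Fin (F.rk i),
    (Groth.Agent.S15429.binomPoly r).comp (Polynomial.X - Polynomial.C (F.deg i b : ℚ)), ?_⟩
  intro d hd
  rw [Groth.Agent.S15428.result k r M ℳ F m hF d]
  rw [Polynomial.eval_finset_sum]
  push_cast
  refine Finset.sum_congr rfl (fun i _ => ?_)
  rw [Polynomial.eval_mul, Polynomial.eval_C, Polynomial.eval_finset_sum]
  congr 1
  refine Finset.sum_congr rfl (fun b _ => ?_)
  rw [Polynomial.eval_comp, Polynomial.eval_sub, Polynomial.eval_X, Polynomial.eval_C]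
  have hcast : ((d : ℚ) - (F.deg i b : ℚ)) = ((d - F.deg i b : ℤ) : ℚ) := by push_cast; ring
  rw [hcast]
  split_ifs with h
  · obtain ⟨n, hn⟩ := Int.eq_ofNat_of_zero_le (sub_nonneg.mpr h)
    rw [hn, Int.toNat_natCast]
    have : (((n : ℕ) : ℤ) : ℚ) = (n : ℚ) := by norm_cast
    rw [this, Groth.Agent.S15429.binomPoly_eval_of_nonneg]
  · rw [Groth.Agent.S15429.binomPoly_eval_of_neg r _ (by have := hd i b; omega) (by omega)]

end Groth.Agent.S15429
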