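import Groth.Statements.S15430
import Mathlib
import Groth.Agent.S15427

set_option autoImplicit false
universe u
open GrSyz

namespace Groth.Agent.S15430

theorem ker_eq_bot_of_projective {R : Type*} [CommRing R] [IsDomain R] (𝔪 : Ideal R)
    (h1 : (1 : R) ∉ 𝔪) {n : ℕ} {Q : Type*} [AddCommGroup Q] [Module R Q] [Module.Projective R Q]
    (g : (Fin n → R) →ₗ[R] Q) (hg : Function.Surjective g)
    (hker : ∀ x ∈ LinearMap.ker g, ∀ j, x j ∈ 𝔪) : LinearMap.ker g = ⊥ := by
  obtain ⟨s, hs⟩ := Module.projective_lifting_property g LinearMap.id hg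
  let q : (Fin n → R) →ₗ[R] (Fin n → R) := LinearMap.id - s ∘ₗ g
  have hq_mem : ∀ x, q x ∈ LinearMap.ker g := by
    intro x
    rw [LinearMap.mem_ker]
    have : g (s (g x)) = g x := congrArg (fun φ => φ (g x)) hs
    simp [q, this]
  have hq_id : ∀ x ∈ LinearMap.ker g, q x = x := by
    intro x hx
    rw [LinearMap.mem_ker] at hx
    simp [q, hx]
  have hfg : (LinearMap.ker g).FG := by
    have : LinearMap.ker g = LinearMap.range q := by
      apply le_antisymm
      · intro x hx; exact ⟨x, hq_id x hx⟩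
      · rintro _ ⟨x, rfl⟩; exact hq_mem x
    rw [this]
    rw [LinearMap.range_eq_map]
    exact Submodule.FG.map q Module.Finite.fg_top
  have hle : LinearMap.ker g ≤ 𝔪 • LinearMap.ker g := by
    intro x hx
    have hx' : x = ∑ j, x j • q (Pi.single j 1) := by
      conv_lhs => rw [← hq_id x hx, pi_eq_sum_univ' x, map_sum]
      apply Finset.sum_congr rfl
      intro j _
      rw [← map_smul]
    rw [hx']
    exact Submodule.sum_mem _ fun j _ => Submodule.smul_mem_smul (hker x hx j) (hq_mem _)
  obtain ⟨r, hr, hr0⟩ := Submodule.exists_sub_one_mem_and_smul_eq_zero_of_fg_of_le_smul 𝔪 _ hfg hle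
  have hrne : r ≠ 0 := by
    rintro rfl
    apply h1
    have : (1 : R) = -(0 - 1) := by ring
    rw [this]
    exact 𝔪.neg_mem hr
  rw [eq_bot_iff]
  intro x hx
  rw [Submodule.mem_bot]
  ext j
  have := congrFun (hr0 x hx) j
  simp only [Pi.smul_apply, smul_eq_mul, Pi.zero_apply] at this
  exact (mul_eq_zero.mp this).resolve_left hrne

theorem rk_eq_zero_of_forall_mem {R : Type*} [CommRing R] (𝔪 : Ideal R) (h1 : (1 : R) ∉ 𝔪) {m : ℕ}
    (h : ∀ (v : Fin m → R) (j : Fin m), v j ∈ 𝔪) : m = 0 := by
  by_contra hm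
  obtain ⟨b⟩ : Nonempty (Fin m) := ⟨⟨0, Nat.pos_of_ne_zero hm⟩⟩
  apply h1
  have := h (Pi.single b 1) b
  simpa using this

open CategoryTheory in
theorem pd_shift {R : Type u} [CommRing R] {F Q : Type u} [AddCommGroup F] [Module R F]
    [AddCommGroup Q] [Module R Q] [Module.Projective R F] (g : F →ₗ[R] Q)
    (hg : Function.Surjective g) (m : ℕ) :
    HasProjectiveDimensionLT (ModuleCat.of R Q) (m + 2) ↔
      HasProjectiveDimensionLT (ModuleCat.of R (LinearMap.ker g)) (m + 1) := by
  have hS := LinearMap.shortExact_shortComplexKer hg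
  exact hS.hasProjectiveDimensionLT_X₃_iff m ((IsProjective.iff_projective F).mp inferInstance)

open CategoryTheory in
theorem pd_congr {R : Type u} [CommRing R] {Q Q' : Type u} [AddCommGroup Q] [Module R Q]
    [AddCommGroup Q'] [Module R Q'] (e : Q ≃ₗ[R] Q') (m : ℕ) :
    HasProjectiveDimensionLT (ModuleCat.of R Q) m ↔ HasProjectiveDimensionLT (ModuleCat.of R Q') m :=
  ⟨fun _ => hasProjectiveDimensionLT_of_iso e.toModuleIso m,
   fun _ => hasProjectiveDimensionLT_of_iso e.symm.toModuleIso m⟩

open CategoryTheory in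
theorem pd_one_iff {R : Type u} [CommRing R] {Q : Type u} [AddCommGroup Q] [Module R Q] :
    HasProjectiveDimensionLT (ModuleCat.of R Q) 1 ↔ Module.Projective R Q := by
  rw [← projective_iff_hasProjectiveDimensionLT_one]
  exact (IsProjective.iff_projective Q).symm

section
variable (k : Type u) [Field k] (r : ℕ)
    (M : Type u) [AddCommGroup M] [Module k M] [Module (MvPolynomial (Fin (r + 1)) k) M]
    [IsScalarTower k (MvPolynomial (Fin (r + 1)) k) M]
    (ℳ : ℤ → Submodule k M) [DirectSum.Decomposition ℳ] [SetLike.GradedSMul (GrSyz.stdGr k (Fin (r + 1))) ℳ]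
    (F : GrSyz.FreeRes (GrSyz.stdGr k (Fin (r + 1))) ℳ)

theorem range_mem_irrel (hF : F.IsMinimal (GrSyz.irrel (GrSyz.stdGr k (Fin (r + 1)))).toIdeal) (i : ℕ)
    (x : Fin (F.rk i) → MvPolynomial (Fin (r + 1)) k) (hx : x ∈ LinearMap.range (F.dLin i))
    (j : Fin (F.rk i)) : x j ∈ (GrSyz.irrel (GrSyz.stdGr k (Fin (r + 1)))).toIdeal := by
  obtain ⟨w, rfl⟩ := hx
  change (F.d i).mulVec w j ∈ _
  rw [Matrix.mulVec, dotProduct]
  exact Ideal.sum_mem _ fun b _ => Ideal.mul_mem_right _ _ (hF i j b)

theorem rk_succ_eq_zero (hF : F.IsMinimal (GrSyz.irrel (GrSyz.stdGr k (Fin (r + 1)))).toIdeal) (i : ℕ)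
    (h : LinearMap.ker (F.dLin i) = ⊤) : F.rk (i + 1) = 0 := by
  apply rk_eq_zero_of_forall_mem _ (Groth.Agent.S15427.one_not_mem_irrel k (Fin (r + 1)))
  intro v j
  apply range_mem_irrel k r M ℳ F hF (i + 1) v _ j
  rw [← F.exact_succ i, h]
  trivial

theorem final (hF : F.IsMinimal (GrSyz.irrel (GrSyz.stdGr k (Fin (r + 1)))).toIdeal) (n : ℕ)
    {Q : Type u} [AddCommGroup Q] [Module (MvPolynomial (Fin (r + 1)) k) Q]
    (G : (Fin (F.rk n) → MvPolynomial (Fin (r + 1)) k) →ₗ[MvPolynomial (Fin (r + 1)) k] Q)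
    (hG : Function.Surjective G) (hker : LinearMap.ker G = LinearMap.range (F.dLin n)) :
    Module.Projective (MvPolynomial (Fin (r + 1)) k) Q ↔ F.HasLengthLE n := by
  constructor
  · intro hproj
    have h0 : LinearMap.ker G = ⊥ :=
      ker_eq_bot_of_projective _ (Groth.Agent.S15427.one_not_mem_irrel k (Fin (r + 1))) G hG
        (fun x hx j => range_mem_irrel k r M ℳ F hF n x (hker ▸ hx) j)
    have h1 : LinearMap.ker (F.dLin n) = ⊤ := by
      rw [eq_top_iff]
      intro v _
      rw [LinearMap.mem_ker]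
      have : F.dLin n v ∈ LinearMap.range (F.dLin n) := ⟨v, rfl⟩
      rw [← hker, h0, Submodule.mem_bot] at this
      exact this
    intro i hi
    induction i, (Nat.succ_le_of_lt hi) using Nat.le_induction with
    | base => exact rk_succ_eq_zero k r M ℳ F hF n h1
    | succ i hni ih =>
      apply rk_succ_eq_zero k r M ℳ F hF i
      rw [eq_top_iff]
      intro v _
      rw [LinearMap.mem_ker]
      have hrk : F.rk i = 0 := ih (Nat.lt_of_succ_le hni)
      funext a
      exact (Fin.elim0 (hrk ▸ a))
  · intro hlen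
    have hrk : F.rk (n + 1) = 0 := hlen (n + 1) (Nat.lt_succ_self n)
    have h0 : LinearMap.ker G = ⊥ := by
      rw [hker, eq_bot_iff]
      rintro _ ⟨v, rfl⟩
      have hv : v = 0 := by
        funext b
        exact (Fin.elim0 (hrk ▸ b))
      rw [hv, map_zero]
      exact Submodule.zero_mem _
    have hbij : Function.Bijective G := ⟨LinearMap.ker_eq_bot.mp h0, hG⟩
    exact Module.Projective.of_equiv (LinearEquiv.ofBijective G hbij)

open CategoryTheory in
theorem shift_range (i m : ℕ) : ∀ j, j = i + m →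
    (HasProjectiveDimensionLT
      (ModuleCat.of (MvPolynomial (Fin (r + 1)) k) (LinearMap.range (F.dLin i))) (m + 1) ↔
    Module.Projective (MvPolynomial (Fin (r + 1)) k) (LinearMap.range (F.dLin j))) := by
  induction m generalizing i with
  | zero =>
    intro j hj
    subst hj
    exact pd_one_iff
  | succ m ih =>
    intro j hj
    have h1 := pd_shift (F.dLin i).rangeRestrict (LinearMap.surjective_rangeRestrict _) m
    have hker : LinearMap.ker (F.dLin i).rangeRestrict = LinearMap.range (F.dLin (i + 1)) := by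
      rw [LinearMap.ker_rangeRestrict]
      exact F.exact_succ i
    have h2 := pd_congr (LinearEquiv.ofEq _ _ hker) (m + 1)
    have h3 := ih (i + 1) j (by omega)
    exact h1.trans (h2.trans h3)
end

/-- Let k be a field, S = k[x_0, …, x_r] graded by degree, 𝔪 = (x_0, …, x_r), M a finitely generated
ℤ-graded S-module and F a minimal graded free resolution of M by free modules of finite rank with
homogeneous bases (all matrix entries in 𝔪). Then the length of F is the projective dimension of M:
for every natural number n, all terms F_i with i > n vanish if and only if M has projective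
dimension at most n as an S-module (all Ext^i_S(M, −) with i > n vanish). -/
theorem result (k : Type u) [Field k] (r : ℕ)
    (M : Type u) [AddCommGroup M] [Module k M] [Module (MvPolynomial (Fin (r + 1)) k) M]
    [IsScalarTower k (MvPolynomial (Fin (r + 1)) k) M] [Module.Finite (MvPolynomial (Fin (r + 1)) k) M]
    (ℳ : ℤ → Submodule k M) [DirectSum.Decomposition ℳ] [SetLike.GradedSMul (GrSyz.stdGr k (Fin (r + 1))) ℳ]
    (F : GrSyz.FreeRes (GrSyz.stdGr k (Fin (r + 1))) ℳ) (hF : F.IsMinimal (GrSyz.irrel (GrSyz.stdGr k (Fin (r + 1)))).toIdeal) (n : ℕ) :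
    F.HasLengthLE n ↔ CategoryTheory.HasProjectiveDimensionLE (ModuleCat.of (MvPolynomial (Fin (r + 1)) k) M) n := by
  symm
  change CategoryTheory.HasProjectiveDimensionLT (ModuleCat.of (MvPolynomial (Fin (r + 1)) k) M) (n + 1) ↔ _
  cases n with
  | zero =>
    refine Groth.Agent.S15430.pd_one_iff.trans ?_
    exact Groth.Agent.S15430.final k r M ℳ F hF 0 F.augLin F.aug_surjective F.exact_zero
  | succ m =>
    have h1 := Groth.Agent.S15430.pd_shift F.augLin F.aug_surjective m
    have h2 := Groth.Agent.S15430.pd_congr (LinearEquiv.ofEq _ _ F.exact_zero) (m + 1)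
    have h3 := Groth.Agent.S15430.shift_range k r M ℳ F 0 m m (by omega)
    refine h1.trans (h2.trans (h3.trans ?_))
    refine Groth.Agent.S15430.final k r M ℳ F hF (m + 1) (F.dLin m).rangeRestrict
      (LinearMap.surjective_rangeRestrict _) ?_
    rw [LinearMap.ker_rangeRestrict]
    exact F.exact_succ m

end Groth.Agent.S15430
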