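import Groth.Statements.S15437
import Mathlib
import Groth.Agent.S15428

set_option autoImplicit false
universe u
open GrSyz

namespace Groth.Agent.S15437

/-- regrouping a sum over basis vectors by their degrees. -/
theorem sum_deg_eq_sum_betti {n : ℕ} (deg : Fin n → ℤ) (T : Finset ℤ) (hT : ∀ b, deg b ∈ T)
    (g : ℤ → ℤ) :
    ∑ b : Fin n, g (deg b) =
      ∑ j ∈ T, (((Finset.univ.filter fun b : Fin n => deg b = j).card : ℕ) : ℤ) * g j := by
  rw [← Finset.sum_fiberwise_of_maps_to (s := Finset.univ) (t := T) (g := deg) (fun b _ => hT b)]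
  refine Finset.sum_congr rfl (fun j _ => ?_)
  rw [Finset.sum_congr rfl (g := fun _ => g j) (fun b hb => by rw [(Finset.mem_filter.mp hb).2])]
  rw [Finset.sum_const, nsmul_eq_mul]

/-- Let k be a field, S = k[x_0, …, x_r] graded by degree and M a ℤ-graded S-module with a finite graded
free resolution F of length at most m by free modules of finite rank with homogeneous bases; write
β_{i,j} for the number of basis vectors of F_i of degree j (the graded Betti numbers when F is
minimal) and B_j = Σ_{i ≤ m} (−1)^i β_{i,j}. Then for every integer d, dim_k M_d = Σ_j B_j C(r + d −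
j, r), where a binomial with d < j counts as zero and only finitely many j contribute; and the B_j
are recovered from the Hilbert function by B_j = dim_k M_j − Σ_{n < j} B_n C(r + j − n, r). (Stated
for any finite graded free resolution; the published statement takes the minimal one.) -/
theorem result (k : Type u) [Field k] (r : ℕ)
    (M : Type u) [AddCommGroup M] [Module k M] [Module (MvPolynomial (Fin (r + 1)) k) M]
    [IsScalarTower k (MvPolynomial (Fin (r + 1)) k) M] [Module.Finite (MvPolynomial (Fin (r + 1)) k) M]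
    (ℳ : ℤ → Submodule k M) [DirectSum.Decomposition ℳ] [SetLike.GradedSMul (GrSyz.stdGr k (Fin (r + 1))) ℳ]
    (F : GrSyz.FreeRes (GrSyz.stdGr k (Fin (r + 1))) ℳ) (m : ℕ) (hF : F.HasLengthLE m) :
    (∀ d : ℤ, (Module.finrank k ↥(ℳ d) : ℤ) =
        ∑ᶠ j : ℤ, (∑ i ∈ Finset.range (m + 1), (-1 : ℤ) ^ i * (F.betti i j : ℤ)) *
          (if j ≤ d then ((Nat.choose (r + (d - j).toNat) r : ℕ) : ℤ) else 0)) ∧
      ∀ j : ℤ, (∑ i ∈ Finset.range (m + 1), (-1 : ℤ) ^ i * (F.betti i j : ℤ)) =
        (Module.finrank k ↥(ℳ j) : ℤ) -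
          ∑ᶠ n : ℤ, (if n < j then (∑ i ∈ Finset.range (m + 1), (-1 : ℤ) ^ i * (F.betti i n : ℤ)) * ((Nat.choose (r + (j - n).toNat) r : ℕ) : ℤ) else 0) := by
  classical
  -- the finite set of all occurring degrees
  set T : Finset ℤ := (Finset.range (m + 1)).biUnion (fun i => Finset.univ.image (F.deg i)) with hT
  have hTmem : ∀ i ∈ Finset.range (m + 1), ∀ b, F.deg i b ∈ T := by
    intro i hi b
    rw [hT, Finset.mem_biUnion]
    exact ⟨i, hi, Finset.mem_image_of_mem _ (Finset.mem_univ b)⟩
  set B : ℤ → ℤ := fun j => ∑ i ∈ Finset.range (m + 1), (-1 : ℤ) ^ i * (F.betti i j : ℤ) with hB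
  have hBzero : ∀ j, j ∉ T → B j = 0 := by
    intro j hj
    rw [hB]
    refine Finset.sum_eq_zero (fun i hi => ?_)
    have : F.betti i j = 0 := by
      unfold GrSyz.FreeRes.betti
      rw [Finset.card_eq_zero, Finset.filter_eq_empty_iff]
      intro b _ hb
      exact hj (hb ▸ hTmem i hi b)
    rw [this]
    simp
  have first : ∀ d : ℤ, (Module.finrank k ↥(ℳ d) : ℤ) =
      ∑ j ∈ T, B j * (if j ≤ d then ((Nat.choose (r + (d - j).toNat) r : ℕ) : ℤ) else 0) := by
    intro d
    rw [Groth.Agent.S15428.result k r M ℳ F m hF d]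
    simp only [hB, Finset.sum_mul]
    rw [Finset.sum_comm]
    refine Finset.sum_congr rfl (fun i hi => ?_)
    rw [Groth.Agent.S15437.sum_deg_eq_sum_betti (F.deg i) T (hTmem i hi)
      (fun j => if j ≤ d then ((Nat.choose (r + (d - j).toNat) r : ℕ) : ℤ) else 0), Finset.mul_sum]
    refine Finset.sum_congr rfl (fun j _ => ?_)
    unfold GrSyz.FreeRes.betti
    ring
  have firstF : ∀ d : ℤ, (Module.finrank k ↥(ℳ d) : ℤ) =
      ∑ᶠ j : ℤ, B j * (if j ≤ d then ((Nat.choose (r + (d - j).toNat) r : ℕ) : ℤ) else 0) := by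
    intro d
    rw [first d]
    symm
    apply finsum_eq_sum_of_support_subset
    intro j hj
    by_contra hjT
    apply hj
    show B j * _ = 0
    rw [hBzero j hjT, zero_mul]
  refine ⟨firstF, ?_⟩
  intro j
  have h1 := first j
  have h2 : ∑ᶠ n : ℤ, (if n < j then B n * ((Nat.choose (r + (j - n).toNat) r : ℕ) : ℤ) else 0) =
      ∑ n ∈ T, (if n < j then B n * ((Nat.choose (r + (j - n).toNat) r : ℕ) : ℤ) else 0) := by
    apply finsum_eq_sum_of_support_subset
    intro n hn
    by_contra hnT
    apply hn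
    show (if n < j then B n * ((Nat.choose (r + (j - n).toNat) r : ℕ) : ℤ) else 0) = 0
    rw [hBzero n hnT, zero_mul, ite_self]
  show B j = _ - ∑ᶠ n : ℤ, (if n < j then B n * ((Nat.choose (r + (j - n).toNat) r : ℕ) : ℤ) else 0)
  rw [h2, h1, ← Finset.sum_sub_distrib]
  -- the difference is supported at n = j
  have h3 : ∀ n ∈ T, (B n * (if n ≤ j then ((Nat.choose (r + (j - n).toNat) r : ℕ) : ℤ) else 0) -
      (if n < j then B n * ((Nat.choose (r + (j - n).toNat) r : ℕ) : ℤ) else 0)) =
      if n = j then B j else 0 := by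
    intro n _
    rcases lt_trichotomy n j with h | h | h
    · rw [if_pos h.le, if_pos h, if_neg h.ne, sub_self]
    · subst h
      simp
    · rw [if_neg (not_le.mpr h), if_neg (not_lt.mpr h.le), if_neg h.ne', mul_zero, sub_zero]
  rw [Finset.sum_congr rfl h3, Finset.sum_ite_eq' T j]
  split_ifs with hj
  · rfl
  · exact hBzero j hj

end Groth.Agent.S15437
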