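import Groth.Statements.S1544
import Groth.Agent.Lib.Helper17.GeomRed4

set_option autoImplicit false
universe u
open CategoryTheory CategoryTheory.Limits AlgebraicGeometry
attribute [local instance] Curv2.resAlgebra Curv2.stalkAlgebra
open Variety

namespace Groth.Agent.S1544

theorem geomReducedAt_of_geomReduced {k : Type u} [Field k] {X : Scheme.{u}}
    (f : X ⟶ Spec (CommRingCat.of k)) [GeometricallyReduced f] (x : X) :
    FBase.IsGeomReducedAt f x := by
  intro K _ _ x' _
  haveI : IsReduced (FBase.bc f K) :=
    GeometricallyReduced.geometrically_isReduced (f := f)
      (Spec.map (CommRingCat.ofHom (algebraMap k K))) (FBase.bcπ f K) (FBase.bcStr f K)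
      (IsPullback.of_hasPullback _ _)
  infer_instance

/-- For an integral scheme over k, geometric reducedness of the scheme is equivalent to geometric
reducedness over k of the function field (the local ring at the generic point), i.e. a separable
extension of k in the sense of commutative algebra. The source states this for varieties;
integrality is what the proof uses. -/
theorem result (k : Type u) [Field k] (X : Scheme.{u}) [X.Over (Spec (CommRingCat.of k))] [IsIntegral X] :
    GeometricallyReduced (X ↘ (Spec (CommRingCat.of k))) ↔ Algebra.IsGeometricallyReduced k X.functionField := by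
  constructor
  · intro h
    haveI := h
    exact (Groth.Agent.Helper17.GeomRed3.main_iff (X ↘ Spec (CommRingCat.of k)) (genericPoint X)
      (fun a => rfl)).mp (geomReducedAt_of_geomReduced _ _)
  · intro h
    apply Groth.Agent.Helper17.GeomRed4.geomReduced_of
    intro Z hZ η hη
    rw [irreducibleComponents_eq_singleton] at hZ
    have hZ' : Z = Set.univ := hZ
    subst hZ'
    have hη' : η = genericPoint X := hη.eq (genericPoint_spec X)
    rw [hη']
    exact (Groth.Agent.Helper17.GeomRed3.main_iff (X ↘ Spec (CommRingCat.of k)) (genericPoint X)
      (fun a => rfl)).mpr h

end Groth.Agent.S1544
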