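import Groth.Statements.S15442
import Mathlib

set_option autoImplicit false
universe u v
open CategoryTheory AlgebraicGeometry
open WeilCoh

namespace Groth.Agent.S15442

/-- Let H^* be a Weil cohomology theory, with coefficient field K of characteristic zero, on nonsingular
connected projective varieties over the algebraically closed field k, and X such a variety. Then the
structure morphism K → H^0(X) is an isomorphism: c ↦ c · 1 is a bijection from K onto the degree-0
part of the cohomology ring. -/
theorem result (k : Type u) [Field k] [IsAlgClosed k] (K : Type v) [Field K] [CharZero K]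
    (T : WeilCoh.Theory k K) (X : WeilCoh.Var k) :
    Function.Bijective (fun c : K =>
      (⟨c • (1 : T.H X), (T.gr X 0).smul_mem c (SetLike.one_mem_graded (T.gr X))⟩ : ↥(T.gr X 0))) := by
  have hperf := T.duality X 0 (2 * (WeilCoh.dim X.obj.left : ℤ)) (by simp)
  let e1 : T.gr X 0 ≃ₗ[K] Module.Dual K (T.gr X (2 * (WeilCoh.dim X.obj.left : ℤ))) :=
    LinearEquiv.ofBijective _ hperf.bijective_left
  let e2 : T.gr X (2 * (WeilCoh.dim X.obj.left : ℤ)) ≃ₗ[K] K :=
    LinearEquiv.ofBijective _ (T.tr_bijective X)
  have h1 : Module.finrank K (T.gr X (2 * (WeilCoh.dim X.obj.left : ℤ))) = 1 := by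
    rw [e2.finrank_eq, Module.finrank_self]
  have h0 : Module.finrank K (T.gr X 0) = 1 := by
    rw [e1.finrank_eq, Subspace.dual_finrank_eq, h1]
  have hnt : (1 : T.H X) ≠ 0 := by
    intro h
    have h2 : ∀ a : T.H X, a = 0 := fun a => by rw [← mul_one a, h, mul_zero]
    have h3 : e2.symm 1 = 0 := Subtype.ext (h2 _)
    have h4 : (1 : K) = 0 := by rw [← e2.apply_symm_apply 1, h3, map_zero]
    exact one_ne_zero h4
  let L : K →ₗ[K] T.gr X 0 :=
    LinearMap.toSpanSingleton K _ ⟨(1 : T.H X), SetLike.one_mem_graded (T.gr X)⟩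
  have hL : (fun c : K =>
      (⟨c • (1 : T.H X), (T.gr X 0).smul_mem c (SetLike.one_mem_graded (T.gr X))⟩ : ↥(T.gr X 0))) = L := by
    funext c
    apply Subtype.ext
    rfl
  rw [hL]
  have hinj : Function.Injective L := by
    rw [← LinearMap.ker_eq_bot, LinearMap.ker_eq_bot']
    intro c hc
    have : c • (1 : T.H X) = 0 := congrArg Subtype.val hc
    rcases smul_eq_zero.mp this with h | h
    · exact h
    · exact absurd h hnt
  have hfr : Module.finrank K K = Module.finrank K (T.gr X 0) := by
    rw [h0, Module.finrank_self]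
  exact ⟨hinj, (LinearMap.injective_iff_surjective_of_finrank_eq_finrank hfr).mp hinj⟩

end Groth.Agent.S15442
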