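import Groth.Statements.S15449
import Mathlib
import Groth.Agent.H19.WeilCohLib

set_option autoImplicit false
universe u v
open CategoryTheory AlgebraicGeometry
open WeilCoh

namespace Groth.Agent.S15449

open CategoryTheory AlgebraicGeometry in
theorem dim_prod (k : Type u) [Field k] [IsAlgClosed k] (K : Type v) [Field K] [CharZero K]
    (T : WeilCoh.Theory k K) (X Y Q : WeilCoh.Var k) (p : Q ⟶ X) (q : Q ⟶ Y)
    (hQ : WeilCoh.IsProd p q) :
    (WeilCoh.dim Q.obj.left : ℤ) = WeilCoh.dim X.obj.left + WeilCoh.dim Y.obj.left := by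
  obtain ⟨a₀, ha₀⟩ := (T.tr_bijective X).surjective 1
  obtain ⟨b₀, hb₀⟩ := (T.tr_bijective Y).surjective 1
  have h1 : T.tr Q (T.pull p a₀ * T.pull q b₀) = 1 := by
    rw [T.tr_prod p q hQ a₀ b₀ a₀.2 b₀.2]
    have e1 : T.tr X a₀ = 1 := ha₀
    have e2 : T.tr Y b₀ = 1 := hb₀
    rw [e1, e2, mul_one]
  have hmem : T.pull p a₀ * T.pull q b₀ ∈
      T.gr Q (2 * (WeilCoh.dim X.obj.left : ℤ) + 2 * (WeilCoh.dim Y.obj.left : ℤ)) :=
    SetLike.mul_mem_graded (T.pull_mem p _ a₀ a₀.2) (T.pull_mem q _ b₀ b₀.2)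
  by_contra hne
  have := T.tr_vanish Q _ _ hmem (by omega)
  rw [h1] at this
  exact one_ne_zero this

/-- For a Weil cohomology theory H^* (coefficients in K of characteristic zero, on nonsingular connected
projective varieties over an algebraically closed field k), such varieties X and Y with product X ×
Y and projections p, q, and α ∈ H^i(Y): p_*(q^*(α)) = Tr_Y(α) (as a multiple of 1 ∈ H^0(X)) if i = 2
dim Y, and p_*(q^*(α)) = 0 otherwise. The product is any object Q with morphisms p : Q → X, q : Q →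
Y forming a cartesian square over Spec k; both sides are read in the total cohomology ring of X. -/
theorem result (k : Type u) [Field k] [IsAlgClosed k] (K : Type v) [Field K] [CharZero K]
    (T : WeilCoh.Theory k K) (X Y Q : WeilCoh.Var k) (p : Q ⟶ X) (q : Q ⟶ Y)
    (hQ : WeilCoh.IsProd p q) (i : ℤ) (a : ↥(T.gr Y i)) :
    (i = 2 * (WeilCoh.dim Y.obj.left : ℤ) →
      (T.push p i ⟨T.pull q a, T.pull_mem q i a a.2⟩ : T.H X) = algebraMap K (T.H X) (T.tr Y a)) ∧
    (i ≠ 2 * (WeilCoh.dim Y.obj.left : ℤ) →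
      (T.push p i ⟨T.pull q a, T.pull_mem q i a a.2⟩ : T.H X) = 0) := by
  have hdim := Groth.Agent.S15449.dim_prod k K T X Y Q p q hQ
  constructor
  · intro hi
    refine Groth.Agent.H19.WeilCohLib.eq_of_tr_mul_eq T X 0 (2 * (WeilCoh.dim X.obj.left : ℤ))
      (by omega) _ _ ?_ ?_ ?_
    · exact Groth.Agent.H19.WeilCohLib.mem_gr_of_eq T X (by omega) (Subtype.property _)
    · rw [Algebra.algebraMap_eq_smul_one]
      exact (T.gr X 0).smul_mem _ (SetLike.one_mem_graded (T.gr X))
    · intro b hb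
      have hb' : b ∈ T.gr X (2 * (WeilCoh.dim Q.obj.left : ℤ) - i) :=
        Groth.Agent.H19.WeilCohLib.mem_gr_of_eq T X (by omega) hb
      rw [Groth.Agent.H19.WeilCohLib.push_spec T p i ⟨_, T.pull_mem q i a a.2⟩ b hb']
      have ha' : (a : T.H Y) ∈ T.gr Y (2 * (WeilCoh.dim Y.obj.left : ℤ)) :=
        Groth.Agent.H19.WeilCohLib.mem_gr_of_eq T Y hi a.2
      have hcomm := T.gradedComm Q _ _ (T.pull q a) (T.pull p b) (T.pull_mem q _ _ ha')
        (T.pull_mem p _ _ hb)
      have heven : Even ((2 * (WeilCoh.dim Y.obj.left : ℤ)).natAbs *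
          (2 * (WeilCoh.dim X.obj.left : ℤ)).natAbs) := by
        apply Even.mul_right
        rw [Int.natAbs_even]
        exact even_two_mul _
      rw [heven.neg_one_pow, one_smul] at hcomm
      change T.tr Q (T.pull q a * T.pull p b) = _
      rw [hcomm, T.tr_prod p q hQ b a hb ha', Algebra.algebraMap_eq_smul_one, smul_mul_assoc, one_mul,
        map_smul, smul_eq_mul, mul_comm]
  · intro hi
    rcases lt_or_gt_of_ne hi with hlt | hgt
    · have hbot : T.gr X (i + 2 * (WeilCoh.dim X.obj.left : ℤ) - 2 * (WeilCoh.dim Q.obj.left : ℤ)) = ⊥ :=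
        T.vanish X _ (Or.inl (by omega))
      have := hbot.le (Subtype.property (T.push p i ⟨T.pull q a, T.pull_mem q i a a.2⟩))
      exact (Submodule.mem_bot K).mp this
    · have hbot : T.gr Y i = ⊥ := T.vanish Y _ (Or.inr hgt)
      have ha0 : (a : T.H Y) = 0 := by
        have := hbot.le a.2
        exact (Submodule.mem_bot K).mp this
      have h0 : (⟨T.pull q a, T.pull_mem q i a a.2⟩ : T.gr Q i) = 0 := by
        apply Subtype.ext
        change T.pull q a = 0
        rw [ha0, map_zero]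
      rw [h0, map_zero]
      rfl

end Groth.Agent.S15449
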