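import Groth.Statements.S1546
import Mathlib
import Groth.Agent.IrrCompBC
set_option linter.style.haveILetI false

set_option autoImplicit false
universe u
open CategoryTheory CategoryTheory.Limits AlgebraicGeometry
open Variety

namespace Groth.Agent.S1546

section Aux

private lemma flat_of_field {k K : Type u} [Field k] [Field K]
    (y : Spec (CommRingCat.of K) ⟶ Spec (CommRingCat.of k)) : Flat y := by
  rw [← Spec.map_preimage y, HasRingHomProperty.Spec_iff (P := @Flat)]
  letI : Algebra k K := (Spec.preimage y).hom.toAlgebra
  show Module.Flat k K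
  infer_instance

end Aux

/-- For a field extension K of k and a scheme X over k, the image in X of an irreducible component of
X_K is an irreducible component of X, and every irreducible component of X is such an image. -/
theorem result (k : Type u) [Field k] (X : Scheme.{u}) [X.Over (Spec (CommRingCat.of k))] (K : Type u) [Field K] [Algebra k K] :
    (∀ T ∈ irreducibleComponents (Curv2.bc k X K : Type u), (Curv2.bcFst k X K).base '' T ∈ irreducibleComponents (X : Type u)) ∧
    (∀ Z ∈ irreducibleComponents (X : Type u), ∃ T ∈ irreducibleComponents (Curv2.bc k X K : Type u), (Curv2.bcFst k X K).base '' T = Z) := by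
  classical
  obtain ⟨Ω, _, ψ, ι, h⟩ := Groth.Agent.FieldBC2.exists_compositum k K (AlgebraicClosure k)
  letI : Algebra (AlgebraicClosure k) Ω := ι.toAlgebra
  obtain ⟨a, ha, hcomm⟩ := Groth.Agent.IrrCompBC.exists_dominating''
    (X ↘ Spec (CommRingCat.of k)) K (AlgebraicClosure k) Ω ψ ι h.symm
  have hsa : Function.Surjective a.base := Groth.Agent.FieldBC2.surjective_of_isPullback ha
  have hfib : ∀ x, IsIrreducible ((CategoryTheory.Limits.pullback.fst
      (CategoryTheory.Limits.pullback.snd (X ↘ Spec (CommRingCat.of k))
        (Spec.map (CommRingCat.ofHom (algebraMap k (AlgebraicClosure k)))))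
      (Spec.map (CommRingCat.ofHom ι))).base ⁻¹' {x}) := fun x =>
    Groth.Agent.AlgClosedBC.isIrreducible_fiber_bc (AlgebraicClosure k)
      (CategoryTheory.Limits.pullback.snd (X ↘ Spec (CommRingCat.of k))
        (Spec.map (CommRingCat.ofHom (algebraMap k (AlgebraicClosure k))))) Ω x
  have ho : IsOpenMap (CategoryTheory.Limits.pullback.fst
      (CategoryTheory.Limits.pullback.snd (X ↘ Spec (CommRingCat.of k))
        (Spec.map (CommRingCat.ofHom (algebraMap k (AlgebraicClosure k)))))
      (Spec.map (CommRingCat.ofHom ι))).base :=
    Groth.Agent.AlgClosedBC.bc_isOpenMap (AlgebraicClosure k)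
      (CategoryTheory.Limits.pullback.snd (X ↘ Spec (CommRingCat.of k))
        (Spec.map (CommRingCat.ofHom (algebraMap k (AlgebraicClosure k))))) Ω
  have hc : Continuous (CategoryTheory.Limits.pullback.fst
      (CategoryTheory.Limits.pullback.snd (X ↘ Spec (CommRingCat.of k))
        (Spec.map (CommRingCat.ofHom (algebraMap k (AlgebraicClosure k)))))
      (Spec.map (CommRingCat.ofHom ι))).base := (CategoryTheory.Limits.pullback.fst
      (CategoryTheory.Limits.pullback.snd (X ↘ Spec (CommRingCat.of k))
        (Spec.map (CommRingCat.ofHom (algebraMap k (AlgebraicClosure k)))))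
      (Spec.map (CommRingCat.ofHom ι))).continuous
  have hsq : Function.Surjective (CategoryTheory.Limits.pullback.fst
      (CategoryTheory.Limits.pullback.snd (X ↘ Spec (CommRingCat.of k))
        (Spec.map (CommRingCat.ofHom (algebraMap k (AlgebraicClosure k)))))
      (Spec.map (CommRingCat.ofHom ι))).base := fun x => (hfib x).nonempty
  -- the projection X_kbar → X
  haveI hint : IsIntegralHom (Spec.map (CommRingCat.ofHom (algebraMap k (AlgebraicClosure k)))) := by
    rw [IsIntegralHom.SpecMap_iff]
    exact algebraMap_isIntegral_iff.mpr inferInstance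
  haveI hflat : Flat (Spec.map (CommRingCat.ofHom (algebraMap k (AlgebraicClosure k)))) :=
    flat_of_field _
  haveI hsurj : Surjective (Spec.map (CommRingCat.ofHom (algebraMap k (AlgebraicClosure k)))) :=
    Groth.Agent.SepClosedBC.surjective_SpecMap_field k (AlgebraicClosure k) _
  have hπc : IsClosedMap (CategoryTheory.Limits.pullback.fst (X ↘ Spec (CommRingCat.of k))
      (Spec.map (CommRingCat.ofHom (algebraMap k (AlgebraicClosure k))))).base :=
    (CategoryTheory.Limits.pullback.fst (X ↘ Spec (CommRingCat.of k))
      (Spec.map (CommRingCat.ofHom (algebraMap k (AlgebraicClosure k))))).isClosedMap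
  have hπg : GeneralizingMap (CategoryTheory.Limits.pullback.fst (X ↘ Spec (CommRingCat.of k))
      (Spec.map (CommRingCat.ofHom (algebraMap k (AlgebraicClosure k))))).base :=
    Flat.generalizingMap _
  have hπs : Function.Surjective (CategoryTheory.Limits.pullback.fst (X ↘ Spec (CommRingCat.of k))
      (Spec.map (CommRingCat.ofHom (algebraMap k (AlgebraicClosure k))))).base :=
    (CategoryTheory.Limits.pullback.fst (X ↘ Spec (CommRingCat.of k))
      (Spec.map (CommRingCat.ofHom (algebraMap k (AlgebraicClosure k))))).surjective
  have hπcont : Continuous (CategoryTheory.Limits.pullback.fst (X ↘ Spec (CommRingCat.of k))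
      (Spec.map (CommRingCat.ofHom (algebraMap k (AlgebraicClosure k))))).base :=
    (CategoryTheory.Limits.pullback.fst (X ↘ Spec (CommRingCat.of k))
      (Spec.map (CommRingCat.ofHom (algebraMap k (AlgebraicClosure k))))).continuous
  have hcm : ∀ z, (Curv2.bcFst k X K).base (a.base z) =
      (CategoryTheory.Limits.pullback.fst (X ↘ Spec (CommRingCat.of k))
        (Spec.map (CommRingCat.ofHom (algebraMap k (AlgebraicClosure k))))).base
      ((CategoryTheory.Limits.pullback.fst
        (CategoryTheory.Limits.pullback.snd (X ↘ Spec (CommRingCat.of k))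
          (Spec.map (CommRingCat.ofHom (algebraMap k (AlgebraicClosure k)))))
        (Spec.map (CommRingCat.ofHom ι))).base z) := fun z => by
    have := congrArg (fun m => m.base z) hcomm
    simpa using this
  exact ⟨fun T hT => Groth.Agent.IrrCompBC.image_mem_of_tower (Curv2.bcFst k X K).continuous
      a.continuous hsa hc ho (fun x => (hfib x).isPreirreducible) hsq hπcont hπc hπg hcm hT,
    fun Z hZ => Groth.Agent.IrrCompBC.exists_image_eq_of_tower (Curv2.bcFst k X K).continuous
      a.continuous hc ho (fun x => (hfib x).isPreirreducible) hsq hπcont hπc hπg hπs hcm hZ⟩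

end Groth.Agent.S1546
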