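import Groth.Statements.S15465
import Mathlib

set_option autoImplicit false
universe v u
open HomAlg

namespace Groth.Agent.S15465

section helpers
open CategoryTheory CategoryTheory.Limits

theorem main {C : Type u} [Category.{v} C] [Abelian C] {A₁ A₂ A₃ B₂ C₁ C₂ C₃ : C}
    (i₁ : A₁ ⟶ A₂) (p₁ : A₂ ⟶ A₃) (wA : i₁ ≫ p₁ = 0) (hA : (ShortComplex.mk i₁ p₁ wA).ShortExact)
    (i₂ : A₂ ⟶ B₂) (π₂ : B₂ ⟶ C₂) (wB : i₂ ≫ π₂ = 0) (hB : (ShortComplex.mk i₂ π₂ wB).ShortExact)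
    (j : C₁ ⟶ C₂) (q : C₂ ⟶ C₃) (wC : j ≫ q = 0) (hC : (ShortComplex.mk j q wC).ShortExact)
    (w : (i₁ ≫ i₂) ≫ (π₂ ≫ q) = 0) (h₂ : i₂ ≫ (π₂ ≫ q) = 0) (h₃ : (i₁ ≫ i₂) ≫ π₂ = 0) :
    let S := CategoryTheory.ShortComplex.mk (i₁ ≫ i₂) (π₂ ≫ q) w
    ∀ (f : A₃ ⟶ S.homology) (g : S.homology ⟶ C₁),
      p₁ ≫ f = S.liftCycles i₂ h₂ ≫ S.homologyπ →
      g ≫ j = S.homologyι ≫ S.descOpcycles π₂ h₃ →
      ∃ wfg : f ≫ g = 0, (ShortComplex.mk f g wfg).ShortExact := by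
  intro S f g hf hg
  have hSf : S.f = i₁ ≫ i₂ := rfl
  haveI : Mono i₂ := hB.mono_f
  haveI : Epi π₂ := hB.epi_g
  haveI : Mono j := hC.mono_f
  haveI : Epi p₁ := hA.epi_g
  have hπg : S.homologyπ ≫ g ≫ j = S.iCycles ≫ π₂ := by
    rw [hg, S.homology_π_ι_assoc, S.p_descOpcycles]
  have wfg : f ≫ g = 0 := by
    rw [← cancel_epi p₁, ← cancel_mono j]
    simp only [Category.assoc, comp_zero, zero_comp]
    rw [reassoc_of% hf, hπg, S.liftCycles_i_assoc, wB]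
  have hg_epi : Epi g := by
    rw [epi_iff_surjective_up_to_refinements]
    intro T c₁
    obtain ⟨T', π', hπ', b, hb⟩ := surjective_up_to_refinements_of_epi π₂ (c₁ ≫ j)
    have hbβ : b ≫ S.g = 0 := by
      show b ≫ π₂ ≫ q = 0
      rw [← Category.assoc, ← hb, Category.assoc, Category.assoc, wC, comp_zero, comp_zero]
    refine ⟨T', π', hπ', S.liftCycles b hbβ ≫ S.homologyπ, ?_⟩
    rw [← cancel_mono j]
    simp only [Category.assoc]
    rw [hπg, S.liftCycles_i_assoc]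
    exact hb
  have hf_mono : Mono f := by
    apply Preadditive.mono_of_cancel_zero
    intro T t ht
    obtain ⟨T', π', hπ', a₂, ha₂⟩ := surjective_up_to_refinements_of_epi p₁ t
    have h0 : (a₂ ≫ S.liftCycles i₂ h₂) ≫ S.homologyπ = 0 := by
      rw [Category.assoc, ← hf, ← Category.assoc, ← ha₂, Category.assoc, ht, comp_zero]
    obtain ⟨T'', π'', hπ'', a₁, ha₁⟩ :=
      (S.comp_homologyπ_eq_zero_iff_up_to_refinements _).mp h0
    have h1 : π'' ≫ a₂ = a₁ ≫ i₁ := by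
      rw [← cancel_mono i₂]
      have := congrArg (fun φ => φ ≫ S.iCycles) ha₁
      simp only [Category.assoc, S.liftCycles_i, S.toCycles_i] at this
      rw [hSf] at this
      simpa only [Category.assoc] using this
    rw [← cancel_epi π', ← cancel_epi π'', comp_zero, comp_zero, ha₂, ← Category.assoc, h1,
      Category.assoc, wA, comp_zero]
  have hex : (ShortComplex.mk f g wfg).Exact := by
    rw [ShortComplex.exact_iff_exact_up_to_refinements]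
    intro T κ hκ
    have hκ' : κ ≫ g = 0 := hκ
    obtain ⟨T', π', hπ', z, hz⟩ := surjective_up_to_refinements_of_epi S.homologyπ κ
    have hbπ : (z ≫ S.iCycles) ≫ π₂ = 0 := by
      rw [Category.assoc, ← hπg, ← reassoc_of% hz, reassoc_of% hκ', zero_comp, comp_zero]
    obtain ⟨T'', π'', hπ'', a₂, ha₂⟩ :=
      hB.exact.exact_up_to_refinements (z ≫ S.iCycles) hbπ
    haveI : Epi (π'' ≫ π') := epi_comp _ _
    refine ⟨T'', π'' ≫ π', inferInstance, a₂ ≫ p₁, ?_⟩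
    show (π'' ≫ π') ≫ κ = (a₂ ≫ p₁) ≫ f
    have hz2 : π'' ≫ z = a₂ ≫ S.liftCycles i₂ h₂ := by
      rw [← cancel_mono S.iCycles, Category.assoc, Category.assoc, S.liftCycles_i]
      exact ha₂
    rw [Category.assoc, hz, Category.assoc, hf, ← Category.assoc, hz2, Category.assoc]
  exact ⟨wfg, ShortComplex.ShortExact.mk' hex hf_mono hg_epi⟩


end helpers

open CategoryTheory CategoryTheory.Limits in
/-- In an abelian category let 0 → A₂ → B₂ → C₂ → 0 (maps i₂, π₂), 0 → A₁ → A₂ → A₃ → 0 (maps i₁, p₁)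
and 0 → C₁ → C₂ → C₃ → 0 (maps j, q) be short exact sequences, let α = i₁ ≫ i₂ : A₁ → B₂ and β = π₂
≫ q : B₂ → C₃, and let K = ker β / im α be the homology object of the complex A₁ → B₂ → C₃. Let f :
A₃ → K be the map induced by i₂ (the unique map whose composite with p₁ is the homology class of the
cycle i₂) and g : K → C₁ the map induced by π₂ (the unique map whose composite with j is the map K →
C₂ induced by π₂). Then 0 → A₃ → K → C₁ → 0, with maps f and g, is a short exact sequence. (The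
hypotheses w, h₂, h₃ are consequences of i₂ ≫ π₂ = 0, carried so that the maps can be named; the
published statement assumes in addition that the category has enough injective objects, which plays
no role in this assertion.) -/
theorem result
    {C : Type u} [Category.{v} C] [Abelian C] {A₁ A₂ A₃ B₂ C₁ C₂ C₃ : C}
    (i₁ : A₁ ⟶ A₂) (p₁ : A₂ ⟶ A₃) (wA : i₁ ≫ p₁ = 0) (hA : (ShortComplex.mk i₁ p₁ wA).ShortExact)
    (i₂ : A₂ ⟶ B₂) (π₂ : B₂ ⟶ C₂) (wB : i₂ ≫ π₂ = 0) (hB : (ShortComplex.mk i₂ π₂ wB).ShortExact)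
    (j : C₁ ⟶ C₂) (q : C₂ ⟶ C₃) (wC : j ≫ q = 0) (hC : (ShortComplex.mk j q wC).ShortExact)
    (w : (i₁ ≫ i₂) ≫ (π₂ ≫ q) = 0) (h₂ : i₂ ≫ (π₂ ≫ q) = 0) (h₃ : (i₁ ≫ i₂) ≫ π₂ = 0)
    (f : A₃ ⟶ (CategoryTheory.ShortComplex.mk (i₁ ≫ i₂) (π₂ ≫ q) w).homology)
    (g : (CategoryTheory.ShortComplex.mk (i₁ ≫ i₂) (π₂ ≫ q) w).homology ⟶ C₁)
    (hf : p₁ ≫ f = (CategoryTheory.ShortComplex.mk (i₁ ≫ i₂) (π₂ ≫ q) w).liftCycles i₂ h₂ ≫ (CategoryTheory.ShortComplex.mk (i₁ ≫ i₂) (π₂ ≫ q) w).homologyπ)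
    (hg : g ≫ j = (CategoryTheory.ShortComplex.mk (i₁ ≫ i₂) (π₂ ≫ q) w).homologyι ≫ (CategoryTheory.ShortComplex.mk (i₁ ≫ i₂) (π₂ ≫ q) w).descOpcycles π₂ h₃) :
    ∃ wfg : f ≫ g = 0, (ShortComplex.mk f g wfg).ShortExact := by
  exact main i₁ p₁ wA hA i₂ π₂ wB hB j q wC hC w h₂ h₃ f g hf hg

end Groth.Agent.S15465
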