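import Groth.Statements.S1547
import Mathlib
import Groth.Agent.FieldBC2
set_option linter.style.haveILetI false

set_option autoImplicit false
universe u
open CategoryTheory CategoryTheory.Limits AlgebraicGeometry
open Variety

namespace Groth.Agent.S1547

/-- Let k be a separably closed field, X a scheme over k and K any field extension of k. Then taking
images along the projection X_K → X is injective on irreducible components: two irreducible
components of X_K with the same image in X are equal. (Together with surjectivity on irreducible
components, stated separately, this gives a bijection of irreducible components.) -/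
theorem result (k : Type u) [Field k] (X : Scheme.{u}) [X.Over (Spec (CommRingCat.of k))] [IsSepClosed k] (K : Type u) [Field K] [Algebra k K]
    (T T' : Set (Curv2.bc k X K : Type u)) (hT : T ∈ irreducibleComponents (Curv2.bc k X K : Type u))
    (hT' : T' ∈ irreducibleComponents (Curv2.bc k X K : Type u))
    (h : (Curv2.bcFst k X K).base '' T = (Curv2.bcFst k X K).base '' T') : T = T' := by
  have hfib : ∀ x, IsIrreducible ((Curv2.bcFst k X K).base ⁻¹' {x}) := fun x =>
    Groth.Agent.SepClosedBC.isIrreducible_fiber_bc_sep k (X ↘ Spec (CommRingCat.of k)) K x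
  have ho : IsOpenMap (Curv2.bcFst k X K).base :=
    Groth.Agent.AlgClosedBC.bc_isOpenMap k (X ↘ Spec (CommRingCat.of k)) K
  have hc : Continuous (Curv2.bcFst k X K).base := (Curv2.bcFst k X K).continuous
  have key : ∀ W ∈ irreducibleComponents (Curv2.bc k X K : Type u),
      (Curv2.bcFst k X K).base ⁻¹' ((Curv2.bcFst k X K).base '' W) = W := by
    intro W hW
    refine (Set.subset_preimage_image _ _).antisymm' (hW.2 ?_ (Set.subset_preimage_image _ _))
    refine ⟨?_, (hW.1.image _ hc.continuousOn).2.preimage_of_isPreirreducible_fiber _ ho
      (fun x => (hfib x).isPreirreducible)⟩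
    obtain ⟨x, hx⟩ := hW.1.1
    exact ⟨x, x, hx, rfl⟩
  calc T = (Curv2.bcFst k X K).base ⁻¹' ((Curv2.bcFst k X K).base '' T) := (key T hT).symm
    _ = (Curv2.bcFst k X K).base ⁻¹' ((Curv2.bcFst k X K).base '' T') := by rw [h]
    _ = T' := key T' hT'

end Groth.Agent.S1547
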