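import Groth.Statements.S15488
import Mathlib

set_option autoImplicit false
universe u
open IsoNat

namespace Groth.Agent.S15488

/-- Let A be a nontrivial commutative ring, G a finite group, g an element of G of order ν and l an
element of A with l ^ ν = 1. In the free A-module of functions G → A (the regular representation, g
acting by translation v ↦ v(g·)), the submodule of v with v(g h) = l v(h) for all h is a direct
summand, free of rank |G| / ν (stated as: free, rank · ν = |G|, and a complementary submodule
exists). (The published statement is over an arbitrary ring and also covers Hom(A^N, −) of the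
regular representation, which follows; nontriviality of A is needed for the rank to be meaningful.) -/
theorem result
    (A : Type u) [CommRing A] [Nontrivial A] (G : Type u) [Group G] [Finite G]
    (g : G) (l : A) (hl : l ^ orderOf g = 1) :
    Module.Free A (LinearMap.ker (LinearMap.funLeft A A (fun h : G => g * h) - l • LinearMap.id)) ∧
      Module.finrank A (LinearMap.ker (LinearMap.funLeft A A (fun h : G => g * h) - l • LinearMap.id)) * orderOf g = Nat.card G ∧
      ∃ E' : Submodule A (G → A), IsCompl (LinearMap.ker (LinearMap.funLeft A A (fun h : G => g * h) - l • LinearMap.id)) E' := by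
  classical
  haveI := Fintype.ofFinite G
  have hmemK : ∀ v : G → A,
      v ∈ LinearMap.ker (LinearMap.funLeft A A (fun h : G => g * h) - l • LinearMap.id) ↔
        ∀ h, v (g * h) = l * v h := by
    intro v
    rw [LinearMap.mem_ker]
    constructor
    · intro hv h
      have := congrFun hv h
      simpa [LinearMap.funLeft_apply, sub_eq_zero] using this
    · intro hv
      ext h
      simp [LinearMap.funLeft_apply, sub_eq_zero, hv h]
  -- the quotient by right cosets and a section
  let mk : G → Quotient (QuotientGroup.rightRel (Subgroup.zpowers g)) :=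
    Quotient.mk (QuotientGroup.rightRel (Subgroup.zpowers g))
  let s : Quotient (QuotientGroup.rightRel (Subgroup.zpowers g)) → G := Quotient.out
  have hmks : ∀ q, mk (s q) = q := fun q => Quotient.out_eq q
  have hmkg : ∀ h : G, mk (g * h) = mk h := by
    intro h
    apply Quotient.sound
    show (QuotientGroup.rightRel (Subgroup.zpowers g)) (g * h) h
    rw [QuotientGroup.rightRel_apply]
    have : h * (g * h)⁻¹ = g⁻¹ := by group
    rw [this]
    exact Subgroup.inv_mem _ (Subgroup.mem_zpowers g)
  have hex : ∀ h : G, ∃ k : ℕ, g ^ k = h * (s (mk h))⁻¹ := by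
    intro h
    have h1 : (QuotientGroup.rightRel (Subgroup.zpowers g)) (s (mk h)) h :=
      Quotient.exact (hmks (mk h))
    rw [QuotientGroup.rightRel_apply] at h1
    have h2 : h * (s (mk h))⁻¹ ∈ Submonoid.powers g :=
      (isOfFinOrder_of_finite g).mem_powers_iff_mem_zpowers.mpr h1
    exact Submonoid.mem_powers_iff _ _ |>.mp h2
  choose k hk using hex
  have hlpow : ∀ a b : ℕ, a ≡ b [MOD orderOf g] → l ^ a = l ^ b := by
    intro a b hab
    have h1 : a % orderOf l = b % orderOf l := hab.of_dvd (orderOf_dvd_of_pow_eq_one hl)
    rw [← pow_mod_orderOf l a, ← pow_mod_orderOf l b, h1]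
  -- properties of c h = l ^ k h
  have hP1 : ∀ h : G, l ^ k (g * h) = l * l ^ k h := by
    intro h
    have h1 : g ^ k (g * h) = g ^ (k h + 1) := by
      rw [hk (g * h), hmkg h, pow_succ', hk h, mul_assoc]
    rw [hlpow _ _ (pow_eq_pow_iff_modEq.mp h1), pow_succ']
  have hP2 : ∀ q, l ^ k (s q) = 1 := by
    intro q
    have h1 : g ^ k (s q) = g ^ 0 := by
      rw [hk (s q), hmks q, mul_inv_cancel, pow_zero]
    rw [hlpow _ _ (pow_eq_pow_iff_modEq.mp h1), pow_zero]
  have hpowK : ∀ v : G → A, (∀ h, v (g * h) = l * v h) → ∀ (n : ℕ) (x : G),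
      v (g ^ n * x) = l ^ n * v x := by
    intro v hv n
    induction n with
    | zero => intro x; simp
    | succ n ih =>
      intro x
      rw [pow_succ', mul_assoc, hv, ih, pow_succ', mul_assoc]
  have hP3 : ∀ v : G → A, (∀ h, v (g * h) = l * v h) → ∀ h, v h = l ^ k h * v (s (mk h)) := by
    intro v hv h
    have h1 : h = g ^ k h * s (mk h) := by
      rw [hk h, inv_mul_cancel_right]
    conv_lhs => rw [h1]
    exact hpowK v hv _ _
  -- the linear maps
  let E : (Quotient (QuotientGroup.rightRel (Subgroup.zpowers g)) → A) →ₗ[A] (G → A) :=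
    { toFun := fun w h => l ^ k h * w (mk h)
      map_add' := fun w w' => by ext h; simp [mul_add]
      map_smul' := fun a w => by ext h; simp [mul_left_comm] }
  let R : (G → A) →ₗ[A] (Quotient (QuotientGroup.rightRel (Subgroup.zpowers g)) → A) :=
    LinearMap.funLeft A A s
  have hEK : ∀ w, E w ∈
      LinearMap.ker (LinearMap.funLeft A A (fun h : G => g * h) - l • LinearMap.id) := by
    intro w
    rw [hmemK]
    intro h
    show l ^ k (g * h) * w (mk (g * h)) = l * (l ^ k h * w (mk h))
    rw [hP1, hmkg, mul_assoc]
  have hRE : ∀ w, R (E w) = w := by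
    intro w
    ext q
    show l ^ k (s q) * w (mk (s q)) = w q
    rw [hP2, hmks, one_mul]
  have hER : ∀ v ∈ LinearMap.ker
      (LinearMap.funLeft A A (fun h : G => g * h) - l • LinearMap.id), E (R v) = v := by
    intro v hv
    ext h
    show l ^ k h * v (s (mk h)) = v h
    exact (hP3 v ((hmemK v).mp hv) h).symm
  let e : (Quotient (QuotientGroup.rightRel (Subgroup.zpowers g)) → A) ≃ₗ[A]
      ↥(LinearMap.ker (LinearMap.funLeft A A (fun h : G => g * h) - l • LinearMap.id)) :=
    { toFun := fun w => ⟨E w, hEK w⟩
      map_add' := fun w w' => Subtype.ext (map_add E w w')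
      map_smul' := fun a w => Subtype.ext (map_smul E a w)
      invFun := fun x => R x.1
      left_inv := fun w => hRE w
      right_inv := fun x => Subtype.ext (hER x.1 x.2) }
  refine ⟨Module.Free.of_equiv e, ?_, ?_⟩
  · rw [← LinearEquiv.finrank_eq e, Module.finrank_fintype_fun_eq_card, ← Nat.card_eq_fintype_card,
      Nat.card_congr (QuotientGroup.quotientRightRelEquivQuotientLeftRel (Subgroup.zpowers g)),
      ← Nat.card_zpowers g]
    exact (Subgroup.card_eq_card_quotient_mul_card_subgroup (Subgroup.zpowers g)).symm
  · let f : (G → A) →ₗ[A]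
        ↥(LinearMap.ker (LinearMap.funLeft A A (fun h : G => g * h) - l • LinearMap.id)) :=
      e.toLinearMap.comp R
    have hf : ∀ x : ↥(LinearMap.ker
        (LinearMap.funLeft A A (fun h : G => g * h) - l • LinearMap.id)), f x = x := by
      intro x
      exact Subtype.ext (hER x.1 x.2)
    exact ⟨LinearMap.ker f, LinearMap.isCompl_of_proj hf⟩

end Groth.Agent.S15488
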