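import Groth.Statements.S15491
import Mathlib

set_option autoImplicit false
universe v u
open CategoryTheory CategoryTheory.Functor
open IsoNat

namespace Groth.Agent.S15491


section helpers
open CategoryTheory CategoryTheory.Limits CategoryTheory.Limits.CategoricalPullback

variable {B A' B' A'' B'' : Type u} [Category.{v} B] [Category.{v} A'] [Category.{v} B']
  [Category.{v} A''] [Category.{v} B'']
  (r : B ⥤ B') (t' : A' ⥤ B') (l' : A' ⥤ A'') (r' : B' ⥤ B'') (t'' : A'' ⥤ B'')
  (e₂ : t' ⋙ r' ≅ l' ⋙ t'')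

/-- the pasting functor between 2-fibre products -/
def Psi : r ⊡ t' ⥤ (r ⋙ r') ⊡ t'' where
  obj x := ⟨x.fst, l'.obj x.snd, r'.mapIso x.iso ≪≫ e₂.app x.snd⟩
  map {x y} f :=
    { fst := f.fst
      snd := l'.map f.snd
      w := by
        have h1 := congrArg (fun m => r'.map m) f.w
        simp only [Functor.map_comp] at h1
        have h2 := e₂.hom.naturality f.snd
        simp only [Functor.comp_map] at h2
        show (r ⋙ r').map f.fst ≫ (r'.map y.iso.hom ≫ e₂.hom.app y.snd) =
          (r'.map x.iso.hom ≫ e₂.hom.app x.snd) ≫ t''.map (l'.map f.snd)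
        rw [Functor.comp_map, Category.assoc, ← h2, ← Category.assoc, h1, Category.assoc] }
  map_id := by intros; ext <;> simp
  map_comp := by intros; ext <;> simp

lemma Psi_faithful
    (h₂ : ((CatCommSqOver.toFunctorToCategoricalPullback r' t'' A').obj ⟨t', l', e₂⟩).IsEquivalence) :
    (Psi r t' l' r' t'' e₂).Faithful := by
  refine ⟨fun {x y} f g hfg => ?_⟩
  have h1 : f.fst = g.fst := congrArg (fun m => m.fst) hfg
  have h2 : l'.map f.snd = l'.map g.snd := congrArg (fun m => m.snd) hfg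
  have h3 : t'.map f.snd = t'.map g.snd := by
    have wf := f.w
    have wg := g.w
    rw [← cancel_epi x.iso.hom, ← wf, ← wg, h1]
  have h4 : ((CatCommSqOver.toFunctorToCategoricalPullback r' t'' A').obj ⟨t', l', e₂⟩).map f.snd =
      ((CatCommSqOver.toFunctorToCategoricalPullback r' t'' A').obj ⟨t', l', e₂⟩).map g.snd := by
    ext
    · exact h3
    · exact h2
  have h5 := ((CatCommSqOver.toFunctorToCategoricalPullback r' t'' A').obj
    ⟨t', l', e₂⟩).map_injective h4
  ext
  · exact h1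
  · exact h5

lemma Psi_full
    (h₂ : ((CatCommSqOver.toFunctorToCategoricalPullback r' t'' A').obj ⟨t', l', e₂⟩).IsEquivalence) :
    (Psi r t' l' r' t'' e₂).Full := by
  refine ⟨fun {x y} h => ?_⟩
  let hf : x.fst ⟶ y.fst := h.fst
  let hs : l'.obj x.snd ⟶ l'.obj y.snd := h.snd
  have hw : (r ⋙ r').map hf ≫ (r'.map y.iso.hom ≫ e₂.hom.app y.snd) =
      (r'.map x.iso.hom ≫ e₂.hom.app x.snd) ≫ t''.map hs := h.w
  rw [CategoryTheory.Functor.comp_map] at hw
  let m : ((CatCommSqOver.toFunctorToCategoricalPullback r' t'' A').obj ⟨t', l', e₂⟩).obj x.snd ⟶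
      ((CatCommSqOver.toFunctorToCategoricalPullback r' t'' A').obj ⟨t', l', e₂⟩).obj y.snd :=
    { fst := x.iso.inv ≫ r.map hf ≫ y.iso.hom
      snd := hs
      w := by
        show r'.map (x.iso.inv ≫ r.map hf ≫ y.iso.hom) ≫ e₂.hom.app y.snd =
          e₂.hom.app x.snd ≫ t''.map hs
        rw [CategoryTheory.Functor.map_comp, CategoryTheory.Functor.map_comp, Category.assoc,
          Category.assoc, hw]
        simp only [Category.assoc]
        rw [← CategoryTheory.Functor.map_comp_assoc, Iso.inv_hom_id,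
          CategoryTheory.Functor.map_id, Category.id_comp] }
  obtain ⟨f₂, hf₂⟩ := ((CatCommSqOver.toFunctorToCategoricalPullback r' t'' A').obj
    ⟨t', l', e₂⟩).map_surjective m
  have hf₂1 : t'.map f₂ = x.iso.inv ≫ r.map hf ≫ y.iso.hom := congrArg (fun m => m.fst) hf₂
  have hf₂2 : l'.map f₂ = hs := congrArg (fun m => m.snd) hf₂
  have hwf : r.map hf ≫ y.iso.hom = x.iso.hom ≫ t'.map f₂ := by
    rw [hf₂1, Iso.hom_inv_id_assoc]
  refine ⟨⟨hf, f₂, hwf⟩, ?_⟩
  ext
  · rfl
  · exact hf₂2

lemma Psi_essSurj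
    (h₂ : ((CatCommSqOver.toFunctorToCategoricalPullback r' t'' A').obj ⟨t', l', e₂⟩).IsEquivalence) :
    (Psi r t' l' r' t'' e₂).EssSurj := by
  refine ⟨fun z => ?_⟩
  let z' : r' ⊡ t'' := ⟨r.obj z.fst, z.snd, z.iso⟩
  let a' := ((CatCommSqOver.toFunctorToCategoricalPullback r' t'' A').obj
    ⟨t', l', e₂⟩).objPreimage z'
  let θ := ((CatCommSqOver.toFunctorToCategoricalPullback r' t'' A').obj
    ⟨t', l', e₂⟩).objObjPreimageIso z'
  let αI : t'.obj a' ≅ r.obj z.fst := (π₁ r' t'').mapIso θ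
  let βI : l'.obj a' ≅ z.snd := (π₂ r' t'').mapIso θ
  have hθ : r'.map αI.hom ≫ z.iso.hom = e₂.hom.app a' ≫ t''.map βI.hom := θ.hom.w
  refine ⟨⟨z.fst, a', αI.symm⟩, ⟨CategoricalPullback.mkIso (Iso.refl _) βI ?_⟩⟩
  show (r ⋙ r').map (𝟙 z.fst) ≫ z.iso.hom =
    (r'.map αI.inv ≫ e₂.hom.app a') ≫ t''.map βI.hom
  rw [CategoryTheory.Functor.map_id, Category.id_comp, Category.assoc, ← hθ,
    ← CategoryTheory.Functor.map_comp_assoc, Iso.inv_hom_id, CategoryTheory.Functor.map_id,
    Category.id_comp]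

end helpers

/-- Pasting of 2-cartesian squares, stated in the 2-category of categories. Consider functors t : A → B,
t' : A' → B', t'' : A'' → B'' and l : A → A', r : B → B', l' : A' → A'', r' : B' → B'' with natural
isomorphisms e₁ : t ⋙ r ≅ l ⋙ t' and e₂ : t' ⋙ r' ≅ l' ⋙ t''. If the lower square (t', l', r', t'',
e₂) is 2-cartesian (its comparison functor to the 2-fibre product is an equivalence), then the upper
square (t, l, r, t', e₁) is 2-cartesian if and only if the outer rectangle (t, l ⋙ l', r ⋙ r', t'')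
with the pasted isomorphism is. (The published statement is for an arbitrary 2-category whose
2-morphisms are invertible; this row is the case of categories, functors and natural isomorphisms.) -/
theorem result
    {A B A' B' A'' B'' : Type u} [Category.{v} A] [Category.{v} B] [Category.{v} A'] [Category.{v} B']
    [Category.{v} A''] [Category.{v} B'']
    (t : A ⥤ B) (l : A ⥤ A') (r : B ⥤ B') (t' : A' ⥤ B') (l' : A' ⥤ A'') (r' : B' ⥤ B'') (t'' : A'' ⥤ B'')
    (e₁ : t ⋙ r ≅ l ⋙ t') (e₂ : t' ⋙ r' ≅ l' ⋙ t'')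
    (h₂ : FibCat.IsTwoCart t' l' r' t'' e₂) :
    FibCat.IsTwoCart t l r t' e₁ ↔
      FibCat.IsTwoCart t (l ⋙ l') (r ⋙ r') t''
        ((Functor.associator t r r').symm ≪≫ isoWhiskerRight e₁ r' ≪≫ Functor.associator l t' r' ≪≫
          isoWhiskerLeft l e₂ ≪≫ (Functor.associator l l' t'').symm) := by
  classical
  haveI hΨ : (Psi r t' l' r' t'' e₂).IsEquivalence :=
    { faithful := Psi_faithful r t' l' r' t'' e₂ h₂
      full := Psi_full r t' l' r' t'' e₂ h₂
      essSurj := Psi_essSurj r t' l' r' t'' e₂ h₂ }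
  have iso : (CategoryTheory.Limits.CategoricalPullback.CatCommSqOver.toFunctorToCategoricalPullback
        r t' A).obj ⟨t, l, e₁⟩ ⋙ Psi r t' l' r' t'' e₂ ≅
      (CategoryTheory.Limits.CategoricalPullback.CatCommSqOver.toFunctorToCategoricalPullback
        (r ⋙ r') t'' A).obj ⟨t, l ⋙ l',
          ((Functor.associator t r r').symm ≪≫ isoWhiskerRight e₁ r' ≪≫ Functor.associator l t' r' ≪≫
          isoWhiskerLeft l e₂ ≪≫ (Functor.associator l l' t'').symm)⟩ :=
    NatIso.ofComponents
      (fun a => CategoryTheory.Limits.CategoricalPullback.mkIso (Iso.refl _) (Iso.refl _)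
        (by
          show (r ⋙ r').map (𝟙 (t.obj a)) ≫ (𝟙 _ ≫ r'.map (e₁.hom.app a) ≫ 𝟙 _ ≫
            e₂.hom.app (l.obj a) ≫ 𝟙 _) = (r'.map (e₁.hom.app a) ≫ e₂.hom.app (l.obj a)) ≫
            t''.map (𝟙 (l'.obj (l.obj a)))
          simp))
      (by
        intro X Y f
        ext
        · show t.map f ≫ 𝟙 (t.obj Y) = 𝟙 (t.obj X) ≫ t.map f
          rw [Category.comp_id, Category.id_comp]
        · show l'.map (l.map f) ≫ 𝟙 (l'.obj (l.obj Y)) = 𝟙 (l'.obj (l.obj X)) ≫ l'.map (l.map f)
          rw [Category.comp_id, Category.id_comp])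
  constructor
  · intro h1
    haveI : ((CategoryTheory.Limits.CategoricalPullback.CatCommSqOver.toFunctorToCategoricalPullback
        r t' A).obj ⟨t, l, e₁⟩).IsEquivalence := h1
    exact Functor.isEquivalence_of_iso iso
  · intro h3
    haveI : ((CategoryTheory.Limits.CategoricalPullback.CatCommSqOver.toFunctorToCategoricalPullback
        (r ⋙ r') t'' A).obj ⟨t, l ⋙ l',
          ((Functor.associator t r r').symm ≪≫ isoWhiskerRight e₁ r' ≪≫ Functor.associator l t' r' ≪≫
          isoWhiskerLeft l e₂ ≪≫ (Functor.associator l l' t'').symm)⟩).IsEquivalence := h3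
    haveI : ((CategoryTheory.Limits.CategoricalPullback.CatCommSqOver.toFunctorToCategoricalPullback
        r t' A).obj ⟨t, l, e₁⟩ ⋙ Psi r t' l' r' t'' e₂).IsEquivalence :=
      Functor.isEquivalence_of_iso iso.symm
    exact Functor.isEquivalence_of_comp_right _ (Psi r t' l' r' t'' e₂)

end Groth.Agent.S15491
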