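import Groth.Statements.S15494
import Mathlib

set_option autoImplicit false
universe u v
open Dieud

namespace Groth.Agent.S15494

/-- Let W be a commutative ring with a ring endomorphism σ, p a natural number, M a W-module and F an
additive self-map of M with F (w • m) = σ w • F m. Let d ≥ 1, c ≥ 1, h = d + c, and let e_1, …, e_h,
… be vectors of M on which F acts through a display matrix in normal form: F e_i = e_{i+1} for 1 ≤ i
< d; F e_d = Σ_{i=1}^{d} a_{i,d} e_i + e_{d+1}; F e_j = Σ_{i=1}^{d} p a_{i,j} e_i + p e_{j+1} for d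
< j < h; F e_h = Σ_{i=1}^{d} p a_{i,h} e_i. Then F^h e_1 = Σ_{i=1}^{d} Σ_{j=d}^{h} p^{j-d}
σ^{h-j}(a_{i,j}) F^{h+i-j-1} e_1. (The published statement is for the Dieudonné module of a
p-divisible group of dimension d and height h over the Witt ring of a field of characteristic p,
with σ the Frobenius and e_1, …, e_h a basis; this row keeps only the relations which the printed
computation uses, so W, σ, p and the vectors are arbitrary.) -/
theorem result
    (W : Type u) [CommRing W] (σ : W →+* W) (p : ℕ)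
    (M : Type v) [AddCommGroup M] [Module W M]
    (F : M →+ M) (hF : ∀ (w : W) (m : M), F (w • m) = σ w • F m)
    (d c : ℕ) (hd : 0 < d) (hc : 0 < c)
    (a : ℕ → ℕ → W) (e : ℕ → M)
    (h1 : ∀ i : ℕ, 1 ≤ i → i < d → F (e i) = e (i + 1))
    (h2 : F (e d) = (∑ i ∈ Finset.Icc 1 d, a i d • e i) + e (d + 1))
    (h3 : ∀ j : ℕ, d < j → j < d + c →
      F (e j) = (∑ i ∈ Finset.Icc 1 d, ((p : W) * a i j) • e i) + (p : W) • e (j + 1))
    (h4 : F (e (d + c)) = ∑ i ∈ Finset.Icc 1 d, ((p : W) * a i (d + c)) • e i) :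
    (⇑F)^[d + c] (e 1) = ∑ i ∈ Finset.Icc 1 d, ∑ j ∈ Finset.Icc d (d + c),
      ((p : W) ^ (j - d) * (⇑σ)^[d + c - j] (a i j)) • (⇑F)^[d + c + i - j - 1] (e 1) := by
  classical
  have he : ∀ t : ℕ, t < d → e (t + 1) = (⇑F)^[t] (e 1) := by
    intro t
    induction t with
    | zero => intro _; rfl
    | succ t ih =>
      intro ht
      rw [Function.iterate_succ_apply', ← ih (by omega), h1 (t + 1) (by omega) (by omega)]
  have he' : ∀ i ∈ Finset.Icc 1 d, e i = (⇑F)^[i - 1] (e 1) := by
    intro i hi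
    rw [Finset.mem_Icc] at hi
    have := he (i - 1) (by omega)
    rwa [Nat.sub_add_cancel hi.1] at this
  have hFp : ∀ (k : ℕ) (m : M), F (((p : W) ^ k) • m) = ((p : W) ^ k) • F m := by
    intro k m
    rw [hF, map_pow, map_natCast]
  obtain ⟨T, hT⟩ : ∃ T : ℕ → M, ∀ n, T n = ∑ i ∈ Finset.Icc 1 d, ∑ j ∈ Finset.Icc d n,
      ((p : W) ^ (j - d) * (⇑σ)^[n - j] (a i j)) • (⇑F)^[n + i - j - 1] (e 1) :=
    ⟨_, fun _ => rfl⟩
  have hstep : ∀ n, d ≤ n → F (T n) + ∑ i ∈ Finset.Icc 1 d,
      ((p : W) ^ (n + 1 - d) * a i (n + 1)) • (⇑F)^[i - 1] (e 1) = T (n + 1) := by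
    intro n hn
    rw [hT n, hT (n + 1), map_sum, ← Finset.sum_add_distrib]
    refine Finset.sum_congr rfl fun i hi => ?_
    rw [Finset.mem_Icc] at hi
    rw [map_sum, Finset.sum_Icc_succ_top (by omega : d ≤ n + 1)]
    congr 1
    · refine Finset.sum_congr rfl fun j hj => ?_
      rw [Finset.mem_Icc] at hj
      rw [hF, map_mul, map_pow, map_natCast]
      have e1 : n + 1 - j = (n - j) + 1 := by omega
      have e2 : n + 1 + i - j - 1 = (n + i - j - 1) + 1 := by omega
      rw [e1, e2, Function.iterate_succ_apply', Function.iterate_succ_apply']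
    · have e1 : n + 1 - (n + 1) = 0 := by omega
      have e2 : n + 1 + i - (n + 1) - 1 = i - 1 := by omega
      rw [e1, e2, Function.iterate_zero, id_eq]
  have hk : ∀ k, k < c → ((p : W) ^ k) • e (d + k + 1) = (⇑F)^[d + k] (e 1) - T (d + k) := by
    intro k
    induction k with
    | zero =>
      intro _
      have hTd : T d = ∑ i ∈ Finset.Icc 1 d, a i d • (⇑F)^[i - 1] (e 1) := by
        rw [hT d]
        refine Finset.sum_congr rfl fun i hi => ?_
        rw [Finset.mem_Icc] at hi
        rw [Finset.Icc_self, Finset.sum_singleton]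
        have e2 : d + i - d - 1 = i - 1 := by omega
        rw [Nat.sub_self, pow_zero, one_mul, Function.iterate_zero, id_eq, e2]
      have hFd : (⇑F)^[d] (e 1) =
          (∑ i ∈ Finset.Icc 1 d, a i d • (⇑F)^[i - 1] (e 1)) + e (d + 1) := by
        have h0 : (⇑F)^[d] (e 1) = F (e d) := by
          have := he (d - 1) (by omega)
          rw [Nat.sub_add_cancel hd] at this
          have h00 : (⇑F)^[d - 1 + 1] (e 1) = F (e d) := by
            rw [Function.iterate_succ_apply', ← this]
          rwa [Nat.sub_add_cancel hd] at h00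
        rw [h0, h2]
        congr 1
        exact Finset.sum_congr rfl fun i hi => by rw [he' i hi]
      show ((p : W) ^ 0) • e (d + 1) = (⇑F)^[d] (e 1) - T d
      rw [pow_zero, one_smul, hFd, hTd, add_sub_cancel_left]
    | succ k ih =>
      intro hk1
      have ih' := ih (by omega)
      have h3' := h3 (d + k + 1) (by omega) (by omega)
      have hs := hstep (d + k) (by omega)
      have e3 : d + k + 1 - d = k + 1 := by omega
      rw [e3] at hs
      have h1' : F (((p : W) ^ k) • e (d + k + 1)) =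
          (∑ i ∈ Finset.Icc 1 d, ((p : W) ^ (k + 1) * a i (d + k + 1)) • (⇑F)^[i - 1] (e 1)) +
            ((p : W) ^ (k + 1)) • e (d + k + 1 + 1) := by
        rw [hFp, h3', smul_add, Finset.smul_sum, smul_smul, ← pow_succ]
        congr 1
        refine Finset.sum_congr rfl fun i hi => ?_
        rw [smul_smul, ← mul_assoc, ← pow_succ, he' i hi]
      have h2' : F (((p : W) ^ k) • e (d + k + 1)) =
          (⇑F)^[d + k + 1] (e 1) - F (T (d + k)) := by
        rw [ih', map_sub, Function.iterate_succ_apply']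
      have h := h1'.symm.trans h2'
      rw [show d + (k + 1) = d + k + 1 from rfl, ← hs, sub_add_eq_sub_sub, ← h,
        add_sub_cancel_left]
  obtain ⟨c', rfl⟩ : ∃ c', c = c' + 1 := ⟨c - 1, by omega⟩
  rw [show d + (c' + 1) = d + c' + 1 from rfl] at h4 ⊢
  have hlast := hk c' (by omega)
  have hs := hstep (d + c') (by omega)
  have e3 : d + c' + 1 - d = c' + 1 := by omega
  rw [e3] at hs
  have h1' : F (((p : W) ^ c') • e (d + c' + 1)) =
      ∑ i ∈ Finset.Icc 1 d, ((p : W) ^ (c' + 1) * a i (d + c' + 1)) • (⇑F)^[i - 1] (e 1) := by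
    rw [hFp, h4, Finset.smul_sum]
    refine Finset.sum_congr rfl fun i hi => ?_
    rw [smul_smul, ← mul_assoc, ← pow_succ, he' i hi]
  have h2' : F (((p : W) ^ c') • e (d + c' + 1)) =
      (⇑F)^[d + c' + 1] (e 1) - F (T (d + c')) := by
    rw [hlast, map_sub, Function.iterate_succ_apply']
  have h := h1'.symm.trans h2'
  refine Eq.trans ?_ (hT (d + c' + 1))
  rw [← hs, h, add_sub_cancel]

end Groth.Agent.S15494
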