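import Groth.Statements.S15495
import Mathlib

set_option autoImplicit false
universe u
open CAlg

namespace Groth.Agent.S15495

/-- In an Artinian local ring R whose maximal ideal m contains the prime number p, the multiplicative
group 1 + m is annihilated under some power of p: there is n with (1 + x)^(p^n) = 1 for every x in
m. (The published text makes this assertion inside a proof, for Artinian local algebras over the
Witt ring of a perfect field of characteristic p; only p ∈ m and the nilpotence of m are used.) -/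
theorem result
    (R : Type u) [CommRing R] [IsLocalRing R] [IsArtinianRing R]
    (p : ℕ) (hp : p.Prime) (hpm : (p : R) ∈ IsLocalRing.maximalIdeal R) :
    ∃ n : ℕ, ∀ x ∈ IsLocalRing.maximalIdeal R, (1 + x) ^ (p ^ n) = 1 := by
  set m := IsLocalRing.maximalIdeal R with hm
  -- geometric sum lies in m
  have hgeom : ∀ y ∈ m, (∑ i ∈ Finset.range p, (1 + y) ^ i) ∈ m := by
    intro y hy
    rw [← Ideal.Quotient.eq_zero_iff_mem, map_sum]
    have hy0 : Ideal.Quotient.mk m y = 0 := Ideal.Quotient.eq_zero_iff_mem.mpr hy
    simp only [map_pow, map_add, map_one, hy0, add_zero, one_pow, Finset.sum_const,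
      Finset.card_range, nsmul_eq_mul, mul_one]
    rw [← map_natCast (Ideal.Quotient.mk m)]
    exact Ideal.Quotient.eq_zero_iff_mem.mpr hpm
  have key : ∀ n : ℕ, ∀ x ∈ m, (1 + x) ^ (p ^ n) - 1 ∈ m ^ (n + 1) := by
    intro n
    induction n with
    | zero => intro x hx; simpa using hx
    | succ n ih =>
      intro x hx
      set y := (1 + x) ^ (p ^ n) - 1 with hy
      have hy1 : y ∈ m ^ (n + 1) := ih x hx
      have hym : y ∈ m := Ideal.pow_le_self (Nat.succ_ne_zero n) hy1
      have e1 : (1 + x) ^ (p ^ (n + 1)) = (1 + y) ^ p := by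
        rw [pow_succ, pow_mul, hy]; congr 1; ring
      have e2 : (1 + y) ^ p - 1 = (∑ i ∈ Finset.range p, (1 + y) ^ i) * y := by
        have := geom_sum_mul (1 + y) p
        rw [← this]; ring
      rw [e1, e2, pow_succ']
      exact Ideal.mul_mem_mul (hgeom y hym) hy1
  obtain ⟨N, hN⟩ := IsArtinianRing.isNilpotent_jacobson_bot (R := R)
  rw [IsLocalRing.jacobson_eq_maximalIdeal ⊥ bot_ne_top] at hN
  refine ⟨N, fun x hx => ?_⟩
  have h1 := key N x hx
  have h2 : m ^ (N + 1) = ⊥ := by
    rw [pow_succ, hN, Ideal.zero_eq_bot, Ideal.bot_mul]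
  rw [h2, Ideal.mem_bot, sub_eq_zero] at h1
  exact h1

end Groth.Agent.S15495
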