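import Groth.Statements.S15496
import Mathlib

set_option autoImplicit false
universe u
open CAlg

namespace Groth.Agent.S15496

/-- Let R be a local ring with maximal ideal m, p a prime number lying in m, and suppose the residue
field of R is perfect, i.e. every element is a p-th power; let n ≥ 0. Then every unit of R is the
product of a p^n-th power of a unit and an element of 1 + m, and an element of 1 + m which is a
p^n-th power of a unit is a p^n-th power of an element of 1 + m; so the inclusion of 1 + m in the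
unit group induces a bijection between (1 + m)/(1 + m)^(p^n) and Rˣ/(Rˣ)^(p^n). (The published text
derives this equality of quotients, inside a proof, from perfectness of the base field K for all
Artinian local algebras over its Witt ring, whose residue fields need not be perfect; this row
assumes the residue field of R perfect of characteristic p, which the equality needs, and does not
assume R Artinian.) -/
theorem result
    (R : Type u) [CommRing R] [IsLocalRing R] (p : ℕ) (hp : p.Prime)
    (hpm : (p : R) ∈ IsLocalRing.maximalIdeal R)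
    (hperf : ∀ a : IsLocalRing.ResidueField R, ∃ b : IsLocalRing.ResidueField R, b ^ p = a)
    (n : ℕ) :
    (∀ u : Rˣ, ∃ v : Rˣ, ∃ x ∈ IsLocalRing.maximalIdeal R, (u : R) = (v : R) ^ (p ^ n) * (1 + x)) ∧
    (∀ x ∈ IsLocalRing.maximalIdeal R, (∃ v : Rˣ, (v : R) ^ (p ^ n) = 1 + x) →
      ∃ y ∈ IsLocalRing.maximalIdeal R, (1 + y) ^ (p ^ n) = 1 + x) := by
  have hres_zero : ∀ a : R, IsLocalRing.residue R a = 0 ↔ a ∈ IsLocalRing.maximalIdeal R :=
    fun a => IsLocalRing.residue_eq_zero_iff a
  have hp0 : ((p : ℕ) : IsLocalRing.ResidueField R) = 0 := by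
    rw [← map_natCast (IsLocalRing.residue R), hres_zero]; exact hpm
  haveI : Fact p.Prime := ⟨hp⟩
  haveI : CharP (IsLocalRing.ResidueField R) p := (CharP.charP_iff_prime_eq_zero hp).mpr hp0
  have hroot : ∀ n : ℕ, ∀ a : IsLocalRing.ResidueField R,
      ∃ b : IsLocalRing.ResidueField R, b ^ (p ^ n) = a := by
    intro n
    induction n with
    | zero => intro a; exact ⟨a, by simp⟩
    | succ n ih =>
      intro a
      obtain ⟨c, hc⟩ := hperf a
      obtain ⟨b, hb⟩ := ih c
      exact ⟨b, by rw [pow_succ, pow_mul, hb, hc]⟩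
  constructor
  · intro u
    obtain ⟨b', hb'⟩ := hroot n (IsLocalRing.residue R u)
    obtain ⟨b, rfl⟩ := IsLocalRing.residue_surjective b'
    have hbu : IsUnit b := by
      by_contra hnu
      have hbm : b ∈ IsLocalRing.maximalIdeal R := (IsLocalRing.mem_maximalIdeal b).mpr hnu
      have h0 : IsLocalRing.residue R b = 0 := (hres_zero b).mpr hbm
      rw [h0, zero_pow (pow_pos hp.pos n).ne'] at hb'
      have hum : (u : R) ∈ IsLocalRing.maximalIdeal R := (hres_zero _).mp hb'.symm
      exact (IsLocalRing.mem_maximalIdeal _).mp hum u.isUnit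
    obtain ⟨v, rfl⟩ := hbu
    refine ⟨v, ((v⁻¹ : Rˣ) : R) ^ (p ^ n) * u - 1, ?_, ?_⟩
    · rw [← hres_zero, map_sub, map_mul, map_pow, map_one, ← hb', ← mul_pow, ← map_mul]
      simp
    · have h1 : (v : R) ^ (p ^ n) * ((v⁻¹ : Rˣ) : R) ^ (p ^ n) = 1 := by
        rw [← mul_pow]; simp
      calc (u : R) = ((v : R) ^ (p ^ n) * ((v⁻¹ : Rˣ) : R) ^ (p ^ n)) * u := by rw [h1, one_mul]
        _ = (v : R) ^ (p ^ n) * (1 + (((v⁻¹ : Rˣ) : R) ^ (p ^ n) * u - 1)) := by ring
  · intro x hx ⟨v, hv⟩
    have h1 : (IsLocalRing.residue R (v : R)) ^ (p ^ n) = 1 := by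
      rw [← map_pow, hv, map_add, map_one, (hres_zero x).mpr hx, add_zero]
    have h2 : (IsLocalRing.residue R (v : R) - 1) ^ (p ^ n) = 0 := by
      rw [sub_pow_char_pow, h1, one_pow, sub_self]
    have h3 : IsLocalRing.residue R (v : R) - 1 = 0 := pow_eq_zero_iff (pow_pos hp.pos n).ne' |>.mp h2
    refine ⟨(v : R) - 1, ?_, ?_⟩
    · rw [← hres_zero, map_sub, map_one]; exact h3
    · rw [← hv]; congr 1; ring

end Groth.Agent.S15496
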