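import Groth.Statements.S15498
import Mathlib

set_option autoImplicit false
open NewtonPoly

namespace Groth.Agent.S15498

/-- Let m, n ≥ 1 be coprime, h = m + n, δ the segment from (0,0) to (h,m) (the isoclinic Newton polygon
of slope m/h) and ρ the ordinary polygon with n slopes 0 followed with m slopes 1, so ρ(i) = max(0,
i − n). The integer points (i,j), 0 ≤ i ≤ h, on or above ρ and strictly below δ — that is max(0, i −
n) ≤ j and j·h < i·m — are (m−1)(n−1)/2 + (m+n−1) in number (which equals mn − r for r =
(m−1)(n−1)/2). (The published text works under m ≥ n > 0 coprime; the inequality m ≥ n is not used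
and not assumed.) -/
theorem result
    (m n : ℕ) (hm : 0 < m) (hn : 0 < n) (hmn : Nat.Coprime m n) :
    ((Finset.range (m + n + 1) ×ˢ Finset.range (m + 1)).filter
      (fun ij : ℕ × ℕ => ij.1 ≤ ij.2 + n ∧ ij.2 * (m + n) < ij.1 * m)).card
      = (m - 1) * (n - 1) / 2 + (m + n - 1) := by
  have hcard : ∀ (s t : Finset ℕ),
      ((s ×ˢ t).filter (fun ij : ℕ × ℕ => ij.1 ≤ ij.2 + n ∧ ij.2 * (m + n) < ij.1 * m)).card =
        ∑ j ∈ t, (s.filter (fun i => i ≤ j + n ∧ j * (m + n) < i * m)).card := by
    intro s t
    simp only [Finset.card_filter, Finset.sum_product_right]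
  have hrow : ∀ j ∈ Finset.range (m + 1),
      ((Finset.range (m + n + 1)).filter (fun i => i ≤ j + n ∧ j * (m + n) < i * m)).card
        + j * n / m = n := by
    intro j hj
    have hjm : j ≤ m := Nat.lt_succ_iff.1 (Finset.mem_range.1 hj)
    have hdiv : j * (m + n) / m = j * n / m + j := by
      rw [show j * (m + n) = j * n + j * m by ring]
      exact Nat.add_mul_div_right _ _ hm
    have hset : (Finset.range (m + n + 1)).filter (fun i => i ≤ j + n ∧ j * (m + n) < i * m)
        = Finset.Ico (j * n / m + j + 1) (j + n + 1) := by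
      ext i
      simp only [Finset.mem_filter, Finset.mem_range, Finset.mem_Ico]
      have hiff : j * (m + n) / m < i ↔ j * (m + n) < i * m := Nat.div_lt_iff_lt_mul hm
      constructor
      · rintro ⟨_, h1, h2⟩
        have := hiff.2 h2
        omega
      · rintro ⟨h1, h2⟩
        have h3 : j * (m + n) / m < i := by omega
        exact ⟨by omega, by omega, hiff.1 h3⟩
    have hle : j * n / m ≤ n := by
      apply Nat.div_le_of_le_mul
      exact Nat.mul_le_mul_right n hjm
    rw [hset, Nat.card_Ico]
    omega
  have pair_lemma : ∀ i, 0 < i → i < m → i * n / m + (m - i) * n / m = n - 1 := by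
    intro i hi0 him
    obtain ⟨k, hk⟩ : ∃ k, m = i + k := ⟨m - i, by omega⟩
    have hk0 : 0 < k := by omega
    have hmi : m - i = k := by omega
    rw [hmi]
    have hdm : m * (i * n / m) + i * n % m = i * n := Nat.div_add_mod (i * n) m
    have hr0 : i * n % m ≠ 0 := by
      intro h0
      have hd : m ∣ i * n := Nat.dvd_of_mod_eq_zero h0
      have hd' : m ∣ i := hmn.dvd_of_dvd_mul_right hd
      exact absurd (Nat.le_of_dvd hi0 hd') (by omega)
    have hrlt : i * n % m < m := Nat.mod_lt _ hm
    generalize i * n / m = q at hdm ⊢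
    generalize i * n % m = r at hdm hr0 hrlt
    have hqn : q < n := by
      have h1 : i * n < m * n := by nlinarith
      have h2 : m * q < m * n := by omega
      exact Nat.lt_of_mul_lt_mul_left h2
    obtain ⟨q', hq'⟩ : ∃ q', n = q + q' + 1 := ⟨n - q - 1, by omega⟩
    have e1 : m * n = i * n + k * n := by rw [hk]; ring
    have e2 : m * n = m * q + m * q' + m := by rw [hq']; ring
    have hrpos : 0 < r := Nat.pos_of_ne_zero hr0
    have hkq : k * n / m = q' := by
      apply Nat.div_eq_of_lt_le
      · nlinarith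
      · nlinarith
    rw [hkq]; omega
  have hF : 2 * ∑ j ∈ Finset.range m, j * n / m = (m - 1) * (n - 1) := by
    obtain ⟨a, rfl⟩ : ∃ a, m = a + 1 := ⟨m - 1, by omega⟩
    rw [Finset.sum_range_succ']
    have hrefl : ∑ j ∈ Finset.range a, (a - 1 - j + 1) * n / (a + 1) =
        ∑ j ∈ Finset.range a, (j + 1) * n / (a + 1) :=
      Finset.sum_range_reflect (fun j => (j + 1) * n / (a + 1)) a
    have hpair : ∑ j ∈ Finset.range a,
        ((j + 1) * n / (a + 1) + (a - 1 - j + 1) * n / (a + 1)) =
        ∑ j ∈ Finset.range a, (n - 1) := by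
      refine Finset.sum_congr rfl (fun j hj => ?_)
      have hj' : j < a := Finset.mem_range.1 hj
      have h := pair_lemma (j + 1) (by omega) (by omega)
      rw [show a - 1 - j + 1 = a + 1 - (j + 1) by omega]
      exact h
    rw [Finset.sum_add_distrib, hrefl] at hpair
    simp only [Finset.sum_const, Finset.card_range, smul_eq_mul] at hpair
    simp only [Nat.zero_mul, Nat.zero_div, add_zero, Nat.add_sub_cancel]
    omega
  have hsum : (∑ j ∈ Finset.range (m + 1),
      ((Finset.range (m + n + 1)).filter (fun i => i ≤ j + n ∧ j * (m + n) < i * m)).card)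
      + ∑ j ∈ Finset.range (m + 1), j * n / m = (m + 1) * n := by
    rw [← Finset.sum_add_distrib, Finset.sum_congr rfl hrow]
    simp only [Finset.sum_const, Finset.card_range, smul_eq_mul]
  have hsplit : ∑ j ∈ Finset.range (m + 1), j * n / m =
      (∑ j ∈ Finset.range m, j * n / m) + n := by
    rw [Finset.sum_range_succ, Nat.mul_div_cancel_left n hm]
  rw [hcard]
  rw [hsplit] at hsum
  obtain ⟨a, ha⟩ : ∃ a, m = a + 1 := ⟨m - 1, by omega⟩
  obtain ⟨b, hb⟩ : ∃ b, n = b + 1 := ⟨n - 1, by omega⟩
  have hm1 : m - 1 = a := by omega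
  have hn1 : n - 1 = b := by omega
  rw [hm1, hn1] at hF ⊢
  have hexp : (m + 1) * n = a * b + a + 2 * b + 2 := by rw [ha, hb]; ring
  omega

end Groth.Agent.S15498
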