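import Groth.Statements.S15506
import Mathlib
import Groth.Agent.S0658

set_option autoImplicit false
universe u
open CategoryTheory AlgebraicGeometry
open EtBase

namespace Groth.Agent.S15506

section Helpers
open AlgebraicGeometry CategoryTheory Limits TopologicalSpace

theorem mem_range_of_isIntegral {k K Ω : Type u} [Field k] [Field K] [Field Ω] [Algebra k K]
    [IsAlgClosed K] [Algebra K Ω] [Algebra k Ω] [IsScalarTower k K Ω] (ω : Ω)
    (hω : IsIntegral k ω) : ω ∈ (algebraMap K Ω).range := by
  have h1 : IsIntegral K ω := hω.tower_top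
  have h2 : (minpoly K ω).degree = 1 :=
    IsAlgClosed.degree_eq_one_of_irreducible K (minpoly.irreducible h1)
  exact minpoly.mem_range_of_degree_eq_one K ω h2

theorem inj15506 (K Ω : Type u) [Field K] [Field Ω] [Algebra K Ω]
    (Z : Scheme.{u}) (g₁ g₂ : Spec (CommRingCat.of K) ⟶ Z)
    (h : Spec.map (CommRingCat.ofHom (algebraMap K Ω)) ≫ g₁ =
      Spec.map (CommRingCat.ofHom (algebraMap K Ω)) ≫ g₂) : g₁ = g₂ := by
  haveI : Flat (Spec.map (CommRingCat.ofHom (algebraMap K Ω))) := by
    rw [HasRingHomProperty.Spec_iff (P := @Flat)]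
    exact RingHom.flat_algebraMap_iff.mpr inferInstance
  haveI : Subsingleton (PrimeSpectrum K) := inferInstance
  haveI : Surjective (Spec.map (CommRingCat.ofHom (algebraMap K Ω))) :=
    ⟨fun x => ⟨IsLocalRing.closedPoint Ω, Subsingleton.elim (α := PrimeSpectrum K) _ _⟩⟩
  haveI : Epi (Spec.map (CommRingCat.ofHom (algebraMap K Ω))) := Flat.epi_of_flat_of_surjective _
  exact (cancel_epi _).mp h

set_option backward.isDefEq.respectTransparency false in
theorem surj15506 (k K Ω : Type u) [Field k] [Field K] [Field Ω] [Algebra k K] [IsAlgClosed K]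
    [Algebra K Ω] [Algebra k Ω] [IsScalarTower k K Ω]
    (Z : Scheme.{u}) (f : Z ⟶ Spec (CommRingCat.of k)) [Etale f]
    (h : Spec (CommRingCat.of Ω) ⟶ Z)
    (hh : h ≫ f = Spec.map (CommRingCat.ofHom (algebraMap k Ω))) :
    ∃ g : Spec (CommRingCat.of K) ⟶ Z,
      g ≫ f = Spec.map (CommRingCat.ofHom (algebraMap k K)) ∧
      Spec.map (CommRingCat.ofHom (algebraMap K Ω)) ≫ g = h := by
  let z : Z := h (IsLocalRing.closedPoint Ω)
  let θ : Z.residueField z ⟶ CommRingCat.of Ω :=
    Scheme.descResidueField (Scheme.stalkClosedPointTo h)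
  have hθ : Spec.map θ ≫ Z.fromSpecResidueField z = h :=
    Scheme.descResidueField_stalkClosedPointTo_fromSpecResidueField Ω Z h
  let ψ := Groth.Agent.S0658.ψ0658 k Z f z
  have hψ : Spec.map ψ = Z.fromSpecResidueField z ≫ f :=
    Groth.Agent.S0658.SpecMap_ψ0658 k Z f z
  have hcomp : ψ ≫ θ = CommRingCat.ofHom (algebraMap k Ω) := by
    apply Spec.map_injective
    rw [Spec.map_comp, hψ, ← Category.assoc, hθ, hh]
  letI a3 : Algebra k (Z.residueField z) := ψ.hom.toAlgebra
  haveI hfin : FiniteDimensional k (Z.residueField z) :=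
    (Groth.Agent.S0658.finite_sep_ψ k Z f z).1
  let θA : Z.residueField z →ₐ[k] Ω :=
    { θ.hom with
      commutes' := fun r => by
        have h1 := congrArg (fun φ => φ.hom r) hcomp
        exact h1 }
  have hmem : ∀ a : Z.residueField z, θ.hom a ∈ (algebraMap K Ω).range := by
    intro a
    have h1 : IsIntegral k a := Algebra.IsIntegral.isIntegral a
    have h2 : IsIntegral k (θA a) := h1.map θA
    exact mem_range_of_isIntegral (k := k) (K := K) (θA a) h2
  have hρ : Function.Injective (algebraMap K Ω) := (algebraMap K Ω).injective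
  let e : K ≃+* (algebraMap K Ω).range := RingEquiv.ofBijective (algebraMap K Ω).rangeRestrict
    ⟨fun x y hxy => hρ (congrArg Subtype.val hxy), (algebraMap K Ω).rangeRestrict_surjective⟩
  let σ : Z.residueField z →+* K :=
    e.symm.toRingHom.comp (θ.hom.codRestrict (algebraMap K Ω).range hmem)
  have hσ : ∀ a, algebraMap K Ω (σ a) = θ.hom a := by
    intro a
    have h1 : e (σ a) = θ.hom.codRestrict (algebraMap K Ω).range hmem a :=
      e.apply_symm_apply _
    exact congrArg Subtype.val h1
  refine ⟨Spec.map (CommRingCat.ofHom σ) ≫ Z.fromSpecResidueField z, ?_, ?_⟩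
  · rw [Category.assoc, ← hψ, ← Spec.map_comp]
    congr 1
    ext r
    apply hρ
    show algebraMap K Ω (σ (ψ.hom r)) = algebraMap K Ω (algebraMap k K r)
    rw [hσ, ← IsScalarTower.algebraMap_apply k K Ω]
    exact congrArg (fun φ => φ.hom r) hcomp
  · refine Eq.trans ?_ hθ
    rw [← Category.assoc, ← Spec.map_comp]
    congr 2
    ext a
    exact hσ a

end Helpers

/-- Let k be a field, K an algebraic closure of k (an algebraically closed field algebraic over k), Ω a
field containing K, and Z a scheme étale over Spec k. Composition with Spec Ω → Spec K is a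
bijection from the k-morphisms Spec K → Z onto the k-morphisms Spec Ω → Z: two k-morphisms Spec K →
Z that agree on Spec Ω are equal, and every k-morphism Spec Ω → Z factors through Spec K. (The
published statement is the case where k has characteristic zero with a chosen embedding of its
algebraic closure into the complex numbers, Ω = ℂ, and Z is the scheme of isomorphisms between two
K3 surfaces over k, known there to be étale over k; this row states the fact about an arbitrary
étale k-scheme that the argument establishes.) -/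
theorem result
    (k K Ω : Type u) [Field k] [Field K] [Field Ω] [Algebra k K] [IsAlgClosed K] [Algebra.IsAlgebraic k K]
    [Algebra K Ω] [Algebra k Ω] [IsScalarTower k K Ω]
    (Z : Scheme.{u}) (f : Z ⟶ Spec (CommRingCat.of k)) [AlgebraicGeometry.Etale f] :
    (∀ g₁ g₂ : Spec (CommRingCat.of K) ⟶ Z,
        g₁ ≫ f = Spec.map (CommRingCat.ofHom (algebraMap k K)) →
        g₂ ≫ f = Spec.map (CommRingCat.ofHom (algebraMap k K)) →
        Spec.map (CommRingCat.ofHom (algebraMap K Ω)) ≫ g₁ = Spec.map (CommRingCat.ofHom (algebraMap K Ω)) ≫ g₂ →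
        g₁ = g₂) ∧
    (∀ h : Spec (CommRingCat.of Ω) ⟶ Z, h ≫ f = Spec.map (CommRingCat.ofHom (algebraMap k Ω)) →
        ∃ g : Spec (CommRingCat.of K) ⟶ Z, g ≫ f = Spec.map (CommRingCat.ofHom (algebraMap k K)) ∧
          Spec.map (CommRingCat.ofHom (algebraMap K Ω)) ≫ g = h) := by
  refine ⟨fun g₁ g₂ _ _ h => inj15506 K Ω Z g₁ g₂ h, fun h hh => surj15506 k K Ω Z f h hh⟩

end Groth.Agent.S15506
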