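import Groth.Statements.S15524
import Groth.Agent.H21.PowerSum

set_option autoImplicit false
open Finset
open Zeta

namespace Groth.Agent.S15524

/-- Let q ≥ 1 and let α_1, …, α_{2g} be complex numbers permuted by α ↦ q/α, i.e. α_{σ(i)} α_i = q for a
permutation σ of the indices; these play the role of the inverse roots of the numerator of the zeta
function of a curve over a field with q elements, for which #X(F_{q^N}) = q^N + 1 − Σ_i α_i^N. If
for some d ≥ 1 and real C one has |Σ_i α_i^{dN}| ≤ C q^{dN/2} for every N ≥ 1, then |α_i|^2 = q for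
every i (the Riemann hypothesis for the curve). -/
theorem result {g : ℕ} (q : ℕ) (hq : 0 < q)
    (α : Fin (2 * g) → ℂ) (σ : Equiv.Perm (Fin (2 * g))) (hσ : ∀ i, α (σ i) * α i = q)
    (d : ℕ) (hd : 0 < d) (C : ℝ)
    (hC : ∀ N : ℕ, 1 ≤ N → ‖∑ i, α i ^ (d * N)‖ ≤ C * (q : ℝ) ^ ((d : ℝ) * N / 2))
    (i : Fin (2 * g)) : ‖α i‖ ^ 2 = q := by
  have hq0 : (0:ℝ) < q := by exact_mod_cast hq
  obtain ⟨s, hs⟩ : ∃ s : ℝ, s = Real.sqrt q := ⟨_, rfl⟩
  have hs0 : 0 < s := by rw [hs]; exact Real.sqrt_pos.mpr hq0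
  have hss : s * s = q := by rw [hs]; exact Real.mul_self_sqrt hq0.le
  have hpow : ∀ N : ℕ, (q:ℝ) ^ ((d:ℝ) * N / 2) = s ^ (d * N) := by
    intro N
    rw [hs, Real.sqrt_eq_rpow, ← Real.rpow_natCast, ← Real.rpow_mul hq0.le]
    congr 1; push_cast; ring
  have hsn : ‖(s : ℂ)‖ = s := by
    rw [Complex.norm_real, Real.norm_of_nonneg hs0.le]
  have hβ : ∀ N : ℕ, 1 ≤ N → ‖∑ i, (α i ^ d / (s:ℂ) ^ d) ^ N‖ ≤ C := by
    intro N hN
    have h1 : ∑ i, (α i ^ d / (s:ℂ) ^ d) ^ N = (∑ i, α i ^ (d * N)) / ((s:ℂ) ^ (d * N)) := by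
      rw [Finset.sum_div]; refine Finset.sum_congr rfl (fun i _ => ?_)
      rw [div_pow, ← pow_mul, ← pow_mul]
    rw [h1, norm_div, norm_pow, hsn, div_le_iff₀ (by positivity), ← hpow]
    exact hC N hN
  have hle : ∀ i, ‖α i‖ ≤ s := by
    intro i
    have := H21.PowerSum.norm_le_one_of_powerSum_bounded
      (fun i => α i ^ d / (s:ℂ) ^ d) C hβ i
    rw [norm_div, norm_pow, norm_pow, hsn, div_le_one (by positivity)] at this
    exact (pow_le_pow_iff_left₀ (norm_nonneg _) hs0.le hd.ne').mp this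
  have hge : s ≤ ‖α i‖ := by
    have h1 := hσ i
    have h2 : ‖α (σ i)‖ * ‖α i‖ = q := by rw [← norm_mul, h1]; simp
    have h3 := hle (σ i)
    nlinarith [norm_nonneg (α i)]
  have : ‖α i‖ = s := le_antisymm (hle i) hge
  rw [this, sq, hss]

end Groth.Agent.S15524
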