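import Groth.Statements.S15525
import Groth.Agent.H21.UnitCircle

set_option autoImplicit false
universe u
open Zeta

namespace Groth.Agent.S15525

/-- Let L be a field with a ring embedding ι into ℂ and M an r × r matrix over L all of whose
eigenvalues, the complex roots of its characteristic polynomial mapped along ι, have absolute value
1. Then every coefficient of the characteristic polynomial of the block-diagonal matrix with blocks
M and the inverse transpose of M is mapped by ι into ℝ. This is the pointwise content of the
assertion that for a lisse sheaf F pure of weight 0 the sum of F and its dual is real, the Frobenius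
of the dual acting by the inverse transpose. -/
theorem result (L : Type u) [Field L] (ι : L →+* ℂ)
    {r : ℕ} (M : Matrix (Fin r) (Fin r) L)
    (hM : ∀ z ∈ ((Matrix.charpoly M).map ι).roots, ‖z‖ = 1) (n : ℕ) :
    (ι ((Matrix.fromBlocks M 0 0 (M⁻¹).transpose).charpoly.coeff n)).im = 0 := by
  classical
  have hinv : (M⁻¹).map ι = (M.map ι)⁻¹ := by
    ext i j
    have h1 := RingHom.map_adjugate ι M
    have h2 := RingHom.map_det ι M
    simp only [RingHom.mapMatrix_apply] at h1 h2
    rw [Matrix.inv_def, Matrix.inv_def, Matrix.map_apply, Matrix.smul_apply, Matrix.smul_apply,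
      ← h1, ← h2, Ring.inverse_eq_inv', Ring.inverse_eq_inv', smul_eq_mul, smul_eq_mul, map_mul,
      map_inv₀, Matrix.map_apply]
  rw [Matrix.charpoly_fromBlocks_zero₁₂, Matrix.charpoly_transpose, ← Polynomial.coeff_map,
    Polynomial.map_mul, ← Matrix.charpoly_map, ← Matrix.charpoly_map, hinv]
  rw [← Matrix.charpoly_map] at hM
  rw [H21.UnitCircle.charpoly_inv_eq _ hM]
  exact H21.UnitCircle.im_coeff_mul_conj _ n

end Groth.Agent.S15525
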