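import Groth.Statements.S15526
import Groth.Agent.H21.MonoSpan

set_option autoImplicit false
universe u
open MvPolynomial
open CAlg

namespace Groth.Agent.S15526

/-- Let R be a commutative ring, P ∈ R[x] a monic polynomial of degree 2g + 1, and A = R[x, y, z]/(y^2 −
P(x), yz − 1). Then every element of A is a finite sum Σ_n Q_n(x) y^n over integers n, negative
powers of y meaning powers of z, with each Q_n ∈ R[x] of degree at most 2g: the R-submodule of A
spanned by the classes of x^i y^n and x^i z^n with i ≤ 2g and n ≥ 0 is all of A. (The published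
statement takes for R the ring of Witt vectors of a finite field and for P a lift of a separable
polynomial; the argument uses only that P is monic of degree 2g + 1.) -/
theorem result (R : Type u) [CommRing R] (g : ℕ)
    (P : Polynomial R) (hP : P.Monic) (hdeg : P.natDegree = 2 * g + 1) :
    Submodule.span R {a : MvPolynomial (Fin 3) R ⧸
        Ideal.span ({X 1 ^ 2 - Polynomial.aeval (X 0 : MvPolynomial (Fin 3) R) P, X 1 * X 2 - 1} :
          Set (MvPolynomial (Fin 3) R)) |
        ∃ i n : ℕ, i ≤ 2 * g ∧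
          (a = Ideal.Quotient.mk _ (X 0 ^ i * X 1 ^ n) ∨ a = Ideal.Quotient.mk _ (X 0 ^ i * X 2 ^ n))} =
      ⊤ := by
  classical
  generalize hI' : Ideal.span
      ({X 1 ^ 2 - Polynomial.aeval (X 0 : MvPolynomial (Fin 3) R) P, X 1 * X 2 - 1} :
        Set (MvPolynomial (Fin 3) R)) = I
  have hI := hI'.symm
  rw [eq_top_iff]
  intro a _
  have hyz : Ideal.Quotient.mk I (X 1) * Ideal.Quotient.mk I (X 2) = 1 := by
    rw [← map_mul, ← sub_eq_zero, ← map_one (Ideal.Quotient.mk I), ← map_sub,
      Ideal.Quotient.eq_zero_iff_mem, hI]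
    exact Ideal.subset_span (by simp)
  have hy2 : Ideal.Quotient.mk I (X 1) ^ 2 =
      Polynomial.aeval (Ideal.Quotient.mk I (X 0)) P := by
    have h1 : Polynomial.aeval (Ideal.Quotient.mk I (X 0)) P =
        Ideal.Quotient.mk I (Polynomial.aeval (X 0 : MvPolynomial (Fin 3) R) P) := by
      have := Polynomial.aeval_algHom_apply (Ideal.Quotient.mkₐ R I)
        (X 0 : MvPolynomial (Fin 3) R) P
      simpa using this
    rw [h1, ← map_pow, ← sub_eq_zero, ← map_sub, Ideal.Quotient.eq_zero_iff_mem, hI]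
    exact Ideal.subset_span (by simp)
  let yu : (MvPolynomial (Fin 3) R ⧸ I)ˣ :=
    ⟨Ideal.Quotient.mk I (X 1), Ideal.Quotient.mk I (X 2), hyz, by rw [mul_comm]; exact hyz⟩
  have hle : H21.MonoSpan.S' (R := R) (Ideal.Quotient.mk I (X 0)) yu g ≤
      Submodule.span R {a : MvPolynomial (Fin 3) R ⧸ I |
        ∃ i n : ℕ, i ≤ 2 * g ∧
          (a = Ideal.Quotient.mk _ (X 0 ^ i * X 1 ^ n) ∨
            a = Ideal.Quotient.mk _ (X 0 ^ i * X 2 ^ n))} := by
    unfold H21.MonoSpan.S'
    apply Submodule.span_mono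
    rintro _ ⟨i, n, hi, rfl⟩
    rcases Int.eq_nat_or_neg n with ⟨m, rfl | rfl⟩
    · refine ⟨i, m, hi, Or.inl ?_⟩
      rw [zpow_natCast, Units.val_pow_eq_pow_val, map_mul, map_pow, map_pow]
    · refine ⟨i, m, hi, Or.inr ?_⟩
      rw [zpow_neg, zpow_natCast, ← inv_pow, Units.val_pow_eq_pow_val, map_mul, map_pow, map_pow]
      rfl
  apply hle
  obtain ⟨p, rfl⟩ := Ideal.Quotient.mk_surjective a
  induction p using MvPolynomial.induction_on with
  | C r =>
    have : Ideal.Quotient.mk I (C r) = r • (1 : MvPolynomial (Fin 3) R ⧸ I) := by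
      rw [Algebra.smul_def (R := R) (A := MvPolynomial (Fin 3) R ⧸ I), mul_one]; rfl
    rw [this]
    exact Submodule.smul_mem _ _ (H21.MonoSpan.one_mem _ _ _)
  | add p q hp hq =>
    rw [map_add]
    exact Submodule.add_mem _ (hp trivial) (hq trivial)
  | mul_X p j hp =>
    rw [map_mul, mul_comm]
    fin_cases j
    · exact H21.MonoSpan.x_closed _ yu g P hP hdeg hy2 _ (hp trivial)
    · exact H21.MonoSpan.y_closed _ yu g _ (hp trivial)
    · exact H21.MonoSpan.z_closed _ yu g _ (hp trivial)

end Groth.Agent.S15526
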