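import Groth.Statements.S15536
import Groth.Agent.H16.PL5
-- import your own Groth.Agent.* helpers here

set_option autoImplicit false
universe u
open DeRham

namespace Groth.Agent.S15536

open exteriorPower Polynomial in
/-- For a commutative ℚ-algebra R, an R-algebra A, de Rham differentials d on ⋀^• Ω_{A/R} and d' on ⋀^•
Ω_{A[t]/R}, and the map of de Rham complexes ψ induced by the inclusion A → A[t] (pinned by its
values on the elements b₀ db₁ ∧ … ∧ db_p and commuting with d, d'), the map ψ is a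
quasi-isomorphism: in every degree i, each d'-closed form on A[t] is the sum of ψ_i of a d-closed
form on A and a d'-exact form, and a d-closed form on A whose image under ψ_i is d'-exact is d-exact
(in degree 0, exact means zero). -/
theorem result (R A : Type u) [CommRing R]
    [CommRing A] [Algebra R A] [Algebra ℚ R]
    (d : ∀ p : ℕ, ↥(⋀[A]^p (Ω[A⁄R])) →ₗ[R] ↥(⋀[A]^(p + 1) (Ω[A⁄R])))
    (hd : DeRham.IsDiff (KaehlerDifferential.D R A) d)
    (d' : ∀ p : ℕ, ↥(⋀[A[X]]^p (Ω[A[X]⁄R])) →ₗ[R] ↥(⋀[A[X]]^(p + 1) (Ω[A[X]⁄R])))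
    (hd' : DeRham.IsDiff (KaehlerDifferential.D R A[X]) d')
    (ψ : ∀ p : ℕ, ↥(⋀[A]^p (Ω[A⁄R])) →+ ↥(⋀[A[X]]^p (Ω[A[X]⁄R])))
    (hψ : DeRham.IsCxMap (KaehlerDifferential.D R A) (KaehlerDifferential.D R A[X]) (algebraMap A A[X]) ψ)
    (hcomm : ∀ (p : ℕ) (x : ↥(⋀[A]^p (Ω[A⁄R]))), ψ (p + 1) (d p x) = d' p (ψ p x)) (i : ℕ) :
    (∀ y ∈ DeRham.cocycles d' i, ∃ x ∈ DeRham.cocycles d i, y - ψ i x ∈ DeRham.coboundaries d' i) ∧
      (∀ x ∈ DeRham.cocycles d i, ψ i x ∈ DeRham.coboundaries d' i → x ∈ DeRham.coboundaries d i) := by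
  obtain ⟨φ, hφ⟩ := Groth.Agent.H16.PL.exists_phi R A
  have hφψ := Groth.Agent.H16.PL.phi_psi φ hφ ψ hψ
  have hφd := Groth.Agent.H16.PL.phi_comm d hd d' hd' φ hφ
  constructor
  · intro y hy
    have hcl : d' i y = 0 := hy
    obtain ⟨x₀, F, yn, hF, hL, hyd⟩ := Groth.Agent.H16.PL.Dec_all d' hd' ψ hψ i y
    have hred := Groth.Agent.H16.PL.reduce d' hd' i F hF y (ψ i x₀) yn hL
      (Groth.Agent.H16.PL.L_psi d' hd' ψ hψ i x₀) hyd hcl
    refine ⟨x₀, ?_, hred⟩
    have h1 : d' i (y - ψ i x₀) = 0 := Groth.Agent.H16.PL.cob_closed d' hd' i _ hred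
    have h2 : d' i (ψ i x₀) = 0 := by
      rw [map_sub, hcl, zero_sub, neg_eq_zero] at h1
      exact h1
    show d i x₀ = 0
    rw [← hφψ i x₀, ← hφd, h2, map_zero]
  · intro x hx hex
    cases i with
    | zero =>
      have h0 : ψ 0 x = 0 := (Submodule.mem_bot R).mp hex
      have h1 : x = 0 := by rw [← hφψ 0 x, h0, map_zero]
      rw [h1]
      exact Submodule.zero_mem _
    | succ p =>
      obtain ⟨z, hz⟩ := hex
      refine ⟨φ p z, ?_⟩
      rw [← hφd, hz, hφψ]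

end Groth.Agent.S15536
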