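import Groth.Statements.S15546
import Mathlib

set_option autoImplicit false
open scoped TensorProduct
universe u
open Unram

namespace Groth.Agent.S15546

/-- Let E be a finite extension of a field k which is not separable over k, and K an algebraic closure
of k. Then E ⊗_k K has a nonzero nilpotent element. -/
theorem result (k E K : Type u) [Field k] [Field E]
    [Algebra k E] [FiniteDimensional k E] [Field K] [Algebra k K] [IsAlgClosure k K]
    (h : ¬ Algebra.IsSeparable k E) : ∃ x : E ⊗[k] K, x ≠ 0 ∧ IsNilpotent x := by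
  classical
  haveI : IsAlgClosed K := IsAlgClosure.isAlgClosed k
  -- find a non-separable element
  have h1 : ∃ α : E, ¬ IsSeparable k α := by
    by_contra hcon
    push Not at hcon
    exact h ⟨hcon⟩
  obtain ⟨α, hα⟩ := h1
  have hint : IsIntegral k α := Algebra.IsIntegral.isIntegral α
  set f := minpoly k α with hf
  have hfsep : ¬ f.Separable := hα
  have hf0 : f ≠ 0 := minpoly.ne_zero hint
  set fK := f.map (algebraMap k K) with hfK
  have hfK0 : fK ≠ 0 := (Polynomial.map_ne_zero_iff (algebraMap k K).injective).mpr hf0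
  have hfKsep : ¬ fK.Separable := by
    rw [hfK, Polynomial.separable_map]; exact hfsep
  have hsplit : fK.Splits := IsAlgClosed.splits fK
  have hnodup : ¬ fK.roots.Nodup := by
    rw [Polynomial.nodup_roots_iff_of_splits hfK0 hsplit]; exact hfKsep
  rw [Multiset.nodup_iff_count_le_one] at hnodup
  push Not at hnodup
  obtain ⟨a, ha⟩ := hnodup
  rw [Polynomial.count_roots] at ha
  have hdvd : (Polynomial.X - Polynomial.C a) ^ 2 ∣ fK :=
    (Polynomial.le_rootMultiplicity_iff hfK0).mp ha
  obtain ⟨g, hg⟩ := hdvd
  have hg0 : g ≠ 0 := by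
    rintro rfl; rw [mul_zero] at hg; exact hfK0 hg
  set hh := (Polynomial.X - Polynomial.C a) * g with hhh
  have hh0 : hh ≠ 0 := mul_ne_zero (Polynomial.X_sub_C_ne_zero a) hg0
  have hsq : hh ^ 2 = fK * g := by rw [hg, hhh]; ring
  have hdeg : hh.natDegree < fK.natDegree := by
    rw [hg, hhh, Polynomial.natDegree_mul (Polynomial.X_sub_C_ne_zero a) hg0,
      Polynomial.natDegree_mul (pow_ne_zero 2 (Polynomial.X_sub_C_ne_zero a)) hg0,
      Polynomial.natDegree_pow, Polynomial.natDegree_X_sub_C]
    omega
  have hdegf : fK.natDegree = f.natDegree := Polynomial.natDegree_map _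
  set d := f.natDegree with hd
  -- work in K ⊗ E
  let β : K ⊗[k] E := (1 : K) ⊗ₜ α
  have hβ : Polynomial.aeval β fK = 0 := by
    rw [hfK, Polynomial.aeval_map_algebraMap]
    have : β = (Algebra.TensorProduct.includeRight : E →ₐ[k] K ⊗[k] E) α := rfl
    rw [this, Polynomial.aeval_algHom_apply, hf, minpoly.aeval, map_zero]
  let x : K ⊗[k] E := Polynomial.aeval β hh
  have hxnil : x ^ 2 = 0 := by
    change (Polynomial.aeval β hh) ^ 2 = 0
    rw [← map_pow, hsq, map_mul, hβ, zero_mul]
  have hxne : x ≠ 0 := by
    -- the injective map (Fin d → K) → K ⊗ E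
    let L : (Fin d → k) →ₗ[k] E := Fintype.linearCombination k (fun i : Fin d => α ^ (i : ℕ))
    have hL : Function.Injective L := by
      have := linearIndependent_pow (K := k) α
      rw [← hf, ← hd] at this
      exact this.fintypeLinearCombination_injective
    have hLK : Function.Injective (L.lTensor K) :=
      Module.Flat.lTensor_preserves_injective_linearMap L hL
    let Φ : (Fin d → K) →ₗ[K] K ⊗[k] E :=
      (TensorProduct.AlgebraTensorModule.lTensor K K L) ∘ₗ
        (TensorProduct.piScalarRight k K K (Fin d)).symm.toLinearMap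
    have hΦinj : Function.Injective Φ := by
      intro u v huv
      apply (TensorProduct.piScalarRight k K K (Fin d)).symm.injective
      apply hLK
      exact huv
    have hΦsingle : ∀ (i : Fin d) (c : K), Φ (Pi.single i c) = c ⊗ₜ (α ^ (i : ℕ)) := by
      intro i c
      change (TensorProduct.AlgebraTensorModule.lTensor K K L)
        ((TensorProduct.piScalarRight k K K (Fin d)).symm (Pi.single i c)) = _
      rw [TensorProduct.piScalarRight_symm_single]
      change c ⊗ₜ (L (Pi.single i 1)) = _
      congr 1
      simp [L, Fintype.linearCombination_apply, Pi.single_apply]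
    have hΦ : ∀ c : Fin d → K, Φ c = ∑ i, c i ⊗ₜ (α ^ (i : ℕ)) := by
      intro c
      conv_lhs => rw [← Finset.univ_sum_single c]
      rw [map_sum]
      exact Finset.sum_congr rfl fun i _ => hΦsingle i (c i)
    have hxΦ : x = Φ (fun i : Fin d => hh.coeff i) := by
      rw [hΦ]
      change Polynomial.aeval β hh = _
      rw [Polynomial.aeval_eq_sum_range' (hdegf ▸ hdeg : hh.natDegree < d), Finset.sum_range]
      refine Finset.sum_congr rfl fun i _ => ?_
      change hh.coeff i • ((1 : K) ⊗ₜ[k] α) ^ (i : ℕ) = _
      rw [Algebra.TensorProduct.tmul_pow, one_pow, TensorProduct.smul_tmul', smul_eq_mul, mul_one]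
    rw [hxΦ]
    intro hzero
    have : (fun i : Fin d => hh.coeff i) = 0 := hΦinj (by rw [hzero, map_zero])
    apply hh0
    ext n
    by_cases hn : n < d
    · have := congrFun this ⟨n, hn⟩
      simpa using this
    · rw [Polynomial.coeff_eq_zero_of_natDegree_lt]
      · simp
      · have := hdegf ▸ hdeg
        omega
  refine ⟨Algebra.TensorProduct.comm k K E x, ?_, ?_⟩
  · intro h0
    exact hxne ((Algebra.TensorProduct.comm k K E).injective (by rw [h0, map_zero]))
  · exact ⟨2, by rw [← map_pow, hxnil, map_zero]⟩

end Groth.Agent.S15546
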