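import Groth.Statements.S15561
import Groth.Agent.Lib.Helper22.Kron

set_option autoImplicit false
universe u v w
open KronMod

namespace Groth.Agent.S15561

/-- Let f be a Kronecker module with n arrows over a field K, from V of dimension d₋₁ > 0 to W of
dimension n·d₋₁. Then f is semistable if and only if the sum map Vⁿ → W sending (v_j)_j to Σ_j
f_j(v_j) is bijective, i.e. every arrow f_j is injective and W is the direct sum of the images
f_j(V). (The published statement assumes K algebraically closed of characteristic zero and n ≥ 2;
this row allows any field K and any number n of arrows.) -/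
theorem result (K : Type u) [Field K] (V : Type v) (W : Type w)
    [AddCommGroup V] [Module K V] [FiniteDimensional K V]
    [AddCommGroup W] [Module K W] [FiniteDimensional K W]
    (n : ℕ) (f : Fin n → (V →ₗ[K] W))
    (hV : 0 < Module.finrank K V) (hW : Module.finrank K W = n * Module.finrank K V) :
    KronMod.IsSemistable f ↔ Function.Bijective (fun v : Fin n → V => ∑ j, f j (v j)) := by
  have hfun : (fun v : Fin n → V => ∑ j, f j (v j)) = ⇑(Groth.Agent.Helper22.Kron.sumMap f) := by
    funext v
    rw [Groth.Agent.Helper22.Kron.sumMap_apply]
  rw [hfun]
  have hdim : Module.finrank K (Fin n → V) = Module.finrank K W := by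
    rw [Groth.Agent.Helper22.Kron.finrank_pi_eq, hW]
  constructor
  · intro hss
    have htop := Groth.Agent.Helper22.Kron.range_sumMap_eq_top_of_isSemistable f hV hss
    have hsurj : Function.Surjective (Groth.Agent.Helper22.Kron.sumMap f) :=
      LinearMap.range_eq_top.mp htop
    exact ⟨(LinearMap.injective_iff_surjective_of_finrank_eq_finrank hdim).mpr hsurj, hsurj⟩
  · intro hbij
    refine ⟨by omega, ?_⟩
    intro V' W' hsub _ _
    have h1 := Groth.Agent.Helper22.Kron.mul_finrank_le_of_isSubrep f hbij.1 hsub
    rw [hW]
    calc n * Module.finrank K V * Module.finrank K V'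
        = Module.finrank K V * (n * Module.finrank K V') := by ring
      _ ≤ Module.finrank K V * Module.finrank K W' := Nat.mul_le_mul_left _ h1

end Groth.Agent.S15561
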