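import Groth.Statements.S15562
import Groth.Agent.Lib.Helper22.Kron
import Groth.Agent.S15561

set_option autoImplicit false
universe u v w
open KronMod

namespace Groth.Agent.S15562

/-- Over a field K, for V of dimension d₋₁ > 0 and W of dimension n·d₋₁, semistable Kronecker modules
with n arrows from V to W exist, and any two of them are isomorphic as Kronecker modules; in other
words the moduli space K(n; d₋₁, n·d₋₁) of semistable Kronecker modules is a single point. (The
published statement assumes K algebraically closed of characteristic zero and n ≥ 2; this row allows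
any field K and any number n of arrows.) -/
theorem result (K : Type u) [Field K] (V : Type v) (W : Type w)
    [AddCommGroup V] [Module K V] [FiniteDimensional K V]
    [AddCommGroup W] [Module K W] [FiniteDimensional K W]
    (n : ℕ) (hV : 0 < Module.finrank K V) (hW : Module.finrank K W = n * Module.finrank K V) :
    (∃ f : Fin n → (V →ₗ[K] W), KronMod.IsSemistable f) ∧
    ∀ f f' : Fin n → (V →ₗ[K] W), KronMod.IsSemistable f → KronMod.IsSemistable f' →
      KronMod.AreIso f f' := by
  have hdim : Module.finrank K (Fin n → V) = Module.finrank K W := by
    rw [Groth.Agent.Helper22.Kron.finrank_pi_eq, hW]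
  have key : ∀ f : Fin n → (V →ₗ[K] W), KronMod.IsSemistable f ↔
      Function.Bijective (Groth.Agent.Helper22.Kron.sumMap f) := by
    intro f
    rw [Groth.Agent.S15561.result K V W n f hV hW]
    have hfun : (fun v : Fin n → V => ∑ j, f j (v j)) =
        ⇑(Groth.Agent.Helper22.Kron.sumMap f) := by
      funext v
      rw [Groth.Agent.Helper22.Kron.sumMap_apply]
    rw [hfun]
  constructor
  · let e : (Fin n → V) ≃ₗ[K] W := LinearEquiv.ofFinrankEq _ _ hdim
    refine ⟨fun j => e.toLinearMap ∘ₗ LinearMap.single K (fun _ => V) j, ?_⟩
    rw [key]
    have hs : Groth.Agent.Helper22.Kron.sumMap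
        (fun j => e.toLinearMap ∘ₗ LinearMap.single K (fun _ => V) j) = e.toLinearMap := by
      apply LinearMap.ext
      intro v
      rw [Groth.Agent.Helper22.Kron.sumMap_apply]
      simp only [LinearMap.comp_apply, LinearEquiv.coe_coe, LinearMap.coe_single]
      rw [← map_sum]
      congr 1
      exact Finset.univ_sum_single v
    rw [hs]
    exact e.bijective
  · intro f f' hf hf'
    rw [key] at hf hf'
    let s := LinearEquiv.ofBijective (Groth.Agent.Helper22.Kron.sumMap f) hf
    let s' := LinearEquiv.ofBijective (Groth.Agent.Helper22.Kron.sumMap f') hf'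
    refine ⟨LinearEquiv.refl K V, s.symm.trans s', ?_⟩
    intro j
    apply LinearMap.ext
    intro v
    simp only [LinearMap.comp_apply, LinearEquiv.coe_coe, LinearEquiv.trans_apply,
      LinearEquiv.refl_apply]
    have h1 : s.symm (f j v) = Pi.single j v := by
      rw [LinearEquiv.symm_apply_eq]
      exact (Groth.Agent.Helper22.Kron.sumMap_single f j v).symm
    rw [h1]
    exact Groth.Agent.Helper22.Kron.sumMap_single f' j v

end Groth.Agent.S15562
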