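import Groth.Statements.S15563
import Groth.Agent.Lib.Helper22.Kron

set_option autoImplicit false
universe u v w
open KronMod

namespace Groth.Agent.S15563

/-- Let f be a Kronecker module with n arrows over a field K, from V of dimension d₋₁ > 0 to W of
dimension n·d₋₁. Then f is stable if and only if f is semistable and d₋₁ = 1: for d₋₁ = 1 every
semistable module is stable (so the stable locus of K(n; 1, n) is the one point), while for d₋₁ > 1
no module is stable. (The published statement assumes K algebraically closed of characteristic zero
and n ≥ 2; this row allows any field K and any number n of arrows.) -/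
theorem result (K : Type u) [Field K] (V : Type v) (W : Type w)
    [AddCommGroup V] [Module K V] [FiniteDimensional K V]
    [AddCommGroup W] [Module K W] [FiniteDimensional K W]
    (n : ℕ) (f : Fin n → (V →ₗ[K] W))
    (hV : 0 < Module.finrank K V) (hW : Module.finrank K W = n * Module.finrank K V) :
    KronMod.IsStable f ↔ (KronMod.IsSemistable f ∧ Module.finrank K V = 1) := by
  constructor
  · intro hs
    have hss : KronMod.IsSemistable f :=
      ⟨hs.1, fun V' W' hsub hb ht => (hs.2 V' W' hsub hb ht).le⟩
    refine ⟨hss, ?_⟩
    by_contra hne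
    have ha : 2 ≤ Module.finrank K V := by omega
    obtain ⟨v, hv⟩ := Module.finrank_pos_iff_exists_ne_zero.mp hV
    let V' : Submodule K V := Submodule.span K {v}
    let W' : Submodule K W := Submodule.span K (Set.range (fun j => f j v))
    have hV'1 : Module.finrank K V' = 1 := finrank_span_singleton hv
    have hW'n : Module.finrank K W' ≤ n := by
      have h1 := finrank_range_le_card (R := K) (fun j => f j v)
      simpa [Set.finrank] using h1
    have hsub : KronMod.IsSubrep f V' W' := by
      intro j
      rintro _ ⟨x, hx, rfl⟩
      obtain ⟨c, rfl⟩ := Submodule.mem_span_singleton.mp hx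
      rw [map_smul]
      exact Submodule.smul_mem _ _ (Submodule.subset_span ⟨j, rfl⟩)
    have hb : ¬ (V' = ⊥ ∧ W' = ⊥) := by
      rintro ⟨h0, -⟩
      rw [h0, finrank_bot] at hV'1
      omega
    have ht : ¬ (V' = ⊤ ∧ W' = ⊤) := by
      rintro ⟨h0, -⟩
      rw [h0, finrank_top] at hV'1
      omega
    have h1 := hs.2 V' W' hsub hb ht
    rw [hV'1, hW, mul_one] at h1
    have h2 : Module.finrank K V * Module.finrank K W' ≤ Module.finrank K V * n :=
      Nat.mul_le_mul_left _ hW'n
    rw [mul_comm n] at h1
    omega
  · rintro ⟨hss, ha⟩
    have htop := Groth.Agent.Helper22.Kron.range_sumMap_eq_top_of_isSemistable f hV hss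
    refine ⟨hss.1, ?_⟩
    intro V' W' hsub hb ht
    have hv := Submodule.finrank_le V'
    rw [ha] at hv
    rcases Nat.eq_zero_or_pos (Module.finrank K V') with hv0 | hvpos
    · have hV' : V' = ⊥ := Submodule.finrank_eq_zero.mp hv0
      have hW' : W' ≠ ⊥ := fun h0 => hb ⟨hV', h0⟩
      have hwpos : 0 < Module.finrank K W' := by
        rcases Nat.eq_zero_or_pos (Module.finrank K W') with h | h
        · exact absurd (Submodule.finrank_eq_zero.mp h) hW'
        · exact h
      rw [hv0, ha, mul_zero, one_mul]
      exact hwpos
    · exfalso
      have hV' : V' = ⊤ := Submodule.eq_top_of_finrank_eq (by omega)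
      apply ht
      refine ⟨hV', ?_⟩
      rw [eq_top_iff, ← htop]
      rintro _ ⟨x, rfl⟩
      rw [Groth.Agent.Helper22.Kron.sumMap_apply]
      exact Submodule.sum_mem _ (fun j _ => hsub j ⟨x j, by rw [hV']; trivial, rfl⟩)

end Groth.Agent.S15563
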