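import Groth.Statements.S15564
import Groth.Agent.Lib.Helper22.Kron

set_option autoImplicit false
universe u v w
open KronMod

namespace Groth.Agent.S15564

/-- For a Kronecker module f with n arrows over a field K between one-dimensional spaces V and W,
semistability, stability and f ≠ 0 are equivalent: the semistable locus and the stable locus of
dimension vector (1, 1) are both the complement of the zero module. (The published statement assumes
K algebraically closed of characteristic zero and n ≥ 2; this row allows any field K and any n.) -/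
theorem result (K : Type u) [Field K] (V : Type v) (W : Type w)
    [AddCommGroup V] [Module K V] [FiniteDimensional K V]
    [AddCommGroup W] [Module K W] [FiniteDimensional K W]
    (n : ℕ) (f : Fin n → (V →ₗ[K] W))
    (hV : Module.finrank K V = 1) (hW : Module.finrank K W = 1) :
    (KronMod.IsSemistable f ↔ f ≠ 0) ∧ (KronMod.IsStable f ↔ f ≠ 0) := by
  have hVtop : (⊤ : Submodule K V) ≠ ⊥ :=
    Groth.Agent.Helper22.Kron.top_ne_bot_of_finrank_pos (by omega)
  have hWtop : (⊤ : Submodule K W) ≠ ⊥ :=
    Groth.Agent.Helper22.Kron.top_ne_bot_of_finrank_pos (by omega)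
  have h1 : KronMod.IsSemistable f → f ≠ 0 := by
    intro hss hf0
    have hsub : KronMod.IsSubrep f ⊤ ⊥ := by
      intro j
      rw [hf0]
      simp
    have := hss.2 ⊤ ⊥ hsub (fun h0 => hVtop h0.1) (fun h0 => hWtop h0.2.symm)
    rw [finrank_top, finrank_bot, hV, hW] at this
    omega
  have h2 : f ≠ 0 → KronMod.IsStable f := by
    intro hf
    refine ⟨by omega, ?_⟩
    intro V' W' hsub hb ht
    rw [hV, hW, one_mul, one_mul]
    have hv := Submodule.finrank_le V'
    have hw := Submodule.finrank_le W'
    rw [hV] at hv
    rw [hW] at hw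
    by_contra hlt
    have hcases : (Module.finrank K V' = 0 ∧ Module.finrank K W' = 0) ∨
        (Module.finrank K V' = 1 ∧ Module.finrank K W' = 1) ∨
        (Module.finrank K V' = 1 ∧ Module.finrank K W' = 0) := by omega
    rcases hcases with ⟨hv0, hw0⟩ | ⟨hv1, hw1⟩ | ⟨hv1, hw0⟩
    · exact hb ⟨Submodule.finrank_eq_zero.mp hv0, Submodule.finrank_eq_zero.mp hw0⟩
    · exact ht ⟨Submodule.eq_top_of_finrank_eq (hv1.trans hV.symm),
        Submodule.eq_top_of_finrank_eq (hw1.trans hW.symm)⟩
    · have hV' : V' = ⊤ := Submodule.eq_top_of_finrank_eq (hv1.trans hV.symm)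
      have hW' : W' = ⊥ := Submodule.finrank_eq_zero.mp hw0
      apply hf
      funext j
      apply LinearMap.ext
      intro v
      have : f j v ∈ W' := hsub j ⟨v, by rw [hV']; trivial, rfl⟩
      rw [hW', Submodule.mem_bot] at this
      simpa using this
  have h3 : KronMod.IsStable f → KronMod.IsSemistable f := by
    intro hs
    exact ⟨hs.1, fun V' W' hsub hb ht => (hs.2 V' W' hsub hb ht).le⟩
  exact ⟨⟨h1, fun hf => h3 (h2 hf)⟩, ⟨fun hs => h1 (h3 hs), h2⟩⟩

end Groth.Agent.S15564
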