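import Groth.Statements.S15565
import Groth.Agent.Lib.Helper22.Kron
import Mathlib.LinearAlgebra.Eigenspace.Triangularizable

set_option autoImplicit false
universe u v w
open KronMod

namespace Groth.Agent.S15565

/-- Over an algebraically closed field K, a Kronecker module with two arrows between spaces V and W of
the same dimension k ≥ 2 is never stable: the stable locus of dimension vector (k, k) for the
Kronecker quiver with two arrows is empty. (The published statement also assumes characteristic
zero; this row does not.) -/
theorem result (K : Type u) [Field K] [IsAlgClosed K] (V : Type v) (W : Type w)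
    [AddCommGroup V] [Module K V] [FiniteDimensional K V]
    [AddCommGroup W] [Module K W] [FiniteDimensional K W]
    (f : Fin 2 → (V →ₗ[K] W)) (k : ℕ) (hk : 2 ≤ k)
    (hV : Module.finrank K V = k) (hW : Module.finrank K W = k) :
    ¬ KronMod.IsStable f := by
  intro hs
  have key : ∃ (v : V) (w : W), v ≠ 0 ∧ f 0 v ∈ Submodule.span K {w} ∧
      f 1 v ∈ Submodule.span K {w} := by
    by_cases hinj : Function.Injective (f 1)
    · have hdim : Module.finrank K V = Module.finrank K W := by rw [hV, hW]
      have hbij : Function.Bijective (f 1) :=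
        ⟨hinj, (LinearMap.injective_iff_surjective_of_finrank_eq_finrank hdim).mp hinj⟩
      let e := LinearEquiv.ofBijective (f 1) hbij
      let T : Module.End K V := e.symm.toLinearMap ∘ₗ f 0
      have : Nontrivial V := Module.nontrivial_of_finrank_pos (R := K) (by omega)
      obtain ⟨μ, hμ⟩ := Module.End.exists_eigenvalue T
      obtain ⟨v, hv⟩ := hμ.exists_hasEigenvector
      refine ⟨v, f 1 v, hv.2, ?_, Submodule.mem_span_singleton_self _⟩
      have h1 : T v = μ • v := hv.apply_eq_smul
      have h2 : f 0 v = μ • f 1 v := by
        have h3 : e (T v) = f 0 v := e.apply_symm_apply (f 0 v)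
        rw [← h3, h1, map_smul]
        rfl
      rw [h2]
      exact Submodule.smul_mem _ _ (Submodule.mem_span_singleton_self _)
    · have hker : LinearMap.ker (f 1) ≠ ⊥ := fun h0 => hinj (LinearMap.ker_eq_bot.mp h0)
      obtain ⟨v, hvmem, hv0⟩ := Submodule.exists_mem_ne_zero_of_ne_bot hker
      refine ⟨v, f 0 v, hv0, Submodule.mem_span_singleton_self _, ?_⟩
      rw [LinearMap.mem_ker.mp hvmem]
      exact Submodule.zero_mem _
  obtain ⟨v, w, hv, h0, h1⟩ := key
  let V' : Submodule K V := Submodule.span K {v}
  let W' : Submodule K W := Submodule.span K {w}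
  have hV'1 : Module.finrank K V' = 1 := finrank_span_singleton hv
  have hW'1 : Module.finrank K W' ≤ 1 := by
    have h2 := finrank_span_le_card (R := K) ({w} : Set W)
    simpa using h2
  have hsub : KronMod.IsSubrep f V' W' := by
    intro j
    rintro _ ⟨x, hx, rfl⟩
    obtain ⟨c, rfl⟩ := Submodule.mem_span_singleton.mp hx
    rw [map_smul]
    apply Submodule.smul_mem
    fin_cases j
    · exact h0
    · exact h1
  have hb : ¬ (V' = ⊥ ∧ W' = ⊥) := by
    rintro ⟨h2, -⟩
    rw [h2, finrank_bot] at hV'1
    omega
  have ht : ¬ (V' = ⊤ ∧ W' = ⊤) := by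
    rintro ⟨h2, -⟩
    rw [h2, finrank_top] at hV'1
    omega
  have h3 := hs.2 V' W' hsub hb ht
  rw [hV'1, hV, hW] at h3
  have h4 : k * Module.finrank K W' ≤ k * 1 := Nat.mul_le_mul_left _ hW'1
  omega

end Groth.Agent.S15565
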