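import Groth.Statements.S15566
import Groth.Agent.Lib.Helper22.Kron
import Mathlib.FieldTheory.IsAlgClosed.Basic

set_option autoImplicit false
universe u v w
open KronMod

namespace Groth.Agent.S15566


theorem lemL {K : Type*} {V : Type*} {W : Type*} [Field K] [AddCommGroup V] [Module K V]
    [FiniteDimensional K V] [AddCommGroup W] [Module K W] [FiniteDimensional K W]
    (hV : Module.finrank K V = 2) (A B : V →ₗ[K] W) (x₀ : V) (hA : A x₀ = 0) (hB : B x₀ ≠ 0)
    (t₁ t₂ : K) (h1 : t₁ ≠ 0) (h2 : t₂ ≠ 0) (h12 : t₁ ≠ t₂)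
    (hs1 : ¬ Function.Injective (A + t₁ • B)) (hs2 : ¬ Function.Injective (A + t₂ • B)) (x : V) :
    A x ∈ Submodule.span K {B x₀} ∧ B x ∈ Submodule.span K {B x₀} := by
  have aux : ∀ t : K, t ≠ 0 → ¬ Function.Injective (A + t • B) →
      ∀ y, A y + t • B y ∈ Submodule.span K {B x₀} := by
    intro t ht hs y
    have hker : LinearMap.ker (A + t • B) ≠ ⊥ := fun h0 => hs (LinearMap.ker_eq_bot.mp h0)
    have hkpos : 0 < Module.finrank K (LinearMap.ker (A + t • B)) := by
      rcases Nat.eq_zero_or_pos (Module.finrank K (LinearMap.ker (A + t • B))) with h | h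
      · exact absurd (Submodule.finrank_eq_zero.mp h) hker
      · exact h
    have hrk := LinearMap.finrank_range_add_finrank_ker (A + t • B)
    have hr1 : Module.finrank K (LinearMap.range (A + t • B)) ≤ 1 := by omega
    have hgx : (A + t • B) x₀ = t • B x₀ := by simp [hA]
    have hle : Submodule.span K {B x₀} ≤ LinearMap.range (A + t • B) := by
      rw [Submodule.span_singleton_le_iff_mem]
      refine ⟨t⁻¹ • x₀, ?_⟩
      rw [map_smul, hgx, smul_smul, inv_mul_cancel₀ ht, one_smul]
    have hfin : Module.finrank K (LinearMap.range (A + t • B)) ≤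
        Module.finrank K (Submodule.span K {B x₀}) := by
      rw [finrank_span_singleton hB]
      exact hr1
    have heq := Submodule.eq_of_le_of_finrank_le hle hfin
    have hmem : (A + t • B) y ∈ LinearMap.range (A + t • B) := ⟨y, rfl⟩
    rw [← heq] at hmem
    simpa using hmem
  have e1 := aux t₁ h1 hs1 x
  have e2 := aux t₂ h2 hs2 x
  have hB' : B x ∈ Submodule.span K {B x₀} := by
    have h3 : (t₁ - t₂) • B x ∈ Submodule.span K {B x₀} := by
      have h6 := Submodule.sub_mem _ e1 e2
      have h4 : A x + t₁ • B x - (A x + t₂ • B x) = (t₁ - t₂) • B x := by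
        rw [sub_smul]; abel
      rwa [h4] at h6
    have h5 : t₁ - t₂ ≠ 0 := sub_ne_zero.mpr h12
    have h7 := Submodule.smul_mem _ (t₁ - t₂)⁻¹ h3
    rwa [smul_smul, inv_mul_cancel₀ h5, one_smul] at h7
  refine ⟨?_, hB'⟩
  have h8 := Submodule.sub_mem _ e1 (Submodule.smul_mem _ t₁ hB')
  simpa using h8

/-- Case of dimension vector (2, 2). Over an algebraically closed field K, if a Kronecker module f with
n arrows between two-dimensional spaces V and W is semistable, then some linear combination Σ_j z_j
f_j of its arrows is a linear isomorphism V → W (equivalently, the determinant of the generic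
combination is not identically zero): the semistable locus of dimension vector (2, 2) lies in the
open set of modules whose generic combination is invertible. (The published statement, over an
algebraically closed field of characteristic zero, covers dimension vectors (1, 1) and (2, 2) for
every n ≥ 2 and (k, k) for two arrows; this row states the (2, 2) case, for any n and without the
characteristic assumption.) -/
theorem result (K : Type u) [Field K] [IsAlgClosed K] (V : Type v) (W : Type w)
    [AddCommGroup V] [Module K V] [FiniteDimensional K V]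
    [AddCommGroup W] [Module K W] [FiniteDimensional K W]
    (n : ℕ) (f : Fin n → (V →ₗ[K] W))
    (hV : Module.finrank K V = 2) (hW : Module.finrank K W = 2)
    (hf : KronMod.IsSemistable f) :
    ∃ z : Fin n → K, Function.Bijective ((∑ j, z j • f j : V →ₗ[K] W) : V → W) := by
  classical
  by_contra hno
  push Not at hno
  have hdim : Module.finrank K V = Module.finrank K W := by rw [hV, hW]
  have hsing : ∀ z : Fin n → K, ¬ Function.Injective ((∑ j, z j • f j : V →ₗ[K] W)) := by
    intro z hinj
    exact hno z ⟨hinj, (LinearMap.injective_iff_surjective_of_finrank_eq_finrank hdim).mp hinj⟩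
  have hbot := Groth.Agent.Helper22.Kron.ker_prodMap_eq_bot_of_isSemistable f (by omega) hf
  have htop := Groth.Agent.Helper22.Kron.range_sumMap_eq_top_of_isSemistable f (by omega) hf
  have hex : ∀ x : V, x ≠ 0 → ∃ j, f j x ≠ 0 := by
    intro x hx
    by_contra hall
    push Not at hall
    have hmem : x ∈ LinearMap.ker (Groth.Agent.Helper22.Kron.prodMap f) := by
      rw [LinearMap.mem_ker]
      funext j
      exact hall j
    rw [hbot, Submodule.mem_bot] at hmem
    exact hx hmem
  have hcomb1 : ∀ (j j' : Fin n) (t : K), ¬ Function.Injective (f j + t • f j') := by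
    intro j j' t
    have h1 := hsing (Pi.single j 1 + t • Pi.single j' 1)
    have e : (∑ i, (Pi.single j 1 + t • Pi.single j' 1 : Fin n → K) i • f i) =
        f j + t • f j' := by
      simp [add_smul, Finset.sum_add_distrib, Pi.single_apply, ite_smul]
    rwa [e] at h1
  have hcomb2 : ∀ (j j' j'' : Fin n) (t : K),
      ¬ Function.Injective (f j + t • (f j' + f j'')) := by
    intro j j' j'' t
    have h1 := hsing (Pi.single j 1 + t • (Pi.single j' 1 + Pi.single j'' 1))
    have e : (∑ i, (Pi.single j 1 + t • (Pi.single j' 1 + Pi.single j'' 1) : Fin n → K) i • f i) =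
        f j + t • (f j' + f j'') := by
      simp [add_smul, Finset.sum_add_distrib, Pi.single_apply, ite_smul,
        smul_add]
    rwa [e] at h1
  have : Nontrivial V := Module.nontrivial_of_finrank_pos (R := K) (by omega)
  obtain ⟨x₁, hx₁⟩ := exists_ne (0 : V)
  obtain ⟨j₁, hj₁⟩ := hex x₁ hx₁
  have hA := hcomb1 j₁ j₁ 0
  have hAker : LinearMap.ker (f j₁) ≠ ⊥ := by
    intro h0
    apply hA
    simpa using LinearMap.ker_eq_bot.mp h0
  obtain ⟨x₀, hx₀mem, hx₀⟩ := Submodule.exists_mem_ne_zero_of_ne_bot hAker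
  have hAx₀ : f j₁ x₀ = 0 := LinearMap.mem_ker.mp hx₀mem
  obtain ⟨j₂, hj₂⟩ := hex x₀ hx₀
  obtain ⟨t₂, ht₂0, ht₂1⟩ : ∃ t : K, t ≠ 0 ∧ t ≠ 1 := by
    obtain ⟨t, ht⟩ := Infinite.exists_notMem_finset ({0, 1} : Finset K)
    simp only [Finset.mem_insert, Finset.mem_singleton, not_or] at ht
    exact ⟨t, ht.1, ht.2⟩
  have hAB : ∀ x, f j₁ x ∈ Submodule.span K {f j₂ x₀} ∧ f j₂ x ∈ Submodule.span K {f j₂ x₀} :=
    fun x => lemL hV (f j₁) (f j₂) x₀ hAx₀ hj₂ 1 t₂ one_ne_zero ht₂0 (Ne.symm ht₂1)
      (hcomb1 j₁ j₂ 1) (hcomb1 j₁ j₂ t₂) x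
  have hall : ∀ j x, f j x ∈ Submodule.span K {f j₂ x₀} := by
    intro j x
    by_cases hC : f j x₀ = 0
    · have h4 : (f j₂ + f j) x₀ = f j₂ x₀ := by simp [hC]
      have h3 := lemL hV (f j₁) (f j₂ + f j) x₀ hAx₀ (by rw [h4]; exact hj₂) 1 t₂ one_ne_zero
        ht₂0 (Ne.symm ht₂1) (hcomb2 j₁ j₂ j 1) (hcomb2 j₁ j₂ j t₂) x
      rw [h4] at h3
      have h5 := Submodule.sub_mem _ h3.2 (hAB x).2
      simpa using h5
    · have h3 := lemL hV (f j₁) (f j) x₀ hAx₀ hC 1 t₂ one_ne_zero ht₂0 (Ne.symm ht₂1)
        (hcomb1 j₁ j 1) (hcomb1 j₁ j t₂)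
      obtain ⟨α, hα⟩ := Submodule.mem_span_singleton.mp (h3 x₁).1
      have hα0 : α ≠ 0 := by
        rintro rfl
        rw [zero_smul] at hα
        exact hj₁ hα.symm
      have hCx₀ : f j x₀ ∈ Submodule.span K {f j₂ x₀} := by
        have h6 : f j x₀ = α⁻¹ • f j₁ x₁ := by
          rw [← hα, smul_smul, inv_mul_cancel₀ hα0, one_smul]
        rw [h6]
        exact Submodule.smul_mem _ _ (hAB x₁).1
      have hle : Submodule.span K {f j x₀} ≤ Submodule.span K {f j₂ x₀} := by
        rw [Submodule.span_singleton_le_iff_mem]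
        exact hCx₀
      exact hle (h3 x).2
  have hrange : LinearMap.range (Groth.Agent.Helper22.Kron.sumMap f) ≤
      Submodule.span K {f j₂ x₀} := by
    rintro _ ⟨v, rfl⟩
    rw [Groth.Agent.Helper22.Kron.sumMap_apply]
    exact Submodule.sum_mem _ (fun j _ => hall j (v j))
  rw [htop] at hrange
  have h5 := Submodule.finrank_mono hrange
  rw [finrank_top, hW, finrank_span_singleton hj₂] at h5
  omega

end Groth.Agent.S15566
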