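import Groth.Statements.S15568
import Mathlib
-- import your own Groth.Agent.* helpers here

set_option autoImplicit false
universe u
open QuiverStab

namespace Groth.Agent.S15568

theorem sign_eq_of_conn {E : Type*} [TopologicalSpace E] (S : Set E) (x y : E)
    (hy : y ∈ connectedComponentIn S x) (g : E → ℝ) (hg : Continuous g)
    (hnz : ∀ z ∈ S, g z ≠ 0) : SignType.sign (g x) = SignType.sign (g y) := by
  have hxS : x ∈ S := connectedComponentIn_nonempty_iff.mp ⟨y, hy⟩
  have hxC : x ∈ connectedComponentIn S x := mem_connectedComponentIn hxS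
  have hpre : IsPreconnected (connectedComponentIn S x) := isPreconnected_connectedComponentIn
  have hnzC : ∀ z ∈ connectedComponentIn S x, g z ≠ 0 :=
    fun z hz => hnz z (connectedComponentIn_subset S x hz)
  rcases lt_or_gt_of_ne (hnzC x hxC) with h1 | h1 <;>
    rcases lt_or_gt_of_ne (hnzC y hy) with h2 | h2
  · rw [sign_neg h1, sign_neg h2]
  · exfalso
    obtain ⟨z, hz, hz0⟩ := hpre.intermediate_value hxC hy hg.continuousOn ⟨h1.le, h2.le⟩
    exact hnzC z hz hz0
  · exfalso
    obtain ⟨z, hz, hz0⟩ := hpre.intermediate_value hy hxC hg.continuousOn ⟨h2.le, h1.le⟩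
    exact hnzC z hz hz0
  · rw [sign_pos h1, sign_pos h2]


/-- Walls and chambers for stability weights of a quiver. Let I be the finite vertex set, d ∈ ℕ^I a
dimension vector, and call two weights θ₁, θ₂ ∈ ℝ^I orthogonal to d numerically equivalent when, for
every d′ ≤ d in ℕ^I, the numbers θ₁·d′ and θ₂·d′ are both positive, both negative or both zero. The
walls are the hyperplanes W(d′) = {θ ⊥ d : θ·d′ = 0} of d^⊥ for d′ ≤ d such that d is not a multiple
of d′. Then θ₁ and θ₂ are numerically equivalent if and only if there is a set J₁ of such d′ for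
which θ₁ and θ₂ lie in the same connected component of the locally closed subset of d^⊥ consisting
of the weights lying on W(d₁) for every d₁ ∈ J₁ and off W(d₂) for every other wall W(d₂). (Only the
quiver's vertex set enters; multiples are taken with natural-number factors.) -/
theorem result
    (I : Type u) [Fintype I] (d : I → ℕ) (θ₁ θ₂ : I → ℝ)
    (h₁ : ∑ i, θ₁ i * (d i : ℝ) = 0) (h₂ : ∑ i, θ₂ i * (d i : ℝ) = 0) :
    (∀ d' : I → ℕ, d' ≤ d →
        SignType.sign (∑ i, θ₁ i * (d' i : ℝ)) = SignType.sign (∑ i, θ₂ i * (d' i : ℝ))) ↔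
    ∃ J₁ : Set (I → ℕ), J₁ ⊆ {d' | d' ≤ d ∧ ¬ ∃ m : ℕ, d = m • d'} ∧
      θ₂ ∈ connectedComponentIn
        {θ : I → ℝ | ∑ i, θ i * (d i : ℝ) = 0 ∧ (∀ d₁ ∈ J₁, ∑ i, θ i * (d₁ i : ℝ) = 0) ∧
          ∀ d₂ : I → ℕ, d₂ ≤ d → (¬ ∃ m : ℕ, d = m • d₂) → d₂ ∉ J₁ →
            ∑ i, θ i * (d₂ i : ℝ) ≠ 0} θ₁ := by
  classical
  have Lcomb : ∀ (d' : I → ℕ) (a b : ℝ) (x y : I → ℝ),
      ∑ i, (a • x + b • y) i * (d' i : ℝ) =
        a * ∑ i, x i * (d' i : ℝ) + b * ∑ i, y i * (d' i : ℝ) := by
    intro d' a b x y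
    rw [Finset.mul_sum, Finset.mul_sum, ← Finset.sum_add_distrib]
    refine Finset.sum_congr rfl (fun i _ => ?_)
    simp only [Pi.add_apply, Pi.smul_apply, smul_eq_mul]; ring
  have hcont : ∀ d' : I → ℕ, Continuous (fun θ : I → ℝ => ∑ i, θ i * (d' i : ℝ)) := fun d' =>
    continuous_finsetSum _ (fun i _ => (continuous_apply i).mul continuous_const)
  constructor
  · intro hs
    refine ⟨{d' | d' ≤ d ∧ (¬ ∃ m : ℕ, d = m • d') ∧ ∑ i, θ₁ i * (d' i : ℝ) = 0},
      fun d' h => ⟨h.1, h.2.1⟩, ?_⟩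
    refine (convex_segment θ₁ θ₂).isPreconnected.subset_connectedComponentIn
      (left_mem_segment ℝ θ₁ θ₂) ?_ (right_mem_segment ℝ θ₁ θ₂)
    rintro θ ⟨a, b, ha, hb, hab, rfl⟩
    refine ⟨?_, ?_, ?_⟩
    · rw [Lcomb, h₁, h₂]; simp
    · rintro d₁ ⟨hd₁, _, h0⟩
      have h0' : ∑ i, θ₂ i * (d₁ i : ℝ) = 0 := by
        have := hs d₁ hd₁
        rw [h0, sign_zero] at this
        exact sign_eq_zero_iff.mp this.symm
      rw [Lcomb, h0, h0']; simp
    · intro d₂ hd₂ hnm hnJ
      have hne : ∑ i, θ₁ i * (d₂ i : ℝ) ≠ 0 := fun h0 => hnJ ⟨hd₂, hnm, h0⟩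
      have hsd := hs d₂ hd₂
      rw [Lcomb]
      rcases lt_or_gt_of_ne hne with hx | hx
      · have hy : ∑ i, θ₂ i * (d₂ i : ℝ) < 0 := by
          rw [sign_neg hx] at hsd
          exact sign_eq_neg_one_iff.mp hsd.symm
        have : a * ∑ i, θ₁ i * (d₂ i : ℝ) + b * ∑ i, θ₂ i * (d₂ i : ℝ) < 0 := by
          rcases ha.eq_or_lt with h | h
          · have hb1 : b = 1 := by linarith
            rw [← h, hb1]; simpa using hy
          · have := mul_neg_of_pos_of_neg h hx
            have := mul_nonpos_of_nonneg_of_nonpos hb hy.le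
            linarith
        exact this.ne
      · have hy : 0 < ∑ i, θ₂ i * (d₂ i : ℝ) := by
          rw [sign_pos hx] at hsd
          exact sign_eq_one_iff.mp hsd.symm
        have : 0 < a * ∑ i, θ₁ i * (d₂ i : ℝ) + b * ∑ i, θ₂ i * (d₂ i : ℝ) := by
          rcases ha.eq_or_lt with h | h
          · have hb1 : b = 1 := by linarith
            rw [← h, hb1]; simpa using hy
          · have := mul_pos h hx
            have := mul_nonneg hb hy.le
            linarith
        exact this.ne'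
  · rintro ⟨J₁, hJ₁, hmem⟩ d' hd'
    have hθ₁S := connectedComponentIn_nonempty_iff.mp ⟨θ₂, hmem⟩
    have hθ₂S := connectedComponentIn_subset _ _ hmem
    by_cases hm : ∃ m : ℕ, d = m • d'
    · obtain ⟨m, hm⟩ := hm
      have hz : ∀ θ : I → ℝ, ∑ i, θ i * (d i : ℝ) = 0 → ∑ i, θ i * (d' i : ℝ) = 0 := by
        intro θ hθ
        rcases Nat.eq_zero_or_pos m with h0 | hpos
        · have hd0 : ∀ i, d' i = 0 := by
            intro i
            have h1 : d' i ≤ d i := hd' i
            have h2 : d i = 0 := by rw [hm, h0]; simp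
            exact Nat.le_zero.mp (h2 ▸ h1)
          simp [hd0]
        · have : ∑ i, θ i * (d i : ℝ) = (m : ℝ) * ∑ i, θ i * (d' i : ℝ) := by
            rw [Finset.mul_sum]
            refine Finset.sum_congr rfl (fun i _ => ?_)
            rw [hm]; simp only [Pi.smul_apply, smul_eq_mul, Nat.cast_mul]; ring
          rw [this] at hθ
          rcases mul_eq_zero.mp hθ with h | h
          · exact absurd (by exact_mod_cast h) hpos.ne'
          · exact h
      rw [hz θ₁ h₁, hz θ₂ h₂]
    · by_cases hJ : d' ∈ J₁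
      · rw [hθ₁S.2.1 d' hJ, hθ₂S.2.1 d' hJ]
      · exact sign_eq_of_conn _ θ₁ θ₂ hmem (fun θ => ∑ i, θ i * (d' i : ℝ)) (hcont d')
          (fun z hz => hz.2.2 d' hd' hm hJ)

end Groth.Agent.S15568
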