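import Groth.Statements.S15570
import Groth.Agent.Lib.Helper22.Kron

set_option autoImplicit false
universe u v w
open KronMod

namespace Groth.Agent.S15570

/-- Let f be a Kronecker module with n arrows over a field K, from V of dimension n·d₀ to W of dimension
d₀ > 0. Then f is stable if and only if f is semistable and d₀ = 1: for d₀ = 1 every semistable
module is stable (the stable locus of K(n; n, 1) is the one point), while for d₀ > 1 no module is
stable. This is the case dual to dimension vector (d₋₁, n·d₋₁). (The published statement assumes K
algebraically closed of characteristic zero and n ≥ 2; this row allows any field K and any number n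
of arrows.) -/
theorem result (K : Type u) [Field K] (V : Type v) (W : Type w)
    [AddCommGroup V] [Module K V] [FiniteDimensional K V]
    [AddCommGroup W] [Module K W] [FiniteDimensional K W]
    (n : ℕ) (f : Fin n → (V →ₗ[K] W))
    (hW : 0 < Module.finrank K W) (hV : Module.finrank K V = n * Module.finrank K W) :
    KronMod.IsStable f ↔ (KronMod.IsSemistable f ∧ Module.finrank K W = 1) := by
  constructor
  · intro hs
    have hss : KronMod.IsSemistable f :=
      ⟨hs.1, fun V' W' hsub hb ht => (hs.2 V' W' hsub hb ht).le⟩
    refine ⟨hss, ?_⟩
    by_contra hne
    have hc : 2 ≤ Module.finrank K W := by omega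
    obtain ⟨w, hw⟩ := Module.finrank_pos_iff_exists_ne_zero.mp hW
    obtain ⟨φ, hφ⟩ : ∃ φ : Module.Dual K W, φ w ≠ 0 := by
      by_contra hno
      push Not at hno
      exact hw ((Module.forall_dual_apply_eq_zero_iff K w).mp hno)
    let H : Submodule K W := LinearMap.ker φ
    let ρ : V →ₗ[K] (Fin n → K) := LinearMap.pi (fun j => φ ∘ₗ f j)
    let V' : Submodule K V := LinearMap.ker ρ
    have hH1 : Module.finrank K W ≤ Module.finrank K H + 1 := by
      have h1 : Module.finrank K (LinearMap.range φ) + Module.finrank K H = Module.finrank K W :=
        LinearMap.finrank_range_add_finrank_ker φ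
      have h2 := Submodule.finrank_le (LinearMap.range φ)
      rw [Module.finrank_self] at h2
      omega
    have hHne : H ≠ ⊤ := by
      intro h0
      have h1 : w ∈ H := by rw [h0]; trivial
      exact hφ h1
    have hH2 : Module.finrank K H < Module.finrank K W := Submodule.finrank_lt hHne
    have hV'1 : Module.finrank K V ≤ Module.finrank K V' + n := by
      have h1 : Module.finrank K (LinearMap.range ρ) + Module.finrank K V' = Module.finrank K V :=
        LinearMap.finrank_range_add_finrank_ker ρ
      have h2 := Submodule.finrank_le (LinearMap.range ρ)
      rw [Module.finrank_fin_fun] at h2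
      omega
    have hsub : KronMod.IsSubrep f V' H := by
      intro j
      rintro _ ⟨x, hx, rfl⟩
      have h1 : ρ x = 0 := hx
      have h2 : φ (f j x) = 0 := congrFun h1 j
      exact h2
    have hb : ¬ (V' = ⊥ ∧ H = ⊥) := by
      rintro ⟨-, h0⟩
      rw [h0, finrank_bot] at hH1
      omega
    have ht : ¬ (V' = ⊤ ∧ H = ⊤) := fun h0 => hHne h0.2
    have hlt := hs.2 V' H hsub hb ht
    have e1 : Module.finrank K V * Module.finrank K H + Module.finrank K V ≤
        Module.finrank K V * Module.finrank K W := by
      calc Module.finrank K V * Module.finrank K H + Module.finrank K V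
          = Module.finrank K V * (Module.finrank K H + 1) := by ring
        _ ≤ Module.finrank K V * Module.finrank K W := Nat.mul_le_mul_left _ hH2
    have e2 : Module.finrank K W * Module.finrank K V ≤
        Module.finrank K W * Module.finrank K V' + Module.finrank K W * n := by
      calc Module.finrank K W * Module.finrank K V
          ≤ Module.finrank K W * (Module.finrank K V' + n) := Nat.mul_le_mul_left _ hV'1
        _ = Module.finrank K W * Module.finrank K V' + Module.finrank K W * n := by ring
    have e3 : Module.finrank K W * n = Module.finrank K V := by rw [hV]; ring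
    have e4 : Module.finrank K V * Module.finrank K W =
        Module.finrank K W * Module.finrank K V := mul_comm _ _
    omega
  · rintro ⟨hss, hc⟩
    have hbot := Groth.Agent.Helper22.Kron.ker_prodMap_eq_bot_of_isSemistable f hW hss
    refine ⟨hss.1, ?_⟩
    intro V' W' hsub hb ht
    have hw := Submodule.finrank_le W'
    rw [hc] at hw
    rcases Nat.eq_zero_or_pos (Module.finrank K W') with hw0 | hwpos
    · exfalso
      have hW' : W' = ⊥ := Submodule.finrank_eq_zero.mp hw0
      apply hb
      refine ⟨?_, hW'⟩
      rw [eq_bot_iff, ← hbot]
      intro x hx
      show Groth.Agent.Helper22.Kron.prodMap f x = 0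
      funext j
      have h1 : f j x ∈ W' := hsub j ⟨x, hx, rfl⟩
      rw [hW', Submodule.mem_bot] at h1
      exact h1
    · have hW' : W' = ⊤ := Submodule.eq_top_of_finrank_eq (by omega)
      have hV' : V' ≠ ⊤ := fun h0 => ht ⟨h0, hW'⟩
      have h1 := Submodule.finrank_lt hV'
      have hw1 : Module.finrank K W' = 1 := by omega
      rw [hc, hw1, one_mul, mul_one]
      exact h1

end Groth.Agent.S15570
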