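import Groth.Statements.S15586
import Mathlib.Tactic

set_option autoImplicit false
universe u v w
open scoped TensorProduct
open RInv

namespace Groth.Agent.S15586

/-- Let `R` be a commutative ring with an involution `lam` and fixed ring `S`, and let `S'` be a
commutative `S`-algebra. If `S'` is flat over `S`, or if `2` is invertible in `S`, then `S'` is the
fixed ring of the base-changed involution `id ⊗ lam` of `S' ⊗_S R`: the structure map `S' → S' ⊗_S
R` is injective with image the fixed elements. (In general the fixed ring does not commute with base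
change.) -/
theorem result (S : Type u) (R : Type v) (S' : Type w)
    [CommRing S] [CommRing R] [Algebra S R] [CommRing S'] [Algebra S S']
    (lam : R ≃ₐ[S] R) (hlam : Function.Involutive lam)
    (hS : RInv.IsFixedRing S R lam.toRingEquiv)
    (h : Module.Flat S S' ∨ IsUnit (2 : S)) :
    RInv.IsFixedRing S' (S' ⊗[S] R)
      (Algebra.TensorProduct.congr (AlgEquiv.refl : S' ≃ₐ[S] S') lam).toRingEquiv := by
  classical
  let ι : S →ₗ[S] R := Algebra.linearMap S R
  let δ : R →ₗ[S] R := lam.toLinearMap - LinearMap.id
  have hιinj : Function.Injective ι := hS.1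
  have hexact : Function.Exact ι δ := by
    intro r
    constructor
    · intro hr
      have h1 : lam r = r := by
        have : lam r - r = 0 := hr
        exact sub_eq_zero.mp this
      exact (hS.2 r).mp h1
    · rintro ⟨s, rfl⟩
      have h1 : lam (algebraMap S R s) = algebraMap S R s := (hS.2 _).mpr ⟨s, rfl⟩
      show lam (algebraMap S R s) - algebraMap S R s = 0
      rw [h1, sub_self]
  -- (A) and (B)
  have hAB : Function.Injective (ι.lTensor S') ∧
      ∀ x, (δ.lTensor S') x = 0 → x ∈ LinearMap.range (ι.lTensor S') := by
    rcases h with hflat | h2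
    · refine ⟨Module.Flat.lTensor_preserves_injective_linearMap ι hιinj, ?_⟩
      intro x hx
      exact (Module.Flat.lTensor_exact S' hexact x).mp hx
    · obtain ⟨u, hu⟩ := h2.exists_left_inv
      -- the averaging projection
      let π : R →ₗ[S] R := u • (LinearMap.id + lam.toLinearMap)
      have hπrange : ∀ r, π r ∈ LinearMap.range ι := by
        intro r
        have hfix : lam (π r) = π r := by
          show lam (u • (r + lam r)) = u • (r + lam r)
          rw [Algebra.smul_def, map_mul, map_add, hlam r]
          have h1 : lam (algebraMap S R u) = algebraMap S R u := (hS.2 _).mpr ⟨u, rfl⟩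
          rw [h1, add_comm]
        exact (hS.2 _).mp hfix
      let e := LinearEquiv.ofInjective ι hιinj
      let τ : R →ₗ[S] S := e.symm.toLinearMap ∘ₗ (π.codRestrict (LinearMap.range ι) hπrange)
      have hιτ : ι ∘ₗ τ = π := by
        ext r
        show ι (e.symm ⟨π r, hπrange r⟩) = π r
        have := e.apply_symm_apply ⟨π r, hπrange r⟩
        exact congrArg Subtype.val this
      have hτι : τ ∘ₗ ι = LinearMap.id := by
        ext
        apply hιinj
        have h1 := LinearMap.congr_fun hιτ (ι 1)
        simp only [LinearMap.comp_apply] at h1 ⊢
        rw [h1]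
        show u • (ι 1 + lam (ι 1)) = ι 1
        have h2' : lam (ι 1) = ι 1 := (hS.2 _).mpr ⟨1, rfl⟩
        rw [h2', ← two_smul S (ι 1), smul_smul, hu, one_smul]
      refine ⟨?_, ?_⟩
      · apply Function.LeftInverse.injective (g := τ.lTensor S')
        intro x
        rw [← LinearMap.comp_apply, ← LinearMap.lTensor_comp, hτι, LinearMap.lTensor_id,
          LinearMap.id_apply]
      · intro x hx
        have hfix : (lam.toLinearMap.lTensor S') x = x := by
          have : (lam.toLinearMap.lTensor S') x - x = 0 := by
            have h1 : (δ.lTensor S') x = (lam.toLinearMap.lTensor S') x - x := by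
              simp only [δ, LinearMap.lTensor_sub, LinearMap.lTensor_id, LinearMap.sub_apply,
                LinearMap.id_apply]
            rw [← h1]; exact hx
          exact sub_eq_zero.mp this
        have hπx : (π.lTensor S') x = x := by
          simp only [π, LinearMap.lTensor_smul, LinearMap.lTensor_add, LinearMap.lTensor_id,
            LinearMap.smul_apply, LinearMap.add_apply, LinearMap.id_apply, hfix]
          rw [← two_smul S x, smul_smul, hu, one_smul]
        refine ⟨(τ.lTensor S') x, ?_⟩
        rw [← LinearMap.comp_apply, ← LinearMap.lTensor_comp, hιτ, hπx]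
  obtain ⟨hA, hB⟩ := hAB
  have hcongr : ∀ x, (Algebra.TensorProduct.congr (AlgEquiv.refl : S' ≃ₐ[S] S') lam) x =
      (lam.toLinearMap.lTensor S') x := by
    intro x
    induction x using TensorProduct.induction_on with
    | zero => simp
    | tmul a b => simp
    | add a b ha hb => rw [map_add, map_add, ha, hb]
  have halg : ∀ s' : S', algebraMap S' (S' ⊗[S] R) s' = (ι.lTensor S') (s' ⊗ₜ[S] (1 : S)) := by
    intro s'
    simp [ι, Algebra.TensorProduct.algebraMap_apply]
  refine ⟨?_, ?_⟩
  · intro a b hab
    rw [halg, halg] at hab
    have := hA hab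
    have h1 := congrArg (TensorProduct.rid S S') this
    simpa using h1
  · intro x
    constructor
    · intro hx
      have hx' : (δ.lTensor S') x = 0 := by
        have h1 : (δ.lTensor S') x = (lam.toLinearMap.lTensor S') x - x := by
          simp only [δ, LinearMap.lTensor_sub, LinearMap.lTensor_id, LinearMap.sub_apply,
            LinearMap.id_apply]
        rw [h1, ← hcongr]
        exact sub_eq_zero.mpr hx
      obtain ⟨y, rfl⟩ := hB x hx'
      refine ⟨TensorProduct.rid S S' y, ?_⟩
      rw [halg]
      congr 1
      exact ((TensorProduct.rid S S').symm_apply_apply y)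
    · rintro ⟨s', rfl⟩
      show (Algebra.TensorProduct.congr (AlgEquiv.refl : S' ≃ₐ[S] S') lam) _ = _
      rw [Algebra.TensorProduct.algebraMap_apply]
      simp

end Groth.Agent.S15586
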