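import Groth.Statements.S15575
import Groth.Agent.S15586
import Groth.Agent.Lib.Helper22.RInvLib
import Mathlib.RingTheory.Localization.BaseChange
import Mathlib.Tactic

set_option autoImplicit false
universe u v
open scoped TensorProduct
open RInv

namespace Groth.Agent.S15575

/-- Let `R` be a commutative ring with an involution `lam` and fixed ring `S` (no finiteness assumed).
If the localisation of `R` at a prime `p` of `S` is quadratic etale over `S_p`, then there is `s ∉
p` with `R[1/s]` quadratic etale over `S[1/s]`; in particular the set of such primes is open in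
`Spec S`. Localisations of `R` are written as base changes `S_p ⊗ R` and `S_s ⊗ R`. -/
theorem result (S : Type u) (R : Type v) [CommRing S] [CommRing R]
    [Algebra S R] (lam : R ≃+* R) (hlam : Function.Involutive lam) (hS : RInv.IsFixedRing S R lam)
    (p : PrimeSpectrum S)
    (hp : RInv.IsQuadEtale (Localization.AtPrime p.asIdeal) (Localization.AtPrime p.asIdeal ⊗[S] R)) :
    ∃ s : S, s ∉ p.asIdeal ∧
      RInv.IsQuadEtale (Localization.Away s) (Localization.Away s ⊗[S] R) := by
  classical
  have hfix : ∀ s : S, lam (algebraMap S R s) = algebraMap S R s := fun s => (hS.2 _).mpr ⟨s, rfl⟩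
  let lamA : R ≃ₐ[S] R := AlgEquiv.ofRingEquiv (f := lam) hfix
  have hlamA : Function.Involutive lamA := hlam
  have hSA : RInv.IsFixedRing S R lamA.toRingEquiv := hS
  -- involutivity of base changes
  have hinv : ∀ (T : Type u) [CommRing T] [Algebra S T],
      Function.Involutive (Algebra.TensorProduct.congr (AlgEquiv.refl : T ≃ₐ[S] T) lamA).toRingEquiv := by
    intro T _ _ x
    induction x using TensorProduct.induction_on with
    | zero => simp
    | tmul a b =>
      show (Algebra.TensorProduct.congr (AlgEquiv.refl : T ≃ₐ[S] T) lamA)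
        ((Algebra.TensorProduct.congr (AlgEquiv.refl : T ≃ₐ[S] T) lamA) (a ⊗ₜ[S] b)) = a ⊗ₜ[S] b
      simp only [Algebra.TensorProduct.congr_apply, Algebra.TensorProduct.map_tmul]
      exact congrArg₂ (· ⊗ₜ[S] ·) rfl (hlamA b)
    | add a b ha hb => rw [map_add, map_add, ha, hb]
  have hSp := Groth.Agent.S15586.result S R (Localization.AtPrime p.asIdeal) lamA hlamA hSA
    (Or.inl inferInstance)
  obtain ⟨ρ, hρ⟩ := Groth.Agent.Helper22.RInvLib.exists_isUnit_sub_of_isQuadEtale
    (hinv (Localization.AtPrime p.asIdeal)) hSp hp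
  obtain ⟨w, hw⟩ := hρ.exists_right_inv
  have hloc : IsLocalizedModule p.asIdeal.primeCompl
      (TensorProduct.mk S (Localization.AtPrime p.asIdeal) R 1) :=
    (isLocalizedModule_iff_isBaseChange p.asIdeal.primeCompl (Localization.AtPrime p.asIdeal) _).mpr
      (TensorProduct.isBaseChange S R (Localization.AtPrime p.asIdeal))
  obtain ⟨⟨r, t⟩, hr⟩ := IsLocalizedModule.surj p.asIdeal.primeCompl
    (TensorProduct.mk S (Localization.AtPrime p.asIdeal) R 1) ρ
  obtain ⟨⟨r', t'⟩, hr'⟩ := IsLocalizedModule.surj p.asIdeal.primeCompl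
    (TensorProduct.mk S (Localization.AtPrime p.asIdeal) R 1) w
  simp only [TensorProduct.mk_apply, Submonoid.smul_def] at hr hr'
  set lamp := (Algebra.TensorProduct.congr
    (AlgEquiv.refl : Localization.AtPrime p.asIdeal ≃ₐ[S] Localization.AtPrime p.asIdeal) lamA) with hlamp
  have hw' : (ρ - lamp ρ) * w = 1 := hw
  have hlamp_r : lamp ((1 : Localization.AtPrime p.asIdeal) ⊗ₜ[S] r) =
      (1 : Localization.AtPrime p.asIdeal) ⊗ₜ[S] lam r := by
    simp [hlamp, lamA]
  have key : (TensorProduct.mk S (Localization.AtPrime p.asIdeal) R 1) ((r - lam r) * r') =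
      (TensorProduct.mk S (Localization.AtPrime p.asIdeal) R 1) (algebraMap S R ((t : S) * (t' : S))) := by
    simp only [TensorProduct.mk_apply]
    have h1 : ((1 : Localization.AtPrime p.asIdeal) ⊗ₜ[S] r -
        (1 : Localization.AtPrime p.asIdeal) ⊗ₜ[S] lam r) *
        ((1 : Localization.AtPrime p.asIdeal) ⊗ₜ[S] r') =
        ((t : S) * (t' : S)) • (1 : Localization.AtPrime p.asIdeal ⊗[S] R) := by
      rw [← hlamp_r, ← hr, ← hr', map_smul, ← smul_sub, smul_mul_smul_comm, hw']
    rw [← TensorProduct.tmul_sub, Algebra.TensorProduct.tmul_mul_tmul, one_mul] at h1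
    rw [h1, Algebra.TensorProduct.one_def, TensorProduct.smul_tmul', TensorProduct.smul_tmul,
      Algebra.algebraMap_eq_smul_one]
  obtain ⟨t'', ht''⟩ := IsLocalizedModule.exists_of_eq (S := p.asIdeal.primeCompl) key
  rw [Submonoid.smul_def, Submonoid.smul_def] at ht''
  refine ⟨(t : S) * (t' : S) * (t'' : S), ?_, ?_⟩
  · exact (p.asIdeal.primeCompl.mul_mem (p.asIdeal.primeCompl.mul_mem t.2 t'.2) t''.2)
  set s : S := (t : S) * (t' : S) * (t'' : S) with hs
  have hSs := Groth.Agent.S15586.result S R (Localization.Away s) lamA hlamA hSA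
    (Or.inl inferInstance)
  obtain ⟨σ, hσ⟩ := (IsLocalization.map_units (Localization.Away s)
    (⟨s, Submonoid.mem_powers s⟩ : Submonoid.powers s)).exists_right_inv
  apply Groth.Agent.Helper22.RInvLib.isQuadEtale_of_unit (hinv (Localization.Away s)) hSs
    ((1 : Localization.Away s) ⊗ₜ[S] r) (σ ⊗ₜ[S] ((t'' : S) • r'))
  show ((1 : Localization.Away s) ⊗ₜ[S] r - (Algebra.TensorProduct.congr
    (AlgEquiv.refl : Localization.Away s ≃ₐ[S] Localization.Away s) lamA)
    ((1 : Localization.Away s) ⊗ₜ[S] r)) * (σ ⊗ₜ[S] ((t'' : S) • r')) = 1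
  have h2 : (Algebra.TensorProduct.congr
    (AlgEquiv.refl : Localization.Away s ≃ₐ[S] Localization.Away s) lamA)
    ((1 : Localization.Away s) ⊗ₜ[S] r) = (1 : Localization.Away s) ⊗ₜ[S] lam r := by
    simp [lamA]
  rw [h2, ← TensorProduct.tmul_sub, Algebra.TensorProduct.tmul_mul_tmul, one_mul,
    mul_smul_comm, ht'', Algebra.smul_def, ← map_mul]
  have h3 : (t'' : S) * ((t : S) * (t' : S)) = s := by rw [hs]; ring
  rw [h3, Algebra.algebraMap_eq_smul_one, ← TensorProduct.smul_tmul, Algebra.TensorProduct.one_def,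
    Algebra.smul_def, mul_comm (algebraMap S (Localization.Away s) s) σ]
  congr 1
  rw [mul_comm]; exact hσ

end Groth.Agent.S15575
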