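import Groth.Statements.S15582
import Groth.Agent.H10.PushEpi
import Mathlib

set_option autoImplicit false
universe u
open CategoryTheory TopologicalSpace
open CohTop

namespace Groth.Agent.S15582

/-- Let `π : X → Y` be a continuous map such that every open set containing a fibre `π⁻¹(y)` contains
the preimage of an open neighbourhood of `y`, and such that every fibre is finite with its points
separated by pairwise disjoint open sets of `X`. Then the direct image of sheaves of sets along `π`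
preserves epimorphisms. -/
theorem result
    {X Y : TopCat.{u}} (π : X ⟶ Y)
    (h1 : ∀ (y : Y) (U : Set X), IsOpen U → π ⁻¹' {y} ⊆ U →
      ∃ V : Set Y, IsOpen V ∧ y ∈ V ∧ π ⁻¹' V ⊆ U)
    (h2 : ∀ y : Y, (π ⁻¹' {y}).Finite ∧ ∃ U : X → Set X,
      (∀ x ∈ π ⁻¹' {y}, IsOpen (U x) ∧ x ∈ U x) ∧ (π ⁻¹' {y}).PairwiseDisjoint U) :
    (TopCat.Sheaf.pushforward (Type u) π).PreservesEpimorphisms := by
  classical
  constructor
  intro F G φ hφ
  have hls0 : CategoryTheory.Sheaf.IsLocallySurjective φ :=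
    (CategoryTheory.Sheaf.isLocallySurjective_iff_epi φ).mpr hφ
  have hls := (TopCat.Presheaf.isLocallySurjective_iff φ.hom).mp hls0
  refine (CategoryTheory.Sheaf.isLocallySurjective_iff_epi _).mp ?_
  refine (TopCat.Presheaf.isLocallySurjective_iff _).mpr ?_
  intro V s y hy
  obtain ⟨hfin, U, hU, hdisj⟩ := h2 y
  let ι : Type u := {x : X // x ∈ π ⁻¹' {y}}
  have hmem : ∀ i : ι, (i.1 : X) ∈ (Opens.map π).obj V := by
    intro i
    have h0 : π i.1 = y := i.2
    show π i.1 ∈ V
    rw [h0]; exact hy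
  have hloc := fun i : ι => hls ((Opens.map π).obj V) s i.1 (hmem i)
  choose W hWV hex hxW using hloc
  choose t ht using hex
  let Uo : ι → Opens X := fun i => ⟨U i.1, (hU i.1 i.2).1⟩
  let W' : ι → Opens X := fun i => W i ⊓ Uo i
  have hW'W : ∀ i, W' i ≤ W i := fun i => inf_le_left
  let t' : ∀ i, F.1.obj (Opposite.op (W' i)) := fun i => F.1.map (homOfLE (hW'W i)).op (t i)
  have hdis : ∀ i j : ι, i ≠ j → W' i ⊓ W' j = ⊥ := by
    intro i j hij
    have hd : Disjoint (U i.1) (U j.1) := hdisj i.2 j.2 (fun h => hij (Subtype.ext h))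
    refine eq_bot_iff.mpr ?_
    intro x hx
    have hx1 := (Groth.Agent.H10.PushEpi.mem_inf_iff.mp hx).1
    have hx2 := (Groth.Agent.H10.PushEpi.mem_inf_iff.mp hx).2
    have hxi : x ∈ U i.1 := (Groth.Agent.H10.PushEpi.mem_inf_iff.mp hx1).2
    have hxj : x ∈ U j.1 := (Groth.Agent.H10.PushEpi.mem_inf_iff.mp hx2).2
    exact (Set.disjoint_left.mp hd hxi hxj).elim
  have hcompat : TopCat.Presheaf.IsCompatible F.1 W' t' := by
    intro i j
    by_cases hij : i = j
    · subst hij
      exact Groth.Agent.H10.PushEpi.map_congr_hom F.1 _ _ _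
    · exact Groth.Agent.H10.PushEpi.eq_of_bot F (hdis i j hij) _ _
  obtain ⟨gl, hgl, -⟩ := F.existsUnique_gluing W' t' hcompat
  have hfib : π ⁻¹' {y} ⊆ ((iSup W' : Opens X) : Set X) := by
    intro x hx
    have hx' : x ∈ W' ⟨x, hx⟩ :=
      Groth.Agent.H10.PushEpi.mem_inf_iff.mpr ⟨hxW ⟨x, hx⟩, (hU x hx).2⟩
    exact Opens.mem_iSup.mpr ⟨⟨x, hx⟩, hx'⟩
  obtain ⟨V', hV'o, hyV', hV'sub⟩ := h1 y ((iSup W' : Opens X) : Set X) (iSup W').isOpen hfib
  let V'' : Opens Y := ⟨V', hV'o⟩ ⊓ V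
  have hV''V : V'' ≤ V := inf_le_right
  have hle : (Opens.map π).obj V'' ≤ iSup W' := by
    intro x hx
    have hx2 : π x ∈ V'' := hx
    exact hV'sub (Groth.Agent.H10.PushEpi.mem_inf_iff.mp hx2).1
  have hsupV : iSup W' ≤ (Opens.map π).obj V := iSup_le fun i => (hW'W i).trans (hWV i)
  have key : φ.hom.app (Opposite.op (iSup W')) gl = G.1.map (homOfLE hsupV).op s := by
    refine G.eq_of_locally_eq W' _ _ (fun i => ?_)
    have n1 := NatTrans.naturality_apply φ.hom (Opens.leSupr W' i).op gl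
    have n2 := NatTrans.naturality_apply φ.hom (homOfLE (hW'W i)).op (t i)
    have e1 : G.1.map (Opens.leSupr W' i).op (φ.hom.app (Opposite.op (iSup W')) gl)
        = φ.hom.app (Opposite.op (W' i)) (t' i) := by
      rw [← hgl i]; exact n1.symm
    have e2 : φ.hom.app (Opposite.op (W' i)) (t' i)
        = G.1.map (homOfLE (hW'W i)).op (G.1.map (homOfLE (hWV i)).op s) := by
      refine n2.trans ?_
      exact congrArg _ (ht i)
    exact (e1.trans e2).trans
      ((Groth.Agent.H10.PushEpi.map_map_eq G.1 _ _ (homOfLE ((hW'W i).trans (hWV i))) s).trans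
        (Groth.Agent.H10.PushEpi.map_map_eq G.1 _ _ _ s).symm)
  refine ⟨V'', hV''V, ⟨F.1.map (homOfLE hle).op gl, ?_⟩,
    Groth.Agent.H10.PushEpi.mem_inf_iff.mpr ⟨hyV', hy⟩⟩
  have n3 := NatTrans.naturality_apply φ.hom (homOfLE hle).op gl
  refine n3.trans ?_
  rw [key]
  exact Groth.Agent.H10.PushEpi.map_map_eq G.1 (homOfLE hle) (homOfLE hsupV)
    ((Opens.map π).map (homOfLE hV''V)) s

end Groth.Agent.S15582
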