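import Groth.Statements.S15585
import Mathlib

set_option autoImplicit false
universe u v
open RInv

namespace Groth.Agent.S15585

set_option linter.style.haveILetI false
set_option linter.unusedVariables false

/-- For a local ring `S` (maximal ideal `m`, residue field `k`) and a quadratic etale `S`-algebra `R`,
the ring `R/mR` is a field that is a separable extension of `k` of degree 2, or else it is
isomorphic as a `k`-algebra to `k × k`. -/
theorem result (S : Type u) (R : Type v) [CommRing S]
    [CommRing R] [Algebra S R] [IsLocalRing S] (hq : RInv.IsQuadEtale S R) :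
    (IsField (R ⧸ (IsLocalRing.maximalIdeal S).map (algebraMap S R)) ∧
      Module.finrank (S ⧸ IsLocalRing.maximalIdeal S)
        (R ⧸ (IsLocalRing.maximalIdeal S).map (algebraMap S R)) = 2 ∧
      Algebra.IsSeparable (S ⧸ IsLocalRing.maximalIdeal S)
        (R ⧸ (IsLocalRing.maximalIdeal S).map (algebraMap S R))) ∨
    Nonempty ((R ⧸ (IsLocalRing.maximalIdeal S).map (algebraMap S R)) ≃ₐ[S ⧸ IsLocalRing.maximalIdeal S]
      ((S ⧸ IsLocalRing.maximalIdeal S) × (S ⧸ IsLocalRing.maximalIdeal S))) := by
  classical
  obtain ⟨hfin, hproj, hunr, hrk⟩ := hq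
  haveI := hfin
  haveI := hproj
  haveI := hunr
  haveI : Module.Free S R := Module.free_of_flat_of_isLocalRing
  letI : Field (S ⧸ IsLocalRing.maximalIdeal S) := Ideal.Quotient.field _
  have hrank : Module.finrank S R = 2 := by
    have h1 := hrk (IsLocalRing.closedPoint S)
    rw [Module.rankAtStalk_eq_finrank_of_free] at h1
    simpa using h1
  have hdim : Module.finrank (S ⧸ IsLocalRing.maximalIdeal S)
      (R ⧸ (IsLocalRing.maximalIdeal S).map (algebraMap S R)) = 2 := by
    rw [IsLocalRing.finrank_quotient_map, hrank]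
  haveI hfinS : Module.Finite S (R ⧸ (IsLocalRing.maximalIdeal S).map (algebraMap S R)) :=
    Module.Finite.of_surjective
      (Ideal.Quotient.mkₐ S ((IsLocalRing.maximalIdeal S).map (algebraMap S R))).toLinearMap
      (Ideal.Quotient.mkₐ_surjective S _)
  haveI hfink : Module.Finite (S ⧸ IsLocalRing.maximalIdeal S)
      (R ⧸ (IsLocalRing.maximalIdeal S).map (algebraMap S R)) :=
    Module.Finite.of_restrictScalars_finite S _ _
  haveI hunrS : Algebra.FormallyUnramified S
      (R ⧸ (IsLocalRing.maximalIdeal S).map (algebraMap S R)) :=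
    Algebra.FormallyUnramified.of_surjective
      (Ideal.Quotient.mkₐ S ((IsLocalRing.maximalIdeal S).map (algebraMap S R)))
      (Ideal.Quotient.mkₐ_surjective S _)
  haveI hunrk : Algebra.FormallyUnramified (S ⧸ IsLocalRing.maximalIdeal S)
      (R ⧸ (IsLocalRing.maximalIdeal S).map (algebraMap S R)) :=
    Algebra.FormallyUnramified.of_restrictScalars S _ _
  haveI hred : IsReduced (R ⧸ (IsLocalRing.maximalIdeal S).map (algebraMap S R)) :=
    Algebra.FormallyUnramified.isReduced_of_field (S ⧸ IsLocalRing.maximalIdeal S) _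
  by_cases hF : IsField (R ⧸ (IsLocalRing.maximalIdeal S).map (algebraMap S R))
  · left
    refine ⟨hF, hdim, ?_⟩
    letI : Field (R ⧸ (IsLocalRing.maximalIdeal S).map (algebraMap S R)) := hF.toField
    exact Algebra.FormallyUnramified.isSeparable (S ⧸ IsLocalRing.maximalIdeal S) _
  · right
    obtain ⟨k, hk⟩ : ∃ k : Type u, k = (S ⧸ IsLocalRing.maximalIdeal S) := ⟨_, rfl⟩
    haveI hnt : Nontrivial (R ⧸ (IsLocalRing.maximalIdeal S).map (algebraMap S R)) := by
      apply Module.nontrivial_of_finrank_pos (R := S ⧸ IsLocalRing.maximalIdeal S)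
      rw [hdim]; norm_num
    have hx : ∃ x : R ⧸ (IsLocalRing.maximalIdeal S).map (algebraMap S R), x ≠ 0 ∧ ¬ IsUnit x := by
      by_contra hcon
      push Not at hcon
      exact hF ⟨exists_pair_ne _, mul_comm, fun {a} ha => isUnit_iff_exists_inv.mp (hcon a ha)⟩
    obtain ⟨x, hx0, hxu⟩ := hx
    have hy : ∃ y : R ⧸ (IsLocalRing.maximalIdeal S).map (algebraMap S R), y ≠ 0 ∧ x * y = 0 := by
      by_contra hcon
      push Not at hcon
      have hinj : Function.Injective (LinearMap.mulLeft (S ⧸ IsLocalRing.maximalIdeal S) x) := by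
        rw [injective_iff_map_eq_zero]
        intro y hy
        by_contra hne
        exact hcon y hne (by simpa using hy)
      have hsurj := LinearMap.injective_iff_surjective.mp hinj
      obtain ⟨b, hb⟩ := hsurj 1
      exact hxu (isUnit_iff_exists_inv.mpr ⟨b, by simpa using hb⟩)
    obtain ⟨y, hy0, hxy⟩ := hy
    have hyx : y * x = 0 := by rw [mul_comm]; exact hxy
    have hx2 : x * x ≠ 0 := fun h => hx0 (IsReduced.eq_zero _ ⟨2, by rw [pow_two]; exact h⟩)
    have hy2 : y * y ≠ 0 := fun h => hy0 (IsReduced.eq_zero _ ⟨2, by rw [pow_two]; exact h⟩)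
    have hli : LinearIndependent (S ⧸ IsLocalRing.maximalIdeal S) ![x, y] := by
      rw [LinearIndependent.pair_iff]
      intro s t hst
      constructor
      · by_contra hs
        apply hx2
        have h1 : s • (x * x) = 0 := by
          have h2 := congrArg (fun z => x * z) hst
          simp only [mul_add, mul_smul_comm, hxy, smul_zero, add_zero, mul_zero] at h2
          exact h2
        exact (smul_eq_zero.mp h1).resolve_left hs
      · by_contra ht
        apply hy2
        have h1 : t • (y * y) = 0 := by
          have h2 := congrArg (fun z => y * z) hst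
          simp only [mul_add, mul_smul_comm, hyx, smul_zero, zero_add, mul_zero] at h2
          exact h2
        exact (smul_eq_zero.mp h1).resolve_left ht
    have hspan := hli.span_eq_top_of_card_eq_finrank' (by rw [hdim]; simp)
    have h1 : (1 : R ⧸ (IsLocalRing.maximalIdeal S).map (algebraMap S R)) ∈
        Submodule.span (S ⧸ IsLocalRing.maximalIdeal S) (Set.range ![x, y]) := by
      rw [hspan]; trivial
    rw [Submodule.mem_span_range_iff_exists_fun] at h1
    obtain ⟨c, hc⟩ := h1
    rw [Fin.sum_univ_two] at hc
    simp only [Matrix.cons_val_zero, Matrix.cons_val_one] at hc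
    obtain ⟨e, he_def⟩ : ∃ e : R ⧸ (IsLocalRing.maximalIdeal S).map (algebraMap S R), e = c 0 • x :=
      ⟨_, rfl⟩
    obtain ⟨f, hf_def⟩ : ∃ f : R ⧸ (IsLocalRing.maximalIdeal S).map (algebraMap S R), f = c 1 • y :=
      ⟨_, rfl⟩
    have hef : e + f = 1 := by rw [he_def, hf_def]; exact hc
    have hef0 : e * f = 0 := by
      rw [he_def, hf_def, smul_mul_assoc, mul_smul_comm, hxy, smul_zero, smul_zero]
    have hfe0 : f * e = 0 := by rw [mul_comm]; exact hef0
    have hee : e * e = e := by
      calc e * e = e * e + e * f := by rw [hef0, add_zero]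
        _ = e * (e + f) := by rw [mul_add]
        _ = e := by rw [hef, mul_one]
    have hff : f * f = f := by
      calc f * f = f * e + f * f := by rw [hfe0, zero_add]
        _ = f * (e + f) := by rw [mul_add]
        _ = f := by rw [hef, mul_one]
    have he0 : e ≠ 0 := by
      intro h
      apply hx0
      have hf1 : f = 1 := by rw [h, zero_add] at hef; exact hef
      calc x = x * f := by rw [hf1, mul_one]
        _ = 0 := by rw [hf_def, mul_smul_comm, hxy, smul_zero]
    have hf0 : f ≠ 0 := by
      intro h
      apply hy0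
      have he1 : e = 1 := by rw [h, add_zero] at hef; exact hef
      calc y = y * e := by rw [he1, mul_one]
        _ = 0 := by rw [he_def, mul_smul_comm, hyx, smul_zero]
    obtain ⟨L, hL⟩ : ∃ L : ((S ⧸ IsLocalRing.maximalIdeal S) × (S ⧸ IsLocalRing.maximalIdeal S))
        →ₗ[S ⧸ IsLocalRing.maximalIdeal S] (R ⧸ (IsLocalRing.maximalIdeal S).map (algebraMap S R)),
        ∀ s t, L (s, t) = s • f + t • e :=
      ⟨(LinearMap.fst _ _ _).smulRight f + (LinearMap.snd _ _ _).smulRight e, fun s t => by simp⟩
    have hL1 : L 1 = 1 := by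
      rw [show (1 : (S ⧸ IsLocalRing.maximalIdeal S) × (S ⧸ IsLocalRing.maximalIdeal S)) = (1, 1)
        from rfl, hL, one_smul, one_smul, add_comm]
      exact hef
    have hLmul : ∀ a b, L (a * b) = L a * L b := by
      rintro ⟨a1, a2⟩ ⟨b1, b2⟩
      rw [Prod.mk_mul_mk, hL, hL, hL]
      simp only [add_mul, mul_add, smul_mul_smul_comm, hff, hee, hef0, hfe0, smul_zero, add_zero,
        zero_add]
    have hinj : Function.Injective L := by
      rw [injective_iff_map_eq_zero]
      rintro ⟨s, t⟩ hst
      rw [hL] at hst
      have h1 : t • e = 0 := by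
        have h2 := congrArg (fun z => e * z) hst
        simp only [mul_add, mul_smul_comm, hef0, hee, smul_zero, zero_add, mul_zero] at h2
        exact h2
      have h3 : s • f = 0 := by
        have h2 := congrArg (fun z => f * z) hst
        simp only [mul_add, mul_smul_comm, hfe0, hff, smul_zero, add_zero, mul_zero] at h2
        exact h2
      have ht : t = 0 := (smul_eq_zero.mp h1).resolve_right he0
      have hs : s = 0 := (smul_eq_zero.mp h3).resolve_right hf0
      rw [hs, ht]; rfl
    have hsurj : Function.Surjective L :=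
      (LinearMap.injective_iff_surjective_of_finrank_eq_finrank
        (by rw [hdim, Module.finrank_prod, Module.finrank_self])).mp hinj
    exact ⟨(AlgEquiv.ofBijective (AlgHom.ofLinearMap L hL1 hLmul) ⟨hinj, hsurj⟩).symm⟩

end Groth.Agent.S15585
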