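import Groth.Statements.S15590
import Mathlib.RingTheory.DedekindDomain.Basic
import Mathlib.RingTheory.Flat.FaithfullyFlat.Algebra
import Mathlib.RingTheory.Ideal.GoingUp
import Mathlib.Tactic

set_option autoImplicit false
universe u v
open CAlg

namespace Groth.Agent.S15590

/-- Let A → B be an injective homomorphism of commutative rings which makes B a finite flat A-module,
and suppose B is a Dedekind domain (Noetherian, integrally closed, of Krull dimension at most one; a
field is allowed). Then A is a Dedekind domain. -/
theorem result (A : Type u) (B : Type v)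
    [CommRing A] [CommRing B] [Algebra A B] [IsDedekindDomain B]
    (hinj : Function.Injective (algebraMap A B)) [Module.Finite A B] [Module.Flat A B] :
    IsDedekindDomain A := by
  classical
  have hdom : IsDomain A := Function.Injective.isDomain (algebraMap A B) hinj
  have hint : Algebra.IsIntegral A B := inferInstance
  have hker : RingHom.ker (algebraMap A B) = ⊥ := (RingHom.injective_iff_ker_eq_bot _).1 hinj
  have hover : ∀ (p : Ideal A) [p.IsPrime], ∃ Q : Ideal B, Q.IsPrime ∧ Q.comap (algebraMap A B) = p := by
    intro p _
    obtain ⟨Q, -, hQ, hQp⟩ := Ideal.exists_ideal_over_prime_of_isIntegral p (⊥ : Ideal B)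
      (by rw [← RingHom.ker_eq_comap_bot, hker]; exact bot_le)
    exact ⟨Q, hQ, hQp⟩
  have hff : Module.FaithfullyFlat A B := by
    apply Module.FaithfullyFlat.of_comap_surjective
    intro p
    obtain ⟨Q, hQ, hQp⟩ := hover p.asIdeal
    exact ⟨⟨Q, hQ⟩, PrimeSpectrum.ext hQp⟩
  have hcm : ∀ I : Ideal A, (I.map (algebraMap A B)).comap (algebraMap A B) = I :=
    fun I => Ideal.comap_map_eq_self_of_faithfullyFlat I
  rw [isDedekindDomain_iff A (FractionRing A)]
  refine ⟨hdom, ?_, ?_, ?_⟩
  · -- Noetherian
    rw [isNoetherianRing_iff, isNoetherian_iff']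
    have e : Ideal A ↪o Ideal B := OrderEmbedding.ofMapLEIff (Ideal.map (algebraMap A B))
      (fun I J => ⟨fun h => by
        have := Ideal.comap_mono (f := algebraMap A B) h
        rwa [hcm, hcm] at this, fun h => Ideal.map_mono h⟩)
    have hB : WellFoundedGT (Ideal B) := by
      have : IsNoetherianRing B := inferInstance
      rw [isNoetherianRing_iff, isNoetherian_iff'] at this
      exact this
    exact e.wellFoundedGT
  · -- dimension ≤ 1
    refine ⟨fun {p} hp0 hp => ?_⟩
    obtain ⟨Q, hQ, hQp⟩ := hover p
    have hQ0 : Q ≠ ⊥ := by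
      rintro rfl
      apply hp0
      rw [← hQp, ← RingHom.ker_eq_comap_bot, hker]
    have hQmax : Q.IsMaximal := hQ.isMaximal hQ0
    rw [← hQp]
    exact Ideal.isMaximal_comap_of_isIntegral_of_isMaximal Q
  · -- integrally closed
    intro x hx
    set g : A →+* FractionRing B := (algebraMap B (FractionRing B)).comp (algebraMap A B) with hg
    have hginj : Function.Injective g :=
      (IsFractionRing.injective B (FractionRing B)).comp hinj
    set ψ : FractionRing A →+* FractionRing B := IsFractionRing.lift hginj with hψ
    have hψa : ∀ a : A, ψ (algebraMap A (FractionRing A) a) = g a := fun a => IsFractionRing.lift_algebraMap hginj a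
    have hxB : IsIntegral B (ψ x) := by
      refine IsIntegral.map_of_comp_eq (algebraMap A B) ψ ?_ hx
      ext a
      rw [RingHom.comp_apply, RingHom.comp_apply, hψa, hg, RingHom.comp_apply]
    obtain ⟨b, hb⟩ := (isIntegrallyClosed_iff (FractionRing B)).1 inferInstance hxB
    obtain ⟨a, s, hs, hxas⟩ := IsFractionRing.div_surjective (A := A) x
    have hs0 : s ≠ 0 := nonZeroDivisors.ne_zero hs
    have hgs0 : g s ≠ 0 := fun h => hs0 (hginj (h.trans (map_zero g).symm))
    have h1 : algebraMap B (FractionRing B) b * g s = g a := by
      rw [hb, ← hxas, map_div₀, hψa, hψa, div_mul_cancel₀ _ hgs0]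
    have h2 : b * algebraMap A B s = algebraMap A B a := by
      apply IsFractionRing.injective B (FractionRing B)
      rw [map_mul]
      exact h1
    have h3 : a ∈ Ideal.span ({s} : Set A) := by
      rw [← hcm (Ideal.span {s}), Ideal.mem_comap, ← h2]
      exact Ideal.mul_mem_left _ _ (Ideal.mem_map_of_mem _ (Ideal.mem_span_singleton_self s))
    obtain ⟨a', rfl⟩ := Ideal.mem_span_singleton'.1 h3
    refine ⟨a', ?_⟩
    rw [← hxas, map_mul, mul_div_assoc, div_self, mul_one]
    exact fun h => hs0 (IsFractionRing.injective A (FractionRing A) (h.trans (map_zero _).symm))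

end Groth.Agent.S15590
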