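import Groth.Statements.S15595
import Mathlib
import Groth.Agent.Lib.Helper24.EtaleReg

set_option autoImplicit false
universe u
open TensorProduct
attribute [local instance] RingHom.ker_isPrime
open CAlg

namespace Groth.Agent.S15595


open TensorProduct IsLocalRing

attribute [local instance] Algebra.TensorProduct.rightAlgebra

lemma key (k K A : Type u) [Field k] [Field K] [Algebra k K] [CommRing A] [Algebra k A]
    [IsLocalRing A] (π : A →ₐ[k] k) (hπ : RingHom.ker π = IsLocalRing.maximalIdeal A) :
    (maximalIdeal A).map (algebraMap A (K ⊗[k] A)) = RingHom.ker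
      ((Algebra.TensorProduct.rid k K K).toAlgHom.comp
        (Algebra.TensorProduct.map (AlgHom.id K K) π)) := by
  have hmapeq : ∀ x : K ⊗[k] A, (Algebra.TensorProduct.map (AlgHom.id K K) π) x
      = LinearMap.lTensor K π.toLinearMap x := by
    intro x
    induction x using TensorProduct.induction_on with
    | zero => rw [map_zero, map_zero]
    | tmul c a => rfl
    | add x y hx hy => rw [map_add, map_add, hx, hy]
  apply le_antisymm
  · rw [Ideal.map_le_iff_le_comap]
    intro a ha
    rw [Ideal.mem_comap, RingHom.mem_ker]
    have ha' : π a = 0 := by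
      rw [← hπ] at ha
      exact (RingHom.mem_ker).1 ha
    show (Algebra.TensorProduct.rid k K K) ((Algebra.TensorProduct.map (AlgHom.id K K) π)
      ((1 : K) ⊗ₜ[k] a)) = 0
    rw [Algebra.TensorProduct.map_tmul, Algebra.TensorProduct.rid_tmul, ha', zero_smul]
  · intro x hx
    rw [RingHom.mem_ker] at hx
    have hx' : (Algebra.TensorProduct.rid k K K)
        ((Algebra.TensorProduct.map (AlgHom.id K K) π) x) = 0 := hx
    have hx2 : LinearMap.lTensor K π.toLinearMap x = 0 := by
      rw [← hmapeq]
      exact (Algebra.TensorProduct.rid k K K).injective (hx'.trans (map_zero _).symm)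
    have hsurj : Function.Surjective π.toLinearMap := by
      intro c
      exact ⟨algebraMap k A c, by simp⟩
    have hex := lTensor_exact K (LinearMap.exact_subtype_ker_map π.toLinearMap) hsurj
    obtain ⟨y, rfl⟩ := (hex x).1 hx2
    clear hx hx' hx2
    induction y using TensorProduct.induction_on with
    | zero => rw [map_zero]; exact Ideal.zero_mem _
    | tmul c a =>
      have ha : (a : A) ∈ maximalIdeal A := by
        rw [← hπ, RingHom.mem_ker]
        exact a.2
      have e : LinearMap.lTensor K (LinearMap.ker π.toLinearMap).subtype (c ⊗ₜ[k] a)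
          = (c ⊗ₜ[k] (1 : A)) * algebraMap A (K ⊗[k] A) (a : A) := by
        show c ⊗ₜ[k] (a : A) = (c ⊗ₜ[k] (1 : A)) * ((1 : K) ⊗ₜ[k] (a : A))
        rw [Algebra.TensorProduct.tmul_mul_tmul, mul_one, one_mul]
      rw [e]
      exact Ideal.mul_mem_left _ _ (Ideal.mem_map_of_mem _ ha)
    | add y z hy hz => rw [map_add]; exact Ideal.add_mem _ hy hz

lemma main (k K A : Type u) [Field k] [Field K] [Algebra k K] [CommRing A] [Algebra k A]
    [IsLocalRing A] [IsNoetherianRing A] (P : Ideal (K ⊗[k] A)) [P.IsPrime]
    [IsNoetherianRing (Localization.AtPrime P)]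
    (hP : (maximalIdeal A).map (algebraMap A (K ⊗[k] A)) = P) :
    IsRegularLocalRing A ↔ IsRegularLocalRing (Localization.AtPrime P) := by
  haveI hflat : Module.Flat A (K ⊗[k] A) := by
    have h0 : (algebraMap k K).Flat := RingHom.flat_algebraMap_iff.2 inferInstance
    exact RingHom.flat_algebraMap_iff.1
      (RingHom.Flat.isStableUnderBaseChange k K A (K ⊗[k] A) h0)
  haveI : Module.Flat A (Localization.AtPrime P) := Module.Flat.trans A (K ⊗[k] A) _
  have hmap : (maximalIdeal A).map (algebraMap A (Localization.AtPrime P))
      = maximalIdeal (Localization.AtPrime P) := by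
    rw [IsScalarTower.algebraMap_eq A (K ⊗[k] A) (Localization.AtPrime P), ← Ideal.map_map, hP]
    exact IsLocalization.AtPrime.map_eq_maximalIdeal _ _
  haveI : IsLocalHom (algebraMap A (Localization.AtPrime P)) :=
    ((IsLocalRing.local_hom_TFAE _).out 0 2).mpr hmap.le
  exact Groth.Agent.Helper24.EtaleReg.isRegularLocalRing_iff_of_map_maximalIdeal A _ hmap

/-- Let k ⊆ K be a field extension and A a Noetherian local k-algebra with residue field k, recorded by
a k-algebra map π : A → k whose kernel is the maximal ideal. Let π_K : K ⊗_k A → K be the induced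
K-algebra map, m' its kernel, and A' the localization of K ⊗_k A at m'. Assume A' is Noetherian.
Then A is a regular local ring if and only if A' is a regular local ring. -/
theorem result (k K A : Type u) [Field k] [Field K]
    [Algebra k K] [CommRing A] [Algebra k A] [IsLocalRing A] [IsNoetherianRing A]
    (π : A →ₐ[k] k) (hπ : RingHom.ker π = IsLocalRing.maximalIdeal A)
    [IsNoetherianRing (Localization.AtPrime (RingHom.ker
      ((Algebra.TensorProduct.rid k K K).toAlgHom.comp (Algebra.TensorProduct.map (AlgHom.id K K) π))))] :
    IsRegularLocalRing A ↔ IsRegularLocalRing (Localization.AtPrime (RingHom.ker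
      ((Algebra.TensorProduct.rid k K K).toAlgHom.comp (Algebra.TensorProduct.map (AlgHom.id K K) π)))) := by
  exact main k K A _ (key k K A π hπ)

end Groth.Agent.S15595
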