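import Groth.Statements.S15596
import Mathlib
set_option linter.style.haveILetI false

set_option autoImplicit false
universe u
open CategoryTheory MonoidalCategory CartesianMonoidalCategory MonObj GrpObj AlgebraicGeometry
open AlgGrp

namespace Groth.Agent.S15596

section Aux

variable {C : Type*} [Category C] [CartesianMonoidalCategory C]

/-- The map `(f * ·)`. -/
def mulLeftIso {A : C} [GrpObj A] (f : 𝟙_ C ⟶ A) : A ≅ A where
  hom := lift (toUnit _ ≫ f) (𝟙 _) ≫ μ
  inv := lift (toUnit _ ≫ f ≫ ι) (𝟙 _) ≫ μ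
  hom_inv_id := by
    simp only [comp_lift_assoc, Category.assoc, comp_toUnit_assoc, Category.comp_id]
    change (toUnit A ≫ f ≫ ι) * ((toUnit A ≫ f) * 𝟙 A) = 𝟙 A
    have : toUnit A ≫ f ≫ ι = (toUnit A ≫ f)⁻¹ := by rw [Hom.inv_def, Category.assoc]
    rw [this, inv_mul_cancel_left]
  inv_hom_id := by
    simp only [comp_lift_assoc, Category.assoc, comp_toUnit_assoc, Category.comp_id]
    change (toUnit A ≫ f) * ((toUnit A ≫ f ≫ ι) * 𝟙 A) = 𝟙 A
    have : toUnit A ≫ f ≫ ι = (toUnit A ≫ f)⁻¹ := by rw [Hom.inv_def, Category.assoc]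
    rw [this, mul_inv_cancel_left]

lemma comp_mulLeftIso {A : C} [GrpObj A] (f u : 𝟙_ C ⟶ A) :
    u ≫ (mulLeftIso f).hom = f * u := by
  simp [mulLeftIso, comp_lift_assoc, Hom.mul_def]

end Aux

/-- Let k be an algebraically closed field, H a smooth k-group scheme of finite type, and U a dense open
subset of H. Then every k-rational point h of H is of the form u₂ · u₁⁻¹ for k-rational points u₁,
u₂ of H whose underlying points lie in U. -/
theorem result (k : Type u) [Field k] [IsAlgClosed k]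
    (H : Over (Spec (CommRingCat.of k))) [GrpObj H] [Smooth H.hom] [QuasiCompact H.hom]
    (U : H.left.Opens) (hU : Dense (U : Set ↥H.left)) (h : 𝟙_ (Over (Spec (CommRingCat.of k))) ⟶ H) :
    ∃ u₁ u₂ : 𝟙_ (Over (Spec (CommRingCat.of k))) ⟶ H,
      u₁.left.base (IsLocalRing.closedPoint k) ∈ U ∧ u₂.left.base (IsLocalRing.closedPoint k) ∈ U ∧
        h = u₂ * u₁⁻¹ := by
  classical
  let f : H.left ⟶ Spec (CommRingCat.of k) := H.hom
  haveI : Smooth f := ‹Smooth H.hom›
  haveI : LocallyOfFiniteType f := inferInstance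
  haveI hJ : JacobsonSpace ↥H.left := LocallyOfFiniteType.jacobsonSpace f
  let T : H ≅ H := mulLeftIso h
  let t : H.left ≅ H.left := (Over.forget _).mapIso T
  have ht : IsOpenMap t.hom.base := (Scheme.homeoOfIso t).isOpenMap
  set V : Set ↥H.left := (U : Set ↥H.left) ∩ t.hom.base ⁻¹' (U : Set ↥H.left) with hV
  have hVo : IsOpen V := U.2.inter (U.2.preimage t.hom.continuous)
  have hVd : Dense V := hU.inter_of_isOpen_left (hU.preimage ht) U.2
  haveI hne : Nonempty ↥H.left := ⟨h.left.base (IsLocalRing.closedPoint k)⟩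
  obtain ⟨x, hxV, hxc⟩ := nonempty_inter_closedPoints hVd.nonempty hVo.isLocallyClosed
  let u₁ : 𝟙_ (Over (Spec (CommRingCat.of k))) ⟶ H :=
    Over.homMk (pointOfClosedPoint f x hxc) (pointOfClosedPoint_comp f x hxc)
  have hu₁ : u₁.left.base (IsLocalRing.closedPoint k) = x := pointOfClosedPoint_apply f x hxc _
  refine ⟨u₁, h * u₁, ?_, ?_, by group⟩
  · rw [hu₁]; exact hxV.1
  · have h1 : h * u₁ = u₁ ≫ T.hom := (comp_mulLeftIso h u₁).symm
    have h2 : (h * u₁).left.base (IsLocalRing.closedPoint k) = t.hom.base x := by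
      rw [h1, ← hu₁]; rfl
    rw [h2]; exact hxV.2

end Groth.Agent.S15596
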