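import Groth.Statements.S15602
import Mathlib
import Groth.Agent.H26.GaPts2
set_option linter.style.haveILetI false

set_option autoImplicit false
universe u
open CategoryTheory MonoidalCategory CartesianMonoidalCategory MonObj GrpObj AlgebraicGeometry
open AlgGrp

namespace Groth.Agent.S15602

section Aux
open CategoryTheory CategoryTheory.Limits MonoidalCategory CartesianMonoidalCategory MonObj AlgebraicGeometry Opposite Polynomial

noncomputable section

/-- The two-variable polynomial ring `k[y][x]`. -/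
abbrev R2 (k : Type u) [Field k] := Polynomial (Polynomial k)

/-- constants -/
def cc (k : Type u) [Field k] : k →+* R2 k := (C : Polynomial k →+* R2 k).comp (C : k →+* Polynomial k)

/-- substitution `x ↦ p`, `y ↦ q`. -/
def sub {k : Type u} [Field k] (p q : R2 k) : R2 k →+* R2 k :=
  Polynomial.eval₂RingHom (Polynomial.eval₂RingHom (cc k) q) p

theorem sub_X {k : Type u} [Field k] (p q : R2 k) : sub p q X = p := by simp [sub]
theorem sub_Y {k : Type u} [Field k] (p q : R2 k) : sub p q (C X) = q := by simp [sub]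
theorem sub_CC {k : Type u} [Field k] (p q : R2 k) (a : k) : sub p q (C (C a)) = C (C a) := by
  simp [sub, cc]

theorem sub_C {k : Type u} [Field k] (p : R2 k) (c : Polynomial k) (f : R2 k) :
    sub p (C c) f = (f.map (Polynomial.eval₂RingHom (C : k →+* Polynomial k) c)).comp p := by
  have h : Polynomial.eval₂RingHom (cc k) (C c) =
      (C : Polynomial k →+* R2 k).comp (Polynomial.eval₂RingHom (C : k →+* Polynomial k) c) := by
    apply Polynomial.ringHom_ext
    · intro a; simp [cc]
    · simp
  change Polynomial.eval₂ (Polynomial.eval₂RingHom (cc k) (C c)) p f = _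
  rw [h, Polynomial.comp, Polynomial.eval₂_map]

theorem sub_CX {k : Type u} [Field k] (p : R2 k) (f : R2 k) : sub p (C X) f = f.comp p := by
  rw [sub_C]
  have : Polynomial.eval₂RingHom (C : k →+* Polynomial k) X = RingHom.id _ := by
    apply Polynomial.ringHom_ext
    · intro a; simp
    · simp
  rw [this, Polynomial.map_id]

theorem alg_key {k : Type u} [Field k] (e : k)
    (star : R2 k → R2 k → R2 k) (inv : R2 k → R2 k)
    (h_assoc : ∀ a b c, star (star a b) c = star a (star b c))
    (h_one : ∀ a, star a (C (C e)) = a) (h_one' : ∀ a, star (C (C e)) a = a)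
    (h_inv : ∀ a, star a (inv a) = C (C e))
    (h_sub : ∀ p q a b, sub p q (star a b) = star (sub p q a) (sub p q b)) :
    star X (C X) = X + C X - C (C e) := by
  obtain ⟨m, hm⟩ : ∃ m, m = star X (C X) := ⟨_, rfl⟩
  rw [← hm]
  -- a right inverse of `Y` which is constant in `x`
  obtain ⟨c, hc⟩ : ∃ c : Polynomial k, star (C X) (C c) = C (C e) := by
    refine ⟨(inv (C X)).eval 0, ?_⟩
    have h1 := h_sub 0 (C X) (C X) (inv (C X))
    rw [h_inv, sub_CC, sub_Y, sub_CX, Polynomial.comp_zero] at h1
    exact h1.symm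
  -- `m ⋆ C c = X`
  have h2 : sub m (C c) m = X := by
    have h3 := h_sub m (C c) X (C X)
    rw [sub_X, sub_Y, ← hm] at h3
    rw [h3, hm, h_assoc, hc, h_one]
  rw [sub_C] at h2
  obtain ⟨q, hq⟩ : ∃ q, q = m.map (Polynomial.eval₂RingHom (C : k →+* Polynomial k) c) := ⟨_, rfl⟩
  rw [← hq] at h2
  have hdeg : q.natDegree * m.natDegree = 1 := by
    rw [← Polynomial.natDegree_comp, h2, Polynomial.natDegree_X]
  have hmdeg : m.natDegree = 1 := Nat.dvd_one.mp ⟨q.natDegree, by rw [mul_comm]; exact hdeg.symm⟩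
  have hqdeg : q.natDegree = 1 := by rw [hmdeg, _root_.mul_one] at hdeg; exact hdeg
  have hlc : q.leadingCoeff * m.leadingCoeff = 1 := by
    have h4 := Polynomial.leadingCoeff_comp (p := q) (q := m) (by rw [hmdeg]; exact one_ne_zero)
    rw [h2, Polynomial.leadingCoeff_X, hqdeg, pow_one] at h4
    exact h4.symm
  have hunit : IsUnit m.leadingCoeff := IsUnit.of_mul_eq_one _ (by rw [mul_comm]; exact hlc)
  obtain ⟨a, -, ha⟩ := Polynomial.isUnit_iff.mp hunit
  have hc1 : m.coeff 1 = C a := by
    rw [ha, Polynomial.leadingCoeff, hmdeg]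
  have hform : m = C (C a) * X + C (m.coeff 0) := by
    have h5 := Polynomial.eq_X_add_C_of_natDegree_le_one (p := m) (le_of_eq hmdeg)
    rw [hc1] at h5
    exact h5
  -- `X ⋆ ε = X` gives `a = 1`
  have ha1 : a = 1 := by
    have h6 := h_sub X (C (C e)) X (C X)
    rw [sub_X, sub_Y, ← hm, h_one, sub_C, Polynomial.comp_X] at h6
    have h7 := congrArg (fun f => Polynomial.coeff f 1) h6
    simp only [Polynomial.coeff_map, hc1, Polynomial.coeff_X_one] at h7
    have h8 : (Polynomial.eval₂RingHom (C : k →+* Polynomial k) (C e)) (C a) = C a := by simp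
    rw [h8] at h7
    exact Polynomial.C_injective (by rw [h7, Polynomial.C_1])
  -- `ε ⋆ Y = Y` gives the constant term
  have hb : m.coeff 0 = X - C e := by
    have h9 := h_sub (C (C e)) (C X) X (C X)
    rw [sub_X, sub_Y, ← hm, h_one', sub_CX, Polynomial.comp_C] at h9
    have h10 := Polynomial.C_injective h9
    rw [hform, ha1] at h10
    simp only [Polynomial.eval_add, Polynomial.eval_mul, Polynomial.eval_C, Polynomial.eval_X,
      Polynomial.C_1, _root_.one_mul] at h10
    rw [← h10]; ring
  rw [hform, ha1, hb]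
  simp only [Polynomial.C_1, _root_.one_mul, map_sub]
  ring

section Pts

variable {k : Type u} [Field k]

/-- The universal test object `Spec k[x,y]`. -/
abbrev U (k : Type u) [Field k] : Over (Spec (CommRingCat.of k)) :=
  Over.mk (Spec.map (CommRingCat.ofHom (cc k)))

variable (G : Over (Spec (CommRingCat.of k)))
  (c : ∀ T : Over (Spec (CommRingCat.of k)), (T ⟶ G) ≃ Γ(T.left, ⊤))

/-- the point with given function -/
def pt (f : R2 k) : U k ⟶ G :=
  (c (U k)).symm ((Scheme.ΓSpecIso (CommRingCat.of (R2 k))).inv f)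

/-- the function of a point -/
def fn (t : U k ⟶ G) : R2 k := (Scheme.ΓSpecIso (CommRingCat.of (R2 k))).hom (c (U k) t)

theorem pt_fn (t : U k ⟶ G) : pt G c (fn G c t) = t := by
  unfold pt fn
  rw [Iso.hom_inv_id_apply, Equiv.symm_apply_apply]

theorem fn_pt (f : R2 k) : fn G c (pt G c f) = f := by
  unfold pt fn
  rw [Equiv.apply_symm_apply, Iso.inv_hom_id_apply]

theorem c_eq (t : U k ⟶ G) : c (U k) t = (Scheme.ΓSpecIso (CommRingCat.of (R2 k))).inv (fn G c t) := by
  unfold fn
  rw [Iso.hom_inv_id_apply]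

/-- substitution endomorphism of the test object -/
def s (p q : R2 k) : U k ⟶ U k :=
  Over.homMk (Spec.map (CommRingCat.ofHom (sub p q))) (by
    change Spec.map (CommRingCat.ofHom (sub p q)) ≫ Spec.map (CommRingCat.ofHom (cc k)) =
      Spec.map (CommRingCat.ofHom (cc k))
    rw [← Spec.map_comp]
    congr 1
    ext a
    simp [sub, cc])

variable (hc : ∀ {T T' : Over (Spec (CommRingCat.of k))} (g : T' ⟶ T) (t : T ⟶ G),
  c T' (g ≫ t) = g.left.appTop (c T t))

include hc in
theorem fn_s (p q : R2 k) (t : U k ⟶ G) : fn G c (s p q ≫ t) = sub p q (fn G c t) := by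
  have h1 : c (U k) (s p q ≫ t) = (Scheme.ΓSpecIso (CommRingCat.of (R2 k))).inv (sub p q (fn G c t)) := by
    rw [hc, c_eq G c t]
    exact Groth.Agent.H26.GaPts.specMap_appTop_inv (CommRingCat.ofHom (sub p q)) (fn G c t)
  unfold fn at h1 ⊢
  rw [h1, Iso.inv_hom_id_apply]

include hc in
theorem s_pt (p q f : R2 k) : s p q ≫ pt G c f = pt G c (sub p q f) := by
  rw [← pt_fn G c (s p q ≫ pt G c f), fn_s G c hc, fn_pt]

/-- the unit coordinate -/
def eOf (u0 : 𝟙_ (Over (Spec (CommRingCat.of k))) ⟶ G) : k :=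
  (Scheme.ΓSpecIso (CommRingCat.of k)).hom (c (𝟙_ _) u0)

include hc in
theorem fn_toUnit (u0 : 𝟙_ (Over (Spec (CommRingCat.of k))) ⟶ G) :
    fn G c (toUnit (U k) ≫ u0) = C (C (eOf G c u0)) := by
  have h0 : c (𝟙_ _) u0 = (Scheme.ΓSpecIso (CommRingCat.of k)).inv (eOf G c u0) := by
    unfold eOf
    rw [Iso.hom_inv_id_apply]
  have h1 : c (U k) (toUnit (U k) ≫ u0) =
      (Scheme.ΓSpecIso (CommRingCat.of (R2 k))).inv (cc k (eOf G c u0)) := by
    rw [hc, h0]
    exact Groth.Agent.H26.GaPts.specMap_appTop_inv (CommRingCat.ofHom (cc k)) (eOf G c u0)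
  unfold fn
  rw [h1, Iso.inv_hom_id_apply]
  rfl

/-- structure map on functions -/
def kap (T : Over (Spec (CommRingCat.of k))) : k →+* Γ(T.left, ⊤) :=
  ((Scheme.ΓSpecIso (CommRingCat.of k)).inv ≫ T.hom.appTop).hom

/-- evaluation at a pair of points -/
def ev {T : Over (Spec (CommRingCat.of k))} (a b : T ⟶ G) : R2 k →+* Γ(T.left, ⊤) :=
  Polynomial.eval₂RingHom (Polynomial.eval₂RingHom (kap T) (c T b)) (c T a)

/-- classifying map, underlying morphism -/
def PhiLeft {T : Over (Spec (CommRingCat.of k))} (a b : T ⟶ G) :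
    T.left ⟶ Spec (CommRingCat.of (R2 k)) :=
  ΓSpec.adjunction.homEquiv T.left (op (CommRingCat.of (R2 k))) (CommRingCat.ofHom (ev G c a b)).op

theorem PhiLeft_spec {T : Over (Spec (CommRingCat.of k))} (a b : T ⟶ G) :
    (Scheme.ΓSpecIso (CommRingCat.of (R2 k))).inv ≫ (PhiLeft G c a b).appTop =
      CommRingCat.ofHom (ev G c a b) :=
  ΓSpecIso_inv_ΓSpec_adjunction_homEquiv _

theorem PhiLeft_w {T : Over (Spec (CommRingCat.of k))} (a b : T ⟶ G) :
    PhiLeft G c a b ≫ Spec.map (CommRingCat.ofHom (cc k)) = T.hom := by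
  apply ext_of_isAffine
  rw [Scheme.Hom.comp_appTop]
  apply (cancel_epi (Scheme.ΓSpecIso (CommRingCat.of k)).inv).mp
  rw [← Category.assoc, ← Scheme.ΓSpecIso_inv_naturality, Category.assoc, PhiLeft_spec]
  ext x
  simp [ev, cc, kap]

/-- classifying map -/
def Phi {T : Over (Spec (CommRingCat.of k))} (a b : T ⟶ G) : T ⟶ U k :=
  Over.homMk (PhiLeft G c a b) (PhiLeft_w G c a b)

include hc in
theorem c_Phi_pt {T : Over (Spec (CommRingCat.of k))} (a b : T ⟶ G) (f : R2 k) :
    c T (Phi G c a b ≫ pt G c f) = ev G c a b f := by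
  rw [hc]
  have h1 : c (U k) (pt G c f) = (Scheme.ΓSpecIso (CommRingCat.of (R2 k))).inv f := by
    unfold pt
    rw [Equiv.apply_symm_apply]
  rw [h1]
  have h2 := congrArg (fun ψ => (ConcreteCategory.hom ψ) f) (PhiLeft_spec G c a b)
  exact h2

include hc in
theorem Phi_X {T : Over (Spec (CommRingCat.of k))} (a b : T ⟶ G) : Phi G c a b ≫ pt G c X = a := by
  apply (c T).injective
  rw [c_Phi_pt G c hc]
  simp [ev]

include hc in
theorem Phi_Y {T : Over (Spec (CommRingCat.of k))} (a b : T ⟶ G) : Phi G c a b ≫ pt G c (C X) = b := by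
  apply (c T).injective
  rw [c_Phi_pt G c hc]
  simp [ev]

include hc in
theorem mul_formula [GrpObj G] :
    μ[G] = Phi G c (fst G G) (snd G G) ≫ pt G c (X + C X - C (C (eOf G c η[G]))) := by
  have hone : pt G c (C (C (eOf G c η[G]))) = (1 : U k ⟶ G) := by
    rw [← fn_toUnit G c hc, pt_fn]
    rfl
  have key := alg_key (eOf G c η[G]) (fun a b => fn G c (pt G c a * pt G c b))
    (fun a => fn G c (pt G c a)⁻¹)
    (fun a b d => by simp only [pt_fn]; rw [_root_.mul_assoc])
    (fun a => by simp only [hone]; rw [_root_.mul_one, fn_pt])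
    (fun a => by simp only [hone]; rw [_root_.one_mul, fn_pt])
    (fun a => by
      simp only [pt_fn]; rw [_root_.mul_inv_cancel, ← hone, fn_pt])
    (fun p q a b => by
      rw [← fn_s G c hc, MonObj.comp_mul, s_pt G c hc, s_pt G c hc])
  have h1 : μ[G] = fst G G * snd G G := by
    rw [Hom.mul_def, lift_fst_snd, Category.id_comp]
  rw [h1]
  have hX := Phi_X G c hc (fst G G) (snd G G)
  have hY := Phi_Y G c hc (fst G G) (snd G G)
  have h2 : fst G G * snd G G =
      (Phi G c (fst G G) (snd G G) ≫ pt G c X) * (Phi G c (fst G G) (snd G G) ≫ pt G c (C X)) := by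
    rw [hX, hY]
  refine h2.trans ((MonObj.comp_mul _ _ _).symm.trans ?_)
  rw [← pt_fn G c (pt G c X * pt G c (C X)), key]

end Pts

end

end Aux

/-- Additive case. Let k be a field and consider the affine line over k, taken here as the underlying
k-scheme of the additive group. Any two structures of k-group scheme on it with the same unit
section have the same multiplication; in particular a group law on the affine line whose identity is
the origin is the usual addition. -/
theorem result (k : Type u) [Field k]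
    (h₁ h₂ : GrpObj (Red.Ga (Spec (CommRingCat.of k)))) (e : h₁.one = h₂.one) : h₁.mul = h₂.mul := by
  have H1 := @mul_formula k _ (Red.Ga (Spec (CommRingCat.of k)))
    (fun T => Groth.Agent.H26.GaPts.equiv T)
    (fun g t => Groth.Agent.H26.GaPts.gaFn_comp g t) h₁
  have H2 := @mul_formula k _ (Red.Ga (Spec (CommRingCat.of k)))
    (fun T => Groth.Agent.H26.GaPts.equiv T)
    (fun g t => Groth.Agent.H26.GaPts.gaFn_comp g t) h₂
  rw [e] at H1
  exact H1.trans H2.symm

end Groth.Agent.S15602
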