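import Groth.Statements.S15603
import Mathlib
import Groth.Agent.H26.GaPts2
set_option linter.style.haveILetI false

set_option autoImplicit false
universe u
open CategoryTheory MonoidalCategory CartesianMonoidalCategory MonObj GrpObj AlgebraicGeometry
open AlgGrp

namespace Groth.Agent.S15603

section Aux
open CategoryTheory CategoryTheory.Limits MonoidalCategory CartesianMonoidalCategory MonObj AlgebraicGeometry Opposite

noncomputable section

theorem laurent_unit {A : Type u} [CommRing A] [IsDomain A] (f : LaurentPolynomial A) (hf : IsUnit f) :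
    ∃ (a : A) (n : ℤ), IsUnit a ∧ f = LaurentPolynomial.C a * LaurentPolynomial.T n := by
  obtain ⟨g, hg⟩ := hf.exists_right_inv
  obtain ⟨n, F, hF⟩ := LaurentPolynomial.exists_T_pow f
  obtain ⟨m, G', hG⟩ := LaurentPolynomial.exists_T_pow g
  have h1 : F * G' = Polynomial.X ^ (n + m) := by
    apply Polynomial.toLaurent_injective
    rw [map_mul, hF, hG, Polynomial.toLaurent_X_pow]
    have h0 : f * LaurentPolynomial.T n * (g * LaurentPolynomial.T m) =
        (f * g) * (LaurentPolynomial.T n * LaurentPolynomial.T m) := by ring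
    rw [h0, hg, _root_.one_mul, ← LaurentPolynomial.T_add]
    push_cast
    rfl
  obtain ⟨i, -, hi⟩ := (dvd_prime_pow Polynomial.prime_X (n + m)).mp (Dvd.intro G' h1)
  obtain ⟨w, hw⟩ := hi
  obtain ⟨a, ha, hau⟩ := Polynomial.isUnit_iff.mp (w⁻¹).isUnit
  refine ⟨a, (i : ℤ) - n, ha, ?_⟩
  have hF' : F = Polynomial.C a * Polynomial.X ^ i := by
    rw [hau, ← hw, mul_comm, _root_.mul_assoc, Units.mul_inv, _root_.mul_one]
  have h2 : f * LaurentPolynomial.T n = LaurentPolynomial.C a * LaurentPolynomial.T i := by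
    rw [← hF, hF', map_mul, Polynomial.toLaurent_C, Polynomial.toLaurent_X_pow]
  calc f = f * LaurentPolynomial.T n * LaurentPolynomial.T (-n) := by
        rw [LaurentPolynomial.mul_T_assoc, add_neg_cancel, LaurentPolynomial.T_zero, _root_.mul_one]
    _ = LaurentPolynomial.C a * LaurentPolynomial.T (i - n) := by
        rw [h2, LaurentPolynomial.mul_T_assoc, sub_eq_add_neg]

/-- the unit `T 1` -/
def tU (R : Type u) [CommRing R] : (LaurentPolynomial R)ˣ := (LaurentPolynomial.isUnit_T (R := R) 1).unit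

theorem tU_val (R : Type u) [CommRing R] : ((tU R : (LaurentPolynomial R)ˣ) : LaurentPolynomial R) =
    LaurentPolynomial.T 1 := IsUnit.unit_spec _

theorem tU_zpow (R : Type u) [CommRing R] (m : ℤ) :
    (((tU R) ^ m : (LaurentPolynomial R)ˣ) : LaurentPolynomial R) = LaurentPolynomial.T m := by
  have hnat : ∀ j : ℕ, (((tU R) ^ j : (LaurentPolynomial R)ˣ) : LaurentPolynomial R) =
      LaurentPolynomial.T j := by
    intro j
    rw [Units.val_pow_eq_pow_val, tU_val, LaurentPolynomial.T_pow, _root_.mul_one]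
  obtain ⟨j, rfl | rfl⟩ := Int.eq_nat_or_neg m
  · rw [zpow_natCast]; exact hnat j
  · rw [zpow_neg, zpow_natCast]
    apply Units.inv_eq_of_mul_eq_one_right
    rw [hnat j, ← LaurentPolynomial.T_add, add_neg_cancel, LaurentPolynomial.T_zero]

abbrev L1 (k : Type u) [Field k] := LaurentPolynomial k
abbrev L2 (k : Type u) [Field k] := LaurentPolynomial (LaurentPolynomial k)

/-- constants -/
def ccm (k : Type u) [Field k] : k →+* L2 k :=
  (LaurentPolynomial.C : L1 k →+* L2 k).comp (LaurentPolynomial.C : k →+* L1 k)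

def xx (k : Type u) [Field k] : (L2 k)ˣ := tU (L1 k)
def yy (k : Type u) [Field k] : (L2 k)ˣ :=
  Units.map ((LaurentPolynomial.C : L1 k →+* L2 k) : L1 k →* L2 k) (tU k)

/-- substitution -/
def subU {k : Type u} [Field k] (p q : (L2 k)ˣ) : L2 k →+* L2 k :=
  LaurentPolynomial.eval₂ (LaurentPolynomial.eval₂ (ccm k) q) p

theorem subU_xx {k : Type u} [Field k] (p q : (L2 k)ˣ) : subU p q (xx k).val = p.val := by
  unfold subU xx
  rw [tU_val, LaurentPolynomial.eval₂_T, zpow_one]

theorem subU_yy {k : Type u} [Field k] (p q : (L2 k)ˣ) : subU p q (yy k).val = q.val := by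
  unfold subU yy
  rw [Units.coe_map, tU_val]
  change LaurentPolynomial.eval₂ _ p (LaurentPolynomial.C (LaurentPolynomial.T 1)) = _
  rw [LaurentPolynomial.eval₂_C, LaurentPolynomial.eval₂_T, zpow_one]

theorem subU_cc {k : Type u} [Field k] (p q : (L2 k)ˣ) (a : k) : subU p q (ccm k a) = ccm k a := by
  unfold subU ccm
  change LaurentPolynomial.eval₂ _ p (LaurentPolynomial.C (LaurentPolynomial.C a)) = _
  rw [LaurentPolynomial.eval₂_C, LaurentPolynomial.eval₂_C]

theorem subU_mon {k : Type u} [Field k] (p q : (L2 k)ˣ) (a : k) (n m : ℤ) :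
    subU p q (LaurentPolynomial.C (LaurentPolynomial.C a * LaurentPolynomial.T n) * LaurentPolynomial.T m) =
      ccm k a * (q ^ n).val * (p ^ m).val := by
  unfold subU
  rw [LaurentPolynomial.eval₂_C_mul_T, LaurentPolynomial.eval₂_C_mul_T]

theorem single_facts {R : Type u} [CommRing R] [Nontrivial R] (r : R) (m : ℤ)
    (h : LaurentPolynomial.C r * LaurentPolynomial.T m = LaurentPolynomial.T 1) : m = 1 ∧ r = 1 := by
  rw [← LaurentPolynomial.single_eq_C_mul_T] at h
  have h1 : (LaurentPolynomial.T 1 : LaurentPolynomial R) = AddMonoidAlgebra.single (1 : ℤ) (1 : R) := rfl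
  rw [h1] at h
  rcases AddMonoidAlgebra.single_inj.mp h with ⟨h2, h3⟩ | ⟨-, h3⟩
  · exact ⟨h2, h3⟩
  · exact absurd h3 one_ne_zero

theorem alg_key_m {k : Type u} [Field k] (e : kˣ) (M : (L2 k)ˣ)
    (h1 : subU (xx k) (Units.map ((ccm k : k →+* L2 k) : k →* L2 k) e) M.val = (xx k).val)
    (h2 : subU (Units.map ((ccm k : k →+* L2 k) : k →* L2 k) e) (yy k) M.val = (yy k).val) :
    M = Units.map ((ccm k : k →+* L2 k) : k →* L2 k) e⁻¹ * yy k * xx k := by
  obtain ⟨w, m, hw, hM⟩ := laurent_unit M.val M.isUnit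
  obtain ⟨a, n, ha, hwa⟩ := laurent_unit w hw
  rw [hwa] at hM
  have hpow : ∀ j : ℤ, ((Units.map ((ccm k : k →+* L2 k) : k →* L2 k) e ^ j : (L2 k)ˣ) : L2 k) =
      ccm k ((e ^ j : kˣ) : k) := by
    intro j
    rw [← map_zpow, Units.coe_map]
    rfl
  have hx : ∀ j : ℤ, (((xx k) ^ j : (L2 k)ˣ) : L2 k) = LaurentPolynomial.T j := fun j => tU_zpow _ j
  have hy : ∀ j : ℤ, (((yy k) ^ j : (L2 k)ˣ) : L2 k) =
      LaurentPolynomial.C (LaurentPolynomial.T j) := by
    intro j
    unfold yy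
    rw [← map_zpow, Units.coe_map, tU_zpow]
    rfl
  rw [hM, subU_mon, hpow, hx] at h1
  rw [hM, subU_mon, hpow, hy] at h2
  -- h1 : ccm a * ccm (e^n) * T m = xx.val
  have hxv : ((xx k : (L2 k)ˣ) : L2 k) = LaurentPolynomial.T 1 := tU_val _
  have hyv : ((yy k : (L2 k)ˣ) : L2 k) = LaurentPolynomial.C (LaurentPolynomial.T 1) := by
    unfold yy
    rw [Units.coe_map, tU_val]
    rfl
  rw [hxv, ← map_mul] at h1
  have h1' : LaurentPolynomial.C (LaurentPolynomial.C (a * ((e ^ n : kˣ) : k))) * LaurentPolynomial.T m =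
      (LaurentPolynomial.T 1 : L2 k) := h1
  obtain ⟨hm1, h1''⟩ := single_facts _ _ h1'
  rw [hyv] at h2
  have h2' : (LaurentPolynomial.C (LaurentPolynomial.C (a * ((e ^ m : kˣ) : k)) * LaurentPolynomial.T n) : L2 k) =
      LaurentPolynomial.C (LaurentPolynomial.T 1) := by
    rw [← h2]
    simp only [ccm, RingHom.comp_apply, map_mul]
    ring
  have h2'' : LaurentPolynomial.C (a * ((e ^ m : kˣ) : k)) * LaurentPolynomial.T n =
      (LaurentPolynomial.T 1 : L1 k) := by
    have hinj : Function.Injective (LaurentPolynomial.C : L1 k →+* L2 k) := fun x y hxy =>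
      AddMonoidAlgebra.single_right_injective (m := (0 : ℤ)) hxy
    exact hinj h2'
  obtain ⟨hn1, h3⟩ := single_facts _ _ h2''
  subst hm1 hn1
  rw [zpow_one] at h3
  have hae : a = ((e⁻¹ : kˣ) : k) := by
    rw [Units.val_inv_eq_inv_val]
    exact eq_inv_of_mul_eq_one_left h3
  apply Units.ext
  rw [hM, Units.val_mul, Units.val_mul, hxv, hyv, Units.coe_map, hae]
  simp only [ccm, RingHom.comp_apply, map_mul]
  rfl

section Pts

variable {k : Type u} [Field k]

/-- The universal test object `Spec k[x^±,y^±]`. -/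
abbrev U (k : Type u) [Field k] : Over (Spec (CommRingCat.of k)) :=
  Over.mk (Spec.map (CommRingCat.ofHom (ccm k)))

variable (G : Over (Spec (CommRingCat.of k)))
  (c : ∀ T : Over (Spec (CommRingCat.of k)), (T ⟶ G) ≃ (Γ(T.left, ⊤))ˣ)

/-- the point with given unit -/
def pt (f : (L2 k)ˣ) : U k ⟶ G :=
  (c (U k)).symm (Units.map (((Scheme.ΓSpecIso (CommRingCat.of (L2 k))).inv.hom :
    L2 k →+* Γ(Spec (CommRingCat.of (L2 k)), ⊤)) : L2 k →* Γ(Spec (CommRingCat.of (L2 k)), ⊤)) f)

/-- the unit of a point -/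
def fn (t : U k ⟶ G) : (L2 k)ˣ :=
  Units.map (((Scheme.ΓSpecIso (CommRingCat.of (L2 k))).hom.hom :
    Γ(Spec (CommRingCat.of (L2 k)), ⊤) →+* L2 k) : Γ(Spec (CommRingCat.of (L2 k)), ⊤) →* L2 k) (c (U k) t)

theorem pt_fn (t : U k ⟶ G) : pt G c (fn G c t) = t := by
  unfold pt fn
  apply (c (U k)).injective
  rw [Equiv.apply_symm_apply]
  apply Units.ext
  simp only [Units.coe_map]
  exact Iso.hom_inv_id_apply (Scheme.ΓSpecIso (CommRingCat.of (L2 k))) _

theorem fn_pt (f : (L2 k)ˣ) : fn G c (pt G c f) = f := by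
  unfold pt fn
  rw [Equiv.apply_symm_apply]
  apply Units.ext
  simp only [Units.coe_map]
  exact Iso.inv_hom_id_apply (Scheme.ΓSpecIso (CommRingCat.of (L2 k))) _

theorem c_eq (t : U k ⟶ G) : ((c (U k) t : (Γ((U k).left, ⊤))ˣ) : Γ((U k).left, ⊤)) =
    (Scheme.ΓSpecIso (CommRingCat.of (L2 k))).inv (fn G c t).val := by
  unfold fn
  simp only [Units.coe_map]
  exact (Iso.hom_inv_id_apply (Scheme.ΓSpecIso (CommRingCat.of (L2 k))) _).symm

/-- substitution endomorphism of the test object -/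
def s (p q : (L2 k)ˣ) : U k ⟶ U k :=
  Over.homMk (Spec.map (CommRingCat.ofHom (subU p q))) (by
    change Spec.map (CommRingCat.ofHom (subU p q)) ≫ Spec.map (CommRingCat.ofHom (ccm k)) =
      Spec.map (CommRingCat.ofHom (ccm k))
    rw [← Spec.map_comp]
    congr 1
    exact CommRingCat.hom_ext (RingHom.ext fun a => subU_cc p q a))

variable (hc : ∀ {T T' : Over (Spec (CommRingCat.of k))} (g : T' ⟶ T) (t : T ⟶ G),
  c T' (g ≫ t) = Units.map (g.left.appTop.hom : Γ(T.left, ⊤) →* Γ(T'.left, ⊤)) (c T t))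

include hc in
theorem fn_s (p q : (L2 k)ˣ) (t : U k ⟶ G) :
    fn G c (s p q ≫ t) = Units.map ((subU p q : L2 k →+* L2 k) : L2 k →* L2 k) (fn G c t) := by
  apply Units.ext
  have h1 : ((c (U k) (s p q ≫ t) : (Γ((U k).left, ⊤))ˣ) : Γ((U k).left, ⊤)) =
      (Scheme.ΓSpecIso (CommRingCat.of (L2 k))).inv (subU p q (fn G c t).val) := by
    rw [hc, Units.coe_map, c_eq G c t]
    exact Groth.Agent.H26.GaPts.specMap_appTop_inv (CommRingCat.ofHom (subU p q)) (fn G c t).val
  rw [Units.coe_map]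
  conv_lhs => unfold fn
  rw [Units.coe_map]
  change (Scheme.ΓSpecIso (CommRingCat.of (L2 k))).hom ((c (U k) (s p q ≫ t) : (Γ((U k).left, ⊤))ˣ) : Γ((U k).left, ⊤)) = _
  rw [h1]
  exact Iso.inv_hom_id_apply _ _

include hc in
theorem s_pt (p q f : (L2 k)ˣ) :
    s p q ≫ pt G c f = pt G c (Units.map ((subU p q : L2 k →+* L2 k) : L2 k →* L2 k) f) := by
  rw [← pt_fn G c (s p q ≫ pt G c f), fn_s G c hc, fn_pt]

/-- the unit coordinate -/
def eOf (u0 : 𝟙_ (Over (Spec (CommRingCat.of k))) ⟶ G) : kˣ :=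
  Units.map (((Scheme.ΓSpecIso (CommRingCat.of k)).hom.hom :
    Γ(Spec (CommRingCat.of k), ⊤) →+* k) : Γ(Spec (CommRingCat.of k), ⊤) →* k) (c (𝟙_ _) u0)

include hc in
theorem fn_toUnit (u0 : 𝟙_ (Over (Spec (CommRingCat.of k))) ⟶ G) :
    fn G c (toUnit (U k) ≫ u0) = Units.map ((ccm k : k →+* L2 k) : k →* L2 k) (eOf G c u0) := by
  apply Units.ext
  have h0 : (Scheme.ΓSpecIso (CommRingCat.of k)).inv (eOf G c u0).val = (c (𝟙_ _) u0).val := by
    unfold eOf
    simp only [Units.coe_map]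
    exact Iso.hom_inv_id_apply (Scheme.ΓSpecIso (CommRingCat.of k)) _
  have h1 : ((c (U k) (toUnit (U k) ≫ u0) : (Γ((U k).left, ⊤))ˣ) : Γ((U k).left, ⊤)) =
      (Scheme.ΓSpecIso (CommRingCat.of (L2 k))).inv (ccm k (eOf G c u0).val) := by
    rw [hc, Units.coe_map]
    have h00 := Groth.Agent.H26.GaPts.specMap_appTop_inv (CommRingCat.ofHom (ccm k)) (eOf G c u0).val
    rw [h0] at h00
    exact h00
  rw [Units.coe_map]
  conv_lhs => unfold fn
  rw [Units.coe_map]
  change (Scheme.ΓSpecIso (CommRingCat.of (L2 k))).hom ((c (U k) (toUnit (U k) ≫ u0) : (Γ((U k).left, ⊤))ˣ) : Γ((U k).left, ⊤)) = _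
  rw [h1]
  exact Iso.inv_hom_id_apply _ _

/-- structure map on functions -/
def kap (T : Over (Spec (CommRingCat.of k))) : k →+* Γ(T.left, ⊤) :=
  ((Scheme.ΓSpecIso (CommRingCat.of k)).inv ≫ T.hom.appTop).hom

/-- evaluation at a pair of points -/
def ev {T : Over (Spec (CommRingCat.of k))} (a b : T ⟶ G) : L2 k →+* Γ(T.left, ⊤) :=
  LaurentPolynomial.eval₂ (LaurentPolynomial.eval₂ (kap T) (c T b)) (c T a)

/-- classifying map, underlying morphism -/
def PhiLeft {T : Over (Spec (CommRingCat.of k))} (a b : T ⟶ G) :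
    T.left ⟶ Spec (CommRingCat.of (L2 k)) :=
  ΓSpec.adjunction.homEquiv T.left (op (CommRingCat.of (L2 k))) (CommRingCat.ofHom (ev G c a b)).op

theorem PhiLeft_spec {T : Over (Spec (CommRingCat.of k))} (a b : T ⟶ G) :
    (Scheme.ΓSpecIso (CommRingCat.of (L2 k))).inv ≫ (PhiLeft G c a b).appTop =
      CommRingCat.ofHom (ev G c a b) :=
  ΓSpecIso_inv_ΓSpec_adjunction_homEquiv _

theorem PhiLeft_w {T : Over (Spec (CommRingCat.of k))} (a b : T ⟶ G) :
    PhiLeft G c a b ≫ Spec.map (CommRingCat.ofHom (ccm k)) = T.hom := by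
  apply ext_of_isAffine
  rw [Scheme.Hom.comp_appTop]
  apply (cancel_epi (Scheme.ΓSpecIso (CommRingCat.of k)).inv).mp
  rw [← Category.assoc, ← Scheme.ΓSpecIso_inv_naturality, Category.assoc, PhiLeft_spec]
  ext x
  change ev G c a b (ccm k x) = kap T x
  unfold ev ccm
  change LaurentPolynomial.eval₂ _ _ (LaurentPolynomial.C (LaurentPolynomial.C x)) = _
  rw [LaurentPolynomial.eval₂_C, LaurentPolynomial.eval₂_C]

/-- classifying map -/
def Phi {T : Over (Spec (CommRingCat.of k))} (a b : T ⟶ G) : T ⟶ U k :=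
  Over.homMk (PhiLeft G c a b) (PhiLeft_w G c a b)

include hc in
theorem c_Phi_pt {T : Over (Spec (CommRingCat.of k))} (a b : T ⟶ G) (f : (L2 k)ˣ) :
    c T (Phi G c a b ≫ pt G c f) =
      Units.map ((ev G c a b : L2 k →+* Γ(T.left, ⊤)) : L2 k →* Γ(T.left, ⊤)) f := by
  rw [hc]
  apply Units.ext
  rw [Units.coe_map, Units.coe_map]
  have h1 : ((c (U k) (pt G c f) : (Γ((U k).left, ⊤))ˣ) : Γ((U k).left, ⊤)) =
      (Scheme.ΓSpecIso (CommRingCat.of (L2 k))).inv f.val := by
    unfold pt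
    rw [Equiv.apply_symm_apply, Units.coe_map]
    rfl
  rw [h1]
  have h2 := congrArg (fun ψ => (ConcreteCategory.hom ψ) f.val) (PhiLeft_spec G c a b)
  exact h2

include hc in
theorem Phi_X {T : Over (Spec (CommRingCat.of k))} (a b : T ⟶ G) :
    Phi G c a b ≫ pt G c (xx k) = a := by
  apply (c T).injective
  rw [c_Phi_pt G c hc]
  apply Units.ext
  rw [Units.coe_map]
  unfold xx
  rw [tU_val]
  change LaurentPolynomial.eval₂ _ _ (LaurentPolynomial.T 1) = _
  rw [LaurentPolynomial.eval₂_T, zpow_one]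

include hc in
theorem Phi_Y {T : Over (Spec (CommRingCat.of k))} (a b : T ⟶ G) :
    Phi G c a b ≫ pt G c (yy k) = b := by
  apply (c T).injective
  rw [c_Phi_pt G c hc]
  apply Units.ext
  rw [Units.coe_map]
  unfold yy
  rw [Units.coe_map, tU_val]
  change LaurentPolynomial.eval₂ _ _ (LaurentPolynomial.C (LaurentPolynomial.T 1)) = _
  rw [LaurentPolynomial.eval₂_C, LaurentPolynomial.eval₂_T, zpow_one]

include hc in
theorem mul_formula [GrpObj G] :
    μ[G] = Phi G c (fst G G) (snd G G) ≫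
      pt G c (Units.map ((ccm k : k →+* L2 k) : k →* L2 k) (eOf G c η[G])⁻¹ * yy k * xx k) := by
  obtain ⟨ε, hε⟩ : ∃ ε, ε = Units.map ((ccm k : k →+* L2 k) : k →* L2 k) (eOf G c η[G]) := ⟨_, rfl⟩
  have hone : pt G c ε = (1 : U k ⟶ G) := by
    rw [hε, ← fn_toUnit G c hc, pt_fn]
    rfl
  have hxx : ∀ p q : (L2 k)ˣ, Units.map ((subU p q : L2 k →+* L2 k) : L2 k →* L2 k) (xx k) = p :=
    fun p q => Units.ext (by rw [Units.coe_map]; exact subU_xx p q)
  have hyy : ∀ p q : (L2 k)ˣ, Units.map ((subU p q : L2 k →+* L2 k) : L2 k →* L2 k) (yy k) = q :=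
    fun p q => Units.ext (by rw [Units.coe_map]; exact subU_yy p q)
  obtain ⟨M, hM⟩ : ∃ M, M = fn G c (pt G c (xx k) * pt G c (yy k)) := ⟨_, rfl⟩
  have h1 : subU (xx k) ε M.val = (xx k).val := by
    have h3 : s (xx k) ε ≫ (pt G c (xx k) * pt G c (yy k)) = pt G c (xx k) := by
      rw [MonObj.comp_mul, s_pt G c hc, s_pt G c hc, hxx, hyy, hone, _root_.mul_one]
    have h4 := congrArg (fn G c) h3
    rw [fn_s G c hc, fn_pt, ← hM] at h4
    have h5 := congrArg Units.val h4
    rw [Units.coe_map] at h5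
    exact h5
  have h2 : subU ε (yy k) M.val = (yy k).val := by
    have h3 : s ε (yy k) ≫ (pt G c (xx k) * pt G c (yy k)) = pt G c (yy k) := by
      rw [MonObj.comp_mul, s_pt G c hc, s_pt G c hc, hxx, hyy, hone, _root_.one_mul]
    have h4 := congrArg (fn G c) h3
    rw [fn_s G c hc, fn_pt, ← hM] at h4
    have h5 := congrArg Units.val h4
    rw [Units.coe_map] at h5
    exact h5
  rw [hε] at h1 h2
  have key := alg_key_m (eOf G c η[G]) M h1 h2
  have h6 : μ[G] = fst G G * snd G G := by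
    rw [Hom.mul_def, lift_fst_snd, Category.id_comp]
  rw [h6]
  have hX := Phi_X G c hc (fst G G) (snd G G)
  have hY := Phi_Y G c hc (fst G G) (snd G G)
  have h7 : fst G G * snd G G =
      (Phi G c (fst G G) (snd G G) ≫ pt G c (xx k)) * (Phi G c (fst G G) (snd G G) ≫ pt G c (yy k)) := by
    rw [hX, hY]
  refine h7.trans ((MonObj.comp_mul _ _ _).symm.trans ?_)
  rw [← pt_fn G c (pt G c (xx k) * pt G c (yy k)), ← hM, key]

end Pts

end

end Aux

/-- Multiplicative case. Let k be a field and consider the affine line minus the origin over k, taken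
here as the underlying k-scheme of the multiplicative group. Any two structures of k-group scheme on
it with the same unit section have the same multiplication; in particular a group law on the
punctured line whose identity is the point 1 is the usual multiplication. -/
theorem result (k : Type u) [Field k]
    (h₁ h₂ : GrpObj (Red.Gm (Spec (CommRingCat.of k)))) (e : h₁.one = h₂.one) : h₁.mul = h₂.mul := by
  have H1 := @mul_formula k _ (Red.Gm (Spec (CommRingCat.of k)))
    (fun T => ⟨GmPts.unitOfPt, GmPts.ptOfUnit, GmPts.ptOfUnit_unitOfPt, GmPts.unitOfPt_ptOfUnit⟩)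
    (fun g t => GmPts.unitOfPt_comp g t) h₁
  have H2 := @mul_formula k _ (Red.Gm (Spec (CommRingCat.of k)))
    (fun T => ⟨GmPts.unitOfPt, GmPts.ptOfUnit, GmPts.ptOfUnit_unitOfPt, GmPts.unitOfPt_ptOfUnit⟩)
    (fun g t => GmPts.unitOfPt_comp g t) h₂
  rw [e] at H1
  exact H1.trans H2.symm

end Groth.Agent.S15603
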