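import Groth.Statements.S15605
import Mathlib

set_option autoImplicit false
universe u
open TensorProduct
open AGF

namespace Groth.Agent.S15605

/-- Affine form. Let k be a field, A and A' finitely generated commutative k-algebras and S, S' sets of
k-algebra homomorphisms A → k, A' → k. The closure of a set of rational points of Spec A is cut out
by the intersection of their kernels. Compatibility of these closures with products: in A ⊗_k A',
the intersection over (σ, σ') ∈ S × S' of the kernels of σ ⊗ σ' : A ⊗_k A' → k equals the ideal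
generated by the images of ⋂_{σ} ker σ and of ⋂_{σ'} ker σ'. -/
theorem result (k A A' : Type u) [Field k] [CommRing A] [Algebra k A]
    [Algebra.FiniteType k A] [CommRing A'] [Algebra k A'] [Algebra.FiniteType k A']
    (S : Set (A →ₐ[k] k)) (S' : Set (A' →ₐ[k] k)) :
    (⨅ σ ∈ S, ⨅ σ' ∈ S', RingHom.ker ((Algebra.TensorProduct.lmul' (S := k) k).comp
        (Algebra.TensorProduct.map σ σ'))) =
      Ideal.map (Algebra.TensorProduct.includeLeft : A →ₐ[k] A ⊗[k] A') (⨅ σ ∈ S, RingHom.ker σ) ⊔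
        Ideal.map (Algebra.TensorProduct.includeRight : A' →ₐ[k] A ⊗[k] A') (⨅ σ' ∈ S', RingHom.ker σ') := by
  classical
  obtain ⟨I, hI⟩ : ∃ I : Ideal A, I = ⨅ σ ∈ S, RingHom.ker σ := ⟨_, rfl⟩
  obtain ⟨I', hI'⟩ : ∃ I' : Ideal A', I' = ⨅ σ' ∈ S', RingHom.ker σ' := ⟨_, rfl⟩
  rw [← hI, ← hI']
  have hIσ : ∀ σ ∈ S, ∀ a ∈ I, σ a = 0 := by
    intro σ hσ a ha
    rw [hI] at ha
    simp only [Ideal.mem_iInf, RingHom.mem_ker] at ha
    exact ha σ hσ
  have hI'σ : ∀ σ' ∈ S', ∀ a ∈ I', σ' a = 0 := by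
    intro σ hσ a ha
    rw [hI'] at ha
    simp only [Ideal.mem_iInf, RingHom.mem_ker] at ha
    exact ha σ hσ
  have hImem : ∀ a : A, (∀ σ ∈ S, σ a = 0) → a ∈ I := by
    intro a h
    rw [hI]
    simp only [Ideal.mem_iInf, RingHom.mem_ker]
    exact h
  have hI'mem : ∀ a : A', (∀ σ ∈ S', σ a = 0) → a ∈ I' := by
    intro a h
    rw [hI']
    simp only [Ideal.mem_iInf, RingHom.mem_ker]
    exact h
  apply le_antisymm
  · intro z hz
    have hz' : ∀ σ ∈ S, ∀ σ' ∈ S', (Algebra.TensorProduct.lmul' (S := k) k)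
        (Algebra.TensorProduct.map σ σ' z) = 0 := by
      intro σ hσ σ' hσ'
      simp only [Ideal.mem_iInf, RingHom.mem_ker] at hz
      exact hz σ hσ σ' hσ'
    have hker : RingHom.ker (Algebra.TensorProduct.map (Ideal.Quotient.mkₐ k I)
        (Ideal.Quotient.mkₐ k I')) =
        Ideal.map (Algebra.TensorProduct.includeLeft : A →ₐ[k] A ⊗[k] A') I ⊔
          Ideal.map (Algebra.TensorProduct.includeRight : A' →ₐ[k] A ⊗[k] A') I' := by
      have e1 : RingHom.ker (Ideal.Quotient.mkₐ k I) = I := by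
        ext a; rw [RingHom.mem_ker]; exact Ideal.Quotient.eq_zero_iff_mem
      have e2 : RingHom.ker (Ideal.Quotient.mkₐ k I') = I' := by
        ext a; rw [RingHom.mem_ker]; exact Ideal.Quotient.eq_zero_iff_mem
      rw [Algebra.TensorProduct.map_ker _ _ (Ideal.Quotient.mkₐ_surjective k I)
        (Ideal.Quotient.mkₐ_surjective k I'), e1, e2]
    rw [← hker, RingHom.mem_ker]
    -- zero criteria in the quotients
    have hB0 : ∀ b : A ⧸ I, (∀ σ (hσ : σ ∈ S), Ideal.Quotient.liftₐ I σ (hIσ σ hσ) b = 0) →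
        b = 0 := by
      intro b hb
      obtain ⟨a, rfl⟩ := Ideal.Quotient.mk_surjective b
      rw [Ideal.Quotient.eq_zero_iff_mem]
      exact hImem a (fun σ hσ => hb σ hσ)
    have hB'0 : ∀ b : A' ⧸ I', (∀ σ (hσ : σ ∈ S'), Ideal.Quotient.liftₐ I' σ (hI'σ σ hσ) b = 0) →
        b = 0 := by
      intro b hb
      obtain ⟨a, rfl⟩ := Ideal.Quotient.mk_surjective b
      rw [Ideal.Quotient.eq_zero_iff_mem]
      exact hI'mem a (fun σ hσ => hb σ hσ)
    obtain ⟨x, hx⟩ : ∃ x : (A ⧸ I) ⊗[k] (A' ⧸ I'), x = Algebra.TensorProduct.map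
        (Ideal.Quotient.mkₐ k I) (Ideal.Quotient.mkₐ k I') z := ⟨_, rfl⟩
    rw [← hx]
    -- the values of σ̄ ⊗ σ̄' on x vanish
    have hx0 : ∀ σ (hσ : σ ∈ S) σ' (hσ' : σ' ∈ S'), (Algebra.TensorProduct.lmul' (S := k) k)
        (Algebra.TensorProduct.map (Ideal.Quotient.liftₐ I σ (hIσ σ hσ))
          (Ideal.Quotient.liftₐ I' σ' (hI'σ σ' hσ')) x) = 0 := by
      intro σ hσ σ' hσ'
      have hcomp : (Algebra.TensorProduct.map (Ideal.Quotient.liftₐ I σ (hIσ σ hσ))
          (Ideal.Quotient.liftₐ I' σ' (hI'σ σ' hσ'))).comp (Algebra.TensorProduct.map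
            (Ideal.Quotient.mkₐ k I) (Ideal.Quotient.mkₐ k I')) =
          Algebra.TensorProduct.map σ σ' := by
        apply Algebra.TensorProduct.ext'
        intro a a'
        simp
      have e := AlgHom.congr_fun hcomp z
      rw [AlgHom.comp_apply] at e
      rw [hx, e]
      exact hz' σ hσ σ' hσ'
    obtain ⟨𝒞⟩ : Nonempty (Module.Basis (Module.Basis.ofVectorSpaceIndex k (A' ⧸ I')) k (A' ⧸ I')) :=
      ⟨Module.Basis.ofVectorSpace k (A' ⧸ I')⟩
    have h1 : ∀ (σb : (A ⧸ I) →ₐ[k] k) (σb' : (A' ⧸ I') →ₐ[k] k) (x : (A ⧸ I) ⊗[k] (A' ⧸ I')),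
        σb' (TensorProduct.lid k (A' ⧸ I') (σb.toLinearMap.rTensor (A' ⧸ I') x)) =
          (Algebra.TensorProduct.lmul' (S := k) k) (Algebra.TensorProduct.map σb σb' x) := by
      intro σb σb' x
      induction x using TensorProduct.induction_on with
      | zero => simp
      | tmul b b' => simp
      | add x y hx hy => simp only [map_add, hx, hy]
    have h2 : ∀ (σb : (A ⧸ I) →ₐ[k] k) (i) (x : (A ⧸ I) ⊗[k] (A' ⧸ I')),
        σb (TensorProduct.equivFinsuppOfBasisRight 𝒞 x i) =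
          𝒞.coord i (TensorProduct.lid k (A' ⧸ I') (σb.toLinearMap.rTensor (A' ⧸ I') x)) := by
      intro σb i x
      induction x using TensorProduct.induction_on with
      | zero => simp
      | tmul b b' =>
        rw [TensorProduct.equivFinsuppOfBasisRight_apply_tmul_apply]
        simp [mul_comm]
      | add x y hx hy => simp only [map_add, Finsupp.add_apply, hx, hy]
    have hy0 : ∀ σ (hσ : σ ∈ S), TensorProduct.lid k (A' ⧸ I')
        ((Ideal.Quotient.liftₐ I σ (hIσ σ hσ)).toLinearMap.rTensor (A' ⧸ I') x) = 0 := by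
      intro σ hσ
      apply hB'0
      intro σ' hσ'
      rw [h1]
      exact hx0 σ hσ σ' hσ'
    have hx' : TensorProduct.equivFinsuppOfBasisRight 𝒞 x = 0 := by
      ext i
      rw [Finsupp.zero_apply]
      apply hB0
      intro σ hσ
      rw [h2, hy0 σ hσ, map_zero]
    exact (TensorProduct.equivFinsuppOfBasisRight 𝒞).map_eq_zero_iff.mp hx'
  · refine sup_le ?_ ?_
    · rw [Ideal.map_le_iff_le_comap]
      intro a ha
      simp only [Ideal.mem_comap, Ideal.mem_iInf, RingHom.mem_ker]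
      intro σ hσ σ' hσ'
      show (Algebra.TensorProduct.lmul' (S := k) k) (Algebra.TensorProduct.map σ σ' (a ⊗ₜ 1)) = 0
      rw [Algebra.TensorProduct.map_tmul, Algebra.TensorProduct.lmul'_apply_tmul, hIσ σ hσ a ha,
        zero_mul]
    · rw [Ideal.map_le_iff_le_comap]
      intro a ha
      simp only [Ideal.mem_comap, Ideal.mem_iInf, RingHom.mem_ker]
      intro σ hσ σ' hσ'
      show (Algebra.TensorProduct.lmul' (S := k) k) (Algebra.TensorProduct.map σ σ' (1 ⊗ₜ a)) = 0
      rw [Algebra.TensorProduct.map_tmul, Algebra.TensorProduct.lmul'_apply_tmul, hI'σ σ' hσ' a ha,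
        mul_zero]

end Groth.Agent.S15605
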