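import Groth.Statements.S15611
import Groth.Agent.S15634

set_option autoImplicit false
universe u
open SchFin SchFin.RSpace

namespace Groth.Agent.S15611aux

open TensorProduct

set_option backward.isDefEq.respectTransparency false
set_option backward.isDefEq.respectTransparency.types false

theorem flat_epi_local_bij {R S : Type u} [CommRing R] [CommRing S] (f : R →+* S) (hflat : f.Flat)
    (hepi : ∀ {T : Type u} [CommRing T] (g₁ g₂ : S →+* T), g₁.comp f = g₂.comp f → g₁ = g₂)
    (P : Ideal S) [P.IsPrime] :
    Function.Bijective (Localization.localRingHom (P.comap f) P f rfl) := by
  have hφflat : (Localization.localRingHom (P.comap f) P f rfl).Flat :=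
    hflat.localRingHom P (P.comap f) rfl
  have hφepi : ∀ {T : Type u} [CommRing T] (g₁ g₂ : Localization.AtPrime P →+* T),
      g₁.comp (Localization.localRingHom (P.comap f) P f rfl) =
        g₂.comp (Localization.localRingHom (P.comap f) P f rfl) → g₁ = g₂ := by
    intro T _ g₁ g₂ h12
    apply IsLocalization.ringHom_ext P.primeCompl
    apply hepi
    apply RingHom.ext
    intro r
    have e := RingHom.congr_fun h12 (algebraMap R (Localization.AtPrime (P.comap f)) r)
    have e' : (Localization.localRingHom (P.comap f) P f rfl) (algebraMap R _ r) =
        algebraMap S (Localization.AtPrime P) (f r) :=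
      Localization.localRingHom_to_map _ _ _ rfl r
    show g₁ (algebraMap S _ (f r)) = g₂ (algebraMap S _ (f r))
    rw [← e']
    exact e
  letI : Algebra (Localization.AtPrime (P.comap f)) (Localization.AtPrime P) :=
    (Localization.localRingHom (P.comap f) P f rfl).toAlgebra
  haveI : Module.Flat (Localization.AtPrime (P.comap f)) (Localization.AtPrime P) := hφflat
  haveI : IsLocalHom (algebraMap (Localization.AtPrime (P.comap f)) (Localization.AtPrime P)) := by
    show IsLocalHom (Localization.localRingHom (P.comap f) P f rfl)
    infer_instance
  haveI : Module.FaithfullyFlat (Localization.AtPrime (P.comap f)) (Localization.AtPrime P) :=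
    Module.FaithfullyFlat.of_flat_of_isLocalHom
  constructor
  · exact FaithfulSMul.algebraMap_injective _ _
  · have h1 : ∀ t : Localization.AtPrime P,
        (1 : Localization.AtPrime P) ⊗ₜ[Localization.AtPrime (P.comap f)] t = t ⊗ₜ 1 := by
      intro t
      have := hφepi
        (Algebra.TensorProduct.includeLeftRingHom : Localization.AtPrime P →+*
          (Localization.AtPrime P ⊗[Localization.AtPrime (P.comap f)] Localization.AtPrime P))
        (Algebra.TensorProduct.includeRight (R := Localization.AtPrime (P.comap f))
          (A := Localization.AtPrime P) (B := Localization.AtPrime P)).toRingHom (by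
        apply RingHom.ext
        intro r
        show ((Localization.localRingHom (P.comap f) P f rfl) r) ⊗ₜ 1 =
          1 ⊗ₜ ((Localization.localRingHom (P.comap f) P f rfl) r)
        have hr : (Localization.localRingHom (P.comap f) P f rfl) r =
            r • (1 : Localization.AtPrime P) := by
          rw [Algebra.smul_def, mul_one]
          rfl
        rw [hr, TensorProduct.smul_tmul])
      exact (RingHom.congr_fun this t).symm
    have h2 : Function.Surjective
        ((Algebra.linearMap (Localization.AtPrime (P.comap f)) (Localization.AtPrime P)).lTensor
          (Localization.AtPrime P)) := by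
      intro z
      induction z using TensorProduct.induction_on with
      | zero => exact ⟨0, map_zero _⟩
      | tmul s t =>
          refine ⟨(s * t) ⊗ₜ 1, ?_⟩
          rw [LinearMap.lTensor_tmul, Algebra.linearMap_apply, map_one]
          have hst : s ⊗ₜ[Localization.AtPrime (P.comap f)] t = (s ⊗ₜ 1) * (1 ⊗ₜ t) := by
            rw [Algebra.TensorProduct.tmul_mul_tmul, mul_one, one_mul]
          rw [hst, h1 t, Algebra.TensorProduct.tmul_mul_tmul, mul_one]
      | add a b ha hb =>
          obtain ⟨a', rfl⟩ := ha
          obtain ⟨b', rfl⟩ := hb
          exact ⟨a' + b', map_add _ _ _⟩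
    exact (Module.FaithfullyFlat.lTensor_surjective_iff_surjective _ _ _).1 h2

end Groth.Agent.S15611aux

namespace Groth.Agent.S15611

open SchFin in
/-- In a schematic finite space, for points x ≤ y and a prime P of the ring of y, with Q its contraction
to the ring of x, the restriction map induces a bijection from the localization of the ring of x at
Q onto the localization of the ring of y at P. (Stated for the rings of the space themselves; the
published statement is the corresponding identification of localizations for the values of any
quasi-coherent algebra, which follows from this case by base change.) -/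
theorem result (X : RSpace.{u}) (hX : X.IsSchematic)
    {x y : X.pt} (h : x ≤ y) (P : Ideal (X.ring y)) [P.IsPrime] :
    Function.Bijective (Localization.localRingHom (P.comap (X.res h)) P (X.res h) rfl) := by
  exact Groth.Agent.S15611aux.flat_epi_local_bij (X.res h) (hX.1.2 x y h)
    (fun g₁ g₂ hg => Groth.Agent.S15634.result X hX h g₁ g₂ hg) P

end Groth.Agent.S15611
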