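import Groth.Statements.S15612
import Groth.Agent.S15611

set_option autoImplicit false
universe u
open SchFin SchFin.RSpace SchFin.RSpace.Pair

namespace Groth.Agent.S15612aux

open SchFin

set_option backward.isDefEq.respectTransparency false
set_option backward.isDefEq.respectTransparency.types false

theorem resfield_bij {A B : Type u} [CommRing A] [CommRing B] [IsLocalRing A] [IsLocalRing B]
    (φ : A →+* B) [IsLocalHom φ] (hφ : Function.Surjective φ) :
    Function.Bijective (IsLocalRing.ResidueField.map φ) := by
  refine ⟨RingHom.injective _, fun z => ?_⟩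
  obtain ⟨y, rfl⟩ := Ideal.Quotient.mk_surjective z
  obtain ⟨x, rfl⟩ := hφ y
  exact ⟨IsLocalRing.residue A x, IsLocalRing.ResidueField.map_residue φ x⟩

theorem main (X : RSpace.{u}) (hX : X.IsSchematic) (a b : X.Pair)
    (h : a.1 ≤ b.1) (hp : PrimeSpectrum.comap (X.res h) b.2 = a.2) :
    Function.Bijective (RSpace.Pair.κMap a b h hp) := by
  obtain ⟨x, Pa⟩ := a
  obtain ⟨y, Pb⟩ := b
  change x ≤ y at h
  change PrimeSpectrum.comap (X.res h) Pb = Pa at hp
  subst hp
  have hb := Groth.Agent.S15611.result X hX h Pb.asIdeal
  show Function.Bijective (IsLocalRing.ResidueField.map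
    (Localization.localRingHom (Pb.asIdeal.comap (X.res h)) Pb.asIdeal (X.res h) rfl))
  exact resfield_bij _ hb.2

end Groth.Agent.S15612aux

namespace Groth.Agent.S15612

open SchFin in
/-- In a schematic finite space, for a pair (x, P) below a pair (y, Q) (x ≤ y and P the contraction of
the prime Q along the restriction map of rings) the induced map of residue fields from that of (x,
P) to that of (y, Q) is bijective. -/
theorem result (X : RSpace.{u}) (hX : X.IsSchematic) (a b : X.Pair)
    (h : a.1 ≤ b.1) (hp : PrimeSpectrum.comap (X.res h) b.2 = a.2) :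
    Function.Bijective (RSpace.Pair.κMap a b h hp) := by
  exact Groth.Agent.S15612aux.main X hX a b h hp

end Groth.Agent.S15612
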