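import Groth.Statements.S15613
import Groth.Agent.Lib.Helper22.SchH0

set_option autoImplicit false
universe u
open SchFin SchFin.GeomPt

namespace Groth.Agent.S15613aux

open SchFin SchFin.RSpace TensorProduct Groth.Agent.Helper22.SchH0

set_option backward.isDefEq.respectTransparency false
set_option backward.isDefEq.respectTransparency.types false
set_option maxHeartbeats 400000

theorem main (X : RSpace.{u}) (hX : X.IsSchematic) {Ω : Type u} [Field Ω]
    [IsAlgClosed Ω] (ξ : GeomPt X Ω) {x' : X.pt} (hx : ξ.base < x') (P : Ideal (X.ring x'))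
    [P.IsPrime] : P.comap (X.res hx.le) ≠ RingHom.ker ξ.toField := by
  intro hP
  have cond := (ξ.isSchematic.2.2 0 PUnit.unit PUnit.unit (le_refl _) ξ.base x' hx.le).2
  let U : Set (RSpace.point Ω).pt := ξ.hom.wedge PUnit.unit ξ.base
  let U' : Set (RSpace.point Ω).pt := ξ.hom.wedge PUnit.unit x'
  let φ : Coef (RSpace.point Ω) U (X.ring ξ.base) :=
    Coef.ofHom ξ.hom ξ.base U (ξ.hom.wedge_subset_pre PUnit.unit ξ.base)
  let φ' : Coef (RSpace.point Ω) U' (X.ring x') :=
    Coef.ofHom ξ.hom x' U' (ξ.hom.wedge_subset_pre PUnit.unit x')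
  have hU' : ∀ q : U', False := fun q => not_le_of_gt hx q.2.2
  have hsub : ∀ h : H φ' (RSpace.point Ω).str 0, h = 0 := by
    intro h
    obtain ⟨c, rfl⟩ := Submodule.mkQ_surjective _ h
    have hc : c = 0 := Subtype.ext (funext fun σ => (hU' (σ 0)).elim)
    rw [hc, map_zero]
  have hcomm : PrimeSpectrum.comap (X.res hx.le) ⟨P, inferInstance⟩ =
      PrimeSpectrum.comap ξ.toField ⟨⊥, Ideal.isPrime_bot⟩ :=
    PrimeSpectrum.ext hP
  obtain ⟨N, _, gS, gT, m, hcomp, -, -⟩ :=
    exists_common_field (X.res hx.le) ξ.toField ⟨P, inferInstance⟩ ⟨⊥, Ideal.isPrime_bot⟩ hcomm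
  have hN : (1 : N) ≠ 0 := by
    intro h10
    have h1 : (1 : N) ∈ m.asIdeal := by
      rw [h10]
      exact m.asIdeal.zero_mem
    exact m.2.ne_top ((Ideal.eq_top_iff_one _).2 h1)
  letI : Algebra (X.ring ξ.base) (X.ring x') := (X.res hx.le).toAlgebra
  letI : Module (X.ring ξ.base) (H φ' (RSpace.point Ω).str 0) := Module.compHom _ (X.res hx.le)
  haveI : IsScalarTower (X.ring ξ.base) (X.ring x') (H φ' (RSpace.point Ω).str 0) :=
    IsScalarTower.of_algebraMap_smul fun _ _ => rfl
  let ρ : H φ (RSpace.point Ω).str 0 →ₗ[X.ring ξ.base] H φ' (RSpace.point Ω).str 0 :=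
    { toFun := resH (RSpace.point Ω).str (ξ.hom.subTgt PUnit.unit hx.le) 0
      map_add' := (resH (RSpace.point Ω).str (ξ.hom.subTgt PUnit.unit hx.le) 0).map_add
      map_smul' := (resH (RSpace.point Ω).str (ξ.hom.subTgt PUnit.unit hx.le) 0).map_smulₛₗ }
  have hbc : IsBaseChange (X.ring x') ρ := cond
  letI : Module (X.ring x') N := Module.compHom N gS
  letI : Module (X.ring ξ.base) N := Module.compHom N (gS.comp (X.res hx.le))
  haveI : IsScalarTower (X.ring ξ.base) (X.ring x') N :=
    IsScalarTower.of_algebraMap_smul fun _ _ => rfl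
  let u₀ : U := ⟨PUnit.unit, ⟨le_refl _, le_refl ξ.base⟩⟩
  let evc : ↥(cocycles φ (RSpace.point Ω).str 0) →ₗ[X.ring ξ.base] N :=
    { toFun := fun c => gT (c.1 (pt0 u₀))
      map_add' := fun c c' => map_add gT _ _
      map_smul' := fun a c => by
        show gT (ξ.toField (X.res _ a) * (show Ω from c.1 (pt0 u₀))) =
          gS (X.res hx.le a) * gT (show Ω from c.1 (pt0 u₀))
        rw [map_mul, X.res_self]
        congr 1
        exact (RingHom.congr_fun hcomp a).symm }
  let ev : H φ (RSpace.point Ω).str 0 →ₗ[X.ring ξ.base] N := Submodule.liftQ _ evc (by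
    intro c hc
    have h0 : c.1 = 0 := (Submodule.mem_bot (X.ring ξ.base)).1 hc
    show gT (c.1 (pt0 u₀)) = 0
    rw [h0]
    exact map_zero gT)
  have h1 := hbc.lift_eq ev (H.mk φ (RSpace.point Ω).str 0 (ofSect φ 1))
  rw [hsub (ρ _), map_zero] at h1
  have h2 : ev (H.mk φ (RSpace.point Ω).str 0 (ofSect φ 1)) = 1 := map_one gT
  rw [h2] at h1
  exact hN h1.symm

end Groth.Agent.S15613aux

namespace Groth.Agent.S15613

open SchFin in
/-- For a geometric point of a schematic finite space with values in an algebraically closed field,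
hitting the point x with ring map from the ring of x to the field, the kernel of that ring map does
not lift to any point strictly above x: no prime of the ring of such a point contracts to it along
the restriction map. -/
theorem result (X : RSpace.{u}) (hX : X.IsSchematic) {Ω : Type u} [Field Ω]
    [IsAlgClosed Ω] (ξ : GeomPt X Ω) {x' : X.pt} (hx : ξ.base < x') (P : Ideal (X.ring x')) [P.IsPrime] :
    P.comap (X.res hx.le) ≠ RingHom.ker ξ.toField := by
  exact Groth.Agent.S15613aux.main X hX ξ hx P

end Groth.Agent.S15613
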