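import Groth.Statements.S1563
import Mathlib
import Groth.Agent.S1347
import Groth.Agent.H29.FFDescent

set_option autoImplicit false
universe u
open CategoryTheory CategoryTheory.Limits AlgebraicGeometry
open Variety

namespace Groth.Agent.S1563

section Helpers
open AlgebraicGeometry CategoryTheory Limits IsLocalRing
open Groth.Agent.S1347

theorem exists_point_isPullback1563 {P X Y Z : Scheme.{u}} {a : P ⟶ X} {b : P ⟶ Y} {f : X ⟶ Z}
    {g : Y ⟶ Z} (h : IsPullback a b f g) (x : X) (y : Y) (hxy : f x = g y) :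
    ∃ p : P, a p = x ∧ b p = y := by
  obtain ⟨z, hz1, hz2⟩ := Scheme.Pullback.exists_preimage_pullback x y hxy
  refine ⟨h.isoPullback.inv z, ?_, ?_⟩
  · rw [← Scheme.Hom.comp_apply, h.isoPullback_inv_fst]; exact hz1
  · rw [← Scheme.Hom.comp_apply, h.isoPullback_inv_snd]; exact hz2

/-- Regularity descends along flat local homomorphisms (no Noetherian hypothesis on the source). -/
theorem reg_descent1563 {A B : Type u} [CommRing A] [CommRing B] [IsLocalRing A] [IsLocalRing B]
    (φ : A →+* B) [IsLocalHom φ] (hφ : φ.Flat) (hB : IsRegularLocalRing B) :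
    IsRegularLocalRing A := by
  letI : Algebra A B := φ.toAlgebra
  haveI : Module.Flat A B := hφ
  haveI : IsLocalHom (algebraMap A B) := ‹IsLocalHom φ›
  haveI : Module.FaithfullyFlat A B := Module.FaithfullyFlat.of_flat_of_isLocalHom
  haveI : IsNoetherianRing A := Groth.Agent.H29.FFDescent.isNoetherianRing_descent A B
  exact Groth.Agent.H29.FFDescent.isRegularLocalRing_descent A B

set_option backward.isDefEq.respectTransparency false in
theorem main1563 (k : Type u) [Field k] (X Y : Scheme.{u}) [X.Over (Spec (CommRingCat.of k))]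
    [Y.Over (Spec (CommRingCat.of k))] (f : X ⟶ Y)
    (hf : f ≫ (Y ↘ (Spec (CommRingCat.of k))) = X ↘ (Spec (CommRingCat.of k)))
    (x : X) (hflat : (f.stalkMap x).hom.Flat) (hx : Curv2.IsGeomRegularAt k X x) :
    Curv2.IsGeomRegularAt k Y (f x) := by
  intro k' _ _ hfg y' hy'
  obtain ⟨f', hf1, hf2⟩ : ∃ f' : Curv2.bc k X k' ⟶ Curv2.bc k Y k',
      f' ≫ Curv2.bcFst k Y k' = Curv2.bcFst k X k' ≫ f ∧
      f' ≫ Curv2.bcSnd k Y k' = Curv2.bcSnd k X k' :=
    ⟨pullback.map _ _ _ _ f (𝟙 _) (𝟙 _) (by simp [hf]) (by simp), by simp, by simp⟩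
  have hB : IsPullback (Curv2.bcFst k Y k') (Curv2.bcSnd k Y k')
      (Y ↘ (Spec (CommRingCat.of k))) (Spec.map (CommRingCat.ofHom (algebraMap k k'))) :=
    IsPullback.of_hasPullback _ _
  have hS : IsPullback (Curv2.bcFst k X k') (f' ≫ Curv2.bcSnd k Y k')
      (f ≫ (Y ↘ (Spec (CommRingCat.of k)))) (Spec.map (CommRingCat.ofHom (algebraMap k k'))) := by
    rw [hf2, hf]; exact IsPullback.of_hasPullback _ _
  have hL : IsPullback (Curv2.bcFst k X k') f' f (Curv2.bcFst k Y k') :=
    IsPullback.of_bot hS hf1.symm hB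
  obtain ⟨x', h1, h2⟩ := exists_point_isPullback1563 hL x y' hy'.symm
  have hreg := hx k' hfg x' h1
  have hfl : (f'.stalkMap x').hom.Flat :=
    flatBC_at1347 (Curv2.bcFst k Y k') (Curv2.bcFst k X k') f' f hL.flip x'
      (by rw [h1]; exact hflat)
  have hr : IsRegularLocalRing ((Curv2.bc k Y k').presheaf.stalk (f' x')) :=
    reg_descent1563 (f'.stalkMap x').hom hfl hreg
  rw [h2] at hr
  exact hr

end Helpers

/-- Geometric regularity descends along a morphism f of locally Noetherian k-schemes which is flat at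
the point x (the map of local rings at x is flat): if X has it at x then Y has it at f(x). -/
theorem result (k : Type u) [Field k] (X Y : Scheme.{u}) [X.Over (Spec (CommRingCat.of k))] [Y.Over (Spec (CommRingCat.of k))]
    [IsLocallyNoetherian X] [IsLocallyNoetherian Y] (f : X ⟶ Y) (hf : f ≫ (Y ↘ (Spec (CommRingCat.of k))) = X ↘ (Spec (CommRingCat.of k)))
    (x : X) (hflat : (f.stalkMap x).hom.Flat) (hx : Curv2.IsGeomRegularAt k X x) :
    Curv2.IsGeomRegularAt k Y (f.base x) := by
  exact main1563 k X Y f hf x hflat hx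

end Groth.Agent.S1563
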