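import Groth.Statements.S1570
import Mathlib
import Groth.Agent.Lib.Helper4.LocalPrincipal

set_option autoImplicit false
universe u
open CategoryTheory CategoryTheory.Limits AlgebraicGeometry
open Divisors

namespace Groth.Agent.S1570

/-- Let X be locally Noetherian and D a closed subscheme with ideal sheaf I. If for every point x of D
the ideal generated by I in the local ring at x is generated by one nonzerodivisor, then D is an
effective Cartier divisor. -/
theorem result (X : Scheme.{u}) [IsLocallyNoetherian X]
    (D : X.IdealSheafData)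
    (h : ∀ x ∈ D.support, ∀ (U : X.affineOpens) (hx : x ∈ (U : X.Opens)),
      ∃ g : X.presheaf.stalk x, g ∈ nonZeroDivisors (X.presheaf.stalk x) ∧
        (D.ideal U).map (X.presheaf.germ U x hx).hom = Ideal.span {g}) :
    BlowUp.IsEffCartierIdeal D := by
  intro x
  by_cases hx : x ∈ D.support
  · obtain ⟨_, ⟨U₀, hU₀, rfl⟩, hxU₀, -⟩ :=
      X.isBasis_affineOpens.exists_subset_of_mem_open (Set.mem_univ x) isOpen_univ
    obtain ⟨g₀, hg₀, hg₀I⟩ := h x hx ⟨U₀, hU₀⟩ hxU₀
    exact Groth.Agent.Helper4.LocalPrincipal.exists_affine_principal D x ⟨U₀, hU₀⟩ hxU₀ g₀ hg₀ hg₀I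
  · exact Groth.Agent.Helper4.LocalPrincipal.exists_affine_top D x hx

end Groth.Agent.S1570
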