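import Groth.Statements.S15706
import Mathlib.RingTheory.Ideal.AssociatedPrime.Finiteness
import Mathlib.RingTheory.Ideal.MinimalPrime.Localization
import Mathlib.Tactic

set_option autoImplicit false
universe u
open CAlg

namespace Groth.Agent.S15706

/-- Let A be a Noetherian ring with Serre's property (S_1), stated here in the equivalent form that
every associated prime of A is a minimal prime of A. Let I be an ideal of A and b an element of A/I
which is regular (a non-zero-divisor) in A/I. Then b is the image of a regular element of A. -/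
theorem result (A : Type u) [CommRing A]
    [IsNoetherianRing A] (hS1 : ∀ p ∈ associatedPrimes A A, p ∈ minimalPrimes A) (I : Ideal A)
    (b : A ⧸ I) (hb : b ∈ nonZeroDivisors (A ⧸ I)) :
    ∃ a : A, a ∈ nonZeroDivisors A ∧ Ideal.Quotient.mk I a = b := by
  classical
  obtain ⟨a₀, rfl⟩ := Ideal.Quotient.mk_surjective b
  have hfin : (associatedPrimes A A).Finite := associatedPrimes.finite A A
  obtain ⟨S, hS⟩ : ∃ S : Finset (Ideal A), ∀ p, p ∈ S ↔ p ∈ associatedPrimes A A :=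
    ⟨hfin.toFinset, fun p => hfin.mem_toFinset⟩
  obtain ⟨S₁, hS₁⟩ : ∃ S₁ : Finset (Ideal A), ∀ p, p ∈ S₁ ↔ p ∈ S ∧ a₀ ∈ p :=
    ⟨S.filter (fun p => a₀ ∈ p), fun p => Finset.mem_filter⟩
  obtain ⟨S₂, hS₂⟩ : ∃ S₂ : Finset (Ideal A), ∀ p, p ∈ S₂ ↔ p ∈ S ∧ a₀ ∉ p :=
    ⟨S.filter (fun p => a₀ ∉ p), fun p => Finset.mem_filter⟩
  have hprime : ∀ p ∈ S, p.IsPrime := fun p hp => ((hS p).mp hp).isPrime
  have hmin : ∀ p ∈ S, p ∈ minimalPrimes A := fun p hp => hS1 p ((hS p).mp hp)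
  have hK : ¬ (((I * ∏ q ∈ S₂, q : Ideal A) : Set A) ⊆ ⋃ p ∈ (S₁ : Set (Ideal A)), (p : Set A)) := by
    intro hsub
    rw [Ideal.subset_union_prime (f := fun p : Ideal A => p) ⊥ ⊥
      (fun p hp _ _ => hprime p ((hS₁ p).mp hp).1)] at hsub
    obtain ⟨p, hp₁, hKp⟩ := hsub
    have hpS : p ∈ S := ((hS₁ p).mp hp₁).1
    have ha₀p : a₀ ∈ p := ((hS₁ p).mp hp₁).2
    have hpp := hprime p hpS
    rcases hpp.mul_le.mp hKp with hIp | hprod
    · have hpmin : p ∈ I.minimalPrimes := by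
        have h1 := hmin p hpS
        refine ⟨⟨hpp, hIp⟩, ?_⟩
        rintro q ⟨hq, _⟩ hqp
        exact h1.2 ⟨hq, bot_le⟩ hqp
      have h2 : p ∈ ((⊥ : Ideal (A ⧸ I)).comap (Ideal.Quotient.mk I)).minimalPrimes := by
        rw [← RingHom.ker_eq_comap_bot, Ideal.mk_ker]; exact hpmin
      rw [Ideal.comap_minimalPrimes_eq_of_surjective Ideal.Quotient.mk_surjective] at h2
      obtain ⟨P, hP, rfl⟩ := h2
      have h3 : Ideal.Quotient.mk I a₀ ∈ P := ha₀p
      exact notMem_nonZeroDivisors_of_mem_mem_minimalPrimes h3 hP hb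
    · obtain ⟨q, hq₂, hqp⟩ := hpp.prod_le.mp hprod
      have hqS : q ∈ S := ((hS₂ q).mp hq₂).1
      have ha₀q : a₀ ∉ q := ((hS₂ q).mp hq₂).2
      have h4 : p ≤ q := (hmin p hpS).2 ⟨hprime q hqS, bot_le⟩ hqp
      exact ha₀q (h4 ha₀p)
  rw [Set.not_subset] at hK
  obtain ⟨y, hyK, hy⟩ := hK
  have hyI : y ∈ I := Ideal.mul_le_left hyK
  have hyq : ∀ q ∈ S₂, y ∈ q := by
    intro q hq
    have h1 : y ∈ ∏ q ∈ S₂, q := Ideal.mul_le_right hyK
    exact (Finset.inf_le hq : S₂.inf (fun q => q) ≤ q) (Ideal.prod_le_inf h1)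
  refine ⟨a₀ + y, ?_, ?_⟩
  · by_contra hnz
    have h5 : a₀ + y ∈ ⋃ p ∈ associatedPrimes A A, (p : Set A) := by
      rw [biUnion_associatedPrimes_eq_compl_nonZeroDivisors]; exact hnz
    simp only [Set.mem_iUnion, SetLike.mem_coe, exists_prop] at h5
    obtain ⟨p, hpA, hap⟩ := h5
    have hpS : p ∈ S := (hS p).mpr hpA
    by_cases ha₀p : a₀ ∈ p
    · apply hy
      simp only [Set.mem_iUnion, SetLike.mem_coe, exists_prop]
      refine ⟨p, (hS₁ p).mpr ⟨hpS, ha₀p⟩, ?_⟩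
      have e : y = (a₀ + y) - a₀ := by ring
      rw [e]; exact p.sub_mem hap ha₀p
    · have h6 := hyq p ((hS₂ p).mpr ⟨hpS, ha₀p⟩)
      apply ha₀p
      have e : a₀ = (a₀ + y) - y := by ring
      rw [e]; exact p.sub_mem hap h6
  · rw [map_add, Ideal.Quotient.eq_zero_iff_mem.mpr hyI, add_zero]

end Groth.Agent.S15706
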