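import Groth.Statements.S15708
import Mathlib.RingTheory.Ideal.Operations
import Mathlib.Tactic

set_option autoImplicit false
universe u v
open CAlg

namespace Groth.Agent.S15708

open DirectSum

section
variable {R : Type u} {A : Type v} [CommRing R] [CommRing A] [Algebra R A]
  (𝒜 : ℕ → Submodule R A) [GradedRing 𝒜]

/-- An element outside an ideal has a homogeneous component outside it. -/
theorem exists_component_not_mem (q : Ideal A) (a : A) (ha : a ∉ q) :
    ∃ i, (decompose 𝒜 a i : A) ∉ q := by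
  classical
  by_contra hcon
  apply ha
  rw [← DirectSum.sum_support_decompose 𝒜 a]
  refine q.sum_mem (fun i _ => ?_)
  by_contra h
  exact hcon ⟨i, h⟩

theorem exists_homog_pos (J : Ideal A) (hJ : J.IsHomogeneous 𝒜) (q : Ideal A) [q.IsPrime]
    (h1 : ¬ (HomogeneousIdeal.irrelevant 𝒜).toIdeal ≤ q) (h2 : ¬ J ≤ q) :
    ∃ (y : A) (n : ℕ), 0 < n ∧ y ∈ 𝒜 n ∧ y ∈ J ∧ y ∉ q := by
  rw [SetLike.not_le_iff_exists] at h1 h2
  obtain ⟨a, haI, haq⟩ := h1
  obtain ⟨j, hjJ, hjq⟩ := h2
  obtain ⟨k, hk⟩ := exists_component_not_mem 𝒜 q a haq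
  obtain ⟨i, hi⟩ := exists_component_not_mem 𝒜 q j hjq
  have hk0 : k ≠ 0 := by
    rintro rfl
    apply hk
    have h3 : (decompose 𝒜 a 0 : A) = 0 := haI
    rw [h3]; exact q.zero_mem
  refine ⟨(decompose 𝒜 j i : A) * (decompose 𝒜 a k : A), i + k, by omega,
    SetLike.mul_mem_graded (SetLike.coe_mem _) (SetLike.coe_mem _),
    J.mul_mem_right _ (hJ i hjJ), ?_⟩
  intro hmem
  rcases Ideal.IsPrime.mem_or_mem inferInstance hmem with h | h
  · exact hi h
  · exact hk h

theorem main (J : Ideal A) (hJ : J.IsHomogeneous 𝒜) : ∀ (n : ℕ) (P : Finset (Ideal A)), P.card = n →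
    (∀ p ∈ P, p.IsPrime ∧ ¬ (HomogeneousIdeal.irrelevant 𝒜).toIdeal ≤ p ∧ ¬ J ≤ p) →
    ∃ (z : A) (m : ℕ), 0 < m ∧ z ∈ 𝒜 m ∧ z ∈ J ∧ ∀ p ∈ P, z ∉ p := by
  intro n
  induction n using Nat.strong_induction_on with
  | _ n ih =>
    intro P hcard hP
    classical
    rcases P.eq_empty_or_nonempty with rfl | ⟨q, hq⟩
    · exact ⟨0, 1, one_pos, zero_mem _, zero_mem _, by simp⟩
    obtain ⟨hqprime, hq1, hq2⟩ := hP q hq
    by_cases hA : ∃ p ∈ P.erase q, ∀ (x : A) (i : ℕ), x ∈ 𝒜 i → x ∈ p → x ∈ q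
    · obtain ⟨p, hp, hpq⟩ := hA
      have hpP : p ∈ P := Finset.mem_of_mem_erase hp
      have hcard' : (P.erase p).card < n := by
        rw [← hcard]; exact Finset.card_erase_lt_of_mem hpP
      obtain ⟨z, m, hm, hz, hzJ, hzP⟩ := ih _ hcard' (P.erase p) rfl
        (fun p' hp' => hP p' (Finset.mem_of_mem_erase hp'))
      refine ⟨z, m, hm, hz, hzJ, ?_⟩
      intro p' hp'
      by_cases hpp' : p' = p
      · subst hpp'
        intro hzp
        have hqne : q ≠ p' := (Finset.ne_of_mem_erase hp).symm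
        exact hzP q (Finset.mem_erase.mpr ⟨hqne, hq⟩) (hpq z m hz hzp)
      · exact hzP p' (Finset.mem_erase.mpr ⟨hpp', hp'⟩)
    · have hA' : ∀ p ∈ P.erase q, ∃ (x : A) (i : ℕ), x ∈ 𝒜 i ∧ x ∈ p ∧ x ∉ q := by
        intro p hp
        by_contra hcon
        apply hA
        refine ⟨p, hp, fun x i hxi hxp => ?_⟩
        by_contra hxq
        exact hcon ⟨x, i, hxi, hxp, hxq⟩
      have hcard' : (P.erase q).card < n := by
        rw [← hcard]; exact Finset.card_erase_lt_of_mem hq
      obtain ⟨z, m, hm, hz, hzJ, hzP⟩ := ih _ hcard' (P.erase q) rfl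
        (fun p' hp' => hP p' (Finset.mem_of_mem_erase hp'))
      by_cases hzq : z ∈ q
      · choose! x deg hx using hA'
        obtain ⟨y, k, hk, hy, hyJ, hyq⟩ := exists_homog_pos 𝒜 J hJ q hq1 hq2
        have hw_deg : y * ∏ p ∈ P.erase q, x p ∈ 𝒜 (k + ∑ p ∈ P.erase q, deg p) :=
          SetLike.mul_mem_graded hy
            (SetLike.prod_mem_graded 𝒜 deg x (fun p hp => (hx p hp).1))
        have hwJ : y * ∏ p ∈ P.erase q, x p ∈ J := J.mul_mem_right _ hyJ
        have hwq : y * ∏ p ∈ P.erase q, x p ∉ q := by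
          intro hmem
          rcases Ideal.IsPrime.mem_or_mem hqprime hmem with h | h
          · exact hyq h
          · rw [Ideal.IsPrime.prod_mem_iff] at h
            obtain ⟨p, hp, hxp⟩ := h
            exact (hx p hp).2.2 hxp
        have hwp : ∀ p ∈ P.erase q, y * ∏ p ∈ P.erase q, x p ∈ p := by
          intro p hp
          rw [← Finset.mul_prod_erase _ _ hp]
          exact p.mul_mem_left _ (p.mul_mem_right _ (hx p hp).2.1)
        obtain ⟨w, hw⟩ : ∃ w, w = y * ∏ p ∈ P.erase q, x p := ⟨_, rfl⟩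
        obtain ⟨K, hK⟩ : ∃ K, K = k + ∑ p ∈ P.erase q, deg p := ⟨_, rfl⟩
        rw [← hw, ← hK] at hw_deg
        rw [← hw] at hwJ hwq hwp
        have hKpos : 0 < K := by omega
        have h1 : z ^ K ∈ 𝒜 (K * m) := by
          have := SetLike.pow_mem_graded K hz
          rwa [smul_eq_mul] at this
        have h2 : w ^ m ∈ 𝒜 (K * m) := by
          have := SetLike.pow_mem_graded m hw_deg
          rwa [smul_eq_mul, mul_comm] at this
        refine ⟨z ^ K + w ^ m, K * m, Nat.mul_pos hKpos hm, Submodule.add_mem _ h1 h2,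
          J.add_mem (Ideal.pow_mem_of_mem J hzJ K hKpos) (Ideal.pow_mem_of_mem J hwJ m hm), ?_⟩
        intro p hp
        by_cases hpq : p = q
        · subst hpq
          intro hmem
          have h3 : w ^ m ∈ p := by
            have h4 : w ^ m = (z ^ K + w ^ m) - z ^ K := by ring
            rw [h4]
            exact p.sub_mem hmem (Ideal.pow_mem_of_mem p hzq K hKpos)
          exact hwq (hqprime.mem_of_pow_mem m h3)
        · have hp' : p ∈ P.erase q := Finset.mem_erase.mpr ⟨hpq, hp⟩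
          intro hmem
          have h3 : z ^ K ∈ p := by
            have h4 : z ^ K = (z ^ K + w ^ m) - w ^ m := by ring
            rw [h4]
            exact p.sub_mem hmem (Ideal.pow_mem_of_mem p (hwp p hp') m hm)
          exact hzP p hp' ((hP p hp).1.mem_of_pow_mem K h3)
      · refine ⟨z, m, hm, hz, hzJ, ?_⟩
        intro p hp
        by_cases hpq : p = q
        · subst hpq; exact hzq
        · exact hzP p (Finset.mem_erase.mpr ⟨hpq, hp⟩)

end

/-- Let A be a Noetherian commutative ring graded by the natural numbers, J a homogeneous ideal, and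
p_1, ..., p_r finitely many prime ideals such that no p_i contains the irrelevant ideal A_+ and no
p_i contains J. Then there is a homogeneous element z of positive degree with z in J and z in no
p_i. -/
theorem result {R : Type u} {A : Type v} [CommRing R] [CommRing A]
    [Algebra R A] [IsNoetherianRing A] (𝒜 : ℕ → Submodule R A) [GradedRing 𝒜]
    (J : Ideal A) (hJ : J.IsHomogeneous 𝒜) (P : Finset (Ideal A))
    (hP : ∀ p ∈ P, p.IsPrime ∧ ¬ (HomogeneousIdeal.irrelevant 𝒜).toIdeal ≤ p ∧ ¬ J ≤ p) :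
    ∃ (z : A) (n : ℕ), 0 < n ∧ z ∈ 𝒜 n ∧ z ∈ J ∧ ∀ p ∈ P, z ∉ p := by
  exact main 𝒜 J hJ P.card P rfl hP

end Groth.Agent.S15708
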