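import Groth.Statements.S1571
import Mathlib
import Groth.Agent.Lib.Helper4.CartierDense

set_option autoImplicit false
universe u
open CategoryTheory CategoryTheory.Limits AlgebraicGeometry
open Divisors

namespace Groth.Agent.S1571

/-- The open complement of an effective Cartier divisor is an affine open immersion and is
scheme-theoretically dense. -/
theorem result (S : Scheme.{u}) (D : S.IdealSheafData) (hD : BlowUp.IsEffCartierIdeal D) :
    IsAffineHom (Scheme.Opens.ι (X := S) D.support.compl) ∧ IsSchemeTheoreticallyDominant (Scheme.Opens.ι (X := S) D.support.compl) := by
  exact ⟨Groth.Agent.Helper4.CartierDense.isAffineHom_compl D hD,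
    Groth.Agent.Helper4.CartierDense.isSchemeTheoreticallyDominant_compl D hD⟩

end Groth.Agent.S1571
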