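import Groth.Statements.S15712
import Mathlib
import Groth.Agent.H29.DepthLib

set_option autoImplicit false
universe u
open CategoryTheory AlgebraicGeometry TopologicalSpace
open RatSing

namespace Groth.Agent.S15712


set_option linter.style.haveILetI false
set_option linter.unusedSectionVars false

open CategoryTheory AlgebraicGeometry TopologicalSpace IsLocalRing

/-- A dense open subset of the spectrum of a Noetherian ring contains every minimal prime. -/
theorem minimal_mem_dense (A : Type u) [CommRing A] [IsNoetherianRing A]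
    (W : Set (PrimeSpectrum A)) (hWo : IsOpen W) (hWd : Dense W)
    (p : PrimeSpectrum A) (hp : p.asIdeal ∈ minimalPrimes A) : p ∈ W := by
  classical
  have hfin : (minimalPrimes A).Finite := minimalPrimes.finite_of_isNoetherianRing A
  set F : Finset (Ideal A) := hfin.toFinset.erase p.asIdeal with hF
  have hK : ¬ (F.inf id) ≤ p.asIdeal := by
    intro hle
    obtain ⟨q, hqF, hqp⟩ := (Ideal.IsPrime.inf_le' p.2).mp hle
    have hqmin : q ∈ minimalPrimes A := by
      have := Finset.mem_of_mem_erase hqF
      simpa using this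
    have hne : q ≠ p.asIdeal := Finset.ne_of_mem_erase hqF
    have h2 : p.asIdeal ≤ q := hp.2 ⟨hqmin.1.1, bot_le⟩ hqp
    exact hne (le_antisymm hqp h2)
  obtain ⟨t, htK, htp⟩ := SetLike.not_le_iff_exists.mp hK
  have hpt : p ∈ (PrimeSpectrum.basicOpen t : Set (PrimeSpectrum A)) := htp
  obtain ⟨y, hyt, hyW⟩ := hWd.inter_open_nonempty _ (PrimeSpectrum.basicOpen t).2 ⟨p, hpt⟩
  obtain ⟨q, hqmin, hqy⟩ := Ideal.exists_minimalPrimes_le (bot_le : (⊥ : Ideal A) ≤ y.asIdeal)
  have hqp : q = p.asIdeal := by
    by_contra hne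
    have hqF : q ∈ F := Finset.mem_erase.mpr ⟨hne, by simpa using hqmin⟩
    have h1 : F.inf id ≤ id q := Finset.inf_le hqF
    exact hyt (hqy (h1 htK))
  have hpy : p ≤ y := by
    rw [← PrimeSpectrum.asIdeal_le_asIdeal, ← hqp]
    exact hqy
  have hspec : p ⤳ y := (PrimeSpectrum.le_iff_specializes p y).mp hpy
  exact hspec.mem_open hWo hyW

/-- The algebraic core: on a Noetherian ring without embedded primes, a function vanishing near every
point of a dense open subset of the spectrum is zero. -/
theorem alg_main (A : Type u) [CommRing A] [IsNoetherianRing A]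
    (W : Set (PrimeSpectrum A)) (hWo : IsOpen W) (hWd : Dense W)
    (hS1 : ∀ p : Ideal A, p ∈ associatedPrimes A A → p ∈ minimalPrimes A)
    (s : A) (hs : ∀ y ∈ W, ∃ g : A, g ∉ y.asIdeal ∧ g * s = 0) : s = 0 := by
  by_contra hs0
  set N : Submodule A A := Submodule.span A {s} with hN
  haveI : Nontrivial N :=
    ⟨⟨⟨s, Submodule.mem_span_singleton_self s⟩, 0, fun h => hs0 (congrArg Subtype.val h)⟩⟩
  obtain ⟨p, hp⟩ := associatedPrimes.nonempty A N
  have hpA : p ∈ associatedPrimes A A :=
    associatedPrimes.subset_of_injective (f := N.subtype) N.injective_subtype hp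
  have hann : Module.annihilator A N ≤ p :=
    Groth.Agent.H29.annihilator_le_of_mem_associatedPrimes A N p hp
  have hpmin := hS1 p hpA
  haveI hpp : p.IsPrime := hpmin.1.1
  have hpW : (⟨p, hpp⟩ : PrimeSpectrum A) ∈ W := minimal_mem_dense A W hWo hWd ⟨p, hpp⟩ hpmin
  obtain ⟨g, hg, hgs⟩ := hs _ hpW
  apply hg
  apply hann
  rw [Module.mem_annihilator]
  rintro ⟨n, hn⟩
  obtain ⟨a, rfl⟩ := Submodule.mem_span_singleton.mp hn
  apply Subtype.ext
  show g • (a • s) = 0
  rw [smul_eq_mul, smul_eq_mul, mul_left_comm, hgs, mul_zero]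

/-- Let X be a locally Noetherian scheme with Serre's property (S_1), i.e. every local ring O_{X,x} has
depth at least min(1, dim O_{X,x}) (for instance X Cohen–Macaulay), and let U ⊆ X be open. Then
scheme-theoretic density of U in X is equivalent to U being dense as a subset. (The published
statement assumes every scheme excellent, in particular locally Noetherian.) -/
theorem result (X : Scheme.{u}) [IsLocallyNoetherian X]
    (hS1 : ∀ x : X, min (1 : WithBot ℕ∞) (ringKrullDim (X.presheaf.stalk x)) ≤
      ((LocCoh.depth (X.presheaf.stalk x) (X.presheaf.stalk x) : ℕ∞) : WithBot ℕ∞))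
    (U : X.Opens) : CInt.IsSchematicallyDense U ↔ Dense (U : Set X) := by

  constructor
  · intro h
    rw [dense_iff_inter_open]
    intro V hV hVne
    by_contra hempty
    rw [Set.not_nonempty_iff_eq_empty] at hempty
    let V' : X.Opens := ⟨V, hV⟩
    have hbot : V' ⊓ U = ⊥ := by
      ext1
      exact hempty
    have hinj := h V'
    have hsub : Subsingleton Γ(X, V' ⊓ U) := by
      rw [hbot]
      infer_instance
    have h10 : (1 : Γ(X, V')) = 0 := hinj (Subsingleton.elim _ _)
    have hV'bot : V' = ⊥ := by
      have h1 : X.basicOpen (1 : Γ(X, V')) = V' := X.basicOpen_of_isUnit isUnit_one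
      rw [h10, Scheme.basicOpen_zero] at h1
      exact h1.symm
    obtain ⟨x, hx⟩ := hVne
    have hx' : x ∈ V' := hx
    rw [hV'bot] at hx'
    exact hx'
  · intro hd V
    rw [injective_iff_map_eq_zero]
    intro s hs
    apply TopCat.Presheaf.section_ext X.sheaf V s 0
    intro x hx
    change (X.sheaf.presheaf.germ V x hx) s = (X.sheaf.presheaf.germ V x hx) 0
    rw [map_zero]
    change X.presheaf.germ V x hx s = 0
    -- an affine neighbourhood
    obtain ⟨W, hWaff, hxW, hWV⟩ := Opens.isBasis_iff_nbhd.mp X.isBasis_affineOpens hx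
    have hWaff' : IsAffineOpen W := hWaff
    have hWV' : W ≤ V := hWV
    rw [← X.presheaf.germ_res (homOfLE hWV') x hxW]
    suffices hs' : X.presheaf.map (homOfLE hWV').op s = 0 by
      rw [CommRingCat.comp_apply, hs', map_zero]
    set s' : Γ(X, W) := X.presheaf.map (homOfLE hWV').op s with hs'def
    haveI : IsNoetherianRing Γ(X, W) := IsLocallyNoetherian.component_noetherian ⟨W, hWaff'⟩
    let 𝒲 : Set (PrimeSpectrum Γ(X, W)) := {y | hWaff'.fromSpec y ∈ U}
    have h𝒲o : IsOpen 𝒲 := U.2.preimage hWaff'.fromSpec.continuous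
    have h𝒲d : Dense 𝒲 := hd.preimage hWaff'.fromSpec.isOpenEmbedding.isOpenMap
    refine alg_main Γ(X, W) 𝒲 h𝒲o h𝒲d ?_ s' ?_
    · -- no embedded primes
      intro p hp
      haveI hpp : p.IsPrime := hp.isPrime
      let y : PrimeSpectrum Γ(X, W) := ⟨p, hpp⟩
      have hy : hWaff'.fromSpec y ∈ W := by
        rw [← SetLike.mem_coe, ← hWaff'.range_fromSpec]
        exact ⟨y, rfl⟩
      letI : Algebra Γ(X, W) (X.presheaf.stalk (hWaff'.fromSpec y)) :=
        TopCat.Presheaf.algebra_section_stalk X.presheaf ⟨hWaff'.fromSpec y, hy⟩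
      haveI hloc : IsLocalization.AtPrime (X.presheaf.stalk (hWaff'.fromSpec y)) p :=
        hWaff'.isLocalization_stalk' y hy
      haveI : IsLocalizedModule p.primeCompl
          (Algebra.linearMap Γ(X, W) (X.presheaf.stalk (hWaff'.fromSpec y))) :=
        (isLocalizedModule_iff_isLocalization' p.primeCompl
          (X.presheaf.stalk (hWaff'.fromSpec y))).mpr hloc
      have hmem : maximalIdeal (X.presheaf.stalk (hWaff'.fromSpec y)) ∈
          associatedPrimes (X.presheaf.stalk (hWaff'.fromSpec y))
            (X.presheaf.stalk (hWaff'.fromSpec y)) := by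
        apply Module.associatedPrimes.mem_associatedPrimes_of_comap_mem_associatedPrimes_of_isLocalizedModule
          p.primeCompl (Algebra.linearMap Γ(X, W) (X.presheaf.stalk (hWaff'.fromSpec y)))
        have hcm : Ideal.comap (algebraMap Γ(X, W) (X.presheaf.stalk (hWaff'.fromSpec y)))
            (maximalIdeal (X.presheaf.stalk (hWaff'.fromSpec y))) = p :=
          IsLocalization.AtPrime.under_maximalIdeal (X.presheaf.stalk (hWaff'.fromSpec y)) p
        rw [hcm]
        exact hp
      have hdep := Groth.Agent.H29.depth_le_ringKrullDim_quotient_of_mem_associatedPrimes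
        (X.presheaf.stalk (hWaff'.fromSpec y)) (X.presheaf.stalk (hWaff'.fromSpec y))
        (maximalIdeal (X.presheaf.stalk (hWaff'.fromSpec y))) hmem
      have hdim0 : ringKrullDim ((X.presheaf.stalk (hWaff'.fromSpec y)) ⧸
          maximalIdeal (X.presheaf.stalk (hWaff'.fromSpec y))) = 0 :=
        ringKrullDim_eq_zero_of_isField ((Ideal.Quotient.maximal_ideal_iff_isField_quotient _).mp
          (maximalIdeal.isMaximal _))
      rw [hdim0] at hdep
      have h1 := (hS1 (hWaff'.fromSpec y)).trans hdep
      have h2 : ringKrullDim (X.presheaf.stalk (hWaff'.fromSpec y)) ≤ 0 := by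
        rcases min_le_iff.mp h1 with h | h
        · exact absurd h (by norm_num)
        · exact h
      rw [IsLocalization.AtPrime.ringKrullDim_eq_height p
        (X.presheaf.stalk (hWaff'.fromSpec y))] at h2
      have h3 : p.height = 0 := by
        have : p.height ≤ 0 := by exact_mod_cast h2
        exact le_antisymm this bot_le
      exact Ideal.height_eq_zero_iff.mp h3
    · -- vanishing near the points of 𝒲
      intro y hyU
      have hyW : hWaff'.fromSpec y ∈ W := by
        rw [← SetLike.mem_coe, ← hWaff'.range_fromSpec]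
        exact ⟨y, rfl⟩
      have hyWU : hWaff'.fromSpec y ∈ W ⊓ U := ⟨hyW, hyU⟩
      obtain ⟨g, hgle, hyg⟩ := hWaff'.exists_basicOpen_le (V := W ⊓ U) ⟨_, hyWU⟩ hyW
      have hres : X.presheaf.map (homOfLE (X.basicOpen_le g)).op s' = 0 := by
        have hle2 : X.basicOpen g ≤ V ⊓ U := hgle.trans (inf_le_inf_right U hWV')
        have e1 : X.presheaf.map (homOfLE (X.basicOpen_le g)).op s' =
            X.presheaf.map (homOfLE hle2).op
              (X.presheaf.map (homOfLE (inf_le_left : V ⊓ U ≤ V)).op s) := by
          rw [hs'def, ← CommRingCat.comp_apply, ← CommRingCat.comp_apply, ← Functor.map_comp,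
            ← Functor.map_comp]
          rfl
        rw [e1, hs, map_zero]
      obtain ⟨n, hn⟩ := exists_pow_mul_eq_zero_of_res_basicOpen_eq_zero_of_isAffineOpen X hWaff'
        s' g hres
      refine ⟨g ^ n, ?_, hn⟩
      intro hmem
      have hgy : g ∈ y.asIdeal := y.2.mem_of_pow_mem n hmem
      have h4 : y ∈ hWaff'.fromSpec ⁻¹ᵁ X.basicOpen g := hyg
      rw [hWaff'.fromSpec_preimage_basicOpen] at h4
      exact h4 hgy


end Groth.Agent.S15712
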