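import Groth.Statements.S15717
import Groth.Agent.H29.CMIdeal

set_option autoImplicit false
universe u
open CAlg

namespace Groth.Agent.S15717

/-- Let R be a Cohen–Macaulay local ring and I an ideal of R with R/I equidimensional (all minimal
primes p over I have the same dim R/p). Then there is a regular sequence r_1, ..., r_n in I such
that the closed subscheme V(r_1, ..., r_n) of Spec R, a local complete intersection, contains V(I),
has the same dimension as V(I), and has the irreducible components of V(I) among its irreducible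
components: dim R/(r_1, ..., r_n) = dim R/I and every minimal prime over I is a minimal prime over
(r_1, ..., r_n). The sequence is asked to be weakly regular (each r_i a non-zero-divisor modulo the
previous ones), which for I proper is the same as regular and which also covers I = R with the
sequence (1). -/
theorem result (R : Type u) [CommRing R]
    [LocCoh.IsCohenMacaulayLocalRing R] (I : Ideal R)
    (hI : ∀ p ∈ I.minimalPrimes, ringKrullDim (R ⧸ p) = ringKrullDim (R ⧸ I)) :
    ∃ rs : List R, RingTheory.Sequence.IsWeaklyRegular R rs ∧ Ideal.ofList rs ≤ I ∧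
      ringKrullDim (R ⧸ Ideal.ofList rs) = ringKrullDim (R ⧸ I) ∧
      I.minimalPrimes ⊆ (Ideal.ofList rs).minimalPrimes := by
  classical
  have hCM : LocCoh.IsCohenMacaulayModule R R :=
    LocCoh.IsCohenMacaulayLocalRing.supportDim_eq_depth
  by_cases hItop : I = ⊤
  · subst hItop
    have h1 : Ideal.ofList [(1 : R)] = ⊤ := by
      rw [Ideal.ofList_singleton, Ideal.span_singleton_one]
    refine ⟨[1], ?_, le_top, ?_, ?_⟩
    · exact (RingTheory.Sequence.isWeaklyRegular_singleton_iff R (1 : R)).mpr
        (fun a b hab => by simpa using hab)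
    · rw [h1]
    · rw [Ideal.minimalPrimes_top]
      exact Set.empty_subset _
  · have hIbot : ringKrullDim (R ⧸ I) ≠ ⊥ := by
      have : Nontrivial (R ⧸ I) := Ideal.Quotient.nontrivial_iff.mpr hItop
      intro h
      have h0 : (0 : WithBot ℕ∞) ≤ ringKrullDim (R ⧸ I) := ringKrullDim_nonneg_of_nontrivial
      rw [h] at h0
      exact absurd (le_bot_iff.mp h0) (by simp)
    obtain ⟨e, he⟩ := Groth.Agent.H29.withBot_exists_natCast hIbot
      (Groth.Agent.H29.ringKrullDim_quotient_ne_top R I)
    obtain ⟨d, hd⟩ := Groth.Agent.H29.withBot_exists_natCast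
      (Module.supportDim_ne_bot_of_nontrivial R R) (Groth.Agent.H29.supportDim_lt_top R R).ne
    have hdR : ringKrullDim R = d := by rw [← Module.supportDim_self_eq_ringKrullDim, hd]
    have hed : e ≤ d := by
      have := ringKrullDim_quotient_le I
      rw [he, hdR] at this
      exact Groth.Agent.H29.withBot_natCast_le.mp this
    obtain ⟨xs, hlen, hmem, hreg⟩ := Groth.Agent.H29.exists_isWeaklyRegular_in_ideal R R hCM I
      hItop (d - e) (d - e) le_rfl (by
        rw [he, hd, ← Groth.Agent.H29.withBot_natCast_add]
        congr 1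
        omega)
    have hmemm : ∀ x ∈ xs, x ∈ IsLocalRing.maximalIdeal R :=
      fun x hx => IsLocalRing.le_maximalIdeal hItop (hmem x hx)
    have hle : Ideal.ofList xs ≤ I := Ideal.span_le.mpr (fun x hx => hmem x hx)
    have hdim := ringKrullDim_add_length_eq_ringKrullDim_of_isRegular xs
      (RingTheory.Sequence.IsRegular.of_isWeaklyRegular_of_mem_maximalIdeal R hmemm hreg)
    have hxstop : Ideal.ofList xs ≠ ⊤ := fun h => hItop (top_le_iff.mp (h ▸ hle))
    have hxbot : ringKrullDim (R ⧸ Ideal.ofList xs) ≠ ⊥ := by
      have : Nontrivial (R ⧸ Ideal.ofList xs) := Ideal.Quotient.nontrivial_iff.mpr hxstop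
      intro h
      have h0 : (0 : WithBot ℕ∞) ≤ ringKrullDim (R ⧸ Ideal.ofList xs) :=
        ringKrullDim_nonneg_of_nontrivial
      rw [h] at h0
      exact absurd (le_bot_iff.mp h0) (by simp)
    obtain ⟨c, hc⟩ := Groth.Agent.H29.withBot_exists_natCast hxbot
      (Groth.Agent.H29.ringKrullDim_quotient_ne_top R (Ideal.ofList xs))
    have hce : c = e := by
      rw [hc, hdR, hlen, ← Groth.Agent.H29.withBot_natCast_add] at hdim
      have := Groth.Agent.H29.withBot_natCast_inj hdim
      omega
    have hdimeq : ringKrullDim (R ⧸ Ideal.ofList xs) = ringKrullDim (R ⧸ I) := by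
      rw [hc, he, hce]
    refine ⟨xs, hreg, hle, hdimeq, ?_⟩
    intro p hp
    have hpprime : p.IsPrime := hp.1.1
    refine ⟨⟨hpprime, hle.trans hp.1.2⟩, ?_⟩
    rintro q ⟨hqprime, hxq⟩ hqp
    by_contra hnot
    obtain ⟨x, hxp, hxnq⟩ := Set.not_subset.mp hnot
    have h2 := Groth.Agent.H29.ringKrullDim_quotient_succ_le_of_lt R q p hqp x hxp hxnq
    have h3 := Groth.Agent.H29.ringKrullDim_quotient_le_of_le R _ _ hxq
    rw [hI p hp, ← hdimeq] at h2
    exact Groth.Agent.H29.withBot_not_add_one_le hxbot
      (Groth.Agent.H29.ringKrullDim_quotient_ne_top R _) (h2.trans h3)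

end Groth.Agent.S15717
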