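import Groth.Statements.S15724
import Groth.Agent.H25.WtMono

set_option autoImplicit false
universe u
open W4c2invhilbsl2

namespace Groth.Agent.S15724

open MvPolynomial Groth.Agent.H25 in
/-- Grade the polynomial ring k[X₀,…,X₄] over a field k by ℤ × ℤ/m, giving X₀ weight (1,0), X₁ and X₂
weight (−p,−1), and X₃ and X₄ weight (q,1), where 0 < p < q are coprime integers and m ≥ 1, and let
P be the principal ideal generated by the weight-zero element X₀^(q−p) − X₁X₄ + X₂X₃ (the equation
of an affine hypersurface). Then every polynomial homogeneous of the weight of X₁ is congruent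
modulo P to some a·X₁ + b·X₂ with a and b homogeneous of weight zero, and every polynomial
homogeneous of the weight of X₃ is congruent modulo P to some a·X₃ + b·X₄ with a and b homogeneous
of weight zero. Equivalently, in the coordinate ring of the hypersurface the weight pieces of the
weights of X₁ and of X₃ are generated over the weight-zero subring (the ring of invariants of the
diagonal action of a one-dimensional torus times the group of m-th roots of unity with these
weights) by X₁, X₂ and by X₃, X₄ respectively. (For the weight of X₁ the congruence is already an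
equality in the polynomial ring; for the weight of X₃ the hypersurface equation is needed, e.g.
X₀^(q+p)X₁ has that weight when m divides 2.) -/
theorem result (k : Type u) [Field k] (p q m : ℕ) (hp : 0 < p) (hpq : p < q) (hcop : Nat.Coprime p q) (hm : 0 < m) (f : MvPolynomial (Fin 5) k) :
    (f ∈ MvPolynomial.weightedHomogeneousSubmodule k (W4c2invhilbsl2.wt5 p q m) (W4c2invhilbsl2.wt5 p q m 1) →
      ∃ a b : MvPolynomial (Fin 5) k, a ∈ MvPolynomial.weightedHomogeneousSubmodule k (W4c2invhilbsl2.wt5 p q m) 0 ∧ b ∈ MvPolynomial.weightedHomogeneousSubmodule k (W4c2invhilbsl2.wt5 p q m) 0 ∧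
        f - (a * MvPolynomial.X (1 : Fin 5) + b * MvPolynomial.X (2 : Fin 5)) ∈ Ideal.span {MvPolynomial.X (0 : Fin 5) ^ (q - p) - MvPolynomial.X 1 * MvPolynomial.X 4 + MvPolynomial.X 2 * MvPolynomial.X 3}) ∧
    (f ∈ MvPolynomial.weightedHomogeneousSubmodule k (W4c2invhilbsl2.wt5 p q m) (W4c2invhilbsl2.wt5 p q m 3) →
      ∃ a b : MvPolynomial (Fin 5) k, a ∈ MvPolynomial.weightedHomogeneousSubmodule k (W4c2invhilbsl2.wt5 p q m) 0 ∧ b ∈ MvPolynomial.weightedHomogeneousSubmodule k (W4c2invhilbsl2.wt5 p q m) 0 ∧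
        f - (a * MvPolynomial.X (3 : Fin 5) + b * MvPolynomial.X (4 : Fin 5)) ∈ Ideal.span {MvPolynomial.X (0 : Fin 5) ^ (q - p) - MvPolynomial.X 1 * MvPolynomial.X 4 + MvPolynomial.X 2 * MvPolynomial.X 3}) := by
  classical
  have hw0 : wt5 p q m 0 = ((1 : ℤ), (0 : ZMod m)) := rfl
  have hw1 : wt5 p q m 1 = (-(p : ℤ), (-1 : ZMod m)) := rfl
  have hw2 : wt5 p q m 2 = (-(p : ℤ), (-1 : ZMod m)) := rfl
  have hw3 : wt5 p q m 3 = ((q : ℤ), (1 : ZMod m)) := rfl
  have hw4 : wt5 p q m 4 = ((q : ℤ), (1 : ZMod m)) := rfl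
  have hpz : (0 : ℤ) < p := by exact_mod_cast hp
  have hfst : ∀ d : Fin 5 →₀ ℕ, (Finsupp.weight (wt5 p q m) d).1 =
      (d 0 : ℤ) - p * d 1 - p * d 2 + q * d 3 + q * d 4 := by
    intro d
    rw [Finsupp.weight_eq_sum, Fin.sum_univ_five]
    simp only [hw0, hw1, hw2, hw3, hw4, Prod.fst_add, nsmul_eq_mul, Prod.fst_mul,
      Prod.fst_natCast, mul_one, mul_neg]
    ring
  have hwe0 : Finsupp.weight (wt5 p q m) (Finsupp.single (0 : Fin 5) (q - p)) =
      ((q : ℤ) - (p : ℤ), (0 : ZMod m)) := by
    rw [Finsupp.weight_single, hw0]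
    ext
    · simp [Nat.cast_sub hpq.le]
    · simp
  have hgen : (X (0 : Fin 5) ^ (q - p) - X 1 * X 4 + X 2 * X 3 : MvPolynomial (Fin 5) k) ∈
      Ideal.span {(X (0 : Fin 5) ^ (q - p) - X 1 * X 4 + X 2 * X 3 : MvPolynomial (Fin 5) k)} :=
    Ideal.subset_span rfl
  constructor
  · intro hf
    have hfS : f ∈ ((weightedHomogeneousSubmodule k (wt5 p q m) 0).map
          (LinearMap.mulRight k (X (1 : Fin 5)))) ⊔
        ((weightedHomogeneousSubmodule k (wt5 p q m) 0).map
          (LinearMap.mulRight k (X (2 : Fin 5)))) := by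
      apply mem_of_forall_monomial
      intro d hd
      have hc : coeff d f ≠ 0 := mem_support_iff.mp hd
      have hwd : Finsupp.weight (wt5 p q m) d = wt5 p q m 1 := hf hc
      have h1 : (d 0 : ℤ) - p * d 1 - p * d 2 + q * d 3 + q * d 4 = -p := by
        rw [← hfst d, hwd, hw1]
      have hpos : 1 ≤ d 1 ∨ 1 ≤ d 2 := by
        by_contra hcon
        rw [not_or, not_le, not_le, Nat.lt_one_iff, Nat.lt_one_iff] at hcon
        rw [hcon.1, hcon.2] at h1
        have h3 : (0 : ℤ) ≤ (q : ℤ) * (d 3 : ℤ) := by positivity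
        have h4 : (0 : ℤ) ≤ (q : ℤ) * (d 4 : ℤ) := by positivity
        have h0 : (0 : ℤ) ≤ (d 0 : ℤ) := by positivity
        push_cast at h1
        linarith
      rcases hpos with h | h
      · exact Submodule.mem_sup_left (monomial_mem_map_mulRight _ d (Finsupp.single 1 1)
          (single_le' 1 1 d h) _ _ hwd (by rw [Finsupp.weight_single, one_smul]) (X 1) rfl)
      · exact Submodule.mem_sup_right (monomial_mem_map_mulRight _ d (Finsupp.single 2 1)
          (single_le' 2 1 d h) _ _ hwd (by rw [Finsupp.weight_single, one_smul, hw2, hw1])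
          (X 2) rfl)
    obtain ⟨y, hy, z, hz, hyz⟩ := Submodule.mem_sup.mp hfS
    obtain ⟨a, ha, rfl⟩ := Submodule.mem_map.mp hy
    obtain ⟨b, hb, rfl⟩ := Submodule.mem_map.mp hz
    refine ⟨a, b, ha, hb, ?_⟩
    rw [← hyz]
    simp only [LinearMap.mulRight_apply, sub_self]
    exact Ideal.zero_mem _
  · intro hf
    have hfS : f ∈ (((weightedHomogeneousSubmodule k (wt5 p q m) 0).map
          (LinearMap.mulRight k (X (3 : Fin 5)))) ⊔
        ((weightedHomogeneousSubmodule k (wt5 p q m) 0).map
          (LinearMap.mulRight k (X (4 : Fin 5))))) ⊔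
        (Ideal.span {(X (0 : Fin 5) ^ (q - p) - X 1 * X 4 + X 2 * X 3 :
          MvPolynomial (Fin 5) k)}).restrictScalars k := by
      apply mem_of_forall_monomial
      intro d hd
      have hc : coeff d f ≠ 0 := mem_support_iff.mp hd
      have hwd : Finsupp.weight (wt5 p q m) d = wt5 p q m 3 := hf hc
      have h1 : (d 0 : ℤ) - p * d 1 - p * d 2 + q * d 3 + q * d 4 = q := by
        rw [← hfst d, hwd, hw3]
      by_cases h3 : 1 ≤ d 3
      · exact Submodule.mem_sup_left (Submodule.mem_sup_left (monomial_mem_map_mulRight _ d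
          (Finsupp.single 3 1) (single_le' 3 1 d h3) _ _ hwd
          (by rw [Finsupp.weight_single, one_smul]) (X 3) rfl))
      by_cases h4 : 1 ≤ d 4
      · exact Submodule.mem_sup_left (Submodule.mem_sup_right (monomial_mem_map_mulRight _ d
          (Finsupp.single 4 1) (single_le' 4 1 d h4) _ _ hwd
          (by rw [Finsupp.weight_single, one_smul, hw4, hw3]) (X 4) rfl))
      rw [not_le, Nat.lt_one_iff] at h3 h4
      have hge : q - p ≤ d 0 := by
        have hcast : ((q - p : ℕ) : ℤ) ≤ (d 0 : ℤ) := by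
          rw [Nat.cast_sub hpq.le]
          rw [h3, h4] at h1
          have h5 : (0 : ℤ) ≤ (p : ℤ) * (d 1 : ℤ) := by positivity
          have h6 : (0 : ℤ) ≤ (p : ℤ) * (d 2 : ℤ) := by positivity
          push_cast at h1
          linarith
        exact_mod_cast hcast
      have he : Finsupp.single (0 : Fin 5) (q - p) ≤ d := single_le' 0 (q - p) d hge
      have hsplit : monomial d (coeff d f) =
          monomial (d - Finsupp.single (0 : Fin 5) (q - p)) (coeff d f) * X 0 ^ (q - p) := by
        rw [monomial_split d _ he, X_pow_eq_monomial]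
      have hwt : ∀ i : Fin 5, wt5 p q m i = (-(p : ℤ), (-1 : ZMod m)) →
          monomial (d - Finsupp.single (0 : Fin 5) (q - p)) (coeff d f) * X i ∈
            weightedHomogeneousSubmodule k (wt5 p q m) 0 := by
        intro i hi
        rw [monomial_mul_X]
        apply isWeightedHomogeneous_monomial
        rw [map_add, weight_tsub _ d _ he, hwd, hwe0, Finsupp.weight_single, one_smul, hi, hw3]
        ext
        · simp
        · simp
      have hdecomp : monomial d (coeff d f) =
          ((-(monomial (d - Finsupp.single (0 : Fin 5) (q - p)) (coeff d f) * X 2)) * X 3 +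
            (monomial (d - Finsupp.single (0 : Fin 5) (q - p)) (coeff d f) * X 1) * X 4) +
          monomial (d - Finsupp.single (0 : Fin 5) (q - p)) (coeff d f) *
            (X (0 : Fin 5) ^ (q - p) - X 1 * X 4 + X 2 * X 3) := by
        rw [hsplit]
        ring
      rw [hdecomp]
      refine Submodule.add_mem _ (Submodule.mem_sup_left (Submodule.add_mem _
        (Submodule.mem_sup_left (Submodule.mem_map.mpr ⟨_, Submodule.neg_mem _ (hwt 2 hw2), rfl⟩))
        (Submodule.mem_sup_right (Submodule.mem_map.mpr ⟨_, hwt 1 hw1, rfl⟩))))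
        (Submodule.mem_sup_right ?_)
      exact Ideal.mul_mem_left _ _ hgen
    obtain ⟨u, hu, t, ht, hut⟩ := Submodule.mem_sup.mp hfS
    obtain ⟨y, hy, z, hz, hyz⟩ := Submodule.mem_sup.mp hu
    obtain ⟨a, ha, rfl⟩ := Submodule.mem_map.mp hy
    obtain ⟨b, hb, rfl⟩ := Submodule.mem_map.mp hz
    refine ⟨a, b, ha, hb, ?_⟩
    have hft : f - (a * X (3 : Fin 5) + b * X (4 : Fin 5)) = t := by
      rw [← hut, ← hyz]
      simp only [LinearMap.mulRight_apply]
      ring
    rw [hft]
    exact ht

end Groth.Agent.S15724
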