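import Groth.Statements.S15725
import Groth.Agent.H25.WtMono

set_option autoImplicit false
universe u
open W4c2invhilbsl2

namespace Groth.Agent.S15725

open MvPolynomial Groth.Agent.H25 in
/-- Grade the polynomial ring k[X₀,X₁,X₂] over a field k by ℤ × ℤ/m, giving X₀ weight (1,0), X₁ weight
(−p,−1) and X₂ weight (q,1), where 0 < p < q are coprime integers and m ≥ 1 (this three-variable
ring stands for the subring k[X₀,X₁,Xⱼ], j = 3 or 4, of the five-variable ring with the same
weights). Then every polynomial homogeneous of weight (q−p, 0) can be written a·X₀^(q−p) + b·X₁X₂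
with a and b homogeneous of weight zero; in other words the weight-(q−p, 0) piece is generated by
X₀^(q−p) and X₁X₂ as a module over the weight-zero subring. -/
theorem result (k : Type u) [Field k] (p q m : ℕ) (hp : 0 < p) (hpq : p < q) (hcop : Nat.Coprime p q) (hm : 0 < m) (f : MvPolynomial (Fin 3) k)
    (hf : f ∈ MvPolynomial.weightedHomogeneousSubmodule k (W4c2invhilbsl2.wt3 p q m) ((q : ℤ) - (p : ℤ), (0 : ZMod m))) :
    ∃ a b : MvPolynomial (Fin 3) k, a ∈ MvPolynomial.weightedHomogeneousSubmodule k (W4c2invhilbsl2.wt3 p q m) 0 ∧ b ∈ MvPolynomial.weightedHomogeneousSubmodule k (W4c2invhilbsl2.wt3 p q m) 0 ∧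
      f = a * MvPolynomial.X (0 : Fin 3) ^ (q - p) + b * (MvPolynomial.X (1 : Fin 3) * MvPolynomial.X (2 : Fin 3)) := by
  classical
  have hw0 : wt3 p q m 0 = ((1 : ℤ), (0 : ZMod m)) := rfl
  have hw1 : wt3 p q m 1 = (-(p : ℤ), (-1 : ZMod m)) := rfl
  have hw2 : wt3 p q m 2 = ((q : ℤ), (1 : ZMod m)) := rfl
  have hfS : f ∈ ((weightedHomogeneousSubmodule k (wt3 p q m) 0).map
        (LinearMap.mulRight k (X (0 : Fin 3) ^ (q - p)))) ⊔
      ((weightedHomogeneousSubmodule k (wt3 p q m) 0).map
        (LinearMap.mulRight k (X (1 : Fin 3) * X (2 : Fin 3)))) := by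
    apply mem_of_forall_monomial
    intro d hd
    have hc : coeff d f ≠ 0 := mem_support_iff.mp hd
    have hwd : Finsupp.weight (wt3 p q m) d = ((q : ℤ) - (p : ℤ), (0 : ZMod m)) := hf hc
    have hsum : Finsupp.weight (wt3 p q m) d =
        d 0 • wt3 p q m 0 + d 1 • wt3 p q m 1 + d 2 • wt3 p q m 2 := by
      rw [Finsupp.weight_eq_sum, Fin.sum_univ_three]
    have h1 : (d 0 : ℤ) - p * d 1 + q * d 2 = q - p := by
      have := congrArg Prod.fst (hsum.symm.trans hwd)
      simp only [hw0, hw1, hw2, Prod.fst_add, Prod.smul_fst, smul_eq_mul, nsmul_eq_mul, Prod.fst_mul,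
        Prod.fst_natCast, mul_one, mul_neg] at this
      linarith
    by_cases hb : 1 ≤ d 1 ∧ 1 ≤ d 2
    · have he : (Finsupp.single (1 : Fin 3) 1 + Finsupp.single (2 : Fin 3) 1) ≤ d := by
        intro i
        fin_cases i
        · simp
        · simpa using hb.1
        · simpa using hb.2
      have hwe : Finsupp.weight (wt3 p q m)
          (Finsupp.single (1 : Fin 3) 1 + Finsupp.single (2 : Fin 3) 1) =
          ((q : ℤ) - (p : ℤ), (0 : ZMod m)) := by
        rw [map_add, Finsupp.weight_single, Finsupp.weight_single, one_smul, one_smul, hw1, hw2]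
        ext
        · simp; ring
        · simp
      refine Submodule.mem_sup_right (Submodule.mem_map.mpr
        ⟨monomial (d - (Finsupp.single (1 : Fin 3) 1 + Finsupp.single (2 : Fin 3) 1)) (coeff d f),
          monomial_sub_mem_wh _ d _ he _ _ hwd hwe, ?_⟩)
      rw [LinearMap.mulRight_apply, monomial_split d _ he]
      congr 1
      simp [X, monomial_mul]
    · have hge : q - p ≤ d 0 := by
        have hcast : ((q - p : ℕ) : ℤ) ≤ (d 0 : ℤ) := by
          rw [Nat.cast_sub hpq.le]
          rw [not_and_or, not_le, not_le, Nat.lt_one_iff, Nat.lt_one_iff] at hb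
          rcases hb with hb | hb
          · rw [hb] at h1
            rcases Nat.eq_zero_or_pos (d 2) with h2 | h2
            · rw [h2] at h1
              push_cast at h1
              linarith
            · exfalso
              have h3 : (q : ℤ) * 1 ≤ (q : ℤ) * (d 2 : ℤ) :=
                mul_le_mul_of_nonneg_left (by exact_mod_cast h2) (by positivity)
              have h4 : (0 : ℤ) ≤ d 0 := by positivity
              have h5 : (0 : ℤ) < p := by exact_mod_cast hp
              push_cast at h1
              linarith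
          · rw [hb] at h1
            have h3 : (0 : ℤ) ≤ (p : ℤ) * (d 1 : ℤ) := by positivity
            push_cast at h1
            linarith
        exact_mod_cast hcast
      have he : Finsupp.single (0 : Fin 3) (q - p) ≤ d := by
        intro i
        fin_cases i
        · simpa using hge
        · simp
        · simp
      have hwe : Finsupp.weight (wt3 p q m) (Finsupp.single (0 : Fin 3) (q - p)) =
          ((q : ℤ) - (p : ℤ), (0 : ZMod m)) := by
        rw [Finsupp.weight_single, hw0]
        ext
        · simp [Nat.cast_sub hpq.le]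
        · simp
      refine Submodule.mem_sup_left (Submodule.mem_map.mpr
        ⟨monomial (d - Finsupp.single (0 : Fin 3) (q - p)) (coeff d f),
          monomial_sub_mem_wh _ d _ he _ _ hwd hwe, ?_⟩)
      rw [LinearMap.mulRight_apply, monomial_split d _ he, X_pow_eq_monomial]
  obtain ⟨y, hy, z, hz, hyz⟩ := Submodule.mem_sup.mp hfS
  obtain ⟨a, ha, rfl⟩ := Submodule.mem_map.mp hy
  obtain ⟨b, hb, rfl⟩ := Submodule.mem_map.mp hz
  exact ⟨a, b, ha, hb, hyz.symm⟩

end Groth.Agent.S15725
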