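import Groth.Statements.S15726
import Groth.Agent.H25.WtMono

set_option autoImplicit false
universe u
open W4c2invhilbsl2

namespace Groth.Agent.S15726

open MvPolynomial Groth.Agent.H25 in
/-- Grade the polynomial ring k[X₀,…,X₄] over a field k by ℤ × ℤ/m, giving X₀ weight (1,0), X₁ and X₂
weight (−p,−1), and X₃ and X₄ weight (q,1), where 0 < p < q are coprime integers and m ≥ 1. Then
modulo the principal ideal generated by the weight-zero element X₀^(q−p) − X₁X₄ + X₂X₃ (the equation
of an affine hypersurface), every polynomial homogeneous of weight (q−p, 0) is congruent to a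
combination a₁₃X₁X₃ + a₁₄X₁X₄ + a₂₃X₂X₃ + a₂₄X₂X₄ whose four coefficients are homogeneous of weight
zero. Equivalently, in the coordinate ring of the hypersurface the weight-(q−p, 0) piece is
generated over the weight-zero subring (the invariant ring of the diagonal action with these
weights) by the span of the four products XₐX_b with a ∈ {1,2} and b ∈ {3,4}. (The published
statement is over the complex numbers; this row takes any field.) -/
theorem result (k : Type u) [Field k] (p q m : ℕ) (hp : 0 < p) (hpq : p < q) (hcop : Nat.Coprime p q) (hm : 0 < m) (f : MvPolynomial (Fin 5) k)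
    (hf : f ∈ MvPolynomial.weightedHomogeneousSubmodule k (W4c2invhilbsl2.wt5 p q m) ((q : ℤ) - (p : ℤ), (0 : ZMod m))) :
    ∃ a₁₃ a₁₄ a₂₃ a₂₄ : MvPolynomial (Fin 5) k,
      a₁₃ ∈ MvPolynomial.weightedHomogeneousSubmodule k (W4c2invhilbsl2.wt5 p q m) 0 ∧ a₁₄ ∈ MvPolynomial.weightedHomogeneousSubmodule k (W4c2invhilbsl2.wt5 p q m) 0 ∧ a₂₃ ∈ MvPolynomial.weightedHomogeneousSubmodule k (W4c2invhilbsl2.wt5 p q m) 0 ∧ a₂₄ ∈ MvPolynomial.weightedHomogeneousSubmodule k (W4c2invhilbsl2.wt5 p q m) 0 ∧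
      f - (a₁₃ * (MvPolynomial.X (1 : Fin 5) * MvPolynomial.X 3) + a₁₄ * (MvPolynomial.X (1 : Fin 5) * MvPolynomial.X 4) +
          a₂₃ * (MvPolynomial.X (2 : Fin 5) * MvPolynomial.X 3) + a₂₄ * (MvPolynomial.X (2 : Fin 5) * MvPolynomial.X 4)) ∈
        Ideal.span {MvPolynomial.X (0 : Fin 5) ^ (q - p) - MvPolynomial.X 1 * MvPolynomial.X 4 + MvPolynomial.X 2 * MvPolynomial.X 3} := by
  classical
  have hw0 : wt5 p q m 0 = ((1 : ℤ), (0 : ZMod m)) := rfl
  have hw1 : wt5 p q m 1 = (-(p : ℤ), (-1 : ZMod m)) := rfl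
  have hw2 : wt5 p q m 2 = (-(p : ℤ), (-1 : ZMod m)) := rfl
  have hw3 : wt5 p q m 3 = ((q : ℤ), (1 : ZMod m)) := rfl
  have hw4 : wt5 p q m 4 = ((q : ℤ), (1 : ZMod m)) := rfl
  have hpz : (0 : ℤ) < p := by exact_mod_cast hp
  have hfst : ∀ d : Fin 5 →₀ ℕ, (Finsupp.weight (wt5 p q m) d).1 =
      (d 0 : ℤ) - p * d 1 - p * d 2 + q * d 3 + q * d 4 := by
    intro d
    rw [Finsupp.weight_eq_sum, Fin.sum_univ_five]
    simp only [hw0, hw1, hw2, hw3, hw4, Prod.fst_add, nsmul_eq_mul, Prod.fst_mul,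
      Prod.fst_natCast, mul_one, mul_neg]
    ring
  have hwe0 : Finsupp.weight (wt5 p q m) (Finsupp.single (0 : Fin 5) (q - p)) =
      ((q : ℤ) - (p : ℤ), (0 : ZMod m)) := by
    rw [Finsupp.weight_single, hw0]
    ext
    · simp [Nat.cast_sub hpq.le]
    · simp
  have hgen : (X (0 : Fin 5) ^ (q - p) - X 1 * X 4 + X 2 * X 3 : MvPolynomial (Fin 5) k) ∈
      Ideal.span {(X (0 : Fin 5) ^ (q - p) - X 1 * X 4 + X 2 * X 3 : MvPolynomial (Fin 5) k)} :=
    Ideal.subset_span rfl
  have hwij : ∀ i j : Fin 5, wt5 p q m i = (-(p : ℤ), (-1 : ZMod m)) →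
      wt5 p q m j = ((q : ℤ), (1 : ZMod m)) →
      Finsupp.weight (wt5 p q m) (Finsupp.single i 1 + Finsupp.single j 1) =
        ((q : ℤ) - (p : ℤ), (0 : ZMod m)) := by
    intro i j hi hj
    rw [map_add, Finsupp.weight_single, Finsupp.weight_single, one_smul, one_smul, hi, hj]
    ext
    · simp; ring
    · simp
  have hfS : f ∈ (((((weightedHomogeneousSubmodule k (wt5 p q m) 0).map
        (LinearMap.mulRight k (X (1 : Fin 5) * X 3))) ⊔
      ((weightedHomogeneousSubmodule k (wt5 p q m) 0).map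
        (LinearMap.mulRight k (X (1 : Fin 5) * X 4)))) ⊔
      ((weightedHomogeneousSubmodule k (wt5 p q m) 0).map
        (LinearMap.mulRight k (X (2 : Fin 5) * X 3)))) ⊔
      ((weightedHomogeneousSubmodule k (wt5 p q m) 0).map
        (LinearMap.mulRight k (X (2 : Fin 5) * X 4)))) ⊔
      (Ideal.span {(X (0 : Fin 5) ^ (q - p) - X 1 * X 4 + X 2 * X 3 :
        MvPolynomial (Fin 5) k)}).restrictScalars k := by
    apply mem_of_forall_monomial
    intro d hd
    have hc : coeff d f ≠ 0 := mem_support_iff.mp hd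
    have hwd : Finsupp.weight (wt5 p q m) d = ((q : ℤ) - (p : ℤ), (0 : ZMod m)) := hf hc
    have h1 : (d 0 : ℤ) - p * d 1 - p * d 2 + q * d 3 + q * d 4 = q - p := by
      rw [← hfst d, hwd]
    by_cases h13 : 1 ≤ d 1 ∧ 1 ≤ d 3
    · exact Submodule.mem_sup_left (Submodule.mem_sup_left (Submodule.mem_sup_left
        (Submodule.mem_sup_left (monomial_mem_map_mulRight _ d _
          (single_add_single_le 1 3 (by decide) d h13.1 h13.2) _ _ hwd (hwij 1 3 hw1 hw3) _
          (X_mul_X_eq_monomial 1 3).symm))))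
    by_cases h14 : 1 ≤ d 1 ∧ 1 ≤ d 4
    · exact Submodule.mem_sup_left (Submodule.mem_sup_left (Submodule.mem_sup_left
        (Submodule.mem_sup_right (monomial_mem_map_mulRight _ d _
          (single_add_single_le 1 4 (by decide) d h14.1 h14.2) _ _ hwd (hwij 1 4 hw1 hw4) _
          (X_mul_X_eq_monomial 1 4).symm))))
    by_cases h23 : 1 ≤ d 2 ∧ 1 ≤ d 3
    · exact Submodule.mem_sup_left (Submodule.mem_sup_left (Submodule.mem_sup_right
        (monomial_mem_map_mulRight _ d _
          (single_add_single_le 2 3 (by decide) d h23.1 h23.2) _ _ hwd (hwij 2 3 hw2 hw3) _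
          (X_mul_X_eq_monomial 2 3).symm)))
    by_cases h24 : 1 ≤ d 2 ∧ 1 ≤ d 4
    · exact Submodule.mem_sup_left (Submodule.mem_sup_right
        (monomial_mem_map_mulRight _ d _
          (single_add_single_le 2 4 (by decide) d h24.1 h24.2) _ _ hwd (hwij 2 4 hw2 hw4) _
          (X_mul_X_eq_monomial 2 4).symm))
    have hcase : (d 1 = 0 ∧ d 2 = 0) ∨ (d 3 = 0 ∧ d 4 = 0) := by
      by_contra hcon
      apply hcon
      by_cases hd1 : d 1 = 0
      · by_cases hd2 : d 2 = 0
        · exact Or.inl ⟨hd1, hd2⟩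
        · have hd2' : 1 ≤ d 2 := Nat.one_le_iff_ne_zero.mpr hd2
          right
          constructor
          · by_contra hd3
            exact h23 ⟨hd2', Nat.one_le_iff_ne_zero.mpr hd3⟩
          · by_contra hd4
            exact h24 ⟨hd2', Nat.one_le_iff_ne_zero.mpr hd4⟩
      · have hd1' : 1 ≤ d 1 := Nat.one_le_iff_ne_zero.mpr hd1
        right
        constructor
        · by_contra hd3
          exact h13 ⟨hd1', Nat.one_le_iff_ne_zero.mpr hd3⟩
        · by_contra hd4
          exact h14 ⟨hd1', Nat.one_le_iff_ne_zero.mpr hd4⟩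
    have hge : q - p ≤ d 0 := by
      have hcast : ((q - p : ℕ) : ℤ) ≤ (d 0 : ℤ) := by
        rw [Nat.cast_sub hpq.le]
        rcases hcase with ⟨hd1, hd2⟩ | ⟨hd3, hd4⟩
        · rw [hd1, hd2] at h1
          push_cast at h1
          rcases Nat.eq_zero_or_pos (d 3 + d 4) with h34 | h34
          · have hd3 : d 3 = 0 := by omega
            have hd4 : d 4 = 0 := by omega
            rw [hd3, hd4] at h1
            push_cast at h1
            linarith
          · exfalso
            have h5 : (q : ℤ) * 1 ≤ (q : ℤ) * ((d 3 : ℤ) + (d 4 : ℤ)) :=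
              mul_le_mul_of_nonneg_left (by exact_mod_cast h34) (by positivity)
            have h0 : (0 : ℤ) ≤ (d 0 : ℤ) := by positivity
            rw [mul_add] at h5
            linarith
        · rw [hd3, hd4] at h1
          have h5 : (0 : ℤ) ≤ (p : ℤ) * (d 1 : ℤ) := by positivity
          have h6 : (0 : ℤ) ≤ (p : ℤ) * (d 2 : ℤ) := by positivity
          push_cast at h1
          linarith
      exact_mod_cast hcast
    have he : Finsupp.single (0 : Fin 5) (q - p) ≤ d := single_le' 0 (q - p) d hge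
    have hsplit : monomial d (coeff d f) =
        monomial (d - Finsupp.single (0 : Fin 5) (q - p)) (coeff d f) * X 0 ^ (q - p) := by
      rw [monomial_split d _ he, X_pow_eq_monomial]
    have hM : monomial (d - Finsupp.single (0 : Fin 5) (q - p)) (coeff d f) ∈
        weightedHomogeneousSubmodule k (wt5 p q m) 0 :=
      monomial_sub_mem_wh _ d _ he _ _ hwd hwe0
    have hdecomp : monomial d (coeff d f) =
        (monomial (d - Finsupp.single (0 : Fin 5) (q - p)) (coeff d f) * (X 1 * X 4) +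
          (-(monomial (d - Finsupp.single (0 : Fin 5) (q - p)) (coeff d f))) * (X 2 * X 3)) +
        monomial (d - Finsupp.single (0 : Fin 5) (q - p)) (coeff d f) *
          (X (0 : Fin 5) ^ (q - p) - X 1 * X 4 + X 2 * X 3) := by
      rw [hsplit]
      ring
    rw [hdecomp]
    refine Submodule.add_mem _ (Submodule.mem_sup_left (Submodule.add_mem _
      (Submodule.mem_sup_left (Submodule.mem_sup_left (Submodule.mem_sup_right
        (Submodule.mem_map.mpr ⟨_, hM, rfl⟩))))
      (Submodule.mem_sup_left (Submodule.mem_sup_right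
        (Submodule.mem_map.mpr ⟨_, Submodule.neg_mem _ hM, rfl⟩)))))
      (Submodule.mem_sup_right ?_)
    exact Ideal.mul_mem_left _ _ hgen
  obtain ⟨u, hu, t, ht, hut⟩ := Submodule.mem_sup.mp hfS
  obtain ⟨u3, hu3, y24, hy24, h3⟩ := Submodule.mem_sup.mp hu
  obtain ⟨u2, hu2, y23, hy23, h2⟩ := Submodule.mem_sup.mp hu3
  obtain ⟨y13, hy13, y14, hy14, h1⟩ := Submodule.mem_sup.mp hu2
  obtain ⟨a13, ha13, rfl⟩ := Submodule.mem_map.mp hy13
  obtain ⟨a14, ha14, rfl⟩ := Submodule.mem_map.mp hy14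
  obtain ⟨a23, ha23, rfl⟩ := Submodule.mem_map.mp hy23
  obtain ⟨a24, ha24, rfl⟩ := Submodule.mem_map.mp hy24
  refine ⟨a13, a14, a23, a24, ha13, ha14, ha23, ha24, ?_⟩
  have hft : f - (a13 * (X (1 : Fin 5) * X 3) + a14 * (X (1 : Fin 5) * X 4) +
      a23 * (X (2 : Fin 5) * X 3) + a24 * (X (2 : Fin 5) * X 4)) = t := by
    rw [← hut, ← h3, ← h2, ← h1]
    simp only [LinearMap.mulRight_apply]
    ring
  rw [hft]
  exact ht

end Groth.Agent.S15726
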