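import Groth.Statements.S1573
import Mathlib
import Groth.Agent.S2851
import Groth.Agent.S15712

set_option autoImplicit false
universe u
open CategoryTheory CategoryTheory.Limits AlgebraicGeometry
open Divisors

namespace Groth.Agent.S1573


set_option linter.style.haveILetI false
set_option linter.unusedSectionVars false

open CategoryTheory AlgebraicGeometry TopologicalSpace

/-- Let X be locally Noetherian and U an open subscheme whose inclusion is an affine morphism. At every
point ξ outside U which is maximal under generisation among points outside U, the local ring of X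
has dimension at most one; if U is dense the dimension equals one. -/
theorem result (X : Scheme.{u}) [IsLocallyNoetherian X]
    (U : X.Opens) [IsAffineHom U.ι] (ξ : X) (hξ : ξ ∉ U) (hgen : ∀ y : X, y ∉ U → y ⤳ ξ → y = ξ) :
    ringKrullDim (X.presheaf.stalk ξ) ≤ 1 ∧ (Dense (U : Set X) → ringKrullDim (X.presheaf.stalk ξ) = 1) := by

  have h1 : ringKrullDim (X.presheaf.stalk ξ) ≤ 1 := Groth.Agent.S2851.result X U ξ hξ hgen
  refine ⟨h1, fun hd => ?_⟩
  by_contra hne
  have hlt : ringKrullDim (X.presheaf.stalk ξ) < 1 := lt_of_le_of_ne h1 hne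
  -- an affine neighbourhood of ξ
  obtain ⟨W, hWaff, hξW, -⟩ :=
    Opens.isBasis_iff_nbhd.mp X.isBasis_affineOpens (show ξ ∈ (⊤ : X.Opens) from trivial)
  have hW : IsAffineOpen W := hWaff
  haveI : IsNoetherianRing Γ(X, W) := IsLocallyNoetherian.component_noetherian ⟨W, hW⟩
  let p : PrimeSpectrum Γ(X, W) := hW.primeIdealOf ⟨ξ, hξW⟩
  have hpξ : hW.fromSpec p = ξ := hW.fromSpec_primeIdealOf ⟨ξ, hξW⟩
  letI : Algebra Γ(X, W) (X.presheaf.stalk ξ) :=
    TopCat.Presheaf.algebra_section_stalk X.presheaf ⟨ξ, hξW⟩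
  haveI hloc : IsLocalization.AtPrime (X.presheaf.stalk ξ) p.asIdeal :=
    hW.isLocalization_stalk ⟨ξ, hξW⟩
  rw [IsLocalization.AtPrime.ringKrullDim_eq_height p.asIdeal (X.presheaf.stalk ξ)] at hlt
  have hlt' : p.asIdeal.height < 1 := by exact_mod_cast hlt
  have h0 : p.asIdeal.height = 0 := Order.lt_one_iff.mp hlt'
  have hpmin : p.asIdeal ∈ minimalPrimes Γ(X, W) := Ideal.height_eq_zero_iff.mp h0
  let 𝒲 : Set (PrimeSpectrum Γ(X, W)) := {y | hW.fromSpec y ∈ U}
  have h𝒲o : IsOpen 𝒲 := U.2.preimage hW.fromSpec.continuous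
  have h𝒲d : Dense 𝒲 := hd.preimage hW.fromSpec.isOpenEmbedding.isOpenMap
  have hp𝒲 : p ∈ 𝒲 := Groth.Agent.S15712.minimal_mem_dense Γ(X, W) 𝒲 h𝒲o h𝒲d p hpmin
  have : hW.fromSpec p ∈ U := hp𝒲
  rw [hpξ] at this
  exact hξ this


end Groth.Agent.S1573
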