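import Groth.Statements.S15733
import Mathlib
import Groth.Agent.Lib.Helper7.HJ9
-- import your own Groth.Agent.* helpers here

set_option autoImplicit false
open W4c2invhilbsl2

namespace Groth.Agent.S15733


open W4c2invhilbsl2 Groth.Agent.Helper7.HJ8


/-- Let 0 < p < q be coprime integers and m ≥ 1 such that q − p does not divide m; put g = gcd(m, q−p),
b = (q−p)/g, α = ⌊mp/(q−p)⌋, β = the remainder of mp modulo q−p and t = (q−p−β)/g, so that 1 ≤ t <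
b, and let b/t = c₁ − 1/(c₂ − 1/(⋯ − 1/c_r)) be the negative-regular (Hirzebruch–Jung) continued
fraction expansion with every cᵢ ≥ 2; set P₀ = 0, P₁ = 1, Q₀ = −1, Q₁ = 0, Pᵢ = cᵢ₋₁Pᵢ₋₁ − Pᵢ₋₂, Qᵢ
= cᵢ₋₁Qᵢ₋₁ − Qᵢ₋₂ for 2 ≤ i ≤ r+1, and eᵢ = (α+1+m)Pᵢ − Qᵢ, lᵢ = (α+1)Pᵢ − Qᵢ, nᵢ = q·lᵢ − p·eᵢ,
which are non-negative integers for 0 ≤ i ≤ r+1. Then for every 1 < i ≤ r and every integer x with 0
< x < Pᵢ, the remainder of pmx + nᵢ on division by q − p equals nᵢ plus the remainder of pmx on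
division by q − p (in particular nᵢ + (pmx mod (q−p)) < q − p). -/
theorem result (p q m : ℕ) (hp : 0 < p) (hpq : p < q) (hcop : Nat.Coprime p q) (hm : 0 < m) (hnt : ¬ (q - p ∣ m)) (c : List ℤ) (hc : W4c2invhilbsl2.IsHJDigits p q m c) (i : ℕ) (hi : 1 < i) (hir : i ≤ c.length)
    (x : ℤ) (hx0 : 0 < x) (hx : x < W4c2invhilbsl2.hjP c i) :
    Int.emod ((p : ℤ) * m * x + W4c2invhilbsl2.nN p q m c i) ((q : ℤ) - p) = W4c2invhilbsl2.nN p q m c i + Int.emod ((p : ℤ) * m * x) ((q : ℤ) - p) := by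
  obtain ⟨hg, -, -, ht0, htb, -⟩ := bt_facts p q m hp hpq hcop hm hnt
  have hgpos : (0:ℤ) < (gcdK p q m : ℤ) := by exact_mod_cast hg
  have hb0 : (0:ℤ) < (bB p q m : ℤ) := by exact_mod_cast (lt_trans ht0 htb)
  obtain ⟨k, rfl⟩ : ∃ k, i = k + 1 := ⟨i - 1, by omega⟩
  have hN := nN_eq p q m hp hpq hcop hm hnt c hc (k + 1)
  have h1 := hgb p q m hp hpq hcop hm hnt c hc
  have h2 := hgt p q m hp hpq hcop hm hnt c hc
  have hdiv := Int.mul_ediv_add_emod ((tT p q m : ℤ) * x) (bB p q m : ℤ)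
  have hρ0 := Int.emod_nonneg ((tT p q m : ℤ) * x) hb0.ne'
  have hρ1 := Int.emod_lt_of_pos ((tT p q m : ℤ) * x) hb0
  have l1 := lower p q m hp hpq hcop hm hnt c hc k (by omega) hir x _ _ hx0 hx hdiv hρ0
  have hD3 := DD_lt p q m hp hpq hcop hm hnt c hc k (by omega)
  have hD2 := DD_nonneg p q m hp hpq hcop hm hnt c hc (k + 1) (by omega)
  obtain ⟨ρ, hρdef⟩ : ∃ ρ : ℤ, ρ = ((tT p q m : ℤ) * x) % (bB p q m : ℤ) := ⟨_, rfl⟩
  obtain ⟨y, hydef⟩ : ∃ y : ℤ, y = ((tT p q m : ℤ) * x) / (bB p q m : ℤ) := ⟨_, rfl⟩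
  rw [← hρdef] at hdiv hρ0 hρ1 l1
  rw [← hydef] at hdiv
  have hpm : (p : ℤ) * m * x = (gcdK p q m : ℤ) * ((bB p q m : ℤ) - ρ) +
      ((q : ℤ) - p) * (((alpha p q m : ℤ) + 1) * x - y - 1) := by
    linear_combination (gcdK p q m : ℤ) * hdiv + x * h2 - (y + 1) * h1
  have hρpos : 1 ≤ ρ := by linarith
  have hR0 : 0 ≤ (gcdK p q m : ℤ) * ((bB p q m : ℤ) - ρ) :=
    mul_nonneg hgpos.le (by linarith)
  have hgρ : 0 < (gcdK p q m : ℤ) * ρ := mul_pos hgpos (by linarith)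
  have hgD : 0 < (gcdK p q m : ℤ) * (ρ - DD p q m c (k + 1)) := mul_pos hgpos (by linarith)
  have hgD0 : 0 ≤ (gcdK p q m : ℤ) * DD p q m c (k + 1) := mul_nonneg hgpos.le hD2
  show ((p : ℤ) * m * x + nN p q m c (k + 1)) % ((q : ℤ) - p) =
    nN p q m c (k + 1) + ((p : ℤ) * m * x) % ((q : ℤ) - p)
  rw [hN, hpm]
  have e1 : (gcdK p q m : ℤ) * ((bB p q m : ℤ) - ρ) +
      ((q : ℤ) - p) * (((alpha p q m : ℤ) + 1) * x - y - 1) +
      (gcdK p q m : ℤ) * DD p q m c (k + 1) =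
      ((gcdK p q m : ℤ) * ((bB p q m : ℤ) - ρ) + (gcdK p q m : ℤ) * DD p q m c (k + 1)) +
      ((q : ℤ) - p) * (((alpha p q m : ℤ) + 1) * x - y - 1) := by ring
  rw [e1, Int.add_mul_emod_self_left, Int.add_mul_emod_self_left,
    Int.emod_eq_of_lt (by linarith) (by nlinarith), Int.emod_eq_of_lt hR0 (by nlinarith)]
  ring

end Groth.Agent.S15733
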