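import Groth.Statements.S15734
import Mathlib
import Groth.Agent.Lib.Helper7.HJ9
-- import your own Groth.Agent.* helpers here

set_option autoImplicit false
open W4c2invhilbsl2

namespace Groth.Agent.S15734


open W4c2invhilbsl2 Groth.Agent.Helper7.HJ8


/-- Let 0 < p < q be coprime integers and m ≥ 1 such that q − p does not divide m; put g = gcd(m, q−p),
b = (q−p)/g, α = ⌊mp/(q−p)⌋, β = the remainder of mp modulo q−p and t = (q−p−β)/g, so that 1 ≤ t <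
b, and let b/t = c₁ − 1/(c₂ − 1/(⋯ − 1/c_r)) be the negative-regular (Hirzebruch–Jung) continued
fraction expansion with every cᵢ ≥ 2; set P₀ = 0, P₁ = 1, Q₀ = −1, Q₁ = 0, Pᵢ = cᵢ₋₁Pᵢ₋₁ − Pᵢ₋₂, Qᵢ
= cᵢ₋₁Qᵢ₋₁ − Qᵢ₋₂ for 2 ≤ i ≤ r+1, and eᵢ = (α+1+m)Pᵢ − Qᵢ, lᵢ = (α+1)Pᵢ − Qᵢ, nᵢ = q·lᵢ − p·eᵢ,
which are non-negative integers for 0 ≤ i ≤ r+1; moreover g divides every nᵢ, and write tᵢ = nᵢ/g
(so t₁ = t). Then (a) for every 1 ≤ i ≤ r the remainder of t·Pᵢ on division by b equals tᵢ, and (b)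
for every 1 < i ≤ r and every integer x with 0 < x < Pᵢ the remainder ρ of t·x on division by b
satisfies tᵢ₋₁ ≤ ρ ≤ b + tᵢ − tᵢ₋₁. -/
theorem result (p q m : ℕ) (hp : 0 < p) (hpq : p < q) (hcop : Nat.Coprime p q) (hm : 0 < m) (hnt : ¬ (q - p ∣ m)) (c : List ℤ) (hc : W4c2invhilbsl2.IsHJDigits p q m c) :
    (∀ i : ℕ, 1 ≤ i → i ≤ c.length →
      Int.emod ((W4c2invhilbsl2.tT p q m : ℤ) * W4c2invhilbsl2.hjP c i) (W4c2invhilbsl2.bB p q m : ℤ) = W4c2invhilbsl2.nN p q m c i / (W4c2invhilbsl2.gcdK p q m : ℤ)) ∧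
    (∀ i : ℕ, 1 < i → i ≤ c.length → ∀ x : ℤ, 0 < x → x < W4c2invhilbsl2.hjP c i →
      W4c2invhilbsl2.nN p q m c (i - 1) / (W4c2invhilbsl2.gcdK p q m : ℤ) ≤ Int.emod ((W4c2invhilbsl2.tT p q m : ℤ) * x) (W4c2invhilbsl2.bB p q m : ℤ) ∧
      Int.emod ((W4c2invhilbsl2.tT p q m : ℤ) * x) (W4c2invhilbsl2.bB p q m : ℤ) ≤
        (W4c2invhilbsl2.bB p q m : ℤ) + W4c2invhilbsl2.nN p q m c i / (W4c2invhilbsl2.gcdK p q m : ℤ) - W4c2invhilbsl2.nN p q m c (i - 1) / (W4c2invhilbsl2.gcdK p q m : ℤ)) := by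
  obtain ⟨hg, -, -, ht0, htb, -⟩ := bt_facts p q m hp hpq hcop hm hnt
  have hgz : (gcdK p q m : ℤ) ≠ 0 := by exact_mod_cast hg.ne'
  have hN := fun i => nN_eq p q m hp hpq hcop hm hnt c hc i
  have hdivg : ∀ i, nN p q m c i / (gcdK p q m : ℤ) = DD p q m c i := fun i => by
    rw [hN]; exact Int.mul_ediv_cancel_left _ hgz
  have hb0 : (0:ℤ) < (bB p q m : ℤ) := by exact_mod_cast (lt_trans ht0 htb)
  constructor
  · intro i hi1 hir
    rw [hdivg]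
    have e : (tT p q m : ℤ) * hjP c i = DD p q m c i + (bB p q m : ℤ) * hjQ c i := by
      unfold DD; ring
    show ((tT p q m : ℤ) * hjP c i) % (bB p q m : ℤ) = DD p q m c i
    rw [e, Int.add_mul_emod_self_left]
    exact Int.emod_eq_of_lt (DD_nonneg p q m hp hpq hcop hm hnt c hc i (by omega))
      (DD_lt_b p q m hp hpq hcop hm hnt c hc i hi1 (by omega))
  · intro i hi1 hir x hx0 hx
    obtain ⟨k, rfl⟩ : ∃ k, i = k + 1 := ⟨i - 1, by omega⟩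
    have ek : k + 1 - 1 = k := by omega
    rw [ek, hdivg, hdivg]
    show DD p q m c k ≤ ((tT p q m : ℤ) * x) % (bB p q m : ℤ) ∧
      ((tT p q m : ℤ) * x) % (bB p q m : ℤ) ≤
        (bB p q m : ℤ) + DD p q m c (k + 1) - DD p q m c k
    have hdiv := Int.mul_ediv_add_emod ((tT p q m : ℤ) * x) (bB p q m : ℤ)
    have hρ0 := Int.emod_nonneg ((tT p q m : ℤ) * x) hb0.ne'
    have hρ1 := Int.emod_lt_of_pos ((tT p q m : ℤ) * x) hb0
    have hD2 := DD_nonneg p q m hp hpq hcop hm hnt c hc (k + 1) (by omega)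
    have l1 := lower p q m hp hpq hcop hm hnt c hc k (by omega) hir x _ _ hx0 hx hdiv hρ0
    refine ⟨l1, ?_⟩
    have hdiv' : (bB p q m : ℤ) * (hjQ c (k + 1) - ((tT p q m : ℤ) * x) / (bB p q m : ℤ) - 1) +
        ((bB p q m : ℤ) + DD p q m c (k + 1) - ((tT p q m : ℤ) * x) % (bB p q m : ℤ)) =
        (tT p q m : ℤ) * (hjP c (k + 1) - x) := by
      unfold DD; linear_combination (-1 : ℤ) * hdiv
    have l2 := lower p q m hp hpq hcop hm hnt c hc k (by omega) hir (hjP c (k + 1) - x) _ _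
      (by linarith) (by linarith) hdiv' (by linarith)
    linarith

end Groth.Agent.S15734
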