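import Groth.Statements.S15738
import Mathlib.Tactic

set_option autoImplicit false
universe u
open W4c2invhilbsl2

namespace Groth.Agent.S15738

open MvPolynomial

section
variable (k : Type u) [Field k]

/-- the monomial X₀^d₀ X₁^d₁ X₂^d₂ -/
noncomputable abbrev mon (d0 d1 d2 : ℕ) : MvPolynomial (Fin 3) k :=
  X (0 : Fin 3) ^ d0 * X (1 : Fin 3) ^ d1 * X (2 : Fin 3) ^ d2

/-- the binomial X₀^(q-p) - X₁X₂ -/
noncomputable abbrev gg (p q : ℕ) : MvPolynomial (Fin 3) k :=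
  X (0 : Fin 3) ^ (q - p) - X (1 : Fin 3) * X (2 : Fin 3)

theorem dvd_of_shift (p q : ℕ) (e0 d1 d2 t : ℕ) :
    gg k p q ∣ mon k (e0 + (q - p) * t) d1 d2 - mon k e0 (d1 + t) (d2 + t) := by
  have h := sub_dvd_pow_sub_pow (X (0 : Fin 3) ^ (q - p) : MvPolynomial (Fin 3) k)
    (X (1 : Fin 3) * X (2 : Fin 3)) t
  have e : mon k (e0 + (q - p) * t) d1 d2 - mon k e0 (d1 + t) (d2 + t) =
      (X (0 : Fin 3) ^ e0 * X (1 : Fin 3) ^ d1 * X (2 : Fin 3) ^ d2) *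
        ((X (0 : Fin 3) ^ (q - p)) ^ t - (X (1 : Fin 3) * X (2 : Fin 3)) ^ t) := by
    simp only [mon]
    ring
  rw [e]
  exact Dvd.dvd.mul_left h _

theorem dvd_of_same (p q : ℕ) (hpq : p < q) (d0 d1 d2 e0 e1 e2 : ℕ)
    (hn : (e0 : ℤ) - (p : ℤ) * e1 + (q : ℤ) * e2 = (d0 : ℤ) - (p : ℤ) * d1 + (q : ℤ) * d2)
    (hc : (d1 : ℤ) - d2 = (e1 : ℤ) - e2) :
    gg k p q ∣ mon k d0 d1 d2 - mon k e0 e1 e2 := by
  have hsub : ((q - p : ℕ) : ℤ) = (q : ℤ) - p := Nat.cast_sub hpq.le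
  rcases le_total d1 e1 with h | h
  · obtain ⟨t, rfl⟩ := Nat.exists_eq_add_of_le h
    have h2 : e2 = d2 + t := by push_cast at hc; omega
    subst h2
    have h0 : d0 = e0 + (q - p) * t := by
      have h3 : (d0 : ℤ) = e0 + ((q : ℤ) - p) * t := by push_cast at hn; linarith
      rw [← hsub] at h3
      exact_mod_cast h3
    subst h0
    exact dvd_of_shift k p q e0 d1 d2 t
  · obtain ⟨t, rfl⟩ := Nat.exists_eq_add_of_le h
    have h2 : d2 = e2 + t := by push_cast at hc; omega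
    subst h2
    have h0 : e0 = d0 + (q - p) * t := by
      have h3 : (e0 : ℤ) = d0 + ((q : ℤ) - p) * t := by push_cast at hn; linarith
      rw [← hsub] at h3
      exact_mod_cast h3
    subst h0
    rw [← neg_sub]
    exact (dvd_of_shift k p q d0 e1 e2 t).neg_right

theorem exists_big (p q m : ℕ) (hpq : p < q) (hm : 0 < m)
    (d0 d1 d2 e0 e1 e2 : ℕ)
    (hn : (e0 : ℤ) - (p : ℤ) * e1 + (q : ℤ) * e2 = (d0 : ℤ) - (p : ℤ) * d1 + (q : ℤ) * d2)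
    (hc : (m : ℤ) ∣ ((d1 : ℤ) - d2) - ((e1 : ℤ) - e2)) (hlt : (e1 : ℤ) - e2 < (d1 : ℤ) - d2) :
    ∃ f0 f1 f2 : ℕ, m * p ≤ f0 ∧ m ≤ f1 ∧ ((d1 : ℤ) - d2 = (f1 : ℤ) - f2) ∧
      ((f0 : ℤ) - (p : ℤ) * f1 + (q : ℤ) * f2 = (d0 : ℤ) - (p : ℤ) * d1 + (q : ℤ) * d2) := by
  have hpq' : (p : ℤ) < q := by exact_mod_cast hpq
  have hm' : (0 : ℤ) < m := by exact_mod_cast hm
  have hp0 : (0 : ℤ) ≤ p := Nat.cast_nonneg _
  have hq0 : (0 : ℤ) ≤ q := Nat.cast_nonneg _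
  have he0 : (0 : ℤ) ≤ e0 := Nat.cast_nonneg _
  have he1 : (0 : ℤ) ≤ e1 := Nat.cast_nonneg _
  have he2 : (0 : ℤ) ≤ e2 := Nat.cast_nonneg _
  obtain ⟨s, hs⟩ := hc
  have hs1 : 1 ≤ s := by
    by_contra hcon
    rw [not_le] at hcon
    have h4 : s ≤ 0 := by omega
    nlinarith
  have hcm : (m : ℤ) ≤ ((d1 : ℤ) - d2) - ((e1 : ℤ) - e2) := by rw [hs]; nlinarith
  by_cases hcase : (m : ℤ) ≤ (d1 : ℤ) - d2
  · -- f2 = 0, f1 = c, f0 = n + p c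
    have hF1 : (0 : ℤ) ≤ (d1 : ℤ) - d2 := by linarith
    have hF0 : (m : ℤ) * p ≤ (d0 : ℤ) - (p : ℤ) * d1 + (q : ℤ) * d2 + p * ((d1 : ℤ) - d2) := by
      have key : (d0 : ℤ) - (p : ℤ) * d1 + (q : ℤ) * d2 + p * ((d1 : ℤ) - d2) =
          e0 + ((q : ℤ) - p) * e2 + p * (((d1 : ℤ) - d2) - ((e1 : ℤ) - e2)) := by
        rw [← hn]; ring
      rw [key]
      have h5 : (0 : ℤ) ≤ ((q : ℤ) - p) * e2 := mul_nonneg (by linarith) he2
      have h6 : (p : ℤ) * m ≤ p * (((d1 : ℤ) - d2) - ((e1 : ℤ) - e2)) :=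
        mul_le_mul_of_nonneg_left hcm hp0
      linarith
    obtain ⟨f1, hf1⟩ := Int.eq_ofNat_of_zero_le hF1
    obtain ⟨f0, hf0⟩ := Int.eq_ofNat_of_zero_le (le_trans (mul_nonneg hm'.le hp0) hF0)
    refine ⟨f0, f1, 0, ?_, ?_, ?_, ?_⟩
    · have : ((m * p : ℕ) : ℤ) ≤ (f0 : ℤ) := by rw [← hf0]; push_cast; exact hF0
      exact_mod_cast this
    · have : (m : ℤ) ≤ (f1 : ℤ) := by rw [← hf1]; exact hcase
      exact_mod_cast this
    · rw [← hf1]; simp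
    · rw [← hf0, ← hf1]; push_cast; ring
  · -- f2 = m - c, f1 = m, f0 = n + q c - (q - p) m
    rw [not_le] at hcase
    have hF2 : (0 : ℤ) ≤ (m : ℤ) - ((d1 : ℤ) - d2) := by linarith
    have hF0 : (m : ℤ) * p ≤ (d0 : ℤ) - (p : ℤ) * d1 + (q : ℤ) * d2 + q * ((d1 : ℤ) - d2)
        - ((q : ℤ) - p) * m := by
      have key : (d0 : ℤ) - (p : ℤ) * d1 + (q : ℤ) * d2 + q * ((d1 : ℤ) - d2) - ((q : ℤ) - p) * m =
          e0 + ((q : ℤ) - p) * e1 + q * (((d1 : ℤ) - d2) - ((e1 : ℤ) - e2) - m) + m * p := by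
        rw [← hn]; ring
      rw [key]
      have h5 : (0 : ℤ) ≤ ((q : ℤ) - p) * e1 := mul_nonneg (by linarith) he1
      have h6 : (0 : ℤ) ≤ q * (((d1 : ℤ) - d2) - ((e1 : ℤ) - e2) - m) :=
        mul_nonneg hq0 (by linarith)
      linarith
    obtain ⟨f2, hf2⟩ := Int.eq_ofNat_of_zero_le hF2
    obtain ⟨f0, hf0⟩ := Int.eq_ofNat_of_zero_le (le_trans (mul_nonneg hm'.le hp0) hF0)
    refine ⟨f0, m, f2, ?_, le_rfl, ?_, ?_⟩
    · have : ((m * p : ℕ) : ℤ) ≤ (f0 : ℤ) := by rw [← hf0]; push_cast; exact hF0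
      exact_mod_cast this
    · rw [← hf2]; ring
    · rw [← hf0, ← hf2]; ring

theorem mem_of_nat_mul (p q m : ℕ) (hpq : p < q) (d0 d1 d2 e0 e1 e2 : ℕ)
    (hn : (e0 : ℤ) - (p : ℤ) * e1 + (q : ℤ) * e2 = (d0 : ℤ) - (p : ℤ) * d1 + (q : ℤ) * d2)
    (s' : ℕ) (hs : ((d1 : ℤ) - d2) - ((e1 : ℤ) - e2) = (m : ℤ) * s') :
    mon k d0 d1 d2 - mon k e0 e1 e2 ∈
      Ideal.span {gg k p q, 1 - X (0 : Fin 3) ^ (m * p) * X (1 : Fin 3) ^ m} := by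
  have h1 : gg k p q ∣ mon k d0 d1 d2 - mon k (e0 + m * p * s') (e1 + m * s') e2 := by
    apply dvd_of_same k p q hpq
    · push_cast; linarith
    · push_cast; linarith
  have h2 := sub_dvd_pow_sub_pow (1 : MvPolynomial (Fin 3) k)
    (X (0 : Fin 3) ^ (m * p) * X (1 : Fin 3) ^ m) s'
  rw [one_pow] at h2
  obtain ⟨w1, hw1⟩ := h1
  obtain ⟨w2, hw2⟩ := h2
  have e : mon k d0 d1 d2 - mon k e0 e1 e2 =
      w1 * gg k p q + (-(mon k e0 e1 e2) * w2) *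
        (1 - X (0 : Fin 3) ^ (m * p) * X (1 : Fin 3) ^ m) := by
    have e3 : mon k (e0 + m * p * s') (e1 + m * s') e2 =
        mon k e0 e1 e2 * (X (0 : Fin 3) ^ (m * p) * X (1 : Fin 3) ^ m) ^ s' := by
      simp only [mon]; ring
    have e4 : mon k d0 d1 d2 - mon k e0 e1 e2 =
        (mon k d0 d1 d2 - mon k (e0 + m * p * s') (e1 + m * s') e2) -
          mon k e0 e1 e2 * (1 - (X (0 : Fin 3) ^ (m * p) * X (1 : Fin 3) ^ m) ^ s') := by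
      rw [e3]; ring
    rw [e4, hw1, hw2]; ring
  rw [e]
  exact Ideal.add_mem _ (Ideal.mul_mem_left _ _ (Ideal.subset_span (by simp)))
    (Ideal.mul_mem_left _ _ (Ideal.subset_span (by simp)))

end

/-- Let k be a field and m ≥ 1; for a monomial X₀^d₀X₁^d₁X₂^d₂ of the polynomial ring in X₀, X₁, X₂ (X₂
standing for Xⱼ, j = 3 or 4, of the five-variable ring) put n = d₀ − p·d₁ + q·d₂ (its weight for the
torus diag(t, t^(−p), t^q)), c = d₁ − d₂ and ω = p·d₁ − q·d₂, so that d₀ = n + ω; here 0 < p < q are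
coprime integers. Take two monomials X₀^d₀X₁^d₁X₂^d₂ and X₀^e₀X₁^e₁X₂^e₂ with the same n and with
values c, c' of c congruent modulo m (so both lie in the same ℤ × ℤ/m-weight piece for the weights
(1,0), (−p,−1), (q,1)). Then: (i) if c = c', the difference of the two monomials lies in the
principal ideal (X₀^(q−p) − X₁X₂); (ii) if c' < c, the monomial X₀^d₀X₁^d₁X₂^d₂ lies in the ideal
(X₀^(q−p) − X₁X₂, X₀^(mp)X₁^m); (iii) in all cases the difference lies in the ideal (X₀^(q−p) −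
X₁X₂, 1 − X₀^(mp)X₁^m). -/
theorem result (k : Type u) [Field k] (p q m : ℕ) (hp : 0 < p) (hpq : p < q) (hcop : Nat.Coprime p q) (hm : 0 < m)
    (d0 d1 d2 e0 e1 e2 : ℕ) (hn : (e0 : ℤ) - (p : ℤ) * e1 + (q : ℤ) * e2 = (d0 : ℤ) - (p : ℤ) * d1 + (q : ℤ) * d2)
    (hc : (m : ℤ) ∣ ((d1 : ℤ) - d2) - ((e1 : ℤ) - e2)) :
    ((d1 : ℤ) - d2 = (e1 : ℤ) - e2 →
      (MvPolynomial.X (0 : Fin 3) ^ d0 * MvPolynomial.X (1 : Fin 3) ^ d1 * MvPolynomial.X (2 : Fin 3) ^ d2 - MvPolynomial.X (0 : Fin 3) ^ e0 * MvPolynomial.X (1 : Fin 3) ^ e1 * MvPolynomial.X (2 : Fin 3) ^ e2 : MvPolynomial (Fin 3) k) ∈ Ideal.span {MvPolynomial.X (0 : Fin 3) ^ (q - p) - MvPolynomial.X (1 : Fin 3) * MvPolynomial.X (2 : Fin 3)}) ∧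
    ((e1 : ℤ) - e2 < (d1 : ℤ) - d2 →
      (MvPolynomial.X (0 : Fin 3) ^ d0 * MvPolynomial.X (1 : Fin 3) ^ d1 * MvPolynomial.X (2 : Fin 3) ^ d2 : MvPolynomial (Fin 3) k) ∈ Ideal.span {MvPolynomial.X (0 : Fin 3) ^ (q - p) - MvPolynomial.X (1 : Fin 3) * MvPolynomial.X (2 : Fin 3), MvPolynomial.X (0 : Fin 3) ^ (m * p) * MvPolynomial.X (1 : Fin 3) ^ m}) ∧
    ((MvPolynomial.X (0 : Fin 3) ^ d0 * MvPolynomial.X (1 : Fin 3) ^ d1 * MvPolynomial.X (2 : Fin 3) ^ d2 - MvPolynomial.X (0 : Fin 3) ^ e0 * MvPolynomial.X (1 : Fin 3) ^ e1 * MvPolynomial.X (2 : Fin 3) ^ e2 : MvPolynomial (Fin 3) k) ∈ Ideal.span {MvPolynomial.X (0 : Fin 3) ^ (q - p) - MvPolynomial.X (1 : Fin 3) * MvPolynomial.X (2 : Fin 3), 1 - MvPolynomial.X (0 : Fin 3) ^ (m * p) * MvPolynomial.X (1 : Fin 3) ^ m}) := by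
  refine ⟨?_, ?_, ?_⟩
  · intro hceq
    rw [Ideal.mem_span_singleton]
    exact dvd_of_same k p q hpq d0 d1 d2 e0 e1 e2 hn hceq
  · intro hlt
    obtain ⟨f0, f1, f2, hf0, hf1, hcf, hnf⟩ := exists_big p q m hpq hm d0 d1 d2 e0 e1 e2 hn hc hlt
    obtain ⟨w1, hw1⟩ := dvd_of_same k p q hpq d0 d1 d2 f0 f1 f2 hnf hcf
    obtain ⟨f0', rfl⟩ := Nat.exists_eq_add_of_le hf0
    obtain ⟨f1', rfl⟩ := Nat.exists_eq_add_of_le hf1
    have e : mon k d0 d1 d2 = w1 * gg k p q +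
        (X (0 : Fin 3) ^ f0' * X (1 : Fin 3) ^ f1' * X (2 : Fin 3) ^ f2) *
          (X (0 : Fin 3) ^ (m * p) * X (1 : Fin 3) ^ m) := by
      have e3 : mon k (m * p + f0') (m + f1') f2 =
          (X (0 : Fin 3) ^ f0' * X (1 : Fin 3) ^ f1' * X (2 : Fin 3) ^ f2) *
          (X (0 : Fin 3) ^ (m * p) * X (1 : Fin 3) ^ m) := by
        simp only [mon]; ring
      rw [← e3]
      linear_combination hw1
    show mon k d0 d1 d2 ∈ _
    rw [e]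
    exact Ideal.add_mem _ (Ideal.mul_mem_left _ _ (Ideal.subset_span (by simp)))
      (Ideal.mul_mem_left _ _ (Ideal.subset_span (by simp)))
  · obtain ⟨s, hs⟩ := hc
    rcases le_total 0 s with h0 | h0
    · obtain ⟨s', rfl⟩ := Int.eq_ofNat_of_zero_le h0
      exact mem_of_nat_mul k p q m hpq d0 d1 d2 e0 e1 e2 hn s' hs
    · obtain ⟨s', hs'⟩ := Int.eq_ofNat_of_zero_le (neg_nonneg.mpr h0)
      have h3 := mem_of_nat_mul k p q m hpq e0 e1 e2 d0 d1 d2 hn.symm s'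
        (by rw [← hs']; linarith)
      have h4 := Ideal.neg_mem_iff _ |>.mpr h3
      rw [neg_sub] at h4
      exact h4

end Groth.Agent.S15738
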