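import Groth.Statements.S15739
import Mathlib.Tactic

set_option autoImplicit false
universe u
open W4c2invhilbsl2

namespace Groth.Agent.S15739

open MvPolynomial

theorem int_key (p q m g a b : ℕ) (hpq : p < q) (hcop : Nat.Coprime p q) (hg : 0 < g)
    (ha : a * g = m) (hb : b * g = q - p) (hab : Nat.Coprime a b)
    (d0 d1 d2 e0 e1 e2 : ℕ)
    (hn : (e0 : ℤ) - (p : ℤ) * e1 + (q : ℤ) * e2 = (d0 : ℤ) - (p : ℤ) * d1 + (q : ℤ) * d2)
    (hcd : (m : ℤ) ∣ (d1 : ℤ) - d2) (hce : (m : ℤ) ∣ (e1 : ℤ) - e2) (hd0 : d0 < g) (he0 : e0 < g) :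
    d0 = e0 ∧ ∃ j : ℤ, ((d1 : ℤ) - d2) - ((e1 : ℤ) - e2) = (m : ℤ) * b * j ∧
      (d2 : ℤ) - e2 = a * p * j ∧ (d1 : ℤ) - e1 = a * q * j := by
  have haZ : (a : ℤ) * g = m := by exact_mod_cast ha
  have hbZ : (b : ℤ) * g = (q : ℤ) - p := by
    rw [← Nat.cast_sub hpq.le]; exact_mod_cast hb
  obtain ⟨u, hu⟩ := hcd
  obtain ⟨v, hv⟩ := hce
  have hgZ : (0 : ℤ) < g := by exact_mod_cast hg
  have h1 : (d0 : ℤ) - e0 = p * (((d1 : ℤ) - d2) - ((e1 : ℤ) - e2)) -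
      ((q : ℤ) - p) * ((d2 : ℤ) - e2) := by linarith
  have h1' : (d0 : ℤ) - e0 = g * (p * (a * (u - v)) - b * ((d2 : ℤ) - e2)) := by
    rw [h1, hu, hv, ← haZ, ← hbZ]; ring
  have h2 : (g : ℤ) ∣ (d0 : ℤ) - e0 := ⟨_, h1'⟩
  have h3 : (d0 : ℤ) - e0 = 0 := by
    apply Int.eq_zero_of_abs_lt_dvd h2
    have hd0' : (d0 : ℤ) < g := by exact_mod_cast hd0
    have he0' : (e0 : ℤ) < g := by exact_mod_cast he0
    have hd0n : (0 : ℤ) ≤ d0 := Nat.cast_nonneg _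
    have he0n : (0 : ℤ) ≤ e0 := Nat.cast_nonneg _
    rw [abs_lt]; constructor <;> linarith
  have hde : d0 = e0 := by
    have h4 : (d0 : ℤ) = e0 := by linarith
    exact_mod_cast h4
  refine ⟨hde, ?_⟩
  have h4 : (p : ℤ) * a * (u - v) = b * ((d2 : ℤ) - e2) := by
    have h5 : (g : ℤ) * ((p : ℤ) * a * (u - v)) = g * (b * ((d2 : ℤ) - e2)) := by
      rw [h3] at h1'
      linarith
    exact mul_left_cancel₀ hgZ.ne' h5
  have hcop_b : IsCoprime (b : ℤ) ((p : ℤ) * a) := by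
    have h6 : Nat.Coprime b (p * a) := by
      apply Nat.Coprime.mul_right
      · have h7 : Nat.Coprime p (q - p) := (Nat.coprime_sub_self_right hpq.le).mpr hcop
        exact (Nat.Coprime.coprime_dvd_right ⟨g, hb.symm⟩ h7).symm
      · exact hab.symm
    exact_mod_cast Nat.isCoprime_iff_coprime.mpr h6
  have h7 : (b : ℤ) ∣ u - v := hcop_b.dvd_of_dvd_mul_left ⟨(d2 : ℤ) - e2, h4⟩
  obtain ⟨j, hj⟩ := h7
  have hbpos : (0 : ℤ) < b := by
    have h8 : 0 < b := by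
      rcases Nat.eq_zero_or_pos b with h | h
      · rw [h, zero_mul] at hb; omega
      · exact h
    exact_mod_cast h8
  have hfirst : ((d1 : ℤ) - d2) - ((e1 : ℤ) - e2) = (m : ℤ) * b * j := by
    rw [hu, hv, ← mul_sub, hj]; ring
  have hsecond : (d2 : ℤ) - e2 = a * p * j := by
    rw [hj] at h4
    have h9 : (b : ℤ) * ((d2 : ℤ) - e2) = b * (a * p * j) := by linarith
    exact mul_left_cancel₀ hbpos.ne' h9
  refine ⟨j, hfirst, hsecond, ?_⟩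
  have h10 : (d1 : ℤ) - e1 = m * b * j + a * p * j := by linarith
  rw [h10, ← haZ]
  have h11 : (a : ℤ) * g * b * j + a * p * j = a * j * (b * g + p) := by ring
  rw [h11, hbZ]; ring

theorem mon_shift (k : Type u) [Field k] (A B d0 d1 d2 j : ℕ) :
    (X (0 : Fin 3) ^ d0 * X (1 : Fin 3) ^ (d1 + A * j) * X (2 : Fin 3) ^ (d2 + B * j) :
      MvPolynomial (Fin 3) k) =
    X (0 : Fin 3) ^ d0 * X (1 : Fin 3) ^ d1 * X (2 : Fin 3) ^ d2 *
      (X (1 : Fin 3) ^ A * X (2 : Fin 3) ^ B) ^ j := by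
  ring

/-- Let k be a field and m ≥ 1, put g = gcd(m, q−p), a = m/g and b = (q−p)/g; for a monomial
X₀^d₀X₁^d₁X₂^d₂ of the polynomial ring in X₀, X₁, X₂ (X₂ standing for Xⱼ, j = 3 or 4, of the
five-variable ring) put n = d₀ − p·d₁ + q·d₂ (its weight for the torus diag(t, t^(−p), t^q)), c = d₁
− d₂ and ω = p·d₁ − q·d₂, so that d₀ = n + ω; here 0 < p < q are coprime integers. Take two
monomials X₀^d₀X₁^d₁X₂^d₂ and X₀^e₀X₁^e₁X₂^e₂ with the same n, where 0 ≤ n < q − p, whose values c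
and c' of c are both divisible by m, and with d₀ < g and e₀ < g (so each has the least ω for its
pair (n, c), as g ≤ q − p). Then: (i) d₀ = e₀, i.e. the two values of ω agree, and m·b divides c −
c'; (ii) if c < c', then X₀^e₀X₁^e₁X₂^e₂ is a multiple of X₀^d₀X₁^d₁X₂^d₂ · X₁^(aq)X₂^(ap); (iii)
the difference of the two monomials lies in the principal ideal (1 − X₁^(aq)X₂^(ap)). -/
theorem result (k : Type u) [Field k] (p q m : ℕ) (hp : 0 < p) (hpq : p < q) (hcop : Nat.Coprime p q) (hm : 0 < m)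
    (d0 d1 d2 e0 e1 e2 : ℕ) (hn : (e0 : ℤ) - (p : ℤ) * e1 + (q : ℤ) * e2 = (d0 : ℤ) - (p : ℤ) * d1 + (q : ℤ) * d2)
    (hn0 : 0 ≤ (d0 : ℤ) - (p : ℤ) * d1 + (q : ℤ) * d2) (hnq : (d0 : ℤ) - (p : ℤ) * d1 + (q : ℤ) * d2 < (q : ℤ) - p)
    (hcd : (m : ℤ) ∣ (d1 : ℤ) - d2) (hce : (m : ℤ) ∣ (e1 : ℤ) - e2)
    (hd0 : d0 < Nat.gcd m (q - p)) (he0 : e0 < Nat.gcd m (q - p)) :
    (d0 = e0 ∧ ((m : ℤ) * ((q - p) / Nat.gcd m (q - p) : ℕ)) ∣ ((d1 : ℤ) - d2) - ((e1 : ℤ) - e2)) ∧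
    ((d1 : ℤ) - d2 < (e1 : ℤ) - e2 →
      (MvPolynomial.X (0 : Fin 3) ^ d0 * MvPolynomial.X (1 : Fin 3) ^ d1 * MvPolynomial.X (2 : Fin 3) ^ d2 * (MvPolynomial.X (1 : Fin 3) ^ (m / Nat.gcd m (q - p) * q) * MvPolynomial.X (2 : Fin 3) ^ (m / Nat.gcd m (q - p) * p)) : MvPolynomial (Fin 3) k) ∣ MvPolynomial.X (0 : Fin 3) ^ e0 * MvPolynomial.X (1 : Fin 3) ^ e1 * MvPolynomial.X (2 : Fin 3) ^ e2) ∧
    ((MvPolynomial.X (0 : Fin 3) ^ e0 * MvPolynomial.X (1 : Fin 3) ^ e1 * MvPolynomial.X (2 : Fin 3) ^ e2 - MvPolynomial.X (0 : Fin 3) ^ d0 * MvPolynomial.X (1 : Fin 3) ^ d1 * MvPolynomial.X (2 : Fin 3) ^ d2 : MvPolynomial (Fin 3) k) ∈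
      Ideal.span {(1 : MvPolynomial (Fin 3) k) - MvPolynomial.X (1 : Fin 3) ^ (m / Nat.gcd m (q - p) * q) * MvPolynomial.X (2 : Fin 3) ^ (m / Nat.gcd m (q - p) * p)}) := by
  have hgpos : 0 < Nat.gcd m (q - p) := Nat.gcd_pos_of_pos_left _ hm
  have ha : m / Nat.gcd m (q - p) * Nat.gcd m (q - p) = m :=
    Nat.div_mul_cancel (Nat.gcd_dvd_left _ _)
  have hb : (q - p) / Nat.gcd m (q - p) * Nat.gcd m (q - p) = q - p :=
    Nat.div_mul_cancel (Nat.gcd_dvd_right _ _)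
  have hab : Nat.Coprime (m / Nat.gcd m (q - p)) ((q - p) / Nat.gcd m (q - p)) :=
    Nat.coprime_div_gcd_div_gcd hgpos
  obtain ⟨hde, j, hj1, hj2, hj3⟩ := int_key p q m _ _ _ hpq hcop hgpos ha hb hab d0 d1 d2 e0 e1 e2
    hn hcd hce hd0 he0
  generalize m / Nat.gcd m (q - p) = a at *
  generalize (q - p) / Nat.gcd m (q - p) = b at *
  subst hde
  have hmb : (0 : ℤ) < (m : ℤ) * b := by
    have h1 : 0 < b := by
      rcases Nat.eq_zero_or_pos b with h | h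
      · rw [h, zero_mul] at hb; omega
      · exact h
    have h2 : (0 : ℤ) < m := by exact_mod_cast hm
    have h3 : (0 : ℤ) < b := by exact_mod_cast h1
    exact mul_pos h2 h3
  -- the two directions of shifting
  have shift_neg : ∀ j' : ℕ, -j = (j' : ℤ) →
      (X (0 : Fin 3) ^ d0 * X (1 : Fin 3) ^ e1 * X (2 : Fin 3) ^ e2 : MvPolynomial (Fin 3) k) =
      X (0 : Fin 3) ^ d0 * X (1 : Fin 3) ^ d1 * X (2 : Fin 3) ^ d2 *
        (X (1 : Fin 3) ^ (a * q) * X (2 : Fin 3) ^ (a * p)) ^ j' := by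
    intro j' hj'
    have h1 : e1 = d1 + a * q * j' := by
      have h2 : (e1 : ℤ) = d1 + a * q * j' := by rw [← hj']; linarith
      exact_mod_cast h2
    have h3 : e2 = d2 + a * p * j' := by
      have h2 : (e2 : ℤ) = d2 + a * p * j' := by rw [← hj']; linarith
      exact_mod_cast h2
    rw [h1, h3]
    exact mon_shift k (a * q) (a * p) d0 d1 d2 j'
  have shift_pos : ∀ j' : ℕ, j = (j' : ℤ) →
      (X (0 : Fin 3) ^ d0 * X (1 : Fin 3) ^ d1 * X (2 : Fin 3) ^ d2 : MvPolynomial (Fin 3) k) =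
      X (0 : Fin 3) ^ d0 * X (1 : Fin 3) ^ e1 * X (2 : Fin 3) ^ e2 *
        (X (1 : Fin 3) ^ (a * q) * X (2 : Fin 3) ^ (a * p)) ^ j' := by
    intro j' hj'
    have h1 : d1 = e1 + a * q * j' := by
      have h2 : (d1 : ℤ) = e1 + a * q * j' := by rw [← hj']; linarith
      exact_mod_cast h2
    have h3 : d2 = e2 + a * p * j' := by
      have h2 : (d2 : ℤ) = e2 + a * p * j' := by rw [← hj']; linarith
      exact_mod_cast h2
    rw [h1, h3]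
    exact mon_shift k (a * q) (a * p) d0 e1 e2 j'
  refine ⟨⟨rfl, Dvd.intro j hj1.symm⟩, ?_, ?_⟩
  · intro hlt
    have hjneg : j < 0 := by
      by_contra hcon
      rw [not_lt] at hcon
      have h1 : 0 ≤ (m : ℤ) * b * j := mul_nonneg hmb.le hcon
      linarith
    obtain ⟨j', hj'⟩ := Int.eq_ofNat_of_zero_le (neg_nonneg.mpr hjneg.le)
    have hj'pos : 0 < j' := by
      have h1 : (0 : ℤ) < (j' : ℤ) := by rw [← hj']; linarith
      exact_mod_cast h1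
    obtain ⟨j'', rfl⟩ := Nat.exists_eq_succ_of_ne_zero hj'pos.ne'
    rw [shift_neg _ hj', pow_succ']
    exact ⟨(X (1 : Fin 3) ^ (a * q) * X (2 : Fin 3) ^ (a * p)) ^ j'', by ring⟩
  · rw [Ideal.mem_span_singleton]
    rcases le_total j 0 with h0 | h0
    · obtain ⟨j', hj'⟩ := Int.eq_ofNat_of_zero_le (neg_nonneg.mpr h0)
      rw [shift_neg _ hj']
      obtain ⟨w, hw⟩ := sub_dvd_pow_sub_pow (1 : MvPolynomial (Fin 3) k)
        (X (1 : Fin 3) ^ (a * q) * X (2 : Fin 3) ^ (a * p)) j'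
      rw [one_pow] at hw
      refine ⟨-(X (0 : Fin 3) ^ d0 * X (1 : Fin 3) ^ d1 * X (2 : Fin 3) ^ d2) * w, ?_⟩
      linear_combination (-(X (0 : Fin 3) ^ d0 * X (1 : Fin 3) ^ d1 * X (2 : Fin 3) ^ d2)) * hw
    · obtain ⟨j', hj'⟩ := Int.eq_ofNat_of_zero_le h0
      rw [shift_pos _ hj']
      obtain ⟨w, hw⟩ := sub_dvd_pow_sub_pow (1 : MvPolynomial (Fin 3) k)
        (X (1 : Fin 3) ^ (a * q) * X (2 : Fin 3) ^ (a * p)) j'
      rw [one_pow] at hw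
      refine ⟨(X (0 : Fin 3) ^ d0 * X (1 : Fin 3) ^ e1 * X (2 : Fin 3) ^ e2) * w, ?_⟩
      linear_combination (X (0 : Fin 3) ^ d0 * X (1 : Fin 3) ^ e1 * X (2 : Fin 3) ^ e2) * hw

end Groth.Agent.S15739
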