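import Groth.Statements.S1574
import Groth.Agent.S5161

set_option autoImplicit false
universe u
open CategoryTheory CategoryTheory.Limits AlgebraicGeometry
open Divisors

namespace Groth.Agent.S1574


theorem exists_basic (A : Type u) [CommRing A] [IsLocalRing A] [IsNoetherianRing A]
    (hdim : ringKrullDim A ≤ 1) (hnm : IsLocalRing.maximalIdeal A ∉ minimalPrimes A) :
    ∃ f : A, ∀ q : PrimeSpectrum A, q ≠ IsLocalRing.closedPoint A ↔ f ∉ q.asIdeal := by
  classical
  have hfin : (minimalPrimes A).Finite := minimalPrimes.finite_of_isNoetherianRing A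
  have hnot : ¬ ((IsLocalRing.maximalIdeal A : Set A) ⊆
      ⋃ p ∈ (↑hfin.toFinset : Set (Ideal A)), ((fun p : Ideal A => p) p : Set A)) := by
    intro h
    rw [Ideal.subset_union_prime (f := fun p : Ideal A => p) ⊥ ⊥
      (fun i hi _ _ => ((Set.Finite.mem_toFinset hfin).mp hi).1.1)] at h
    obtain ⟨p, hp, hle⟩ := h
    have hp' : p ∈ minimalPrimes A := (Set.Finite.mem_toFinset hfin).mp hp
    have hpp : p.IsPrime := hp'.1.1
    have : p = IsLocalRing.maximalIdeal A :=
      le_antisymm (IsLocalRing.le_maximalIdeal hpp.ne_top) hle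
    exact hnm (this ▸ hp')
  obtain ⟨f, hfm, hf⟩ := Set.not_subset.mp hnot
  have hf' : ∀ p ∈ minimalPrimes A, f ∉ p := by
    intro p hp hfp
    apply hf
    simp only [Set.mem_iUnion]
    exact ⟨p, by simpa using hp, hfp⟩
  have hm : (IsLocalRing.maximalIdeal A).height ≤ 1 := by
    have := IsLocalRing.maximalIdeal_height_eq_ringKrullDim (R := A)
    rw [← this] at hdim
    exact_mod_cast hdim
  refine ⟨f, fun q => ⟨fun hq hfq => ?_, fun hfq hq => hfq (hq ▸ hfm)⟩⟩
  obtain ⟨p₀, hp₀, hle⟩ := Ideal.exists_minimalPrimes_le (I := ⊥) (J := q.asIdeal) bot_le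
  have hp₀' : p₀.IsPrime := hp₀.1.1
  have h1 : p₀ < q.asIdeal := lt_of_le_of_ne hle (fun h => hf' p₀ hp₀ (h ▸ hfq))
  have h2 : q.asIdeal < IsLocalRing.maximalIdeal A :=
    lt_of_le_of_ne (IsLocalRing.le_maximalIdeal q.2.ne_top)
      (fun h => hq (PrimeSpectrum.ext h))
  have e1 := Ideal.height_add_one_le_of_lt_of_isPrime h1
  have e2 := Ideal.height_add_one_le_of_lt_of_isPrime h2
  have e3 : (1 : ℕ∞) ≤ q.asIdeal.height := le_trans (by simp) e1
  have e4 : (2 : ℕ∞) ≤ (IsLocalRing.maximalIdeal A).height := by
    calc (2 : ℕ∞) = 1 + 1 := by norm_num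
      _ ≤ q.asIdeal.height + 1 := by gcongr
      _ ≤ _ := e2
  have := le_trans e4 hm
  norm_num at this

/-- For a Noetherian local ring A, the punctured spectrum (Spec A minus the closed point, as an open
subscheme) is affine if and only if dim A ≤ 1. -/
theorem result (A : Type u) [CommRing A] [IsLocalRing A] [IsNoetherianRing A] :
    IsAffine (FEt.puncturedSpec A : Scheme.{u}) ↔ ringKrullDim A ≤ 1 := by
  constructor
  · intro h
    have hU : IsAffineOpen (FEt.puncturedSpec A) := h
    have := Groth.Agent.S5161.result A (FEt.puncturedSpec A) hU (IsLocalRing.closedPoint A)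
      (fun hmem => hmem rfl)
      (fun q _ hq => by
        by_contra hne
        exact hq hne)
    rw [← IsLocalRing.maximalIdeal_height_eq_ringKrullDim]
    exact_mod_cast this
  · intro hdim
    change IsAffineOpen (FEt.puncturedSpec A)
    by_cases hnm : IsLocalRing.maximalIdeal A ∈ minimalPrimes A
    · have : FEt.puncturedSpec A = ⊥ := by
        ext q
        simp only [FEt.puncturedSpec]
        constructor
        · intro hq
          exfalso
          apply hq
          have hq2 : (q : PrimeSpectrum A).asIdeal.IsPrime := (q : PrimeSpectrum A).2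
          have := hnm.2 ⟨hq2, bot_le⟩ (IsLocalRing.le_maximalIdeal hq2.ne_top)
          exact PrimeSpectrum.ext (le_antisymm (IsLocalRing.le_maximalIdeal hq2.ne_top) this)
        · intro hq
          exact absurd hq (by simp)
      rw [this]
      exact isAffineOpen_bot _
    · obtain ⟨f, hf⟩ := exists_basic A hdim hnm
      have : FEt.puncturedSpec A = PrimeSpectrum.basicOpen f := by
        ext q
        exact hf q
      rw [this]
      exact IsAffineOpen.Spec_basicOpen (R := CommRingCat.of A) f

end Groth.Agent.S1574
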