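import Groth.Statements.S15740
import Mathlib.Tactic

set_option autoImplicit false
open W4c2invhilbsl2

namespace Groth.Agent.S15740

/-- For a monomial X₀^d₀X₁^d₁X₂^d₂ of the polynomial ring in X₀, X₁, X₂ (X₂ standing for Xⱼ, j = 3 or 4,
of the five-variable ring) put n = d₀ − p·d₁ + q·d₂ (its weight for the torus diag(t, t^(−p), t^q)),
c = d₁ − d₂ and ω = p·d₁ − q·d₂, so that d₀ = n + ω; here 0 < p < q are coprime integers. Suppose n
≥ 0, c > 0 and d₀ < q − p (the last condition says that ω is the least value of ω for the pair (n,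
c)). Then ω ≥ 0 if and only if the remainder of p·c on division by q − p, plus n, is less than q −
p. -/
theorem result (p q : ℕ) (hp : 0 < p) (hpq : p < q) (hcop : Nat.Coprime p q) (d0 d1 d2 : ℕ)
    (hn : 0 ≤ (d0 : ℤ) - (p : ℤ) * d1 + (q : ℤ) * d2) (hc : (d2 : ℤ) < d1) (hd0 : d0 < q - p) :
    0 ≤ (p : ℤ) * d1 - (q : ℤ) * d2 ↔
      Int.emod ((p : ℤ) * ((d1 : ℤ) - d2)) ((q : ℤ) - p) + ((d0 : ℤ) - (p : ℤ) * d1 + (q : ℤ) * d2) < (q : ℤ) - p := by
  have hpq' : (p : ℤ) < q := by exact_mod_cast hpq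
  have hM : (0 : ℤ) < (q : ℤ) - p := by linarith
  have hd0' : (d0 : ℤ) < (q : ℤ) - p := by
    have h1 : ((q - p : ℕ) : ℤ) = (q : ℤ) - p := Nat.cast_sub hpq.le
    rw [← h1]; exact_mod_cast hd0
  obtain ⟨ω, hω⟩ : ∃ ω : ℤ, ω = (p : ℤ) * d1 - (q : ℤ) * d2 := ⟨_, rfl⟩
  obtain ⟨M, hMdef⟩ : ∃ M : ℤ, M = (q : ℤ) - p := ⟨_, rfl⟩
  have e1 : (p : ℤ) * ((d1 : ℤ) - d2) = ω + M * d2 := by rw [hω, hMdef]; ring
  have e0 : Int.emod ((p : ℤ) * ((d1 : ℤ) - d2)) ((q : ℤ) - p) = ω % M := by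
    show ((p : ℤ) * ((d1 : ℤ) - d2)) % ((q : ℤ) - p) = _
    rw [e1, ← hMdef, Int.add_mul_emod_self_left]
  have hnn : (d0 : ℤ) - (p : ℤ) * d1 + (q : ℤ) * d2 = (d0 : ℤ) - ω := by rw [hω]; ring
  rw [e0, hnn, ← hω, ← hMdef]
  rw [← hMdef] at hM hd0'
  rw [hnn] at hn
  have hr0 := Int.emod_nonneg ω hM.ne'
  have hr1 := Int.emod_lt_of_pos ω hM
  have hdiv := Int.emod_add_mul_ediv ω M
  have hd0nn : (0 : ℤ) ≤ d0 := Nat.cast_nonneg _
  constructor
  · intro h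
    have h2 : ω % M = ω := Int.emod_eq_of_lt h (by linarith)
    rw [h2]; linarith
  · intro h
    by_contra hneg
    rw [not_le] at hneg
    have ht : ω / M ≤ -1 := by
      by_contra h2
      rw [not_le] at h2
      have h3 : 0 ≤ ω / M := by omega
      nlinarith
    nlinarith

end Groth.Agent.S15740
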