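import Groth.Statements.S15749
import Mathlib

set_option autoImplicit false
universe u
open CAlg

namespace Groth.Agent.S15749

section aux
variable {R : Type u} [CommRing R]

theorem coeff_mul_mem {J₁ J₂ : Ideal R} {x y : HahnSeries ℤ R} (hx : ∀ i, x.coeff i ∈ J₁)
    (hy : ∀ i, y.coeff i ∈ J₂) (i : ℤ) : (x * y).coeff i ∈ J₁ * J₂ := by
  rw [HahnSeries.coeff_mul]
  exact Ideal.sum_mem _ (fun ij _ => Ideal.mul_mem_mul (hx _) (hy _))

theorem coeff_pow_mem {J : Ideal R} {x : HahnSeries ℤ R} (hx : ∀ i, x.coeff i ∈ J) (k : ℕ)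
    (i : ℤ) : (x ^ k).coeff i ∈ J ^ k := by
  induction k generalizing i with
  | zero => rw [pow_zero J, Ideal.one_eq_top]; exact Submodule.mem_top
  | succ k ih =>
    rw [pow_succ, pow_succ]
    exact coeff_mul_mem ih hx i

theorem coeff_mem_prime_of_idem {e : HahnSeries ℤ R} (he : IsIdempotentElem e) (P : Ideal R)
    [P.IsPrime] :
    (∀ i, i ≠ 0 → e.coeff i ∈ P) ∧ (e.coeff 0 * e.coeff 0 - e.coeff 0 ∈ P) := by
  set π : R →ₙ+* R ⧸ P := (Ideal.Quotient.mk P).toNonUnitalRingHom with hπ
  have hidem : IsIdempotentElem (e.map π) := by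
    unfold IsIdempotentElem
    rw [← HahnSeries.map_mul, he.eq]
  have hcoeff : ∀ i, (e.map π).coeff i = Ideal.Quotient.mk P (e.coeff i) := fun i => rfl
  rcases IsIdempotentElem.iff_eq_zero_or_one.mp hidem with h0 | h1
  · have hall : ∀ i, e.coeff i ∈ P := by
      intro i
      rw [← Ideal.Quotient.eq_zero_iff_mem, ← hcoeff, h0, HahnSeries.coeff_zero]
    exact ⟨fun i _ => hall i, P.sub_mem (P.mul_mem_left _ (hall 0)) (hall 0)⟩
  · constructor
    · intro i hi
      rw [← Ideal.Quotient.eq_zero_iff_mem, ← hcoeff, h1, HahnSeries.coeff_one, if_neg hi]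
    · have h00 : Ideal.Quotient.mk P (e.coeff 0) = 1 := by
        rw [← hcoeff, h1, HahnSeries.coeff_one, if_pos rfl]
      rw [← Ideal.Quotient.eq_zero_iff_mem, map_sub, map_mul, h00]; ring

theorem coeff_nilpotent_of_idem {e : HahnSeries ℤ R} (he : IsIdempotentElem e) :
    (∀ i, i ≠ 0 → e.coeff i ∈ nilradical R) ∧
      (e.coeff 0 * e.coeff 0 - e.coeff 0 ∈ nilradical R) := by
  rw [nilradical_eq_sInf]
  constructor
  · intro i hi
    rw [Ideal.mem_sInf]
    intro P hP
    have : P.IsPrime := hP
    exact (coeff_mem_prime_of_idem he P).1 i hi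
  · rw [Ideal.mem_sInf]
    intro P hP
    have : P.IsPrime := hP
    exact (coeff_mem_prime_of_idem he P).2

theorem eq_zero_of_idem_of_coeff_nil {d : HahnSeries ℤ R} (hd : IsIdempotentElem d)
    (hn : ∀ i, d.coeff i ∈ nilradical R) : d = 0 := by
  classical
  set s : Finset R := (Finset.Icc d.order 0).image d.coeff with hs
  set J : Ideal R := Ideal.span (s : Set R) with hJ
  have hJfg : J.FG := ⟨s, rfl⟩
  have hJnil : J ≤ nilradical R := by
    rw [hJ, Ideal.span_le]
    intro a ha
    rw [Finset.mem_coe, hs, Finset.mem_image] at ha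
    obtain ⟨i, -, rfl⟩ := ha
    exact hn i
  obtain ⟨K, hK⟩ := hJfg.isNilpotent_iff_le_nilradical.mpr hJnil
  have hle0 : ∀ i, i ≤ 0 → d.coeff i ∈ J := by
    intro i hi
    by_cases h : d.order ≤ i
    · exact Ideal.subset_span (Finset.mem_coe.mpr
        (Finset.mem_image.mpr ⟨i, Finset.mem_Icc.mpr ⟨h, hi⟩, rfl⟩))
    · rw [HahnSeries.coeff_eq_zero_of_lt_order (not_le.mp h)]; exact J.zero_mem
  set π : R →ₙ+* R ⧸ J := (Ideal.Quotient.mk J).toNonUnitalRingHom with hπ
  have hidem : d.map π * d.map π = d.map π := by rw [← HahnSeries.map_mul, hd.eq]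
  have hcoeff : ∀ i, (d.map π).coeff i = Ideal.Quotient.mk J (d.coeff i) := fun i => rfl
  have hzero : d.map π = 0 := by
    by_contra hne
    have hord := HahnSeries.order_eq_orderTop_of_ne_zero hne
    have hpos : 0 < (d.map π).order := by
      by_contra hnp
      rw [not_lt] at hnp
      apply HahnSeries.coeff_orderTop_ne hord.symm
      rw [hcoeff]
      exact Ideal.Quotient.eq_zero_iff_mem.mpr (hle0 _ hnp)
    have h2 := HahnSeries.orderTop_add_le_mul (x := d.map π) (y := d.map π)
    rw [hidem, ← hord] at h2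
    have h3 : (d.map π).order + (d.map π).order ≤ (d.map π).order := by exact_mod_cast h2
    omega
  have hall : ∀ i, d.coeff i ∈ J := by
    intro i
    rw [← Ideal.Quotient.eq_zero_iff_mem, ← hcoeff, hzero, HahnSeries.coeff_zero]
  have hpow : d ^ (K + 1) = d := hd.pow_succ_eq K
  ext i
  have h5 := coeff_pow_mem hall (K + 1) i
  rw [hpow, pow_succ, hK, zero_mul] at h5
  exact h5

end aux

/-- For an arbitrary commutative ring R, every idempotent of the ring of formal Laurent series R((t)) is
the constant series attached to a unique idempotent of R. Equivalently, the structure map R → R((t))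
induces a bijection on idempotents, so that the spectrum of R((t)) is connected if and only if the
spectrum of R is. No reducedness is assumed. -/
theorem result (R : Type u) [CommRing R]
    (e : LaurentSeries R) (he : IsIdempotentElem e) :
    ∃! r : R, IsIdempotentElem r ∧ HahnSeries.C r = e := by
  obtain ⟨h1, h2⟩ := coeff_nilpotent_of_idem he
  have hker : ∀ x ∈ RingHom.ker (Ideal.Quotient.mk (nilradical R)), IsNilpotent x := by
    intro x hx
    rw [Ideal.mk_ker] at hx
    exact hx
  have hidem0 : IsIdempotentElem (Ideal.Quotient.mk (nilradical R) (e.coeff 0)) := by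
    unfold IsIdempotentElem
    rw [← map_mul, ← sub_eq_zero, ← map_sub]
    exact Ideal.Quotient.eq_zero_iff_mem.mpr h2
  obtain ⟨r, hr, hre⟩ := exists_isIdempotentElem_eq_of_ker_isNilpotent
    (Ideal.Quotient.mk (nilradical R)) hker _ ⟨e.coeff 0, rfl⟩ hidem0
  have hr0 : r - e.coeff 0 ∈ nilradical R := Ideal.Quotient.eq.mp hre
  have hCr : IsIdempotentElem (HahnSeries.C r : LaurentSeries R) := by
    unfold IsIdempotentElem; rw [← map_mul, hr.eq]
  have hdiff : ∀ i, (e - HahnSeries.C r).coeff i ∈ nilradical R := by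
    intro i
    rw [HahnSeries.coeff_sub, HahnSeries.C_apply, HahnSeries.coeff_single]
    by_cases hi : i = 0
    · subst hi
      rw [if_pos rfl]
      have := (nilradical R).neg_mem hr0
      rwa [neg_sub] at this
    · rw [if_neg hi, sub_zero]; exact h1 i hi
  have hall : ∀ x : LaurentSeries R, ∀ i,
      (x * (e - HahnSeries.C r)).coeff i ∈ nilradical R := by
    intro x i
    have := coeff_mul_mem (J₁ := ⊤) (J₂ := nilradical R) (x := x)
      (fun _ => Submodule.mem_top) hdiff i
    rwa [Ideal.top_mul] at this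
  have hu : e * (1 - HahnSeries.C r) = 0 := by
    apply eq_zero_of_idem_of_coeff_nil (he.mul hCr.one_sub)
    intro i
    have : e * (1 - HahnSeries.C r) = e * (e - HahnSeries.C r) := by
      rw [mul_sub, mul_sub, mul_one, he.eq]
    rw [this]; exact hall e i
  have hv : HahnSeries.C r * (1 - e) = 0 := by
    apply eq_zero_of_idem_of_coeff_nil (hCr.mul he.one_sub)
    intro i
    have : HahnSeries.C r * (1 - e) = - (HahnSeries.C r * (e - HahnSeries.C r)) := by
      rw [mul_sub, mul_sub, mul_one, hCr.eq]; ring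
    rw [this, HahnSeries.coeff_neg]
    exact (nilradical R).neg_mem (hall _ i)
  have heq : HahnSeries.C r = e := by
    rw [mul_sub, mul_one, sub_eq_zero] at hu hv
    calc HahnSeries.C r = HahnSeries.C r * e := hv
      _ = e * HahnSeries.C r := mul_comm _ _
      _ = e := hu.symm
  refine ⟨r, ⟨hr, heq⟩, ?_⟩
  rintro r' ⟨-, hr'⟩
  exact HahnSeries.C_injective (hr'.trans heq.symm)

end Groth.Agent.S15749
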