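import Groth.Statements.S15750
import Mathlib

set_option autoImplicit false
universe u
open CAlg

namespace Groth.Agent.S15750

section aux
variable {R : Type u} [CommRing R]

theorem coeff_single_mul_ofPS (n : ℤ) (p : PowerSeries R) (i : ℤ) :
    (HahnSeries.single n (1 : R) * HahnSeries.ofPowerSeries ℤ R p).coeff i =
      if i - n < 0 then 0 else PowerSeries.coeff (i - n).natAbs p := by
  rw [HahnSeries.coeff_single_mul, one_mul]
  exact PowerSeries.coeff_coe p (i - n)

theorem exists_order_prime {f g : HahnSeries ℤ R} (hfg : f * g = 1) (P : Ideal R) [P.IsPrime] :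
    ∃ n : ℤ, (∀ i, i < n → f.coeff i ∈ P) ∧ (∀ j, j < -n → g.coeff j ∈ P) ∧
      (f.coeff n * g.coeff (-n) - 1 ∈ P) := by
  obtain ⟨π, hπ⟩ : ∃ π : R →ₙ+* R ⧸ P, π = (Ideal.Quotient.mk P).toNonUnitalRingHom := ⟨_, rfl⟩
  have hcf : ∀ i, (f.map π).coeff i = Ideal.Quotient.mk P (f.coeff i) := fun i => by
    rw [hπ]; rfl
  have hcg : ∀ i, (g.map π).coeff i = Ideal.Quotient.mk P (g.coeff i) := fun i => by
    rw [hπ]; rfl
  have hone : f.map π * g.map π = 1 := by
    rw [← HahnSeries.map_mul, hfg]
    ext i
    rw [hπ]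
    show Ideal.Quotient.mk P ((1 : HahnSeries ℤ R).coeff i) = _
    rw [HahnSeries.coeff_one, HahnSeries.coeff_one]
    split_ifs <;> simp
  have hf0 : f.map π ≠ 0 := by
    intro h; rw [h, zero_mul] at hone; exact zero_ne_one hone
  have hg0 : g.map π ≠ 0 := by
    intro h; rw [h, mul_zero] at hone; exact zero_ne_one hone
  have hord : (f.map π).order + (g.map π).order = 0 := by
    rw [← HahnSeries.order_mul hf0 hg0, hone, HahnSeries.order_one]
  refine ⟨(f.map π).order, ?_, ?_, ?_⟩
  · intro i hi
    rw [← Ideal.Quotient.eq_zero_iff_mem, ← hcf]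
    exact HahnSeries.coeff_eq_zero_of_lt_order hi
  · intro j hj
    rw [← Ideal.Quotient.eq_zero_iff_mem, ← hcg]
    apply HahnSeries.coeff_eq_zero_of_lt_order
    omega
  · have h1 := HahnSeries.coeff_mul_order_add_order (f.map π) (g.map π)
    have h2 : (g.map π).order = -(f.map π).order := by omega
    rw [hone, hord, HahnSeries.coeff_one, if_pos rfl, HahnSeries.leadingCoeff_eq,
      HahnSeries.leadingCoeff_eq, hcf, hcg, h2] at h1
    rw [← Ideal.Quotient.eq_zero_iff_mem, map_sub, map_mul, ← h1, map_one, sub_self]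

theorem key [IsReduced R] [Nontrivial R] {f g : HahnSeries ℤ R}
    (hconn : ∀ e : R, IsIdempotentElem e → e = 0 ∨ e = 1)
    (hfg : f * g = 1) : ∃ n : ℤ, (∀ i, i < n → f.coeff i = 0) ∧ IsUnit (f.coeff n) := by
  obtain ⟨P₀, hP₀⟩ := Ideal.exists_maximal R
  have hP₀' : P₀.IsPrime := hP₀.isPrime
  obtain ⟨n, hn1, hn2, hn3⟩ := exists_order_prime hfg P₀
  obtain ⟨a, ha⟩ : ∃ a : R, a = f.coeff n * g.coeff (-n) := ⟨_, rfl⟩
  rw [← ha] at hn3
  have hnil : ∀ x : R, (∀ P : Ideal R, P.IsPrime → x ∈ P) → x = 0 := by
    intro x hx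
    have : x ∈ nilradical R := by
      rw [nilradical_eq_sInf, Ideal.mem_sInf]
      intro P hP
      exact hx P hP
    exact IsNilpotent.eq_zero (mem_nilradical.mp this)
  have hidem : IsIdempotentElem a := by
    unfold IsIdempotentElem
    rw [← sub_eq_zero]
    apply hnil
    intro P hP
    have := hP
    obtain ⟨m, hm1, hm2, hm3⟩ := exists_order_prime hfg P
    have hfac : a * a - a = a * (a - 1) := by ring
    rw [hfac]
    rcases lt_trichotomy n m with h | h | h
    · have h1 : f.coeff n ∈ P := hm1 n h
      have ha' : a ∈ P := by rw [ha]; exact P.mul_mem_right _ h1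
      exact P.mul_mem_right _ ha'
    · subst h
      rw [← ha] at hm3
      exact P.mul_mem_left _ hm3
    · have h1 : g.coeff (-n) ∈ P := hm2 (-n) (by omega)
      have ha' : a ∈ P := by rw [ha]; exact P.mul_mem_left _ h1
      exact P.mul_mem_right _ ha'
  have ha1 : a = 1 := by
    rcases hconn a hidem with h | h
    · exfalso
      rw [h, zero_sub] at hn3
      have h1 := P₀.neg_mem hn3
      rw [neg_neg] at h1
      exact hP₀'.ne_top ((Ideal.eq_top_iff_one _).mpr h1)
    · exact h
  rw [ha] at ha1
  refine ⟨n, ?_, IsUnit.of_mul_eq_one _ ha1⟩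
  intro i hi
  apply hnil
  intro P hP
  have := hP
  obtain ⟨m, hm1, hm2, hm3⟩ := exists_order_prime hfg P
  have hmn : n ≤ m := by
    by_contra hlt
    rw [not_le] at hlt
    have h1 : g.coeff (-n) ∈ P := hm2 (-n) (by omega)
    have h2 : f.coeff n * g.coeff (-n) ∈ P := P.mul_mem_left _ h1
    rw [ha1] at h2
    exact hP.ne_top ((Ideal.eq_top_iff_one _).mpr h2)
  exact hm1 i (lt_of_lt_of_le hi hmn)

end aux

/-- Let R be a nonzero reduced commutative ring with no idempotents other than 0 and 1. Then every unit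
of the Laurent series ring R((t)) is t^n · u for a unique integer n and a unique unit u of the power
series ring R[[t]]. (The published statement is for an arbitrary torus T over a reduced ring R, with
n replaced by a locally constant integer-valued function on Spec R, i.e. a point of the cocharacter
lattice; this row is the case where T is the multiplicative group and Spec R is connected, to which
the published proof reduces.) -/
theorem result (R : Type u) [CommRing R]
    [IsReduced R] [Nontrivial R] (hconn : ∀ e : R, IsIdempotentElem e → e = 0 ∨ e = 1)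
    (f : (LaurentSeries R)ˣ) :
    ∃! p : ℤ × (PowerSeries R)ˣ,
      (f : LaurentSeries R) = HahnSeries.single p.1 (1 : R) * HahnSeries.ofPowerSeries ℤ R (p.2 : PowerSeries R) := by
  have hfg : (f : LaurentSeries R) * ((f⁻¹ : (LaurentSeries R)ˣ) : LaurentSeries R) = 1 :=
    f.mul_inv
  obtain ⟨n, hn1, hn2⟩ := key hconn hfg
  obtain ⟨p, hp⟩ : ∃ p : PowerSeries R,
      p = PowerSeries.mk (fun j => (f : LaurentSeries R).coeff (n + j)) := ⟨_, rfl⟩
  have hpc : PowerSeries.constantCoeff p = (f : LaurentSeries R).coeff n := by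
    rw [← PowerSeries.coeff_zero_eq_constantCoeff_apply, hp, PowerSeries.coeff_mk]
    simp
  have hpu : IsUnit p := by
    rw [PowerSeries.isUnit_iff_constantCoeff, hpc]
    exact hn2
  have hexist : (f : LaurentSeries R) =
      HahnSeries.single n (1 : R) * HahnSeries.ofPowerSeries ℤ R p := by
    ext i
    rw [coeff_single_mul_ofPS]
    split_ifs with h
    · exact hn1 i (by omega)
    · rw [hp, PowerSeries.coeff_mk, Int.natAbs_of_nonneg (by omega : 0 ≤ i - n)]
      congr 1
      ring
  refine ⟨(n, hpu.unit), ?_, ?_⟩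
  · show (f : LaurentSeries R) = HahnSeries.single n (1 : R) *
      HahnSeries.ofPowerSeries ℤ R ((hpu.unit : (PowerSeries R)ˣ) : PowerSeries R)
    rw [IsUnit.unit_spec]
    exact hexist
  rintro ⟨n', u'⟩ h'
  have h'' : (f : LaurentSeries R) = HahnSeries.single n' (1 : R) *
      HahnSeries.ofPowerSeries ℤ R (u' : PowerSeries R) := h'
  have hEq : HahnSeries.single n (1 : R) * HahnSeries.ofPowerSeries ℤ R p =
      HahnSeries.single n' (1 : R) * HahnSeries.ofPowerSeries ℤ R (u' : PowerSeries R) :=
    hexist.symm.trans h''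
  have hu0 : IsUnit (PowerSeries.constantCoeff (u' : PowerSeries R)) :=
    PowerSeries.isUnit_iff_constantCoeff.mp u'.isUnit
  have hp0 : IsUnit (PowerSeries.constantCoeff p) :=
    PowerSeries.isUnit_iff_constantCoeff.mp hpu
  have hnn : n' = n := by
    rcases lt_trichotomy n' n with h | h | h
    · exfalso
      have e1 : (HahnSeries.single n (1 : R) * HahnSeries.ofPowerSeries ℤ R p).coeff n' =
          (HahnSeries.single n' (1 : R) *
            HahnSeries.ofPowerSeries ℤ R (u' : PowerSeries R)).coeff n' := by rw [hEq]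
      rw [coeff_single_mul_ofPS, coeff_single_mul_ofPS, if_pos (show n' - n < 0 by omega),
        if_neg (show ¬ (n' - n' < 0) by omega), sub_self, Int.natAbs_zero,
        PowerSeries.coeff_zero_eq_constantCoeff_apply] at e1
      exact hu0.ne_zero e1.symm
    · exact h
    · exfalso
      have e1 : (HahnSeries.single n (1 : R) * HahnSeries.ofPowerSeries ℤ R p).coeff n =
          (HahnSeries.single n' (1 : R) *
            HahnSeries.ofPowerSeries ℤ R (u' : PowerSeries R)).coeff n := by rw [hEq]
      rw [coeff_single_mul_ofPS, coeff_single_mul_ofPS, if_neg (show ¬ (n - n < 0) by omega),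
        if_pos (show n - n' < 0 by omega), sub_self, Int.natAbs_zero,
        PowerSeries.coeff_zero_eq_constantCoeff_apply] at e1
      exact hp0.ne_zero e1
  rw [hnn] at hEq
  have hsu : IsUnit (HahnSeries.single n (1 : R) : LaurentSeries R) := by
    refine IsUnit.of_mul_eq_one (HahnSeries.single (-n) (1 : R)) ?_
    rw [HahnSeries.single_mul_single, add_neg_cancel, mul_one]
    rfl
  have h3 := hsu.mul_left_cancel hEq
  have h4 : p = (u' : PowerSeries R) := HahnSeries.ofPowerSeries_injective h3
  exact Prod.ext hnn (Units.ext (h4.symm.trans hpu.unit_spec.symm))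

end Groth.Agent.S15750
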