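import Groth.Statements.S1576
import Groth.Agent.Lead.FinType2
import Groth.Agent.Lead.QCoh3
-- import your own Groth.Agent.* helpers here

set_option autoImplicit false
universe u
open CategoryTheory CategoryTheory.Limits AlgebraicGeometry
open Divisors

namespace Groth.Agent.S1576


section
open CategoryTheory CategoryTheory.Limits AlgebraicGeometry Opposite TopologicalSpace
open Groth.Agent.Lead.QCoh Groth.Agent.Lead.FinType

theorem mem_associatedPrimes_of_minimal {A M : Type*} [CommRing A] [AddCommGroup M] [Module A M]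
    (p : Ideal A) (hpp : p.IsPrime) (hfg : p.FG) (m : M) (I : Ideal A)
    (hI : I = LinearMap.ker (LinearMap.toSpanSingleton A M m))
    (hq : p ∈ I.minimalPrimes) :
    p ∈ associatedPrimes A M := by
  classical
  subst hI
  obtain ⟨s, hs⟩ := hfg
  have hch : ∀ a ∈ s, ∃ (b : A) (k : ℕ), b ∉ p ∧
      b * a ^ k ∈ LinearMap.ker (LinearMap.toSpanSingleton A M m) := by
    intro a ha
    exact exists_mul_pow_mem_of_mem_minimalPrimes hq (hs ▸ Ideal.subset_span ha)
  choose! bf kf hbf hkf using hch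
  have hg : ∏ a ∈ s, bf a ∉ p := by
    rw [Ideal.IsPrime.prod_mem_iff]
    rintro ⟨a, ha, hba⟩
    exact hbf a ha hba
  refine ⟨hpp, (∏ a ∈ s, bf a) • m, ?_⟩
  rw [colon_bot_singleton]
  have hmem : ∀ c : A, c ∈ LinearMap.ker (LinearMap.toSpanSingleton A M ((∏ a ∈ s, bf a) • m)) ↔
      c * (∏ a ∈ s, bf a) ∈ LinearMap.ker (LinearMap.toSpanSingleton A M m) := by
    intro c
    rw [LinearMap.mem_ker, LinearMap.mem_ker, LinearMap.toSpanSingleton_apply,
      LinearMap.toSpanSingleton_apply, mul_smul]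
  apply le_antisymm
  · rw [← hs, Ideal.span_le]
    intro a ha
    refine ⟨kf a, ?_⟩
    rw [hmem]
    obtain ⟨c, hc⟩ := Finset.dvd_prod_of_mem bf ha
    rw [hc]
    have : a ^ kf a * (bf a * c) = c * (bf a * a ^ kf a) := by ring
    rw [this]
    exact Ideal.mul_mem_left _ _ (hkf a ha)
  · refine (hpp.isRadical).radical_le_iff.mpr ?_
    intro c hc
    rw [hmem] at hc
    rcases hpp.mem_or_mem (hq.1.2 hc) with h1 | h1
    · exact h1
    · exact absurd h1 hg

theorem finite_assPoints_affine (X : Scheme.{u}) [IsLocallyNoetherian X] (F : X.Modules)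
    [F.IsQuasicoherent] [SheafOfModules.IsFiniteType (R := X.ringCatSheaf) F]
    (U : X.Opens) (hU : IsAffineOpen U) :
    {x : X | x ∈ U ∧ Curv2.IsAssPoint F x}.Finite := by
  classical
  haveI : IsNoetherianRing Γ(X, U) := IsLocallyNoetherian.component_noetherian ⟨U, hU⟩
  haveI : Module.Finite Γ(X, U) Γ(F, U) := finite_sections_of_isFiniteType F hU
  have hfin : (associatedPrimes Γ(X, U) Γ(F, U)).Finite := associatedPrimes.finite _ _
  refine Set.Finite.of_injOn
    (f := fun x => if h : x ∈ U then (hU.primeIdealOf ⟨x, h⟩).asIdeal else ⊥) ?_ ?_ hfin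
  · rintro x ⟨hxU, hx⟩
    simp only [dif_pos hxU]
    rw [isAssPoint_iff] at hx
    obtain ⟨t, ht⟩ := hx
    obtain ⟨a, n, hxa, han⟩ := exists_smul_eq_germ F hU x hxU t
    have hu : IsUnit (X.presheaf.germ U x hxU a) := (Scheme.mem_basicOpen _ _ x hxU).mp hxa
    let N : Ideal (X.presheaf.stalk x) := LinearMap.ker (LinearMap.toSpanSingleton
      (X.presheaf.stalk x) (F.presheaf.stalk x) (F.presheaf.germ U x hxU n))
    have hN : ∀ α, α ∈ N ↔ α • F.presheaf.germ U x hxU n = 0 := fun α => by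
      rw [LinearMap.mem_ker, LinearMap.toSpanSingleton_apply]
    have hNeq : N = LinearMap.ker (LinearMap.toSpanSingleton (X.presheaf.stalk x)
        (F.presheaf.stalk x) t) := by
      ext α
      rw [hN, LinearMap.mem_ker, LinearMap.toSpanSingleton_apply, ← han, smul_comm,
        hu.smul_eq_zero]
    have hrad : N.radical = IsLocalRing.maximalIdeal (X.presheaf.stalk x) := by
      rw [hNeq]; exact ht
    let I : Ideal Γ(X, U) := LinearMap.ker (LinearMap.toSpanSingleton Γ(X, U) Γ(F, U) n)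
    have hI : ∀ a, a ∈ I ↔ a • n = 0 := fun a => by
      rw [LinearMap.mem_ker, LinearMap.toSpanSingleton_apply]
    have hmin := mem_minimalPrimes_of_radical_eq F hU x hxU n
      (fun n' h => (germ_eq_zero_iff F hU x hxU n').mp h) I hI N hN hrad
    exact mem_associatedPrimes_of_minimal _ (hU.primeIdealOf ⟨x, hxU⟩).isPrime
      ((isNoetherianRing_iff_ideal_fg _).mp inferInstance _) n I rfl hmin
  · rintro x ⟨hxU, -⟩ y ⟨hyU, -⟩ hxy
    simp only [dif_pos hxU, dif_pos hyU] at hxy
    have h1 : hU.primeIdealOf ⟨x, hxU⟩ = hU.primeIdealOf ⟨y, hyU⟩ := PrimeSpectrum.ext hxy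
    have h2 := congrArg hU.fromSpec h1
    rw [hU.fromSpec_primeIdealOf, hU.fromSpec_primeIdealOf] at h2
    exact h2

end

/-- Let X be locally Noetherian and F coherent. Then the associated points of F lying in any
quasi-compact open subset form a finite set. -/
theorem result (X : Scheme.{u}) [IsLocallyNoetherian X]
    (F : X.Modules) (hF : Coh.IsCoh F) (U : X.Opens) (hU : IsCompact (U : Set X)) :
    {x : X | x ∈ U ∧ Curv2.IsAssPoint F x}.Finite := by
  haveI : F.IsQuasicoherent := hF.1
  haveI : SheafOfModules.IsFiniteType (R := X.ringCatSheaf) F := hF.2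
  obtain ⟨I, hI, e⟩ := isCompact_iff_finite_and_eq_biUnion_affineOpens.mp hU
  have hfin : (⋃ i ∈ I, {x : X | x ∈ (i : X.Opens) ∧ Curv2.IsAssPoint F x}).Finite :=
    Set.Finite.biUnion hI (fun i _ => finite_assPoints_affine X F i i.2)
  refine hfin.subset ?_
  rintro x ⟨hxU, hx⟩
  have hx' : x ∈ (⨆ i ∈ I, (i : X.Opens) : X.Opens) := by
    rw [← e]; exact hxU
  simp only [TopologicalSpace.Opens.mem_iSup] at hx'
  obtain ⟨i, hi, hxi⟩ := hx'
  exact Set.mem_biUnion hi ⟨hxi, hx⟩

end Groth.Agent.S1576
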