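import Mathlib
import Groth.Statements.S15765
-- import your own Groth.Agent.* helpers here

set_option autoImplicit false
universe u
open CategoryTheory AlgebraicGeometry
open CAlg

namespace Groth.Agent.S15765

open AlgebraicGeometry CategoryTheory CategoryTheory.Limits

theorem exists_unit_image (B : Type u) [CommRing B] [TopologicalSpace B] [IsTopologicalRing B]
    (hB : IsOpen {b : B | IsUnit b}) (B₀ A : Type u) [CommRing B₀] [CommRing A]
    (φ : B₀ →+* B) (hφ : DenseRange φ) (ρ : B₀ →+* A) (ψ : A →+* B) (hψ : ψ.comp ρ = φ)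
    (I : Ideal A) (hI : Ideal.map ψ I = ⊤) : ∃ a ∈ I, IsUnit (ψ a) := by
  have hmul : ∀ b : B, ∀ y ∈ closure (ψ '' (I : Set A)), b * y ∈ closure (ψ '' (I : Set A)) := by
    intro b y hy
    refine map_mem_closure₂ (f := fun x y : B => x * y) continuous_mul (hφ b) hy ?_
    rintro _ ⟨c, rfl⟩ _ ⟨a, ha, rfl⟩
    refine ⟨ρ c * a, I.mul_mem_left _ ha, ?_⟩
    rw [map_mul, ← hψ]
    rfl
  have hadd : ∀ x ∈ closure (ψ '' (I : Set A)), ∀ y ∈ closure (ψ '' (I : Set A)),
      x + y ∈ closure (ψ '' (I : Set A)) := by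
    intro x hx y hy
    refine map_mem_closure₂ (f := fun x y : B => x + y) continuous_add hx hy ?_
    rintro _ ⟨a, ha, rfl⟩ _ ⟨a', ha', rfl⟩
    exact ⟨a + a', I.add_mem ha ha', map_add _ _ _⟩
  have h1 : (1 : B) ∈ closure (ψ '' (I : Set A)) := by
    have h1' : (1 : B) ∈ Ideal.map ψ I := by rw [hI]; trivial
    refine Submodule.span_induction (p := fun x _ => x ∈ closure (ψ '' (I : Set A)))
      ?_ ?_ ?_ ?_ h1'
    · intro x hx
      exact subset_closure hx
    · exact subset_closure ⟨0, I.zero_mem, map_zero _⟩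
    · intro x y _ _ hx hy
      exact hadd x hx y hy
    · intro b x _ hx
      exact hmul b x hx
  obtain ⟨_, hu, a, ha, rfl⟩ := mem_closure_iff.1 h1 _ hB isUnit_one
  exact ⟨a, ha, hu⟩


/-- Let B be a topological ring in which the units form an open subset, B₀ → B a ring map with dense
image and X a quasi-affine scheme over B₀. Then the image of any B-point Spec B → X over B₀ is
contained in an affine open of X. (The published statement allows X ind-quasi-affine, i.e. with all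
quasi-compact opens quasi-affine; since a B-point lands in a quasi-compact open, this row's
quasi-affine case carries the content.) -/
theorem result (B : Type u) [CommRing B] [TopologicalSpace B]
    [IsTopologicalRing B] (hB : IsOpen {b : B | IsUnit b})
    (B₀ : Type u) [CommRing B₀] (φ : B₀ →+* B) (hφ : DenseRange φ)
    (X : Scheme.{u}) [X.IsQuasiAffine] (p : X ⟶ Spec (CommRingCat.of B₀))
    (f : Spec (CommRingCat.of B) ⟶ X) (hf : f ≫ p = Spec.map (CommRingCat.ofHom φ)) :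
    ∃ U : X.Opens, IsAffineOpen U ∧ Set.range f.base ⊆ (U : Set X) := by
  obtain ⟨ψ, hψ⟩ : ∃ ψ : Γ(X, ⊤) ⟶ CommRingCat.of B, Spec.map ψ = f ≫ X.toSpecΓ :=
    ⟨Spec.preimage _, Spec.map_preimage _⟩
  obtain ⟨ρ, hρ⟩ : ∃ ρ : CommRingCat.of B₀ ⟶ Γ(X, ⊤), X.toSpecΓ ≫ Spec.map ρ = p := by
    refine ⟨(Scheme.ΓSpecIso (CommRingCat.of B₀)).inv ≫ p.appTop, ?_⟩
    rw [Spec.map_comp, ← Scheme.toSpecΓ_naturality_assoc, toSpecΓ_SpecMap_ΓSpecIso_inv,
      Category.comp_id]
  have hcomp : ρ ≫ ψ = CommRingCat.ofHom φ := by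
    apply Spec.map_injective
    rw [Spec.map_comp, hψ, Category.assoc, hρ, hf]
  have hopen : IsOpen (Set.range X.toSpecΓ) := X.toSpecΓ.isOpenEmbedding.isOpen_range
  obtain ⟨I, hIdef⟩ : ∃ I : Ideal Γ(X, ⊤),
      I = PrimeSpectrum.vanishingIdeal (Set.range X.toSpecΓ)ᶜ := ⟨_, rfl⟩
  have hzero : PrimeSpectrum.zeroLocus (I : Set Γ(X, ⊤)) = (Set.range X.toSpecΓ)ᶜ := by
    rw [hIdef, PrimeSpectrum.zeroLocus_vanishingIdeal_eq_closure]
    exact hopen.isClosed_compl.closure_eq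
  have hImap : Ideal.map ψ.hom I = ⊤ := by
    by_contra hne
    obtain ⟨Q, hQmax, hQ⟩ := Ideal.exists_le_maximal _ hne
    haveI := hQmax.isPrime
    have hmem : (Spec.map ψ) (⟨Q, hQmax.isPrime⟩ : PrimeSpectrum B) ∈
        PrimeSpectrum.zeroLocus (I : Set Γ(X, ⊤)) := by
      intro x hx
      exact hQ (Ideal.mem_map_of_mem _ hx)
    rw [hzero, hψ, Scheme.Hom.comp_apply] at hmem
    exact hmem ⟨_, rfl⟩
  obtain ⟨a, haI, hunit⟩ := exists_unit_image B hB B₀ Γ(X, ⊤) φ hφ ρ.hom ψ.hom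
    (by rw [← CommRingCat.hom_comp, hcomp]; rfl) I hImap
  have hsub : (PrimeSpectrum.basicOpen a : Set (PrimeSpectrum Γ(X, ⊤))) ⊆ Set.range X.toSpecΓ := by
    intro P hP
    by_contra hPr
    have : P ∈ PrimeSpectrum.zeroLocus (I : Set Γ(X, ⊤)) := by rw [hzero]; exact hPr
    exact hP (this haI)
  have himg : X.toSpecΓ ''ᵁ (X.toSpecΓ ⁻¹ᵁ PrimeSpectrum.basicOpen a) = PrimeSpectrum.basicOpen a :=
    SetLike.coe_injective (Set.image_preimage_eq_of_subset hsub)
  have haff : IsAffineOpen (X.toSpecΓ ⁻¹ᵁ PrimeSpectrum.basicOpen a) := by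
    rw [← Scheme.Hom.isAffineOpen_iff_of_isOpenImmersion X.toSpecΓ, himg]
    exact IsAffineOpen.Spec_basicOpen a
  refine ⟨X.toSpecΓ ⁻¹ᵁ PrimeSpectrum.basicOpen a, haff, ?_⟩
  rintro _ ⟨z, rfl⟩
  show X.toSpecΓ (f z) ∈ PrimeSpectrum.basicOpen a
  rw [← Scheme.Hom.comp_apply, ← hψ]
  intro hmem
  have hzp : z.asIdeal.IsPrime := z.2
  exact hzp.ne_top (Ideal.eq_top_of_isUnit_mem _ hmem hunit)

end Groth.Agent.S15765
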