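import Groth.Statements.S1577
import Mathlib
import Groth.Agent.Lead.QCoh
-- import your own Groth.Agent.* helpers here

set_option autoImplicit false
universe u
open CategoryTheory CategoryTheory.Limits AlgebraicGeometry
open Divisors

namespace Groth.Agent.S1577

/-- Let X be locally Noetherian and F quasi-coherent. A point of the support of F which is not a
specialisation of a different point of the support is an associated point of F. -/
theorem result (X : Scheme.{u}) [IsLocallyNoetherian X]
    (F : X.Modules) (hF : Coh.IsQCoh F) (x : X) (hx : x ∈ CohB1.support F)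
    (hmax : ∀ y ∈ CohB1.support F, y ⤳ x → y = x) : Curv2.IsAssPoint F x := by
  have : F.IsQuasicoherent := hF
  have hne : ¬ Subsingleton (F.presheaf.stalk x) := hx
  rw [not_subsingleton_iff_nontrivial] at hne
  obtain ⟨m, hm⟩ := exists_ne (0 : F.presheaf.stalk x)
  show (⊥ : Submodule (X.presheaf.stalk x) (F.presheaf.stalk x)).IsAssociatedPrime _
  rw [Submodule.isAssociatedPrime_def]
  refine ⟨(IsLocalRing.maximalIdeal.isMaximal _).isPrime, m, ?_⟩
  symm
  apply Groth.Agent.Lead.QCoh.radical_annihilator_eq_maximalIdeal F x
    (fun y hy hyx => hmax y hy hyx) m hm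
  intro s
  rw [Submodule.mem_colon_singleton, Submodule.mem_bot]

end Groth.Agent.S1577
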