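import Groth.Statements.S15770
import Mathlib

set_option autoImplicit false
universe u
open CAlg

namespace Groth.Agent.S15770

/-- Let B be a topological ring with Bˣ ⊂ B open and M, M' finitely generated projective B-modules, and
endow Hom_B(M, M') with the module topology (the canonical topology of a finite module). Then the
set of surjective B-linear maps M → M' is open. -/
theorem result (B : Type u) [CommRing B] [TopologicalSpace B]
    [IsTopologicalRing B] (hB : IsOpen {b : B | IsUnit b})
    (M M' : Type u) [AddCommGroup M] [Module B M] [Module.Finite B M] [Module.Projective B M]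
    [AddCommGroup M'] [Module B M'] [Module.Finite B M'] [Module.Projective B M']
    [TopologicalSpace (M →ₗ[B] M')] [IsModuleTopology B (M →ₗ[B] M')] :
    IsOpen {f : M →ₗ[B] M' | Function.Surjective f} := by
  classical
  rw [isOpen_iff_forall_mem_open]
  intro f₀ hf₀
  obtain ⟨s₀, hs₀⟩ := Module.projective_lifting_property f₀ LinearMap.id hf₀
  obtain ⟨n, π, hπ⟩ := Module.Finite.exists_fin' B M'
  obtain ⟨i, hi⟩ := Module.projective_lifting_property π LinearMap.id hπ
  have hs₀' : ∀ x, f₀ (s₀ x) = x := fun x => by simpa using LinearMap.congr_fun hs₀ x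
  have hi' : ∀ x, π (i x) = x := fun x => by simpa using LinearMap.congr_fun hi x
  let L : (M →ₗ[B] M') →ₗ[B] ((Fin n → B) →ₗ[B] (Fin n → B)) :=
    { toFun := fun f => i ∘ₗ f ∘ₗ s₀ ∘ₗ π
      map_add' := fun f g => LinearMap.ext fun v => by simp
      map_smul' := fun c f => LinearMap.ext fun v => by simp }
  let L' : (M →ₗ[B] M') →ₗ[B] Matrix (Fin n) (Fin n) B :=
    (LinearMap.toMatrix' (R := B) (m := Fin n) (n := Fin n)).toLinearMap ∘ₗ L
  let C : Matrix (Fin n) (Fin n) B := LinearMap.toMatrix' (LinearMap.id - i ∘ₗ π)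
  have hΘ : ∀ f : M →ₗ[B] M', L' f + C =
      LinearMap.toMatrix' (i ∘ₗ f ∘ₗ s₀ ∘ₗ π + (LinearMap.id - i ∘ₗ π)) := fun f => by
    rw [map_add]; rfl
  have hcont : Continuous fun f : M →ₗ[B] M' => (L' f + C).det := by
    have h1 : Continuous L' := IsModuleTopology.continuous_of_linearMap L'
    exact (h1.add continuous_const).matrix_det
  refine ⟨{f | IsUnit (L' f + C).det}, ?_, hB.preimage hcont, ?_⟩
  · intro f hf
    have hunit : IsUnit (L' f + C) := (Matrix.isUnit_iff_isUnit_det _).mpr hf
    have hsurjΘ : Function.Surjective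
        ((i ∘ₗ f ∘ₗ s₀ ∘ₗ π + (LinearMap.id - i ∘ₗ π) : (Fin n → B) →ₗ[B] (Fin n → B)) :
          (Fin n → B) → (Fin n → B)) := by
      have hsm := Matrix.mulVec_surjective_iff_isUnit.mpr hunit
      intro w
      obtain ⟨v, hv⟩ := hsm w
      refine ⟨v, ?_⟩
      rw [← hv, hΘ, LinearMap.toMatrix'_mulVec]
    intro m'
    obtain ⟨v, hv⟩ := hsurjΘ (i m')
    refine ⟨s₀ (π v), ?_⟩
    have := congrArg π hv
    simp only [LinearMap.add_apply, LinearMap.comp_apply, LinearMap.sub_apply,
      LinearMap.id_apply, map_add, map_sub, hi'] at this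
    simpa using this
  · have h1 : i ∘ₗ f₀ ∘ₗ s₀ ∘ₗ π + (LinearMap.id - i ∘ₗ π) = LinearMap.id :=
      LinearMap.ext fun v => by simp [hs₀']
    show IsUnit (L' f₀ + C).det
    rw [hΘ, h1, LinearMap.toMatrix'_id, Matrix.det_one]
    exact isUnit_one

end Groth.Agent.S15770
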