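import Groth.Statements.S15771
import Mathlib

set_option autoImplicit false
universe u
open TensorProduct
open CAlg

namespace Groth.Agent.S15771

/-- For a ring map B₀ → B with dense image into a topological ring B, a finitely generated B₀-module M₀
and any topological B-module structure on M = B ⊗_{B₀} M₀, the natural map M₀ → M has dense image. -/
theorem result (B₀ B : Type u) [CommRing B₀] [CommRing B] [Algebra B₀ B]
    [TopologicalSpace B] [IsTopologicalRing B] (hφ : DenseRange (algebraMap B₀ B))
    (M₀ : Type u) [AddCommGroup M₀] [Module B₀ M₀] [Module.Finite B₀ M₀]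
    [TopologicalSpace (B ⊗[B₀] M₀)] [IsTopologicalAddGroup (B ⊗[B₀] M₀)] [ContinuousSMul B (B ⊗[B₀] M₀)] :
    DenseRange (fun m : M₀ => (1 : B) ⊗ₜ[B₀] m) := by
  let f : M₀ →+ B ⊗[B₀] M₀ := ((TensorProduct.mk B₀ B M₀ 1) : M₀ →ₗ[B₀] _).toAddMonoidHom
  let T : AddSubgroup (B ⊗[B₀] M₀) := (f.range).topologicalClosure
  have hT : ∀ x, x ∈ T := by
    intro x
    induction x using TensorProduct.induction_on with
    | zero => exact T.zero_mem
    | tmul b m =>
      have hcont : Continuous (fun b : B => b • ((1 : B) ⊗ₜ[B₀] m)) :=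
        by fun_prop
      have : b • ((1:B) ⊗ₜ[B₀] m) ∈ T := by
        refine hφ.induction_on (p := fun b => b • ((1:B) ⊗ₜ[B₀] m) ∈ T) b ?_ ?_
        · exact (AddSubgroup.isClosed_topologicalClosure _).preimage hcont
        · intro b0
          apply AddSubgroup.le_topologicalClosure
          refine ⟨b0 • m, ?_⟩
          simp [f, TensorProduct.smul_tmul', Algebra.smul_def]
      simpa [TensorProduct.smul_tmul'] using this
    | add x y hx hy => exact T.add_mem hx hy
  intro x
  exact hT x

end Groth.Agent.S15771
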