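import Groth.Statements.S1578
import Groth.Agent.Lead.QCoh6
-- import your own Groth.Agent.* helpers here

set_option autoImplicit false
universe u
open CategoryTheory CategoryTheory.Limits AlgebraicGeometry
open Divisors

namespace Groth.Agent.S1578

/-- Let M be a module over a ring A, F the associated quasi-coherent module on Spec A, and p a prime of
A. If p is an associated prime of M then p is an associated point of F; the converse holds when p is
finitely generated. -/
theorem result (A : CommRingCat.{u}) (M : ModuleCat.{u} A)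
    (p : Spec A) :
    (p.asIdeal ∈ associatedPrimes A M → Curv2.IsAssPoint (tilde M) p) ∧
    (p.asIdeal.FG → Curv2.IsAssPoint (tilde M) p → p.asIdeal ∈ associatedPrimes A M) := by
  classical
  have hpp : p.asIdeal.IsPrime := p.isPrime
  constructor
  · intro h
    rw [Groth.Agent.Lead.QCoh.isAssPoint_iff, ← Groth.Agent.Lead.QCoh.tilde_weakAss_iff A M p]
    obtain ⟨-, m, hm⟩ := h
    refine ⟨m, ?_⟩
    rw [Groth.Agent.Lead.QCoh.colon_bot_singleton] at hm
    rw [← Ideal.radical_minimalPrimes, ← hm, Ideal.minimalPrimes_eq_subsingleton_self]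
    exact Set.mem_singleton _
  · intro hfg h
    rw [Groth.Agent.Lead.QCoh.isAssPoint_iff, ← Groth.Agent.Lead.QCoh.tilde_weakAss_iff A M p] at h
    obtain ⟨m, hq⟩ := h
    obtain ⟨s, hs⟩ := hfg
    have hch : ∀ a ∈ s, ∃ (b : A) (k : ℕ), b ∉ p.asIdeal ∧
        b * a ^ k ∈ LinearMap.ker (LinearMap.toSpanSingleton A M m) := by
      intro a ha
      exact Groth.Agent.Lead.QCoh.exists_mul_pow_mem_of_mem_minimalPrimes hq
        (hs ▸ Ideal.subset_span ha)
    choose! bf kf hbf hkf using hch
    have hg : ∏ a ∈ s, bf a ∉ p.asIdeal := by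
      rw [Ideal.IsPrime.prod_mem_iff]
      rintro ⟨a, ha, hba⟩
      exact hbf a ha hba
    refine ⟨hpp, (∏ a ∈ s, bf a) • m, ?_⟩
    rw [Groth.Agent.Lead.QCoh.colon_bot_singleton]
    have hmem : ∀ c : A, c ∈ LinearMap.ker (LinearMap.toSpanSingleton A M ((∏ a ∈ s, bf a) • m)) ↔
        c * (∏ a ∈ s, bf a) ∈ LinearMap.ker (LinearMap.toSpanSingleton A M m) := by
      intro c
      rw [LinearMap.mem_ker, LinearMap.mem_ker, LinearMap.toSpanSingleton_apply,
        LinearMap.toSpanSingleton_apply, mul_smul]
    apply le_antisymm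
    · rw [← hs, Ideal.span_le]
      intro a ha
      refine ⟨kf a, ?_⟩
      rw [hmem]
      obtain ⟨c, hc⟩ := Finset.dvd_prod_of_mem bf ha
      rw [hc]
      have : a ^ kf a * (bf a * c) = c * (bf a * a ^ kf a) := by ring
      rw [this]
      exact Ideal.mul_mem_left _ _ (hkf a ha)
    · refine (hpp.isRadical).radical_le_iff.mpr ?_
      intro c hc
      rw [hmem] at hc
      rcases hpp.mem_or_mem (hq.1.2 hc) with h1 | h1
      · exact h1
      · exact absurd h1 hg

end Groth.Agent.S1578
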