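import Groth.Statements.S15784
import Mathlib

set_option autoImplicit false
universe u
open Neron

namespace Groth.Agent.S15784

/-- Let O be a discrete valuation ring with fraction field L and uniformizer ϖ', let ϖ be an element of
the maximal ideal of O, let q = u·ϖ'^n with u a unit of O and n ≥ 1, and let m ≥ 1 be a divisor of
n. Then the following are equivalent: (i) there is a nonzero element z = w·ϖ'^a of L, with w a unit
of O and a an integer congruent to n/m modulo n, and an integer j such that z^m·q^j lies in 1 + ϖO;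
(ii) ϖ'^n/q is an m-th power in the group of units of O/ϖO, that is, u·(y^m + ϖ·r) = 1 for some y, r
∈ O. (The published statement phrases (i) geometrically, as the existence of a point of order m in
the special fibre of the Néron model of the Weil restriction of the Tate curve with parameter q from
L down to a subfield over which L is totally ramified with ϖ a uniformizer of the subfield, whose
image in the component group also has order m; this row states the equivalence between (i) and (ii)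
that the printed argument establishes.) -/
theorem result
    (O : Type u) [CommRing O] [IsDomain O] [IsDiscreteValuationRing O]
    (L : Type u) [Field L] [Algebra O L] [IsFractionRing O L]
    (ϖ' : O) (hϖ' : Irreducible ϖ') (ϖ : O) (hϖ : ϖ ∈ IsLocalRing.maximalIdeal O)
    (n : ℕ) (hn : 1 ≤ n) (u : Oˣ) (q : O) (hq : q = u * ϖ' ^ n)
    (m : ℕ) (hm : 1 ≤ m) (hmn : m ∣ n) :
    (∃ (w : Oˣ) (a j t : ℤ) (r : O), a = (n / m : ℕ) + t * n ∧
        (algebraMap O L w * algebraMap O L ϖ' ^ a) ^ m * algebraMap O L q ^ j = algebraMap O L (1 + ϖ * r)) ↔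
      ∃ y r : O, (u : O) * (y ^ m + ϖ * r) = 1 := by
  classical
  have hinj : Function.Injective (algebraMap O L) := IsFractionRing.injective O L
  have hπ : algebraMap O L ϖ' ≠ 0 := fun h =>
    hϖ'.ne_zero (hinj (by rw [h, map_zero]))
  have hunit_ne : ∀ x : Oˣ, algebraMap O L (x : O) ≠ 0 := fun x h =>
    x.ne_zero (hinj (by rw [h, map_zero]))
  have hdm : n / m * m = n := Nat.div_mul_cancel hmn
  -- images of integer powers of units
  have hz : ∀ (x : Oˣ) (j : ℤ), algebraMap O L ((x ^ j : Oˣ) : O) = (algebraMap O L (x : O)) ^ j := by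
    intro x j
    have h1 := Units.val_zpow_eq_zpow_val (Units.map (algebraMap O L).toMonoidHom x) j
    rw [← map_zpow] at h1
    exact h1
  -- 1 + ϖ r is a unit
  have hone : ∀ r : O, IsUnit (1 + ϖ * r) := by
    intro r
    by_contra hnu
    have h1 : 1 + ϖ * r ∈ IsLocalRing.maximalIdeal O := (IsLocalRing.mem_maximalIdeal _).mpr hnu
    have h2 : ϖ * r ∈ IsLocalRing.maximalIdeal O := Ideal.mul_mem_right _ _ hϖ
    have h3 := Ideal.sub_mem _ h1 h2
    rw [add_sub_cancel_right] at h3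
    exact (Ideal.ne_top_iff_one _).mp (IsLocalRing.maximalIdeal.isMaximal O).ne_top h3
  -- valuation rigidity
  have key : ∀ (k : ℕ) (c : Oˣ), algebraMap O L ϖ' ^ k = algebraMap O L (c : O) → k = 0 := by
    intro k c h
    by_contra hk
    rw [← map_pow] at h
    have h1 : ϖ' ^ k = c := hinj h
    have h2 : IsUnit (ϖ' ^ k) := h1 ▸ c.isUnit
    exact hϖ'.not_isUnit ((isUnit_pow_iff hk).mp h2)
  have keyz : ∀ (e : ℤ) (c : Oˣ), algebraMap O L ϖ' ^ e = algebraMap O L (c : O) → e = 0 := by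
    intro e c h
    obtain ⟨k, rfl | rfl⟩ := Int.eq_nat_or_neg e
    · rw [zpow_natCast] at h
      rw [key k c h]; rfl
    · rw [zpow_neg, zpow_natCast] at h
      have h1 : algebraMap O L ϖ' ^ k = algebraMap O L ((c⁻¹ : Oˣ) : O) := by
        have hc : algebraMap O L (c : O) * algebraMap O L ((c⁻¹ : Oˣ) : O) = 1 := by
          rw [← map_mul, Units.mul_inv, map_one]
        rw [← h] at hc
        have hne : algebraMap O L ϖ' ^ k ≠ 0 := pow_ne_zero _ hπ
        field_simp at hc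
        exact hc.symm
      rw [key k _ h1]; rfl
  constructor
  · rintro ⟨w, a, j, t, r, ha, h⟩
    -- rewrite the left-hand side
    have hL : (algebraMap O L w * algebraMap O L ϖ' ^ a) ^ m * algebraMap O L q ^ j =
        algebraMap O L (((w ^ m * u ^ j : Oˣ)) : O) * algebraMap O L ϖ' ^ (a * m + n * j) := by
      rw [hq, map_mul, map_pow, mul_zpow, mul_pow, ← zpow_natCast (algebraMap O L ϖ' ^ a) m,
        ← zpow_mul, ← zpow_natCast (algebraMap O L ϖ') n, ← zpow_mul, zpow_add₀ hπ,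
        Units.val_mul, map_mul, Units.val_pow_eq_pow_val, map_pow, hz]
      ring
    rw [hL] at h
    obtain ⟨v, hv⟩ := hone r
    have he : a * m + n * j = 0 := by
      apply keyz _ (v * (w ^ m * u ^ j)⁻¹)
      have h2 : algebraMap O L (((w ^ m * u ^ j : Oˣ)) : O) *
          algebraMap O L ((((w ^ m * u ^ j)⁻¹ : Oˣ)) : O) = 1 := by
        rw [← map_mul, Units.mul_inv, map_one]
      rw [Units.val_mul, map_mul, hv, ← h]
      have hne := hunit_ne (w ^ m * u ^ j)
      linear_combination (-(algebraMap O L ϖ' ^ (a * m + n * j))) * h2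
    have hj : j = -1 - t * m := by
      have h1 : ((n / m : ℕ) : ℤ) * m = n := by exact_mod_cast hdm
      have h2 : (n : ℤ) * (1 + t * m + j) = 0 := by
        rw [ha] at he
        linear_combination he - (1 : ℤ) * h1
      have hn0 : (n : ℤ) ≠ 0 := by exact_mod_cast (Nat.one_le_iff_ne_zero.mp hn)
      have h3 := (mul_eq_zero.mp h2).resolve_left hn0
      linarith
    rw [he, zpow_zero, mul_one] at h
    have hV : (((w ^ m * u ^ j : Oˣ)) : O) = 1 + ϖ * r := hinj h
    -- x := w * u^(-t)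
    set x : Oˣ := w * u ^ (-t) with hx
    have hVx : w ^ m * u ^ j = x ^ m * u⁻¹ := by
      rw [hx, hj, mul_pow, ← zpow_natCast (u ^ (-t)) m, ← zpow_mul, sub_eq_add_neg,
        zpow_add, zpow_neg_one, mul_assoc, mul_comm u⁻¹, neg_mul]
    clear_value x
    set V : Oˣ := x ^ m * u⁻¹ with hVdef
    rw [hVx] at hV
    refine ⟨((x⁻¹ : Oˣ) : O), ((u⁻¹ : Oˣ) : O) * ((V⁻¹ : Oˣ) : O) * r, ?_⟩
    have h1 : (u : O) * (((x⁻¹ : Oˣ) : O)) ^ m = ((V⁻¹ : Oˣ) : O) := by
      have h0 : u * x⁻¹ ^ m = V⁻¹ := by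
        rw [hVdef, mul_inv, inv_inv, inv_pow, mul_comm]
      rw [← Units.val_pow_eq_pow_val, ← Units.val_mul, h0]
    have h2 : (u : O) * ((u⁻¹ : Oˣ) : O) = 1 := Units.mul_inv u
    calc (u : O) * ((((x⁻¹ : Oˣ) : O)) ^ m + ϖ * (((u⁻¹ : Oˣ) : O) * ((V⁻¹ : Oˣ) : O) * r))
        = (u : O) * (((x⁻¹ : Oˣ) : O)) ^ m +
            ((u : O) * ((u⁻¹ : Oˣ) : O)) * (((V⁻¹ : Oˣ) : O) * (ϖ * r)) := by ring
      _ = ((V⁻¹ : Oˣ) : O) + ((V⁻¹ : Oˣ) : O) * (ϖ * r) := by rw [h1, h2, one_mul]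
      _ = ((V⁻¹ : Oˣ) : O) * (1 + ϖ * r) := by ring
      _ = ((V⁻¹ : Oˣ) : O) * (V : O) := by rw [hV]
      _ = 1 := Units.inv_mul V
  · rintro ⟨y, r, h⟩
    -- y is a unit
    have hym : IsUnit (y ^ m) := by
      by_contra hnu
      have h1 : y ^ m ∈ IsLocalRing.maximalIdeal O := (IsLocalRing.mem_maximalIdeal _).mpr hnu
      have h2 : ϖ * r ∈ IsLocalRing.maximalIdeal O := Ideal.mul_mem_right _ _ hϖ
      have h3 : (u : O) * (y ^ m + ϖ * r) ∈ IsLocalRing.maximalIdeal O :=
        Ideal.mul_mem_left _ _ (Ideal.add_mem _ h1 h2)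
      rw [h] at h3
      exact (Ideal.ne_top_iff_one _).mp (IsLocalRing.maximalIdeal.isMaximal O).ne_top h3
    have hy : IsUnit y := (isUnit_pow_iff (Nat.one_le_iff_ne_zero.mp hm)).mp hym
    obtain ⟨yu, rfl⟩ := hy
    refine ⟨yu⁻¹, ((n / m : ℕ) : ℤ), -1, 0, r * (((yu ^ m)⁻¹ : Oˣ) : O), by simp, ?_⟩
    have hR : 1 + ϖ * (r * (((yu ^ m)⁻¹ : Oˣ) : O)) =
        ((u⁻¹ : Oˣ) : O) * (((yu ^ m)⁻¹ : Oˣ) : O) := by
      have h1 : (yu : O) ^ m + ϖ * r = ((u⁻¹ : Oˣ) : O) := by
        have := congrArg (fun z => ((u⁻¹ : Oˣ) : O) * z) h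
        simp only [← mul_assoc, Units.inv_mul, one_mul, mul_one] at this
        exact this
      have h2 : (yu : O) ^ m * (((yu ^ m)⁻¹ : Oˣ) : O) = 1 := by
        rw [← Units.val_pow_eq_pow_val, Units.mul_inv]
      calc 1 + ϖ * (r * (((yu ^ m)⁻¹ : Oˣ) : O))
          = (yu : O) ^ m * (((yu ^ m)⁻¹ : Oˣ) : O) + ϖ * r * (((yu ^ m)⁻¹ : Oˣ) : O) := by
            rw [h2]; ring
        _ = ((yu : O) ^ m + ϖ * r) * (((yu ^ m)⁻¹ : Oˣ) : O) := by ring
        _ = ((u⁻¹ : Oˣ) : O) * (((yu ^ m)⁻¹ : Oˣ) : O) := by rw [h1]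
    rw [hR, hq, zpow_natCast, mul_pow, ← pow_mul, hdm, zpow_neg_one, map_mul, map_mul, map_pow]
    have e1 : algebraMap O L ((yu⁻¹ : Oˣ) : O) * algebraMap O L (yu : O) = 1 := by
      rw [← map_mul, Units.inv_mul, map_one]
    have e2 : algebraMap O L ((u⁻¹ : Oˣ) : O) * algebraMap O L (u : O) = 1 := by
      rw [← map_mul, Units.inv_mul, map_one]
    have e3 : algebraMap O L (((yu ^ m)⁻¹ : Oˣ) : O) * (algebraMap O L (yu : O)) ^ m = 1 := by
      rw [← map_pow, ← map_mul, ← Units.val_pow_eq_pow_val, Units.inv_mul, map_one]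
    have hy0 := hunit_ne yu
    have hu0 := hunit_ne u
    have hpn : algebraMap O L ϖ' ^ n ≠ 0 := pow_ne_zero _ hπ
    have f1 : algebraMap O L ((yu⁻¹ : Oˣ) : O) = (algebraMap O L (yu : O))⁻¹ :=
      eq_inv_of_mul_eq_one_left e1
    have f2 : algebraMap O L ((u⁻¹ : Oˣ) : O) = (algebraMap O L (u : O))⁻¹ :=
      eq_inv_of_mul_eq_one_left e2
    have f3 : algebraMap O L (((yu ^ m)⁻¹ : Oˣ) : O) = ((algebraMap O L (yu : O)) ^ m)⁻¹ :=
      eq_inv_of_mul_eq_one_left e3
    rw [f1, f2, f3]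
    field_simp
    rw [one_div, inv_pow, inv_mul_cancel₀ (pow_ne_zero _ hy0)]

end Groth.Agent.S15784
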