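import Groth.Statements.S15791
import Mathlib

set_option autoImplicit false
universe u v
open WildQuot

namespace Groth.Agent.S15791

section aux
variable {A : Type*} [CommRing A]

theorem length_quot_eq_zero_of_eq_top (I : Ideal A) (h : I = ⊤) :
    Module.length A (A ⧸ I) = 0 := by
  subst h
  rw [Module.length_eq_zero_iff]
  infer_instance

/-- two factor lemma -/
theorem length_quot_mul_le (J : Ideal A) (a b : A) :
    Module.length A (A ⧸ (J ⊔ Ideal.span {a * b})) ≤
      Module.length A (A ⧸ (J ⊔ Ideal.span {a})) + Module.length A (A ⧸ (J ⊔ Ideal.span {b})) := by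
  have hle : J ⊔ Ideal.span {a * b} ≤ J ⊔ Ideal.span {a} :=
    sup_le le_sup_left (le_sup_of_le_right ((Ideal.span_singleton_le_iff_mem _).2
      (Ideal.mul_mem_right _ _ (Ideal.mem_span_singleton_self a))))
  let g : (A ⧸ (J ⊔ Ideal.span {a * b})) →ₗ[A] (A ⧸ (J ⊔ Ideal.span {a})) :=
    Submodule.mapQ _ _ LinearMap.id (by simpa using hle)
  have hg : Function.Surjective g := by
    intro x
    obtain ⟨y, rfl⟩ := Submodule.Quotient.mk_surjective _ x
    exact ⟨Submodule.Quotient.mk y, rfl⟩
  let f : (A ⧸ (J ⊔ Ideal.span {b})) →ₗ[A] (A ⧸ (J ⊔ Ideal.span {a * b})) :=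
    Submodule.mapQ _ _ (LinearMap.mulLeft A a) (by
      intro x hx
      rw [Submodule.mem_comap]
      obtain ⟨j, hj, y, hy, rfl⟩ := Submodule.mem_sup.1 hx
      obtain ⟨r, rfl⟩ := Ideal.mem_span_singleton'.1 hy
      simp only [LinearMap.mulLeft_apply, mul_add]
      exact Ideal.add_mem _ (Ideal.mem_sup_left (Ideal.mul_mem_left _ _ hj))
        (Ideal.mem_sup_right (Ideal.mem_span_singleton'.2 ⟨r, by ring⟩)))
  have hrange : LinearMap.range f = LinearMap.ker g := by
    apply le_antisymm
    · rintro _ ⟨x, rfl⟩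
      obtain ⟨y, rfl⟩ := Submodule.Quotient.mk_surjective _ x
      rw [LinearMap.mem_ker]
      show g (Submodule.Quotient.mk (a * y)) = 0
      show (Submodule.Quotient.mk (a * y) : A ⧸ (J ⊔ Ideal.span {a})) = 0
      rw [Submodule.Quotient.mk_eq_zero]
      exact Ideal.mem_sup_right (Ideal.mul_mem_right _ _ (Ideal.mem_span_singleton_self a))
    · intro x hx
      obtain ⟨y, rfl⟩ := Submodule.Quotient.mk_surjective _ x
      rw [LinearMap.mem_ker] at hx
      have hy : y ∈ J ⊔ Ideal.span {a} := by
        have : (Submodule.Quotient.mk y : A ⧸ (J ⊔ Ideal.span {a})) = 0 := hx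
        rwa [Submodule.Quotient.mk_eq_zero] at this
      obtain ⟨j, hj, z, hz, rfl⟩ := Submodule.mem_sup.1 hy
      obtain ⟨r, rfl⟩ := Ideal.mem_span_singleton'.1 hz
      refine ⟨Submodule.Quotient.mk r, ?_⟩
      show (Submodule.Quotient.mk (a * r) : A ⧸ (J ⊔ Ideal.span {a * b})) = Submodule.Quotient.mk (j + r * a)
      rw [Submodule.Quotient.eq]
      have : a * r - (j + r * a) = -j := by ring
      rw [this]
      exact Ideal.neg_mem_iff _ |>.2 (Ideal.mem_sup_left hj)
  have h1 := Module.length_eq_add_of_exact (LinearMap.ker g).subtype g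
    (Submodule.subtype_injective _) hg (LinearMap.exact_subtype_ker_map g)
  have h2 : Module.length A (LinearMap.ker g) ≤ Module.length A (A ⧸ (J ⊔ Ideal.span {b})) := by
    rw [← hrange]
    exact Module.length_le_of_surjective f.rangeRestrict f.surjective_rangeRestrict
  rw [h1, add_comm]
  exact add_le_add_right h2 _

/-- finite product lemma -/
theorem length_quot_prod_le {ι : Type*} (J : Ideal A) (S : Finset ι) (a : ι → A) :
    Module.length A (A ⧸ (J ⊔ Ideal.span {∏ σ ∈ S, a σ})) ≤
      ∑ σ ∈ S, Module.length A (A ⧸ (J ⊔ Ideal.span {a σ})) := by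
  classical
  induction S using Finset.induction_on with
  | empty =>
    have : J ⊔ Ideal.span {∏ σ ∈ (∅ : Finset ι), a σ} = ⊤ := by
      rw [Finset.prod_empty, Ideal.span_singleton_one, sup_top_eq]
    rw [length_quot_eq_zero_of_eq_top _ this]
    simp
  | insert s S hs ih =>
    rw [Finset.prod_insert hs, Finset.sum_insert hs]
    refine (length_quot_mul_le J (a s) (∏ σ ∈ S, a σ)).trans ?_
    gcongr

/-- multi-coordinate lemma -/
theorem length_quot_span_prod_le {ι : Type*} [Fintype ι] (ℓ : ℕ∞) :
    ∀ (k : ℕ) (J : Ideal A) (c : Fin k → ι → A),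
      (∀ τ : Fin k → ι, Module.length A (A ⧸ (J ⊔ Ideal.span (Set.range fun i => c i (τ i)))) ≤ ℓ) →
      Module.length A (A ⧸ (J ⊔ Ideal.span (Set.range fun i => ∏ σ, c i σ))) ≤
        (Fintype.card ι ^ k : ℕ) * ℓ := by
  intro k
  induction k with
  | zero =>
    intro J c h
    have e : ∀ (y : Fin 0 → A), Set.range y = ∅ := fun y => Set.range_eq_empty y
    have := h Fin.elim0
    rw [e] at this
    rw [e]
    simpa using this
  | succ k ih =>
    intro J c h
    have hsplit : ∀ (y : Fin (k + 1) → A), Ideal.span (Set.range y) =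
        Ideal.span {y 0} ⊔ Ideal.span (Set.range fun i : Fin k => y i.succ) := by
      intro y
      rw [← Ideal.span_union]
      congr 1
      ext x
      simp only [Set.mem_range, Set.singleton_union, Set.mem_insert_iff]
      constructor
      · rintro ⟨i, rfl⟩
        refine Fin.cases (Or.inl rfl) (fun j => Or.inr ⟨j, rfl⟩) i
      · rintro (rfl | ⟨j, rfl⟩)
        · exact ⟨0, rfl⟩
        · exact ⟨j.succ, rfl⟩
    rw [hsplit]
    set R := Ideal.span (Set.range fun i : Fin k => ∏ σ, c i.succ σ) with hR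
    have e1 : J ⊔ (Ideal.span {∏ σ, c 0 σ} ⊔ R) = (J ⊔ R) ⊔ Ideal.span {∏ σ, c 0 σ} := by
      rw [sup_comm (Ideal.span _) R, sup_assoc]
    rw [e1]
    refine (length_quot_prod_le (J ⊔ R) Finset.univ (c 0)).trans ?_
    have hterm : ∀ σ : ι, Module.length A (A ⧸ ((J ⊔ R) ⊔ Ideal.span {c 0 σ})) ≤
        (Fintype.card ι ^ k : ℕ) * ℓ := by
      intro σ
      have e2 : (J ⊔ R) ⊔ Ideal.span {c 0 σ} = (J ⊔ Ideal.span {c 0 σ}) ⊔ R := by
        rw [sup_assoc, sup_comm R, ← sup_assoc]
      rw [e2]
      refine ih (J ⊔ Ideal.span {c 0 σ}) (fun i => c i.succ) ?_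
      intro τ
      have key : Ideal.span (Set.range fun i => c i ((Fin.cons σ τ : Fin (k+1) → ι) i)) =
          Ideal.span {c 0 σ} ⊔ Ideal.span (Set.range fun i : Fin k => c i.succ (τ i)) := by
        rw [hsplit (fun i => c i ((Fin.cons σ τ : Fin (k+1) → ι) i))]
        simp only [Fin.cons_zero, Fin.cons_succ]
      have := h (Fin.cons σ τ)
      rw [key] at this
      rw [sup_assoc]
      exact this
    calc ∑ σ, Module.length A (A ⧸ ((J ⊔ R) ⊔ Ideal.span {c 0 σ}))
        ≤ ∑ _σ : ι, ((Fintype.card ι ^ k : ℕ) : ℕ∞) * ℓ := Finset.sum_le_sum fun σ _ => hterm σ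
      _ = ((Fintype.card ι ^ (k + 1) : ℕ) : ℕ∞) * ℓ := by
        rw [Finset.sum_const, Finset.card_univ, nsmul_eq_mul, ← mul_assoc, pow_succ]
        push_cast
        ring

end aux

/-- Let `A` be a regular local ring of Krull dimension `n` with maximal ideal `m`, let a finite group
`G` of order `g` act on `A` by ring automorphisms, and let `u_1, …, u_n` be an admissible regular
system of parameters: for every choice `σ_1, …, σ_n ∈ G`, the elements `σ_1 u_1, …, σ_n u_n`
generate `m`. With `x_i = ∏_{σ ∈ G} σ u_i` the norms, the length of `A / (x_1, …, x_n)` is at most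
`g ^ n`. (The published statement is for a complete regular local ring containing a `G`-fixed field
of representatives and asserts that the length equals `g ^ n`; this row states the upper bound for
any regular local ring.) -/
theorem result
    (A : Type u) [CommRing A] [IsRegularLocalRing A]
    (G : Type v) [Group G] [Fintype G] [MulSemiringAction G A]
    (n : ℕ) (hn : ringKrullDim A = n) (u : Fin n → A)
    (hu : ∀ τ : Fin n → G,
      Ideal.span (Set.range fun i => τ i • u i) = IsLocalRing.maximalIdeal A) :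
    Module.length A (A ⧸ Ideal.span (Set.range fun i => ∏ σ : G, σ • u i)) ≤
      (Fintype.card G ^ n : ℕ) := by
  have key := length_quot_span_prod_le (A := A) (ι := G) 1 n ⊥ (fun i σ => σ • u i) (by
    intro τ
    rw [bot_sup_eq, hu τ]
    have : IsSimpleModule A (A ⧸ IsLocalRing.maximalIdeal A) := by
      rw [isSimpleModule_iff_isCoatom, ← Ideal.isMaximal_def]
      infer_instance
    rw [Module.length_eq_one])
  rw [bot_sup_eq, mul_one] at key
  exact key

end Groth.Agent.S15791
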