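import Groth.Statements.S15795
import Mathlib

set_option autoImplicit false
universe u v
open WildQuot

namespace Groth.Agent.S15795

section aux

variable {A : Type u} [CommRing A] [IsLocalRing A] [IsNoetherianRing A]

/-- Nakayama for ideals inside the maximal ideal -/
lemma maximalIdeal_le_of_le_sup_sq (J : Ideal A)
    (h : IsLocalRing.maximalIdeal A ≤ J ⊔ IsLocalRing.maximalIdeal A ^ 2) :
    IsLocalRing.maximalIdeal A ≤ J := by
  apply Submodule.le_of_le_smul_of_le_jacobson_bot (I := IsLocalRing.maximalIdeal A)
    (IsNoetherian.noetherian _)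
  · rw [IsLocalRing.jacobson_eq_maximalIdeal ⊥ bot_ne_top]
  · rwa [smul_eq_mul, ← pow_two]

/-- a generator of the maximal ideal in a minimal system is not in the ideal generated by the
others plus `m ^ 2` -/
lemma notMem_span_others (n : ℕ) (hn : ringKrullDim A = n) (u : Fin n → A)
    (hu : Ideal.span (Set.range u) = IsLocalRing.maximalIdeal A) (i : Fin n) :
    u i ∉ Ideal.span (u '' {j | j ≠ i}) ⊔ IsLocalRing.maximalIdeal A ^ 2 := by
  classical
  intro hmem
  set s : Finset A := (Finset.univ.erase i).image u with hs
  have hsJ : Ideal.span (s : Set A) = Ideal.span (u '' {j | j ≠ i}) := by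
    congr 1
    ext x
    simp [hs]
  have hle : IsLocalRing.maximalIdeal A ≤
      Ideal.span (s : Set A) ⊔ IsLocalRing.maximalIdeal A ^ 2 := by
    rw [hsJ, ← hu, Ideal.span_le]
    rintro _ ⟨j, rfl⟩
    by_cases hj : j = i
    · rw [hj, hu]; exact hmem
    · exact Ideal.mem_sup_left (Ideal.subset_span ⟨j, hj, rfl⟩)
  have hms : IsLocalRing.maximalIdeal A ≤ Ideal.span (s : Set A) :=
    maximalIdeal_le_of_le_sup_sq _ hle
  have hsm : Ideal.span (s : Set A) ≤ IsLocalRing.maximalIdeal A := by
    rw [← hu]
    apply Ideal.span_mono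
    intro x hx
    simp only [hs, Finset.coe_image, Set.mem_image] at hx
    obtain ⟨j, -, rfl⟩ := hx
    exact ⟨j, rfl⟩
  have hmin : IsLocalRing.maximalIdeal A ∈ (Ideal.span (s : Set A)).minimalPrimes := by
    refine ⟨⟨inferInstance, hsm⟩, ?_⟩
    rintro q ⟨_, hsq⟩ _
    exact hms.trans hsq
  have hht := Ideal.height_le_card_of_mem_minimalPrimes_span_finset hmin
  have hdim : ((IsLocalRing.maximalIdeal A).height : WithBot ℕ∞) = (n : WithBot ℕ∞) := by
    rw [IsLocalRing.maximalIdeal_height_eq_ringKrullDim, hn]
  have hht' : (IsLocalRing.maximalIdeal A).height = (n : ℕ∞) := by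
    exact_mod_cast hdim
  rw [hht'] at hht
  have hcard : s.card ≤ n - 1 := by
    calc s.card ≤ (Finset.univ.erase i).card := Finset.card_image_le
      _ = n - 1 := by
        rw [Finset.card_erase_of_mem (Finset.mem_univ i), Finset.card_univ, Fintype.card_fin]
  have hn1 : 1 ≤ n := Nat.one_le_iff_ne_zero.2 (fun h => by subst h; exact i.elim0)
  have : (n : ℕ∞) ≤ ((n - 1 : ℕ) : ℕ∞) := hht.trans (by exact_mod_cast hcard)
  have : n ≤ n - 1 := by exact_mod_cast this
  omega

end aux

/-- Let `A` be a regular local ring of Krull dimension `n` with maximal ideal `m`, let a finite group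
`G` act on `A` by ring automorphisms inducing the identity on the residue field, and let `u_1, …,
u_n` generate `m`. Suppose that for every `σ ∈ G` and every `i`, `σ u_i ∈ (u_1, …, u_i) + m ^ 2`,
i.e. the induced linear maps of `m / m ^ 2` are upper triangular in the basis given by the `u_i`.
Then the system `u` is admissible: for every choice `σ_1, …, σ_n ∈ G` the elements `σ_1 u_1, …, σ_n
u_n` generate `m`. (The published statement is for a complete regular local ring containing a
`G`-fixed field of representatives; this row drops completeness and asks only that `G` act trivially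
on the residue field.) -/
theorem result
    (A : Type u) [CommRing A] [IsRegularLocalRing A]
    (G : Type v) [Group G] [Finite G] [MulSemiringAction G A]
    (hres : ∀ (σ : G) (a : A), σ • a - a ∈ IsLocalRing.maximalIdeal A)
    (n : ℕ) (hn : ringKrullDim A = n) (u : Fin n → A)
    (hu : Ideal.span (Set.range u) = IsLocalRing.maximalIdeal A)
    (htri : ∀ (σ : G) (i : Fin n),
      σ • u i ∈ Ideal.span (u '' {j | j ≤ i}) ⊔ IsLocalRing.maximalIdeal A ^ 2) :
    ∀ τ : Fin n → G,
      Ideal.span (Set.range fun i => τ i • u i) = IsLocalRing.maximalIdeal A := by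
  classical
  intro τ
  set m := IsLocalRing.maximalIdeal A with hm
  -- stability of m and m^2
  have hm_stab : ∀ (σ : G) (x : A), x ∈ m → σ • x ∈ m := by
    intro σ x hx
    have := m.add_mem (hres σ x) hx
    rwa [sub_add_cancel] at this
  have hm_le : ∀ σ : G, m ≤ m.comap (MulSemiringAction.toRingHom G A σ) := fun σ x hx =>
    hm_stab σ x hx
  have hm2_le : ∀ σ : G, m ^ 2 ≤ (m ^ 2).comap (MulSemiringAction.toRingHom G A σ) := fun σ =>
    (Ideal.pow_right_mono (hm_le σ) 2).trans (Ideal.le_comap_pow _ 2)
  -- the flags
  let I : ℕ → Ideal A := fun k => Ideal.span (u '' {j : Fin n | (j : ℕ) < k}) ⊔ m ^ 2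
  let I' : ℕ → Ideal A := fun k =>
    Ideal.span ((fun j => τ j • u j) '' {j : Fin n | (j : ℕ) < k}) ⊔ m ^ 2
  have hI_mono : ∀ k l, k ≤ l → I k ≤ I l := by
    intro k l hkl
    apply sup_le_sup_right
    apply Ideal.span_mono
    apply Set.image_mono
    intro j hj
    exact lt_of_lt_of_le hj hkl
  have hset : ∀ (k : ℕ) (hk : k < n), {j : Fin n | (j : ℕ) < k + 1} =
      {j : Fin n | (j : ℕ) < k} ∪ {⟨k, hk⟩} := by
    intro k hk
    ext j
    simp only [Set.mem_ofPred_eq, Set.mem_union, Set.mem_singleton_iff, Fin.ext_iff]
    omega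
  have hI_succ : ∀ (k : ℕ) (hk : k < n), I (k + 1) = I k ⊔ Ideal.span {u ⟨k, hk⟩} := by
    intro k hk
    simp only [I]
    rw [hset k hk, Set.image_union, Set.image_singleton, Ideal.span_union, sup_right_comm]
  have hI'_succ : ∀ (k : ℕ) (hk : k < n), I' (k + 1) =
      I' k ⊔ Ideal.span {τ ⟨k, hk⟩ • u ⟨k, hk⟩} := by
    intro k hk
    simp only [I']
    rw [hset k hk, Set.image_union, Set.image_singleton, Ideal.span_union, sup_right_comm]
  -- G-stability of the flag
  have hI_stab : ∀ (k : ℕ) (σ : G) (x : A), x ∈ I k → σ • x ∈ I k := by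
    intro k σ x hx
    have hle : I k ≤ (I k).comap (MulSemiringAction.toRingHom G A σ) := by
      apply sup_le
      · rw [Ideal.span_le]
        rintro _ ⟨j, hj, rfl⟩
        show σ • u j ∈ I k
        have h1 := htri σ j
        have h2 : Ideal.span (u '' {j' | j' ≤ j}) ⊔ m ^ 2 ≤ I k := by
          apply sup_le_sup_right
          apply Ideal.span_mono
          apply Set.image_mono
          intro j' hj'
          exact lt_of_le_of_lt (Fin.le_iff_val_le_val.mp hj') hj
        exact h2 h1
      · exact (hm2_le σ).trans (Ideal.comap_mono le_sup_right)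
    exact hle hx
  -- main induction
  have hmain : ∀ k, k ≤ n → I' k = I k := by
    intro k
    induction k with
    | zero =>
      intro _
      simp only [I, I']
      have : {j : Fin n | (j : ℕ) < 0} = ∅ := by ext j; simp
      rw [this, Set.image_empty, Set.image_empty]
    | succ k ih =>
      intro hk
      have hk' : k < n := hk
      have ihk := ih hk'.le
      rw [hI'_succ k hk', hI_succ k hk', ihk]
      set i : Fin n := ⟨k, hk'⟩ with hi
      have hτu : τ i • u i ∈ I k ⊔ Ideal.span {u i} := by
        rw [← hI_succ k hk']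
        have h1 := htri (τ i) i
        have h2 : Ideal.span (u '' {j' | j' ≤ i}) ⊔ m ^ 2 ≤ I (k + 1) := by
          apply sup_le_sup_right
          apply Ideal.span_mono
          apply Set.image_mono
          intro j' hj'
          exact Nat.lt_succ_of_le (Fin.le_iff_val_le_val.mp hj')
        exact h2 h1
      apply le_antisymm
      · apply sup_le le_sup_left
        rw [Ideal.span_le, Set.singleton_subset_iff]
        exact hτu
      · apply sup_le le_sup_left
        rw [Ideal.span_le, Set.singleton_subset_iff, SetLike.mem_coe]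
        obtain ⟨y, hy, z, hz, hyz⟩ := Submodule.mem_sup.mp hτu
        obtain ⟨a, rfl⟩ := Ideal.mem_span_singleton'.mp hz
        by_cases ha : IsUnit a
        · obtain ⟨b, hb⟩ := ha.exists_left_inv
          have : u i = b * (τ i • u i) - b * y := by
            rw [← hyz]
            calc u i = (b * a) * u i := by rw [hb, one_mul]
              _ = b * (y + a * u i) - b * y := by ring
          have key : b * (τ i • u i) - b * y ∈ I k ⊔ Ideal.span {τ i • u i} := by
            apply Ideal.sub_mem
            · exact Ideal.mul_mem_left _ _ (Ideal.mem_sup_right (Ideal.subset_span rfl))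
            · exact Ideal.mul_mem_left _ _ (Ideal.mem_sup_left hy)
          rwa [← this] at key
        · exfalso
          have ham : a ∈ m := (IsLocalRing.mem_maximalIdeal a).mpr ha
          have hui : u i ∈ m := by rw [← hu]; exact Ideal.subset_span ⟨i, rfl⟩
          have h1 : a * u i ∈ I k := by
            apply Ideal.mem_sup_right
            rw [pow_two]
            exact Ideal.mul_mem_mul ham hui
          have h2 : τ i • u i ∈ I k := by rw [← hyz]; exact (I k).add_mem hy h1
          have h3 : u i ∈ I k := by
            have := hI_stab k (τ i)⁻¹ _ h2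
            rwa [inv_smul_smul] at this
          have h4 : I k ≤ Ideal.span (u '' {j | j ≠ i}) ⊔ m ^ 2 := by
            apply sup_le_sup_right
            apply Ideal.span_mono
            apply Set.image_mono
            intro j hj
            have hj' : (j : ℕ) < k := hj
            intro hji
            rw [hji] at hj'
            exact lt_irrefl _ hj'
          exact notMem_span_others n hn u hu i (h4 h3)
  have hfin := hmain n le_rfl
  have huniv : {j : Fin n | (j : ℕ) < n} = Set.univ := by
    ext j; simp
  simp only [I, I', huniv, Set.image_univ] at hfin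
  rw [hu] at hfin
  have hm2 : m ^ 2 ≤ m := Ideal.pow_le_self two_ne_zero
  rw [sup_eq_left.mpr hm2] at hfin
  apply le_antisymm
  · rw [Ideal.span_le]
    rintro _ ⟨j, rfl⟩
    apply hm_stab
    rw [← hu]; exact Ideal.subset_span ⟨j, rfl⟩
  · apply maximalIdeal_le_of_le_sup_sq
    rw [hfin]

end Groth.Agent.S15795
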