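import Groth.Statements.S15796
import Mathlib

set_option autoImplicit false
universe u v
open WildQuot

namespace Groth.Agent.S15796

/-- Let `A` be a Noetherian local ring of Krull dimension `n` whose maximal ideal `m` is generated by
`u_1, …, u_n`, and let a finite group `G` act on `A` by ring automorphisms. If some `σ ∈ G` maps
some `u_i` into the ideal generated by the `u_j` with `j ≠ i`, then the system `u` is not weakly
admissible: for some choice `σ_1, …, σ_n ∈ G` the radical of `(σ_1 u_1, …, σ_n u_n)` does not
contain `m`. (The published statement is for a linear action on `k[[u_1, …, u_n]]` whose matrix has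
a zero diagonal entry; this row assumes instead that some `σ u_i` lies in the ideal generated by the
other `u_j`.) -/
theorem result
    (A : Type u) [CommRing A] [IsLocalRing A] [IsNoetherianRing A]
    (G : Type v) [Group G] [Finite G] [MulSemiringAction G A]
    (n : ℕ) (hn : ringKrullDim A = n) (u : Fin n → A)
    (hu : Ideal.span (Set.range u) = IsLocalRing.maximalIdeal A)
    (σ : G) (i : Fin n) (hσ : σ • u i ∈ Ideal.span (u '' {j | j ≠ i})) :
    ∃ τ : Fin n → G,
      ¬ IsLocalRing.maximalIdeal A ≤ (Ideal.span (Set.range fun j => τ j • u j)).radical := by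
  classical
  refine ⟨fun j => if j = i then σ else 1, ?_⟩
  intro hle
  set s : Finset A := (Finset.univ.erase i).image u with hs
  have hJ : Ideal.span (Set.range fun j => (if j = i then σ else (1:G)) • u j) ≤
      Ideal.span (s : Set A) := by
    rw [Ideal.span_le]
    rintro _ ⟨j, rfl⟩
    by_cases hj : j = i
    · subst hj
      simp only [if_true]
      refine Ideal.span_mono ?_ hσ
      rintro _ ⟨j', hj', rfl⟩
      simp only [hs, Finset.coe_image, Finset.coe_erase, Finset.coe_univ, Set.mem_image]
      exact ⟨j', ⟨Set.mem_univ _, hj'⟩, rfl⟩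
    · simp only [hj, if_false, one_smul]
      apply Ideal.subset_span
      simp only [hs, Finset.coe_image, Finset.coe_erase, Finset.coe_univ, Set.mem_image]
      exact ⟨j, ⟨Set.mem_univ _, hj⟩, rfl⟩
  have hsm : Ideal.span (s : Set A) ≤ IsLocalRing.maximalIdeal A := by
    rw [← hu]
    apply Ideal.span_mono
    intro x hx
    simp only [hs, Finset.coe_image, Set.mem_image] at hx
    obtain ⟨j, -, rfl⟩ := hx
    exact ⟨j, rfl⟩
  have hmin : IsLocalRing.maximalIdeal A ∈ (Ideal.span (s : Set A)).minimalPrimes := by
    refine ⟨⟨inferInstance, hsm⟩, ?_⟩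
    rintro q ⟨hq, hsq⟩ hqm
    calc IsLocalRing.maximalIdeal A
        ≤ (Ideal.span (Set.range fun j => (if j = i then σ else (1:G)) • u j)).radical := hle
      _ ≤ (Ideal.span (s : Set A)).radical := Ideal.radical_mono hJ
      _ ≤ q := hq.radical_le_iff.2 hsq
  have hht := Ideal.height_le_card_of_mem_minimalPrimes_span_finset hmin
  have hdim : ((IsLocalRing.maximalIdeal A).height : WithBot ℕ∞) = (n : WithBot ℕ∞) := by
    rw [IsLocalRing.maximalIdeal_height_eq_ringKrullDim, hn]
  have hht' : (IsLocalRing.maximalIdeal A).height = (n : ℕ∞) := by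
    exact_mod_cast hdim
  rw [hht'] at hht
  have hcard : s.card ≤ n - 1 := by
    calc s.card ≤ (Finset.univ.erase i).card := Finset.card_image_le
      _ = n - 1 := by rw [Finset.card_erase_of_mem (Finset.mem_univ i), Finset.card_univ, Fintype.card_fin]
  have hn1 : 1 ≤ n := Nat.one_le_iff_ne_zero.2 (fun h => by subst h; exact i.elim0)
  have : (n : ℕ∞) ≤ ((n - 1 : ℕ) : ℕ∞) := hht.trans (by exact_mod_cast hcard)
  have : n ≤ n - 1 := by exact_mod_cast this
  omega

end Groth.Agent.S15796
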