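import Mathlib
import Groth.Statements.S15806
-- import your own Groth.Agent.* helpers here

set_option autoImplicit false
universe u
open CategoryTheory AlgebraicGeometry
open WildQuot

namespace Groth.Agent.S15806

open AlgebraicGeometry CategoryTheory CategoryTheory.Limits

theorem stDominant_of_ass (S : Scheme.{u}) [AlgebraicGeometry.IsNoetherian S] (U : S.Opens)
    (hU : ∀ s : S, IsLocalRing.maximalIdeal (S.presheaf.stalk s) ∈
        associatedPrimes (S.presheaf.stalk s) (S.presheaf.stalk s) → s ∈ U) :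
    IsSchemeTheoreticallyDominant U.ι := by
  rw [isSchemeTheoreticallyDominant_iff]
  apply Scheme.IdealSheafData.ext
  funext V
  rw [Scheme.Hom.ker_apply, Scheme.IdealSheafData.ideal_bot, Pi.bot_apply]
  rw [← RingHom.injective_iff_ker_eq_bot, injective_iff_map_eq_zero]
  intro a ha
  by_contra hne
  have hV : IsAffineOpen V.1 := V.2
  haveI : IsNoetherianRing Γ(S, V.1) := IsLocallyNoetherian.component_noetherian V
  obtain ⟨P, hPass, hPle⟩ := exists_le_isAssociatedPrime_of_isNoetherianRing Γ(S, V.1) a hne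
  haveI hPp : P.IsPrime := hPass.isPrime
  obtain ⟨y, hy⟩ : ∃ y : PrimeSpectrum Γ(S, V.1), y = ⟨P, hPp⟩ := ⟨_, rfl⟩
  have hs : hV.fromSpec y ∈ V.1 := by
    have := hV.range_fromSpec
    rw [← SetLike.mem_coe, ← this]
    exact Set.mem_range_self y
  letI := TopCat.Presheaf.algebra_section_stalk S.presheaf ⟨hV.fromSpec y, hs⟩
  haveI hloc : IsLocalization.AtPrime (S.presheaf.stalk (hV.fromSpec y)) y.asIdeal :=
    hV.isLocalization_stalk' y hs
  have hyP : y.asIdeal = P := by rw [hy]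
  have hass : IsLocalRing.maximalIdeal (S.presheaf.stalk (hV.fromSpec y)) ∈
      associatedPrimes (S.presheaf.stalk (hV.fromSpec y)) (S.presheaf.stalk (hV.fromSpec y)) := by
    refine Module.associatedPrimes.mem_associatedPrimes_of_comap_mem_associatedPrimes_of_isLocalizedModule
      y.asIdeal.primeCompl (Algebra.linearMap Γ(S, V.1) (S.presheaf.stalk (hV.fromSpec y))) _ ?_
    have := IsLocalization.AtPrime.under_maximalIdeal (S.presheaf.stalk (hV.fromSpec y)) y.asIdeal
    rw [Ideal.under] at this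
    rw [this, hyP]
    exact hPass
  have hsU : hV.fromSpec y ∈ U := hU _ hass
  have hgerm : algebraMap Γ(S, V.1) (S.presheaf.stalk (hV.fromSpec y)) a = 0 := by
    have hsW : hV.fromSpec y ∈ U.ι ''ᵁ U.ι ⁻¹ᵁ V.1 := ⟨⟨hV.fromSpec y, hsU⟩, hs, rfl⟩
    have h1 := TopCat.Presheaf.germ_res_apply S.presheaf
      (homOfLE (Set.image_preimage_subset _ _) : U.ι ''ᵁ U.ι ⁻¹ᵁ V.1 ⟶ V.1) (hV.fromSpec y) hsW a
    rw [Scheme.Opens.ι_app] at ha
    show (S.presheaf.germ V.1 (hV.fromSpec y) hs).hom a = 0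
    rw [← h1]
    exact (congrArg (S.presheaf.germ _ (hV.fromSpec y) hsW).hom ha).trans (map_zero _)
  obtain ⟨t, ht⟩ := (IsLocalization.map_eq_zero_iff y.asIdeal.primeCompl
    (S.presheaf.stalk (hV.fromSpec y)) a).1 hgerm
  have htP : (t : Γ(S, V.1)) ∈ P := hPle (by
    rw [Submodule.mem_colon_singleton]
    exact ht)
  exact t.2 (hyP ▸ htP)


/-- Let `S` be a Noetherian scheme, `G_1 → S` and `G_2 → S` finite flat morphisms, and `U ⊆ S` an open
subset containing every associated point of `S`, i.e. every point whose local ring has the maximal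
ideal as an associated prime (for `S` Noetherian this says exactly that `U` is dense and contains
all points at which `S` does not satisfy Serre's condition `S_1`, which is the printed hypothesis).
If two `S`-morphisms `φ, ψ : G_1 → G_2` agree on the preimage of `U`, then `φ = ψ`. -/
theorem result
    (S G₁ G₂ : Scheme.{u}) [AlgebraicGeometry.IsNoetherian S] (f₁ : G₁ ⟶ S) (f₂ : G₂ ⟶ S)
    [AlgebraicGeometry.IsFinite f₁] [AlgebraicGeometry.Flat f₁]
    [AlgebraicGeometry.IsFinite f₂] [AlgebraicGeometry.Flat f₂]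
    (U : S.Opens)
    (hU : ∀ s : S, IsLocalRing.maximalIdeal (S.presheaf.stalk s) ∈
        associatedPrimes (S.presheaf.stalk s) (S.presheaf.stalk s) → s ∈ U)
    (φ ψ : G₁ ⟶ G₂) (hφ : φ ≫ f₂ = f₁) (hψ : ψ ≫ f₂ = f₁)
    (h : (f₁ ⁻¹ᵁ U).ι ≫ φ = (f₁ ⁻¹ᵁ U).ι ≫ ψ) : φ = ψ := by
  haveI hdom : IsSchemeTheoreticallyDominant U.ι := stDominant_of_ass S U hU
  haveI : IsSchemeTheoreticallyDominant (f₁ ⁻¹ᵁ U).ι :=
    IsSchemeTheoreticallyDominant.of_isPullback (isPullback_morphismRestrict f₁ U)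
  let X' : Over S := Over.mk f₁
  let Y' : Over S := Over.mk f₂
  let φ' : X' ⟶ Y' := Over.homMk φ hφ
  let ψ' : X' ⟶ Y' := Over.homMk ψ hψ
  let W' : Over S := Over.mk ((f₁ ⁻¹ᵁ U).ι ≫ f₁)
  let ι' : W' ⟶ X' := Over.homMk (f₁ ⁻¹ᵁ U).ι rfl
  haveI : IsSeparated Y'.hom := (inferInstance : IsSeparated f₂)
  have hcond : ι' ≫ φ' = ι' ≫ ψ' := by
    ext1
    exact h
  have hl : (equalizer.lift ι' hcond).left ≫ (equalizer.ι φ' ψ').left = (f₁ ⁻¹ᵁ U).ι := by
    rw [← Over.comp_left, equalizer.lift_ι]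
    rfl
  have hker : (equalizer.ι φ' ψ').left.ker = ⊥ := by
    apply le_bot_iff.1
    have := Scheme.Hom.le_ker_comp (equalizer.lift ι' hcond).left (equalizer.ι φ' ψ').left
    rw [hl, (f₁ ⁻¹ᵁ U).ι.ker_eq_bot] at this
    exact this
  haveI : IsIso (equalizer.ι φ' ψ').left := IsClosedImmersion.isIso_iff_ker_eq_bot.2 hker
  rw [← cancel_epi (equalizer.ι φ' ψ').left]
  exact congr($(equalizer.condition φ' ψ').left)

end Groth.Agent.S15806
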