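import Mathlib
import Groth.Statements.S1581
-- import your own Groth.Agent.* helpers here

set_option autoImplicit false
universe u
open CategoryTheory CategoryTheory.Limits AlgebraicGeometry
open Variety

namespace Groth.Agent.S1581


/-- Let X be a scheme over a field k and K a field extension of k. If X_K is proper over K then X is
proper over k. -/
theorem result (k : Type u) [Field k] (X : Scheme.{u}) [X.Over (Spec (CommRingCat.of k))] (K : Type u) [Field K] [Algebra k K]
    [IsProper (Curv2.bcSnd k X K)] : IsProper (X ↘ (Spec (CommRingCat.of k))) := by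
  let g := X ↘ Spec (CommRingCat.of k)
  let q := Spec.map (CommRingCat.ofHom (algebraMap k K))
  have hpb : IsPullback (pullback.snd g q) (pullback.fst g q) q g :=
    (IsPullback.of_hasPullback g q).flip
  have hqs : Surjective q := ⟨fun y => by
    haveI : Subsingleton (Spec (CommRingCat.of k)) :=
      inferInstanceAs (Subsingleton (PrimeSpectrum k))
    exact ⟨((⊥ : PrimeSpectrum K) : Spec (CommRingCat.of K)), Subsingleton.elim _ _⟩⟩
  have hqf : Flat q := by
    rw [HasRingHomProperty.Spec_iff (P := @Flat)]
    exact RingHom.flat_algebraMap_iff.mpr inferInstance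
  have hqc : QuasiCompact q := inferInstance
  have hQ : (@Surjective ⊓ @Flat ⊓ @QuasiCompact : MorphismProperty Scheme.{u}) q :=
    ⟨⟨hqs, hqf⟩, hqc⟩
  have hP : IsProper (pullback.snd g q) := ‹_›
  have h1 : UniversallyClosed g :=
    MorphismProperty.DescendsAlong.of_isPullback (P := @UniversallyClosed) hpb hQ inferInstance
  have h2 : LocallyOfFiniteType g :=
    MorphismProperty.DescendsAlong.of_isPullback (P := @LocallyOfFiniteType) hpb hQ inferInstance
  have hd : UniversallyClosed (pullback.diagonal g) :=
    MorphismProperty.DescendsAlong.of_isPullback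
      (P := MorphismProperty.diagonal @UniversallyClosed) hpb hQ
      (show UniversallyClosed (pullback.diagonal (pullback.snd g q)) from inferInstance)
  have h4 : IsSeparated g :=
    ⟨IsClosedImmersion.of_isPreimmersion _ (pullback.diagonal g).isClosedMap.isClosed_range⟩
  exact { }

end Groth.Agent.S1581
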