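import Groth.Statements.S15811
import Mathlib

set_option autoImplicit false
universe u
open WildQuot

namespace Groth.Agent.S15811

open Polynomial in
/-- Let `R` be an integrally closed domain of prime characteristic `p` with fraction field `K`, and `α ∈
R`. Then `α ≠ 0` and the polynomial `T ^ p - α T` splits into linear factors over `K` — which says
that the finite flat group scheme `Spec R[T]/(T ^ p - α T)` of order `p` has constant generic fibre
(its `p` roots are then distinct) — if and only if `α = a ^ (p-1)` for some nonzero `a ∈ R`. (The
published statement is that the generic fibre of the finite flat group scheme of order `p` with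
parameters `α, β` satisfying `α β = 0`, whose underlying scheme is `Spec R[T]/(T ^ p - α T)`, is
constant if and only if `β = 0` and `α` is the `(p-1)`-th power of a nonzero element of `R`; this
row states the polynomial condition, in which `α ≠ 0` already forces `β = 0` over a domain.) -/
theorem result
    (p : ℕ) [Fact p.Prime] (R : Type u) [CommRing R] [IsDomain R] [IsIntegrallyClosed R]
    [CharP R p] (α : R) :
    (α ≠ 0 ∧ (Polynomial.map (algebraMap R (FractionRing R))
        (Polynomial.X ^ p - Polynomial.C α * Polynomial.X)).Splits) ↔
      ∃ a : R, a ≠ 0 ∧ α = a ^ (p - 1) := by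
  classical
  have hp : p.Prime := Fact.out
  have hp1 : p - 1 ≠ 0 := by have := hp.two_le; omega
  have hpp : p = (p - 1) + 1 := by have := hp.two_le; omega
  set K := FractionRing R
  have hinj : Function.Injective (algebraMap R K) := IsFractionRing.injective R K
  haveI : CharP K p := charP_of_injective_algebraMap hinj p
  have hF : Polynomial.map (algebraMap R K) (Polynomial.X ^ p - Polynomial.C α * Polynomial.X) =
      Polynomial.X * (Polynomial.X ^ (p - 1) - Polynomial.C (algebraMap R K α)) := by
    simp only [Polynomial.map_sub, Polynomial.map_pow, Polynomial.map_X, Polynomial.map_mul,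
      Polynomial.map_C]
    conv_lhs => rw [hpp]
    ring
  rw [hF, Polynomial.splits_X_mul]
  constructor
  · rintro ⟨hα, hs⟩
    have hdeg : (Polynomial.X ^ (p - 1) - Polynomial.C (algebraMap R K α)).degree ≠ 0 := by
      rw [Polynomial.degree_X_pow_sub_C (Nat.pos_of_ne_zero hp1)]
      exact_mod_cast hp1
    obtain ⟨b, hb⟩ := hs.exists_eval_eq_zero hdeg
    simp only [Polynomial.eval_sub, Polynomial.eval_pow, Polynomial.eval_X, Polynomial.eval_C,
      sub_eq_zero] at hb
    have hint : IsIntegral R b := by
      refine ⟨Polynomial.X ^ (p - 1) - Polynomial.C α, Polynomial.monic_X_pow_sub_C α hp1, ?_⟩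
      rw [Polynomial.eval₂_sub, Polynomial.eval₂_pow, Polynomial.eval₂_X, Polynomial.eval₂_C, hb,
        sub_self]
    obtain ⟨a, rfl⟩ := IsIntegrallyClosed.isIntegral_iff.mp hint
    have ha : a ^ (p - 1) = α := by
      apply hinj
      rw [map_pow, hb]
    refine ⟨a, ?_, ha.symm⟩
    rintro rfl
    rw [zero_pow hp1] at ha
    exact hα ha.symm
  · rintro ⟨a, ha, rfl⟩
    refine ⟨pow_ne_zero _ ha, ?_⟩
    set b := algebraMap R K a with hb
    have hb0 : b ≠ 0 := by
      intro h
      apply ha
      apply hinj
      rw [map_zero]; exact h
    set G : K[X] := Polynomial.X ^ (p - 1) - Polynomial.C (algebraMap R K (a ^ (p - 1))) with hG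
    have hGdeg : G.natDegree = p - 1 := Polynomial.natDegree_X_pow_sub_C
    have hG0 : G ≠ 0 := (Polynomial.monic_X_pow_sub_C _ hp1).ne_zero
    rw [Polynomial.splits_iff_card_roots, hGdeg]
    apply le_antisymm
    · rw [← hGdeg]; exact Polynomial.card_roots' G
    · let S : Finset K := ((Finset.range p).erase 0).image (fun i : ℕ => (i : K) * b)
      have hScard : S.card = p - 1 := by
        rw [Finset.card_image_of_injOn, Finset.card_erase_of_mem (by simp [hp.pos]), Finset.card_range]
        intro i hi j hj hij
        simp only [Finset.coe_erase, Finset.coe_range, Set.mem_sdiff, Set.mem_Iio,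
          Set.mem_singleton_iff] at hi hj
        have := mul_right_cancel₀ hb0 hij
        exact CharP.natCast_injOn_Iio K p hi.1 hj.1 this
      have hSsub : S.val ⊆ G.roots := by
        intro x hx
        rw [Finset.mem_val] at hx
        obtain ⟨i, hi, rfl⟩ := Finset.mem_image.mp hx
        rw [Polynomial.mem_roots hG0, Polynomial.IsRoot.def]
        simp only [hG, Polynomial.eval_sub, Polynomial.eval_pow, Polynomial.eval_X,
          Polynomial.eval_C, map_pow]
        rw [← hb, mul_pow]
        have hi0 : (i : K) ≠ 0 := by
          have hi' := Finset.mem_erase.mp hi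
          have hlt : i < p := Finset.mem_range.mp hi'.2
          intro h0
          rw [CharP.cast_eq_zero_iff K p] at h0
          exact hi'.1 (Nat.eq_zero_of_dvd_of_lt h0 hlt)
        have hfr : (i : K) ^ p = i := by
          have := map_natCast (frobenius K p) i
          rwa [frobenius_def] at this
        have : (i : K) ^ (p - 1) = 1 := by
          have h2 : (i : K) ^ (p - 1) * i = 1 * i := by
            rw [← pow_succ, ← hpp, hfr, one_mul]
          exact mul_right_cancel₀ hi0 h2
        rw [this, one_mul, sub_self]
      have hle : S.val ≤ G.roots := (Multiset.le_iff_subset S.nodup).mpr hSsub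
      have := Multiset.card_le_card hle
      rw [Finset.card_val, hScard] at this
      exact this

end Groth.Agent.S15811
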