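import Groth.Statements.S15815
import Mathlib
import Groth.Agent.H19.KosSES
-- import your own Groth.Agent.* helpers here

set_option autoImplicit false
universe u
open CategoryTheory
open Koszul

namespace Groth.Agent.S15815

open CategoryTheory CategoryTheory.Limits CochainComplex HomologicalComplex
open scoped Pointwise

section Main

variable {A : Type u} [CommRing A]

/-- the complex with the same terms and differential multiplied by `x`. -/
@[reducible] noncomputable def scale (x : A) (K : CochainComplex (ModuleCat.{u} A) ℤ) :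
    CochainComplex (ModuleCat.{u} A) ℤ where
  X := K.X
  d i j := x • K.d i j
  shape i j h := by rw [K.shape i j h, smul_zero]
  d_comp_d' i j k _ _ := by
    rw [Linear.smul_comp, Linear.comp_smul, K.d_comp_d, smul_zero, smul_zero]

noncomputable def coneIso {K K' : CochainComplex (ModuleCat.{u} A) ℤ} (e : K ≅ K') (a : A) :
    mappingCone (a • 𝟙 K) ≅ mappingCone (a • 𝟙 K') where
  hom := mappingCone.map (a • 𝟙 K) (a • 𝟙 K') e.hom e.hom (by
    simp only [Linear.smul_comp, Linear.comp_smul, Category.id_comp, Category.comp_id])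
  inv := mappingCone.map (a • 𝟙 K') (a • 𝟙 K) e.inv e.inv (by
    simp only [Linear.smul_comp, Linear.comp_smul, Category.id_comp, Category.comp_id])
  hom_inv_id := by
    rw [← mappingCone.map_comp]
    simp only [Iso.hom_inv_id]
    exact mappingCone.map_id _
  inv_hom_id := by
    rw [← mappingCone.map_comp]
    simp only [Iso.inv_hom_id]
    exact mappingCone.map_id _

theorem cone_scale_d (x f : A) (K : CochainComplex (ModuleCat.{u} A) ℤ) (i j : ℤ) :
    (mappingCone ((x * f) • 𝟙 (scale x K))).d i j = x • (mappingCone (f • 𝟙 K)).d i j := by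
  by_cases hij : i + 1 = j
  · subst hij
    apply mappingCone.ext_from ((x * f) • 𝟙 (scale x K)) (i + 1) i rfl
    · have H1 := mappingCone.inl_v_d ((x * f) • 𝟙 (scale x K)) (i+1) i (i+1+1) (by omega) (by omega)
      have H0 := mappingCone.inl_v_d (f • 𝟙 K) (i+1) i (i+1+1) (by omega) (by omega)
      have R : (mappingCone.inl ((x * f) • 𝟙 (scale x K))).v (i + 1) i (by omega) ≫
            (x • (mappingCone (f • 𝟙 K)).d i (i + 1)) =
          x • ((mappingCone.inl (f • 𝟙 K)).v (i + 1) i (by omega) ≫
            (mappingCone (f • 𝟙 K)).d i (i + 1)) := Linear.comp_smul _ _ _ _ _ _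
      have E : ((x * f) • 𝟙 (scale x K)).f (i + 1) ≫
            (mappingCone.inr ((x * f) • 𝟙 (scale x K))).f (i + 1) -
          (scale x K).d (i + 1) (i + 1 + 1) ≫
            (mappingCone.inl ((x * f) • 𝟙 (scale x K))).v (i + 1 + 1) (i + 1) (by omega) =
          ((x * f) • 𝟙 K).f (i + 1) ≫ (mappingCone.inr (f • 𝟙 K)).f (i + 1) -
          (x • K.d (i + 1) (i + 1 + 1)) ≫
            (mappingCone.inl (f • 𝟙 K)).v (i + 1 + 1) (i + 1) (by omega) := rfl
      have Ed : ((x * f) • 𝟙 K).f (i + 1) ≫ (mappingCone.inr (f • 𝟙 K)).f (i + 1) -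
          (x • K.d (i + 1) (i + 1 + 1)) ≫
            (mappingCone.inl (f • 𝟙 K)).v (i + 1 + 1) (i + 1) (by omega) =
          x • ((f • 𝟙 K).f (i + 1) ≫ (mappingCone.inr (f • 𝟙 K)).f (i + 1) -
            K.d (i + 1) (i + 1 + 1) ≫
              (mappingCone.inl (f • 𝟙 K)).v (i + 1 + 1) (i + 1) (by omega)) := by
        simp only [HomologicalComplex.smul_f_apply, HomologicalComplex.id_f, Linear.smul_comp,
          Category.id_comp, smul_sub, smul_smul]
      exact H1.trans (E.trans (Ed.trans ((congrArg (fun g => x • g) H0).symm.trans R.symm)))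
    · have H1 := mappingCone.inr_f_d ((x * f) • 𝟙 (scale x K)) i (i+1)
      have H0 := mappingCone.inr_f_d (f • 𝟙 K) i (i+1)
      have R : (mappingCone.inr ((x * f) • 𝟙 (scale x K))).f i ≫
            (x • (mappingCone (f • 𝟙 K)).d i (i + 1)) =
          x • ((mappingCone.inr (f • 𝟙 K)).f i ≫
            (mappingCone (f • 𝟙 K)).d i (i + 1)) := Linear.comp_smul _ _ _ _ _ _
      have E : (scale x K).d i (i + 1) ≫
            (mappingCone.inr ((x * f) • 𝟙 (scale x K))).f (i + 1) =
          (x • K.d i (i + 1)) ≫ (mappingCone.inr (f • 𝟙 K)).f (i + 1) := rfl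
      have Ed : (x • K.d i (i + 1)) ≫ (mappingCone.inr (f • 𝟙 K)).f (i + 1) =
          x • (K.d i (i + 1) ≫ (mappingCone.inr (f • 𝟙 K)).f (i + 1)) := Linear.smul_comp _ _ _ _ _ _
      exact H1.trans (E.trans (Ed.trans ((congrArg (fun g => x • g) H0).symm.trans R.symm)))
  · have h' : ¬ (ComplexShape.up ℤ).Rel i j := by simpa using hij
    rw [HomologicalComplex.shape _ i j h', HomologicalComplex.shape _ i j h', smul_zero]
    rfl

noncomputable def coneScaleIso (x f : A) (K : CochainComplex (ModuleCat.{u} A) ℤ) :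
    mappingCone ((x * f) • 𝟙 (scale x K)) ≅ scale x (mappingCone (f • 𝟙 K)) :=
  HomologicalComplex.Hom.isoOfComponents (fun n => Iso.refl _) (by
    intro i j _
    refine (Category.id_comp _).trans (Eq.trans ?_ (Category.comp_id _).symm)
    exact (cone_scale_d x f K i j).symm)

noncomputable def koszulScaleIso (x : A) : ∀ l : List A,
    Koszul.koszul A (l.map (fun f => x * f)) ≅ scale x (Koszul.koszul A l)
  | [] => HomologicalComplex.Hom.isoOfComponents (fun n => Iso.refl _) (by
      intro i j _
      have hS : ∀ i j, (Koszul.koszul A ([] : List A)).d i j = 0 :=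
        fun i j => HomologicalComplex.single_obj_d _ _ _ _ _
      show (Iso.refl _).hom ≫ (x • (Koszul.koszul A ([] : List A)).d i j) =
        (Koszul.koszul A ([] : List A)).d i j ≫ (Iso.refl _).hom
      rw [hS, smul_zero, comp_zero, zero_comp])
  | f :: l => coneIso (koszulScaleIso x l) (x * f) ≪≫ coneScaleIso x f (Koszul.koszul A l)

theorem homology_scale (x : A) (hx : x ∈ nonZeroDivisors A)
    (K : CochainComplex (ModuleCat.{u} A) ℤ) (hK : ∀ n, Module.Free A (K.X n)) (q : ℤ) :
    Nonempty ((scale x K).homology q ≅ ModuleCat.of A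
      (↥(LinearMap.ker (K.d q (q + 1)).hom) ⧸
        Submodule.comap (LinearMap.ker (K.d q (q + 1)).hom).subtype
          (Ideal.span {x} • LinearMap.range (K.d (q - 1) q).hom))) := by
  let S := (scale x K).sc' (q-1) q (q+1)
  have e1 : (scale x K).homology q ≅ S.homology :=
    (scale x K).homologyIsoSc' (q-1) q (q+1) (by simp) (by simp)
  have e2 : S.homology ≅
      ModuleCat.of A (LinearMap.ker S.g.hom ⧸ LinearMap.range S.moduleCatToCycles) :=
    S.moduleCatHomologyIso
  haveI := hK (q+1)
  have hreg : IsSMulRegular (K.X (q+1)) x := Module.Flat.isSMulRegular_of_nonZeroDivisors hx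
  have hker : LinearMap.ker S.g.hom = LinearMap.ker (K.d q (q + 1)).hom := by
    apply Submodule.ext
    intro m
    change S.g.hom m = 0 ↔ (K.d q (q + 1)).hom m = 0
    have h0 : S.g.hom m = x • (K.d q (q+1)).hom m := rfl
    rw [h0]
    constructor
    · intro h
      exact hreg.right_eq_zero_of_smul h
    · intro h
      rw [h, smul_zero]
      rfl
  let f : ↥(LinearMap.ker S.g.hom) ≃ₗ[A] ↥(LinearMap.ker (K.d q (q + 1)).hom) :=
    LinearEquiv.ofEq _ _ hker
  have hf : (LinearMap.range S.moduleCatToCycles).map (f : _ →ₗ[A] _) =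
      Submodule.comap (LinearMap.ker (K.d q (q + 1)).hom).subtype
        (Ideal.span {x} • LinearMap.range (K.d (q - 1) q).hom) := by
    ext y
    rw [Submodule.mem_map, Submodule.mem_comap, Submodule.ideal_span_singleton_smul,
      Submodule.mem_smul_pointwise_iff_exists]
    constructor
    · rintro ⟨w, ⟨u, rfl⟩, rfl⟩
      exact ⟨(K.d (q-1) q).hom u, ⟨u, rfl⟩, rfl⟩
    · rintro ⟨n, ⟨u, rfl⟩, hn⟩
      refine ⟨S.moduleCatToCycles u, ⟨u, rfl⟩, ?_⟩
      apply Subtype.ext
      exact hn
  exact ⟨e1 ≪≫ e2 ≪≫ (Submodule.Quotient.equiv _ _ f hf).toModuleIso⟩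

end Main


/-- Let A be a commutative ring, f = (f_1, …, f_n) a finite sequence in A with Koszul complex K(f)
(cohomological, in degrees -n, …, 0) and differentials ∂^q : K(f)^q → K(f)^{q+1}, and let x be a
non-zero-divisor of A. Then for every integer q the q-th cohomology module of the Koszul complex of
the sequence (x f_1, …, x f_n) is isomorphic as an A-module to Ker(∂^q) / (x · Im(∂^{q-1})), the
q-cocycles of K(f) modulo x times the q-coboundaries (existence of an A-linear isomorphism; the
Koszul complex is the iterated mapping-cone model). -/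
theorem result (A : Type u) [CommRing A] (l : List A) (x : A)
    (hx : x ∈ nonZeroDivisors A) (q : ℤ) :
    Nonempty ((Koszul.koszul A (l.map (fun f => x * f))).homology q ≅
      ModuleCat.of A (↥(LinearMap.ker ((Koszul.koszul A l).d q (q + 1)).hom) ⧸
        Submodule.comap (LinearMap.ker ((Koszul.koszul A l).d q (q + 1)).hom).subtype
          (Ideal.span {x} • LinearMap.range ((Koszul.koszul A l).d (q - 1) q).hom))) := by
  obtain ⟨e⟩ := homology_scale x hx (Koszul.koszul A l) (Groth.Agent.H19.Kos.free_koszul l) q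
  exact ⟨HomologicalComplex.homologyMapIso (koszulScaleIso x l) q ≪≫ e⟩

end Groth.Agent.S15815
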