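import Groth.Statements.S15816
import Mathlib
import Groth.Agent.S15815
import Groth.Agent.S15821
-- import your own Groth.Agent.* helpers here

set_option autoImplicit false
universe u
open CategoryTheory
open scoped TensorProduct
open Koszul

namespace Groth.Agent.S15816

/-- Let A be a commutative ring, f = (f_1, …, f_n) a sequence in A that is regular in the weak sense
(f_1 is a non-zero-divisor of A and each f_i is a non-zero-divisor modulo (f_1, …, f_{i-1})), with
Koszul complex K(f) and differentials ∂^q, and let x be a non-zero-divisor of A. Then for every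
integer q < 0 the q-th cohomology module of the Koszul complex of (x f_1, …, x f_n) is isomorphic as
an A-module to Ker(∂^q) ⊗_A A/(x) (existence of an A-linear isomorphism; mapping-cone model of the
Koszul complex). -/
theorem result (A : Type u) [CommRing A] (l : List A)
    (hl : RingTheory.Sequence.IsWeaklyRegular A l) (x : A) (hx : x ∈ nonZeroDivisors A) (q : ℤ) (hq : q < 0) :
    Nonempty ((Koszul.koszul A (l.map (fun f => x * f))).homology q ≅
      ModuleCat.of A (↥(LinearMap.ker ((Koszul.koszul A l).d q (q + 1)).hom) ⊗[A] (A ⧸ Ideal.span {x}))) := by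
  obtain ⟨e⟩ := Groth.Agent.S15815.result A l x hx q
  have hKR := (Groth.Agent.S15821.result A l hl).1
  have hz : Limits.IsZero ((Koszul.koszul A l).homology q) := hKR q (ne_of_lt hq)
  have hex : (Koszul.koszul A l).ExactAt q := by
    rw [HomologicalComplex.exactAt_iff_isZero_homology]
    exact hz
  rw [HomologicalComplex.exactAt_iff' _ (q-1) q (q+1) (by simp) (by simp),
    ShortComplex.moduleCat_exact_iff_range_eq_ker] at hex
  have hex' : LinearMap.range ((Koszul.koszul A l).d (q - 1) q).hom =
      LinearMap.ker ((Koszul.koszul A l).d q (q + 1)).hom := hex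
  set Z := LinearMap.ker ((Koszul.koszul A l).d q (q + 1)).hom with hZ
  have hcomap : Submodule.comap Z.subtype
      (Ideal.span {x} • LinearMap.range ((Koszul.koszul A l).d (q - 1) q).hom) =
      Ideal.span {x} • (⊤ : Submodule A ↥Z) := by
    rw [hex']
    have h1 : Ideal.span {x} • Z = (Ideal.span {x} • (⊤ : Submodule A ↥Z)).map Z.subtype := by
      rw [Submodule.map_smul'', Submodule.map_subtype_top]
    rw [h1, Submodule.comap_map_eq_of_injective (Submodule.injective_subtype Z)]
  let e2 : (↥Z ⧸ Submodule.comap Z.subtype
      (Ideal.span {x} • LinearMap.range ((Koszul.koszul A l).d (q - 1) q).hom)) ≃ₗ[A]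
      (↥Z ⧸ (Ideal.span {x} • (⊤ : Submodule A ↥Z))) := Submodule.quotEquivOfEq _ _ hcomap
  exact ⟨e ≪≫ (e2.trans
    (TensorProduct.tensorQuotEquivQuotSMul ↥Z (Ideal.span {x})).symm).toModuleIso⟩

end Groth.Agent.S15816
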