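import Groth.Statements.S15818
import Mathlib
-- import your own Groth.Agent.* helpers here

set_option autoImplicit false
universe u
open CategoryTheory
open Koszul

namespace Groth.Agent.S15818

section Gen

open CategoryTheory CategoryTheory.Limits

variable {A : Type u} [CommRing A] {Z' : Type u} [AddCommGroup Z'] [Module A Z']

theorem factor_mk' {P Q : Submodule A Z'} (H : P ≤ Q) (x : Z') :
    Submodule.factor H (Submodule.Quotient.mk x) = Submodule.Quotient.mk x := rfl

theorem inj_part (P₁ P₂ P₃ : Submodule A Z') (h12 : P₁ ≤ P₂) (h13 : P₁ ≤ P₃)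
    (c1 : P₂ ⊓ P₃ ≤ P₁) (u v : Z' ⧸ P₁)
    (h1 : Submodule.factor h12 u = Submodule.factor h12 v)
    (h2 : Submodule.factor h13 u = Submodule.factor h13 v) : u = v := by
  obtain ⟨a, rfl⟩ := Submodule.Quotient.mk_surjective _ u
  obtain ⟨b, rfl⟩ := Submodule.Quotient.mk_surjective _ v
  rw [factor_mk', factor_mk', Submodule.Quotient.eq] at h1 h2
  exact (Submodule.Quotient.eq _).2 (c1 ⟨h1, h2⟩)

theorem surj_part (P₁ P₂ P₃ P₄ : Submodule A Z') (h12 : P₁ ≤ P₂) (h13 : P₁ ≤ P₃)
    (h24 : P₂ ≤ P₄) (h34 : P₃ ≤ P₄) (c2 : P₄ ≤ P₂ ⊔ P₃) (u : Z' ⧸ P₂) (v : Z' ⧸ P₃)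
    (huv : Submodule.factor h24 u = Submodule.factor h34 v) :
    ∃ w : Z' ⧸ P₁, Submodule.factor h12 w = u ∧ Submodule.factor h13 w = v := by
  obtain ⟨a, rfl⟩ := Submodule.Quotient.mk_surjective _ u
  obtain ⟨b, rfl⟩ := Submodule.Quotient.mk_surjective _ v
  rw [factor_mk', factor_mk', Submodule.Quotient.eq] at huv
  obtain ⟨p₂, hp₂, p₃, hp₃, hsum⟩ := Submodule.mem_sup.1 (c2 huv)
  refine ⟨Submodule.Quotient.mk (a - p₂), ?_, ?_⟩
  · rw [factor_mk', Submodule.Quotient.eq]
    have h : a - p₂ - a = -p₂ := by abel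
    rw [h]
    exact P₂.neg_mem hp₂
  · rw [factor_mk', Submodule.Quotient.eq]
    have h : a - p₂ - b = p₃ := by
      have h' : a - p₂ - b = (a - b) - p₂ := by abel
      rw [h', ← hsum]
      abel
    rw [h]
    exact hp₃

theorem pullback_of_submodules (P₁ P₂ P₃ P₄ : Submodule A Z') (h12 : P₁ ≤ P₂) (h13 : P₁ ≤ P₃)
    (h24 : P₂ ≤ P₄) (h34 : P₃ ≤ P₄) (c1 : P₂ ⊓ P₃ ≤ P₁) (c2 : P₄ ≤ P₂ ⊔ P₃) :
    IsPullback (ModuleCat.ofHom (Submodule.factor h12)) (ModuleCat.ofHom (Submodule.factor h13))
      (ModuleCat.ofHom (Submodule.factor h24)) (ModuleCat.ofHom (Submodule.factor h34)) := by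
  have w : ModuleCat.ofHom (Submodule.factor h12) ≫ ModuleCat.ofHom (Submodule.factor h24) =
      ModuleCat.ofHom (Submodule.factor h13) ≫ ModuleCat.ofHom (Submodule.factor h34) := by
    apply ModuleCat.hom_ext
    apply Submodule.linearMap_qext
    exact LinearMap.ext fun z => rfl
  refine IsPullback.of_map (forget (ModuleCat.{u} A)) w ?_
  rw [Types.isPullback_iff]
  refine ⟨?_, ?_, ?_⟩
  · rw [← Functor.map_comp, ← Functor.map_comp, w]
  · rintro u v ⟨h1, h2⟩
    exact inj_part P₁ P₂ P₃ h12 h13 c1 u v h1 h2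
  · intro u v huv
    exact surj_part P₁ P₂ P₃ P₄ h12 h13 h24 h34 c2 u v huv

end Gen


/-- Let A be a commutative ring, f = (f_1, …, f_n) a finite sequence in A with Koszul complex K = K(f)
(mapping-cone model) and differentials ∂, q an integer, Z = Ker(∂^q) and B = Im(∂^{q-1}), so B ⊆ Z
inside K^q (this inclusion is carried as the hypothesis hBZ). Let x be a non-zero-divisor of A which
moreover acts injectively on the cohomology module Z/B (for Noetherian A this says that x lies in no
associated prime of Z/B, which is how the published statement phrases it; the published argument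
uses exactly the injectivity). Then the commuting square of quotient projections with corners Z/xB
(top left; it is isomorphic to the q-th cohomology of the Koszul complex of (x f_1, …, x f_n)), Z/xZ
= Z ⊗ A/(x) (top right), Z/B (bottom left) and Z/(B + xZ) = (Z/B) ⊗ A/(x) (bottom right) is
cartesian in the category of A-modules. All four corners are written as quotients of Z by the
preimages of the submodules xB, xZ, B, B + xZ of K^q. -/
theorem result (A : Type u) [CommRing A] (l : List A) (q : ℤ)
    (K : CochainComplex (ModuleCat.{u} A) ℤ) (hK : K = Koszul.koszul A l)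
    (hBZ : LinearMap.range (K.d (q - 1) q).hom ≤ LinearMap.ker (K.d q (q + 1)).hom)
    (x : A) (hx : x ∈ nonZeroDivisors A)
    (hxH : IsSMulRegular (↥(LinearMap.ker (K.d q (q + 1)).hom) ⧸ Submodule.comap (LinearMap.ker (K.d q (q + 1)).hom).subtype (LinearMap.range (K.d (q - 1) q).hom)) x) :
    IsPullback
      (ModuleCat.ofHom (Submodule.factor (Submodule.comap_mono (Submodule.smul_mono le_rfl hBZ) :
        Submodule.comap (LinearMap.ker (K.d q (q + 1)).hom).subtype (Ideal.span {x} • LinearMap.range (K.d (q - 1) q).hom) ≤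
          Submodule.comap (LinearMap.ker (K.d q (q + 1)).hom).subtype (Ideal.span {x} • LinearMap.ker (K.d q (q + 1)).hom))))
      (ModuleCat.ofHom (Submodule.factor (Submodule.comap_mono (Submodule.smul_le_right) :
        Submodule.comap (LinearMap.ker (K.d q (q + 1)).hom).subtype (Ideal.span {x} • LinearMap.range (K.d (q - 1) q).hom) ≤
          Submodule.comap (LinearMap.ker (K.d q (q + 1)).hom).subtype (LinearMap.range (K.d (q - 1) q).hom))))
      (ModuleCat.ofHom (Submodule.factor (Submodule.comap_mono le_sup_right :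
        Submodule.comap (LinearMap.ker (K.d q (q + 1)).hom).subtype (Ideal.span {x} • LinearMap.ker (K.d q (q + 1)).hom) ≤
          Submodule.comap (LinearMap.ker (K.d q (q + 1)).hom).subtype (LinearMap.range (K.d (q - 1) q).hom ⊔ Ideal.span {x} • LinearMap.ker (K.d q (q + 1)).hom))))
      (ModuleCat.ofHom (Submodule.factor (Submodule.comap_mono le_sup_left :
        Submodule.comap (LinearMap.ker (K.d q (q + 1)).hom).subtype (LinearMap.range (K.d (q - 1) q).hom) ≤
          Submodule.comap (LinearMap.ker (K.d q (q + 1)).hom).subtype (LinearMap.range (K.d (q - 1) q).hom ⊔ Ideal.span {x} • LinearMap.ker (K.d q (q + 1)).hom)))) := by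
  refine pullback_of_submodules _ _ _ _ _ _ _ _ ?_ ?_
  · rintro y ⟨hy2, hy3⟩
    rw [SetLike.mem_coe, Submodule.mem_comap, Submodule.ideal_span_singleton_smul,
      Submodule.mem_smul_pointwise_iff_exists] at hy2
    rw [SetLike.mem_coe, Submodule.mem_comap] at hy3
    obtain ⟨z, hz, hzy⟩ := hy2
    have hq : x • (Submodule.Quotient.mk ⟨z, hz⟩ :
        ↥(LinearMap.ker (K.d q (q + 1)).hom) ⧸ Submodule.comap
          (LinearMap.ker (K.d q (q + 1)).hom).subtype (LinearMap.range (K.d (q - 1) q).hom)) = 0 := by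
      rw [← Submodule.Quotient.mk_smul, Submodule.Quotient.mk_eq_zero, Submodule.mem_comap]
      have h : (LinearMap.ker (K.d q (q + 1)).hom).subtype (x • ⟨z, hz⟩) =
          (LinearMap.ker (K.d q (q + 1)).hom).subtype y := hzy
      rw [h]
      exact hy3
    have hz0 := hxH.right_eq_zero_of_smul hq
    rw [Submodule.Quotient.mk_eq_zero, Submodule.mem_comap] at hz0
    rw [Submodule.mem_comap]
    have h : (LinearMap.ker (K.d q (q + 1)).hom).subtype y = x • z := hzy.symm
    rw [h]
    exact Submodule.smul_mem_smul (Ideal.mem_span_singleton_self x) hz0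
  · intro y hy
    rw [Submodule.mem_comap] at hy
    obtain ⟨b, hb, c, hc, hbc⟩ := Submodule.mem_sup.1 hy
    have hcZ : c ∈ LinearMap.ker (K.d q (q + 1)).hom := Submodule.smul_le_right hc
    refine Submodule.mem_sup.2 ⟨⟨c, hcZ⟩, ?_, ⟨b, hBZ hb⟩, ?_, ?_⟩
    · rw [Submodule.mem_comap]
      exact hc
    · rw [Submodule.mem_comap]
      exact hb
    · apply Subtype.ext
      show c + b = y.1
      rw [add_comm]
      exact hbc

end Groth.Agent.S15818
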