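import Groth.Statements.S1582
import Groth.Agent.AlgClosedBC
import Groth.Agent.Lib.Helper17.GeomRed2

set_option autoImplicit false
universe u
open CategoryTheory CategoryTheory.Limits AlgebraicGeometry
open Variety

namespace Groth.Agent.S1582

/-- Let k be algebraically closed and X, Y varieties over k (integral, separated, of finite type). Then
the fibre product X ×_k Y is integral (and so again a variety over k). -/
theorem result (k : Type u) [Field k] [IsAlgClosed k] (X Y : Scheme.{u})
    (f : X ⟶ Spec (CommRingCat.of k)) (g : Y ⟶ Spec (CommRingCat.of k))
    [IsIntegral X] [IsIntegral Y] [IsSeparated f] [IsSeparated g]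
    [LocallyOfFiniteType f] [LocallyOfFiniteType g] [QuasiCompact f] [QuasiCompact g] :
    IsIntegral (pullback f g) := by
  haveI : GeometricallyIrreducible f := Groth.Agent.AlgClosedBC.geomIrr_of_algClosed k f
  haveI : IrreducibleSpace ↥(pullback f g) := inferInstance
  haveI : IsReduced (pullback f g) := by
    haveI : ∀ z : ↥(pullback f g), _root_.IsReduced ((pullback f g).presheaf.stalk z) := by
      intro z
      exact Groth.Agent.Helper17.GeomRed2.isReduced_stalk_prod f g z
        (Groth.Agent.Helper17.GeomRed.main_red f _ inferInstance)
    exact isReduced_of_isReduced_stalk _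
  exact isIntegral_of_irreducibleSpace_of_isReduced _

end Groth.Agent.S1582
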