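import Groth.Statements.S18944
import Groth.Agent.H29.KerStalk

set_option autoImplicit false
universe u
open CategoryTheory AlgebraicGeometry
open RegImm

namespace Groth.Agent.S18944

/-- Let i : Z → X be a regular immersion of schemes (kind: successive non-zero-divisors). Then for every
point z of Z the kernel of the induced map of local rings O_{X, i(z)} → O_{Z, z} is generated by a
regular sequence of O_{X, i(z)}. (No Noetherian hypothesis; over a locally Noetherian X the converse
also holds.) -/
theorem result {Z X : Scheme.{u}} (i : Z ⟶ X)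
    (h : RegImm.IsRegularImmersion RegImm.Kind.regular i) (z : Z) :
    ∃ rs : List (X.presheaf.stalk (i z)),
      RingTheory.Sequence.IsRegular (X.presheaf.stalk (i z)) rs ∧
        RingHom.ker (i.stalkMap z).hom = Ideal.ofList rs := by
  obtain ⟨_, hall⟩ := h
  obtain ⟨⟨U, hU⟩, hzU, hci, rs, hrs, hker⟩ := hall z
  have hrs' : RingTheory.Sequence.IsRegular Γ(X, U) rs := hrs
  haveI : IsClosedImmersion (i ∣_ U) := hci
  exact ⟨_, Groth.Agent.H29.KerStalk.isRegular_map_germ i z hU hzU rs hrs'.toIsWeaklyRegular hker⟩


end Groth.Agent.S18944
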