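import Groth.Statements.S15824
import Mathlib
import Groth.Agent.S18944
import Groth.Agent.H29.CMLib

set_option autoImplicit false
universe u
open CategoryTheory AlgebraicGeometry
open RegImm

namespace Groth.Agent.S15824

/-- Let X be a locally Noetherian scheme all of whose local rings are Cohen–Macaulay, and i : Z → X a
closed immersion which is regular (around every point, on some affine open of X the ideal of Z is
generated by a regular sequence). Then Z has no embedded points (each associated point of Z is
generic in an irreducible component): for every point z of Z, if the maximal ideal of O_{Z,z} is an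
associated prime of O_{Z,z} (as a module over itself), then O_{Z,z} has Krull dimension 0. (The
published statement takes X Noetherian and Z a local complete intersection subscheme; the assertion
is local on X and uses only that the ideal of Z is locally generated by a regular sequence.) -/
theorem result {X Z : Scheme.{u}}
    [IsLocallyNoetherian X] (hCM : ∀ x : X, LocCoh.IsCohenMacaulayLocalRing (X.presheaf.stalk x))
    (i : Z ⟶ X) [IsClosedImmersion i] (hi : RegImm.IsRegularImmersion RegImm.Kind.regular i) (z : Z)
    (hz : IsAssociatedPrime (IsLocalRing.maximalIdeal (Z.presheaf.stalk z)) (Z.presheaf.stalk z)) :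
    ringKrullDim (Z.presheaf.stalk z) = 0 := by
  classical
  obtain ⟨rs, hrs, hker⟩ := Groth.Agent.S18944.result i hi z
  haveI hCMR := hCM (i z)
  have hsurj : Function.Surjective (i.stalkMap z).hom := i.stalkMap_surjective z
  letI : Algebra (X.presheaf.stalk (i z)) (Z.presheaf.stalk z) := (i.stalkMap z).hom.toAlgebra
  have halg : ∀ r : X.presheaf.stalk (i z),
      algebraMap (X.presheaf.stalk (i z)) (Z.presheaf.stalk z) r = (i.stalkMap z).hom r :=
    fun r => rfl
  haveI : IsNoetherianRing (Z.presheaf.stalk z) :=
    isNoetherianRing_of_surjective _ _ (i.stalkMap z).hom hsurj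
  haveI : Module.Finite (X.presheaf.stalk (i z)) (Z.presheaf.stalk z) :=
    Module.Finite.of_surjective (Algebra.linearMap _ _) hsurj
  have hsurj' : Function.Surjective
      (Algebra.ofId (X.presheaf.stalk (i z)) (Z.presheaf.stalk z)) := hsurj
  have hkereq : Ideal.ofList rs •
      (⊤ : Submodule (X.presheaf.stalk (i z)) (X.presheaf.stalk (i z))) =
      RingHom.ker (Algebra.ofId (X.presheaf.stalk (i z)) (Z.presheaf.stalk z)) := by
    rw [smul_eq_mul, Ideal.mul_top]; exact hker.symm
  have e : (X.presheaf.stalk (i z) ⧸ Ideal.ofList rs •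
      (⊤ : Submodule (X.presheaf.stalk (i z)) (X.presheaf.stalk (i z))))
        ≃ₗ[X.presheaf.stalk (i z)] Z.presheaf.stalk z :=
    (Submodule.quotEquivOfEq _ _ hkereq).trans
      (Ideal.quotientKerAlgEquivOfSurjective hsurj').toLinearEquiv
  have hmem : ∀ r ∈ rs, r ∈ IsLocalRing.maximalIdeal (X.presheaf.stalk (i z)) := by
    intro r hr
    have hne : Ideal.ofList rs ≠ ⊤ := by
      intro htop
      apply hrs.top_ne_smul
      rw [htop, smul_eq_mul, Ideal.mul_top]
    exact IsLocalRing.le_maximalIdeal hne (Ideal.subset_span hr)
  have hCMR' : LocCoh.IsCohenMacaulayModule (X.presheaf.stalk (i z)) (X.presheaf.stalk (i z)) :=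
    hCMR.supportDim_eq_depth
  have hCMS : LocCoh.IsCohenMacaulayModule (X.presheaf.stalk (i z)) (Z.presheaf.stalk z) :=
    Groth.Agent.H29.isCohenMacaulayModule_congr _ e
      (Groth.Agent.H29.isCohenMacaulayModule_quotient_of_isWeaklyRegular _ rs
        (X.presheaf.stalk (i z)) hCMR' hmem hrs.toIsWeaklyRegular)
  -- the maximal ideal of R is associated to S
  have hass : IsLocalRing.maximalIdeal (X.presheaf.stalk (i z)) ∈
      associatedPrimes (X.presheaf.stalk (i z)) (Z.presheaf.stalk z) := by
    obtain ⟨-, s, hs⟩ := isAssociatedPrime_iff.mp hz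
    refine isAssociatedPrime_iff.mpr ⟨inferInstance, s, ?_⟩
    ext r
    rw [Submodule.mem_colon_singleton, Submodule.mem_bot, Algebra.smul_def, halg,
      IsLocalRing.mem_maximalIdeal, ← map_mem_nonunits_iff (i.stalkMap z).hom r,
      ← IsLocalRing.mem_maximalIdeal, hs, Submodule.mem_colon_singleton, Submodule.mem_bot,
      smul_eq_mul]
  have h1 := Groth.Agent.H29.ringKrullDim_quotient_eq_supportDim_of_isCohenMacaulayModule
    (X.presheaf.stalk (i z)) (Z.presheaf.stalk z) hCMS _ hass
  rw [Groth.Agent.H29.ringKrullDim_quotient_maximalIdeal] at h1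
  rw [h1, Module.supportDim_eq_of_equiv
    (Ideal.quotientKerAlgEquivOfSurjective hsurj').toLinearEquiv.symm,
    Module.supportDim_quotient_eq_ringKrullDim]
  exact (ringKrullDim_eq_of_ringEquiv
    (Ideal.quotientKerAlgEquivOfSurjective hsurj').toRingEquiv).symm

end Groth.Agent.S15824
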