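import Groth.Statements.S15832
import Mathlib.Topology.Bases
import Mathlib.Tactic

set_option autoImplicit false
universe u
open TopGrp

namespace Groth.Agent.S15832

/-- For a group T with a topology, let B be the family of two-sided translates x Γ y, where Γ runs over
the subgroups of T open in the given topology and x, y over T; the topology generated by B makes T a
topological group in which every neighbourhood of the identity contains a subgroup open for that
topology. (The published statement is for the free topological product of two Noohi groups whose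
open subgroups form a basis of neighbourhoods of the identity; the argument uses only the group
structure and the chosen family of subgroups, so the row is stated for an arbitrary group with a
topology. The published conventions include Hausdorffness in the word topological group; this row
does not assert it, and the published argument does not prove it.) -/
theorem result (T : Type u) [Group T]
    [TopologicalSpace T] :
    @NonarchimedeanGroup T _ (TopologicalSpace.generateFrom
      {S : Set T | ∃ (Γ : OpenSubgroup T) (x y : T), S = (fun g : T => x * g * y) '' (Γ : Set T)}) := by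
  classical
  let B : Set (Set T) := {S : Set T | ∃ (Γ : OpenSubgroup T) (x y : T),
    S = (fun g : T => x * g * y) '' (Γ : Set T)}
  have hmem : ∀ (Γ : OpenSubgroup T) (x y a : T),
      a ∈ (fun g : T => x * g * y) '' (Γ : Set T) ↔ x⁻¹ * a * y⁻¹ ∈ Γ := by
    intro Γ x y a
    constructor
    · rintro ⟨g, hg, rfl⟩
      have h0 : x⁻¹ * (x * g * y) * y⁻¹ = g := by group
      rw [h0]; exact hg
    · intro h
      exact ⟨x⁻¹ * a * y⁻¹, h, by group⟩
  have F1 : ∀ S ∈ B, (fun a : T => a⁻¹) ⁻¹' S ∈ B := by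
    rintro S ⟨Γ, x, y, rfl⟩
    refine ⟨Γ, y⁻¹, x⁻¹, ?_⟩
    ext a
    rw [Set.mem_preimage, hmem, hmem]
    have h0 : y⁻¹⁻¹ * a * x⁻¹⁻¹ = (x⁻¹ * a⁻¹ * y⁻¹)⁻¹ := by group
    rw [h0]
    exact inv_mem_iff.symm
  have F2 : ∀ S ∈ B, ∀ a b : T, a * b ∈ S → ∃ U ∈ B, ∃ V ∈ B, a ∈ U ∧ b ∈ V ∧
      ∀ u ∈ U, ∀ v ∈ V, u * v ∈ S := by
    rintro S ⟨Γ, x, y, rfl⟩ a b hab
    rw [hmem] at hab
    refine ⟨_, ⟨Γ, a * b * y⁻¹, y * b⁻¹, rfl⟩, _, ⟨Γ, b * y⁻¹, y, rfl⟩, ?_, ?_, ?_⟩
    · rw [hmem]
      have h0 : (a * b * y⁻¹)⁻¹ * a * (y * b⁻¹)⁻¹ = 1 := by group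
      rw [h0]; exact one_mem Γ
    · rw [hmem]
      have h0 : (b * y⁻¹)⁻¹ * b * y⁻¹ = 1 := by group
      rw [h0]; exact one_mem Γ
    · intro u hu v hv
      rw [hmem] at hu hv ⊢
      have h0 : x⁻¹ * (u * v) * y⁻¹ = (x⁻¹ * (a * b) * y⁻¹) *
          ((a * b * y⁻¹)⁻¹ * u * (y * b⁻¹)⁻¹) * ((b * y⁻¹)⁻¹ * v * y⁻¹) := by group
      rw [h0]
      exact mul_mem (mul_mem hab hu) hv
  have F3 : ∀ S ∈ B, (1 : T) ∈ S → (∀ a ∈ S, ∀ b ∈ S, a * b ∈ S) ∧ (∀ a ∈ S, a⁻¹ ∈ S) := by
    rintro S ⟨Γ, x, y, rfl⟩ h1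
    rw [hmem] at h1
    constructor
    · intro a ha b hb
      rw [hmem] at ha hb ⊢
      have h0 : x⁻¹ * (a * b) * y⁻¹ =
          (x⁻¹ * a * y⁻¹) * (x⁻¹ * 1 * y⁻¹)⁻¹ * (x⁻¹ * b * y⁻¹) := by group
      rw [h0]
      exact mul_mem (mul_mem ha (inv_mem h1)) hb
    · intro a ha
      rw [hmem] at ha ⊢
      have h0 : x⁻¹ * a⁻¹ * y⁻¹ =
          (x⁻¹ * 1 * y⁻¹) * (x⁻¹ * a * y⁻¹)⁻¹ * (x⁻¹ * 1 * y⁻¹) := by group
      rw [h0]
      exact mul_mem (mul_mem h1 (inv_mem ha)) h1
  show @NonarchimedeanGroup T _ (TopologicalSpace.generateFrom B)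
  clear hmem
  letI τ : TopologicalSpace T := TopologicalSpace.generateFrom B
  have hopen : ∀ S ∈ B, IsOpen S := fun S hS => TopologicalSpace.isOpen_generateFrom_of_mem hS
  exact
    { continuous_mul := by
        refine continuous_generateFrom_iff.mpr fun S hS => ?_
        refine isOpen_prod_iff.mpr fun a b hab => ?_
        obtain ⟨U, hU, V, hV, ha, hb, h⟩ := F2 S hS a b hab
        exact ⟨U, V, hopen U hU, hopen V hV, ha, hb, fun p hp => h p.1 hp.1 p.2 hp.2⟩
      continuous_inv := continuous_generateFrom_iff.mpr fun S hS => hopen _ (F1 S hS)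
      is_nonarchimedean := by
        intro U hU
        obtain ⟨_, ⟨F, ⟨hFfin, hFB⟩, rfl⟩, h1, hFU⟩ :=
          (TopologicalSpace.isTopologicalBasis_of_subbasis (rfl : τ = _)).mem_nhds_iff.mp hU
        refine ⟨⟨{ carrier := ⋂₀ F
                   mul_mem' := fun {a b} ha hb S hS =>
                    (F3 S (hFB hS) (h1 S hS)).1 a (ha S hS) b (hb S hS)
                   one_mem' := h1
                   inv_mem' := fun {a} ha S hS => (F3 S (hFB hS) (h1 S hS)).2 a (ha S hS) },
          hFfin.isOpen_sInter fun S hS => hopen S (hFB hS)⟩, hFU⟩ }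

end Groth.Agent.S15832
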