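import Groth.Statements.S15833
import Mathlib.AlgebraicGeometry.Morphisms.SurjectiveOnStalks
import Mathlib.AlgebraicGeometry.Properties
import Mathlib.Tactic

set_option autoImplicit false
universe u
open EtBase

namespace Groth.Agent.S15833

open CategoryTheory CategoryTheory.Limits AlgebraicGeometry in
/-- Let i : X₀ ⟶ X be a surjective closed immersion of schemes and f : Y ⟶ X a morphism. Then f
satisfies the valuative criterion (existence and uniqueness of a lift in every valuative square,
over arbitrary valuation rings) if and only if its base change Y ×_X X₀ ⟶ X₀ does. (The published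
statement takes X locally Noetherian and connected, X₀ the reduced closed subscheme with the same
underlying space and f étale, and combines this step with the equivalence between étale schemes over
X and over X₀ to identify the geometric coverings, i.e. the étale morphisms satisfying the valuative
criterion, of X and of X₀; the argument for this step uses only that X₀ ⟶ X is a surjective closed
immersion and that valuation rings are reduced.) -/
theorem result {X X₀ Y : Scheme.{u}} (i : X₀ ⟶ X)
    [IsClosedImmersion i] [Surjective i] (f : Y ⟶ X) :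
    ValuativeCriterion f ↔ ValuativeCriterion (pullback.snd f i) := by
  constructor
  · intro h S₀
    let S' : ValuativeCommSq f :=
      { R := S₀.R, K := S₀.K, i₁ := S₀.i₁ ≫ pullback.fst f i, i₂ := S₀.i₂ ≫ i,
        commSq := ⟨by
          rw [Category.assoc, pullback.condition, ← Category.assoc, S₀.commSq.w,
            Category.assoc]⟩ }
    obtain ⟨u⟩ := h S'
    have hd1 : Spec.map (CommRingCat.ofHom (algebraMap S₀.R S₀.K)) ≫ u.default.l =
        S₀.i₁ ≫ pullback.fst f i := u.default.fac_left
    have hd2 : u.default.l ≫ f = S₀.i₂ ≫ i := u.default.fac_right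
    refine ⟨{ default := ⟨pullback.lift u.default.l S₀.i₂ hd2, ?_, ?_⟩, uniq := ?_ }⟩
    · apply pullback.hom_ext
      · rw [Category.assoc, pullback.lift_fst, hd1]
      · rw [Category.assoc, pullback.lift_snd, S₀.commSq.w]
    · exact pullback.lift_snd _ _ _
    · intro l
      apply CommSq.LiftStruct.ext
      apply pullback.hom_ext
      · have hl1 : Spec.map (CommRingCat.ofHom (algebraMap S₀.R S₀.K)) ≫ l.l ≫ pullback.fst f i =
            S₀.i₁ ≫ pullback.fst f i := by rw [← Category.assoc, l.fac_left]
        have hl2 : (l.l ≫ pullback.fst f i) ≫ f = S₀.i₂ ≫ i := by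
          rw [Category.assoc, pullback.condition, ← Category.assoc, l.fac_right]
        have h1 := u.uniq (⟨l.l ≫ pullback.fst f i, hl1, hl2⟩ : S'.commSq.LiftStruct)
        have h2 := congrArg CommSq.LiftStruct.l h1
        rw [pullback.lift_fst]
        exact h2
      · rw [l.fac_right, pullback.lift_snd]
  · intro h S
    haveI : IsIso (pullback.fst S.i₂ i) := isIso_of_isClosedImmersion_of_surjective _
    let j₂ : Spec (CommRingCat.of S.R) ⟶ X₀ := inv (pullback.fst S.i₂ i) ≫ pullback.snd S.i₂ i
    have hj₂ : j₂ ≫ i = S.i₂ := by
      rw [Category.assoc, ← pullback.condition, IsIso.inv_hom_id_assoc]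
    have hcond : S.i₁ ≫ f = (Spec.map (CommRingCat.ofHom (algebraMap S.R S.K)) ≫ j₂) ≫ i := by
      rw [Category.assoc, hj₂, S.commSq.w]
    let S₀ : ValuativeCommSq (pullback.snd f i) :=
      { R := S.R, K := S.K,
        i₁ := pullback.lift S.i₁ (Spec.map (CommRingCat.ofHom (algebraMap S.R S.K)) ≫ j₂) hcond,
        i₂ := j₂,
        commSq := ⟨pullback.lift_snd _ _ _⟩ }
    obtain ⟨u⟩ := h S₀
    have hd1 : Spec.map (CommRingCat.ofHom (algebraMap S.R S.K)) ≫ u.default.l =
        pullback.lift S.i₁ (Spec.map (CommRingCat.ofHom (algebraMap S.R S.K)) ≫ j₂) hcond :=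
      u.default.fac_left
    have hd2 : u.default.l ≫ pullback.snd f i = j₂ := u.default.fac_right
    refine ⟨{ default := ⟨u.default.l ≫ pullback.fst f i, ?_, ?_⟩, uniq := ?_ }⟩
    · rw [← Category.assoc, hd1, pullback.lift_fst]
    · rw [Category.assoc, pullback.condition, ← Category.assoc, hd2, hj₂]
    · intro l
      apply CommSq.LiftStruct.ext
      have hl : l.l ≫ f = j₂ ≫ i := by rw [l.fac_right, hj₂]
      have hfl : Spec.map (CommRingCat.ofHom (algebraMap S.R S.K)) ≫ pullback.lift l.l j₂ hl =
          pullback.lift S.i₁ (Spec.map (CommRingCat.ofHom (algebraMap S.R S.K)) ≫ j₂) hcond := by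
        apply pullback.hom_ext
        · rw [Category.assoc, pullback.lift_fst, pullback.lift_fst]; exact l.fac_left
        · rw [Category.assoc, pullback.lift_snd, pullback.lift_snd]
      have h1 := u.uniq (⟨pullback.lift l.l j₂ hl, hfl, pullback.lift_snd _ _ _⟩ :
        S₀.commSq.LiftStruct)
      have h2 := congrArg CommSq.LiftStruct.l h1
      show l.l = u.default.l ≫ pullback.fst f i
      rw [← h2]
      exact (pullback.lift_fst _ _ _).symm

end Groth.Agent.S15833
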