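import Groth.Statements.S15835
import Mathlib

set_option autoImplicit false
universe u
open SprIso

namespace Groth.Agent.S15835

open Polynomial in
/-- Over a commutative ring R of prime characteristic p, let n ≥ 1 and let p^m be the largest power of p
dividing n. The locus of n × n matrices with characteristic polynomial t^n is stable under adding a
scalar matrix a·1 with n·a = 0 exactly when a^(p^m) = 0: for X with characteristic polynomial t^n
and such an a, the matrix X + a·1 has characteristic polynomial t^n if and only if a^(p^m) = 0.
(Stated on points with values in an arbitrary ring of characteristic p; the scheme-theoretic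
assertion about the nilpotent scheme of SL_n is this statement for all such rings.) -/
theorem result (p : ℕ) [Fact p.Prime] (R : Type u) [CommRing R]
    [CharP R p] (n : ℕ) (hn : 0 < n) (X : Matrix (Fin n) (Fin n) R) (hX : X.charpoly = Polynomial.X ^ n)
    (a : R) (ha : (n : R) * a = 0) :
    (X + Matrix.scalar (Fin n) a).charpoly = Polynomial.X ^ n ↔ a ^ (p ^ padicValNat p n) = 0 := by
  have hp : p.Prime := Fact.out
  have h1 : (X + Matrix.scalar (Fin n) a).charpoly = (Polynomial.X - Polynomial.C a) ^ n := by
    have : X + Matrix.scalar (Fin n) a = X - Matrix.scalar (Fin n) (-a) := by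
      rw [map_neg, sub_neg_eq_add]
    rw [this, Matrix.charpoly_sub_scalar, hX, Polynomial.X_pow_comp, map_neg, sub_eq_add_neg]
  rw [h1]
  set m := padicValNat p n with hm
  set q := p ^ m with hq
  have hqpos : 0 < q := pow_pos hp.pos m
  obtain ⟨n', hn'⟩ : ∃ n', n = q * n' := by
    have : q ∣ n := pow_padicValNat_dvd
    exact this
  have hn'pos : 0 < n' := by
    rcases Nat.eq_zero_or_pos n' with h | h
    · rw [h, mul_zero] at hn'; omega
    · exact h
  have hpn' : ¬ p ∣ n' := by
    intro hd
    have : p ^ (m + 1) ∣ n := by
      rw [pow_succ, hn']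
      exact mul_dvd_mul_left _ hd
    exact (pow_succ_padicValNat_not_dvd (Nat.pos_iff_ne_zero.mp hn)) this
  have hunit : IsUnit (n' : R) := (CharP.isUnit_natCast_iff hp).mpr hpn'
  have h2 : (Polynomial.X - Polynomial.C a : R[X]) ^ n =
      Polynomial.expand R q ((Polynomial.X - Polynomial.C (a ^ q)) ^ n') := by
    rw [hn', pow_mul, hq, sub_pow_char_pow, map_pow, map_sub, Polynomial.expand_X,
      Polynomial.expand_C, ← Polynomial.C_pow]
  have h3 : (Polynomial.X : R[X]) ^ n = Polynomial.expand R q (Polynomial.X ^ n') := by
    rw [map_pow, Polynomial.expand_X, ← pow_mul, hn']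
  rw [h2, h3]
  constructor
  · intro h
    have h4 := Polynomial.expand_injective hqpos h
    have h5 := congrArg (fun f => Polynomial.coeff f (n' - 1)) h4
    simp only [sub_eq_add_neg, ← map_neg, Polynomial.coeff_X_add_C_pow, Polynomial.coeff_X_pow] at h5
    have h6 : n' - (n' - 1) = 1 := by omega
    have h7 : ¬ (n' - 1 = n') := by omega
    rw [h6, if_neg h7, pow_one, Nat.choose_symm hn'pos, Nat.choose_one_right] at h5
    have := hunit.mul_left_eq_zero.mp h5
    exact neg_eq_zero.mp this
  · intro h
    rw [h, map_zero, sub_zero]

end Groth.Agent.S15835
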