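import Groth.Statements.S15838
import Mathlib

set_option autoImplicit false
universe u
open scoped TensorProduct
open SprIso

namespace Groth.Agent.S15838

variable {k : Type u} [Field k] [PerfectField k]
  {V : Type u} [AddCommGroup V] [Module k V] [FiniteDimensional k V]
  {R : Type u} [CommRing R] [Algebra k R]

/-- anything commuting with `X_R` commutes with `a_R` for `a ∈ k[X]`. -/
lemma commute_of_mem_adjoin (h : Module.End R (R ⊗[k] V)) (X a : Module.End k V)
    (ha : a ∈ Algebra.adjoin k {X}) (hX : Commute h (X.baseChange R)) :
    Commute h (a.baseChange R) := by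
  induction ha using Algebra.adjoin_induction with
  | mem x hx =>
    rw [Set.mem_singleton_iff] at hx
    subst hx
    exact hX
  | algebraMap r =>
    have : (algebraMap k (Module.End k V) r).baseChange R = r • (1 : Module.End R (R ⊗[k] V)) := by
      rw [Algebra.algebraMap_eq_smul_one, LinearMap.baseChange_smul, LinearMap.baseChange_one]
    rw [this]
    exact (Commute.one_right h).smul_right r
  | add x y _ _ hx hy =>
    rw [LinearMap.baseChange_add]
    exact hx.add_right hy
  | mul x y _ _ hx hy =>
    rw [LinearMap.baseChange_mul]
    exact hx.mul_right hy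

lemma add_case (h : Module.End R (R ⊗[k] V)) (X Y N : Module.End k V)
    (hY : Y.IsSemisimple) (hN : IsNilpotent N) (hYN : Commute Y N) (hX : X = Y + N) :
    (Commute h (X.baseChange R) ↔ Commute h (Y.baseChange R) ∧ Commute h (N.baseChange R)) := by
  constructor
  · intro hc
    obtain ⟨n₀, hn₀, s₀, hs₀, hn₀nil, hs₀ss, h₀⟩ := X.exists_isNilpotent_isSemisimple
    have hcomm : Commute n₀ s₀ := by
      have h1 : Commute n₀ X := (Algebra.commute_of_mem_adjoin_singleton_of_commute hn₀
        (Commute.refl X)).symm
      exact Algebra.commute_of_mem_adjoin_singleton_of_commute hs₀ h1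
    have huniq := Module.End.isNilpotent_isSemisimple_unique hn₀nil hs₀ss hN hY hcomm hYN.symm
      (by rw [← h₀, hX, add_comm])
    obtain ⟨rfl, rfl⟩ := huniq
    exact ⟨commute_of_mem_adjoin h X _ hs₀ hc, commute_of_mem_adjoin h X _ hn₀ hc⟩
  · rintro ⟨h1, h2⟩
    rw [hX, LinearMap.baseChange_add]
    exact h1.add_right h2


/-- General linear group case: this is the case G = GL(V), to which the general case reduces along a
closed embedding. Let k be a perfect field and V a finite-dimensional k-vector space. If an
invertible endomorphism g of V has multiplicative Jordan decomposition g = t u (t semisimple, u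
unipotent, t and u commuting), then the scheme-theoretic centralizer of g in GL(V) is the
centralizer of u inside the centralizer of t: for every commutative k-algebra R, an R-linear
endomorphism h of R ⊗ V commutes with g_R if and only if it commutes with both t_R and u_R.
Likewise, if an endomorphism X of V has additive Jordan decomposition X = Y + N (Y semisimple, N
nilpotent, commuting), then h commutes with X_R if and only if it commutes with both Y_R and N_R. -/
theorem result (k : Type u) [Field k] [PerfectField k]
    (V : Type u) [AddCommGroup V] [Module k V] [FiniteDimensional k V]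
    (R : Type u) [CommRing R] [Algebra k R] (h : Module.End R (R ⊗[k] V)) :
    (∀ (g t u : Module.End k V), IsUnit g → t.IsSemisimple → IsNilpotent (u - 1) → Commute t u → g = t * u →
      (Commute h (g.baseChange R) ↔ Commute h (t.baseChange R) ∧ Commute h (u.baseChange R))) ∧
    (∀ (X Y N : Module.End k V), Y.IsSemisimple → IsNilpotent N → Commute Y N → X = Y + N →
      (Commute h (X.baseChange R) ↔ Commute h (Y.baseChange R) ∧ Commute h (N.baseChange R))) := by
  refine ⟨?_, fun X Y N hY hN hYN hX => add_case h X Y N hY hN hYN hX⟩
  intro g t u hg ht hu htu hgtu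
  have htu1 : Commute t (u - 1) := htu.sub_right (Commute.one_right t)
  have hnil : IsNilpotent (t * (u - 1)) := htu1.isNilpotent_mul_left hu
  have hcomm : Commute t (t * (u - 1)) := (Commute.refl t).mul_right htu1
  have hsum : g = t + t * (u - 1) := by rw [hgtu, mul_sub, mul_one, add_sub_cancel]
  rw [add_case h g t (t * (u - 1)) ht hnil hcomm hsum]
  have htunit : IsUnit t := by
    rw [hgtu] at hg
    exact (htu.isUnit_mul_iff.mp hg).1
  have htRunit : IsUnit (t.baseChange R) := by
    obtain ⟨t', ht'⟩ := htunit
    have h1 : t.baseChange R * ((t'⁻¹ : (Module.End k V)ˣ) : Module.End k V).baseChange R = 1 := by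
      rw [← LinearMap.baseChange_mul, ← ht', Units.mul_inv, LinearMap.baseChange_one]
    have h2 : ((t'⁻¹ : (Module.End k V)ˣ) : Module.End k V).baseChange R * t.baseChange R = 1 := by
      rw [← LinearMap.baseChange_mul, ← ht', Units.inv_mul, LinearMap.baseChange_one]
    exact ⟨⟨_, _, h1, h2⟩, rfl⟩
  generalize hn : u - 1 = n at *
  have hun : u = 1 + n := by rw [← hn]; abel
  have hbc : ((t * n).baseChange R : Module.End R (R ⊗[k] V)) =
      (t.baseChange R : Module.End R (R ⊗[k] V)) * (n.baseChange R : Module.End R (R ⊗[k] V)) := by
    rw [LinearMap.baseChange_mul]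
  have hu' : (u.baseChange R : Module.End R (R ⊗[k] V)) = 1 + n.baseChange R := by
    rw [hun, LinearMap.baseChange_add, LinearMap.baseChange_one]
  rw [hbc, hu']
  constructor
  · rintro ⟨h1, h2⟩
    refine ⟨h1, ?_⟩
    obtain ⟨tR, htR⟩ := htRunit
    have h3 : Commute h ((tR⁻¹ : (Module.End R (R ⊗[k] V))ˣ) : Module.End R (R ⊗[k] V)) := by
      rw [← htR] at h1
      exact h1.units_inv_right
    have h4 := h3.mul_right h2
    rw [← htR, ← mul_assoc, Units.inv_mul, one_mul] at h4
    exact (Commute.one_right h).add_right h4
  · rintro ⟨h1, h2⟩
    refine ⟨h1, h1.mul_right ?_⟩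
    have := h2.eq
    rw [mul_add, add_mul, mul_one, one_mul] at this
    refine (show h * _ = _ * h from LinearMap.ext fun x => ?_)
    have hx := LinearMap.congr_fun this x
    rw [LinearMap.add_apply, LinearMap.add_apply] at hx
    exact add_left_cancel hx

end Groth.Agent.S15838
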