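import Groth.Statements.S15841
import Mathlib.LinearAlgebra.RootSystem.Base
import Mathlib.RingTheory.TensorProduct.Basic
import Mathlib.Tactic

set_option autoImplicit false
universe u
open scoped TensorProduct
open SprIso

namespace Groth.Agent.S15841

variable {ι M N : Type u} [AddCommGroup M] [AddCommGroup N]
  (P : RootPairing ι ℤ M N) (k : Type u) [Field k]

/-- coreflection base-changed -/
lemma core_bc (i : ι) (x : k ⊗[ℤ] N) :
    ((P.coreflection i : N ≃ₗ[ℤ] N) : N →ₗ[ℤ] N).baseChange k x =
      x - ((LinearMap.toSpanSingleton ℤ N (P.coroot i)).baseChange k)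
        (LinearMap.baseChange k (P.root' i) x) := by
  induction x using TensorProduct.induction_on with
  | zero => simp
  | tmul c n =>
    simp only [LinearMap.baseChange_tmul, LinearEquiv.coe_coe, P.coreflection_apply,
      LinearMap.toSpanSingleton_apply, TensorProduct.tmul_sub]
  | add x y hx hy =>
    simp only [map_add, hx, hy]; abel

lemma phi_core_of_zero (ω : M) (j : ι) (h : P.toLinearMap ω (P.coroot j) = 0) (x : k ⊗[ℤ] N) :
    LinearMap.baseChange k (P.toLinearMap ω)
        (((P.coreflection j : N ≃ₗ[ℤ] N) : N →ₗ[ℤ] N).baseChange k x) =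
      LinearMap.baseChange k (P.toLinearMap ω) x := by
  induction x using TensorProduct.induction_on with
  | zero => simp
  | tmul c n =>
    simp only [LinearMap.baseChange_tmul, LinearEquiv.coe_coe, P.coreflection_apply, map_sub,
      map_smul, h, smul_zero, sub_zero]
  | add x y hx hy =>
    simp only [map_add, hx, hy]

lemma phi_core_of_one (ω : M) (i : ι) (h : P.toLinearMap ω (P.coroot i) = 1) (x : k ⊗[ℤ] N) :
    LinearMap.baseChange k (P.toLinearMap ω)
        (((P.coreflection i : N ≃ₗ[ℤ] N) : N →ₗ[ℤ] N).baseChange k x) =
      LinearMap.baseChange k (P.toLinearMap ω) x - LinearMap.baseChange k (P.root' i) x := by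
  induction x using TensorProduct.induction_on with
  | zero => simp
  | tmul c n =>
    simp only [LinearMap.baseChange_tmul, LinearEquiv.coe_coe, P.coreflection_apply, map_sub,
      map_smul, h, smul_eq_mul, mul_one, TensorProduct.tmul_sub]
  | add x y hx hy =>
    simp only [map_add, hx, hy]; abel

lemma phi_prod (ω : M) (l : List ι) (h : ∀ j ∈ l, P.toLinearMap ω (P.coroot j) = 0) (x : k ⊗[ℤ] N) :
    LinearMap.baseChange k (P.toLinearMap ω)
      (((l.map (fun i => ((P.coreflection i : N ≃ₗ[ℤ] N) : N →ₗ[ℤ] N))).prod).baseChange k x) =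
      LinearMap.baseChange k (P.toLinearMap ω) x := by
  induction l generalizing x with
  | nil => simp [Module.End.one_eq_id]
  | cons j l ih =>
    rw [List.map_cons, List.prod_cons, Module.End.mul_eq_comp, LinearMap.baseChange_comp,
      LinearMap.comp_apply, phi_core_of_zero P k ω j (h j (List.mem_cons_self ..)),
      ih (fun j' hj' => h j' (List.mem_cons_of_mem _ hj'))]

lemma main (b : P.Base)
    (hsc : ∀ i ∈ b.support, ∃ ω : M, P.coroot' i ω = 1 ∧ ∀ j ∈ b.support, j ≠ i → P.coroot' j ω = 0)
    (l : List ι) (hl : l.Nodup) (hlb : ∀ i : ι, i ∈ l → i ∈ b.support) (H : k ⊗[ℤ] N)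
    (hH : ((l.map (fun i => ((P.coreflection i : N ≃ₗ[ℤ] N) : N →ₗ[ℤ] N))).prod).baseChange k H = H) :
    ∀ i ∈ l, LinearMap.baseChange k (P.root' i) H = 0 := by
  induction l with
  | nil => intro i hi; simp at hi
  | cons i l ih =>
    rw [List.map_cons, List.prod_cons, Module.End.mul_eq_comp, LinearMap.baseChange_comp,
      LinearMap.comp_apply] at hH
    obtain ⟨hil, hl'⟩ := List.nodup_cons.mp hl
    obtain ⟨ω, hω1, hω0⟩ := hsc i (hlb i (List.mem_cons_self ..))
    have hω0' : ∀ j ∈ l, P.toLinearMap ω (P.coroot j) = 0 := by
      intro j hj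
      exact hω0 j (hlb j (List.mem_cons_of_mem _ hj)) (fun h => hil (h ▸ hj))
    set PH := ((l.map (fun i => ((P.coreflection i : N ≃ₗ[ℤ] N) : N →ₗ[ℤ] N))).prod).baseChange k H
      with hPH
    have h1 := phi_core_of_one P k ω i hω1 PH
    rw [hH, hPH, phi_prod P k ω l hω0' H, ← hPH] at h1
    have h2 : LinearMap.baseChange k (P.root' i) PH = 0 := by
      have := sub_eq_self.mp h1.symm
      exact this
    have h3 : PH = H := by
      rw [core_bc, h2, map_zero, sub_zero] at hH
      exact hH
    intro j hj
    rcases List.mem_cons.mp hj with rfl | hj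
    · rw [← h3]; exact h2
    · exact ih hl' (fun j hj => hlb j (List.mem_cons_of_mem _ hj)) h3 j hj


/-- For a connected reductive group G with maximal torus T whose derived group is simply connected, and
a Coxeter element w (the product of the simple reflections, each once, in any order), an element of
Lie T = k ⊗ X_*(T) fixed by Ad(w) is killed by the differential of every simple root, i.e. lies in
the centre of Lie G. In root-datum form: let P be a root pairing over ℤ with character lattice M and
cocharacter lattice N, b a base, and suppose each simple coroot has a dual character ω_i in M with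
⟨ω_i, α_i^∨⟩ = 1 and ⟨ω_i, α_j^∨⟩ = 0 for every other simple j (the simply connected derived group
hypothesis). If l lists the simple roots without repetition, w^∨ is the composite of the
coreflections along l acting on N, k is a field and H in k ⊗ N satisfies w^∨_k H = H, then (α_i)_k H
= 0 for every simple root α_i, where (α_i)_k is the base change to k of the functional ⟨α_i, −⟩ on
N. (Stated for an arbitrary field k; the published setting is an algebraically closed field, and the
argument does not depend on k.) -/
theorem result {ι M N : Type u} [AddCommGroup M] [AddCommGroup N]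
    (P : RootPairing ι ℤ M N) (b : P.Base)
    (hsc : ∀ i ∈ b.support, ∃ ω : M, P.coroot' i ω = 1 ∧ ∀ j ∈ b.support, j ≠ i → P.coroot' j ω = 0)
    (l : List ι) (hl : l.Nodup) (hlb : ∀ i : ι, i ∈ l ↔ i ∈ b.support)
    (k : Type u) [Field k] (H : k ⊗[ℤ] N)
    (hH : ((l.map (fun i => ((P.coreflection i : N ≃ₗ[ℤ] N) : N →ₗ[ℤ] N))).prod).baseChange k H = H) :
    ∀ i ∈ b.support, (P.root' i).baseChange k H = 0 := by
  intro i hi
  exact main P k b hsc l hl (fun i hi => (hlb i).mp hi) H hH i ((hlb i).mpr hi)

end Groth.Agent.S15841
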