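import Groth.Statements.S15845
import Mathlib

set_option autoImplicit false
universe u
open SprIso

namespace Groth.Agent.S15845

open Matrix in
lemma key (n : ℕ) (R : Type u) [CommRing R] (N x : Matrix (Fin n) (Fin n) R)
    (hN0 : ∀ i l : Fin n, l ≤ i → N i l = 0)
    (hNu : ∀ i l : Fin n, l.val = i.val + 1 → IsUnit (N i l))
    (hx : x * N = N * x) :
    (∀ i j : Fin n, j < i → x i j = 0) ∧ (∀ i j : Fin n, x i i = x j j) := by
  -- Lemma L
  have L : ∀ (v : Fin n → R) (j : ℕ), (∀ i : Fin n, j ≤ i.val → (N *ᵥ v) i = 0) →
      ∀ m : Fin n, j + 1 ≤ m.val → v m = 0 := by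
    intro v j hv
    have : ∀ d : ℕ, ∀ m : Fin n, n - m.val = d → j + 1 ≤ m.val → v m = 0 := by
      intro d
      induction d using Nat.strong_induction_on with
      | _ d ih =>
        intro m hm hjm
        have hm1 : m.val - 1 < n := by omega
        have hi := hv ⟨m.val - 1, hm1⟩ (by simp only; omega)
        rw [Matrix.mulVec, dotProduct] at hi
        rw [Finset.sum_eq_single m] at hi
        · exact (hNu ⟨m.val - 1, hm1⟩ m (by simp only; omega)).mul_right_eq_zero.mp hi
        · intro l _ hlm
          rcases lt_or_gt_of_ne hlm with h | h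
          · rw [hN0 ⟨m.val - 1, hm1⟩ l (by rw [Fin.le_def]; simp only; omega), zero_mul]
          · rw [ih (n - l.val) (by omega) l rfl (by omega), mul_zero]
        · intro h; exact absurd (Finset.mem_univ m) h
    intro m hm
    exact this _ m rfl hm
  have P : ∀ j : ℕ, ∀ v : Fin n → R, (∀ m : Fin n, j ≤ m.val → v m = 0) →
      ∀ m : Fin n, j ≤ m.val → (x *ᵥ v) m = 0 := by
    intro j
    induction j with
    | zero =>
      intro v hv m _
      have : v = 0 := funext fun m => hv m (Nat.zero_le _)
      simp [this]
    | succ j ih =>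
      intro v hv
      have hNv : ∀ m : Fin n, j ≤ m.val → (N *ᵥ v) m = 0 := by
        intro m hm
        rw [Matrix.mulVec, dotProduct]
        apply Finset.sum_eq_zero
        intro l _
        by_cases hl : l ≤ m
        · rw [hN0 m l hl, zero_mul]
        · rw [hv l (by rw [Fin.le_def] at hl; omega), mul_zero]
      have h1 := ih (N *ᵥ v) hNv
      have h2 : N *ᵥ (x *ᵥ v) = x *ᵥ (N *ᵥ v) := by
        rw [Matrix.mulVec_mulVec, Matrix.mulVec_mulVec, hx]
      exact L (x *ᵥ v) j (fun i hi => by rw [h2]; exact h1 i hi)
  have tri : ∀ i j : Fin n, j < i → x i j = 0 := by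
    intro i j hji
    have h := P (j.val + 1) (Pi.single j 1) (by
      intro m hm
      rw [Pi.single_apply, if_neg]
      intro h; subst h; omega) i (by rw [Fin.lt_def] at hji; omega)
    rw [Matrix.mulVec_single_one] at h
    exact h
  refine ⟨tri, ?_⟩
  have step : ∀ (m : ℕ) (h : m + 1 < n), x ⟨m, by omega⟩ ⟨m, by omega⟩ = x ⟨m + 1, h⟩ ⟨m + 1, h⟩ := by
    intro m h
    have e := congrFun (congrFun hx ⟨m, by omega⟩) ⟨m + 1, h⟩
    rw [Matrix.mul_apply, Matrix.mul_apply] at e
    rw [Finset.sum_eq_single ⟨m, by omega⟩, Finset.sum_eq_single ⟨m + 1, h⟩] at e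
    · have hu := hNu ⟨m, by omega⟩ ⟨m + 1, h⟩ rfl
      rw [mul_comm] at e
      exact hu.mul_left_cancel e
    · intro l _ hl
      by_cases h1 : l ≤ ⟨m, by omega⟩
      · rw [hN0 _ _ h1, zero_mul]
      · rw [tri l ⟨m + 1, h⟩ (by
          rw [Fin.lt_def]; rw [Fin.le_def] at h1
          have : l.val ≠ m + 1 := fun hh => hl (Fin.ext hh)
          simp only at h1 ⊢; omega), mul_zero]
    · intro h'; exact absurd (Finset.mem_univ _) h'
    · intro l _ hl
      by_cases h1 : l < ⟨m, by omega⟩
      · rw [tri _ _ h1, zero_mul]
      · rw [hN0 l ⟨m + 1, h⟩ (by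
          rw [Fin.le_def]; rw [Fin.lt_def] at h1
          have : l.val ≠ m := fun hh => hl (Fin.ext hh)
          simp only at h1 ⊢; omega), mul_zero]
    · intro h'; exact absurd (Finset.mem_univ _) h'
  have all0 : ∀ (m : ℕ) (h : m < n), x ⟨m, h⟩ ⟨m, h⟩ = x ⟨0, by omega⟩ ⟨0, by omega⟩ := by
    intro m
    induction m with
    | zero => intro h; rfl
    | succ m ih =>
      intro h
      rw [← step m h, ih (by omega)]
  intro i j
  rw [show i = ⟨i.val, i.isLt⟩ from rfl, show j = ⟨j.val, j.isLt⟩ from rfl, all0 i.val i.isLt,
    all0 j.val j.isLt]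


/-- General linear group case: this is the case G = GL_n with its upper-triangular Borel subgroup B
(derived group SL_n simply connected, all primes good, so the hypotheses on the characteristic
hold), together with the companion statement for a regular nilpotent element of Lie B. Let k be a
field and u an n × n upper-triangular matrix over k whose diagonal entries are all equal and whose
superdiagonal entries u_{i,i+1} are all non-zero — for diagonal 1 this is a regular unipotent
element of B(k), for diagonal 0 a regular nilpotent element of Lie B. Then the centralizer of u in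
GL_n is contained in B and is the product of the centre with the centralizer in the unipotent
radical: for every commutative k-algebra R and every invertible x ∈ M_n(R) commuting with u_R, x is
upper triangular and its diagonal entries are all equal. (The smoothness of the centralizer in the
unipotent radical, also part of the published statement, is not stated here.) -/
theorem result (k : Type u) [Field k] (n : ℕ)
    (u : Matrix (Fin n) (Fin n) k) (htri : ∀ i j : Fin n, j < i → u i j = 0) (hdiag : ∀ i j : Fin n, u i i = u j j)
    (hreg : ∀ (i j : Fin n), j.val = i.val + 1 → u i j ≠ 0)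
    (R : Type u) [CommRing R] [Algebra k R] (x : Matrix (Fin n) (Fin n) R) (hx : IsUnit x)
    (hxu : x * u.map (algebraMap k R) = u.map (algebraMap k R) * x) :
    (∀ i j : Fin n, j < i → x i j = 0) ∧ (∀ i j : Fin n, x i i = x j j) := by
  rcases Nat.eq_zero_or_pos n with rfl | hn
  · exact ⟨fun i => i.elim0, fun i => i.elim0⟩
  set c : R := algebraMap k R (u ⟨0, hn⟩ ⟨0, hn⟩) with hc
  set N : Matrix (Fin n) (Fin n) R := u.map (algebraMap k R) - c • (1 : Matrix (Fin n) (Fin n) R) with hN
  have hxN : x * N = N * x := by
    rw [hN, mul_sub, sub_mul, hxu, Matrix.mul_smul, Matrix.smul_mul, mul_one, one_mul]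
  refine key n R N x ?_ ?_ hxN
  · intro i l hli
    rcases eq_or_lt_of_le hli with h | h
    · subst h
      simp [hN, hc, hdiag l ⟨0, hn⟩, Algebra.algebraMap_eq_smul_one]
    · have : l ≠ i := ne_of_lt h
      simp [hN, htri i l h, this.symm]
  · intro i l hil
    have hne : i ≠ l := by
      intro h; subst h; omega
    have : N i l = algebraMap k R (u i l) := by
      simp [hN, Matrix.one_apply, hne]
    rw [this]
    exact (IsUnit.mk0 _ (hreg i l hil)).map (algebraMap k R)

end Groth.Agent.S15845
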