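import Groth.Statements.S15883
import Mathlib

set_option autoImplicit false
universe u
open CategoryTheory AlgebraicGeometry Opposite
open BMCoh

namespace Groth.Agent.S15883

/-- Let T be a twisted Borel–Moore cohomology theory with coefficients in A (a full subcategory of
R-modules containing R) on a constructible class V of Noetherian schemes, and let i_X : X → W and
i_Y : Y → W be morphisms of V — open immersions with dim X = dim W = dim Y — whose images are
complementary in W, so that W is the disjoint union of X and Y. Then for every coefficient module M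
and all integers i, n the map H^i(W, M(n)) → H^i(X, M(n)) × H^i(Y, M(n)) whose components are the
restriction maps along i_X and i_Y is bijective. -/
theorem result (V : ObjectProperty Scheme.{u}) [BMCoh.IsConstructible V] (R : Type u) [CommRing R] (A : BMCoh.Coefs R) (T : BMCoh.TheoryOn V R A) {X Y W : BMCoh.Obj V} (iX : X ⟶ W) (iY : Y ⟶ W) (h : Set.range iX.hom = (Set.range iY.hom)ᶜ) (M : A.Cat) (i n : ℤ) : Function.Bijective (fun a : T.gp W M i n => ((T.pull iX M i n).hom a, (T.pull iY M i n).hom a)) := by
  obtain ⟨i', rfl⟩ : ∃ i', i = i' + 1 := ⟨i - 1, by ring⟩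
  -- the closed immersion structure on iY
  have hclosed : IsClosed (Set.range iY.hom) := by
    have : IsOpen (Set.range iX.hom) := iX.hom.isOpenEmbedding.isOpen_range
    rw [h] at this
    exact isOpen_compl_iff.mp this
  have hci : IsClosedImmersion iY.hom := IsClosedImmersion.of_isPreimmersion _ hclosed
  let D : Decomp W := ⟨Y, X, iY.hom, hci, iX, h⟩
  have hc : relCodim Y.scheme W.scheme = 0 := by
    simp only [relCodim, iY.dim_eq, sub_self]
  have hDc : D.codim = 0 := hc
  -- push along iY in degree i
  have hpi : ∀ j : ℤ, j = j + 2 * relCodim Y.scheme W.scheme := fun j => by rw [hc]; ring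
  have hpn : n = n + relCodim Y.scheme W.scheme := by rw [hc]; ring
  -- pull_iY ∘ push_iY = id
  have hsplit : ∀ j : ℤ, T.push iY.hom M j n j n (hpi j) hpn ≫ T.pull iY M j n = 𝟙 _ := by
    intro j
    have hpb : IsPullback (𝟙 Y : Y ⟶ Y).hom (𝟙 Y.scheme) iY.hom iY.hom :=
      (IsKernelPair.id_of_mono iY.hom)
    have := T.push_pull iY.hom (𝟙 Y.scheme) iY (𝟙 Y) hpb M j n j n (hpi j) hpn
      (by simp [relCodim]) (by simp [relCodim])
    rw [this, T.push_id]
    simp
  have hsplit' : ∀ (j : ℤ) (b : T.gp Y M j n),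
      (T.pull iY M j n).hom ((T.push iY.hom M j n j n (hpi j) hpn).hom b) = b := by
    intro j b
    have := congrArg (fun f => f.hom b) (hsplit j)
    simpa using this
  have hpush_inj : ∀ j : ℤ, Function.Injective (T.push iY.hom M j n j n (hpi j) hpn).hom :=
    fun j => Function.LeftInverse.injective (hsplit' j)
  -- residue is zero
  have hi1 : i' + 1 + 1 = i' + 1 + 1 - 2 * D.codim := by rw [hDc]; ring
  have hn1 : n = n - D.codim := by rw [hDc]; ring
  have hres0 : ∀ x : T.gp X M (i' + 1) n,
      (T.res D M (i' + 1) n (i' + 1 + 1) n hi1 hn1).hom x = 0 := by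
    intro x
    apply hpush_inj (i' + 1 + 1)
    rw [map_zero]
    exact ((T.exact_res_push D M (i' + 1) n (i' + 1 + 1) n hi1 hn1 (hpi (i' + 1 + 1)) hpn) _).mpr
      ⟨x, rfl⟩
  -- pull_iX surjective
  have hsurj : Function.Surjective (T.pull iX M (i' + 1) n).hom := by
    intro x
    exact ((T.exact_pull_res D M (i' + 1) n (i' + 1 + 1) n hi1 hn1) x).mp (hres0 x)
  -- exactness at H^i(W)
  have hex : Function.Exact (T.push iY.hom M (i' + 1) n (i' + 1) n (hpi (i' + 1)) hpn).hom
      (T.pull iX M (i' + 1) n).hom := by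
    exact T.exact_push_pull D M i' n (i' + 1) n (hpi (i' + 1)) hpn
  constructor
  · intro a b hab
    have h1 : (T.pull iX M (i' + 1) n).hom (a - b) = 0 := by
      rw [map_sub, sub_eq_zero]; exact congrArg Prod.fst hab
    have h2 : (T.pull iY M (i' + 1) n).hom (a - b) = 0 := by
      rw [map_sub, sub_eq_zero]; exact congrArg Prod.snd hab
    obtain ⟨c, hc'⟩ := (hex (a - b)).mp h1
    have h3 : c = 0 := by
      rw [← hsplit' (i' + 1) c, hc', h2]
    rw [h3, map_zero] at hc'
    exact sub_eq_zero.mp hc'.symm
  · rintro ⟨x, y⟩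
    obtain ⟨a₀, ha₀⟩ := hsurj x
    refine ⟨a₀ + (T.push iY.hom M (i' + 1) n (i' + 1) n (hpi (i' + 1)) hpn).hom
      (y - (T.pull iY M (i' + 1) n).hom a₀), ?_⟩
    have h4 : ∀ c, (T.pull iX M (i' + 1) n).hom
        ((T.push iY.hom M (i' + 1) n (i' + 1) n (hpi (i' + 1)) hpn).hom c) = 0 :=
      fun c => (hex _).mpr ⟨c, rfl⟩
    ext
    · simp only [map_add, h4, add_zero, ha₀]
    · simp only [map_add, hsplit']
      abel

end Groth.Agent.S15883
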