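import Groth.Statements.S15893
import Mathlib

set_option autoImplicit false
universe u v w
open CartDual

namespace Groth.Agent.S15893

open TensorProduct in
/-- the preimage linear map -/
noncomputable def preLin {R : Type u} [CommRing R] {A : Type v} {B : Type w}
    [CommRing A] [HopfAlgebra R A] [Module.Finite R A] [Module.Projective R A]
    [CommRing B] [HopfAlgebra R B] [Module.Finite R B] [Module.Projective R B]
    (g : D R B →ₗ[R] D R A) : A →ₗ[R] B :=
  (Module.evalEquiv R B).symm.toLinearMap ∘ₗ
    ((toDual R A).toLinearMap ∘ₗ g ∘ₗ (toDual R B).symm.toLinearMap).dualMap ∘ₗ Module.Dual.eval R A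

theorem preLin_spec {R : Type u} [CommRing R] {A : Type v} {B : Type w}
    [CommRing A] [HopfAlgebra R A] [Module.Finite R A] [Module.Projective R A]
    [CommRing B] [HopfAlgebra R B] [Module.Finite R B] [Module.Projective R B]
    (g : D R B →ₗ[R] D R A) (x : D R B) (a : A) : x (preLin g a) = (g x) a := by
  change x.ofConv ((Module.evalEquiv R B).symm _) = _
  rw [Module.apply_evalEquiv_symm_apply]
  rfl

theorem eq_of_forall_D {R : Type u} [CommRing R] {B : Type w}
    [CommRing B] [HopfAlgebra R B] [Module.Finite R B] [Module.Projective R B]
    (b b' : B) (h : ∀ x : D R B, x b = x b') : b = b' := by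
  rw [← sub_eq_zero, ← Module.forall_dual_apply_eq_zero_iff R]
  intro φ
  have := h (WithConv.toConv φ)
  rw [map_sub, sub_eq_zero]
  exact this

open TensorProduct in
theorem eq_of_forall_D₂ {R : Type u} [CommRing R] {B : Type w}
    [CommRing B] [HopfAlgebra R B] [Module.Finite R B] [Module.Projective R B]
    (t t' : B ⊗[R] B)
    (h : ∀ x z : D R B, LinearMap.mul' R R (TensorProduct.map x.ofConv z.ofConv t) =
      LinearMap.mul' R R (TensorProduct.map x.ofConv z.ofConv t')) : t = t' := by
  rw [← sub_eq_zero, ← Module.forall_dual_apply_eq_zero_iff R]
  intro φ
  obtain ⟨y, rfl⟩ := (ev₂ R B).surjective φ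
  rw [map_sub, sub_eq_zero]
  induction y using TensorProduct.induction_on with
  | zero => simp
  | tmul x z =>
    rw [ev₂_tmul_eq]
    have hlid : ∀ r : R ⊗[R] R, TensorProduct.lid R R r = LinearMap.mul' R R r := by
      intro r
      induction r using TensorProduct.induction_on with
      | zero => simp
      | tmul x z => simp
      | add y y' hy hy' => simp only [map_add, hy, hy']
    simp only [LinearMap.comp_apply, LinearEquiv.coe_coe, hlid]
    exact h x z
  | add y y' hy hy' => simp only [map_add, LinearMap.add_apply, hy, hy']

/-- Let R be a commutative ring and A, B commutative and cocommutative Hopf algebras over R, each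
finitely generated and projective as an R-module (finite locally free commutative group schemes G =
Spec A, H = Spec B over Spec R). Then Cartier duality is a fully faithful contravariant functor: the
map sending a bialgebra homomorphism f : A → B (a homomorphism of group schemes H → G) to its
transpose between the dual Hopf algebras, Hom_R(B, R) → Hom_R(A, R) (the dual homomorphism G^D →
H^D), is a bijection between bialgebra homomorphisms A → B and bialgebra homomorphisms Hom_R(B, R) →
Hom_R(A, R). (The published statement also asserts that the canonical map to the double dual is an
isomorphism, which makes duality an involutory anti-equivalence; that part is not restated here. The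
published notes work over a Noetherian base ring; the row allows any commutative base ring.) -/
theorem result (R : Type u) [CommRing R] (A : Type v) (B : Type w)
    [CommRing A] [HopfAlgebra R A] [Coalgebra.IsCocomm R A] [Module.Finite R A] [Module.Projective R A]
    [CommRing B] [HopfAlgebra R B] [Coalgebra.IsCocomm R B] [Module.Finite R B] [Module.Projective R B] :
    Function.Bijective (fun f : A →ₐc[R] B => CartDual.transpose R f) := by
  constructor
  · intro f g hfg
    apply BialgHom.ext
    intro a
    apply eq_of_forall_D (R := R)
    intro x
    have := congrArg (fun φ : D R B →ₐc[R] D R A => φ x a) hfg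
    simpa using this
  · intro g
    set gl : D R B →ₗ[R] D R A := (g : D R B →ₗ[R] D R A) with hgl
    have hspec : ∀ (x : D R B) (a : A), x (preLin gl a) = (g x) a := fun x a => preLin_spec gl x a
    have h1 : preLin gl 1 = 1 := by
      apply eq_of_forall_D (R := R)
      intro x
      rw [hspec]
      have : Coalgebra.counit (R := R) (g x) = Coalgebra.counit (R := R) x :=
        CoalgHomClass.counit_comp_apply g x
      exact this
    have hmul : ∀ a b : A, preLin gl (a * b) = preLin gl a * preLin gl b := by
      intro a b
      apply eq_of_forall_D (R := R)
      intro x
      rw [hspec, ← ev₂_coalgebra_comul_tmul, ← ev₂_coalgebra_comul_tmul]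
      have := CoalgHomClass.map_comp_comul_apply g x
      rw [← this]
      generalize (Coalgebra.comul (R := R) x) = y
      induction y using TensorProduct.induction_on with
      | zero => simp
      | tmul x z => simp [hspec]
      | add y y' hy hy' => simp only [map_add, LinearMap.add_apply, hy, hy']
    have hcomp : ∀ x : D R B, x.ofConv ∘ₗ preLin gl = (g x).ofConv := by
      intro x
      apply LinearMap.ext
      intro a
      exact hspec x a
    have hcounit : ∀ a : A, Coalgebra.counit (R := R) (preLin gl a) = Coalgebra.counit (R := R) a := by
      intro a
      have h1 : (1 : D R B) (preLin gl a) = (g 1) a := hspec 1 a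
      rw [map_one] at h1
      simpa [LinearMap.convOne_apply] using h1
    have hcomul : ∀ a : A, TensorProduct.map (preLin gl) (preLin gl) (Coalgebra.comul (R := R) a) =
        Coalgebra.comul (R := R) (preLin gl a) := by
      intro a
      apply eq_of_forall_D₂ (R := R)
      intro x z
      have h2 : (x * z) (preLin gl a) = (g (x * z)) a := hspec (x * z) a
      rw [map_mul, LinearMap.convMul_apply, LinearMap.convMul_apply] at h2
      rw [h2]
      have h3 : TensorProduct.map x.ofConv z.ofConv
          (TensorProduct.map (preLin gl) (preLin gl) (Coalgebra.comul (R := R) a)) =
          TensorProduct.map (g x).ofConv (g z).ofConv (Coalgebra.comul (R := R) a) := by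
        rw [← LinearMap.comp_apply, ← TensorProduct.map_comp, hcomp, hcomp]
      rw [h3]
    refine ⟨{ toLinearMap := preLin gl
              counit_comp := LinearMap.ext hcounit
              map_comp_comul := LinearMap.ext hcomul
              map_one' := h1
              map_mul' := hmul }, ?_⟩
    apply BialgHom.ext
    intro x
    apply WithConv.ext
    apply LinearMap.ext
    intro a
    exact hspec x a

end Groth.Agent.S15893
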