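import Groth.Statements.S15894
import Mathlib

set_option autoImplicit false
universe u
open scoped TensorProduct
open Versch

namespace Groth.Agent.S15894

theorem pow_single {R : Type u} [CommRing R] {G : Type} [Group G]
    (x : CartDual.D R (MonoidAlgebra R G)) (g : G) (c : R) (n : ℕ) :
    (x ^ n) (MonoidAlgebra.single g c) = x (MonoidAlgebra.single g 1) ^ n * c := by
  induction n generalizing c with
  | zero =>
    rw [pow_zero, pow_zero, one_mul, LinearMap.convOne_apply]
    simp
  | succ n ih =>
    rw [pow_succ', LinearMap.convMul_apply, MonoidAlgebra.comul_single]
    simp only [CommSemiring.comul_apply, TensorProduct.map_tmul, MonoidAlgebra.lsingle_apply,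
      LinearMap.mul'_apply]
    have := ih c
    rw [CartDual.coe_apply] at this
    rw [this, pow_succ', mul_assoc]

/-- Let p be a prime, R a commutative ring of characteristic p and A = R[ℤ/p] the group algebra of the
cyclic group of order p, the Hopf algebra of the group scheme μ_p of p-th roots of unity over Spec
R. Let v : A → A ⊗_R R^(Frob) be the comorphism of the Verschiebung V : μ_p^(p) → μ_p (the ring map
whose transpose under the canonical pairing is the relative Frobenius of the dual Hopf algebra).
Then v(c·g) = g ⊗ c for every group element g and every scalar c ∈ R, the scalar being moved into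
the Frobenius-twisted factor through the identity of underlying rings: under the identification
μ_p^(p) = μ_p the Verschiebung of μ_p is the identity. -/
theorem result (p : ℕ) [Fact p.Prime] (R : Type u) [CommRing R] [CharP R p]
    (v : MonoidAlgebra R (Multiplicative (ZMod p)) →+* FrobAlg.BaseChange p R (MonoidAlgebra R (Multiplicative (ZMod p))))
    (hv : Versch.IsVerschiebung p R (MonoidAlgebra R (Multiplicative (ZMod p))) v)
    (g : Multiplicative (ZMod p)) (c : R) :
    v (MonoidAlgebra.single g c) = MonoidAlgebra.single g (1 : R) ⊗ₜ[R] FrobAlg.toTwist p R c := by
  rw [Versch.isVerschiebung_iff] at hv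
  apply Versch.evTw_injective
  intro x
  rw [hv, Versch.evTw_tmul', pow_single, map_mul]

end Groth.Agent.S15894
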