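import Groth.Statements.S15895
import Groth.Prelude.Def_CartDual2
import Mathlib

set_option autoImplicit false
universe u
open scoped TensorProduct
open Versch

namespace Groth.Agent.S15895

theorem exists_eval {R : Type u} [CommRing R] {A : Type*} [CommRing A] [HopfAlgebra R A]
    [Module.Finite R A] [Module.Projective R A] (x : CartDual.D R (CartDual.D R A)) :
    ∃ a : A, x = CartDual.eval R A a := by
  obtain ⟨a, ha⟩ := (Module.bijective_dual_eval R A).2
    (x.ofConv ∘ₗ (CartDual.toDual R A).symm.toLinearMap)
  refine ⟨a, ?_⟩
  apply WithConv.ext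
  apply LinearMap.ext
  intro b
  have := LinearMap.congr_fun ha b.ofConv
  simp only [Module.Dual.eval_apply, LinearMap.comp_apply] at this
  exact this.symm

instance charPMonoidAlgebra (p : ℕ) (R : Type u) [CommRing R] [CharP R p] (G : Type) [Group G] :
    CharP (MonoidAlgebra R G) p :=
  charP_of_injective_algebraMap (R := R) (A := MonoidAlgebra R G)
    (by
      intro r s h
      rw [MonoidAlgebra.coe_algebraMap] at h
      exact MonoidAlgebra.single_right_inj.1 h) p

theorem pow_p_eq (p : ℕ) [Fact p.Prime] (R : Type u) [CommRing R] [CharP R p]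
    (a : MonoidAlgebra R (Multiplicative (ZMod p))) :
    a ^ p = algebraMap R _ ((Coalgebra.counit (R := R) a) ^ p) := by
  induction a using MonoidAlgebra.induction_linear with
  | zero =>
    simp [zero_pow (Fact.out : p.Prime).ne_zero]
  | add f g hf hg =>
    rw [add_pow_char, hf, hg, map_add, add_pow_char, map_add]
  | single g c =>
    rw [MonoidAlgebra.single_pow, MonoidAlgebra.counit_single]
    have : g ^ p = 1 := by
      have h1 : Fintype.card (Multiplicative (ZMod p)) = p := by simp
      have h2 := pow_card_eq_one (x := g)
      rwa [h1] at h2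
    rw [this]
    rfl

/-- Let p be a prime, R a commutative ring of characteristic p and B = Hom_R(R[ℤ/p], R) the dual Hopf
algebra of the group algebra of the cyclic group of order p: the Hopf algebra of the constant group
scheme ℤ/p over Spec R (the Cartier dual of μ_p). Let v : B → B ⊗_R R^(Frob) be the comorphism of
the Verschiebung V : (ℤ/p)^(p) → ℤ/p (the ring map whose transpose under the canonical pairing is
the relative Frobenius of the dual Hopf algebra of B). Then V is the trivial homomorphism: v is the
composite of the counit ε : B → R, the identity of underlying rings R → R^(Frob) and the inclusion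
of the twisted factor R^(Frob) → B ⊗_R R^(Frob), i.e. v(b) = 1 ⊗ ε(b). -/
theorem result (p : ℕ) [Fact p.Prime] (R : Type u) [CommRing R]
    [CharP R p] (v : CartDual.D R (MonoidAlgebra R (Multiplicative (ZMod p))) →+* FrobAlg.BaseChange p R (CartDual.D R (MonoidAlgebra R (Multiplicative (ZMod p)))))
    (hv : Versch.IsVerschiebung p R (CartDual.D R (MonoidAlgebra R (Multiplicative (ZMod p)))) v) :
    v = ((Algebra.TensorProduct.includeRight (R := R) (A := CartDual.D R (MonoidAlgebra R (Multiplicative (ZMod p))))
            (B := FrobAlg.Twist p R)).toRingHom.comp (FrobAlg.toTwist p R).toRingHom).comp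
          (Bialgebra.counitAlgHom R (CartDual.D R (MonoidAlgebra R (Multiplicative (ZMod p))))).toRingHom := by
  rw [Versch.isVerschiebung_iff] at hv
  apply RingHom.ext
  intro b
  refine Versch.evTw_injective p R (CartDual.D R (MonoidAlgebra R (Multiplicative (ZMod p)))) ?_
  intro x
  rw [hv b x]
  obtain ⟨a, rfl⟩ := exists_eval x
  rw [← map_pow, pow_p_eq]
  change _ = Versch.evTw p R _ _ (1 ⊗ₜ[R] FrobAlg.toTwist p R (Coalgebra.counit (R := R) b))
  rw [Versch.evTw_tmul']
  rw [CartDual.eval_apply, CartDual.eval_apply, ← map_mul]
  congr 1
  rw [Algebra.algebraMap_eq_smul_one, CartDual.coe_apply, map_smul, smul_eq_mul]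
  rw [LinearMap.convOne_apply]
  rfl

end Groth.Agent.S15895
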