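import Groth.Statements.S15897
import Mathlib

set_option autoImplicit false
universe u v
open CartDual
open scoped TensorProduct

namespace Groth.Agent.S15897

/-- Let R be a commutative ring and A a commutative Hopf algebra over R which is finitely generated and
projective as an R-module (a finite locally free R-group scheme G = Spec A, not assumed
commutative). If the convolution product on the dual Hopf algebra Hom_R(A, R) is commutative, then A
is cocommutative, i.e. G is a commutative group scheme. (The dual Hopf algebra is commutative
exactly when A is cocommutative; the other implication is immediate and not stated. The published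
notes work over a Noetherian base ring; the row allows any commutative base ring.) -/
theorem result (R : Type u) [CommRing R] (A : Type v) [CommRing A] [HopfAlgebra R A]
    [Module.Finite R A] [Module.Projective R A] (h : ∀ x y : CartDual.D R A, x * y = y * x) :
    Coalgebra.IsCocomm R A := by
  constructor
  ext a
  simp only [LinearMap.coe_comp, LinearEquiv.coe_coe, Function.comp_apply]
  rw [← sub_eq_zero, ← Module.forall_dual_apply_eq_zero_iff R]
  intro φ
  obtain ⟨w, rfl⟩ := (CartDual.ev₂ R A).surjective φ
  rw [map_sub, sub_eq_zero]
  -- general form of ev₂_comm
  have hcomm : ∀ (w : CartDual.D R A ⊗[R] CartDual.D R A) (z : A ⊗[R] A),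
      CartDual.ev₂ R A (TensorProduct.comm R _ _ w) z =
        CartDual.ev₂ R A w (TensorProduct.comm R A A z) := by
    intro w z
    induction z using TensorProduct.induction_on with
    | zero => simp
    | tmul a b => rw [CartDual.ev₂_comm]; rfl
    | add z z' hz hz' => rw [map_add, map_add, map_add, hz, hz']
  induction w using TensorProduct.induction_on with
  | zero => simp
  | tmul x y =>
    rw [← hcomm]
    have h1 : ∀ (x y : CartDual.D R A) (z : A ⊗[R] A),
        CartDual.ev₂ R A (x ⊗ₜ y) z = LinearMap.mul' R R (TensorProduct.map x.ofConv y.ofConv z) := by
      intro x y z
      rw [CartDual.ev₂_tmul_eq]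
      induction z using TensorProduct.induction_on with
      | zero => simp
      | tmul a b => simp
      | add z z' hz hz' => simp only [map_add, hz, hz']
    simp only [TensorProduct.comm_tmul]
    rw [h1, h1]
    have := congrArg (fun f : CartDual.D R A => f a) (h y x)
    simpa [LinearMap.convMul_apply] using this
  | add w w' hw hw' => simp only [map_add, LinearMap.add_apply, hw, hw']

end Groth.Agent.S15897
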