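import Groth.Statements.S15939
import Mathlib

set_option autoImplicit false
universe u
open CAlg

namespace Groth.Agent.S15939

section Helpers
open Polynomial

theorem lemmaD {κ A : Type u} [Field κ] [CommRing A] [Algebra κ A] [Nontrivial A]
    (ε : A) (hε0 : ε ≠ 0) (hε2 : ε * ε = 0) (hadj : Algebra.adjoin κ {ε} = ⊤) :
    Nonempty (A ≃ₐ[κ] DualNumber κ) := by
  let ψ : DualNumber κ →ₐ[κ] A :=
    DualNumber.lift ⟨(Algebra.ofId κ A, ε), hε2, fun a => Commute.all _ _⟩
  have hψ : ∀ x : DualNumber κ, ψ x = algebraMap κ A x.fst + algebraMap κ A x.snd * ε :=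
    fun x => rfl
  have hinj : Function.Injective ψ := by
    rw [injective_iff_map_eq_zero]
    intro x hx
    rw [hψ] at hx
    have h1 : algebraMap κ A x.fst * ε = 0 := by
      have := congrArg (· * ε) hx
      simp only [add_mul, mul_assoc, hε2, mul_zero, add_zero, zero_mul] at this
      exact this
    have hfst : x.fst = 0 := by
      by_contra hne
      have hu : IsUnit (algebraMap κ A x.fst) := (isUnit_iff_ne_zero.mpr hne).map _
      exact hε0 ((hu.mul_right_eq_zero).mp h1)
    rw [hfst, map_zero, zero_add] at hx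
    have hsnd : x.snd = 0 := by
      by_contra hne
      have hu : IsUnit (algebraMap κ A x.snd) := (isUnit_iff_ne_zero.mpr hne).map _
      exact hε0 ((hu.mul_right_eq_zero).mp hx)
    exact TrivSqZeroExt.ext hfst hsnd
  have hsurj : Function.Surjective ψ := by
    rw [← AlgHom.range_eq_top, eq_top_iff, ← hadj]
    refine Algebra.adjoin_le ?_
    rintro x (rfl : x = ε)
    exact ⟨DualNumber.eps, DualNumber.lift_apply_eps _⟩
  exact ⟨(AlgEquiv.ofBijective ψ ⟨hinj, hsurj⟩).symm⟩

theorem lemmaP {κ A : Type u} [Field κ] [CommRing A] [Algebra κ A] [Nontrivial A]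
    (e : A) (he : e * e = e) (he0 : e ≠ 0) (he1 : e ≠ 1) (hadj : Algebra.adjoin κ {e} = ⊤) :
    Nonempty (A ≃ₐ[κ] (κ × κ)) := by
  let L : (κ × κ) →ₗ[κ] A :=
    (LinearMap.toSpanSingleton κ A e).coprod (LinearMap.toSpanSingleton κ A (1 - e))
  have hL : ∀ x : κ × κ, L x = algebraMap κ A x.1 * e + algebraMap κ A x.2 * (1 - e) :=
    fun x => by
      simp [L, LinearMap.coprod_apply, LinearMap.toSpanSingleton_apply, Algebra.smul_def]
  let ψ : (κ × κ) →ₐ[κ] A := AlgHom.ofLinearMap L
    (by rw [hL, Prod.fst_one, Prod.snd_one, map_one]; ring)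
    (fun x y => by
      rw [hL, hL, hL]
      simp only [Prod.fst_mul, Prod.snd_mul, map_mul]
      linear_combination (-(algebraMap κ A x.1 * algebraMap κ A y.1
        - algebraMap κ A x.1 * algebraMap κ A y.2 - algebraMap κ A x.2 * algebraMap κ A y.1
        + algebraMap κ A x.2 * algebraMap κ A y.2)) * he)
  have hψ : ∀ x : κ × κ, ψ x = algebraMap κ A x.1 * e + algebraMap κ A x.2 * (1 - e) :=
    fun x => hL x
  have hinj : Function.Injective ψ := by
    rw [injective_iff_map_eq_zero]
    intro x hx
    rw [hψ] at hx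
    have h1 : algebraMap κ A x.1 * e = 0 := by
      linear_combination e * hx + (algebraMap κ A x.2 - algebraMap κ A x.1) * he
    have h2 : algebraMap κ A x.2 * (1 - e) = 0 := by
      linear_combination (1 - e) * hx + (algebraMap κ A x.1 - algebraMap κ A x.2) * he
    have hfst : x.1 = 0 := by
      by_contra hne
      have hu : IsUnit (algebraMap κ A x.1) := (isUnit_iff_ne_zero.mpr hne).map _
      exact he0 ((hu.mul_right_eq_zero).mp h1)
    have hsnd : x.2 = 0 := by
      by_contra hne
      have hu : IsUnit (algebraMap κ A x.2) := (isUnit_iff_ne_zero.mpr hne).map _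
      exact he1 (sub_eq_zero.mp ((hu.mul_right_eq_zero).mp h2)).symm
    exact Prod.ext hfst hsnd
  have hsurj : Function.Surjective ψ := by
    rw [← AlgHom.range_eq_top, eq_top_iff, ← hadj]
    refine Algebra.adjoin_le ?_
    rintro x (rfl : x = e)
    exact ⟨(1, 0), by show ψ (1, 0) = x; rw [hψ]; simp⟩
  exact ⟨(AlgEquiv.ofBijective ψ ⟨hinj, hsurj⟩).symm⟩

theorem lemmaF {κ L : Type u} [Field κ] [Field L] [Algebra κ L] [FiniteDimensional κ L]
    (hS : ∀ S : Subalgebra κ L, S = ⊥ ∨ S = ⊤)
    (hK : ∀ x : L, x ∉ (⊥ : Subalgebra κ L) → Algebra.adjoin κ {x} = ⊤)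
    (a : L) (ha : a ∉ (⊥ : Subalgebra κ L)) :
    Algebra.IsSeparable κ L ∨
        ∃ (p : ℕ) (c : κ), p.Prime ∧ CharP κ p ∧ (∀ b : κ, b ^ p ≠ c) ∧
          Nonempty (L ≃ₐ[κ] AdjoinRoot (X ^ p - C c)) := by
  classical
  by_cases hsep : Algebra.IsSeparable κ L
  · exact Or.inl hsep
  right
  have hbot : separableClosure κ L = ⊥ := by
    rcases hS (separableClosure κ L).toSubalgebra with h | h
    · apply IntermediateField.toSubalgebra_injective
      rw [h, IntermediateField.bot_toSubalgebra]
    · exfalso; apply hsep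
      rw [← separableClosure.eq_top_iff]
      apply IntermediateField.toSubalgebra_injective
      rw [h, IntermediateField.top_toSubalgebra]
  haveI : IsPurelyInseparable κ L := separableClosure.eq_bot_iff.mp hbot
  obtain ⟨q, hq⟩ := ExpChar.exists κ
  have hex := IsPurelyInseparable.pow_mem κ q a
  obtain ⟨n, hn, hmin⟩ : ∃ n, a ^ q ^ n ∈ (algebraMap κ L).range ∧
      ∀ m < n, a ^ q ^ m ∉ (algebraMap κ L).range :=
    ⟨Nat.find hex, Nat.find_spec hex, fun m hm => Nat.find_min hex hm⟩
  cases n with
  | zero =>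
    exfalso; apply ha
    obtain ⟨c, hc⟩ := hn
    exact Algebra.mem_bot.mpr ⟨c, by simpa using hc⟩
  | succ n' =>
    obtain ⟨b, hb⟩ : ∃ b, b = a ^ q ^ n' := ⟨_, rfl⟩
    have hb1 : b ∉ (algebraMap κ L).range := by rw [hb]; exact hmin n' (Nat.lt_succ_self _)
    have hb2 : b ^ q ∈ (algebraMap κ L).range := by rw [hb, ← pow_mul, ← pow_succ]; exact hn
    obtain ⟨c, hc⟩ := hb2
    have hbbot : b ∉ (⊥ : Subalgebra κ L) := fun h => hb1 (by
      obtain ⟨d, hd⟩ := Algebra.mem_bot.mp h; exact ⟨d, hd⟩)
    have hq1 : q ≠ 1 := by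
      rintro rfl
      apply hb1; rw [pow_one] at hc; exact ⟨c, hc⟩
    have hqp : q.Prime ∧ CharP κ q := by
      cases hq with
      | zero => exact absurd rfl hq1
      | prime hprime => exact ⟨hprime, ‹_›⟩
    obtain ⟨hqp, hchar⟩ := hqp
    have hcq : ∀ d : κ, d ^ q ≠ c := by
      intro d hd
      haveI : ExpChar L q := expChar_of_injective_algebraMap (algebraMap κ L).injective q
      have h0 : (b - algebraMap κ L d) ^ q = 0 := by
        rw [sub_pow_expChar, ← map_pow, hd, hc, sub_self]
      have : b = algebraMap κ L d := sub_eq_zero.mp ((pow_eq_zero_iff hqp.ne_zero).mp h0)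
      exact hb1 ⟨d, this.symm⟩
    have hirr : Irreducible (X ^ q - C c) := X_pow_sub_C_irreducible_of_prime hqp hcq
    have hroot : aeval b (X ^ q - C c) = 0 := by
      rw [map_sub, map_pow, aeval_X, aeval_C, hc, sub_self]
    have hmin' : X ^ q - C c = minpoly κ b :=
      minpoly.eq_of_irreducible_of_monic hirr hroot (monic_X_pow_sub_C c hqp.ne_zero)
    refine ⟨q, c, hqp, hchar, hcq, ?_⟩
    rw [hmin']
    have hadj := hK b hbbot
    exact ⟨((Subalgebra.equivOfEq _ _ hadj).trans Subalgebra.topEquiv).symm.trans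
      (AlgEquiv.adjoinSingletonEquivAdjoinRootMinpoly κ b)⟩

end Helpers


open Polynomial in
/-- Let κ be a field and A a commutative κ-algebra whose only κ-subalgebras are the image of κ and A
itself, these two being different. Then A is finite-dimensional over κ, and A is isomorphic as a
κ-algebra to the dual numbers over κ, or to κ × κ, or A is a field which is either separable over κ
or isomorphic to κ[X]/(X^p - a) with p the (positive) characteristic of κ and a an element of κ that
is not a p-th power. (The published statement also records that these four cases exclude one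
another; that part is not restated.) -/
theorem result (κ A : Type u) [Field κ] [CommRing A] [Algebra κ A]
    (h : IsSimpleOrder (Subalgebra κ A)) :
    FiniteDimensional κ A ∧
    (Nonempty (A ≃ₐ[κ] DualNumber κ) ∨ Nonempty (A ≃ₐ[κ] (κ × κ)) ∨
      (IsField A ∧ (Algebra.IsSeparable κ A ∨
        ∃ (p : ℕ) (a : κ), p.Prime ∧ CharP κ p ∧ (∀ b : κ, b ^ p ≠ a) ∧
          Nonempty (A ≃ₐ[κ] AdjoinRoot (X ^ p - C a))))) := by
  classical
  haveI := h
  haveI : Nontrivial A := by
    by_contra hnt
    rw [not_nontrivial_iff_subsingleton] at hnt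
    have : (⊥ : Subalgebra κ A) = ⊤ := by
      apply le_antisymm bot_le
      intro x _
      exact Algebra.mem_bot.mpr ⟨0, Subsingleton.elim _ _⟩
    exact bot_ne_top this
  have hS : ∀ S : Subalgebra κ A, S = ⊥ ∨ S = ⊤ := fun S => eq_bot_or_eq_top S
  have hK : ∀ x : A, x ∉ (⊥ : Subalgebra κ A) → Algebra.adjoin κ {x} = ⊤ := fun x hx =>
    (hS _).resolve_left (fun hbot => hx (hbot ▸ Algebra.self_mem_adjoin_singleton κ x))
  obtain ⟨a, -, ha⟩ := SetLike.exists_of_lt (bot_lt_top : (⊥ : Subalgebra κ A) < ⊤)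
  have haint : IsIntegral κ a := by
    by_cases h2 : a ^ 2 ∈ (⊥ : Subalgebra κ A)
    · obtain ⟨c, hc⟩ := Algebra.mem_bot.mp h2
      refine ⟨X ^ 2 - C c, Polynomial.monic_X_pow_sub_C c two_ne_zero, ?_⟩
      simp [hc]
    · have h3 := hK _ h2
      have h4 : a ∈ Algebra.adjoin κ {a ^ 2} := by rw [h3]; exact Algebra.mem_top
      rw [Algebra.adjoin_singleton_eq_range_aeval] at h4
      obtain ⟨Q, hQ0⟩ := h4
      have hQ : Polynomial.aeval (a ^ 2) Q = a := hQ0
      apply IsAlgebraic.isIntegral
      refine ⟨Q.comp (X ^ 2) - X, ?_, ?_⟩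
      · intro h0
        have h5 : Q.comp (X ^ 2) = X := sub_eq_zero.mp h0
        have h6 := congrArg Polynomial.natDegree h5
        rw [Polynomial.natDegree_comp, Polynomial.natDegree_X_pow, Polynomial.natDegree_X] at h6
        omega
      · rw [map_sub, Polynomial.aeval_comp, Polynomial.aeval_X, map_pow, Polynomial.aeval_X,
          hQ, sub_self]
  have hfd : FiniteDimensional κ A := by
    have h1 := haint.fg_adjoin_singleton
    rw [hK a ha, Algebra.top_toSubmodule] at h1
    exact Module.finite_def.mpr h1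
  refine ⟨hfd, ?_⟩
  by_cases hA : IsField A
  · right; right
    refine ⟨hA, ?_⟩
    exact @lemmaF κ A _ hA.toField (inferInstance : Algebra κ A) hfd hS hK a ha
  · rw [Ring.not_isField_iff_exists_ideal_bot_lt_and_lt_top] at hA
    obtain ⟨I, hI0, hI1⟩ := hA
    obtain ⟨y, hyI, hy0⟩ : ∃ y ∈ I, y ≠ 0 := Submodule.exists_mem_ne_zero_of_ne_bot hI0.ne'
    have hyu : ¬ IsUnit y := fun hu => hI1.ne (Ideal.eq_top_of_isUnit_mem _ hyI hu)
    have hbot : ∀ z : A, z ≠ 0 → ¬ IsUnit z → z ∉ (⊥ : Subalgebra κ A) := by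
      intro z hz0 hzu hz
      obtain ⟨c, rfl⟩ := Algebra.mem_bot.mp hz
      by_cases hc : c = 0
      · exact hz0 (by rw [hc, map_zero])
      · exact hzu ((isUnit_iff_ne_zero.mpr hc).map (algebraMap κ A))
    by_cases hy2 : y * y = 0
    · left; exact lemmaD y hy0 hy2 (hK y (hbot y hy0 hyu))
    · right; left
      have hy2u : ¬ IsUnit (y * y) := fun hu => hyu (isUnit_of_mul_isUnit_left hu)
      have h3 := hK _ (hbot _ hy2 hy2u)
      have h4 : y ∈ Algebra.adjoin κ {y * y} := by rw [h3]; exact Algebra.mem_top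
      rw [Algebra.adjoin_singleton_eq_range_aeval] at h4
      obtain ⟨Q, hQ0⟩ := h4
      have hQ : Polynomial.aeval (y * y) Q = y := hQ0
      obtain ⟨w, hw⟩ : ∃ w, w = Polynomial.aeval (y * y) Q.divX := ⟨_, rfl⟩
      have hyw : y = w * (y * y) + algebraMap κ A (Q.coeff 0) := by
        have := congrArg (Polynomial.aeval (y * y)) (Polynomial.divX_mul_X_add Q)
        rw [map_add, map_mul, Polynomial.aeval_X, Polynomial.aeval_C, hQ, ← hw] at this
        exact this.symm
      have hc0 : algebraMap κ A (Q.coeff 0) = 0 := by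
        by_contra hne
        have hne' : Q.coeff 0 ≠ 0 := fun h0 => hne (by rw [h0, map_zero])
        have hu : IsUnit (algebraMap κ A (Q.coeff 0)) := (isUnit_iff_ne_zero.mpr hne').map _
        have : algebraMap κ A (Q.coeff 0) = y * (1 - w * y) := by
          linear_combination (-1 : A) * hyw
        rw [this] at hu
        exact hyu (isUnit_of_mul_isUnit_left hu)
      rw [hc0, add_zero] at hyw
      have he : (w * y) * (w * y) = w * y := by
        have : (w * y) * (w * y) = w * (w * (y * y)) := by ring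
        rw [this, ← hyw]
      have he0 : w * y ≠ 0 := by
        intro h0
        apply hy0
        have : y = (w * y) * y := by rw [mul_assoc]; exact hyw
        rw [this, h0, zero_mul]
      have he1 : w * y ≠ 1 := fun h1 => hyu (IsUnit.of_mul_eq_one w (by rw [mul_comm]; exact h1))
      have hebot : w * y ∉ (⊥ : Subalgebra κ A) := by
        intro hmem
        obtain ⟨c, hc⟩ := Algebra.mem_bot.mp hmem
        have hcc : c * c = c := by
          apply (algebraMap κ A).injective
          rw [map_mul, hc, he]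
        have : c = 0 ∨ c = 1 := by
          rcases eq_or_ne c 0 with h0 | h0
          · exact Or.inl h0
          · exact Or.inr (mul_left_cancel₀ h0 (by rw [hcc, mul_one]))
        rcases this with h0 | h1
        · exact he0 (by rw [← hc, h0, map_zero])
        · exact he1 (by rw [← hc, h1, map_one])
      exact lemmaP (w * y) he he0 he1 (hK _ hebot)

end Groth.Agent.S15939
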