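import Groth.Statements.S15961
import Groth.Agent.H25.SecSN2
open Groth.Agent.H25 Groth.Agent.H25.SecSN Groth.Agent.H25.AWNSch

set_option autoImplicit false
universe u
open HTop

namespace Groth.Agent.S15961

open CategoryTheory AlgebraicGeometry in
/-- Let ν : X' → X be a seminormalization of the scheme X (X' seminormal, ν a universal homeomorphism
inducing isomorphisms on residue fields and initial among such morphisms to X) and let U be an open
subscheme of X. Then the restriction of ν over U, ν⁻¹(U) → U, is a seminormalization of U. (The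
published lemma also treats U → X a localisation; that case is not restated.) -/
theorem result {X' X : Scheme.{u}} (ν : X' ⟶ X)
    (hν : HTop.IsSeminormalization ν) (hX' : HTop.IsSeminormal X') (U : X.Opens) :
    HTop.IsSeminormalization (ν ∣_ U) := by
  have hrsν : RS ν := rs_of_isIso ν hν.1.2
  have hrs : RS (ν ∣_ U) := rs_restrict ν hrsν U
  have hZ : HTop.IsSeminormal ((ν ⁻¹ᵁ U : X'.Opens) : Scheme.{u}) :=
    isSeminormal_of_isOpenImmersion (ν ⁻¹ᵁ U).ι hX'
  refine ⟨⟨uh_restrict hν.1.1 U, fun y => ?_⟩, fun Y π hπ hπres => ?_⟩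
  · rw [ConcreteCategory.isIso_iff_bijective]
    exact ⟨RingHom.injective ((ν ∣_ U).residueFieldMap y).hom, hrs y⟩
  · exact existsUnique_lift_sn hZ π hπ (rs_of_isIso π hπres) (ν ∣_ U)

end Groth.Agent.S15961
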