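import Groth.Statements.S15987
import Mathlib

set_option autoImplicit false
universe u v
open Deform

namespace Groth.Agent.S15987

open TrivSqZeroExt

section aux
variable (k : Type u) [Field k] (A : Type u) [CommRing A] [Algebra k A]

/-- The algebra endomorphism `a + bε ↦ a + (b + D a) ε`. -/
noncomputable def shear (D : Derivation k A A) : DualNumber A →ₐ[k] DualNumber A :=
  AlgHom.ofLinearMap
    (LinearMap.id + ((inrHom A A).restrictScalars k).comp
      (D.toLinearMap.comp (fstHom k A A).toLinearMap))
    (by
      apply TrivSqZeroExt.ext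
      · simp
      · simp)
    (by
      intro x y
      apply TrivSqZeroExt.ext
      · simp
      · simp [DualNumber.snd_mul]
        ring)

variable {k A}

theorem shear_apply (D : Derivation k A A) (x : DualNumber A) :
    shear k A D x = x + inr (D x.fst) := rfl

theorem shear_comp (D E : Derivation k A A) (x : DualNumber A) :
    shear k A D (shear k A E x) = shear k A (D + E) x := by
  rw [shear_apply, shear_apply, shear_apply]
  apply TrivSqZeroExt.ext
  · simp
  · simp [add_comm, add_left_comm]

theorem shear_zero (x : DualNumber A) : shear k A (0 : Derivation k A A) x = x := by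
  rw [shear_apply]; simp

noncomputable def shearEquiv (D : Derivation k A A) : DualNumber A ≃ₐ[k] DualNumber A :=
  AlgEquiv.ofAlgHom (shear k A D) (shear k A (-D))
    (by ext x <;> simp [shear_comp, shear_zero])
    (by ext x <;> simp [shear_comp, shear_zero])

theorem shearEquiv_apply (D : Derivation k A A) (x : DualNumber A) :
    shearEquiv D x = x + inr (D x.fst) := rfl

end aux

open TrivSqZeroExt in
/-- Let k be a field, A a commutative k-algebra and q_i : A → k (i ∈ ι) k-algebra maps (marked k-points
of Spec A). The k-algebra automorphisms φ of the ring of dual numbers A[ε] that fix ε (so are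
k[ε]-linear), are the identity modulo ε, and satisfy q_i((φ x)_ε) = q_i(x_ε) for all i and x
(compatibility with the trivial lifts A[ε] → k[ε] of the marked points) are in bijection with the
k-derivations D : A → A such that q_i ∘ D = 0 for every i, the bijection sending φ to a ↦ (φ(a))_ε.
(The source identifies the right-hand side with the global vector fields vanishing at the marked
points; the condition the computation yields is q_i ∘ D = 0, which is the same for Spec A smooth
over k but is weaker in general, e.g. for A = k[x]/(x^2) with 2 invertible in k.) -/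
theorem result
    (k : Type u) [Field k] (A : Type u) [CommRing A] [Algebra k A] {ι : Type v} (q : ι → (A →ₐ[k] k)) :
    ∃ e : {φ : DualNumber A ≃ₐ[k] DualNumber A //
            φ DualNumber.eps = DualNumber.eps ∧ (∀ x, (φ x).fst = x.fst) ∧
              ∀ i x, q i (φ x).snd = q i x.snd} ≃
          {D : Derivation k A A // ∀ i a, q i (D a) = 0},
      ∀ φ (a : A), (e φ).1 a = (φ.1 (inl a : DualNumber A)).snd := by
  classical
  -- the derivation attached to φ
  have hφ : ∀ (φ : DualNumber A ≃ₐ[k] DualNumber A), (∀ x, (φ x).fst = x.fst) →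
      ∀ a : A, φ (inl a) = inl a + inr ((φ (inl a)).snd) := by
    intro φ h a
    apply TrivSqZeroExt.ext
    · rw [h]; simp
    · simp
  let toD : {φ : DualNumber A ≃ₐ[k] DualNumber A //
            φ DualNumber.eps = DualNumber.eps ∧ (∀ x, (φ x).fst = x.fst) ∧
              ∀ i x, q i (φ x).snd = q i x.snd} → {D : Derivation k A A // ∀ i a, q i (D a) = 0} :=
    fun φ => ⟨Derivation.mk'
      ((sndHom A A).restrictScalars k ∘ₗ φ.1.toLinearMap ∘ₗ (inlAlgHom k A A).toLinearMap)
      (by
        intro a b
        have h1 := hφ φ.1 φ.2.2.1 a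
        have h2 := hφ φ.1 φ.2.2.1 b
        simp only [LinearMap.coe_comp, Function.comp_apply, LinearMap.coe_restrictScalars,
          AlgHom.toLinearMap_apply, AlgEquiv.toLinearMap_apply, inlAlgHom_apply, sndHom_apply]
        rw [inl_mul, map_mul, DualNumber.snd_mul, φ.2.2.1, φ.2.2.1]
        simp only [fst_inl, smul_eq_mul]
        ring),
      by
        intro i a
        have := φ.2.2.2 i (inl a)
        simpa using this⟩
  have htoD : ∀ φ a, (toD φ).1 a = (φ.1 (inl a : DualNumber A)).snd := fun φ a => rfl
  let ofD : {D : Derivation k A A // ∀ i a, q i (D a) = 0} → {φ : DualNumber A ≃ₐ[k] DualNumber A //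
            φ DualNumber.eps = DualNumber.eps ∧ (∀ x, (φ x).fst = x.fst) ∧
              ∀ i x, q i (φ x).snd = q i x.snd} :=
    fun D => ⟨shearEquiv D.1, by
      refine ⟨?_, ?_, ?_⟩
      · rw [shearEquiv_apply]; simp
      · intro x; rw [shearEquiv_apply]; simp
      · intro i x; rw [shearEquiv_apply]; simp [D.2]⟩
  refine ⟨⟨toD, ofD, ?_, ?_⟩, htoD⟩
  · intro φ
    apply Subtype.ext
    apply AlgEquiv.ext
    intro x
    show shearEquiv (toD φ).1 x = φ.1 x
    rw [shearEquiv_apply, htoD]
    have hx : x = inl x.fst + inl x.snd * DualNumber.eps := by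
      apply TrivSqZeroExt.ext <;> simp [DualNumber.snd_mul]
    have h1 := hφ φ.1 φ.2.2.1 x.fst
    have h2 := hφ φ.1 φ.2.2.1 x.snd
    conv_rhs => rw [hx, map_add, map_mul, φ.2.1, h1]
    apply TrivSqZeroExt.ext
    · simp [φ.2.2.1]
    · simp [DualNumber.snd_mul, φ.2.2.1]
      ring
  · intro D
    apply Subtype.ext
    apply Derivation.ext
    intro a
    rw [htoD]
    show (shearEquiv D.1 (inl a)).snd = D.1 a
    rw [shearEquiv_apply]; simp

end Groth.Agent.S15987
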