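import Groth.Statements.S16001
import Mathlib

set_option autoImplicit false
universe u
open FrobAlg

namespace Groth.Agent.S16001

/-- Let A be a commutative ring of prime characteristic p and B a commutative A-algebra of
characteristic p such that the relative Frobenius B ⊗_{A,Frob} A → B, b ⊗ a ↦ b^p a, is bijective
(that is, Spec B → Spec A is relatively perfect; no finiteness condition is imposed). Then B is
formally étale over A. (The source proves that every perfect algebraic stack over an algebraic space
of characteristic p is formally étale over it; this is the case of an affine scheme over an affine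
base.) -/
theorem result (p : ℕ) [Fact p.Prime] (A : Type u) [CommRing A] [CharP A p]
    (B : Type u) [CommRing B] [Algebra A B] [CharP B p]
    (h : Function.Bijective (FrobAlg.relFrob p A B)) : Algebra.FormallyEtale A B := by
  have hp : p.Prime := Fact.out
  rw [Algebra.FormallyEtale.iff_comp_bijective]
  intro C _ _ I hI
  have hW : ∀ (b : B) (a : FrobAlg.Twist p A), FrobAlg.relFrob p A B (TensorProduct.tmul A b a) =
      b ^ p * algebraMap A B ((FrobAlg.toTwist p A).symm a) := fun b a => rfl
  rcases subsingleton_or_nontrivial C with hC | hC
  · constructor
    · intro f g _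
      ext b; exact Subsingleton.elim _ _
    · intro g
      refine ⟨{ toFun := fun _ => 0, map_one' := Subsingleton.elim _ _,
                map_mul' := fun _ _ => Subsingleton.elim _ _, map_zero' := rfl,
                map_add' := fun _ _ => Subsingleton.elim _ _,
                commutes' := fun _ => Subsingleton.elim _ _ }, ?_⟩
      ext b
      obtain ⟨c, hc⟩ := Ideal.Quotient.mk_surjective (g b)
      rw [← hc]
      exact congrArg (Ideal.Quotient.mk I) (Subsingleton.elim _ c)
  · have hpC : (p : C) = 0 := by
      have := congrArg (algebraMap A C) (CharP.cast_eq_zero A p)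
      rwa [map_natCast, map_zero] at this
    have : CharP C p := ringChar.of_eq (CharP.ringChar_of_prime_eq_zero hp hpC)
    have hker : ∀ x ∈ I, FrobAlg.frobHom p A C x = 0 := by
      intro x hx
      have h2 : x ^ 2 = 0 := by
        have := Ideal.pow_mem_pow hx 2
        rw [hI] at this
        exact this
      show FrobAlg.toTarget p A C (frobenius C p x) = 0
      rw [frobenius_def, pow_eq_zero_of_le hp.two_le h2, map_zero]
    let φ : C ⧸ I →ₐ[A] FrobAlg.Target p A C :=
      Ideal.Quotient.liftₐ I (FrobAlg.frobHom p A C) hker
    have hφ : ∀ c : C, φ (Ideal.Quotient.mk I c) = FrobAlg.toTarget p A C (c ^ p) := fun c => rfl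
    constructor
    · intro f g hfg
      have hpow : ∀ b, f b ^ p = g b ^ p := by
        intro b
        have h1 : Ideal.Quotient.mk I (f b) = Ideal.Quotient.mk I (g b) := AlgHom.congr_fun hfg b
        have h2 := congrArg φ h1
        rw [hφ, hφ] at h2
        exact (FrobAlg.toTarget p A C).injective h2
      ext b
      obtain ⟨t, rfl⟩ := h.2 b
      induction t using TensorProduct.induction_on with
      | zero => rw [map_zero, map_zero, map_zero]
      | tmul b a =>
        rw [hW, map_mul, map_mul, map_pow, map_pow, AlgHom.commutes, AlgHom.commutes, hpow]
      | add x y hx hy => rw [map_add, map_add, map_add, hx, hy]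
    · intro g
      let f1 : B →ₐ[A] FrobAlg.Target p A C := φ.comp g
      let h' : FrobAlg.BaseChange p A B →ₐ[A] FrobAlg.Target p A C :=
        Algebra.TensorProduct.lift f1 (FrobAlg.inclHom p A C) (fun _ _ => Commute.all _ _)
      let e : FrobAlg.BaseChange p A B ≃+* B := RingEquiv.ofBijective (FrobAlg.relFrob p A B) h
      let G : B →+* C := ((FrobAlg.toTarget p A C).symm : FrobAlg.Target p A C →+* C).comp
        (h'.toRingHom.comp (e.symm : B →+* FrobAlg.BaseChange p A B))
      have hG : ∀ t, G (FrobAlg.relFrob p A B t) = (FrobAlg.toTarget p A C).symm (h' t) := by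
        intro t
        show (FrobAlg.toTarget p A C).symm (h' (e.symm (e t))) = _
        rw [RingEquiv.symm_apply_apply]
      refine ⟨{ toRingHom := G, commutes' := ?_ }, ?_⟩
      · intro a
        have h1 : algebraMap A B a =
            FrobAlg.relFrob p A B (TensorProduct.tmul A (1 : B) (FrobAlg.toTwist p A a)) := by
          rw [hW, one_pow, one_mul, RingEquiv.symm_apply_apply]
        show G (algebraMap A B a) = algebraMap A C a
        rw [h1, hG]
        show (FrobAlg.toTarget p A C).symm
          (f1 1 * FrobAlg.inclHom p A C (FrobAlg.toTwist p A a)) = _
        rw [map_one, one_mul]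
        rfl
      · ext b
        obtain ⟨t, rfl⟩ := h.2 b
        show Ideal.Quotient.mk I (G (FrobAlg.relFrob p A B t)) = g (FrobAlg.relFrob p A B t)
        rw [hG]
        induction t using TensorProduct.induction_on with
        | zero => simp
        | tmul b a =>
          rw [hW, map_mul, map_pow, AlgHom.commutes]
          show Ideal.Quotient.mk I ((FrobAlg.toTarget p A C).symm
            (f1 b * FrobAlg.inclHom p A C a)) = _
          obtain ⟨c, hc⟩ := Ideal.Quotient.mk_surjective (g b)
          have hf1 : f1 b = FrobAlg.toTarget p A C (c ^ p) := by
            show φ (g b) = _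
            rw [← hc, hφ]
          rw [hf1, map_mul, RingEquiv.symm_apply_apply, map_mul, map_pow, hc]
          rfl
        | add x y hx hy => simp only [map_add, hx, hy]

end Groth.Agent.S16001
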