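import Groth.Statements.S16014
import Mathlib.Tactic

set_option autoImplicit false
universe u
open W4c3ghconstell

namespace Groth.Agent.S16014

/-- Let B = ⊕_{n ∈ ℤ} ⊕_τ B^n_τ be a bigraded finite-dimensional vector space, τ running over a finite
index set, with B^n = 0 for n < −N and for n > M (N, M integers); put d(n, τ) = dim B^n_τ. For
rational numbers φ_τ write φ(C) = Σ_τ φ_τ dim C_τ for a τ-graded piece C, and let B^{≥n} = ⊕_{m ≥ n}
B^m, so that dim B^{≥n}_τ = Σ_{n ≤ m ≤ M} d(m, τ). Then Σ_{−N ≤ n ≤ M} n · φ(B^n) = Σ_{−N+1 ≤ n ≤ M}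
φ(B^{≥n}) − N · φ(B). (Stated directly on the dimension function d.) -/
theorem result {τ : Type u} [Fintype τ] (d : ℤ → τ → ℕ) (φ : τ → ℚ) (N M : ℤ)
    (hN : ∀ n, n < -N → d n = 0) (hM : ∀ n, M < n → d n = 0) :
    ∑ n ∈ Finset.Icc (-N) M, (n : ℚ) * (∑ t, φ t * (d n t : ℚ)) =
      ∑ n ∈ Finset.Icc (-N + 1) M, (∑ t, φ t * (∑ m ∈ Finset.Icc n M, (d m t : ℚ))) -
        (N : ℚ) * (∑ t, φ t * (∑ m ∈ Finset.Icc (-N) M, (d m t : ℚ))) := by
  have key : ∀ a : ℤ → ℚ, ∑ n ∈ Finset.Icc (-N + 1) M, ∑ m ∈ Finset.Icc n M, a m =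
      ∑ m ∈ Finset.Icc (-N) M, ((m : ℚ) + N) * a m := by
    intro a
    rw [Finset.sum_comm' (t' := Finset.Icc (-N) M) (s' := fun m => Finset.Icc (-N + 1) m)]
    · apply Finset.sum_congr rfl
      intro m hm
      rw [Finset.mem_Icc] at hm
      rw [Finset.sum_const, Int.card_Icc, nsmul_eq_mul]
      congr 1
      have : (m + 1 - (-N + 1)).toNat = ((m + N).toNat) := by congr 1; ring
      rw [this]
      have h0 : 0 ≤ m + N := by omega
      have : ((m + N).toNat : ℤ) = m + N := Int.toNat_of_nonneg h0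
      have h2 : (((m + N).toNat : ℤ) : ℚ) = ((m + N : ℤ) : ℚ) := by rw [this]
      push_cast at h2
      exact h2
    · intro n m
      simp only [Finset.mem_Icc]
      omega
  have e1 : ∀ n : ℤ, (n : ℚ) * (∑ t, φ t * (d n t : ℚ)) = ∑ t, φ t * ((n : ℚ) * (d n t : ℚ)) := by
    intro n; rw [Finset.mul_sum]; apply Finset.sum_congr rfl; intro t _; ring
  simp_rw [e1]
  rw [Finset.sum_comm, Finset.sum_comm (s := Finset.Icc (-N + 1) M), Finset.mul_sum, ← Finset.sum_sub_distrib]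
  apply Finset.sum_congr rfl
  intro t _
  have k := key (fun m => (d m t : ℚ))
  have h3 : ∑ m ∈ Finset.Icc (-N) M, ((m : ℚ) + N) * (d m t : ℚ) = ∑ m ∈ Finset.Icc (-N) M, (m : ℚ) * (d m t : ℚ) + N * ∑ m ∈ Finset.Icc (-N) M, (d m t : ℚ) := by
    rw [Finset.mul_sum, ← Finset.sum_add_distrib]; apply Finset.sum_congr rfl; intros; ring
  simp only [← Finset.mul_sum]
  beta_reduce at k
  rw [k, h3]
  ring

end Groth.Agent.S16014
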