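import Groth.Statements.S16015
import Mathlib.Tactic
import Mathlib.RingTheory.Finiteness.Projective
import Mathlib.LinearAlgebra.TensorProduct.Pi
import Mathlib.RingTheory.Ideal.Quotient.Operations

set_option autoImplicit false
universe u v w
open W4c3ghconstell

namespace Groth.Agent.S16015

/-- Let B be a commutative ring, E a B-module, F a finitely generated projective B-module and β : E → F
a B-linear map. Then there is a unique ideal I of B such that for every commutative B-algebra C the
base change β_C : C ⊗ E → C ⊗ F is zero if and only if the structure map B → C kills I. (The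
published statement is for a homomorphism of modules on a scheme T into a locally free module and
produces a closed subscheme T₀ through which a morphism factors exactly when the pulled-back
homomorphism vanishes; this row is the case of an affine T with affine test schemes and F of finite
rank, to which it reduces.) -/
theorem result {B : Type u} [CommRing B]
    {E : Type v} [AddCommGroup E] [Module B E]
    {F : Type w} [AddCommGroup F] [Module B F] [Module.Finite B F] [Module.Projective B F]
    (β : E →ₗ[B] F) :
    ∃! I : Ideal B, ∀ (C : Type u) [CommRing C] [Algebra B C],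
      LinearMap.baseChange C β = 0 ↔ I ≤ RingHom.ker (algebraMap B C) := by
  classical
  obtain ⟨n, f, g, hf, hg, hfg⟩ := Module.Finite.exists_comp_eq_id_of_projective B F
  let I : Ideal B := Ideal.span {b | ∃ (e : E) (j : Fin n), b = g (β e) j}
  have key : ∀ (C : Type u) [CommRing C] [Algebra B C],
      LinearMap.baseChange C β = 0 ↔ I ≤ RingHom.ker (algebraMap B C) := by
    intro C _ _
    have h1 : LinearMap.baseChange C β = 0 ↔ LinearMap.baseChange C (g ∘ₗ β) = 0 := by
      rw [LinearMap.baseChange_comp]
      constructor
      · intro h; rw [h, LinearMap.comp_zero]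
      · intro h
        have : LinearMap.baseChange C (f ∘ₗ g) ∘ₗ LinearMap.baseChange C β = 0 := by
          rw [LinearMap.baseChange_comp, LinearMap.comp_assoc, h, LinearMap.comp_zero]
        rwa [hfg, LinearMap.baseChange_id, LinearMap.id_comp] at this
    rw [h1]
    constructor
    · intro h
      rw [Ideal.span_le]
      rintro b ⟨e, j, rfl⟩
      have h2 := LinearMap.congr_fun h ((1 : C) ⊗ₜ[B] e)
      simp only [LinearMap.baseChange_tmul, LinearMap.zero_apply, LinearMap.comp_apply] at h2
      have h3 := congrArg (TensorProduct.piScalarRight B C C (Fin n)) h2
      rw [TensorProduct.piScalarRight_apply, TensorProduct.piScalarRightHom_tmul, map_zero] at h3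
      have h4 := congrFun h3 j
      simp only [Pi.zero_apply] at h4
      rw [SetLike.mem_coe, RingHom.mem_ker, Algebra.algebraMap_eq_smul_one]
      exact h4
    · intro h
      apply LinearMap.ext
      intro x
      induction x using TensorProduct.induction_on with
      | zero => simp
      | tmul c e =>
        simp only [LinearMap.baseChange_tmul, LinearMap.zero_apply, LinearMap.comp_apply]
        apply (TensorProduct.piScalarRight B C C (Fin n)).injective
        rw [TensorProduct.piScalarRight_apply, TensorProduct.piScalarRightHom_tmul, map_zero]
        funext j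
        have hmem : g (β e) j ∈ I := Ideal.subset_span ⟨e, j, rfl⟩
        have := h hmem
        rw [RingHom.mem_ker] at this
        simp only [Pi.zero_apply]
        rw [Algebra.smul_def, this, zero_mul]
      | add x y hx hy => rw [map_add, hx, hy]; simp
  refine ⟨I, key, ?_⟩
  intro I' hI'
  apply le_antisymm
  · have h3 : LinearMap.baseChange (B ⧸ I) β = 0 := (key (B ⧸ I)).mpr (by
      rw [Ideal.Quotient.algebraMap_eq, Ideal.mk_ker])
    have h4 := (hI' (B ⧸ I)).mp h3
    rwa [Ideal.Quotient.algebraMap_eq, Ideal.mk_ker] at h4
  · have h3 : LinearMap.baseChange (B ⧸ I') β = 0 := (hI' (B ⧸ I')).mpr (by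
      rw [Ideal.Quotient.algebraMap_eq, Ideal.mk_ker])
    have h4 := (key (B ⧸ I')).mp h3
    rwa [Ideal.Quotient.algebraMap_eq, Ideal.mk_ker] at h4

end Groth.Agent.S16015
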