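import Groth.Statements.S16016
import Mathlib

set_option autoImplicit false
universe u
open W4c3ghconstell

namespace Groth.Agent.S16016

/-- Let k be a field with 2 ≠ 0, index k⁶ by two copies of {0,1,2} (basis vectors p₁, p₂, p₃ in the
first copy and p₄, p₅, p₆ in the second), let Q be the symmetric matrix with blocks ((0, 1), (1,
0)), so that the form it defines pairs pᵢ with pᵢ₊₃, and let W₀ be the span of p₁ and p₂. Then a 6 ×
6 matrix A satisfies AᵀQ + QA = 0 (A lies in the orthogonal Lie algebra of Q) and has the image of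
Aᵀ contained in W₀ if and only if A = a · (E₄₂ − E₅₁) for some scalar a, where Eᵢⱼ is the matrix
unit. (The lemma in the source concludes that the set of such A inside a certain nilpotent orbit
closure of this Lie algebra is one-dimensional; this row is the computation its proof performs,
which determines all such A in the Lie algebra. Characteristic 2 is excluded: there E₁₄ᵀ also
qualifies.) -/
theorem result (k : Type u) [Field k] (h2 : (2 : k) ≠ 0)
    (A : Matrix (Fin 3 ⊕ Fin 3) (Fin 3 ⊕ Fin 3) k) :
    (A.transpose * Matrix.fromBlocks (0 : Matrix (Fin 3) (Fin 3) k) 1 1 0 +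
        Matrix.fromBlocks (0 : Matrix (Fin 3) (Fin 3) k) 1 1 0 * A = 0 ∧
      LinearMap.range (Matrix.mulVecLin A.transpose) ≤
        Submodule.span k {Pi.single (Sum.inl 0 : Fin 3 ⊕ Fin 3) (1 : k), Pi.single (Sum.inl 1 : Fin 3 ⊕ Fin 3) (1 : k)}) ↔
    ∃ a : k, A = a • (Matrix.single (Sum.inr 0) (Sum.inl 1) (1 : k) - Matrix.single (Sum.inr 1) (Sum.inl 0) (1 : k)) := by
  constructor
  · rintro ⟨h1, h2'⟩
    have hcol : ∀ i j, j ≠ Sum.inl 0 → j ≠ Sum.inl 1 → A i j = 0 := by
      intro i j hj0 hj1
      have hm : Matrix.mulVecLin A.transpose (Pi.single i 1) ∈ Submodule.span k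
          {Pi.single (Sum.inl 0 : Fin 3 ⊕ Fin 3) (1 : k), Pi.single (Sum.inl 1 : Fin 3 ⊕ Fin 3) (1 : k)} :=
        h2' ⟨_, rfl⟩
      rw [Submodule.mem_span_pair] at hm
      obtain ⟨c, d, hcd⟩ := hm
      have := congrFun hcd j
      simp only [Pi.add_apply, Pi.smul_apply, Pi.single_apply, hj0, hj1, if_false, smul_zero,
        add_zero, Matrix.mulVecLin_apply, Matrix.mulVec_single_one, Matrix.transpose_apply,
        Matrix.col_apply] at this
      exact this.symm
    have hE : ∀ i j, (A.transpose * Matrix.fromBlocks (0 : Matrix (Fin 3) (Fin 3) k) 1 1 0 +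
        Matrix.fromBlocks (0 : Matrix (Fin 3) (Fin 3) k) 1 1 0 * A :
          Matrix (Fin 3 ⊕ Fin 3) (Fin 3 ⊕ Fin 3) k) i j = 0 := by
      intro i j; rw [h1]; rfl
    have E11 : ∀ a b : Fin 3, A (Sum.inr b) (Sum.inl a) + A (Sum.inr a) (Sum.inl b) = 0 := by
      intro a b
      have := hE (Sum.inl a) (Sum.inl b)
      simpa [Matrix.mul_apply, Fintype.sum_sum_type, Matrix.one_apply] using this
    have E12 : ∀ a b : Fin 3, A (Sum.inl b) (Sum.inl a) + A (Sum.inr a) (Sum.inr b) = 0 := by
      intro a b
      have := hE (Sum.inl a) (Sum.inr b)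
      simpa [Matrix.mul_apply, Fintype.sum_sum_type, Matrix.one_apply] using this
    have hrr : ∀ a b : Fin 3, A (Sum.inr a) (Sum.inr b) = 0 := fun a b => hcol _ _ (by simp) (by simp)
    have hlr : ∀ a b : Fin 3, A (Sum.inl a) (Sum.inr b) = 0 := fun a b => hcol _ _ (by simp) (by simp)
    have hll : ∀ a b : Fin 3, A (Sum.inl a) (Sum.inl b) = 0 := by
      intro a b
      have := E12 b a
      rw [hrr, add_zero] at this
      exact this
    have hc2 : ∀ a : Fin 3, A (Sum.inr a) (Sum.inl 2) = 0 := fun a => hcol _ _ (by decide) (by decide)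
    have h2c : ∀ a : Fin 3, A (Sum.inr 2) (Sum.inl a) = 0 := by
      intro a
      have := E11 a 2
      rw [hc2, add_zero] at this
      exact this
    have hdiag : ∀ a : Fin 3, A (Sum.inr a) (Sum.inl a) = 0 := by
      intro a
      have := E11 a a
      have h3 : (2 : k) * A (Sum.inr a) (Sum.inl a) = 0 := by linear_combination this
      rcases mul_eq_zero.mp h3 with h | h
      · exact absurd h h2
      · exact h
    have h10 : A (Sum.inr 1) (Sum.inl 0) = - A (Sum.inr 0) (Sum.inl 1) := by
      have := E11 0 1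
      linear_combination this
    refine ⟨A (Sum.inr 0) (Sum.inl 1), ?_⟩
    ext i j
    rcases i with a | a <;> rcases j with b | b
    · simp [hll, Matrix.single_apply]
    · simp [hlr, Matrix.single_apply]
    · fin_cases a <;> fin_cases b <;>
        simp [Matrix.single_apply, hdiag, hc2, h2c, h10]
    · simp [hrr, Matrix.single_apply]
  · rintro ⟨a, rfl⟩
    constructor
    · ext i j
      rcases i with i | i <;> rcases j with j | j <;> fin_cases i <;> fin_cases j <;>
        simp [Matrix.mul_apply, Fintype.sum_sum_type, Fin.sum_univ_three, Matrix.single_apply,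
          Matrix.one_apply]
    · rintro _ ⟨v, rfl⟩
      rw [Submodule.mem_span_pair]
      refine ⟨-a * v (Sum.inr 1), a * v (Sum.inr 0), ?_⟩
      ext j
      rcases j with j | j <;> fin_cases j <;>
        simp [Matrix.mulVec, dotProduct, Fintype.sum_sum_type, Fin.sum_univ_three,
          Matrix.single_apply, Pi.single_apply]

end Groth.Agent.S16016
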