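import Groth.Statements.S16017
import Mathlib

set_option autoImplicit false
universe u
open W4c3ghconstell

namespace Groth.Agent.S16017

/-- Let ι index the irreducible representations, θ : ι → ℚ a weight negative at only finitely many
indices (the finite set D₋), h h' : ι → ℕ with h' ≤ h pointwise (the isotypic dimensions of an
object and of a sub-object) and Σ_i θ_i h_i summable. For a finite set D of indices put S_D = Σ_{i ∉
D} θ_i h_i, d = #(D ∖ D₋), and θ̃_D = Σ_{i ∈ D} θ_i h'_i + (S_D / d) · Σ_{i ∈ D ∖ D₋} h'_i / h_i,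
the modified weight attached to the parameters chosen for D (for D ⊇ D₋ the first sum is the
negative part plus the part over D ∖ D₋). Then θ̃_D tends to Σ_i θ_i h'_i as D grows through the
finite subsets of ι. (Here D runs over all finite sets of indices and a quotient by zero is zero;
the source lets D run over the finite subsets of the locus θ ≠ 0 containing D₋, and the same tail
estimate gives both.) -/
theorem result {ι : Type u} [DecidableEq ι] (θ : ι → ℚ) (h h' : ι → ℕ)
    (hle : ∀ i, h' i ≤ h i) (hfin : {i | θ i < 0}.Finite)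
    (hsum : Summable (fun i => (θ i : ℝ) * (h i : ℝ))) :
    Filter.Tendsto
      (fun D : Finset ι =>
        (∑ i ∈ D, (θ i : ℝ) * (h' i : ℝ)) +
          ((∑' i, if i ∈ D then (0 : ℝ) else (θ i : ℝ) * (h i : ℝ)) / ((D \ hfin.toFinset).card : ℝ)) *
            ∑ i ∈ D \ hfin.toFinset, ((h' i : ℝ) / (h i : ℝ)))
      Filter.atTop (nhds (∑' i, (θ i : ℝ) * (h' i : ℝ))) := by
  classical
  set a : ι → ℝ := fun i => (θ i : ℝ) * (h i : ℝ) with ha
  set b : ι → ℝ := fun i => (θ i : ℝ) * (h' i : ℝ) with hb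
  have hab : ∀ i, ‖b i‖ ≤ |a i| := by
    intro i
    simp only [ha, hb, Real.norm_eq_abs, abs_mul]
    apply mul_le_mul_of_nonneg_left _ (abs_nonneg _)
    rw [abs_of_nonneg (Nat.cast_nonneg _), abs_of_nonneg (Nat.cast_nonneg _)]
    exact_mod_cast hle i
  have hbsum : Summable b := Summable.of_norm_bounded (hsum.abs) hab
  have h1 : Filter.Tendsto (fun D : Finset ι => ∑ i ∈ D, b i) Filter.atTop (nhds (∑' i, b i)) :=
    hbsum.hasSum
  have hS : ∀ D : Finset ι, (∑' i, if i ∈ D then (0:ℝ) else a i) = (∑' i, a i) - ∑ i ∈ D, a i := by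
    intro D
    have e1 : (fun i => if i ∈ D then (0:ℝ) else a i) = fun i => a i - (if i ∈ D then a i else 0) := by
      funext i; split_ifs <;> simp
    have hfs : Summable (fun i => if i ∈ D then a i else 0) := by
      apply summable_of_ne_finset_zero (s := D)
      intro i hi; exact if_neg hi
    rw [e1, Summable.tsum_sub hsum hfs, tsum_eq_sum (s := D) (fun i hi => if_neg hi)]
    congr 1
    apply Finset.sum_congr rfl
    intro i hi; exact if_pos hi
  have h2 : Filter.Tendsto (fun D : Finset ι => |(∑' i, if i ∈ D then (0:ℝ) else a i)|)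
      Filter.atTop (nhds 0) := by
    have h20 : Filter.Tendsto (fun D : Finset ι => (∑' i, a i) - ∑ i ∈ D, a i) Filter.atTop
        (nhds ((∑' i, a i) - ∑' i, a i)) :=
      tendsto_const_nhds.sub hsum.hasSum
    rw [sub_self] at h20
    have h21 := h20.abs
    rw [abs_zero] at h21
    simpa only [hS] using h21
  have h3 : Filter.Tendsto (fun D : Finset ι =>
      ((∑' i, if i ∈ D then (0 : ℝ) else a i) / ((D \ hfin.toFinset).card : ℝ)) *
            ∑ i ∈ D \ hfin.toFinset, ((h' i : ℝ) / (h i : ℝ))) Filter.atTop (nhds 0) := by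
    apply squeeze_zero_norm _ h2
    intro D
    set S := (∑' i, if i ∈ D then (0 : ℝ) else a i)
    set E := D \ hfin.toFinset
    have hW0 : 0 ≤ ∑ i ∈ E, ((h' i : ℝ) / (h i : ℝ)) :=
      Finset.sum_nonneg (fun i _ => div_nonneg (Nat.cast_nonneg _) (Nat.cast_nonneg _))
    have hW1 : ∑ i ∈ E, ((h' i : ℝ) / (h i : ℝ)) ≤ (E.card : ℝ) := by
      have := Finset.sum_le_card_nsmul E (fun i => (h' i : ℝ) / (h i : ℝ)) 1 (fun i _ =>
        div_le_one_of_le₀ (by exact_mod_cast hle i) (Nat.cast_nonneg _))
      simpa using this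
    rw [Real.norm_eq_abs, abs_mul, abs_div, abs_of_nonneg hW0,
      abs_of_nonneg (Nat.cast_nonneg _ : (0:ℝ) ≤ (E.card : ℝ))]
    by_cases hd : (E.card : ℝ) = 0
    · rw [hd, div_zero, zero_mul]; exact abs_nonneg _
    · calc |S| / (E.card : ℝ) * ∑ i ∈ E, ((h' i : ℝ) / (h i : ℝ))
            ≤ |S| / (E.card : ℝ) * (E.card : ℝ) :=
            mul_le_mul_of_nonneg_left hW1 (div_nonneg (abs_nonneg _) (Nat.cast_nonneg _))
        _ = |S| := div_mul_cancel₀ _ hd
  have h4 := h1.add h3
  rw [add_zero] at h4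
  exact h4

end Groth.Agent.S16017
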