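import Groth.Statements.S16018
import Mathlib
import Groth.Agent.H2.Constell

set_option autoImplicit false
universe u v w x
open W4c3ghconstell

namespace Groth.Agent.S16018

/-- Let k be an algebraically closed field of characteristic zero, A a commutative Hopf algebra over k
which is a finitely generated domain and linearly reductive (the coordinate ring of a connected
reductive group G; irreducible representations of G are indexed by the simple subcoalgebras D of A),
R a Noetherian commutative k-algebra with a multiplicative A-coaction (an affine G-scheme X = Spec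
R), and M an R-module with a compatible A-coaction (a G-equivariant quasi-coherent module on X)
which is finite over R, is the sum of its isotypic components M_D, and has dim_k M_D = h(D) < ∞ for
every simple subcoalgebra D. Fix a weight θ from simple subcoalgebras to ℚ, negative at only
finitely many D, with Σ_D θ(D) h(D) = 0 (a convergent real series) and with θ(D) ≠ 0, h(D) ≠ 0 for
some D; the weight of a k-subspace N of M is the real series Σ_D θ(D) · dim_k (N ∩ M_D). Assume
moreover that θ(D) ≠ 0 for every simple subcoalgebra D. If M is θ-semistable, i.e. M has weight 0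
and every R-submodule of M stable under the coaction has weight ≥ 0, then M is generated as an
R-module by its isotypic components M_D with θ(D) < 0 (the generation property of θ-stable objects
thus extends to θ-semistable ones when θ vanishes nowhere). (Multiplicities are recorded as
dimensions of isotypic components, a rescaling of θ.) -/
theorem result (k : Type u) [Field k] [IsAlgClosed k] [CharZero k]
    (A : Type v) [CommRing A] [IsDomain A] [HopfAlgebra k A] [Algebra.FiniteType k A]
    (hred : HopfRep.IsLinearlyReductive k A)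
    (R : Type w) [CommRing R] [Algebra k R] [IsNoetherianRing R] [HopfRep.Comod k A R] [GLin.IsCoactAlg k A R]
    (M : Type x) [AddCommGroup M] [Module k M] [Module R M] [IsScalarTower k R M]
    [HopfRep.Comod k A M] [TameAct.IsHopfMod k A R M]
    (h : W4c3ghconstell.SimpSub k A → ℕ) (θ : W4c3ghconstell.SimpSub k A → ℚ)
    (hfin : {D | θ D < 0}.Finite) (hsum : HasSum (fun D => (θ D : ℝ) * (h D : ℝ)) 0)
    (hne : ∃ D, θ D ≠ 0 ∧ h D ≠ 0)
    (hM : W4c3ghconstell.IsConstellation k A R M h)
    (hθ : ∀ D, θ D ≠ 0)
    (hss : W4c3ghconstell.IsThetaSemistable k A R M θ) :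
    W4c3ghconstell.genIn k A R M {D | θ D < 0} ⊤ = ⊤ := by
  classical
  obtain ⟨hMfin, hMsup, hMD⟩ := hM
  have hfin' : ∀ D : SimpSub k A, Module.Finite k ↥(isoComp M D.1) := fun D => (hMD D).1
  have hh : ∀ D : SimpSub k A, Module.finrank k ↥(isoComp M D.1) = h D := fun D => (hMD D).2
  have hsub : HopfRep.IsSubcomod (k := k) (A := A)
      ((genIn k A R M {D | θ D < 0} ⊤).restrictScalars k) :=
    Groth.Agent.H2.Constell.isSubcomod_genIn _ ⊤ Groth.Agent.H2.Constell.isSubcomod_top
  have hle : theta M θ ((genIn k A R M {D | θ D < 0} ⊤).restrictScalars k) ≤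
      theta M θ ((⊤ : Submodule R M).restrictScalars k) :=
    Groth.Agent.H2.Constell.theta_genIn_le hsum.summable hfin' hh ⊤
  rw [Submodule.restrictScalars_top, hss.1] at hle
  have hge := hss.2 _ hsub
  have hb : ∀ (P : Submodule k M) D, hilbAt M P D ≤ h D := by
    intro P D
    have := Groth.Agent.H2.Constell.hilbAt_mono hfin' (le_top : P ≤ ⊤) D
    rwa [Groth.Agent.H2.Constell.hilbAt_top, hh] at this
  have hterm : ∀ D, (θ D : ℝ) *
      (hilbAt M ((genIn k A R M {D | θ D < 0} ⊤).restrictScalars k) D : ℝ) ≤
      (θ D : ℝ) * (h D : ℝ) := by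
    intro D
    by_cases hD : θ D < 0
    · have : hilbAt M ((genIn k A R M {D | θ D < 0} ⊤).restrictScalars k) D = h D := by
        unfold hilbAt
        rw [Groth.Agent.H2.Constell.genIn_inf_eq _ ⊤ D hD, Submodule.restrictScalars_top,
          top_inf_eq, hh]
      rw [this]
    · have h0 : (0:ℝ) ≤ θ D := by
        have : (0:ℚ) ≤ θ D := not_lt.mp hD
        exact_mod_cast this
      exact mul_le_mul_of_nonneg_left (by exact_mod_cast hb _ D) h0
  have hs1 := Groth.Agent.H2.Constell.summable_theta hsum.summable
    (hb ((genIn k A R M {D | θ D < 0} ⊤).restrictScalars k))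
  have hall : ∀ D, (θ D : ℝ) *
      (hilbAt M ((genIn k A R M {D | θ D < 0} ⊤).restrictScalars k) D : ℝ) =
      (θ D : ℝ) * (h D : ℝ) := by
    intro D
    by_contra hne'
    have hlt := lt_of_le_of_ne (hterm D) hne'
    have h1 := Summable.tsum_lt_tsum
      (f := fun D => (θ D : ℝ) *
        (hilbAt M ((genIn k A R M {D | θ D < 0} ⊤).restrictScalars k) D : ℝ))
      (g := fun D => (θ D : ℝ) * (h D : ℝ)) hterm hlt hs1 hsum.summable
    rw [hsum.tsum_eq] at h1
    have h2 : theta M θ ((genIn k A R M {D | θ D < 0} ⊤).restrictScalars k) < 0 := h1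
    linarith
  have hD_le : ∀ D : SimpSub k A,
      isoComp M D.1 ≤ (genIn k A R M {D | θ D < 0} ⊤).restrictScalars k := by
    intro D
    have h1 : (hilbAt M ((genIn k A R M {D | θ D < 0} ⊤).restrictScalars k) D : ℝ) = (h D : ℝ) := by
      have hθ' : (θ D : ℝ) ≠ 0 := by exact_mod_cast hθ D
      exact mul_left_cancel₀ hθ' (hall D)
    have h2 : hilbAt M ((genIn k A R M {D | θ D < 0} ⊤).restrictScalars k) D = h D := by
      exact_mod_cast h1
    haveI := hfin' D
    have h3 : (genIn k A R M {D | θ D < 0} ⊤).restrictScalars k ⊓ isoComp M D.1 =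
        isoComp M D.1 :=
      Submodule.eq_of_le_of_finrank_eq inf_le_right (by unfold hilbAt at h2; rw [h2, hh])
    rw [← h3]; exact inf_le_left
  have htop : (⊤ : Submodule k M) ≤ (genIn k A R M {D | θ D < 0} ⊤).restrictScalars k := by
    rw [← hMsup]; exact iSup_le hD_le
  rw [eq_top_iff]
  intro m _
  exact htop trivial

end Groth.Agent.S16018
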