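import Groth.Statements.S16022
import Mathlib
import Groth.Agent.S16023
import Groth.Agent.S0941

set_option autoImplicit false
universe u
open CategoryTheory CategoryTheory.Limits Opposite
open CechEdge

namespace Groth.Agent.S16022

section helpers

open CategoryTheory CategoryTheory.Limits Opposite AlgebraicTopology Simplicial
  CategoryTheory.Abelian
open Groth.Agent.S0859 (hom_congr_apply PD Yc pr cochain_ext cochain_mk KK dK cmap cmap_inj Qf wh
  cmapS_pr_apply sec3)
open Groth.Agent.S16023 (psh_sec cechSES H0map_inj HUmap_inj e1_inj)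
open Groth.Agent.S0941 (Qs ext_vanish_coker)

variable {C : Type u} [SmallCategory C] [HasPullbacks C] {J : GrothendieckTopology C} {U : C}
  {ι : Type u} (Y : ι → Over U)

theorem lift_cochain_gen' {B D : Cᵒᵖ ⥤ AddCommGrpCat.{u}} (β : B ⟶ D) (n : ℕ)
    (hsurj : ∀ x : Fin (n + 1) → ι, Function.Surjective (β.app (op (PD Y n x).left)).hom)
    (q : (Yc Y (Qf D)).obj ⦋n⦌) :
    ∃ b : (Yc Y (Qf B)).obj ⦋n⦌, (cmap Y (wh β) n).hom b = q := by
  have hs : ∀ x : Fin (n + 1) → ι, ∃ t : B.obj (op (PD Y n x).left),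
      (β.app (op (PD Y n x).left)).hom t = (pr Y (Qf D) n x).hom q := fun x => hsurj x _
  choose t ht using hs
  obtain ⟨b, hb⟩ := cochain_mk Y (Qf B) n t
  refine ⟨b, cochain_ext Y (Qf D) n _ _ (fun x => ?_)⟩
  exact (cmapS_pr_apply Y β n x b).trans
    ((congrArg (β.app (op (PD Y n x).left)).hom (hb x)).trans (ht x))

omit [HasPullbacks C] in
theorem HUmap_bij {F G : Sheaf J AddCommGrpCat.{u}} (ψ : F ⟶ G) [IsIso ψ] (p : ℕ) (U : C) :
    Function.Bijective (CechEdge.HUmap ψ p U) := by
  refine ⟨HUmap_inj ψ p U, fun x => ?_⟩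
  have key : ∀ t : Ext.{u} (CohCx.freeSheaf J U) G p,
      (t.comp (Ext.mk₀ (inv ψ)) (add_zero p)).comp (Ext.mk₀ ψ) (add_zero p) = t := by
    intro t
    rw [Ext.comp_assoc _ _ _ (add_zero p) (add_zero 0) (by lia), Ext.mk₀_comp_mk₀,
      IsIso.inv_hom_id, Ext.comp_mk₀_id]
  exact ⟨(x : Ext.{u} (CohCx.freeSheaf J U) G p).comp (Ext.mk₀ (inv ψ)) (add_zero p), key x⟩

theorem e0_bij (J : GrothendieckTopology C) {U : C} {ι : Type u} (Y : ι → Over U)
    (e : ∀ (P : Cᵒᵖ ⥤ AddCommGrpCat.{u}) (p : ℕ),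
      CohCx.cechH P Y p →+ CohSite.HU (CechEdge.shf J P) p U)
    (he : CechEdge.IsEdge J Y e) (F : Sheaf J AddCommGrpCat.{u}) :
    Function.Bijective (e F.obj 0) := by
  have hb := Groth.Agent.S16021.bij_of_sheaf Y F he.cover
  haveI : IsIso (toSheafify J F.obj) := isIso_toSheafify J F.property
  have hη : Function.Bijective ((toSheafify J F.obj).app (op U)).hom :=
    ConcreteCategory.bijective_of_isIso ((toSheafify J F.obj).app (op U))
  have hcomp : Function.Bijective (⇑(e F.obj 0) ∘ ⇑(CechEdge.toCech Y F.obj)) := by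
    have h1 : (⇑(e F.obj 0) ∘ ⇑(CechEdge.toCech Y F.obj)) =
        ⇑(CechEdge.sectH0 J U (CechEdge.shf J F.obj)) ∘
          ⇑((toSheafify J F.obj).app (op U)).hom := funext (fun s => he.zero F.obj s)
    rw [h1]
    exact (CechEdge.sectH0 J U (CechEdge.shf J F.obj)).bijective.comp hη
  exact (Function.Bijective.of_comp_iff _ hb).mp hcomp

theorem step (J : GrothendieckTopology C) {U : C} {ι : Type u} (Y : ι → Over U)
    (e : ∀ (P : Cᵒᵖ ⥤ AddCommGrpCat.{u}) (p : ℕ),
      CohCx.cechH P Y p →+ CohSite.HU (CechEdge.shf J P) p U)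
    (he : CechEdge.IsEdge J Y e) (p : ℕ) (F : Sheaf J AddCommGrpCat.{u}) (hQ : Qs J Y F)
    (ih : ∀ Z : Sheaf J AddCommGrpCat.{u}, Qs J Y Z → Function.Bijective (e Z.obj p)) :
    Function.Bijective (e F.obj (p + 1)) := by
  let S : ShortComplex (Sheaf J AddCommGrpCat.{u}) :=
    ShortComplex.mk _ _ (cokernel.condition (Injective.ι F))
  have hS : S.ShortExact :=
    { exact := ShortComplex.exact_of_g_is_cokernel _ (cokernelIsCokernel S.f) }
  haveI hI : Injective S.X₂ := (inferInstance : Injective (Injective.under F))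
  haveI hmono : Mono S.f.hom :=
    (inferInstance : Mono ((sheafToPresheaf J AddCommGrpCat.{u}).map S.f))
  let T : ShortComplex (Cᵒᵖ ⥤ AddCommGrpCat.{u}) :=
    ShortComplex.mk S.f.hom (cokernel.π S.f.hom) (cokernel.condition _)
  have hT : T.ShortExact :=
    { exact := ShortComplex.exact_of_g_is_cokernel _ (cokernelIsCokernel T.f) }
  have hC := cechSES Y T hT
  have hzero : S.f.hom ≫ S.g.hom = 0 := congrArg (fun φ : S.X₁ ⟶ S.X₃ => φ.hom) S.zero
  let m : T.X₃ ⟶ S.X₃.obj := cokernel.desc S.f.hom S.g.hom hzero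
  have hπm : cokernel.π S.f.hom ≫ m = S.g.hom := cokernel.π_desc _ _ _
  have hm : ∀ V : C, Function.Injective (m.app (op V)).hom := by
    intro V
    rw [injective_iff_map_eq_zero]
    intro t ht
    obtain ⟨b, rfl⟩ := (psh_sec T hT (op V)).2.2 t
    have e1 : (S.g.hom.app (op V)).hom b = 0 :=
      (hom_congr_apply (congrArg (fun φ => φ.app (op V)) hπm) b).symm.trans ht
    obtain ⟨a, ha⟩ := (sec3 S hS V).2 b e1
    rw [← ha]
    exact hom_congr_apply (congrArg (fun φ => φ.app (op V)) T.zero) a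
  have hZ : Qs J Y S.X₃ := fun n x q ε => ext_vanish_coker _ S hS hI q (hQ n x (q + 1)) ε
  have ihZ := ih S.X₃ hZ
  have hmsurj : ∀ (n : ℕ) (x : Fin (n + 1) → ι),
      Function.Surjective (m.app (op (PD Y n x).left)).hom := by
    intro n x z
    obtain ⟨b, hb⟩ := Groth.Agent.S0941.surj_of_ext1 S hS _ (hQ n x 0) z
    exact ⟨(T.g.app (op (PD Y n x).left)).hom b,
      (hom_congr_apply (congrArg (fun φ => φ.app (op (PD Y n x).left)) hπm) b).trans hb⟩
  have hφiso : ∀ n, IsIso (((CechEdge.cxFunctor Y).map m).f n) := fun n =>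
    (ConcreteCategory.isIso_iff_bijective _).mpr
      ⟨cmap_inj Y (wh m) (fun V => hm V.left) n, fun q => lift_cochain_gen' Y m n (hmsurj n) q⟩
  haveI : IsIso ((CechEdge.cxFunctor Y).map m) := HomologicalComplex.Hom.isIso_of_components _
  have hcm : Function.Bijective (CechEdge.cechHMap Y m p) := by
    haveI : IsIso (HomologicalComplex.homologyMap ((CechEdge.cxFunctor Y).map m) p) :=
      (inferInstance : IsIso ((HomologicalComplex.homologyFunctor AddCommGrpCat.{u}
        (ComplexShape.up ℕ) p).map ((CechEdge.cxFunctor Y).map m)))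
    exact ConcreteCategory.bijective_of_isIso
      (HomologicalComplex.homologyMap ((CechEdge.cxFunctor Y).map m) p)
  haveI : Presheaf.IsLocallyInjective J m :=
    Presheaf.isLocallyInjective_of_injective J m (fun X => hm X.unop)
  haveI : Presheaf.IsLocallySurjective J S.g.hom :=
    (Sheaf.isLocallySurjective_iff_epi' AddCommGrpCat.{u} S.g).mpr hS.epi_g
  haveI : Presheaf.IsLocallySurjective J m :=
    Presheaf.isLocallySurjective_of_isLocallySurjective_fac J hπm
  haveI : IsIso (CechEdge.shfMap J m) := (J.W_iff m).mp (J.W_of_isLocallyBijective m)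
  have hHm : Function.Bijective (CechEdge.HUmap (CechEdge.shfMap J m) p U) := HUmap_bij _ p U
  have heP : Function.Bijective (e T.X₃ p) := by
    have hsq : (⇑(CechEdge.HUmap (CechEdge.shfMap J m) p U) ∘ ⇑(e T.X₃ p)) =
        ⇑(e S.X₃.obj p) ∘ ⇑(CechEdge.cechHMap Y m p) :=
      funext (fun y => (he.natural T.X₃ S.X₃.obj m p y).symm)
    have h1 : Function.Bijective (⇑(CechEdge.HUmap (CechEdge.shfMap J m) p U) ∘ ⇑(e T.X₃ p)) := by
      rw [hsq]
      exact ihZ.comp hcm
    exact (Function.Bijective.of_comp_iff' hHm _).mp h1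
  have hIp : IsZero (CohCx.cechH S.X₂.obj Y (p + 1)) := Groth.Agent.S0858.main J S.X₂ Y p
  have hδs : ∀ x : CohCx.cechH F.obj Y (p + 1),
      ∃ y : CohCx.cechH T.X₃ Y p, (hC.δ p (p + 1) rfl).hom y = x := by
    intro x
    have hx1 : (HomologicalComplex.homologyMap ((T.map (CechEdge.cxFunctor Y)).f) (p + 1)).hom x
        = 0 :=
      hom_congr_apply (hIp.eq_of_tgt
        (HomologicalComplex.homologyMap ((T.map (CechEdge.cxFunctor Y)).f) (p + 1)) 0) x
    exact (ShortComplex.ab_exact_iff _).mp (hC.homology_exact₁ p (p + 1) rfl) x hx1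
  haveI hI' : Injective (CechEdge.shf J S.X₂.obj) :=
    Injective.of_iso (asIso ((sheafificationAdjunction J AddCommGrpCat.{u}).counit.app S.X₂)).symm
      hI
  have hw0 : ∀ (n : ℕ) (w : Ext.{u} (CohCx.freeSheaf J U) (CechEdge.shf J S.X₂.obj) (n + 1)),
      w = 0 := fun n w => Ext.eq_zero_of_injective w
  constructor
  · cases p with
    | zero => exact e1_inj J Y e he F
    | succ q =>
      rw [injective_iff_map_eq_zero]
      intro x hx
      obtain ⟨y, hy⟩ := hδs x
      have hd := he.delta T hT hC (q + 1) y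
      have hx' : CechEdge.extδ (hT.map_of_exact (presheafToSheaf J AddCommGrpCat.{u})) U (q + 1)
          (e T.X₃ (q + 1) y) = 0 :=
        hd.symm.trans ((congrArg (e T.X₁ (q + 1 + 1)) hy).trans hx)
      obtain ⟨w, hw⟩ := Ext.covariant_sequence_exact₃ (CohCx.freeSheaf J U)
        (hT.map_of_exact (presheafToSheaf J AddCommGrpCat.{u})) (e T.X₃ (q + 1) y) rfl hx'
      have hey : e T.X₃ (q + 1) y = 0 :=
        hw.symm.trans ((congrArg (fun t => Ext.comp t
          (Ext.mk₀ (T.map (presheafToSheaf J AddCommGrpCat.{u})).g) (add_zero (q + 1)))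
          (hw0 q w)).trans (Ext.zero_comp _ _ _ _ _))
      have hy0 : y = 0 := heP.1 (hey.trans (map_zero _).symm)
      exact hy.symm.trans ((congrArg (hC.δ (q + 1) (q + 1 + 1) rfl).hom hy0).trans (map_zero _))
  · intro v
    obtain ⟨u', hu⟩ := Ext.covariant_sequence_exact₁ (CohCx.freeSheaf J U)
      (hT.map_of_exact (presheafToSheaf J AddCommGrpCat.{u}))
      (v : Ext.{u} (CohCx.freeSheaf J U) (CechEdge.shf J F.obj) (p + 1)) (hw0 p _) rfl
    obtain ⟨y, hy⟩ := heP.2 u'
    refine ⟨(hC.δ p (p + 1) rfl).hom y, ?_⟩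
    have hd := he.delta T hT hC p y
    exact hd.trans ((congrArg (CechEdge.extδ
      (hT.map_of_exact (presheafToSheaf J AddCommGrpCat.{u})) U p) hy).trans hu)

theorem all_bij (J : GrothendieckTopology C) {U : C} {ι : Type u} (Y : ι → Over U)
    (e : ∀ (P : Cᵒᵖ ⥤ AddCommGrpCat.{u}) (p : ℕ),
      CohCx.cechH P Y p →+ CohSite.HU (CechEdge.shf J P) p U)
    (he : CechEdge.IsEdge J Y e) :
    ∀ (p : ℕ) (F : Sheaf J AddCommGrpCat.{u}), Qs J Y F → Function.Bijective (e F.obj p) := by
  intro p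
  induction p with
  | zero => intro F _; exact e0_bij J Y e he F
  | succ p ih => intro F hQ; exact step J Y e he p F hQ ih

theorem main (J : GrothendieckTopology C) {U : C} {ι : Type u} (Y : ι → Over U)
    (e : ∀ (P : Cᵒᵖ ⥤ AddCommGrpCat.{u}) (p : ℕ),
      CohCx.cechH P Y p →+ CohSite.HU (CechEdge.shf J P) p U)
    (he : CechEdge.IsEdge J Y e) (F : Sheaf J AddCommGrpCat.{u})
    (h : ∀ (p : ℕ) (a : Fin (p + 1) → ι) (q : ℕ),
      Subsingleton (CohSite.HU F (q + 1) (∏ᶜ fun k => Y (a k)).left))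
    (p : ℕ) : Function.Bijective (CechEdge.edgeSh e F p) := by
  have hcounit : Function.Bijective
      (CechEdge.HUmap ((sheafificationAdjunction J AddCommGrpCat.{u}).counit.app F) p U) :=
    HUmap_bij _ p U
  have h1 := all_bij J Y e he p F (fun n x q ε => @Subsingleton.elim _ (h n x q) ε 0)
  show Function.Bijective
    (⇑(CechEdge.HUmap ((sheafificationAdjunction J AddCommGrpCat.{u}).counit.app F) p U) ∘
      ⇑(e F.obj p))
  exact hcounit.comp h1

end helpers

/-- On a small site with fibre products, let a family of objects over U carry an edge family (in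
particular it covers U) and let F be an abelian sheaf whose cohomology in every positive degree
vanishes on every finite iterated fibre product over U of members of the family. Then for every p
the comparison map from the p-th Cech cohomology of F with respect to the family to H^p(U, F) is
bijective. -/
theorem result {C : Type u} [SmallCategory C] [HasPullbacks C]
    (J : GrothendieckTopology C) {U : C} {ι : Type u} (Y : ι → Over U)
    (e : ∀ (P : Cᵒᵖ ⥤ AddCommGrpCat.{u}) (p : ℕ), CohCx.cechH P Y p →+ CohSite.HU (CechEdge.shf J P) p U)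
    (he : CechEdge.IsEdge J Y e) (F : Sheaf J AddCommGrpCat.{u})
    (h : ∀ (p : ℕ) (a : Fin (p + 1) → ι) (q : ℕ),
      Subsingleton (CohSite.HU F (q + 1) (∏ᶜ fun k => Y (a k)).left))
    (p : ℕ) : Function.Bijective (CechEdge.edgeSh e F p) := by
  exact Groth.Agent.S16022.main J Y e he F h p

end Groth.Agent.S16022
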