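import Groth.Statements.S16024
import Mathlib
import Groth.Agent.S16020
import Groth.Agent.S0941

set_option autoImplicit false
universe u
open CategoryTheory CategoryTheory.Limits Opposite
open CechEdge

namespace Groth.Agent.S16024

section helpers

open CategoryTheory CategoryTheory.Limits Opposite AlgebraicTopology Simplicial
  CategoryTheory.Abelian
open Groth.Agent.S0859 (hom_congr_apply nat_res res_comp PD Yc pr pr_ext cochain_ext KK cmap
  cmap_pr_apply cmapS_pr_apply Qf wh eps eps_pr_apply)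
open Groth.Agent.S0941 (toH0 toH0_nat)
open Groth.Agent.S16023 (cechSES)

variable {C : Type u} [SmallCategory C] [HasPullbacks C] {J : GrothendieckTopology C} {U : C}
  {ι κ : Type u} (Y : ι → Over U) (Y' : κ → Over U)
  (f : FormalCoproduct.mk ι Y ⟶ FormalCoproduct.mk κ Y')

noncomputable def rf (n : ℕ) (x : Fin (n + 1) → ι) : PD Y n x ⟶ PD Y' n (f.f ∘ x) :=
  Limits.Pi.map (fun a => f.φ (x a))

theorem refine_pr (P : Cᵒᵖ ⥤ AddCommGrpCat.{u}) (n : ℕ) (x : Fin (n + 1) → ι) :
    (CohCx.cechRefine P f).f n ≫ pr Y (Qf P) n x =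
      pr Y' (Qf P) n (f.f ∘ x) ≫ P.map (rf Y Y' f n x).left.op := by
  have h := Limits.Pi.lift_π (fun x : Fin (n + 1) → ι =>
    Limits.Pi.π (fun y : Fin (n + 1) → κ => (Qf P).obj (op (PD Y' n y))) (f.f ∘ x) ≫
      (Qf P).map (rf Y Y' f n x).op) x
  exact h

theorem refine_pr_apply (P : Cᵒᵖ ⥤ AddCommGrpCat.{u}) (n : ℕ) (x : Fin (n + 1) → ι)
    (c : (Yc Y' (Qf P)).obj ⦋n⦌) :
    (pr Y (Qf P) n x).hom (((CohCx.cechRefine P f).f n).hom c) =
      (P.map (rf Y Y' f n x).left.op).hom ((pr Y' (Qf P) n (f.f ∘ x)).hom c) :=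
  hom_congr_apply (refine_pr Y Y' f P n x) c

theorem eps_refine_apply (P : Cᵒᵖ ⥤ AddCommGrpCat.{u}) (s : P.obj (op U)) :
    ((CohCx.cechRefine P f).f 0).hom ((eps Y' P).hom s) = (eps Y P).hom s := by
  apply cochain_ext Y (Qf P) 0
  intro y
  have hw : (rf Y Y' f 0 y).left ≫ (PD Y' 0 (f.f ∘ y)).hom = (PD Y 0 y).hom :=
    Over.w (rf Y Y' f 0 y)
  have e5 : (P.map ((rf Y Y' f 0 y).left ≫ (PD Y' 0 (f.f ∘ y)).hom).op).hom s =
      (P.map (PD Y 0 y).hom.op).hom s := by rw [hw]
  exact (refine_pr_apply Y Y' f P 0 y _).trans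
    ((congrArg (P.map (rf Y Y' f 0 y).left.op).hom (eps_pr_apply Y' P (f.f ∘ y) s)).trans
      ((res_comp P (rf Y Y' f 0 y).left (PD Y' 0 (f.f ∘ y)).hom s).trans
        (e5.trans (eps_pr_apply Y P y s).symm)))

theorem eps_refine (P : Cᵒᵖ ⥤ AddCommGrpCat.{u}) :
    eps Y' P ≫ (CohCx.cechRefine P f).f 0 = 𝟙 _ ≫ eps Y P := by
  apply AddCommGrpCat.hom_ext
  apply AddMonoidHom.ext
  intro s
  exact eps_refine_apply Y Y' f P s

theorem refine_toCech (P : Cᵒᵖ ⥤ AddCommGrpCat.{u}) (s : P.obj (op U)) :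
    (HomologicalComplex.homologyMap (CohCx.cechRefine P f) 0).hom (CechEdge.toCech Y' P s) =
      CechEdge.toCech Y P s :=
  toH0_nat (CohCx.cechRefine P f) (eps Y' P) (CechEdge.toCech₀_d P Y') (eps Y P)
    (CechEdge.toCech₀_d P Y) (𝟙 _) (eps_refine Y Y' f P) s

theorem refine_nat {P Q : Cᵒᵖ ⥤ AddCommGrpCat.{u}} (φ : P ⟶ Q) :
    (CechEdge.cxFunctor Y').map φ ≫ CohCx.cechRefine Q f =
      CohCx.cechRefine P f ≫ (CechEdge.cxFunctor Y).map φ := by
  apply HomologicalComplex.hom_ext
  intro n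
  apply AddCommGrpCat.hom_ext
  apply AddMonoidHom.ext
  intro c
  apply cochain_ext Y (Qf Q) n
  intro x
  have e1 : (pr Y (Qf Q) n x).hom (((CohCx.cechRefine Q f).f n).hom
      ((cmap Y' (wh φ) n).hom c)) =
      (Q.map (rf Y Y' f n x).left.op).hom ((φ.app (op (PD Y' n (f.f ∘ x)).left)).hom
        ((pr Y' (Qf P) n (f.f ∘ x)).hom c)) :=
    (refine_pr_apply Y Y' f Q n x _).trans
      (congrArg (Q.map (rf Y Y' f n x).left.op).hom (cmapS_pr_apply Y' φ n (f.f ∘ x) c))
  have e2 : (pr Y (Qf Q) n x).hom ((cmap Y (wh φ) n).hom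
      (((CohCx.cechRefine P f).f n).hom c)) =
      (φ.app (op (PD Y n x).left)).hom ((P.map (rf Y Y' f n x).left.op).hom
        ((pr Y' (Qf P) n (f.f ∘ x)).hom c)) :=
    (cmapS_pr_apply Y φ n x _).trans
      (congrArg (φ.app (op (PD Y n x).left)).hom (refine_pr_apply Y Y' f P n x c))
  exact e1.trans ((nat_res φ (rf Y Y' f n x).left _).symm.trans e2.symm)

theorem refineH_nat {P Q : Cᵒᵖ ⥤ AddCommGrpCat.{u}} (φ : P ⟶ Q) (p : ℕ)
    (x : CohCx.cechH P Y' p) :
    (HomologicalComplex.homologyMap (CohCx.cechRefine Q f) p).hom (CechEdge.cechHMap Y' φ p x) =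
      CechEdge.cechHMap Y φ p
        ((HomologicalComplex.homologyMap (CohCx.cechRefine P f) p).hom x) := by
  have h : HomologicalComplex.homologyMap ((CechEdge.cxFunctor Y').map φ) p ≫
      HomologicalComplex.homologyMap (CohCx.cechRefine Q f) p =
      HomologicalComplex.homologyMap (CohCx.cechRefine P f) p ≫
        HomologicalComplex.homologyMap ((CechEdge.cxFunctor Y).map φ) p :=
    (HomologicalComplex.homologyMap_comp _ _ p).symm.trans
      ((congrArg (fun ψ => HomologicalComplex.homologyMap ψ p) (refine_nat Y Y' f φ)).trans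
        (HomologicalComplex.homologyMap_comp _ _ p))
  exact hom_congr_apply h x

noncomputable def Phi (S : ShortComplex (Cᵒᵖ ⥤ AddCommGrpCat.{u})) :
    S.map (CechEdge.cxFunctor Y') ⟶ S.map (CechEdge.cxFunctor Y) where
  τ₁ := CohCx.cechRefine S.X₁ f
  τ₂ := CohCx.cechRefine S.X₂ f
  τ₃ := CohCx.cechRefine S.X₃ f
  comm₁₂ := (refine_nat Y Y' f S.f).symm
  comm₂₃ := (refine_nat Y Y' f S.g).symm

noncomputable def e2 (J : GrothendieckTopology C)
    (e : ∀ (P : Cᵒᵖ ⥤ AddCommGrpCat.{u}) (p : ℕ),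
      CohCx.cechH P Y p →+ CohSite.HU (CechEdge.shf J P) p U) :
    ∀ (P : Cᵒᵖ ⥤ AddCommGrpCat.{u}) (p : ℕ),
      CohCx.cechH P Y' p →+ CohSite.HU (CechEdge.shf J P) p U :=
  fun P p => (e P p).comp (HomologicalComplex.homologyMap (CohCx.cechRefine P f) p).hom

theorem e2_isEdge (J : GrothendieckTopology C)
    (e : ∀ (P : Cᵒᵖ ⥤ AddCommGrpCat.{u}) (p : ℕ),
      CohCx.cechH P Y p →+ CohSite.HU (CechEdge.shf J P) p U)
    (he : CechEdge.IsEdge J Y e)
    (hY' : Sieve.ofArrows (fun i => (Y' i).left) (fun i => (Y' i).hom) ∈ J U) :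
    CechEdge.IsEdge J Y' (e2 Y Y' f J e) where
  cover := hY'
  zero P s := by
    show e P 0 ((HomologicalComplex.homologyMap (CohCx.cechRefine P f) 0).hom
      (CechEdge.toCech Y' P s)) = _
    rw [refine_toCech Y Y' f P s]
    exact he.zero P s
  natural P Q φ p x := by
    show e Q p ((HomologicalComplex.homologyMap (CohCx.cechRefine Q f) p).hom
      (CechEdge.cechHMap Y' φ p x)) = CechEdge.HUmap (CechEdge.shfMap J φ) p U
        (e P p ((HomologicalComplex.homologyMap (CohCx.cechRefine P f) p).hom x))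
    rw [refineH_nat Y Y' f φ p x]
    exact he.natural P Q φ p _
  delta S hS hC' p x := by
    have hC := cechSES Y S hS
    have hn := hom_congr_apply (HomologicalComplex.HomologySequence.δ_naturality
      (Phi Y Y' f S) hC' hC p (p + 1) rfl) x
    have hn' : (HomologicalComplex.homologyMap (CohCx.cechRefine S.X₁ f) (p + 1)).hom
        ((hC'.δ p (p + 1) rfl).hom x) =
        (hC.δ p (p + 1) rfl).hom
          ((HomologicalComplex.homologyMap (CohCx.cechRefine S.X₃ f) p).hom x) := hn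
    show e S.X₁ (p + 1) ((HomologicalComplex.homologyMap (CohCx.cechRefine S.X₁ f) (p + 1)).hom
      ((hC'.δ p (p + 1) rfl).hom x)) = CechEdge.extδ
        (hS.map_of_exact (presheafToSheaf J AddCommGrpCat.{u})) U p
        (e S.X₃ p ((HomologicalComplex.homologyMap (CohCx.cechRefine S.X₃ f) p).hom x))
    rw [hn']
    exact he.delta S hS hC p _

theorem main_gen (J : GrothendieckTopology C)
    (e : ∀ (P : Cᵒᵖ ⥤ AddCommGrpCat.{u}) (p : ℕ),
      CohCx.cechH P Y p →+ CohSite.HU (CechEdge.shf J P) p U)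
    (e' : ∀ (P : Cᵒᵖ ⥤ AddCommGrpCat.{u}) (p : ℕ),
      CohCx.cechH P Y' p →+ CohSite.HU (CechEdge.shf J P) p U)
    (he : CechEdge.IsEdge J Y e) (he' : CechEdge.IsEdge J Y' e')
    (F : Sheaf J AddCommGrpCat.{u}) (p : ℕ) (x : CohCx.cechH F.obj Y' p) :
    CechEdge.edgeSh e F p ((HomologicalComplex.homologyMap (CohCx.cechRefine F.obj f) p).hom x) =
      CechEdge.edgeSh e' F p x := by
  have huniq := Groth.Agent.S16020.main J Y' (e2 Y Y' f J e) e'
    (e2_isEdge Y Y' f J e he he'.cover) he'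
  have h1 : e2 Y Y' f J e F.obj p x = e' F.obj p x := by rw [huniq]
  exact congrArg (CechEdge.HUmap
    ((sheafificationAdjunction J AddCommGrpCat.{u}).counit.app F) p U) h1

end helpers

open TopologicalSpace in
/-- When X is a topological space, the map in question is the identity of X, and the coefficients are
abelian sheaves, the comparison maps into cohomology respect refinement. Suppose F is an abelian
sheaf on X, and consider two open coverings Y, Y' of X, each presented as a family over the top open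
and each equipped with an edge family, together with a refinement morphism from Y to Y'. Then
composing the refinement map from the Cech cohomology of Y' to that of Y with the comparison map for
Y yields the comparison map for Y'. Whereas the published statement concerns a morphism of ringed
spaces and modules, this row covers only the identity map with integer coefficients. -/
theorem result {X : TopCat.{u}} {ι κ : Type u}
    (Y : ι → Over (⊤ : Opens X)) (Y' : κ → Over (⊤ : Opens X))
    (f : FormalCoproduct.mk ι Y ⟶ FormalCoproduct.mk κ Y')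
    (e : ∀ (P : (Opens X)ᵒᵖ ⥤ AddCommGrpCat.{u}) (p : ℕ),
      CohCx.cechH P Y p →+ CohSite.HU (CechEdge.shf (Opens.grothendieckTopology X) P) p ⊤)
    (e' : ∀ (P : (Opens X)ᵒᵖ ⥤ AddCommGrpCat.{u}) (p : ℕ),
      CohCx.cechH P Y' p →+ CohSite.HU (CechEdge.shf (Opens.grothendieckTopology X) P) p ⊤)
    (he : CechEdge.IsEdge (Opens.grothendieckTopology X) Y e)
    (he' : CechEdge.IsEdge (Opens.grothendieckTopology X) Y' e')
    (F : CohTop.Ab X) (p : ℕ) (x : CohCx.cechH F.obj Y' p) :
    CechEdge.edgeSh e F p ((HomologicalComplex.homologyMap (CohCx.cechRefine F.obj f) p).hom x) =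
      CechEdge.edgeSh e' F p x := by
  exact Groth.Agent.S16024.main_gen Y Y' f (Opens.grothendieckTopology X) e e' he he' F p x

end Groth.Agent.S16024
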