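import Groth.Statements.S16030
import Mathlib.Tactic

set_option autoImplicit false
universe u
open CAlg

namespace Groth.Agent.S16030

/-- For a finite set F of points of the spectrum of a commutative ring A and an open subset U containing
F, some basic open D(a) contains F and is contained in U. -/
theorem result
    (A : Type u) [CommRing A] (F : Set (PrimeSpectrum A)) (hF : F.Finite)
    (U : TopologicalSpace.Opens (PrimeSpectrum A)) (hFU : F ⊆ (U : Set (PrimeSpectrum A))) :
    ∃ a : A, F ⊆ (PrimeSpectrum.basicOpen a : Set (PrimeSpectrum A)) ∧ PrimeSpectrum.basicOpen a ≤ U := by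
  classical
  obtain ⟨I, hI⟩ := (PrimeSpectrum.isClosed_iff_zeroLocus_ideal _).mp U.isOpen.isClosed_compl
  have hex : ∃ a ∈ I, ∀ p ∈ F, a ∉ p.asIdeal := by
    by_contra hcon
    push_neg at hcon
    have hsub : ((I : Set A) ⊆ ⋃ p ∈ (↑hF.toFinset : Set (PrimeSpectrum A)), (p.asIdeal : Set A)) := by
      intro a ha
      obtain ⟨p, hp, hap⟩ := hcon a ha
      simp only [Set.mem_iUnion]
      exact ⟨p, by simpa using hp, hap⟩
    by_cases hne : F.Nonempty
    · obtain ⟨p0, hp0⟩ := hne
      rw [Ideal.subset_union_prime (f := fun p : PrimeSpectrum A => p.asIdeal) p0 p0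
        (fun i _ _ _ => i.isPrime)] at hsub
      obtain ⟨p, hp, hIp⟩ := hsub
      have hpF : p ∈ F := by simpa using hp
      have : p ∈ (U : Set (PrimeSpectrum A))ᶜ := by
        rw [hI, PrimeSpectrum.mem_zeroLocus]; exact hIp
      exact this (hFU hpF)
    · rw [Set.not_nonempty_iff_eq_empty] at hne
      subst hne
      have h0 := hcon 0 I.zero_mem
      obtain ⟨p, hp, _⟩ := h0
      exact hp
  obtain ⟨a, haI, haF⟩ := hex
  refine ⟨a, ?_, ?_⟩
  · intro p hp
    exact haF p hp
  · intro q hq
    by_contra hqU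
    have : q ∈ (U : Set (PrimeSpectrum A))ᶜ := hqU
    rw [hI, PrimeSpectrum.mem_zeroLocus] at this
    exact hq (this haI)

end Groth.Agent.S16030
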