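import Groth.Statements.S16051
import Mathlib

set_option autoImplicit false
universe u
open LieAlg

namespace Groth.Agent.S16051


open Matrix

noncomputable section Aux

variable {O : Type u} [CommRing O]

/-- extended entries -/
def ent {n : ℕ} (Y : Matrix (Fin (n+1)) (Fin (n+1)) O) (i j : ℕ) : O :=
  if h : i < n + 1 ∧ j < n + 1 then Y ⟨i, h.1⟩ ⟨j, h.2⟩ else 0

def toM (n : ℕ) (F : ℕ → ℕ → O) : Matrix (Fin (n+1)) (Fin (n+1)) O :=
  Matrix.of fun i j => F i.val j.val

theorem ent_val {n : ℕ} (Y : Matrix (Fin (n+1)) (Fin (n+1)) O) (i j : Fin (n+1)) :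
    ent Y i.val j.val = Y i j := by
  unfold ent
  rw [dif_pos (show i.val < n + 1 ∧ j.val < n + 1 from ⟨i.isLt, j.isLt⟩)]

theorem ent_toM (n : ℕ) (F : ℕ → ℕ → O) (i j : ℕ) (hi : i ≤ n) (hj : j ≤ n) :
    ent (toM n F) i j = F i j := by
  unfold ent
  rw [dif_pos (show i < n + 1 ∧ j < n + 1 from ⟨by omega, by omega⟩)]
  rfl

theorem toM_ent {n : ℕ} (Y : Matrix (Fin (n+1)) (Fin (n+1)) O) : toM n (ent Y) = Y := by
  ext i j
  show ent Y i.val j.val = Y i j
  exact ent_val Y i j

theorem ent_add {n : ℕ} (Y Z : Matrix (Fin (n+1)) (Fin (n+1)) O) (i j : ℕ) :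
    ent (Y + Z) i j = ent Y i j + ent Z i j := by
  unfold ent
  split_ifs <;> simp

theorem ent_smul {n : ℕ} (c : O) (Y : Matrix (Fin (n+1)) (Fin (n+1)) O) (i j : ℕ) :
    ent (c • Y) i j = c * ent Y i j := by
  unfold ent
  split_ifs <;> simp

def br (n : ℕ) (F : ℕ → ℕ → O) (i j : ℕ) : O :=
  (if i + 1 < n then F (i+1) j else 0) - (if 1 ≤ j ∧ j < n then F i (j-1) else 0)

theorem bracket_entry (n : ℕ) (x : Matrix (Fin (n+1)) (Fin (n+1)) O)
    (hx : ∀ i j : Fin (n + 1), x i j = if j.val = i.val + 1 ∧ j.val < n then 1 else 0)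
    (F : ℕ → ℕ → O) (i j : Fin (n+1)) :
    (x * toM n F - toM n F * x) i j = br n F i.val j.val := by
  have h1 : (x * toM n F) i j = if i.val + 1 < n then F (i.val+1) j.val else 0 := by
    rw [Matrix.mul_apply]
    by_cases h : i.val + 1 < n
    · rw [if_pos h]
      rw [Finset.sum_eq_single (⟨i.val+1, by omega⟩ : Fin (n+1))]
      · have hx1 : x i (⟨i.val+1, by omega⟩ : Fin (n+1)) = 1 := by
          rw [hx]
          exact if_pos ⟨rfl, h⟩
        rw [hx1, one_mul]
        rfl
      · intro l _ hl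
        have hx0 : x i l = 0 := by
          rw [hx]
          apply if_neg
          rintro ⟨h2, _⟩
          exact hl (Fin.ext h2)
        rw [hx0, zero_mul]
      · intro h'
        exact absurd (Finset.mem_univ _) h'
    · rw [if_neg h]
      apply Finset.sum_eq_zero
      intro l _
      have hx0 : x i l = 0 := by
        rw [hx]
        apply if_neg
        rintro ⟨h2, h3⟩
        omega
      rw [hx0, zero_mul]
  have h2 : (toM n F * x) i j = if 1 ≤ j.val ∧ j.val < n then F i.val (j.val - 1) else 0 := by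
    rw [Matrix.mul_apply]
    by_cases h : 1 ≤ j.val ∧ j.val < n
    · rw [if_pos h]
      rw [Finset.sum_eq_single (⟨j.val - 1, by omega⟩ : Fin (n+1))]
      · have hx1 : x (⟨j.val - 1, by omega⟩ : Fin (n+1)) j = 1 := by
          rw [hx]
          refine if_pos ⟨?_, h.2⟩
          show j.val = (j.val - 1) + 1
          omega
        rw [hx1, mul_one]
        rfl
      · intro l _ hl
        have hx0 : x l j = 0 := by
          rw [hx]
          apply if_neg
          rintro ⟨h2, _⟩
          apply hl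
          apply Fin.ext
          show l.val = j.val - 1
          omega
        rw [hx0, mul_zero]
      · intro h'
        exact absurd (Finset.mem_univ _) h'
    · rw [if_neg h]
      apply Finset.sum_eq_zero
      intro l _
      have hx0 : x l j = 0 := by
        rw [hx]
        apply if_neg
        rintro ⟨h2, h3⟩
        exact h ⟨by omega, h3⟩
      rw [hx0, mul_zero]
  rw [Matrix.sub_apply, h1, h2]
  rfl

theorem br_diag_sum (n : ℕ) (F : ℕ → ℕ → O) (d : ℕ) (hd : d < n) :
    ∑ t ∈ Finset.range (n - d), br n F (d + t) t = 0 := by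
  have key := Finset.sum_range_sub
    (fun t => if 1 ≤ t ∧ t < n - d then F (d + t) (t - 1) else (0:O)) (n - d)
  have hend : (if 1 ≤ n - d ∧ n - d < n - d then F (d + (n - d)) (n - d - 1) else (0:O))
      - (if 1 ≤ 0 ∧ 0 < n - d then F (d + 0) (0 - 1) else 0) = 0 := by
    rw [if_neg (show ¬ (1 ≤ n - d ∧ n - d < n - d) by omega),
      if_neg (show ¬ (1 ≤ 0 ∧ 0 < n - d) by omega), sub_zero]
  have hterm : ∀ t ∈ Finset.range (n - d), br n F (d + t) t =
      (if 1 ≤ t + 1 ∧ t + 1 < n - d then F (d + (t + 1)) (t + 1 - 1) else (0:O))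
      - (if 1 ≤ t ∧ t < n - d then F (d + t) (t - 1) else 0) := by
    intro t ht
    rw [Finset.mem_range] at ht
    unfold br
    congr 1
    · by_cases h : d + t + 1 < n
      · have c2 : 1 ≤ t + 1 ∧ t + 1 < n - d := ⟨by omega, by omega⟩
        rw [if_pos h, if_pos c2]
        rfl
      · have c2 : ¬ (1 ≤ t + 1 ∧ t + 1 < n - d) := by omega
        rw [if_neg h, if_neg c2]
    · by_cases h : 1 ≤ t ∧ t < n
      · have c2 : 1 ≤ t ∧ t < n - d := ⟨h.1, ht⟩
        rw [if_pos h, if_pos c2]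
      · have c2 : ¬ (1 ≤ t ∧ t < n - d) := by omega
        rw [if_neg h, if_neg c2]
  exact (Finset.sum_congr rfl hterm).trans (key.trans hend)

theorem br_corner1 (n : ℕ) (hn : 1 ≤ n) (F : ℕ → ℕ → O) : br n F (n-1) n = 0 := by
  unfold br
  rw [if_neg (show ¬ (n - 1 + 1 < n) by omega), if_neg (show ¬ (1 ≤ n ∧ n < n) by omega), sub_zero]

theorem br_corner2 (n : ℕ) (F : ℕ → ℕ → O) : br n F n 0 = 0 := by
  unfold br
  rw [if_neg (show ¬ (n + 1 < n) by omega), if_neg (show ¬ (1 ≤ 0 ∧ 0 < n) by omega), sub_zero]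

def AA (Y' : ℕ → ℕ → O) : ℕ → ℕ → O
  | 0, _ => 0
  | (i+1), 0 => Y' i 0
  | (i+1), (j+1) => Y' i (j+1) + AA Y' i j

theorem AA_succ_zero (Y' : ℕ → ℕ → O) (i : ℕ) : AA Y' (i+1) 0 = Y' i 0 := by
  simp [AA]

theorem AA_succ_succ (Y' : ℕ → ℕ → O) (i j : ℕ) :
    AA Y' (i+1) (j+1) = Y' i (j+1) + AA Y' i j := by
  simp [AA]

theorem AA_diag (Y' : ℕ → ℕ → O) (d : ℕ) :
    ∀ j, AA Y' (d + j + 1) j = ∑ t ∈ Finset.range (j+1), Y' (d + t) t := by
  intro j
  induction j with
  | zero =>
    rw [Finset.sum_range_one]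
    exact AA_succ_zero Y' (d + 0)
  | succ j ih =>
    rw [Finset.sum_range_succ, ← ih]
    have e2 : d + (j + 1) = d + j + 1 := rfl
    rw [e2, AA_succ_succ]
    exact add_comm _ _

def FF (n : ℕ) (Y' : ℕ → ℕ → O) (c : O) (i j : ℕ) : O :=
  if j < n then (if i < n then AA Y' i j else (if j + 1 < n then - Y' n (j+1) else 0))
  else (if i < n then (if 1 ≤ i then Y' (i-1) n else 0) else c)

theorem FF_lt_lt (n : ℕ) (Y' : ℕ → ℕ → O) (c : O) (i j : ℕ) (hi : i < n) (hj : j < n) :
    FF n Y' c i j = AA Y' i j := by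
  unfold FF
  rw [if_pos hj, if_pos hi]

theorem FF_n_lt (n : ℕ) (Y' : ℕ → ℕ → O) (c : O) (j : ℕ) (hj : j + 1 < n) :
    FF n Y' c n j = - Y' n (j+1) := by
  unfold FF
  rw [if_pos (show j < n by omega), if_neg (show ¬ n < n by omega), if_pos hj]

theorem FF_lt_n (n : ℕ) (Y' : ℕ → ℕ → O) (c : O) (i : ℕ) (hi : i + 1 < n) :
    FF n Y' c (i+1) n = Y' i n := by
  unfold FF
  rw [if_neg (show ¬ n < n by omega), if_pos hi, if_pos (show 1 ≤ i + 1 by omega),
    Nat.add_sub_cancel]

theorem FF_n_n (n : ℕ) (Y' : ℕ → ℕ → O) (c : O) : FF n Y' c n n = c := by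
  unfold FF
  rw [if_neg (show ¬ n < n by omega), if_neg (show ¬ n < n by omega)]

theorem FF_spec (n : ℕ) (hn : 1 ≤ n) (Y' : ℕ → ℕ → O) (c : O)
    (H1 : ∀ d, d < n → ∑ t ∈ Finset.range (n - d), Y' (d + t) t = 0)
    (H2 : Y' (n-1) n = 0) (H3 : Y' n 0 = 0) (H4 : Y' n n = 0)
    (i j : ℕ) (hi : i ≤ n) (hj : j ≤ n) :
    br n (FF n Y' c) i j = Y' i j := by
  have hAn : ∀ j, j < n → AA Y' n j = 0 := by
    intro j hj
    have h := AA_diag Y' (n - 1 - j) j
    have h1 : n - 1 - j + j + 1 = n := by omega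
    have h2 : n - (n - 1 - j) = j + 1 := by omega
    have h3 := H1 (n - 1 - j) (by omega)
    rw [h1] at h
    rw [h2] at h3
    rw [h, h3]
  unfold br
  rcases Nat.lt_or_ge (i + 1) n with hin | hin
  · rw [if_pos hin]
    rcases Nat.eq_zero_or_pos j with hj0 | hjpos
    · subst hj0
      rw [if_neg (show ¬ (1 ≤ 0 ∧ 0 < n) by omega), sub_zero,
        FF_lt_lt n Y' c (i+1) 0 hin (by omega), AA_succ_zero]
    · rcases Nat.lt_or_ge j n with hjn | hjn
      · obtain ⟨j', rfl⟩ : ∃ j', j = j' + 1 := ⟨j - 1, by omega⟩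
        have c1 : 1 ≤ j' + 1 ∧ j' + 1 < n := ⟨by omega, hjn⟩
        rw [if_pos c1, Nat.add_sub_cancel,
          FF_lt_lt n Y' c (i+1) (j'+1) hin hjn, FF_lt_lt n Y' c i j' (by omega) (by omega),
          AA_succ_succ]
        ring
      · have hjeq : j = n := by omega
        rw [hjeq, if_neg (show ¬ (1 ≤ n ∧ n < n) by omega), sub_zero, FF_lt_n n Y' c i hin]
  · rw [if_neg (show ¬ i + 1 < n by omega)]
    rcases Nat.lt_or_ge i n with hi' | hi'
    · have hieq : i + 1 = n := by omega
      rcases Nat.eq_zero_or_pos j with hj0 | hjpos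
      · subst hj0
        rw [if_neg (show ¬ (1 ≤ 0 ∧ 0 < n) by omega), sub_zero]
        have h := hAn 0 (by omega)
        rw [← hieq, AA_succ_zero] at h
        exact h.symm
      · rcases Nat.lt_or_ge j n with hjn | hjn
        · obtain ⟨j', rfl⟩ : ∃ j', j = j' + 1 := ⟨j - 1, by omega⟩
          have c1 : 1 ≤ j' + 1 ∧ j' + 1 < n := ⟨by omega, hjn⟩
          rw [if_pos c1, Nat.add_sub_cancel, FF_lt_lt n Y' c i j' (by omega) (by omega)]
          have h := hAn (j'+1) hjn
          rw [← hieq, AA_succ_succ] at h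
          linear_combination (-1 : O) * h
        · have hjeq : j = n := by omega
          have hi1 : i = n - 1 := by omega
          rw [hjeq, if_neg (show ¬ (1 ≤ n ∧ n < n) by omega), sub_zero, hi1, H2]
    · have hieq : i = n := by omega
      rw [hieq]
      rcases Nat.eq_zero_or_pos j with hj0 | hjpos
      · subst hj0
        rw [if_neg (show ¬ (1 ≤ 0 ∧ 0 < n) by omega), sub_zero, H3]
      · rcases Nat.lt_or_ge j n with hjn | hjn
        · obtain ⟨j', rfl⟩ : ∃ j', j = j' + 1 := ⟨j - 1, by omega⟩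
          have c1 : 1 ≤ j' + 1 ∧ j' + 1 < n := ⟨by omega, hjn⟩
          rw [if_pos c1, Nat.add_sub_cancel, FF_n_lt n Y' c j' hjn]
          ring
        · have hjeq : j = n := by omega
          rw [hjeq, if_neg (show ¬ (1 ≤ n ∧ n < n) by omega), sub_zero, H4]

def piFun (n : ℕ) (Y : Matrix (Fin (n+1)) (Fin (n+1)) O) : (Fin n → O) × O × O :=
  (fun d => ∑ t ∈ Finset.range (n - d.val), ent Y (d.val + t) t, ent Y (n-1) n, ent Y n 0)

theorem piFun_add (n : ℕ) (Y Z : Matrix (Fin (n+1)) (Fin (n+1)) O) :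
    piFun n (Y + Z) = piFun n Y + piFun n Z := by
  unfold piFun
  refine Prod.ext ?_ (Prod.ext ?_ ?_)
  · funext d
    simp [ent_add, Finset.sum_add_distrib]
  · simp [ent_add]
  · simp [ent_add]

theorem piFun_smul (n : ℕ) (c : O) (Y : Matrix (Fin (n+1)) (Fin (n+1)) O) :
    piFun n (c • Y) = c • piFun n Y := by
  unfold piFun
  refine Prod.ext ?_ (Prod.ext ?_ ?_)
  · funext d
    simp [ent_smul, Finset.mul_sum]
  · simp [ent_smul]
  · simp [ent_smul]

def piLin (n : ℕ) :
    LieAlgebra.SpecialLinear.sl (Fin (n + 1)) O →ₗ[O] (Fin n → O) × O × O where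
  toFun Y := piFun n Y.val
  map_add' Y Z := piFun_add n Y.val Z.val
  map_smul' c Y := piFun_smul n c Y.val

theorem piFun_bracket (n : ℕ) (hn : 1 ≤ n) (x : Matrix (Fin (n+1)) (Fin (n+1)) O)
    (hx : ∀ i j : Fin (n + 1), x i j = if j.val = i.val + 1 ∧ j.val < n then 1 else 0)
    (W : Matrix (Fin (n+1)) (Fin (n+1)) O) :
    piFun n (x * W - W * x) = 0 := by
  have hent : ∀ i j, i ≤ n → j ≤ n → ent (x * W - W * x) i j = br n (ent W) i j := by
    intro i j hi hj
    have h := bracket_entry n x hx (ent W) ⟨i, by omega⟩ ⟨j, by omega⟩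
    rw [toM_ent] at h
    exact (ent_val (x * W - W * x) ⟨i, by omega⟩ ⟨j, by omega⟩).trans h
  unfold piFun
  refine Prod.ext ?_ (Prod.ext ?_ ?_)
  · funext d
    show ∑ t ∈ Finset.range (n - d.val), ent (x * W - W * x) (d.val + t) t = 0
    rw [Finset.sum_congr rfl (fun t ht => hent (d.val + t) t
      (by rw [Finset.mem_range] at ht; omega) (by rw [Finset.mem_range] at ht; omega))]
    exact br_diag_sum n (ent W) d.val d.isLt
  · show ent (x * W - W * x) (n-1) n = 0
    rw [hent _ _ (by omega) (by omega)]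
    exact br_corner1 n hn _
  · show ent (x * W - W * x) n 0 = 0
    rw [hent _ _ (by omega) (by omega)]
    exact br_corner2 n _

theorem exists_preimage (n : ℕ) (hn : 1 ≤ n) (x : Matrix (Fin (n+1)) (Fin (n+1)) O)
    (hx : ∀ i j : Fin (n + 1), x i j = if j.val = i.val + 1 ∧ j.val < n then 1 else 0)
    (Y : Matrix (Fin (n+1)) (Fin (n+1)) O)
    (htr : Matrix.trace Y = 0) (hπ : piFun n Y = 0) :
    ∃ W : Matrix (Fin (n+1)) (Fin (n+1)) O, Matrix.trace W = 0 ∧ x * W - W * x = Y := by
  have hn0 : 0 < n := hn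
  have H1 : ∀ d, d < n → ∑ t ∈ Finset.range (n - d), ent Y (d + t) t = 0 := by
    intro d hd
    have h := congrFun (congrArg Prod.fst hπ) ⟨d, hd⟩
    exact h
  have H2 : ent Y (n-1) n = 0 := congrArg (fun p => p.2.1) hπ
  have H3 : ent Y n 0 = 0 := congrArg (fun p => p.2.2) hπ
  have htrY : Matrix.trace Y = ∑ t ∈ Finset.range (n+1), ent Y t t := by
    rw [Finset.sum_range]
    exact Finset.sum_congr rfl (fun i _ => (ent_val Y i i).symm)
  have H4 : ent Y n n = 0 := by
    have h5 : ∑ t ∈ Finset.range n, ent Y t t = 0 := by simpa using H1 0 hn0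
    rw [htrY, Finset.sum_range_succ, h5, zero_add] at htr
    exact htr
  obtain ⟨c, hc⟩ : ∃ c : O, c = - ∑ t ∈ Finset.range n, AA (ent Y) t t := ⟨_, rfl⟩
  refine ⟨toM n (FF n (ent Y) c), ?_, ?_⟩
  · have h6 : Matrix.trace (toM n (FF n (ent Y) c))
        = ∑ t ∈ Finset.range (n+1), FF n (ent Y) c t t := by
      rw [Finset.sum_range]
      rfl
    rw [h6, Finset.sum_range_succ, FF_n_n]
    rw [Finset.sum_congr rfl (fun t ht => FF_lt_lt n (ent Y) c t t
      (Finset.mem_range.mp ht) (Finset.mem_range.mp ht))]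
    rw [hc]
    exact add_neg_cancel _
  · ext i j
    rw [bracket_entry n x hx]
    rw [FF_spec n hn (ent Y) c H1 H2 H3 H4 i.val j.val
      (Nat.le_of_lt_succ i.isLt) (Nat.le_of_lt_succ j.isLt)]
    exact ent_val Y i j

def GG (n : ℕ) (cv : Fin n → O) (a b : O) (i j : ℕ) : O :=
  if j = 0 then (if h : i < n then cv ⟨i, h⟩ else if i = n then b else 0)
  else if j = n then
    (if i + 1 = n then a else if i = n then - (if h : 0 < n then cv ⟨0, h⟩ else 0) else 0)
  else 0

theorem surj (n : ℕ) (hn : 1 ≤ n) (cv : Fin n → O) (a b : O) :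
    ∃ Y : Matrix (Fin (n+1)) (Fin (n+1)) O, Matrix.trace Y = 0 ∧ piFun n Y = (cv, a, b) := by
  have hn0 : 0 < n := hn
  refine ⟨toM n (GG n cv a b), ?_, ?_⟩
  · have h6 : Matrix.trace (toM n (GG n cv a b))
        = ∑ t ∈ Finset.range (n+1), GG n cv a b t t := by
      rw [Finset.sum_range]
      rfl
    rw [h6, Finset.sum_range_succ]
    rw [Finset.sum_eq_single_of_mem 0 (Finset.mem_range.mpr hn0)]
    · have h00 : GG n cv a b 0 0 = cv ⟨0, hn0⟩ := by
        unfold GG
        rw [if_pos rfl, dif_pos hn0]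
      have hnn : GG n cv a b n n = - cv ⟨0, hn0⟩ := by
        unfold GG
        rw [if_neg (show ¬ n = 0 by omega), if_pos rfl, if_neg (show ¬ n + 1 = n by omega),
          if_pos rfl, dif_pos hn0]
      rw [h00, hnn, add_neg_cancel]
    · intro t ht ht0
      rw [Finset.mem_range] at ht
      unfold GG
      rw [if_neg ht0, if_neg (show ¬ t = n by omega)]
  · unfold piFun
    refine Prod.ext ?_ (Prod.ext ?_ ?_)
    · funext d
      show ∑ t ∈ Finset.range (n - d.val), ent (toM n (GG n cv a b)) (d.val + t) t = cv d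
      have hd := d.isLt
      rw [Finset.sum_eq_single_of_mem 0 (Finset.mem_range.mpr (by omega))]
      · rw [Nat.add_zero, ent_toM n _ _ _ (by omega) (by omega)]
        unfold GG
        rw [if_pos rfl, dif_pos hd]
      · intro t ht ht0
        rw [Finset.mem_range] at ht
        rw [ent_toM n _ _ _ (by omega) (by omega)]
        unfold GG
        rw [if_neg ht0, if_neg (show ¬ t = n by omega)]
    · show ent (toM n (GG n cv a b)) (n-1) n = a
      rw [ent_toM n _ _ _ (by omega) (by omega)]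
      unfold GG
      rw [if_neg (show ¬ n = 0 by omega), if_pos rfl, if_pos (show n - 1 + 1 = n by omega)]
    · show ent (toM n (GG n cv a b)) n 0 = b
      rw [ent_toM n _ _ _ (by omega) (by omega)]
      unfold GG
      rw [if_pos rfl, dif_neg (show ¬ n < n by omega), if_pos rfl]

theorem ker_eq_range (n : ℕ) (hn : 1 ≤ n) (x : LieAlgebra.SpecialLinear.sl (Fin (n + 1)) O)
    (hx : ∀ i j : Fin (n + 1), (x : Matrix (Fin (n + 1)) (Fin (n + 1)) O) i j =
      if j.val = i.val + 1 ∧ j.val < n then 1 else 0) :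
    LinearMap.ker (piLin (O := O) n) =
      LinearMap.range (LieAlgebra.ad O (LieAlgebra.SpecialLinear.sl (Fin (n + 1)) O) x) := by
  ext Y
  rw [LinearMap.mem_ker, LinearMap.mem_range]
  constructor
  · intro hY
    have htr : Matrix.trace Y.val = 0 := Y.property
    obtain ⟨W, hW0, hW⟩ := exists_preimage n hn x.val hx Y.val htr hY
    refine ⟨⟨W, hW0⟩, ?_⟩
    apply Subtype.ext
    show x.val * W - W * x.val = Y.val
    exact hW
  · rintro ⟨W, rfl⟩
    show piFun n (x.val * W.val - W.val * x.val) = 0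
    exact piFun_bracket n hn x.val hx W.val

end Aux


/-- Let O be a discrete valuation ring of characteristic zero with residue field of characteristic p,
let 1 ≤ n with n + 1 < p (type A_n with p above the Coxeter number), and let x ∈ sl_{n+1}(O) be the
standard subregular nilpotent element, the matrix with entries x_{i,i+1} = 1 for i + 1 < n and 0
elsewhere (one Jordan block of size n and one of size 1; in the source this is the sum of the root
vectors of the first n − 1 simple roots, completed there to an sl₂-triple). Then the quotient of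
sl_{n+1}(O) by the image of ad_x is a free O-module of rank n + 2. (The source works over a complete
such ring with algebraically closed residue field; completeness and algebraic closedness are not
used for this statement.) -/
theorem result (O : Type u) [CommRing O] [IsDomain O] [IsDiscreteValuationRing O]
    [CharZero O] (p : ℕ) [Fact p.Prime] [CharP (IsLocalRing.ResidueField O) p]
    (n : ℕ) (hn : 1 ≤ n) (hp : n + 1 < p)
    (x : LieAlgebra.SpecialLinear.sl (Fin (n + 1)) O)
    (hx : ∀ i j : Fin (n + 1), (x : Matrix (Fin (n + 1)) (Fin (n + 1)) O) i j =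
      if j.val = i.val + 1 ∧ j.val < n then 1 else 0) :
    Module.Free O (LieAlgebra.SpecialLinear.sl (Fin (n + 1)) O ⧸
        LinearMap.range (LieAlgebra.ad O (LieAlgebra.SpecialLinear.sl (Fin (n + 1)) O) x)) ∧
      Module.finrank O (LieAlgebra.SpecialLinear.sl (Fin (n + 1)) O ⧸
        LinearMap.range (LieAlgebra.ad O (LieAlgebra.SpecialLinear.sl (Fin (n + 1)) O) x)) = n + 2 := by
  have hker := ker_eq_range n hn x hx
  have hsurj : Function.Surjective (piLin (O := O) n) := by
    rintro ⟨cv, a, b⟩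
    obtain ⟨Y, hY0, hY⟩ := surj n hn cv a b
    exact ⟨⟨Y, hY0⟩, hY⟩
  let e : (LieAlgebra.SpecialLinear.sl (Fin (n + 1)) O ⧸
        LinearMap.range (LieAlgebra.ad O (LieAlgebra.SpecialLinear.sl (Fin (n + 1)) O) x))
          ≃ₗ[O] ((Fin n → O) × O × O) :=
    (Submodule.quotEquivOfEq _ _ hker.symm).trans
      ((piLin (O := O) n).quotKerEquivOfSurjective hsurj)
  have h1 : Module.finrank O ((Fin n → O) × O × O) = n + 2 := by
    rw [Module.finrank_prod, Module.finrank_prod, Module.finrank_fin_fun, Module.finrank_self]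
  refine ⟨Module.Free.of_equiv' inferInstance e.symm, ?_⟩
  rw [e.finrank_eq, h1]

end Groth.Agent.S16051
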