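import Groth.Statements.S1607
import Mathlib
import Groth.Agent.Lib.Helper5.DimOneAffine

set_option autoImplicit false
universe u
open CategoryTheory CategoryTheory.Limits AlgebraicGeometry
open Variety

namespace Groth.Agent.S1607

/-- If X is affine and each of its local rings is Noetherian of dimension at most one, then every
quasi-compact open subscheme of X is affine. -/
theorem result (X : Scheme.{u}) [IsAffine X]
    (hX : ∀ x : X, IsNoetherianRing (X.presheaf.stalk x) ∧ ringKrullDim (X.presheaf.stalk x) ≤ 1)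
    (U : X.Opens) (hU : IsCompact (U : Set X)) : IsAffineOpen U := by
  have hT : IsAffineOpen (⊤ : X.Opens) := isAffineOpen_top X
  have hc : IsCompact ((hT.fromSpec ⁻¹ᵁ U : (Spec Γ(X, ⊤)).Opens) : Set (Spec Γ(X, ⊤))) := by
    have hemb := hT.fromSpec.isOpenEmbedding
    refine (hemb.isInducing.isCompact_preimage_iff ?_).mpr hU
    rw [hT.range_fromSpec]; exact fun _ _ => trivial
  obtain ⟨I, hIfg, hI⟩ := PrimeSpectrum.isCompact_isOpen_iff_ideal.mp
    ⟨hc, (hT.fromSpec ⁻¹ᵁ U).isOpen⟩
  haveI : IsAffineHom U.ι := by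
    apply isAffineHom_of_forall_exists_isAffineOpen
    intro x
    haveI := (hX x).1
    obtain ⟨h, g, hxh, heq⟩ := Groth.Agent.Helper5.DimOneAffine.exists_basicOpen_inf_eq hT U I hIfg
      hI.symm ⟨x, trivial⟩ (hX x).2
    refine ⟨X.basicOpen h, hxh, hT.basicOpen h, ?_⟩
    rw [← U.ι.isAffineOpen_iff_of_isOpenImmersion, U.ι.image_preimage_eq_opensRange_inf,
      Scheme.Opens.opensRange_ι, heq]
    exact hT.basicOpen (g * h)
  exact isAffine_of_isAffineHom U.ι

end Groth.Agent.S1607
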