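import Groth.Statements.S16071
import Mathlib
-- import your own Groth.Agent.* helpers here

set_option autoImplicit false
universe u
open CartDual

namespace Groth.Agent.S16071


open TensorProduct in
theorem aux (p : ℕ) [hp : Fact p.Prime] (R : Type u) [CommRing R] [CharP R p] :
    ∃ e : CartDual.D R (AlphaP.A p R) ≃ₐc[R] AlphaP.A p R,
      ∀ i : ℕ, i < p → (e.symm (AlphaP.x p R)) (AlphaP.x p R ^ i) = if i = 1 then 1 else 0 := by
  haveI : Nontrivial R := CharP.nontrivial_of_char_ne_one (R := R) (v := p) hp.out.ne_one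
  let b := AlphaP.basis p R
  obtain ⟨δ, hδdef⟩ : ∃ δ : CartDual.D R (AlphaP.A p R),
      δ.ofConv = b.coord ⟨1, hp.out.one_lt⟩ := ⟨WithConv.toConv (b.coord ⟨1, hp.out.one_lt⟩), rfl⟩
  have hδ1 : ∀ m : ℕ, δ.ofConv (AlphaP.x p R ^ m) = if m = 1 then (1 : R) else 0 := by
    intro m
    by_cases hm : m < p
    · have h1 : AlphaP.x p R ^ m = b ⟨m, hm⟩ := (AlphaP.basis_apply p R ⟨m, hm⟩).symm
      rw [h1, hδdef, Module.Basis.coord_apply, Module.Basis.repr_self, Finsupp.single_apply]
      simp only [Fin.mk.injEq]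
    · rw [AlphaP.x_pow_of_le p R (not_lt.mp hm), map_zero, if_neg]
      intro h
      subst h
      exact hm hp.out.one_lt
  have hε : ∀ m : ℕ, Coalgebra.counit (R := R) (AlphaP.x p R ^ m) = if m = 0 then (1:R) else 0 := by
    intro m
    have h1 : Coalgebra.counit (R := R) (AlphaP.x p R ^ m) =
        (Coalgebra.counit (R := R) (AlphaP.x p R)) ^ m :=
      map_pow (Bialgebra.counitAlgHom R (AlphaP.A p R)) (AlphaP.x p R) m
    rw [h1, AlphaP.counit_x]
    by_cases hm : m = 0
    · subst hm; simp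
    · rw [if_neg hm, zero_pow hm]
  have hcomul_pow : ∀ n : ℕ, Coalgebra.comul (R := R) (AlphaP.x p R ^ n) =
      ∑ m ∈ Finset.range (n + 1),
        (n.choose m) • ((AlphaP.x p R ^ m) ⊗ₜ[R] (AlphaP.x p R ^ (n - m))) := by
    intro n
    rw [Bialgebra.comul_pow, AlphaP.comul_x, add_pow]
    refine Finset.sum_congr rfl fun m _ => ?_
    rw [Algebra.TensorProduct.tmul_pow, Algebra.TensorProduct.tmul_pow, one_pow, one_pow,
      Algebra.TensorProduct.tmul_mul_tmul, mul_one, one_mul]
    exact (nsmul_eq_mul' _ _).symm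
  have hK : ∀ (f g : CartDual.D R (AlphaP.A p R)) (n : ℕ),
      (f * g).ofConv (AlphaP.x p R ^ n) = ∑ m ∈ Finset.range (n + 1),
        (n.choose m) • (f.ofConv (AlphaP.x p R ^ m) * g.ofConv (AlphaP.x p R ^ (n - m))) := by
    intro f g n
    show (f * g) (AlphaP.x p R ^ n) = _
    rw [LinearMap.convMul_apply, hcomul_pow, map_sum, map_sum]
    refine Finset.sum_congr rfl fun m _ => ?_
    rw [map_nsmul, map_nsmul, TensorProduct.map_tmul, LinearMap.mul'_apply]
  have hP : ∀ (k n : ℕ), (δ ^ k).ofConv (AlphaP.x p R ^ n) =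
      if n = k then ((Nat.factorial k : ℕ) : R) else 0 := by
    intro k
    induction k with
    | zero =>
      intro n
      rw [pow_zero]
      show (1 : CartDual.D R (AlphaP.A p R)) (AlphaP.x p R ^ n) = _
      rw [LinearMap.convOne_apply, hε]
      split_ifs <;> simp
    | succ k ih =>
      intro n
      rw [pow_succ, hK]
      have h1 : ∀ m ∈ Finset.range (n + 1),
          (n.choose m) • ((δ ^ k).ofConv (AlphaP.x p R ^ m) * δ.ofConv (AlphaP.x p R ^ (n - m))) =
          if m = k then (n.choose k) • (((Nat.factorial k : ℕ) : R) *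
            (if n - k = 1 then 1 else 0)) else 0 := by
        intro m _
        rw [ih m, hδ1]
        by_cases hmk : m = k
        · subst hmk; rw [if_pos rfl, if_pos rfl]
        · rw [if_neg hmk, if_neg hmk, zero_mul, smul_zero]
      rw [Finset.sum_congr rfl h1, Finset.sum_ite_eq' (Finset.range (n+1)) k]
      beta_reduce
      by_cases hn : n = k + 1
      · subst hn
        rw [if_pos (Finset.mem_range.mpr (show k < k + 1 + 1 by omega)),
          if_pos (show k + 1 - k = 1 by omega), if_pos rfl, mul_one, Nat.choose_succ_self_right,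
          Nat.factorial_succ, Nat.cast_mul, nsmul_eq_mul]
      · rw [if_neg hn]
        by_cases hk : k ∈ Finset.range (n + 1)
        · have hk' := Finset.mem_range.mp hk
          rw [if_pos hk, if_neg (show ¬ (n - k = 1) by omega), mul_zero, smul_zero]
        · rw [if_neg hk]
  have h1D : ∀ m : ℕ, (1 : CartDual.D R (AlphaP.A p R)).ofConv (AlphaP.x p R ^ m) =
      if m = 0 then (1:R) else 0 := by
    intro m
    have h := hP 0 m
    rwa [pow_zero, Nat.factorial_zero, Nat.cast_one] at h
  have hδp : δ ^ p = 0 := by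
    apply WithConv.ext
    apply b.ext
    intro i
    rw [AlphaP.basis_apply, hP p i, if_neg (show ¬ ((i:ℕ) = p) by have := i.2; omega)]
    rfl
  obtain ⟨φ, hφx⟩ : ∃ φ : AlphaP.A p R →ₐ[R] CartDual.D R (AlphaP.A p R), φ (AlphaP.x p R) = δ :=
    ⟨AlphaP.lift p R δ hδp, AlphaP.lift_x δ hδp⟩
  have hF : ∀ (a : AlphaP.A p R) (j : Fin p), (φ a).ofConv (AlphaP.x p R ^ (j:ℕ)) =
      b.repr a j * ((Nat.factorial (j:ℕ) : ℕ) : R) := by
    intro a j
    let evn : CartDual.D R (AlphaP.A p R) →ₗ[R] R :=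
      (LinearMap.applyₗ (AlphaP.x p R ^ (j:ℕ))) ∘ₗ (CartDual.toDual R (AlphaP.A p R)).toLinearMap
    have hev : ∀ y, evn y = y.ofConv (AlphaP.x p R ^ (j:ℕ)) := fun y => rfl
    rw [← hev]
    conv_lhs => rw [← b.sum_repr a]
    rw [map_sum, map_sum]
    rw [Finset.sum_eq_single j]
    · rw [map_smul, map_smul, AlphaP.basis_apply, map_pow, hφx, hev, hP, if_pos rfl, smul_eq_mul]
    · intro i _ hij
      rw [map_smul, map_smul, AlphaP.basis_apply, map_pow, hφx, hev, hP,
        if_neg (fun h => hij (Fin.ext h.symm)), smul_zero]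
    · intro h; exact absurd (Finset.mem_univ j) h
  have hu : ∀ k, k < p → IsUnit ((Nat.factorial k : ℕ) : R) := by
    intro k hk
    have h1 : ((Nat.factorial k : ℕ) : ZMod p) ≠ 0 := by
      rw [Ne, CharP.cast_eq_zero_iff (ZMod p) p, hp.out.dvd_factorial]
      omega
    have h2 : IsUnit ((Nat.factorial k : ℕ) : ZMod p) := h1.isUnit
    have h3 := h2.map (ZMod.castHom (dvd_refl p) R)
    rwa [map_natCast] at h3
  have hinj : Function.Injective φ := by
    rw [injective_iff_map_eq_zero]
    intro a ha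
    have h1 : ∀ j : Fin p, b.repr a j = 0 := by
      intro j
      have h2 := hF a j
      rw [ha] at h2
      have h3 : b.repr a j * ((Nat.factorial (j:ℕ) : ℕ) : R) = 0 := by rw [← h2]; rfl
      exact (hu j j.2).mul_left_eq_zero.mp h3
    have h4 : b.repr a = 0 := Finsupp.ext h1
    exact b.repr.map_eq_zero_iff.mp h4
  have hsurj : Function.Surjective φ := by
    intro y
    refine ⟨∑ j : Fin p, (y.ofConv (AlphaP.x p R ^ (j:ℕ)) * ((hu j j.2).unit⁻¹ : Rˣ)) • b j, ?_⟩
    apply WithConv.ext
    apply b.ext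
    intro j
    rw [AlphaP.basis_apply, hF,
      b.repr_sum_self (fun j : Fin p => y.ofConv (AlphaP.x p R ^ (j:ℕ)) * ((hu j j.2).unit⁻¹ : Rˣ))]
    show y.ofConv _ * ↑(hu j j.2).unit⁻¹ * _ = _
    rw [mul_assoc, IsUnit.val_inv_mul, mul_one]
  have hcase : ∀ i j : ℕ, ((if i = 1 then (1:R) else 0) * (if j = 0 then 1 else 0) +
      (if i = 0 then 1 else 0) * (if j = 1 then 1 else 0)) = if i + j = 1 then 1 else 0 := by
    intro i j
    by_cases h1 : i + j = 1
    · rcases (show (i = 1 ∧ j = 0) ∨ (i = 0 ∧ j = 1) by omega) with ⟨hi, hj⟩ | ⟨hi, hj⟩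
      · subst hi; subst hj; simp
      · subst hi; subst hj; simp
    · rw [if_neg h1]
      by_cases hi1 : i = 1
      · rw [if_neg (show ¬ j = 0 by omega), if_neg (show ¬ i = 0 by omega), mul_zero, zero_mul,
          add_zero]
      · rw [if_neg hi1, zero_mul, zero_add]
        by_cases hi0 : i = 0
        · rw [if_neg (show ¬ j = 1 by omega), mul_zero]
        · rw [if_neg hi0, zero_mul]
  let E : AlphaP.A p R ≃ₐ[R] CartDual.D R (AlphaP.A p R) := AlgEquiv.ofBijective φ ⟨hinj, hsurj⟩
  have hEφ : (E : AlphaP.A p R →ₐ[R] CartDual.D R (AlphaP.A p R)) = φ := AlgHom.ext fun a => rfl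
  have hcounit : (Bialgebra.counitAlgHom R (CartDual.D R (AlphaP.A p R))).comp (E : _ →ₐ[R] _) =
      Bialgebra.counitAlgHom R (AlphaP.A p R) := by
    rw [hEφ]
    apply AlphaP.algHom_ext
    show Coalgebra.counit (R := R) (φ (AlphaP.x p R)) = Coalgebra.counit (R := R) (AlphaP.x p R)
    rw [hφx, CartDual.coalgebra_counit_apply, AlphaP.counit_x]
    have h := hδ1 0
    rw [pow_zero] at h
    rw [CartDual.coe_apply, h, if_neg (show ¬ (0 = 1) by omega)]
  have hcomul : (Algebra.TensorProduct.map (E : _ →ₐ[R] _) (E : _ →ₐ[R] _)).comp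
      (Bialgebra.comulAlgHom R (AlphaP.A p R)) =
      (Bialgebra.comulAlgHom R (CartDual.D R (AlphaP.A p R))).comp (E : _ →ₐ[R] _) := by
    rw [hEφ]
    apply AlphaP.algHom_ext
    show Algebra.TensorProduct.map φ φ (Coalgebra.comul (R := R) (AlphaP.x p R)) =
      Coalgebra.comul (R := R) (φ (AlphaP.x p R))
    rw [AlphaP.comul_x, map_add, Algebra.TensorProduct.map_tmul, Algebra.TensorProduct.map_tmul,
      map_one, hφx]
    apply (CartDual.ev₂ R (AlphaP.A p R)).injective
    apply (b.tensorProduct b).ext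
    rintro ⟨i, j⟩
    rw [Module.Basis.tensorProduct_apply, AlphaP.basis_apply, AlphaP.basis_apply, map_add,
      LinearMap.add_apply, CartDual.ev₂_tmul, CartDual.ev₂_tmul,
      CartDual.ev₂_coalgebra_comul_tmul, ← pow_add]
    simp only [CartDual.coe_apply]
    rw [hδ1, hδ1, hδ1, h1D, h1D]
    exact hcase i j
  let B : AlphaP.A p R ≃ₐc[R] CartDual.D R (AlphaP.A p R) := BialgEquiv.ofAlgEquiv E hcounit hcomul
  refine ⟨B.symm, ?_⟩
  intro i hi
  have h1 : B.symm.symm (AlphaP.x p R) = δ := hφx
  rw [h1, CartDual.coe_apply, hδ1]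

/-- Let p be a prime, R a commutative ring of characteristic p and A = R[X]/(X^p) the Hopf algebra of
α_p over Spec R, with X primitive. Then the Cartier dual of α_p is again α_p: there is a bialgebra
isomorphism e from the dual Hopf algebra Hom_R(A, R), with the transposed structure maps, to A,
whose inverse sends X to the linear form dual to X with respect to the basis 1, X, …, X^{p-1} of A
(so e⁻¹(X) takes the value 1 on X and 0 on the other powers X^i, i < p). (Any commutative base ring
of characteristic p is allowed.) -/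
theorem result (p : ℕ) [Fact p.Prime] (R : Type u) [CommRing R] [CharP R p] :
    ∃ e : CartDual.D R (AlphaP.A p R) ≃ₐc[R] AlphaP.A p R,
      ∀ i : ℕ, i < p → (e.symm (AlphaP.x p R)) (AlphaP.x p R ^ i) = if i = 1 then 1 else 0 := by
  exact aux p R

end Groth.Agent.S16071
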