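import Groth.Statements.S16072
import Mathlib
import Groth.Agent.Lib.Lead.HopfP
-- import your own Groth.Agent.* helpers here

set_option autoImplicit false
universe u
open Hopf

namespace Groth.Agent.S16072

/-- Let p be a prime and R a commutative ring of characteristic p (p = 0 in R, R nonzero). Then the
constant group scheme ℤ/p and the group scheme μ_p of p-th roots of unity over Spec R are not
isomorphic: there is no R-bialgebra isomorphism between the Hopf algebra Maps(ℤ/p, R) of functions
on the cyclic group of order p and the group algebra R[ℤ/p]. (Any nonzero commutative base ring of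
characteristic p is allowed. The published statement allows any ring R with p·R = 0; over the zero
ring both Hopf algebras are the zero ring and hence isomorphic, so R is assumed nonzero here.) -/
theorem result (p : ℕ) [Fact p.Prime] (R : Type u) [CommRing R]
    [CharP R p] :
    IsEmpty (ConstGrp.F R (Multiplicative (ZMod p)) ≃ₐc[R] MonoidAlgebra R (Multiplicative (ZMod p))) := by
  refine ⟨fun e => ?_⟩
  have hp : p.Prime := Fact.out
  haveI : Nontrivial R := CharP.nontrivial_of_char_ne_one (R := R) (v := p) hp.ne_one
  haveI : Fact (1 < p) := ⟨hp.one_lt⟩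
  let g : Multiplicative (ZMod p) := Multiplicative.ofAdd 1
  have hg1 : g ≠ 1 := by
    intro h
    have h2 : (1 : ZMod p) = 0 := by
      have h3 := congrArg Multiplicative.toAdd h
      simpa [g] using h3
    exact one_ne_zero h2
  have hgp : g ^ p = 1 := by
    show Multiplicative.ofAdd (1 : ZMod p) ^ p = 1
    rw [← ofAdd_nsmul, nsmul_one, ZMod.natCast_self, ofAdd_zero]
  haveI : CharP (MonoidAlgebra R (Multiplicative (ZMod p))) p :=
    charP_of_injective_algebraMap
      (Bialgebra.algebraMap_injective (R := R) (MonoidAlgebra R (Multiplicative (ZMod p)))) p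
  let y : MonoidAlgebra R (Multiplicative (ZMod p)) := MonoidAlgebra.single g 1 - 1
  have hy : y ^ p = 0 := by
    show (MonoidAlgebra.single g 1 - 1) ^ p = 0
    rw [sub_pow_char, MonoidAlgebra.single_pow, hgp, one_pow, one_pow, MonoidAlgebra.one_def,
      sub_self]
  have hφ : Groth.Agent.Lib.Lead.HopfP.coeffL R (Multiplicative (ZMod p)) g y = 1 := by
    show Groth.Agent.Lib.Lead.HopfP.coeffL R (Multiplicative (ZMod p)) g
      (MonoidAlgebra.single g 1 - 1) = 1
    rw [map_sub, MonoidAlgebra.one_def, Groth.Agent.Lib.Lead.HopfP.coeffL_single,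
      Groth.Agent.Lib.Lead.HopfP.coeffL_single, if_pos rfl, if_neg (Ne.symm hg1), sub_zero]
  exact Groth.Agent.Lib.Lead.HopfP.no_nilp e.toAlgEquiv y p hy _ hφ

end Groth.Agent.S16072
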