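import Groth.Statements.S16074
import Mathlib
import Groth.Agent.Lib.Lead.HopfP
-- import your own Groth.Agent.* helpers here

set_option autoImplicit false
universe u
open Hopf

namespace Groth.Agent.S16074

/-- Let p be a prime and R a commutative ring of characteristic p (p = 0 in R, R nonzero). Then μ_p and
α_p over Spec R are not isomorphic: there is no R-bialgebra isomorphism between the group algebra
R[ℤ/p] of the cyclic group of order p (group elements group-like) and the Hopf algebra R[X]/(X^p) of
α_p (X primitive), although the underlying R-algebras R[ℤ/p] = R[Y]/(Y^p) and R[X]/(X^p) are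
isomorphic. (Any nonzero commutative base ring of characteristic p is allowed. The published
statement allows any ring R with p·R = 0; over the zero ring both Hopf algebras are the zero ring
and hence isomorphic, so R is assumed nonzero here.) -/
theorem result (p : ℕ) [Fact p.Prime] (R : Type u) [CommRing R] [CharP R p] :
    IsEmpty (MonoidAlgebra R (Multiplicative (ZMod p)) ≃ₐc[R] AlphaP.A p R) := by
  refine ⟨fun e => ?_⟩
  have hp : p.Prime := Fact.out
  haveI : Nontrivial R := CharP.nontrivial_of_char_ne_one (R := R) (v := p) hp.ne_one
  have hx : AlphaP.basis p R ⟨1, hp.one_lt⟩ = AlphaP.x p R := by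
    rw [AlphaP.basis_apply]; simp
  have hx0 : AlphaP.x p R ≠ 0 := by
    rw [← hx]; exact (AlphaP.basis p R).ne_zero _
  have hv : Coalgebra.comul (R := R) (e.symm (AlphaP.x p R)) =
      TensorProduct.tmul R (e.symm (AlphaP.x p R)) 1 +
        TensorProduct.tmul R 1 (e.symm (AlphaP.x p R)) := by
    rw [← CoalgHomClass.map_comp_comul_apply e.symm (AlphaP.x p R), AlphaP.comul_x, map_add,
      TensorProduct.map_tmul, TensorProduct.map_tmul]
    simp
  have hv0 := Groth.Agent.Lib.Lead.HopfP.primitive_eq_zero R _ _ hv
  apply hx0
  have := congrArg e hv0
  rwa [BialgEquiv.apply_symm_apply, map_zero] at this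

end Groth.Agent.S16074
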