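import Groth.Statements.S16075
import Mathlib
-- import your own Groth.Agent.* helpers here

set_option autoImplicit false
universe u
open Hopf

namespace Groth.Agent.S16075


theorem isUnit_natCast_of_lt (p : ℕ) [hp : Fact p.Prime] (T : Type u) [CommRing T] [CharP T p]
    (i : ℕ) (hi0 : 0 < i) (hip : i < p) : IsUnit ((i : ℕ) : T) := by
  have hnd : ¬ p ∣ i := Nat.not_dvd_of_pos_of_lt hi0 hip
  have hcop : Nat.Coprime p i := (Nat.Prime.coprime_iff_not_dvd hp.out).mpr hnd
  have hb := Int.gcd_eq_gcd_ab (p : ℤ) (i : ℤ)
  have hg : Int.gcd (p : ℤ) (i : ℤ) = 1 := by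
    rw [Int.gcd_natCast_natCast]; exact hcop
  rw [hg] at hb
  have hT := congrArg (Int.cast : ℤ → T) hb
  push_cast at hT
  rw [CharP.cast_eq_zero T p, zero_mul, zero_add] at hT
  exact IsUnit.of_mul_eq_one _ hT.symm

/-- Let p be a prime, T a commutative ring of characteristic p (p = 0 in T, T nonzero) and A =
T[X]/(X^p) the Hopf algebra of α_p over Spec T, with X primitive. Then the endomorphisms of the
T-group α_{p,T} are exactly the scalings: every T-bialgebra endomorphism f of A has f(X) = λ·X for a
unique λ ∈ T, and for every λ ∈ T there is a T-bialgebra endomorphism f of A with f(X) = λ·X. So the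
endomorphisms of α_{p,T} correspond bijectively to the elements of T. (Only this bijection is
stated; that it turns addition and composition of endomorphisms into addition and multiplication in
T, and its naturality in T, are not stated here. The zero ring, allowed as T in the published
statement, is excluded by the characteristic hypothesis here.) -/
theorem result (p : ℕ) [Fact p.Prime] (T : Type u) [CommRing T] [CharP T p] :
    (∀ f : AlphaP.A p T →ₐc[T] AlphaP.A p T, ∃! c : T, f (AlphaP.x p T) = c • AlphaP.x p T) ∧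
      (∀ c : T, ∃ f : AlphaP.A p T →ₐc[T] AlphaP.A p T, f (AlphaP.x p T) = c • AlphaP.x p T) := by
  classical
  have hp : p.Prime := Fact.out
  haveI : Nontrivial T := CharP.nontrivial_of_char_ne_one (R := T) (v := p) hp.ne_one
  have hp1 : 1 < p := hp.one_lt
  have hp0 : 0 < p := hp.pos
  let ψ : ℕ → (AlphaP.A p T →ₗ[T] T) := fun j =>
    if h : j < p then (AlphaP.basis p T).coord ⟨j, h⟩ else 0
  have hψ : ∀ j m : ℕ, m < p → ψ j (AlphaP.x p T ^ m) = if m = j then 1 else 0 := by
    intro j m hm
    have hbm : AlphaP.basis p T ⟨m, hm⟩ = AlphaP.x p T ^ m := by rw [AlphaP.basis_apply]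
    by_cases hj : j < p
    · simp only [ψ, dif_pos hj]
      rw [← hbm, Module.Basis.coord_apply, Module.Basis.repr_self, Finsupp.single_apply]
      simp only [Fin.mk.injEq]
    · simp only [ψ, dif_neg hj, LinearMap.zero_apply]
      rw [if_neg]; omega
  let L : ℕ → ℕ → (TensorProduct T (AlphaP.A p T) (AlphaP.A p T) →ₗ[T] T) := fun a c =>
    (TensorProduct.lid T T).toLinearMap ∘ₗ TensorProduct.map (ψ a) (ψ c)
  have hL : ∀ a c (u v : AlphaP.A p T), L a c (TensorProduct.tmul T u v) = ψ a u * ψ c v := by
    intro a c u v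
    simp only [L, LinearMap.comp_apply, TensorProduct.map_tmul, LinearEquiv.coe_coe,
      TensorProduct.lid_tmul, smul_eq_mul]
  have hcomul : ∀ m : ℕ, Coalgebra.comul (R := T) (AlphaP.x p T ^ m) =
      ∑ k ∈ Finset.range (m + 1),
        (m.choose k) • TensorProduct.tmul T (AlphaP.x p T ^ k) (AlphaP.x p T ^ (m - k)) := by
    intro m
    rw [Bialgebra.comul_pow, AlphaP.comul_x, add_pow]
    apply Finset.sum_congr rfl
    intro k _
    rw [Algebra.TensorProduct.tmul_pow, Algebra.TensorProduct.tmul_pow, one_pow, one_pow,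
      Algebra.TensorProduct.tmul_mul_tmul, mul_one, one_mul, nsmul_eq_mul']
  have hkey : ∀ a c m : ℕ, m < p → L a c (Coalgebra.comul (R := T) (AlphaP.x p T ^ m)) =
      if m = a + c then ((m.choose a : ℕ) : T) else 0 := by
    intro a c m hm
    rw [hcomul, map_sum]
    have hterm : ∀ k ∈ Finset.range (m + 1),
        L a c ((m.choose k) • TensorProduct.tmul T (AlphaP.x p T ^ k) (AlphaP.x p T ^ (m - k))) =
        if k = a ∧ m - k = c then ((m.choose k : ℕ) : T) else 0 := by
      intro k hk
      have hk' : k < m + 1 := Finset.mem_range.mp hk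
      rw [map_nsmul, hL, hψ a k (by omega), hψ c (m - k) (by omega), nsmul_eq_mul]
      by_cases h1 : k = a <;> by_cases h2 : m - k = c <;> simp [h1, h2]
    rw [Finset.sum_congr rfl hterm]
    by_cases hmac : m = a + c
    · rw [if_pos hmac, Finset.sum_eq_single a]
      · rw [if_pos ⟨rfl, by omega⟩]
      · intro k _ hka; rw [if_neg]; intro h; exact hka h.1
      · intro ha; exfalso; apply ha; rw [Finset.mem_range]; omega
    · rw [if_neg hmac]
      apply Finset.sum_eq_zero
      intro k hk
      have hk' : k < m + 1 := Finset.mem_range.mp hk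
      rw [if_neg]; intro h; apply hmac; omega
  have hlin : ∀ a c : ℕ, a + c < p → ∀ z : AlphaP.A p T,
      L a c (Coalgebra.comul (R := T) z) = (((a + c).choose a : ℕ) : T) * ψ (a + c) z := by
    intro a c hac z
    have hmaps : (L a c) ∘ₗ (Coalgebra.comul (R := T)) =
        (((a + c).choose a : ℕ) : T) • ψ (a + c) := by
      apply (AlphaP.basis p T).ext
      intro i
      rw [AlphaP.basis_apply]
      simp only [LinearMap.comp_apply, LinearMap.smul_apply, smul_eq_mul]
      rw [hkey a c i i.isLt, hψ (a + c) i i.isLt]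
      by_cases h : (i : ℕ) = a + c
      · simp [h]
      · simp [h]
    have h2 := LinearMap.congr_fun hmaps z
    simpa using h2
  have hψ1 : ∀ j : ℕ, ψ j (1 : AlphaP.A p T) = if 0 = j then 1 else 0 := by
    intro j
    have := hψ j 0 hp0
    rwa [pow_zero] at this
  have hψx : ψ 1 (AlphaP.x p T) = 1 := by
    have := hψ 1 1 hp1
    rwa [pow_one, if_pos rfl] at this
  constructor
  · intro f
    have hprim : Coalgebra.comul (R := T) (f (AlphaP.x p T)) =
        TensorProduct.tmul T (f (AlphaP.x p T)) 1 + TensorProduct.tmul T 1 (f (AlphaP.x p T)) := by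
      rw [← CoalgHomClass.map_comp_comul_apply f (AlphaP.x p T), AlphaP.comul_x, map_add,
        TensorProduct.map_tmul, TensorProduct.map_tmul]
      simp
    generalize f (AlphaP.x p T) = y at hprim ⊢
    have hc0 : ψ 0 y = 0 := by
      have h := hlin 0 0 (by omega) y
      rw [hprim, map_add, hL, hL, hψ1 0] at h
      simp only [if_true, mul_one, one_mul, add_zero, Nat.choose_self, Nat.cast_one] at h
      linear_combination h
    have hci : ∀ i : ℕ, 2 ≤ i → i < p → ψ i y = 0 := by
      intro i hi2 hip
      have h := hlin 1 (i - 1) (by omega) y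
      rw [hprim, map_add, hL, hL, hψ1 1, hψ1 (i - 1)] at h
      have e1 : 1 + (i - 1) = i := by omega
      rw [e1, if_neg (show ¬ (0 : ℕ) = 1 by omega), if_neg (show ¬ (0 : ℕ) = i - 1 by omega),
        mul_zero, zero_mul, add_zero, Nat.choose_one_right] at h
      obtain ⟨u, hu⟩ := isUnit_natCast_of_lt p T i (by omega) hip
      have h3 : ((i : ℕ) : T) * ψ i y = 0 := h.symm
      rw [← hu] at h3
      exact (Units.mul_right_eq_zero u).mp h3
    have hrepr_eq : ∀ i : Fin p, (AlphaP.basis p T).repr y i = ψ (i : ℕ) y := by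
      intro i
      simp only [ψ, dif_pos i.isLt, Module.Basis.coord_apply, Fin.eta]
    have hyexp : y = ψ 1 y • AlphaP.x p T := by
      calc y = ∑ i : Fin p, (AlphaP.basis p T).repr y i • AlphaP.basis p T i :=
            ((AlphaP.basis p T).sum_repr y).symm
        _ = (AlphaP.basis p T).repr y ⟨1, hp1⟩ • AlphaP.basis p T ⟨1, hp1⟩ := by
            apply Finset.sum_eq_single (⟨1, hp1⟩ : Fin p)
            · intro i _ hi
              have hival : (i : ℕ) ≠ 1 := fun h => hi (Fin.ext h)
              rw [hrepr_eq i]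
              by_cases h0 : (i : ℕ) = 0
              · rw [h0, hc0, zero_smul]
              · rw [hci i (by omega) i.isLt, zero_smul]
            · intro h; exact absurd (Finset.mem_univ _) h
        _ = ψ 1 y • AlphaP.x p T := by
            rw [hrepr_eq, AlphaP.basis_apply]
            simp only [pow_one]
    refine ⟨ψ 1 y, hyexp, fun c' hc' => ?_⟩
    rw [hc', map_smul, hψx, smul_eq_mul, mul_one]
  · intro c
    have hpow : (c • AlphaP.x p T) ^ p = 0 := by rw [smul_pow, AlphaP.x_pow, smul_zero]
    have hgx : AlphaP.lift p T (c • AlphaP.x p T) hpow (AlphaP.x p T) = c • AlphaP.x p T :=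
      AlphaP.lift_x _ _
    refine ⟨BialgHom.ofAlgHom (AlphaP.lift p T (c • AlphaP.x p T) hpow) ?_ ?_, ?_⟩
    · apply AlphaP.algHom_ext
      simp only [AlgHom.comp_apply, Bialgebra.counitAlgHom_apply, hgx, map_smul, AlphaP.counit_x,
        smul_zero]
    · apply AlphaP.algHom_ext
      simp only [AlgHom.comp_apply, Bialgebra.comulAlgHom_apply, hgx, map_smul, AlphaP.comul_x,
        map_add, Algebra.TensorProduct.map_tmul, map_one]
      rw [smul_add, TensorProduct.smul_tmul', ← TensorProduct.tmul_smul]
    · exact hgx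

end Groth.Agent.S16075
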