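import Groth.Statements.S16076
import Mathlib
import Groth.Agent.S16071
-- import your own Groth.Agent.* helpers here

set_option autoImplicit false
universe u
open scoped TensorProduct
open Versch

namespace Groth.Agent.S16076

/-- Let p be a prime, R a commutative ring of characteristic p and A = R[X]/(X^p) the Hopf algebra of
α_p over Spec R, with X primitive. Let v : A → A ⊗_R R^(Frob) be the comorphism of the Verschiebung
V : α_p^(p) → α_p (the ring map whose transpose under the canonical pairing is the relative
Frobenius of the dual Hopf algebra Hom_R(A, R)). Then V is the trivial homomorphism: v is the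
composite of the counit ε : A → R, the identity of underlying rings R → R^(Frob) and the inclusion
of the twisted factor R^(Frob) → A ⊗_R R^(Frob), i.e. v(a) = 1 ⊗ ε(a). (Any commutative base ring of
characteristic p is allowed.) -/
theorem result (p : ℕ) [Fact p.Prime] (R : Type u) [CommRing R] [CharP R p]
    (v : AlphaP.A p R →+* FrobAlg.BaseChange p R (AlphaP.A p R))
    (hv : Versch.IsVerschiebung p R (AlphaP.A p R) v) :
    v = ((Algebra.TensorProduct.includeRight (R := R) (A := AlphaP.A p R) (B := FrobAlg.Twist p R)).toRingHom.comp
          (FrobAlg.toTwist p R).toRingHom).comp (Bialgebra.counitAlgHom R (AlphaP.A p R)).toRingHom := by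
  obtain ⟨e, -⟩ := Groth.Agent.S16071.result p R
  have hA : ∀ a : AlphaP.A p R,
      a ^ p = algebraMap R (AlphaP.A p R) ((Coalgebra.counit (R := R) a) ^ p) := by
    intro a
    obtain ⟨f, rfl⟩ := AlphaP.mk_surjective p R a
    induction f using Polynomial.induction_on' with
    | add f g hf hg =>
      rw [map_add, add_pow_char, hf, hg, map_add, add_pow_char, map_add]
    | monomial n c =>
      have hC : AlphaP.mk p R (Polynomial.C c) = algebraMap R (AlphaP.A p R) c := by
        rw [Polynomial.C_eq_algebraMap, AlgHom.commutes]
      rw [← Polynomial.C_mul_X_pow_eq_monomial, map_mul, hC, map_pow, AlphaP.mk_X]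
      have h1 : Coalgebra.counit (R := R) (algebraMap R (AlphaP.A p R) c * AlphaP.x p R ^ n) =
          c * (0 : R) ^ n := by
        have h2 := map_mul (Bialgebra.counitAlgHom R (AlphaP.A p R))
          (algebraMap R (AlphaP.A p R) c) (AlphaP.x p R ^ n)
        have h3 := map_pow (Bialgebra.counitAlgHom R (AlphaP.A p R)) (AlphaP.x p R) n
        have h4 : Coalgebra.counit (R := R) (algebraMap R (AlphaP.A p R) c * AlphaP.x p R ^ n) =
          Coalgebra.counit (R := R) (algebraMap R (AlphaP.A p R) c) *
            (Coalgebra.counit (R := R) (AlphaP.x p R)) ^ n := h2.trans (congrArg _ h3)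
        rw [h4, Bialgebra.counit_algebraMap, AlphaP.counit_x]
      rw [h1, mul_pow, ← pow_mul]
      by_cases hn : n = 0
      · subst hn
        rw [Nat.zero_mul, pow_zero, pow_zero, mul_one, mul_one, map_pow]
      · have hle : p ≤ n * p := Nat.le_mul_of_pos_left p (Nat.pos_of_ne_zero hn)
        rw [AlphaP.x_pow_of_le p R hle, mul_zero, zero_pow hn, mul_zero,
          zero_pow (Fact.out : p.Prime).ne_zero, map_zero]
  have hD : ∀ x : CartDual.D R (AlphaP.A p R),
      x ^ p = algebraMap R (CartDual.D R (AlphaP.A p R)) ((x 1) ^ p) := by
    intro x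
    apply e.toAlgEquiv.injective
    have h1 : Coalgebra.counit (R := R) (e.toAlgEquiv x) = Coalgebra.counit (R := R) x :=
      CoalgHomClass.counit_comp_apply e x
    rw [map_pow, hA, h1, CartDual.coalgebra_counit_apply, AlgEquiv.commutes]
  have hw : Versch.IsVerschiebung p R (AlphaP.A p R)
      (((Algebra.TensorProduct.includeRight (R := R) (A := AlphaP.A p R)
        (B := FrobAlg.Twist p R)).toRingHom.comp
          (FrobAlg.toTwist p R).toRingHom).comp
            (Bialgebra.counitAlgHom R (AlphaP.A p R)).toRingHom) := by
    rw [Versch.isVerschiebung_iff]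
    intro a x
    show Versch.evTw p R _ x (TensorProduct.tmul R (1 : AlphaP.A p R)
      (FrobAlg.toTwist p R (Coalgebra.counit (R := R) a))) = _
    rw [Versch.evTw_tmul', hD x, LinearMap.convAlgebraMap_apply, smul_eq_mul, map_mul]
    rfl
  exact Versch.IsVerschiebung.unique p R _ hv hw

end Groth.Agent.S16076
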