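import Groth.Statements.S16077
import Mathlib
import Groth.Agent.H3.TruncPoly

set_option autoImplicit false
universe u
open CAlg

namespace Groth.Agent.S16077

/-- Let k be a perfect field of characteristic p > 0 and let e_1, …, e_r ≥ 1 and f_1, …, f_s ≥ 1 be
natural numbers. If the k-algebras k[X_1, …, X_r]/(X_i^{p^{e_i}} : 1 ≤ i ≤ r) and k[X_1, …,
X_s]/(X_j^{p^{f_j}} : 1 ≤ j ≤ s) are isomorphic, then r = s and (f_j) is a permutation of (e_i):
there is a bijection σ between the index sets with f_{σ(i)} = e_i. Such truncated polynomial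
algebras are the coordinate rings of the connected finite k-group schemes, and the row says that the
number of variables and the exponents are invariants of the group, indeed of its algebra. (Only this
invariance is stated here; the existence of such a presentation for every connected finite k-group
is a separate statement.) -/
theorem result (p : ℕ) [Fact p.Prime] (k : Type u) [Field k]
    [CharP k p] [PerfectField k] (r s : ℕ) (e : Fin r → ℕ) (f : Fin s → ℕ) (he : ∀ i, 1 ≤ e i) (hf : ∀ j, 1 ≤ f j)
    (φ : (MvPolynomial (Fin r) k ⧸ Ideal.span (Set.range fun i : Fin r => (MvPolynomial.X i : MvPolynomial (Fin r) k) ^ p ^ e i)) ≃ₐ[k]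
      (MvPolynomial (Fin s) k ⧸ Ideal.span (Set.range fun j : Fin s => (MvPolynomial.X j : MvPolynomial (Fin s) k) ^ p ^ f j))) :
    ∃ σ : Fin r ≃ Fin s, ∀ i : Fin r, f (σ i) = e i := by
  have h : ∀ j, ∏ i, p ^ (e i - j) = ∏ i, p ^ (f i - j) := fun j => by
    rw [← H3.TruncPoly.dj_trunc p k e j, ← H3.TruncPoly.dj_trunc p k f j]
    exact H3.TruncPoly.dj_congr p k φ j
  have h' : ∀ j, ∑ i, (e i - j) = ∑ i, (f i - j) := fun j => by
    have h1 := h j
    rw [Finset.prod_pow_eq_pow_sum, Finset.prod_pow_eq_pow_sum] at h1
    exact Nat.pow_right_injective (Fact.out : p.Prime).two_le h1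
  exact H3.TruncPoly.exists_equiv_of_sums e f he hf h'

end Groth.Agent.S16077
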