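import Groth.Statements.S16078
import Mathlib

set_option autoImplicit false
universe u
open scoped TensorProduct
open Hopf

namespace Groth.Agent.S16078

theorem idem_local {B : Type*} [CommRing B] [IsLocalRing B] {x : B} (hx : IsIdempotentElem x) :
    x = 0 ∨ x = 1 := by
  have h0 : x * (1 - x) = 0 := by rw [mul_sub, mul_one, hx.eq, sub_self]
  rcases IsLocalRing.isUnit_or_isUnit_one_sub_self x with h | h
  · right
    have := h.mul_left_cancel (h0.trans (mul_zero x).symm)
    exact (sub_eq_zero.mp this).symm
  · left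
    have h1 : (1 - x) * x = (1 - x) * 0 := by rw [mul_comm, h0, mul_zero]
    exact h.mul_left_cancel h1

theorem one_sub_mem {A R : Type*} [CommRing A] [CommRing R] [Nontrivial R] (ε : A →+* R)
    (K : Ideal A) (hK : K ≤ RingHom.ker ε) [IsLocalRing (A ⧸ K)] (e : A)
    (he : IsIdempotentElem (Ideal.Quotient.mk K e)) (hε : ε e = 1) : 1 - e ∈ K := by
  rcases idem_local he with h | h
  · exfalso
    have h1 : e ∈ K := Ideal.Quotient.eq_zero_iff_mem.mp h
    have h2 := (RingHom.mem_ker).mp (hK h1)
    rw [hε] at h2
    exact one_ne_zero h2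
  · rw [← Ideal.Quotient.eq_zero_iff_mem, map_sub, map_one, h, sub_self]

theorem idem_eq {B : Type*} [CommRing B] {u v c d : B} (hu : IsIdempotentElem u)
    (hv : IsIdempotentElem v) (h1 : u = c * v) (h2 : v = d * u) : u = v := by
  have e1 : u * v = u := by
    calc u * v = c * (v * v) := by rw [h1]; ring
      _ = u := by rw [hv.eq, ← h1]
  have e2 : u * v = v := by
    calc u * v = d * (u * u) := by rw [h2]; ring
      _ = v := by rw [hu.eq, ← h2]
  rw [← e1, e2]


/-- Let R be a henselian Noetherian local ring, A and A'' commutative Hopf algebras over R which are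
finite and flat as R-modules, and A'' → A an R-algebra homomorphism compatible with
comultiplications and counits making A faithfully flat over A'' (a faithfully flat homomorphism π :
G → G'' of finite flat R-groups); let J ⊆ A be the ideal generated by the image of the augmentation
ideal of A'' (G' = Spec A/J = ker π, so that 1 → G' → G → G'' → 1 is exact). Let e ∈ A and e'' ∈ A''
be idempotents with ε(e) = 1, ε(e'') = 1 and A/(1 − e), A''/(1 − e'') local rings (the unit
components G⁰ and G''⁰), and let e' ∈ A be an element whose image in A/J is an idempotent, with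
ε(e') = 1 and A/(J + (1 − e')) local (so G'⁰ = Spec (A/J)/(1 − e') is the unit component of G').
Suppose g : A''/(1 − e'') → A/(1 − e) is the ring homomorphism induced by A'' → A (the restriction
π⁰ : G⁰ → G''⁰ of π, which exists because G⁰ is connected). Then g is faithfully flat, and e ≡ e'
modulo J, i.e. J + (1 − e) = J + (1 − e') and the kernel of π⁰, which is cut out in G⁰ by J, is
exactly G'⁰: the sequence 1 → G'⁰ → G⁰ → G''⁰ → 1 is exact. (The published statement also asserts
exactness of the maximal étale quotient G ↦ G^ét, not stated here.) -/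
theorem result (R : Type u) [CommRing R] [HenselianLocalRing R]
    [IsNoetherianRing R] (A A'' : Type u) [CommRing A] [HopfAlgebra R A] [Module.Finite R A] [Module.Flat R A]
    [CommRing A''] [HopfAlgebra R A''] [Module.Finite R A''] [Module.Flat R A'']
    [Algebra A'' A] [IsScalarTower R A'' A] [Module.FaithfullyFlat A'' A]
    (hΔ : (Bialgebra.comulAlgHom R A).comp (IsScalarTower.toAlgHom R A'' A) =
      (Algebra.TensorProduct.map (IsScalarTower.toAlgHom R A'' A) (IsScalarTower.toAlgHom R A'' A)).comp
        (Bialgebra.comulAlgHom R A''))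
    (hε : (Bialgebra.counitAlgHom R A).comp (IsScalarTower.toAlgHom R A'' A) = Bialgebra.counitAlgHom R A'')
    (e : A) (he : IsIdempotentElem e) (heε : Bialgebra.counitAlgHom R A e = 1)
    [IsLocalRing (A ⧸ Ideal.span ({1 - e} : Set A))]
    (e'' : A'') (he'' : IsIdempotentElem e'') (he''ε : Bialgebra.counitAlgHom R A'' e'' = 1)
    [IsLocalRing (A'' ⧸ Ideal.span ({1 - e''} : Set A''))]
    (e' : A) (he' : IsIdempotentElem (Ideal.Quotient.mk ((RingHom.ker (Bialgebra.counitAlgHom R A'')).map (algebraMap A'' A)) e'))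
    (he'ε : Bialgebra.counitAlgHom R A e' = 1)
    [IsLocalRing (A ⧸ (((RingHom.ker (Bialgebra.counitAlgHom R A'')).map (algebraMap A'' A)) ⊔ Ideal.span ({1 - e'} : Set A)))]
    (g : (A'' ⧸ Ideal.span ({1 - e''} : Set A'')) →+* (A ⧸ Ideal.span ({1 - e} : Set A)))
    (hg : g.comp (Ideal.Quotient.mk (Ideal.span ({1 - e''} : Set A''))) =
      (Ideal.Quotient.mk (Ideal.span ({1 - e} : Set A))).comp (algebraMap A'' A)) :
    g.FaithfullyFlat ∧
      Ideal.Quotient.mk ((RingHom.ker (Bialgebra.counitAlgHom R A'')).map (algebraMap A'' A)) e = Ideal.Quotient.mk ((RingHom.ker (Bialgebra.counitAlgHom R A'')).map (algebraMap A'' A)) e' := by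
  classical
  haveI : Nontrivial R := inferInstance
  -- abbreviations are avoided; everything is spelled out
  have hεJ : (RingHom.ker (Bialgebra.counitAlgHom R A'')).map (algebraMap A'' A) ≤
      RingHom.ker (Bialgebra.counitAlgHom R A) := by
    rw [Ideal.map_le_iff_le_comap]
    intro y hy
    rw [Ideal.mem_comap, RingHom.mem_ker]
    have h := DFunLike.congr_fun hε y
    rw [AlgHom.comp_apply, IsScalarTower.coe_toAlgHom'] at h
    rw [h]; exact (RingHom.mem_ker).mp hy
  constructor
  · -- faithful flatness of g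
    letI : Algebra (A'' ⧸ Ideal.span ({1 - e''} : Set A'')) (A ⧸ Ideal.span ({1 - e} : Set A)) :=
      g.toAlgebra
    haveI : IsScalarTower A'' (A'' ⧸ Ideal.span ({1 - e''} : Set A''))
        (A ⧸ Ideal.span ({1 - e} : Set A)) :=
      IsScalarTower.of_algebraMap_eq (fun x => (DFunLike.congr_fun hg x).symm)
    haveI : IsScalarTower R (A'' ⧸ Ideal.span ({1 - e''} : Set A''))
        (A ⧸ Ideal.span ({1 - e} : Set A)) :=
      IsScalarTower.of_algebraMap_eq (fun r => by
        have h := DFunLike.congr_fun hg (algebraMap R A'' r)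
        have h2 : algebraMap A'' A (algebraMap R A'' r) = algebraMap R A r :=
          (IsScalarTower.algebraMap_apply R A'' A r).symm
        rw [RingHom.comp_apply, RingHom.comp_apply, h2] at h
        exact h.symm)
    haveI : IsLocalization.Away e (A ⧸ Ideal.span ({1 - e} : Set A)) :=
      IsLocalization.Away.quotient_of_isIdempotentElem he
    haveI : IsLocalization.Away e'' (A'' ⧸ Ideal.span ({1 - e''} : Set A'')) :=
      IsLocalization.Away.quotient_of_isIdempotentElem he''
    haveI : Module.Flat A (A ⧸ Ideal.span ({1 - e} : Set A)) :=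
      IsLocalization.flat _ (Submonoid.powers e)
    haveI : Module.Flat A'' (A ⧸ Ideal.span ({1 - e} : Set A)) := Module.Flat.trans A'' A _
    haveI : Module.Flat (A'' ⧸ Ideal.span ({1 - e''} : Set A''))
        (A ⧸ Ideal.span ({1 - e} : Set A)) :=
      (Module.flat_iff_of_isLocalization (A'' ⧸ Ideal.span ({1 - e''} : Set A''))
        (Submonoid.powers e'') (A ⧸ Ideal.span ({1 - e} : Set A))).mpr inferInstance
    haveI : Module.Finite R (A ⧸ Ideal.span ({1 - e} : Set A)) :=
      Module.Finite.of_surjective (Ideal.Quotient.mkₐ R (Ideal.span ({1 - e} : Set A))).toLinearMap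
        (Ideal.Quotient.mkₐ_surjective R _)
    have hint : (algebraMap (A'' ⧸ Ideal.span ({1 - e''} : Set A''))
        (A ⧸ Ideal.span ({1 - e} : Set A))).IsIntegral := by
      intro b
      have hb : IsIntegral R b := Algebra.IsIntegral.isIntegral b
      exact hb.tower_top
    have hmax := Ideal.isMaximal_comap_of_isIntegral_of_isMaximal'
      (algebraMap (A'' ⧸ Ideal.span ({1 - e''} : Set A'')) (A ⧸ Ideal.span ({1 - e} : Set A)))
      hint (IsLocalRing.maximalIdeal (A ⧸ Ideal.span ({1 - e} : Set A)))
    have hcm := IsLocalRing.eq_maximalIdeal hmax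
    haveI : IsLocalHom (algebraMap (A'' ⧸ Ideal.span ({1 - e''} : Set A''))
        (A ⧸ Ideal.span ({1 - e} : Set A))) := by
      refine ⟨fun x hx => ?_⟩
      by_contra hnu
      have h1 : x ∈ IsLocalRing.maximalIdeal (A'' ⧸ Ideal.span ({1 - e''} : Set A'')) :=
        (IsLocalRing.mem_maximalIdeal x).mpr hnu
      rw [← hcm, Ideal.mem_comap] at h1
      exact (IsLocalRing.mem_maximalIdeal _).mp h1 hx
    exact Module.FaithfullyFlat.of_flat_of_isLocalHom
  · -- the idempotents agree modulo J
    have hK1 : (RingHom.ker (Bialgebra.counitAlgHom R A'')).map (algebraMap A'' A) ⊔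
        Ideal.span ({1 - e'} : Set A) ≤ RingHom.ker (Bialgebra.counitAlgHom R A) := by
      refine sup_le hεJ ?_
      rw [Ideal.span_le, Set.singleton_subset_iff, SetLike.mem_coe, RingHom.mem_ker, map_sub,
        map_one, he'ε, sub_self]
    have hK2 : (RingHom.ker (Bialgebra.counitAlgHom R A'')).map (algebraMap A'' A) ⊔
        Ideal.span ({1 - e} : Set A) ≤ RingHom.ker (Bialgebra.counitAlgHom R A) := by
      refine sup_le hεJ ?_
      rw [Ideal.span_le, Set.singleton_subset_iff, SetLike.mem_coe, RingHom.mem_ker, map_sub,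
        map_one, heε, sub_self]
    have hne : RingHom.ker (Bialgebra.counitAlgHom R A) ≠ ⊤ := by
      intro h
      have h1 : (1 : A) ∈ RingHom.ker (Bialgebra.counitAlgHom R A) := by rw [h]; trivial
      rw [RingHom.mem_ker, map_one] at h1
      exact one_ne_zero h1
    haveI : Nontrivial (A ⧸ ((RingHom.ker (Bialgebra.counitAlgHom R A'')).map (algebraMap A'' A) ⊔
        Ideal.span ({1 - e} : Set A))) :=
      Ideal.Quotient.nontrivial_iff.mpr (fun h => hne (top_le_iff.mp (h ▸ hK2)))
    haveI : IsLocalRing (A ⧸ ((RingHom.ker (Bialgebra.counitAlgHom R A'')).map (algebraMap A'' A) ⊔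
        Ideal.span ({1 - e} : Set A))) :=
      IsLocalRing.of_surjective' (Ideal.Quotient.factor (le_sup_right :
        Ideal.span ({1 - e} : Set A) ≤ (RingHom.ker (Bialgebra.counitAlgHom R A'')).map
          (algebraMap A'' A) ⊔ Ideal.span ({1 - e} : Set A)))
        (Ideal.Quotient.factor_surjective _)
    -- 1 - e ∈ J ⊔ (1 - e')
    have m1 : 1 - e ∈ (RingHom.ker (Bialgebra.counitAlgHom R A'')).map (algebraMap A'' A) ⊔
        Ideal.span ({1 - e'} : Set A) :=
      one_sub_mem (Bialgebra.counitAlgHom R A : A →+* R) _ hK1 e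
        (by
          show Ideal.Quotient.mk _ e * Ideal.Quotient.mk _ e = Ideal.Quotient.mk _ e
          rw [← map_mul, he.eq]) heε
    have m2 : 1 - e' ∈ (RingHom.ker (Bialgebra.counitAlgHom R A'')).map (algebraMap A'' A) ⊔
        Ideal.span ({1 - e} : Set A) :=
      one_sub_mem (Bialgebra.counitAlgHom R A : A →+* R) _ hK2 e'
        (by
          show Ideal.Quotient.mk _ e' * Ideal.Quotient.mk _ e' = Ideal.Quotient.mk _ e'
          rw [← map_mul, Ideal.Quotient.eq]
          have h := he'.eq
          rw [← map_mul, Ideal.Quotient.eq] at h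
          exact le_sup_left (a := (RingHom.ker (Bialgebra.counitAlgHom R A'')).map
            (algebraMap A'' A)) h) he'ε
    obtain ⟨j1, hj1, z1, hz1, hsum1⟩ := Submodule.mem_sup.mp m1
    obtain ⟨j2, hj2, z2, hz2, hsum2⟩ := Submodule.mem_sup.mp m2
    obtain ⟨c, rfl⟩ := Ideal.mem_span_singleton'.mp hz1
    obtain ⟨d, rfl⟩ := Ideal.mem_span_singleton'.mp hz2
    have hu : IsIdempotentElem (1 - Ideal.Quotient.mk
        ((RingHom.ker (Bialgebra.counitAlgHom R A'')).map (algebraMap A'' A)) e) := by
      apply IsIdempotentElem.one_sub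
      show Ideal.Quotient.mk _ e * Ideal.Quotient.mk _ e = Ideal.Quotient.mk _ e
      rw [← map_mul, he.eq]
    have hv : IsIdempotentElem (1 - Ideal.Quotient.mk
        ((RingHom.ker (Bialgebra.counitAlgHom R A'')).map (algebraMap A'' A)) e') :=
      IsIdempotentElem.one_sub he'
    have k1 : (1 - Ideal.Quotient.mk
        ((RingHom.ker (Bialgebra.counitAlgHom R A'')).map (algebraMap A'' A)) e) =
        Ideal.Quotient.mk _ c * (1 - Ideal.Quotient.mk _ e') := by
      rw [← map_one (Ideal.Quotient.mk ((RingHom.ker (Bialgebra.counitAlgHom R A'')).map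
        (algebraMap A'' A))), ← map_sub, ← map_sub, ← map_mul, ← hsum1, map_add,
        Ideal.Quotient.eq_zero_iff_mem.mpr hj1, zero_add]
    have k2 : (1 - Ideal.Quotient.mk
        ((RingHom.ker (Bialgebra.counitAlgHom R A'')).map (algebraMap A'' A)) e') =
        Ideal.Quotient.mk _ d * (1 - Ideal.Quotient.mk _ e) := by
      rw [← map_one (Ideal.Quotient.mk ((RingHom.ker (Bialgebra.counitAlgHom R A'')).map
        (algebraMap A'' A))), ← map_sub, ← map_sub, ← map_mul, ← hsum2, map_add,
        Ideal.Quotient.eq_zero_iff_mem.mpr hj2, zero_add]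
    have huv := idem_eq hu hv k1 k2
    exact sub_right_injective huv

end Groth.Agent.S16078
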