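import Groth.Statements.S1609
import Mathlib
import Groth.Agent.Lib.Helper5.GeomFib

set_option autoImplicit false
universe u
open CategoryTheory CategoryTheory.Limits AlgebraicGeometry
open Variety

namespace Groth.Agent.S1609

/-- Geometric irreducibility of a k-scheme can be checked after an arbitrary extension of the base
field. -/
theorem result (k : Type u) [Field k] (X : Scheme.{u}) [X.Over (Spec (CommRingCat.of k))] (k' : Type u) [Field k'] [Algebra k k']
    [GeometricallyIrreducible (Curv2.bcSnd k X k')] : GeometricallyIrreducible (X ↘ (Spec (CommRingCat.of k))) := by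
  have h0 : geometrically (IrreducibleSpace ·) (Curv2.bcSnd k X k') := by
    rw [← GeometricallyIrreducible.eq_geometrically]; infer_instance
  haveI : Subsingleton ↥(Spec (CommRingCat.of k)) :=
    inferInstanceAs (Subsingleton (PrimeSpectrum k))
  haveI : Nonempty ↥(Spec (CommRingCat.of k')) :=
    ⟨(⊥ : PrimeSpectrum k')⟩
  rw [GeometricallyIrreducible.eq_geometrically]
  refine Groth.Agent.Helper5.GeomFib.geom_descent (IrreducibleSpace ·) ?_
    (Spec.map (CommRingCat.ofHom (algebraMap k k'))) (X ↘ (Spec (CommRingCat.of k)))
    (Curv2.bcSnd k X k') (Curv2.bcFst k X k') (IsPullback.of_hasPullback _ _) h0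
  intro W Z π hs hf hW
  haveI := hs
  haveI : IrreducibleSpace W := hW
  have hirr : IsIrreducible (Set.univ : Set Z) := by
    rw [← Set.image_univ_of_surjective π.surjective]
    exact (IrreducibleSpace.isIrreducible_univ W).image π π.continuous.continuousOn
  exact (irreducibleSpace_def Z).mpr hirr

end Groth.Agent.S1609
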