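import Groth.Statements.S16104
import Mathlib.Tactic
import Mathlib.RingTheory.Ideal.KrullsHeightTheorem
import Mathlib.RingTheory.Nakayama

set_option autoImplicit false
universe u v
open LunaSt

namespace Groth.Agent.S16104

/-- Case of local rings. Let φ : A → B be a local homomorphism of Noetherian local rings whose composite
A → B/m_B² is surjective (the first infinitesimal neighbourhoods give a closed immersion), and
assume that A/m_A^(n+1) and B/m_B^(n+1) have the same length for every n (the associated graded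
modules of the two maximal ideals have pieces of the same dimension over the common residue field).
Then for every n the composite A → B/m_B^(n+1) is surjective with kernel m_A^(n+1): φ identifies all
infinitesimal neighbourhoods. (The published statement is for a pointed morphism of Noetherian local
algebraic stacks; its proof reduces to this case of local rings.) -/
theorem result
    (A : Type u) (B : Type v) [CommRing A] [CommRing B] [IsLocalRing A] [IsLocalRing B]
    [IsNoetherianRing A] [IsNoetherianRing B] (φ : A →+* B) [IsLocalHom φ]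
    (h1 : Function.Surjective ((Ideal.Quotient.mk (IsLocalRing.maximalIdeal B ^ 2)).comp φ))
    (hlen : ∀ n : ℕ, Module.length A (A ⧸ IsLocalRing.maximalIdeal A ^ (n + 1)) =
      Module.length B (B ⧸ IsLocalRing.maximalIdeal B ^ (n + 1))) (n : ℕ) :
    Function.Surjective ((Ideal.Quotient.mk (IsLocalRing.maximalIdeal B ^ (n + 1))).comp φ) ∧
      RingHom.ker ((Ideal.Quotient.mk (IsLocalRing.maximalIdeal B ^ (n + 1))).comp φ) =
        IsLocalRing.maximalIdeal A ^ (n + 1) := by
  classical
  set mA := IsLocalRing.maximalIdeal A with hmA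
  set mB := IsLocalRing.maximalIdeal B with hmB'
  have hloc : ∀ a : A, φ a ∈ mB → a ∈ mA := by
    intro a ha
    rw [IsLocalRing.mem_maximalIdeal, mem_nonunits_iff] at ha ⊢
    exact fun hu => ha (hu.map φ)
  have hmap_le : mA.map φ ≤ mB := by
    rw [Ideal.map_le_iff_le_comap]
    intro a ha
    rw [Ideal.mem_comap, IsLocalRing.mem_maximalIdeal, mem_nonunits_iff]
    intro hu
    exact ((IsLocalRing.mem_maximalIdeal a).1 ha) (isUnit_of_map_unit φ a hu)
  -- approximate elements of B modulo mB
  have h0 : ∀ b : B, ∃ a : A, φ a - b ∈ mB := by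
    intro b
    obtain ⟨a, ha⟩ := h1 (Ideal.Quotient.mk _ b)
    refine ⟨a, ?_⟩
    have h2 : φ a - b ∈ mB ^ 2 := by
      rw [← Ideal.Quotient.eq]; exact ha
    exact Ideal.pow_le_self two_ne_zero h2
  have hmB : mB = mA.map φ := by
    apply le_antisymm _ hmap_le
    apply Submodule.le_of_le_smul_of_le_jacobson_bot (I := mB) (IsNoetherian.noetherian mB)
      (by rw [IsLocalRing.jacobson_eq_maximalIdeal ⊥ bot_ne_top])
    intro b hb
    obtain ⟨a, ha⟩ := h1 (Ideal.Quotient.mk _ b)
    have h2 : φ a - b ∈ mB ^ 2 := by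
      rw [← Ideal.Quotient.eq]; exact ha
    have h3 : φ a ∈ mB := by
      have h4 : φ a - b ∈ mB := Ideal.pow_le_self two_ne_zero h2
      have : φ a = (φ a - b) + b := by ring
      rw [this]; exact mB.add_mem h4 hb
    have h4 : a ∈ mA := hloc a h3
    have hb' : b = φ a - (φ a - b) := by ring
    rw [hb']
    refine Submodule.sub_mem _ (Submodule.mem_sup_left (Ideal.mem_map_of_mem φ h4))
      (Submodule.mem_sup_right ?_)
    rwa [smul_eq_mul, ← pow_two]
  have hQ : ∀ (m : ℕ) (y : B), y ∈ mB ^ m → ∃ a ∈ mA ^ m, φ a - y ∈ mB ^ (m + 1) := by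
    intro m y hy
    have hpow : mB ^ m = Ideal.span (φ '' (mA ^ m : Ideal A)) := by
      rw [hmB, ← Ideal.map_pow]; rfl
    rw [hpow] at hy
    induction hy using Submodule.span_induction with
    | mem y hy =>
      obtain ⟨x, hx, rfl⟩ := hy
      exact ⟨x, hx, by simp⟩
    | zero => exact ⟨0, Ideal.zero_mem _, by simp⟩
    | add y z _ _ hy hz =>
      obtain ⟨a, ha, ha'⟩ := hy
      obtain ⟨c, hc, hc'⟩ := hz
      refine ⟨a + c, Ideal.add_mem _ ha hc, ?_⟩
      have : φ (a + c) - (y + z) = (φ a - y) + (φ c - z) := by rw [map_add]; ring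
      rw [this]; exact Ideal.add_mem _ ha' hc'
    | smul c y hy ih =>
      obtain ⟨a, ha, ha'⟩ := ih
      obtain ⟨ac, hac⟩ := h0 c
      refine ⟨ac * a, Ideal.mul_mem_left _ _ ha, ?_⟩
      have hy' : y ∈ mB ^ m := by rw [hpow]; exact hy
      have : φ (ac * a) - c • y = φ ac * (φ a - y) + (φ ac - c) * y := by
        rw [map_mul, smul_eq_mul]; ring
      rw [this]
      refine Ideal.add_mem _ (Ideal.mul_mem_left _ _ ha') ?_
      rw [pow_succ']
      exact Ideal.mul_mem_mul hac hy'
  have hP : ∀ (m : ℕ) (b : B), ∃ a : A, φ a - b ∈ mB ^ (m + 1) := by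
    intro m
    induction m with
    | zero =>
      intro b
      obtain ⟨a, ha⟩ := h0 b
      exact ⟨a, by simpa using ha⟩
    | succ m ih =>
      intro b
      obtain ⟨a, ha⟩ := ih b
      obtain ⟨a', -, ha'⟩ := hQ (m + 1) (b - φ a) (by
        have : b - φ a = -(φ a - b) := by ring
        rw [this]; exact Ideal.neg_mem_iff _ |>.2 ha)
      refine ⟨a + a', ?_⟩
      have : φ (a + a') - b = φ a' - (b - φ a) := by rw [map_add]; ring
      rw [this]; exact ha'
  have hsurj : Function.Surjective ((Ideal.Quotient.mk (mB ^ (n + 1))).comp φ) := by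
    intro c
    obtain ⟨b, rfl⟩ := Ideal.Quotient.mk_surjective c
    obtain ⟨a, ha⟩ := hP n b
    exact ⟨a, by rw [RingHom.comp_apply, Ideal.Quotient.eq]; exact ha⟩
  refine ⟨hsurj, ?_⟩
  -- the kernel
  set I := mA ^ (n + 1) with hI
  set ψ := (Ideal.Quotient.mk (mB ^ (n + 1))).comp φ with hψ
  have hIK : I ≤ RingHom.ker ψ := by
    intro a ha
    rw [RingHom.mem_ker, hψ, RingHom.comp_apply, Ideal.Quotient.eq_zero_iff_mem]
    have : φ a ∈ (mA.map φ) ^ (n + 1) := by
      rw [← Ideal.map_pow]; exact Ideal.mem_map_of_mem φ ha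
    exact Ideal.pow_right_mono hmap_le _ this
  apply le_antisymm _ hIK
  -- length argument
  letI : Algebra A (B ⧸ mB ^ (n + 1)) := ψ.toAlgebra
  have hlenC : Module.length A (B ⧸ mB ^ (n + 1)) = Module.length B (B ⧸ mB ^ (n + 1)) := by
    rw [Module.length_eq_of_surjective (S := A) (R := B ⧸ mB ^ (n + 1)) (M := B ⧸ mB ^ (n + 1)) hsurj,
      Module.length_eq_of_surjective (S := B) (R := B ⧸ mB ^ (n + 1)) (M := B ⧸ mB ^ (n + 1))
        Ideal.Quotient.mk_surjective]
  have hart : IsArtinianRing (A ⧸ I) := by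
    apply IsLocalRing.quotient_artinian_of_mem_minimalPrimes_of_isLocalRing
    refine ⟨⟨inferInstance, Ideal.pow_le_self (Nat.succ_ne_zero n)⟩, ?_⟩
    rintro P ⟨hP1, hP2⟩ -
    exact hP1.le_of_pow_le hP2
  have hfin : Module.length A (A ⧸ I) ≠ ⊤ := by
    rw [Module.length_eq_of_surjective (S := A) (R := A ⧸ I) (M := A ⧸ I)
      Ideal.Quotient.mk_surjective]
    exact Module.length_ne_top
  let g : (A ⧸ I) →ₗ[A] (B ⧸ mB ^ (n + 1)) :=
    Submodule.liftQ I (Algebra.linearMap A (B ⧸ mB ^ (n + 1))) (by
      intro a ha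
      exact hIK ha)
  have hg : Function.Surjective g := by
    intro c
    obtain ⟨a, rfl⟩ := hsurj c
    exact ⟨Submodule.Quotient.mk a, rfl⟩
  have hadd := Module.length_eq_add_of_exact (LinearMap.ker g).subtype g
    (Submodule.subtype_injective _) hg (LinearMap.exact_subtype_ker_map g)
  rw [hlenC, ← hlen n] at hadd
  have hzero : Module.length A (LinearMap.ker g) = 0 := by
    have h5 : Module.length A (A ⧸ I) + 0 = Module.length A (LinearMap.ker g) + Module.length A (A ⧸ I) := by
      rw [add_zero]; exact hadd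
    rw [add_comm (Module.length A (LinearMap.ker g))] at h5
    exact ((ENat.add_right_injective_of_ne_top hfin) h5).symm
  rw [Module.length_eq_zero_iff] at hzero
  intro a ha
  have h6 : (Submodule.Quotient.mk a : A ⧸ I) ∈ LinearMap.ker g := by
    rw [LinearMap.mem_ker]
    exact ha
  have h7 : (⟨Submodule.Quotient.mk a, h6⟩ : LinearMap.ker g) = 0 := Subsingleton.elim _ _
  have h8 : (Submodule.Quotient.mk a : A ⧸ I) = 0 := congrArg Subtype.val h7
  rwa [Submodule.Quotient.mk_eq_zero] at h8

end Groth.Agent.S16104
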