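import Groth.Statements.S16149
import Groth.Agent.Lead.UnitCoh
import Groth.Agent.S0020
-- import your own Groth.Agent.* helpers here

set_option autoImplicit false
universe u
open CategoryTheory CategoryTheory.Limits AlgebraicGeometry TopologicalSpace
open SDiv

namespace Groth.Agent.S16149

/-- Let X be a locally Noetherian scheme, F a coherent O_X-module (quasi-coherent of finite type) and s
: O_X → F a global section of F. Then the set of points x of X at which the stalk map (O_X)_x → F_x
of s is bijective is open. (The published statement assumes moreover X integral and normal and F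
reflexive of rank one; the openness assertion uses only that F is coherent on a locally Noetherian
scheme, and it can fail for F quasi-coherent of finite type on a scheme that is not locally
Noetherian.) -/
theorem result (X : Scheme.{u}) [IsLocallyNoetherian X] (F : X.Modules) (hF : Coh.IsCoh F)
    (s : Coh.structureModule X ⟶ F) : IsOpen (RefPow.isoLocus s) := by
  have hO : Coh.IsCoh (Coh.structureModule X) :=
    ⟨Groth.Agent.Lead.UnitCoh.isQuasicoherent_unit X, Groth.Agent.Lead.UnitCoh.isFiniteType_unit X⟩
  obtain ⟨hK, hC⟩ := Groth.Agent.S9514.result X hO hF s
  have h1 := Groth.Agent.S0020.result X (CategoryTheory.Limits.kernel s) hK.2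
  have h2 := Groth.Agent.S0020.result X (CategoryTheory.Limits.cokernel s) hC.2
  have heq : RefPow.isoLocus s =
      (CohB1.support (CategoryTheory.Limits.kernel s))ᶜ ∩
        (CohB1.support (CategoryTheory.Limits.cokernel s))ᶜ := by
    ext x
    have hb := Groth.Agent.Lead.StalkExact.bijective_stalkMap_iff s x
    change Function.Bijective (Groth.Agent.Lead.QCoh.stalkMap s x) ↔ _
    rw [hb]
    simp only [CohB1.support, Set.mem_inter_iff, Set.mem_compl_iff, Set.mem_setOf_eq, not_not]
  rw [heq]
  exact h1.isOpen_compl.inter h2.isOpen_compl

end Groth.Agent.S16149
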