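import Groth.Statements.S1615
import Mathlib

set_option autoImplicit false
universe u
open CategoryTheory CategoryTheory.Limits AlgebraicGeometry
open Constr

namespace Groth.Agent.S1615

/-- For a graded ring A, quasi-compactness of Proj A is equivalent to the existence of finitely many
homogeneous elements of positive degree generating an ideal whose radical contains the irrelevant
ideal A_+. -/
theorem result {R A : Type u} [CommRing R] [CommRing A] [Algebra R A] (𝒜 : ℕ → Submodule R A) [GradedAlgebra 𝒜] :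
    CompactSpace ↥(Proj 𝒜) ↔ ∃ s : Finset A, (∀ f ∈ s, ∃ d : ℕ, 0 < d ∧ f ∈ 𝒜 d) ∧
      (HomogeneousIdeal.irrelevant 𝒜).toIdeal ≤ (Ideal.span (s : Set A)).radical := by
  classical
  constructor
  · intro hc
    -- index type of homogeneous elements of positive degree
    let T := {f : A // ∃ d : ℕ, 0 < d ∧ f ∈ 𝒜 d}
    have hcov : ⨆ f : T, Proj.basicOpen 𝒜 (f : A) = ⊤ := by
      apply Proj.iSup_basicOpen_eq_top
      rw [HomogeneousIdeal.irrelevant_eq_span]
      apply Ideal.span_mono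
      intro x hx
      simp only [Set.mem_iUnion] at hx
      obtain ⟨i, hi, hx⟩ := hx
      exact ⟨⟨x, i, hi, hx⟩, rfl⟩
    have hcov' : (Set.univ : Set ↥(Proj 𝒜)) ⊆ ⋃ f : T, ((Proj.basicOpen 𝒜 (f : A) : (Proj 𝒜).Opens) : Set ↥(Proj 𝒜)) := by
      intro x _
      have hx : x ∈ (⨆ f : T, Proj.basicOpen 𝒜 (f : A)) := by rw [hcov]; trivial
      rw [TopologicalSpace.Opens.mem_iSup] at hx
      obtain ⟨f, hf⟩ := hx
      exact Set.mem_iUnion.mpr ⟨f, hf⟩
    obtain ⟨t, ht⟩ := isCompact_univ.elim_finite_subcover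
      (fun f : T => ((Proj.basicOpen 𝒜 (f : A) : (Proj 𝒜).Opens) : Set ↥(Proj 𝒜)))
      (fun f => (Proj.basicOpen 𝒜 (f : A)).isOpen) hcov'
    refine ⟨t.image (fun f : T => (f : A)), ?_, ?_⟩
    · intro f hf
      obtain ⟨g, _, rfl⟩ := Finset.mem_image.mp hf
      exact g.2
    · have hhom : (Ideal.span ((t.image (fun f : T => (f : A)) : Finset A) : Set A)).IsHomogeneous 𝒜 := by
        apply Ideal.homogeneous_span
        intro x hx
        obtain ⟨g, _, rfl⟩ := Finset.mem_image.mp (Finset.mem_coe.mp hx)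
        obtain ⟨d, _, hd⟩ := g.2
        exact ⟨d, hd⟩
      rw [hhom.radical_eq]
      intro a ha
      rw [Ideal.mem_sInf]
      rintro J ⟨hJh, hJle, hJp⟩
      by_contra haJ
      have hnot : ¬ HomogeneousIdeal.irrelevant 𝒜 ≤ (⟨J, hJh⟩ : HomogeneousIdeal 𝒜) := by
        intro hle
        exact haJ (hle ha)
      let x : ProjectiveSpectrum 𝒜 := ⟨⟨J, hJh⟩, hJp, hnot⟩
      have hx := ht (Set.mem_univ (show ↥(Proj 𝒜) from x))
      obtain ⟨f, hft, hf⟩ := Set.mem_iUnion₂.mp hx
      have hf' : (f : A) ∉ J := hf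
      apply hf'
      apply hJle
      apply Ideal.subset_span
      exact Finset.mem_coe.mpr (Finset.mem_image.mpr ⟨f, hft, rfl⟩)
  · rintro ⟨s, hs, hle⟩
    have hcov : (Set.univ : Set ↥(Proj 𝒜)) = ⋃ f ∈ s, ((Proj.basicOpen 𝒜 f : (Proj 𝒜).Opens) : Set ↥(Proj 𝒜)) := by
      symm
      rw [Set.eq_univ_iff_forall]
      intro x
      by_contra hx
      simp only [Set.mem_iUnion, not_exists] at hx
      have hall : ∀ f ∈ s, f ∈ x.asHomogeneousIdeal.toIdeal := by
        intro f hf
        by_contra hfx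
        exact hx f hf hfx
      have h1 : Ideal.span (s : Set A) ≤ x.asHomogeneousIdeal.toIdeal :=
        Ideal.span_le.mpr (fun f hf => hall f (Finset.mem_coe.mp hf))
      have h2 : (Ideal.span (s : Set A)).radical ≤ x.asHomogeneousIdeal.toIdeal :=
        (x.isPrime.radical_le_iff).mpr h1
      exact x.not_irrelevant_le (hle.trans h2)
    refine ⟨?_⟩
    rw [hcov]
    apply s.isCompact_biUnion
    intro f hf
    obtain ⟨d, hd, hfd⟩ := hs f hf
    exact (Proj.isAffineOpen_basicOpen 𝒜 f hfd hd).isCompact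

end Groth.Agent.S1615
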