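import Groth.Statements.S16152
import Mathlib

set_option autoImplicit false
universe u
open WGauss

namespace Groth.Agent.S16152

open MvPolynomial

section aux
variable {k : Type*} [Field k] {ι : Type*}

theorem split_degree (p q : ℕ) (v : ι →₀ ℕ) (hv : v.degree = p + q) :
    ∃ δ ε : ι →₀ ℕ, v = δ + ε ∧ δ.degree = p ∧ ε.degree = q := by
  obtain ⟨g, hgf, hg⟩ := Finsupp.exists_le_degree_eq v p (by omega)
  obtain ⟨c, rfl⟩ := le_iff_exists_add.mp hgf
  refine ⟨g, c, rfl, hg, ?_⟩
  rw [map_add, hg] at hv
  omega

/-- the generator -/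
noncomputable def G (a b : ℕ) (σ τ : MvPolynomial ι k) : ι → MvPolynomial ι k :=
  fun i => (b : k) • (τ * pderiv i σ) - (a : k) • (σ * pderiv i τ)

noncomputable def W (k : Type*) [Field k] (ι : Type*) (a b e : ℕ) :
    Submodule k (ι → MvPolynomial ι k) :=
  Submodule.span k {g | ∃ σ τ : MvPolynomial ι k, σ.IsHomogeneous (a * e) ∧
    τ.IsHomogeneous (b * e) ∧
      g = fun i => (b : k) • (τ * pderiv i σ) - (a : k) • (σ * pderiv i τ)}

theorem G_mem (a b e : ℕ) {σ τ : MvPolynomial ι k} (hσ : σ.IsHomogeneous (a * e))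
    (hτ : τ.IsHomogeneous (b * e)) : G a b σ τ ∈ W k ι a b e :=
  Submodule.subset_span ⟨σ, τ, hσ, hτ, rfl⟩

noncomputable def kap (h : MvPolynomial ι k) (i j : ι) : ι → MvPolynomial ι k :=
  fun l => h * (pderiv l (X i) * X j - pderiv l (X j) * X i)

theorem key (a b : ℕ) (m m' : MvPolynomial ι k) (i j : ι) :
    G a b (m * X i) (m' * X j) - G a b (m * X j) (m' * X i)
      = ((a : k) + b) • kap (m * m') i j := by
  funext l
  simp only [G, kap, Pi.sub_apply, Pi.smul_apply, pderiv_mul, smul_eq_C_mul, map_add]
  ring

theorem kap_sum {α : Type*} (s : Finset α) (h : α → MvPolynomial ι k) (i j : ι) :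
    kap (∑ x ∈ s, h x) i j = ∑ x ∈ s, kap (h x) i j := by
  funext l
  simp only [kap, Finset.sum_apply, Finset.sum_mul]

theorem kap_mem [CharZero k] (a b e : ℕ) (ha : 0 < a) (hae : 0 < a * e) (hbe : 0 < b * e)
    (h : MvPolynomial ι k) (hh : h.IsHomogeneous ((a * e - 1) + (b * e - 1))) (i j : ι) :
    kap h i j ∈ W k ι a b e := by
  have hab0 : ((a : k) + b) ≠ 0 := by
    have : ((a + b : ℕ) : k) ≠ 0 := Nat.cast_ne_zero.mpr (by omega)
    simpa [Nat.cast_add] using this
  have hsum : kap h i j = ∑ v ∈ h.support, kap (monomial v (coeff v h)) i j := by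
    rw [← kap_sum, ← h.as_sum]
  rw [hsum]
  refine Submodule.sum_mem _ (fun v hv => ?_)
  have hvdeg : v.degree = (a * e - 1) + (b * e - 1) := by
    by_contra hne
    exact (mem_support_iff.mp hv) (hh.coeff_eq_zero hne)
  obtain ⟨δ, ε, hve, hδ, hε⟩ := split_degree _ _ v hvdeg
  have hm : (monomial δ (coeff v h)).IsHomogeneous (a * e - 1) := isHomogeneous_monomial _ hδ
  have hm' : (monomial ε (1 : k)).IsHomogeneous (b * e - 1) := isHomogeneous_monomial _ hε
  have hmX : ∀ i, (monomial δ (coeff v h) * X i).IsHomogeneous (a * e) := by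
    intro i
    have := hm.mul (isHomogeneous_X k i)
    rwa [show a * e - 1 + 1 = a * e by omega] at this
  have hmX' : ∀ i, (monomial ε (1 : k) * X i).IsHomogeneous (b * e) := by
    intro i
    have := hm'.mul (isHomogeneous_X k i)
    rwa [show b * e - 1 + 1 = b * e by omega] at this
  have heq : kap (monomial v (coeff v h)) i j = ((a : k) + b)⁻¹ •
      (G a b (monomial δ (coeff v h) * X i) (monomial ε (1 : k) * X j)
        - G a b (monomial δ (coeff v h) * X j) (monomial ε (1 : k) * X i)) := by
    rw [key, smul_smul, inv_mul_cancel₀ hab0, one_smul, monomial_mul, mul_one, ← hve]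
  rw [heq]
  exact Submodule.smul_mem _ _ (Submodule.sub_mem _ (G_mem a b e (hmX i) (hmX' j))
    (G_mem a b e (hmX j) (hmX' i)))

end aux

open MvPolynomial in
/-- Over a field k of characteristic zero, for e, a, b positive integers with a < b, the weighted
Gaussian map of the line bundle O(e) on projective n-space is surjective. Concretely, identifying
global sections of O(m) with homogeneous polynomials of degree m in X_0, ..., X_n and global
sections of the twisted cotangent sheaf Omega^1(t) with the (n+1)-tuples of homogeneous polynomials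
of degree t - 1 killed by the Euler map (f_i) to sum_i X_i f_i, every such tuple with t = (a+b)e is
a k-linear combination of the tuples (b tau (d sigma / d X_i) - a sigma (d tau / d X_i))_i with
sigma homogeneous of degree ae and tau homogeneous of degree be. (The source works over the complex
numbers; the statement is one of linear algebra and is given here over any field of characteristic
zero.) -/
theorem result
    (k : Type u) [Field k] [CharZero k] (n e a b : ℕ) (he : 0 < e) (ha : 0 < a) (hab : a < b)
    (f : Fin (n + 1) → MvPolynomial (Fin (n + 1)) k)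
    (hf : ∀ i, (f i).IsHomogeneous ((a + b) * e - 1))
    (hEuler : ∑ i, X i * f i = 0) :
    f ∈ Submodule.span k
      {g : Fin (n + 1) → MvPolynomial (Fin (n + 1)) k |
        ∃ σ τ : MvPolynomial (Fin (n + 1)) k, σ.IsHomogeneous (a * e) ∧ τ.IsHomogeneous (b * e) ∧
          g = fun i => (b : k) • (τ * pderiv i σ) - (a : k) • (σ * pderiv i τ)} := by
  have hae : 0 < a * e := Nat.mul_pos ha he
  have hb : 0 < b := by omega
  have hbe : 0 < b * e := Nat.mul_pos hb he
  have ht0 : 0 < (a + b) * e := Nat.mul_pos (by omega) he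
  have hdeg : (a + b) * e - 1 - 1 = (a * e - 1) + (b * e - 1) := by
    rw [add_mul]; omega
  have htk : (((a + b) * e : ℕ) : k) ≠ 0 := Nat.cast_ne_zero.mpr (by omega)
  have hmain : ∀ m, ((a + b) * e) • f m = ∑ i, ∑ l, kap (pderiv i (f l)) l i m := by
    intro m
    have E1 : ∑ i, X i * pderiv i (f m) = ((a + b) * e - 1) • f m := (hf m).sum_X_mul_pderiv
    have E2 : ∑ l, X l * pderiv m (f l) = - f m := by
      have h0 := congrArg (pderiv m) hEuler
      rw [map_sum, map_zero] at h0
      simp only [pderiv_mul, pderiv_X, Pi.single_apply] at h0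
      rw [Finset.sum_add_distrib] at h0
      simp only [ite_mul, one_mul, zero_mul, Finset.sum_ite_eq', Finset.mem_univ, if_true] at h0
      linear_combination h0
    have inner : ∀ i, ∑ l, kap (pderiv i (f l)) l i m
        = X i * pderiv i (f m) - (if i = m then ∑ l, X l * pderiv m (f l) else 0) := by
      intro i
      simp only [kap, pderiv_X, Pi.single_apply, mul_sub, Finset.sum_sub_distrib, ite_mul,
        one_mul, zero_mul, mul_ite, mul_zero, Finset.sum_ite_eq', Finset.mem_univ, if_true]
      congr 1
      · ring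
      · by_cases hmi : i = m
        · subst hmi
          simp only [if_true]
          exact Finset.sum_congr rfl (fun l _ => mul_comm _ _)
        · simp only [hmi, if_false, Finset.sum_const_zero]
    simp only [inner, Finset.sum_sub_distrib, Finset.sum_ite_eq', Finset.mem_univ, if_true,
      E1, E2]
    rw [sub_neg_eq_add, ← succ_nsmul]
    congr 1
    omega
  have h1 : (((a + b) * e : ℕ) : k) • f = ∑ i, ∑ l, kap (pderiv i (f l)) l i := by
    funext m
    rw [Pi.smul_apply, Nat.cast_smul_eq_nsmul, hmain m]
    simp only [Finset.sum_apply]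
  have hfeq : f = (((a + b) * e : ℕ) : k)⁻¹ • ∑ i, ∑ l, kap (pderiv i (f l)) l i := by
    rw [← h1, smul_smul, inv_mul_cancel₀ htk, one_smul]
  show f ∈ W k (Fin (n + 1)) a b e
  rw [hfeq]
  refine Submodule.smul_mem _ _ (Submodule.sum_mem _ fun i _ => Submodule.sum_mem _ fun l _ => ?_)
  exact kap_mem a b e ha hae hbe _ (hdeg ▸ (hf l).pderiv) l i

end Groth.Agent.S16152
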