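import Groth.Statements.S16158
import Mathlib

set_option autoImplicit false
universe u v w
open MadRed

namespace Groth.Agent.S16158

section Aux

variable {R : Type u} [CommRing R] {M : Type v} [AddCommGroup M] [Module R M]
variable {ι : Type w} [DecidableEq ι] (N : ι → Submodule R M) (h : DirectSum.IsInternal N)

/-- The projection onto the `i`-th summand of an internal direct sum decomposition. -/
noncomputable def proj (i : ι) : M →ₗ[R] M :=
  (N i).subtype ∘ₗ (DirectSum.component R ι (fun i => N i) i) ∘ₗ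
    (LinearEquiv.ofBijective (DirectSum.coeLinearMap N) h).symm.toLinearMap

lemma proj_mem (i : ι) (x : M) : proj N h i x ∈ N i := Submodule.coe_mem _

lemma symm_of_mem (j : ι) (x : M) (hx : x ∈ N j) :
    (LinearEquiv.ofBijective (DirectSum.coeLinearMap N) h).symm x =
      DirectSum.lof R ι (fun i => N i) j ⟨x, hx⟩ := by
  rw [LinearEquiv.symm_apply_eq]
  show x = DirectSum.coeLinearMap N (DirectSum.lof R ι (fun i => N i) j ⟨x, hx⟩)
  rw [DirectSum.coeLinearMap_lof]

lemma proj_same (i : ι) (x : M) (hx : x ∈ N i) : proj N h i x = x := by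
  unfold proj
  simp only [LinearMap.coe_comp, Function.comp_apply, LinearEquiv.coe_coe]
  rw [symm_of_mem N h i x hx, DirectSum.component.lof_self]
  rfl

lemma proj_ne (i j : ι) (hij : j ≠ i) (x : M) (hx : x ∈ N j) : proj N h i x = 0 := by
  unfold proj
  simp only [LinearMap.coe_comp, Function.comp_apply, LinearEquiv.coe_coe]
  rw [symm_of_mem N h j x hx, DirectSum.component.of, dif_neg hij]
  rfl

include h in
/-- The number of summands not killed modulo a maximal ideal is bounded by the number of
generators. -/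
lemma card_le_of_maximal (𝔪 : Ideal R) [h𝔪 : 𝔪.IsMaximal] {g : ℕ} (e : Fin g → M)
    (he : Submodule.span R (Set.range e) = ⊤) (s : Finset ι)
    (hs : ∀ i ∈ s, 𝔪 • N i ≠ N i) : s.card ≤ g := by
  classical
  have hx : ∀ i : ι, ∃ x : M, i ∈ s → (x ∈ N i ∧ x ∉ 𝔪 • N i) := by
    intro i
    by_cases hi : i ∈ s
    · have hlt : 𝔪 • N i < N i := lt_of_le_of_ne Submodule.smul_le_right (hs i hi)
      obtain ⟨x, hx1, hx2⟩ := SetLike.exists_of_lt hlt
      exact ⟨x, fun _ => ⟨hx1, hx2⟩⟩
    · exact ⟨0, fun h' => absurd h' hi⟩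
  choose x hx using hx
  letI := Ideal.Quotient.field 𝔪
  let V := M ⧸ (𝔪 • ⊤ : Submodule R M)
  let v : s → V := fun i => Submodule.Quotient.mk (x i)
  have hli : LinearIndependent (R ⧸ 𝔪) v := by
    rw [Fintype.linearIndependent_iff]
    intro c hc i
    have hlift : ∀ j : s, ∃ a : R, Ideal.Quotient.mk 𝔪 a = c j :=
      fun j => Ideal.Quotient.mk_surjective (c j)
    choose a ha using hlift
    have hsum : ∑ j : s, a j • x j ∈ (𝔪 • ⊤ : Submodule R M) := by
      have h0 : (Submodule.mkQ (𝔪 • ⊤ : Submodule R M)) (∑ j : s, a j • x j) = 0 := by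
        rw [map_sum, ← hc]
        refine Finset.sum_congr rfl fun j _ => ?_
        rw [← ha j]
        rfl
      exact (Submodule.Quotient.mk_eq_zero _).mp h0
    -- project to the i-th summand
    have hproj : proj N h i (∑ j : s, a j • x j) = a i • x i := by
      rw [map_sum]
      rw [Finset.sum_eq_single i]
      · rw [map_smul, proj_same N h i _ (hx i i.2).1]
      · intro j _ hji
        rw [map_smul, proj_ne N h i j (fun hh => hji (Subtype.ext hh)) _ (hx j j.2).1, smul_zero]
      · intro hh; exact absurd (Finset.mem_univ i) hh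
    have hmem : a i • x i ∈ 𝔪 • N i := by
      rw [← hproj]
      have h1 := Submodule.mem_map_of_mem (f := proj N h i) hsum
      rw [Submodule.map_smul''] at h1
      refine Submodule.smul_mono le_rfl ?_ h1
      rintro _ ⟨y, _, rfl⟩
      exact proj_mem N h i y
    by_contra hci
    have hai : a i ∉ 𝔪 := by
      intro hh
      apply hci
      rw [← ha i]
      exact Ideal.Quotient.eq_zero_iff_mem.mpr hh
    obtain ⟨y, t, ht, hyt⟩ := h𝔪.exists_inv hai
    apply (hx i i.2).2
    have : x i = y • (a i • x i) + t • x i := by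
      rw [smul_smul, ← add_smul, hyt, one_smul]
    rw [this]
    exact Submodule.add_mem _ (Submodule.smul_mem _ _ hmem)
      (Submodule.smul_mem_smul ht (hx i i.2).1)
  -- spanning set
  have hspan : Submodule.span (R ⧸ 𝔪) (Set.range fun j : Fin g => (Submodule.Quotient.mk (e j) : V)) = ⊤ := by
    rw [eq_top_iff]
    rintro z -
    obtain ⟨m, rfl⟩ := Submodule.Quotient.mk_surjective _ z
    have hm : m ∈ Submodule.span R (Set.range e) := by rw [he]; trivial
    refine Submodule.span_induction ?_ ?_ ?_ ?_ hm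
    · rintro _ ⟨j, rfl⟩
      exact Submodule.subset_span ⟨j, rfl⟩
    · exact Submodule.zero_mem _
    · intro u w _ _ hu hw
      rw [Submodule.Quotient.mk_add]
      exact Submodule.add_mem _ hu hw
    · intro r u _ hu
      have : (Submodule.Quotient.mk (r • u) : V) = Ideal.Quotient.mk 𝔪 r • Submodule.Quotient.mk u := rfl
      rw [this]
      exact Submodule.smul_mem _ _ hu
  have hcard := linearIndependent_le_span_finset v hli
    (Finset.univ.image fun j : Fin g => (Submodule.Quotient.mk (e j) : V))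
    (by rw [Finset.coe_image, Finset.coe_univ, Set.image_univ]; exact hspan)
  have h2 : (Finset.univ.image fun j : Fin g => (Submodule.Quotient.mk (e j) : V)).card ≤ g := by
    refine (Finset.card_image_le).trans ?_
    simp
  have h3 : (s.card : Cardinal) ≤ (g : Cardinal) := by
    have : Cardinal.mk s = s.card := by simp
    rw [← this]
    exact hcard.trans (by exact_mod_cast h2)
  exact_mod_cast h3

end Aux

/-- A nonzero finitely generated module is not killed modulo a maximal ideal containing one of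
its associated primes. -/
lemma smul_ne_of_assoc {R : Type u} [CommRing R] [IsNoetherianRing R] {M : Type v} [AddCommGroup M]
    [Module R M] [Module.Finite R M] (P : Submodule R M) (𝔭 𝔪 : Ideal R)
    (h𝔭 : 𝔭 ∈ associatedPrimes R P) (h𝔪 : 𝔪.IsMaximal) (hle : 𝔭 ≤ 𝔪) : 𝔪 • P ≠ P := by
  intro heq
  obtain ⟨hprime, x, hx⟩ := isAssociatedPrime_iff.mp h𝔭
  obtain ⟨r, hr1, hr2⟩ := Submodule.exists_sub_one_mem_and_smul_eq_zero_of_fg_of_le_smul 𝔪 P
    (IsNoetherian.noetherian P) (le_of_eq heq.symm)
  have hr : r ∈ 𝔭 := by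
    rw [hx, Submodule.mem_colon_singleton, Submodule.mem_bot]
    apply Subtype.ext
    have := hr2 x.1 x.2
    simpa using this
  have h1 : (1 : R) ∈ 𝔪 := by
    have : (1 : R) = r - (r - 1) := by ring
    rw [this]
    exact Ideal.sub_mem _ (hle hr) hr1
  exact h𝔪.ne_top ((Ideal.eq_top_iff_one _).mpr h1)

/-- Let R be a commutative Noetherian ring and M a finitely generated R-module. Then there is a natural
number n such that in every decomposition of M as an internal direct sum of a family of submodules,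
at most n of the summands are nonzero (the nonzero summands are indexed by a finite set of size at
most n). -/
theorem result (R : Type u) [CommRing R] [IsNoetherianRing R]
    (M : Type v) [AddCommGroup M] [Module R M] [Module.Finite R M] :
    ∃ n : ℕ, ∀ (ι : Type w) [DecidableEq ι] (N : ι → Submodule R M), DirectSum.IsInternal N →
      ∃ s : Finset ι, s.card ≤ n ∧ ∀ i, N i ≠ ⊥ → i ∈ s := by
  classical
  obtain ⟨g, e, he⟩ := Module.Finite.exists_fin (R := R) (M := M)
  have hAssFin := associatedPrimes.finite R M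
  have hmax : ∀ 𝔭 : Ideal R, ∃ 𝔪 : Ideal R, 𝔭.IsPrime → (𝔪.IsMaximal ∧ 𝔭 ≤ 𝔪) := by
    intro 𝔭
    by_cases hp : 𝔭.IsPrime
    · obtain ⟨𝔪, h1, h2⟩ := Ideal.exists_le_maximal 𝔭 hp.ne_top
      exact ⟨𝔪, fun _ => ⟨h1, h2⟩⟩
    · exact ⟨⊤, fun hh => absurd hh hp⟩
  choose mx hmx using hmax
  refine ⟨hAssFin.toFinset.card * g, ?_⟩
  intro ι _ N hN
  -- every finite set of indices of nonzero summands is small
  have hbound : ∀ t : Finset ι, (∀ i ∈ t, N i ≠ ⊥) → t.card ≤ hAssFin.toFinset.card * g := by
    intro t ht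
    have hcover : t ⊆ hAssFin.toFinset.biUnion
        (fun 𝔭 => t.filter (fun i => mx 𝔭 • N i ≠ N i)) := by
      intro i hi
      haveI : Nontrivial (N i) := Submodule.nontrivial_iff_ne_bot.mpr (ht i hi)
      obtain ⟨𝔭, h𝔭⟩ := associatedPrimes.nonempty R (N i)
      have h𝔭M : 𝔭 ∈ associatedPrimes R M :=
        associatedPrimes.subset_of_injective (f := (N i).subtype) (N i).injective_subtype h𝔭
      have hp : 𝔭.IsPrime := h𝔭.1
      rw [Finset.mem_biUnion]
      refine ⟨𝔭, hAssFin.mem_toFinset.mpr h𝔭M, ?_⟩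
      rw [Finset.mem_filter]
      exact ⟨hi, smul_ne_of_assoc (N i) 𝔭 (mx 𝔭) h𝔭 (hmx 𝔭 hp).1 (hmx 𝔭 hp).2⟩
    calc t.card ≤ (hAssFin.toFinset.biUnion
          (fun 𝔭 => t.filter (fun i => mx 𝔭 • N i ≠ N i))).card := Finset.card_le_card hcover
      _ ≤ ∑ 𝔭 ∈ hAssFin.toFinset, (t.filter (fun i => mx 𝔭 • N i ≠ N i)).card :=
          Finset.card_biUnion_le
      _ ≤ ∑ _𝔭 ∈ hAssFin.toFinset, g := by
          refine Finset.sum_le_sum fun 𝔭 h𝔭 => ?_
          have h𝔭M : 𝔭 ∈ associatedPrimes R M := hAssFin.mem_toFinset.mp h𝔭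
          have hp : 𝔭.IsPrime := h𝔭M.1
          haveI := (hmx 𝔭 hp).1
          exact card_le_of_maximal N hN (mx 𝔭) e he _
            (fun i hi => (Finset.mem_filter.mp hi).2)
      _ = hAssFin.toFinset.card * g := by rw [Finset.sum_const, smul_eq_mul]
  have hfin : {i | N i ≠ ⊥}.Finite := by
    by_contra hinf
    obtain ⟨t, hts, htc⟩ := Set.Infinite.exists_subset_card_eq hinf (hAssFin.toFinset.card * g + 1)
    have := hbound t (fun i hi => hts hi)
    omega
  refine ⟨hfin.toFinset, hbound _ (fun i hi => hfin.mem_toFinset.mp hi), ?_⟩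
  intro i hi
  exact hfin.mem_toFinset.mpr hi

end Groth.Agent.S16158
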