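import Groth.Statements.S16159
import Mathlib

set_option autoImplicit false
universe u v w x
open MadRed

namespace Groth.Agent.S16159

section Lag
variable {K V : Type*} [Field K] [AddCommGroup V] [Module K V]

theorem lagrange (g : Module.End K V) (p : Submodule K V) (hp : ∀ x ∈ p, g x ∈ p) :
    ∀ (s : Finset K) (y : K → V), (∀ μ ∈ s, g (y μ) = μ • y μ) → (∑ μ ∈ s, y μ) ∈ p →
      ∀ μ ∈ s, y μ ∈ p := by
  classical
  intro s
  induction s using Finset.induction_on with
  | empty => intro y _ _ μ hμ; simp at hμ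
  | insert ν s' hν ih =>
    intro y hy hsum
    have hz : ∀ μ ∈ s', g ((μ - ν) • y μ) = μ • ((μ - ν) • y μ) := by
      intro μ hμ
      rw [map_smul, hy μ (Finset.mem_insert_of_mem hμ), smul_comm]
    have hzsum : (∑ μ ∈ s', (μ - ν) • y μ) ∈ p := by
      have h1 := hp _ hsum
      have h2 := p.smul_mem ν hsum
      have h3 := p.sub_mem h1 h2
      convert h3 using 1
      rw [Finset.sum_insert hν, map_add, map_sum, smul_add, Finset.smul_sum,
        hy ν (Finset.mem_insert_self _ _), add_sub_add_left_eq_sub, ← Finset.sum_sub_distrib]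
      apply Finset.sum_congr rfl
      intro μ hμ
      rw [hy μ (Finset.mem_insert_of_mem hμ), sub_smul]
    have hz' := ih (fun μ => (μ - ν) • y μ) hz hzsum
    have hy' : ∀ μ ∈ s', y μ ∈ p := by
      intro μ hμ
      have hne : μ - ν ≠ 0 := sub_ne_zero.mpr (fun h => hν (h ▸ hμ))
      have := p.smul_mem (μ - ν)⁻¹ (hz' μ hμ)
      rwa [smul_smul, inv_mul_cancel₀ hne, one_smul] at this
    intro μ hμ
    rcases Finset.mem_insert.mp hμ with h | hμ'
    · rw [h]
      have : y ν = (∑ μ' ∈ insert ν s', y μ') - ∑ μ' ∈ s', y μ' := by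
        rw [Finset.sum_insert hν]; abel
      rw [this]
      exact p.sub_mem hsum (p.sum_mem hy')
    · exact hy' μ hμ'

end Lag

theorem ind_principle {R V : Type*} [CommRing R] [AddCommGroup V] [Module R V]
    (W : Submodule R V) [IsNoetherian R W]
    (P : Submodule R V → Prop) (h : ∀ N ≤ W, (∀ N₁ ≤ W, N < N₁ → P N₁) → P N) :
    ∀ N ≤ W, P N := by
  intro N hN
  have key : ∀ I : Submodule R W, P (I.map W.subtype) := by
    intro I
    refine IsNoetherian.induction (P := fun I : Submodule R W => P (I.map W.subtype)) ?_ I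
    intro I hI
    apply h _ (Submodule.map_subtype_le W I)
    intro N₁ hN₁ hlt
    have hJ := hI (N₁.comap W.subtype) (by
      refine lt_of_le_of_ne (Submodule.map_le_iff_le_comap.mp hlt.le) ?_
      intro heq
      apply hlt.ne
      rw [heq, Submodule.map_comap_subtype, inf_eq_right.mpr hN₁])
    rwa [Submodule.map_comap_subtype, inf_eq_right.mpr hN₁] at hJ
  have := key (N.comap W.subtype)
  rwa [Submodule.map_comap_subtype, inf_eq_right.mpr hN] at this

section Main
variable {k : Type*} [Field k] {R : Type*} [CommRing R] [Algebra k R]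
  {V : Type*} [AddCommGroup V] [Module R V] [Module k V] [IsScalarTower k R V]
  {ι : Type*} (f : ι → Module.End R V)

/-- The `k`-subspace of `x ∈ W` with `f i x - χ i • x ∈ N` for all `i`. -/
def E (W N : Submodule R V) (χ : ι → k) : Submodule k V where
  carrier := {x | x ∈ W ∧ ∀ i, f i x - χ i • x ∈ N}
  add_mem' := by
    rintro x y ⟨hx, hx'⟩ ⟨hy, hy'⟩
    refine ⟨W.add_mem hx hy, fun i => ?_⟩
    have : f i (x + y) - χ i • (x + y) = (f i x - χ i • x) + (f i y - χ i • y) := by
      rw [map_add, smul_add]; abel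
    rw [this]; exact N.add_mem (hx' i) (hy' i)
  zero_mem' := ⟨W.zero_mem, fun i => by simp⟩
  smul_mem' := by
    rintro c x ⟨hx, hx'⟩
    refine ⟨W.smul_of_tower_mem c hx, fun i => ?_⟩
    have : f i (c • x) - χ i • (c • x) = c • (f i x - χ i • x) := by
      rw [LinearMap.map_smul_of_tower, smul_comm (χ i) c x, smul_sub]
    rw [this]; exact N.smul_of_tower_mem c (hx' i)

theorem mem_E (W N : Submodule R V) (χ : ι → k) (x : V) :
    x ∈ E f W N χ ↔ x ∈ W ∧ ∀ i, f i x - χ i • x ∈ N := Iff.rfl

def Good (W N : Submodule R V) : Prop := ∀ x ∈ W, x ∈ ⨆ χ : ι → k, E f W N χ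

def Stable (N : Submodule R V) : Prop := ∀ i, ∀ x ∈ N, f i x ∈ N

theorem stable_sup {A B : Submodule R V} (hA : Stable f A) (hB : Stable f B) :
    Stable f (A ⊔ B) := by
  intro i x hx
  obtain ⟨a, ha, b, hb, rfl⟩ := Submodule.mem_sup.mp hx
  rw [map_add]
  exact add_mem (Submodule.mem_sup_left (hA i a ha)) (Submodule.mem_sup_right (hB i b hb))

theorem stable_iSup {κ : Sort*} {S : κ → Submodule R V} (hS : ∀ a, Stable f (S a)) :
    Stable f (⨆ a, S a) := by
  intro i x hx
  refine Submodule.iSup_induction S (motive := fun x => f i x ∈ ⨆ a, S a) hx ?_ ?_ ?_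
  · intro a x hx
    exact Submodule.mem_iSup_of_mem a (hS a i x hx)
  · rw [map_zero]; exact zero_mem _
  · intro x y hx hy
    rw [map_add]; exact add_mem hx hy

theorem sub_lemma (W N P Q : Submodule R V) (hPW : P ≤ W) (hQW : Q ≤ W)
    (hsup : W ≤ P ⊔ Q) (hinf : P ⊓ Q ≤ N) (hNP : N ≤ P)
    (hN : Stable f N) (hP : Stable f P) (hQ : Stable f Q) (hgood : Good (k := k) f W Q) :
    ∀ a ∈ P, a ∈ ⨆ χ : ι → k, E f W N χ := by
  intro a ha
  have key : ∀ y ∈ ⨆ χ : ι → k, E f W Q χ,
      ∃ e ∈ ⨆ χ : ι → k, E f W N χ, e ∈ P ∧ y - e ∈ Q := by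
    intro y hy
    refine Submodule.iSup_induction (fun χ : ι → k => E f W Q χ)
      (motive := fun y => ∃ e ∈ ⨆ χ : ι → k, E f W N χ, e ∈ P ∧ y - e ∈ Q) hy ?_ ?_ ?_
    · intro χ y hy
      obtain ⟨hyW, hy'⟩ := hy
      obtain ⟨y', hy'P, y'', hy''Q, rfl⟩ := Submodule.mem_sup.mp (hsup hyW)
      refine ⟨y', Submodule.mem_iSup_of_mem χ ⟨hPW hy'P, fun i => hinf ⟨?_, ?_⟩⟩, hy'P, ?_⟩
      · exact P.sub_mem (hP i y' hy'P) (P.smul_of_tower_mem (χ i) hy'P)
      · have := Q.sub_mem (hy' i)
          (Q.sub_mem (hQ i y'' hy''Q) (Q.smul_of_tower_mem (χ i) hy''Q))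
        have heq : f i y' - χ i • y' =
            (f i (y' + y'') - χ i • (y' + y'')) - (f i y'' - χ i • y'') := by
          rw [map_add, smul_add]; abel
        rw [heq]; exact this
      · rw [add_sub_cancel_left]; exact hy''Q
    · exact ⟨0, zero_mem _, P.zero_mem, by rw [sub_zero]; exact Q.zero_mem⟩
    · rintro x y ⟨e₁, h₁, hp₁, hq₁⟩ ⟨e₂, h₂, hp₂, hq₂⟩
      refine ⟨e₁ + e₂, add_mem h₁ h₂, P.add_mem hp₁ hp₂, ?_⟩
      have : x + y - (e₁ + e₂) = (x - e₁) + (y - e₂) := by abel
      rw [this]; exact Q.add_mem hq₁ hq₂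
  obtain ⟨e, heT, heP, heQ⟩ := key a (hgood a (hPW ha))
  have hN' : a - e ∈ N := hinf ⟨P.sub_mem ha heP, heQ⟩
  have hmemE : a - e ∈ E f W N (0 : ι → k) := by
    refine ⟨hPW (hNP hN'), fun i => ?_⟩
    rw [Pi.zero_apply, zero_smul, sub_zero]
    exact hN i _ hN'
  have := add_mem heT (Submodule.mem_iSup_of_mem (0 : ι → k) hmemE)
  rwa [add_sub_cancel] at this

theorem good_of_stable [IsNoetherianRing R] (hcomm : ∀ i j, Commute (f i) (f j))
    (hdiag : ∀ i, ⨆ μ : k, Module.End.eigenspace ((f i).restrictScalars k) μ = ⊤)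
    (W : Submodule R V) (hWfg : W.FG) (hW : Stable f W) :
    ∀ N ≤ W, Stable f N → Good (k := k) f W N := by
  have : IsNoetherian R W := isNoetherian_of_fg_of_noetherian W hWfg
  refine ind_principle W (fun N => Stable f N → Good (k := k) f W N) ?_
  intro N hNW IH hN
  by_cases hA : ∀ i, ∃ c : k, ∀ x ∈ W, f i x - c • x ∈ N
  · choose χ hχ using hA
    intro x hx
    exact Submodule.mem_iSup_of_mem χ ⟨hx, fun i => hχ i x hx⟩
  · push Not at hA
    obtain ⟨i₀, hi₀⟩ := hA
    let F : k → Submodule R V :=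
      fun μ => W ⊓ N.comap (f i₀ - algebraMap k R μ • LinearMap.id)
    have memF : ∀ μ x, x ∈ F μ ↔ x ∈ W ∧ f i₀ x - μ • x ∈ N := by
      intro μ x
      simp only [F, Submodule.mem_inf, Submodule.mem_comap, LinearMap.sub_apply,
        LinearMap.smul_apply, LinearMap.id_apply, algebraMap_smul]
    have hNF : ∀ μ, N ≤ F μ := by
      intro μ x hx
      exact (memF μ x).2 ⟨hNW hx, N.sub_mem (hN i₀ x hx) (N.smul_of_tower_mem μ hx)⟩
    have hFst : ∀ μ, Stable f (F μ) := by
      intro μ j x hx
      rw [memF] at hx ⊢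
      refine ⟨hW j x hx.1, ?_⟩
      have hc := LinearMap.congr_fun (hcomm i₀ j).eq x
      simp only [Module.End.mul_apply] at hc
      have : f i₀ (f j x) - μ • f j x = f j (f i₀ x - μ • x) := by
        rw [map_sub, LinearMap.map_smul_of_tower, hc]
      rw [this]; exact hN j _ hx.2
    have hWF : W ≤ ⨆ μ, F μ := by
      intro x hx
      have hx' : x ∈ ⨆ μ : k, Module.End.eigenspace ((f i₀).restrictScalars k) μ := by
        rw [hdiag i₀]; trivial
      rw [Submodule.mem_iSup_iff_exists_finsupp] at hx'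
      obtain ⟨y, hy, hysum⟩ := hx'
      have hysum' : ∑ μ ∈ y.support, y μ = x := hysum
      have hyW : ∀ μ ∈ y.support, y μ ∈ W.restrictScalars k := by
        apply lagrange ((f i₀).restrictScalars k) (W.restrictScalars k)
          (fun z hz => hW i₀ z hz) y.support y
        · intro μ _; exact Module.End.mem_eigenspace_iff.mp (hy μ)
        · rw [hysum']; exact hx
      rw [← hysum']
      apply Submodule.sum_mem
      intro μ hμ
      apply Submodule.mem_iSup_of_mem μ
      rw [memF]
      refine ⟨hyW μ hμ, ?_⟩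
      have := Module.End.mem_eigenspace_iff.mp (hy μ)
      rw [LinearMap.restrictScalars_apply] at this
      rw [this, sub_self]; exact N.zero_mem
    obtain ⟨x₀, hx₀W, hx₀⟩ := hi₀ 0
    have hx₀N : x₀ ∉ N := by
      intro h
      apply hx₀
      rw [zero_smul, sub_zero]; exact hN i₀ x₀ h
    have hex : ∃ μ₁, ¬ F μ₁ ≤ N := by
      by_contra h
      push Not at h
      exact hx₀N ((iSup_le h) (hWF hx₀W))
    obtain ⟨μ₁, hμ₁⟩ := hex
    set N₁ : Submodule R V := F μ₁ with hN₁
    set N₂ : Submodule R V := N ⊔ ⨆ μ : {μ : k // μ ≠ μ₁}, F μ with hN₂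
    have hN₁W : N₁ ≤ W := inf_le_left
    have hN₂W : N₂ ≤ W := sup_le hNW (iSup_le fun μ => inf_le_left)
    have hN₁st : Stable f N₁ := hFst μ₁
    have hN₂st : Stable f N₂ := stable_sup f hN (stable_iSup f fun μ => hFst μ)
    have hlt₁ : N < N₁ := lt_of_le_of_ne (hNF μ₁) (fun h => hμ₁ (h ▸ le_rfl))
    have hlt₂ : N < N₂ := by
      refine lt_of_le_of_ne le_sup_left ?_
      intro heq
      have hle : ∀ μ, μ ≠ μ₁ → F μ ≤ N := by
        intro μ hμ
        rw [heq]
        exact le_sup_of_le_right (le_iSup (fun μ : {μ : k // μ ≠ μ₁} => F μ) ⟨μ, hμ⟩)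
      have hWF₁ : W ≤ F μ₁ := by
        refine hWF.trans (iSup_le fun μ => ?_)
        by_cases h : μ = μ₁
        · rw [h]
        · exact (hle μ h).trans (hNF μ₁)
      obtain ⟨x, hxW, hx⟩ := hi₀ μ₁
      exact hx ((memF μ₁ x).mp (hWF₁ hxW)).2
    have hsup : W ≤ N₁ ⊔ N₂ := by
      refine hWF.trans (iSup_le fun μ => ?_)
      by_cases h : μ = μ₁
      · rw [h]; exact le_sup_left
      · exact le_sup_of_le_right (le_sup_of_le_right
          (le_iSup (fun μ : {μ : k // μ ≠ μ₁} => F μ) ⟨μ, h⟩))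
    have hinf : N₁ ⊓ N₂ ≤ N := by
      intro x hx
      have hst : N.restrictScalars k ≤ (N.restrictScalars k).comap ((f i₀).restrictScalars k) :=
        fun z hz => hN i₀ z hz
      let φbar : Module.End k (V ⧸ N.restrictScalars k) :=
        (N.restrictScalars k).mapQ (N.restrictScalars k) ((f i₀).restrictScalars k) hst
      have hmk : ∀ μ z, z ∈ F μ →
          (Submodule.Quotient.mk z : V ⧸ N.restrictScalars k) ∈ Module.End.eigenspace φbar μ := by
        intro μ z hz
        rw [Module.End.mem_eigenspace_iff]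
        show (N.restrictScalars k).mapQ (N.restrictScalars k) ((f i₀).restrictScalars k) hst
          (Submodule.Quotient.mk z) = _
        rw [Submodule.mapQ_apply, ← Submodule.Quotient.mk_smul, ← sub_eq_zero,
          ← Submodule.Quotient.mk_sub, Submodule.Quotient.mk_eq_zero]
        exact ((memF μ z).mp hz).2
      obtain ⟨n, hn, s, hs, hns⟩ := Submodule.mem_sup.mp hx.2
      have h2 : (Submodule.Quotient.mk s : V ⧸ N.restrictScalars k) ∈
          ⨆ (μ : k) (_ : μ ≠ μ₁), Module.End.eigenspace φbar μ := by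
        refine Submodule.iSup_induction (fun μ : {μ : k // μ ≠ μ₁} => F μ)
          (motive := fun s => (Submodule.Quotient.mk s : V ⧸ N.restrictScalars k) ∈
            ⨆ (μ : k) (_ : μ ≠ μ₁), Module.End.eigenspace φbar μ) hs ?_ ?_ ?_
        · intro μ z hz
          exact Submodule.mem_iSup_of_mem μ.1 (Submodule.mem_iSup_of_mem μ.2 (hmk μ.1 z hz))
        · rw [Submodule.Quotient.mk_zero]; exact zero_mem _
        · intro a b ha hb
          rw [Submodule.Quotient.mk_add]; exact add_mem ha hb
      have h3 : (Submodule.Quotient.mk x : V ⧸ N.restrictScalars k) = Submodule.Quotient.mk s := by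
        rw [← hns, Submodule.Quotient.mk_add]
        have : (Submodule.Quotient.mk n : V ⧸ N.restrictScalars k) = 0 :=
          (Submodule.Quotient.mk_eq_zero _).mpr hn
        rw [this, zero_add]
      have h1 := hmk μ₁ x hx.1
      have hdisj := (Module.End.eigenspaces_iSupIndep φbar) μ₁
      rw [Submodule.disjoint_def] at hdisj
      have h0 := hdisj _ h1 (h3 ▸ h2)
      exact (Submodule.Quotient.mk_eq_zero _).mp h0
    have hg₁ : Good (k := k) f W N₁ := IH N₁ hN₁W hlt₁ hN₁st
    have hg₂ : Good (k := k) f W N₂ := IH N₂ hN₂W hlt₂ hN₂st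
    intro x hx
    obtain ⟨a, ha, b, hb, rfl⟩ := Submodule.mem_sup.mp (hsup hx)
    exact add_mem
      (sub_lemma f W N N₁ N₂ hN₁W hN₂W hsup hinf (hNF μ₁) hN hN₁st hN₂st hg₂ a ha)
      (sub_lemma f W N N₂ N₁ hN₂W hN₁W (by rwa [sup_comm]) (by rwa [inf_comm]) le_sup_left
        hN hN₂st hN₁st hg₁ b hb)

end Main

/-- Let k be a field, R a commutative Noetherian k-algebra and V an R-module, viewed also as a k-vector
space through k → R. Let (f_i) be a family of pairwise commuting R-linear endomorphisms of V such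
that each f_i, as a k-linear map, is diagonalizable over k (its eigenspaces span V), and such that
every vector of V lies in a finitely generated R-submodule stable under every f_i. Then the family
is simultaneously diagonalizable over k: the common eigenspaces ⨅_i Eig(f_i, χ(i)), over all
assignments χ of eigenvalues in k, span V. The source states this for the endomorphisms given by an
abelian group acting R-linearly; the row takes any commuting family, which is what the argument
uses, and neither k algebraically closed nor of characteristic zero is needed. -/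
theorem result
    (k : Type u) [Field k] (R : Type v) [CommRing R] [Algebra k R] [IsNoetherianRing R]
    (V : Type w) [AddCommGroup V] [Module R V] [Module k V] [IsScalarTower k R V]
    (ι : Type x) (f : ι → Module.End R V)
    (hcomm : ∀ i j, Commute (f i) (f j))
    (hdiag : ∀ i, ⨆ μ : k, Module.End.eigenspace ((f i).restrictScalars k) μ = ⊤)
    (hfin : ∀ v : V, ∃ W : Submodule R V, v ∈ W ∧ W.FG ∧ ∀ i, ∀ w ∈ W, f i w ∈ W) :
    ⨆ χ : ι → k, ⨅ i, Module.End.eigenspace ((f i).restrictScalars k) (χ i) = ⊤ := by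
  rw [eq_top_iff]
  intro v _
  obtain ⟨W, hvW, hWfg, hWst⟩ := hfin v
  have hg := good_of_stable (k := k) f hcomm hdiag W hWfg hWst ⊥ bot_le
    (fun i x hx => by rw [Submodule.mem_bot] at hx ⊢; rw [hx, map_zero])
  have hv := hg v hvW
  refine (iSup_mono fun χ => ?_ : (⨆ χ : ι → k, E f W ⊥ χ) ≤ _) hv
  intro x hx
  rw [Submodule.mem_iInf]
  intro i
  rw [Module.End.mem_eigenspace_iff, LinearMap.restrictScalars_apply]
  have := hx.2 i
  rw [Submodule.mem_bot, sub_eq_zero] at this
  exact this

end Groth.Agent.S16159
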