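import Groth.Statements.S16161
import Mathlib

set_option autoImplicit false
universe u v
open MadRed

namespace Groth.Agent.S16161

open Polynomial in
theorem ker_aeval_prod_X_sub_C {k : Type*} [Field k] {V : Type*} [AddCommGroup V] [Module k V]
    (f : Module.End k V) (s : Finset k) :
    LinearMap.ker (aeval f (∏ ζ ∈ s, (X - C ζ))) = ⨆ ζ ∈ s, Module.End.eigenspace f ζ := by
  classical
  induction s using Finset.induction_on with
  | empty =>
    simp only [Finset.prod_empty, map_one, Finset.notMem_empty, iSup_false, iSup_bot]
    exact LinearMap.ker_id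
  | insert a s ha ih =>
    rw [Finset.prod_insert ha, Finset.iSup_insert, ← ih]
    have hcop : IsCoprime (X - C a) (∏ ζ ∈ s, (X - C ζ)) := by
      apply IsCoprime.prod_right
      intro b hb
      apply Polynomial.isCoprime_X_sub_C_of_isUnit_sub
      have : a ≠ b := fun h => ha (h ▸ hb)
      exact (sub_ne_zero.mpr this).isUnit
    rw [← Polynomial.sup_ker_aeval_eq_ker_aeval_mul_of_coprime f hcop]
    congr 1
    rw [Module.End.eigenspace_def]
    simp [Algebra.algebraMap_eq_smul_one]

/-- Let k be an algebraically closed field of characteristic zero and R a reduced finitely generated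
commutative k-algebra whose spectrum is connected (R has no idempotents besides 0 and 1); let W =
R^n be a free R-module of finite rank and g an R-linear endomorphism of W of finite order, g^m = 1
with m > 0 (an element of finite order of GL(W)(R)). Then the action of g on W is diagonalizable
over k: viewing g as a k-linear map, its eigenspaces for eigenvalues in k span W. The source also
assumes that g is diagonalizable over k on every fibre W ⊗ k(x), x a point of Spec R; for g of
finite order this holds automatically (k is algebraically closed of characteristic zero), as the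
source itself notes, so that hypothesis is omitted. -/
theorem result
    (k : Type u) [Field k] [IsAlgClosed k] [CharZero k]
    (R : Type v) [CommRing R] [Algebra k R] [IsReduced R] [Algebra.FiniteType k R]
    (hconn : ∀ e : R, IsIdempotentElem e → e = 0 ∨ e = 1)
    (n : ℕ) (g : Module.End R (Fin n → R)) (m : ℕ) (hm : 0 < m) (hg : g ^ m = 1) :
    ⨆ μ : k, Module.End.eigenspace (g.restrictScalars k) μ = ⊤ := by
  classical
  set f : Module.End k (Fin n → R) := g.restrictScalars k with hf
  have hfpow : ∀ j : ℕ, ∀ v, (f ^ j) v = (g ^ j) v := by
    intro j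
    induction j with
    | zero => intro v; rfl
    | succ j ih =>
      intro v
      rw [pow_succ, pow_succ, Module.End.mul_apply, Module.End.mul_apply, ih]
      rfl
  have hfm : f ^ m = 1 := by
    apply LinearMap.ext
    intro v
    rw [hfpow, hg]
    rfl
  have hm0 : (m : k) ≠ 0 := by exact_mod_cast hm.ne'
  have hsep : (Polynomial.X ^ m - 1 : Polynomial k).Separable := by
    have := Polynomial.separable_X_pow_sub_C (1 : k) hm0 one_ne_zero
    simpa using this
  have hsplit := IsAlgClosed.splits (Polynomial.X ^ m - 1 : Polynomial k)
  have hmonic : (Polynomial.X ^ m - 1 : Polynomial k).Monic := by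
    have := Polynomial.monic_X_pow_sub_C (1 : k) hm.ne'
    simpa using this
  have hnodup := Polynomial.nodup_roots hsep
  have hprod : (Polynomial.X ^ m - 1 : Polynomial k) =
      ∏ ζ ∈ (Polynomial.X ^ m - 1 : Polynomial k).roots.toFinset, (Polynomial.X - Polynomial.C ζ) := by
    have h1 := hsplit.eq_prod_roots_of_monic hmonic
    rw [Finset.prod, Multiset.toFinset_val, Multiset.dedup_eq_self.mpr hnodup]
    exact h1
  have hzero : Polynomial.aeval f (Polynomial.X ^ m - 1 : Polynomial k) = 0 := by
    simp [hfm]
  rw [eq_top_iff]
  calc (⊤ : Submodule k (Fin n → R))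
      = LinearMap.ker (Polynomial.aeval f (Polynomial.X ^ m - 1 : Polynomial k)) := by
        rw [hzero, LinearMap.ker_zero]
    _ = LinearMap.ker (Polynomial.aeval f
          (∏ ζ ∈ (Polynomial.X ^ m - 1 : Polynomial k).roots.toFinset,
            (Polynomial.X - Polynomial.C ζ))) := by
        rw [← hprod]
    _ = ⨆ ζ ∈ (Polynomial.X ^ m - 1 : Polynomial k).roots.toFinset, Module.End.eigenspace f ζ :=
        ker_aeval_prod_X_sub_C f _
    _ ≤ ⨆ μ : k, Module.End.eigenspace f μ := iSup₂_le fun ζ _ => le_iSup _ ζ

end Groth.Agent.S16161
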