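import Groth.Statements.S16162
import Mathlib

set_option autoImplicit false
open CategoryTheory MonoidalCategory CartesianMonoidalCategory MonObj GrpObj AlgebraicGeometry
universe u
open MadRed

namespace Groth.Agent.S16162

/-- Let S be a scheme, G a group scheme over S, and X an S-scheme with an action of G making X → S a
principal G-bundle (a torsor in the representable fppf sense: X → S surjective, flat and locally of
finite presentation, and G ×_S X → X ×_S X, (g, x) ↦ (g·x, x), an isomorphism). Let P be a closed
subset of X stable under the action: the action map sends into P every point of G ×_S X whose second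
projection lies in P. Then the image of P in S is closed, and P is the full preimage of its image.
(The source works with varieties over the complex numbers and an affine algebraic group; the
assertion holds over any base. Its second assertion, that P → image is again a principal bundle for
the induced reduced structures, then comes from base change and is not part of this row.) -/
theorem result {S : Scheme.{u}}
    {G X : Over S} [GrpObj G] (a : AlgGrp.Action G X) (ha : RedSub.IsTorsor a)
    (P : Set X.left) (hP : IsClosed P)
    (hstab : ∀ w : (G ⊗ X).left, (snd G X).left.base w ∈ P → a.act.left.base w ∈ P) :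
    IsClosed (X.hom.base '' P) ∧ X.hom.base ⁻¹' (X.hom.base '' P) = P := by
  obtain ⟨hsurj, hflat, hlfp, hiso⟩ := ha
  haveI := hsurj
  haveI := hflat
  haveI := hlfp
  haveI := hiso
  have h2 : X.hom.base ⁻¹' (X.hom.base '' P) = P := by
    apply Set.Subset.antisymm
    · rintro x' ⟨x, hxP, hx⟩
      obtain ⟨z, hz1, hz2⟩ := Scheme.Pullback.exists_preimage_pullback (f := X.hom) (g := X.hom)
        x' x hx.symm
      have hinv : (inv (lift a.act (snd G X))).left ≫ (lift a.act (snd G X)).left = 𝟙 _ := by
        rw [← Over.comp_left, IsIso.inv_hom_id]; rfl
      have hφw : (lift a.act (snd G X)).left.base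
          ((inv (lift a.act (snd G X))).left.base z) = z := by
        have := congrArg (fun ψ : (X ⊗ X).left ⟶ (X ⊗ X).left => ψ.base z) hinv
        exact this
      have hfst : (lift a.act (snd G X)).left ≫ (fst X X).left = a.act.left := by
        rw [← Over.comp_left, lift_fst]
      have hsnd : (lift a.act (snd G X)).left ≫ (snd X X).left = (snd G X).left := by
        rw [← Over.comp_left, lift_snd]
      have e1 : a.act.left.base ((inv (lift a.act (snd G X))).left.base z) = x' := by
        have := congrArg (fun ψ : (G ⊗ X).left ⟶ X.left =>
          ψ.base ((inv (lift a.act (snd G X))).left.base z)) hfst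
        refine this.symm.trans ?_
        show (fst X X).left.base ((lift a.act (snd G X)).left.base
          ((inv (lift a.act (snd G X))).left.base z)) = x'
        rw [hφw]
        exact hz1
      have e2 : (snd G X).left.base ((inv (lift a.act (snd G X))).left.base z) = x := by
        have := congrArg (fun ψ : (G ⊗ X).left ⟶ X.left =>
          ψ.base ((inv (lift a.act (snd G X))).left.base z)) hsnd
        refine this.symm.trans ?_
        show (snd X X).left.base ((lift a.act (snd G X)).left.base
          ((inv (lift a.act (snd G X))).left.base z)) = x
        rw [hφw]
        exact hz2
      rw [← e1]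
      exact hstab _ (by rw [e2]; exact hxP)
    · exact Set.subset_preimage_image _ _
  refine ⟨?_, h2⟩
  haveI : UniversallyOpen X.hom := inferInstance
  have hq : Topology.IsQuotientMap X.hom.base :=
    X.hom.isOpenMap.isQuotientMap X.hom.continuous X.hom.surjective
  rw [← hq.isClosed_preimage, h2]
  exact hP

end Groth.Agent.S16162
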