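import Groth.Statements.S16170
import Mathlib

set_option autoImplicit false
open Neron

open Matrix

namespace Groth.Agent.S16170

section aux
set_option linter.unusedSectionVars false
variable {ι : Type} [Fintype ι] [DecidableEq ι]

/-- the quadratic form of an integer matrix -/
def Qf (A : Matrix ι ι ℤ) (w : ι → ℤ) : ℤ := w ⬝ᵥ A.mulVec w

lemma Qf_conj (A B : Matrix ι ι ℤ) (w : ι → ℤ) : Qf (Bᵀ * A * B) w = Qf A (B.mulVec w) := by
  unfold Qf
  rw [← mulVec_mulVec, ← mulVec_mulVec, dotProduct_mulVec, vecMul_transpose]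

lemma Qf_add (A B : Matrix ι ι ℤ) (w : ι → ℤ) : Qf (A + B) w = Qf A w + Qf B w := by
  unfold Qf
  rw [add_mulVec, dotProduct_add]

lemma Qf_smul (c : ℤ) (A : Matrix ι ι ℤ) (w : ι → ℤ) : Qf (c • A) w = c * Qf A w := by
  unfold Qf
  rw [smul_mulVec, dotProduct_smul, smul_eq_mul]

/-- the core statement: `S` symmetric positive definite, `X` self-adjoint for `S`, with
`S X` and `S (1 - X)` positive semidefinite; then `X` is idempotent. -/
theorem core (S X : Matrix ι ι ℤ) (hSsymm : Sᵀ = S) (hadj : Xᵀ * S = S * X)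
    (hMpos : ∀ v : ι → ℤ, 0 ≤ Qf (S * X) v) (hNpos : ∀ v : ι → ℤ, 0 ≤ Qf (S * (1 - X)) v)
    (hSposdef : ∀ v : ι → ℤ, v ≠ 0 → 0 < Qf S v) :
    X * (1 - X) = 0 := by
  have hSpos : ∀ v : ι → ℤ, 0 ≤ Qf S v := by
    intro v
    by_cases hv : v = 0
    · subst hv
      unfold Qf
      rw [mulVec_zero, dotProduct_zero]
    · exact (hSposdef v hv).le
  have hadj1 : (1 - X)ᵀ * S = S * (1 - X) := by
    rw [transpose_sub, transpose_one, sub_mul, one_mul, hadj, mul_sub, mul_one]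
  obtain ⟨T, hT⟩ : ∃ T, T = X * (1 - X) := ⟨_, rfl⟩
  obtain ⟨D, hD⟩ : ∃ D, D = X - (1 - X) := ⟨_, rfl⟩
  have hTadj : Tᵀ * S = S * T := by
    rw [hT, transpose_mul, mul_assoc, hadj, ← mul_assoc, hadj1, mul_assoc]
    congr 1
    noncomm_ring
  have hDadj : Dᵀ * S = S * D := by
    rw [hD, transpose_sub, sub_mul, hadj, hadj1, ← mul_sub]
  have key : (16 : ℤ) • (T * T) + D * D + (4 : ℤ) • (D * T * D) = 1 := by
    rw [hT, hD]
    noncomm_ring
  have hdecomp : S = (16 : ℤ) • (Tᵀ * S * T) + Dᵀ * S * D + (4 : ℤ) • (Dᵀ * (S * T) * D) := by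
    rw [hTadj, ← mul_assoc Dᵀ S T, hDadj]
    calc S = S * ((16 : ℤ) • (T * T) + D * D + (4 : ℤ) • (D * T * D)) := by rw [key, mul_one]
      _ = _ := by simp only [mul_add, mul_smul_comm, mul_assoc]
  have hQ : ∀ w, Qf S w = 16 * Qf S (T.mulVec w) + Qf S (D.mulVec w)
      + 4 * Qf (S * T) (D.mulVec w) := by
    intro w
    conv_lhs => rw [hdecomp]
    rw [Qf_add, Qf_add, Qf_smul, Qf_smul, Qf_conj, Qf_conj, Qf_conj]
  have hST : S * T = Xᵀ * (S * (1 - X)) * X + (1 - X)ᵀ * (S * X) * (1 - X) := by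
    rw [← mul_assoc Xᵀ S, hadj, ← mul_assoc (1 - X)ᵀ S, hadj1, hT]
    noncomm_ring
  have hSTpos : ∀ y, 0 ≤ Qf (S * T) y := by
    intro y
    rw [hST, Qf_add, Qf_conj, Qf_conj]
    exact add_nonneg (hNpos _) (hMpos _)
  have hkey : ∀ w, 16 * Qf S (T.mulVec w) ≤ Qf S w := by
    intro w
    have h1 := hQ w
    have h2 := hSpos (D.mulVec w)
    have h3 := hSTpos (D.mulVec w)
    linarith
  have hind : ∀ n : ℕ, ∀ v : ι → ℤ, Qf S (T.mulVec v) = (n : ℤ) → T.mulVec v = 0 := by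
    intro n
    induction n using Nat.strong_induction_on with
    | _ n ih =>
      intro v hv
      by_contra hne
      have hposn : 0 < Qf S (T.mulVec v) := hSposdef _ hne
      have h16 := hkey (T.mulVec v)
      have h0 := hSpos (T.mulVec (T.mulVec v))
      obtain ⟨m, hm⟩ : ∃ m : ℕ, Qf S (T.mulVec (T.mulVec v)) = (m : ℤ) :=
        ⟨(Qf S (T.mulVec (T.mulVec v))).toNat, (Int.toNat_of_nonneg h0).symm⟩
      have hmn : m < n := by
        rw [hm, hv] at h16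
        rw [hv] at hposn
        omega
      have hTu : T.mulVec (T.mulVec v) = 0 := ih m hmn (T.mulVec v) hm
      have h2 : Qf S (T.mulVec v) = 0 := by
        rw [← Qf_conj, hTadj]
        unfold Qf
        rw [← mulVec_mulVec, ← mulVec_mulVec, hTu, mulVec_zero, dotProduct_zero]
      omega
  have hT0 : T = 0 := by
    rw [ext_iff_mulVec]
    intro v
    rw [zero_mulVec]
    have h0 := hSpos (T.mulVec v)
    exact hind (Qf S (T.mulVec v)).toNat v (Int.toNat_of_nonneg h0).symm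
  rw [← hT, hT0]

end aux

end Groth.Agent.S16170

namespace Groth.Agent.S16170

/-- Let M and N be symmetric positive-semidefinite integer matrices on the same finite index set whose
sum M + N is positive definite, and let χ₁, χ₂ be integer matrices with χ₁ + χ₂ = 1 and M χ₂ = N χ₁.
Then χ₁ and χ₂ are idempotent. (In the intended application M = Pᵀ Ψ₁ P and N = Qᵀ Ψ₂ Q for
surjective integer matrices P, Q and positive-definite Ψ₁, Ψ₂.) -/
theorem result
    {ι : Type} [Fintype ι] [DecidableEq ι]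
    (M N χ₁ χ₂ : Matrix ι ι ℤ) (hM : M.IsSymm) (hN : N.IsSymm)
    (hMpos : ∀ v : ι → ℤ, 0 ≤ v ⬝ᵥ M.mulVec v) (hNpos : ∀ v : ι → ℤ, 0 ≤ v ⬝ᵥ N.mulVec v)
    (hpos : ∀ v : ι → ℤ, v ≠ 0 → 0 < v ⬝ᵥ (M + N).mulVec v)
    (hsum : χ₁ + χ₂ = 1) (hrel : M * χ₂ = N * χ₁) :
    χ₁ * χ₁ = χ₁ ∧ χ₂ * χ₂ = χ₂ := by
  have hχ₂ : χ₂ = 1 - χ₁ := by rw [← hsum]; abel
  subst hχ₂
  have hMX : M = (M + N) * χ₁ := by
    calc M = M * (1 - χ₁) + M * χ₁ := by noncomm_ring
      _ = N * χ₁ + M * χ₁ := by rw [hrel]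
      _ = (M + N) * χ₁ := by noncomm_ring
  have hNX : N = (M + N) * (1 - χ₁) := by
    have h : (M + N) * (1 - χ₁) = (M + N) - (M + N) * χ₁ := by noncomm_ring
    rw [h, ← hMX]
    abel
  have hSsymm : (M + N)ᵀ = M + N := by
    rw [transpose_add, hM.eq, hN.eq]
  obtain ⟨S, hS⟩ : ∃ S, S = M + N := ⟨_, rfl⟩
  rw [← hS] at hMX hNX hSsymm
  have hadj : χ₁ᵀ * S = S * χ₁ := by
    have h1 : (S * χ₁)ᵀ = S * χ₁ := by rw [← hMX]; exact hM
    rw [transpose_mul, hSsymm] at h1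
    exact h1
  have hT0 : χ₁ * (1 - χ₁) = 0 := by
    apply core S χ₁ hSsymm hadj
    · intro v; rw [← hMX]; exact hMpos v
    · intro v; rw [← hNX]; exact hNpos v
    · intro v hv; rw [hS]; exact hpos v hv
  have hXX : χ₁ * χ₁ = χ₁ := by
    rw [mul_sub, mul_one, sub_eq_zero] at hT0
    exact hT0.symm
  refine ⟨hXX, ?_⟩
  calc (1 - χ₁) * (1 - χ₁) = 1 - χ₁ - χ₁ + χ₁ * χ₁ := by noncomm_ring
    _ = 1 - χ₁ := by rw [hXX]; abel

end Groth.Agent.S16170
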