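import Groth.Statements.S16164
import Mathlib
import Groth.Agent.S16170

set_option autoImplicit false
open Neron

open Matrix Groth.Agent.S16170

namespace Groth.Agent.S16164

lemma conj_rect {κ ι : Type} [Fintype κ] [Fintype ι] (Ψ : Matrix κ κ ℤ) (P : Matrix κ ι ℤ)
    (v : ι → ℤ) : v ⬝ᵥ (Pᵀ * Ψ * P) *ᵥ v = (P *ᵥ v) ⬝ᵥ Ψ *ᵥ (P *ᵥ v) := by
  rw [← mulVec_mulVec, ← mulVec_mulVec, dotProduct_mulVec, vecMul_transpose]

end Groth.Agent.S16164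

namespace Groth.Agent.S16164

/-- Let X, Y₁, Y₂ be finitely generated free abelian groups with chosen bases, so that homomorphisms are
integer matrices acting on column vectors and each group is identified with its dual; let P : X → Y₁
and Q : X → Y₂ be surjective with A = (P over Q) : X → Y₁ ⊕ Y₂ injective, and let Ψ₁, Ψ₂ be
symmetric positive-definite integer matrices on Y₁ and Y₂, Ψ their block-diagonal sum. If the image
of Aᵀ Ψ : Y₁ ⊕ Y₂ → X coincides with the image of Aᵀ Ψ A : X → X (the reverse inclusion always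
holds), then A is bijective. (In the source X, Y₁, Y₂ are character groups of maximal tori, P and Q
specialization maps, Ψ₁ and Ψ₂ monodromy pairings, and the hypothesis expresses that two groups of
components coincide.) -/
theorem result
    {ι κ₁ κ₂ : Type} [Fintype ι] [Fintype κ₁] [Fintype κ₂]
    (P : Matrix κ₁ ι ℤ) (Q : Matrix κ₂ ι ℤ)
    (hP : Function.Surjective P.mulVec) (hQ : Function.Surjective Q.mulVec)
    (hA : Function.Injective (Matrix.fromRows P Q).mulVec)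
    (Ψ₁ : Matrix κ₁ κ₁ ℤ) (Ψ₂ : Matrix κ₂ κ₂ ℤ) (hΨ₁ : Ψ₁.IsSymm) (hΨ₂ : Ψ₂.IsSymm)
    (hΨ₁pos : ∀ y : κ₁ → ℤ, y ≠ 0 → 0 < y ⬝ᵥ Ψ₁.mulVec y)
    (hΨ₂pos : ∀ y : κ₂ → ℤ, y ≠ 0 → 0 < y ⬝ᵥ Ψ₂.mulVec y)
    (himage : LinearMap.range ((Matrix.fromRows P Q).transpose * Matrix.fromBlocks Ψ₁ 0 0 Ψ₂).mulVecLin =
      LinearMap.range ((Matrix.fromRows P Q).transpose * Matrix.fromBlocks Ψ₁ 0 0 Ψ₂ * Matrix.fromRows P Q).mulVecLin) :
    Function.Bijective (Matrix.fromRows P Q).mulVec := by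
  classical
  obtain ⟨M₁, hM₁⟩ : ∃ M₁ : Matrix ι ι ℤ, M₁ = Pᵀ * Ψ₁ * P := ⟨_, rfl⟩
  obtain ⟨M₂, hM₂⟩ : ∃ M₂ : Matrix ι ι ℤ, M₂ = Qᵀ * Ψ₂ * Q := ⟨_, rfl⟩
  have hAΨ : (fromRows P Q)ᵀ * fromBlocks Ψ₁ 0 0 Ψ₂ = fromCols (Pᵀ * Ψ₁) (Qᵀ * Ψ₂) := by
    rw [transpose_fromRows, fromCols_mul_fromBlocks]
    simp only [Matrix.mul_zero, add_zero, zero_add]
  have hAΨA : (fromRows P Q)ᵀ * fromBlocks Ψ₁ 0 0 Ψ₂ * fromRows P Q = M₁ + M₂ := by
    rw [hAΨ, fromCols_mul_fromRows, hM₁, hM₂]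
  rw [hAΨA, hAΨ] at himage
  have hq₁ : ∀ v, Qf M₁ v = (P *ᵥ v) ⬝ᵥ Ψ₁ *ᵥ (P *ᵥ v) := by
    intro v; rw [hM₁]; exact conj_rect Ψ₁ P v
  have hq₂ : ∀ v, Qf M₂ v = (Q *ᵥ v) ⬝ᵥ Ψ₂ *ᵥ (Q *ᵥ v) := by
    intro v; rw [hM₂]; exact conj_rect Ψ₂ Q v
  have psd₁ : ∀ y : κ₁ → ℤ, 0 ≤ y ⬝ᵥ Ψ₁ *ᵥ y := by
    intro y
    by_cases hy : y = 0
    · subst hy; rw [mulVec_zero, dotProduct_zero]
    · exact (hΨ₁pos y hy).le
  have psd₂ : ∀ y : κ₂ → ℤ, 0 ≤ y ⬝ᵥ Ψ₂ *ᵥ y := by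
    intro y
    by_cases hy : y = 0
    · subst hy; rw [mulVec_zero, dotProduct_zero]
    · exact (hΨ₂pos y hy).le
  have hM₁pos : ∀ v, 0 ≤ Qf M₁ v := fun v => by rw [hq₁]; exact psd₁ _
  have hM₂pos : ∀ v, 0 ≤ Qf M₂ v := fun v => by rw [hq₂]; exact psd₂ _
  have hM₁symm : M₁ᵀ = M₁ := by
    rw [hM₁, transpose_mul, transpose_mul, transpose_transpose, hΨ₁.eq, Matrix.mul_assoc]
  have hM₂symm : M₂ᵀ = M₂ := by
    rw [hM₂, transpose_mul, transpose_mul, transpose_transpose, hΨ₂.eq, Matrix.mul_assoc]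
  obtain ⟨S, hS⟩ : ∃ S, S = M₁ + M₂ := ⟨_, rfl⟩
  rw [← hS] at himage
  have hSsymm : Sᵀ = S := by rw [hS, transpose_add, hM₁symm, hM₂symm]
  have hSposdef : ∀ v : ι → ℤ, v ≠ 0 → 0 < Qf S v := by
    intro v hv
    rw [hS, Qf_add, hq₁, hq₂]
    have hne : (fromRows P Q) *ᵥ v ≠ 0 := by
      intro h0
      apply hv
      apply hA
      rw [h0, mulVec_zero]
    rw [fromRows_mulVec] at hne
    by_cases h1 : P *ᵥ v = 0
    · have h2 : Q *ᵥ v ≠ 0 := by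
        intro h2
        apply hne
        rw [h1, h2]
        ext (i | i) <;> rfl
      have := hΨ₂pos _ h2
      have := psd₁ (P *ᵥ v)
      linarith
    · have := hΨ₁pos _ h1
      have := psd₂ (Q *ᵥ v)
      linarith
  have hex : ∀ j : ι, ∃ c : ι → ℤ, S *ᵥ c = M₁ *ᵥ (Pi.single j 1) := by
    intro j
    have hmem : M₁ *ᵥ (Pi.single j 1) ∈
        LinearMap.range (fromCols (Pᵀ * Ψ₁) (Qᵀ * Ψ₂)).mulVecLin := by
      refine ⟨Sum.elim (P *ᵥ Pi.single j 1) 0, ?_⟩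
      rw [mulVecLin_apply, fromCols_mulVec_sumElim, mulVec_zero, add_zero, mulVec_mulVec, hM₁]
    rw [himage] at hmem
    obtain ⟨c, hc⟩ := hmem
    exact ⟨c, by rw [← hc, mulVecLin_apply]⟩
  choose c hc using hex
  obtain ⟨E, hE⟩ : ∃ E : Matrix ι ι ℤ, E = Matrix.of (fun i j => c j i) := ⟨_, rfl⟩
  have hSE : S * E = M₁ := by
    ext i j
    have h := congrFun (hc j) i
    rw [mulVec_single_one] at h
    simpa [mul_apply, mulVec, dotProduct, hE] using h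
  have hadj : Eᵀ * S = S * E := by
    have h1 : (S * E)ᵀ = S * E := by rw [hSE]; exact hM₁symm
    rw [transpose_mul, hSsymm] at h1
    exact h1
  have hSE' : S * (1 - E) = M₂ := by
    rw [mul_sub, mul_one, hSE, hS]; abel
  have hT0 : E * (1 - E) = 0 := by
    apply core S E hSsymm hadj
    · intro v; rw [hSE]; exact hM₁pos v
    · intro v; rw [hSE']; exact hM₂pos v
    · exact hSposdef
  have hT0' : (1 - E) * E = 0 := by
    rw [← hT0]; noncomm_ring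
  have hPE : ∀ v, P *ᵥ ((1 - E) *ᵥ v) = 0 := by
    intro v
    by_contra hne
    have hpos := hΨ₁pos _ hne
    rw [← hq₁] at hpos
    have h0 : Qf M₁ ((1 - E) *ᵥ v) = 0 := by
      unfold Qf
      rw [mulVec_mulVec, ← hSE, Matrix.mul_assoc, hT0, Matrix.mul_zero, zero_mulVec,
        dotProduct_zero]
    omega
  have hQE : ∀ v, Q *ᵥ (E *ᵥ v) = 0 := by
    intro v
    by_contra hne
    have hpos := hΨ₂pos _ hne
    rw [← hq₂] at hpos
    have h0 : Qf M₂ (E *ᵥ v) = 0 := by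
      unfold Qf
      rw [mulVec_mulVec, ← hSE', Matrix.mul_assoc, hT0', Matrix.mul_zero, zero_mulVec,
        dotProduct_zero]
    omega
  have hE1 : ∀ v, P *ᵥ (E *ᵥ v) = P *ᵥ v := by
    intro v
    have := hPE v
    rw [sub_mulVec, one_mulVec, mulVec_sub, sub_eq_zero] at this
    exact this.symm
  have hE2 : ∀ v, Q *ᵥ ((1 - E) *ᵥ v) = Q *ᵥ v := by
    intro v
    rw [sub_mulVec, one_mulVec, mulVec_sub, hQE v, sub_zero]
  refine ⟨hA, fun y => ?_⟩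
  obtain ⟨x₁, hx₁⟩ := hP (y ∘ Sum.inl)
  obtain ⟨x₂, hx₂⟩ := hQ (y ∘ Sum.inr)
  refine ⟨E *ᵥ x₁ + (1 - E) *ᵥ x₂, ?_⟩
  rw [fromRows_mulVec, mulVec_add, mulVec_add, hE1, hPE, hQE, hE2, add_zero, zero_add, hx₁, hx₂]
  exact Sum.elim_comp_inl_inr y

end Groth.Agent.S16164
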