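import Groth.Statements.S16174
import Mathlib

set_option autoImplicit false
universe u
open Hensel

namespace Groth.Agent.S16174

open Polynomial IsLocalRing

section aux

theorem isUnit_one_add {A : Type*} [CommRing A] [IsLocalRing A] {x : A}
    (hx : x ∈ maximalIdeal A) : IsUnit (1 + x) := by
  by_contra h
  have h1 : 1 + x ∈ maximalIdeal A := (mem_maximalIdeal _).mpr h
  have h2 : (1 : A) ∈ maximalIdeal A := by
    have := Ideal.sub_mem _ h1 hx
    simp at this
  exact (Ideal.ne_top_iff_one _).mp (maximalIdeal.isMaximal A).ne_top h2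

theorem eval_mem_of_mem_map_C {A : Type*} [CommRing A] {I : Ideal A} {P : A[X]}
    (hP : P ∈ Ideal.map (C : A →+* A[X]) I) (x : A) : P.eval x ∈ I := by
  rw [eval_eq_sum_range]
  exact Ideal.sum_mem _ fun i _ => Ideal.mul_mem_right _ _ (Ideal.mem_map_C_iff.mp hP i)

theorem derivative_mem_map_C {A : Type*} [CommRing A] {I : Ideal A} {P : A[X]}
    (hP : P ∈ Ideal.map (C : A →+* A[X]) I) :
    derivative P ∈ Ideal.map (C : A →+* A[X]) I := by
  rw [Ideal.mem_map_C_iff] at hP ⊢
  intro n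
  rw [coeff_derivative]
  exact Ideal.mul_mem_right _ _ (hP _)

theorem special_root (V : Type*) [CommRing V] [HenselianLocalRing V] (M : ℕ) (R : V[X])
    (hR : R ∈ Ideal.map (C : V →+* V[X]) (maximalIdeal V)) (hdeg : R.natDegree ≤ M) :
    ∃ τ : V, IsUnit τ ∧ eval τ (X ^ (M + 1) - X ^ M + R) = 0 := by
  have hmonic : (X ^ (M + 1) + (-X ^ M + R) : V[X]).Monic := by
    apply monic_X_pow_add
    have h1 : (-X ^ M + R : V[X]).degree ≤ (M : WithBot ℕ) := by
      refine (degree_add_le _ _).trans (max_le ?_ ?_)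
      · rw [degree_neg]; exact degree_X_pow_le M
      · exact degree_le_of_natDegree_le hdeg
    exact lt_of_le_of_lt h1 (by exact_mod_cast Nat.lt_succ_self M)
  have heq : (X ^ (M + 1) - X ^ M + R : V[X]) = X ^ (M + 1) + (-X ^ M + R) := by ring
  rw [heq]
  have h1 : eval 1 (X ^ (M + 1) + (-X ^ M + R) : V[X]) ∈ maximalIdeal V := by
    have : eval 1 (X ^ (M + 1) + (-X ^ M + R) : V[X]) = eval 1 R := by simp
    rw [this]; exact eval_mem_of_mem_map_C hR 1
  have h2 : IsUnit (eval 1 (derivative (X ^ (M + 1) + (-X ^ M + R) : V[X]))) := by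
    have : eval 1 (derivative (X ^ (M + 1) + (-X ^ M + R) : V[X]))
        = 1 + eval 1 (derivative R) := by
      simp only [derivative_add, derivative_neg, derivative_X_pow, eval_add, eval_neg, eval_mul,
        eval_C, eval_pow, eval_X, one_pow, mul_one, Nat.cast_add, Nat.cast_one]
      ring
    rw [this]; exact isUnit_one_add (eval_mem_of_mem_map_C (derivative_mem_map_C hR) 1)
  obtain ⟨τ, hτ, hτ1⟩ := HenselianLocalRing.is_henselian _ hmonic 1 h1 h2
  refine ⟨τ, ?_, hτ⟩
  have : τ = 1 + (τ - 1) := by ring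
  rw [this]; exact isUnit_one_add hτ1

theorem hens_of_special (A : Type*) [CommRing A] [IsLocalRing A]
    (HS : ∀ (M : ℕ) (d : ℕ → A), (∀ j, d j ∈ maximalIdeal A) →
      ∃ τ : A, IsUnit τ ∧
        τ ^ (M + 1) - τ ^ M + ∑ j ∈ Finset.range M, d j * τ ^ (M - 1 - j) = 0) :
    HenselianLocalRing A := by
  refine { toIsLocalRing := inferInstance, is_henselian := ?_ }
  intro f hf a₀ he hu
  have hgm : (taylor a₀ f).Monic := by
    show (taylor a₀ f).leadingCoeff = 1
    rw [leadingCoeff_taylor]; exact hf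
  have hc0 : (taylor a₀ f).coeff 0 = f.eval a₀ := taylor_coeff_zero a₀ f
  have hc1 : (taylor a₀ f).coeff 1 = f.derivative.eval a₀ := taylor_coeff_one a₀ f
  have hN : (taylor a₀ f).natDegree ≠ 0 := by
    intro h0
    have h1 : taylor a₀ f = 1 := hgm.natDegree_eq_zero.mp h0
    rw [h1, coeff_one_zero] at hc0
    rw [← hc0] at he
    exact (Ideal.ne_top_iff_one _).mp (maximalIdeal.isMaximal A).ne_top he
  obtain ⟨M, hM⟩ : ∃ M, (taylor a₀ f).natDegree = M + 1 :=
    ⟨(taylor a₀ f).natDegree - 1, by omega⟩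
  obtain ⟨ui, hui⟩ := hu.exists_right_inv
  have hroot_of : ∀ (g : A[X]) (e u : A), g.natDegree = M + 1 → g.coeff 0 = e → g.coeff 1 = u →
      e ∈ maximalIdeal A → u * ui = 1 → ∃ Y ∈ maximalIdeal A, g.eval Y = 0 := by
    intro g e u hM hc0 hc1 he hui
    obtain ⟨w, hw_def⟩ : ∃ w, w = -e * ui := ⟨_, rfl⟩
    have hw' : w = e * (-ui) := by rw [hw_def]; ring
    have hw : w ∈ maximalIdeal A := by
      rw [hw_def]; exact Ideal.mul_mem_right _ _ (neg_mem he)
    let d : ℕ → A := fun j => g.coeff (j + 1 + 1) * (w ^ (j + 1) * (-ui))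
    have hd : ∀ j, d j ∈ maximalIdeal A := fun j =>
      Ideal.mul_mem_left _ _
        (Ideal.mul_mem_right _ _ (Ideal.pow_mem_of_mem _ hw _ (Nat.succ_pos j)))
    obtain ⟨τ, hτu, hτ⟩ := HS M d hd
    obtain ⟨ti, hti⟩ := hτu.exists_left_inv
    have hYτ : (w * ti) * τ = w := by rw [mul_assoc, hti, mul_one]
    have T1 : u * (w * ti) * τ ^ (M + 1) = - (e * τ ^ M) := by
      linear_combination (u * ti * τ ^ (M + 1)) * hw_def + (-e * τ ^ M * ti * τ) * hui
        + (-e * τ ^ M) * hti
    have T2 : ∀ j ∈ Finset.range M,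
        g.coeff (j + 1 + 1) * (w * ti) ^ (j + 1 + 1) * τ ^ (M + 1)
          = e * (d j * τ ^ (M - 1 - j)) := by
      intro j hj
      have hj' : j < M := Finset.mem_range.mp hj
      have hexp : M + 1 = (M - 1 - j) + (j + 1 + 1) := by omega
      have h1 : (w * ti) ^ (j + 1 + 1) * τ ^ (j + 1 + 1) = w ^ (j + 1 + 1) := by
        rw [← mul_pow, hYτ]
      calc g.coeff (j + 1 + 1) * (w * ti) ^ (j + 1 + 1) * τ ^ (M + 1)
          = g.coeff (j + 1 + 1) * (w * ti) ^ (j + 1 + 1)
              * (τ ^ (M - 1 - j) * τ ^ (j + 1 + 1)) := by rw [← pow_add, ← hexp]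
        _ = g.coeff (j + 1 + 1) * ((w * ti) ^ (j + 1 + 1) * τ ^ (j + 1 + 1))
              * τ ^ (M - 1 - j) := by ring
        _ = g.coeff (j + 1 + 1) * w ^ (j + 1 + 1) * τ ^ (M - 1 - j) := by rw [h1]
        _ = e * (d j * τ ^ (M - 1 - j)) := by
            show _ = e * (g.coeff (j + 1 + 1) * (w ^ (j + 1) * (-ui)) * τ ^ (M - 1 - j))
            linear_combination (g.coeff (j + 1 + 1) * w ^ (j + 1) * τ ^ (M - 1 - j)) * hw'
    have hexpand : g.eval (w * ti)
        = (∑ j ∈ Finset.range M, g.coeff (j + 1 + 1) * (w * ti) ^ (j + 1 + 1))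
          + u * (w * ti) + e := by
      rw [eval_eq_sum_range, hM, Finset.sum_range_succ', Finset.sum_range_succ']
      simp only [zero_add, pow_zero, pow_one, mul_one, hc0, hc1]
    have hsum : (∑ j ∈ Finset.range M, g.coeff (j + 1 + 1) * (w * ti) ^ (j + 1 + 1))
        * τ ^ (M + 1) = e * ∑ j ∈ Finset.range M, d j * τ ^ (M - 1 - j) := by
      rw [Finset.sum_mul, Finset.mul_sum]; exact Finset.sum_congr rfl T2
    have key : g.eval (w * ti) * τ ^ (M + 1)
        = e * (τ ^ (M + 1) - τ ^ M + ∑ j ∈ Finset.range M, d j * τ ^ (M - 1 - j)) := by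
      rw [hexpand]; linear_combination hsum + T1
    have hroot : g.eval (w * ti) = 0 := by
      have : g.eval (w * ti) * τ ^ (M + 1) = 0 := by rw [key, hτ, mul_zero]
      exact (hτu.pow (M + 1)).mul_left_eq_zero.mp this
    exact ⟨w * ti, Ideal.mul_mem_right _ _ hw, hroot⟩
  obtain ⟨Y, hY, hroot⟩ := hroot_of (taylor a₀ f) _ _ hM hc0 hc1 he hui
  refine ⟨Y + a₀, ?_, ?_⟩
  · show f.eval (Y + a₀) = 0
    rw [← taylor_eval]; exact hroot
  · rw [add_sub_cancel_right]
    exact hY

theorem exists_of_mem_maximalIdeal (V : Type*) [CommRing V] [IsDomain V] [ValuationRing V]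
    (p : Ideal V) [p.IsPrime] (x : Localization.AtPrime p)
    (hx : x ∈ maximalIdeal (Localization.AtPrime p)) :
    ∃ v ∈ p, algebraMap V (Localization.AtPrime p) v = x := by
  obtain ⟨v, s, rfl⟩ := IsLocalization.exists_mk'_eq p.primeCompl x
  rw [IsLocalization.AtPrime.mk'_mem_maximal_iff (Localization.AtPrime p) p] at hx
  obtain ⟨c, hc | hc⟩ := ValuationRing.cond v (s : V)
  · have : (s : V) ∈ p := by rw [← hc]; exact Ideal.mul_mem_right c p hx
    exact absurd this (Ideal.mem_primeCompl_iff.mp s.2)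
  · subst hc
    have hcp : c ∈ p :=
      (Ideal.IsPrime.mem_or_mem ‹p.IsPrime› hx).resolve_left (Ideal.mem_primeCompl_iff.mp s.2)
    exact ⟨c, hcp, (IsLocalization.mk'_mul_cancel_left c s).symm⟩

theorem loc_henselian (V : Type*) [CommRing V] [IsDomain V] [ValuationRing V]
    [HenselianLocalRing V] (p : Ideal V) [p.IsPrime] :
    HenselianLocalRing (Localization.AtPrime p) := by
  apply hens_of_special
  intro M d hd
  choose dt hdt1 hdt2 using fun j => exists_of_mem_maximalIdeal V p (d j) (hd j)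
  have hp_le : p ≤ maximalIdeal V := IsLocalRing.le_maximalIdeal (Ideal.IsPrime.ne_top ‹_›)
  obtain ⟨R, hR⟩ : ∃ R : V[X], R = ∑ j ∈ Finset.range M, C (dt j) * X ^ (M - 1 - j) := ⟨_, rfl⟩
  have hRmem : R ∈ Ideal.map (C : V →+* V[X]) (maximalIdeal V) := by
    rw [hR]
    exact Ideal.sum_mem _ fun j _ =>
      Ideal.mul_mem_right _ _ (Ideal.mem_map_of_mem _ (hp_le (hdt1 j)))
  have hRdeg : R.natDegree ≤ M := by
    rw [hR]
    exact natDegree_sum_le_of_forall_le _ _ fun j _ =>
      (natDegree_C_mul_X_pow_le _ _).trans (by omega)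
  obtain ⟨τ, hτu, hτ⟩ := special_root V M R hRmem hRdeg
  refine ⟨algebraMap V _ τ, hτu.map _, ?_⟩
  have := congrArg (algebraMap V (Localization.AtPrime p)) hτ
  simpa only [hR, eval_add, eval_sub, eval_pow, eval_X, eval_finsetSum, eval_mul, eval_C,
    map_add, map_sub, map_pow, map_sum, map_mul, map_zero, hdt2] using this

theorem quot_henselian (V : Type u) [CommRing V] [HenselianLocalRing V] (p : Ideal V)
    [p.IsPrime] : HenselianLocalRing (V ⧸ p) := by
  have : IsLocalRing (V ⧸ p) :=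
    IsLocalRing.of_surjective' (Ideal.Quotient.mk p) Ideal.Quotient.mk_surjective
  have h3 := ((HenselianLocalRing.TFAE V).out 0 2).mp (by infer_instance)
  refine ((HenselianLocalRing.TFAE (V ⧸ p)).out 0 2).mpr ?_
  intro K _ φ hφ f hf a₀ h1 h2
  have hlift : f ∈ lifts (Ideal.Quotient.mk p) :=
    mem_lifts_of_surjective Ideal.Quotient.mk_surjective f
  obtain ⟨g, hg, -, hgm⟩ := lifts_and_natDegree_eq_and_monic hlift hf
  obtain ⟨a, ha, haφ⟩ := h3 (φ.comp (Ideal.Quotient.mk p))
    (hφ.comp Ideal.Quotient.mk_surjective) g hgm a₀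
    (by rw [← eval₂_map, hg]; exact h1) (by rw [← eval₂_map, ← derivative_map, hg]; exact h2)
  refine ⟨Ideal.Quotient.mk p a, ?_, haφ⟩
  rw [← hg]; exact ha.map

end aux

/-- Let V be a Henselian valuation ring and p a prime ideal of V. Then the local rings V_p (localisation
at p) and V/p are Henselian. (Both are again valuation rings, which is elementary and not restated.) -/
theorem result (V : Type u) [CommRing V]
    [IsDomain V] [ValuationRing V] [HenselianLocalRing V] (p : Ideal V) [p.IsPrime] :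
    HenselianLocalRing (Localization.AtPrime p) ∧ HenselianLocalRing (V ⧸ p) := by
  exact ⟨loc_henselian V p, quot_henselian V p⟩

end Groth.Agent.S16174
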