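import Groth.Statements.S16188
import Mathlib

set_option autoImplicit false
universe u
open CategoryTheory AlgebraicGeometry TopologicalSpace
open SchMor

namespace Groth.Agent.S16188

theorem isReduced_subscheme_vanishingIdeal {Y : Scheme.{u}} (Z : Closeds Y) :
    IsReduced (Scheme.IdealSheafData.vanishingIdeal Z).subscheme := by
  let I := Scheme.IdealSheafData.vanishingIdeal Z
  have h : ∀ U : Y.affineOpens, IsReduced (I.subschemeCover.openCover.X U) := by
    intro U
    change IsReduced (Spec (.of (Γ(Y, U) ⧸ I.ideal U)))
    have hrad : (I.ideal U).IsRadical := by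
      simp only [I, Scheme.IdealSheafData.vanishingIdeal_ideal]
      exact PrimeSpectrum.isRadical_vanishingIdeal _
    have : _root_.IsReduced (Γ(Y, U) ⧸ I.ideal U) :=
      (Ideal.isRadical_iff_quotient_reduced _).mp hrad
    have : _root_.IsReduced (CommRingCat.of (Γ(Y, U) ⧸ I.ideal U)) := this
    infer_instance
  exact IsReduced.of_openCover _ I.subschemeCover.openCover

/-- Let f : X → Y be a morphism of schemes with X reduced and irreducible. Then f factors through an
irreducible component of Y carrying its reduced closed-subscheme structure: there are an irreducible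
component Z of Y and a morphism g from X to the closed subscheme of Y cut out by the vanishing ideal
sheaf of Z with g followed by the inclusion equal to f; that closed subscheme is integral. -/
theorem result
    {X Y : Scheme.{u}} (f : X ⟶ Y) [IsReduced X] [IrreducibleSpace X] :
    ∃ (Z : Closeds Y) (_ : (Z : Set Y) ∈ irreducibleComponents Y)
      (_ : IsIntegral (Scheme.IdealSheafData.vanishingIdeal Z).subscheme)
      (g : X ⟶ (Scheme.IdealSheafData.vanishingIdeal Z).subscheme),
      g ≫ (Scheme.IdealSheafData.vanishingIdeal Z).subschemeι = f := by
  -- the image of `f` is irreducible, hence contained in an irreducible component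
  have hirr : IsIrreducible (Set.range f) := by
    rw [← Set.image_univ]
    exact (IrreducibleSpace.isIrreducible_univ X).image f f.continuous.continuousOn
  obtain ⟨Z₀, hZ₀, hsub⟩ := exists_mem_irreducibleComponents_subset_of_isIrreducible _ hirr
  let Z : Closeds Y := ⟨Z₀, isClosed_of_mem_irreducibleComponents _ hZ₀⟩
  have hred := isReduced_subscheme_vanishingIdeal Z
  have hirrZ : IrreducibleSpace (Scheme.IdealSheafData.vanishingIdeal Z).subscheme := by
    have : IsIrreducible ((Scheme.IdealSheafData.vanishingIdeal Z).support : Set Y) := by
      rw [Scheme.IdealSheafData.coe_support_vanishingIdeal]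
      exact hZ₀.1
    exact Subtype.irreducibleSpace this
  have hle : Scheme.IdealSheafData.vanishingIdeal Z ≤ f.ker := by
    have h1 : f.ker = Scheme.IdealSheafData.vanishingIdeal (.closure (f '' (⊤ : Closeds X))) := by
      rw [← Scheme.IdealSheafData.map_vanishingIdeal, Scheme.IdealSheafData.vanishingIdeal_top,
        Scheme.nilradical_eq_bot, Scheme.IdealSheafData.map_bot]
    rw [h1]
    apply Scheme.IdealSheafData.vanishingIdeal_antimono
    rw [TopologicalSpace.Closeds.closure_le]
    rintro _ ⟨x, -, rfl⟩
    exact hsub ⟨x, rfl⟩
  refine ⟨Z, hZ₀, isIntegral_of_irreducibleSpace_of_isReduced _,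
    f.toImage ≫ Scheme.IdealSheafData.inclusion hle, ?_⟩
  rw [Category.assoc, Scheme.IdealSheafData.inclusion_subschemeι]
  exact f.toImage_imageι

end Groth.Agent.S16188
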