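import Groth.Statements.S16194
import Mathlib.RingTheory.Jacobson.Ideal

set_option autoImplicit false
universe u
open DivAlg

namespace Groth.Agent.S16194

/-- In an associative unital ring R, not necessarily commutative, every element r of the Jacobson
radical (the set of elements lying in every maximal left ideal) is quasiregular, i.e. 1 - r is a
two-sided unit. -/
theorem result {R : Type u} [Ring R] (r : R)
    (hr : r ∈ Ring.jacobson R) : IsUnit (1 - r) := by
  rw [← Ideal.jacobson_bot] at hr
  -- left inverse of `1 - r`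
  have key : ∀ x : R, x ∈ Ideal.jacobson (⊥ : Ideal R) → ∃ s : R, s * (1 - x) = 1 := by
    intro x hx
    have hx' : -x ∈ Ideal.jacobson (⊥ : Ideal R) := neg_mem hx
    obtain ⟨s, hs⟩ := Ideal.exists_mul_add_sub_mem_of_mem_jacobson (-x) hx'
    refine ⟨s, ?_⟩
    have : s * (-x + 1) - 1 = 0 := by simpa using hs
    have h2 : s * (-x + 1) = 1 := sub_eq_zero.mp this
    have h3 : (1 - x) = (-x + 1) := by abel
    rw [h3]; exact h2
  obtain ⟨s, hs⟩ := key r hr
  -- s = 1 + s r = 1 - (-(s r)), and -(s r) is in the radical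
  have hsr : -(s * r) ∈ Ideal.jacobson (⊥ : Ideal R) :=
    neg_mem (Ideal.mul_mem_left _ s hr)
  obtain ⟨t, ht⟩ := key (-(s * r)) hsr
  have hs' : s = 1 - (-(s * r)) := by
    have : s * (1 - r) = s - s * r := by rw [mul_sub, mul_one]
    rw [this] at hs
    rw [sub_neg_eq_add, ← hs]; abel
  rw [← hs'] at ht
  -- t * s = 1 and s * (1 - r) = 1, so t = 1 - r
  have hteq : t = 1 - r := by
    calc t = t * (s * (1 - r)) := by rw [hs, mul_one]
      _ = (t * s) * (1 - r) := by rw [mul_assoc]
      _ = 1 - r := by rw [ht, one_mul]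
  rw [hteq] at ht
  exact ⟨⟨1 - r, s, ht, hs⟩, rfl⟩

end Groth.Agent.S16194
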