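import Groth.Statements.S16196
import Mathlib.Algebra.Module.BigOperators

set_option autoImplicit false
universe u v
open DivAlg

namespace Groth.Agent.S16196

/-- Let R be a ring (associative, unital, not necessarily commutative) and M a left R-module which is a
generator, in the form: for some n there is an R-linear surjection from M^n onto R. Then the natural
ring homomorphism from R to the double endomorphism ring BiEnd_R(M) = End_{End_R(M)}(M)
(endomorphisms of M commuting with every R-linear endomorphism), r ↦ multiplication by r, is
bijective. (The printed form takes R an algebra over a commutative ring k, embeds R in E = End_k(M)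
and asserts R = C_E(C_E(R)); the double centralizer there is BiEnd_R(M).) -/
theorem result {R : Type u} [Ring R] (M : Type v)
    [AddCommGroup M] [Module R M]
    (hgen : ∃ (n : ℕ) (f : (Fin n → M) →ₗ[R] R), Function.Surjective f) :
    Function.Bijective (Module.toModuleEnd (Module.End R M) (S := R) M) := by
  classical
  obtain ⟨n, f, hf⟩ := hgen
  obtain ⟨x, hx⟩ := hf 1
  have hxsum : ∀ y : Fin n → M, y = ∑ i, Pi.single i (y i) := fun y => (Finset.univ_sum_single y).symm
  constructor
  · -- injective
    rw [injective_iff_map_eq_zero]
    intro r hr
    have hr' : ∀ m : M, r • m = 0 := by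
      intro m
      have := LinearMap.congr_fun hr m
      simpa using this
    have : r • x = 0 := by
      funext i
      simp [hr']
    calc r = r * f x := by rw [hx, mul_one]
      _ = f (r • x) := by rw [map_smul, smul_eq_mul]
      _ = 0 := by rw [this, map_zero]
  · -- surjective
    intro T
    have hT : ∀ (g : Module.End R M) (y : M), T (g y) = g (T y) := by
      intro g y
      have := T.map_smul g y
      simpa using this
    refine ⟨f (fun i => T (x i)), ?_⟩
    apply LinearMap.ext
    intro m
    let g : Fin n → Module.End R M := fun i =>
      (LinearMap.toSpanSingleton R M m).comp (f.comp (LinearMap.single R (fun _ => M) i))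
    have hg : ∀ i y, g i y = f (Pi.single i y) • m := by
      intro i y
      simp [g, LinearMap.toSpanSingleton_apply]
    have hm : m = ∑ i, g i (x i) := by
      simp only [hg]
      rw [← Finset.sum_smul, ← map_sum, ← hxsum x, hx, one_smul]
    have hTm : T m = ∑ i, g i (T (x i)) := by
      conv_lhs => rw [hm]
      rw [map_sum]
      exact Finset.sum_congr rfl (fun i _ => hT (g i) (x i))
    rw [hTm]
    simp only [hg]
    rw [← Finset.sum_smul, ← map_sum, ← hxsum (fun i => T (x i))]
    simp

end Groth.Agent.S16196
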