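import Groth.Statements.S16197
-- import your own Groth.Agent.* helpers here

set_option autoImplicit false
universe u v w
open DivAlg

namespace Groth.Agent.S16197

/-- Let R be a ring (associative, unital, not necessarily commutative) and M a left R-module which is a
generator, used here only through the existence of an R-linear surjection from a direct sum of
copies of M, indexed by an arbitrary type, onto R. Then some finite power M^n decomposes as R × Q
for a submodule Q of M^n. (The published statement is an equivalence; this row states only the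
implication from the existence of such a surjection to the splitting.) -/
theorem result {R : Type u} [Ring R] (M : Type v)
    [AddCommGroup M] [Module R M]
    (hgen : ∃ (ι : Type w) (f : (ι →₀ M) →ₗ[R] R), Function.Surjective f) :
    ∃ (n : ℕ) (Q : Submodule R (Fin n → M)), Nonempty ((Fin n → M) ≃ₗ[R] (R × Q)) := by
  classical
  obtain ⟨ι, f, hf⟩ := hgen
  obtain ⟨z, hz⟩ := hf 1
  let s := z.support
  let e : Fin s.card ≃ s := s.equivFin.symm
  let L : (Fin s.card → M) →ₗ[R] (ι →₀ M) :=
    ∑ j, (Finsupp.lsingle (e j : ι)).comp (LinearMap.proj j)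
  let h : (Fin s.card → M) →ₗ[R] R := f.comp L
  let y₀ : Fin s.card → M := fun j => z (e j)
  have hL : L y₀ = z := by
    simp only [L, LinearMap.sum_apply, LinearMap.comp_apply, LinearMap.proj_apply,
      Finsupp.lsingle_apply, y₀]
    rw [Equiv.sum_comp e (fun a : s => Finsupp.single (a : ι) (z a))]
    rw [Finset.sum_coe_sort s (fun i => Finsupp.single i (z i))]
    exact Finsupp.sum_single z
  have hy₀ : h y₀ = 1 := by
    simp only [h, LinearMap.comp_apply, hL, hz]
  refine ⟨s.card, LinearMap.ker h, ⟨?_⟩⟩
  let F : (Fin s.card → M) →ₗ[R] (R × LinearMap.ker h) :=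
    LinearMap.prod h (LinearMap.codRestrict (LinearMap.ker h)
      (LinearMap.id - (LinearMap.toSpanSingleton R _ y₀).comp h) (by
        intro y
        simp [LinearMap.mem_ker, LinearMap.toSpanSingleton_apply, hy₀]))
  let G : (R × LinearMap.ker h) →ₗ[R] (Fin s.card → M) :=
    LinearMap.coprod (LinearMap.toSpanSingleton R _ y₀) (LinearMap.ker h).subtype
  refine LinearEquiv.ofLinear F G ?_ ?_
  · apply LinearMap.ext
    rintro ⟨r, q, hq⟩
    have hq' : h q = 0 := hq
    apply Prod.ext
    · simp [F, G, LinearMap.toSpanSingleton_apply, hy₀, hq']
    · apply Subtype.ext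
      simp [F, G, LinearMap.toSpanSingleton_apply, hy₀, hq']
  · apply LinearMap.ext
    intro y
    simp [F, G, LinearMap.toSpanSingleton_apply]

end Groth.Agent.S16197
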