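import Groth.Statements.S16199
import Mathlib

set_option autoImplicit false
universe u
open DivAlg

namespace Groth.Agent.S16199aux

open Matrix TensorProduct

variable {R : Type u} [CommRing R]

/-- rank-one pairing criterion for invertibility -/
theorem invertible_of_pairing {N₁ N₂ : Type u} [AddCommGroup N₁] [Module R N₁]
    [AddCommGroup N₂] [Module R N₂] (b₁ : N₂ → N₁ → R) (β₂ : N₂ →ₗ[R] N₁ →ₗ[R] R)
    {ι : Type} [Fintype ι] (t : ι → N₂) (s : ι → N₁)
    (h1 : ∑ i, β₂ (t i) (s i) = 1)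
    (I1 : ∀ u w w', β₂ u w' • w = b₁ u w • w')
    (I2 : ∀ u u' w, b₁ u' w • u = β₂ u w • u') : Module.Invertible R N₁ := by
  refine Module.Invertible.right (M := N₂) (LinearEquiv.ofLinearMap (TensorProduct.lift β₂)
    (LinearMap.toSpanSingleton R _ (∑ i, t i ⊗ₜ[R] s i)) ?_ ?_)
  · apply LinearMap.ext_ring
    simp [map_sum, h1]
  · apply TensorProduct.ext'
    intro u w
    simp only [LinearMap.comp_apply, TensorProduct.lift.tmul, LinearMap.toSpanSingleton_apply,
      LinearMap.id_apply]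
    rw [Finset.smul_sum]
    have : ∀ i, β₂ u w • (t i ⊗ₜ[R] s i) = u ⊗ₜ[R] (β₂ (t i) (s i) • w) := by
      intro i
      rw [TensorProduct.smul_tmul', ← I2 u (t i) w, TensorProduct.smul_tmul, ← I1 (t i) w (s i)]
    simp only [this]
    rw [← TensorProduct.tmul_sum, ← Finset.sum_smul, h1, one_smul]

section
variable {n : ℕ} (φ : Matrix (Fin n) (Fin n) R ≃ₐ[R] Matrix (Fin n) (Fin n) R)

/-- images of matrix units -/
noncomputable def ff (i j : Fin n) : Matrix (Fin n) (Fin n) R := φ (Matrix.single i j 1)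

theorem ff_mul (i j k : Fin n) : ff φ i j * ff φ j k = ff φ i k := by
  simp only [ff, ← map_mul, Matrix.single_mul_single_same, mul_one]

theorem ff_mul_ne (i j k l : Fin n) (h : j ≠ k) : ff φ i j * ff φ k l = 0 := by
  simp only [ff, ← map_mul]
  rw [Matrix.single_mul_single_of_ne (h := h), map_zero]

theorem ff_sum : ∑ i, ff φ i i = 1 := by
  simp only [ff, ← map_sum, Matrix.sum_single_one, map_one]

theorem phi_eq (A : Matrix (Fin n) (Fin n) R) : φ A = ∑ i, ∑ j, A i j • ff φ i j := by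
  conv_lhs => rw [Matrix.matrix_eq_sum_single A]
  simp only [map_sum, ff]
  refine Finset.sum_congr rfl fun i _ => Finset.sum_congr rfl fun j _ => ?_
  rw [← map_smul φ, Matrix.smul_single, smul_eq_mul, mul_one]

variable [NeZero n]

theorem ff_sandwich (B : Matrix (Fin n) (Fin n) R) :
    ff φ 0 0 * B * ff φ 0 0 = (φ.symm B) 0 0 • ff φ 0 0 := by
  have : B = φ (φ.symm B) := (φ.apply_symm_apply B).symm
  conv_lhs => rw [this]
  simp only [ff, ← map_mul, Matrix.single_mul_mul_single, one_mul, mul_one]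
  rw [← map_smul φ, Matrix.smul_single, smul_eq_mul, mul_one]

/-- column part -/
noncomputable def N1 : Submodule R (Fin n → R) :=
  LinearMap.eqLocus (Matrix.mulVecLin (ff φ 0 0)) LinearMap.id

/-- row part -/
noncomputable def N2 : Submodule R (Fin n → R) :=
  LinearMap.eqLocus (Matrix.vecMulLinear (ff φ 0 0)) LinearMap.id

theorem mem_N1 {w : Fin n → R} : w ∈ N1 φ ↔ ff φ 0 0 *ᵥ w = w := by
  rw [N1, LinearMap.mem_eqLocus]; rfl

theorem mem_N2 {u : Fin n → R} : u ∈ N2 φ ↔ u ᵥ* ff φ 0 0 = u := by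
  rw [N2, LinearMap.mem_eqLocus]; rfl

theorem outer_eq {u w : Fin n → R} (hu : u ∈ N2 φ) (hw : w ∈ N1 φ) :
    vecMulVec w u = (φ.symm (vecMulVec w u)) 0 0 • ff φ 0 0 := by
  have h1 : ff φ 0 0 * vecMulVec w u * ff φ 0 0 = vecMulVec w u := by
    rw [Matrix.mul_vecMulVec, Matrix.vecMulVec_mul, (mem_N1 φ).1 hw, (mem_N2 φ).1 hu]
  rw [← ff_sandwich, h1]

noncomputable def beta2 : N2 φ →ₗ[R] N1 φ →ₗ[R] R :=
  LinearMap.mk₂ R (fun u w => (φ.symm (vecMulVec (w : Fin n → R) (u : Fin n → R))) 0 0)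
    (by intro u u' w; simp [Matrix.vecMulVec_add, map_add])
    (by intro c u w; simp [map_smul])
    (by intro u w w'; simp [Matrix.add_vecMulVec, map_add])
    (by intro c u w; simp [map_smul])

theorem beta2_apply (u : N2 φ) (w : N1 φ) :
    beta2 φ u w = (φ.symm (vecMulVec (w : Fin n → R) (u : Fin n → R))) 0 0 := rfl

noncomputable def tt (k : Fin n) : N2 φ := ⟨fun j => ff φ 0 0 k j, by
  rw [mem_N2]
  have := Matrix.mul_apply_eq_vecMul (ff φ 0 0) (ff φ 0 0) k
  rw [ff_mul] at this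
  exact this.symm⟩

noncomputable def ss (k : Fin n) : N1 φ := ⟨fun i => ff φ 0 0 i k, by
  rw [mem_N1]
  ext i
  have := congrFun (congrFun (ff_mul φ 0 0 0) i) k
  rw [Matrix.mul_apply] at this
  simpa [Matrix.mulVec, dotProduct] using this⟩

theorem beta2_sum : ∑ k, beta2 φ (tt φ k) (ss φ k) = 1 := by
  have h : ∑ k, vecMulVec (fun i => ff φ 0 0 i k) (fun j => ff φ 0 0 k j) = ff φ 0 0 := by
    ext i j
    rw [Matrix.sum_apply]
    simp only [Matrix.vecMulVec_apply]
    rw [← Matrix.mul_apply, ff_mul]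
  simp only [beta2_apply, tt, ss]
  rw [← Matrix.sum_apply, ← map_sum, h]
  simp [ff]

theorem I1 (u : N2 φ) (w w' : N1 φ) :
    beta2 φ u w' • w = ((u : Fin n → R) ⬝ᵥ (w : Fin n → R)) • w' := by
  apply Subtype.ext
  show beta2 φ u w' • (w : Fin n → R) = ((u : Fin n → R) ⬝ᵥ (w : Fin n → R)) • (w' : Fin n → R)
  rw [beta2_apply]
  obtain ⟨c, hc⟩ : ∃ c, c = (φ.symm (vecMulVec (w' : Fin n → R) (u : Fin n → R))) 0 0 := ⟨_, rfl⟩
  have h : vecMulVec (w' : Fin n → R) (u : Fin n → R) = c • ff φ 0 0 := by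
    rw [hc]; exact outer_eq φ u.2 w'.2
  rw [← hc]
  calc c • (w : Fin n → R) = c • (ff φ 0 0 *ᵥ (w : Fin n → R)) := by rw [(mem_N1 φ).1 w.2]
    _ = (c • ff φ 0 0) *ᵥ (w : Fin n → R) := (Matrix.smul_mulVec _ _ _).symm
    _ = vecMulVec (w' : Fin n → R) (u : Fin n → R) *ᵥ (w : Fin n → R) := by rw [h]
    _ = _ := by rw [Matrix.vecMulVec_mulVec, op_smul_eq_smul]

theorem I2 (u u' : N2 φ) (w : N1 φ) :
    ((u' : Fin n → R) ⬝ᵥ (w : Fin n → R)) • u = beta2 φ u w • u' := by
  apply Subtype.ext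
  show ((u' : Fin n → R) ⬝ᵥ (w : Fin n → R)) • (u : Fin n → R) = beta2 φ u w • (u' : Fin n → R)
  rw [beta2_apply]
  obtain ⟨c, hc⟩ : ∃ c, c = (φ.symm (vecMulVec (w : Fin n → R) (u : Fin n → R))) 0 0 := ⟨_, rfl⟩
  have h : vecMulVec (w : Fin n → R) (u : Fin n → R) = c • ff φ 0 0 := by
    rw [hc]; exact outer_eq φ u.2 w.2
  rw [← hc]
  calc ((u' : Fin n → R) ⬝ᵥ (w : Fin n → R)) • (u : Fin n → R)
      = (u' : Fin n → R) ᵥ* vecMulVec (w : Fin n → R) (u : Fin n → R) :=
        (Matrix.vecMul_vecMulVec _ _ _).symm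
    _ = (u' : Fin n → R) ᵥ* (c • ff φ 0 0) := by rw [h]
    _ = c • ((u' : Fin n → R) ᵥ* ff φ 0 0) := Matrix.vecMul_smul _ _ _
    _ = c • (u' : Fin n → R) := by rw [(mem_N2 φ).1 u'.2]

theorem invertible_N1 : Module.Invertible R (N1 φ) :=
  invertible_of_pairing (N₂ := N2 φ) (fun (u : N2 φ) (w : N1 φ) => (u : Fin n → R) ⬝ᵥ (w : Fin n → R))
    (beta2 φ) (tt φ) (ss φ)
    (beta2_sum φ) (fun u w w' => I1 φ u w w') (fun u u' w => I2 φ u u' w)

noncomputable def Theta : (Fin n → N1 φ) ≃ₗ[R] (Fin n → R) :=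
  LinearEquiv.ofLinearMap
    (∑ i, (Matrix.mulVecLin (ff φ i 0)) ∘ₗ (N1 φ).subtype ∘ₗ
      (LinearMap.proj i : (Fin n → N1 φ) →ₗ[R] N1 φ))
    (LinearMap.pi fun i => LinearMap.codRestrict (N1 φ) (Matrix.mulVecLin (ff φ 0 i)) (fun v => by
      rw [mem_N1, Matrix.mulVecLin_apply, Matrix.mulVec_mulVec, ff_mul]))
    (by
      apply LinearMap.ext; intro v
      simp only [LinearMap.comp_apply, LinearMap.sum_apply, LinearMap.pi_apply,
        LinearMap.proj_apply, LinearMap.id_apply, Submodule.subtype_apply,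
        LinearMap.codRestrict_apply, Matrix.mulVecLin_apply, Matrix.mulVec_mulVec, ff_mul]
      rw [← Matrix.sum_mulVec, ff_sum, Matrix.one_mulVec])
    (by
      apply LinearMap.ext; intro w
      funext j
      apply Subtype.ext
      simp only [LinearMap.comp_apply, LinearMap.id_apply, LinearMap.pi_apply,
        LinearMap.codRestrict_apply, LinearMap.sum_apply, Submodule.subtype_apply,
        LinearMap.proj_apply, Matrix.mulVecLin_apply]
      rw [Matrix.mulVec_sum]
      simp only [Matrix.mulVec_mulVec]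
      rw [Finset.sum_eq_single j]
      · rw [ff_mul]; exact (mem_N1 φ).1 (w j).2
      · intro i _ hij
        rw [ff_mul_ne φ 0 j i 0 (Ne.symm hij), Matrix.zero_mulVec]
      · intro h; exact absurd (Finset.mem_univ j) h)

theorem Theta_apply (w : Fin n → N1 φ) :
    Theta φ w = ∑ i, ff φ i 0 *ᵥ (w i : Fin n → R) := by
  simp only [Theta, LinearEquiv.coe_ofLinearMap, LinearMap.sum_apply, LinearMap.comp_apply,
    LinearMap.proj_apply, Submodule.subtype_apply, Matrix.mulVecLin_apply]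

theorem inner_of_pic
    (hpic : ∀ (N : Type u) [AddCommGroup N] [Module R N] [Module.Invertible R N],
        Nonempty ((Fin n → N) ≃ₗ[R] (Fin n → R)) → Module.Free R N) :
    ∃ P : GL (Fin n) R, ∀ A : Matrix (Fin n) (Fin n) R, φ A = P.1 * A * (P⁻¹).1 := by
  have := invertible_N1 φ
  have hfree : Module.Free R (N1 φ) := hpic (N1 φ) ⟨Theta φ⟩
  obtain ⟨e⟩ := Module.Invertible.free_iff_linearEquiv.mp hfree
  let L : (Fin n → R) ≃ₗ[R] (Fin n → R) :=
    (LinearEquiv.piCongrRight fun _ => e.symm).trans (Theta φ)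
  obtain ⟨w₀, hw₀⟩ : ∃ w₀ : Fin n → R, w₀ = (e.symm 1 : N1 φ) := ⟨_, rfl⟩
  have hL : ∀ v, L v = ∑ i, v i • (ff φ i 0 *ᵥ w₀) := by
    intro v
    show (Theta φ) (fun i => e.symm (v i)) = _
    rw [Theta_apply]
    refine Finset.sum_congr rfl fun i _ => ?_
    have : e.symm (v i) = v i • e.symm 1 := by rw [← map_smul, smul_eq_mul, mul_one]
    rw [this, Submodule.coe_smul, Matrix.mulVec_smul, hw₀]
  have hAf : ∀ (A : Matrix (Fin n) (Fin n) R) i, φ A * ff φ i 0 = ∑ k, A k i • ff φ k 0 := by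
    intro A i
    rw [phi_eq φ A, Finset.sum_mul]
    refine Finset.sum_congr rfl fun k _ => ?_
    rw [Finset.sum_mul, Finset.sum_eq_single i]
    · rw [Matrix.smul_mul, ff_mul]
    · intro l _ hli
      rw [Matrix.smul_mul, ff_mul_ne φ k l i 0 hli, smul_zero]
    · intro h; exact absurd (Finset.mem_univ i) h
  have hLA : ∀ (A : Matrix (Fin n) (Fin n) R) v, φ A *ᵥ L v = L (A *ᵥ v) := by
    intro A v
    rw [hL, hL, Matrix.mulVec_sum]
    calc ∑ i, φ A *ᵥ (v i • (ff φ i 0 *ᵥ w₀))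
        = ∑ i, ∑ k, (v i * A k i) • (ff φ k 0 *ᵥ w₀) := by
          refine Finset.sum_congr rfl fun i _ => ?_
          rw [Matrix.mulVec_smul, Matrix.mulVec_mulVec, hAf, Matrix.sum_mulVec, Finset.smul_sum]
          refine Finset.sum_congr rfl fun k _ => ?_
          rw [Matrix.smul_mulVec, smul_smul]
      _ = ∑ k, ∑ i, (v i * A k i) • (ff φ k 0 *ᵥ w₀) := Finset.sum_comm
      _ = ∑ k, (A *ᵥ v) k • (ff φ k 0 *ᵥ w₀) := by
          refine Finset.sum_congr rfl fun k _ => ?_
          rw [← Finset.sum_smul]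
          congr 1
          simp only [Matrix.mulVec, dotProduct]
          exact Finset.sum_congr rfl fun i _ => mul_comm _ _
  let P : GL (Fin n) R := ⟨LinearMap.toMatrix' L.toLinearMap, LinearMap.toMatrix' L.symm.toLinearMap,
    by rw [← LinearMap.toMatrix'_comp, LinearEquiv.comp_symm, LinearMap.toMatrix'_id],
    by rw [← LinearMap.toMatrix'_comp, LinearEquiv.symm_comp, LinearMap.toMatrix'_id]⟩
  refine ⟨P, fun A => ?_⟩
  have hcomm : φ A * P.1 = P.1 * A := by
    apply Matrix.toLin'.injective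
    apply LinearMap.ext; intro v
    show Matrix.toLin' (φ A * LinearMap.toMatrix' L.toLinearMap) v =
      Matrix.toLin' (LinearMap.toMatrix' L.toLinearMap * A) v
    rw [Matrix.toLin'_mul, Matrix.toLin'_mul, Matrix.toLin'_toMatrix', LinearMap.comp_apply,
      LinearMap.comp_apply, Matrix.toLin'_apply, Matrix.toLin'_apply]
    exact hLA A v
  calc φ A = φ A * (P.1 * (P⁻¹).1) := by rw [Units.mul_inv, mul_one]
    _ = P.1 * A * (P⁻¹).1 := by rw [← mul_assoc, hcomm]

end

theorem free_of_inner {n : ℕ} [NeZero n]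
    (hinner : ∀ φ : Matrix (Fin n) (Fin n) R ≃ₐ[R] Matrix (Fin n) (Fin n) R,
        ∃ P : GL (Fin n) R, ∀ A : Matrix (Fin n) (Fin n) R, φ A = P.1 * A * (P⁻¹).1)
    (N : Type u) [AddCommGroup N] [Module R N] [Module.Invertible R N]
    (ψ : (Fin n → N) ≃ₗ[R] (Fin n → R)) : Module.Free R N := by
  classical
  have hbij : Function.Bijective (Algebra.ofId R (Module.End R N)) := by
    have h := Module.Invertible.toModuleEnd_bijective R N
    have heq : (⇑(Algebra.ofId R (Module.End R N)) : R → Module.End R N) =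
        ⇑(Module.toModuleEnd R (S := R) N) := by
      funext r
      apply LinearMap.ext; intro v
      simp [Algebra.ofId_apply, Module.algebraMap_end_apply]
    rw [heq]; exact h
  let e₀ : R ≃ₐ[R] Module.End R N := AlgEquiv.ofBijective (Algebra.ofId R (Module.End R N)) hbij
  let Φ : Matrix (Fin n) (Fin n) R ≃ₐ[R] Matrix (Fin n) (Fin n) R :=
    (AlgEquiv.mapMatrix e₀).trans ((endVecAlgEquivMatrixEnd (Fin n) R R N).symm.trans
      ((ψ.conjAlgEquiv R).trans LinearMap.toMatrixAlgEquiv'))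
  obtain ⟨P, hP⟩ := hinner Φ
  have hΦ : ∀ (A : Matrix (Fin n) (Fin n) R) (x : Fin n → R),
      Φ A *ᵥ x = ψ (fun i => ∑ j, A i j • (ψ.symm x) j) := by
    intro A x
    have h1 : Φ A = LinearMap.toMatrix' (ψ.toLinearMap ∘ₗ
        ((endVecAlgEquivMatrixEnd (Fin n) R R N).symm (A.map e₀)) ∘ₗ ψ.symm.toLinearMap) := rfl
    rw [h1, ← Matrix.toLin'_apply, Matrix.toLin'_toMatrix']
    simp only [LinearMap.comp_apply, LinearEquiv.coe_coe]
    congr 1
  have h3 : ∀ y : Fin n → R, Matrix.single (0 : Fin n) 0 (1 : R) *ᵥ y = Pi.single 0 (y 0) := by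
    intro y
    rw [Matrix.single_mulVec, one_mul]
    rfl
  let fmap : R →ₗ[R] N := (LinearMap.proj (0 : Fin n)) ∘ₗ ψ.symm.toLinearMap ∘ₗ
    (Matrix.toLin' P.1) ∘ₗ (LinearMap.single R (fun _ : Fin n => R) 0)
  have hsurj : Function.Surjective fmap := by
    intro v
    obtain ⟨x, hx⟩ : ∃ x, x = ψ (Pi.single 0 v) := ⟨_, rfl⟩
    have hx' : ψ.symm x = Pi.single 0 v := by rw [hx, ψ.symm_apply_apply]
    refine ⟨((P⁻¹).1 *ᵥ x) 0, ?_⟩
    have key : P.1 *ᵥ Pi.single 0 (((P⁻¹).1 *ᵥ x) 0) = x := by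
      have h1 := hΦ (Matrix.single 0 0 1) x
      rw [hP] at h1
      have h2 : (fun i => ∑ j, (Matrix.single (0 : Fin n) 0 (1 : R)) i j • (ψ.symm x) j) =
          Pi.single 0 v := by
        rw [hx']
        funext i
        rw [Finset.sum_eq_single 0]
        · by_cases hi : i = 0
          · subst hi; simp
          · simp [hi, Ne.symm hi]
        · intro j _ hj
          simp [hj]
        · intro h; exact absurd (Finset.mem_univ _) h
      rw [h2] at h1
      rw [← h3 ((P⁻¹).1 *ᵥ x), Matrix.mulVec_mulVec, Matrix.mulVec_mulVec, h1]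
      exact hx.symm
    show (ψ.symm (P.1 *ᵥ Pi.single 0 (((P⁻¹).1 *ᵥ x) 0))) 0 = v
    rw [key, hx', Pi.single_eq_same]
  have hbij2 : Function.Bijective fmap := Module.Invertible.bijective_of_surjective hsurj
  exact Module.Free.of_equiv (LinearEquiv.ofBijective fmap hbij2)

end Groth.Agent.S16199aux

namespace Groth.Agent.S16199

/-- Let R be a commutative ring and n ≥ 1. The natural map from GL_n(R) to the R-algebra automorphisms
of M_n(R) is surjective (every automorphism is inner) if and only if Pic_(n)(R) = 0, i.e. every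
invertible R-module N with N^n ≅ R^n is free. (For n = 0 the left side holds trivially while the
right side fails whenever Pic(R) ≠ 0, so this row assumes n ≥ 1, which the published statement
leaves implicit; invertible modules are quantified in the universe of R, which loses nothing since
every invertible module is finitely generated.) -/
theorem result {R : Type u} [CommRing R] (n : ℕ)
    (hn : 1 ≤ n) :
    (∀ φ : Matrix (Fin n) (Fin n) R ≃ₐ[R] Matrix (Fin n) (Fin n) R,
        ∃ P : GL (Fin n) R, ∀ A : Matrix (Fin n) (Fin n) R, φ A = P.1 * A * (P⁻¹).1) ↔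
      (∀ (N : Type u) [AddCommGroup N] [Module R N] [Module.Invertible R N],
        Nonempty ((Fin n → N) ≃ₗ[R] (Fin n → R)) → Module.Free R N) := by
  have : NeZero n := ⟨by omega⟩
  constructor
  · rintro hinner N _ _ _ ⟨ψ⟩
    exact Groth.Agent.S16199aux.free_of_inner hinner N ψ
  · intro hpic φ
    exact Groth.Agent.S16199aux.inner_of_pic φ hpic

end Groth.Agent.S16199
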