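import Groth.Statements.S16200
import Mathlib

set_option autoImplicit false
universe u v
open DivAlg

namespace Groth.Agent.S16200aux

open CommRing TensorProduct

universe uR vN

section Comax
variable {R : Type*} [CommRing R]

lemma comax_iso (I J : Ideal R) (h : I ⊔ J = ⊤) :
    Nonempty ((I × J) ≃ₗ[R] (R × ↥(I ⊓ J))) := by
  have h1 : (1 : R) ∈ I ⊔ J := by rw [h]; exact Submodule.mem_top
  obtain ⟨a, ha, b, hb, hab⟩ := Submodule.mem_sup.mp h1
  have m1 : ∀ p : I × J, b * p.1.1 - a * p.2.1 ∈ I ⊓ J := fun p =>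
    Submodule.mem_inf.mpr ⟨I.sub_mem (I.mul_mem_left b p.1.2) (I.mul_mem_right _ ha),
      J.sub_mem (J.mul_mem_right _ hb) (J.mul_mem_left a p.2.2)⟩
  have m2 : ∀ q : R × ↥(I ⊓ J), a * q.1 + q.2.1 ∈ I := fun q =>
    I.add_mem (I.mul_mem_right _ ha) (Submodule.mem_inf.mp q.2.2).1
  have m3 : ∀ q : R × ↥(I ⊓ J), b * q.1 - q.2.1 ∈ J := fun q =>
    J.sub_mem (J.mul_mem_right _ hb) (Submodule.mem_inf.mp q.2.2).2
  exact ⟨{
    toFun := fun p => (p.1.1 + p.2.1, ⟨b * p.1.1 - a * p.2.1, m1 p⟩)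
    map_add' := fun p q => by
      refine Prod.ext ?_ (Subtype.ext ?_)
      · show (p.1.1 + q.1.1) + (p.2.1 + q.2.1) = (p.1.1 + p.2.1) + (q.1.1 + q.2.1)
        ring
      · show b * (p.1.1 + q.1.1) - a * (p.2.1 + q.2.1)
          = (b * p.1.1 - a * p.2.1) + (b * q.1.1 - a * q.2.1)
        ring
    map_smul' := fun c p => by
      refine Prod.ext ?_ (Subtype.ext ?_)
      · show c * p.1.1 + c * p.2.1 = c * (p.1.1 + p.2.1)
        ring
      · show b * (c * p.1.1) - a * (c * p.2.1) = c * (b * p.1.1 - a * p.2.1)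
        ring
    invFun := fun q => (⟨a * q.1 + q.2.1, m2 q⟩, ⟨b * q.1 - q.2.1, m3 q⟩)
    left_inv := fun p => by
      refine Prod.ext (Subtype.ext ?_) (Subtype.ext ?_)
      · show a * (p.1.1 + p.2.1) + (b * p.1.1 - a * p.2.1) = p.1.1
        linear_combination p.1.1 * hab
      · show b * (p.1.1 + p.2.1) - (b * p.1.1 - a * p.2.1) = p.2.1
        linear_combination p.2.1 * hab
    right_inv := fun q => by
      refine Prod.ext ?_ (Subtype.ext ?_)
      · show (a * q.1 + q.2.1) + (b * q.1 - q.2.1) = q.1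
        linear_combination q.1 * hab
      · show b * (a * q.1 + q.2.1) - a * (b * q.1 - q.2.1) = q.2.1
        linear_combination q.2.1 * hab }⟩

end Comax

section Scale
variable {R : Type*} [CommRing R] [IsDomain R]

noncomputable def scaleEquiv (a : R) (ha : a ≠ 0) (A : Ideal R) :
    A ≃ₗ[R] ↥(Ideal.span {a} * A) :=
  LinearEquiv.ofBijective
    (LinearMap.codRestrict (Ideal.span {a} * A) ((LinearMap.mulLeft R a).comp A.subtype)
      (fun x => Ideal.mem_span_singleton_mul.mpr ⟨x.1, x.2, rfl⟩))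
    ⟨fun x y hxy => by
        have h : a * x.1 = a * y.1 := congrArg Subtype.val hxy
        exact Subtype.ext (mul_left_cancel₀ ha h),
      fun z => by
        obtain ⟨x, hx, hxz⟩ := Ideal.mem_span_singleton_mul.mp z.2
        exact ⟨⟨x, hx⟩, Subtype.ext hxz⟩⟩

lemma scale_iso {a b : R} (ha : a ≠ 0) (hb : b ≠ 0) {A B : Ideal R}
    (h : Ideal.span {a} * A = Ideal.span {b} * B) : Nonempty (A ≃ₗ[R] B) :=
  ⟨(scaleEquiv a ha A).trans ((LinearEquiv.ofEq _ _ h).trans (scaleEquiv b hb B).symm)⟩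

end Scale

section Ded
variable {R : Type uR} [CommRing R] [IsDedekindDomain R]

lemma moving (I J : Ideal R) (hI : I ≠ ⊥) (hJ : J ≠ ⊥) :
    ∃ (J' : Ideal R) (a b : R), a ≠ 0 ∧ b ≠ 0 ∧ I ⊔ J' = ⊤ ∧
      Ideal.span {a} * J = Ideal.span {b} * J' := by
  by_cases hIt : I = ⊤
  · exact ⟨J, 1, 1, one_ne_zero, one_ne_zero, by rw [hIt, top_sup_eq], rfl⟩
  obtain ⟨b, hbJ, hb0⟩ := Submodule.exists_mem_ne_zero_of_ne_bot hJ
  obtain ⟨L, hL⟩ : J ∣ Ideal.span {b} :=
    Ideal.dvd_iff_le.mpr ((Ideal.span_singleton_le_iff_mem (I := J)).mpr hbJ)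
  have hL0 : L ≠ ⊥ := by
    rintro rfl
    rw [Ideal.mul_bot] at hL
    exact hb0 (Ideal.span_singleton_eq_bot.mp hL)
  have hI' : I ≠ 0 := by rwa [Ideal.zero_eq_bot]
  have hL' : L ≠ 0 := by rwa [Ideal.zero_eq_bot]
  have hIL : I * L ≠ 0 := mul_ne_zero hI' hL'
  obtain ⟨a, ha⟩ := IsDedekindDomain.exists_sup_span_eq (Ideal.mul_le_right : I * L ≤ L) hIL
  obtain ⟨J', hJ'⟩ : L ∣ Ideal.span {a} :=
    Ideal.dvd_iff_le.mpr (le_sup_right.trans ha.le)
  have hcop : I ⊔ J' = ⊤ := by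
    have h1 : L * (I ⊔ J') = L * ⊤ := by
      rw [Ideal.mul_sup, Ideal.mul_top, ← hJ', mul_comm L I]
      exact ha
    exact mul_left_cancel₀ hL' h1
  have ha0 : a ≠ 0 := by
    rintro rfl
    have h2 : I * L = ⊤ * L := by
      rw [Ideal.top_mul]
      have h3 : Ideal.span {(0:R)} = ⊥ := Ideal.span_singleton_eq_bot.mpr rfl
      rw [h3, sup_bot_eq] at ha
      exact ha
    exact hIt (mul_right_cancel₀ hL' h2)
  refine ⟨J', a, b, ha0, hb0, hcop, ?_⟩
  rw [hJ', hL, mul_assoc J L J', mul_comm J (L * J')]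

lemma ideal_key (I J : Ideal R) (hI : I ≠ ⊥) (hJ : J ≠ ⊥) :
    Nonempty ((I × J) ≃ₗ[R] (R × ↥(I * J))) := by
  obtain ⟨J', a, b, ha, hb, hcop, hab⟩ := moving I J hI hJ
  obtain ⟨e1⟩ := scale_iso ha hb hab
  have hab' : Ideal.span {a} * (I * J) = Ideal.span {b} * (I * J') := by
    rw [mul_left_comm, hab, mul_left_comm]
  obtain ⟨e2⟩ := scale_iso ha hb hab'
  obtain ⟨e3⟩ := comax_iso I J' hcop
  have e4 : ↥(I ⊓ J') ≃ₗ[R] ↥(I * J') :=
    LinearEquiv.ofEq _ _ (Ideal.mul_eq_inf_of_coprime hcop).symm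
  exact ⟨((LinearEquiv.refl R I).prodCongr e1).trans
    (e3.trans ((LinearEquiv.refl R R).prodCongr (e4.trans e2.symm)))⟩

lemma ne_bot_of_equiv {M : Type*} [AddCommGroup M] [Module R M] [Module.Invertible R M]
    (I : Ideal R) (e : M ≃ₗ[R] I) : I ≠ ⊥ := by
  rintro rfl
  have hs : Subsingleton M := e.toEquiv.subsingleton
  have h10 : (1 : R) = 0 :=
    FaithfulSMul.eq_of_smul_eq_smul (α := M) (fun m => Subsingleton.elim _ _)
  exact one_ne_zero h10

lemma module_key (M N : Type*) [AddCommGroup M] [Module R M] [Module.Invertible R M]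
    [AddCommGroup N] [Module R N] [Module.Invertible R N] :
    Nonempty ((M × N) ≃ₗ[R] (R × (M ⊗[R] N))) := by
  obtain ⟨I, ⟨eI⟩⟩ := Module.Invertible.exists_linearEquiv_ideal R M
  obtain ⟨J, ⟨eJ⟩⟩ := Module.Invertible.exists_linearEquiv_ideal R N
  have hI := ne_bot_of_equiv I eI
  have hJ := ne_bot_of_equiv J eJ
  have : Module.Flat R J := Module.Flat.of_linearEquiv eJ.symm
  obtain ⟨e1⟩ := ideal_key I J hI hJ
  have e2 : I ⊗[R] J ≃ₗ[R] ↥(I * J) :=
    Submodule.LinearDisjoint.mulMap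
      (Submodule.LinearDisjoint.of_left_le_one_of_flat I J (le_top.trans Ideal.one_eq_top.ge))
  exact ⟨(eI.prodCongr eJ).trans (e1.trans ((LinearEquiv.refl R R).prodCongr
    (e2.symm.trans (TensorProduct.congr eI.symm eJ.symm))))⟩

lemma chain (N : Type vN) [AddCommGroup N] [Module R N] [Module.Invertible R N] (k : ℕ) :
    ∃ (T : Type vN) (_ : AddCommGroup T) (_ : Module R T) (_ : Module.Invertible R T),
      Pic.mk R T = Pic.mk R N ^ (k + 1) ∧
      Nonempty ((Fin (k + 1) → N) ≃ₗ[R] ((Fin k → R) × T)) := by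
  induction k with
  | zero =>
    refine ⟨N, inferInstance, inferInstance, inferInstance, by rw [zero_add, pow_one], ?_⟩
    exact ⟨(LinearEquiv.funUnique (Fin 1) R N).trans
      (LinearEquiv.uniqueProd (R := R) (M := N) (M₂ := Fin 0 → R)).symm⟩
  | succ k ih =>
    obtain ⟨T, i1, i2, i3, hT, ⟨e⟩⟩ := ih
    obtain ⟨ek⟩ := module_key (R := R) T N
    refine ⟨T ⊗[R] N, inferInstance, inferInstance, inferInstance, ?_, ?_⟩
    · rw [Pic.mk_tensor, hT, ← pow_succ]
    · exact ⟨(Fin.consLinearEquiv R (fun _ : Fin (k + 1).succ => N)).symm.trans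
        (((LinearEquiv.refl R N).prodCongr e).trans
        ((LinearEquiv.prodComm R N ((Fin k → R) × T)).trans
        ((LinearEquiv.prodAssoc R (Fin k → R) T N).trans
        (((LinearEquiv.refl R (Fin k → R)).prodCongr ek).trans
        ((LinearEquiv.prodAssoc R (Fin k → R) R (T ⊗[R] N)).symm.trans
        (((LinearEquiv.prodComm R (Fin k → R) R).prodCongr (LinearEquiv.refl R (T ⊗[R] N))).trans
        ((Fin.consLinearEquiv R (fun _ : Fin k.succ => R)).prodCongr
          (LinearEquiv.refl R (T ⊗[R] N)))))))))⟩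

end Ded

end Groth.Agent.S16200aux

namespace Groth.Agent.S16200

/-- Let R be a Dedekind domain, N an invertible R-module and n a natural number with [N]^n = 1 in
Pic(R). Then the direct sum N^n is isomorphic to R^n; thus over a Dedekind domain the invertible
modules N with N^n ≅ R^n are exactly the n-torsion classes of Pic(R), the other inclusion holding
over any commutative ring. -/
theorem result {R : Type u} [CommRing R]
    [IsDedekindDomain R] (N : Type v) [AddCommGroup N] [Module R N] [Module.Invertible R N]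
    (n : ℕ) (h : CommRing.Pic.mk R N ^ n = 1) :
    Nonempty ((Fin n → N) ≃ₗ[R] (Fin n → R)) := by
  cases n with
  | zero => exact ⟨LinearEquiv.ofSubsingleton (R := R) (Fin 0 → N) (Fin 0 → R)⟩
  | succ k =>
    obtain ⟨T, i1, i2, i3, hT, ⟨e⟩⟩ := S16200aux.chain (R := R) N k
    rw [h] at hT
    obtain ⟨eT⟩ := CommRing.Pic.mk_eq_one_iff.mp hT
    exact ⟨e.trans (((LinearEquiv.refl R (Fin k → R)).prodCongr eT).trans
      ((LinearEquiv.prodComm R (Fin k → R) R).trans
        (Fin.consLinearEquiv R (fun _ : Fin k.succ => R))))⟩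

end Groth.Agent.S16200
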