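import Groth.Statements.S16211
import Mathlib

set_option autoImplicit false
universe u v
open InvTh

namespace Groth.Agent.S16211

/-- Let R be a commutative ring, O a formally smooth R-algebra and G a finite group whose order is
invertible in R, acting on O by R-algebra automorphisms. Then the largest quotient algebra of O on
which G acts trivially, namely the quotient of O by the ideal generated by all g • f - f (the
coordinate ring of the subscheme of G-fixed points of Spec O), is again formally smooth over R: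
invariant homomorphisms lift along square-zero extensions. The published statement is about a scheme
X smooth and of finite presentation over the base and concludes that its fixed-point scheme is
smooth; this row, the affine step of its proof, assumes only that O is formally smooth over R and
concludes only formal smoothness. -/
theorem result (R : Type u) [CommRing R]
    (O : Type u) [CommRing O] [Algebra R O] [Algebra.FormallySmooth R O]
    (G : Type v) [Group G] [Finite G] [MulSemiringAction G O] [SMulCommClass G R O]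
    (hG : IsUnit (Nat.card G : R)) :
    Algebra.FormallySmooth R (O ⧸ Ideal.span {x : O | ∃ (g : G) (f : O), x = g • f - f}) := by
  classical
  haveI : Fintype G := Fintype.ofFinite G
  generalize hJ : Ideal.span {x : O | ∃ (g : G) (f : O), x = g • f - f} = J
  apply Algebra.FormallySmooth.of_comp_surjective
  intro B _ _ I hI φbar
  obtain ⟨ψ₀, hψ₀⟩ := Algebra.FormallySmooth.comp_surjective R O I hI
    (φbar.comp (Ideal.Quotient.mkₐ R J))
  have hψ₀' : ∀ z : O, Ideal.Quotient.mk I (ψ₀ z) = φbar (Ideal.Quotient.mk J z) :=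
    fun z => AlgHom.congr_fun hψ₀ z
  have hzero : ∀ a b : B, a ∈ I → b ∈ I → a * b = 0 := by
    intro a b ha hb
    have h1 : a * b ∈ I ^ 2 := by
      rw [pow_two]
      exact Ideal.mul_mem_mul ha hb
    rw [hI] at h1
    exact h1
  have hJmem : ∀ (g : G) (x : O), Ideal.Quotient.mk J (g • x) = Ideal.Quotient.mk J x := by
    intro g x
    rw [Ideal.Quotient.eq, ← hJ]
    exact Ideal.subset_span ⟨g, x, rfl⟩
  have hδ : ∀ (g : G) (x : O), ψ₀ (g • x) - ψ₀ x ∈ I := by
    intro g x
    rw [← Ideal.Quotient.eq, hψ₀', hψ₀', hJmem]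
  obtain ⟨u, hu⟩ := hG.exists_left_inv
  have hUN : algebraMap R B u * (Fintype.card G : B) = 1 := by
    rw [← map_natCast (algebraMap R B), ← map_mul, ← Nat.card_eq_fintype_card, hu, map_one]
  let L : O →ₗ[R] B := u • ∑ g : G, (ψ₀.comp (MulSemiringAction.toAlgHom R O g)).toLinearMap
  have hL : ∀ x : O, L x = algebraMap R B u * ∑ g : G, ψ₀ (g • x) := by
    intro x
    simp [L, Algebra.smul_def]
  have hD : ∀ x : O, ∑ g : G, (ψ₀ (g • x) - ψ₀ x) ∈ I :=
    fun x => I.sum_mem fun g _ => hδ g x
  have hS : ∀ x : O, ∑ g : G, ψ₀ (g • x) =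
      (Fintype.card G : B) * ψ₀ x + ∑ g : G, (ψ₀ (g • x) - ψ₀ x) := by
    intro x
    rw [Finset.sum_sub_distrib, Finset.sum_const, Finset.card_univ, nsmul_eq_mul]
    ring
  have hSmul : ∀ x y : O, ∑ g : G, ψ₀ (g • (x * y)) =
      (Fintype.card G : B) * (ψ₀ x * ψ₀ y) + ψ₀ x * ∑ g : G, (ψ₀ (g • y) - ψ₀ y) +
        (∑ g : G, (ψ₀ (g • x) - ψ₀ x)) * ψ₀ y := by
    intro x y
    have hterm : ∀ g : G, ψ₀ (g • (x * y)) = ψ₀ x * ψ₀ y + ψ₀ x * (ψ₀ (g • y) - ψ₀ y) +
        (ψ₀ (g • x) - ψ₀ x) * ψ₀ y := by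
      intro g
      have h0 := hzero _ _ (hδ g x) (hδ g y)
      rw [smul_mul', map_mul]
      linear_combination h0
    rw [Finset.sum_congr rfl (fun g _ => hterm g), Finset.sum_add_distrib,
      Finset.sum_add_distrib, Finset.sum_const, Finset.card_univ, nsmul_eq_mul,
      ← Finset.mul_sum, ← Finset.sum_mul]
  have h1 : L 1 = 1 := by
    rw [hL]
    simp only [smul_one, map_one, Finset.sum_const, Finset.card_univ, nsmul_eq_mul, mul_one]
    exact hUN
  have hmul : ∀ x y : O, L (x * y) = L x * L y := by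
    intro x y
    rw [hL, hL, hL, hSmul, hS x, hS y]
    have hDD := hzero _ _ (hD x) (hD y)
    linear_combination
      (-(algebraMap R B u * (Fintype.card G : B) * ψ₀ x * ψ₀ y)
        - algebraMap R B u * ψ₀ x * ∑ g : G, (ψ₀ (g • y) - ψ₀ y)
        - algebraMap R B u * (∑ g : G, (ψ₀ (g • x) - ψ₀ x)) * ψ₀ y) * hUN
      - (algebraMap R B u) ^ 2 * hDD
  let ψ : O →ₐ[R] B := AlgHom.ofLinearMap L h1 hmul
  have hψL : ∀ x : O, ψ x = L x := fun x => rfl
  have hinv : ∀ (g : G) (x : O), ∑ h : G, ψ₀ (h • g • x) = ∑ h : G, ψ₀ (h • x) := by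
    intro g x
    simp only [← mul_smul]
    exact Equiv.sum_comp (Equiv.mulRight g) (fun h => ψ₀ (h • x))
  have hker : ∀ a ∈ J, ψ a = 0 := by
    have hle : J ≤ RingHom.ker ψ.toRingHom := by
      rw [← hJ, Ideal.span_le]
      rintro _ ⟨g, f, rfl⟩
      show ψ (g • f - f) = 0
      rw [map_sub, hψL, hψL, hL, hL, hinv, sub_self]
    intro a ha
    exact hle ha
  refine ⟨Ideal.Quotient.liftₐ J ψ hker, ?_⟩
  apply Ideal.Quotient.algHom_ext
  refine AlgHom.ext fun x => ?_
  show Ideal.Quotient.mk I (L x) = φbar (Ideal.Quotient.mk J x)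
  rw [← hψ₀', Ideal.Quotient.eq, hL, hS x]
  have hrew : algebraMap R B u * ((Fintype.card G : B) * ψ₀ x + ∑ g : G, (ψ₀ (g • x) - ψ₀ x)) -
      ψ₀ x = algebraMap R B u * ∑ g : G, (ψ₀ (g • x) - ψ₀ x) := by
    linear_combination ψ₀ x * hUN
  rw [hrew]
  exact I.mul_mem_left _ (hD x)

end Groth.Agent.S16211
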