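import Groth.Statements.S16220
import Mathlib
-- import your own Groth.Agent.* helpers here

set_option autoImplicit false
universe u v
open Disp

namespace Groth.Agent.S16220


theorem K0 (p : ℕ) [Fact p.Prime] (k : Type u) [CommRing k] [CharP k p] [PerfectRing k p] (n : ℕ) (hn : 2 ≤ n)
    (c : WittVector p k ⧸ Ideal.span {(p : WittVector p k) ^ n})
    (hc : Ideal.Quotient.mk _ (p : WittVector p k) * c = 0) :
    ∃ d, c = Ideal.Quotient.mk _ (p : WittVector p k) * d := by
  obtain ⟨w, rfl⟩ := Ideal.Quotient.mk_surjective c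
  rw [← map_mul, Ideal.Quotient.eq_zero_iff_mem, Ideal.mem_span_singleton] at hc
  obtain ⟨u, hu⟩ := hc
  have h1 : (w - (p : WittVector p k) ^ (n - 1) * u) * (p : WittVector p k) = 0 := by
    have : (p : WittVector p k) ^ n = (p : WittVector p k) ^ (n - 1) * p := by
      rw [← pow_succ]; congr 1; omega
    rw [sub_mul, mul_comm w, hu, this]; ring
  have h2 := WittVector.eq_zero_of_p_mul_eq_zero _ h1
  refine ⟨Ideal.Quotient.mk _ ((p : WittVector p k) ^ (n - 2) * u), ?_⟩
  rw [← map_mul]
  congr 1
  rw [sub_eq_zero] at h2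
  rw [h2]
  have : (p : WittVector p k) ^ (n - 1) = p * (p : WittVector p k) ^ (n - 2) := by
    rw [← pow_succ']; congr 1; omega
  rw [this]; ring

theorem K (p : ℕ) [Fact p.Prime] (k : Type u) [CommRing k] [CharP k p] [PerfectRing k p] (n : ℕ) (hn : 2 ≤ n)
    (M : Type v) [AddCommGroup M] [Module (WittVector p k) M]
    [Module (WittVector p k ⧸ Ideal.span {(p : WittVector p k) ^ n}) M]
    [IsScalarTower (WittVector p k) (WittVector p k ⧸ Ideal.span {(p : WittVector p k) ^ n}) M]
    [Module.Projective (WittVector p k ⧸ Ideal.span {(p : WittVector p k) ^ n}) M]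
    (z : M) (hz : (p : WittVector p k) • z = 0) : ∃ m : M, z = (p : WittVector p k) • m := by
  obtain ⟨s, hs⟩ := Module.projective_def'.1
    (inferInstance : Module.Projective (WittVector p k ⧸ Ideal.span {(p : WittVector p k) ^ n}) M)
  have hsm : ∀ (w : WittVector p k) (x : M), w • x =
      (Ideal.Quotient.mk (Ideal.span {(p : WittVector p k) ^ n}) w) • x := by
    intro w x
    rw [← Ideal.Quotient.algebraMap_eq, algebraMap_smul]
  have h1 : (Ideal.Quotient.mk (Ideal.span {(p : WittVector p k) ^ n}) (p : WittVector p k)) • s z = 0 := by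
    rw [← map_smul, ← hsm, hz, map_zero]
  have h2 : ∀ m : M, ∃ d : WittVector p k ⧸ Ideal.span {(p : WittVector p k) ^ n},
      (s z) m = Ideal.Quotient.mk _ (p : WittVector p k) * d := by
    intro m
    apply K0 p k n hn
    have := DFunLike.congr_fun h1 m
    simpa using this
  choose d hd using h2
  refine ⟨∑ m ∈ (s z).support, d m • m, ?_⟩
  have h3 : z = Finsupp.linearCombination _ id (s z) := by
    have := LinearMap.congr_fun hs z
    simpa using this.symm
  conv_lhs => rw [h3]
  rw [Finsupp.linearCombination_apply, Finsupp.sum, hsm, Finset.smul_sum]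
  refine Finset.sum_congr rfl fun m _ => ?_
  rw [hd m, mul_smul]; rfl

theorem half {W : Type*} [CommRing W] {M : Type*} [AddCommGroup M] [Module W M] (π : W)
    {σ τ : W →+* W} (hσ : σ π = π) (hτ : τ π = π)
    (F : M →ₛₗ[σ] M) (V : M →ₛₗ[τ] M)
    (hFV : ∀ m, F (V m) = π • m) (hVF : ∀ m, V (F m) = π • m)
    (hK : ∀ z : M, π • z = 0 → ∃ m, z = π • m) :
    (Ideal.span {π} • (⊤ : Submodule W M)).comap F =
      Submodule.span W (Set.range V) ⊔ Ideal.span {π} • (⊤ : Submodule W M) := by
  have hmem : ∀ x : M, x ∈ Ideal.span {π} • (⊤ : Submodule W M) ↔ ∃ m, x = π • m := by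
    intro x
    rw [Submodule.ideal_span_singleton_smul, Submodule.mem_smul_pointwise_iff_exists]
    constructor
    · rintro ⟨m, -, rfl⟩; exact ⟨m, rfl⟩
    · rintro ⟨m, rfl⟩; exact ⟨m, trivial, rfl⟩
  ext x
  rw [Submodule.mem_comap, hmem]
  constructor
  · rintro ⟨y, hy⟩
    have h1 : π • (x - V y) = 0 := by
      rw [smul_sub, ← hVF x, hy, map_smulₛₗ, hτ, sub_self]
    obtain ⟨m, hm⟩ := hK _ h1
    have : x = V y + π • m := by rw [← hm]; abel
    rw [this]
    exact Submodule.add_mem_sup (Submodule.subset_span ⟨y, rfl⟩) ((hmem _).2 ⟨m, rfl⟩)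
  · intro hx
    rw [Submodule.mem_sup] at hx
    obtain ⟨a, ha, b, hb, rfl⟩ := hx
    have h1 : ∃ m, F a = π • m := by
      induction ha using Submodule.span_induction with
      | mem a h => obtain ⟨m, rfl⟩ := h; exact ⟨m, hFV m⟩
      | zero => exact ⟨0, by simp⟩
      | add a b _ _ ha hb =>
        obtain ⟨m1, h1⟩ := ha; obtain ⟨m2, h2⟩ := hb
        exact ⟨m1 + m2, by rw [map_add, h1, h2, smul_add]⟩
      | smul w a _ ha =>
        obtain ⟨m1, h1⟩ := ha
        exact ⟨σ w • m1, by rw [map_smulₛₗ, h1, smul_comm]⟩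
    obtain ⟨m1, h1⟩ := h1
    obtain ⟨m2, rfl⟩ := (hmem b).1 hb
    exact ⟨m1 + F m2, by rw [map_add, h1, map_smulₛₗ, hσ, smul_add]⟩

/-- Let p be a prime and k a perfect ring of characteristic p, so that the Frobenius σ of W = W(k) is
bijective, W has no p-torsion and W/p^n W = W_n(k) (the ideal p^n W is the kernel of the truncation
to length n). Let n ≥ 2 and let M be a truncated Dieudonné module of level n over k: a W-module on
which W acts through W/p^n W, finitely generated and projective over W/p^n W, with a σ-semilinear F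
: M → M and a σ⁻¹-semilinear V : M → M such that FV = VF = p. Then on M/pM the kernel of F is the
image of V and the kernel of V is the image of F; stated inside M: the preimage of pM under F is VM
+ pM, and the preimage of pM under V is FM + pM. -/
theorem result (p : ℕ) [Fact p.Prime] (k : Type u) [CommRing k]
    [CharP k p] [PerfectRing k p] (n : ℕ) (hn : 2 ≤ n)
    (M : Type v) [AddCommGroup M] [Module (WittVector p k) M]
    [Module (WittVector p k ⧸ Ideal.span {(p : WittVector p k) ^ n}) M] [IsScalarTower (WittVector p k) (WittVector p k ⧸ Ideal.span {(p : WittVector p k) ^ n}) M]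
    [Module.Finite (WittVector p k ⧸ Ideal.span {(p : WittVector p k) ^ n}) M] [Module.Projective (WittVector p k ⧸ Ideal.span {(p : WittVector p k) ^ n}) M]
    (F : M →ₛₗ[(WittVector.frobenius : WittVector p k →+* WittVector p k)] M)
    (V : M →ₛₗ[((WittVector.frobeniusEquiv p k).symm : WittVector p k →+* WittVector p k)] M)
    (hFV : ∀ m : M, F (V m) = (p : WittVector p k) • m) (hVF : ∀ m : M, V (F m) = (p : WittVector p k) • m) :
    (Ideal.span {(p : WittVector p k)} • (⊤ : Submodule (WittVector p k) M)).comap F =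
        Submodule.span (WittVector p k) (Set.range V) ⊔ Ideal.span {(p : WittVector p k)} • (⊤ : Submodule (WittVector p k) M) ∧
      (Ideal.span {(p : WittVector p k)} • (⊤ : Submodule (WittVector p k) M)).comap V =
        Submodule.span (WittVector p k) (Set.range F) ⊔ Ideal.span {(p : WittVector p k)} • (⊤ : Submodule (WittVector p k) M) := by
  have hσ : (WittVector.frobenius : WittVector p k →+* WittVector p k) (p : WittVector p k) = p :=
    map_natCast _ p
  have hτ : ((WittVector.frobeniusEquiv p k).symm : WittVector p k →+* WittVector p k) (p : WittVector p k) = p :=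
    map_natCast _ p
  exact ⟨half (p : WittVector p k) hσ hτ F V hFV hVF (K p k n hn M),
    half (p : WittVector p k) hτ hσ V F hVF hFV (K p k n hn M)⟩

end Groth.Agent.S16220
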