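import Groth.Statements.S16226
import Groth.Agent.H28.TorsRed

set_option autoImplicit false
universe u
open CategoryTheory MonoidalCategory CartesianMonoidalCategory MonObj AlgebraicGeometry
open PrincBund

namespace Groth.Agent.S16226


section general

open CategoryTheory.Limits Groth.Agent.H28

variable {S : Scheme.{u}} {G F Q : Over S} [GrpObj G] (aG : AlgGrp.Action G F) (π : F ⟶ Q)
  (hsq : IsPullback aG.act (snd G F) π π) (σ : 𝟙_ (Over S) ⟶ Q)

omit [GrpObj G] in
lemma fibre_cond : pullback.fst π σ ≫ π = toUnit (pullback π σ) ≫ σ := by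
  rw [pullback.condition]
  congr 1
  exact toUnit_unique _ _

omit [GrpObj G] in
lemma fibre_sq : IsPullback (pullback.fst π σ) (toUnit (pullback π σ)) π σ := by
  have h := IsPullback.of_hasPullback π σ
  have h2 : pullback.snd π σ = toUnit (pullback π σ) := toUnit_unique _ _
  rwa [h2] at h

include hsq in
lemma act_cond : ((G ◁ pullback.fst π σ) ≫ aG.act) ≫ π = toUnit (G ⊗ pullback π σ) ≫ σ := by
  rw [Category.assoc, hsq.w, ← Category.assoc, whiskerLeft_snd, Category.assoc, fibre_cond,
    ← Category.assoc]
  congr 1
  exact toUnit_unique _ _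

/-- the induced action on the fibre -/
noncomputable def actE : G ⊗ pullback π σ ⟶ pullback π σ :=
  pullback.lift ((G ◁ pullback.fst π σ) ≫ aG.act) (toUnit _) (act_cond aG π hsq σ)

lemma actE_fst : actE aG π hsq σ ≫ pullback.fst π σ = (G ◁ pullback.fst π σ) ≫ aG.act :=
  pullback.lift_fst _ _ _

noncomputable def actionE : AlgGrp.Action G (pullback π σ) where
  act := actE aG π hsq σ
  one_act := by
    have hmono : Mono σ := TorsRed.mono_pt σ
    rw [← cancel_mono (pullback.fst π σ), Category.assoc, actE_fst, ← whisker_exchange_assoc,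
      aG.one_act, leftUnitor_naturality]
  mul_act := by
    have hmono : Mono σ := TorsRed.mono_pt σ
    rw [← cancel_mono (pullback.fst π σ)]
    have hL : ((μ[G] ▷ pullback π σ) ≫ actE aG π hsq σ) ≫ pullback.fst π σ =
        (α_ G G (pullback π σ)).hom ≫ (G ◁ G ◁ pullback.fst π σ) ≫ (G ◁ aG.act) ≫ aG.act := by
      rw [Category.assoc, actE_fst, ← whisker_exchange_assoc, aG.mul_act,
        associator_naturality_right_assoc]
    have hR : ((α_ G G (pullback π σ)).hom ≫ (G ◁ actE aG π hsq σ) ≫ actE aG π hsq σ) ≫
        pullback.fst π σ =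
        (α_ G G (pullback π σ)).hom ≫ (G ◁ G ◁ pullback.fst π σ) ≫ (G ◁ aG.act) ≫ aG.act := by
      rw [Category.assoc, Category.assoc, actE_fst, ← MonoidalCategory.whiskerLeft_comp_assoc,
        actE_fst, MonoidalCategory.whiskerLeft_comp, Category.assoc]
    rw [hL, hR]

lemma pseudoTorsor : IsIso (lift (actE aG π hsq σ) (snd G (pullback π σ))) := by
  have hmono : Mono σ := TorsRed.mono_pt σ
  have hd : (fst (pullback π σ) (pullback π σ) ≫ pullback.fst π σ) ≫ π =
      (snd (pullback π σ) (pullback π σ) ≫ pullback.fst π σ) ≫ π := by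
    rw [Category.assoc, Category.assoc, fibre_cond, ← Category.assoc, ← Category.assoc]
    congr 1
    exact toUnit_unique _ _
  have d1 := hsq.lift_fst _ _ hd
  have d2 := hsq.lift_snd _ _ hd
  generalize hsq.lift _ _ hd = d at d1 d2
  have hdeta : d = lift (d ≫ fst G F) (snd (pullback π σ) (pullback π σ) ≫ pullback.fst π σ) := by
    apply CartesianMonoidalCategory.hom_ext
    · rw [lift_fst]
    · rw [lift_snd, d2]
  refine ⟨⟨lift (d ≫ fst G F) (snd (pullback π σ) (pullback π σ)), ?_, ?_⟩⟩
  · -- hom ≫ inv = 𝟙
    have hm : lift (actE aG π hsq σ) (snd G (pullback π σ)) ≫ d = G ◁ pullback.fst π σ := by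
      apply hsq.hom_ext
      · rw [Category.assoc, d1, ← Category.assoc, lift_fst, actE_fst]
      · rw [Category.assoc, d2, ← Category.assoc, lift_snd, whiskerLeft_snd]
    apply CartesianMonoidalCategory.hom_ext
    · rw [Category.assoc, lift_fst, ← Category.assoc, hm, whiskerLeft_fst, Category.id_comp]
    · rw [Category.assoc, lift_snd, lift_snd, Category.id_comp]
  · -- inv ≫ hom = 𝟙
    apply CartesianMonoidalCategory.hom_ext
    · rw [Category.assoc, lift_fst, Category.id_comp, ← cancel_mono (pullback.fst π σ),
        Category.assoc, actE_fst, ← Category.assoc, lift_whiskerLeft, ← hdeta, d1]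
    · rw [Category.assoc, lift_snd, lift_snd, Category.id_comp]

omit [GrpObj G] in
lemma locTriv (K : Precoverage Scheme.{u}) [Precoverage.IsStableUnderBaseChange K]
    (hloc : NonAbH1.IsLocallyTrivialFor K (Over.mk π.left : Over Q.left)) :
    NonAbH1.IsLocallyTrivialFor K (pullback π σ) := by
  obtain ⟨R, hR, hsec⟩ := hloc
  let σ' : S ⟶ Q.left := σ.left
  refine ⟨R.pullbackArrows σ', Precoverage.pullbackArrows_mem σ' hR, ?_⟩
  rintro S' f ⟨Z, h, hRh⟩
  obtain ⟨s, hs⟩ := hsec h hRh
  have hs' : s ≫ π.left = h := hs
  have sq : IsPullback (pullback.fst π σ).left (toUnit (pullback π σ)).left π.left σ.left :=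
    (fibre_sq π σ).map (Over.forget S)
  have hc : (pullback.fst h σ' ≫ s) ≫ π.left = pullback.snd h σ' ≫ σ.left := by
    rw [Category.assoc, hs']
    exact pullback.condition
  refine ⟨sq.lift (pullback.fst h σ' ≫ s) (pullback.snd h σ') hc, ?_⟩
  rw [← TorsRed.toUnit_left]
  exact sq.lift_snd _ _ hc

end general

/-- Let i : G → H be a homomorphism of group schemes over a base scheme S which is a closed immersion, F
an H-torsor over S for the etale topology with action aF, and π : F → Q a morphism of S-schemes
exhibiting Q as the quotient F/G, in the sense that the square formed by the restricted action G ×_S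
F → F, the projection G ×_S F → F and π twice is cartesian and π acquires sections etale-locally on
Q. Then for every section σ of Q over S there are a G-torsor E over S for the etale topology and an
i-equivariant morphism φ : E → F over S such that the square (φ, E → S; π, σ) is cartesian; that is,
σ comes from a reduction of the structure group of F to G. (Stated over an arbitrary base scheme and
for arbitrary group schemes; the quotient F/G is taken as data through its torsor property rather
than constructed.) -/
theorem result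
    {S : Scheme.{u}} {G H F Q : Over S} [GrpObj G] [GrpObj H]
    (i : G ⟶ H) [IsMonHom i] [IsClosedImmersion i.left]
    (aF : AlgGrp.Action H F) (hF : NonAbH1.IsTorsorFor Scheme.etalePrecoverage aF)
    (π : F ⟶ Q)
    (hsq : IsPullback (aF.restrict i).act (snd G F) π π)
    (hloc : NonAbH1.IsLocallyTrivialFor Scheme.etalePrecoverage (Over.mk π.left : Over Q.left))
    (σ : 𝟙_ (Over S) ⟶ Q) :
    ∃ (E : Over S) (aE : AlgGrp.Action G E) (φ : E ⟶ F),
      NonAbH1.IsTorsorFor Scheme.etalePrecoverage aE ∧
      AlgGrp.Action.IsEquivariant aE (aF.restrict i) φ ∧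
      IsPullback φ (toUnit E) π σ := by
  have hK : Precoverage.IsStableUnderBaseChange Scheme.etalePrecoverage.{u} := by
    unfold Scheme.etalePrecoverage
    infer_instance
  refine ⟨Limits.pullback π σ, actionE (aF.restrict i) π hsq σ, Limits.pullback.fst π σ,
    ⟨pseudoTorsor (aF.restrict i) π hsq σ, locTriv π σ Scheme.etalePrecoverage hloc⟩, ?_,
    fibre_sq π σ⟩
  exact actE_fst (aF.restrict i) π hsq σ

end Groth.Agent.S16226
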