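import Groth.Statements.S16227
import Groth.Agent.H28.TorsRed
import Groth.Agent.S8039

set_option autoImplicit false
universe u
open CategoryTheory MonoidalCategory CartesianMonoidalCategory MonObj AlgebraicGeometry
open PrincBund

namespace Groth.Agent.S16227


section general

open CategoryTheory.Limits Groth.Agent.H28

variable {S : Scheme.{u}} {G F Q E : Over S} [GrpObj G] (aG : AlgGrp.Action G F) (π : F ⟶ Q)
  (hsq : IsPullback aG.act (snd G F) π π)
  (aE : AlgGrp.Action G E) (hps : IsIso (lift aE.act (snd G E)))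
  (φ : E ⟶ F) (hφ : aE.act ≫ φ = (G ◁ φ) ≫ aG.act)

include hφ in
lemma lift_act_phi {T : Over S} (g : T ⟶ G) (e : T ⟶ E) :
    (lift g e ≫ aE.act) ≫ φ = lift g (e ≫ φ) ≫ aG.act := by
  rw [Category.assoc, hφ, ← Category.assoc, lift_whiskerLeft]

include hsq in
lemma act_pi {T : Over S} (g : T ⟶ G) (f : T ⟶ F) : (lift g f ≫ aG.act) ≫ π = f ≫ π := by
  rw [Category.assoc, hsq.w, ← Category.assoc, lift_snd]

include hsq hps hφ in
/-- `φ` is a monomorphism on points -/
lemma phi_inj {T : Over S} (e₁ e₂ : T ⟶ E) (h : e₁ ≫ φ = e₂ ≫ φ) : e₁ = e₂ := by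
  obtain ⟨g, hg⟩ := Groth.Agent.S8039.torsor_exists aE hps e₁ e₂
  have h1 : lift g (e₂ ≫ φ) ≫ aG.act = lift (1 : T ⟶ G) (e₂ ≫ φ) ≫ aG.act := by
    rw [← lift_act_phi aG aE φ hφ, hg, h, ActShear.lift_one_act]
  have h2 : lift g (e₂ ≫ φ) = lift (1 : T ⟶ G) (e₂ ≫ φ) := by
    apply hsq.hom_ext
    · exact h1
    · rw [lift_snd, lift_snd]
  have h3 : g = 1 := by
    have := congrArg (fun w => w ≫ fst G F) h2
    simpa using this
  rw [← hg, h3, ActShear.lift_one_act]

include hsq hps hφ in
lemma comp_pi_const {T : Over S} (g₁ g₂ : T ⟶ E) : g₁ ≫ φ ≫ π = g₂ ≫ φ ≫ π := by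
  obtain ⟨g, hg⟩ := Groth.Agent.S8039.torsor_exists aE hps g₁ g₂
  rw [← hg, ← Category.assoc, lift_act_phi aG aE φ hφ, act_pi aG π hsq, Category.assoc]

end general

/-- Let i : G → H be a homomorphism of group schemes over a base scheme S which is a closed immersion, F
an H-torsor over S for the etale topology with action aF, and π : F → Q a morphism of S-schemes
exhibiting Q as the quotient F/G, in the sense that the square formed by the restricted action G ×_S
F → F, the projection G ×_S F → F and π twice is cartesian and π acquires sections etale-locally on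
Q. Then a reduction of the structure group of F to G, namely a G-torsor E over S for the etale
topology together with an i-equivariant morphism φ : E → F over S, determines a unique section σ of
Q over S such that the composite E → S → Q equals φ followed by π, and for this σ the square (φ, E →
S; π, σ) is cartesian, so that E is recovered as the pullback of F along σ. (Stated over an
arbitrary base scheme and for arbitrary group schemes; the quotient F/G is taken as data through its
torsor property rather than constructed.) -/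
theorem result
    {S : Scheme.{u}} {G H F Q : Over S} [GrpObj G] [GrpObj H]
    (i : G ⟶ H) [IsMonHom i] [IsClosedImmersion i.left]
    (aF : AlgGrp.Action H F) (hF : NonAbH1.IsTorsorFor Scheme.etalePrecoverage aF)
    (π : F ⟶ Q)
    (hsq : IsPullback (aF.restrict i).act (snd G F) π π)
    (hloc : NonAbH1.IsLocallyTrivialFor Scheme.etalePrecoverage (Over.mk π.left : Over Q.left))
    {E : Over S} (aE : AlgGrp.Action G E) (hE : NonAbH1.IsTorsorFor Scheme.etalePrecoverage aE)
    (φ : E ⟶ F) (hφ : AlgGrp.Action.IsEquivariant aE (aF.restrict i) φ) :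
    (∃! σ : 𝟙_ (Over S) ⟶ Q, toUnit E ≫ σ = φ ≫ π) ∧
      ∀ σ : 𝟙_ (Over S) ⟶ Q, toUnit E ≫ σ = φ ≫ π → IsPullback φ (toUnit E) π σ := by
  obtain ⟨hps, hlocE⟩ := hE
  have hφ' : aE.act ≫ φ = (G ◁ φ) ≫ (aF.restrict i).act := hφ
  have hcovE : Groth.Agent.H28.FpqcCov.Cov (toUnit E).left := by
    rw [Groth.Agent.H28.TorsRed.toUnit_left]
    exact Groth.Agent.H28.TorsRed.cov_of_locTriv E _ Groth.Agent.H28.TorsRed.etale_le_fpqc hlocE
  have hepiE : Epi (toUnit E) := Groth.Agent.H28.FpqcCov.epi_of_cov _ hcovE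
  refine ⟨?_, ?_⟩
  · obtain ⟨σ, hσ⟩ := Groth.Agent.H28.FpqcCov.desc_of_cov (toUnit E) hcovE (φ ≫ π)
      (fun T g₁ g₂ _ => comp_pi_const (aF.restrict i) π hsq aE hps φ hφ' g₁ g₂)
    refine ⟨σ, hσ, ?_⟩
    intro σ' hσ'
    rw [← cancel_epi (toUnit E), hσ', hσ]
  · intro σ hσ
    refine Groth.Agent.H28.TorsRed.isPullback_of_existsUnique hσ.symm ?_
    intro T f t hft
    -- local point of E over T
    have hcovc : Groth.Agent.H28.FpqcCov.Cov (fst T E).left := by
      rw [Over.fst_left]
      have hc : Groth.Agent.H28.FpqcCov.Cov E.hom := by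
        rw [← Groth.Agent.H28.TorsRed.toUnit_left]; exact hcovE
      exact Groth.Agent.H28.FpqcCov.Cov.of_isPullback
        (IsPullback.of_hasPullback T.hom E.hom).flip hc
    have hepic : Epi (fst T E) := Groth.Agent.H28.FpqcCov.epi_of_cov _ hcovc
    have hd : (fst T E ≫ f) ≫ π = (snd T E ≫ φ) ≫ π := by
      rw [Category.assoc, hft, Category.assoc, ← hσ, ← Category.assoc, ← Category.assoc]
      congr 1
      exact toUnit_unique _ _
    have d1 := hsq.lift_fst _ _ hd
    have d2 := hsq.lift_snd _ _ hd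
    generalize hsq.lift _ _ hd = d at d1 d2
    have hdeta : d = lift (d ≫ fst G F) (snd T E ≫ φ) := by
      apply CartesianMonoidalCategory.hom_ext
      · rw [lift_fst]
      · rw [lift_snd, d2]
    obtain ⟨e', he'def⟩ : ∃ e' : T ⊗ E ⟶ E, e' = lift (d ≫ fst G F) (snd T E) ≫ aE.act := ⟨_, rfl⟩
    have he' : e' ≫ φ = fst T E ≫ f := by
      rw [he'def, lift_act_phi (aF.restrict i) aE φ hφ', ← hdeta, d1]
    obtain ⟨e, he⟩ := Groth.Agent.H28.FpqcCov.desc_of_cov (fst T E) hcovc e'
      (fun T'' u₁ u₂ hu => phi_inj (aF.restrict i) π hsq aE hps φ hφ' _ _ (by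
        rw [Category.assoc, Category.assoc, he', ← Category.assoc, ← Category.assoc, hu]))
    have hef : e ≫ φ = f := by
      rw [← cancel_epi (fst T E), ← Category.assoc, he, he']
    refine ⟨e, ⟨hef, toUnit_unique _ _⟩, ?_⟩
    rintro m ⟨hm, -⟩
    exact phi_inj (aF.restrict i) π hsq aE hps φ hφ' m e (hm.trans hef.symm)

end Groth.Agent.S16227
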