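import Groth.Statements.S16235
import Mathlib

set_option autoImplicit false
universe u
open CAlg

namespace Groth.Agent.S16235

/-- Let A be a Noetherian commutative ring and x_1, …, x_r a regular sequence on A (each x_i a
non-zero-divisor on A/(x_1, …, x_{i-1})) generating an ideal I ≠ A. Then the height of I, the
infimum of the heights of the minimal primes over I, equals r. -/
theorem result (A : Type u) [CommRing A] [IsNoetherianRing A]
    (r : ℕ) (x : Fin r → A) (hx : RingTheory.Sequence.IsWeaklyRegular A (List.ofFn x))
    (hI : Ideal.span (Set.range x) ≠ ⊤) :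
    (Ideal.span (Set.range x)).height = r := by
  classical
  apply le_antisymm
  · obtain ⟨p, hp⟩ := Ideal.nonempty_minimalPrimes hI
    rw [Ideal.height_eq_inf_minimalPrimes]
    refine (iInf₂_le p hp).trans ?_
    have h1 : p ∈ (Ideal.span ((Finset.univ.image x : Finset A) : Set A)).minimalPrimes := by
      simpa [Finset.coe_image] using hp
    refine (Ideal.height_le_card_of_mem_minimalPrimes_span_finset h1).trans ?_
    have h2 : (Finset.univ.image x).card ≤ r := by
      simpa using Finset.card_image_le (s := (Finset.univ : Finset (Fin r))) (f := x)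
    exact_mod_cast h2
  · rw [Ideal.height_eq_inf_minimalPrimes]
    refine le_iInf₂ fun p hp => ?_
    haveI : p.IsPrime := hp.1.1
    have hmem : ∀ a ∈ List.ofFn x, a ∈ p := by
      intro a ha
      obtain ⟨i, rfl⟩ := (List.mem_ofFn' x a).mp ha
      exact hp.1.2 (Ideal.subset_span ⟨i, rfl⟩)
    have reg := hx.isRegular_of_isLocalization_of_mem (Localization.AtPrime p) p hmem
    have hdim := ringKrullDim_add_length_eq_ringKrullDim_of_isRegular _ reg
    rw [IsLocalization.AtPrime.ringKrullDim_eq_height p (Localization.AtPrime p)] at hdim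
    simp only [List.length_map, List.length_ofFn] at hdim
    haveI : Nontrivial (Localization.AtPrime p ⧸
        Ideal.ofList ((List.ofFn x).map (algebraMap A (Localization.AtPrime p)))) := by
      apply Ideal.Quotient.nontrivial_iff.mpr
      intro h
      apply reg.2
      rw [h]
      simp
    have h0 : (0 : WithBot ℕ∞) ≤ ringKrullDim (Localization.AtPrime p ⧸
        Ideal.ofList ((List.ofFn x).map (algebraMap A (Localization.AtPrime p)))) :=
      ringKrullDim_nonneg_of_nontrivial
    have h3 : ((r : ℕ∞) : WithBot ℕ∞) ≤ (p.height : WithBot ℕ∞) := by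
      rw [← hdim]
      calc ((r : ℕ∞) : WithBot ℕ∞) = 0 + ((r : ℕ) : WithBot ℕ∞) := by simp
        _ ≤ _ := by gcongr
    exact_mod_cast h3

end Groth.Agent.S16235
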