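import Groth.Statements.S16238
import Mathlib
import Mathlib
import Groth.Agent.H19.RegTor
import Groth.Agent.S3527

set_option autoImplicit false
universe u
open CategoryTheory
open CAlg

namespace Groth.Agent.S16238

open CategoryTheory TensorProduct RingTheory.Sequence in
theorem ofList_ofFn {A : Type u} [CommRing A] (n : ℕ) (x : Fin n → A) :
    Ideal.ofList (List.ofFn x) = Ideal.span (Set.range x) := by
  unfold Ideal.ofList
  congr 1
  ext r
  simp [List.mem_ofFn]

open CategoryTheory TensorProduct RingTheory.Sequence in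
theorem reg_iff {A : Type u} [CommRing A] (n : ℕ) (x : Fin n → A) (J : Ideal A) :
    IsWeaklyRegular (A ⧸ J) (List.ofFn (fun i : Fin n => Ideal.Quotient.mk J (x i))) ↔
      IsWeaklyRegular (A ⊗[A] (A ⧸ J)) (List.ofFn x) := by
  have h1 : List.ofFn (fun i : Fin n => Ideal.Quotient.mk J (x i)) =
      (List.ofFn x).map (algebraMap A (A ⧸ J)) := by
    rw [List.map_ofFn]; rfl
  rw [h1, isWeaklyRegular_map_algebraMap_iff (A ⧸ J) (A ⧸ J) (List.ofFn x)]
  exact ((TensorProduct.lid A (A ⧸ J)).isWeaklyRegular_congr (List.ofFn x)).symm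

open CategoryTheory TensorProduct RingTheory.Sequence in
noncomputable def quotEquiv {A : Type u} [CommRing A] (I : Ideal A) :
    (A ⧸ (I • ⊤ : Submodule A A)) ≃ₗ[A] (A ⧸ I) :=
  Submodule.quotEquivOfEq _ _ (by simp)

/-- Let A be a Noetherian local ring, x_1, …, x_n a regular sequence on A (each x_i a non-zero-divisor
on A/(x_1, …, x_{i-1})) generating the ideal I, and J an ideal with I + J ≠ A. Then the images of
x_1, …, x_n form a regular sequence on A/J if and only if Tor_i^A(A/I, A/J) = 0 for all i ≥ 1 (in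
degree 0 the Tor is A/(I + J) in any case). (The published statement does not ask the x_i to form a
regular sequence on A itself; without this the equivalence fails, for instance for A = k[e]/(e²), n
= 1, x_1 = e and J = 0, where every higher Tor of A/(e) against the free module A vanishes although
e is a zero-divisor.) -/
theorem result (A : Type u) [CommRing A] [IsNoetherianRing A] [IsLocalRing A]
    (n : ℕ) (x : Fin n → A) (hx : RingTheory.Sequence.IsWeaklyRegular A (List.ofFn x))
    (J : Ideal A) (hIJ : Ideal.span (Set.range x) ⊔ J ≠ ⊤) :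
    RingTheory.Sequence.IsWeaklyRegular (A ⧸ J) (List.ofFn (fun i : Fin n => Ideal.Quotient.mk J (x i))) ↔
      ∀ i : ℕ, 1 ≤ i → Limits.IsZero (((Tor (ModuleCat.{u} A) i).obj
        (ModuleCat.of A (A ⧸ Ideal.span (Set.range x)))).obj (ModuleCat.of A (A ⧸ J))) := by
  rw [Groth.Agent.S16238.reg_iff]
  have hflat : ∀ i : ℕ, 1 ≤ i → Limits.IsZero (Groth.Agent.H19.RegTor.T A (A ⧸ J) i A) := by
    intro i hi
    rw [ModuleCat.isZero_iff_subsingleton]
    exact (Groth.Agent.S3527.result A A (A ⧸ J) i hi).1
  have hm : ∀ r ∈ List.ofFn x, r ∈ IsLocalRing.maximalIdeal A := by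
    intro r hr
    rw [List.mem_ofFn] at hr
    obtain ⟨j, rfl⟩ := hr
    have hne : Ideal.span (Set.range x) ≠ ⊤ := by
      intro h
      apply hIJ
      rw [h, top_sup_eq]
    exact IsLocalRing.le_maximalIdeal hne (Ideal.subset_span ⟨j, rfl⟩)
  have e : (A ⧸ (Ideal.ofList (List.ofFn x) • ⊤ : Submodule A A)) ≃ₗ[A]
      (A ⧸ Ideal.span (Set.range x)) := by
    rw [Groth.Agent.S16238.ofList_ofFn]
    exact Groth.Agent.S16238.quotEquiv _
  constructor
  · intro h i hi
    exact Groth.Agent.H19.RegTor.isZero_congr (A ⧸ J) e i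
      (Groth.Agent.H19.RegTor.forward (A ⧸ J) (List.ofFn x) A hx h hflat i hi)
  · intro h
    exact (Groth.Agent.H19.RegTor.backward (A ⧸ J) (List.ofFn x) A hm hx
      (fun i hi => Groth.Agent.H19.RegTor.isZero_congr (A ⧸ J) e.symm i (h i hi))).2

end Groth.Agent.S16238
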