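import Groth.Statements.S16244
import Mathlib

set_option autoImplicit false
universe u
open Curves

namespace Groth.Agent.S16244


open WeierstrassCurve

section Aux
variable {k : Type u} [Field k] (W : WeierstrassCurve k) [W.IsShortNF]

theorem mem_stab_iff (h2 : (2 : k) ≠ 0) (h3 : (3 : k) ≠ 0) (C : VariableChange k) :
    C ∈ MulAction.stabilizer (VariableChange k) W ↔
      C.r = 0 ∧ C.s = 0 ∧ C.t = 0 ∧ (C.u : k) ^ 4 * W.a₄ = W.a₄ ∧
        (C.u : k) ^ 6 * W.a₆ = W.a₆ := by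
  rw [MulAction.mem_stabilizer_iff]
  have ha1 : W.a₁ = 0 := IsShortNF.a₁
  have ha2 : W.a₂ = 0 := IsShortNF.a₂
  have ha3 : W.a₃ = 0 := IsShortNF.a₃
  have hv : ((C.u⁻¹ : kˣ) : k) ≠ 0 := Units.ne_zero _
  have huu : ((C.u⁻¹ : kˣ) : k) * (C.u : k) = 1 := by
    rw [← Units.val_mul, inv_mul_cancel, Units.val_one]
  constructor
  · intro h
    have e1 : (C • W).a₁ = W.a₁ := by rw [h]
    have e2 : (C • W).a₂ = W.a₂ := by rw [h]
    have e3 : (C • W).a₃ = W.a₃ := by rw [h]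
    have e4 : (C • W).a₄ = W.a₄ := by rw [h]
    have e6 : (C • W).a₆ = W.a₆ := by rw [h]
    rw [variableChange_a₁, ha1] at e1
    have hs : C.s = 0 := by
      have h' := (mul_eq_zero.mp e1).resolve_left hv
      rw [zero_add] at h'
      exact (mul_eq_zero.mp h').resolve_left h2
    rw [variableChange_a₂, ha1, ha2, hs] at e2
    have hr : C.r = 0 := by
      have h' := (mul_eq_zero.mp e2).resolve_left (pow_ne_zero 2 hv)
      have h'' : (3 : k) * C.r = 0 := by linear_combination h'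
      exact (mul_eq_zero.mp h'').resolve_left h3
    rw [variableChange_a₃, ha1, ha3, hr] at e3
    have ht : C.t = 0 := by
      have h' := (mul_eq_zero.mp e3).resolve_left (pow_ne_zero 3 hv)
      have h'' : (2 : k) * C.t = 0 := by linear_combination h'
      exact (mul_eq_zero.mp h'').resolve_left h2
    rw [variableChange_a₄, hs, hr, ht] at e4
    rw [variableChange_a₆, hr, ht] at e6
    have hv4 : ((C.u⁻¹ : kˣ) : k) ^ 4 * W.a₄ = W.a₄ := by linear_combination e4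
    have hv6 : ((C.u⁻¹ : kˣ) : k) ^ 6 * W.a₆ = W.a₆ := by linear_combination e6
    refine ⟨hr, hs, ht, ?_, ?_⟩
    · calc (C.u : k) ^ 4 * W.a₄ = (C.u : k) ^ 4 * (((C.u⁻¹ : kˣ) : k) ^ 4 * W.a₄) := by rw [hv4]
        _ = (((C.u⁻¹ : kˣ) : k) * (C.u : k)) ^ 4 * W.a₄ := by ring
        _ = W.a₄ := by rw [huu, one_pow, one_mul]
    · calc (C.u : k) ^ 6 * W.a₆ = (C.u : k) ^ 6 * (((C.u⁻¹ : kˣ) : k) ^ 6 * W.a₆) := by rw [hv6]
        _ = (((C.u⁻¹ : kˣ) : k) * (C.u : k)) ^ 6 * W.a₆ := by ring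
        _ = W.a₆ := by rw [huu, one_pow, one_mul]
  · rintro ⟨hr, hs, ht, h4, h6⟩
    have hv4 : ((C.u⁻¹ : kˣ) : k) ^ 4 * W.a₄ = W.a₄ := by
      calc ((C.u⁻¹ : kˣ) : k) ^ 4 * W.a₄
          = ((C.u⁻¹ : kˣ) : k) ^ 4 * ((C.u : k) ^ 4 * W.a₄) := by rw [h4]
        _ = (((C.u⁻¹ : kˣ) : k) * (C.u : k)) ^ 4 * W.a₄ := by ring
        _ = W.a₄ := by rw [huu, one_pow, one_mul]
    have hv6 : ((C.u⁻¹ : kˣ) : k) ^ 6 * W.a₆ = W.a₆ := by
      calc ((C.u⁻¹ : kˣ) : k) ^ 6 * W.a₆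
          = ((C.u⁻¹ : kˣ) : k) ^ 6 * ((C.u : k) ^ 6 * W.a₆) := by rw [h6]
        _ = (((C.u⁻¹ : kˣ) : k) * (C.u : k)) ^ 6 * W.a₆ := by ring
        _ = W.a₆ := by rw [huu, one_pow, one_mul]
    ext
    · rw [variableChange_a₁, ha1, hs]
      ring
    · rw [variableChange_a₂, ha1, ha2, hs, hr]
      ring
    · rw [variableChange_a₃, ha1, ha3, hr, ht]
      ring
    · rw [variableChange_a₄, hs, hr, ht]
      linear_combination hv4
    · rw [variableChange_a₆, hr, ht]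
      linear_combination hv6

theorem stab_equiv (n : ℕ)
    (hn : ∀ C : VariableChange k, C ∈ MulAction.stabilizer (VariableChange k) W ↔
      C.r = 0 ∧ C.s = 0 ∧ C.t = 0 ∧ C.u ^ n = 1) :
    Nonempty (↥(MulAction.stabilizer (VariableChange k) W) ≃* ↥(rootsOfUnity n k)) := by
  refine ⟨{ toFun := fun C => ⟨C.1.u, ((hn C.1).1 C.2).2.2.2⟩
            invFun := fun ζ => ⟨⟨ζ.1, 0, 0, 0⟩, (hn _).2 ⟨rfl, rfl, rfl, ζ.2⟩⟩
            left_inv := ?_
            right_inv := ?_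
            map_mul' := ?_ }⟩
  · intro C
    obtain ⟨hr, hs, ht, -⟩ := (hn C.1).1 C.2
    apply Subtype.ext
    apply VariableChange.ext
    · rfl
    · exact hr.symm
    · exact hs.symm
    · exact ht.symm
  · intro ζ
    rfl
  · intro C C'
    rfl

end Aux


/-- Let k be an algebraically closed field in which 2 and 3 are nonzero, and W a short Weierstrass
equation y² = x³ + a₄x + a₆ over k with nonzero discriminant. The admissible changes of variables
(u, r, s, t) that fix W form a cyclic group, of order 6 when a₄ = 0, of order 4 when a₆ = 0, and of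
order 2 when a₄ and a₆ are both nonzero. (The published statement says the automorphism group of the
elliptic curve is cyclic of order 2, 4 or 6; the automorphisms are rendered here as the changes of
variables preserving the equation, and the case distinction is the one the computation gives.) -/
theorem result
    (k : Type u) [Field k] [IsAlgClosed k] (h2 : (2 : k) ≠ 0) (h3 : (3 : k) ≠ 0)
    (W : WeierstrassCurve k) [W.IsShortNF] (hΔ : W.Δ ≠ 0) :
    IsCyclic ↥(MulAction.stabilizer (WeierstrassCurve.VariableChange k) W) ∧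
      (W.a₄ = 0 → Nat.card ↥(MulAction.stabilizer (WeierstrassCurve.VariableChange k) W) = 6) ∧
      (W.a₆ = 0 → Nat.card ↥(MulAction.stabilizer (WeierstrassCurve.VariableChange k) W) = 4) ∧
      (W.a₄ ≠ 0 → W.a₆ ≠ 0 → Nat.card ↥(MulAction.stabilizer (WeierstrassCurve.VariableChange k) W) = 2) := by
  have ha_ne : ¬ (W.a₄ = 0 ∧ W.a₆ = 0) := by
    rintro ⟨h4, h6⟩
    apply hΔ
    rw [WeierstrassCurve.Δ_of_isShortNF, h4, h6]
    ring
  have key : ∀ (n : ℕ) [NeZero n], ((n : ℕ) : k) ≠ 0 →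
      (∀ C : WeierstrassCurve.VariableChange k,
        C ∈ MulAction.stabilizer (WeierstrassCurve.VariableChange k) W ↔
          C.r = 0 ∧ C.s = 0 ∧ C.t = 0 ∧ C.u ^ n = 1) →
      IsCyclic ↥(MulAction.stabilizer (WeierstrassCurve.VariableChange k) W) ∧
        Nat.card ↥(MulAction.stabilizer (WeierstrassCurve.VariableChange k) W) = n := by
    intro n _ hnk hn
    haveI : NeZero ((n : ℕ) : k) := ⟨hnk⟩
    obtain ⟨e⟩ := stab_equiv W n hn
    refine ⟨isCyclic_of_surjective e.symm e.symm.surjective, ?_⟩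
    rw [Nat.card_congr e.toEquiv]
    exact HasEnoughRootsOfUnity.natCard_rootsOfUnity k n
  have hunit : ∀ (C : WeierstrassCurve.VariableChange k) (m : ℕ),
      (C.u : k) ^ m = 1 ↔ C.u ^ m = 1 := fun C m => by
    rw [← Units.val_pow_eq_pow_val, Units.val_eq_one]
  have c6 : W.a₄ = 0 → ∀ C : WeierstrassCurve.VariableChange k,
      C ∈ MulAction.stabilizer (WeierstrassCurve.VariableChange k) W ↔
        C.r = 0 ∧ C.s = 0 ∧ C.t = 0 ∧ C.u ^ 6 = 1 := by
    intro h4 C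
    have h6 : W.a₆ ≠ 0 := fun h => ha_ne ⟨h4, h⟩
    rw [mem_stab_iff W h2 h3, h4, ← hunit]
    constructor
    · rintro ⟨hr, hs, ht, -, h⟩
      exact ⟨hr, hs, ht, mul_right_cancel₀ h6 (h.trans (one_mul _).symm)⟩
    · rintro ⟨hr, hs, ht, h⟩
      exact ⟨hr, hs, ht, by rw [mul_zero], by rw [h, one_mul]⟩
  have c4 : W.a₆ = 0 → ∀ C : WeierstrassCurve.VariableChange k,
      C ∈ MulAction.stabilizer (WeierstrassCurve.VariableChange k) W ↔
        C.r = 0 ∧ C.s = 0 ∧ C.t = 0 ∧ C.u ^ 4 = 1 := by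
    intro h6 C
    have h4 : W.a₄ ≠ 0 := fun h => ha_ne ⟨h, h6⟩
    rw [mem_stab_iff W h2 h3, h6, ← hunit]
    constructor
    · rintro ⟨hr, hs, ht, h, -⟩
      exact ⟨hr, hs, ht, mul_right_cancel₀ h4 (h.trans (one_mul _).symm)⟩
    · rintro ⟨hr, hs, ht, h⟩
      exact ⟨hr, hs, ht, by rw [h, one_mul], by rw [mul_zero]⟩
  have c2 : W.a₄ ≠ 0 → W.a₆ ≠ 0 → ∀ C : WeierstrassCurve.VariableChange k,
      C ∈ MulAction.stabilizer (WeierstrassCurve.VariableChange k) W ↔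
        C.r = 0 ∧ C.s = 0 ∧ C.t = 0 ∧ C.u ^ 2 = 1 := by
    intro h4 h6 C
    rw [mem_stab_iff W h2 h3, ← hunit]
    constructor
    · rintro ⟨hr, hs, ht, e4, e6⟩
      have e4' : (C.u : k) ^ 4 = 1 := mul_right_cancel₀ h4 (e4.trans (one_mul _).symm)
      have e6' : (C.u : k) ^ 6 = 1 := mul_right_cancel₀ h6 (e6.trans (one_mul _).symm)
      have h : (C.u : k) ^ 6 = (C.u : k) ^ 4 * (C.u : k) ^ 2 := by ring
      rw [e6', e4', one_mul] at h
      exact ⟨hr, hs, ht, h.symm⟩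
    · rintro ⟨hr, hs, ht, h⟩
      refine ⟨hr, hs, ht, ?_, ?_⟩
      · rw [show (C.u : k) ^ 4 = ((C.u : k) ^ 2) ^ 2 by ring, h, one_pow, one_mul]
      · rw [show (C.u : k) ^ 6 = ((C.u : k) ^ 2) ^ 3 by ring, h, one_pow, one_mul]
  have n6 : (((6 : ℕ) : ℕ) : k) ≠ 0 := by
    have h : (((6 : ℕ) : ℕ) : k) = 2 * 3 := by norm_num
    rw [h]
    exact mul_ne_zero h2 h3
  have n4 : (((4 : ℕ) : ℕ) : k) ≠ 0 := by
    have h : (((4 : ℕ) : ℕ) : k) = 2 * 2 := by norm_num
    rw [h]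
    exact mul_ne_zero h2 h2
  have n2 : (((2 : ℕ) : ℕ) : k) ≠ 0 := by
    have h : (((2 : ℕ) : ℕ) : k) = 2 := by norm_num
    rw [h]
    exact h2
  refine ⟨?_, fun h4 => (key 6 n6 (c6 h4)).2, fun h6 => (key 4 n4 (c4 h6)).2,
    fun h4 h6 => (key 2 n2 (c2 h4 h6)).2⟩
  by_cases h4 : W.a₄ = 0
  · exact (key 6 n6 (c6 h4)).1
  · by_cases h6 : W.a₆ = 0
    · exact (key 4 n4 (c4 h6)).1
    · exact (key 2 n2 (c2 h4 h6)).1

end Groth.Agent.S16244
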