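import Groth.Statements.S16259
import Mathlib

set_option autoImplicit false
open W4c3wronskmg

namespace Groth.Agent.S16259

section
open Polynomial
variable {k : Type*} [Field k] [CharZero k]

lemma coeff_X_mul_der (p : k[X]) (s : ℕ) :
    (X * derivative p).coeff s = (s : k) * p.coeff s := by
  cases s with
  | zero => simp
  | succ s =>
    rw [coeff_X_mul, coeff_derivative]
    push_cast
    ring

lemma coeff_X_mul_der2 (p : k[X]) (s : ℕ) :
    (X * derivative (derivative p)).coeff s = ((s : k) + 1) * (s : k) * p.coeff (s + 1) := by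
  cases s with
  | zero => simp
  | succ s =>
    rw [coeff_X_mul, coeff_derivative, coeff_derivative]
    push_cast
    ring

lemma coeff_X2_mul_der2 (p : k[X]) (s : ℕ) :
    (X ^ 2 * derivative (derivative p)).coeff s = (s : k) * ((s : k) - 1) * p.coeff s := by
  rcases s with _ | _ | s
  · rw [pow_two, mul_assoc, coeff_X_mul_zero]
    simp
  · rw [pow_two, mul_assoc, coeff_X_mul, coeff_X_mul_zero]
    simp
  · rw [pow_two, mul_assoc, coeff_X_mul, coeff_X_mul, coeff_derivative, coeff_derivative]
    push_cast
    ring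

variable (k) in
noncomputable def hpoly (i j n : ℕ) : k[X] :=
  ∑ l ∈ Finset.range (n + 1), C (((i.choose l) * (j.choose (n - l)) : ℕ) : k) * X ^ (n - l)

lemma coeff_h (i j n s : ℕ) : (hpoly k i j n).coeff s =
    if s ≤ n then ((i.choose (n - s) * j.choose s : ℕ) : k) else 0 := by
  unfold hpoly
  rw [finset_sum_coeff]
  simp only [coeff_C_mul_X_pow]
  split_ifs with hs
  · rw [Finset.sum_eq_single (n - s)]
    · rw [if_pos (by omega), show n - (n - s) = s by omega]
    · intro l hl hne
      rw [Finset.mem_range] at hl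
      rw [if_neg (by omega)]
    · intro hnot
      exfalso
      apply hnot
      rw [Finset.mem_range]
      omega
  · apply Finset.sum_eq_zero
    intro l hl
    rw [if_neg (by omega)]

lemma choose_cast (N K : ℕ) :
    ((N.choose (K + 1) : ℕ) : k) * ((K : k) + 1) = (N.choose K : k) * ((N : k) - (K : k)) := by
  by_cases hK : K ≤ N
  · have h1 := congrArg (Nat.cast (R := k)) (Nat.choose_succ_right_eq N K)
    push_cast [Nat.cast_sub hK] at h1
    exact h1
  · push Not at hK
    rw [Nat.choose_eq_zero_of_lt hK, Nat.choose_eq_zero_of_lt (by omega : N < K + 1)]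
    simp

lemma rec_a (i j n s : ℕ) :
    ((s : k) + 1) * ((s : k) + 1 + (i : k) - (n : k)) * (hpoly k i j n).coeff (s + 1) =
      ((n : k) - (s : k)) * ((j : k) - (s : k)) * (hpoly k i j n).coeff s := by
  rw [coeff_h, coeff_h]
  by_cases h1 : s + 1 ≤ n
  · obtain ⟨u, rfl⟩ : ∃ u, n = s + 1 + u := ⟨n - (s + 1), by omega⟩
    rw [if_pos h1, if_pos (by omega), show s + 1 + u - (s + 1) = u by omega,
      show s + 1 + u - s = u + 1 by omega]
    have e1 := choose_cast (k := k) j s
    have e2 := choose_cast (k := k) i u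
    push_cast
    linear_combination (((i : k) - (u : k)) * (i.choose u : k)) * e1 -
      ((j.choose s : k) * ((j : k) - (s : k))) * e2
  · rw [if_neg h1]
    by_cases h2 : s ≤ n
    · have hsn : s = n := by omega
      subst hsn
      simp
    · rw [if_neg h2]
      simp

lemma ode (i j n : ℕ) :
    X * derivative (derivative (hpoly k i j n)) - X ^ 2 * derivative (derivative (hpoly k i j n))
      + C (1 + (i : k) - (n : k)) * derivative (hpoly k i j n)
      - C (1 - (n : k) - (j : k)) * (X * derivative (hpoly k i j n))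
      - C ((n : k) * (j : k)) * hpoly k i j n = 0 := by
  ext s
  simp only [coeff_sub, coeff_add, coeff_C_mul, coeff_zero, coeff_X_mul_der2, coeff_X2_mul_der2,
    coeff_X_mul_der, coeff_derivative]
  linear_combination rec_a (k := k) i j n s

theorem main (i j n : ℕ) (c : k) (hc0 : c ≠ 0) (hc1 : c ≠ 1) :
    rootMultiplicity c (hpoly k i j n) ≤ 1 := by
  by_contra hlt
  push Not at hlt
  have hode := ode (k := k) i j n
  obtain ⟨h, hh⟩ : ∃ h, h = hpoly k i j n := ⟨_, rfl⟩
  rw [← hh] at hode hlt
  have hne : h ≠ 0 := by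
    intro h0
    rw [h0, rootMultiplicity_zero] at hlt
    omega
  obtain ⟨t, ht⟩ : ∃ t, rootMultiplicity c h = t + 1 + 1 := ⟨rootMultiplicity c h - 2, by omega⟩
  obtain ⟨g, hfac, hg0⟩ : ∃ g : k[X], (X - C c) ^ (t + 1 + 1) * g = h ∧ eval c g ≠ 0 := by
    refine ⟨h /ₘ (X - C c) ^ (t + 1 + 1), ?_, ?_⟩
    · rw [← ht]
      exact pow_mul_divByMonic_rootMultiplicity_eq h c
    · rw [← ht]
      exact eval_divByMonic_pow_rootMultiplicity_ne_zero c hne
  clear hh ht hlt hne
  subst hfac
  obtain ⟨P, hP, hPd, hPe, hPne⟩ : ∃ P : k[X], P = X - C c ∧ derivative P = 1 ∧ eval c P = 0 ∧ P ≠ 0 :=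
    ⟨_, rfl, derivative_X_sub_C c, by simp, X_sub_C_ne_zero c⟩
  rw [← hP] at hode
  have d1 : derivative (P ^ (t + 1 + 1) * g) =
      P ^ (t + 1) * (C ((t : k) + 1 + 1) * g + P * derivative g) := by
    rw [derivative_mul, derivative_pow_succ, hPd]
    push_cast
    ring
  have d2 : derivative (derivative (P ^ (t + 1 + 1) * g)) =
      P ^ t * (C ((t : k) + 1) * (C ((t : k) + 1 + 1) * g + P * derivative g) +
        P * (C ((t : k) + 1 + 1) * derivative g + (derivative g + P * derivative (derivative g)))) := by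
    rw [d1, derivative_mul, derivative_pow_succ, hPd]
    simp only [derivative_add, derivative_mul, derivative_C, hPd]
    push_cast
    ring
  rw [d2, d1] at hode
  have hb : P ^ t * (X * (C ((t : k) + 1) * (C ((t : k) + 1 + 1) * g + P * derivative g) +
        P * (C ((t : k) + 1 + 1) * derivative g + (derivative g + P * derivative (derivative g))))
      - X ^ 2 * (C ((t : k) + 1) * (C ((t : k) + 1 + 1) * g + P * derivative g) +
        P * (C ((t : k) + 1 + 1) * derivative g + (derivative g + P * derivative (derivative g))))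
      + C (1 + (i : k) - (n : k)) * (P * (C ((t : k) + 1 + 1) * g + P * derivative g))
      - C (1 - (n : k) - (j : k)) * (X * (P * (C ((t : k) + 1 + 1) * g + P * derivative g)))
      - C ((n : k) * (j : k)) * (P ^ 2 * g)) = 0 := by
    rw [← hode]
    ring
  have hB := (mul_eq_zero.mp hb).resolve_left (pow_ne_zero _ hPne)
  have hev := congrArg (eval c) hB
  simp only [eval_sub, eval_mul, eval_add, eval_pow, eval_X, eval_C, hPe, eval_zero] at hev
  have key : c * (1 - c) * (((t : k) + 1) * ((t : k) + 1 + 1)) * eval c g = 0 := by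
    linear_combination hev
  have h1 : (t : k) + 1 ≠ 0 := Nat.cast_add_one_ne_zero t
  have h2 : (t : k) + 1 + 1 ≠ 0 := by
    have := Nat.cast_add_one_ne_zero (R := k) (t + 1)
    push_cast at this
    exact this
  have h3 : (1 : k) - c ≠ 0 := sub_ne_zero.mpr (Ne.symm hc1)
  exact (mul_ne_zero (mul_ne_zero (mul_ne_zero hc0 h3) (mul_ne_zero h1 h2)) hg0) key

end

open Polynomial in
/-- Over a field of characteristic zero, for positive integers `i, j` and a natural number `n`, the
polynomial `h(W) = ∑_{l=0}^{n} (i choose l) (j choose (n-l)) W^(n-l)`, the coefficient of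
`X^(i+j-n)` in `(X+1)^i (X+W)^j`, has no multiple root other than possibly `0` and `1`: every `c ≠
0, 1` has root multiplicity at most one. -/
theorem result
    (k : Type*) [Field k] [CharZero k] (i j n : ℕ) (hi : 0 < i) (hj : 0 < j) (c : k) (hc0 : c ≠ 0) (hc1 : c ≠ 1) :
    Polynomial.rootMultiplicity c
      (∑ l ∈ Finset.range (n + 1),
        Polynomial.C (((i.choose l) * (j.choose (n - l)) : ℕ) : k) * Polynomial.X ^ (n - l)) ≤ 1 := by
  exact main i j n c hc0 hc1

end Groth.Agent.S16259
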