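import Groth.Statements.S16262
import Mathlib
import Groth.Agent.Lib.Helper7.Wronsk
-- import your own Groth.Agent.* helpers here

set_option autoImplicit false
open W4c3wronskmg

namespace Groth.Agent.S16262

open Polynomial in
/-- Let `k` be a field of characteristic zero and `a, b, i` positive integers with `i < a + b`. On the
projective line with `A = 0`, `B = ∞`, `P = -1`, the system `V_{a,b} = H⁰(ω((1+a)A)) ⊕ H⁰(ω((1+b)B))
⊆ H⁰(O(a+b))` is the space of polynomials of degree at most `a+b` with vanishing coefficient of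
`X^a`, and `V = V_{a,b}(-iP)` (divided by `(X+1)^i`) is the space of `G` of degree at most `a+b-i`
such that the coefficient of `X^a` in `(X+1)^i G` vanishes; it is a linear system of dimension and
degree `a+b-i`. Then no point of the projective line other than `A` and `B` is a special
ramification point of `V` (a point of weight at least two); for such a system a point `q` of the
affine line is special exactly when two independent members are divisible by `(X-q)^(a+b-i-1)`, so
the statement is that this fails for every `q ≠ 0`. (The published statement does not except `A` and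
`B`, but `A` has weight `max(b-i, 0)` in `V`, which is `2` for `a = 1, b = 3, i = 1`: there `X^3`
and `X^2` both lie in `V`. It is stated over the complex numbers.) -/
theorem result
    (k : Type*) [Field k] [CharZero k] (a b i : ℕ) (ha : 0 < a) (hb : 0 < b) (hi : 0 < i) (hiab : i < a + b)
    (V : Submodule k (Polynomial k))
    (hV : V = Polynomial.degreeLE k ↑(a + b - i) ⊓
      LinearMap.ker ((Polynomial.lcoeff k a).comp (LinearMap.mulLeft k (((X : Polynomial k) + 1) ^ i))))
    (q : k) (hq : q ≠ 0) :
    Module.finrank k ↥(V ⊓ (Ideal.span {(X - C q) ^ (a + b - i - 1)}).restrictScalars k) ≤ 1 := by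
  classical
  obtain ⟨m, hm⟩ : ∃ m, a + b - i - 1 = m := ⟨_, rfl⟩
  have hm1 : a + b - i = m + 1 := by omega
  rw [hm]
  rw [hm1] at hV
  set D : k[X] := (X - C q) ^ m with hD
  have hDm : D.Monic := (monic_X_sub_C q).pow m
  have hD0 : D ≠ 0 := hDm.ne_zero
  have hDdeg : D.natDegree = m := by rw [hD, Monic.natDegree_pow (monic_X_sub_C q)]; simp
  have hX1 : (X + 1 : k[X]).Monic := by simpa using monic_X_add_C (1 : k)
  have hX1deg : (X + 1 : k[X]).natDegree = 1 := by simpa using natDegree_X_add_C (1 : k)
  set H : k[X] := (X + 1) ^ i * (X - C q) ^ m with hH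
  have hHm : H.Monic := (hX1.pow i).mul hDm
  have hHdeg : H.natDegree = i + m := by
    rw [hH, Monic.natDegree_mul (hX1.pow i) hDm, Monic.natDegree_pow hX1, hDdeg, hX1deg]; ring
  set μ : k[X] →ₗ[k] k := (Polynomial.lcoeff k a).comp (LinearMap.mulLeft k H) with hμ
  have hμL : ∀ L, μ L = coeff (H * L) a := fun L => rfl
  set W : Submodule k k[X] := V ⊓ (Ideal.span {D}).restrictScalars k with hW
  suffices hs : Module.finrank k W + 1 ≤ 2 by omega
  have hex : ∃ L₀ : k[X], L₀.degree < ((2 : ℕ) : WithBot ℕ) ∧ μ L₀ ≠ 0 := by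
    by_cases ha0 : coeff H a = 0
    · by_cases ha1 : coeff H (a - 1) = 0
      · exfalso
        have hprop := Groth.Agent.Helper7.Wronsk.coeff_propagate i m q hq (a - 1) ha1
          (by rw [Nat.sub_add_cancel ha]; exact ha0) b
        have h0 : coeff H (a - 1 + b) = 0 := hprop.1
        have hlead : coeff H (i + m) = 1 := by rw [← hHdeg]; exact hHm.coeff_natDegree
        rw [show a - 1 + b = i + m by omega] at h0
        rw [h0] at hlead; exact zero_ne_one hlead
      · refine ⟨X, ?_, ?_⟩
        · rw [degree_X]; exact_mod_cast (by norm_num : (1:ℕ) < 2)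
        · rw [hμL]
          have e : a = a - 1 + 1 := by omega
          rw [e, coeff_mul_X]; exact ha1
    · refine ⟨1, ?_, ?_⟩
      · rw [degree_one]; exact_mod_cast (by norm_num : (0:ℕ) < 2)
      · rw [hμL, mul_one]; exact ha0
  obtain ⟨L₀, hL₀, hμ₀⟩ := hex
  refine Groth.Agent.Helper7.Wronsk.finrank_succ_le D 2 μ W ?_ L₀ hL₀ hμ₀
  intro f hf
  obtain ⟨hfV, hfD⟩ := hf
  rw [hV] at hfV
  obtain ⟨hdeg, hker⟩ := hfV
  obtain ⟨L, rfl⟩ := Ideal.mem_span_singleton.1 hfD
  refine ⟨L, ?_, rfl, ?_⟩
  · by_cases hL0 : L = 0
    · subst hL0; rw [degree_zero]; exact WithBot.bot_lt_coe 2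
    · rw [← natDegree_lt_iff_degree_lt hL0]
      have h1 := natDegree_le_of_degree_le (mem_degreeLE.1 hdeg)
      rw [natDegree_mul hD0 hL0, hDdeg] at h1
      omega
  · have h2 := LinearMap.mem_ker.1 hker
    have e : H * L = (X + 1) ^ i * (D * L) := by simp only [hH, hD]; ring
    rw [hμL, e]
    simpa using h2

end Groth.Agent.S16262
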