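import Groth.Statements.S16263
import Mathlib
-- import your own Groth.Agent.* helpers here

set_option autoImplicit false
open W4c3wronskmg

namespace Groth.Agent.S16263

open Polynomial

lemma finrank_le_one_of_functional {k M : Type*} [Field k] [AddCommGroup M] [Module k M]
    (W : Submodule k M) (ℓ : M →ₗ[k] k) (h : ∀ f ∈ W, ℓ f = 0 → f = 0) :
    Module.finrank k W ≤ 1 := by
  have hinj : Function.Injective (ℓ ∘ₗ W.subtype) := by
    rw [← LinearMap.ker_eq_bot, eq_bot_iff]
    intro f hf
    rw [LinearMap.mem_ker] at hf
    rw [Submodule.mem_bot]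
    exact Subtype.ext (h f.1 f.2 hf)
  have := LinearMap.finrank_le_finrank_of_injective hinj
  rwa [Module.finrank_self] at this


open Polynomial in
/-- Let `k` be a field of characteristic zero and `a` a positive integer. On the projective line with `A
= 0`, `B = -1`, `C = ∞`, the `(a+1)`-dimensional system `V = H⁰(ω((1+a)C)) ⊕ H⁰(ω(A+B)) ⊆
H⁰(ω((1+a)C + A + B)) ≅ H⁰(O(a+1))` is, in the affine coordinate, the space of polynomials `c + X
(X+1) F` with `c` a constant and `deg F ≤ a - 1`. Then `V` has no special ramification point (no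
point of weight at least two): since the members have degree at most `a + 1`, this says that for
every point `p` of the affine line at most a one-dimensional subspace of `V` is divisible by
`(X-p)^a`, and at `C` that at most a one-dimensional subspace has degree at most one (degree less
than two). (The published statement carries two further positive integers `i, j` with `i + j = a -
1`, used only in its second assertion, and is over the complex numbers.) -/
theorem result
    (k : Type*) [Field k] [CharZero k] (a : ℕ) (ha : 0 < a)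
    (V : Submodule k (Polynomial k))
    (hV : V = Submodule.span k {(1 : Polynomial k)} ⊔
      ((Ideal.span {(X : Polynomial k) * (X + 1)}).restrictScalars k ⊓ Polynomial.degreeLE k ↑(a + 1))) :
    (∀ p : k, Module.finrank k ↥(V ⊓ (Ideal.span {(X - C p) ^ a}).restrictScalars k) ≤ 1) ∧
      Module.finrank k ↥(V ⊓ Polynomial.degreeLT k 2) ≤ 1 := by
  have hX1 : (X + 1 : k[X]) = X - C (-1) := by simp
  have hmem : ∀ f ∈ V, ∃ (c : k) (F : k[X]), f = C c + X * (X + 1) * F ∧
      f.degree ≤ ((a + 1 : ℕ) : WithBot ℕ) := by
    intro f hf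
    rw [hV, Submodule.mem_sup] at hf
    obtain ⟨u, hu, g, hg, rfl⟩ := hf
    obtain ⟨c, rfl⟩ := Submodule.mem_span_singleton.1 hu
    obtain ⟨hg1, hg2⟩ := Submodule.mem_inf.1 hg
    rw [Submodule.restrictScalars_mem, Ideal.mem_span_singleton] at hg1
    obtain ⟨F, rfl⟩ := hg1
    rw [Polynomial.mem_degreeLE] at hg2
    refine ⟨c, F, by rw [Polynomial.smul_eq_C_mul, mul_one], ?_⟩
    refine (Polynomial.degree_add_le _ _).trans (max_le ?_ hg2)
    rw [Polynomial.smul_eq_C_mul, mul_one]
    exact Polynomial.degree_C_le.trans (by exact_mod_cast Nat.zero_le _)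
  have heval0 : ∀ (c : k) (F : k[X]), (C c + X * (X + 1) * F).eval 0 = c := by
    intro c F; simp
  have heval1 : ∀ (c : k) (F : k[X]), (C c + X * (X + 1) * F).eval (-1) = c := by
    intro c F; simp
  have hdegX1 : (X + 1 : k[X]).degree = 1 := by rw [hX1]; exact Polynomial.degree_X_sub_C _
  -- killing lemma: top coefficient zero
  have hkill : ∀ (f D : k[X]), f.degree ≤ ((a + 1 : ℕ) : WithBot ℕ) → f.coeff (a + 1) = 0 →
      D ∣ f → D.degree = ((a + 1 : ℕ) : WithBot ℕ) → f = 0 := by
    intro f D hdeg h0 hD hdegD
    apply Polynomial.eq_zero_of_dvd_of_degree_lt hD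
    rw [hdegD, Polynomial.degree_lt_iff_coeff_zero]
    intro m hm
    rcases Nat.eq_or_lt_of_le hm with h | h
    · rw [← h]; exact h0
    · exact Polynomial.coeff_eq_zero_of_degree_lt (lt_of_le_of_lt hdeg (by exact_mod_cast h))
  constructor
  · intro p
    have hdvd_of_mem : ∀ f ∈ V ⊓ (Ideal.span {(X - C p) ^ a}).restrictScalars k,
        (X - C p) ^ a ∣ f := by
      intro f hf
      have := (Submodule.mem_inf.1 hf).2
      rwa [Submodule.restrictScalars_mem, Ideal.mem_span_singleton] at this
    by_cases hp0 : p = 0
    · apply finrank_le_one_of_functional _ (Polynomial.lcoeff k (a + 1))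
      intro f hf h0
      rw [Polynomial.lcoeff_apply] at h0
      obtain ⟨c, F, hfe, hdeg⟩ := hmem f (Submodule.mem_inf.1 hf).1
      have hd := hdvd_of_mem f hf
      rw [hp0, map_zero, sub_zero] at hd
      have hXf : (X : k[X]) ∣ f := dvd_trans (dvd_pow_self X ha.ne') hd
      have hc : c = 0 := by
        have h1 : f.eval 0 = 0 := by
          rw [← Polynomial.coeff_zero_eq_eval_zero]; exact Polynomial.X_dvd_iff.1 hXf
        rw [hfe, heval0] at h1
        exact h1
      have hf2 : f = X * (X + 1) * F := by rw [hfe, hc, map_zero, zero_add]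
      have h1 : (X + 1 : k[X]) ∣ f := ⟨X * F, by rw [hf2]; ring⟩
      have hcop : IsCoprime (X + 1 : k[X]) (X ^ a) := by
        apply IsCoprime.pow_right
        have := Polynomial.isCoprime_X_sub_C_of_isUnit_sub (R := k) (a := -1) (b := 0) (by simp)
        simpa using this
      refine hkill f _ hdeg h0 (hcop.mul_dvd h1 hd) ?_
      rw [Polynomial.degree_mul, Polynomial.degree_X_pow, hdegX1, Nat.cast_add, Nat.cast_one,
        add_comm]
    · by_cases hp1 : p = -1
      · apply finrank_le_one_of_functional _ (Polynomial.lcoeff k (a + 1))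
        intro f hf h0
        rw [Polynomial.lcoeff_apply] at h0
        obtain ⟨c, F, hfe, hdeg⟩ := hmem f (Submodule.mem_inf.1 hf).1
        have hd := hdvd_of_mem f hf
        rw [hp1] at hd
        have hXf : (X - C (-1) : k[X]) ∣ f := dvd_trans (dvd_pow_self _ ha.ne') hd
        have hc : c = 0 := by
          have h1 : f.eval (-1) = 0 := Polynomial.dvd_iff_isRoot.1 hXf
          rw [hfe, heval1] at h1
          exact h1
        have hf2 : f = X * (X + 1) * F := by rw [hfe, hc, map_zero, zero_add]
        have h1 : (X : k[X]) ∣ f := ⟨(X + 1) * F, by rw [hf2]; ring⟩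
        have hcop : IsCoprime (X : k[X]) ((X - C (-1)) ^ a) := by
          apply IsCoprime.pow_right
          have := Polynomial.isCoprime_X_sub_C_of_isUnit_sub (R := k) (a := 0) (b := -1) (by simp)
          simpa using this
        refine hkill f _ hdeg h0 (hcop.mul_dvd h1 hd) ?_
        rw [Polynomial.degree_mul, Polynomial.degree_pow, Polynomial.degree_X_sub_C,
          Polynomial.degree_X, nsmul_one, Nat.cast_add, Nat.cast_one, add_comm]
      · apply finrank_le_one_of_functional _ (Polynomial.leval 0)
        intro f hf h0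
        rw [Polynomial.leval_apply] at h0
        obtain ⟨c, F, hfe, hdeg⟩ := hmem f (Submodule.mem_inf.1 hf).1
        have hd := hdvd_of_mem f hf
        have hc : c = 0 := by
          rw [hfe, heval0] at h0
          exact h0
        have hf2 : f = X * (X + 1) * F := by rw [hfe, hc, map_zero, zero_add]
        have h1 : (X * (X + 1) : k[X]) ∣ f := ⟨F, hf2⟩
        have hcopX : IsCoprime (X : k[X]) (X - C p) := by
          have := Polynomial.isCoprime_X_sub_C_of_isUnit_sub (R := k) (a := 0) (b := p)
            (by rw [zero_sub]; exact (IsUnit.mk0 _ hp0).neg)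
          simpa using this
        have hcopX1 : IsCoprime (X + 1 : k[X]) (X - C p) := by
          have := Polynomial.isCoprime_X_sub_C_of_isUnit_sub (R := k) (a := -1) (b := p)
            (IsUnit.mk0 _ (fun h => hp1 (by linear_combination -h)))
          rw [← hX1] at this
          exact this
        have hcop : IsCoprime (X * (X + 1) : k[X]) ((X - C p) ^ a) :=
          (IsCoprime.mul_left hcopX hcopX1).pow_right
        apply Polynomial.eq_zero_of_dvd_of_degree_lt (hcop.mul_dvd h1 hd)
        rw [Polynomial.degree_mul, Polynomial.degree_mul, Polynomial.degree_pow,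
          Polynomial.degree_X_sub_C, Polynomial.degree_X, hdegX1, nsmul_one]
        refine lt_of_le_of_lt hdeg ?_
        rw [show ((1 : WithBot ℕ) + 1 + (a : WithBot ℕ)) = ((a + 2 : ℕ) : WithBot ℕ) by
          push_cast; ring_nf]
        exact_mod_cast Nat.lt_succ_self _
  · apply finrank_le_one_of_functional _ (Polynomial.leval 0)
    intro f hf h0
    rw [Polynomial.leval_apply] at h0
    obtain ⟨c, F, hfe, hdeg⟩ := hmem f (Submodule.mem_inf.1 hf).1
    have hlt : f.degree < 2 := by
      have := (Submodule.mem_inf.1 hf).2
      rwa [Polynomial.mem_degreeLT] at this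
    have hc : c = 0 := by
      rw [hfe, heval0] at h0
      exact h0
    have hf2 : f = X * (X + 1) * F := by rw [hfe, hc, map_zero, zero_add]
    have h1 : (X * (X + 1) : k[X]) ∣ f := ⟨F, hf2⟩
    apply Polynomial.eq_zero_of_dvd_of_degree_lt h1
    rw [Polynomial.degree_mul, Polynomial.degree_X, hdegX1]
    exact hlt

end Groth.Agent.S16263
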