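import Groth.Statements.S16264
import Mathlib
import Groth.Agent.Lib.Helper7.Wronsk
-- import your own Groth.Agent.* helpers here

set_option autoImplicit false
open W4c3wronskmg

namespace Groth.Agent.S16264

open Polynomial in
/-- Let `k` be a field of characteristic zero and `a, i, j` positive integers with `i + j = a - 1`. With
`A = 0`, `B = -1`, `C = ∞` on the projective line and `V` the `(a+1)`-dimensional system of
polynomials `c + X (X+1) F`, `deg F ≤ a - 1` (that is, `H⁰(ω((1+a)C)) ⊕ H⁰(ω(A+B)) ⊆ H⁰(O(a+1))`),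
the pairs of points `(P, Q) = (p, q)` of the affine line with `dim V(-iP-jQ) ≥ 3`, i.e. with at
least a three-dimensional subspace of `V` divisible by `(X-p)^i (X-q)^j`, are exactly `(A, B)` and
`(B, A)`. (Here `P, Q` range over the points other than `C`; when one of them is `C` the dimension
is at most two for degree reasons. The published statement is over the complex numbers.) -/
theorem result
    (k : Type*) [Field k] [CharZero k] (a i j : ℕ) (hi : 0 < i) (hj : 0 < j) (hij : i + j + 1 = a)
    (V : Submodule k (Polynomial k))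
    (hV : V = Submodule.span k {(1 : Polynomial k)} ⊔
      ((Ideal.span {(X : Polynomial k) * (X + 1)}).restrictScalars k ⊓ Polynomial.degreeLE k ↑(a + 1)))
    (p q : k) :
    3 ≤ Module.finrank k ↥(V ⊓ (Ideal.span {(X - C p) ^ i * (X - C q) ^ j}).restrictScalars k) ↔
      (p = 0 ∧ q = -1) ∨ (p = -1 ∧ q = 0) := by
  classical
  set D : k[X] := (X - C p) ^ i * (X - C q) ^ j with hD
  have hDm : D.Monic := ((monic_X_sub_C p).pow i).mul ((monic_X_sub_C q).pow j)
  have hD0 : D ≠ 0 := hDm.ne_zero
  have hDdeg : D.natDegree = i + j := by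
    rw [hD, Monic.natDegree_mul ((monic_X_sub_C p).pow i) ((monic_X_sub_C q).pow j),
      Monic.natDegree_pow (monic_X_sub_C p), Monic.natDegree_pow (monic_X_sub_C q)]
    simp
  have hVmem : ∀ f ∈ V, f.degree ≤ ↑(a + 1) ∧ f.eval 0 = f.eval (-1) := by
    intro f hf
    rw [hV] at hf
    obtain ⟨y, hy, z, hz, rfl⟩ := Submodule.mem_sup.1 hf
    obtain ⟨c, rfl⟩ := Submodule.mem_span_singleton.1 hy
    obtain ⟨hz1, hz2⟩ := hz
    have hz1' : (X : k[X]) * (X + 1) ∣ z := Ideal.mem_span_singleton.1 hz1
    obtain ⟨w, rfl⟩ := hz1'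
    have hz2' := mem_degreeLE.1 hz2
    constructor
    · refine (degree_add_le _ _).trans (max_le ?_ hz2')
      refine (degree_smul_le _ _).trans ?_
      rw [degree_one]; exact_mod_cast Nat.zero_le (a + 1)
    · simp
  set μ : k[X] →ₗ[k] k := D.eval 0 • Polynomial.leval 0 - D.eval (-1) • Polynomial.leval (-1) with hμ
  have hμL : ∀ L : k[X], μ L = D.eval 0 * L.eval 0 - D.eval (-1) * L.eval (-1) := by
    intro L; simp [hμ]
  set W : Submodule k k[X] := V ⊓ (Ideal.span {D}).restrictScalars k with hW
  have hev0 : D.eval 0 = (0 - p) ^ i * (0 - q) ^ j := by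
    simp only [hD, eval_mul, eval_pow, eval_sub, eval_X, eval_C]
  have hev1 : D.eval (-1) = (-1 - p) ^ i * (-1 - q) ^ j := by
    simp only [hD, eval_mul, eval_pow, eval_sub, eval_X, eval_C]
  constructor
  · intro h3
    by_contra hne
    have hD01 : ¬ (D.eval 0 = 0 ∧ D.eval (-1) = 0) := by
      rintro ⟨h0, h1⟩
      apply hne
      rw [hev0] at h0
      rw [hev1] at h1
      rcases mul_eq_zero.1 h0 with h | h <;> rcases mul_eq_zero.1 h1 with h' | h'
      · have e1 := (pow_eq_zero_iff hi.ne').1 h
        have e2 := (pow_eq_zero_iff hi.ne').1 h'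
        exact absurd (by linear_combination e1 - e2 : (1 : k) = 0) one_ne_zero
      · have e1 := (pow_eq_zero_iff hi.ne').1 h
        have e2 := (pow_eq_zero_iff hj.ne').1 h'
        exact Or.inl ⟨by linear_combination -e1, by linear_combination -e2⟩
      · have e1 := (pow_eq_zero_iff hj.ne').1 h
        have e2 := (pow_eq_zero_iff hi.ne').1 h'
        exact Or.inr ⟨by linear_combination -e2, by linear_combination -e1⟩
      · have e1 := (pow_eq_zero_iff hj.ne').1 h
        have e2 := (pow_eq_zero_iff hj.ne').1 h'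
        exact absurd (by linear_combination e1 - e2 : (1 : k) = 0) one_ne_zero
    have hex : ∃ L₀ : k[X], L₀.degree < ((3 : ℕ) : WithBot ℕ) ∧ μ L₀ ≠ 0 := by
      by_cases h1 : D.eval (-1) = 0
      · have h0 : D.eval 0 ≠ 0 := fun h0 => hD01 ⟨h0, h1⟩
        refine ⟨1, ?_, ?_⟩
        · rw [degree_one]; exact_mod_cast (by norm_num : (0:ℕ) < 3)
        · rw [hμL]; simpa [h1] using h0
      · refine ⟨X, ?_, ?_⟩
        · rw [degree_X]; exact_mod_cast (by norm_num : (1:ℕ) < 3)
        · rw [hμL]; simpa using h1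
    obtain ⟨L₀, hL₀, hμ₀⟩ := hex
    have key := Groth.Agent.Helper7.Wronsk.finrank_succ_le D 3 μ W ?_ L₀ hL₀ hμ₀
    · omega
    · intro f hf
      obtain ⟨hfV, hfD⟩ := hf
      obtain ⟨hdeg, hev⟩ := hVmem f hfV
      obtain ⟨L, rfl⟩ := Ideal.mem_span_singleton.1 hfD
      refine ⟨L, ?_, rfl, ?_⟩
      · by_cases hL0 : L = 0
        · subst hL0; rw [degree_zero]; exact WithBot.bot_lt_coe 3
        · rw [← natDegree_lt_iff_degree_lt hL0]
          have h1 := natDegree_le_of_degree_le hdeg
          rw [natDegree_mul hD0 hL0, hDdeg] at h1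
          omega
      · rw [hμL, sub_eq_zero, ← eval_mul, ← eval_mul]; exact hev
  · intro h
    have h0 : D.eval 0 = 0 := by
      rw [hev0]
      obtain ⟨hp, hq⟩ | ⟨hp, hq⟩ := h
      · simp [hp, hi.ne']
      · simp [hq, hj.ne']
    have h1 : D.eval (-1) = 0 := by
      rw [hev1]
      obtain ⟨hp, hq⟩ | ⟨hp, hq⟩ := h
      · simp [hq, hj.ne']
      · simp [hp, hi.ne']
    refine Groth.Agent.Helper7.Wronsk.le_finrank D hD0 3 (a + 1 + 1) W ?_ ?_
    · intro f hf
      rw [degreeLT_succ_eq_degreeLE]
      exact mem_degreeLE.2 (hVmem f hf.1).1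
    · intro L hL
      refine ⟨?_, Ideal.mem_span_singleton.2 (dvd_mul_right D L)⟩
      rw [hV]
      refine Submodule.mem_sup_right ⟨?_, ?_⟩
      · refine Ideal.mem_span_singleton.2 ?_
        have hXD : (X : k[X]) ∣ D := X_dvd_iff.2 (by rw [coeff_zero_eq_eval_zero]; exact h0)
        have hX1D : (X + 1 : k[X]) ∣ D := by
          have e : (X + 1 : k[X]) = X - C (-1) := by simp
          rw [e]; exact dvd_iff_isRoot.2 h1
        have hcop : IsCoprime (X : k[X]) (X + 1) := ⟨-1, 1, by ring⟩
        exact (hcop.mul_dvd hXD hX1D).mul_right L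
      · apply mem_degreeLE.2
        have hL2 : L.natDegree ≤ 2 := by
          by_cases hL0 : L = 0
          · simp [hL0]
          · have := (natDegree_lt_iff_degree_lt hL0).2 hL; omega
        refine degree_le_of_natDegree_le ((natDegree_mul_le).trans ?_)
        rw [hDdeg]; omega

end Groth.Agent.S16264
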