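import Groth.Statements.S16265
import Groth.Agent.Lib.Helper17.FF26

set_option autoImplicit false
open FunFld

namespace Groth.Agent.S16265

/-- Let `K/k` be a function field of one variable over an algebraically closed field `k` of
characteristic zero (the function field of a smooth projective curve), `D` a divisor and `V ⊆ L(D)`
a linear system of dimension `r + 1`; write `V(-mP-nQ) = V ∩ L(D - mP - nQ)` for the members
vanishing to the indicated orders. Assume `V` has no special ramification point, i.e. no place of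
weight at least two: for every place `R`, `dim V(-rR) ≤ 1` and `V(-(r+2)R) = 0`. Let `P ≠ Q` be
places and `a, b ≥ 1` with `a + b = r + 1` (so that `V(-aP)` and `V(-bQ)` have dimensions `b` and
`a`). Then the following are equivalent: (1) the system `V(-aP)` has weight at least two at `Q`,
that is `dim V(-aP-(b-1)Q) ≥ 2` or `dim V(-aP-(b+1)Q) ≥ 1`, and the system `V(-bQ)` has weight at
least two at `P`, that is `dim V(-(a-1)P-bQ) ≥ 2` or `dim V(-(a+1)P-bQ) ≥ 1`; (2) one of (a) `dim
V(-(a+1)P-(b+1)Q) ≥ 1`, (b) `dim V(-(a-1)P-(b-1)Q) ≥ 3`, (c) `dim V(-aP-(b+1)Q) ≥ 1` and `dim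
V(-(a-1)P-bQ) ≥ 2`, (d) `dim V(-(a+1)P-bQ) ≥ 1` and `dim V(-aP-(b-1)Q) ≥ 2`. (The published
statement is for a smooth curve over the complex numbers.) -/
theorem result
    (k K : Type*) [Field k] [IsAlgClosed k] [CharZero k] [Field K] [Algebra k K]
    (hK : FunFld.IsFunctionField k K) (D : FunFld.Divisor k K)
    (V : Submodule k K) (hVD : V ≤ FunFld.L D) (r : ℕ) (hr : Module.finrank k ↥V = r + 1)
    (hns : ∀ R : FunFld.Place k K,
      Module.finrank k ↥(V ⊓ FunFld.L (D - Finsupp.single R (r : ℤ))) ≤ 1 ∧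
        V ⊓ FunFld.L (D - Finsupp.single R ((r : ℤ) + 2)) = ⊥)
    (P Q : FunFld.Place k K) (hPQ : P ≠ Q) (a b : ℕ) (ha : 1 ≤ a) (hb : 1 ≤ b) (hab : a + b = r + 1) :
    ((2 ≤ Module.finrank k ↥(V ⊓ FunFld.L (D - Finsupp.single P (a : ℤ) - Finsupp.single Q ((b : ℤ) - 1 : ℤ))) ∨
        1 ≤ Module.finrank k ↥(V ⊓ FunFld.L (D - Finsupp.single P (a : ℤ) - Finsupp.single Q ((b : ℤ) + 1 : ℤ)))) ∧
      (2 ≤ Module.finrank k ↥(V ⊓ FunFld.L (D - Finsupp.single P ((a : ℤ) - 1 : ℤ) - Finsupp.single Q (b : ℤ))) ∨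
        1 ≤ Module.finrank k ↥(V ⊓ FunFld.L (D - Finsupp.single P ((a : ℤ) + 1 : ℤ) - Finsupp.single Q (b : ℤ))))) ↔
    (1 ≤ Module.finrank k ↥(V ⊓ FunFld.L (D - Finsupp.single P ((a : ℤ) + 1 : ℤ) - Finsupp.single Q ((b : ℤ) + 1 : ℤ))) ∨
      3 ≤ Module.finrank k ↥(V ⊓ FunFld.L (D - Finsupp.single P ((a : ℤ) - 1 : ℤ) - Finsupp.single Q ((b : ℤ) - 1 : ℤ))) ∨
      (1 ≤ Module.finrank k ↥(V ⊓ FunFld.L (D - Finsupp.single P (a : ℤ) - Finsupp.single Q ((b : ℤ) + 1 : ℤ))) ∧
        2 ≤ Module.finrank k ↥(V ⊓ FunFld.L (D - Finsupp.single P ((a : ℤ) - 1 : ℤ) - Finsupp.single Q (b : ℤ)))) ∨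
      (1 ≤ Module.finrank k ↥(V ⊓ FunFld.L (D - Finsupp.single P ((a : ℤ) + 1 : ℤ) - Finsupp.single Q (b : ℤ))) ∧
        2 ≤ Module.finrank k ↥(V ⊓ FunFld.L (D - Finsupp.single P (a : ℤ) - Finsupp.single Q ((b : ℤ) - 1 : ℤ))))) := by
  classical
  haveI : FiniteDimensional k V := Module.finite_of_finrank_pos (by rw [hr]; omega)
  have hfdW : ∀ m n : ℤ, FiniteDimensional k
      ↥(V ⊓ FunFld.L (D - Finsupp.single P m - Finsupp.single Q n)) := fun m n =>
    Submodule.finiteDimensional_of_le inf_le_left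
  have hdegP : P.deg = 1 := Groth.Agent.Helper17.FF.deg_eq_one_of_isAlgClosed hK P
  have hdegQ : Q.deg = 1 := Groth.Agent.Helper17.FF.deg_eq_one_of_isAlgClosed hK Q
  -- monotonicity
  have hmono : ∀ {m n m' n' : ℤ}, m ≤ m' → n ≤ n' →
      V ⊓ FunFld.L (D - Finsupp.single P m' - Finsupp.single Q n') ≤
        V ⊓ FunFld.L (D - Finsupp.single P m - Finsupp.single Q n) := by
    intro m n m' n' hm hn
    refine inf_le_inf_left V (Groth.Agent.Helper17.FF.L_mono ?_)
    intro R
    simp only [Finsupp.coe_sub, Pi.sub_apply, Finsupp.single_apply]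
    split_ifs <;> omega
  have hmonoN : ∀ {m n m' n' : ℤ}, m ≤ m' → n ≤ n' →
      Module.finrank k ↥(V ⊓ FunFld.L (D - Finsupp.single P m' - Finsupp.single Q n')) ≤
        Module.finrank k ↥(V ⊓ FunFld.L (D - Finsupp.single P m - Finsupp.single Q n)) := by
    intro m n m' n' hm hn
    haveI := hfdW m n
    exact Submodule.finrank_mono (hmono hm hn)
  -- intersection
  have hinter : ∀ (m n m' n' : ℤ),
      (V ⊓ FunFld.L (D - Finsupp.single P m - Finsupp.single Q n)) ⊓
        (V ⊓ FunFld.L (D - Finsupp.single P m' - Finsupp.single Q n')) ≤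
      V ⊓ FunFld.L (D - Finsupp.single P (max m m') - Finsupp.single Q (max n n')) := by
    intro m n m' n' x hx
    refine ⟨hx.1.1, Groth.Agent.Helper17.FF.L_inf_le ?_ ⟨hx.1.2, hx.2.2⟩⟩
    intro R
    simp only [Finsupp.coe_sub, Pi.sub_apply, Finsupp.single_apply]
    split_ifs with hPR hQR hQR
    · exact absurd (hPR.trans hQR.symm) hPQ
    · simp only [min_le_iff]
      rcases le_total m m' with h | h
      · right; rw [max_eq_right h]
      · left; rw [max_eq_left h]
    · simp only [min_le_iff]
      rcases le_total n n' with h | h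
      · right; rw [max_eq_right h]
      · left; rw [max_eq_left h]
    · simp
  -- steps
  have hstepP : ∀ m n : ℤ,
      Module.finrank k ↥(V ⊓ FunFld.L (D - Finsupp.single P m - Finsupp.single Q n)) ≤
        Module.finrank k ↥(V ⊓ FunFld.L (D - Finsupp.single P (m + 1) - Finsupp.single Q n)) + 1 := by
    intro m n
    have h := Groth.Agent.Helper17.FF.finrank_inf_L_sub_single hK V
      (D - Finsupp.single P m - Finsupp.single Q n) P
    have e : D - Finsupp.single P m - Finsupp.single Q n - Finsupp.single P 1 =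
        D - Finsupp.single P (m + 1) - Finsupp.single Q n := by
      rw [Finsupp.single_add]; abel
    rw [e, hdegP] at h
    exact h
  have hstepQ : ∀ m n : ℤ,
      Module.finrank k ↥(V ⊓ FunFld.L (D - Finsupp.single P m - Finsupp.single Q n)) ≤
        Module.finrank k ↥(V ⊓ FunFld.L (D - Finsupp.single P m - Finsupp.single Q (n + 1))) + 1 := by
    intro m n
    have h := Groth.Agent.Helper17.FF.finrank_inf_L_sub_single hK V
      (D - Finsupp.single P m - Finsupp.single Q n) Q
    have e : D - Finsupp.single P m - Finsupp.single Q n - Finsupp.single Q 1 =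
        D - Finsupp.single P m - Finsupp.single Q (n + 1) := by
      rw [Finsupp.single_add]; abel
    rw [e, hdegQ] at h
    exact h
  -- abbreviations
  set A : ℤ := (a : ℤ) with hAdef
  set B : ℤ := (b : ℤ) with hBdef
  constructor
  · rintro ⟨h1, h2⟩
    rcases h1 with h1 | h1
    · rcases h2 with h2 | h2
      · -- (i)
        by_cases h3 : 3 ≤ Module.finrank k
            ↥(V ⊓ FunFld.L (D - Finsupp.single P (A - 1) - Finsupp.single Q (B - 1)))
        · exact Or.inr (Or.inl h3)
        · have h3' : Module.finrank k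
              ↥(V ⊓ FunFld.L (D - Finsupp.single P (A - 1) - Finsupp.single Q (B - 1))) ≤ 2 := by
            omega
          haveI := hfdW (A - 1) (B - 1)
          have e1 : V ⊓ FunFld.L (D - Finsupp.single P A - Finsupp.single Q (B - 1)) =
              V ⊓ FunFld.L (D - Finsupp.single P (A - 1) - Finsupp.single Q (B - 1)) :=
            Submodule.eq_of_le_of_finrank_le (hmono (by omega) le_rfl) (by omega)
          have e2 : V ⊓ FunFld.L (D - Finsupp.single P (A - 1) - Finsupp.single Q B) =
              V ⊓ FunFld.L (D - Finsupp.single P (A - 1) - Finsupp.single Q (B - 1)) :=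
            Submodule.eq_of_le_of_finrank_le (hmono le_rfl (by omega)) (by omega)
          have h4 := hinter A (B - 1) (A - 1) B
          rw [e1, e2, inf_idem, max_eq_left (by omega : A - 1 ≤ A),
            max_eq_right (by omega : B - 1 ≤ B)] at h4
          haveI := hfdW A B
          have h5 := Submodule.finrank_mono h4
          have h6 := hstepP A B
          rw [e1] at h1
          exact Or.inr (Or.inr (Or.inr ⟨by omega, by rw [e1]; exact h1⟩))
      · exact Or.inr (Or.inr (Or.inr ⟨h2, h1⟩))
    · rcases h2 with h2 | h2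
      · exact Or.inr (Or.inr (Or.inl ⟨h1, h2⟩))
      · -- (iv)
        by_cases h3 : 1 ≤ Module.finrank k
            ↥(V ⊓ FunFld.L (D - Finsupp.single P (A + 1) - Finsupp.single Q (B + 1)))
        · exact Or.inl h3
        · haveI := hfdW (A + 1) (B + 1)
          have h3' : V ⊓ FunFld.L (D - Finsupp.single P (A + 1) - Finsupp.single Q (B + 1)) = ⊥ := by
            rw [← Submodule.finrank_eq_zero]; omega
          have h4 := hinter A (B + 1) (A + 1) B
          rw [max_eq_right (by omega : A ≤ A + 1), max_eq_left (by omega : B ≤ B + 1), h3',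
            le_bot_iff] at h4
          haveI := hfdW A (B + 1)
          haveI := hfdW (A + 1) B
          have h5 := Submodule.finrank_sup_add_finrank_inf_eq
            (V ⊓ FunFld.L (D - Finsupp.single P A - Finsupp.single Q (B + 1)))
            (V ⊓ FunFld.L (D - Finsupp.single P (A + 1) - Finsupp.single Q B))
          rw [h4, finrank_bot, add_zero] at h5
          have h6 : (V ⊓ FunFld.L (D - Finsupp.single P A - Finsupp.single Q (B + 1))) ⊔
              (V ⊓ FunFld.L (D - Finsupp.single P (A + 1) - Finsupp.single Q B)) ≤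
              V ⊓ FunFld.L (D - Finsupp.single P A - Finsupp.single Q B) :=
            sup_le (hmono le_rfl (by omega)) (hmono (by omega) le_rfl)
          haveI := hfdW A B
          have h7 := Submodule.finrank_mono h6
          have h8 := hmonoN (m := A - 1) (n := B) (m' := A) (n' := B) (by omega) le_rfl
          exact Or.inr (Or.inr (Or.inl ⟨h1, by omega⟩))
  · rintro (h | h | ⟨h1, h2⟩ | ⟨h1, h2⟩)
    · have h1 := hmonoN (m := A) (n := B + 1) (m' := A + 1) (n' := B + 1) (by omega) le_rfl
      have h2 := hmonoN (m := A + 1) (n := B) (m' := A + 1) (n' := B + 1) le_rfl (by omega)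
      exact ⟨Or.inr (by omega), Or.inr (by omega)⟩
    · have h1 := hstepP (A - 1) (B - 1)
      have h2 := hstepQ (A - 1) (B - 1)
      rw [sub_add_cancel] at h1 h2
      exact ⟨Or.inl (by omega), Or.inl (by omega)⟩
    · exact ⟨Or.inr h1, Or.inl h2⟩
    · exact ⟨Or.inl h2, Or.inr h1⟩

end Groth.Agent.S16265
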