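import Groth.Statements.S16266
import Groth.Agent.Lib.Helper17.FF26

set_option autoImplicit false
open FunFld

namespace Groth.Agent.S16266

/-- Let `K/k` be a function field of one variable over an algebraically closed field `k` of
characteristic zero, `D` a divisor, `V ⊆ L(D)` a linear system of dimension `r + 1` with `r ≥ 1`,
and `P` a place with `V' = V(-P) = V ∩ L(D - P) ≠ V`, an `r`-dimensional system in `L(D - P)`.
Assume that neither `V` nor `V'` has a special ramification point (a place of weight at least two):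
for every place `R`, `dim V ∩ L(D - rR) ≤ 1`, `V ∩ L(D - (r+2)R) = 0`, `dim V' ∩ L(D - P - (r-1)R) ≤
1` and `V' ∩ L(D - P - (r+1)R) = 0`. Then no place `Q ≠ P` is a ramification point of both `V` and
`V'`: for no such `Q` are both `V ∩ L(D - (r+1)Q)` and `V' ∩ L(D - P - rQ)` nonzero. (The published
statement is for a smooth curve over the complex numbers.) -/
theorem result
    (k K : Type*) [Field k] [IsAlgClosed k] [CharZero k] [Field K] [Algebra k K]
    (hK : FunFld.IsFunctionField k K) (D : FunFld.Divisor k K)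
    (V : Submodule k K) (hVD : V ≤ FunFld.L D) (r : ℕ) (hr : Module.finrank k ↥V = r + 1) (hr1 : 1 ≤ r)
    (P : FunFld.Place k K) (hP : V ⊓ FunFld.L (D - Finsupp.single P 1) ≠ V)
    (hns : ∀ R : FunFld.Place k K,
      Module.finrank k ↥(V ⊓ FunFld.L (D - Finsupp.single R (r : ℤ))) ≤ 1 ∧
        V ⊓ FunFld.L (D - Finsupp.single R ((r : ℤ) + 2)) = ⊥)
    (hns' : ∀ R : FunFld.Place k K,
      Module.finrank k ↥(V ⊓ FunFld.L (D - Finsupp.single P 1 - Finsupp.single R ((r : ℤ) - 1))) ≤ 1 ∧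
        V ⊓ FunFld.L (D - Finsupp.single P 1 - Finsupp.single R ((r : ℤ) + 1)) = ⊥)
    (Q : FunFld.Place k K) (hQP : Q ≠ P) :
    ¬ (V ⊓ FunFld.L (D - Finsupp.single Q ((r : ℤ) + 1)) ≠ ⊥ ∧
       V ⊓ FunFld.L (D - Finsupp.single P 1 - Finsupp.single Q (r : ℤ)) ≠ ⊥) := by
  classical
  rintro ⟨h1, h2⟩
  haveI : FiniteDimensional k V := Module.finite_of_finrank_pos (by rw [hr]; omega)
  obtain ⟨hQ1, -⟩ := hns Q
  obtain ⟨-, hQ2'⟩ := hns' Q
  have hle : V ⊓ FunFld.L (D - Finsupp.single Q ((r : ℤ) + 1)) ≤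
      V ⊓ FunFld.L (D - Finsupp.single Q (r : ℤ)) := by
    refine inf_le_inf_left V (Groth.Agent.Helper17.FF.L_mono ?_)
    intro R
    simp only [Finsupp.coe_sub, Pi.sub_apply, Finsupp.single_apply]
    split_ifs <;> omega
  haveI : FiniteDimensional k ↥(V ⊓ FunFld.L (D - Finsupp.single Q (r : ℤ))) :=
    Submodule.finiteDimensional_of_le (inf_le_left : V ⊓ FunFld.L (D - Finsupp.single Q (r : ℤ)) ≤ V)
  haveI : FiniteDimensional k ↥(V ⊓ FunFld.L (D - Finsupp.single Q ((r : ℤ) + 1))) :=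
    Submodule.finiteDimensional_of_le
      (inf_le_left : V ⊓ FunFld.L (D - Finsupp.single Q ((r : ℤ) + 1)) ≤ V)
  have hpos : 1 ≤ Module.finrank k ↥(V ⊓ FunFld.L (D - Finsupp.single Q ((r : ℤ) + 1))) := by
    rw [Nat.succ_le_iff, Module.finrank_pos_iff, Submodule.nontrivial_iff_ne_bot]
    exact h1
  have heq : V ⊓ FunFld.L (D - Finsupp.single Q ((r : ℤ) + 1)) =
      V ⊓ FunFld.L (D - Finsupp.single Q (r : ℤ)) :=
    Submodule.eq_of_le_of_finrank_le hle (by omega)
  obtain ⟨g, hg, hg0⟩ := Submodule.exists_mem_ne_zero_of_ne_bot h2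
  have hg1 : g ∈ V ⊓ FunFld.L (D - Finsupp.single Q (r : ℤ)) := by
    refine ⟨hg.1, Groth.Agent.Helper17.FF.L_mono ?_ hg.2⟩
    intro R
    simp only [Finsupp.coe_sub, Pi.sub_apply, Finsupp.single_apply]
    split_ifs <;> omega
  rw [← heq] at hg1
  have hg2 : g ∈ FunFld.L (D - Finsupp.single P 1 - Finsupp.single Q ((r : ℤ) + 1)) := by
    refine Groth.Agent.Helper17.FF.L_inf_le ?_ ⟨hg.2, hg1.2⟩
    intro R
    simp only [Finsupp.coe_sub, Pi.sub_apply, Finsupp.single_apply]
    split_ifs with hPR hQR hQR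
    · exact absurd (hQR.trans hPR.symm) hQP
    · simp only [min_le_iff]; omega
    · simp only [min_le_iff]; omega
    · simp only [min_le_iff]; omega
  have hg3 : g ∈ V ⊓ FunFld.L (D - Finsupp.single P 1 - Finsupp.single Q ((r : ℤ) + 1)) :=
    ⟨hg.1, hg2⟩
  rw [hQ2'] at hg3
  exact hg0 ((Submodule.mem_bot k).1 hg3)

end Groth.Agent.S16266
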