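import Groth.Statements.S16272
import Mathlib
-- import your own Groth.Agent.* helpers here

set_option autoImplicit false
universe w' w v u
open CategoryTheory
open NonAbH1

namespace Groth.Agent.S16272

/-- The class map is well defined: let C be a category with a Grothendieck topology J, G a sheaf of
groups and U a family of objects. A G-torsor P with a section over every U_i has exactly one Cech
class on U: choosing sections s_i of P over the U_i cuts out a 1-cocycle of G on U, and its class in
the Cech cohomology set H^1(U, G) does not depend on the choice. (The published statement is for an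
etale covering of a scheme; this row is stated for any family of objects of any site.) -/
theorem result {C : Type u} [Category.{v} C]
    {J : GrothendieckTopology C} {G : Sheaf J GrpCat.{w}} (P : NonAbH1.Torsor G)
    {I : Type w'} (U : I → C) (hP : P.TrivialisedBy U) :
    ∃! c : PresheafOfGroups.H1 G.obj U, P.HasCechClass U c := by
  classical
  let s : ∀ i, P.P.obj.obj (Opposite.op (U i)) := fun i => (hP i).some
  have hpt : ∀ (T : Cᵒᵖ) (p q : P.P.obj.obj T), ∃! g : G.obj.obj T, P.smul g p = q := P.isTorsor.1
  have huniq : ∀ (T : Cᵒᵖ) (p : P.P.obj.obj T) (g g' : G.obj.obj T),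
      P.smul g p = P.smul g' p → g = g' := by
    intro T p g g' h
    exact (hpt T p (P.smul g' p)).unique h rfl
  let ev : ∀ (i j : I) ⦃T : C⦄ (a : T ⟶ U i) (b : T ⟶ U j), G.obj.obj (Opposite.op T) := fun i j T a b =>
    (hpt (Opposite.op T) (P.P.obj.map b.op (s j)) (P.P.obj.map a.op (s i))).choose
  have hev : ∀ (i j : I) ⦃T : C⦄ (a : T ⟶ U i) (b : T ⟶ U j),
      P.smul (ev i j a b) (P.P.obj.map b.op (s j)) = P.P.obj.map a.op (s i) :=
    fun i j T a b => (hpt _ _ _).choose_spec.1
  let γ : PresheafOfGroups.OneCocycle G.obj U :=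
    { ev := ev
      ev_precomp := by
        intro i j T T' φ a b
        apply huniq (Opposite.op T) (P.P.obj.map (φ ≫ b).op (s j))
        rw [hev]
        have h1 : P.P.obj.map (φ ≫ b).op (s j) = P.P.obj.map φ.op (P.P.obj.map b.op (s j)) := by
          rw [op_comp, FunctorToTypes.map_comp_apply]
        have h2 : P.P.obj.map (φ ≫ a).op (s i) = P.P.obj.map φ.op (P.P.obj.map a.op (s i)) := by
          rw [op_comp, FunctorToTypes.map_comp_apply]
        rw [h1, h2, ← P.map_smul, hev]
      ev_trans := by
        intro i j k T a b c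
        apply huniq (Opposite.op T) (P.P.obj.map c.op (s k))
        rw [P.mul_smul, hev, hev, hev] }
  have hγ : ∀ (i j : I) ⦃T : C⦄ (a : T ⟶ U i) (b : T ⟶ U j),
      P.smul (γ.ev i j a b) (P.P.obj.map b.op (s j)) = P.P.obj.map a.op (s i) := hev
  refine ⟨γ.class, ⟨s, γ, hγ, rfl⟩, ?_⟩
  rintro c' ⟨s', γ', hcoc', rfl⟩
  apply PresheafOfGroups.OneCocycle.IsCohomologous.class_eq
  let α : PresheafOfGroups.ZeroCochain G.obj U := fun i => (hpt (Opposite.op (U i)) (s' i) (s i)).choose
  have hα : ∀ i, P.smul (α i) (s' i) = s i := fun i => (hpt _ _ _).choose_spec.1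
  refine ⟨α, ?_⟩
  intro i j T a b
  apply huniq (Opposite.op T) (P.P.obj.map b.op (s' j))
  rw [P.mul_smul, P.mul_smul, hcoc' i j a b, ← P.map_smul, ← P.map_smul, hα, hα, hγ]

end Groth.Agent.S16272
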