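import Groth.Statements.S16273
import Mathlib
import Groth.Agent.Lib.Helper7.Torsor7
-- import your own Groth.Agent.* helpers here

set_option autoImplicit false
universe w' w v u
open CategoryTheory
open NonAbH1

namespace Groth.Agent.S16273

open Opposite Groth.Agent.Lib.Helper7.Torsor7

section
variable {C : Type u} [Category.{v} C] {J : GrothendieckTopology C} {G : Sheaf J GrpCat.{w}}
  {I : Type w'} {U : I → C}

theorem cocycleOf_smul (Q : NonAbH1.GSheaf G) {γ γ' : PresheafOfGroups.OneCocycle G.obj U}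
    {s' : ∀ i, Q.P.obj.obj (op (U i))} (hs' : Q.IsCocycleOf U s' γ')
    {α : PresheafOfGroups.ZeroCochain G.obj U}
    (rel : PresheafOfGroups.OneCohomologyRelation γ'.toOneCochain γ.toOneCochain α) :
    Q.IsCocycleOf U (fun i => Q.smul (α i) (s' i)) γ := by
  intro i j T a b
  show Q.smul (γ.ev i j a b) (Q.P.obj.map b.op (Q.smul (α j) (s' j))) =
    Q.P.obj.map a.op (Q.smul (α i) (s' i))
  have h := rel i j a b
  rw [Q.map_smul, Q.map_smul, ← Q.mul_smul, ← h, Q.mul_smul, hs' i j a b]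

structure Dat (P Q : NonAbH1.GSheaf G) (γ : PresheafOfGroups.OneCocycle G.obj U) where
  s : ∀ i, P.P.obj.obj (op (U i))
  hs : P.IsCocycleOf U s γ
  s' : ∀ i, Q.P.obj.obj (op (U i))
  hs' : Q.IsCocycleOf U s' γ
  d : ∀ (W : C) (i : I) (_ : W ⟶ U i) (_ : P.P.obj.obj (op W)), G.obj.obj (op W)
  hd : ∀ (W : C) (i : I) (b : W ⟶ U i) (p' : P.P.obj.obj (op W)),
    P.smul (d W i b p') (P.P.obj.map b.op (s i)) = p'
  hdu : ∀ (W : C) (i : I) (b : W ⟶ U i) (p' : P.P.obj.obj (op W)) (y : G.obj.obj (op W)),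
    P.smul y (P.P.obj.map b.op (s i)) = p' → y = d W i b p'

variable {P Q : NonAbH1.GSheaf G} {γ : PresheafOfGroups.OneCocycle G.obj U}

def Dat.psi (D : Dat P Q γ) (W : C) (i : I) (b : W ⟶ U i) (p' : P.P.obj.obj (op W)) :
    Q.P.obj.obj (op W) :=
  Q.smul (D.d W i b p') (Q.P.obj.map b.op (D.s' i))

theorem Dat.psi_indep (D : Dat P Q γ) (W : C) (i j : I) (a : W ⟶ U i) (b : W ⟶ U j)
    (p' : P.P.obj.obj (op W)) : D.psi W i a p' = D.psi W j b p' := by
  have e : D.d W j b p' = D.d W i a p' * γ.ev i j a b :=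
    (D.hdu W j b p' _ (by rw [P.mul_smul, D.hs i j a b, D.hd])).symm
  show Q.smul (D.d W i a p') (Q.P.obj.map a.op (D.s' i)) =
    Q.smul (D.d W j b p') (Q.P.obj.map b.op (D.s' j))
  rw [e, Q.mul_smul, D.hs' i j a b]

theorem Dat.psi_res (D : Dat P Q γ) (W W' : C) (k : W' ⟶ W) (i : I) (b : W ⟶ U i)
    (p' : P.P.obj.obj (op W)) :
    Q.P.obj.map k.op (D.psi W i b p') = D.psi W' i (k ≫ b) (P.P.obj.map k.op p') := by
  have e : D.d W' i (k ≫ b) (P.P.obj.map k.op p') = G.obj.map k.op (D.d W i b p') :=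
    (D.hdu W' i (k ≫ b) _ _ (by
      rw [Rmap_comp P.P b k (D.s i), ← P.map_smul, D.hd])).symm
  show Q.P.obj.map k.op (Q.smul (D.d W i b p') (Q.P.obj.map b.op (D.s' i))) =
    Q.smul (D.d W' i (k ≫ b) (P.P.obj.map k.op p')) (Q.P.obj.map (k ≫ b).op (D.s' i))
  rw [e, Q.map_smul, Rmap_comp Q.P b k (D.s' i)]

theorem Dat.psi_smul (D : Dat P Q γ) (W : C) (i : I) (b : W ⟶ U i) (g : G.obj.obj (op W))
    (p' : P.P.obj.obj (op W)) : D.psi W i b (P.smul g p') = Q.smul g (D.psi W i b p') := by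
  have e : D.d W i b (P.smul g p') = g * D.d W i b p' :=
    (D.hdu W i b _ _ (by rw [P.mul_smul, D.hd])).symm
  show Q.smul (D.d W i b (P.smul g p')) (Q.P.obj.map b.op (D.s' i)) =
    Q.smul g (Q.smul (D.d W i b p') (Q.P.obj.map b.op (D.s' i)))
  rw [e, Q.mul_smul]

theorem Dat.exists_hom (hU : J.CoversTop U) (D : Dat P Q γ) : Nonempty (P ⟶ Q) := by
  have key : ∀ (V : C) (p : P.P.obj.obj (op V)), ∃! z : Q.P.obj.obj (op V),
      ∀ ⦃W : C⦄ (f : W ⟶ V) (hf : (Sieve.ofObjects U V) f),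
        Q.P.obj.map f.op z =
          D.psi W hf.choose hf.choose_spec.some (P.P.obj.map f.op p) := by
    intro V p
    refine R_glue Q.P (Sieve.ofObjects U V) (hU V)
      (fun W f hf => D.psi W hf.choose hf.choose_spec.some (P.P.obj.map f.op p)) ?_
    intro W W' f k hf
    show D.psi W' _ _ (P.P.obj.map (k ≫ f).op p) =
      Q.P.obj.map k.op (D.psi W _ _ (P.P.obj.map f.op p))
    rw [D.psi_res, ← Rmap_comp P.P f k p]
    exact D.psi_indep _ _ _ _ _ _
  choose φ hφ hφu using key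
  have hφ' : ∀ (V : C) (p : P.P.obj.obj (op V)) ⦃W : C⦄ (f : W ⟶ V) (i : I) (b : W ⟶ U i),
      Q.P.obj.map f.op (φ V p) = D.psi W i b (P.P.obj.map f.op p) := by
    intro V p W f i b
    have hf : (Sieve.ofObjects U V) f := ⟨i, ⟨b⟩⟩
    rw [hφ V p f hf]
    exact D.psi_indep _ _ _ _ _ _
  have hφu' : ∀ (V : C) (p : P.P.obj.obj (op V)) (z : Q.P.obj.obj (op V)),
      (∀ ⦃W : C⦄ (f : W ⟶ V) (i : I) (b : W ⟶ U i),
        Q.P.obj.map f.op z = D.psi W i b (P.P.obj.map f.op p)) → z = φ V p := by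
    intro V p z hz
    apply hφu V p z
    intro W f hf
    exact hz f _ _
  refine ⟨mkHom P Q (fun V p => φ V.unop p) ?_ ?_⟩
  · intro V V' f p
    obtain ⟨V⟩ := V
    obtain ⟨V'⟩ := V'
    show φ V' (P.P.obj.map f p) = Q.P.obj.map f (φ V p)
    symm
    apply hφu'
    intro W k i b
    have h2 : Q.P.obj.map k.op (Q.P.obj.map f (φ V p)) =
        Q.P.obj.map (k ≫ f.unop).op (φ V p) := (Rmap_comp Q.P f.unop k (φ V p)).symm
    have h3 : P.P.obj.map k.op (P.P.obj.map f p) = P.P.obj.map (k ≫ f.unop).op p :=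
      (Rmap_comp P.P f.unop k p).symm
    rw [h2, h3]
    exact hφ' V p (k ≫ f.unop) i b
  · intro V g p
    obtain ⟨V⟩ := V
    show φ V (P.smul g p) = Q.smul g (φ V p)
    symm
    apply hφu'
    intro W k i b
    rw [Q.map_smul, P.map_smul, D.psi_smul, hφ' V p k i b]

end


/-- Let C be a category with a Grothendieck topology J, G a sheaf of groups and U a family of objects
which covers every object of the site. Two G-torsors admitting a common Cech class in H^1(U, G)
(each cut out by some family of sections over the U_i) are equivariantly isomorphic. (The published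
statement is for an etale covering of a scheme; this row is stated for any family of objects
covering the site.) -/
theorem result {C : Type u} [Category.{v} C]
    {J : GrothendieckTopology C} {G : Sheaf J GrpCat.{w}} {I : Type w'} (U : I → C) (hU : J.CoversTop U)
    (P Q : NonAbH1.Torsor G)
    (c : PresheafOfGroups.H1 G.obj U) (hPc : P.HasCechClass U c) (hQc : Q.HasCechClass U c) :
    Nonempty (P.toGSheaf ≅ Q.toGSheaf) := by
  obtain ⟨s, γ, hs, hγ⟩ := hPc
  obtain ⟨s', γ', hs', hγ'⟩ := hQc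
  obtain ⟨α, hα⟩ := (PresheafOfGroups.OneCocycle.class_eq_iff γ' γ).1 (hγ'.trans hγ.symm)
  have hs'' := cocycleOf_smul Q.toGSheaf hs' hα
  have ex : ∀ (W : C) (i : I) (b : W ⟶ U i) (p' : P.P.obj.obj (op W)),
      ∃! g : G.obj.obj (op W), P.smul g (P.P.obj.map b.op (s i)) = p' :=
    fun W i b p' => P.isTorsor.1 (op W) _ p'
  choose d hd hdu using ex
  obtain ⟨φ⟩ := Dat.exists_hom hU (P := P.toGSheaf) (Q := Q.toGSheaf) ⟨s, hs, _, hs'', d, hd, hdu⟩
  exact ⟨isoOfTorsorHom P.isTorsor Q.isTorsor.1 φ⟩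

end Groth.Agent.S16273
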