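import Groth.Statements.S16274
import Mathlib
-- import your own Groth.Agent.* helpers here

set_option autoImplicit false
universe w' w v u
open CategoryTheory
open NonAbH1

namespace Groth.Agent.S16274


open Opposite

section
variable {C : Type u} [Category.{v} C] {J : GrothendieckTopology C} (G : Sheaf J GrpCat.{w})

lemma Gmap_comp {W W' W'' : C} (k : W' ⟶ W) (l : W'' ⟶ W') (z : G.obj.obj (op W)) :
    G.obj.map (l ≫ k).op z = G.obj.map l.op (G.obj.map k.op z) := by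
  rw [op_comp, CategoryTheory.Functor.map_comp]; rfl

lemma Gmap_id {W : C} (z : G.obj.obj (op W)) : G.obj.map (𝟙 W).op z = z := by
  rw [op_id, CategoryTheory.Functor.map_id]; rfl

theorem G_glue {W : C} (S : Sieve W) (hS : S ∈ J W)
    (y : ∀ ⦃W' : C⦄ (h : W' ⟶ W), S h → G.obj.obj (op W'))
    (hy : ∀ ⦃W' W'' : C⦄ (h : W' ⟶ W) (k : W'' ⟶ W') (hh : S h),
      y (k ≫ h) (S.downward_closed hh k) = G.obj.map k.op (y h hh)) :
    ∃! z : G.obj.obj (op W), ∀ ⦃W' : C⦄ (h : W' ⟶ W) (hh : S h), G.obj.map h.op z = y h hh := by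
  have hGs : Presieve.IsSheaf J (G.obj ⋙ forget GrpCat.{w}) :=
    Presieve.isSheaf_iso J (Functor.isoWhiskerLeft G.obj GrpCat.coyonedaObjIsoForget)
      (G.property _)
  have h1 := hGs S hS
  let x : Presieve.FamilyOfElements (G.obj ⋙ forget GrpCat.{w}) S.arrows :=
    fun W' h hh => y h hh
  have hx : x.Compatible := by
    rw [Presieve.compatible_iff_sieveCompatible]
    intro W' W'' h k hh
    exact hy h k hh
  obtain ⟨z, hz, hz'⟩ := h1 x hx
  exact ⟨z, fun W' h hh => hz h hh, fun z' hz'' => hz' z' (fun W' h hh => hz'' h hh)⟩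

theorem G_sep {W : C} (S : Sieve W) (hS : S ∈ J W) (z z' : G.obj.obj (op W))
    (h : ∀ ⦃W' : C⦄ (k : W' ⟶ W), S k → G.obj.map k.op z = G.obj.map k.op z') : z = z' := by
  obtain ⟨z0, _, huniq⟩ := G_glue G S hS (fun W' k _ => G.obj.map k.op z') (by
    intro W' W'' k l hk
    exact Gmap_comp G k l z')
  exact (huniq z (fun W' k hk => h k hk)).trans (huniq z' (fun W' k hk => rfl)).symm

variable {I : Type w'} {U : I → C} (γ : PresheafOfGroups.OneCocycle G.obj U)

/-- sections of the twisted torsor over `V` (big model) -/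
structure Sec (V : C) where
  t : ∀ ⦃W : C⦄ (f : W ⟶ V) (i : I) (a : W ⟶ U i), G.obj.obj (op W)
  nat : ∀ ⦃W W' : C⦄ (h : W' ⟶ W) (f : W ⟶ V) (i : I) (a : W ⟶ U i),
    t (h ≫ f) i (h ≫ a) = G.obj.map h.op (t f i a)
  tw : ∀ ⦃W : C⦄ (f : W ⟶ V) (i j : I) (a : W ⟶ U i) (b : W ⟶ U j),
    t f j b = t f i a * γ.ev i j a b

variable {G γ}

lemma Sec.ext' {V : C} {s s' : Sec G γ V}
    (h : ∀ ⦃W : C⦄ (f : W ⟶ V) (i : I) (a : W ⟶ U i), s.t f i a = s'.t f i a) : s = s' := by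
  obtain ⟨t, n1, n2⟩ := s
  obtain ⟨t', n1', n2'⟩ := s'
  have e : t = t' := by funext W f i a; exact h f i a
  subst e
  rfl

def Sec.res {V V' : C} (g : V' ⟶ V) (s : Sec G γ V) : Sec G γ V' where
  t W f i a := s.t (f ≫ g) i a
  nat W W' h f i a := by rw [Category.assoc]; exact s.nat h (f ≫ g) i a
  tw W f i j a b := s.tw (f ≫ g) i j a b

def Sec.smul {V : C} (x : G.obj.obj (op V)) (s : Sec G γ V) : Sec G γ V where
  t W f i a := G.obj.map f.op x * s.t f i a
  nat W W' h f i a := by rw [s.nat, Gmap_comp, map_mul]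
  tw W f i j a b := by rw [s.tw f i j a b, mul_assoc]

variable (G γ) in
def base (i : I) : Sec G γ (U i) where
  t W f j b := γ.ev i j f b
  nat W W' h f j b := (γ.ev_precomp i j h f b).symm
  tw W f j k b c := (γ.ev_trans i j k f b c).symm

lemma Sec.res_res {V V' V'' : C} (g : V' ⟶ V) (g' : V'' ⟶ V') (s : Sec G γ V) :
    Sec.res g' (Sec.res g s) = Sec.res (g' ≫ g) s := by
  apply Sec.ext'
  intro W f i a
  show s.t ((f ≫ g') ≫ g) i a = s.t (f ≫ g' ≫ g) i a
  rw [Category.assoc]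

lemma Sec.res_id {V : C} (s : Sec G γ V) : Sec.res (𝟙 V) s = s := by
  apply Sec.ext'
  intro W f i a
  show s.t (f ≫ 𝟙 V) i a = s.t f i a
  rw [Category.comp_id]

lemma Sec.one_smul {V : C} (s : Sec G γ V) : Sec.smul 1 s = s := by
  apply Sec.ext'
  intro W f i a
  show G.obj.map f.op 1 * s.t f i a = s.t f i a
  rw [map_one, one_mul]

lemma Sec.mul_smul {V : C} (x y : G.obj.obj (op V)) (s : Sec G γ V) :
    Sec.smul (x * y) s = Sec.smul x (Sec.smul y s) := by
  apply Sec.ext'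
  intro W f i a
  show G.obj.map f.op (x * y) * s.t f i a = G.obj.map f.op x * (G.obj.map f.op y * s.t f i a)
  rw [map_mul, mul_assoc]

lemma Sec.res_smul {V V' : C} (g : V' ⟶ V) (x : G.obj.obj (op V)) (s : Sec G γ V) :
    Sec.res g (Sec.smul x s) = Sec.smul (G.obj.map g.op x) (Sec.res g s) := by
  apply Sec.ext'
  intro W f i a
  show G.obj.map (f ≫ g).op x * s.t (f ≫ g) i a =
    G.obj.map f.op (G.obj.map g.op x) * s.t (f ≫ g) i a
  rw [Gmap_comp]

theorem sec_trans (hU : J.CoversTop U) {V : C} (s s' : Sec G γ V) :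
    ∃! x : G.obj.obj (op V), Sec.smul x s = s' := by
  classical
  have hS := hU V
  let ia : ∀ ⦃W : C⦄ (f : W ⟶ V), (Sieve.ofObjects U V) f → Σ i : I, (W ⟶ U i) :=
    fun W f hf => ⟨hf.choose, hf.choose_spec.some⟩
  let y : ∀ ⦃W : C⦄ (f : W ⟶ V), (Sieve.ofObjects U V) f → G.obj.obj (op W) :=
    fun W f hf => s'.t f (ia f hf).1 (ia f hf).2 * (s.t f (ia f hf).1 (ia f hf).2)⁻¹
  have hind : ∀ ⦃W : C⦄ (f : W ⟶ V) (i : I) (a : W ⟶ U i) (hf : (Sieve.ofObjects U V) f),
      y f hf = s'.t f i a * (s.t f i a)⁻¹ := by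
    intro W f i a hf
    show s'.t f (ia f hf).1 (ia f hf).2 * (s.t f (ia f hf).1 (ia f hf).2)⁻¹ = _
    rw [s'.tw f i (ia f hf).1 a (ia f hf).2, s.tw f i (ia f hf).1 a (ia f hf).2, mul_inv_rev,
      mul_assoc, mul_inv_cancel_left]
  have hy : ∀ ⦃W W' : C⦄ (f : W ⟶ V) (k : W' ⟶ W) (hf : (Sieve.ofObjects U V) f),
      y (k ≫ f) ((Sieve.ofObjects U V).downward_closed hf k) = G.obj.map k.op (y f hf) := by
    intro W W' f k hf
    rw [hind (k ≫ f) (ia f hf).1 (k ≫ (ia f hf).2), hind f (ia f hf).1 (ia f hf).2 hf,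
      s'.nat, s.nat, map_mul, map_inv]
  obtain ⟨x, hx, hxu⟩ := G_glue G _ hS y hy
  refine ⟨x, ?_, ?_⟩
  · apply Sec.ext'
    intro W f i a
    show G.obj.map f.op x * s.t f i a = s'.t f i a
    rw [hx f ⟨i, ⟨a⟩⟩, hind f i a, inv_mul_cancel_right]
  · intro x' hx'
    apply hxu
    intro W f hf
    rw [hind f (ia f hf).1 (ia f hf).2 hf]
    have h1 := congrArg (fun r : Sec G γ V => r.t f (ia f hf).1 (ia f hf).2) hx'
    have h2 : G.obj.map f.op x' * s.t f (ia f hf).1 (ia f hf).2 =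
        s'.t f (ia f hf).1 (ia f hf).2 := h1
    exact eq_mul_inv_of_mul_eq h2

instance secSmall [hU : Fact (J.CoversTop U)] (V : C) : Small.{w} (Sec G γ V) := by
  by_cases hne : Nonempty (Sec G γ V)
  · obtain ⟨s0⟩ := hne
    have hsurj : Function.Surjective (fun x : G.obj.obj (op V) => Sec.smul x s0) := by
      intro s'
      obtain ⟨x, hx, _⟩ := sec_trans hU.out s0 s'
      exact ⟨x, hx⟩
    exact small_of_surjective hsurj
  · haveI : IsEmpty (Sec G γ V) := not_nonempty_iff.1 hne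
    exact small_of_injective (β := PUnit.{w + 1}) (f := fun a => isEmptyElim a)
      (fun a => isEmptyElim a)

variable (G γ) in
/-- the big presheaf of sections -/
def Q : Cᵒᵖ ⥤ Type (max u v w w') where
  obj V := Sec G γ V.unop
  map g := ↾(fun s => Sec.res g.unop s)
  map_id V := by
    ext s
    exact Sec.res_id s
  map_comp g g' := by
    ext s
    exact (Sec.res_res g.unop g'.unop s).symm

lemma Q_map_apply {V V' : Cᵒᵖ} (g : V ⟶ V') (s : Sec G γ V.unop) :
    (Q G γ).map g s = Sec.res g.unop s := rfl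

theorem Q_isSheaf : Presieve.IsSheaf J (Q G γ) := by
  intro V S hS x hx
  rw [Presieve.compatible_iff_sieveCompatible] at hx
  have xc : ∀ ⦃Y : C⦄ (f f' : Y ⟶ V) (e : f = f') (hf : S f) (hf' : S f'),
      x f hf = x f' hf' := by
    intro Y f f' e hf hf'; subst e; rfl
  have hxres : ∀ ⦃Y Z : C⦄ (f : Y ⟶ V) (g : Z ⟶ Y) (hf : S f),
      x (g ≫ f) (S.downward_closed hf g) = Sec.res g (x f hf) := fun Y Z f g hf => hx f g hf
  have key : ∀ ⦃W : C⦄ (f : W ⟶ V) (i : I) (a : W ⟶ U i),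
      ∃! z : G.obj.obj (op W), ∀ ⦃W' : C⦄ (h : W' ⟶ W) (hh : S (h ≫ f)),
        G.obj.map h.op z = (x (h ≫ f) hh).t (𝟙 W') i (h ≫ a) := by
    intro W f i a
    refine G_glue G (S.pullback f) (J.pullback_stable f hS)
      (fun W' h hh => (x (h ≫ f) hh).t (𝟙 W') i (h ≫ a)) ?_
    intro W' W'' h k hh
    show (x ((k ≫ h) ≫ f) _).t (𝟙 W'') i ((k ≫ h) ≫ a) =
      G.obj.map k.op ((x (h ≫ f) hh).t (𝟙 W') i (h ≫ a))
    rw [← (x (h ≫ f) hh).nat k (𝟙 W') i (h ≫ a),
      xc ((k ≫ h) ≫ f) (k ≫ h ≫ f) (Category.assoc k h f) _ (S.downward_closed hh k),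
      hxres (h ≫ f) k hh]
    show (x (h ≫ f) hh).t (𝟙 W'' ≫ k) i ((k ≫ h) ≫ a) = _
    rw [Category.id_comp, Category.comp_id, Category.assoc]
  choose t ht htu using key
  have hnat : ∀ ⦃W W' : C⦄ (h : W' ⟶ W) (f : W ⟶ V) (i : I) (a : W ⟶ U i),
      t (h ≫ f) i (h ≫ a) = G.obj.map h.op (t f i a) := by
    intro W W' h f i a
    refine (htu (h ≫ f) i (h ≫ a) (G.obj.map h.op (t f i a)) ?_).symm
    intro W'' k hk
    have hk' : S ((k ≫ h) ≫ f) := by rw [Category.assoc]; exact hk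
    rw [← Gmap_comp, ht f i a (k ≫ h) hk',
      xc ((k ≫ h) ≫ f) (k ≫ h ≫ f) (Category.assoc k h f) hk' hk, Category.assoc]
  have htw : ∀ ⦃W : C⦄ (f : W ⟶ V) (i j : I) (a : W ⟶ U i) (b : W ⟶ U j),
      t f j b = t f i a * γ.ev i j a b := by
    intro W f i j a b
    apply G_sep G (S.pullback f) (J.pullback_stable f hS)
    intro W' h hh
    rw [map_mul, ht f j b h hh, ht f i a h hh, γ.ev_precomp,
      (x (h ≫ f) hh).tw (𝟙 W') i j (h ≫ a) (h ≫ b)]
  refine ⟨⟨t, hnat, htw⟩, ?_, ?_⟩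
  · intro Y g hg
    show Sec.res g ⟨t, hnat, htw⟩ = x g hg
    apply Sec.ext'
    intro W f i a
    show t (f ≫ g) i a = (x g hg).t f i a
    have h1 : S (𝟙 W ≫ f ≫ g) := by rw [Category.id_comp]; exact S.downward_closed hg f
    have h2 := ht (f ≫ g) i a (𝟙 W) h1
    rw [Gmap_id, xc (𝟙 W ≫ f ≫ g) (f ≫ g) (Category.id_comp _) h1 (S.downward_closed hg f),
      hxres g f hg] at h2
    rw [h2]
    show (x g hg).t (𝟙 W ≫ f) i (𝟙 W ≫ a) = _
    rw [Category.id_comp, Category.id_comp]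
  · intro s' hs'
    apply Sec.ext'
    intro W f i a
    show s'.t f i a = t f i a
    apply htu f i a
    intro W' h hh
    have h3 : Sec.res (h ≫ f) s' = x (h ≫ f) hh := hs' (h ≫ f) hh
    rw [← h3, ← s'.nat h f i a]
    show _ = s'.t (𝟙 W' ≫ h ≫ f) i (h ≫ a)
    rw [Category.id_comp]

end

section Transport
variable {C : Type u} [Category.{v} C] {J : GrothendieckTopology C}

universe w₁ w₂

theorem isSheaf_of_equiv {P : Cᵒᵖ ⥤ Type w₁} {Q : Cᵒᵖ ⥤ Type w₂} (θ : ∀ V, P.obj V ≃ Q.obj V)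
    (hθ : ∀ ⦃V V' : Cᵒᵖ⦄ (g : V ⟶ V') (p : P.obj V), θ V' (P.map g p) = Q.map g (θ V p))
    (hQ : Presieve.IsSheaf J Q) : Presieve.IsSheaf J P := by
  intro X S hS x hx
  let x' : Presieve.FamilyOfElements Q S.arrows := fun Y f hf => θ _ (x f hf)
  have hx' : x'.Compatible := by
    intro Y₁ Y₂ Z g₁ g₂ f₁ f₂ h₁ h₂ e
    show Q.map g₁.op (θ _ (x f₁ h₁)) = Q.map g₂.op (θ _ (x f₂ h₂))
    rw [← hθ, ← hθ, hx g₁ g₂ h₁ h₂ e]
  obtain ⟨t', ht', hu'⟩ := hQ S hS x' hx'
  refine ⟨(θ _).symm t', ?_, ?_⟩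
  · intro Y f hf
    apply (θ _).injective
    rw [hθ, Equiv.apply_symm_apply]
    exact ht' f hf
  · intro t ht
    rw [Equiv.eq_symm_apply]
    apply hu'
    intro Y f hf
    show Q.map f.op (θ _ t) = θ _ (x f hf)
    rw [← hθ, ht f hf]

end Transport

section Final
variable {C : Type u} [Category.{v} C] {J : GrothendieckTopology C} {G : Sheaf J GrpCat.{w}}
variable {I : Type w'} {U : I → C} (γ : PresheafOfGroups.OneCocycle G.obj U)
variable [hU : Fact (J.CoversTop U)]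

/-- the small presheaf of sections -/
noncomputable def Pf : Cᵒᵖ ⥤ Type w where
  obj V := Shrink.{w} (Sec G γ V.unop)
  map g := ↾(fun p => equivShrink _ (Sec.res g.unop ((equivShrink _).symm p)))
  map_id V := by
    refine ConcreteCategory.hom_ext _ _ (fun p => ?_)
    show equivShrink _ (Sec.res (𝟙 V.unop) ((equivShrink _).symm p)) = p
    rw [Sec.res_id, Equiv.apply_symm_apply]
  map_comp g g' := by
    refine ConcreteCategory.hom_ext _ _ (fun p => ?_)
    show equivShrink _ (Sec.res (g'.unop ≫ g.unop) ((equivShrink _).symm p)) =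
      equivShrink _ (Sec.res g'.unop ((equivShrink _).symm
        (equivShrink _ (Sec.res g.unop ((equivShrink _).symm p)))))
    rw [Equiv.symm_apply_apply, Sec.res_res]

noncomputable def up {V : Cᵒᵖ} (s : Sec G γ V.unop) : (Pf γ).obj V := equivShrink _ s
noncomputable def dn {V : Cᵒᵖ} (p : (Pf γ).obj V) : Sec G γ V.unop := (equivShrink _).symm p

@[simp] lemma dn_up {V : Cᵒᵖ} (s : Sec G γ V.unop) : dn γ (up γ s) = s :=
  Equiv.symm_apply_apply _ _
@[simp] lemma up_dn {V : Cᵒᵖ} (p : (Pf γ).obj V) : up γ (dn γ p) = p :=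
  Equiv.apply_symm_apply _ _

lemma Pf_map {V V' : Cᵒᵖ} (g : V ⟶ V') (p : (Pf γ).obj V) :
    (Pf γ).map g p = up γ (Sec.res g.unop (dn γ p)) := rfl

lemma up_inj {V : Cᵒᵖ} {s s' : Sec G γ V.unop} (h : up γ s = up γ s') : s = s' :=
  (equivShrink _).injective h

theorem Pf_isSheaf : Presieve.IsSheaf J (Pf γ) := by
  refine isSheaf_of_equiv (Q := Q G γ) (fun V => (equivShrink _).symm) ?_ Q_isSheaf
  intro V V' g p
  show dn γ ((Pf γ).map g p) = Sec.res g.unop (dn γ p)
  rw [Pf_map, dn_up]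

noncomputable def gsheaf : NonAbH1.GSheaf G where
  P := ⟨Pf γ, (isSheaf_iff_isSheaf_of_type J _).2 (Pf_isSheaf γ)⟩
  smul {V} x p := up γ (Sec.smul x (dn γ p))
  one_smul {V} p := by
    show up γ (Sec.smul 1 (dn γ p)) = p
    rw [Sec.one_smul, up_dn]
  mul_smul {V} x y p := by
    show up γ (Sec.smul (x * y) (dn γ p)) = up γ (Sec.smul x (dn γ (up γ (Sec.smul y (dn γ p)))))
    rw [dn_up, Sec.mul_smul]
  map_smul {V V'} g x p := by
    show (Pf γ).map g (up γ (Sec.smul x (dn γ p))) =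
      up γ (Sec.smul (G.obj.map g x) (dn γ ((Pf γ).map g p)))
    rw [Pf_map, Pf_map, dn_up, dn_up]
    exact congrArg (up γ) (Sec.res_smul g.unop x (dn γ p))

theorem gsheaf_isTorsor : (gsheaf γ).IsTorsor := by
  constructor
  · intro V p q
    obtain ⟨x, hx, hxu⟩ := sec_trans hU.out (dn γ p) (dn γ q)
    refine ⟨x, ?_, ?_⟩
    · show up γ (Sec.smul x (dn γ p)) = q
      rw [hx, up_dn]
    · intro x' hx'
      apply hxu
      have h1 : up γ (Sec.smul x' (dn γ p)) = q := hx'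
      rw [← h1, dn_up]
  · intro V
    refine ⟨Sieve.ofObjects U V, hU.out V, ?_⟩
    rintro W f ⟨i, ⟨a⟩⟩
    exact ⟨up γ (V := op W) (Sec.res a (base G γ i))⟩

end Final


/-- Let C be a category with a Grothendieck topology J, G a sheaf of groups and U a family of objects
which covers every object of the site. Every class in the Cech cohomology set H^1(U, G) is the Cech
class of some G-torsor that has a section over every U_i. (The published statement is for an etale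
covering of a scheme; this row is stated for any family of objects covering the site.) -/
theorem result {C : Type u} [Category.{v} C]
    {J : GrothendieckTopology C} (G : Sheaf J GrpCat.{w}) {I : Type w'} (U : I → C) (hU : J.CoversTop U)
    (c : PresheafOfGroups.H1 G.obj U) :
    ∃ P : NonAbH1.Torsor G, P.TrivialisedBy U ∧ P.HasCechClass U c := by
  haveI : Fact (J.CoversTop U) := ⟨hU⟩
  obtain ⟨γ, hγ⟩ := Quot.exists_rep c
  refine ⟨⟨gsheaf γ, gsheaf_isTorsor γ⟩, ?_, ?_⟩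
  · intro i
    exact ⟨up γ (V := Opposite.op (U i)) (base G γ i)⟩
  · refine ⟨fun i => up γ (V := Opposite.op (U i)) (base G γ i), γ, ?_, hγ⟩
    intro i j T a b
    show up γ (Sec.smul (γ.ev i j a b) (dn γ ((Pf γ).map b.op (up γ (base G γ j))))) =
      (Pf γ).map a.op (up γ (base G γ i))
    rw [Pf_map, Pf_map, dn_up, dn_up, dn_up]
    apply congrArg (up γ)
    apply Sec.ext'
    intro W f k c'
    show G.obj.map f.op (γ.ev i j a b) * γ.ev j k (f ≫ b) c' = γ.ev i k (f ≫ a) c'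
    rw [γ.ev_precomp, γ.ev_trans]

end Groth.Agent.S16274
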