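import Groth.Statements.S16287
import Groth.Agent.H10.ZqMV
import Groth.Agent.H10.ExtBiprod
import Mathlib

set_option autoImplicit false
universe u
open CategoryTheory CategoryTheory.Limits TopologicalSpace
open LocCohZ

namespace Groth.Agent.S16287

/-- Let X be a topological space, F an abelian sheaf on X, and U, U' open subsets with closed
complements Z = X ∖ U and Z' = X ∖ U' (so Z ∩ Z' = X ∖ (U ∪ U') and Z ∪ Z' = X ∖ (U ∩ U')). With
H^i_{X∖W}(X, F) = Ext^i(Z_X/Z_W, F) and the enlargement-of-support maps r : H^i_{Z∩Z'} → H^i_Z, r' :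
H^i_{Z∩Z'} → H^i_{Z'}, s : H^i_Z → H^i_{Z∪Z'}, s' : H^i_{Z'} → H^i_{Z∪Z'}: the map H^0_{Z∩Z'} →
H^0_Z ⊕ H^0_{Z'}, x ↦ (r x, r' x), is injective, and there are connecting homomorphisms δ_i :
H^i_{Z∪Z'}(X, F) → H^{i+1}_{Z∩Z'}(X, F) such that for every i the sequence H^i_{Z∩Z'} → H^i_Z ⊕
H^i_{Z'} → H^i_{Z∪Z'} → H^{i+1}_{Z∩Z'} → H^{i+1}_Z ⊕ H^{i+1}_{Z'} is exact, the middle map being (y,
y') ↦ s y − s' y'. -/
theorem result {X : TopCat.{u}} (F : CohTop.Ab X) (U U' : Opens X) :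
    Function.Injective (fun x : LocCohZ.HZc F 0 (U ⊔ U') =>
      (LocCohZ.resZ F 0 (le_top : U ⊔ U' ≤ ⊤) (le_top : U ≤ ⊤) le_sup_left le_rfl x,
       LocCohZ.resZ F 0 (le_top : U ⊔ U' ≤ ⊤) (le_top : U' ≤ ⊤) le_sup_right le_rfl x)) ∧
    ∃ δ : ∀ i : ℕ, LocCohZ.HZc F i (U ⊓ U') →+ LocCohZ.HZc F (i + 1) (U ⊔ U'),
      ∀ i : ℕ,
        (∀ y : LocCohZ.HZc F i U × LocCohZ.HZc F i U',
          LocCohZ.resZ F i (le_top : U ≤ ⊤) (le_top : U ⊓ U' ≤ ⊤) inf_le_left le_rfl y.1 -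
              LocCohZ.resZ F i (le_top : U' ≤ ⊤) (le_top : U ⊓ U' ≤ ⊤) inf_le_right le_rfl y.2 = 0 ↔
            ∃ x : LocCohZ.HZc F i (U ⊔ U'),
              LocCohZ.resZ F i (le_top : U ⊔ U' ≤ ⊤) (le_top : U ≤ ⊤) le_sup_left le_rfl x = y.1 ∧
              LocCohZ.resZ F i (le_top : U ⊔ U' ≤ ⊤) (le_top : U' ≤ ⊤) le_sup_right le_rfl x = y.2) ∧
        (∀ w : LocCohZ.HZc F i (U ⊓ U'),
          δ i w = 0 ↔ ∃ y : LocCohZ.HZc F i U × LocCohZ.HZc F i U',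
            LocCohZ.resZ F i (le_top : U ≤ ⊤) (le_top : U ⊓ U' ≤ ⊤) inf_le_left le_rfl y.1 -
              LocCohZ.resZ F i (le_top : U' ≤ ⊤) (le_top : U ⊓ U' ≤ ⊤) inf_le_right le_rfl y.2 = w) ∧
        (∀ x : LocCohZ.HZc F (i + 1) (U ⊔ U'),
          (LocCohZ.resZ F (i + 1) (le_top : U ⊔ U' ≤ ⊤) (le_top : U ≤ ⊤) le_sup_left le_rfl x = 0 ∧
            LocCohZ.resZ F (i + 1) (le_top : U ⊔ U' ≤ ⊤) (le_top : U' ≤ ⊤) le_sup_right le_rfl x = 0) ↔
            ∃ w : LocCohZ.HZc F i (U ⊓ U'), δ i w = x) := by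
  have hS := Groth.Agent.H10.ZqMV.shortExact U U'
  have hab : Groth.Agent.H10.ZqMV.a₁ U U' ≫ Groth.Agent.H10.ZqMV.b₁ U U' = Groth.Agent.H10.ZqMV.a₂ U U' ≫ Groth.Agent.H10.ZqMV.b₂ U U' := by
    rw [Groth.Agent.H10.ZqMV.zm_comp, Groth.Agent.H10.ZqMV.zm_comp]
  refine ⟨?_, fun i => hS.extClass.precomp F (show 1 + i = i + 1 by omega),
    fun i => ⟨?_, ?_, ?_⟩⟩
  · intro x y h
    exact Abelian.Ext.precomp_mk₀_injective_of_epi F (Groth.Agent.H10.ZqMV.b₁ U U') (Prod.mk.inj h).1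
  · intro y
    change (Abelian.Ext.mk₀ (Groth.Agent.H10.ZqMV.a₁ U U')).comp y.1 (zero_add i) -
        (Abelian.Ext.mk₀ (Groth.Agent.H10.ZqMV.a₂ U U')).comp y.2 (zero_add i) = 0 ↔
      ∃ x : Abelian.Ext (Groth.Agent.H10.ZqMV.zqc (U ⊔ U')) F i,
        (Abelian.Ext.mk₀ (Groth.Agent.H10.ZqMV.b₁ U U')).comp x (zero_add i) = y.1 ∧
        (Abelian.Ext.mk₀ (Groth.Agent.H10.ZqMV.b₂ U U')).comp x (zero_add i) = y.2
    constructor
    · intro h
      have h1 : (Abelian.Ext.mk₀ (Groth.Agent.H10.ZqMV.S U U').f).comp (Groth.Agent.H10.ExtBiprod.pair y.1 y.2) (zero_add i) = 0 := by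
        change (Abelian.Ext.mk₀ (biprod.lift (Groth.Agent.H10.ZqMV.a₁ U U') (-(Groth.Agent.H10.ZqMV.a₂ U U')))).comp _ _ = 0
        rw [Groth.Agent.H10.ExtBiprod.lift_neg_comp_pair]
        exact h
      obtain ⟨x, hx⟩ := Abelian.Ext.contravariant_sequence_exact₂ hS F _ h1
      have hx' : (Abelian.Ext.mk₀ (biprod.desc (Groth.Agent.H10.ZqMV.b₁ U U') (Groth.Agent.H10.ZqMV.b₂ U U'))).comp x (zero_add i) =
          Groth.Agent.H10.ExtBiprod.pair y.1 y.2 := hx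
      rw [Groth.Agent.H10.ExtBiprod.desc_comp] at hx'
      refine ⟨x, ?_, ?_⟩
      · have := congrArg (fun z => (Abelian.Ext.mk₀ biprod.inl).comp z (zero_add i)) hx'
        rw [Groth.Agent.H10.ExtBiprod.inl_pair, Groth.Agent.H10.ExtBiprod.inl_pair] at this
        exact this
      · have := congrArg (fun z => (Abelian.Ext.mk₀ biprod.inr).comp z (zero_add i)) hx'
        rw [Groth.Agent.H10.ExtBiprod.inr_pair, Groth.Agent.H10.ExtBiprod.inr_pair] at this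
        exact this
    · rintro ⟨x, h1, h2⟩
      rw [← h1, ← h2, Abelian.Ext.mk₀_comp_mk₀_assoc, Abelian.Ext.mk₀_comp_mk₀_assoc, hab, sub_self]
  · intro w
    change hS.extClass.comp w (show 1 + i = i + 1 by omega) = 0 ↔
      ∃ y : Abelian.Ext (Groth.Agent.H10.ZqMV.zqc U) F i × Abelian.Ext (Groth.Agent.H10.ZqMV.zqc U') F i,
        (Abelian.Ext.mk₀ (Groth.Agent.H10.ZqMV.a₁ U U')).comp y.1 (zero_add i) -
          (Abelian.Ext.mk₀ (Groth.Agent.H10.ZqMV.a₂ U U')).comp y.2 (zero_add i) = w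
    constructor
    · intro h
      obtain ⟨z, hz⟩ := Abelian.Ext.contravariant_sequence_exact₁ hS F w _ h
      have hz' : (Abelian.Ext.mk₀ (biprod.lift (Groth.Agent.H10.ZqMV.a₁ U U') (-(Groth.Agent.H10.ZqMV.a₂ U U')))).comp z (zero_add i) =
          w := hz
      refine ⟨((Abelian.Ext.mk₀ biprod.inl).comp z (zero_add i),
        (Abelian.Ext.mk₀ biprod.inr).comp z (zero_add i)), ?_⟩
      rw [← Groth.Agent.H10.ExtBiprod.pair_eta z, Groth.Agent.H10.ExtBiprod.lift_neg_comp_pair] at hz'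
      exact hz'
    · rintro ⟨y, rfl⟩
      have h1 : (Abelian.Ext.mk₀ (Groth.Agent.H10.ZqMV.S U U').f).comp (Groth.Agent.H10.ExtBiprod.pair y.1 y.2) (zero_add i) =
          (Abelian.Ext.mk₀ (Groth.Agent.H10.ZqMV.a₁ U U')).comp y.1 (zero_add i) -
            (Abelian.Ext.mk₀ (Groth.Agent.H10.ZqMV.a₂ U U')).comp y.2 (zero_add i) := by
        change (Abelian.Ext.mk₀ (biprod.lift (Groth.Agent.H10.ZqMV.a₁ U U') (-(Groth.Agent.H10.ZqMV.a₂ U U')))).comp _ _ = _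
        rw [Groth.Agent.H10.ExtBiprod.lift_neg_comp_pair]
      rw [← h1]
      exact hS.extClass_comp_assoc _
  · intro x
    change ((Abelian.Ext.mk₀ (Groth.Agent.H10.ZqMV.b₁ U U')).comp x (zero_add (i + 1)) = 0 ∧
        (Abelian.Ext.mk₀ (Groth.Agent.H10.ZqMV.b₂ U U')).comp x (zero_add (i + 1)) = 0) ↔
      ∃ w : Abelian.Ext (Groth.Agent.H10.ZqMV.zqc (U ⊓ U')) F i,
        hS.extClass.comp w (show 1 + i = i + 1 by omega) = x
    constructor
    · rintro ⟨h1, h2⟩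
      have h3 : (Abelian.Ext.mk₀ (Groth.Agent.H10.ZqMV.S U U').g).comp x (zero_add (i + 1)) = 0 := by
        change (Abelian.Ext.mk₀ (biprod.desc (Groth.Agent.H10.ZqMV.b₁ U U') (Groth.Agent.H10.ZqMV.b₂ U U'))).comp x _ = 0
        rw [Groth.Agent.H10.ExtBiprod.desc_comp, h1, h2, Groth.Agent.H10.ExtBiprod.pair_zero]
      exact Abelian.Ext.contravariant_sequence_exact₃ hS F x h3 (by omega)
    · rintro ⟨w, rfl⟩
      have h3 : (Abelian.Ext.mk₀ (biprod.desc (Groth.Agent.H10.ZqMV.b₁ U U') (Groth.Agent.H10.ZqMV.b₂ U U'))).comp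
          (hS.extClass.comp w (show 1 + i = i + 1 by omega)) (zero_add (i + 1)) = 0 :=
        hS.comp_extClass_assoc w _
      rw [Groth.Agent.H10.ExtBiprod.desc_comp] at h3
      constructor
      · have := congrArg (fun z => (Abelian.Ext.mk₀ biprod.inl).comp z (zero_add (i + 1))) h3
        rw [Groth.Agent.H10.ExtBiprod.inl_pair, Abelian.Ext.comp_zero] at this
        exact this
      · have := congrArg (fun z => (Abelian.Ext.mk₀ biprod.inr).comp z (zero_add (i + 1))) h3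
        rw [Groth.Agent.H10.ExtBiprod.inr_pair, Abelian.Ext.comp_zero] at this
        exact this

end Groth.Agent.S16287
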