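import Groth.Statements.S16288
import Mathlib
import Mathlib
import Groth.Agent.S2380

set_option autoImplicit false
universe u
open CategoryTheory
open FlatCx

namespace Groth.Agent.S16288

open TensorProduct CategoryTheory in
/-- fibre dimension of the cokernel of `P_j → P_i`. -/
noncomputable def C2 {A : Type u} [CommRing A] (P : ChainComplex (ModuleCat.{u} A) ℤ) (j i : ℤ)
    (y : PrimeSpectrum A) : ℕ :=
  Module.finrank y.asIdeal.ResidueField
    (y.asIdeal.ResidueField ⊗[A] (P.X i ⧸ LinearMap.range (P.d j i).hom))

open TensorProduct CategoryTheory in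
theorem key' {A : Type u} [CommRing A] [IsNoetherianRing A]
    (P : ChainComplex (ModuleCat.{u} A) ℤ)
    (hP : ∀ i, Module.Finite A (P.X i) ∧ Module.Flat A (P.X i)) (r p q : ℤ)
    (h1 : p + 1 = r) (h2 : q + 1 = p) (y : PrimeSpectrum A) :
    CohIII.dRank P p y + Module.rankAtStalk (P.X q) y = C2 P r p y + C2 P p q y := by
  have hr : (ComplexShape.down ℤ).prev p = r := by
    rw [ChainComplex.prev]; exact h1
  have hq : (ComplexShape.down ℤ).next p = q := by
    rw [ChainComplex.next]; omega
  clear h1 h2
  subst hr hq
  exact Groth.Agent.S2380.key_identity P hP p y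

open TensorProduct CategoryTheory in
theorem C2_usc {A : Type u} [CommRing A] [IsNoetherianRing A]
    (P : ChainComplex (ModuleCat.{u} A) ℤ)
    (hP : ∀ i, Module.Finite A (P.X i) ∧ Module.Flat A (P.X i)) (j i : ℤ) (z : PrimeSpectrum A) :
    ∀ᶠ y in nhds z, C2 P j i y ≤ C2 P j i z := by
  haveI : Module.Finite A (P.X i) := (hP i).1
  obtain ⟨U, hUo, hzU, hU⟩ := Groth.Agent.H19.ExtScalars.fibre_usc
    (P.X i ⧸ LinearMap.range (P.d j i).hom) z
  filter_upwards [hUo.mem_nhds hzU] with y hy
  exact hU y hy

theorem rank_const {A : Type u} [CommRing A] [IsNoetherianRing A]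
    (P : ChainComplex (ModuleCat.{u} A) ℤ)
    (hP : ∀ i, Module.Finite A (P.X i) ∧ Module.Flat A (P.X i)) (i : ℤ) (z : PrimeSpectrum A) :
    ∀ᶠ y in nhds z, Module.rankAtStalk (P.X i) y = Module.rankAtStalk (P.X i) z := by
  haveI : Module.Finite A (P.X i) := (hP i).1
  haveI : Module.Flat A (P.X i) := (hP i).2
  haveI : Module.FinitePresentation A (P.X i) := Module.finitePresentation_of_finite A _
  exact (Module.isLocallyConstant_rankAtStalk (R := A) (M := P.X i)).eventually_eq z

/-- Let A be a Noetherian ring and P a chain complex of finitely generated flat A-modules, and for p and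
a point x of Spec A let d_p(x) = dim_{k(x)} H_p(P ⊗_A k(x)). Fix p and a point z. If d_{p-1} and
d_{p+1} are constant on some neighbourhood of z, then d_p is constant on some neighbourhood of z.
(The published assertion concerns the function y ↦ dim H^p(X_y, F_y) for a coherent sheaf F flat
over a projective morphism of Noetherian schemes X → Y: if it is not constant near a point, then the
functions for p - 1 and p + 1 are not both constant near that point. Stated here is the
corresponding property for any chain complex of finitely generated flat modules over a Noetherian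
ring, from which the published form follows by applying it to a finite complex of such modules
computing the cohomology of the fibres.) -/
theorem result {A : Type u} [CommRing A] [IsNoetherianRing A]
    (P : ChainComplex (ModuleCat.{u} A) ℤ) (hP : ∀ i, Module.Finite A (P.X i) ∧ Module.Flat A (P.X i))
    (p : ℤ) (z : PrimeSpectrum A)
    (hlo : ∀ᶠ x in nhds z, CohIII.dRank P (p - 1) x = CohIII.dRank P (p - 1) z)
    (hhi : ∀ᶠ x in nhds z, CohIII.dRank P (p + 1) x = CohIII.dRank P (p + 1) z) :
    ∀ᶠ x in nhds z, CohIII.dRank P p x = CohIII.dRank P p z := by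
  filter_upwards [hlo, hhi, Groth.Agent.S16288.C2_usc P hP (p + 2) (p + 1) z,
    Groth.Agent.S16288.C2_usc P hP (p + 1) p z, Groth.Agent.S16288.C2_usc P hP p (p - 1) z,
    Groth.Agent.S16288.C2_usc P hP (p - 1) (p - 2) z,
    Groth.Agent.S16288.rank_const P hP p z, Groth.Agent.S16288.rank_const P hP (p - 1) z,
    Groth.Agent.S16288.rank_const P hP (p - 2) z] with y h1 h2 u1 u2 u3 u4 n1 n2 n3
  have ky1 := Groth.Agent.S16288.key' P hP (p + 2) (p + 1) p (by omega) (by omega) y
  have kz1 := Groth.Agent.S16288.key' P hP (p + 2) (p + 1) p (by omega) (by omega) z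
  have ky2 := Groth.Agent.S16288.key' P hP (p + 1) p (p - 1) (by omega) (by omega) y
  have kz2 := Groth.Agent.S16288.key' P hP (p + 1) p (p - 1) (by omega) (by omega) z
  have ky3 := Groth.Agent.S16288.key' P hP p (p - 1) (p - 2) (by omega) (by omega) y
  have kz3 := Groth.Agent.S16288.key' P hP p (p - 1) (p - 2) (by omega) (by omega) z
  omega

end Groth.Agent.S16288
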