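import Groth.Statements.S1630
import Mathlib
set_option linter.style.haveILetI false

set_option autoImplicit false
universe u
open CategoryTheory CategoryTheory.Limits AlgebraicGeometry
open Variety

namespace Groth.Agent.S1630

section Aux
open CategoryTheory CategoryTheory.Limits AlgebraicGeometry

private lemma range_of_isPullback {Z X' Y' S' : Scheme.{u}} {a : Z ⟶ X'} {b : Z ⟶ Y'}
    {c : X' ⟶ S'} {d : Y' ⟶ S'} (h : IsPullback a b c d) :
    Set.range a = c ⁻¹' Set.range d := by
  ext x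
  constructor
  · rintro ⟨z, rfl⟩
    exact ⟨b z, by rw [← Scheme.Hom.comp_apply, ← Scheme.Hom.comp_apply, h.w]⟩
  · intro hx
    have : x ∈ Set.range (pullback.fst c d) := by
      rw [Scheme.Pullback.range_fst]
      exact hx
    obtain ⟨w, rfl⟩ := this
    refine ⟨h.isoPullback.inv w, ?_⟩
    rw [← Scheme.Hom.comp_apply, h.isoPullback_inv_fst]

private lemma irreducible_of_cover {α : Type*} [TopologicalSpace α] {ι : Type*} [Nonempty ι]
    (V : ι → Set α) (hVo : ∀ i, IsOpen (V i)) (hVi : ∀ i, IsIrreducible (V i))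
    (hcov : ∀ x, ∃ i, x ∈ V i) (hmeet : ∀ i j, (V i ∩ V j).Nonempty) : IrreducibleSpace α := by
  obtain ⟨i₀⟩ := ‹Nonempty ι›
  obtain ⟨x₀, -, -⟩ := hmeet i₀ i₀
  rw [irreducibleSpace_def]
  refine ⟨⟨x₀, trivial⟩, ?_⟩
  intro u v hu hv
  rintro ⟨x, -, hxu⟩ ⟨x', -, hx'v⟩
  obtain ⟨i, hi⟩ := hcov x
  obtain ⟨j, hj⟩ := hcov x'
  obtain ⟨w, -, hwu, hwj⟩ := (hVi i).isPreirreducible u (V j) hu (hVo j) ⟨x, hi, hxu⟩ (hmeet i j)
  obtain ⟨w', -, hw'⟩ := (hVi j).isPreirreducible u v hu hv ⟨w, hwj, hwu⟩ ⟨x', hj, hx'v⟩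
  exact ⟨w', trivial, hw'⟩

end Aux


/-- Let X be a scheme over k. If X has a cover by a nonempty family of open subschemes, each
geometrically irreducible over k and any two of which meet, then X is geometrically irreducible over
k. -/
theorem result (k : Type u) [Field k] (X : Scheme.{u}) [X.Over (Spec (CommRingCat.of k))]
    (ι : Type u) (U : ι → X.Opens) (hne : Nonempty ι) (hcov : (⨆ i, U i) = ⊤)
    (hmeet : ∀ i j, ((U i : Set X) ∩ (U j : Set X)).Nonempty)
    (hU : ∀ i, GeometricallyIrreducible ((U i).ι ≫ (X ↘ (Spec (CommRingCat.of k))))) : GeometricallyIrreducible (X ↘ (Spec (CommRingCat.of k))) := by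
  refine ⟨?_⟩
  intro K _ y Z fst snd h
  show IrreducibleSpace Z
  haveI := hne
  -- the pieces
  have hsurj : ∀ x : X, x ∈ Set.range fst := by
    intro x
    rw [range_of_isPullback h]
    obtain ⟨p⟩ : Nonempty (Spec (CommRingCat.of K)) := inferInstance
    exact ⟨p, Subsingleton.elim _ _⟩
  refine irreducible_of_cover (fun i => fst ⁻¹' (U i : Set X))
    (fun i => (U i).isOpen.preimage fst.continuous) ?_ ?_ ?_
  · intro i
    let a := pullback.fst ((U i).ι ≫ (X ↘ Spec (CommRingCat.of k))) y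
    let b := pullback.snd ((U i).ι ≫ (X ↘ Spec (CommRingCat.of k))) y
    have hirr : IrreducibleSpace ↥(pullback ((U i).ι ≫ (X ↘ Spec (CommRingCat.of k))) y) :=
      (hU i).geometrically_irreducibleSpace y a b (IsPullback.of_hasPullback _ _)
    let m : pullback ((U i).ι ≫ (X ↘ Spec (CommRingCat.of k))) y ⟶ Z :=
      h.lift (a ≫ (U i).ι) b (by rw [Category.assoc]; exact pullback.condition)
    have hm1 : m ≫ fst = a ≫ (U i).ι := h.lift_fst _ _ _
    have hm2 : m ≫ snd = b := h.lift_snd _ _ _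
    have houter : IsPullback a (m ≫ snd) ((U i).ι ≫ (X ↘ Spec (CommRingCat.of k))) y := by
      rw [hm2]
      exact IsPullback.of_hasPullback _ _
    have htop : IsPullback a m (U i).ι fst := IsPullback.of_bot houter hm1.symm h
    have hrange : Set.range m = fst ⁻¹' (U i : Set X) := by
      rw [range_of_isPullback htop.flip, Scheme.Opens.range_ι]
    rw [← hrange, ← Set.image_univ]
    exact (IrreducibleSpace.isIrreducible_univ _).image m m.continuous.continuousOn
  · intro z
    have hz : fst z ∈ (⨆ i, U i : X.Opens) := by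
      rw [hcov]
      trivial
    rw [TopologicalSpace.Opens.mem_iSup] at hz
    exact hz
  · intro i j
    obtain ⟨x, hxi, hxj⟩ := hmeet i j
    obtain ⟨z, rfl⟩ := hsurj x
    exact ⟨z, hxi, hxj⟩

end Groth.Agent.S1630
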