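import Groth.Statements.S16312
import Mathlib

set_option autoImplicit false
universe u
open W4c3irrattreebun

namespace Groth.Agent.S16312

/-- Let N be a closed cone in real n-space, f a function continuous on N, positive at the nonzero points
of N and homogeneous of degree one under scaling by nonnegative reals, and Λ a discrete additive
subgroup. Then for every real c the set of points H of Λ lying in N with f(H) ≤ c is finite. (The
published statement takes Λ to be a lattice; this row allows any discrete additive subgroup.) -/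
theorem result (n : ℕ)
    (N : Set (EuclideanSpace ℝ (Fin n))) (hN : IsClosed N)
    (hcone : ∀ x ∈ N, ∀ r : ℝ, 0 ≤ r → r • x ∈ N)
    (f : EuclideanSpace ℝ (Fin n) → ℝ) (hf : ContinuousOn f N)
    (hpos : ∀ x ∈ N, x ≠ 0 → 0 < f x)
    (hhom : ∀ x ∈ N, ∀ r : ℝ, 0 ≤ r → f (r • x) = r * f x)
    (Λ : Submodule ℤ (EuclideanSpace ℝ (Fin n))) [DiscreteTopology Λ] (c : ℝ) :
    ({x : EuclideanSpace ℝ (Fin n) | x ∈ N ∧ f x ≤ c} ∩ (Λ : Set (EuclideanSpace ℝ (Fin n)))).Finite := by
  classical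
  have hΛd : IsDiscrete (Λ : Set (EuclideanSpace ℝ (Fin n))) :=
    isDiscrete_iff_discreteTopology.mpr inferInstance
  have hΛc : IsClosed (Λ : Set (EuclideanSpace ℝ (Fin n))) := by
    haveI : DiscreteTopology Λ.toAddSubgroup := inferInstanceAs (DiscreteTopology Λ)
    rw [← Submodule.coe_toAddSubgroup]
    exact AddSubgroup.isClosed_of_discrete
  refine Metric.finite_isBounded_inter_isClosed hΛd ?_ hΛc
  -- the sublevel set is bounded
  set K : Set (EuclideanSpace ℝ (Fin n)) := N ∩ Metric.sphere 0 1 with hK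
  have hKc : IsCompact K := (isCompact_sphere 0 1).inter_left hN
  by_cases hKe : K.Nonempty
  · obtain ⟨x₀, hx₀K, hx₀⟩ := hKc.exists_isMinOn hKe (hf.mono Set.inter_subset_left)
    have hx₀ne : x₀ ≠ 0 := by
      intro h0
      have := hx₀K.2
      rw [h0] at this
      simp at this
    have hm : 0 < f x₀ := hpos x₀ hx₀K.1 hx₀ne
    rw [Metric.isBounded_iff_subset_closedBall 0]
    refine ⟨max (c / f x₀) 0, ?_⟩
    rintro x ⟨hxN, hxc⟩
    rw [mem_closedBall_zero_iff]
    by_cases hx0 : x = 0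
    · rw [hx0, norm_zero]
      exact le_max_right _ _
    · have hnx : 0 < ‖x‖ := norm_pos_iff.mpr hx0
      have hyK : (‖x‖⁻¹ • x) ∈ K := by
        refine ⟨hcone x hxN _ (inv_nonneg.mpr hnx.le), ?_⟩
        rw [mem_sphere_zero_iff_norm, norm_smul, norm_inv, norm_norm, inv_mul_cancel₀ hnx.ne']
      have h1 : f x₀ ≤ f (‖x‖⁻¹ • x) := hx₀ hyK
      have h2 : f x = ‖x‖ * f (‖x‖⁻¹ • x) := by
        rw [← hhom _ hyK.1 ‖x‖ hnx.le, smul_smul, mul_inv_cancel₀ hnx.ne', one_smul]
      have h3 : ‖x‖ * f x₀ ≤ c := by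
        calc ‖x‖ * f x₀ ≤ ‖x‖ * f (‖x‖⁻¹ • x) := mul_le_mul_of_nonneg_left h1 hnx.le
          _ = f x := h2.symm
          _ ≤ c := hxc
      refine le_trans ?_ (le_max_left _ _)
      rw [le_div_iff₀ hm]
      exact h3
  · rw [Set.not_nonempty_iff_eq_empty] at hKe
    rw [Metric.isBounded_iff_subset_closedBall 0]
    refine ⟨0, ?_⟩
    rintro x ⟨hxN, -⟩
    rw [mem_closedBall_zero_iff]
    by_contra hx
    have hx0 : x ≠ 0 := by
      intro h0
      rw [h0, norm_zero] at hx
      exact hx le_rfl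
    have hnx : 0 < ‖x‖ := norm_pos_iff.mpr hx0
    have hyK : (‖x‖⁻¹ • x) ∈ K := by
      refine ⟨hcone x hxN _ (inv_nonneg.mpr hnx.le), ?_⟩
      rw [mem_sphere_zero_iff_norm, norm_smul, norm_inv, norm_norm, inv_mul_cancel₀ hnx.ne']
    rw [hKe] at hyK
    exact hyK

end Groth.Agent.S16312
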