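import Groth.Statements.S16325
import Mathlib
import Groth.Agent.Lib.Helper8.ModuleCatHomology

set_option autoImplicit false
universe u v
open CategoryTheory
open W4c3biextchow

namespace Groth.Agent.S16325

open Groth.Agent.Helper8 CategoryTheory W4c3biextchow

/-- Let f : C ⟶ D be a chain map of ℕ-indexed chain complexes of modules over a ring R, and consider the
functor it induces between the groupoids attached to C and D (objects: degree-0 elements; morphisms
a ⟶ b: degree-1 elements with boundary b - a, modulo boundaries of degree-2 elements). This functor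
is faithful if and only if f is injective on homology in degree 1. (The published statement is for
complexes of abelian groups; this row allows modules over any ring R.) -/
theorem result
    (R : Type u) [Ring R] (C D : ChainComplex (ModuleCat.{v} R) ℕ) (f : C ⟶ D) :
    (W4c3biextchow.cxFunctor f).Faithful ↔ Mono (HomologicalComplex.homologyMap f 1) := by
  rw [mono_homologyMap_iff_elements f 2 1 0 (by simp) (by simp)]
  constructor
  · intro hF x hx hy
    obtain ⟨y, hy⟩ := hy
    let a : Obj C := ⟨0⟩
    let φ : a ⟶ a := (⟨Submodule.Quotient.mk x, by rw [delta_mk, hx, sub_self]⟩ : Hom C a a)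
    have hmap : (cxFunctor f).map φ = (cxFunctor f).map (𝟙 a) := by
      apply Hom.ext
      change q1Map f (Submodule.Quotient.mk x) = q1Map f 0
      rw [q1Map_mk, map_zero, Submodule.Quotient.mk_eq_zero]
      exact ⟨y, hy.symm⟩
    have h1 := hF.map_injective hmap
    have hcl : (Submodule.Quotient.mk x : Q1 C) = 0 := congrArg Hom.cl h1
    rw [Submodule.Quotient.mk_eq_zero] at hcl
    obtain ⟨z, hz⟩ := hcl
    exact ⟨z, hz⟩
  · intro h
    constructor
    intro a b φ ψ hmap
    apply Hom.ext
    have h1 : q1Map f (φ : Hom C a b).cl = q1Map f (ψ : Hom C a b).cl := congrArg Hom.cl hmap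
    obtain ⟨x, hx⟩ := Submodule.Quotient.mk_surjective _
      ((φ : Hom C a b).cl - (ψ : Hom C a b).cl)
    have hdx : (C.d 1 0).hom x = 0 := by
      have h2 := congrArg (delta C) hx
      rw [delta_mk, map_sub, (φ : Hom C a b).delta_cl, (ψ : Hom C a b).delta_cl, sub_self] at h2
      exact h2
    have hfx : q1Map f (Submodule.Quotient.mk x) = 0 := by
      rw [hx, map_sub, h1, sub_self]
    rw [q1Map_mk, Submodule.Quotient.mk_eq_zero] at hfx
    obtain ⟨y, hy⟩ := hfx
    obtain ⟨z, hz⟩ := h x hdx ⟨y, hy.symm⟩
    have h3 : (Submodule.Quotient.mk x : Q1 C) = 0 := by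
      rw [Submodule.Quotient.mk_eq_zero]
      exact ⟨z, hz⟩
    rw [h3] at hx
    exact sub_eq_zero.mp hx.symm

end Groth.Agent.S16325
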