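import Groth.Statements.S16326
import Mathlib
import Groth.Agent.Lib.Helper8.ModuleCatHomology

set_option autoImplicit false
universe u v
open CategoryTheory
open W4c3biextchow

namespace Groth.Agent.S16326

open Groth.Agent.Helper8 CategoryTheory W4c3biextchow

/-- Let f : C ⟶ D be a chain map of ℕ-indexed chain complexes of modules over a ring R, and consider the
functor it induces between the groupoids attached to C and D (objects: degree-0 elements; morphisms
a ⟶ b: degree-1 elements with boundary b - a, modulo boundaries of degree-2 elements). This functor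
is full if and only if f is surjective on homology in degree 1 and injective on homology in degree
0. (The published statement is for complexes of abelian groups; this row allows modules over any
ring R.) -/
theorem result
    (R : Type u) [Ring R] (C D : ChainComplex (ModuleCat.{v} R) ℕ) (f : C ⟶ D) :
    (W4c3biextchow.cxFunctor f).Full ↔
      Epi (HomologicalComplex.homologyMap f 1) ∧ Mono (HomologicalComplex.homologyMap f 0) := by
  rw [epi_homologyMap_iff_elements f 2 1 0 (by simp) (by simp),
    mono_homologyMap_iff_elements f 1 0 0 (by simp) (by simp)]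
  have hd00 : ∀ (K : ChainComplex (ModuleCat.{v} R) ℕ) (y : K.X 0), (K.d 0 0).hom y = 0 := by
    intro K y
    rw [K.shape 0 0 (by simp)]
    rfl
  have hcomm : ∀ z : C.X 1, (D.d 1 0).hom ((f.f 1).hom z) = (f.f 0).hom ((C.d 1 0).hom z) :=
    fun z => LinearMap.congr_fun (congrArg ModuleCat.Hom.hom (f.comm 1 0)) z
  constructor
  · intro hF
    constructor
    · intro y hy
      let a : Obj C := ⟨0⟩
      let ψ : (cxFunctor f).obj a ⟶ (cxFunctor f).obj a :=
        (⟨Submodule.Quotient.mk y, by rw [delta_mk, hy, sub_self]⟩ : Hom D _ _)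
      obtain ⟨φ, hφ⟩ := hF.map_surjective ψ
      obtain ⟨x, hx⟩ := Submodule.Quotient.mk_surjective _ (φ : Hom C a a).cl
      have hdx : (C.d 1 0).hom x = 0 := by
        have h1 := (φ : Hom C a a).delta_cl
        rw [← hx, delta_mk, sub_self] at h1
        exact h1
      have h2 : q1Map f (φ : Hom C a a).cl = Submodule.Quotient.mk y := congrArg Hom.cl hφ
      rw [← hx, q1Map_mk, Submodule.Quotient.eq] at h2
      obtain ⟨w, hw⟩ := h2
      refine ⟨x, hdx, -w, ?_⟩
      rw [map_neg, hw]
      abel
    · intro x _ hy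
      obtain ⟨y, hy⟩ := hy
      let a : Obj C := ⟨0⟩
      let b : Obj C := ⟨x⟩
      let ψ : (cxFunctor f).obj a ⟶ (cxFunctor f).obj b :=
        (⟨Submodule.Quotient.mk y, by
          rw [delta_mk, ← hy]
          simp [a, b]⟩ : Hom D _ _)
      obtain ⟨φ, _⟩ := hF.map_surjective ψ
      obtain ⟨z, hz⟩ := Submodule.Quotient.mk_surjective _ (φ : Hom C a b).cl
      have h1 := (φ : Hom C a b).delta_cl
      rw [← hz, delta_mk] at h1
      refine ⟨z, ?_⟩
      rw [h1]
      simp [a, b]
  · rintro ⟨hE, hM⟩
    constructor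
    intro a b ψ
    obtain ⟨y, hy⟩ := Submodule.Quotient.mk_surjective _ (ψ : Hom D _ _).cl
    have hdy : (D.d 1 0).hom y = (f.f 0).hom (b.pt - a.pt) := by
      have h1 := (ψ : Hom D _ _).delta_cl
      rw [← hy, delta_mk] at h1
      rw [h1, map_sub]
      rfl
    obtain ⟨z, hz⟩ := hM (b.pt - a.pt) (hd00 C _) ⟨y, hdy.symm⟩
    have hcyc : (D.d 1 0).hom (y - (f.f 1).hom z) = 0 := by
      rw [map_sub, hcomm, hz, hdy, sub_self]
    obtain ⟨x, hdx, w, hw⟩ := hE _ hcyc
    refine ⟨(⟨Submodule.Quotient.mk (z + x), by rw [delta_mk, map_add, hz, hdx, add_zero]⟩ :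
      Hom C a b), ?_⟩
    apply Hom.ext
    change q1Map f (Submodule.Quotient.mk (z + x)) = (ψ : Hom D _ _).cl
    rw [← hy, q1Map_mk, Submodule.Quotient.eq]
    refine ⟨-w, ?_⟩
    rw [map_neg, map_add]
    have h3 : (D.d 2 1).hom w = y - (f.f 1).hom z - (f.f 1).hom x := by
      rw [hw]
      abel
    rw [h3]
    abel

end Groth.Agent.S16326
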