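import Groth.Statements.S16327
import Mathlib
import Groth.Agent.Lib.Helper8.ModuleCatHomology

set_option autoImplicit false
universe u v
open CategoryTheory
open W4c3biextchow

namespace Groth.Agent.S16327

open Groth.Agent.Helper8 CategoryTheory W4c3biextchow

/-- Let f : C ⟶ D be a chain map of ℕ-indexed chain complexes of modules over a ring R, and consider the
functor it induces between the groupoids attached to C and D (objects: degree-0 elements; morphisms
a ⟶ b: degree-1 elements with boundary b - a, modulo boundaries of degree-2 elements). This functor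
is essentially surjective if and only if f is surjective on homology in degree 0. (The published
statement is for complexes of abelian groups; this row allows modules over any ring R.) -/
theorem result
    (R : Type u) [Ring R] (C D : ChainComplex (ModuleCat.{v} R) ℕ) (f : C ⟶ D) :
    (W4c3biextchow.cxFunctor f).EssSurj ↔ Epi (HomologicalComplex.homologyMap f 0) := by
  rw [epi_homologyMap_iff_elements f 1 0 0 (by simp) (by simp)]
  have hd00 : ∀ (K : ChainComplex (ModuleCat.{v} R) ℕ) (y : K.X 0), (K.d 0 0).hom y = 0 := by
    intro K y
    rw [K.shape 0 0 (by simp)]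
    rfl
  constructor
  · intro hF y _
    obtain ⟨a, ⟨e⟩⟩ := hF.mem_essImage (⟨y⟩ : Obj D)
    obtain ⟨w, hw⟩ := Submodule.Quotient.mk_surjective _ (e.hom : Hom D _ _).cl
    have h1 := (e.hom : Hom D _ _).delta_cl
    rw [← hw, delta_mk] at h1
    refine ⟨a.pt, hd00 C _, w, ?_⟩
    rw [h1]
    simp
  · intro h
    constructor
    intro d
    obtain ⟨x, _, w, hw⟩ := h d.pt (hd00 D _)
    refine ⟨⟨x⟩, ⟨?_⟩⟩
    have h1 : delta D (Submodule.Quotient.mk w) = d.pt - ((cxFunctor f).obj ⟨x⟩).pt := by
      rw [delta_mk, cxFunctor_obj_pt, hw]
      abel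
    have h2 : delta D (- Submodule.Quotient.mk w) = ((cxFunctor f).obj ⟨x⟩).pt - d.pt := by
      rw [map_neg, h1, neg_sub]
    exact
      { hom := (⟨Submodule.Quotient.mk w, h1⟩ : Hom D _ _)
        inv := (⟨- Submodule.Quotient.mk w, h2⟩ : Hom D _ _)
        hom_inv_id := Hom.ext (by
          change _ + -_ = (0 : Q1 D)
          exact add_neg_cancel _)
        inv_hom_id := Hom.ext (by
          change -_ + _ = (0 : Q1 D)
          exact neg_add_cancel _) }

end Groth.Agent.S16327
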