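import Groth.Statements.S16331
import Mathlib
import Groth.Agent.S16330

set_option autoImplicit false
universe v
open CategoryTheory
open W4c3biextchow

namespace Groth.Agent.S16331

open CategoryTheory W4c3biextchow

/-- Let f : A' ⟶ A be a chain map of ℕ-indexed chain complexes of free abelian groups which is injective
in every degree, with free degreewise quotients A_q / f(A'_q), and a quasi-isomorphism; let h' : A'
⟶ B be a chain map to another complex of free abelian groups and g₁, g₂ : A ⟶ A' two chain maps with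
f ≫ g₁ = f ≫ g₂ = 𝟙. Consider the functors induced by g₁ ≫ h' and g₂ ≫ h' between the groupoids
attached to A and B (objects: degree-0 elements; morphisms a ⟶ b: degree-1 elements with boundary b
- a, modulo boundaries of degree-2 elements). Then there is a natural isomorphism between these two
functors whose component at every object of the form f(a'), a' a degree-0 element of A', is the zero
class, i.e. the identity morphism of h'(a'). -/
theorem result
    (A' A B : ChainComplex (ModuleCat.{v} ℤ) ℕ) (f : A' ⟶ A) (h' : A' ⟶ B)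
    [∀ q, Module.Free ℤ (A'.X q)] [∀ q, Module.Free ℤ (A.X q)] [∀ q, Module.Free ℤ (B.X q)]
    (hf : ∀ q, Function.Injective (f.f q).hom)
    (hq : ∀ q, Module.Free ℤ ((A.X q) ⧸ LinearMap.range (f.f q).hom)) [QuasiIso f]
    (g₁ g₂ : A ⟶ A') (h₁ : f ≫ g₁ = 𝟙 A') (h₂ : f ≫ g₂ = 𝟙 A') :
    ∃ N : W4c3biextchow.cxFunctor (g₁ ≫ h') ≅ W4c3biextchow.cxFunctor (g₂ ≫ h'),
      ∀ a : W4c3biextchow.Obj A',
        (N.hom.app ((W4c3biextchow.cxFunctor f).obj a) : W4c3biextchow.Hom B _ _).cl = 0 := by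
  obtain ⟨H, hH⟩ := Groth.Agent.S16330.result A' A f hf hq g₁ g₂ h₁ h₂
  have c0 : g₁.f 0 = H.hom 0 1 ≫ A'.d 1 0 + g₂.f 0 := by
    have h := H.comm 0
    rw [Homotopy.dNext_zero_chainComplex, Homotopy.prevD_chainComplex, zero_add] at h
    exact h
  have c1 : g₁.f 1 = A.d 1 0 ≫ H.hom 0 1 + H.hom 1 2 ≫ A'.d 2 1 + g₂.f 1 := by
    have h := H.comm 1
    rw [Homotopy.dNext_succ_chainComplex, Homotopy.prevD_chainComplex] at h
    exact h
  have e0 : ∀ a : A.X 0, (g₁.f 0).hom a =
      (A'.d 1 0).hom ((H.hom 0 1).hom a) + (g₂.f 0).hom a := fun a => by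
    have h := congrArg (fun ψ : A.X 0 ⟶ A'.X 0 => ModuleCat.Hom.hom ψ a) c0
    simpa using h
  have e1 : ∀ w : A.X 1, (g₁.f 1).hom w =
      (H.hom 0 1).hom ((A.d 1 0).hom w) + (A'.d 2 1).hom ((H.hom 1 2).hom w) +
        (g₂.f 1).hom w := fun w => by
    have h := congrArg (fun ψ : A.X 1 ⟶ A'.X 1 => ModuleCat.Hom.hom ψ w) c1
    simpa using h
  have hd10 : ∀ y : A'.X 1, (B.d 1 0).hom ((h'.f 1).hom y) = (h'.f 0).hom ((A'.d 1 0).hom y) :=
    fun y => LinearMap.congr_fun (congrArg ModuleCat.Hom.hom (h'.comm 1 0)) y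
  have hd21 : ∀ y : A'.X 2, (B.d 2 1).hom ((h'.f 2).hom y) = (h'.f 1).hom ((A'.d 2 1).hom y) :=
    fun y => LinearMap.congr_fun (congrArg ModuleCat.Hom.hom (h'.comm 2 1)) y
  have hHf : ∀ a : A'.X 0, (H.hom 0 1).hom ((f.f 0).hom a) = 0 := fun a => by
    have h := congrArg (fun ψ : A'.X 0 ⟶ A'.X 1 => ModuleCat.Hom.hom ψ a) (hH 0 1)
    simpa using h
  -- the components
  have hη : ∀ a : Obj A, delta B (- Submodule.Quotient.mk ((h'.f 1).hom ((H.hom 0 1).hom a.pt))) =
      ((cxFunctor (g₂ ≫ h')).obj a).pt - ((cxFunctor (g₁ ≫ h')).obj a).pt := by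
    intro a
    rw [map_neg, delta_mk, hd10]
    simp only [cxFunctor_obj_pt, HomologicalComplex.comp_f, ModuleCat.hom_comp,
      LinearMap.comp_apply]
    rw [e0 a.pt, map_add]
    abel
  have hη' : ∀ a : Obj A, delta B (Submodule.Quotient.mk ((h'.f 1).hom ((H.hom 0 1).hom a.pt))) =
      ((cxFunctor (g₁ ≫ h')).obj a).pt - ((cxFunctor (g₂ ≫ h')).obj a).pt := by
    intro a
    have h := hη a
    rw [map_neg] at h
    rw [← neg_sub, ← h, neg_neg]
  let η : ∀ a : Obj A, (cxFunctor (g₁ ≫ h')).obj a ≅ (cxFunctor (g₂ ≫ h')).obj a := fun a =>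
    { hom := (⟨- Submodule.Quotient.mk ((h'.f 1).hom ((H.hom 0 1).hom a.pt)), hη a⟩ : Hom B _ _)
      inv := (⟨Submodule.Quotient.mk ((h'.f 1).hom ((H.hom 0 1).hom a.pt)), hη' a⟩ : Hom B _ _)
      hom_inv_id := Hom.ext (by
        change -_ + _ = (0 : Q1 B)
        exact neg_add_cancel _)
      inv_hom_id := Hom.ext (by
        change _ + -_ = (0 : Q1 B)
        exact add_neg_cancel _) }
  have hnat : ∀ {a b : Obj A} (φ : a ⟶ b), (cxFunctor (g₁ ≫ h')).map φ ≫ (η b).hom =
      (η a).hom ≫ (cxFunctor (g₂ ≫ h')).map φ := by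
    intro a b φ
    apply Hom.ext
    change q1Map (g₁ ≫ h') (φ : Hom A a b).cl +
        - Submodule.Quotient.mk ((h'.f 1).hom ((H.hom 0 1).hom b.pt)) =
      - Submodule.Quotient.mk ((h'.f 1).hom ((H.hom 0 1).hom a.pt)) +
        q1Map (g₂ ≫ h') (φ : Hom A a b).cl
    obtain ⟨w, hw⟩ := Submodule.Quotient.mk_surjective _ (φ : Hom A a b).cl
    have hdw : (A.d 1 0).hom w = b.pt - a.pt := by
      have h := (φ : Hom A a b).delta_cl
      rw [← hw, delta_mk] at h
      exact h
    rw [← hw, q1Map_mk, q1Map_mk]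
    simp only [HomologicalComplex.comp_f, ModuleCat.hom_comp, LinearMap.comp_apply]
    rw [← Submodule.Quotient.mk_neg, ← Submodule.Quotient.mk_neg, ← Submodule.Quotient.mk_add,
      ← Submodule.Quotient.mk_add, Submodule.Quotient.eq]
    refine ⟨(h'.f 2).hom ((H.hom 1 2).hom w), ?_⟩
    rw [hd21, e1 w, hdw]
    simp only [map_add, map_sub]
    abel
  refine ⟨NatIso.ofComponents η hnat, ?_⟩
  · intro a
    change - Submodule.Quotient.mk ((h'.f 1).hom ((H.hom 0 1).hom ((f.f 0).hom a.pt))) = (0 : Q1 B)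
    rw [hHf, map_zero, Submodule.Quotient.mk_zero, neg_zero]

end Groth.Agent.S16331
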