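import Groth.Statements.S16335
import Mathlib

set_option autoImplicit false
universe u v w w'
open TensorProduct
open InvTh

namespace Groth.Agent.S16335

/-- Let `R` be a commutative ring with an action of a finite group `Γ` by ring automorphisms such that
the order of `Γ` is invertible in `R`, and let `A → R` be injective with image exactly the
invariants `R^Γ`, the action being `A`-linear. Then for every commutative `A`-algebra `S`, with `Γ`
acting on `S ⊗_A R` through the factor `R`, the map `S → S ⊗_A R`, `s ↦ s ⊗ 1`, is injective and its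
image is exactly the set of `Γ`-fixed elements: `S ≅ (S ⊗_A R)^Γ`. No flatness of `S` over `A` is
assumed; the invertibility of the order of `Γ` replaces it. This is the affine statement that for a
tame quotient the coarse space commutes with arbitrary base change. (The published lemma is the
statement that the coarse moduli space of a tame Deligne–Mumford stack commutes with arbitrary base
change, whose proof reduces to this ring statement. The published lemma also asserts the analogous
statement for the reduced fibre product when the base-change scheme is reduced; that clause is not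
part of this row.) -/
theorem result
    (A : Type u) [CommRing A] (R : Type v) [CommRing R] [Algebra A R]
    (Γ : Type w) [Group Γ] [Finite Γ] [MulSemiringAction Γ R] [SMulCommClass Γ A R]
    [Algebra.IsInvariant A R Γ] (hinj : Function.Injective (algebraMap A R))
    (hΓ : IsUnit (Nat.card Γ : R))
    (S : Type w') [CommRing S] [Algebra A S] :
    Function.Injective (fun s : S => s ⊗ₜ[A] (1 : R)) ∧
      ∀ x : S ⊗[A] R,
        (∀ γ : Γ, Algebra.TensorProduct.map (AlgHom.id A S) (MulSemiringAction.toAlgHom A R γ) x = x) →
          x ∈ Set.range (fun s : S => s ⊗ₜ[A] (1 : R)) := by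
  classical
  cases nonempty_fintype Γ
  obtain ⟨u, hu⟩ := hΓ
  have hufix : ∀ γ : Γ, γ • (↑u : R) = ↑u := by
    intro γ
    rw [hu]
    exact map_natCast (MulSemiringAction.toRingHom Γ R γ) _
  have huinvfix : ∀ γ : Γ, γ • (↑u⁻¹ : R) = ↑u⁻¹ := by
    intro γ
    have h1 : (↑u : R) * (γ • (↑u⁻¹ : R)) = 1 := by
      conv_lhs => rw [← hufix γ]
      rw [← smul_mul', Units.mul_inv, smul_one]
    exact Units.eq_inv_of_mul_eq_one_left h1
  obtain ⟨a0, ha0⟩ := Algebra.IsInvariant.isInvariant (A := A) (G := Γ) (↑u⁻¹ : R) huinvfix
  have ha0card : a0 * (Fintype.card Γ : A) = 1 := by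
    apply hinj
    rw [map_mul, ha0, map_natCast, map_one, ← Nat.card_eq_fintype_card, ← hu]
    simp
  -- the averaging map on R
  have havgfix : ∀ (r : R) (γ' : Γ), γ' • ((↑u⁻¹ : R) * ∑ γ : Γ, γ • r) = (↑u⁻¹ : R) * ∑ γ : Γ, γ • r := by
    intro r γ'
    rw [smul_mul', huinvfix, Finset.smul_sum]
    congr 1
    simp_rw [smul_smul]
    exact Fintype.sum_equiv (Equiv.mulLeft γ') _ _ (fun _ => rfl)
  -- Reynolds operator
  have hρex : ∀ r : R, ∃ a : A, algebraMap A R a = (↑u⁻¹ : R) * ∑ γ : Γ, γ • r := fun r =>
    Algebra.IsInvariant.isInvariant (A := A) (G := Γ) _ (havgfix r)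
  choose ρ hρ using hρex
  have hρadd : ∀ r r', ρ (r + r') = ρ r + ρ r' := by
    intro r r'
    apply hinj
    rw [map_add, hρ, hρ, hρ]
    simp [smul_add, Finset.sum_add_distrib, mul_add]
  have hρsmul : ∀ (a : A) r, ρ (a • r) = a * ρ r := by
    intro a r
    apply hinj
    rw [map_mul, hρ, hρ]
    have : ∀ γ : Γ, γ • (a • r) = a • (γ • r) := fun γ => smul_comm γ a r
    simp_rw [this]
    rw [← Finset.smul_sum, Algebra.smul_def]
    ring
  have hρone : ρ 1 = 1 := by
    apply hinj
    rw [hρ, map_one]
    simp only [smul_one, Finset.sum_const, Finset.card_univ]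
    rw [nsmul_eq_mul, mul_one, ← Nat.card_eq_fintype_card, ← hu]
    simp
  let ρl : R →ₗ[A] A :=
    { toFun := ρ
      map_add' := hρadd
      map_smul' := fun a r => by simpa using hρsmul a r }
  let φ : S ⊗[A] R →ₗ[A] S := TensorProduct.lift
    (LinearMap.mk₂ A (fun (s : S) (r : R) => ρ r • s)
      (fun s s' r => by simp [smul_add])
      (fun a s r => by exact smul_comm (ρ r) a s)
      (fun s r r' => by simp [hρadd, add_smul])
      (fun a s r => by simp [hρsmul, mul_smul]))
  have hφ : ∀ s r, φ (s ⊗ₜ[A] r) = ρ r • s := fun s r => by simp [φ]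
  refine ⟨?_, ?_⟩
  · intro s s' h
    have := congrArg φ h
    simpa [hφ, hρone] using this
  · intro x hx
    have key : ∀ x : S ⊗[A] R, (φ x) ⊗ₜ[A] (1 : R) =
        a0 • ∑ γ : Γ, Algebra.TensorProduct.map (AlgHom.id A S) (MulSemiringAction.toAlgHom A R γ) x := by
      intro x
      induction x using TensorProduct.induction_on with
      | zero => simp
      | tmul s r =>
        rw [hφ]
        simp only [Algebra.TensorProduct.map_tmul, AlgHom.coe_id, id_eq,
          MulSemiringAction.toAlgHom_apply]
        rw [← TensorProduct.tmul_sum, ← TensorProduct.tmul_smul, TensorProduct.smul_tmul,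
          Algebra.smul_def, mul_one, hρ, Algebra.smul_def, ha0]
      | add x y hx hy =>
        simp only [map_add, TensorProduct.add_tmul, hx, hy, Finset.sum_add_distrib, smul_add]
    refine ⟨φ x, ?_⟩
    simp only
    rw [key x]
    simp_rw [hx]
    rw [Finset.sum_const, Finset.card_univ, ← Nat.cast_smul_eq_nsmul A, smul_smul, ha0card, one_smul]

end Groth.Agent.S16335
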