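import Groth.Statements.S16343
import Mathlib

set_option autoImplicit false
open KatoHom

namespace Groth.Agent.S16343

section lemmas

variable {G : Type*} [AddCommGroup G]

/-- positive with all prime factors in `P` -/
def IsPNum (P : Set ℕ) (n : ℕ) : Prop := 0 < n ∧ ∀ p : ℕ, p.Prime → p ∣ n → p ∈ P

/-- positive with no prime factor in `P` -/
def IsPNum' (P : Set ℕ) (n : ℕ) : Prop := 0 < n ∧ ∀ p : ℕ, p.Prime → p ∣ n → p ∉ P

lemma exists_factor (P : Set ℕ) : ∀ n : ℕ, 0 < n → ∃ u v, n = u * v ∧ IsPNum P u ∧ IsPNum' P v := by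
  classical
  intro n
  induction n using Nat.strong_induction_on with
  | _ n ih =>
    intro hn
    by_cases h1 : n = 1
    · subst h1
      refine ⟨1, 1, rfl, ⟨Nat.one_pos, ?_⟩, ⟨Nat.one_pos, ?_⟩⟩
      · intro p hp hp1
        exact absurd (Nat.dvd_one.mp hp1) hp.ne_one
      · intro p hp hp1
        exact absurd (Nat.dvd_one.mp hp1) hp.ne_one
    · have hp : (n.minFac).Prime := Nat.minFac_prime h1
      have hdvd : n.minFac ∣ n := Nat.minFac_dvd n
      obtain ⟨n', hn'⟩ := hdvd
      have hn'pos : 0 < n' := by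
        rcases Nat.eq_zero_or_pos n' with h | h
        · rw [h, mul_zero] at hn'
          omega
        · exact h
      have hlt : n' < n := by
        have h2 : 2 ≤ n.minFac := hp.two_le
        nlinarith
      obtain ⟨u, v, huv, hu, hv⟩ := ih n' hlt hn'pos
      by_cases hmem : n.minFac ∈ P
      · refine ⟨n.minFac * u, v, by rw [mul_assoc, ← huv]; exact hn', ⟨Nat.mul_pos hp.pos hu.1, ?_⟩, hv⟩
        intro q hq hqd
        rcases (Nat.Prime.dvd_mul hq).mp hqd with h | h
        · rw [(Nat.prime_dvd_prime_iff_eq hq hp).mp h]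
          exact hmem
        · exact hu.2 q hq h
      · refine ⟨u, n.minFac * v, by rw [mul_left_comm, ← huv]; exact hn', hu, ⟨Nat.mul_pos hp.pos hv.1, ?_⟩⟩
        intro q hq hqd
        rcases (Nat.Prime.dvd_mul hq).mp hqd with h | h
        · rw [(Nat.prime_dvd_prime_iff_eq hq hp).mp h]
          exact hmem
        · exact hv.2 q hq h

lemma coprime_of_pnum {P : Set ℕ} {u v : ℕ} (hu : IsPNum P u) (hv : IsPNum' P v) :
    Nat.Coprime u v :=
  Nat.coprime_of_dvd (fun p hp hpu hpv => hv.2 p hp hpv (hu.2 p hp hpu))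

lemma bezout_smul (u v : ℕ) (h : Nat.Coprime u v) (x : G) :
    x = ((u : ℤ) * Nat.gcdA u v) • x + ((v : ℤ) * Nat.gcdB u v) • x := by
  rw [← add_smul, ← Nat.gcd_eq_gcd_ab, h.gcd_eq_one]
  simp

lemma divisible_of_pnum (P : Set ℕ) (K : AddSubgroup G)
    (hD : ∀ ℓ ∈ P, ∀ x ∈ K, ∃ y ∈ K, ℓ • y = x) :
    ∀ m : ℕ, IsPNum P m → ∀ x ∈ K, ∃ y ∈ K, m • y = x := by
  intro m
  induction m using Nat.strong_induction_on with
  | _ m ih =>
    intro hm x hx
    by_cases h1 : m = 1
    · subst h1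
      exact ⟨x, hx, one_smul _ x⟩
    · have hp : (m.minFac).Prime := Nat.minFac_prime h1
      obtain ⟨m', hm'⟩ := Nat.minFac_dvd m
      have hm'pos : 0 < m' := by
        rcases Nat.eq_zero_or_pos m' with h | h
        · rw [h, mul_zero] at hm'
          have := hm.1
          omega
        · exact h
      have hlt : m' < m := by
        have h2 : 2 ≤ m.minFac := hp.two_le
        nlinarith
      have hm'P : IsPNum P m' :=
        ⟨hm'pos, fun q hq hqd => hm.2 q hq (hqd.trans ⟨m.minFac, by rw [mul_comm]; exact hm'⟩)⟩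
      obtain ⟨y1, hy1, hy1x⟩ := hD m.minFac (hm.2 _ hp (Nat.minFac_dvd m)) x hx
      obtain ⟨y2, hy2, hy2x⟩ := ih m' hlt hm'P y1 hy1
      refine ⟨y2, hy2, ?_⟩
      rw [hm', mul_smul, hy2x, hy1x]

end lemmas

/-- Let P be a set of primes and π : A → T a surjection of abelian groups whose kernel is ℓ-divisible
for every ℓ ∈ P, with T a torsion group; let T(P) be the subgroup of elements of T killed by a
positive integer all of whose prime factors lie in P, and T' the subgroup of elements killed by a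
positive integer none of whose prime factors lies in P. Then the preimage π⁻¹(T') is ℓ-divisible for
every ℓ ∈ P, and π has a section s over T(P) for which (d, t) ↦ d + s(t) is a bijection from π⁻¹(T')
× T(P) onto A, so that A is the direct sum of π⁻¹(T') and a copy of T(P). (The decomposition is
expressed through a section of π over T(P).) -/
theorem result
    {A T : Type*} [AddCommGroup A] [AddCommGroup T] (P : Set ℕ) (hP : ∀ p ∈ P, p.Prime)
    (π : A →+ T) (hπ : Function.Surjective π) (hT : ∀ t : T, ∃ n : ℕ, 0 < n ∧ n • t = 0)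
    (hD : ∀ ℓ ∈ P, ∀ x ∈ π.ker, ∃ y ∈ π.ker, ℓ • y = x)
    (TP T' : AddSubgroup T)
    (hTP : ∀ t, t ∈ TP ↔ ∃ n : ℕ, 0 < n ∧ (∀ p : ℕ, p.Prime → p ∣ n → p ∈ P) ∧ n • t = 0)
    (hT' : ∀ t, t ∈ T' ↔ ∃ n : ℕ, 0 < n ∧ (∀ p : ℕ, p.Prime → p ∣ n → p ∉ P) ∧ n • t = 0) :
    (∀ ℓ ∈ P, ∀ x ∈ T'.comap π, ∃ y ∈ T'.comap π, ℓ • y = x) ∧
    ∃ s : TP →+ A, (∀ t : TP, π (s t) = (t : T)) ∧
      Function.Bijective (fun q : (T'.comap π) × TP => (q.1 : A) + s q.2) := by
  classical
  have hTPT' : ∀ t, t ∈ TP → t ∈ T' → t = 0 := by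
    intro t h1 h2
    obtain ⟨n, hn, hnP, hnt⟩ := (hTP t).mp h1
    obtain ⟨n', hn', hn'P, hn't⟩ := (hT' t).mp h2
    have hc : Nat.Coprime n n' := coprime_of_pnum ⟨hn, hnP⟩ ⟨hn', hn'P⟩
    rw [bezout_smul n n' hc t, mul_comm, mul_smul, natCast_zsmul, hnt, smul_zero, mul_comm,
      mul_smul, natCast_zsmul, hn't, smul_zero, add_zero]
  have hdecomp : ∀ t : T, ∃ t' ∈ T', ∃ tp ∈ TP, t = t' + tp := by
    intro t
    obtain ⟨n, hn, hnt⟩ := hT t
    obtain ⟨u, v, rfl, hu, hv⟩ := exists_factor P n hn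
    have hc := coprime_of_pnum hu hv
    refine ⟨((u : ℤ) * Nat.gcdA u v) • t, ?_, ((v : ℤ) * Nat.gcdB u v) • t, ?_,
      bezout_smul u v hc t⟩
    · rw [hT']
      refine ⟨v, hv.1, hv.2, ?_⟩
      rw [← natCast_zsmul, smul_smul]
      have e : ((v : ℤ) * ((u : ℤ) * Nat.gcdA u v)) = Nat.gcdA u v * ((u * v : ℕ) : ℤ) := by
        push_cast
        ring
      rw [e, mul_smul, natCast_zsmul, hnt, smul_zero]
    · rw [hTP]
      refine ⟨u, hu.1, hu.2, ?_⟩
      rw [← natCast_zsmul, smul_smul]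
      have e : ((u : ℤ) * ((v : ℤ) * Nat.gcdB u v)) = Nat.gcdB u v * ((u * v : ℕ) : ℤ) := by
        push_cast
        ring
      rw [e, mul_smul, natCast_zsmul, hnt, smul_zero]
  refine ⟨?_, ?_⟩
  · -- divisibility of the preimage
    intro ℓ hℓ x hx
    rw [AddSubgroup.mem_comap] at hx
    obtain ⟨n, hn, hnP, hnx⟩ := (hT' _).mp hx
    have hc : Nat.Coprime ℓ n := by
      rw [Nat.Prime.coprime_iff_not_dvd (hP ℓ hℓ)]
      intro hdvd
      exact hnP ℓ (hP ℓ hℓ) hdvd hℓ
    have hz : ((n : ℤ) * Nat.gcdB ℓ n) • x ∈ π.ker := by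
      rw [AddMonoidHom.mem_ker, map_zsmul, mul_comm, mul_smul, natCast_zsmul, hnx, smul_zero]
    obtain ⟨k, hk, hkz⟩ := hD ℓ hℓ _ hz
    refine ⟨Nat.gcdA ℓ n • x + k, ?_, ?_⟩
    · rw [AddSubgroup.mem_comap, map_add, (AddMonoidHom.mem_ker).mp hk, add_zero, map_zsmul]
      exact T'.zsmul_mem hx _
    · rw [smul_add, hkz, ← natCast_zsmul, smul_smul]
      exact (bezout_smul ℓ n hc x).symm
  · -- the section
    let SS : Set (AddSubgroup A) := {S | S ⊓ π.ker = ⊥ ∧ S.map π ≤ TP}
    obtain ⟨S, hS⟩ : ∃ S, Maximal (· ∈ SS) S := by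
      apply zorn_le₀
      intro c hc hchain
      by_cases hne : c.Nonempty
      · refine ⟨sSup c, ⟨?_, ?_⟩, fun z hz => le_sSup hz⟩
        · rw [eq_bot_iff]
          rintro x ⟨hx1, hx2⟩
          obtain ⟨s, hs, hxs⟩ :=
            (AddSubgroup.mem_sSup_of_directedOn hne hchain.directedOn).mp hx1
          have h1 : x ∈ s ⊓ π.ker := ⟨hxs, hx2⟩
          rw [(hc hs).1] at h1
          exact h1
        · rintro y ⟨x, hx, rfl⟩
          obtain ⟨s, hs, hxs⟩ :=
            (AddSubgroup.mem_sSup_of_directedOn hne hchain.directedOn).mp hx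
          exact (hc hs).2 (AddSubgroup.mem_map_of_mem π hxs)
      · refine ⟨⊥, ⟨bot_inf_eq _, ?_⟩, fun z hz => absurd ⟨z, hz⟩ hne⟩
        rw [AddSubgroup.map_bot]
        exact bot_le
    have hSK : S ⊓ π.ker = ⊥ := hS.prop.1
    have hSTP : S.map π ≤ TP := hS.prop.2
    have hmapeq : ∀ t ∈ TP, t ∈ S.map π := by
      intro t ht
      by_contra htnot
      obtain ⟨n, hn, hnP, hnt⟩ := (hTP t).mp ht
      have hex : ∃ m, 0 < m ∧ m • t ∈ S.map π := ⟨n, hn, by rw [hnt]; exact zero_mem _⟩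
      obtain ⟨hm0, hmt⟩ := Nat.find_spec hex
      have hmin : ∀ r, 0 < r → r < Nat.find hex → r • t ∉ S.map π :=
        fun r hr hrm h => Nat.find_min hex hrm ⟨hr, h⟩
      have hdiv : ∀ j : ℤ, j • t ∈ S.map π → ((Nat.find hex : ℕ) : ℤ) ∣ j := by
        intro j hj
        have hmz : ((Nat.find hex : ℕ) : ℤ) ≠ 0 := by exact_mod_cast hm0.ne'
        have hr : (j % ((Nat.find hex : ℕ) : ℤ)) • t ∈ S.map π := by
          rw [Int.emod_def, sub_smul]
          apply sub_mem hj
          rw [mul_comm, mul_smul, natCast_zsmul]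
          exact (S.map π).zsmul_mem hmt _
        have hnonneg : 0 ≤ j % ((Nat.find hex : ℕ) : ℤ) := Int.emod_nonneg _ hmz
        have hlt : j % ((Nat.find hex : ℕ) : ℤ) < ((Nat.find hex : ℕ) : ℤ) :=
          Int.emod_lt_of_pos _ (by exact_mod_cast hm0)
        by_contra hnd
        have hne : j % ((Nat.find hex : ℕ) : ℤ) ≠ 0 := fun h => hnd (Int.dvd_of_emod_eq_zero h)
        obtain ⟨r, hr'⟩ := Int.eq_ofNat_of_zero_le hnonneg
        rw [hr'] at hr hlt hne
        rw [natCast_zsmul] at hr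
        have hr0 : 0 < r := by
          rcases Nat.eq_zero_or_pos r with h | h
          · rw [h] at hne
            exact absurd rfl hne
          · exact h
        have hrm : r < Nat.find hex := by exact_mod_cast hlt
        exact hmin r hr0 hrm hr
      have hmn : Nat.find hex ∣ n := by
        have h1 := hdiv n (by rw [natCast_zsmul, hnt]; exact zero_mem _)
        exact_mod_cast h1
      have hmP : IsPNum P (Nat.find hex) :=
        ⟨hm0, fun p hp hpm => hnP p hp (hpm.trans hmn)⟩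
      obtain ⟨σ, hσS, hσ⟩ := hmt
      obtain ⟨a0, ha0⟩ := hπ t
      have hk : Nat.find hex • a0 - σ ∈ π.ker := by
        rw [AddMonoidHom.mem_ker, map_sub, map_nsmul, ha0, hσ, sub_self]
      obtain ⟨k, hkK, hkm⟩ := divisible_of_pnum P π.ker hD _ hmP _ hk
      have hπa : π (a0 - k) = t := by
        rw [map_sub, ha0, (AddMonoidHom.mem_ker).mp hkK, sub_zero]
      have hma : Nat.find hex • (a0 - k) = σ := by
        rw [smul_sub, hkm]
        abel
      have hS' : S ⊔ AddSubgroup.zmultiples (a0 - k) ∈ SS := by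
        constructor
        · rw [eq_bot_iff]
          rintro x ⟨hx1, hx2⟩
          obtain ⟨s, hs, z, hz, rfl⟩ := AddSubgroup.mem_sup.mp hx1
          obtain ⟨j, rfl⟩ := AddSubgroup.mem_zmultiples_iff.mp hz
          have h0 : π s + j • t = 0 := by
            have h := (AddMonoidHom.mem_ker).mp hx2
            rwa [map_add, map_zsmul, hπa] at h
          have h1 : j • t ∈ S.map π := by
            have h2 : j • t = π (-s) := by
              rw [map_neg]
              exact eq_neg_of_add_eq_zero_right h0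
            rw [h2]
            exact AddSubgroup.mem_map_of_mem π (S.neg_mem hs)
          obtain ⟨j', rfl⟩ := hdiv j h1
          have h2 : (((Nat.find hex : ℕ) : ℤ) * j') • (a0 - k) ∈ S := by
            rw [mul_comm, mul_smul, natCast_zsmul, hma]
            exact S.zsmul_mem hσS _
          have h3 : s + (((Nat.find hex : ℕ) : ℤ) * j') • (a0 - k) ∈ S ⊓ π.ker :=
            ⟨S.add_mem hs h2, hx2⟩
          rw [hSK] at h3
          exact h3
        · rintro y ⟨x, hx, rfl⟩
          obtain ⟨s, hs, z, hz, rfl⟩ := AddSubgroup.mem_sup.mp hx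
          obtain ⟨j, rfl⟩ := AddSubgroup.mem_zmultiples_iff.mp hz
          rw [map_add, map_zsmul, hπa]
          exact TP.add_mem (hSTP (AddSubgroup.mem_map_of_mem π hs)) (TP.zsmul_mem ht j)
      have hle : S ⊔ AddSubgroup.zmultiples (a0 - k) ≤ S := hS.le_of_ge hS' le_sup_left
      have haS : a0 - k ∈ S :=
        hle (AddSubgroup.mem_sup_right (AddSubgroup.mem_zmultiples (a0 - k)))
      exact htnot ⟨a0 - k, haS, hπa⟩
    have hinj : ∀ x ∈ S, ∀ y ∈ S, π x = π y → x = y := by
      intro x hx y hy h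
      have h1 : x - y ∈ S ⊓ π.ker :=
        ⟨S.sub_mem hx hy, (AddMonoidHom.mem_ker).mpr (by rw [map_sub, h, sub_self])⟩
      rw [hSK, AddSubgroup.mem_bot] at h1
      exact sub_eq_zero.mp h1
    let fS : S →+ TP := (π.comp S.subtype).codRestrict TP
      (fun x => hSTP (AddSubgroup.mem_map_of_mem π x.2))
    have hbij : Function.Bijective fS := by
      constructor
      · intro x y h
        exact Subtype.ext (hinj x x.2 y y.2 (congrArg Subtype.val h))
      · intro t
        obtain ⟨x, hx, hxt⟩ := hmapeq t t.2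
        exact ⟨⟨x, hx⟩, Subtype.ext hxt⟩
    let e := AddEquiv.ofBijective fS hbij
    let s : TP →+ A := S.subtype.comp e.symm.toAddMonoidHom
    have hs : ∀ t : TP, π (s t) = (t : T) := by
      intro t
      have h1 := e.apply_symm_apply t
      exact congrArg Subtype.val h1
    refine ⟨s, hs, ?_, ?_⟩
    · rintro ⟨d, t⟩ ⟨d', t'⟩ h
      simp only at h
      have h1 := congrArg π h
      rw [map_add, map_add, hs, hs] at h1
      have hd : π (d : A) ∈ T' := d.2
      have hd' : π (d' : A) ∈ T' := d'.2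
      have h2 : (t : T) - t' = π (d' : A) - π (d : A) := by
        rw [sub_eq_sub_iff_add_eq_add, add_comm, h1, add_comm]
      have h3 : (t : T) - t' = 0 :=
        hTPT' _ (TP.sub_mem t.2 t'.2) (by rw [h2]; exact T'.sub_mem hd' hd)
      have h4 : t = t' := Subtype.ext (sub_eq_zero.mp h3)
      subst h4
      have h5 : (d : A) = d' := add_right_cancel h
      rw [Subtype.ext h5]
    · intro a
      obtain ⟨t', ht', tp, htp, hsum⟩ := hdecomp (π a)
      have hd : a - s ⟨tp, htp⟩ ∈ T'.comap π := by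
        rw [AddSubgroup.mem_comap, map_sub, hs, hsum]
        simpa using ht'
      refine ⟨(⟨a - s ⟨tp, htp⟩, hd⟩, ⟨tp, htp⟩), ?_⟩
      simp

end Groth.Agent.S16343
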