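import Groth.Statements.S16344
import Mathlib

set_option autoImplicit false
universe u v
open IdeleMod

namespace Groth.Agent.S16344

/-- Compactness argument: a compatible choice from a system of closed nonempty subsets. -/
theorem exists_compatible_of_closed
    {ι : Type u} [Preorder ι] [IsDirected ι (· ≤ ·)]
    (G : ι → Type v) [∀ i, AddCommGroup (G i)] [∀ i, TopologicalSpace (G i)]
    [∀ i, CompactSpace (G i)] [∀ i, T2Space (G i)]
    (f : ∀ ⦃i j : ι⦄, i ≤ j → (G j →+ G i)) (hf : ∀ i j (h : i ≤ j), Continuous (f h))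
    (hid : ∀ i (x : G i), f (le_refl i) x = x)
    (hcomp : ∀ i j k (hij : i ≤ j) (hjk : j ≤ k) (x : G k), f hij (f hjk x) = f (hij.trans hjk) x)
    (C : ∀ i, Set (G i)) (hCc : ∀ i, IsClosed (C i)) (hCn : ∀ i, (C i).Nonempty)
    (hCf : ∀ i j (h : i ≤ j), ∀ x ∈ C j, f h x ∈ C i) :
    ∃ z : ∀ i, G i, (∀ i j (h : i ≤ j), f h (z j) = z i) ∧ ∀ i, z i ∈ C i := by
  classical
  rcases isEmpty_or_nonempty ι with hι | hι
  · exact ⟨fun i => (hι.false i).elim, fun i => (hι.false i).elim, fun i => (hι.false i).elim⟩
  let S : ι → Set (∀ i, G i) := fun j => {z | z j ∈ C j ∧ ∀ i (h : i ≤ j), f h (z j) = z i}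
  have hSmono : ∀ j l, j ≤ l → S l ⊆ S j := by
    intro j l hjl z hz
    obtain ⟨hz1, hz2⟩ := hz
    refine ⟨?_, ?_⟩
    · rw [← hz2 j hjl]; exact hCf j l hjl _ hz1
    · intro i h
      rw [← hz2 j hjl, hcomp, hz2]
  have hSclosed : ∀ j, IsClosed (S j) := by
    intro j
    have h1 : IsClosed {z : ∀ i, G i | z j ∈ C j} := (hCc j).preimage (continuous_apply j)
    have h2 : IsClosed {z : ∀ i, G i | ∀ i (h : i ≤ j), f h (z j) = z i} := by
      simp only [Set.setOf_forall]
      refine isClosed_iInter fun i => isClosed_iInter fun h => ?_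
      exact isClosed_eq ((hf i j h).comp (continuous_apply j)) (continuous_apply i)
    exact h1.inter h2
  have hSne : ∀ j, (S j).Nonempty := by
    intro j
    obtain ⟨c, hc⟩ := hCn j
    refine ⟨fun i => if h : i ≤ j then f h c else 0, ?_, ?_⟩
    · simp only [le_refl, dite_true, hid]; exact hc
    · intro i h
      simp only [le_refl, dite_true, hid, h]
  have hdir : Directed (· ⊇ ·) S := by
    intro j k
    obtain ⟨l, hjl, hkl⟩ := exists_ge_ge j k
    exact ⟨l, hSmono j l hjl, hSmono k l hkl⟩
  obtain ⟨z, hz⟩ := IsCompact.nonempty_iInter_of_directed_nonempty_isCompact_isClosed S hdir hSne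
    (fun j => (hSclosed j).isCompact) hSclosed
  rw [Set.mem_iInter] at hz
  exact ⟨z, fun i j h => (hz j).2 i h, fun i => (hz i).1⟩

/-- Let (G_i) be an inverse system, indexed by a directed preorder, of compact Hausdorff topological
abelian groups with continuous surjective transition maps, let G be its limit (the group of
compatible families) and let m be a natural number. Then the canonical map G/mG → lim G_i/mG_i is
bijective: a compatible family that lies in mG_i at every index is m times a compatible family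
(injectivity), and every family that is compatible modulo m agrees modulo m, index by index, with a
compatible family (surjectivity). -/
theorem result
    {ι : Type u} [Preorder ι] [IsDirected ι (· ≤ ·)]
    (G : ι → Type v) [∀ i, AddCommGroup (G i)] [∀ i, TopologicalSpace (G i)]
    [∀ i, IsTopologicalAddGroup (G i)] [∀ i, CompactSpace (G i)] [∀ i, T2Space (G i)]
    (f : ∀ ⦃i j : ι⦄, i ≤ j → (G j →+ G i)) (hf : ∀ i j (h : i ≤ j), Continuous (f h))
    (hid : ∀ i (x : G i), f (le_refl i) x = x)
    (hcomp : ∀ i j k (hij : i ≤ j) (hjk : j ≤ k) (x : G k), f hij (f hjk x) = f (hij.trans hjk) x)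
    (hsurj : ∀ i j (h : i ≤ j), Function.Surjective (f h)) (m : ℕ) :
    (∀ x : ∀ i, G i, (∀ i j (h : i ≤ j), f h (x j) = x i) → (∀ i, ∃ y : G i, m • y = x i) →
        ∃ z : ∀ i, G i, (∀ i j (h : i ≤ j), f h (z j) = z i) ∧ ∀ i, m • z i = x i) ∧
    (∀ y : ∀ i, G i, (∀ i j (h : i ≤ j), ∃ w : G i, f h (y j) - y i = m • w) →
        ∃ x : ∀ i, G i, (∀ i j (h : i ≤ j), f h (x j) = x i) ∧ ∀ i, ∃ w : G i, x i - y i = m • w) := by
  classical
  refine ⟨?_, ?_⟩
  · intro x hx hdiv
    obtain ⟨z, hz1, hz2⟩ := exists_compatible_of_closed G f hf hid hcomp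
      (fun i => {z | m • z = x i})
      (fun i => isClosed_eq (continuous_nsmul m) continuous_const)
      (fun i => hdiv i)
      (fun i j h z hz => by
        change m • z = x j at hz
        change m • f h z = x i
        rw [← map_nsmul, hz, hx])
    exact ⟨z, hz1, hz2⟩
  · intro y hy
    obtain ⟨x, hx1, hx2⟩ := exists_compatible_of_closed G f hf hid hcomp
      (fun i => Set.range (fun w : G i => y i + m • w))
      (fun i => (isCompact_range ((continuous_const).add (continuous_nsmul m))).isClosed)
      (fun i => ⟨y i + m • 0, 0, rfl⟩)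
      (fun i j h z hz => by
        obtain ⟨w, rfl⟩ := hz
        obtain ⟨w', hw'⟩ := hy i j h
        refine ⟨f h w + w', ?_⟩
        simp only [map_add, map_nsmul, smul_add]
        rw [← hw']
        abel)
    refine ⟨x, hx1, fun i => ?_⟩
    obtain ⟨w, hw⟩ := hx2 i
    exact ⟨w, by rw [← hw]; exact add_sub_cancel_left _ _⟩

end Groth.Agent.S16344
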