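import Groth.Statements.S16346
import Mathlib

set_option autoImplicit false
universe u v
open KatoHom

namespace Groth.Agent.S16346

/-- Let P be a set of primes and I_P the set of positive integers all of whose prime factors lie in P.
Let A be an abelian group, (B_n)_{n ∈ I_P} an inverse system of abelian groups with transition maps
B_n → B_m for m ∣ n, and φ_n : A → B_n homomorphisms vanishing on nA and compatible with the
transition maps, so that they induce φ̂ : Â → B̂ on the limits Â = lim A/nA and B̂ = lim B_n (limits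
taken as compatible families). Suppose some N ∈ I_P kills the torsion subgroup of B̂ and kills the
kernel of φ̂ (the latter meaning: a compatible family of residues (a_n) with φ_n(a_n) = 0 for all n
has N a_n ∈ nA for all n). Then the subgroup ⋂_{n ∈ I_P} nA is ℓ-divisible for every ℓ ∈ P, and it
contains every subgroup of A that is ℓ-divisible for all ℓ ∈ P; that is, it is the largest
P-divisible subgroup of A. -/
theorem result
    {A : Type u} [AddCommGroup A] (P : Set ℕ) (hP : ∀ p ∈ P, p.Prime)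
    (IP : Set ℕ) (hIP : ∀ n, n ∈ IP ↔ 0 < n ∧ ∀ p : ℕ, p.Prime → p ∣ n → p ∈ P)
    (B : IP → Type v) [∀ n, AddCommGroup (B n)]
    (g : ∀ ⦃m n : IP⦄, (m : ℕ) ∣ (n : ℕ) → (B n →+ B m))
    (hgid : ∀ (n : IP) (b : B n), g (dvd_refl (n : ℕ)) b = b)
    (hgcomp : ∀ (k m n : IP) (hkm : (k : ℕ) ∣ (m : ℕ)) (hmn : (m : ℕ) ∣ (n : ℕ)) (b : B n),
      g hkm (g hmn b) = g (hkm.trans hmn) b)
    (φ : ∀ n : IP, A →+ B n) (hφ : ∀ (n : IP) (a : A), φ n ((n : ℕ) • a) = 0)
    (hφg : ∀ (m n : IP) (h : (m : ℕ) ∣ (n : ℕ)) (a : A), g h (φ n a) = φ m a)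
    (N : ℕ) (hN : N ∈ IP)
    (htor : ∀ b : ∀ n : IP, B n, (∀ (m n : IP) (h : (m : ℕ) ∣ (n : ℕ)), g h (b n) = b m) →
      (∃ k : ℕ, 0 < k ∧ ∀ n, k • b n = 0) → ∀ n, N • b n = 0)
    (hker : ∀ a : IP → A, (∀ m n : IP, (m : ℕ) ∣ (n : ℕ) → ∃ c : A, a n - a m = (m : ℕ) • c) →
      (∀ n, φ n (a n) = 0) → ∀ n : IP, ∃ c : A, N • a n = (n : ℕ) • c) :
    (∀ ℓ ∈ P, ∀ x : A, (∀ n ∈ IP, ∃ y : A, x = n • y) →
        ∃ y : A, (∀ n ∈ IP, ∃ z : A, y = n • z) ∧ ℓ • y = x) ∧
    (∀ H : AddSubgroup A, (∀ ℓ ∈ P, ∀ x ∈ H, ∃ y ∈ H, ℓ • y = x) →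
        ∀ x ∈ H, ∀ n ∈ IP, ∃ y : A, x = n • y) := by
  classical
  refine ⟨?_, ?_⟩
  · intro ℓ hℓ x hx
    have hℓprime : ℓ.Prime := hP ℓ hℓ
    have hNpos : 0 < N := ((hIP N).mp hN).1
    have hNP : ∀ p : ℕ, p.Prime → p ∣ N → p ∈ P := ((hIP N).mp hN).2
    -- ℓ * (N * N) ∈ IP
    have hM : ℓ * (N * N) ∈ IP := by
      rw [hIP]
      refine ⟨Nat.mul_pos hℓprime.pos (Nat.mul_pos hNpos hNpos), ?_⟩
      intro p hp hdvd
      rcases (Nat.Prime.dvd_mul hp).mp hdvd with h | h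
      · rw [(Nat.prime_dvd_prime_iff_eq hp hℓprime).mp h]; exact hℓ
      · rcases (Nat.Prime.dvd_mul hp).mp h with h | h <;> exact hNP p hp h
    obtain ⟨z, hz⟩ := hx _ hM
    -- the family φ n z is torsion
    have h1 : ∀ n : IP, N • φ n z = 0 := by
      apply htor (fun n => φ n z) (fun m n h => hφg m n h z)
      refine ⟨ℓ * (N * N), Nat.mul_pos hℓprime.pos (Nat.mul_pos hNpos hNpos), ?_⟩
      intro n
      rw [← map_nsmul, ← hz]
      obtain ⟨w, hw⟩ := hx n n.2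
      rw [hw]
      exact hφ n w
    -- so N • z is in the kernel family
    have h2 : ∀ n : IP, ∃ c : A, N • (N • z) = (n : ℕ) • c := by
      apply hker (fun _ => N • z)
      · intro m n _
        exact ⟨0, by simp⟩
      · intro n
        rw [map_nsmul]
        exact h1 n
    refine ⟨(N * N) • z, ?_, ?_⟩
    · intro n hn
      obtain ⟨c, hc⟩ := h2 ⟨n, hn⟩
      exact ⟨c, by rw [mul_smul]; exact hc⟩
    · rw [← mul_smul]; exact hz.symm
  · intro H hH x hxH n hn
    have hnpos : 0 < n := ((hIP n).mp hn).1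
    have hnP : ∀ p : ℕ, p.Prime → p ∣ n → p ∈ P := ((hIP n).mp hn).2
    -- stronger: exists y ∈ H
    suffices h : ∀ n : ℕ, 0 < n → (∀ p : ℕ, p.Prime → p ∣ n → p ∈ P) →
        ∀ x ∈ H, ∃ y ∈ H, x = n • y by
      obtain ⟨y, -, hy⟩ := h n hnpos hnP x hxH
      exact ⟨y, hy⟩
    intro n
    induction n using Nat.recOnMul with
    | zero => intro h; exact absurd h (lt_irrefl 0)
    | one => intro _ _ x hx; exact ⟨x, hx, by simp⟩
    | prime p hp =>
      intro _ hpP x hx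
      obtain ⟨y, hy, hyx⟩ := hH p (hpP p hp (dvd_refl p)) x hx
      exact ⟨y, hy, hyx.symm⟩
    | mul a b iha ihb =>
      intro hab habP x hx
      have ha : 0 < a := Nat.pos_of_ne_zero (fun h => by simp [h] at hab)
      have hb : 0 < b := Nat.pos_of_ne_zero (fun h => by simp [h] at hab)
      obtain ⟨y, hy, hyx⟩ := iha ha (fun p hp hd => habP p hp (Dvd.dvd.mul_right hd b)) x hx
      obtain ⟨w, hw, hwy⟩ := ihb hb (fun p hp hd => habP p hp (Dvd.dvd.mul_left hd a)) y hy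
      exact ⟨w, hw, by rw [hyx, hwy, mul_smul]⟩

end Groth.Agent.S16346
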