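import Mathlib
import Groth.Statements.S16351

set_option autoImplicit false
universe u
open Cubic

namespace Groth.Agent.S16351

theorem result (K : Type u) [Field K] [CharZero K]
    (G : MvPolynomial (Fin 3) K) (hG : G.IsHomogeneous 3) (F : MvPolynomial (Fin 4) K)
    (hF : F = MvPolynomial.rename Fin.succ G)
    (b : Fin 5 → (Fin 3 → K)) (hb : ∀ j : Fin 5, MvPolynomial.eval (b j) G = 0)
    (h3 : ∀ i j l : Fin 5, i ≠ j → j ≠ l → i ≠ l → LinearIndependent K ![b i, b j, b l]) :
    ∃ p : Fin 5 → (Fin 4 → K), (∀ j : Fin 5, MvPolynomial.eval (p j) F = 0) ∧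
      ∀ j : Fin 5, LinearIndependent K (fun i : Fin 4 => p (j.succAbove i)) := by
  classical
  -- the three "tail" vectors are independent
  have hB : ∀ j : Fin 5, LinearIndependent K (fun i : Fin 3 => b (j.succAbove i.succ)) := by
    intro j
    have hne : ∀ x y : Fin 4, x ≠ y → j.succAbove x ≠ j.succAbove y := fun x y hxy h =>
      hxy (Fin.succAbove_right_injective h)
    have := h3 (j.succAbove 1) (j.succAbove 2) (j.succAbove 3)
      (hne _ _ (by decide)) (hne _ _ (by decide)) (hne _ _ (by decide))
    convert this using 1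
    funext i
    fin_cases i <;> rfl
  have hspan : ∀ j : Fin 5, Submodule.span K (Set.range (fun i : Fin 3 => b (j.succAbove i.succ))) = ⊤ := by
    intro j
    apply (hB j).span_eq_top_of_card_eq_finrank'
    simp
  have hα : ∀ j : Fin 5, ∃ α : Fin 3 → K, ∑ i, α i • b (j.succAbove i.succ) = b (j.succAbove 0) := by
    intro j
    have : b (j.succAbove 0) ∈ Submodule.span K (Set.range (fun i : Fin 3 => b (j.succAbove i.succ))) := by
      rw [hspan j]; trivial
    exact (Submodule.mem_span_range_iff_exists_fun K).1 this
  choose α hα using hα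
  -- linear functionals
  let φ : Fin 5 → ((Fin 5 → K) →ₗ[K] K) := fun j =>
    LinearMap.proj (j.succAbove 0) - ∑ i : Fin 3, α j i • LinearMap.proj (j.succAbove i.succ)
  have hφ : ∀ j (t : Fin 5 → K), φ j t = t (j.succAbove 0) - ∑ i : Fin 3, α j i * t (j.succAbove i.succ) := by
    intro j t
    simp [φ]
  let s : Finset (Subspace K (Fin 5 → K)) := Finset.univ.image (fun j => LinearMap.ker (φ j))
  have hs : (⊤ : Subspace K (Fin 5 → K)) ∉ s := by
    intro h
    simp only [s, Finset.mem_image, Finset.mem_univ, true_and] at h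
    obtain ⟨j, hj⟩ := h
    have h1 : (Pi.single (j.succAbove 0) 1 : Fin 5 → K) ∈ LinearMap.ker (φ j) := by
      rw [hj]; trivial
    rw [LinearMap.mem_ker, hφ] at h1
    have h2 : ∀ i : Fin 3, (Pi.single (j.succAbove 0) 1 : Fin 5 → K) (j.succAbove i.succ) = 0 := by
      intro i
      apply Pi.single_eq_of_ne
      intro h
      exact Fin.succ_ne_zero i (Fin.succAbove_right_injective h)
    simp only [h2, mul_zero, Finset.sum_const_zero, sub_zero, Pi.single_eq_same] at h1
    exact one_ne_zero h1
  have hne := Subspace.biUnion_ne_univ_of_top_notMem hs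
  obtain ⟨t, ht⟩ : ∃ t : Fin 5 → K, t ∉ ⋃ p ∈ s, (p : Set (Fin 5 → K)) := by
    by_contra hcon
    push Not at hcon
    exact hne (Set.eq_univ_of_forall hcon)
  have ht' : ∀ j, φ j t ≠ 0 := by
    intro j h
    apply ht
    simp only [Set.mem_iUnion]
    exact ⟨LinearMap.ker (φ j), Finset.mem_image_of_mem _ (Finset.mem_univ j), h⟩
  refine ⟨fun j => Fin.cons (t j) (b j), ?_, ?_⟩
  · intro j
    rw [hF, MvPolynomial.eval_rename]
    have : (Fin.cons (t j) (b j) : Fin 4 → K) ∘ Fin.succ = b j := by
      funext i; simp
    rw [this]; exact hb j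
  · intro j
    let π : (Fin 4 → K) →ₗ[K] (Fin 3 → K) := LinearMap.funLeft K K Fin.succ
    have hπ : ∀ (x : K) (v : Fin 3 → K), π (Fin.cons x v) = v := by
      intro x v
      funext i
      simp [π, LinearMap.funLeft_apply]
    rw [linearIndependent_finSucc]
    constructor
    · apply LinearIndependent.of_comp π
      convert hB j using 1
      funext i
      simp only [Function.comp_apply, Fin.tail]
      exact hπ _ _
    · intro hmem
      obtain ⟨c, hc⟩ := (Submodule.mem_span_range_iff_exists_fun K).1 hmem
      simp only [Fin.tail] at hc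
      have hc1 := congrArg π hc
      rw [map_sum] at hc1
      simp only [map_smul, hπ] at hc1
      have hcα : ∀ i, (c - α j) i = 0 := by
        apply Fintype.linearIndependent_iff.1 (hB j)
        simp only [Pi.sub_apply, sub_smul, Finset.sum_sub_distrib, hc1, hα j, sub_self]
      have hcα' : c = α j := by
        funext i
        have := hcα i
        simpa [sub_eq_zero] using this
      have hc0 := congrFun hc 0
      simp only [Finset.sum_apply, Pi.smul_apply, Fin.cons_zero, smul_eq_mul] at hc0
      apply ht' j
      rw [hφ, ← hc0, hcα', sub_self]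

end Groth.Agent.S16351
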