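import Mathlib
import Groth.Statements.S16353
-- import your own Groth.Agent.* helpers here

set_option autoImplicit false
universe u
open DegLoci

namespace Groth.Agent.S16353

open MvPolynomial W4c3degenlocivb

section Aux
variable {k : Type*} [CommSemiring k] {m : ℕ}

/-- the combinatorial coefficient as a product over all coordinates -/
lemma cc_eq (α β : Fin m →₀ ℕ) (h : α ≤ β) :
    (β.support.prod fun i => Nat.descFactorial (β i) (α i)) =
      ∏ i : Fin m, Nat.descFactorial (β i) (α i) := by
  apply Finset.prod_subset (Finset.subset_univ _)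
  intro i _ hi
  have hβ : β i = 0 := by simpa using hi
  have hα : α i = 0 := Nat.le_zero.mp (hβ ▸ h i)
  rw [hβ, hα]; rfl

lemma coeff_contract (D G : MvPolynomial (Fin m) k) (γ : Fin m →₀ ℕ) :
    coeff γ (contract D G) = ∑ δ ∈ D.support, coeff δ D * coeff (γ + δ) G *
      ((∏ i : Fin m, Nat.descFactorial ((γ + δ) i) (δ i) : ℕ) : k) := by
  classical
  unfold contract
  rw [coeff_sum]
  apply Finset.sum_congr rfl
  intro δ _
  rw [coeff_sum]
  have hle : δ ≤ γ + δ := le_add_self
  rw [Finset.sum_eq_single (γ + δ)]
  · rw [if_pos hle, coeff_monomial, if_pos (add_tsub_cancel_right γ δ), cc_eq δ (γ + δ) hle]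
  · intro β _ hβ
    split_ifs with h
    · rw [coeff_monomial, if_neg]
      intro h2
      apply hβ
      rw [← h2, tsub_add_cancel_of_le h]
    · exact coeff_zero _
  · intro h
    have : coeff (γ + δ) G = 0 := by simpa using h
    rw [if_pos hle, this, mul_zero, zero_mul, monomial_zero, coeff_zero]

lemma desc_identity (g d a : ℕ) :
    Nat.descFactorial (g + d + a) a * Nat.descFactorial (g + d) d =
      Nat.descFactorial (g + a) a * Nat.descFactorial (g + a + d) d := by
  have h1 : g.factorial * Nat.descFactorial (g + d) d = (g + d).factorial := by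
    have := Nat.factorial_mul_descFactorial (Nat.le_add_left d g)
    rwa [Nat.add_sub_cancel] at this
  have h2 : (g + d).factorial * Nat.descFactorial (g + d + a) a = (g + d + a).factorial := by
    have := Nat.factorial_mul_descFactorial (Nat.le_add_left a (g + d))
    rwa [Nat.add_sub_cancel] at this
  have h3 : g.factorial * Nat.descFactorial (g + a) a = (g + a).factorial := by
    have := Nat.factorial_mul_descFactorial (Nat.le_add_left a g)
    rwa [Nat.add_sub_cancel] at this
  have h4 : (g + a).factorial * Nat.descFactorial (g + a + d) d = (g + a + d).factorial := by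
    have := Nat.factorial_mul_descFactorial (Nat.le_add_left d (g + a))
    rwa [Nat.add_sub_cancel] at this
  apply Nat.eq_of_mul_eq_mul_left (Nat.factorial_pos g)
  calc g.factorial * (Nat.descFactorial (g + d + a) a * Nat.descFactorial (g + d) d)
      = (g.factorial * Nat.descFactorial (g + d) d) * Nat.descFactorial (g + d + a) a := by ring
    _ = (g + d + a).factorial := by rw [h1, h2]
    _ = (g + a + d).factorial := by rw [add_right_comm]
    _ = (g.factorial * Nat.descFactorial (g + a) a) * Nat.descFactorial (g + a + d) d := by
        rw [h3, h4]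
    _ = g.factorial * (Nat.descFactorial (g + a) a * Nat.descFactorial (g + a + d) d) := by ring

lemma key_identity [Nontrivial k] (D F : MvPolynomial (Fin m) k) (α γ : Fin m →₀ ℕ) :
    coeff γ (contract D (contract (monomial α 1) F)) =
      ((∏ i : Fin m, Nat.descFactorial ((γ + α) i) (α i) : ℕ) : k) *
        coeff (γ + α) (contract D F) := by
  classical
  rw [coeff_contract, coeff_contract, Finset.mul_sum]
  apply Finset.sum_congr rfl
  intro δ _
  rw [coeff_contract, support_monomial, if_neg one_ne_zero, Finset.sum_singleton,
    coeff_monomial, if_pos rfl, one_mul]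
  have hnat : (∏ i : Fin m, Nat.descFactorial ((γ + δ + α) i) (α i)) *
      (∏ i : Fin m, Nat.descFactorial ((γ + δ) i) (δ i)) =
      (∏ i : Fin m, Nat.descFactorial ((γ + α) i) (α i)) *
      (∏ i : Fin m, Nat.descFactorial ((γ + α + δ) i) (δ i)) := by
    rw [← Finset.prod_mul_distrib, ← Finset.prod_mul_distrib]
    apply Finset.prod_congr rfl
    intro i _
    simp only [Finsupp.coe_add, Pi.add_apply]
    exact desc_identity (γ i) (δ i) (α i)
  have hcast := congrArg (Nat.cast (R := k)) hnat
  rw [Nat.cast_mul, Nat.cast_mul] at hcast
  rw [add_right_comm γ α δ]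
  calc coeff δ D * (coeff (γ + δ + α) F *
        ((∏ i : Fin m, Nat.descFactorial ((γ + δ + α) i) (α i) : ℕ) : k)) *
        ((∏ i : Fin m, Nat.descFactorial ((γ + δ) i) (δ i) : ℕ) : k)
      = coeff δ D * coeff (γ + δ + α) F *
        (((∏ i : Fin m, Nat.descFactorial ((γ + δ + α) i) (α i) : ℕ) : k) *
        ((∏ i : Fin m, Nat.descFactorial ((γ + δ) i) (δ i) : ℕ) : k)) := by ring
    _ = coeff δ D * coeff (γ + δ + α) F *
        (((∏ i : Fin m, Nat.descFactorial ((γ + α) i) (α i) : ℕ) : k) *
        ((∏ i : Fin m, Nat.descFactorial ((γ + α + δ) i) (δ i) : ℕ) : k)) := by rw [hcast]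
    _ = _ := by
        rw [add_right_comm γ α δ]
        ring

end Aux


/-- Let k be a field of characteristic zero, R = k[y_0, …, y_{m−1}] acting on S = k[∂_0, …, ∂_{m−1}] by
apolarity (y_i acts as the derivative with respect to ∂_i), F ∈ S homogeneous of degree e and d ≤ e.
Then the degree-d part of the apolar ideal of F is the orthogonal complement of the partial
derivatives of F of order e − d: a homogeneous D ∈ R_d satisfies D(F) = 0 if and only if D(y^α(F)) =
0 for every multi-index α with |α| = e − d (each D(y^α(F)) being a constant, the value of the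
apolarity pairing of D with y^α(F)). -/
theorem result (k : Type u) [Field k] [CharZero k] (m : ℕ)
    (F : MvPolynomial (Fin m) k) (e : ℕ) (hF : F.IsHomogeneous e) (d : ℕ) (hd : d ≤ e)
    (D : MvPolynomial (Fin m) k) (hD : D.IsHomogeneous d) :
    W4c3degenlocivb.contract D F = 0 ↔
      ∀ α : Fin m →₀ ℕ, α.degree = e - d → W4c3degenlocivb.contract D (W4c3degenlocivb.contract (MvPolynomial.monomial α 1) F) = 0 := by
  constructor
  · intro h α _
    ext γ
    rw [key_identity, h, coeff_zero, mul_zero, coeff_zero]
  · intro h
    ext γ
    rw [coeff_zero]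
    by_cases hγ : γ.degree = e - d
    · have h1 := congrArg (coeff 0) (h γ hγ)
      rw [key_identity, coeff_zero, zero_add] at h1
      rcases mul_eq_zero.mp h1 with h2 | h2
      · exfalso
        have : (∏ i : Fin m, Nat.descFactorial (γ i) (γ i)) ≠ 0 := by
          apply Finset.prod_ne_zero_iff.mpr
          intro i _
          rw [Nat.descFactorial_self]
          exact Nat.factorial_ne_zero _
        exact this (by exact_mod_cast h2)
      · exact h2
    · rw [coeff_contract]
      apply Finset.sum_eq_zero
      intro δ hδ
      by_cases hδd : δ.degree = d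
      · have hF0 : coeff (γ + δ) F = 0 := by
          apply hF.coeff_eq_zero
          rw [map_add, hδd]
          intro h3
          apply hγ
          omega
        rw [hF0, mul_zero, zero_mul]
      · rw [hD.coeff_eq_zero hδd, zero_mul, zero_mul]

end Groth.Agent.S16353
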