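import Mathlib
import Groth.Statements.S16356

set_option autoImplicit false
universe u

namespace Groth.Agent.S16356

theorem result (p : ℕ) [Fact p.Prime] (hp : p ≠ 2)
    (k : Type u) [Field k] [CharP k p] [PerfectRing k p]
    (x : WittVector p k) (n : ℕ) (hn : 0 < n) (hx : x ^ n = 1) (h0 : x.coeff 0 = 1) : x = 1 := by
  have hpp : p.Prime := Fact.out
  let ε : WittVector p k →+* k := WittVector.constantCoeff
  have hε : ∀ z : WittVector p k, ε z = z.coeff 0 := fun z => rfl
  have hεp : ε (p : WittVector p k) = 0 := WittVector.coeff_p_zero p k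
  -- Step 1: case n = p
  have key : ∀ x : WittVector p k, x.coeff 0 = 1 → x ^ p = 1 → x = 1 := by
    intro x h0 hx
    by_contra hne
    obtain ⟨y, hy⟩ : ∃ y, y = x - 1 := ⟨_, rfl⟩
    have hx' : x = 1 + y := by rw [hy]; ring
    have hy0 : y ≠ 0 := by rw [hy]; exact sub_ne_zero.2 hne
    have hyc : ε y = 0 := by rw [hy, map_sub, hε, h0, map_one, sub_self]
    obtain ⟨m, b, hb, hyb⟩ := WittVector.exists_eq_pow_p_mul y hy0
    have hm : m ≠ 0 := by
      rintro rfl
      rw [pow_zero, one_mul] at hyb
      rw [hyb] at hyc; exact hb hyc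
    obtain ⟨z, hz⟩ : ∃ z, y = p * z := by
      refine ⟨(p : WittVector p k) ^ (m - 1) * b, ?_⟩
      rw [hyb, ← mul_assoc, ← pow_succ']
      congr 2; omega
    have hgeom : (∑ i ∈ Finset.range p, x ^ i) * (x - 1) = x ^ p - 1 := geom_sum_mul x p
    rw [hx, sub_self, ← hy] at hgeom
    have hsum0 : ∑ i ∈ Finset.range p, x ^ i = 0 := (mul_eq_zero.1 hgeom).resolve_right hy0
    have hexp : ∀ i : ℕ, ∃ c, x ^ i = 1 + i * y + y ^ 2 * c := by
      intro i
      induction i with
      | zero => exact ⟨0, by simp⟩
      | succ i ih =>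
        obtain ⟨c, hc⟩ := ih
        refine ⟨i + c + y * c, ?_⟩
        rw [pow_succ, hc, hx']
        push_cast; ring
    choose c hc using hexp
    obtain ⟨s, hs⟩ : ∃ s : ℕ, ∑ i ∈ Finset.range p, i = p * s := by
      have h2 := Finset.sum_range_id_mul_two p
      have hcop : Nat.Coprime p 2 := (Nat.coprime_primes hpp Nat.prime_two).2 hp
      have : p ∣ (∑ i ∈ Finset.range p, i) * 2 := ⟨p - 1, h2⟩
      exact hcop.dvd_of_dvd_mul_right this
    have hsum : ∑ i ∈ Finset.range p, x ^ i
        = p * (1 + s * y + p * z ^ 2 * ∑ i ∈ Finset.range p, c i) := by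
      calc ∑ i ∈ Finset.range p, x ^ i
          = ∑ i ∈ Finset.range p, (1 + (i : WittVector p k) * y + y ^ 2 * c i) :=
            Finset.sum_congr rfl (fun i _ => hc i)
        _ = p + ((∑ i ∈ Finset.range p, i : ℕ) : WittVector p k) * y
              + y ^ 2 * ∑ i ∈ Finset.range p, c i := by
            simp [Finset.sum_add_distrib, Finset.sum_mul, Finset.mul_sum]
        _ = _ := by rw [hs, hz]; push_cast; ring
    rw [hsum] at hsum0
    have hu : (1 + (s : WittVector p k) * y + p * z ^ 2 * ∑ i ∈ Finset.range p, c i) ≠ 0 := by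
      intro h
      have h1 := congrArg ε h
      rw [map_add, map_add, map_mul, map_mul, map_mul, hyc, hεp, map_one, map_zero] at h1
      simp at h1
    exact (mul_ne_zero (WittVector.p_nonzero p k) hu) hsum0
  -- Step 2: strong induction
  induction n using Nat.strong_induction_on generalizing x with
  | _ n ih =>
    by_cases hpn : p ∣ n
    · obtain ⟨n', rfl⟩ := hpn
      have hn' : 0 < n' := Nat.pos_of_mul_pos_left hn
      have hlt : n' < p * n' := by nlinarith [hpp.two_le]
      have h1 : x ^ p = 1 := by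
        apply ih n' hlt (x ^ p) hn'
        · rw [← pow_mul]; exact hx
        · rw [← hε, map_pow, hε, h0, one_pow]
      exact key x h0 h1
    · have hgeom := geom_sum_mul x n
      rw [hx, sub_self] at hgeom
      have hs : ∑ i ∈ Finset.range n, x ^ i ≠ 0 := by
        intro h
        have h1 := congrArg ε h
        rw [map_sum, map_zero] at h1
        have h2 : ∀ i : ℕ, ε (x ^ i) = 1 := fun i => by rw [map_pow, hε, h0, one_pow]
        simp only [h2, Finset.sum_const, Finset.card_range, nsmul_eq_mul, mul_one] at h1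
        exact hpn ((CharP.cast_eq_zero_iff k p n).1 h1)
      have := (mul_eq_zero.1 hgeom).resolve_left hs
      exact sub_eq_zero.1 this

end Groth.Agent.S16356
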