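import Groth.Statements.S16357
import Mathlib

set_option autoImplicit false
universe u
open OrdAV

namespace Groth.Agent.S16357

open Polynomial in
/-- Over a field L of characteristic zero, a monic polynomial h whose square has rational coefficients
has rational coefficients itself. -/
theorem result (L : Type u) [Field L] [CharZero L]
    (h : Polynomial L) (hm : h.Monic) (f : Polynomial ℚ)
    (hf : h ^ 2 = Polynomial.map (algebraMap ℚ L) f) :
    ∃ g : Polynomial ℚ, Polynomial.map (algebraMap ℚ L) g = h := by
  set φ : ℚ →+* L := algebraMap ℚ L with hφ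
  have hφinj : Function.Injective φ := φ.injective
  set Q : Subring L := φ.range with hQ
  set r := h.reverse with hr
  set s := r - 1 with hs
  -- r * r has coefficients in Q
  have hrr : r * r = (f.reverse).map φ := by
    rw [hr, ← Polynomial.reverse_mul_of_domain, ← pow_two, hf]
    unfold Polynomial.reverse
    rw [Polynomial.natDegree_map_eq_of_injective hφinj, Polynomial.reflect_map]
  have hrrQ : ∀ k, (r * r).coeff k ∈ Q := by
    intro k
    rw [hrr, Polynomial.coeff_map]
    exact ⟨_, rfl⟩
  have hr0 : r.coeff 0 = 1 := by
    rw [hr, Polynomial.coeff_zero_reverse]; exact hm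
  have hs0 : s.coeff 0 = 0 := by
    rw [hs, Polynomial.coeff_sub, hr0, Polynomial.coeff_one_zero, sub_self]
  have hsk : ∀ k, k ≠ 0 → s.coeff k = r.coeff k := by
    intro k hk
    rw [hs, Polynomial.coeff_sub, Polynomial.coeff_one, if_neg hk, sub_zero]
  have hhalf : (2 : L)⁻¹ ∈ Q := ⟨(2 : ℚ)⁻¹, by simp [hφ]⟩
  have key : ∀ k, r.coeff k ∈ Q := by
    intro k
    induction k using Nat.strong_induction_on with
    | _ k ih =>
      rcases Nat.eq_zero_or_pos k with rfl | hk
      · rw [hr0]; exact Q.one_mem
      · have hss : (s * s).coeff k ∈ Q := by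
          rw [Polynomial.coeff_mul]
          apply Subring.sum_mem
          rintro ⟨a, b⟩ hab
          rw [Finset.HasAntidiagonal.mem_antidiagonal] at hab
          simp only at hab ⊢
          rcases Nat.eq_zero_or_pos a with rfl | ha
          · rw [hs0, zero_mul]; exact Q.zero_mem
          rcases Nat.eq_zero_or_pos b with rfl | hb
          · rw [hs0, mul_zero]; exact Q.zero_mem
          rw [hsk a (by omega), hsk b (by omega)]
          exact Q.mul_mem (ih a (by omega)) (ih b (by omega))
        have hexp : r * r = 1 + 2 * s + s * s := by rw [hs]; ring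
        have h2 : (r * r).coeff k = 2 * r.coeff k + (s * s).coeff k := by
          rw [hexp, Polynomial.coeff_add, Polynomial.coeff_add, Polynomial.coeff_one,
            if_neg (by omega), zero_add]
          congr 1
          rw [show (2 : L[X]) = Polynomial.C 2 from rfl, Polynomial.coeff_C_mul, hsk k (by omega)]
        have h3 : 2 * r.coeff k ∈ Q := by
          have : 2 * r.coeff k = (r * r).coeff k - (s * s).coeff k := by rw [h2]; ring
          rw [this]
          exact Q.sub_mem (hrrQ k) hss
        have h4 : r.coeff k = (2 : L)⁻¹ * (2 * r.coeff k) := by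
          rw [← mul_assoc, inv_mul_cancel₀ (two_ne_zero), one_mul]
        rw [h4]
        exact Q.mul_mem hhalf h3
  have hcoeff : ∀ i, h.coeff i ∈ Set.range φ := by
    intro i
    by_cases hi : i ≤ h.natDegree
    · have : h.coeff i = r.coeff (h.natDegree - i) := by
        rw [hr, Polynomial.coeff_reverse, Polynomial.revAt_le (Nat.sub_le _ _),
          Nat.sub_sub_self hi]
      rw [this]
      exact key _
    · rw [Polynomial.coeff_eq_zero_of_natDegree_lt (by omega)]
      exact ⟨0, map_zero _⟩
  have := (Polynomial.lifts_iff_coeff_lifts h).2 hcoeff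
  exact (Polynomial.mem_lifts h).1 this

end Groth.Agent.S16357
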