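import Mathlib
import Groth.Statements.S16358

set_option autoImplicit false
universe u v w

namespace Groth.Agent.S16358

theorem result (p : ℕ) [Fact p.Prime]
    (k : Type u) [Field k] [CharP k p] [PerfectRing k p]
    (M : Type v) [AddCommGroup M] [Module (WittVector p k) M]
    [Module.Free (WittVector p k) M] [Module.Finite (WittVector p k) M]
    (G : Type w) [Group G] [Finite G] (ρ : Representation (WittVector p k) G M) :
    Function.Injective
      (LinearMap.lTensor (WittVector p k ⧸ Ideal.span {(p : WittVector p k)}) ρ.invariants.subtype) := by
  haveI : Module.IsTorsionFree (WittVector p k) M := inferInstance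
  haveI : Module.IsTorsionFree (WittVector p k) (M ⧸ ρ.invariants) := by
    apply Module.IsTorsionFree.of_smul_eq_zero
    intro r q h
    obtain ⟨m, rfl⟩ := Submodule.Quotient.mk_surjective ρ.invariants q
    by_cases hr : r = 0
    · left; exact hr
    right
    rw [← Submodule.Quotient.mk_smul, Submodule.Quotient.mk_eq_zero] at h
    rw [Submodule.Quotient.mk_eq_zero]
    rw [Representation.mem_invariants] at h ⊢
    intro g
    have := h g
    rw [map_smul] at this
    exact smul_right_injective M hr this
  exact LinearMap.lTensor_injective_of_exact_of_flat ρ.invariants.mkQ ρ.invariants.mkQ_surjective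
    ρ.invariants.subtype ρ.invariants.injective_subtype (LinearMap.exact_subtype_mkQ ρ.invariants) _

end Groth.Agent.S16358
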