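import Groth.Statements.S6414
-- import your own Groth.Agent.* helpers here

set_option autoImplicit false
open CategoryTheory
universe v₁ u₁ v₂ u₂ v₃ u₃
open FibCat

namespace Groth.Agent.S6414

/-- A morphism that is strongly cartesian with respect to `F : 𝒜 ⥤ ℬ` and whose image is strongly
cartesian with respect to `G : ℬ ⥤ 𝒞` is strongly cartesian with respect to `F ⋙ G`. -/
theorem result {𝒜 : Type u₁} [Category.{v₁} 𝒜] {ℬ : Type u₂} [Category.{v₂} ℬ] {𝒞 : Type u₃} [Category.{v₃} 𝒞] (F : 𝒜 ⥤ ℬ) (G : ℬ ⥤ 𝒞) {x y : 𝒜} (φ : x ⟶ y)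
    [F.IsStronglyCartesian (F.map φ) φ] [G.IsStronglyCartesian (G.map (F.map φ)) (F.map φ)] :
    (F ⋙ G).IsStronglyCartesian ((F ⋙ G).map φ) φ := by
  have hF : F.IsStronglyCartesian (F.map φ) φ := inferInstance
  have hG : G.IsStronglyCartesian (G.map (F.map φ)) (F.map φ) := inferInstance
  refine { toIsHomLift := inferInstance, universal_property' := ?_ }
  intro a' g φ' hφ'
  -- step 1: lift in ℬ
  have h1 : G.IsHomLift (g ≫ G.map (F.map φ)) (F.map φ') := by
    have := IsHomLift.fac (F ⋙ G) (g ≫ (F ⋙ G).map φ) φ'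
    apply IsHomLift.of_fac _ _ _ rfl rfl
    simpa using this
  obtain ⟨χ₁, ⟨hχ₁, hχ₁'⟩, huniq₁⟩ := hG.universal_property' g (F.map φ')
  have hχ₁map : G.map χ₁ = g := by
    have := IsHomLift.fac' G g χ₁
    simpa using this
  -- step 2: lift in 𝒜
  have h2 : F.IsHomLift (χ₁ ≫ F.map φ) φ' := by
    rw [hχ₁']; infer_instance
  obtain ⟨χ, ⟨hχ, hχ'⟩, huniq⟩ := hF.universal_property' χ₁ φ'
  have hχmap : F.map χ = χ₁ := by
    have := IsHomLift.fac' F χ₁ χ
    simpa using this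
  refine ⟨χ, ⟨?_, hχ'⟩, ?_⟩
  · apply IsHomLift.of_fac _ _ _ rfl rfl
    simp [hχmap, hχ₁map]
  · rintro χ' ⟨hχ'lift, hχ'comp⟩
    have e1 : G.map (F.map χ') = g := by
      have := IsHomLift.fac' (F ⋙ G) g χ'
      simpa using this
    have e2 : F.map χ' = χ₁ := by
      apply huniq₁
      refine ⟨?_, ?_⟩
      · apply IsHomLift.of_fac _ _ _ rfl rfl
        simp [e1]
      · rw [← F.map_comp, hχ'comp]
    apply huniq
    refine ⟨?_, hχ'comp⟩
    apply IsHomLift.of_fac _ _ _ rfl rfl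
    simp [e2]

end Groth.Agent.S6414
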