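import Groth.Statements.S16361
import Groth.Agent.S6416
import Groth.Agent.Lib.Helper22.FibLift
import Groth.Agent.H13.FibGrpd

set_option autoImplicit false
universe v u
open CategoryTheory CategoryTheory.Limits
open FibCat

namespace Groth.Agent.S16361

/-- Let S be a category, π_X : X ⥤ S and π_Y : Y ⥤ S be fibred in groupoids, and F : Y ⥤ X a functor
with F ⋙ π_X = π_Y. Consider the category of triples (y, x, φ) with φ : F y ≅ x an arbitrary
isomorphism of X and morphisms the compatible pairs of morphisms (the categorical pullback of F and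
the identity of X; the isomorphism φ is not required to lie over an identity of S). Its projection
to X is fibred in groupoids over X, and the composite of that projection with π_X is fibred in
groupoids over S. (The published statement also asserts that y ↦ (y, F y, id) and (y, x, φ) ↦ y form
an equivalence over S; that is not asserted here.) -/
theorem result {S : Type u} [Category.{v} S] {X : Type u} [Category.{v} X]
    {Y : Type u} [Category.{v} Y] (πX : X ⥤ S) (πY : Y ⥤ S) (hX : FibCat.IsFibGrpd πX) (hY : FibCat.IsFibGrpd πY)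
    (F : Y ⥤ X) (hF : F ⋙ πX = πY) :
    FibCat.IsFibGrpd (CategoricalPullback.π₂ F (𝟭 X)) ∧
      FibCat.IsFibGrpd (CategoricalPullback.π₂ F (𝟭 X) ⋙ πX) := by
  subst hF
  have h1 : FibCat.IsFibGrpd (CategoricalPullback.π₂ F (𝟭 X)) := by
    refine ⟨?_, ?_⟩
    · intro Z x' m
      let y : Y := Z.fst
      let x : X := Z.snd
      let φ : F.obj y ≅ x := Z.iso
      let m₀ : x' ⟶ x := m
      let n : x' ⟶ F.obj y := m₀ ≫ φ.inv
      let u : πX.obj x' ⟶ (F ⋙ πX).obj y := πX.map n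
      obtain ⟨y', k, hk⟩ := hY.exists_lift u
      haveI hFk : πX.IsHomLift u (F.map k) :=
        (Groth.Agent.H13.isHomLift_comp_iff F πX u k).1 hk
      haveI hsc : πX.IsStronglyCartesian u (F.map k) :=
        Groth.Agent.Helper22.FibLift.sc_of_lift πX hX u (F.map k)
      haveI hn : πX.IsHomLift u n := IsHomLift.map πX n
      obtain ⟨ψ, ⟨hψl, hψ⟩, -⟩ := Functor.IsStronglyCartesian.universal_property πX u (F.map k)
        (𝟙 (πX.obj x')) u (Category.id_comp u).symm n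
      haveI := hψl
      haveI : IsIso ψ := Groth.Agent.H13.FibGrpd.isIso_of_lift_id hX (S := πX.obj x') ψ
      let Z' : CategoricalPullback F (𝟭 X) := ⟨y', x', (asIso ψ).symm⟩
      have w : F.map k ≫ φ.hom = inv ψ ≫ m₀ := by
        have h0 : F.map k = inv ψ ≫ m₀ ≫ φ.inv := by
          rw [IsIso.eq_inv_comp]
          exact hψ
        rw [h0]
        simp
      let Φ : Z' ⟶ Z := ⟨k, m₀, w⟩
      exact ⟨Z', Φ, IsHomLift.map (CategoricalPullback.π₂ F (𝟭 X)) Φ⟩
    · intro Z' Z Φ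
      let y : Y := Z.fst
      let x : X := Z.snd
      let φ : F.obj y ≅ x := Z.iso
      let y' : Y := Z'.fst
      let x' : X := Z'.snd
      let φ' : F.obj y' ≅ x' := Z'.iso
      let Φ₁ : y' ⟶ y := Φ.fst
      let Φ₂ : x' ⟶ x := Φ.snd
      have hΦw : F.map Φ₁ ≫ φ.hom = φ'.hom ≫ Φ₂ := Φ.w
      have hΦw' : φ'.inv ≫ F.map Φ₁ = Φ₂ ≫ φ.inv := by
        rw [Iso.inv_comp_eq, ← Category.assoc, Iso.eq_comp_inv]
        exact hΦw
      refine { toIsHomLift := IsHomLift.map (CategoricalPullback.π₂ F (𝟭 X)) Φ,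
               universal_property' := ?_ }
      intro Z'' g Ψ hΨ
      let y'' : Y := Z''.fst
      let x'' : X := Z''.snd
      let φ'' : F.obj y'' ≅ x'' := Z''.iso
      let g₀ : x'' ⟶ x' := g
      let Ψ₁ : y'' ⟶ y := Ψ.fst
      let Ψ₂ : x'' ⟶ x := Ψ.snd
      have hΨw : F.map Ψ₁ ≫ φ.hom = φ''.hom ≫ Ψ₂ := Ψ.w
      have hΨ₂ : Ψ₂ = g₀ ≫ Φ₂ :=
        (@IsHomLift.eq_of_isHomLift _ _ _ _ (CategoricalPullback.π₂ F (𝟭 X)) Z'' Z
          (g ≫ (CategoricalPullback.π₂ F (𝟭 X)).map Φ) Ψ hΨ).symm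
      let t : F.obj y'' ⟶ F.obj y' := φ''.hom ≫ g₀ ≫ φ'.inv
      have ht : t ≫ F.map Φ₁ = F.map Ψ₁ := by
        show (φ''.hom ≫ g₀ ≫ φ'.inv) ≫ F.map Φ₁ = F.map Ψ₁
        rw [Category.assoc, Category.assoc, hΦw', ← Category.assoc g₀, ← hΨ₂, ← Category.assoc,
          ← hΨw, Category.assoc, Iso.hom_inv_id, Category.comp_id]
      let v : (F ⋙ πX).obj y'' ⟶ (F ⋙ πX).obj y' := πX.map t
      haveI hscΦ : (F ⋙ πX).IsStronglyCartesian ((F ⋙ πX).map Φ₁) Φ₁ := hY.isStronglyCartesian Φ₁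
      have hv : v ≫ (F ⋙ πX).map Φ₁ = (F ⋙ πX).map Ψ₁ := by
        show πX.map t ≫ πX.map (F.map Φ₁) = πX.map (F.map Ψ₁)
        rw [← πX.map_comp, ht]
      haveI hΨ₁l : (F ⋙ πX).IsHomLift (v ≫ (F ⋙ πX).map Φ₁) Ψ₁ := by
        rw [hv]
        infer_instance
      obtain ⟨χ₁, ⟨hχ₁l, hχ₁⟩, hχ₁u⟩ := Functor.IsStronglyCartesian.universal_property (F ⋙ πX)
        ((F ⋙ πX).map Φ₁) Φ₁ v (v ≫ (F ⋙ πX).map Φ₁) rfl Ψ₁
      have hFχ₁ : F.map χ₁ = t := by
        haveI h1 : πX.IsHomLift v (F.map χ₁) :=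
          (Groth.Agent.H13.isHomLift_comp_iff F πX v χ₁).1 hχ₁l
        haveI h2 : πX.IsHomLift v t := IsHomLift.map πX t
        haveI h3 : πX.IsStronglyCartesian (πX.map (F.map Φ₁)) (F.map Φ₁) :=
          hX.isStronglyCartesian (F.map Φ₁)
        apply Functor.IsStronglyCartesian.ext πX (πX.map (F.map Φ₁)) (F.map Φ₁) v
        rw [← F.map_comp, hχ₁, ht]
      have wχ : F.map χ₁ ≫ φ'.hom = φ''.hom ≫ g₀ := by
        rw [hFχ₁]
        show (φ''.hom ≫ g₀ ≫ φ'.inv) ≫ φ'.hom = φ''.hom ≫ g₀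
        simp
      let χ : Z'' ⟶ Z' := ⟨χ₁, g₀, wχ⟩
      refine ⟨χ, ⟨IsHomLift.map (CategoricalPullback.π₂ F (𝟭 X)) χ, ?_⟩, ?_⟩
      · apply CategoryTheory.Limits.CategoricalPullback.hom_ext
        · exact hχ₁
        · exact hΨ₂.symm
      · rintro χ' ⟨hχ'l, hχ'⟩
        have e2 : χ'.snd = g₀ :=
          (@IsHomLift.eq_of_isHomLift _ _ _ _ (CategoricalPullback.π₂ F (𝟭 X)) Z'' Z' g χ'
            hχ'l).symm
        have e1 : χ'.fst ≫ Φ₁ = Ψ₁ := congrArg (fun z : Z'' ⟶ Z => z.fst) hχ'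
        have hw' : F.map χ'.fst ≫ φ'.hom = φ''.hom ≫ χ'.snd := χ'.w
        have hFχ' : F.map χ'.fst = t := by
          show F.map χ'.fst = φ''.hom ≫ g₀ ≫ φ'.inv
          rw [← e2, ← Category.assoc, ← hw', Category.assoc, Iso.hom_inv_id, Category.comp_id]
        haveI hl : (F ⋙ πX).IsHomLift v χ'.fst := by
          rw [Groth.Agent.H13.isHomLift_comp_iff F πX v χ'.fst, hFχ']
          exact IsHomLift.map πX t
        have e3 : χ'.fst = χ₁ := hχ₁u χ'.fst ⟨hl, e1⟩
        apply CategoryTheory.Limits.CategoricalPullback.hom_ext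
        · exact e3
        · exact e2
  exact ⟨h1, Groth.Agent.S6416.result _ _ h1 hX⟩

end Groth.Agent.S16361
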