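import Mathlib
import Groth.Statements.S16362

set_option autoImplicit false
universe u
open MovLem

namespace Groth.Agent.S16362

open Polynomial in
theorem result
    {A : Type u} [CommRing A] (p : Ideal A) [p.IsPrime] (ζ u : A) (hu : u ∉ p) :
    IsIntegral (A ⧸ p)
        (algebraMap (A ⧸ p) (FractionRing (A ⧸ p)) (Ideal.Quotient.mk p ζ) /
          algebraMap (A ⧸ p) (FractionRing (A ⧸ p)) (Ideal.Quotient.mk p u)) ↔
      ∃ (N : ℕ) (a : ℕ → A),
        ζ ^ N + ∑ i ∈ Finset.Icc 1 N, a i * ζ ^ (N - i) * u ^ i ∈ p := by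
  have hinj : Function.Injective (algebraMap (A ⧸ p) (FractionRing (A ⧸ p))) :=
    IsFractionRing.injective _ _
  have hu0 : Ideal.Quotient.mk p u ≠ 0 := by
    rwa [Ne, Ideal.Quotient.eq_zero_iff_mem]
  have hu1 : algebraMap (A ⧸ p) (FractionRing (A ⧸ p)) (Ideal.Quotient.mk p u) ≠ 0 := by
    intro h
    exact hu0 (hinj (by rw [h, map_zero]))
  constructor
  · rintro ⟨P, hP, hroot⟩
    have h1 := scaleRoots_eval₂_eq_zero_of_eval₂_div_eq_zero hinj hroot
      (mem_nonZeroDivisors_of_ne_zero hu0)
    rw [Polynomial.eval₂_at_apply] at h1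
    have h2 : (P.scaleRoots (Ideal.Quotient.mk p u)).eval (Ideal.Quotient.mk p ζ) = 0 :=
      hinj (by rw [h1, map_zero])
    rw [Polynomial.eval_eq_sum_range, natDegree_scaleRoots, Finset.sum_range_succ] at h2
    simp only [coeff_scaleRoots] at h2
    rw [hP.coeff_natDegree, Nat.sub_self, pow_zero, one_mul, one_mul] at h2
    choose a ha using fun i : ℕ => Ideal.Quotient.mk_surjective (I := p) (P.coeff (P.natDegree - i))
    refine ⟨P.natDegree, a, ?_⟩
    rw [← Ideal.Quotient.eq_zero_iff_mem, map_add, map_sum, map_pow, ← h2, add_comm]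
    congr 1
    symm
    refine Finset.sum_bij' (fun i _ => P.natDegree - i) (fun i _ => P.natDegree - i)
      ?_ ?_ ?_ ?_ ?_
    · intro i hi
      simp only [Finset.mem_range, Finset.mem_Icc] at hi ⊢
      omega
    · intro i hi
      simp only [Finset.mem_range, Finset.mem_Icc] at hi ⊢
      omega
    · intro i hi
      simp only [Finset.mem_range] at hi
      omega
    · intro i hi
      simp only [Finset.mem_Icc] at hi
      omega
    · intro i hi
      simp only [Finset.mem_range] at hi
      have : P.natDegree - (P.natDegree - i) = i := by omega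
      simp only [map_mul, map_pow, ha, this]
      ring
  · rintro ⟨N, a, h⟩
    rw [← Ideal.Quotient.eq_zero_iff_mem, map_add, map_sum, map_pow] at h
    set f := algebraMap (A ⧸ p) (FractionRing (A ⧸ p)) with hf
    set z := Ideal.Quotient.mk p ζ with hz
    set v := Ideal.Quotient.mk p u with hv
    let Q : (A ⧸ p)[X] := ∑ i ∈ Finset.Icc 1 N, C (Ideal.Quotient.mk p (a i)) * X ^ (N - i)
    have hQ : Q.degree < (N : WithBot ℕ) := by
      refine (Polynomial.degree_sum_le _ _).trans_lt ?_
      refine (Finset.sup_lt_iff (WithBot.bot_lt_coe N)).2 ?_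
      intro i hi
      simp only [Finset.mem_Icc] at hi
      refine (Polynomial.degree_C_mul_X_pow_le _ _).trans_lt ?_
      exact WithBot.coe_lt_coe.2 (by omega : N - i < N)
    refine ⟨X ^ N + Q, Polynomial.monic_X_pow_add hQ, ?_⟩
    have h3 : f (z ^ N + ∑ i ∈ Finset.Icc 1 N, Ideal.Quotient.mk p (a i * ζ ^ (N - i) * u ^ i)) = 0 := by
      rw [h, map_zero]
    rw [map_add, map_sum, map_pow] at h3
    have hvN : f v ^ N ≠ 0 := pow_ne_zero _ hu1
    rw [Polynomial.eval₂_add, Polynomial.eval₂_X_pow, Polynomial.eval₂_finsetSum]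
    have key : (f z / f v) ^ N + ∑ i ∈ Finset.Icc 1 N,
        Polynomial.eval₂ f (f z / f v) (C (Ideal.Quotient.mk p (a i)) * X ^ (N - i))
        = (f z ^ N + ∑ i ∈ Finset.Icc 1 N, f (Ideal.Quotient.mk p (a i * ζ ^ (N - i) * u ^ i))) / f v ^ N := by
      rw [add_div, div_pow, Finset.sum_div]
      congr 1
      refine Finset.sum_congr rfl ?_
      intro i hi
      simp only [Finset.mem_Icc] at hi
      rw [Polynomial.eval₂_mul, Polynomial.eval₂_C, Polynomial.eval₂_X_pow, map_mul, map_mul, map_pow,
        map_pow, map_mul, map_mul, map_pow, map_pow, div_pow]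
      have : f v ^ N = f v ^ (N - i) * f v ^ i := by
        rw [← pow_add]; congr 1; omega
      rw [this]
      have h5 : f v ^ i ≠ 0 := pow_ne_zero _ hu1
      have h6 : f v ^ (N - i) ≠ 0 := pow_ne_zero _ hu1
      field_simp
      rfl
    rw [key, h3, zero_div]

end Groth.Agent.S16362
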