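import Mathlib
import Groth.Statements.S16370
-- import your own Groth.Agent.* helpers here

set_option autoImplicit false
universe u
open CategoryTheory AlgebraicGeometry Opposite
open FrobSch

namespace Groth.Agent.S16370

open CategoryTheory.Abelian in
lemma bij_of_shortExact {C : Type*} [Category C] [Abelian C] [HasExt C]
    {S : ShortComplex C} (hS : S.ShortExact) (X : C)
    (h3 : ∀ n, Subsingleton (Ext X S.X₃ n)) (n : ℕ) :
    Function.Bijective ((Ext.mk₀ S.f).postcomp X (add_zero n)) := by
  constructor
  · rw [injective_iff_map_eq_zero]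
    intro x hx
    rcases n with _ | n
    · haveI := hS.mono_f
      exact (Ext.postcomp_mk₀_injective_of_mono X S.f) (by rw [hx, map_zero])
    · obtain ⟨x₃, rfl⟩ := Ext.covariant_sequence_exact₁ X hS x hx (n₀ := n) rfl
      rw [(h3 n).elim x₃ 0, Ext.zero_comp]
  · intro x₂
    exact Ext.covariant_sequence_exact₂ X hS x₂ ((h3 n).elim _ _)


/-- (ii) ⇒ (iii): let X be a reduced scheme of prime characteristic p, φ the p-th power map on the sheaf
of additive groups underlying O_X (a monomorphism, X being reduced) and B its cokernel in abelian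
sheaves. If H^i(X, B) = 0 for all i ≥ 0, then the endomorphism of H^i(X, O_X) induced by φ — the
Hasse–Witt operation — is bijective for all i. (The source has X normal and proper over a perfect
field; only reducedness enters this implication.) -/
theorem result
    (p : ℕ) [Fact p.Prime] (X : Scheme.{u}) [IsReduced X] (hp : (p : Γ(X, ⊤)) = 0)
    (φ : Coh.toAb (Coh.structureModule X) ⟶ Coh.toAb (Coh.structureModule X))
    (hφ : ∀ (U : X.Opens) (t : Γ(X, U)), φ.hom.app (op U) t = t ^ p)
    (hB : ∀ i : ℕ, Subsingleton (Sheaf.H (Limits.cokernel φ) i))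
    (i : ℕ) : Function.Bijective (Sheaf.H.map φ i) := by
  haveI : Mono φ := by
    have : Mono φ.hom := by
      apply (config := { allowSynthFailures := true }) NatTrans.mono_of_mono_app
      intro U
      rw [AddCommGrpCat.mono_iff_injective, injective_iff_map_eq_zero]
      intro a ha
      have h1 := hφ (unop U) a
      have h2 : (@id Γ(X, unop U) a) ^ p = 0 := h1.symm.trans ha
      exact (pow_eq_zero_iff (M₀ := Γ(X, unop U)) (Fact.out : p.Prime).ne_zero).mp h2
    exact Sheaf.Hom.mono_of_presheaf_mono _ _ φ
  have hS : (ShortComplex.mk φ (Limits.cokernel.π φ) (Limits.cokernel.condition φ)).ShortExact :=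
    { exact := ShortComplex.exact_cokernel φ }
  exact bij_of_shortExact hS _ hB i

end Groth.Agent.S16370
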