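import Mathlib
import Groth.Statements.S16373
import Groth.Agent.S16372
-- import your own Groth.Agent.* helpers here

set_option autoImplicit false
universe u
open FrobAlg

namespace Groth.Agent.S16373

section
variable (p : ℕ) [Fact p.Prime] {m : ℕ} {R : Type u} [CommRing R]

lemma coeff_zero_shift (x : TruncatedWittVector p m R) :
    (WittGrp.shift p (Nat.le_succ m) x).coeff 0 = 0 := by
  rw [WittGrp.coeff_shift]
  rw [dif_neg]
  simp

lemma exists_shift_of_coeff_zero (w : TruncatedWittVector p (m + 1) R) (hw : w.coeff 0 = 0) :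
    ∃ x, WittGrp.shift p (Nat.le_succ m) x = w := by
  refine ⟨TruncatedWittVector.mk p fun i => w.coeff i.succ, ?_⟩
  ext i
  rw [WittGrp.coeff_shift]
  split_ifs with hi
  · rw [TruncatedWittVector.coeff_mk]
    congr 1
    ext
    simp only [Fin.val_succ]
    have : m.succ - m = 1 := by omega
    omega
  · have : i = 0 := by
      ext
      simp only [Fin.val_zero]
      have : m.succ - m = 1 := by omega
      omega
    rw [this, hw]

lemma shift_injective :
    Function.Injective (WittGrp.shift p (Nat.le_succ m) :
      TruncatedWittVector p m R → TruncatedWittVector p m.succ R) := by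
  intro x y h
  ext i
  have h2 := congrArg (fun w => TruncatedWittVector.coeff (i.succ) w) h
  simp only [WittGrp.coeff_shift] at h2
  have h3 : m.succ - m ≤ ((i.succ : Fin m.succ) : ℕ) := by
    simp only [Fin.val_succ]; omega
  rw [dif_pos h3, dif_pos h3] at h2
  have h4 : (⟨((i.succ : Fin m.succ) : ℕ) - (m.succ - m), by omega⟩ : Fin m) = i := by
    ext
    simp only [Fin.val_succ]
    omega
  rw [h4] at h2
  exact h2

lemma coeff_zero_mul (a b : TruncatedWittVector p (m + 1) R) :
    (a * b).coeff 0 = a.coeff 0 * b.coeff 0 := by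
  obtain ⟨A, rfl⟩ := WittVector.truncate_surjective p (m + 1) R a
  obtain ⟨B, rfl⟩ := WittVector.truncate_surjective p (m + 1) R b
  rw [← map_mul, WittVector.coeff_truncate, WittVector.coeff_truncate, WittVector.coeff_truncate]
  exact WittVector.mul_coeff_zero A B

lemma coeff_zero_add (a b : TruncatedWittVector p (m + 1) R) :
    (a + b).coeff 0 = a.coeff 0 + b.coeff 0 := by
  obtain ⟨A, rfl⟩ := WittVector.truncate_surjective p (m + 1) R a
  obtain ⟨B, rfl⟩ := WittVector.truncate_surjective p (m + 1) R b
  rw [← map_add, WittVector.coeff_truncate, WittVector.coeff_truncate, WittVector.coeff_truncate]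
  exact WittVector.add_coeff_zero A B

lemma p_mul_eq [CharP R p] (hp : (p : R) = 0) (w : TruncatedWittVector p (m + 1) R) :
    (p : TruncatedWittVector p (m + 1) R) * w =
      WittGrp.shift p (Nat.le_succ m)
        (WittGrp.frob p m hp (TruncatedWittVector.truncate (Nat.le_succ m) w)) := by
  obtain ⟨W, rfl⟩ := WittVector.truncate_surjective p (m + 1) R w
  rw [TruncatedWittVector.truncate_wittVector_truncate, WittGrp.frob_truncate,
    WittGrp.shift_truncate]
  have h1 : m.succ - m = 1 := by omega
  rw [h1]
  simp only [Function.iterate_one]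
  rw [WittVector.verschiebung_frobenius, map_mul, map_natCast, mul_comm]

end


/-- Let p be a prime, m ≥ 1, R a commutative ring with p = 0 in R and σ : W_m(R) → R a quasi-F-splitting
of level m (additive, σ(1) = 1, σ(F(x)·y) = x₀·σ(y) with F the componentwise p-th power). Let I ⊆
W_{m+1}(R) be the ideal generated by the shifts V(x) of the x with σ(x) = 0, and Q = W_{m+1}(R)/I.
Then Q is a flat lifting of R modulo p²: an element of Q lies in pQ exactly when the first Witt
component of a representative vanishes (so Q/pQ is R through the first component), and an element of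
Q is killed by p exactly when it lies in pQ. (Stated for a ring; the source has a scheme over the
prime field. For m = 1 this is the lifting attached to a Frobenius splitting.) -/
theorem result
    (p : ℕ) [Fact p.Prime] (m : ℕ) (hm : 0 < m) (R : Type u) [CommRing R] (hp : (p : R) = 0)
    (σ : TruncatedWittVector p m R →+ R) (h1 : σ 1 = 1)
    (hF : ∀ x y : TruncatedWittVector p m R, σ (WittGrp.frob p m hp x * y) = x.coeff ⟨0, hm⟩ * σ y)
    (I : Ideal (TruncatedWittVector p (m + 1) R))
    (hI : I = Ideal.span (WittGrp.shift p (Nat.le_succ m) '' {x : TruncatedWittVector p m R | σ x = 0})) :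
    (∀ w : TruncatedWittVector p (m + 1) R,
        Ideal.Quotient.mk I w ∈ Ideal.span ({(p : TruncatedWittVector p (m + 1) R ⧸ I)} : Set _) ↔
          w.coeff 0 = 0) ∧
    (∀ q : TruncatedWittVector p (m + 1) R ⧸ I,
        (p : TruncatedWittVector p (m + 1) R ⧸ I) * q = 0 ↔
          q ∈ Ideal.span ({(p : TruncatedWittVector p (m + 1) R ⧸ I)} : Set _)) := by
  rcases subsingleton_or_nontrivial R with hR | hR
  · haveI : Subsingleton (TruncatedWittVector p (m + 1) R) :=
      ⟨fun a b => TruncatedWittVector.ext fun i => Subsingleton.elim _ _⟩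
    haveI : Subsingleton (TruncatedWittVector p (m + 1) R ⧸ I) :=
      (Ideal.Quotient.mk_surjective (I := I)).subsingleton
    refine ⟨fun w => ⟨fun _ => Subsingleton.elim _ _, fun _ => ?_⟩,
      fun q => ⟨fun _ => ?_, fun _ => Subsingleton.elim _ _⟩⟩
    · rw [Subsingleton.elim (Ideal.Quotient.mk I w) 0]; exact zero_mem _
    · rw [Subsingleton.elim q 0]; exact zero_mem _
  · have : CharP R p := (CharP.charP_iff_prime_eq_zero (Fact.out : p.Prime)).mpr hp
    have hσF : ∀ z : TruncatedWittVector p m R, σ (WittGrp.frob p m hp z) = z.coeff ⟨0, hm⟩ := by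
      intro z
      have := hF z 1
      rwa [mul_one, h1, mul_one] at this
    have hIsub : ∀ w ∈ I, ∃ x, σ x = 0 ∧ WittGrp.shift p (Nat.le_succ m) x = w := by
      intro w hw
      rw [hI] at hw
      refine Submodule.span_induction ?_ ?_ ?_ ?_ hw
      · rintro _ ⟨x, hx, rfl⟩; exact ⟨x, hx, rfl⟩
      · exact ⟨0, map_zero σ, map_zero _⟩
      · rintro a b _ _ ⟨x, hx, rfl⟩ ⟨y, hy, rfl⟩
        exact ⟨x + y, by rw [map_add, hx, hy, add_zero], map_add _ _ _⟩
      · rintro a b _ ⟨x, hx, rfl⟩
        obtain ⟨x', hx', e⟩ := Groth.Agent.S16372.result p m hm R hp σ h1 hF a x hx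
        exact ⟨x', hx', by rw [smul_eq_mul, e]⟩
    have hIsup : ∀ x, σ x = 0 → WittGrp.shift p (Nat.le_succ m) x ∈ I := fun x hx => by
      rw [hI]; exact Ideal.subset_span ⟨x, hx, rfl⟩
    have hI0 : ∀ w ∈ I, w.coeff 0 = 0 := fun w hw => by
      obtain ⟨x, _, rfl⟩ := hIsub w hw; exact coeff_zero_shift p x
    have hmem : ∀ w : TruncatedWittVector p (m + 1) R,
        Ideal.Quotient.mk I w ∈ Ideal.span ({(p : TruncatedWittVector p (m + 1) R ⧸ I)} : Set _) ↔
          ∃ u, w - (p : TruncatedWittVector p (m + 1) R) * u ∈ I := by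
      intro w
      rw [Ideal.mem_span_singleton']
      constructor
      · rintro ⟨a, ha⟩
        obtain ⟨u, rfl⟩ := Ideal.Quotient.mk_surjective a
        refine ⟨u, ?_⟩
        rw [← Ideal.Quotient.eq, map_mul, map_natCast, ← ha, mul_comm]
      · rintro ⟨u, hu⟩
        refine ⟨Ideal.Quotient.mk I u, ?_⟩
        rw [← Ideal.Quotient.eq] at hu
        rw [hu, map_mul, map_natCast, mul_comm]
    have claim1 : ∀ w : TruncatedWittVector p (m + 1) R,
        Ideal.Quotient.mk I w ∈ Ideal.span ({(p : TruncatedWittVector p (m + 1) R ⧸ I)} : Set _) ↔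
          w.coeff 0 = 0 := by
      intro w
      rw [hmem]
      constructor
      · rintro ⟨u, hu⟩
        have h0 := hI0 _ hu
        have e : w = (w - (p : TruncatedWittVector p (m + 1) R) * u) +
            (p : TruncatedWittVector p (m + 1) R) * u := by ring
        rw [e, coeff_zero_add, h0, p_mul_eq p hp u, coeff_zero_shift, add_zero]
      · intro hw
        obtain ⟨x, rfl⟩ := exists_shift_of_coeff_zero p w hw
        refine ⟨WittVector.truncate (m + 1) (WittVector.teichmuller p (σ x)), ?_⟩
        rw [p_mul_eq p hp, TruncatedWittVector.truncate_wittVector_truncate, ← map_sub]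
        apply hIsup
        rw [map_sub, hσF, WittVector.coeff_truncate]
        simp [WittVector.teichmuller_coeff_zero]
    refine ⟨claim1, fun q => ?_⟩
    obtain ⟨w, rfl⟩ := Ideal.Quotient.mk_surjective q
    rw [claim1, ← map_natCast (Ideal.Quotient.mk I), ← map_mul, Ideal.Quotient.eq_zero_iff_mem,
      p_mul_eq p hp]
    have hc : (TruncatedWittVector.truncate (Nat.le_succ m) w).coeff ⟨0, hm⟩ = w.coeff 0 := by
      rw [TruncatedWittVector.coeff_truncate]
      rfl
    constructor
    · intro h
      obtain ⟨x, hx, e⟩ := hIsub _ h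
      have e2 := shift_injective p e
      rw [e2, hσF, hc] at hx
      exact hx
    · intro h
      apply hIsup
      rw [hσF, hc]
      exact h

end Groth.Agent.S16373
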