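import Groth.Statements.S16390
import Mathlib
-- import your own Groth.Agent.* helpers here

set_option autoImplicit false
open AbVar

namespace Groth.Agent.S16390


open Polynomial

theorem part1 (p r : ℕ) [Fact p.Prime] (hr : 2 < r) :
    Irreducible (X ^ 2 - C (p : ℚ) * X + C ((p : ℚ) ^ r)) := by
  have hp : p.Prime := Fact.out
  have hp2 : (2 : ℚ) ≤ p := by exact_mod_cast hp.two_le
  have hf : (X ^ 2 - C (p : ℚ) * X + C ((p : ℚ) ^ r) : ℚ[X]) =
      C 1 * X ^ 2 + C (-(p : ℚ)) * X + C ((p : ℚ) ^ r) := by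
    simp only [map_one, one_mul, map_neg]; ring
  have hdeg : (X ^ 2 - C (p : ℚ) * X + C ((p : ℚ) ^ r) : ℚ[X]).natDegree = 2 := by
    rw [hf]; exact natDegree_quadratic one_ne_zero
  have hmonic : (X ^ 2 - C (p : ℚ) * X + C ((p : ℚ) ^ r) : ℚ[X]).Monic := by
    rw [Monic, hf, leadingCoeff_quadratic one_ne_zero]
  rw [hmonic.irreducible_iff_roots_eq_zero_of_degree_le_three (by rw [hdeg]) (by rw [hdeg]; norm_num)]
  rw [Multiset.eq_zero_iff_forall_notMem]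
  intro x hx
  rw [mem_roots hmonic.ne_zero, IsRoot.def] at hx
  simp only [eval_add, eval_sub, eval_mul, eval_pow, eval_X, eval_C] at hx
  have hpow : (p : ℚ) ^ 2 ≤ (p : ℚ) ^ r := pow_le_pow_right₀ (by linarith) (by omega)
  have h4 : (4 : ℚ) ≤ (p : ℚ) ^ 2 := by nlinarith
  nlinarith [sq_nonneg (2 * x - p)]

theorem part2 (p r : ℕ) [Fact p.Prime] (hr : 2 < r) (π : ℂ)
    (h : π ^ 2 - (p : ℂ) * π + (p : ℂ) ^ r = 0) : ‖π‖ = Real.sqrt ((p : ℝ) ^ r) := by
  have hp : p.Prime := Fact.out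
  have hp2 : (2 : ℝ) ≤ p := by exact_mod_cast hp.two_le
  have hpow : (p : ℝ) ^ 2 ≤ (p : ℝ) ^ r := pow_le_pow_right₀ (by linarith) (by omega)
  have h4 : (4 : ℝ) ≤ (p : ℝ) ^ 2 := by nlinarith
  rw [← Complex.ofReal_natCast, ← Complex.ofReal_pow] at h
  have hre := congrArg Complex.re h
  have him := congrArg Complex.im h
  simp only [pow_two, Complex.add_re, Complex.sub_re, Complex.mul_re, Complex.ofReal_re,
    Complex.ofReal_im, Complex.add_im, Complex.sub_im, Complex.mul_im, Complex.zero_re,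
    Complex.zero_im, zero_mul, sub_zero, add_zero] at hre him
  have him' : π.im * (2 * π.re - p) = 0 := by linarith
  rcases mul_eq_zero.mp him' with h0 | h0
  · exfalso
    rw [h0] at hre
    nlinarith [sq_nonneg (2 * π.re - p)]
  · have hx : π.re = p / 2 := by linarith
    rw [Complex.norm_def, Complex.normSq_apply]
    congr 1
    rw [hx] at hre ⊢
    nlinarith

theorem part3 (p r : ℕ) [Fact p.Prime] (hr : 2 < r) :
    ∃ a b : ℚ_[p], a ≠ b ∧ a ^ 2 - (p : ℚ_[p]) * a + (p : ℚ_[p]) ^ r = 0 ∧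
        b ^ 2 - (p : ℚ_[p]) * b + (p : ℚ_[p]) ^ r = 0 ∧ a.valuation = 1 ∧
        b.valuation = (r : ℤ) - 1 := by
  have hp : p.Prime := Fact.out
  have hF1 : (X ^ 2 - X + C ((p : ℤ_[p]) ^ (r - 2)) : ℤ_[p][X]).aeval (1 : ℤ_[p]) =
      (p : ℤ_[p]) ^ (r - 2) := by
    simp
  have hF'1 : (X ^ 2 - X + C ((p : ℤ_[p]) ^ (r - 2)) : ℤ_[p][X]).derivative.aeval (1 : ℤ_[p]) = 1 := by
    simp only [derivative_add, derivative_sub, derivative_X_pow, derivative_X, derivative_C]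
    simp
    norm_num
  have hnorm : ‖(X ^ 2 - X + C ((p : ℤ_[p]) ^ (r - 2)) : ℤ_[p][X]).aeval (1 : ℤ_[p])‖ <
      ‖(X ^ 2 - X + C ((p : ℤ_[p]) ^ (r - 2)) : ℤ_[p][X]).derivative.aeval (1 : ℤ_[p])‖ ^ 2 := by
    rw [hF1, hF'1, norm_one, one_pow, PadicInt.norm_lt_one_iff_dvd]
    exact dvd_pow_self _ (by omega)
  obtain ⟨y, hy0, hy1, -, -⟩ := hensels_lemma hnorm
  rw [hF'1, norm_one, PadicInt.norm_lt_one_iff_dvd] at hy1
  have hyeq : y ^ 2 - y + (p : ℤ_[p]) ^ (r - 2) = 0 := by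
    simpa using hy0
  have hynorm : ‖y‖ = 1 := by
    by_contra hne
    have hlt : ‖y‖ < 1 := lt_of_le_of_ne (PadicInt.norm_le_one y) hne
    rw [PadicInt.norm_lt_one_iff_dvd] at hlt
    have h1 : (p : ℤ_[p]) ∣ 1 := by
      have := dvd_sub hlt hy1
      rwa [sub_sub_cancel] at this
    rw [← PadicInt.norm_lt_one_iff_dvd, norm_one] at h1
    exact lt_irrefl _ h1
  have hYeq : (y : ℚ_[p]) ^ 2 - (y : ℚ_[p]) + (p : ℚ_[p]) ^ (r - 2) = 0 := by
    have := congrArg (fun z : ℤ_[p] => (z : ℚ_[p])) hyeq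
    simpa using this
  have hYnorm : ‖(y : ℚ_[p])‖ = 1 := hynorm
  generalize (y : ℚ_[p]) = Y at hYeq hYnorm
  have hY0 : Y ≠ 0 := by
    intro h; rw [h, norm_zero] at hYnorm; exact zero_ne_one hYnorm
  have hYval : Y.valuation = 0 := by
    have h1 := Padic.norm_eq_zpow_neg_valuation hY0
    rw [hYnorm] at h1
    have hp1 : (1 : ℝ) < p := by exact_mod_cast hp.one_lt
    have h2 := zpow_right_injective₀ (by positivity) hp1.ne' (h1.symm.trans (zpow_zero (p : ℝ)).symm)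
    exact neg_eq_zero.mp h2
  have hpne : (p : ℚ_[p]) ≠ 0 := by exact_mod_cast hp.ne_zero
  have hpr : (p : ℚ_[p]) ^ r = (p : ℚ_[p]) ^ 2 * (p : ℚ_[p]) ^ (r - 2) := by
    rw [← pow_add]; congr 1; omega
  have ha : ((p : ℚ_[p]) * Y) ^ 2 - (p : ℚ_[p]) * ((p : ℚ_[p]) * Y) + (p : ℚ_[p]) ^ r = 0 := by
    rw [hpr]; linear_combination (p : ℚ_[p]) ^ 2 * hYeq
  have hb : ((p : ℚ_[p]) - (p : ℚ_[p]) * Y) ^ 2 - (p : ℚ_[p]) * ((p : ℚ_[p]) - (p : ℚ_[p]) * Y) +
      (p : ℚ_[p]) ^ r = 0 := by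
    linear_combination ha
  have hab : ((p : ℚ_[p]) * Y) * ((p : ℚ_[p]) - (p : ℚ_[p]) * Y) = (p : ℚ_[p]) ^ r := by
    linear_combination (-1 : ℚ_[p]) * ha
  have ha0 : (p : ℚ_[p]) * Y ≠ 0 := mul_ne_zero hpne hY0
  have hb0 : (p : ℚ_[p]) - (p : ℚ_[p]) * Y ≠ 0 := by
    intro h0
    rw [h0, mul_zero] at hab
    exact pow_ne_zero r hpne hab.symm
  have hva : ((p : ℚ_[p]) * Y).valuation = 1 := by
    rw [Padic.valuation_mul hpne hY0, Padic.valuation_p, hYval, add_zero]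
  have hvb : ((p : ℚ_[p]) - (p : ℚ_[p]) * Y).valuation = (r : ℤ) - 1 := by
    have h1 := Padic.valuation_mul ha0 hb0
    rw [hab, Padic.valuation_pow, Padic.valuation_p, hva] at h1
    linarith
  refine ⟨p * Y, p - p * Y, ?_, ha, hb, hva, hvb⟩
  intro heq
  have h1 : ((p : ℚ_[p]) * Y).valuation = ((p : ℚ_[p]) - (p : ℚ_[p]) * Y).valuation :=
    congrArg Padic.valuation heq
  rw [hva, hvb] at h1
  omega

/-- Let p be a prime number, r > 2 and q = p^r. The polynomial x² − p x + q is irreducible over ℚ, each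
of its complex roots has absolute value √q (so its roots are Weil q-numbers), and it has two
distinct roots in ℚ_p, of p-adic valuations 1 and r − 1. The published lemma also computes the index
of the endomorphism algebra of the simple abelian variety attached to a root; this row does not
state that part. -/
theorem result (p r : ℕ) [Fact p.Prime] (hr : 2 < r) :
    Irreducible (Polynomial.X ^ 2 - Polynomial.C (p : ℚ) * Polynomial.X + Polynomial.C ((p : ℚ) ^ r)) ∧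
      (∀ π : ℂ, π ^ 2 - (p : ℂ) * π + (p : ℂ) ^ r = 0 → ‖π‖ = Real.sqrt ((p : ℝ) ^ r)) ∧
      ∃ a b : ℚ_[p], a ≠ b ∧ a ^ 2 - (p : ℚ_[p]) * a + (p : ℚ_[p]) ^ r = 0 ∧
        b ^ 2 - (p : ℚ_[p]) * b + (p : ℚ_[p]) ^ r = 0 ∧ a.valuation = 1 ∧ b.valuation = (r : ℤ) - 1 := by
  exact ⟨part1 p r hr, part2 p r hr, part3 p r hr⟩

end Groth.Agent.S16390
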