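import Groth.Statements.S16396
import Mathlib

set_option autoImplicit false
universe u
open CAlg

namespace Groth.Agent.S16396

open Polynomial

section
variable {A : Type u} [CommRing A] [Algebra ℚ A] (B : Subalgebra ℚ A[X])

theorem iterate_mem (hD : ∀ P ∈ B, Polynomial.derivative P ∈ B) (k : ℕ) (P : A[X]) (hP : P ∈ B) :
    (⇑Polynomial.derivative)^[k] P ∈ B := by
  induction k with
  | zero => simpa using hP
  | succ k ih =>
    rw [Function.iterate_succ_apply']
    exact hD _ ih

theorem fact_smul_inv (k : ℕ) (a : A) : ((k.factorial : ℚ)⁻¹) • (k.factorial • a) = a := by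
  rw [← Nat.cast_smul_eq_nsmul ℚ, smul_smul, inv_mul_cancel₀, one_smul]
  exact_mod_cast Nat.factorial_ne_zero k

/-- The leading-coefficient extraction. -/
theorem C_coeff_top_mem (hD : ∀ P ∈ B, Polynomial.derivative P ∈ B) (n : ℕ) (Q : A[X])
    (hQ : Q ∈ B) (hn : Q.natDegree ≤ n) : C (Q.coeff n) ∈ B := by
  have h1 : (⇑Polynomial.derivative)^[n] Q ∈ B := iterate_mem B hD n Q hQ
  have h2 : (⇑Polynomial.derivative)^[n] Q = C (n.factorial • Q.coeff n) := by
    ext m
    rw [Polynomial.coeff_iterate_derivative, Polynomial.coeff_C]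
    rcases Nat.eq_zero_or_pos m with rfl | hm
    · rw [if_pos rfl, zero_add, Nat.descFactorial_self]
    · rw [if_neg (by omega), Polynomial.coeff_eq_zero_of_natDegree_lt (by omega), smul_zero]
  have h3 : C (Q.coeff n) = ((n.factorial : ℚ)⁻¹) • (⇑Polynomial.derivative)^[n] Q := by
    rw [h2, Polynomial.smul_C, fact_smul_inv]
  rw [h3]
  exact B.smul_mem h1 _

theorem C_coeff_mem (hX : (X : A[X]) ∈ B) (hD : ∀ P ∈ B, Polynomial.derivative P ∈ B) :
    ∀ (n : ℕ) (Q : A[X]), Q ∈ B → Q.natDegree ≤ n → ∀ i, C (Q.coeff i) ∈ B := by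
  intro n
  induction n with
  | zero =>
    intro Q hQ hn i
    rcases Nat.eq_zero_or_pos i with rfl | hi
    · rw [← Polynomial.eq_C_of_natDegree_le_zero hn]; exact hQ
    · rw [Polynomial.coeff_eq_zero_of_natDegree_lt (by omega), map_zero]; exact B.zero_mem
  | succ n ih =>
    intro Q hQ hn i
    have hlead : C (Q.coeff (n + 1)) ∈ B := C_coeff_top_mem B hD (n + 1) Q hQ hn
    set Q' := Q - C (Q.coeff (n + 1)) * X ^ (n + 1) with hQ'
    have hQ'mem : Q' ∈ B := B.sub_mem hQ (B.mul_mem hlead (B.pow_mem hX _))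
    have hdeg : Q'.natDegree ≤ n := by
      rw [Polynomial.natDegree_le_iff_coeff_eq_zero]
      intro N hN
      rw [hQ', Polynomial.coeff_sub, Polynomial.coeff_C_mul, Polynomial.coeff_X_pow]
      by_cases hN' : N = n + 1
      · rw [if_pos hN', mul_one, hN', sub_self]
      · rw [if_neg hN', mul_zero, sub_zero,
          Polynomial.coeff_eq_zero_of_natDegree_lt (by omega)]
    have hcoeff : Q.coeff i = Q'.coeff i + (C (Q.coeff (n + 1)) * X ^ (n + 1)).coeff i := by
      rw [hQ', Polynomial.coeff_sub]; ring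
    rw [hcoeff, map_add]
    refine B.add_mem (ih Q' hQ'mem hdeg i) ?_
    rw [Polynomial.coeff_C_mul, Polynomial.coeff_X_pow]
    by_cases hi : i = n + 1
    · rw [if_pos hi, mul_one]; exact hlead
    · rw [if_neg hi, mul_zero, map_zero]; exact B.zero_mem

end

/-- For a commutative ℚ-algebra A, a ℚ-subalgebra B of the polynomial algebra A[X] that contains X and
is closed under d/dX consists exactly of the polynomials each of whose coefficients is the value at
0 of some element of B; in other words B = ev(B)[X], with ev the evaluation at 0. -/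
theorem result
    (A : Type u) [CommRing A] [Algebra ℚ A] (B : Subalgebra ℚ A[X])
    (hX : (X : A[X]) ∈ B) (hD : ∀ P ∈ B, Polynomial.derivative P ∈ B) (P : A[X]) :
    P ∈ B ↔ ∀ i : ℕ, ∃ Q ∈ B, Polynomial.eval 0 Q = P.coeff i := by
  constructor
  · intro hP i
    refine ⟨((i.factorial : ℚ)⁻¹) • (⇑Polynomial.derivative)^[i] P,
      B.smul_mem (iterate_mem B hD i P hP) _, ?_⟩
    rw [Polynomial.eval_smul, ← Polynomial.coeff_zero_eq_eval_zero,
      Polynomial.coeff_iterate_derivative, zero_add, Nat.descFactorial_self, fact_smul_inv]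
  · intro h
    rw [Polynomial.as_sum_range_C_mul_X_pow P]
    refine B.sum_mem (fun i _ => B.mul_mem ?_ (B.pow_mem hX _))
    obtain ⟨Q, hQ, hQi⟩ := h i
    rw [← hQi, ← Polynomial.coeff_zero_eq_eval_zero]
    exact C_coeff_mem B hX hD Q.natDegree Q hQ le_rfl 0

end Groth.Agent.S16396
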