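import Mathlib
import Groth.Statements.S16400
-- import your own Groth.Agent.* helpers here

set_option autoImplicit false
universe u v
open CAlgX

namespace Groth.Agent.S16400

open Matrix

section Aux
variable {K : Type*} [Field K]

/-- Choose columns forming a basis of the column space. -/
lemma exists_cols {m n : Type*} [Fintype m] [Fintype n] [DecidableEq n] (M : Matrix m n K) :
    ∃ S : Finset n, LinearIndependent K (fun j : ↥S => M.col j.1) ∧
      LinearMap.range M.mulVecLin = Submodule.span K (Set.range (fun j : ↥S => M.col j.1)) := by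
  classical
  obtain ⟨b, -, -, hspan, hli⟩ := exists_linearIndepOn_extension (K := K) (v := M.col) (s := ∅)
    (t := Set.univ) (linearIndepOn_empty _ _) (Set.empty_subset _)
  refine ⟨Finset.univ.filter (· ∈ b), ?_, ?_⟩
  · have hS : ((Finset.univ.filter (· ∈ b) : Finset n) : Set n) = b := by ext; simp
    have : LinearIndepOn K M.col ((Finset.univ.filter (· ∈ b) : Finset n) : Set n) := by
      rw [hS]; exact hli
    exact this
  · rw [Matrix.range_mulVecLin]
    apply le_antisymm
    · rw [Submodule.span_le]
      rintro _ ⟨j, rfl⟩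
      have h1 := hspan ⟨j, Set.mem_univ _, rfl⟩
      refine Submodule.span_mono ?_ h1
      rintro _ ⟨i, hi, rfl⟩
      exact ⟨⟨i, by simpa using hi⟩, rfl⟩
    · apply Submodule.span_mono
      rintro _ ⟨j, rfl⟩
      exact ⟨j.1, rfl⟩

lemma L1 {m n : Type*} [Fintype m] [Fintype n] [DecidableEq n] (M : Matrix m n K)
    (hM : Function.Surjective M.mulVecLin) :
    ∃ S : Finset n, Function.Bijective (M.submatrix id (Subtype.val : ↥S → n)).mulVecLin := by
  obtain ⟨S, hli, hrange⟩ := exists_cols M
  refine ⟨S, ?_, ?_⟩
  · exact Matrix.mulVec_injective_iff.mpr hli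
  · rw [← LinearMap.range_eq_top, Matrix.range_mulVecLin]
    have : LinearMap.range M.mulVecLin = ⊤ := LinearMap.range_eq_top.mpr hM
    rw [← this, hrange]
    rfl

lemma bij_transpose {m n : Type*} [Fintype m] [Fintype n] [DecidableEq m] [DecidableEq n]
    (M : Matrix m n K) (hM : Function.Bijective M.mulVecLin) :
    Function.Bijective Mᵀ.mulVecLin := by
  let e : (n → K) ≃ₗ[K] (m → K) := LinearEquiv.ofBijective M.mulVecLin hM
  let N' : Matrix n m K := LinearMap.toMatrix' e.symm.toLinearMap
  have h1 : M * N' = 1 := by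
    have : M = LinearMap.toMatrix' e.toLinearMap := by
      have he : e.toLinearMap = M.mulVecLin := LinearMap.ext fun x => rfl
      rw [he, ← Matrix.toLin'_apply', LinearMap.toMatrix'_toLin']
    rw [this, ← LinearMap.toMatrix'_comp]
    simp
  have h2 : N' * M = 1 := by
    have : M = LinearMap.toMatrix' e.toLinearMap := by
      have he : e.toLinearMap = M.mulVecLin := LinearMap.ext fun x => rfl
      rw [he, ← Matrix.toLin'_apply', LinearMap.toMatrix'_toLin']
    rw [this, ← LinearMap.toMatrix'_comp]
    simp
  have h1' : N'ᵀ * Mᵀ = 1 := by rw [← Matrix.transpose_mul, h1, Matrix.transpose_one]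
  have h2' : Mᵀ * N'ᵀ = 1 := by rw [← Matrix.transpose_mul, h2, Matrix.transpose_one]
  constructor
  · intro x y hxy
    have hxy' : Mᵀ *ᵥ x = Mᵀ *ᵥ y := hxy
    have := congrArg (fun v => N'ᵀ *ᵥ v) hxy'
    simpa [Matrix.mulVec_mulVec, h1'] using this
  · intro y
    refine ⟨N'ᵀ *ᵥ y, ?_⟩
    change Mᵀ *ᵥ (N'ᵀ *ᵥ y) = y
    rw [Matrix.mulVec_mulVec, h2', Matrix.one_mulVec]

lemma L2 {m n : Type*} [Fintype m] [Fintype n] [DecidableEq m] [DecidableEq n] (M : Matrix m n K)
    (hM : Function.Injective M.mulVecLin) :
    ∃ S : Finset m, Function.Bijective (M.submatrix (Subtype.val : ↥S → m) id).mulVecLin := by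
  have hrank : M.rank = Fintype.card n := by
    rw [Matrix.rank, LinearMap.finrank_range_of_inj hM, Module.finrank_pi]
  have hsurj : Function.Surjective Mᵀ.mulVecLin := by
    rw [← LinearMap.range_eq_top]
    apply Submodule.eq_top_of_finrank_eq
    rw [Module.finrank_pi]
    have := Matrix.rank_transpose M
    rw [Matrix.rank] at this
    rw [this, hrank]
  obtain ⟨S, hS⟩ := L1 Mᵀ hsurj
  refine ⟨S, ?_⟩
  have := bij_transpose _ hS
  exact this

end Aux


/-- Let K be a field, N a finite index set and A a square matrix over K indexed by N whose linear map on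
column vectors has kernel equal to its range (so A composed with A is zero and the three-term
sequence it defines is exact in the middle). Then there are subsets N₁₂, N₂₁, N₃₁ of N such that the
block of A with rows in N₃₁ and columns in N₂₁, and the block of A with rows outside N₂₁ and columns
in N₁₂, both act bijectively on column vectors. (In the original setting K is the prime field and
middle exactness is supplied by the Cartier isomorphism; here exactness is the hypothesis and K is
any field.) -/
theorem result
    {K : Type u} [Field K] {N : Type v} [Fintype N] [DecidableEq N]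
    (A : Matrix N N K)
    (hA : LinearMap.ker A.mulVecLin = LinearMap.range A.mulVecLin) :
    ∃ N₁₂ N₂₁ N₃₁ : Finset N,
      Function.Bijective (A.submatrix (Subtype.val : ↥N₃₁ → N) (Subtype.val : ↥N₂₁ → N)).mulVecLin ∧
      Function.Bijective
        (A.submatrix (Subtype.val : {x : N // x ∉ N₂₁} → N) (Subtype.val : ↥N₁₂ → N)).mulVecLin := by
  classical
  obtain ⟨N₂₁, hli, hrange⟩ := exists_cols A
  -- the block of columns N₂₁ is injective
  have hBinj : Function.Injective (A.submatrix id (Subtype.val : ↥N₂₁ → N)).mulVecLin :=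
    Matrix.mulVec_injective_iff.mpr hli
  obtain ⟨N₃₁, hN₃₁⟩ := L2 _ hBinj
  -- dimension count
  have hfr : Module.finrank K (LinearMap.range A.mulVecLin) = N₂₁.card := by
    rw [hrange, finrank_span_eq_card hli, Fintype.card_coe]
  have hcard : Fintype.card N = 2 * N₂₁.card := by
    have h1 := LinearMap.finrank_range_add_finrank_ker A.mulVecLin
    rw [hA, hfr, Module.finrank_pi] at h1
    omega
  have hcompl : Fintype.card {x : N // x ∉ N₂₁} = N₂₁.card := by
    rw [Fintype.card_subtype_compl, Fintype.card_coe]
    omega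
  -- rows outside N₂₁ give a surjective map
  let P : (N → K) →ₗ[K] ({x : N // x ∉ N₂₁} → K) := LinearMap.funLeft K K Subtype.val
  let g : LinearMap.range A.mulVecLin →ₗ[K] ({x : N // x ∉ N₂₁} → K) :=
    P ∘ₗ (LinearMap.range A.mulVecLin).subtype
  have hginj : Function.Injective g := by
    rw [← LinearMap.ker_eq_bot, Submodule.eq_bot_iff]
    rintro ⟨w, hw⟩ hgw
    have hw0 : ∀ i : N, i ∉ N₂₁ → w i = 0 := fun i hi => congrFun hgw ⟨i, hi⟩
    have hAw : A *ᵥ w = 0 := by
      have : w ∈ LinearMap.ker A.mulVecLin := by rw [hA]; exact hw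
      exact this
    have hBw : (A.submatrix id (Subtype.val : ↥N₂₁ → N)) *ᵥ (fun j : ↥N₂₁ => w j.1) = 0 := by
      rw [← hAw]
      ext i
      simp only [Matrix.mulVec, dotProduct, Matrix.submatrix_apply, id_eq]
      rw [Finset.sum_coe_sort N₂₁ (fun j => A i j * w j)]
      apply Finset.sum_subset (Finset.subset_univ _)
      intro j _ hj
      rw [hw0 j hj, mul_zero]
    have hz : (fun j : ↥N₂₁ => w j.1) = 0 := hBinj (by rw [map_zero]; exact hBw)
    ext i
    by_cases hi : i ∈ N₂₁
    · exact congrFun hz ⟨i, hi⟩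
    · exact hw0 i hi
  have hgsurj : Function.Surjective g := by
    refine (LinearMap.injective_iff_surjective_of_finrank_eq_finrank ?_).mp hginj
    rw [hfr, Module.finrank_pi, hcompl]
  have hM₂ : Function.Surjective
      (A.submatrix (Subtype.val : {x : N // x ∉ N₂₁} → N) id).mulVecLin := by
    intro y
    obtain ⟨⟨w, v, rfl⟩, hwy⟩ := hgsurj y
    refine ⟨v, ?_⟩
    rw [← hwy]
    rfl
  obtain ⟨N₁₂, hN₁₂⟩ := L1 _ hM₂
  exact ⟨N₁₂, N₂₁, N₃₁, hN₃₁, hN₁₂⟩

end Groth.Agent.S16400
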