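import Groth.Statements.S16401
import Mathlib

set_option autoImplicit false
universe u v
open CAlgX

namespace Groth.Agent.S16401

theorem prodE {R : Type u} [CommRing R] {ι : Type v} [AddCommGroup ι] (E : ι → AddSubgroup R)
    (h0 : E 0 = ⊤) (hmul : ∀ a b : ι, ∀ x ∈ E a, ∀ y ∈ E b, x * y ∈ E (a + b)) {κ : Type}
    (s : Finset κ) (x : κ → R) (a : κ → ι)
    (h : ∀ k ∈ s, x k ∈ E (a k)) : ∏ k ∈ s, x k ∈ E (∑ k ∈ s, a k) := by
  classical
  induction s using Finset.induction_on with
  | empty => simp [h0]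
  | insert k s hk ih =>
    rw [Finset.prod_insert hk, Finset.sum_insert hk]
    exact hmul _ _ _ (h k (Finset.mem_insert_self k s)) _
      (ih (fun k' hk' => h k' (Finset.mem_insert_of_mem hk')))

theorem detE {R : Type u} [CommRing R] {ι : Type v} [AddCommGroup ι] (E : ι → AddSubgroup R)
    (h0 : E 0 = ⊤) (hmul : ∀ a b : ι, ∀ x ∈ E a, ∀ y ∈ E b, x * y ∈ E (a + b)) {r : ℕ}
    (wβ wγ : Fin r → ι) (N : Matrix (Fin r) (Fin r) R) (hN : ∀ i k, N i k ∈ E (wγ i - wβ k)) :
    N.det ∈ E (∑ i, wγ i - ∑ k, wβ k) := by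
  rw [Matrix.det_apply]
  apply AddSubgroup.sum_mem
  intro σ _
  rw [Units.smul_def]
  apply AddSubgroup.zsmul_mem
  have := prodE E h0 hmul Finset.univ (fun i => N (σ i) i) (fun i => wγ (σ i) - wβ i)
    (fun i _ => hN (σ i) i)
  rw [Finset.sum_sub_distrib, Equiv.sum_comp σ wγ] at this
  exact this


/-- Let R be a commutative ring and (E_a), a ∈ ι, a family of additive subgroups of R indexed by an
additive commutative group ι, with E_0 = R and E_a · E_b ⊆ E_{a+b}. Let β, γ : Fin r → ι be weight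
vectors with Σ_j β_j = Σ_i γ_i, and let ϑ be an r × r matrix over R with ϑ_{ij} ∈ E_{γ_i − β_j} for
all i, j and with unit determinant. Then a column vector u satisfies u_j ∈ E_{β_j} for every j if
and only if (ϑ u)_i ∈ E_{γ_i} for every i; since ϑ is invertible this says that ϑ maps the box Π_j
E_{β_j} bijectively onto the box Π_i E_{γ_i}. -/
theorem result
    {R : Type u} [CommRing R] {ι : Type v} [AddCommGroup ι]
    (E : ι → AddSubgroup R) (h0 : E 0 = ⊤)
    (hmul : ∀ a b : ι, ∀ x ∈ E a, ∀ y ∈ E b, x * y ∈ E (a + b))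
    {r : ℕ} (wβ wγ : Fin r → ι) (hsum : ∑ j, wβ j = ∑ i, wγ i)
    (ϑ : Matrix (Fin r) (Fin r) R) (hϑ : ∀ i j, ϑ i j ∈ E (wγ i - wβ j))
    (hdet : IsUnit ϑ.det) (u : Fin r → R) :
    (∀ j, u j ∈ E (wβ j)) ↔ ∀ i, ϑ.mulVec u i ∈ E (wγ i) := by
  classical
  constructor
  · intro hu i
    rw [Matrix.mulVec, dotProduct]
    apply AddSubgroup.sum_mem
    intro j _
    have := hmul _ _ _ (hϑ i j) _ (hu j)
    rwa [sub_add_cancel] at this
  · intro hv j
    obtain ⟨d, hd⟩ := hdet
    have hcr : ϑ.det * u j = (ϑ.updateCol j (ϑ.mulVec u)).det := by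
      have h1 : Matrix.cramer ϑ (ϑ.mulVec u) = ϑ.det • u := by
        rw [Matrix.cramer_eq_adjugate_mulVec, Matrix.mulVec_mulVec, Matrix.adjugate_mul,
          Matrix.smul_mulVec, Matrix.one_mulVec]
      have h2 := congrFun h1 j
      rw [Matrix.cramer_apply] at h2
      rw [h2, Pi.smul_apply, smul_eq_mul]
    have hsumβ : ∑ k, Function.update wβ j 0 k = ∑ k, wβ k - wβ j := by
      have : ∀ k, Function.update wβ j 0 k = wβ k - (if k = j then wβ j else 0) := by
        intro k
        by_cases hk : k = j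
        · subst hk; simp
        · simp [hk]
      rw [Finset.sum_congr rfl (fun k _ => this k), Finset.sum_sub_distrib,
        Finset.sum_ite_eq' Finset.univ j]
      simp
    have hdetE := detE E h0 hmul (Function.update wβ j 0) wγ (ϑ.updateCol j (ϑ.mulVec u)) (by
      intro i k
      by_cases hk : k = j
      · subst hk; rw [Matrix.updateCol_self, Function.update_self, sub_zero]; exact hv i
      · rw [Matrix.updateCol_ne hk, Function.update_of_ne hk]; exact hϑ i k)
    have huj : u j = (↑d⁻¹ : R) * (ϑ.updateCol j (ϑ.mulVec u)).det := by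
      rw [← hcr, ← hd, ← mul_assoc, Units.inv_mul, one_mul]
    rw [huj]
    have h3 := hmul 0 _ (↑d⁻¹ : R) (by rw [h0]; trivial) _ hdetE
    have h4 : (0 : ι) + (∑ i, wγ i - ∑ k, Function.update wβ j 0 k) = wβ j := by
      rw [hsumβ, hsum]; abel
    rw [h4] at h3
    exact h3

end Groth.Agent.S16401
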