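import Groth.Statements.S16405
import Mathlib

set_option autoImplicit false
universe u v
open InvQ

namespace Groth.Agent.S16405

/-- In weight form. Let b : L → ℤ^r be an injective homomorphism of abelian groups (the case in view: L
the character group of a maximal torus T of a semisimple group over ℂ and b the map dual to the
surjection of the rank-r split torus T' onto T that sends the i-th coordinate cocharacter to the
primitive generator of the i-th ray of the Weyl chamber; only the injectivity of b is used, and ℂ is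
replaced by any commutative ring k). Grade the monoid algebra k[L × ℕ^r] (the coordinate ring of T ×
𝔸^r) by ℤ^r, the monomial (w, n) having weight b(w) + n (the weights of the T'-action u·(t, v) =
(b^∨(u) t, u v)), and grade k[ℕ^r] by ℤ^r/b(L), the monomial n having weight the class of n (the
weights of the action on 𝔸^r of the diagonalizable kernel Z of T' → T, a finite group in the case in
view). For a diagonalizable group acting on an affine scheme the ring of invariants is the
weight-zero part, so the two weight-zero parts are the coordinate rings of the quotients (T ×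
𝔸^r)//T' and 𝔸^r//Z. The statement: the algebra map k[L × ℕ^r] → k[ℕ^r] induced by the projection L
× ℕ^r → ℕ^r (restriction to the slice 1 × 𝔸^r) maps the weight-zero part of k[L × ℕ^r] bijectively
onto the weight-zero part of k[ℕ^r]; hence it induces an isomorphism of k-algebras between them. -/
theorem result
    (k : Type u) [CommRing k] (r : ℕ) (L : Type v) [AddCommGroup L]
    (b : L →+ (Fin r → ℤ)) (hb : Function.Injective b) :
    Set.BijOn
      (AddMonoidAlgebra.mapDomainAlgHom k k (AddMonoidHom.snd L (Fin r → ℕ)))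
      (AddMonoidAlgebra.gradeBy k
        (b.comp (AddMonoidHom.fst L (Fin r → ℕ)) +
          (AddMonoidHom.compLeft (Nat.castAddMonoidHom ℤ) (Fin r)).comp (AddMonoidHom.snd L (Fin r → ℕ))) 0 :
        Set (AddMonoidAlgebra k (L × (Fin r → ℕ))))
      (AddMonoidAlgebra.gradeBy k
        ((QuotientAddGroup.mk' b.range).comp (AddMonoidHom.compLeft (Nat.castAddMonoidHom ℤ) (Fin r))) 0 :
        Set (AddMonoidAlgebra k (Fin r → ℕ))) := by
  classical
  have hmap : ∀ x : AddMonoidAlgebra k (L × (Fin r → ℕ)),
      AddMonoidAlgebra.mapDomainAlgHom k k (AddMonoidHom.snd L (Fin r → ℕ)) x =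
        AddMonoidAlgebra.mapDomain Prod.snd x := fun x => rfl
  have hf₁ : ∀ (w : L) (n : Fin r → ℕ), (b.comp (AddMonoidHom.fst L (Fin r → ℕ)) +
      (AddMonoidHom.compLeft (Nat.castAddMonoidHom ℤ) (Fin r)).comp (AddMonoidHom.snd L (Fin r → ℕ)))
        (w, n) = b w + (fun i => (n i : ℤ)) := by
    intro w n
    rfl
  have hf₂ : ∀ (n : Fin r → ℕ), ((QuotientAddGroup.mk' b.range).comp
      (AddMonoidHom.compLeft (Nat.castAddMonoidHom ℤ) (Fin r))) n = 0 ↔
      ∃ w : L, b w + (fun i => (n i : ℤ)) = 0 := by
    intro n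
    rw [AddMonoidHom.comp_apply, QuotientAddGroup.mk'_apply, QuotientAddGroup.eq_zero_iff]
    constructor
    · rintro ⟨w, hw⟩
      refine ⟨-w, ?_⟩
      rw [map_neg, hw]
      exact neg_add_cancel _
    · rintro ⟨w, hw⟩
      refine ⟨-w, ?_⟩
      rw [map_neg]
      exact (neg_eq_of_add_eq_zero_right hw)
  refine ⟨?_, ?_, ?_⟩
  · intro x hx
    rw [SetLike.mem_coe, AddMonoidAlgebra.mem_gradeBy_iff] at hx ⊢
    intro n hn
    rw [hmap] at hn
    have h1 := Finsupp.mapDomain_support hn
    obtain ⟨⟨w, n'⟩, hwn, rfl⟩ := Finset.mem_image.mp h1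
    have h0 := hx hwn
    rw [Set.mem_preimage, Set.mem_singleton_iff, hf₁] at h0
    rw [Set.mem_preimage, Set.mem_singleton_iff, hf₂]
    exact ⟨w, h0⟩
  · intro x hx y hy hxy
    rw [SetLike.mem_coe, AddMonoidAlgebra.mem_gradeBy_iff] at hx hy
    rw [hmap, hmap] at hxy
    have hinj : Set.InjOn (Prod.snd : L × (Fin r → ℕ) → (Fin r → ℕ))
        ((b.comp (AddMonoidHom.fst L (Fin r → ℕ)) +
      (AddMonoidHom.compLeft (Nat.castAddMonoidHom ℤ) (Fin r)).comp (AddMonoidHom.snd L (Fin r → ℕ))) ⁻¹' {0}) := by
      rintro ⟨w, n⟩ h1 ⟨w', n'⟩ h2 (h : n = n')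
      subst h
      rw [Set.mem_preimage, Set.mem_singleton_iff, hf₁] at h1 h2
      have : b w = b w' := by
        have := h1.trans h2.symm
        exact add_right_cancel this
      rw [hb this]
    have h3 : Finsupp.mapDomain Prod.snd x.coeff = Finsupp.mapDomain Prod.snd y.coeff :=
      congrArg AddMonoidAlgebra.coeff hxy
    have h4 := Finsupp.mapDomain_injOn _ hinj hx hy h3
    exact AddMonoidAlgebra.coeff_injective h4
  · intro y hy
    rw [SetLike.mem_coe, AddMonoidAlgebra.mem_gradeBy_iff] at hy
    let σ : (Fin r → ℕ) → L × (Fin r → ℕ) := fun n =>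
      (if h : ∃ w : L, b w + (fun i => (n i : ℤ)) = 0 then h.choose else 0, n)
    refine ⟨AddMonoidAlgebra.mapDomain σ y, ?_, ?_⟩
    · rw [SetLike.mem_coe, AddMonoidAlgebra.mem_gradeBy_iff]
      intro z hz
      have h1 := Finsupp.mapDomain_support hz
      obtain ⟨n, hn, rfl⟩ := Finset.mem_image.mp h1
      have h0 := hy hn
      rw [Set.mem_preimage, Set.mem_singleton_iff, hf₂] at h0
      rw [Set.mem_preimage, Set.mem_singleton_iff]
      show (b.comp (AddMonoidHom.fst L (Fin r → ℕ)) +
        (AddMonoidHom.compLeft (Nat.castAddMonoidHom ℤ) (Fin r)).comp (AddMonoidHom.snd L (Fin r → ℕ)))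
          (dite _ _ _, n) = 0
      rw [hf₁, dif_pos h0]
      exact h0.choose_spec
    · rw [hmap]
      apply AddMonoidAlgebra.coeff_injective
      show Finsupp.mapDomain Prod.snd (Finsupp.mapDomain σ y.coeff) = y.coeff
      rw [← Finsupp.mapDomain_comp]
      exact Finsupp.mapDomain_id

end Groth.Agent.S16405
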