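import Groth.Statements.S16420
import Mathlib
import Groth.Agent.Helper1.LiftSummand

set_option autoImplicit false
universe u v
open CAlg

namespace Groth.Agent.S16420

open TensorProduct

theorem map_mem_smul_top {R : Type u} [CommRing R] {X Y : Type v} [AddCommGroup X] [Module R X]
    [AddCommGroup Y] [Module R Y] (𝔫 : Ideal R) (φ : X →ₗ[R] Y) {z : X}
    (hz : z ∈ 𝔫 • (⊤ : Submodule R X)) : φ z ∈ 𝔫 • (⊤ : Submodule R Y) := by
  refine Submodule.smul_induction_on hz ?_ ?_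
  · intro r hr n _
    rw [map_smul]
    exact Submodule.smul_mem_smul hr Submodule.mem_top
  · intro x y hx hy
    rw [map_add]; exact add_mem hx hy



open TensorProduct in
/-- For a commutative local Artinian ring R and an exact sequence 0 → H₁ → H → H₂ → 0 of finite free
R-modules, let F₁ ⊆ H₁ and F₂ ⊆ H₂ be submodules with free quotients, 𝔫 an ideal of R of square
zero, R̄ = R/𝔫, and F̄ ⊆ H̄ = R̄ ⊗ H an R̄-submodule with free quotient meeting the image of R̄ ⊗ H₁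
in the image of R̄ ⊗ F₁ and mapping onto the image of R̄ ⊗ F₂; let L be the set of direct summands F
of H with F ∩ H₁ = F₁, with image F̄ in H̄ and with image F₂ in H₂. Then L is a torsor under
Hom_R(F₂, 𝔫(H₁/F₁)), acting as follows: an R-linear u : H₂ → H₁ with u(H₂) ⊆ 𝔫H₁ moves F ∈ L to the
image of F under x ↦ x + f(u(g(x))). Precisely, for F ∈ L: (1) that image again lies in L; (2) it
equals F if and only if u(F₂) ⊆ 𝔫F₁; (3) every F' ∈ L is obtained from F in this way for some such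
u. (The published statement phrases the torsor under the R̄-linear maps from F̄₂ to 𝔫 ⊗ (H̄₁/F̄₁), a
group identified with the maps u as above modulo those with u(F₂) ⊆ 𝔫F₁, and describes the action
through a lift F₂ → 𝔫 ⊗ H₁ composed with F → F/F₁ ≅ F₂; restricted to F this is x ↦ f(u(g(x))).) -/
theorem result
    (R : Type u) [CommRing R] [IsArtinianRing R] [IsLocalRing R]
    (H₁ : Type v) (H : Type v) (H₂ : Type v)
    [AddCommGroup H₁] [Module R H₁] [AddCommGroup H] [Module R H] [AddCommGroup H₂] [Module R H₂]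
    [Module.Free R H₁] [Module.Finite R H₁] [Module.Free R H] [Module.Finite R H]
    [Module.Free R H₂] [Module.Finite R H₂]
    (f : H₁ →ₗ[R] H) (g : H →ₗ[R] H₂) (hf : Function.Injective f) (hg : Function.Surjective g)
    (hfg : Function.Exact f g)
    (F₁ : Submodule R H₁) (F₂ : Submodule R H₂) [Module.Free R (H₁ ⧸ F₁)] [Module.Free R (H₂ ⧸ F₂)]
    (𝔫 : Ideal R) (hn : 𝔫 * 𝔫 = ⊥)
    (Fb : Submodule (R ⧸ 𝔫) ((R ⧸ 𝔫) ⊗[R] H))
    [Module.Free (R ⧸ 𝔫) (((R ⧸ 𝔫) ⊗[R] H) ⧸ Fb)]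
    (h1 : Fb ⊓ LinearMap.range (f.baseChange (R ⧸ 𝔫)) =
      Submodule.map (f.baseChange (R ⧸ 𝔫)) (F₁.baseChange (R ⧸ 𝔫)))
    (h2 : Submodule.map (g.baseChange (R ⧸ 𝔫)) Fb = F₂.baseChange (R ⧸ 𝔫))
    (F F' : Submodule R H)
    (hF : (∃ C : Submodule R H, IsCompl (F) C) ∧
      (F) ⊓ LinearMap.range f = Submodule.map f F₁ ∧
      Submodule.baseChange (R ⧸ 𝔫) (F) = Fb ∧ Submodule.map g (F) = F₂)
    (hF' : (∃ C : Submodule R H, IsCompl (F') C) ∧
      (F') ⊓ LinearMap.range f = Submodule.map f F₁ ∧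
      Submodule.baseChange (R ⧸ 𝔫) (F') = Fb ∧ Submodule.map g (F') = F₂) :
    (∀ u : H₂ →ₗ[R] H₁, (∀ y : H₂, u y ∈ 𝔫 • (⊤ : Submodule R H₁)) →
      (∃ C : Submodule R H, IsCompl (Submodule.map (LinearMap.id + f ∘ₗ u ∘ₗ g) F) C) ∧
      (Submodule.map (LinearMap.id + f ∘ₗ u ∘ₗ g) F) ⊓ LinearMap.range f = Submodule.map f F₁ ∧
      Submodule.baseChange (R ⧸ 𝔫) (Submodule.map (LinearMap.id + f ∘ₗ u ∘ₗ g) F) = Fb ∧ Submodule.map g (Submodule.map (LinearMap.id + f ∘ₗ u ∘ₗ g) F) = F₂) ∧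
    (∀ u : H₂ →ₗ[R] H₁, (∀ y : H₂, u y ∈ 𝔫 • (⊤ : Submodule R H₁)) →
      (Submodule.map (LinearMap.id + f ∘ₗ u ∘ₗ g) F = F ↔ ∀ y ∈ F₂, u y ∈ 𝔫 • F₁)) ∧
    (∃ u : H₂ →ₗ[R] H₁, (∀ y : H₂, u y ∈ 𝔫 • (⊤ : Submodule R H₁)) ∧
      F' = Submodule.map (LinearMap.id + f ∘ₗ u ∘ₗ g) F) := by
  classical
  obtain ⟨⟨C, hC⟩, hF1, hF2, hF3⟩ := hF
  obtain ⟨⟨C', hC'⟩, hF'1, hF'2, hF'3⟩ := hF'
  have hgf : ∀ a, g (f a) = 0 := fun a => hfg.apply_apply_eq_zero a
  have hθ : ∀ (u : H₂ →ₗ[R] H₁) (y : H),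
      ((LinearMap.id : H →ₗ[R] H) + f ∘ₗ u ∘ₗ g) y = y + f (u (g y)) := fun u y => rfl
  have hgθ : ∀ (u : H₂ →ₗ[R] H₁) (y : H), g (((LinearMap.id : H →ₗ[R] H) + f ∘ₗ u ∘ₗ g) y) = g y := by
    intro u y
    rw [hθ, map_add, hgf, add_zero]
  have hθinv : ∀ (u : H₂ →ₗ[R] H₁) (y : H),
      ((LinearMap.id : H →ₗ[R] H) + f ∘ₗ (-u) ∘ₗ g) (((LinearMap.id : H →ₗ[R] H) + f ∘ₗ u ∘ₗ g) y) = y := by
    intro u y
    rw [hθ (-u), hgθ, hθ u, LinearMap.neg_apply, map_neg, add_neg_cancel_right]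
  have hθinv' : ∀ (u : H₂ →ₗ[R] H₁) (y : H),
      ((LinearMap.id : H →ₗ[R] H) + f ∘ₗ u ∘ₗ g) (((LinearMap.id : H →ₗ[R] H) + f ∘ₗ (-u) ∘ₗ g) y) = y := by
    intro u y
    have := hθinv (-u) y
    rwa [neg_neg] at this
  have hθf : ∀ (u : H₂ →ₗ[R] H₁) (x : H₁), ((LinearMap.id : H →ₗ[R] H) + f ∘ₗ u ∘ₗ g) (f x) = f x := by
    intro u x
    rw [hθ, hgf, map_zero, map_zero, add_zero]
  have hfF : ∀ b ∈ F₁, f b ∈ F := by
    intro b hb
    have : f b ∈ F ⊓ LinearMap.range f := by rw [hF1]; exact Submodule.mem_map_of_mem hb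
    exact this.1
  have hfF' : ∀ b ∈ F₁, f b ∈ F' := by
    intro b hb
    have : f b ∈ F' ⊓ LinearMap.range f := by rw [hF'1]; exact Submodule.mem_map_of_mem hb
    exact this.1
  have hgF : ∀ a ∈ F, g a ∈ F₂ := fun a ha => by rw [← hF3]; exact Submodule.mem_map_of_mem ha
  have hgF' : ∀ a ∈ F', g a ∈ F₂ := fun a ha => by rw [← hF'3]; exact Submodule.mem_map_of_mem ha
  have hkerF : ∀ a ∈ F, g a = 0 → ∃ b ∈ F₁, f b = a := by
    intro a ha h0
    have : a ∈ F ⊓ LinearMap.range f := ⟨ha, (hfg a).1 h0⟩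
    rw [hF1] at this
    exact Submodule.mem_map.1 this
  have hkerF' : ∀ a ∈ F', g a = 0 → ∃ b ∈ F₁, f b = a := by
    intro a ha h0
    have : a ∈ F' ⊓ LinearMap.range f := ⟨ha, (hfg a).1 h0⟩
    rw [hF'1] at this
    exact Submodule.mem_map.1 this
  haveI : Module.Projective R (H₁ ⧸ F₁) := inferInstance
  obtain ⟨σ₁, hσ₁⟩ := Module.projective_lifting_property F₁.mkQ LinearMap.id
    (Submodule.mkQ_surjective F₁)
  have hσ₁' : ∀ y, F₁.mkQ (σ₁ y) = y := fun y => LinearMap.congr_fun hσ₁ y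
  have hρ₁mem : ∀ z : H₁, z - σ₁ (F₁.mkQ z) ∈ F₁ := by
    intro z
    apply (Submodule.Quotient.mk_eq_zero F₁).1
    show F₁.mkQ (z - σ₁ (F₁.mkQ z)) = 0
    rw [map_sub, hσ₁', sub_self]
  have hσ₁F : ∀ b ∈ F₁, σ₁ (F₁.mkQ b) = 0 := by
    intro b hb
    have : F₁.mkQ b = 0 := (Submodule.Quotient.mk_eq_zero F₁).2 hb
    rw [this, map_zero]
  have hκsmul : ∀ z ∈ 𝔫 • (⊤ : Submodule R H₁), σ₁ (F₁.mkQ z) ∈ 𝔫 • (⊤ : Submodule R H₁) :=
    fun z hz => map_mem_smul_top 𝔫 (σ₁ ∘ₗ F₁.mkQ) hz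
  have hρ₁smul : ∀ z ∈ 𝔫 • (⊤ : Submodule R H₁), z - σ₁ (F₁.mkQ z) ∈ 𝔫 • F₁ := by
    intro z hz
    refine Submodule.smul_induction_on hz ?_ ?_
    · intro r hr n _
      have : r • n - σ₁ (F₁.mkQ (r • n)) = r • (n - σ₁ (F₁.mkQ n)) := by
        rw [map_smul, map_smul, smul_sub]
      rw [this]
      exact Submodule.smul_mem_smul hr (hρ₁mem n)
    · intro x y hx hy
      have : x + y - σ₁ (F₁.mkQ (x + y)) = (x - σ₁ (F₁.mkQ x)) + (y - σ₁ (F₁.mkQ y)) := by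
        rw [map_add, map_add]; abel
      rw [this]; exact add_mem hx hy
  refine ⟨?_, ?_, ?_⟩
  · intro u hu
    have hinj : Function.Injective ((LinearMap.id : H →ₗ[R] H) + f ∘ₗ u ∘ₗ g) :=
      Function.LeftInverse.injective (hθinv u)
    have hsurj : Function.Surjective ((LinearMap.id : H →ₗ[R] H) + f ∘ₗ u ∘ₗ g) :=
      Function.RightInverse.surjective (hθinv' u)
    have htmul : ∀ a : H, (1 : R ⧸ 𝔫) ⊗ₜ[R] (((LinearMap.id : H →ₗ[R] H) + f ∘ₗ u ∘ₗ g) a) =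
        (1 : R ⧸ 𝔫) ⊗ₜ[R] a := by
      intro a
      rw [hθ, TensorProduct.tmul_add]
      have : (1 : R ⧸ 𝔫) ⊗ₜ[R] f (u (g a)) = 0 :=
        (Groth.Agent.Helper1.LiftSummand.one_tmul_eq_zero_iff 𝔫 _).2
          (map_mem_smul_top 𝔫 f (hu _))
      rw [this, add_zero]
    refine ⟨⟨Submodule.map ((LinearMap.id : H →ₗ[R] H) + f ∘ₗ u ∘ₗ g) C, ?_⟩, ?_, ?_, ?_⟩
    · exact IsCompl.of_eq
        (by rw [← Submodule.map_inf _ hinj, hC.inf_eq_bot, Submodule.map_bot])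
        (by rw [← Submodule.map_sup, hC.sup_eq_top, Submodule.map_top,
          LinearMap.range_eq_top.2 hsurj])
    · ext y
      constructor
      · rintro ⟨⟨a, ha, rfl⟩, ⟨x, hx⟩⟩
        have hga : g a = 0 := by
          have := hgθ u a
          rw [← hx, hgf] at this
          exact this.symm
        obtain ⟨b, hb, rfl⟩ := hkerF a ha hga
        rw [hθf]
        exact Submodule.mem_map_of_mem hb
      · rintro ⟨b, hb, rfl⟩
        exact ⟨⟨f b, hfF b hb, hθf u b⟩, ⟨b, rfl⟩⟩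
    · rw [← hF2]
      apply le_antisymm
      · intro x hx
        obtain ⟨m, ⟨a, ha, rfl⟩, rfl⟩ :=
          (Groth.Agent.Helper1.LiftSummand.mem_baseChange_iff 𝔫 _ x).1 hx
        rw [htmul]
        exact Submodule.tmul_mem_baseChange_of_mem 1 ha
      · intro x hx
        obtain ⟨a, ha, rfl⟩ := (Groth.Agent.Helper1.LiftSummand.mem_baseChange_iff 𝔫 _ x).1 hx
        rw [← htmul]
        exact Submodule.tmul_mem_baseChange_of_mem 1 (Submodule.mem_map_of_mem ha)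
    · rw [← hF3]
      ext y
      constructor
      · rintro ⟨_, ⟨a, ha, rfl⟩, rfl⟩
        rw [hgθ]; exact Submodule.mem_map_of_mem ha
      · rintro ⟨a, ha, rfl⟩
        exact ⟨_, Submodule.mem_map_of_mem ha, hgθ u a⟩
  · intro u hu
    constructor
    · intro h y₂ hy₂
      rw [← hF3] at hy₂
      obtain ⟨a, ha, rfl⟩ := hy₂
      have hθa : ((LinearMap.id : H →ₗ[R] H) + f ∘ₗ u ∘ₗ g) a ∈ F := by
        rw [← h]; exact Submodule.mem_map_of_mem ha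
      have hfu : f (u (g a)) ∈ F := by
        have : f (u (g a)) = ((LinearMap.id : H →ₗ[R] H) + f ∘ₗ u ∘ₗ g) a - a := by rw [hθ]; abel
        rw [this]; exact sub_mem hθa ha
      obtain ⟨b, hb, hbe⟩ := hkerF _ hfu (hgf _)
      have hub : u (g a) = b := (hf hbe).symm
      have h1 := hρ₁smul _ (hu (g a))
      rw [hub, hσ₁F b hb, sub_zero] at h1
      rw [hub]; exact h1
    · intro h
      have hmemF : ∀ (v : H₂ →ₗ[R] H₁), (∀ y ∈ F₂, v y ∈ 𝔫 • F₁) → ∀ a ∈ F,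
          ((LinearMap.id : H →ₗ[R] H) + f ∘ₗ v ∘ₗ g) a ∈ F := by
        intro v hv a ha
        rw [hθ]
        exact add_mem ha (hfF _ (Submodule.smul_le_right (hv _ (hgF a ha))))
      apply le_antisymm
      · rintro _ ⟨a, ha, rfl⟩
        exact hmemF u h a ha
      · intro a ha
        refine ⟨((LinearMap.id : H →ₗ[R] H) + f ∘ₗ (-u) ∘ₗ g) a, hmemF (-u) ?_ a ha, hθinv' u a⟩
        intro y hy
        rw [LinearMap.neg_apply]
        exact neg_mem (h y hy)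
  · haveI : Module.Projective R (H₂ ⧸ F₂) := inferInstance
    obtain ⟨σ₂, hσ₂⟩ := Module.projective_lifting_property F₂.mkQ LinearMap.id
      (Submodule.mkQ_surjective F₂)
    have hσ₂' : ∀ y, F₂.mkQ (σ₂ y) = y := fun y => LinearMap.congr_fun hσ₂ y
    let ρ₂ : H₂ →ₗ[R] H₂ := LinearMap.id - σ₂ ∘ₗ F₂.mkQ
    have hρ₂ : ∀ z, ρ₂ z = z - σ₂ (F₂.mkQ z) := fun z => rfl
    have hρ₂mem : ∀ z, ρ₂ z ∈ F₂ := by
      intro z
      apply (Submodule.Quotient.mk_eq_zero F₂).1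
      show F₂.mkQ (z - σ₂ (F₂.mkQ z)) = 0
      rw [map_sub, hσ₂', sub_self]
    have hρ₂F : ∀ b ∈ F₂, ρ₂ b = b := by
      intro b hb
      have : F₂.mkQ b = 0 := (Submodule.Quotient.mk_eq_zero F₂).2 hb
      rw [hρ₂, this, map_zero, sub_zero]
    let gF : ↥F →ₗ[R] ↥F₂ := LinearMap.codRestrict F₂ (g.domRestrict F) (fun a => hgF a.1 a.2)
    have hgFsurj : Function.Surjective gF := by
      rintro ⟨b, hb⟩
      have hb' : b ∈ Submodule.map g F := by rw [hF3]; exact hb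
      obtain ⟨a, ha, hab⟩ := hb'
      exact ⟨⟨a, ha⟩, Subtype.ext hab⟩
    let gF' : ↥F' →ₗ[R] ↥F₂ :=
      LinearMap.codRestrict F₂ (g.domRestrict F') (fun a => hgF' a.1 a.2)
    have hgF'surj : Function.Surjective gF' := by
      rintro ⟨b, hb⟩
      have hb' : b ∈ Submodule.map g F' := by rw [hF'3]; exact hb
      obtain ⟨a, ha, hab⟩ := hb'
      exact ⟨⟨a, ha⟩, Subtype.ext hab⟩
    let ρ₂' : H₂ →ₗ[R] ↥F₂ := LinearMap.codRestrict F₂ ρ₂ hρ₂mem
    obtain ⟨s₀, hs₀⟩ := Module.projective_lifting_property gF ρ₂' hgFsurj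
    obtain ⟨s₀', hs₀'⟩ := Module.projective_lifting_property gF' ρ₂' hgF'surj
    have hs : ∀ y, g (s₀ y : H) = ρ₂ y :=
      fun y => congrArg Subtype.val (LinearMap.congr_fun hs₀ y)
    have hs' : ∀ y, g (s₀' y : H) = ρ₂ y :=
      fun y => congrArg Subtype.val (LinearMap.congr_fun hs₀' y)
    let d : H₂ →ₗ[R] H := F'.subtype ∘ₗ s₀' - F.subtype ∘ₗ s₀
    have hd : ∀ y, d y = (s₀' y : H) - (s₀ y : H) := fun y => rfl
    have hdker : ∀ y, d y ∈ LinearMap.range f := by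
      intro y
      apply (hfg _).1
      rw [hd, map_sub, hs, hs', sub_self]
    let dR : H₂ →ₗ[R] ↥(LinearMap.range f) := LinearMap.codRestrict _ d hdker
    obtain ⟨w, hw⟩ := Module.projective_lifting_property f.rangeRestrict dR
      f.surjective_rangeRestrict
    have hfw : ∀ y, f (w y) = d y := fun y => congrArg Subtype.val (LinearMap.congr_fun hw y)
    obtain ⟨t, ht⟩ := Module.projective_lifting_property g LinearMap.id hg
    have ht' : ∀ y, g (t y) = y := fun y => LinearMap.congr_fun ht y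
    have hker2 : ∀ y, ((LinearMap.id : H →ₗ[R] H) - t ∘ₗ g) y ∈ LinearMap.range f := fun y =>
      (hfg _).1 (by
        show g (y - t (g y)) = 0
        rw [map_sub, ht', sub_self])
    obtain ⟨r, hr⟩ := Module.projective_lifting_property f.rangeRestrict
      (LinearMap.codRestrict _ ((LinearMap.id : H →ₗ[R] H) - t ∘ₗ g) hker2) f.surjective_rangeRestrict
    have hfr : ∀ y, f (r y) = y - t (g y) :=
      fun y => congrArg Subtype.val (LinearMap.congr_fun hr y)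
    have hrf : ∀ x, r (f x) = x := fun x => hf (by rw [hfr, hgf, map_zero, sub_zero])
    have hfbar : Function.Injective (f.baseChange (R ⧸ 𝔫)) := by
      apply Function.LeftInverse.injective (g := r.baseChange (R ⧸ 𝔫))
      intro z
      rw [← LinearMap.comp_apply, ← LinearMap.baseChange_comp]
      have : r ∘ₗ f = LinearMap.id := LinearMap.ext hrf
      rw [this, LinearMap.baseChange_id, LinearMap.id_apply]
    have hK : ∀ y, ∃ m ∈ F₁, w y - m ∈ 𝔫 • (⊤ : Submodule R H₁) := by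
      intro y
      have h1s : (1 : R ⧸ 𝔫) ⊗ₜ[R] (s₀ y : H) ∈ Fb := by
        rw [← hF2]; exact Submodule.tmul_mem_baseChange_of_mem 1 (s₀ y).2
      have h1s' : (1 : R ⧸ 𝔫) ⊗ₜ[R] (s₀' y : H) ∈ Fb := by
        rw [← hF'2]; exact Submodule.tmul_mem_baseChange_of_mem 1 (s₀' y).2
      have h1d : (1 : R ⧸ 𝔫) ⊗ₜ[R] d y ∈ Fb := by
        rw [hd, TensorProduct.tmul_sub]; exact sub_mem h1s' h1s
      have h1f : (f.baseChange (R ⧸ 𝔫)) ((1 : R ⧸ 𝔫) ⊗ₜ[R] w y) = (1 : R ⧸ 𝔫) ⊗ₜ[R] d y := by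
        rw [LinearMap.baseChange_tmul, hfw]
      have hmem : (1 : R ⧸ 𝔫) ⊗ₜ[R] d y ∈ Fb ⊓ LinearMap.range (f.baseChange (R ⧸ 𝔫)) :=
        ⟨h1d, ⟨_, h1f⟩⟩
      rw [h1] at hmem
      obtain ⟨z, hz, hze⟩ := hmem
      have hz' : z = (1 : R ⧸ 𝔫) ⊗ₜ[R] w y := hfbar (by rw [hze, h1f])
      rw [hz'] at hz
      obtain ⟨m, hm, hme⟩ := (Groth.Agent.Helper1.LiftSummand.mem_baseChange_iff 𝔫 _ _).1 hz
      refine ⟨m, hm, ?_⟩
      rw [← Groth.Agent.Helper1.LiftSummand.one_tmul_eq_zero_iff 𝔫, TensorProduct.tmul_sub, hme,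
        sub_self]
    let u : H₂ →ₗ[R] H₁ := σ₁ ∘ₗ F₁.mkQ ∘ₗ w ∘ₗ ρ₂
    have hu_app : ∀ y, u y = σ₁ (F₁.mkQ (w (ρ₂ y))) := fun y => rfl
    have hu : ∀ y, u y ∈ 𝔫 • (⊤ : Submodule R H₁) := by
      intro y
      obtain ⟨m, hm, hmn⟩ := hK (ρ₂ y)
      have : u y = σ₁ (F₁.mkQ (w (ρ₂ y) - m)) := by
        rw [hu_app, map_sub, map_sub, hσ₁F m hm, sub_zero]
      rw [this]
      exact hκsmul _ hmn
    have huF : ∀ y ∈ F₂, ∃ b ∈ F₁, w y = u y + b := by
      intro y hy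
      refine ⟨w y - σ₁ (F₁.mkQ (w y)), hρ₁mem _, ?_⟩
      rw [hu_app, hρ₂F y hy]; abel
    refine ⟨u, hu, ?_⟩
    apply le_antisymm
    · intro a' ha'
      have hy₂ : g a' ∈ F₂ := hgF' a' ha'
      obtain ⟨b, hb, hwb⟩ := huF _ hy₂
      have h0 : g (a' - (s₀' (g a') : H)) = 0 := by rw [map_sub, hs', hρ₂F _ hy₂, sub_self]
      obtain ⟨c, hc, hce⟩ := hkerF' _ (sub_mem ha' (s₀' (g a')).2) h0
      refine ⟨(s₀ (g a') : H) + f c + f b,
        add_mem (add_mem (s₀ (g a')).2 (hfF c hc)) (hfF b hb), ?_⟩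
      rw [hθ]
      have hga : g ((s₀ (g a') : H) + f c + f b) = g a' := by
        rw [map_add, map_add, hgf, hgf, add_zero, add_zero, hs, hρ₂F _ hy₂]
      rw [hga]
      have hfu : f (u (g a')) = d (g a') - f b := by
        rw [← hfw, hwb, map_add]; abel
      rw [hfu, hd, hce]
      abel
    · rintro _ ⟨a, ha, rfl⟩
      have hy₂ : g a ∈ F₂ := hgF a ha
      obtain ⟨b, hb, hwb⟩ := huF _ hy₂
      have h0 : g (a - (s₀ (g a) : H)) = 0 := by rw [map_sub, hs, hρ₂F _ hy₂, sub_self]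
      obtain ⟨c, hc, hce⟩ := hkerF _ (sub_mem ha (s₀ (g a)).2) h0
      rw [hθ]
      have hfu : f (u (g a)) = d (g a) - f b := by
        rw [← hfw, hwb, map_add]; abel
      have : a + f (u (g a)) = f c + (s₀' (g a) : H) - f b := by
        rw [hfu, hd, hce]; abel
      rw [this]
      exact sub_mem (add_mem (hfF' c hc) (s₀' (g a)).2) (hfF' b hb)

end Groth.Agent.S16420
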