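import Groth.Statements.S16422
import Mathlib

set_option autoImplicit false
universe u
open GrMod

namespace Groth.Agent.S16422

section GradedProj

variable {S : Type*} [CommRing S] (𝒜 : ℤ → AddSubgroup S) [GradedRing 𝒜]
  {M : Type*} [AddCommGroup M] [Module S M] (ℳ : ℤ → AddSubgroup M)
  [DirectSum.Decomposition ℳ]

/-- Homogeneous component as an additive map. -/
noncomputable def gproj (n : ℤ) : M →+ M where
  toFun y := ((DirectSum.decompose ℳ y) n : M)
  map_zero' := by simp
  map_add' x y := by simp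

theorem gproj_apply (n : ℤ) (y : M) : gproj ℳ n y = ((DirectSum.decompose ℳ y) n : M) := rfl

theorem gproj_mem (n : ℤ) (y : M) : gproj ℳ n y ∈ ℳ n := ((DirectSum.decompose ℳ y) n).2

theorem gproj_of_mem_same {n : ℤ} {y : M} (hy : y ∈ ℳ n) : gproj ℳ n y = y :=
  DirectSum.decompose_of_mem_same ℳ hy

theorem gproj_of_mem_ne {p n : ℤ} {y : M} (hy : y ∈ ℳ p) (h : p ≠ n) : gproj ℳ n y = 0 :=
  DirectSum.decompose_of_mem_ne ℳ hy h

theorem gproj_smul [SetLike.GradedSMul 𝒜 ℳ] (a : S) {q : ℤ} {z : M} (hz : z ∈ ℳ q) (n : ℤ) :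
    gproj ℳ n (a • z) = (gproj 𝒜 (n - q) a) • z := by
  refine DirectSum.Decomposition.inductionOn 𝒜
    (motive := fun a => gproj ℳ n (a • z) = (gproj 𝒜 (n - q) a) • z) ?_ ?_ ?_ a
  · simp
  · intro p a
    have hmem : (a : S) • z ∈ ℳ (p + q) := SetLike.GradedSMul.smul_mem a.2 hz
    by_cases h : p + q = n
    · have hp : n - q = p := by omega
      rw [gproj_of_mem_same ℳ (h ▸ hmem), hp, gproj_of_mem_same 𝒜 a.2]
    · have hp : p ≠ n - q := by omega
      rw [gproj_of_mem_ne ℳ hmem h, gproj_of_mem_ne 𝒜 a.2 hp, zero_smul]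
  · intro a b ha hb
    rw [add_smul, map_add, map_add, add_smul, ha, hb]

end GradedProj


/-- Let S be a commutative ring graded by ℤ with pieces 𝒜 n, and V a decreasing sequence of homogeneous
ideals for which S is graded-complete, i.e. for each degree n the map from 𝒜 n to the inverse limit
of the quotients 𝒜 n / (𝒜 n ∩ V m) is bijective (stated as: a degree-n element in every V m
vanishes, and every sequence in 𝒜 n whose consecutive differences lie in the V m has a limit in 𝒜
n). Then every graded S-module M which is finitely generated and projective as an S-module is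
graded-complete in the same sense for the submodules V m · M: for each n the map from ℳ n to the
inverse limit of ℳ n / (ℳ n ∩ V m · M) is bijective. -/
theorem result
    (S : Type u) [CommRing S] (𝒜 : ℤ → AddSubgroup S) [GradedRing 𝒜]
    (V : ℕ → HomogeneousIdeal 𝒜) (hV : ∀ m, (V (m + 1)).toIdeal ≤ (V m).toIdeal)
    (hsep : ∀ (n : ℤ) (s : S), s ∈ 𝒜 n → (∀ m, s ∈ (V m).toIdeal) → s = 0)
    (hcpl : ∀ (n : ℤ) (f : ℕ → S), (∀ m, f m ∈ 𝒜 n) →
      (∀ m, f (m + 1) - f m ∈ (V m).toIdeal) → ∃ s ∈ 𝒜 n, ∀ m, s - f m ∈ (V m).toIdeal)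
    (M : Type u) [AddCommGroup M] [Module S M] (ℳ : ℤ → AddSubgroup M)
    [DirectSum.Decomposition ℳ] [SetLike.GradedSMul 𝒜 ℳ]
    [Module.Finite S M] [Module.Projective S M] :
    (∀ (n : ℤ) (x : M), x ∈ ℳ n → (∀ m, x ∈ (V m).toIdeal • (⊤ : Submodule S M)) → x = 0) ∧
    (∀ (n : ℤ) (g : ℕ → M), (∀ m, g m ∈ ℳ n) →
      (∀ m, g (m + 1) - g m ∈ (V m).toIdeal • (⊤ : Submodule S M)) →
      ∃ x ∈ ℳ n, ∀ m, x - g m ∈ (V m).toIdeal • (⊤ : Submodule S M)) := by
  classical
  obtain ⟨r, f, g, -, -, hfg⟩ := Module.Finite.exists_comp_eq_id_of_projective S M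
  set x : Fin r → M := fun i => f (fun j => if i = j then 1 else 0) with hx
  set D : Finset ℤ := Finset.univ.biUnion fun i => (DirectSum.decompose ℳ (x i)).support with hD
  have h0 : ∀ y : M, y = ∑ i, (g y i) • x i := fun y => by
    have h1 : f (g y) = y := by
      have := congrArg (fun φ : M →ₗ[S] M => φ y) hfg
      simpa using this
    conv_lhs => rw [← h1, LinearMap.pi_apply_eq_sum_univ f (g y)]
  have h1 : ∀ i, ∑ p ∈ D, gproj ℳ p (x i) = x i := fun i => by
    conv_rhs => rw [← DirectSum.sum_support_decompose ℳ (x i)]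
    simp only [gproj_apply]
    symm
    apply Finset.sum_subset
    · exact Finset.subset_biUnion_of_mem
        (fun i => (DirectSum.decompose ℳ (x i)).support) (Finset.mem_univ i)
    · intro p _ hp
      rw [DFinsupp.notMem_support_iff] at hp
      rw [hp]; rfl
  have star : ∀ (n : ℤ) (y : M), y ∈ ℳ n →
      y = ∑ i, ∑ p ∈ D, (gproj 𝒜 (n - p) (g y i)) • gproj ℳ p (x i) := by
    intro n y hy
    have e1 : y = ∑ i, ∑ p ∈ D, (g y i) • gproj ℳ p (x i) := by
      conv_lhs => rw [h0 y]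
      refine Finset.sum_congr rfl fun i _ => ?_
      rw [← Finset.smul_sum, h1]
    calc y = gproj ℳ n y := (gproj_of_mem_same ℳ hy).symm
      _ = gproj ℳ n (∑ i, ∑ p ∈ D, (g y i) • gproj ℳ p (x i)) := by rw [← e1]
      _ = ∑ i, ∑ p ∈ D, gproj ℳ n ((g y i) • gproj ℳ p (x i)) := by simp only [map_sum]
      _ = _ := by
        refine Finset.sum_congr rfl fun i _ => Finset.sum_congr rfl fun p _ => ?_
        exact gproj_smul 𝒜 ℳ _ (gproj_mem ℳ p (x i)) n
  have hφ : ∀ (i : Fin r) (I : Ideal S) (y : M), y ∈ I • (⊤ : Submodule S M) → g y i ∈ I := by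
    intro i I y hy
    refine Submodule.smul_induction_on hy (fun a ha z _ => ?_) (fun u v hu hv => ?_)
    · rw [map_smul, Pi.smul_apply, smul_eq_mul]
      exact I.mul_mem_right _ ha
    · rw [map_add, Pi.add_apply]
      exact I.add_mem hu hv
  refine ⟨?_, ?_⟩
  · intro n y hy hVy
    rw [star n y hy]
    refine Finset.sum_eq_zero fun i _ => Finset.sum_eq_zero fun p _ => ?_
    have h2 : gproj 𝒜 (n - p) (g y i) = 0 := by
      apply hsep (n - p) _ (gproj_mem 𝒜 _ _)
      intro m
      exact (V m).isHomogeneous (n - p) (hφ i (V m).toIdeal y (hVy m))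
    rw [h2, zero_smul]
  · intro n gg hg hdiff
    have hF : ∀ (i : Fin r) (p : ℤ), ∃ a ∈ 𝒜 (n - p),
        ∀ m, a - gproj 𝒜 (n - p) (g (gg m) i) ∈ (V m).toIdeal := by
      intro i p
      apply hcpl (n - p) (fun m => gproj 𝒜 (n - p) (g (gg m) i)) (fun m => gproj_mem 𝒜 _ _)
      intro m
      have e : gproj 𝒜 (n - p) (g (gg (m + 1)) i) - gproj 𝒜 (n - p) (g (gg m) i) =
          gproj 𝒜 (n - p) (g (gg (m + 1) - gg m) i) := by
        simp [map_sub]
      show gproj 𝒜 (n - p) (g (gg (m + 1)) i) - gproj 𝒜 (n - p) (g (gg m) i) ∈ _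
      rw [e]
      exact (V m).isHomogeneous (n - p) (hφ i (V m).toIdeal _ (hdiff m))
    choose a ha1 ha2 using hF
    refine ⟨∑ i, ∑ p ∈ D, a i p • gproj ℳ p (x i), ?_, ?_⟩
    · refine AddSubgroup.sum_mem _ fun i _ => AddSubgroup.sum_mem _ fun p _ => ?_
      have := SetLike.GradedSMul.smul_mem (ha1 i p) (gproj_mem ℳ p (x i))
      rwa [vadd_eq_add, sub_add_cancel] at this
    · intro m
      have e := star n (gg m) (hg m)
      have e2 : ∑ i, ∑ p ∈ D, a i p • gproj ℳ p (x i) - gg m =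
          ∑ i, ∑ p ∈ D, (a i p - gproj 𝒜 (n - p) (g (gg m) i)) • gproj ℳ p (x i) := by
        conv_lhs => rw [e]
        rw [← Finset.sum_sub_distrib]
        refine Finset.sum_congr rfl fun i _ => ?_
        rw [← Finset.sum_sub_distrib]
        refine Finset.sum_congr rfl fun p _ => ?_
        rw [sub_smul]
      rw [e2]
      refine Submodule.sum_mem _ fun i _ => Submodule.sum_mem _ fun p _ => ?_
      exact Submodule.smul_mem_smul (ha2 i p m) trivial

end Groth.Agent.S16422
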