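import Groth.Statements.S16430
import Mathlib

set_option linter.style.haveILetI false

set_option autoImplicit false
universe u
open Hensel

namespace Groth.Agent.S16430

section Aux

open Polynomial

/-- A monic polynomial whose derivative is a unit in `A[X]/(f)` gives an étale algebra. -/
theorem etale_adjoinRoot {A : Type u} [CommRing A] (f : A[X]) (hf : f.Monic)
    (hu : IsUnit (AdjoinRoot.mk f (derivative f))) :
    Algebra.Etale A (AdjoinRoot f) := by
  obtain ⟨c', hc'⟩ := isUnit_iff_exists_inv.mp hu
  obtain ⟨c, rfl⟩ := AdjoinRoot.mk_surjective c'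
  have h0 : AdjoinRoot.mk f (derivative f * c - 1) = 0 := by
    rw [map_sub, map_mul, map_one, hc', sub_self]
  rw [AdjoinRoot.mk_eq_zero] at h0
  obtain ⟨d, hd⟩ := h0
  let Pair : StandardEtalePair A :=
    { f := f
      monic_f := hf
      g := 1
      cond := ⟨c, -d, 0, by rw [pow_zero]; linear_combination hd⟩ }
  haveI h1 : Algebra.Etale A (Localization.Away (AdjoinRoot.mk Pair.f Pair.g)) :=
    Algebra.Etale.of_equiv Pair.equivAwayAdjoinRoot
  have H : Submonoid.powers (AdjoinRoot.mk Pair.f Pair.g) ≤
      IsUnit.submonoid (AdjoinRoot Pair.f) := by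
    rw [Submonoid.powers_le]
    show IsUnit (AdjoinRoot.mk Pair.f 1)
    rw [map_one]
    exact isUnit_one
  let e : AdjoinRoot Pair.f ≃ₐ[A] Localization.Away (AdjoinRoot.mk Pair.f Pair.g) :=
    (IsLocalization.atUnits (AdjoinRoot Pair.f) (Submonoid.powers (AdjoinRoot.mk Pair.f Pair.g))
      H).restrictScalars A
  exact Algebra.Etale.of_equiv e.symm

end Aux

/-- For a Noetherian local ring A with residue field k and a finite separable field extension l of k,
there is a local ring E, finite and etale over A with local structure map, whose residue field is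
k-isomorphic to l. -/
theorem result (A : Type u)
    [CommRing A] [IsLocalRing A] [IsNoetherianRing A] (l : Type u) [Field l]
    [Algebra (IsLocalRing.ResidueField A) l] [FiniteDimensional (IsLocalRing.ResidueField A) l]
    [Algebra.IsSeparable (IsLocalRing.ResidueField A) l] :
    ∃ (E : Type u) (_ : CommRing E) (_ : IsLocalRing E) (_ : Algebra A E)
      (_ : IsLocalHom (algebraMap A E)),
      Module.Finite A E ∧ Algebra.Etale A E ∧
        Nonempty (IsLocalRing.ResidueField E ≃ₐ[IsLocalRing.ResidueField A] l) := by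
  classical
  obtain ⟨α, hα⟩ := Field.exists_primitive_element (IsLocalRing.ResidueField A) l
  have hint : IsIntegral (IsLocalRing.ResidueField A) α := Algebra.IsIntegral.isIntegral α
  have hfbar_monic : (minpoly (IsLocalRing.ResidueField A) α).Monic := minpoly.monic hint
  have hfbar_irr : Irreducible (minpoly (IsLocalRing.ResidueField A) α) := minpoly.irreducible hint
  have hfbar_sep : (minpoly (IsLocalRing.ResidueField A) α).Separable :=
    Algebra.IsSeparable.isSeparable _ α
  obtain ⟨f, hfmap, hfdeg, hfmonic⟩ := Polynomial.lifts_and_natDegree_eq_and_monic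
    (f := IsLocalRing.residue A)
    ((Polynomial.mem_lifts _).mpr
      (Polynomial.map_surjective _ IsLocalRing.residue_surjective _)) hfbar_monic
  let i : A →+* l := (algebraMap (IsLocalRing.ResidueField A) l).comp (IsLocalRing.residue A)
  have hroot : f.eval₂ i α = 0 := by
    rw [← Polynomial.eval₂_map, hfmap]
    exact minpoly.aeval _ α
  let ψ : AdjoinRoot f →+* l := AdjoinRoot.lift i α hroot
  have hψsurj : Function.Surjective ψ := by
    have htop : Algebra.adjoin (IsLocalRing.ResidueField A) {α} = ⊤ := by
      have h1 := IntermediateField.adjoin_simple_toSubalgebra_of_isAlgebraic hint.isAlgebraic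
      rw [hα, IntermediateField.top_toSubalgebra] at h1
      exact h1.symm
    intro y
    have hy : y ∈ Algebra.adjoin (IsLocalRing.ResidueField A) {α} := htop ▸ Algebra.mem_top
    rw [Algebra.adjoin_singleton_eq_range_aeval] at hy
    obtain ⟨q, rfl⟩ := hy
    obtain ⟨Q, rfl⟩ := Polynomial.map_surjective _ IsLocalRing.residue_surjective q
    refine ⟨AdjoinRoot.mk f Q, ?_⟩
    rw [AdjoinRoot.lift_mk, ← Polynomial.eval₂_map]
    rfl
  have hmax : ((IsLocalRing.maximalIdeal A).map (AdjoinRoot.of f)).IsMaximal := by
    have e := AdjoinRoot.quotEquivQuotMap f (IsLocalRing.maximalIdeal A)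
    have hmaxspan : (Ideal.span {minpoly (IsLocalRing.ResidueField A) α}).IsMaximal := by
      haveI : Fact (Irreducible (minpoly (IsLocalRing.ResidueField A) α)) := ⟨hfbar_irr⟩
      exact AdjoinRoot.span_maximal_of_irreducible
    have h1 : (Ideal.span {f.map (IsLocalRing.residue A)} :
        Ideal (Polynomial (IsLocalRing.ResidueField A))).IsMaximal := by
      rw [hfmap]
      exact hmaxspan
    have hfield : IsField (Polynomial (A ⧸ IsLocalRing.maximalIdeal A) ⧸
        Ideal.span {f.map (Ideal.Quotient.mk (IsLocalRing.maximalIdeal A))}) :=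
      (Ideal.Quotient.maximal_ideal_iff_isField_quotient _).mp h1
    exact Ideal.Quotient.maximal_of_isField _ (MulEquiv.isField hfield e.toMulEquiv)
  haveI : Module.Finite A (AdjoinRoot f) := hfmonic.finite_adjoinRoot
  haveI : Algebra.IsIntegral A (AdjoinRoot f) := Algebra.IsIntegral.of_finite A _
  have huniq : ∀ n : Ideal (AdjoinRoot f), n.IsMaximal →
      n = (IsLocalRing.maximalIdeal A).map (AdjoinRoot.of f) := by
    intro n hn
    have h1 : (n.comap (algebraMap A (AdjoinRoot f))).IsMaximal :=
      Ideal.isMaximal_comap_of_isIntegral_of_isMaximal n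
    have h2 := IsLocalRing.eq_maximalIdeal h1
    have h3 : (IsLocalRing.maximalIdeal A).map (AdjoinRoot.of f) ≤ n := by
      rw [Ideal.map_le_iff_le_comap, ← h2]
      exact le_rfl
    exact (hmax.eq_of_le hn.ne_top h3).symm
  haveI hlocE : IsLocalRing (AdjoinRoot f) :=
    IsLocalRing.of_unique_max_ideal ⟨_, hmax, huniq⟩
  have hmE : IsLocalRing.maximalIdeal (AdjoinRoot f) =
      (IsLocalRing.maximalIdeal A).map (AdjoinRoot.of f) :=
    huniq _ (IsLocalRing.maximalIdeal.isMaximal _)
  have hker : RingHom.ker ψ = IsLocalRing.maximalIdeal (AdjoinRoot f) :=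
    IsLocalRing.eq_maximalIdeal (RingHom.ker_isMaximal_of_surjective ψ hψsurj)
  haveI hloc : IsLocalHom (algebraMap A (AdjoinRoot f)) := by
    refine ⟨fun a ha => ?_⟩
    by_contra hna
    have h1 : a ∈ IsLocalRing.maximalIdeal A := (IsLocalRing.mem_maximalIdeal a).mpr hna
    have h2 : algebraMap A (AdjoinRoot f) a ∈ IsLocalRing.maximalIdeal (AdjoinRoot f) := by
      rw [hmE]
      exact Ideal.mem_map_of_mem _ h1
    exact (IsLocalRing.mem_maximalIdeal _).mp h2 ha
  have hunit : IsUnit (AdjoinRoot.mk f (Polynomial.derivative f)) := by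
    by_contra hnu
    have h1 : AdjoinRoot.mk f (Polynomial.derivative f) ∈ RingHom.ker ψ := by
      rw [hker]
      exact (IsLocalRing.mem_maximalIdeal _).mpr hnu
    rw [RingHom.mem_ker, AdjoinRoot.lift_mk, ← Polynomial.eval₂_map, ← Polynomial.derivative_map,
      hfmap] at h1
    exact hfbar_sep.aeval_derivative_ne_zero (minpoly.aeval _ α) h1
  have hψm : ∀ a ∈ IsLocalRing.maximalIdeal (AdjoinRoot f), ψ a = 0 := fun a ha => by
    rw [← RingHom.mem_ker, hker]
    exact ha
  let φ₀ : IsLocalRing.ResidueField (AdjoinRoot f) →+* l := Ideal.Quotient.lift _ ψ hψm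
  let φ : IsLocalRing.ResidueField (AdjoinRoot f) →ₐ[IsLocalRing.ResidueField A] l :=
    { φ₀ with
      commutes' := by
        intro c
        obtain ⟨a, rfl⟩ := IsLocalRing.residue_surjective c
        show ψ (AdjoinRoot.of f a) = i a
        exact AdjoinRoot.lift_of hroot }
  have hφsurj : Function.Surjective φ := by
    intro y
    obtain ⟨x, rfl⟩ := hψsurj y
    exact ⟨IsLocalRing.residue _ x, rfl⟩
  exact ⟨AdjoinRoot f, inferInstance, hlocE, inferInstance, hloc, inferInstance,
    etale_adjoinRoot f hfmonic hunit,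
    ⟨AlgEquiv.ofBijective φ ⟨φ.toRingHom.injective, hφsurj⟩⟩⟩

end Groth.Agent.S16430
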