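import Groth.Statements.S16452
import Mathlib
import Groth.Agent.Lib.Helper8.GrBij

set_option autoImplicit false
universe u
open CAlg

namespace Groth.Agent.S16452

/-- Let R → S be formally étale and J an ideal of S such that the composite R → S → S/J is surjective;
let I ⊆ R be its kernel, the preimage of J in R. Then the homomorphism of associated graded rings ⊕ₙ
Iⁿ/Iⁿ⁺¹ → ⊕ₙ Jⁿ/Jⁿ⁺¹ induced by R → S (which carries I into J) is bijective. -/
theorem result (R : Type u) [CommRing R] (S : Type u)
    [CommRing S] [Algebra R S] [Algebra.FormallyEtale R S] (J : Ideal S)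
    (hJ : Function.Surjective (algebraMap R (S ⧸ J))) :
    Function.Bijective (AssocGr.map (AssocGr.IsFiltHom.adic
      (Ideal.map_comap_le : (J.comap (algebraMap R S)).map (algebraMap R S) ≤ J))) := by
  apply Groth.Agent.Helper8.GrBij.map_bijective_of
  · intro n a ha h1
    exact (Groth.Agent.Helper8.GrBij.formallyEtale_key R S J hJ (n + 1)).1 a h1
  · intro n y hy
    obtain ⟨r, hr⟩ := (Groth.Agent.Helper8.GrBij.formallyEtale_key R S J hJ (n + 1)).2 y
    refine ⟨r, ?_, hr⟩
    apply (Groth.Agent.Helper8.GrBij.formallyEtale_key R S J hJ n).1 r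
    have h2 : algebraMap R S r = y - (y - algebraMap R S r) := by ring
    rw [h2]
    exact (J ^ n).sub_mem hy (Ideal.pow_le_pow_right (Nat.le_succ n) hr)

end Groth.Agent.S16452
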