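import Groth.Statements.S16453
import Mathlib

set_option autoImplicit false
universe u
open AdicGr

namespace Groth.Agent.S16453

/-- Let A be a commutative ring, I an ideal and Â the I-adic completion, filtered by the kernels Âₙ of
the projections Â → A/Iⁿ. Then the homomorphism of associated graded rings ⊕ₙ Iⁿ/Iⁿ⁺¹ → ⊕ₙ Âₙ/Âₙ₊₁
induced by the canonical map A → Â is bijective. No hypothesis on A or I is needed. (The published
statement is for an arbitrary filtered ring and also asserts the analogous isomorphism for a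
compatibly filtered module; this row is the ring assertion for the filtration by the powers of one
ideal.) -/
theorem result (A : Type u) [CommRing A] (I : Ideal A) :
    Function.Bijective (AssocGr.map (AssocGr.isFiltHom_kerFilt I)) := by
  classical
  have K0 : ∀ (n : ℕ) (a : A),
      (algebraMap A (AdicCompletion I A) a).val n = Submodule.Quotient.mk a := by
    intro n a
    rfl
  have K1 : ∀ (n : ℕ) (a : A),
      algebraMap A (AdicCompletion I A) a ∈ (AssocGr.kerFilt I).F n ↔ a ∈ I ^ n := by
    intro n a
    rw [AssocGr.mem_kerFilt_iff_val, K0, Submodule.Quotient.mk_eq_zero]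
    change a ∈ (I ^ n • ⊤ : Ideal A) ↔ _
    rw [AssocGr.pow_smul_top]
  constructor
  · rw [injective_iff_map_eq_zero]
    intro x hx
    obtain ⟨f, rfl⟩ := AssocGr.mkG_surjective _ x
    rw [AssocGr.map_mkG, AssocGr.mkG_eq_zero_iff] at hx
    rw [AssocGr.mkG_eq_zero_iff]
    intro n
    have h1 := hx n
    rw [AssocGr.coe_reesMap, Polynomial.coeff_map] at h1
    exact (K1 (n + 1) _).1 h1
  · intro y
    obtain ⟨g, rfl⟩ := AssocGr.mkG_surjective _ y
    rw [← RingHom.mem_range, ← AssocGr.sum_term (AssocGr.kerFilt I) g, map_sum]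
    refine Subring.sum_mem _ fun n _ => ?_
    rw [AssocGr.mkG_term]
    set x : AdicCompletion I A := (g : Polynomial (AdicCompletion I A)).coeff n with hxdef
    have hxmem : x ∈ (AssocGr.kerFilt I).F n := g.2 n
    have hx : x.val n = 0 := (AssocGr.mem_kerFilt_iff_val I n x).1 hxmem
    obtain ⟨a, ha⟩ := Submodule.Quotient.mk_surjective _ (x.val (n + 1))
    have han : a ∈ I ^ n := by
      have h1 := AdicCompletion.transitionMap_comp_eval_apply I A (Nat.le_succ n) x
      rw [← ha, hx] at h1
      change Ideal.Quotient.mk (I ^ n • ⊤ : Ideal A) a = 0 at h1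
      rwa [Ideal.Quotient.eq_zero_iff_mem, AssocGr.pow_smul_top] at h1
    have hιa : algebraMap A (AdicCompletion I A) a ∈ (AssocGr.kerFilt I).F n := (K1 n a).2 han
    have hdiff : x - algebraMap A (AdicCompletion I A) a ∈ (AssocGr.kerFilt I).F (n + 1) := by
      rw [AssocGr.mem_kerFilt_iff_val, AdicCompletion.val_sub_apply, K0, ha, sub_self]
    have heq : AssocGr.inDeg (AssocGr.kerFilt I) n ⟨x, hxmem⟩ =
        AssocGr.inDeg (AssocGr.kerFilt I) n ⟨algebraMap A (AdicCompletion I A) a, hιa⟩ := by
      rw [← sub_eq_zero, ← map_sub, AssocGr.inDeg_eq_zero_iff]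
      exact hdiff
    have hmap := AssocGr.map_inDeg (AssocGr.isFiltHom_kerFilt I) n ⟨a, han⟩
    rw [RingHom.mem_range]
    refine ⟨_, hmap.trans ?_⟩
    rw [heq]

end Groth.Agent.S16453
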