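import Groth.Statements.S16455
import Mathlib
set_option linter.style.haveILetI false

set_option autoImplicit false
universe u
open EGA4

namespace Groth.Agent.S16455

section Aux
open DirectSum

variable {A : Type u} [CommRing A] (I : Ideal A) (M : Type u) [AddCommGroup M] [Module A M]

/-- the n-th piece -/
abbrev Qp (n : ℕ) : Type u :=
  ↥(I ^ n • (⊤ : Submodule A M)) ⧸ (I • (⊤ : Submodule A ↥(I ^ n • (⊤ : Submodule A M))))

instance Qp.tower (n : ℕ) : IsScalarTower A (A ⧸ I) (Qp I M n) :=
  Module.IsTorsionBySet.isScalarTower (Module.isTorsionBySet_quotient_ideal_smul _ I)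

/-- the map from N n to GrMod -/
noncomputable def phi0 (n : ℕ) :
    ↥((Rees.powFilt I M).N n) →ₗ[A] AssocGr.GrMod (Rees.powFilt I M) where
  toFun := fun x => ((AssocGr.inDegM (Rees.powFilt I M) n x :
          AssocGr.grM (Rees.powFilt I M) n) : AssocGr.GrMod (Rees.powFilt I M))
  map_add' := fun x y => by rw [map_add]; rfl
  map_smul' := fun a x => by
    rw [RingHom.id_apply]; exact AssocGr.coe_inDegM_smul (Rees.powFilt I M) n a x

/-- the map from the n-th piece to GrMod -/
noncomputable def phiA (n : ℕ) : Qp I M n →ₗ[A] AssocGr.GrMod (Rees.powFilt I M) :=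
  Submodule.liftQ (I • (⊤ : Submodule A ↥(I ^ n • (⊤ : Submodule A M)))) (phi0 I M n)
    (by
      intro x hx
      rw [LinearMap.mem_ker]
      refine Submodule.smul_induction_on hx ?_ ?_
      · intro a ha z _
        rw [map_smul]
        exact AssocGr.isTorsionBySet_base (Rees.powFilt I M) (a := ⟨a, ha⟩)
      · intro y z hy hz
        rw [map_add, hy, hz, add_zero])

noncomputable def phi (n : ℕ) : Qp I M n →ₗ[A ⧸ I] AssocGr.GrMod (Rees.powFilt I M) :=
  (phiA I M n).extendScalarsOfSurjective Ideal.Quotient.mk_surjective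

theorem phi_mk (n : ℕ) (x : ↥(I ^ n • (⊤ : Submodule A M))) :
    phi I M n (Submodule.Quotient.mk x) =
      AssocGr.mkGM (Rees.powFilt I M) (AssocGr.monomM (Rees.powFilt I M) n x) := rfl

noncomputable def Phi : (⨁ n, Qp I M n) →ₗ[A ⧸ I] AssocGr.GrMod (Rees.powFilt I M) :=
  DirectSum.toModule (A ⧸ I) ℕ _ (phi I M)

theorem Phi_surjective : Function.Surjective (Phi I M) := by
  intro g
  obtain ⟨y, rfl⟩ := AssocGr.mkGM_surjective (Rees.powFilt I M) g
  obtain ⟨s, hs⟩ : ∃ s : Finset ℕ, ∑ n ∈ s, AssocGr.termM (Rees.powFilt I M) y n = y :=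
    ⟨_, AssocGr.sum_termM (Rees.powFilt I M) y⟩
  refine ⟨∑ n ∈ s, DirectSum.lof (A ⧸ I) ℕ (Qp I M) n
    (Submodule.Quotient.mk ⟨AssocGr.ReesM.coeff _ y n, AssocGr.ReesM.coeff_mem _ y n⟩), ?_⟩
  rw [map_sum]
  have : AssocGr.mkGM (Rees.powFilt I M) y =
      ∑ n ∈ s, AssocGr.mkGM _ (AssocGr.termM (Rees.powFilt I M) y n) := by
    rw [← map_sum, hs]
  rw [this]
  refine Finset.sum_congr rfl fun n _ => ?_
  rw [Phi, DirectSum.toModule_lof, phi_mk]
  rfl

theorem Phi_injective : Function.Injective (Phi I M) := by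
  classical
  rw [injective_iff_map_eq_zero]
  intro q hq
  choose x hx using fun n => Submodule.Quotient.mk_surjective _ (q n)
  have hsum : Phi I M q = AssocGr.mkGM (Rees.powFilt I M)
      (∑ n ∈ q.support, AssocGr.monomM (Rees.powFilt I M) n (x n)) := by
    conv_lhs => rw [← DirectSum.sum_support_of q]
    rw [map_sum, map_sum]
    refine Finset.sum_congr rfl fun n _ => ?_
    rw [← DirectSum.lof_eq_of (A ⧸ I), Phi, DirectSum.toModule_lof, ← hx n, phi_mk]
  rw [hsum, AssocGr.mkGM_eq_zero_iff, AssocGr.mem_succMod_iff] at hq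
  refine DFinsupp.ext fun m => ?_
  by_cases hm : m ∈ q.support
  · have h1 := hq m
    rw [← AssocGr.ReesM.coeffHom_apply, map_sum] at h1
    simp only [AssocGr.ReesM.coeffHom_apply, AssocGr.ReesM.coeff_monomM, Finset.sum_ite_eq',
      if_pos hm] at h1
    have h2 : (Rees.powFilt I M).N (m + 1) = I • (I ^ m • (⊤ : Submodule A M)) := by
      show I ^ (m + 1) • (⊤ : Submodule A M) = _
      rw [pow_succ', mul_smul]
    rw [h2] at h1
    rw [DFinsupp.zero_apply, ← hx m, Submodule.Quotient.mk_eq_zero, Submodule.mem_smul_top_iff]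
    exact h1
  · rw [DFinsupp.notMem_support_iff] at hm
    rw [hm]
    rfl

noncomputable def PhiEquiv : (⨁ n, Qp I M n) ≃ₗ[A ⧸ I] AssocGr.GrMod (Rees.powFilt I M) :=
  LinearEquiv.ofBijective (Phi I M) ⟨Phi_injective I M, Phi_surjective I M⟩

end Aux

/-- For a commutative ring A, an ideal I of A and an A-module M, the following are equivalent: every
quotient IⁿM/Iⁿ⁺¹M (n ≥ 0) is a flat A/I-module; the associated graded module gr_I(M) = ⊕ₙ
IⁿM/Iⁿ⁺¹M, as one module over A/I, is flat. Either condition says that M is normally flat along I.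
(The source defines normal flatness for a coherent module on a locally Noetherian scheme through the
second condition and notes it amounts to the first; the equivalence holds for every ring and
module.) -/
theorem result (A : Type u) [CommRing A] (I : Ideal A) (M : Type u)
    [AddCommGroup M] [Module A M] :
    EGA4.IsNormallyFlat I M ↔ Module.Flat (A ⧸ I) (AssocGr.GrMod (Rees.powFilt I M)) := by
  rw [← Module.Flat.equiv_iff (PhiEquiv I M)]
  exact (Module.Flat.directSum_iff (R := A ⧸ I) (M := Qp I M)).symm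

end Groth.Agent.S16455
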