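import Groth.Statements.S16456
import Mathlib

set_option autoImplicit false
universe u
open AdicGr

namespace Groth.Agent.S16456

open AssocGr Polynomial in
theorem step {A B : Type u} [CommRing A] [CommRing B] (φ : A →+* B) (I : Ideal A) (J : Ideal B)
    (hIJ : I.map φ ≤ J)
    (h : Function.Surjective (AssocGr.map (AssocGr.IsFiltHom.adic hIJ)))
    (n : ℕ) (b : B) (hb : b ∈ J ^ n) : ∃ a ∈ I ^ n, b - φ a ∈ J ^ (n + 1) := by
  classical
  let b' : (FiltBl.IdealFiltration.adic J).F n := ⟨b, hb⟩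
  obtain ⟨g, hg⟩ := h (inDeg (FiltBl.IdealFiltration.adic J) n b' :
    GrRing (FiltBl.IdealFiltration.adic J))
  obtain ⟨f, rfl⟩ := mkG_surjective (FiltBl.IdealFiltration.adic I) g
  rw [map_mkG, coe_inDeg, ← sub_eq_zero, ← map_sub, mkG_eq_zero_iff, mem_succIdeal_iff] at hg
  have h1 := hg n
  rw [Subalgebra.coe_sub, Polynomial.coeff_sub, coe_reesMap, Polynomial.coeff_map,
    coe_coe_monom, Polynomial.coeff_monomial, if_pos rfl] at h1
  refine ⟨(f : A[X]).coeff n, f.2 n, ?_⟩
  have h2 : b - φ ((f : A[X]).coeff n) = -(φ ((f : A[X]).coeff n) - b) := by ring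
  rw [h2]
  exact (J ^ (n + 1)).neg_mem h1

/-- The approximating sequence. -/
noncomputable def seqAux {A B : Type u} [CommRing A] [CommRing B] (φ : A →+* B)
    (a : ℕ → B → A) (n₀ : ℕ) (b : B) : ℕ → B
  | 0 => b
  | j + 1 => seqAux φ a n₀ b j - φ (a (n₀ + j) (seqAux φ a n₀ b j))

theorem repr {A B : Type u} [CommRing A] [CommRing B] (φ : A →+* B) (I : Ideal A) (J : Ideal B)
    (hIJ : I.map φ ≤ J) [IsPrecomplete I A] [IsHausdorff J B]
    (h : Function.Surjective (AssocGr.map (AssocGr.IsFiltHom.adic hIJ)))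
    (n₀ : ℕ) (b : B) (hb : b ∈ J ^ n₀) : ∃ a ∈ I ^ n₀, φ a = b := by
  classical
  have hφ : ∀ (n : ℕ) (a : A), a ∈ I ^ n → φ a ∈ J ^ n := fun n a ha =>
    (AssocGr.IsFiltHom.adic hIJ).apply_mem (n := n) ha
  have stepAll : ∀ (n : ℕ) (z : B), ∃ a : A, a ∈ I ^ n ∧ (z ∈ J ^ n → z - φ a ∈ J ^ (n + 1)) := by
    intro n z
    by_cases hz : z ∈ J ^ n
    · obtain ⟨a, ha1, ha2⟩ := step φ I J hIJ h n z hz
      exact ⟨a, ha1, fun _ => ha2⟩
    · exact ⟨0, Ideal.zero_mem _, fun h1 => absurd h1 hz⟩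
  choose a ha1 ha2 using stepAll
  set bs : ℕ → B := seqAux φ a n₀ b with hbs
  set c : ℕ → A := fun j => a (n₀ + j) (bs j) with hcdef
  have bs0 : bs 0 = b := rfl
  have bsS : ∀ j, bs (j + 1) = bs j - φ (c j) := fun j => rfl
  have bsmem : ∀ j, bs j ∈ J ^ (n₀ + j) := by
    intro j
    induction j with
    | zero => exact hb
    | succ j ih =>
      rw [bsS]
      exact ha2 _ _ ih
  have hc : ∀ j, c j ∈ I ^ (n₀ + j) := fun j => ha1 _ _
  have hsum : ∀ j, b = bs j + φ (∑ l ∈ Finset.range j, c l) := by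
    intro j
    induction j with
    | zero => simp [bs0]
    | succ j ih =>
      refine ih.trans ?_
      rw [bsS, Finset.sum_range_succ, map_add]
      ring
  have hcauchy : ∃ L : A, ∀ m, (∑ l ∈ Finset.range m, c l) ≡ L
      [SMOD (I ^ m • ⊤ : Submodule A A)] := by
    apply IsPrecomplete.prec ‹IsPrecomplete I A›
    intro m n hmn
    rw [SModEq.sub_mem, smul_eq_mul, Ideal.mul_top]
    have hdiff : ∑ l ∈ Finset.range m, c l - ∑ l ∈ Finset.range n, c l =
        -∑ l ∈ Finset.Ico m n, c l := by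
      rw [Finset.sum_Ico_eq_sub _ hmn]; ring
    rw [hdiff]
    refine (I ^ m).neg_mem (Ideal.sum_mem _ fun l hl => ?_)
    rw [Finset.mem_Ico] at hl
    exact Ideal.pow_le_pow_right (by omega : m ≤ n₀ + l) (hc l)
  obtain ⟨L, hL⟩ := hcauchy
  have hLmem : L ∈ I ^ n₀ := by
    have h2 := hL n₀
    rw [SModEq.sub_mem, smul_eq_mul, Ideal.mul_top] at h2
    have h3 : ∑ l ∈ Finset.range n₀, c l ∈ I ^ n₀ :=
      Ideal.sum_mem _ fun l _ => Ideal.pow_le_pow_right (by omega) (hc l)
    have := (I ^ n₀).sub_mem h3 h2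
    rwa [sub_sub_cancel] at this
  refine ⟨L, hLmem, ?_⟩
  have hzero : b - φ L = 0 := by
    apply IsHausdorff.haus ‹IsHausdorff J B›
    intro m
    rw [SModEq.sub_mem, sub_zero, smul_eq_mul, Ideal.mul_top]
    have h1 := hsum m
    have hrw : b - φ L = bs m + φ ((∑ l ∈ Finset.range m, c l) - L) := by
      conv_lhs => rw [h1]
      rw [map_sub]; ring
    rw [hrw]
    refine (J ^ m).add_mem (Ideal.pow_le_pow_right (by omega) (bsmem m)) (hφ m _ ?_)
    have h2 := hL m
    rwa [SModEq.sub_mem, smul_eq_mul, Ideal.mul_top] at h2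
  rw [sub_eq_zero] at hzero
  exact hzero.symm

/-- Let φ : A → B be a ring homomorphism, I ⊆ A and J ⊆ B ideals with φ(I)B ⊆ J, so that φ is a
homomorphism of filtered rings for the I-adic and J-adic filtrations. Assume that A is I-adically
complete in the sense that every I-adically Cauchy sequence has a limit, that B is J-adically
separated, and that the induced homomorphism of associated graded rings ⊕ₙ Iⁿ/Iⁿ⁺¹ → ⊕ₙ Jⁿ/Jⁿ⁺¹ is
surjective. Then φ is surjective, φ is strict (Jⁿ = φ(Iⁿ)B for all n, that is J = φ(I)B), and B is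
J-adically separated and complete. (The published statement is for a homomorphism of filtered
modules over a filtered ring, with arbitrary compatible filtrations; this row is its case of a ring
homomorphism with adic filtrations.) -/
theorem result (A : Type u) [CommRing A] (B : Type u)
    [CommRing B] (φ : A →+* B) (I : Ideal A) (J : Ideal B) (hIJ : I.map φ ≤ J)
    [IsPrecomplete I A] [IsHausdorff J B]
    (h : Function.Surjective (AssocGr.map (AssocGr.IsFiltHom.adic hIJ))) :
    Function.Surjective φ ∧ I.map φ = J ∧ IsAdicComplete J B := by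
  classical
  have hφ : ∀ (n : ℕ) (a : A), a ∈ I ^ n → φ a ∈ J ^ n := fun n a ha =>
    (AssocGr.IsFiltHom.adic hIJ).apply_mem (n := n) ha
  refine ⟨fun b => ?_, le_antisymm hIJ fun b hb => ?_, ?_⟩
  · obtain ⟨a, _, ha⟩ := repr φ I J hIJ h 0 b (by rw [pow_zero, Ideal.one_eq_top]; trivial)
    exact ⟨a, ha⟩
  · obtain ⟨a, ha1, ha⟩ := repr φ I J hIJ h 1 b (by rwa [pow_one])
    rw [pow_one] at ha1
    rw [← ha]
    exact Ideal.mem_map_of_mem φ ha1
  · refine { toIsHausdorff := ‹IsHausdorff J B›, toIsPrecomplete := ⟨fun f hf => ?_⟩ }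
    have hdiff : ∀ n, f (n + 1) - f n ∈ J ^ n := by
      intro n
      have h1 := hf (Nat.le_succ n)
      rw [SModEq.sub_mem, smul_eq_mul, Ideal.mul_top] at h1
      have h2 : f (n + 1) - f n = -(f n - f (n + 1)) := by ring
      rw [h2]
      exact (J ^ n).neg_mem h1
    choose a ha1 ha2 using fun n => repr φ I J hIJ h n (f (n + 1) - f n) (hdiff n)
    have htel : ∀ m, f m = f 0 + φ (∑ l ∈ Finset.range m, a l) := by
      intro m
      induction m with
      | zero => simp
      | succ m ih =>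
        rw [Finset.sum_range_succ, map_add, ha2 m, ← add_assoc, ← ih]
        ring
    have hcauchy : ∃ L : A, ∀ m, (∑ l ∈ Finset.range m, a l) ≡ L
        [SMOD (I ^ m • ⊤ : Submodule A A)] := by
      apply IsPrecomplete.prec ‹IsPrecomplete I A›
      intro m n hmn
      rw [SModEq.sub_mem, smul_eq_mul, Ideal.mul_top]
      have hd : ∑ l ∈ Finset.range m, a l - ∑ l ∈ Finset.range n, a l =
          -∑ l ∈ Finset.Ico m n, a l := by
        rw [Finset.sum_Ico_eq_sub _ hmn]; ring
      rw [hd]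
      refine (I ^ m).neg_mem (Ideal.sum_mem _ fun l hl => ?_)
      rw [Finset.mem_Ico] at hl
      exact Ideal.pow_le_pow_right hl.1 (ha1 l)
    obtain ⟨L, hL⟩ := hcauchy
    refine ⟨f 0 + φ L, fun m => ?_⟩
    rw [SModEq.sub_mem, smul_eq_mul, Ideal.mul_top, htel m]
    have h2 := hL m
    rw [SModEq.sub_mem, smul_eq_mul, Ideal.mul_top] at h2
    have hrw : f 0 + φ (∑ l ∈ Finset.range m, a l) - (f 0 + φ L) =
        φ ((∑ l ∈ Finset.range m, a l) - L) := by
      rw [map_sub]; ring
    rw [hrw]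
    exact hφ m _ h2

end Groth.Agent.S16456
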