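import Mathlib
import Groth.Statements.S16460

set_option autoImplicit false
universe u
open AdicGr

namespace Groth.Agent.S16460

/-- Let A be a commutative ring with a decreasing filtration by ideals A = F₀ ⊇ F₁ ⊇ F₂ ⊇ … satisfying
F_m·F_n ⊆ F_{m+n}, and assume the filtration is separated, ⋂ₙ Fₙ = 0. If the associated graded ring
⊕ₙ Fₙ/Fₙ₊₁ is an integral domain, then A is an integral domain. -/
theorem result (A : Type u) [CommRing A]
    (𝓕 : FiltBl.IdealFiltration A) (hsep : ⨅ n, 𝓕.F n = ⊥) [IsDomain (AssocGr.GrRing 𝓕)] :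
    IsDomain A := by
  have hex : ∀ a : A, a ≠ 0 → ∃ m, a ∈ 𝓕.F m ∧ a ∉ 𝓕.F (m + 1) := by
    intro a ha
    by_contra hcon
    push_neg at hcon
    have hall : ∀ n, a ∈ 𝓕.F n := by
      intro n
      induction n with
      | zero => rw [𝓕.zero_eq]; trivial
      | succ n ih => exact hcon n ih
    have : a ∈ ⨅ n, 𝓕.F n := by
      rw [Submodule.mem_iInf]
      exact hall
    rw [hsep, Ideal.mem_bot] at this
    exact ha this
  have hnt : Nontrivial A := by
    by_contra hA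
    rw [not_nontrivial_iff_subsingleton] at hA
    have : (1 : AssocGr.GrRing 𝓕) = 0 := by
      rw [← map_one (algebraMap A (AssocGr.GrRing 𝓕)), Subsingleton.elim (1 : A) 0, map_zero]
    exact one_ne_zero this
  have hnzd : NoZeroDivisors A := by
    refine ⟨fun {a b} hab => ?_⟩
    by_contra hcon
    push_neg at hcon
    obtain ⟨m, ham, ham'⟩ := hex a hcon.1
    obtain ⟨n, hbn, hbn'⟩ := hex b hcon.2
    have h1 : (AssocGr.inDeg 𝓕 m ⟨a, ham⟩ : AssocGr.GrRing 𝓕) ≠ 0 := by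
      intro h
      have : AssocGr.inDeg 𝓕 m ⟨a, ham⟩ = 0 := Subtype.ext h
      exact ham' ((AssocGr.inDeg_eq_zero_iff 𝓕 m ⟨a, ham⟩).1 this)
    have h2 : (AssocGr.inDeg 𝓕 n ⟨b, hbn⟩ : AssocGr.GrRing 𝓕) ≠ 0 := by
      intro h
      have : AssocGr.inDeg 𝓕 n ⟨b, hbn⟩ = 0 := Subtype.ext h
      exact hbn' ((AssocGr.inDeg_eq_zero_iff 𝓕 n ⟨b, hbn⟩).1 this)
    have h3 := mul_ne_zero h1 h2
    rw [AssocGr.coe_inDeg_mul] at h3
    apply h3
    have h4 : (⟨a * b, 𝓕.mul_le m n (Ideal.mul_mem_mul ham hbn)⟩ : 𝓕.F (m + n)) = 0 :=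
      Subtype.ext hab
    rw [h4, map_zero]
    rfl
  exact NoZeroDivisors.to_isDomain A

end Groth.Agent.S16460
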