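import Groth.Statements.S16478
import Mathlib
-- import your own Groth.Agent.* helpers here

set_option autoImplicit false
universe u
open GaDual

namespace Groth.Agent.S16478


open Polynomial TensorProduct in
theorem aux (p : ℕ) [Fact p.Prime] (A : Type u) [CommRing A] [CharP A p]
    (n : ℕ) (φ : SekSuwa.A A 0 →ₐc[A] AlphaPn.A p n A) (hφ : φ SekSuwa.A.t = AlphaPn.x p n A)
    (u : AlphaPn.A p n A) (hu : IsGroupLikeElem A u) :
    ∃ g : SekSuwa.A A 0, IsGroupLikeElem A g ∧ φ g = u := by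
  haveI : Nontrivial A := CharP.nontrivial_of_char_ne_one (R := A) (Fact.out : p.Prime).ne_one
  have hmonic : (X ^ (p ^ n) : A[X]).Monic := monic_X_pow (p ^ n)
  obtain ⟨f₀, hf₀⟩ := AlphaPn.mk_surjective p n A u
  obtain ⟨f, hf⟩ : ∃ f : A[X], f = f₀ %ₘ X ^ (p ^ n) := ⟨_, rfl⟩
  have hfdeg : f.degree < (X ^ (p ^ n) : A[X]).degree := by
    rw [hf]; exact degree_modByMonic_lt _ hmonic
  have hfnat : f.natDegree < p ^ n := by
    have h1 := hfdeg
    rw [degree_X_pow] at h1
    by_cases h0 : f = 0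
    · rw [h0, natDegree_zero]; exact pow_pos (Fact.out : p.Prime).pos n
    · exact (natDegree_lt_iff_degree_lt h0).mpr h1
  have hmkf : AlphaPn.mk p n A f = u := by
    rw [← hf₀, hf]
    show AdjoinRoot.mk (X ^ (p ^ n)) (f₀ %ₘ X ^ (p ^ n)) = AdjoinRoot.mk (X ^ (p ^ n)) f₀
    rw [AdjoinRoot.mk_eq_mk, modByMonic_eq_sub_mul_div, sub_sub_cancel_left, dvd_neg]
    exact dvd_mul_right _ _
  obtain ⟨t, ht⟩ : ∃ t : SekSuwa.A A 0, t = SekSuwa.A.t := ⟨_, rfl⟩
  obtain ⟨x, hx⟩ : ∃ x : AlphaPn.A p n A, x = AlphaPn.x p n A := ⟨_, rfl⟩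
  have hxu : aeval x f = u := by rw [hx, AlphaPn.aeval_x]; exact hmkf
  have hcomx : Coalgebra.comul (R := A) x = x ⊗ₜ[A] 1 + 1 ⊗ₜ[A] x := by
    rw [hx]; exact AlphaPn.comul_x p n A
  have hcomt : Coalgebra.comul (R := A) t = t ⊗ₜ[A] 1 + 1 ⊗ₜ[A] t := by
    rw [ht, SekSuwa.A.comul_t, zero_smul, add_zero]
  have hcox : Coalgebra.counit (R := A) x = 0 := by rw [hx]; exact AlphaPn.counit_x p n A
  have hcot : Coalgebra.counit (R := A) t = 0 := by rw [ht]; exact SekSuwa.A.counit_t
  refine ⟨aeval t f, ⟨?_, ?_⟩, ?_⟩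
  · have h1 : Coalgebra.counit (R := A) (aeval t f) = aeval (0 : A) f := by
      have := aeval_algHom_apply (Bialgebra.counitAlgHom A (SekSuwa.A A 0)) t f
      rw [Bialgebra.counitAlgHom_apply, Bialgebra.counitAlgHom_apply, hcot] at this
      exact this.symm
    have h2 : Coalgebra.counit (R := A) (aeval x f) = aeval (0 : A) f := by
      have := aeval_algHom_apply (Bialgebra.counitAlgHom A (AlphaPn.A p n A)) x f
      rw [Bialgebra.counitAlgHom_apply, Bialgebra.counitAlgHom_apply, hcox] at this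
      exact this.symm
    rw [h1, ← h2, hxu]; exact hu.counit_eq_one
  · obtain ⟨z, hz⟩ : ∃ z : A[X] ⊗[A] A[X], z = X ⊗ₜ[A] 1 + 1 ⊗ₜ[A] X := ⟨_, rfl⟩
    obtain ⟨ΦQ, hΦQ⟩ : ∃ Φ : A[X] ⊗[A] A[X] →ₐ[A] AlphaPn.A p n A ⊗[A] AlphaPn.A p n A,
      Φ = Algebra.TensorProduct.map (AlphaPn.mk p n A) (AlphaPn.mk p n A) := ⟨_, rfl⟩
    obtain ⟨ΦS, hΦS⟩ : ∃ Φ : A[X] ⊗[A] A[X] →ₐ[A] SekSuwa.A A 0 ⊗[A] SekSuwa.A A 0,
      Φ = Algebra.TensorProduct.map (aeval t) (aeval t) := ⟨_, rfl⟩
    have hP : aeval z f = f ⊗ₜ[A] f := by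
      have e1 : ΦQ (aeval z f) = ΦQ (f ⊗ₜ[A] f) := by
        have hzQ : ΦQ z = x ⊗ₜ[A] 1 + 1 ⊗ₜ[A] x := by
          rw [hΦQ, hz, map_add, Algebra.TensorProduct.map_tmul, Algebra.TensorProduct.map_tmul,
            AlphaPn.mk_X, map_one, hx]
        have c1 : Coalgebra.comul (R := A) (aeval x f) = aeval (x ⊗ₜ[A] 1 + 1 ⊗ₜ[A] x) f := by
          have := aeval_algHom_apply (Bialgebra.comulAlgHom A (AlphaPn.A p n A)) x f
          rw [Bialgebra.comulAlgHom_apply, Bialgebra.comulAlgHom_apply, hcomx] at this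
          exact this.symm
        rw [← aeval_algHom_apply ΦQ z f, hzQ, ← c1, hxu, hu.comul_eq_tmul_self, hΦQ,
          Algebra.TensorProduct.map_tmul, hmkf]
      obtain ⟨s, hs⟩ : ∃ s : AlphaPn.A p n A →ₗ[A] A[X],
          ∀ a : A[X], s (AlphaPn.mk p n A a) = a %ₘ X ^ (p ^ n) :=
        ⟨AdjoinRoot.modByMonicHom hmonic, fun a => AdjoinRoot.modByMonicHom_mk hmonic a⟩
      obtain ⟨m, hm0⟩ : ∃ m : A[X] →ₗ[A] A[X], ∀ a, m a = a %ₘ X ^ (p ^ n) :=
        ⟨Polynomial.modByMonicHom (X ^ (p ^ n)), fun a => rfl⟩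
      have hL : ∀ w : A[X] ⊗[A] A[X],
          TensorProduct.map s s (ΦQ w) = TensorProduct.map m m w := by
        intro w
        induction w using TensorProduct.induction_on with
        | zero => simp
        | tmul a b =>
          rw [hΦQ, Algebra.TensorProduct.map_tmul, TensorProduct.map_tmul, TensorProduct.map_tmul,
            hs, hs, hm0, hm0]
        | add a b ha hb => rw [map_add, map_add, map_add, ha, hb]
      have hm : ∀ i, i < p ^ n → m (X ^ i) = X ^ i := by
        intro i hi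
        rw [hm0, modByMonic_eq_self_iff hmonic, degree_X_pow, degree_X_pow]
        exact_mod_cast hi
      have hmf : m f = f := by
        rw [hm0, modByMonic_eq_self_iff hmonic]; exact hfdeg
      have hz_exp : aeval z f = ∑ k ∈ Finset.range (p ^ n), f.coeff k •
          ∑ i ∈ Finset.range (k + 1),
            (k.choose i) • ((X ^ i : A[X]) ⊗ₜ[A] (X ^ (k - i) : A[X])) := by
        rw [aeval_eq_sum_range' hfnat z]
        refine Finset.sum_congr rfl (fun k _ => ?_)
        congr 1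
        rw [hz, add_pow]
        refine Finset.sum_congr rfl (fun i _ => ?_)
        rw [Algebra.TensorProduct.tmul_pow, Algebra.TensorProduct.tmul_pow, one_pow, one_pow,
          Algebra.TensorProduct.tmul_mul_tmul, mul_one, one_mul, nsmul_eq_mul']
      have hLz : TensorProduct.map m m (aeval z f) = aeval z f := by
        rw [hz_exp]
        simp only [map_sum, map_smul, map_nsmul, TensorProduct.map_tmul]
        refine Finset.sum_congr rfl (fun k hk => ?_)
        congr 1
        refine Finset.sum_congr rfl (fun i hi => ?_)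
        have hk' := Finset.mem_range.mp hk
        have hi' := Finset.mem_range.mp hi
        rw [hm i (by omega), hm (k - i) (by omega)]
      calc aeval z f = TensorProduct.map m m (aeval z f) := hLz.symm
        _ = TensorProduct.map s s (ΦQ (aeval z f)) := (hL _).symm
        _ = TensorProduct.map s s (ΦQ (f ⊗ₜ[A] f)) := by rw [e1]
        _ = TensorProduct.map m m (f ⊗ₜ[A] f) := hL _
        _ = f ⊗ₜ[A] f := by rw [TensorProduct.map_tmul, hmf]
    have h1 : Coalgebra.comul (R := A) (aeval t f) = aeval (t ⊗ₜ[A] 1 + 1 ⊗ₜ[A] t) f := by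
      have := aeval_algHom_apply (Bialgebra.comulAlgHom A (SekSuwa.A A 0)) t f
      rw [Bialgebra.comulAlgHom_apply, Bialgebra.comulAlgHom_apply, hcomt] at this
      exact this.symm
    have h2 : ΦS z = t ⊗ₜ[A] 1 + 1 ⊗ₜ[A] t := by
      rw [hΦS, hz, map_add, Algebra.TensorProduct.map_tmul, Algebra.TensorProduct.map_tmul,
        aeval_X, map_one]
    have h3 : ΦS (aeval z f) = aeval (ΦS z) f := (aeval_algHom_apply ΦS z f).symm
    have h4 : ΦS (f ⊗ₜ[A] f) = aeval t f ⊗ₜ[A] aeval t f := by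
      rw [hΦS, Algebra.TensorProduct.map_tmul]
    rw [h1, ← h2, ← h3, hP, h4]
  · have h := aeval_algHom_apply (φ : SekSuwa.A A 0 →ₐ[A] AlphaPn.A p n A) t f
    have h' : φ (aeval t f) = aeval (φ t) f := h.symm
    rw [h', ht, hφ, ← hx]; exact hxu

/-- Let A be a commutative ring of prime characteristic p and n ≥ 1, and let φ be the comorphism of the
closed immersion α_{p^n} → G_a over A: the bialgebra map from the Hopf algebra of the additive group
(generator t primitive) to A[x]/(x^(p^n)) (x primitive) sending t to x. Then the restriction map on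
characters, from those of the additive group over A to those of α_{p^n} over A, is surjective: every
group-like element of A[x]/(x^(p^n)) is the image under φ of a group-like element of the Hopf
algebra of the additive group. -/
theorem result (p : ℕ) [Fact p.Prime] (A : Type u) [CommRing A] [CharP A p]
    (n : ℕ) (hn : 1 ≤ n) (φ : SekSuwa.A A 0 →ₐc[A] AlphaPn.A p n A) (hφ : φ SekSuwa.A.t = AlphaPn.x p n A)
    (u : AlphaPn.A p n A) (hu : IsGroupLikeElem A u) :
    ∃ g : SekSuwa.A A 0, IsGroupLikeElem A g ∧ φ g = u := by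
  exact aux p A n φ hφ u hu

end Groth.Agent.S16478
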