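import Mathlib
import Groth.Statements.S16482
-- import your own Groth.Agent.* helpers here

set_option autoImplicit false
open CategoryTheory CategoryTheory.Limits AlgebraicGeometry
universe u
open FrobSch

namespace Groth.Agent.S16482


/-- Let p be a prime and S a reduced scheme on which p = 0 whose absolute Frobenius is flat; let Y be a
reduced S-scheme with structure map a, Z an S-scheme with structure map b, and g₁, g₂ : Y ⟶ Z two
S-morphisms. For i = 1, 2 let h_i : Y ⟶ Z^(p) be the relative Frobenius F_{Y/S} : Y ⟶ Y^(p) followed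
by the base change Y^(p) ⟶ Z^(p) of g_i along the absolute Frobenius of S. If h₁ = h₂, then g₁ = g₂.
(The published statement works over the reduced special fibre of a flat formal scheme of finite type
over the Witt vectors of a perfect field; only reducedness of S and flatness of its absolute
Frobenius are kept here.) -/
theorem result (p : ℕ) [Fact p.Prime]
    {Y Z S : Scheme.{u}} [FrobSch.IsCharP S p] [IsReduced S] [Flat (FrobSch.frob S p)]
    [IsReduced Y] (a : Y ⟶ S) (b : Z ⟶ S) (g₁ g₂ : Y ⟶ Z) (hg₁ : g₁ ≫ b = a) (hg₂ : g₂ ≫ b = a)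
    (h : FrobSch.relFrob a p ≫ pullback.map a (FrobSch.frob S p) b (FrobSch.frob S p) g₁ (𝟙 S) (𝟙 S)
        ((Category.comp_id a).trans hg₁.symm) ((Category.comp_id _).trans (Category.id_comp _).symm) =
      FrobSch.relFrob a p ≫ pullback.map a (FrobSch.frob S p) b (FrobSch.frob S p) g₂ (𝟙 S) (𝟙 S)
        ((Category.comp_id a).trans hg₂.symm) ((Category.comp_id _).trans (Category.id_comp _).symm)) :
    g₁ = g₂ := by
  haveI : FrobSch.IsCharP Y p := FrobSch.IsCharP.of_hom a p
  have hmap : ∀ (γ : Y ⟶ Z) (hγ : γ ≫ b = a), (FrobSch.relFrob a p ≫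
      pullback.map a (FrobSch.frob S p) b (FrobSch.frob S p) γ (𝟙 S) (𝟙 S)
        ((Category.comp_id a).trans hγ.symm)
        ((Category.comp_id _).trans (Category.id_comp _).symm)) ≫
      pullback.fst b (FrobSch.frob S p) = FrobSch.frob Y p ≫ γ := by
    intro γ hγ
    rw [Category.assoc, pullback.lift_fst, ← Category.assoc, FrobSch.relFrob_fst]
  have hF : FrobSch.frob Y p ≫ g₁ = FrobSch.frob Y p ≫ g₂ := by
    rw [← hmap g₁ hg₁, ← hmap g₂ hg₂, h]
  have hfac : equalizer.lift (FrobSch.frob Y p) hF ≫ equalizer.ι g₁ g₂ = FrobSch.frob Y p :=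
    equalizer.lift_ι _ _
  haveI : Surjective (equalizer.ι g₁ g₂) := by
    refine ⟨fun y => ⟨(equalizer.lift (FrobSch.frob Y p) hF) y, ?_⟩⟩
    rw [← Scheme.Hom.comp_apply, hfac]
    rfl
  haveI : IsClosedImmersion (equalizer.ι g₁ g₂) :=
    IsClosedImmersion.of_isPreimmersion _ (by
      rw [Set.range_eq_univ.mpr (equalizer.ι g₁ g₂).surjective]
      exact isClosed_univ)
  haveI : IsIso (equalizer.ι g₁ g₂) := isIso_of_isClosedImmersion_of_surjective _
  exact (cancel_epi (equalizer.ι g₁ g₂)).mp (equalizer.condition g₁ g₂)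

end Groth.Agent.S16482
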