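import Groth.Statements.S16484
import Groth.Agent.Lead.FinType3
-- import your own Groth.Agent.* helpers here

set_option autoImplicit false
universe u
open CategoryTheory AlgebraicGeometry
open RefHull

namespace Groth.Agent.S16484


section
open CategoryTheory CategoryTheory.Limits AlgebraicGeometry Opposite TopologicalSpace
open Groth.Agent.Lead.QCoh Groth.Agent.Lead.FinType

theorem main (X : Scheme.{u}) (F G : X.Modules)
    [SheafOfModules.IsFiniteType.{u, u, u} (R := X.ringCatSheaf) F] (x : X) :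
    Function.Injective (RefHull.evalStalk F G x) := by
  classical
  rw [injective_iff_map_eq_zero]
  intro θ hθ
  obtain ⟨U, hxU, g, rfl⟩ := TopCat.Presheaf.exists_germ_eq (RefHull.homSh F G).presheaf θ
  have h0 : (g : Γ(RefHull.homSh F G, U)).1 ⟨x, hxU⟩ = 0 := by
    have := RefHull.evalAdd_germ F G x hxU g
    rw [← this]; exact hθ
  obtain ⟨U', hxU', I, hI, s, hs⟩ := exists_span_germ_eq_top F x
  have hloc : ∀ i : I, ∃ W : X.Opens, x ∈ W ∧ ∃ hW : W ≤ U ⊓ U', ∀ (y : X) (hy : y ∈ W),
      g.1 ⟨y, (hW hy).1⟩ (F.presheaf.germ U' y (hW hy).2 (s i)) = 0 := by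
    intro i
    obtain ⟨W, hxW, j, n, hn⟩ := g.2 (U ⊓ U') (homOfLE inf_le_left)
      (F.presheaf.map (homOfLE (inf_le_right : U ⊓ U' ≤ U')).op (s i)) ⟨x, ⟨hxU, hxU'⟩⟩
    have hnx := hn ⟨x, hxW⟩
    have e1 : F.presheaf.germ (U ⊓ U') x ⟨hxU, hxU'⟩
        (F.presheaf.map (homOfLE (inf_le_right : U ⊓ U' ≤ U')).op (s i)) =
        F.presheaf.germ U' x hxU' (s i) :=
      TopCat.Presheaf.germ_res_apply F.presheaf _ x _ _
    have hgx : G.presheaf.germ W x hxW n = 0 := by
      rw [← hnx]
      show g.1 ⟨x, hxU⟩ _ = 0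
      rw [h0]; rfl
    have hgx' : G.presheaf.germ W x hxW n = G.presheaf.germ W x hxW 0 := by rw [hgx, map_zero]
    obtain ⟨W', hxW', iU, iV, e⟩ := TopCat.Presheaf.germ_eq G.presheaf x hxW hxW n 0 hgx'
    rw [map_zero] at e
    refine ⟨W', hxW', iU.le.trans j.le, fun y hy => ?_⟩
    have hny := hn ⟨y, iU.le hy⟩
    have e2 : F.presheaf.germ (U ⊓ U') y (j.le (iU.le hy))
        (F.presheaf.map (homOfLE (inf_le_right : U ⊓ U' ≤ U')).op (s i)) =
        F.presheaf.germ U' y (j.le (iU.le hy)).2 (s i) :=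
      TopCat.Presheaf.germ_res_apply F.presheaf _ y _ _
    have e3 : G.presheaf.germ W' y hy (G.presheaf.map iU.op n) = G.presheaf.germ W y (iU.le hy) n :=
      TopCat.Presheaf.germ_res_apply G.presheaf iU y hy n
    rw [← e2]
    refine Eq.trans hny ?_
    show G.presheaf.germ W y (iU.le hy) n = 0
    rw [← e3, e, map_zero]
  choose W hxW hWle hW using hloc
  let W0 : X.Opens := Finset.univ.inf W
  have hxW0 : x ∈ W0 := by
    refine Finset.inf_induction (p := fun O : X.Opens => x ∈ O) trivial
      (fun a ha b hb => ⟨ha, hb⟩) (fun i _ => hxW i)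
  have hW0le : ∀ i, W0 ≤ W i := fun i => Finset.inf_le (Finset.mem_univ i)
  have hI0 : Nonempty I ∨ IsEmpty I := (isEmpty_or_nonempty I).symm
  let W1 : X.Opens := W0 ⊓ (U ⊓ U')
  have hxW1 : x ∈ W1 := ⟨hxW0, hxU, hxU'⟩
  have hW1U : W1 ≤ U := inf_le_right.trans inf_le_left
  have hzero : ∀ (y : X) (hy : y ∈ W1), g.1 ⟨y, hW1U hy⟩ = 0 := by
    intro y hy
    apply LinearMap.ext_on (hs y hy.2.2)
    rintro _ ⟨i, rfl⟩
    rw [LinearMap.zero_apply]
    exact hW i y (hW0le i hy.1)
  have hres : (RefHull.homSh F G).presheaf.map (homOfLE hW1U).op g = 0 := by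
    apply Subtype.ext
    funext y
    exact hzero y.1 y.2
  have e := TopCat.Presheaf.germ_res_apply (RefHull.homSh F G).presheaf (homOfLE hW1U) x hxW1 g
  rw [← e, hres, map_zero]
end

/-- Consider a scheme X together with O_X-modules F and G, where F is assumed to be of finite type, and
fix a point x ∈ X. The natural O_{X,x}-linear map 𝓗om_{O_X}(F, G)_x → Hom_{O_{X,x}}(F_x, G_x),
taking the germ at x of a section of the sheaf Hom to the map on stalks at x that it induces, is
injective. (In the source the claim is made for modules over any ringed space; here it is formulated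
only for schemes, since that is where the sheaf Hom used in the statement is available.) -/
theorem result (X : Scheme.{u}) (F G : X.Modules) (hF : CohB1.IsFT F) (x : X) :
    Function.Injective (RefHull.evalStalk F G x) := by
  haveI := hF
  exact main X F G x

end Groth.Agent.S16484
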