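import Groth.Statements.S16485
import Groth.Agent.Lead.StalkLoc
import Groth.Agent.Lead.FPSec
-- import your own Groth.Agent.* helpers here

set_option autoImplicit false
universe u
open CategoryTheory AlgebraicGeometry
open RefHull

namespace Groth.Agent.S16485


section
open Opposite TopologicalSpace CategoryTheory CategoryTheory.Limits AlgebraicGeometry
open Groth.Agent.Lead.QCoh Groth.Agent.Lead.FPSec Groth.Agent.Lead.StalkLoc

/-- pure algebra: a module given by generators and relations maps out. -/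
theorem exists_factor {R : Type*} [CommRing R] {N P : Type*} [AddCommGroup N] [Module R N]
    [AddCommGroup P] [Module R P] {n m : ℕ} (σ : Fin n → N) (τ : Fin n → P)
    (a : Fin m → Fin n → R)
    (hgen : ∀ v : N, ∃ β : Fin n → R, v = ∑ i, β i • σ i)
    (hrel : ∀ β : Fin n → R, ∑ i, β i • σ i = 0 → ∃ γ : Fin m → R, ∀ i, β i = ∑ j, γ j * a j i)
    (hτ : ∀ j, ∑ i, a j i • τ i = 0) :
    ∃ f : N →ₗ[R] P, ∀ i, f (σ i) = τ i := by
  classical
  have hp : Function.Surjective (Fintype.linearCombination R σ) := fun v => by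
    obtain ⟨β, hβ⟩ := hgen v
    exact ⟨β, hβ.symm⟩
  have hker : LinearMap.ker (Fintype.linearCombination R σ) ≤
      LinearMap.ker (Fintype.linearCombination R τ) := by
    intro β hβ
    rw [LinearMap.mem_ker] at hβ ⊢
    obtain ⟨γ, hγ⟩ := hrel β hβ
    show ∑ i, β i • τ i = 0
    have h1 : ∀ i, β i • τ i = ∑ j, γ j • (a j i • τ i) := fun i => by
      rw [hγ i, Finset.sum_smul]
      exact Finset.sum_congr rfl (fun j _ => mul_smul _ _ _)
    rw [Finset.sum_congr rfl (fun i _ => h1 i), Finset.sum_comm]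
    refine Finset.sum_eq_zero (fun j _ => ?_)
    rw [← Finset.smul_sum, hτ j, smul_zero]
  refine ⟨((LinearMap.ker (Fintype.linearCombination R σ)).liftQ
    (Fintype.linearCombination R τ) hker).comp
    ((Fintype.linearCombination R σ).quotKerEquivOfSurjective hp).symm.toLinearMap, fun i => ?_⟩
  have e1 : σ i = Fintype.linearCombination R σ (Pi.single i 1) := by
    rw [Fintype.linearCombination_apply_single, one_smul]
  have e2 : τ i = Fintype.linearCombination R τ (Pi.single i 1) := by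
    rw [Fintype.linearCombination_apply_single, one_smul]
  rw [e2]
  conv_lhs => rw [e1]
  show ((LinearMap.ker (Fintype.linearCombination R σ)).liftQ (Fintype.linearCombination R τ) hker)
    (((Fintype.linearCombination R σ).quotKerEquivOfSurjective hp).symm
      (Fintype.linearCombination R σ (Pi.single i 1))) = _
  rw [LinearMap.quotKerEquivOfSurjective_symm_apply, Submodule.liftQ_apply]

variable {X : Scheme.{u}}

theorem exists_common_nbhd {ι : Type*} [Finite ι] (x : X) (W : ι → X.Opens)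
    (hW : ∀ i, x ∈ W i) (V : X.Opens) (hV : x ∈ V) :
    ∃ W0 : X.Opens, x ∈ W0 ∧ W0 ≤ V ∧ ∀ i, W0 ≤ W i :=
  ⟨(⟨⋂ i, (W i : Set X), isOpen_iInter_of_finite (fun i => (W i).2)⟩ : X.Opens) ⊓ V,
    ⟨Set.mem_iInter.mpr hW, hV⟩, inf_le_right,
    fun i => inf_le_left.trans (fun y hy => Set.mem_iInter.mp hy i)⟩

set_option backward.isDefEq.respectTransparency false in
theorem germ_zero_nbhd (G : X.Modules) {W : X.Opens} (x : X) (hx : x ∈ W) (n : Γ(G, W))
    (h : G.presheaf.germ W x hx n = 0) :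
    ∃ W' : X.Opens, x ∈ W' ∧ ∃ hle : W' ≤ W,
      ∀ y (hy : y ∈ W'), G.presheaf.germ W y (hle hy) n = 0 := by
  have h0 : G.presheaf.germ W x hx n = G.presheaf.germ W x hx 0 := by rw [h, map_zero]
  obtain ⟨W', hxW', i1, i2, e⟩ := TopCat.Presheaf.germ_eq G.presheaf x hx hx n 0 h0
  rw [map_zero] at e
  refine ⟨W', hxW', i1.le, fun y hy => ?_⟩
  rw [← TopCat.Presheaf.germ_res_apply G.presheaf i1 y hy n, e, map_zero]

set_option backward.isDefEq.respectTransparency false in
theorem local_data (F : X.Modules)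
    [SheafOfModules.IsFinitePresentation.{u, u, u} (R := X.ringCatSheaf) F]
    {U : X.Opens} (hU : IsAffineOpen U) :
    ∃ (n m : ℕ) (s : Fin n → Γ(F, U)) (r : Fin m → (Fin n → Γ(X, U))),
      Submodule.span Γ(X, U) (Set.range s) = ⊤ ∧
      (∀ j, ∑ i, r j i • s i = 0) ∧
      (∀ b : Fin n → Γ(X, U), ∑ i, b i • s i = 0 →
        ∃ d : Fin m → Γ(X, U), ∀ i, b i = ∑ j, d j * r j i) := by
  haveI := finitePresentation_sections F hU
  haveI : Module.Finite Γ(X, U) Γ(F, U) := inferInstance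
  obtain ⟨n, s, hs⟩ := Module.Finite.exists_fin (R := Γ(X, U)) (M := Γ(F, U))
  have hsurj : Function.Surjective (Fintype.linearCombination Γ(X, U) s) := by
    rw [← LinearMap.range_eq_top, Fintype.range_linearCombination, hs]
  have hfg := Module.FinitePresentation.fg_ker (Fintype.linearCombination Γ(X, U) s) hsurj
  obtain ⟨m, r, hr⟩ := Submodule.fg_iff_exists_fin_generating_family.mp hfg
  refine ⟨n, m, s, r, hs, fun j => ?_, fun b hb => ?_⟩
  · have h1 : r j ∈ LinearMap.ker (Fintype.linearCombination Γ(X, U) s) := by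
      rw [← hr]; exact Submodule.subset_span ⟨j, rfl⟩
    exact LinearMap.mem_ker.mp h1
  · have h1 : b ∈ LinearMap.ker (Fintype.linearCombination Γ(X, U) s) :=
      LinearMap.mem_ker.mpr hb
    rw [← hr] at h1
    obtain ⟨d, hd⟩ := (Submodule.mem_span_range_iff_exists_fun Γ(X, U)).mp h1
    refine ⟨d, fun i => ?_⟩
    rw [← hd, Finset.sum_apply]
    rfl

set_option backward.isDefEq.respectTransparency false in
theorem gen_stalk (F : X.Modules) [F.IsQuasicoherent] {U : X.Opens} (hU : IsAffineOpen U)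
    {n : ℕ} (s : Fin n → Γ(F, U)) (hs : Submodule.span Γ(X, U) (Set.range s) = ⊤)
    (y : X) (hy : y ∈ U) (v : F.presheaf.stalk y) :
    ∃ β : Fin n → X.presheaf.stalk y, v = ∑ i, β i • F.presheaf.germ U y hy (s i) := by
  obtain ⟨a, m, hya, ham⟩ := exists_smul_eq_germ F hU y hy v
  obtain ⟨ua, hua⟩ := (Scheme.mem_basicOpen X a y hy).mp hya
  have hm : m ∈ Submodule.span Γ(X, U) (Set.range s) := by rw [hs]; trivial
  obtain ⟨c, hc⟩ := (Submodule.mem_span_range_iff_exists_fun Γ(X, U)).mp hm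
  refine ⟨fun i => (↑ua⁻¹ : X.presheaf.stalk y) * X.presheaf.germ U y hy (c i), ?_⟩
  have h1 : F.presheaf.germ U y hy m =
      ∑ i, X.presheaf.germ U y hy (c i) • F.presheaf.germ U y hy (s i) := by
    rw [← hc, map_sum]
    exact Finset.sum_congr rfl (fun i _ => Mero.germ_smul F U y hy _ _)
  calc v = (↑ua⁻¹ : X.presheaf.stalk y) • ((ua : X.presheaf.stalk y) • v) := by
        rw [smul_smul, Units.inv_mul, one_smul]
    _ = _ := by
        rw [hua, ham, h1, Finset.smul_sum]
        exact Finset.sum_congr rfl (fun i _ => smul_smul _ _ _)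

set_option backward.isDefEq.respectTransparency false in
theorem rel_of_sum_zero (F : X.Modules) [F.IsQuasicoherent] {U : X.Opens} (hU : IsAffineOpen U)
    {n m : ℕ} (s : Fin n → Γ(F, U)) (r : Fin m → (Fin n → Γ(X, U)))
    (hker : ∀ b : Fin n → Γ(X, U), ∑ i, b i • s i = 0 →
      ∃ d : Fin m → Γ(X, U), ∀ i, b i = ∑ j, d j * r j i)
    (y : X) (hy : y ∈ U) (β : Fin n → X.presheaf.stalk y)
    (hβ : ∑ i, β i • F.presheaf.germ U y hy (s i) = 0) :
    ∃ γ : Fin m → X.presheaf.stalk y,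
      ∀ i, β i = ∑ j, γ j * X.presheaf.germ U y hy (r j i) := by
  letI : Algebra Γ(X, U) (X.presheaf.stalk y) := X.presheaf.algebra_section_stalk ⟨y, hy⟩
  haveI : IsLocalization.AtPrime (X.presheaf.stalk y) (hU.primeIdealOf ⟨y, hy⟩).asIdeal :=
    hU.isLocalization_stalk ⟨y, hy⟩
  obtain ⟨b, hb⟩ := IsLocalization.exist_integer_multiples_of_finite
    (hU.primeIdealOf ⟨y, hy⟩).asIdeal.primeCompl β
  have hb' : ∀ i, ∃ c : Γ(X, U), algebraMap Γ(X, U) (X.presheaf.stalk y) c =
      (b : Γ(X, U)) • β i := fun i => RingHom.mem_rangeS.mp (hb i)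
  choose c hc using hb'
  have hbu : IsUnit (X.presheaf.germ U y hy (b : Γ(X, U))) :=
    IsLocalization.map_units (X.presheaf.stalk y) b
  have hc' : ∀ i, X.presheaf.germ U y hy (c i) =
      X.presheaf.germ U y hy (b : Γ(X, U)) * β i := fun i => by
    have h := hc i
    rw [Algebra.smul_def] at h
    exact h
  have h1 : F.presheaf.germ U y hy (∑ i, c i • s i) = 0 := by
    rw [map_sum]
    have h2 : ∀ i, F.presheaf.germ U y hy (c i • s i) =
        X.presheaf.germ U y hy (b : Γ(X, U)) • (β i • F.presheaf.germ U y hy (s i)) := fun i => by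
      rw [Mero.germ_smul, hc', mul_smul]
    rw [Finset.sum_congr rfl (fun i _ => h2 i), ← Finset.smul_sum, hβ, smul_zero]
  obtain ⟨a, hya, ha⟩ := (germ_eq_zero_iff F hU y hy _).mp h1
  have hau : IsUnit (X.presheaf.germ U y hy a) := (Scheme.mem_basicOpen X a y hy).mp hya
  have h2 : ∑ i, (a * c i) • s i = 0 := by
    rw [← ha, Finset.smul_sum]
    exact Finset.sum_congr rfl (fun i _ => mul_smul _ _ _)
  obtain ⟨d, hd⟩ := hker (fun i => a * c i) h2
  obtain ⟨ub, hub⟩ := hbu
  obtain ⟨ua, hua⟩ := hau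
  refine ⟨fun j => ((↑ub⁻¹ : X.presheaf.stalk y) * ↑ua⁻¹) * X.presheaf.germ U y hy (d j),
    fun i => ?_⟩
  have h3 : X.presheaf.germ U y hy a * (X.presheaf.germ U y hy (b : Γ(X, U)) * β i) =
      ∑ j, X.presheaf.germ U y hy (d j) * X.presheaf.germ U y hy (r j i) := by
    rw [← hc', ← map_mul, hd i, map_sum]
    exact Finset.sum_congr rfl (fun j _ => map_mul _ _ _)
  have e1 : (↑ub⁻¹ : X.presheaf.stalk y) * ↑ub = 1 := Units.inv_mul ub
  have e2 : (↑ua⁻¹ : X.presheaf.stalk y) * ↑ua = 1 := Units.inv_mul ua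
  calc β i = ((↑ub⁻¹ : X.presheaf.stalk y) * ↑ub) * ((↑ua⁻¹ : X.presheaf.stalk y) * ↑ua) * β i := by
        rw [e1, e2, one_mul, one_mul]
    _ = ((↑ub⁻¹ : X.presheaf.stalk y) * ↑ua⁻¹) * (↑ua * (↑ub * β i)) := by ring
    _ = _ := by
        rw [hua, hub, h3, Finset.mul_sum]
        exact Finset.sum_congr rfl (fun j _ => (mul_assoc _ _ _).symm)

set_option backward.isDefEq.respectTransparency false in
theorem main (X : Scheme.{u}) (F G : X.Modules)
    [SheafOfModules.IsFinitePresentation.{u, u, u} (R := X.ringCatSheaf) F] (x : X) :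
    Function.Bijective (RefHull.evalStalk F G x) := by
  have hx0 : x ∈ (⊤ : X.Opens) := trivial
  obtain ⟨U, hUaff, hxU, -⟩ := Opens.isBasis_iff_nbhd.mp X.isBasis_affineOpens hx0
  have hU : IsAffineOpen U := hUaff
  obtain ⟨n, m, s, r, hs, hrs, hker⟩ := local_data F hU
  have hgen := fun y hy => gen_stalk F hU s hs y hy
  have hrel := fun y hy => rel_of_sum_zero F hU s r hker y hy
  constructor
  · -- injectivity
    refine (injective_iff_map_eq_zero (RefHull.evalStalk F G x)).mpr fun θ hθ => ?_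
    obtain ⟨U0, hxU0, g, rfl⟩ : ∃ (U0 : X.Opens) (h : x ∈ U0) (g : Γ(RefHull.homSh F G, U0)),
        (RefHull.homSh F G).presheaf.germ U0 x h g = θ :=
      TopCat.Presheaf.exists_germ_eq _ θ
    rw [RefHull.evalStalk_germ] at hθ
    have key : ∀ i : Fin n, ∃ W : X.Opens, x ∈ W ∧ ∃ hle : W ≤ U ⊓ U0, ∀ y (hy : y ∈ W),
        g.1 ⟨y, (hle hy).2⟩ (F.presheaf.germ U y (hle hy).1 (s i)) = 0 := by
      intro i
      obtain ⟨W, hxW, j, nn, hW⟩ := RefHull.isLocSect_of_mem (U := U0) g (U ⊓ U0)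
        (homOfLE inf_le_right)
        (F.presheaf.map (homOfLE (inf_le_left : U ⊓ U0 ≤ U)).op (s i)) ⟨x, ⟨hxU, hxU0⟩⟩
      have h1 := hW ⟨x, hxW⟩
      rw [TopCat.Presheaf.germ_res_apply] at h1
      have h2 : G.presheaf.germ W x hxW nn = 0 := by
        rw [← h1]
        exact LinearMap.congr_fun hθ _
      obtain ⟨W', hxW', hle, hW'⟩ := germ_zero_nbhd G x hxW nn h2
      refine ⟨W', hxW', hle.trans j.le, fun y hy => ?_⟩
      have h3 := hW ⟨y, hle hy⟩
      rw [TopCat.Presheaf.germ_res_apply] at h3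
      rw [hW' y hy] at h3
      exact h3
    choose W hxW hle hW using key
    obtain ⟨W0, hxW0, hW0le, hW0⟩ := exists_common_nbhd x W hxW (U ⊓ U0) ⟨hxU, hxU0⟩
    have hW0U0 : W0 ≤ U0 := hW0le.trans inf_le_right
    have hzero : (RefHull.homSh F G).presheaf.map (homOfLE hW0U0).op g = 0 := by
      refine Subtype.ext (funext fun y => ?_)
      show g.1 ⟨y.1, hW0U0 y.2⟩ = 0
      refine LinearMap.ext fun v => ?_
      show g.1 ⟨y.1, hW0U0 y.2⟩ v = 0
      obtain ⟨β, rfl⟩ := hgen y.1 (hW0le y.2).1 v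
      rw [map_sum]
      refine Finset.sum_eq_zero fun i _ => ?_
      rw [map_smul, hW i y.1 (hW0 i y.2), smul_zero]
    rw [← TopCat.Presheaf.germ_res_apply (RefHull.homSh F G).presheaf (homOfLE hW0U0) x hxW0 g,
      hzero, map_zero]
  · -- surjectivity
    intro ψ
    have key1 : ∀ i : Fin n, ∃ (W : X.Opens) (hxW : x ∈ W) (t : Γ(G, W)),
        G.presheaf.germ W x hxW t = ψ (F.presheaf.germ U x hxU (s i)) := fun i =>
      TopCat.Presheaf.exists_germ_eq G.presheaf (ψ (F.presheaf.germ U x hxU (s i)))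
    choose W hxW t ht using key1
    obtain ⟨W1, hxW1, hW1U, hW1W⟩ := exists_common_nbhd x W hxW U hxU
    obtain ⟨t', ht'⟩ : ∃ t' : Fin n → Γ(G, W1), ∀ i y (hy : y ∈ W1),
        G.presheaf.germ W1 y hy (t' i) = G.presheaf.germ (W i) y (hW1W i hy) (t i) :=
      ⟨fun i => G.presheaf.map (homOfLE (hW1W i)).op (t i), fun i y hy =>
        TopCat.Presheaf.germ_res_apply G.presheaf (homOfLE (hW1W i)) y hy (t i)⟩
    obtain ⟨r', hr'⟩ : ∃ r' : Fin m → Fin n → Γ(X, W1), ∀ j i y (hy : y ∈ W1),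
        X.presheaf.germ W1 y hy (r' j i) = X.presheaf.germ U y (hW1U hy) (r j i) :=
      ⟨fun j i => X.presheaf.map (homOfLE hW1U).op (r j i), fun j i y hy =>
        TopCat.Presheaf.germ_res_apply X.presheaf (homOfLE hW1U) y hy (r j i)⟩
    have hρ : ∀ j y (hy : y ∈ W1), G.presheaf.germ W1 y hy (∑ i, r' j i • t' i) =
        ∑ i, X.presheaf.germ U y (hW1U hy) (r j i) • G.presheaf.germ W1 y hy (t' i) := by
      intro j y hy
      rw [map_sum]
      refine Finset.sum_congr rfl fun i _ => ?_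
      rw [Mero.germ_smul, hr']
    have key2 : ∀ j : Fin m, ∃ W' : X.Opens, x ∈ W' ∧ ∃ hle : W' ≤ W1, ∀ y (hy : y ∈ W'),
        ∑ i, X.presheaf.germ U y (hW1U (hle hy)) (r j i) •
          G.presheaf.germ W1 y (hle hy) (t' i) = 0 := by
      intro j
      have h0 : G.presheaf.germ W1 x hxW1 (∑ i, r' j i • t' i) = 0 := by
        rw [hρ j x hxW1]
        have h1 : ∀ i, X.presheaf.germ U x hxU (r j i) • G.presheaf.germ W1 x hxW1 (t' i) =
            ψ (F.presheaf.germ U x hxU (r j i • s i)) := fun i => by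
          rw [ht', ht, Mero.germ_smul, map_smul]
        have e : ψ (F.presheaf.germ U x hxU (∑ i, r j i • s i)) =
            ∑ i, ψ (F.presheaf.germ U x hxU (r j i • s i)) := by
          rw [map_sum, map_sum]
        rw [Finset.sum_congr rfl (fun i _ => h1 i), ← e, hrs j, map_zero, map_zero]
      obtain ⟨W', hxW', hle, hW'⟩ := germ_zero_nbhd G x hxW1 _ h0
      exact ⟨W', hxW', hle, fun y hy => by rw [← hρ j y (hle hy)]; exact hW' y hy⟩
    choose W2 hxW2 hle2 hW2 using key2
    obtain ⟨W4, hxW4, hW4W1, hW4W2⟩ := exists_common_nbhd x W2 hxW2 W1 hxW1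
    have hW4U : W4 ≤ U := hW4W1.trans hW1U
    have key3 : ∀ y : W4, ∃ f : RefHull.StalkHom F G y.1, ∀ i,
        f (F.presheaf.germ U y.1 (hW4U y.2) (s i)) =
          G.presheaf.germ W1 y.1 (hW4W1 y.2) (t' i) := by
      intro y
      refine exists_factor (fun i => F.presheaf.germ U y.1 (hW4U y.2) (s i))
        (fun i => G.presheaf.germ W1 y.1 (hW4W1 y.2) (t' i))
        (fun j i => X.presheaf.germ U y.1 (hW4U y.2) (r j i))
        (hgen y.1 (hW4U y.2)) (hrel y.1 (hW4U y.2)) (fun j => ?_)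
      exact hW2 j y.1 (hW4W2 j y.2)
    choose f hf using key3
    have hloc : RefHull.IsLocSect F G f := by
      intro V i mm y
      have hyU : y.1 ∈ U := hW4U (i.le y.2)
      obtain ⟨β, hβ⟩ := hgen y.1 hyU (F.presheaf.germ V y.1 y.2 mm)
      have key4 : ∀ k : Fin n, ∃ (Wb : X.Opens) (hyWb : y.1 ∈ Wb) (b : Γ(X, Wb)),
          X.presheaf.germ Wb y.1 hyWb b = β k :=
        fun k => TopCat.Presheaf.exists_germ_eq X.presheaf (β k)
      choose Wb hyWb b hb using key4
      obtain ⟨W6, hyW6, hW6V, hW6b⟩ := exists_common_nbhd y.1 Wb hyWb V y.2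
      have hW6W4 : W6 ≤ W4 := hW6V.trans i.le
      have hW6U : W6 ≤ U := hW6W4.trans hW4U
      have hW6W1 : W6 ≤ W1 := hW6W4.trans hW4W1
      obtain ⟨b', hb'⟩ : ∃ b' : Fin n → Γ(X, W6), ∀ k z (hz : z ∈ W6),
          X.presheaf.germ W6 z hz (b' k) = X.presheaf.germ (Wb k) z (hW6b k hz) (b k) :=
        ⟨fun k => X.presheaf.map (homOfLE (hW6b k)).op (b k), fun k z hz =>
          TopCat.Presheaf.germ_res_apply X.presheaf (homOfLE (hW6b k)) z hz (b k)⟩
      obtain ⟨s', hs'⟩ : ∃ s' : Fin n → Γ(F, W6), ∀ k z (hz : z ∈ W6),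
          F.presheaf.germ W6 z hz (s' k) = F.presheaf.germ U z (hW6U hz) (s k) :=
        ⟨fun k => F.presheaf.map (homOfLE hW6U).op (s k), fun k z hz =>
          TopCat.Presheaf.germ_res_apply F.presheaf (homOfLE hW6U) z hz (s k)⟩
      obtain ⟨t'', ht''⟩ : ∃ t'' : Fin n → Γ(G, W6), ∀ k z (hz : z ∈ W6),
          G.presheaf.germ W6 z hz (t'' k) = G.presheaf.germ W1 z (hW6W1 hz) (t' k) :=
        ⟨fun k => G.presheaf.map (homOfLE hW6W1).op (t' k), fun k z hz =>
          TopCat.Presheaf.germ_res_apply G.presheaf (homOfLE hW6W1) z hz (t' k)⟩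
      obtain ⟨m', hm'⟩ : ∃ m' : Γ(F, W6), ∀ z (hz : z ∈ W6),
          F.presheaf.germ W6 z hz m' = F.presheaf.germ V z (hW6V hz) mm :=
        ⟨F.presheaf.map (homOfLE hW6V).op mm, fun z hz =>
          TopCat.Presheaf.germ_res_apply F.presheaf (homOfLE hW6V) z hz mm⟩
      have h0 : F.presheaf.germ W6 y.1 hyW6 (m' - ∑ k, b' k • s' k) = 0 := by
        rw [map_sub, map_sum, sub_eq_zero, hm', hβ]
        refine Finset.sum_congr rfl fun k _ => ?_
        rw [Mero.germ_smul, hb', hs', hb]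
      obtain ⟨W7, hyW7, hle7, hW7⟩ := germ_zero_nbhd F y.1 hyW6 _ h0
      obtain ⟨nn, hnn⟩ : ∃ nn : Γ(G, W7), ∀ z (hz : z ∈ W7),
          G.presheaf.germ W7 z hz nn = G.presheaf.germ W6 z (hle7 hz) (∑ k, b' k • t'' k) :=
        ⟨G.presheaf.map (homOfLE hle7).op (∑ k, b' k • t'' k), fun z hz =>
          TopCat.Presheaf.germ_res_apply G.presheaf (homOfLE hle7) z hz _⟩
      refine ⟨W7, hyW7, homOfLE (hle7.trans hW6V), nn, fun z => ?_⟩
      have hz6 : z.1 ∈ W6 := hle7 z.2
      have h1 := hW7 z.1 z.2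
      rw [map_sub, sub_eq_zero, map_sum, hm'] at h1
      rw [hnn z.1 z.2, map_sum, h1, map_sum]
      refine Finset.sum_congr rfl fun k _ => ?_
      rw [Mero.germ_smul, Mero.germ_smul, map_smul, hs', hf, ht'']
    let g : Γ(RefHull.homSh F G, W4) := ⟨f, hloc⟩
    refine ⟨(RefHull.homSh F G).presheaf.germ W4 x hxW4 g, ?_⟩
    rw [RefHull.evalStalk_germ]
    show f ⟨x, hxW4⟩ = ψ
    refine LinearMap.ext fun v => ?_
    obtain ⟨β, rfl⟩ := hgen x hxU v
    rw [map_sum, map_sum]
    refine Finset.sum_congr rfl fun i _ => ?_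
    rw [map_smul, map_smul, hf, ht', ht]
end

/-- Let X be a scheme, F and G O_X-modules with F of finite presentation, and x a point of X. Then the
canonical O_{X,x}-linear map 𝓗om_{O_X}(F, G)_x → Hom_{O_{X,x}}(F_x, G_x), which sends the germ at x
of a section of the sheaf Hom to the stalk map it induces at x, is bijective. (The source states
this for modules on an arbitrary ringed space; it is stated here for schemes, where the sheaf Hom of
the statement is available.) -/
theorem result (X : Scheme.{u}) (F G : X.Modules) (hF : CohB1.IsFP F) (x : X) :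
    Function.Bijective (RefHull.evalStalk F G x) := by
  haveI : SheafOfModules.IsFinitePresentation.{u, u, u} (R := X.ringCatSheaf) F := hF
  exact main X F G x

end Groth.Agent.S16485
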