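import Groth.Statements.S16515
import Mathlib
-- import your own Groth.Agent.* helpers here

set_option autoImplicit false
universe u
open RatCurv

namespace Groth.Agent.S16515


theorem finrank_homog (K : Type u) [Field K] (m : ℕ) :
    Module.finrank K (MvPolynomial.homogeneousSubmodule (Fin 2) K m) = m + 1 := by
  rw [MvPolynomial.homogeneousSubmodule_eq_finsupp_supported]
  let e : Fin (m + 1) ≃ {d : Fin 2 →₀ ℕ | d.degree = m} :=
    { toFun := fun i => ⟨Finsupp.single 0 (i : ℕ) + Finsupp.single 1 (m - i), by
        have := i.2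
        simp only [Set.mem_setOf_eq, Finsupp.degree_eq_sum, Fin.sum_univ_two, Finsupp.add_apply]
        simp; omega⟩
      invFun := fun d => ⟨d.1 0, by
        have := d.2
        simp only [Set.mem_setOf_eq, Finsupp.degree_eq_sum, Fin.sum_univ_two] at this
        omega⟩
      left_inv := fun i => by ext; simp
      right_inv := fun d => by
        have := d.2
        simp only [Set.mem_setOf_eq, Finsupp.degree_eq_sum, Fin.sum_univ_two] at this
        apply Subtype.ext
        ext j
        fin_cases j
        · simp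
        · simp; omega }
  have : Fintype {d : Fin 2 →₀ ℕ | d.degree = m} := Fintype.ofEquiv _ e
  rw [LinearEquiv.finrank_eq (AddMonoidAlgebra.supportedEquivFinsupp _),
    Module.finrank_finsupp_self, ← Fintype.card_congr e, Fintype.card_fin]

theorem aux (K : Type u) [Field K] (n r k : ℕ) (hkn : k ≤ n) (hineq : (r + 1) * (n + 1) ≤ (r + 2) * k)
    (U : Submodule K (MvPolynomial (Fin 2) K)) (hU : U ≤ MvPolynomial.homogeneousSubmodule (Fin 2) K n)
    (hcodim : Module.finrank K ↥U + (r + 1) = n + 1) :
    ∃ g ∈ MvPolynomial.homogeneousSubmodule (Fin 2) K k, g ≠ 0 ∧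
      ∀ h ∈ MvPolynomial.homogeneousSubmodule (Fin 2) K (n - k), g * h ∈ U := by
  haveI : ∀ m, Module.Finite K (MvPolynomial.homogeneousSubmodule (Fin 2) K m) :=
    fun m => Module.Finite.iff_fg.2 (MvPolynomial.homogeneousSubmodule_fg (Fin 2) K m)
  let U' : Submodule K (MvPolynomial.homogeneousSubmodule (Fin 2) K n) :=
    U.comap (MvPolynomial.homogeneousSubmodule (Fin 2) K n).subtype
  have hmul : ∀ (g : MvPolynomial.homogeneousSubmodule (Fin 2) K k)
      (h : MvPolynomial.homogeneousSubmodule (Fin 2) K (n - k)),
      g.1 * h.1 ∈ MvPolynomial.homogeneousSubmodule (Fin 2) K n := by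
    intro g h
    have := MvPolynomial.IsHomogeneous.mul g.2 h.2
    rw [Nat.add_sub_cancel' hkn] at this
    exact this
  let Ψ : MvPolynomial.homogeneousSubmodule (Fin 2) K k →ₗ[K]
      MvPolynomial.homogeneousSubmodule (Fin 2) K (n - k) →ₗ[K]
      MvPolynomial.homogeneousSubmodule (Fin 2) K n :=
    LinearMap.mk₂ K (fun g h => ⟨g.1 * h.1, hmul g h⟩)
      (fun g g' h => Subtype.ext (by simp [add_mul]))
      (fun c g h => Subtype.ext (by simp))
      (fun g h h' => Subtype.ext (by simp [mul_add]))
      (fun c g h => Subtype.ext (by simp))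
  let Φ : MvPolynomial.homogeneousSubmodule (Fin 2) K k →ₗ[K]
      MvPolynomial.homogeneousSubmodule (Fin 2) K (n - k) →ₗ[K]
      (MvPolynomial.homogeneousSubmodule (Fin 2) K n ⧸ U') := Ψ.compr₂ U'.mkQ
  have hfinU : Module.finrank K U' = Module.finrank K U :=
    (Submodule.comapSubtypeEquivOfLe hU).finrank_eq
  have hq : Module.finrank K (MvPolynomial.homogeneousSubmodule (Fin 2) K n ⧸ U') = r + 1 := by
    have := Submodule.finrank_quotient_add_finrank U'
    rw [finrank_homog, hfinU] at this
    omega
  have hlt : Module.finrank K (MvPolynomial.homogeneousSubmodule (Fin 2) K (n - k) →ₗ[K]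
      (MvPolynomial.homogeneousSubmodule (Fin 2) K n ⧸ U')) <
      Module.finrank K (MvPolynomial.homogeneousSubmodule (Fin 2) K k) := by
    rw [Module.finrank_linearMap, finrank_homog, finrank_homog, hq]
    obtain ⟨m, rfl⟩ := Nat.exists_eq_add_of_le hkn
    simp only [Nat.add_sub_cancel_left]
    have e1 : (r+1)*(k+m+1) = (m+1)*(r+1) + (r+1)*k := by ring
    have e2 : (r+2)*k = (r+1)*k + k := by ring
    linarith
  have hker := LinearMap.ker_ne_bot_of_finrank_lt (f := Φ) hlt
  obtain ⟨g, hg, hg0⟩ := (Submodule.ne_bot_iff _).1 hker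
  refine ⟨g.1, g.2, fun h0 => hg0 (Subtype.ext h0), fun h hh => ?_⟩
  have h1 : Φ g ⟨h, hh⟩ = 0 := by rw [LinearMap.mem_ker.1 hg]; rfl
  have h2 : (⟨g.1 * h, hmul g ⟨h, hh⟩⟩ : MvPolynomial.homogeneousSubmodule (Fin 2) K n) ∈ U' := by
    rw [← Submodule.Quotient.mk_eq_zero]; exact h1
  exact h2

/-- If C ⊂ P^n is a rational normal curve and P ⊂ P^n a linear r-plane with (r + 2) k ≥ (r + 1)(n + 1),
then P is contained in a k-secant (k − 1)-plane of C, i.e. in the span of some effective divisor of
degree k on C. Stated through the identification of the linear forms on P^n with the binary forms of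
degree n on C ≅ P^1: the r-plane P is recorded by the space U of degree-n binary forms vanishing on
it (of codimension r + 1), an effective divisor of degree k on C by a nonzero binary form g of
degree k, and P ⊂ span(div g) says that every degree-n form divisible by g lies in U. Here k ≤ n,
and the ground field is arbitrary (the source works over the complex numbers). -/
theorem result (K : Type u) [Field K] (n r k : ℕ)
    (hkn : k ≤ n) (hineq : (r + 1) * (n + 1) ≤ (r + 2) * k)
    (U : Submodule K (MvPolynomial (Fin 2) K))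
    (hU : U ≤ MvPolynomial.homogeneousSubmodule (Fin 2) K n)
    (hcodim : Module.finrank K ↥U + (r + 1) = n + 1) :
    ∃ g ∈ MvPolynomial.homogeneousSubmodule (Fin 2) K k, g ≠ 0 ∧
      ∀ h ∈ MvPolynomial.homogeneousSubmodule (Fin 2) K (n - k), g * h ∈ U := by
  exact aux K n r k hkn hineq U hU hcodim

end Groth.Agent.S16515
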