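import Groth.Statements.S1655
import Mathlib
import Groth.Agent.Lib.Helper5.BirNormal

set_option autoImplicit false
universe u
open CategoryTheory CategoryTheory.Limits AlgebraicGeometry
open Variety

namespace Groth.Agent.S1655
open Groth.Agent.Helper5.BirNormal Groth.Agent.Helper5.FibClosed

/-- Let X be a Noetherian integral scheme, Y an integral scheme, and f : Y → X a proper morphism that
restricts to an isomorphism over some nonempty open subscheme of X. If x is a point of X whose local
ring is integrally closed and f is quasi-finite at some point lying over x, then f restricts to an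
isomorphism over an open neighbourhood of x. -/
theorem result {X Y : Scheme.{u}} [IsNoetherian X] [IsIntegral X] [IsIntegral Y]
    (f : Y ⟶ X) [IsProper f] (W : X.Opens) (hW : (W : Set X).Nonempty) (hfW : IsIso (f ∣_ W))
    (x : X) (hx : IsIntegrallyClosed (X.presheaf.stalk x)) (y : Y) (hy : f.base y = x) (hq : f.QuasiFiniteAt y) :
    ∃ V : X.Opens, x ∈ V ∧ IsIso (f ∣_ V) := by
  subst hy
  obtain ⟨w, hw⟩ := hW
  haveI : Nonempty W := ⟨⟨w, hw⟩⟩
  have hηW : genericPoint X ∈ W :=
    ((genericPoint_spec X).mem_open_set_iff W.isOpen).mpr ⟨w, trivial, hw⟩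
  obtain ⟨z, hz⟩ := (f ∣_ W).homeomorph.surjective ⟨genericPoint X, hηW⟩
  haveI : Nonempty (f ⁻¹ᵁ W) := ⟨z⟩
  have hgen : f (genericPoint Y) = genericPoint X := by
    have h1 := genericPoint_eq_of_isOpenImmersion (f ∣_ W)
    have h2 := genericPoint_eq_of_isOpenImmersion (f ⁻¹ᵁ W).ι
    have h3 := genericPoint_eq_of_isOpenImmersion W.ι
    rw [← h2, ← h3, ← h1, ← Scheme.Hom.comp_apply, ← Scheme.Hom.comp_apply, morphismRestrict_ι]
  have hbir : IsIso (f.stalkMap (genericPoint Y)) :=
    isIso_stalkMap_of_isIso_restrict f W _ (by rw [hgen]; exact hηW)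
  exact exists_isIso_restrict_of_quasiFiniteAt f hgen hbir y hq hx

end Groth.Agent.S1655
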