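import Groth.Statements.S16598
import Mathlib

set_option autoImplicit false
universe u v
open LGRing

namespace Groth.Agent.S16598

/-- Let R be an LG-ring and M a faithfully projective R-module (finitely generated projective and
faithful). Then M contains a unimodular element: there are m ∈ M and a linear form f on M with f(m)
= 1 (so R·m is a free direct summand of M of rank one). -/
theorem result {R : Type u} [CommRing R] (hR : LGRing.IsLGRing R)
    (M : Type v) [AddCommGroup M] [Module R M] [Module.Finite R M] [Module.Projective R M] [FaithfulSMul R M] :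
    ∃ (m : M) (f : Module.Dual R M), f m = 1 := by
  classical
  obtain ⟨n, p, hp⟩ := Module.Finite.exists_fin' R M
  obtain ⟨g, hg⟩ := Module.projective_lifting_property p LinearMap.id hp
  let mm : Fin n → M := fun j => p (fun j' => if j = j' then 1 else 0)
  let ff : Fin n → Module.Dual R M := fun l => (LinearMap.proj l) ∘ₗ g
  have hrepr : ∀ x : M, x = ∑ l, ff l x • mm l := by
    intro x
    have h1 : p (g x) = x := LinearMap.congr_fun hg x
    conv_lhs => rw [← h1, LinearMap.pi_apply_eq_sum_univ p (g x)]
    rfl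
  let a : Fin n → Fin n → R := fun j l => ff l (mm j)
  let τ : Ideal R := Ideal.span (Set.range (fun jl : Fin n × Fin n => a jl.1 jl.2))
  have hτ : τ = ⊤ := by
    have hle : (⊤ : Submodule R M) ≤ τ • (⊤ : Submodule R M) := by
      intro x _
      rw [hrepr x]
      apply Submodule.sum_mem
      intro l _
      apply Submodule.smul_mem
      rw [hrepr (mm l)]
      apply Submodule.sum_mem
      intro l' _
      exact Submodule.smul_mem_smul (Ideal.subset_span ⟨(l, l'), rfl⟩) Submodule.mem_top
    obtain ⟨r, hr1, hr2⟩ := Submodule.exists_sub_one_mem_and_smul_eq_zero_of_fg_of_le_smul τ ⊤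
      Module.Finite.fg_top hle
    have hr0 : r = 0 := by
      apply FaithfulSMul.eq_of_smul_eq_smul (α := M)
      intro x
      rw [hr2 x Submodule.mem_top, zero_smul]
    rw [hr0, zero_sub] at hr1
    exact (Ideal.eq_top_iff_one τ).mpr (by simpa using τ.neg_mem hr1)
  let F : MvPolynomial (Fin (n + n)) R := ∑ j, ∑ l,
    MvPolynomial.C (a j l) * MvPolynomial.X (Fin.castAdd n j) * MvPolynomial.X (Fin.natAdd n l)
  have hF : ∀ (S : Type u) [CommRing S] [Algebra R S] (s : Fin (n + n) → S),
      MvPolynomial.aeval s F =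
        ∑ j, ∑ l, algebraMap R S (a j l) * s (Fin.castAdd n j) * s (Fin.natAdd n l) := by
    intro S _ _ s
    simp only [F, map_sum, map_mul, MvPolynomial.aeval_C, MvPolynomial.aeval_X]
  have hloc : ∀ (m : Ideal R) [m.IsMaximal], LGRing.RepresentsUnit F (R ⧸ m) := by
    intro m hm
    have hex : ∃ j l, a j l ∉ m := by
      by_contra hcon
      push Not at hcon
      have hle : τ ≤ m := Ideal.span_le.mpr (by rintro _ ⟨⟨j, l⟩, rfl⟩; exact hcon j l)
      exact hm.ne_top (top_le_iff.mp (hτ ▸ hle))
    obtain ⟨j, l, hjl⟩ := hex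
    refine ⟨Fin.append (Pi.single j 1) (Pi.single l 1), ?_⟩
    rw [hF]
    simp only [Fin.append_left, Fin.append_right]
    have hsum : ∑ j', ∑ l', algebraMap R (R ⧸ m) (a j' l') * (Pi.single j (1 : R ⧸ m) : Fin n → R ⧸ m) j' *
        (Pi.single l (1 : R ⧸ m) : Fin n → R ⧸ m) l' = algebraMap R (R ⧸ m) (a j l) := by
      rw [Finset.sum_eq_single j, Finset.sum_eq_single l]
      · simp
      · intro l' _ hl'
        simp [Pi.single_eq_of_ne hl']
      · intro h; exact absurd (Finset.mem_univ l) h
      · intro j' _ hj'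
        simp [Pi.single_eq_of_ne hj']
      · intro h; exact absurd (Finset.mem_univ j) h
    rw [hsum]
    have hne : algebraMap R (R ⧸ m) (a j l) ≠ 0 := by
      rw [Ideal.Quotient.algebraMap_eq, Ne, Ideal.Quotient.eq_zero_iff_mem]
      exact hjl
    obtain ⟨b, hb⟩ := Ideal.Quotient.exists_inv hne
    exact IsUnit.of_mul_eq_one _ hb
  obtain ⟨s, hs⟩ := hR (n + n) F hloc
  rw [hF] at hs
  obtain ⟨c, hc⟩ := hs.exists_left_inv
  refine ⟨∑ j, s (Fin.castAdd n j) • mm j, c • ∑ l, s (Fin.natAdd n l) • ff l, ?_⟩
  rw [← hc]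
  simp only [LinearMap.smul_apply, LinearMap.sum_apply, map_sum, map_smul, smul_eq_mul,
    Algebra.algebraMap_self, RingHom.id_apply, Finset.mul_sum]
  apply Finset.sum_congr rfl
  intro j _
  apply Finset.sum_congr rfl
  intro l _
  simp only [a]
  ring

end Groth.Agent.S16598
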