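import Groth.Statements.S16599
import Mathlib
import Groth.Agent.Lib.Helper8.LGIso

set_option autoImplicit false
open AlgebraicGeometry
universe u
open LGRing

namespace Groth.Agent.S16599

/-- Let R be an LG-ring, n ≥ 0, and U an open quasi-compact subscheme of affine n-space Spec R[X₁, …,
Xₙ]. If U has an (R ⧸ m)-valued point over R for every maximal ideal m of R, then U has an R-valued
point: some n-tuple x over R defines a section Spec R ⟶ Spec R[X₁, …, Xₙ] with image inside U. -/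
theorem result {R : Type u} [CommRing R] (hR : LGRing.IsLGRing R)
    (n : ℕ) (U : (Spec (CommRingCat.of (MvPolynomial (Fin n) R))).Opens)
    (hU : IsCompact (U : Set ↥(Spec (CommRingCat.of (MvPolynomial (Fin n) R)))))
    (h : ∀ (m : Ideal R) [m.IsMaximal], ∃ x : Fin n → R ⧸ m,
      Set.range (Spec.map (CommRingCat.ofHom (MvPolynomial.eval₂Hom (Ideal.Quotient.mk m) x))).base ⊆
        (U : Set ↥(Spec (CommRingCat.of (MvPolynomial (Fin n) R))))) :
    ∃ x : Fin n → R, Set.range (Spec.map (CommRingCat.ofHom (MvPolynomial.eval x))).base ⊆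
      (U : Set ↥(Spec (CommRingCat.of (MvPolynomial (Fin n) R)))) := by
  classical
  obtain ⟨t, ht⟩ := (PrimeSpectrum.isCompact_isOpen_iff (R := MvPolynomial (Fin n) R)
    (s := (SetLike.coe U : Set (PrimeSpectrum (MvPolynomial (Fin n) R))))).mp ⟨hU, U.isOpen⟩
  let e := t.equivFin
  let g : Fin t.card → MvPolynomial (Fin n) R := fun j => (e.symm j).1
  have hgt : ∀ j, g j ∈ t := fun j => (e.symm j).2
  have htg : ∀ f (hf : f ∈ t), g (e ⟨f, hf⟩) = f := by
    intro f hf
    simp only [g, Equiv.symm_apply_apply]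
  let F : MvPolynomial (Fin n ⊕ Fin t.card) R :=
    ∑ j : Fin t.card, MvPolynomial.rename Sum.inl (g j) * MvPolynomial.X (Sum.inr j)
  have hF : ∀ (S : Type u) [CommRing S] [Algebra R S] (s : Fin n ⊕ Fin t.card → S),
      MvPolynomial.aeval s F =
        ∑ j : Fin t.card, MvPolynomial.aeval (s ∘ Sum.inl) (g j) * s (Sum.inr j) := by
    intro S _ _ s
    simp only [F, map_sum, map_mul, MvPolynomial.aeval_rename, MvPolynomial.aeval_X]
  have hloc : ∀ (m : Ideal R) [m.IsMaximal],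
      ∃ s : Fin n ⊕ Fin t.card → R ⧸ m, IsUnit (MvPolynomial.aeval s F) := by
    intro m hm
    obtain ⟨x, hx⟩ := h m
    let pt : PrimeSpectrum (R ⧸ m) := ⟨⊥, Ideal.isPrime_bot⟩
    have hmem : PrimeSpectrum.comap (MvPolynomial.eval₂Hom (Ideal.Quotient.mk m) x) pt ∈
        (PrimeSpectrum.zeroLocus (t : Set (MvPolynomial (Fin n) R)))ᶜ := by
      rw [ht]; exact hx ⟨pt, rfl⟩
    rw [Set.mem_compl_iff, PrimeSpectrum.mem_zeroLocus, Set.not_subset] at hmem
    obtain ⟨f, hft, hfq⟩ := hmem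
    have hne : MvPolynomial.eval₂Hom (Ideal.Quotient.mk m) x f ≠ 0 := by
      intro h0
      apply hfq
      rw [SetLike.mem_coe, PrimeSpectrum.comap_asIdeal, Ideal.mem_comap]
      simpa [pt] using h0
    refine ⟨Sum.elim x (Pi.single (e ⟨f, hft⟩) 1), ?_⟩
    rw [hF, Finset.sum_eq_single (e ⟨f, hft⟩)]
    · have h1 : MvPolynomial.aeval
          (Sum.elim x (Pi.single (e ⟨f, hft⟩) (1 : R ⧸ m)) ∘ Sum.inl) (g (e ⟨f, hft⟩)) =
          MvPolynomial.eval₂Hom (Ideal.Quotient.mk m) x f := by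
        rw [htg, MvPolynomial.aeval_def, MvPolynomial.coe_eval₂Hom]
        rfl
      simp only [Sum.elim_inr, Pi.single_eq_same, mul_one]
      rw [h1]
      obtain ⟨b, hb⟩ := Ideal.Quotient.exists_inv hne
      exact IsUnit.of_mul_eq_one _ hb
    · intro j _ hj
      simp [Pi.single_eq_of_ne hj]
    · intro hh; exact absurd (Finset.mem_univ _) hh
  obtain ⟨s, hs⟩ := Groth.Agent.Helper8.LGIso.lg_fintype hR F hloc
  rw [hF] at hs
  refine ⟨s ∘ Sum.inl, ?_⟩
  rintro _ ⟨p, rfl⟩
  suffices hsuff : PrimeSpectrum.comap (MvPolynomial.eval (s ∘ Sum.inl)) p ∈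
      (PrimeSpectrum.zeroLocus (t : Set (MvPolynomial (Fin n) R)))ᶜ by
    rw [ht] at hsuff; exact hsuff
  rw [Set.mem_compl_iff, PrimeSpectrum.mem_zeroLocus]
  intro hsub
  have hp : (PrimeSpectrum.asIdeal (R := R) p).IsPrime := PrimeSpectrum.isPrime (R := R) p
  apply hp.ne_top
  apply Ideal.eq_top_of_isUnit_mem _ _ hs
  apply Ideal.sum_mem
  intro j _
  apply Ideal.mul_mem_right
  have h2 := hsub (hgt j)
  rw [SetLike.mem_coe, PrimeSpectrum.comap_asIdeal, Ideal.mem_comap] at h2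
  have h3 : MvPolynomial.aeval (s ∘ Sum.inl) (g j) = MvPolynomial.eval (s ∘ Sum.inl) (g j) := by
    rw [MvPolynomial.aeval_def]; rfl
  rw [h3]
  exact h2

end Groth.Agent.S16599
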