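import Groth.Statements.S1661
import Mathlib

set_option autoImplicit false
universe u
open CategoryTheory CategoryTheory.Limits AlgebraicGeometry
open Divisors

namespace Groth.Agent.S1661

open AlgebraicGeometry CategoryTheory in
/-- Restricting a weakly regular generating sequence of the kernel to a smaller affine open. -/
lemma restrict_regular {Z X : Scheme.{u}} (k : Z ⟶ X) [IsClosedImmersion k] {U U' : X.Opens}
    (hU : IsAffineOpen U) (hU' : IsAffineOpen U') (hle : U' ≤ U) (rs : List Γ(X, U))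
    (hreg : RingTheory.Sequence.IsWeaklyRegular Γ(X, U) rs)
    (hker : k.ker.ideal ⟨U, hU⟩ = Ideal.ofList rs) :
    RingTheory.Sequence.IsWeaklyRegular Γ(X, U')
        (rs.map (X.presheaf.map (homOfLE hle).op).hom) ∧
      k.ker.ideal ⟨U', hU'⟩ = Ideal.ofList (rs.map (X.presheaf.map (homOfLE hle).op).hom) := by
  constructor
  · have hflat : (X.presheaf.map (homOfLE hle).op).hom.Flat := by
      have h1 := HasRingHomProperty.appLE (P := @Flat) (𝟙 X) inferInstance ⟨U, hU⟩ ⟨U', hU'⟩ hle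
      have e : (𝟙 X : X ⟶ X).appLE U U' hle = X.presheaf.map (homOfLE hle).op := by
        simp [Scheme.Hom.appLE]
        exact Category.id_comp _
      rwa [e] at h1
    algebraize [(X.presheaf.map (homOfLE hle).op).hom]
    exact hreg.of_flat
  · have h1 := Scheme.IdealSheafData.map_ideal k.ker (U := ⟨U', hU'⟩) (V := ⟨U, hU⟩) hle
    rw [← h1, hker, Ideal.map_ofList]
    rfl

/-- If i : Z → Y and j : Y → X are regular closed immersions then so is their composite Z → X. This is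
the closed-immersion case of the published statement. -/
theorem result {Z Y X : Scheme.{u}} (i : Z ⟶ Y) (j : Y ⟶ X)
    (hi : Mor2.IsRegularClosedImmersion i) (hj : Mor2.IsRegularClosedImmersion j) : Mor2.IsRegularClosedImmersion (i ≫ j) := by
  obtain ⟨hi1, hi2⟩ := hi
  obtain ⟨hj1, hj2⟩ := hj
  haveI := hi1
  haveI := hj1
  refine ⟨inferInstance, fun z => ?_⟩
  obtain ⟨U, hU, hxU, rs, hrs, hkerj⟩ := hj2 (i z)
  obtain ⟨V, hV, hyV, ss, hss, hkeri⟩ := hi2 z
  have hV₀ : IsAffineOpen (j ⁻¹ᵁ U) := hU.preimage j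
  have hyV₀ : i z ∈ j ⁻¹ᵁ U := hxU
  obtain ⟨b, hbV, hyb⟩ := hV₀.exists_basicOpen_le (V := V) ⟨i z, hyV⟩ hyV₀
  obtain ⟨a, ha⟩ := j.app_surjective U hU b
  have hU' : IsAffineOpen (X.basicOpen a) := hU.basicOpen a
  have hleU : X.basicOpen a ≤ U := X.basicOpen_le a
  have hpre : j ⁻¹ᵁ X.basicOpen a = Y.basicOpen b := by
    rw [Scheme.preimage_basicOpen, ha]
  have hV'aff : IsAffineOpen (j ⁻¹ᵁ X.basicOpen a) := hU'.preimage j
  have hV'V : j ⁻¹ᵁ X.basicOpen a ≤ V := by
    rw [hpre]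
    exact hbV
  have hyV' : i z ∈ j ⁻¹ᵁ X.basicOpen a := by
    rw [hpre]
    exact hyb
  have hxU' : (i ≫ j) z ∈ X.basicOpen a := hyV'
  obtain ⟨hrs', hkerj'⟩ := restrict_regular j hU hU' hleU rs hrs.1 hkerj
  obtain ⟨hss', hkeri'⟩ := restrict_regular i hV hV'aff hV'V ss hss.1 hkeri
  obtain ⟨rs', hrs'def⟩ : ∃ rs' : List Γ(X, X.basicOpen a),
      rs' = rs.map (X.presheaf.map (homOfLE hleU).op).hom := ⟨_, rfl⟩
  obtain ⟨ss', hss'def⟩ : ∃ ss' : List Γ(Y, j ⁻¹ᵁ X.basicOpen a),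
      ss' = ss.map (Y.presheaf.map (homOfLE hV'V).op).hom := ⟨_, rfl⟩
  rw [← hrs'def] at hrs' hkerj'
  rw [← hss'def] at hss' hkeri'
  have hφsurj : Function.Surjective (j.app (X.basicOpen a)).hom := j.app_surjective _ hU'
  have hkerφ : RingHom.ker (j.app (X.basicOpen a)).hom = Ideal.ofList rs' := by
    rw [← hkerj', Scheme.Hom.ker_apply]
  obtain ⟨ts, hts⟩ : ∃ ts : List Γ(X, X.basicOpen a),
      ts.map (j.app (X.basicOpen a)).hom = ss' := List.map_surjective_iff.mpr hφsurj ss'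
  have hker : (i ≫ j).ker.ideal ⟨X.basicOpen a, hU'⟩ = Ideal.ofList (rs' ++ ts) := by
    have h1 : ((i ≫ j).app (X.basicOpen a)).hom =
        (i.app (j ⁻¹ᵁ X.basicOpen a)).hom.comp (j.app (X.basicOpen a)).hom := by
      rw [Scheme.Hom.comp_app]
      rfl
    have h2 : RingHom.ker (i.app (j ⁻¹ᵁ X.basicOpen a)).hom = Ideal.ofList ss' := by
      rw [← hkeri', Scheme.Hom.ker_apply]
    have h3 : RingHom.ker ((i.app (j ⁻¹ᵁ X.basicOpen a)).hom.comp (j.app (X.basicOpen a)).hom) =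
        (Ideal.ofList ss').comap (j.app (X.basicOpen a)).hom := by
      rw [← h2]
      exact (RingHom.comap_ker _ _).symm
    have h5 : (Ideal.ofList ss').comap (j.app (X.basicOpen a)).hom =
        Ideal.ofList ts ⊔ Ideal.ofList rs' := by
      rw [← hts, ← Ideal.map_ofList, Ideal.comap_map_of_surjective _ hφsurj,
        ← RingHom.ker_eq_comap_bot, hkerφ]
    have h4 : (i ≫ j).ker.ideal ⟨X.basicOpen a, hU'⟩ =
        RingHom.ker ((i ≫ j).app (X.basicOpen a)).hom := Scheme.Hom.ker_apply _ _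
    have h6 : Ideal.ofList ts ⊔ Ideal.ofList rs' = Ideal.ofList (rs' ++ ts) := by
      rw [Ideal.ofList_append, sup_comm]
    exact h4.trans ((congrArg RingHom.ker h1).trans (h3.trans (h5.trans h6)))
  refine ⟨X.basicOpen a, hU', hxU', rs' ++ ts, ⟨?_, ?_⟩, hker⟩
  · rw [RingTheory.Sequence.isWeaklyRegular_append_iff]
    refine ⟨hrs', ?_⟩
    have hI : (Ideal.ofList rs' • ⊤ : Submodule Γ(X, X.basicOpen a) Γ(X, X.basicOpen a)) =
        RingHom.ker (j.app (X.basicOpen a)).hom := by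
      rw [hkerφ]
      exact Ideal.mul_top _
    let e₁ := Submodule.quotEquivOfEq _ _ hI
    let e₂ := RingHom.quotientKerEquivOfSurjective hφsurj
    let e : (Γ(X, X.basicOpen a) ⧸ (Ideal.ofList rs' • ⊤ :
        Submodule Γ(X, X.basicOpen a) Γ(X, X.basicOpen a))) ≃+ Γ(Y, j ⁻¹ᵁ X.basicOpen a) :=
      e₁.toAddEquiv.trans e₂.toAddEquiv
    refine (AddEquiv.isWeaklyRegular_congr (e := e) ?_).mpr hss'
    rw [← hts, List.forall₂_map_right_iff]
    apply List.forall₂_same.mpr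
    intro r _ x
    induction x using Submodule.Quotient.induction_on with
    | _ x =>
      have he : ∀ y : Γ(X, X.basicOpen a), e (Submodule.Quotient.mk y) =
          (j.app (X.basicOpen a)).hom y := fun y => rfl
      rw [← Submodule.Quotient.mk_smul, he, he, smul_eq_mul, smul_eq_mul, map_mul]
  · intro h
    have h1 : Ideal.ofList (rs' ++ ts) = ⊤ := by
      have h2 : (Ideal.ofList (rs' ++ ts) • ⊤ :
          Submodule Γ(X, X.basicOpen a) Γ(X, X.basicOpen a)) = Ideal.ofList (rs' ++ ts) :=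
        Ideal.mul_top _
      rw [h2] at h
      exact h.symm
    rw [← hker, Scheme.Hom.ker_apply] at h1
    haveI : Nonempty ↥((i ≫ j) ⁻¹ᵁ X.basicOpen a) := ⟨⟨z, hxU'⟩⟩
    exact RingHom.ker_ne_top _ h1

end Groth.Agent.S1661
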