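import Groth.Statements.S16644
import Mathlib

set_option autoImplicit false
open QuadZ

namespace Groth.Agent.S16644


/-- For odd n, the discriminant of the universal quadratic form Σ_{i ≤ j} A_{ij} x_i x_j in n variables
(variables A_{ij} indexed by unordered pairs), i.e. the determinant of the symmetric matrix with
diagonal entries 2 A_{ii} and off-diagonal entries A_{ij}, is divisible by 2 in the integral
polynomial ring ℤ[A_{ij}] (so the half-discriminant is an integral polynomial). -/
theorem result (n : ℕ) (hn : Odd n) :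
    (2 : MvPolynomial (Sym2 (Fin n)) ℤ) ∣
      (Matrix.of fun i j : Fin n =>
        if i = j then 2 * MvPolynomial.X (R := ℤ) (σ := Sym2 (Fin n)) (Sym2.mk i j)
        else MvPolynomial.X (R := ℤ) (σ := Sym2 (Fin n)) (Sym2.mk i j)).det := by
  set M : Matrix (Fin n) (Fin n) (MvPolynomial (Sym2 (Fin n)) ℤ) := (Matrix.of fun i j : Fin n =>
        if i = j then 2 * MvPolynomial.X (R := ℤ) (σ := Sym2 (Fin n)) (Sym2.mk i j)
        else MvPolynomial.X (R := ℤ) (σ := Sym2 (Fin n)) (Sym2.mk i j)) with hM
  -- the skew-symmetric lift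
  let N : Matrix (Fin n) (Fin n) (MvPolynomial (Sym2 (Fin n)) ℤ) := Matrix.of fun i j : Fin n =>
        if i = j then 0 else if i < j then MvPolynomial.X (Sym2.mk i j) else - MvPolynomial.X (Sym2.mk i j)
  have hNt : N.transpose = -N := by
    ext i j
    simp only [N, Matrix.transpose_apply, Matrix.of_apply, Matrix.neg_apply]
    rcases lt_trichotomy i j with h | h | h
    · have h1 : j ≠ i := ne_of_gt h
      have h2 : i ≠ j := ne_of_lt h
      have h3 : ¬ j < i := not_lt.mpr h.le
      simp [h1, h2, h3, h, Sym2.eq_swap]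
    · subst h; simp
    · have h1 : j ≠ i := ne_of_lt h
      have h2 : i ≠ j := ne_of_gt h
      have h3 : ¬ i < j := not_lt.mpr h.le
      simp [h1, h2, h3, h, Sym2.eq_swap]
  have hNdet : N.det = 0 := by
    have h1 : N.det = - N.det := by
      conv_lhs => rw [← Matrix.det_transpose, hNt, Matrix.det_neg, Fintype.card_fin, hn.neg_one_pow]
      simp
    have h2 : (2 : MvPolynomial (Sym2 (Fin n)) ℤ) * N.det = 0 := by
      rw [two_mul]; nth_rewrite 1 [h1]; simp
    rcases mul_eq_zero.mp h2 with h | h
    · exfalso
      have := congrArg (MvPolynomial.coeff 0) h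
      simp [MvPolynomial.coeff_zero_C] at this
      have h3 : (2 : MvPolynomial (Sym2 (Fin n)) ℤ) = MvPolynomial.C 2 := by simp
      rw [h3, MvPolynomial.coeff_zero_C] at this
      norm_num at this
    · exact h
  let φ : MvPolynomial (Sym2 (Fin n)) ℤ →+* MvPolynomial (Sym2 (Fin n)) (ZMod 2) :=
    MvPolynomial.map (Int.castRingHom (ZMod 2))
  have hMN : φ.mapMatrix M = φ.mapMatrix N := by
    ext i j
    simp only [RingHom.mapMatrix_apply, Matrix.map_apply, M, N, Matrix.of_apply]
    by_cases hij : i = j
    · subst hij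
      simp only [if_true, map_mul, map_zero]
      have : φ 2 = 0 := by
        have : (2 : MvPolynomial (Sym2 (Fin n)) ℤ) = MvPolynomial.C 2 := by simp
        rw [this]
        simp only [φ, MvPolynomial.map_C]
        have : (Int.castRingHom (ZMod 2)) 2 = 0 := by decide
        rw [this, map_zero]
      rw [this, zero_mul]
    · simp only [if_neg hij]
      by_cases hlt : i < j
      · simp [hlt]
      · simp only [if_neg hlt, map_neg]
        rw [CharTwo.neg_eq]
  have hdet : φ M.det = 0 := by
    rw [RingHom.map_det, hMN, ← RingHom.map_det, hNdet, map_zero]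
  have h2 : (2 : MvPolynomial (Sym2 (Fin n)) ℤ) = MvPolynomial.C 2 := by simp
  rw [h2, MvPolynomial.C_dvd_iff_dvd_coeff]
  intro m
  have := congrArg (MvPolynomial.coeff m) hdet
  simp only [φ, MvPolynomial.coeff_map, MvPolynomial.coeff_zero] at this
  exact (ZMod.intCast_zmod_eq_zero_iff_dvd _ 2).mp this

end Groth.Agent.S16644
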