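import Groth.Statements.S6370
import Mathlib
import Groth.Agent.S0556

set_option autoImplicit false
universe u
open CAlg

namespace Groth.Agent.S6370

/-- For a one-dimensional Noetherian domain A with fraction field K, a finite field extension L of K
(separable or not) and B the integral closure of A in L: B is a Dedekind domain, Spec B → Spec A is
surjective and has finite fibres, and at every maximal ideal Q of B the residue field B/Q is finite
over A/(Q ∩ A). -/
theorem result (A K L B : Type u) [CommRing A] [IsDomain A]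
    [IsNoetherianRing A] (hdim : ringKrullDim A = 1) [Field K] [Algebra A K] [IsFractionRing A K]
    [Field L] [Algebra K L] [FiniteDimensional K L] [Algebra A L] [IsScalarTower A K L]
    [CommRing B] [IsDomain B] [Algebra A B] [Algebra B L] [IsScalarTower A B L] [IsIntegralClosure B A L] :
    IsDedekindDomain B ∧ Function.Surjective (PrimeSpectrum.comap (algebraMap A B)) ∧
      (∀ p : PrimeSpectrum A, (PrimeSpectrum.comap (algebraMap A B) ⁻¹' {p}).Finite) ∧
      ∀ Q : Ideal B, Q.IsMaximal → Module.Finite (A ⧸ Q.comap (algebraMap A B)) (B ⧸ Q) := by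
  classical
  have hAL : Function.Injective (algebraMap A L) := by
    rw [IsScalarTower.algebraMap_eq A K L]
    exact (algebraMap K L).injective.comp (IsFractionRing.injective A K)
  have hBL : Function.Injective (algebraMap B L) := IsIntegralClosure.algebraMap_injective B A L
  haveI : Algebra.IsIntegral A B := IsIntegralClosure.isIntegral_algebra A L
  have hAB : Function.Injective (algebraMap A B) := by
    intro x y h
    apply hAL
    rw [IsScalarTower.algebraMap_apply A B L, h, ← IsScalarTower.algebraMap_apply]
  haveI : IsFractionRing B L := IsIntegralClosure.isFractionRing_of_finite_extension A K L B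
  haveI hBnoeth : IsNoetherianRing B := Groth.Agent.S0556.result A hdim K L B hBL
  haveI hK1 : Ring.KrullDimLE 1 A := Ring.krullDimLE_iff.mpr (by rw [hdim]; rfl)
  haveI hdimA : Ring.DimensionLEOne A :=
    ⟨fun hp hprime => Ring.krullDimLE_one_iff_of_noZeroDivisors.mp hK1 _ hp hprime⟩
  haveI hdimB : Ring.DimensionLEOne B := Ring.DimensionLEOne.of_isIntegral A B
  have hded : IsDedekindDomain B := by
    refine (isDedekindDomain_iff B L).mpr ⟨inferInstance, hBnoeth, hdimB, fun {x} hx => ?_⟩
    have hxA : IsIntegral A x := isIntegral_trans (R := A) (A := B) x hx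
    exact IsIntegralClosure.isIntegral_iff.mp hxA
  haveI := hded
  -- A is not a field
  have hAfield : ¬ IsField A := by
    intro hf
    have := ringKrullDim_eq_zero_of_isField hf
    rw [hdim] at this
    exact one_ne_zero this
  refine ⟨hded, ?_, ?_, ?_⟩
  · intro p
    obtain ⟨Q, -, hQprime, hQ⟩ := Ideal.exists_ideal_over_prime_of_isIntegral p.asIdeal (⊥ : Ideal B)
      (by
        rw [← RingHom.ker_eq_comap_bot, (RingHom.injective_iff_ker_eq_bot _).mp hAB]
        exact bot_le)
    exact ⟨⟨Q, hQprime⟩, PrimeSpectrum.ext hQ⟩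
  · intro p
    by_cases hp : p.asIdeal = ⊥
    · refine Set.Finite.subset (Set.finite_singleton (⟨⊥, Ideal.isPrime_bot⟩ : PrimeSpectrum B)) ?_
      intro Q hQ
      rw [Set.mem_preimage, Set.mem_singleton_iff] at hQ
      rw [Set.mem_singleton_iff]
      apply PrimeSpectrum.ext
      show Q.asIdeal = ⊥
      apply Ideal.eq_bot_of_comap_eq_bot (R := A)
      have := congrArg PrimeSpectrum.asIdeal hQ
      rw [← hp, ← this]
      rfl
    · haveI hpmax : p.asIdeal.IsMaximal := Ideal.IsPrime.isMaximal p.2 hp
      haveI : Module.IsTorsionFree A B := Module.isTorsionFree_iff_algebraMap_injective.mpr hAB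
      have hfin := IsDedekindDomain.primesOver_finite p.asIdeal B
      refine Set.Finite.subset (hfin.preimage (f := PrimeSpectrum.asIdeal)
        (fun x _ y _ h => PrimeSpectrum.ext h)) ?_
      intro Q hQ
      rw [Set.mem_preimage, Set.mem_singleton_iff] at hQ
      rw [Set.mem_preimage]
      refine ⟨Q.2, ⟨?_⟩⟩
      have := congrArg PrimeSpectrum.asIdeal hQ
      exact this.symm
  · intro Q hQ
    have hQne : Q ≠ ⊥ := by
      rintro rfl
      have hBf : IsField B := Ring.isField_iff_maximal_bot.mpr hQ
      exact hAfield (isField_of_isIntegral_of_isField hAB hBf)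
    obtain ⟨b, hbQ, hb0⟩ := Submodule.exists_mem_ne_zero_of_ne_bot hQne
    have halg : IsAlgebraic A b := (Algebra.IsIntegral.isIntegral (R := A) b).isAlgebraic
    obtain ⟨r, hr0, hdvd⟩ := halg.exists_nonzero_dvd (mem_nonZeroDivisors_of_ne_zero hb0)
    have hrQ : algebraMap A B r ∈ Q := Ideal.mem_of_dvd Q hdvd hbQ
    obtain ⟨ι, hιdef⟩ : ∃ ι : B →ₗ[A] L, ∀ x, ι x = algebraMap B L x :=
      ⟨(IsScalarTower.toAlgHom A B L).toLinearMap, fun x => rfl⟩
    have hι : Function.Injective ι := fun x y h => hBL (by rw [← hιdef, ← hιdef, h])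
    have hN := Groth.Agent.Helper12.KA.isNoetherian_quot A hdim K L B ι hι r hr0
    have hker : Groth.Agent.Helper12.KA.aN B r 1 ≤
        LinearMap.ker (Ideal.Quotient.mkₐ A Q).toLinearMap := by
      intro x hx
      obtain ⟨y, rfl⟩ := Groth.Agent.Helper12.KA.mem_aN.mp hx
      rw [LinearMap.mem_ker]
      show Ideal.Quotient.mk Q (r ^ 1 • y) = 0
      rw [Ideal.Quotient.eq_zero_iff_mem, pow_one, Algebra.smul_def]
      exact Q.mul_mem_right _ hrQ
    have hsurj : Function.Surjective
        ((Groth.Agent.Helper12.KA.aN B r 1).liftQ (Ideal.Quotient.mkₐ A Q).toLinearMap hker) := by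
      intro y
      obtain ⟨y, rfl⟩ := Ideal.Quotient.mk_surjective y
      exact ⟨Submodule.Quotient.mk y, rfl⟩
    haveI : IsNoetherian A (B ⧸ Q) := isNoetherian_of_surjective _ (LinearMap.range_eq_top.mpr hsurj)
    haveI : Module.Finite A (B ⧸ Q) := inferInstance
    exact Module.Finite.of_restrictScalars_finite A _ _

end Groth.Agent.S6370
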