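import Groth.Statements.S1665
import Mathlib
import Groth.Agent.S6370

set_option autoImplicit false
universe u
open Variety

namespace Groth.Agent.S1665aux

open Polynomial

lemma exists_inv_of_isIntegral_inv {B K : Type*} [CommRing B] [Field K] [Algebra B K]
    (C : Subalgebra B K) (u : C) (hu : (u : K) ≠ 0) (hint : IsIntegral B (u : K)⁻¹) :
    ∃ w : C, u * w = 1 := by
  obtain ⟨p, hp, hpe⟩ := hint
  letI : Invertible ((u : K)⁻¹) := ⟨(u : K), mul_inv_cancel₀ hu, inv_mul_cancel₀ hu⟩
  have h1 : Polynomial.eval₂ (algebraMap B K) (u : K) p.reverse = 0 :=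
    (Polynomial.eval₂_reverse_eq_zero_iff (algebraMap B K) ((u : K)⁻¹) p).mpr hpe
  have h2 : p.reverse.coeff 0 = 1 := by rw [Polynomial.coeff_zero_reverse]; exact hp
  have h3 := Polynomial.divX_mul_X_add p.reverse
  rw [h2] at h3
  rw [← h3, Polynomial.eval₂_add, Polynomial.eval₂_mul, Polynomial.eval₂_X, Polynomial.eval₂_C,
    map_one] at h1
  refine ⟨-(Polynomial.aeval u p.reverse.divX), ?_⟩
  apply Subtype.ext
  rw [Subalgebra.coe_mul, Subalgebra.coe_neg, Polynomial.aeval_subalgebra_coe, Subalgebra.coe_one,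
    Polynomial.aeval_def]
  linear_combination (-1 : K) * h1

lemma exists_conductor {B K : Type*} [CommRing B] [IsDomain B] [Field K] [Algebra B K]
    [IsFractionRing B K] (C : Subalgebra B K) (hfg : C.toSubmodule.FG) :
    ∃ b : B, b ≠ 0 ∧ ∀ c ∈ C, ∃ r : B, algebraMap B K r = b • c := by
  obtain ⟨s, hs⟩ := hfg
  obtain ⟨b, hb⟩ := IsLocalization.exist_integer_multiples_of_finset (nonZeroDivisors B) s
  refine ⟨b, nonZeroDivisors.ne_zero b.2, fun c hc => ?_⟩
  have hc' : c ∈ Submodule.span B (s : Set K) := by rw [hs]; exact hc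
  clear hc
  induction hc' using Submodule.span_induction with
  | mem z hz => exact RingHom.mem_rangeS.mp (hb z hz)
  | zero => exact ⟨0, by simp⟩
  | add z w _ _ hz hw =>
    obtain ⟨r, hr⟩ := hz
    obtain ⟨r', hr'⟩ := hw
    exact ⟨r + r', by rw [map_add, hr, hr', smul_add]⟩
  | smul a z _ hz =>
    obtain ⟨r, hr⟩ := hz
    exact ⟨a * r, by rw [map_mul, hr, Algebra.smul_def a z, mul_smul_comm]⟩

lemma part3 {B K : Type*} [CommRing B] [IsDomain B] [IsNoetherianRing B] [Field K] [Algebra B K]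
    [IsFractionRing B K] (hdim : ringKrullDim B = 1) (x y : integralClosure B K)
    (hxJ : x ∈ (⊥ : Ideal (integralClosure B K)).jacobson) :
    ∃ n : ℕ, (x ^ n * y).1 ∈ (algebraMap B K).range := by
  classical
  have hmem : ∀ z ∈ ({x.1, y.1} : Set K), IsIntegral B z := by
    intro z hz
    rcases hz with rfl | rfl
    · exact x.2
    · exact y.2
  obtain ⟨C, hCdef⟩ : ∃ C : Subalgebra B K, C = Algebra.adjoin B {x.1, y.1} := ⟨_, rfl⟩
  have hCle : C ≤ integralClosure B K := by
    rw [hCdef]; exact Algebra.adjoin_le hmem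
  have hint : ∀ c : C, IsIntegral B (c : K) := fun c => hCle c.2
  haveI : Algebra.IsIntegral B C :=
    ⟨fun c => (isIntegral_algHom_iff C.val Subtype.val_injective).mp (hint c)⟩
  haveI hK1 : Ring.KrullDimLE 1 B := Ring.krullDimLE_iff.mpr (by rw [hdim]; rfl)
  haveI hdimB : Ring.DimensionLEOne B :=
    ⟨fun hp hprime => Ring.krullDimLE_one_iff_of_noZeroDivisors.mp hK1 _ hp hprime⟩
  haveI hdimC : Ring.DimensionLEOne C := Ring.DimensionLEOne.of_isIntegral B C
  have hfg : C.toSubmodule.FG := by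
    rw [hCdef]; exact fg_adjoin_of_finite (Set.toFinite _) hmem
  obtain ⟨b, hb0, hb⟩ := exists_conductor C hfg
  obtain ⟨xC, hxC⟩ : ∃ xC : C, (xC : K) = x.1 :=
    ⟨⟨x.1, by rw [hCdef]; exact Algebra.subset_adjoin (Set.mem_insert _ _)⟩, rfl⟩
  obtain ⟨yC, hyC⟩ : ∃ yC : C, (yC : K) = y.1 :=
    ⟨⟨y.1, by rw [hCdef]; exact Algebra.subset_adjoin (Set.mem_insert_of_mem _ rfl)⟩, rfl⟩
  obtain ⟨bC, hbC⟩ : ∃ bC : C, (bC : K) = algebraMap B K b := ⟨algebraMap B C b, rfl⟩
  have hbC0 : bC ≠ 0 := by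
    intro h
    have h1 := congrArg Subtype.val h
    rw [hbC, Subalgebra.coe_zero] at h1
    exact hb0 ((map_eq_zero_iff (algebraMap B K) (IsFractionRing.injective B K)).mp h1)
  have hxmax : ∀ 𝔫 : Ideal C, 𝔫.IsMaximal → xC ∈ 𝔫 := by
    intro 𝔫 h𝔫
    by_contra hxn
    obtain ⟨c, i, hi, hci⟩ := h𝔫.exists_inv hxn
    obtain ⟨c', hc'⟩ : ∃ c' : integralClosure B K, (c' : K) = (c : K) :=
      ⟨⟨c.1, hCle c.2⟩, rfl⟩
    have hunit : IsUnit (x * (-c') + 1) := (Ideal.mem_jacobson_bot.mp hxJ) (-c')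
    obtain ⟨w', hw'⟩ := hunit.exists_right_inv
    have hiK : (i : K) = 1 - (c : K) * x.1 := by
      have h1 := congrArg Subtype.val hci
      rw [Subalgebra.coe_add, Subalgebra.coe_mul, Subalgebra.coe_one, hxC] at h1
      linear_combination h1
    have hiw : (i : K) * (w' : K) = 1 := by
      have h1 := congrArg Subtype.val hw'
      rw [Subalgebra.coe_mul, Subalgebra.coe_add, Subalgebra.coe_mul, Subalgebra.coe_neg,
        Subalgebra.coe_one, hc'] at h1
      rw [hiK]; linear_combination h1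
    have hi0 : (i : K) ≠ 0 := left_ne_zero_of_mul_eq_one hiw
    have hinv : (i : K)⁻¹ = (w' : K) := (eq_inv_of_mul_eq_one_right hiw).symm
    obtain ⟨w, hw⟩ := exists_inv_of_isIntegral_inv C i hi0 (by rw [hinv]; exact w'.2)
    exact h𝔫.ne_top ((Ideal.eq_top_iff_one 𝔫).mpr (by rw [← hw]; exact 𝔫.mul_mem_right _ hi))
  have hxrad : xC ∈ (Ideal.span {bC}).radical := by
    rw [Ideal.radical_eq_sInf, Ideal.mem_sInf]
    rintro J ⟨hJ, hJp⟩
    have hJ0 : J ≠ ⊥ := by
      rintro rfl
      exact hbC0 ((Ideal.mem_bot).mp (hJ (Ideal.mem_span_singleton_self bC)))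
    exact hxmax J (hJp.isMaximal hJ0)
  obtain ⟨n, hn⟩ := hxrad
  obtain ⟨c, hc⟩ := Ideal.mem_span_singleton'.mp hn
  refine ⟨n, ?_⟩
  obtain ⟨r, hr⟩ := hb (c * yC : C).1 (c * yC).2
  refine RingHom.mem_range.mpr ⟨r, ?_⟩
  rw [hr]
  have e := congrArg Subtype.val hc
  rw [Subalgebra.coe_mul, Subalgebra.coe_pow, hxC, hbC] at e
  rw [Subalgebra.coe_mul, Subalgebra.coe_mul, Subalgebra.coe_pow, hyC, Algebra.smul_def]
  linear_combination (y.1) * e

lemma finite_max {B B' : Type*} [CommRing B] [CommRing B'] [Algebra B B'] [Algebra.IsIntegral B B']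
    (hres : ∀ p : PrimeSpectrum B, (PrimeSpectrum.comap (algebraMap B B') ⁻¹' {p}).Finite)
    (hsl : Finite (MaximalSpectrum B)) : Finite (MaximalSpectrum B') := by
  have hS : (⋃ m : MaximalSpectrum B,
      PrimeSpectrum.comap (algebraMap B B') ⁻¹' {m.toPrimeSpectrum}).Finite :=
    Set.finite_iUnion (fun m => hres _)
  haveI := hS.to_subtype
  let f : MaximalSpectrum B' → ↥(⋃ m : MaximalSpectrum B,
      PrimeSpectrum.comap (algebraMap B B') ⁻¹' {m.toPrimeSpectrum}) := fun M =>
    ⟨M.toPrimeSpectrum, by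
      haveI := M.isMaximal
      refine Set.mem_iUnion.mpr ⟨⟨M.asIdeal.comap (algebraMap B B'),
        Ideal.isMaximal_comap_of_isIntegral_of_isMaximal _⟩, ?_⟩
      exact PrimeSpectrum.ext rfl⟩
  refine Finite.of_injective f (fun M M' h => ?_)
  have h1 : M.toPrimeSpectrum = M'.toPrimeSpectrum := congrArg Subtype.val h
  exact MaximalSpectrum.toPrimeSpectrum_injective h1

end Groth.Agent.S1665aux

namespace Groth.Agent.S1665

/-- Let B be a Noetherian domain of dimension one with finitely many maximal ideals and B' its integral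
closure in its fraction field. Then B' is a Dedekind domain with finitely many maximal ideals, and
for every nonzero x in the Jacobson radical of B' and every y ∈ B' some power x^n satisfies x^n y ∈
B. -/
theorem result (B : Type u) [CommRing B] [IsDomain B] [IsNoetherianRing B]
    (hdim : ringKrullDim B = 1) (hsl : Finite (MaximalSpectrum B)) :
    IsDedekindDomain (integralClosure B (FractionRing B)) ∧ Finite (MaximalSpectrum (integralClosure B (FractionRing B))) ∧
      ∀ x : integralClosure B (FractionRing B), x ≠ 0 → x ∈ (⊥ : Ideal (integralClosure B (FractionRing B))).jacobson →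
        ∀ y : integralClosure B (FractionRing B), ∃ n : ℕ, (x ^ n * y).1 ∈ (algebraMap B (FractionRing B)).range := by
  obtain ⟨hded, -, hres, -⟩ := Groth.Agent.S6370.result B (FractionRing B) (FractionRing B)
    (integralClosure B (FractionRing B)) hdim
  haveI : Algebra.IsIntegral B (integralClosure B (FractionRing B)) :=
    IsIntegralClosure.isIntegral_algebra B (FractionRing B)
  exact ⟨hded, S1665aux.finite_max hres hsl, fun x _ hxJ y => S1665aux.part3 hdim x y hxJ⟩

end Groth.Agent.S1665
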