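import Groth.Statements.S16667
import Groth.Agent.H29.SkLib
import Groth.Agent.H29.DepthLocal
import Groth.Agent.H29.Depth
import Groth.Agent.H29.DepthLib

set_option autoImplicit false
universe u
open CAlg

namespace Groth.Agent.S16667

/-- Let A be a Noetherian integral domain satisfying Serre's condition (S_2), with fraction field K. An
element of K which lies in the localization A_p for every prime p of A with depth(A_p) = 1 lies in
A. -/
theorem result {A : Type u} [CommRing A] [IsDomain A]
    [IsNoetherianRing A] (hS2 : LocCoh.HasSk 2 A A) (x : FractionRing A)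
    (hx : ∀ (p : Ideal A) [p.IsPrime],
      LocCoh.depth (Localization.AtPrime p) (Localization.AtPrime p) = 1 →
        x ∈ Set.range (algebraMap (Localization.AtPrime p) (FractionRing A))) :
    x ∈ Set.range (algebraMap A (FractionRing A)) := by
  classical
  open Groth.Agent.H29 in
  obtain ⟨b, a, ha, hxa⟩ := IsFractionRing.div_surjective (A := A) x
  have ha0 : a ≠ 0 := nonZeroDivisors.ne_zero ha
  have haK : algebraMap A (FractionRing A) a ≠ 0 := by
    intro h
    exact ha0 ((IsFractionRing.injective A (FractionRing A)) (by rw [h, map_zero]))
  by_cases hb : ∃ c, b = a * c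
  · obtain ⟨c, rfl⟩ := hb
    refine ⟨c, ?_⟩
    rw [← hxa, map_mul]
    field_simp
  · exfalso
    set y : QuotSMulTop a A := Submodule.Quotient.mk b with hy
    have hy0 : y ≠ 0 := by
      intro h
      rw [hy, Submodule.Quotient.mk_eq_zero] at h
      obtain ⟨c, -, hc⟩ := (Submodule.mem_smul_pointwise_iff_exists _ _ _).mp h
      exact hb ⟨c, by simpa using hc.symm⟩
    obtain ⟨p, hp, hle⟩ := exists_le_isAssociatedPrime_of_isNoetherianRing A y hy0
    have := hp.isPrime
    have hcol : ∀ s u : A, s * b = a * u → s ∈ p := by
      intro s u hsu
      apply hle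
      rw [Submodule.mem_colon_singleton, Submodule.mem_bot, hy, ← Submodule.Quotient.mk_smul,
        Submodule.Quotient.mk_eq_zero, smul_eq_mul, hsu]
      exact Submodule.smul_mem_pointwise_smul u a ⊤ Submodule.mem_top
    have hap : a ∈ p := hcol a b (mul_comm a b ▸ rfl)
    have h1 : IsLocalRing.maximalIdeal (Localization.AtPrime p) ∈
        associatedPrimes (Localization.AtPrime p) (LocalizedModule.AtPrime p (QuotSMulTop a A)) :=
      Module.associatedPrimes.mem_associatedPrimes_atPrime_of_mem_associatedPrimes hp
    have h2 : LocCoh.depth (Localization.AtPrime p)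
        (LocalizedModule p.primeCompl (QuotSMulTop a A)) = 0 :=
      (depth_eq_zero_iff_mem_ass _ _).mpr h1
    have e := quotSMulTopLocalizedEquiv A A p a
    have h3 : LocCoh.depth (Localization.AtPrime p)
        (QuotSMulTop (algebraMap A (Localization.AtPrime p) a)
          (LocalizedModule p.primeCompl A)) = 0 := by
      rw [← h2]
      exact idealDepth_congr _ e
    have : Module.Flat A (Localization.AtPrime p) :=
      IsLocalization.flat (Localization.AtPrime p) p.primeCompl
    have hregA : IsSMulRegular A a := by
      intro c d hcd
      exact mul_left_cancel₀ ha0 hcd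
    have hreg : IsSMulRegular (LocalizedModule p.primeCompl A)
        (algebraMap A (Localization.AtPrime p) a) :=
      hregA.of_flat_of_isBaseChange (IsLocalizedModule.isBaseChange p.primeCompl
        (Localization.AtPrime p) (LocalizedModule.mkLinearMap p.primeCompl A))
    have hxm : algebraMap A (Localization.AtPrime p) a ∈
        IsLocalRing.maximalIdeal (Localization.AtPrime p) :=
      (IsLocalization.AtPrime.to_map_mem_maximal_iff (Localization.AtPrime p) p a).mpr hap
    have : Nontrivial (LocalizedModule p.primeCompl A) :=
      ((IsLocalizedModule.linearEquiv p.primeCompl (LocalizedModule.mkLinearMap p.primeCompl A)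
        (Algebra.linearMap A (Localization.AtPrime p)))).toEquiv.nontrivial
    have h4 := depth_quotSMulTop_add_one (Localization.AtPrime p)
      (LocalizedModule p.primeCompl A) _ hxm hreg
    rw [h3, zero_add, depth_localizedModule_self] at h4
    obtain ⟨z, hz⟩ := hx p h4.symm
    obtain ⟨u, s, rfl⟩ := IsLocalization.exists_mk'_eq p.primeCompl z
    have h5 : x * algebraMap A (FractionRing A) s = algebraMap A (FractionRing A) u := by
      rw [← hz, IsScalarTower.algebraMap_apply A (Localization.AtPrime p) (FractionRing A) s,
        ← map_mul, IsLocalization.mk'_spec,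
        ← IsScalarTower.algebraMap_apply A (Localization.AtPrime p) (FractionRing A)]
    have h6 : (s : A) * b = a * u := by
      apply IsFractionRing.injective A (FractionRing A)
      rw [map_mul, map_mul, ← h5, ← hxa]
      field_simp
    exact s.2 (hcol s u h6)

end Groth.Agent.S16667
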