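import Groth.Statements.S16688
import Mathlib
import Groth.Agent.H27.HopfInt
-- import your own Groth.Agent.* helpers here

set_option autoImplicit false
universe u v w
open ComodSub

namespace Groth.Agent.S16688


open TensorProduct

section

variable {k : Type u} [CommRing k] {A : Type v} [CommRing A] [HopfAlgebra k A]
  {M : Type w} [AddCommGroup M] [Module k M]

/-- `a ⊗ m ↦ m ⊗ S a`. -/
noncomputable def sg : A ⊗[k] M →ₗ[k] M ⊗[k] A :=
  (TensorProduct.comm k A M).toLinearMap ∘ₗ
    (HopfAlgebraStruct.antipode (R := k) (A := A)).rTensor M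

lemma sg_tmul (a : A) (m : M) :
    sg (k := k) (a ⊗ₜ[k] m) = m ⊗ₜ[k] HopfAlgebraStruct.antipode (R := k) (A := A) a := by
  simp [sg]

/-- `a ⊗ (b ⊗ m) ↦ m ⊗ (S b ⊗ S a)`. -/
noncomputable def Th : A ⊗[k] (A ⊗[k] M) →ₗ[k] M ⊗[k] (A ⊗[k] A) :=
  (TensorProduct.comm k (A ⊗[k] A) M).toLinearMap ∘ₗ
    (TensorProduct.map (HopfAlgebraStruct.antipode (R := k) (A := A))
        (HopfAlgebraStruct.antipode (R := k) (A := A)) ∘ₗ
      (TensorProduct.comm k A A).toLinearMap).rTensor M ∘ₗ
    (TensorProduct.assoc k A A M).symm.toLinearMap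

lemma Th_tmul (a b : A) (m : M) :
    Th (k := k) (a ⊗ₜ[k] (b ⊗ₜ[k] m)) =
      m ⊗ₜ[k] (HopfAlgebraStruct.antipode (R := k) (A := A) b ⊗ₜ[k]
        HopfAlgebraStruct.antipode (R := k) (A := A) a) := by
  simp [Th]

lemma aux1 (l : ComodSub.LComod k A M) (t : A ⊗[k] M) :
    TensorProduct.assoc k M A A ((ComodSub.rcoactOfLeft l).rTensor A (sg t)) =
      Th (l.coact.lTensor A t) := by
  have h : ∀ (a : A) (u : A ⊗[k] M),
      TensorProduct.assoc k M A A
        (sg u ⊗ₜ[k] HopfAlgebraStruct.antipode (R := k) (A := A) a) = Th (a ⊗ₜ[k] u) := by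
    intro a u
    induction u using TensorProduct.induction_on with
    | zero => simp
    | tmul b m' => rw [sg_tmul, TensorProduct.assoc_tmul, Th_tmul]
    | add x y hx hy =>
      simp only [map_add, TensorProduct.add_tmul, TensorProduct.tmul_add, hx, hy]
  induction t using TensorProduct.induction_on with
  | zero => simp
  | tmul a m =>
    rw [sg_tmul, LinearMap.rTensor_tmul, LinearMap.lTensor_tmul]
    exact h a (l.coact m)
  | add x y hx hy => simp only [map_add, hx, hy]

lemma aux2 (t : A ⊗[k] M) :
    (CoalgebraStruct.comul (R := k) (A := A)).lTensor M (sg t) =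
      Th (TensorProduct.assoc k A A M
        ((CoalgebraStruct.comul (R := k) (A := A)).rTensor M t)) := by
  have h : ∀ (m : M) (y : A ⊗[k] A), Th (TensorProduct.assoc k A A M (y ⊗ₜ[k] m)) =
      m ⊗ₜ[k] (TensorProduct.map (HopfAlgebraStruct.antipode (R := k) (A := A))
        (HopfAlgebraStruct.antipode (R := k) (A := A)) (TensorProduct.comm k A A y)) := by
    intro m y
    induction y using TensorProduct.induction_on with
    | zero => simp
    | tmul x x' =>
      rw [TensorProduct.assoc_tmul, Th_tmul, TensorProduct.comm_tmul, TensorProduct.map_tmul]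
    | add x y hx hy =>
      simp only [map_add, TensorProduct.add_tmul, TensorProduct.tmul_add, hx, hy]
  induction t using TensorProduct.induction_on with
  | zero => simp
  | tmul a m =>
    rw [sg_tmul, LinearMap.lTensor_tmul, LinearMap.rTensor_tmul, h]
    have := Groth.Agent.H27.HopfInt.comul_antipode k A a
    rw [← this]
  | add x y hx hy => simp only [map_add, hx, hy]

lemma aux3 (t : A ⊗[k] M) :
    (CoalgebraStruct.counit (R := k) (A := A)).lTensor M (sg t) =
      TensorProduct.comm k k M ((CoalgebraStruct.counit (R := k) (A := A)).rTensor M t) := by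
  induction t using TensorProduct.induction_on with
  | zero => simp
  | tmul a m =>
    rw [sg_tmul, LinearMap.lTensor_tmul, LinearMap.rTensor_tmul, TensorProduct.comm_tmul,
      HopfAlgebra.counit_antipode]
  | add x y hx hy => simp only [map_add, hx, hy]

end


/-- Let `k` be a commutative ring, `A` a commutative Hopf algebra over `k` with antipode `S`, and `M` a
`k`-module with a left `A`-comodule structure `m ↦ Σ m₋₁ ⊗ m₀`. Then the map `M → M ⊗ A`, `m ↦ Σ m₀
⊗ S(m₋₁)`, is coassociative and counital: it is the coaction of a right `A`-comodule structure on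
`M` (a right structure is determined by its coaction, so this structure is unique). -/
theorem result (k : Type u) [CommRing k]
    (A : Type v) [CommRing A] [HopfAlgebra k A]
    (M : Type w) [AddCommGroup M] [Module k M] (l : ComodSub.LComod k A M) :
    ∃ c : HopfRep.Comod k A M, c.coact = ComodSub.rcoactOfLeft l := by
  refine ⟨{ coact := ComodSub.rcoactOfLeft l, coassoc := ?_, counit_comp := ?_ }, rfl⟩
  · apply LinearMap.ext
    intro m
    simp only [LinearMap.comp_apply, LinearEquiv.coe_coe]
    have hl := LinearMap.congr_fun l.coassoc m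
    simp only [LinearMap.comp_apply, LinearEquiv.coe_coe] at hl
    have e : ComodSub.rcoactOfLeft l m = sg (l.coact m) := rfl
    rw [e, aux1, hl, ← aux2]
  · apply LinearMap.ext
    intro m
    simp only [LinearMap.comp_apply, LinearMap.flip_apply, TensorProduct.mk_apply]
    have hl := LinearMap.congr_fun l.counit_comp m
    simp only [LinearMap.comp_apply, TensorProduct.mk_apply] at hl
    have e : ComodSub.rcoactOfLeft l m = sg (l.coact m) := rfl
    rw [e, aux3, hl, TensorProduct.comm_tmul]

end Groth.Agent.S16688
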