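import Groth.Statements.S16689
import Mathlib
import Groth.Agent.H27.HopfInt
-- import your own Groth.Agent.* helpers here

set_option autoImplicit false
universe u v w
open ComodSub

namespace Groth.Agent.S16689


open TensorProduct

section

variable {k : Type u} [CommRing k] {A : Type v} [CommRing A] [HopfAlgebra k A]
  {M : Type w} [AddCommGroup M] [Module k M]

/-- `m ⊗ a ↦ S a ⊗ m`. -/
noncomputable def sg : M ⊗[k] A →ₗ[k] A ⊗[k] M :=
  (TensorProduct.comm k M A).toLinearMap ∘ₗ
    (HopfAlgebraStruct.antipode (R := k) (A := A)).lTensor M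

lemma sg_tmul (m : M) (a : A) :
    sg (k := k) (m ⊗ₜ[k] a) = HopfAlgebraStruct.antipode (R := k) (A := A) a ⊗ₜ[k] m := by
  simp [sg]

/-- `(m ⊗ a) ⊗ b ↦ S b ⊗ (S a ⊗ m)`. -/
noncomputable def Th : (M ⊗[k] A) ⊗[k] A →ₗ[k] A ⊗[k] (A ⊗[k] M) :=
  (TensorProduct.assoc k A A M).toLinearMap ∘ₗ
    (TensorProduct.comm k M (A ⊗[k] A)).toLinearMap ∘ₗ
    (TensorProduct.map (HopfAlgebraStruct.antipode (R := k) (A := A))
        (HopfAlgebraStruct.antipode (R := k) (A := A)) ∘ₗ
      (TensorProduct.comm k A A).toLinearMap).lTensor M ∘ₗ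
    (TensorProduct.assoc k M A A).toLinearMap

lemma Th_tmul (m : M) (a b : A) :
    Th (k := k) ((m ⊗ₜ[k] a) ⊗ₜ[k] b) =
      HopfAlgebraStruct.antipode (R := k) (A := A) b ⊗ₜ[k]
        (HopfAlgebraStruct.antipode (R := k) (A := A) a ⊗ₜ[k] m) := by
  simp [Th]

lemma aux1 (c : HopfRep.Comod k A M) (t : M ⊗[k] A) :
    (ComodSub.lcoactOfRight c).lTensor A (sg t) = Th (c.coact.rTensor A t) := by
  have h : ∀ (a : A) (u : M ⊗[k] A),
      HopfAlgebraStruct.antipode (R := k) (A := A) a ⊗ₜ[k] sg u = Th (u ⊗ₜ[k] a) := by
    intro a u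
    induction u using TensorProduct.induction_on with
    | zero => simp
    | tmul m' b => rw [sg_tmul, Th_tmul]
    | add x y hx hy =>
      simp only [map_add, TensorProduct.add_tmul, TensorProduct.tmul_add, hx, hy]
  induction t using TensorProduct.induction_on with
  | zero => simp
  | tmul m a =>
    rw [sg_tmul, LinearMap.rTensor_tmul, LinearMap.lTensor_tmul]
    exact h a (c.coact m)
  | add x y hx hy => simp only [map_add, hx, hy]

lemma aux2 (t : M ⊗[k] A) :
    TensorProduct.assoc k A A M ((CoalgebraStruct.comul (R := k) (A := A)).rTensor M (sg t)) =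
      Th ((TensorProduct.assoc k M A A).symm
        ((CoalgebraStruct.comul (R := k) (A := A)).lTensor M t)) := by
  have h : ∀ (m : M) (y : A ⊗[k] A), Th ((TensorProduct.assoc k M A A).symm (m ⊗ₜ[k] y)) =
      TensorProduct.assoc k A A M
        ((TensorProduct.map (HopfAlgebraStruct.antipode (R := k) (A := A))
          (HopfAlgebraStruct.antipode (R := k) (A := A)) (TensorProduct.comm k A A y)) ⊗ₜ[k] m) := by
    intro m y
    induction y using TensorProduct.induction_on with
    | zero => simp
    | tmul x x' =>
      rw [TensorProduct.assoc_symm_tmul, Th_tmul, TensorProduct.comm_tmul, TensorProduct.map_tmul,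
        TensorProduct.assoc_tmul]
    | add x y hx hy =>
      simp only [map_add, TensorProduct.add_tmul, TensorProduct.tmul_add, hx, hy]
  induction t using TensorProduct.induction_on with
  | zero => simp
  | tmul m a =>
    rw [sg_tmul, LinearMap.lTensor_tmul, LinearMap.rTensor_tmul, h]
    have := Groth.Agent.H27.HopfInt.comul_antipode k A a
    rw [← this]
  | add x y hx hy => simp only [map_add, hx, hy]

lemma aux3 (t : M ⊗[k] A) :
    (CoalgebraStruct.counit (R := k) (A := A)).rTensor M (sg t) =
      TensorProduct.comm k M k ((CoalgebraStruct.counit (R := k) (A := A)).lTensor M t) := by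
  induction t using TensorProduct.induction_on with
  | zero => simp
  | tmul m a =>
    rw [sg_tmul, LinearMap.lTensor_tmul, LinearMap.rTensor_tmul, TensorProduct.comm_tmul,
      HopfAlgebra.counit_antipode]
  | add x y hx hy => simp only [map_add, hx, hy]

end


/-- Let `k` be a commutative ring, `A` a commutative Hopf algebra over `k` with antipode `S`, and `M` a
`k`-module with a right `A`-comodule structure `m ↦ Σ m₀ ⊗ m₁`. Then the map `M → A ⊗ M`, `m ↦ Σ
S(m₁) ⊗ m₀`, is coassociative and counital: it is the coaction of a left `A`-comodule structure on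
`M` (a left structure is determined by its coaction, so this structure is unique). -/
theorem result (k : Type u) [CommRing k]
    (A : Type v) [CommRing A] [HopfAlgebra k A]
    (M : Type w) [AddCommGroup M] [Module k M] (c : HopfRep.Comod k A M) :
    ∃ l : ComodSub.LComod k A M, l.coact = ComodSub.lcoactOfRight c := by
  refine ⟨{ coact := ComodSub.lcoactOfRight c, coassoc := ?_, counit_comp := ?_ }, rfl⟩
  · apply LinearMap.ext
    intro m
    simp only [LinearMap.comp_apply, LinearEquiv.coe_coe]
    have hc := LinearMap.congr_fun c.coassoc m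
    simp only [LinearMap.comp_apply, LinearEquiv.coe_coe] at hc
    have h2 : c.coact.rTensor A (c.coact m) = (TensorProduct.assoc k M A A).symm
        ((CoalgebraStruct.comul (R := k) (A := A)).lTensor M (c.coact m)) := by
      rw [← hc, LinearEquiv.symm_apply_apply]
    have e : ComodSub.lcoactOfRight c m = sg (c.coact m) := rfl
    rw [e, aux1, h2, ← aux2]
  · apply LinearMap.ext
    intro m
    simp only [LinearMap.comp_apply, TensorProduct.mk_apply]
    have hc := LinearMap.congr_fun c.counit_comp m
    simp only [LinearMap.comp_apply, LinearMap.flip_apply, TensorProduct.mk_apply] at hc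
    have e : ComodSub.lcoactOfRight c m = sg (c.coact m) := rfl
    rw [e, aux3, hc, TensorProduct.comm_tmul]

end Groth.Agent.S16689
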