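import Groth.Statements.S16690
import Mathlib
import Groth.Agent.Lib.Helper7.HomComodR
-- import your own Groth.Agent.* helpers here

set_option autoImplicit false
universe u v w
open ComodSub

namespace Groth.Agent.S16690


open TensorProduct Groth.Agent.Helper7.HomComodR

section

variable {k : Type u} [CommRing k] {A : Type v} [AddCommGroup A] [Module k A] [Coalgebra k A]
  {M : Type w} [AddCommGroup M] [Module k M]

lemma hom_natural {N N' : Type*} [AddCommGroup N] [Module k N] [AddCommGroup N'] [Module k N']
    (f : N →ₗ[k] N') (X : N ⊗[k] Module.Dual k M) (m : M) :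
    hom (f.rTensor (Module.Dual k M) X) m = f (hom X m) := by
  induction X using TensorProduct.induction_on with
  | zero => simp
  | tmul n φ => rw [LinearMap.rTensor_tmul, hom_tmul, hom_tmul, map_smul]
  | add x y hx hy => simp only [map_add, LinearMap.add_apply, hx, hy]

/-- `g ↦ ldualFun c g` as a linear map. -/
noncomputable def L (c : HopfRep.Comod k A M) : Module.Dual k M →ₗ[k] (M →ₗ[k] A) where
  toFun g := ComodSub.ldualFun c g
  map_add' g g' := by
    apply LinearMap.ext
    intro m
    simp only [ComodSub.ldualFun_apply, LinearMap.add_apply, LinearMap.rTensor_add, map_add]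
  map_smul' r g := by
    apply LinearMap.ext
    intro m
    simp only [ComodSub.ldualFun_apply, LinearMap.smul_apply, LinearMap.rTensor_smul, map_smul,
      RingHom.id_apply]

/-- `a ⊗ (b ⊗ φ) ↦ (m ↦ φ m • (a ⊗ b))`. -/
noncomputable def Ev2 : A ⊗[k] (A ⊗[k] Module.Dual k M) →ₗ[k] (M →ₗ[k] A ⊗[k] A) :=
  hom ∘ₗ (TensorProduct.assoc k A A (Module.Dual k M)).symm.toLinearMap

lemma Ev2_assoc (Z : (A ⊗[k] A) ⊗[k] Module.Dual k M) :
    Ev2 (TensorProduct.assoc k A A (Module.Dual k M) Z) = hom Z := by
  show hom ((TensorProduct.assoc k A A (Module.Dual k M)).symm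
    (TensorProduct.assoc k A A (Module.Dual k M) Z)) = hom Z
  rw [LinearEquiv.symm_apply_apply]

lemma Ev2_tmul (a : A) (Y : A ⊗[k] Module.Dual k M) (m : M) :
    Ev2 (a ⊗ₜ[k] Y) m = a ⊗ₜ[k] hom Y m := by
  induction Y using TensorProduct.induction_on with
  | zero => simp
  | tmul b ψ =>
    show hom ((TensorProduct.assoc k A A (Module.Dual k M)).symm (a ⊗ₜ[k] (b ⊗ₜ[k] ψ))) m = _
    rw [TensorProduct.assoc_symm_tmul, hom_tmul, hom_tmul, TensorProduct.tmul_smul]
  | add x y hx hy => simp only [TensorProduct.tmul_add, map_add, LinearMap.add_apply, hx, hy]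

lemma Ev2_lTensor (lam : Module.Dual k M →ₗ[k] A ⊗[k] Module.Dual k M)
    (c : HopfRep.Comod k A M)
    (hlam : ∀ φ m, hom (lam φ) m = TensorProduct.lid k A (φ.rTensor A (c.coact m)))
    (X : A ⊗[k] Module.Dual k M) (m : M) :
    Ev2 (lam.lTensor A X) m = (hom X).rTensor A (c.coact m) := by
  induction X using TensorProduct.induction_on with
  | zero => simp
  | tmul a φ =>
    rw [LinearMap.lTensor_tmul, Ev2_tmul, hlam]
    generalize c.coact m = s
    induction s using TensorProduct.induction_on with
    | zero => simp
    | tmul m' b =>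
      rw [LinearMap.rTensor_tmul, LinearMap.rTensor_tmul, TensorProduct.lid_tmul, hom_tmul,
        TensorProduct.smul_tmul]
    | add s t hs ht => simp only [map_add, TensorProduct.tmul_add, hs, ht]
  | add x y hx hy => simp only [map_add, LinearMap.add_apply, LinearMap.rTensor_add, hx, hy]

lemma E4 (g : Module.Dual k M) (s : M ⊗[k] A) :
    (TensorProduct.lid k A).toLinearMap.rTensor A ((g.rTensor A).rTensor A
      ((TensorProduct.assoc k M A A).symm
        ((CoalgebraStruct.comul (R := k) (A := A)).lTensor M s))) =
    CoalgebraStruct.comul (R := k) (TensorProduct.lid k A (g.rTensor A s)) := by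
  have h : ∀ (m' : M) (y : A ⊗[k] A),
      (TensorProduct.lid k A).toLinearMap.rTensor A ((g.rTensor A).rTensor A
        ((TensorProduct.assoc k M A A).symm (m' ⊗ₜ[k] y))) = g m' • y := by
    intro m' y
    induction y using TensorProduct.induction_on with
    | zero => simp
    | tmul x x' =>
      rw [TensorProduct.assoc_symm_tmul, LinearMap.rTensor_tmul, LinearMap.rTensor_tmul,
        LinearMap.rTensor_tmul, LinearEquiv.coe_coe, TensorProduct.lid_tmul,
        TensorProduct.smul_tmul']
    | add x y hx hy => simp only [TensorProduct.tmul_add, map_add, smul_add, hx, hy]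
  induction s using TensorProduct.induction_on with
  | zero => simp
  | tmul m' b =>
    rw [LinearMap.lTensor_tmul, h, LinearMap.rTensor_tmul, TensorProduct.lid_tmul, map_smul]
  | add s t hs ht => simp only [map_add, hs, ht]

lemma E5 (g : Module.Dual k M) (s : M ⊗[k] A) :
    CoalgebraStruct.counit (R := k) (A := A) (TensorProduct.lid k A (g.rTensor A s)) =
      g (TensorProduct.rid k M ((CoalgebraStruct.counit (R := k) (A := A)).lTensor M s)) := by
  induction s using TensorProduct.induction_on with
  | zero => simp
  | tmul m' b =>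
    rw [LinearMap.rTensor_tmul, TensorProduct.lid_tmul, map_smul, LinearMap.lTensor_tmul,
      TensorProduct.rid_tmul, map_smul, smul_eq_mul, smul_eq_mul, mul_comm]
  | add s t hs ht => simp only [map_add, hs, ht]

end


/-- Let `k` be a commutative ring, `A` a `k`-coalgebra that is flat over `k`, and `M` a finitely
presented `k`-module with a right `A`-comodule structure `m ↦ Σ m₀ ⊗ m₁`. Then the dual module `M^*
= Hom(M, k)` carries a left `A`-comodule structure whose coaction sends a form `g` to the element of
`A ⊗ M^*` that reads, through `a ⊗ φ ↦ (m ↦ φ(m) a)`, as the map `m ↦ Σ g(m₀) m₁` (the left dual of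
the given structure). (The published statement takes coalgebras to be commutative algebras whose
comultiplication and counit are algebra maps; the construction uses no multiplication on `A`, so
here `A` is any flat coalgebra.) -/
theorem result (k : Type u) [CommRing k]
    (A : Type v) [AddCommGroup A] [Module k A] [Coalgebra k A] [Module.Flat k A]
    (M : Type w) [AddCommGroup M] [Module k M] [Module.FinitePresentation k M]
    (c : HopfRep.Comod k A M) :
    ∃ l : ComodSub.LComod k A (Module.Dual k M), ComodSub.LComod.IsLDual c l := by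
  have hbA := hom_bijective (k := k) (V := M) (W := A)
  obtain ⟨lam, hlam'⟩ : ∃ lam : Module.Dual k M →ₗ[k] A ⊗[k] Module.Dual k M,
      ∀ φ, hom (lam φ) = L c φ :=
    ⟨(LinearEquiv.ofBijective hom hbA).symm.toLinearMap ∘ₗ L c,
      fun φ => (LinearEquiv.ofBijective hom hbA).apply_symm_apply (L c φ)⟩
  have hlam : ∀ φ m, hom (lam φ) m = TensorProduct.lid k A (φ.rTensor A (c.coact m)) := by
    intro φ m
    rw [hlam' φ]
    rfl
  refine ⟨{ coact := lam, coassoc := ?_, counit_comp := ?_ }, ?_⟩
  · apply LinearMap.ext
    intro g
    simp only [LinearMap.comp_apply, LinearEquiv.coe_coe]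
    have hinj : Function.Injective (Ev2 (k := k) (A := A) (M := M)) := by
      intro x y hxy
      have := (hom_bijective (k := k) (V := M) (W := A ⊗[k] A)).1 hxy
      exact (TensorProduct.assoc k A A (Module.Dual k M)).symm.injective this
    apply hinj
    apply LinearMap.ext
    intro m
    rw [Ev2_lTensor lam c hlam, Ev2_assoc, hom_natural, hlam]
    have h1 : hom (lam g) =
        (TensorProduct.lid k A).toLinearMap ∘ₗ g.rTensor A ∘ₗ c.coact := hlam' g
    rw [h1, LinearMap.rTensor_comp, LinearMap.rTensor_comp]
    simp only [LinearMap.comp_apply]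
    have hco := LinearMap.congr_fun c.coassoc m
    simp only [LinearMap.comp_apply, LinearEquiv.coe_coe] at hco
    have h2 : c.coact.rTensor A (c.coact m) = (TensorProduct.assoc k M A A).symm
        ((CoalgebraStruct.comul (R := k) (A := A)).lTensor M (c.coact m)) := by
      rw [← hco, LinearEquiv.symm_apply_apply]
    rw [h2, E4]
  · apply LinearMap.ext
    intro g
    simp only [LinearMap.comp_apply, TensorProduct.mk_apply]
    apply (hom_bijective (k := k) (V := M) (W := k)).1
    apply LinearMap.ext
    intro m
    have hcu := LinearMap.congr_fun c.counit_comp m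
    simp only [LinearMap.comp_apply, LinearMap.flip_apply, TensorProduct.mk_apply] at hcu
    rw [hom_natural, hlam, hom_tmul, E5, hcu, TensorProduct.rid_tmul, one_smul, smul_eq_mul,
      mul_one]
  · intro g
    exact hlam' g

end Groth.Agent.S16690
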