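import Groth.Statements.S16707
import Mathlib.RingTheory.Flat.Equalizer
import Mathlib.LinearAlgebra.TensorProduct.Quotient
import Mathlib.LinearAlgebra.TensorProduct.RightExactness

set_option autoImplicit false
universe u v
open CAlg

namespace Groth.Agent.S16707

open TensorProduct

/-- Nakayama for a nilpotent ideal: a module `P` with `I • ⊤ = ⊤` is trivial. -/
theorem subsingleton_of_smul_top_eq_top {A : Type u} [CommRing A] (I : Ideal A)
    (hI : IsNilpotent I) (P : Type v) [AddCommGroup P] [Module A P]
    (h : I • (⊤ : Submodule A P) = ⊤) : Subsingleton P := by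
  obtain ⟨n, hn⟩ := hI
  have key : ∀ k : ℕ, I ^ k • (⊤ : Submodule A P) = ⊤ := by
    intro k
    induction k with
    | zero => simp
    | succ k ih => rw [pow_succ, mul_smul, h, ih]
  have h0 : (⊤ : Submodule A P) = ⊥ := by
    rw [← key n, hn]
    simp
  exact (Submodule.subsingleton_iff A).mp (subsingleton_of_bot_eq_top h0.symm)

theorem subsingleton_of_subsingleton_tensor {A : Type u} [CommRing A] (I : Ideal A)
    (hI : IsNilpotent I) (P : Type v) [AddCommGroup P] [Module A P]
    (h : Subsingleton ((A ⧸ I) ⊗[A] P)) : Subsingleton P := by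
  apply subsingleton_of_smul_top_eq_top I hI
  have e := TensorProduct.quotTensorEquivQuotSMul P I
  have : Subsingleton (P ⧸ (I • ⊤ : Submodule A P)) := e.symm.toEquiv.subsingleton
  exact Submodule.Quotient.subsingleton_iff.mp this

theorem result (A : Type u) [CommRing A] (I : Ideal A)
    (hI : IsNilpotent I) (M N : Type v) [AddCommGroup M] [Module A M] [AddCommGroup N] [Module A N]
    [Module.Flat A N] (f : M →ₗ[A] N)
    (hf : Function.Bijective (f.baseChange (A ⧸ I))) :
    Function.Bijective f := by
  have hinj : Function.Injective (f.lTensor (A ⧸ I)) := by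
    have := hf.1
    rwa [LinearMap.baseChange_eq_ltensor] at this
  have hsurj : Function.Surjective (f.lTensor (A ⧸ I)) := by
    have := hf.2
    rwa [LinearMap.baseChange_eq_ltensor] at this
  -- surjectivity
  have hs : Function.Surjective f := by
    have hC : Subsingleton (N ⧸ LinearMap.range f) := by
      apply subsingleton_of_subsingleton_tensor I hI
      have h1 : Function.Surjective ((LinearMap.range f).mkQ.lTensor (A ⧸ I)) :=
        LinearMap.lTensor_surjective _ (Submodule.mkQ_surjective _)
      have h2 : ((LinearMap.range f).mkQ.lTensor (A ⧸ I)) ∘ₗ (f.lTensor (A ⧸ I)) = 0 := by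
        rw [← LinearMap.lTensor_comp]
        have : (LinearMap.range f).mkQ ∘ₗ f = 0 := by
          ext x
          simp
        rw [this]
        simp
      refine ⟨fun x y => ?_⟩
      obtain ⟨x', rfl⟩ := h1 x
      obtain ⟨y', rfl⟩ := h1 y
      obtain ⟨x'', rfl⟩ := hsurj x'
      obtain ⟨y'', rfl⟩ := hsurj y'
      have hx := LinearMap.congr_fun h2 x''
      have hy := LinearMap.congr_fun h2 y''
      simp only [LinearMap.comp_apply, LinearMap.zero_apply] at hx hy
      rw [hx, hy]
    rw [← LinearMap.range_eq_top]
    exact Submodule.Quotient.subsingleton_iff.mp hC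
  refine ⟨?_, hs⟩
  -- injectivity
  have hK : Subsingleton (LinearMap.ker f) := by
    apply subsingleton_of_subsingleton_tensor I hI
    have h1 : Function.Injective ((LinearMap.ker f).subtype.lTensor (A ⧸ I)) :=
      LinearMap.lTensor_injective_of_exact_of_flat f hs _ (LinearMap.ker f).subtype_injective
        (LinearMap.exact_subtype_ker_map f) _
    have h2 : (f.lTensor (A ⧸ I)) ∘ₗ ((LinearMap.ker f).subtype.lTensor (A ⧸ I)) = 0 := by
      rw [← LinearMap.lTensor_comp]
      have : f ∘ₗ (LinearMap.ker f).subtype = 0 := by
        ext x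
        simp
      rw [this]
      simp
    refine ⟨fun x y => ?_⟩
    apply h1
    apply hinj
    have hx := LinearMap.congr_fun h2 x
    have hy := LinearMap.congr_fun h2 y
    simp only [LinearMap.comp_apply, LinearMap.zero_apply] at hx hy
    rw [hx, hy]
  rw [← LinearMap.ker_eq_bot]
  exact (Submodule.subsingleton_iff_eq_bot).mp hK
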