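import Groth.Statements.S16708
import Mathlib
import Groth.Agent.Lib.Helper7.HopfInt
import Groth.Agent.Lib.Helper7.Coalg7
-- import your own Groth.Agent.* helpers here

set_option autoImplicit false
universe u
open HopfRep

namespace Groth.Agent.S16708

open TensorProduct Groth.Agent.H29 Groth.Agent.Helper7.HopfInt Groth.Agent.Helper7.Coalg7 ConstGrp

attribute [local instance] Groth.Agent.H29.dualModule


/-- Let G be a finite group and k a field in which the order of G is a nonzero element. Then the
constant group scheme of G over k is linearly reductive: every finite-dimensional comodule over its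
coordinate Hopf algebra (the algebra of functions G → k with the Hopf structure of the constant
group) is semisimple, i.e. every subcomodule admits a complementary subcomodule. -/
theorem result (k : Type u) [Field k] (G : Type u) [Group G]
    [Fintype G] [DecidableEq G] (hG : ((Fintype.card G : ℕ) : k) ≠ 0) :
    HopfRep.IsLinearlyReductive k (ConstGrp.F k G) := by
  intro V _ _ _ _
  let c : k := ((Fintype.card G : ℕ) : k)⁻¹
  let lam : F k G →ₗ[k] k :=
    { toFun := fun f => c * ∑ g : G, f g
      map_add' := fun f f' => by
        simp only [ConstGrp.add_apply, Finset.sum_add_distrib, mul_add]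
      map_smul' := fun r f => by
        simp only [ConstGrp.smul_apply, RingHom.id_apply, smul_eq_mul, ← Finset.mul_sum]
        ring }
  have hlam : ∀ f : F k G, lam f = c * ∑ g : G, f g := fun f => rfl
  have h1 : lam 1 = 1 := by
    rw [hlam]
    simp only [ConstGrp.one_apply, Finset.sum_const, Finset.card_univ, nsmul_eq_mul, mul_one]
    exact inv_mul_cancel₀ hG
  have hlam_e : ∀ b : G, lam (e k b) = c := by
    intro b
    rw [hlam, Finset.sum_eq_single b, e_apply_self, mul_one]
    · intro g _ hg; exact e_apply_of_ne hg
    · intro hb; exact absurd (Finset.mem_univ b) hb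
  have hinv : ∀ f : F k G, dualAct lam f = lam f • (1 : F k G) := by
    intro f
    have h0 : dualAct lam f = rAct (F k G) lam (Coalgebra.comul (R := k) f) := rfl
    rw [h0, comul_eq_sum]
    simp only [map_sum, map_smul, rAct_tmul, hlam_e]
    ext h
    rw [ConstGrp.sum_apply, Finset.sum_eq_single h]
    · rw [ConstGrp.sum_apply]
      simp only [ConstGrp.smul_apply, e_apply_self, mul_one, ConstGrp.one_apply]
      rw [hlam, ← Finset.sum_mul, mul_comm]
      congr 1
      exact Fintype.sum_equiv (Equiv.mulLeft h) _ _ fun b => rfl
    · intro a _ ha
      rw [ConstGrp.sum_apply]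
      apply Finset.sum_eq_zero
      intro b _
      simp only [ConstGrp.smul_apply, e_apply_of_ne (Ne.symm ha), mul_zero]
    · intro hh; exact absurd (Finset.mem_univ h) hh
  have hreg : HopfRep.IsSemisimpleComod k (F k G) (F k G) := isSemisimpleComod_regular lam h1 hinv
  have : IsSemisimpleModule (DualAlg k (F k G)) (F k G) :=
    isSemisimpleModule_of_isSemisimpleComod k (F k G) (F k G) hreg
  exact isSemisimpleComod_of_isSemisimpleModule k (F k G) V
    (isSemisimpleModule_of_regular (K := k) (C := F k G) (V := V))

end Groth.Agent.S16708
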