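import Groth.Statements.S16709
import Mathlib
import Groth.Agent.Lib.Helper7.SplitComod
-- import your own Groth.Agent.* helpers here

set_option autoImplicit false
universe u v
open HopfRep

namespace Groth.Agent.S16709


open TensorProduct Groth.Agent.H29 Groth.Agent.Helper4.LinRed

theorem exactFin_of_C1 (k : Type u) [Field k] (A : Type v) [CommRing A] [HopfAlgebra k A]
    (h : ∀ (V : Type v) [AddCommGroup V] [Module k V] [HopfRep.Comod k A V], Module.Finite k V →
        ∀ π : V →ₗ[k] k, Function.Surjective π →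
          LinearMap.rTensor A π ∘ₗ HopfRep.Comod.coact (k := k) (A := A) (V := V) =
            (TensorProduct.mk k k A).flip (1 : A) ∘ₗ π →
          ∃ v ∈ HopfRep.fixedPts k A V, π v ≠ 0) :
    Groth.Agent.Helper7.SplitComod.ExactFin k A := by
  intro X Y _ _ _ _ cX cY hXfin hYfin φ hφ hsurj y hy
  by_cases hy0 : y = 0
  · exact ⟨0, by rw [map_zero, TensorProduct.zero_tmul], by rw [map_zero, hy0]⟩
  obtain ⟨ℓ0, hℓ0⟩ := Module.Projective.exists_dual_ne_zero k hy0
  let ℓ : Y →ₗ[k] k := (ℓ0 y)⁻¹ • ℓ0
  have hℓ : ℓ y = 1 := by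
    show (ℓ0 y)⁻¹ • ℓ0 y = 1
    rw [smul_eq_mul, inv_mul_cancel₀ hℓ0]
  let X' : Submodule k X := Submodule.comap φ (Submodule.span k {y})
  have hX'mem : ∀ x : X, x ∈ X' ↔ ∃ c : k, c • y = φ x := by
    intro x
    rw [Submodule.mem_comap, Submodule.mem_span_singleton]
  have hX' : @HopfRep.IsSubcomod k A _ _ _ _ X _ _ cX X' := by
    letI := cX
    letI := cY
    have hφ' : Hoch.IsComodHom A φ := hφ
    have hyfix : y ∈ HopfRep.fixedPts k A Y := hy
    rw [isSubcomod_iff]
    intro ψ x hx
    obtain ⟨c, hc⟩ := (hX'mem x).mp hx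
    rw [hX'mem]
    refine ⟨c * ψ 1, ?_⟩
    rw [(isComodHom_iff φ).mp hφ' ψ x, ← hc, map_smul, (mem_fixedPts_iff y).mp hyfix ψ, smul_smul]
  let cX' : HopfRep.Comod k A X' := ComodSub.Comod.restr cX X' hX'
  let π : X' →ₗ[k] k := (ℓ ∘ₗ φ) ∘ₗ X'.subtype
  have hπval : ∀ (x : X') (c : k), c • y = φ (x : X) → π x = c := by
    intro x c hc
    show ℓ (φ (x : X)) = c
    rw [← hc, map_smul, hℓ, smul_eq_mul, mul_one]
  obtain ⟨x1, hx1⟩ := hsurj y
  have hx1mem : x1 ∈ X' := (hX'mem x1).mpr ⟨1, by rw [one_smul, hx1]⟩
  have hπsurj : Function.Surjective π := by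
    intro c
    refine ⟨c • ⟨x1, hx1mem⟩, ?_⟩
    rw [map_smul, hπval ⟨x1, hx1mem⟩ 1 (by rw [one_smul, hx1]), smul_eq_mul, mul_one]
  have hπhom : LinearMap.rTensor A π ∘ₗ cX'.coact =
      (TensorProduct.mk k k A).flip (1 : A) ∘ₗ π := by
    apply LinearMap.ext
    intro x
    obtain ⟨c, hc⟩ := (hX'mem (x : X)).mp x.2
    simp only [LinearMap.comp_apply, LinearMap.flip_apply, TensorProduct.mk_apply]
    rw [hπval x c hc]
    show ((ℓ ∘ₗ φ) ∘ₗ X'.subtype).rTensor A (cX'.coact x) = _
    rw [LinearMap.rTensor_comp_apply, ComodSub.restr_coact_coe, LinearMap.rTensor_comp_apply]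
    have h1 := LinearMap.congr_fun hφ (x : X)
    simp only [LinearMap.comp_apply] at h1
    rw [← h1, ← hc, map_smul, hy, map_smul, LinearMap.rTensor_tmul, hℓ,
      TensorProduct.smul_tmul', smul_eq_mul, mul_one]
  obtain ⟨x, hxfix, hπx⟩ := @h X' _ _ cX' inferInstance π hπsurj hπhom
  obtain ⟨c, hc⟩ := (hX'mem (x : X)).mp x.2
  have hπc : π x = c := hπval x c hc
  have hc0 : c ≠ 0 := by rw [← hπc]; exact hπx
  have hxfix' : cX'.coact x = x ⊗ₜ[k] (1 : A) := hxfix
  have hxX : cX.coact (x : X) = (x : X) ⊗ₜ[k] (1 : A) := by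
    rw [← ComodSub.restr_coact_coe cX X' hX' x, hxfix', LinearMap.rTensor_tmul]
    rfl
  refine ⟨c⁻¹ • (x : X), ?_, ?_⟩
  · rw [map_smul, hxX, TensorProduct.smul_tmul']
  · rw [map_smul, ← hc, smul_smul, inv_mul_cancel₀ hc0, one_smul]


open TensorProduct in
/-- The equivalence of complete reducibility of finite-dimensional representations with the
invariant-section criterion. Let k be a field and A a finitely generated commutative Hopf algebra
over k, the coordinate ring of an affine algebraic group G. Then G is linearly reductive (every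
finite-dimensional A-comodule is semisimple) if and only if for every finite-dimensional A-comodule
V and every surjective k-linear map π : V → k which is a comodule map to the trivial comodule (that
is, (π ⊗ id) ∘ ρ_V = (c ↦ c ⊗ 1) ∘ π for the coaction ρ_V) there is a fixed vector v of V with π v ≠
0. (The published fourth condition is phrased with all G-fixed points of the projective space of V
and G-invariant linear forms; it fails for a fixed point on which G acts through a non-trivial
character, for instance the multiplicative group acting on a line with weight one, and this row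
states the condition in the form the published proof uses: surjections onto the trivial
one-dimensional comodule.) -/
theorem result (k : Type u) [Field k] (A : Type v)
    [CommRing A] [HopfAlgebra k A] (hA : Algebra.FiniteType k A) :
    HopfRep.IsLinearlyReductive k A ↔
      ∀ (V : Type v) [AddCommGroup V] [Module k V] [HopfRep.Comod k A V], Module.Finite k V →
        ∀ π : V →ₗ[k] k, Function.Surjective π →
          LinearMap.rTensor A π ∘ₗ HopfRep.Comod.coact (k := k) (A := A) (V := V) =
            (TensorProduct.mk k k A).flip (1 : A) ∘ₗ π →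
          ∃ v ∈ HopfRep.fixedPts k A V, π v ≠ 0 := by
  constructor
  · intro hred V _ _ _ hfin π hsurj hπ
    letI : HopfRep.Comod k A k := HopfRep.Comod.trivial k A k
    have hπ' : Hoch.IsComodHom A π := hπ.symm
    obtain ⟨v, hv, hπv⟩ := exists_fixed_lift hred π hπ' hsurj (1 : k) rfl
    exact ⟨v, hv, by rw [hπv]; exact one_ne_zero⟩
  · intro h
    exact Groth.Agent.Helper7.SplitComod.linRed_of_exactFin (exactFin_of_C1 k A h)

end Groth.Agent.S16709
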