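import Groth.Statements.S16717
import Mathlib
import Groth.Agent.Lib.Helper7.SplitComod
-- import your own Groth.Agent.* helpers here

set_option autoImplicit false
universe u v
open HopfRep

namespace Groth.Agent.S16717

open TensorProduct in
/-- Equivalence of the exactness of invariants with complete reducibility of finite-dimensional
representations. Let k be a field and A a finitely generated commutative Hopf algebra over k (the
coordinate ring of an affine algebraic group G). Then every finite-dimensional A-comodule is
semisimple if and only if taking fixed vectors is exact, i.e. for every surjective comodule map φ :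
V → W between A-comodules (of any dimension; φ k-linear with (φ ⊗ id) ∘ ρ_V = ρ_W ∘ φ) every fixed
vector of W is the image of a fixed vector of V. -/
theorem result (k : Type u) [Field k] (A : Type v)
    [CommRing A] [HopfAlgebra k A] (hA : Algebra.FiniteType k A) :
    HopfRep.IsLinearlyReductive k A ↔
      ∀ (V W : Type v) [AddCommGroup V] [Module k V] [HopfRep.Comod k A V]
        [AddCommGroup W] [Module k W] [HopfRep.Comod k A W] (φ : V →ₗ[k] W),
        LinearMap.rTensor A φ ∘ₗ HopfRep.Comod.coact (k := k) (A := A) (V := V) =
            HopfRep.Comod.coact (k := k) (A := A) (V := W) ∘ₗ φ →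
          Function.Surjective φ →
            ∀ w ∈ HopfRep.fixedPts k A W, ∃ v ∈ HopfRep.fixedPts k A V, φ v = w := by
  constructor
  · intro hred V W _ _ _ _ _ _ φ hφ hsurj w hw
    exact Groth.Agent.Helper4.LinRed.exists_fixed_lift hred φ hφ.symm hsurj w hw
  · intro h
    apply Groth.Agent.Helper7.SplitComod.linRed_of_exactFin
    intro X Y _ _ _ _ cX cY _ _ φ hφ hsurj y hy
    obtain ⟨x, hx, hxy⟩ := @h X Y _ _ cX _ _ cY φ hφ.symm hsurj y hy
    exact ⟨x, hx, hxy⟩

end Groth.Agent.S16717
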