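import Groth.Statements.S16718
import Mathlib
import Groth.Agent.H15.FundComod
import Groth.Agent.H29.ComodDual
-- import your own Groth.Agent.* helpers here

set_option autoImplicit false
universe u v w
open TensorProduct
open GLin

namespace Groth.Agent.S16718

/-- Let k be a field, A a finitely generated commutative Hopf algebra over k (an affine algebraic group
G), R a finitely generated commutative k-algebra carrying an A-comodule structure whose coaction is
an algebra homomorphism (an action of G on X = Spec R), and I an ideal of R which is a subcomodule
(a G-invariant closed subscheme Z of X). Then there is a finite-dimensional subcomodule W of R with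
W ⊆ I generating I as an ideal; equivalently there is a G-equivariant morphism f from X to the
affine space of a finite-dimensional G-representation with f⁻¹(0) = Z as closed subschemes. -/
theorem result (k : Type u) [Field k]
    (A : Type v) [CommRing A] [HopfAlgebra k A] (hA : Algebra.FiniteType k A)
    (R : Type w) [CommRing R] [Algebra k R] [HopfRep.Comod k A R] [GLin.IsCoactAlg k A R]
    (hR : Algebra.FiniteType k R) (I : Ideal R)
    (hI : HopfRep.IsSubcomod (k := k) (A := A) (I.restrictScalars k)) :
    ∃ W : Submodule k R, Module.Finite k W ∧ HopfRep.IsSubcomod (k := k) (A := A) W ∧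
      W ≤ I.restrictScalars k ∧ Ideal.span (W : Set R) = I := by
  classical
  haveI := hA
  haveI := hR
  haveI : IsNoetherianRing R := Algebra.FiniteType.isNoetherianRing k R
  obtain ⟨t, ht⟩ : ∃ t : Finset R, Ideal.span (t : Set R) = I := IsNoetherian.noetherian I
  have hfund := Groth.Agent.H15.FundComod.fund k A R
  choose W hWfin hfW hWsub using hfund
  obtain ⟨W', hW'⟩ : ∃ W' : Submodule k R,
      W' = ⨆ f : t, (W (f : R) ⊓ I.restrictScalars k) := ⟨_, rfl⟩
  have hle : W' ≤ I.restrictScalars k := by
    rw [hW']
    exact iSup_le fun f => inf_le_right
  have hfin : Module.Finite k W' := by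
    rw [hW']
    have : ∀ f : t, Module.Finite k ↥(W (f : R) ⊓ I.restrictScalars k) := fun f => by
      haveI := hWfin (f : R)
      exact Module.Finite.of_injective
        (Submodule.inclusion (inf_le_left : W (f : R) ⊓ I.restrictScalars k ≤ W (f : R)))
        (Submodule.inclusion_injective _)
    infer_instance
  have hsub : HopfRep.IsSubcomod (k := k) (A := A) W' := by
    rw [Groth.Agent.H29.isSubcomod_iff]
    intro ψ w hw
    rw [hW'] at hw ⊢
    induction hw using Submodule.iSup_induction' with
    | mem i x hx =>
      exact Submodule.mem_iSup_of_mem i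
        ⟨(Groth.Agent.H29.isSubcomod_iff (W (i : R))).mp (hWsub _) ψ x hx.1,
          (Groth.Agent.H29.isSubcomod_iff _).mp hI ψ x hx.2⟩
    | zero => rw [map_zero]; exact Submodule.zero_mem _
    | add x y _ _ hx hy => rw [map_add]; exact Submodule.add_mem _ hx hy
  refine ⟨W', hfin, hsub, hle, ?_⟩
  apply le_antisymm
  · rw [Ideal.span_le]
    intro x hx
    exact hle hx
  · have htI : ∀ f ∈ t, f ∈ I := by
      intro f hf
      rw [← ht]
      exact Ideal.subset_span hf
    rw [← ht, Ideal.span_le]
    intro f hf
    apply Ideal.subset_span
    show f ∈ W'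
    rw [hW']
    exact Submodule.mem_iSup_of_mem (⟨f, hf⟩ : t) ⟨hfW f, htI f hf⟩

end Groth.Agent.S16718
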