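import Groth.Statements.S16737

set_option autoImplicit false
universe u v
open DeRham

namespace Groth.Agent.S16737

open MvPolynomial

theorem natCast_eq_zero_mv (p : ℕ) (R : Type u) [CommRing R] [CharP R p] (σ : Type v) :
    ((p : ℕ) : MvPolynomial σ R) = 0 := by
  rw [← map_natCast (C : R →+* MvPolynomial σ R) p, CharP.cast_eq_zero R p, map_zero]

theorem eq_zero_of_mul_natCast (p : ℕ) [Fact p.Prime] (R : Type u) [CommRing R] [CharP R p]
    (c : R) (n : ℕ) (hn : ¬ p ∣ n) (h : c * (n : R) = 0) : c = 0 := by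
  have hp : p.Prime := Fact.out
  have hcop : Nat.Coprime n p := (Nat.Prime.coprime_iff_not_dvd hp).mpr hn |>.symm
  have hb := Int.gcd_eq_gcd_ab (n : ℤ) (p : ℤ)
  have hg : Int.gcd (n : ℤ) (p : ℤ) = 1 := by
    rw [Int.gcd_natCast_natCast]; exact hcop
  rw [hg] at hb
  have hR : (1 : R) = (n : R) * ((Int.gcdA n p : ℤ) : R) + (p : R) * ((Int.gcdB n p : ℤ) : R) := by
    have := congrArg (Int.cast : ℤ → R) hb
    push_cast at this
    exact this
  rw [CharP.cast_eq_zero R p, zero_mul, add_zero] at hR
  calc c = c * 1 := (mul_one c).symm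
    _ = c * ((n : R) * ((Int.gcdA n p : ℤ) : R)) := by rw [← hR]
    _ = (c * (n : R)) * ((Int.gcdA n p : ℤ) : R) := by ring
    _ = 0 := by rw [h, zero_mul]

theorem result (p : ℕ) [Fact p.Prime]
    (R : Type u) [CommRing R] [CharP R p] (σ : Type v) (f : MvPolynomial σ R) :
    KaehlerDifferential.D R (MvPolynomial σ R) f = 0 ↔
      ∃ g : MvPolynomial σ R, f = MvPolynomial.expand p g := by
  classical
  have hp : p.Prime := Fact.out
  have hD : KaehlerDifferential.D R (MvPolynomial σ R) f = 0 ↔
      ∀ i, MvPolynomial.pderiv i f = 0 := by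
    rw [← (KaehlerDifferential.mvPolynomialBasis R σ).repr.map_eq_zero_iff, Finsupp.ext_iff]
    simp [KaehlerDifferential.mvPolynomialBasis_repr_apply]
  rw [hD]
  constructor
  · intro h
    have hcoeff : ∀ (m : σ →₀ ℕ) (i : σ), ¬ p ∣ m i → coeff m f = 0 := by
      intro m i hmi
      have hpos : m i ≠ 0 := by
        intro h0; rw [h0] at hmi; exact hmi (dvd_zero p)
      have hm : m = (m - Finsupp.single i 1) + Finsupp.single i 1 := by
        ext j
        by_cases hj : j = i
        · subst hj; simp; omega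
        · simp [Ne.symm hj]
      have h1 := coeff_pderiv (i := i) f (m - Finsupp.single i 1)
      rw [h i, coeff_zero, ← hm] at h1
      have h2 : (((m - Finsupp.single i 1 : σ →₀ ℕ) i : ℕ) : R) + 1 = ((m i : ℕ) : R) := by
        have : (m - Finsupp.single i 1 : σ →₀ ℕ) i + 1 = m i := by simp; omega
        rw [← this]; push_cast; ring
      rw [h2] at h1
      exact eq_zero_of_mul_natCast p R _ _ hmi h1.symm
    have hinj : Function.Injective (fun m : σ →₀ ℕ => p • m) := by
      intro a b hab
      exact (nsmul_right_inj hp.ne_zero).mp hab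
    refine ⟨(AddMonoidAlgebra.ofCoeff (Finsupp.comapDomain (fun m : σ →₀ ℕ => p • m)
      (AddMonoidAlgebra.coeff f) hinj.injOn) : MvPolynomial σ R), ?_⟩
    ext m
    by_cases hm : ∀ i, p ∣ m i
    · have : ∃ m' : σ →₀ ℕ, m = p • m' := by
        refine ⟨m.mapRange (· / p) (by simp), ?_⟩
        ext i
        simp only [Finsupp.smul_apply, Finsupp.mapRange_apply, smul_eq_mul]
        exact (Nat.mul_div_cancel' (hm i)).symm
      obtain ⟨m', rfl⟩ := this
      rw [coeff_expand_smul p hp.ne_zero]
      rfl
    · push Not at hm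
      obtain ⟨i, hi⟩ := hm
      rw [coeff_expand_of_not_dvd _ hi, hcoeff m i hi]
  · rintro ⟨g, rfl⟩ i
    clear hD
    induction g using MvPolynomial.induction_on with
    | C a => simp
    | add q r hq hr => rw [map_add, map_add, hq, hr, add_zero]
    | mul_X q j hq =>
      rw [map_mul, expand_X, Derivation.leibniz, hq, smul_zero, add_zero, pderiv_pow,
        natCast_eq_zero_mv p R σ]
      simp
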