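import Groth.Statements.S16742
import Mathlib
import Groth.Agent.Lib.Helper8.LocalCrit

set_option autoImplicit false
universe u
open CAlg

namespace Groth.Agent.S16742

open TensorProduct in
/-- exactness of multiplication by a square-zero element passes to flat modules -/
lemma exact_smul_of_flat {S : Type*} [CommRing S] (s : S) (hs : s * s = 0)
    (hex : ∀ y : S, s * y = 0 → ∃ x, s * x = y)
    (N : Type*) [AddCommGroup N] [Module S N] [Module.Flat S N] (y : N) (hy : s • y = 0) :
    ∃ x : N, s • x = y := by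
  let μ : S →ₗ[S] S := s • LinearMap.id
  have hμ : Function.Exact μ μ := by
    intro y
    constructor
    · intro h
      obtain ⟨x, hx⟩ := hex y (by simpa [μ] using h)
      exact ⟨x, by simpa [μ] using hx⟩
    · rintro ⟨x, rfl⟩
      simp [μ, ← mul_assoc, hs]
  have hN := Module.Flat.lTensor_exact N hμ
  have hμN : μ.lTensor N = s • LinearMap.id := by
    simp only [μ, LinearMap.lTensor_smul, LinearMap.lTensor_id]
  have hz : (μ.lTensor N) (y ⊗ₜ[S] (1 : S)) = 0 := by
    rw [hμN, LinearMap.smul_apply, LinearMap.id_apply, TensorProduct.smul_tmul', hy,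
      TensorProduct.zero_tmul]
  obtain ⟨w, hw⟩ := (hN _).1 hz
  rw [hμN, LinearMap.smul_apply, LinearMap.id_apply] at hw
  refine ⟨TensorProduct.rid S N w, ?_⟩
  rw [← map_smul, hw, TensorProduct.rid_tmul, one_smul]

open TensorProduct in
/-- The equivalence in affine form, with flatness of the reduction in place of smoothness. Let p be a
prime, A~ a commutative ring flat over Z/p^2 and B~ an A~-algebra such that B~/pB~ is flat over
A~/pA~. Then B~ is flat over A~ if and only if every element of B~ killed by p is a multiple of p;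
equivalently multiplication by p identifies B~/pB~ with pB~. (The published statement assumes the
reduction smooth over A~/pA~ and the schemes noetherian, and phrases (b) as B~ being a lifting, that
is flat over A~; the statement here assumes only that the reduction is flat, where the equivalence
still holds by the local flatness criterion for the square-zero ideal generated by p.) -/
theorem result (p : ℕ) [Fact p.Prime]
    (Al : Type u) [CommRing Al] [Algebra (ZMod (p ^ 2)) Al] [Module.Flat (ZMod (p ^ 2)) Al]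
    (Bl : Type u) [CommRing Bl] [Algebra Al Bl]
    (hB : Module.Flat (Al ⧸ Ideal.span {(p : Al)})
      (Bl ⧸ (Ideal.span {(p : Al)}).map (algebraMap Al Bl))) :
    Module.Flat Al Bl ↔ ∀ b : Bl, (p : Bl) * b = 0 → b ∈ Ideal.span {(p : Bl)} := by
  classical
  have hp2Z : ((p : ZMod (p ^ 2)) * (p : ZMod (p ^ 2))) = 0 := by
    rw [← Nat.cast_mul, ← pow_two]
    exact ZMod.natCast_self (p ^ 2)
  have hPP : (p : Al) * (p : Al) = 0 := by
    have h1 : (p : Al) = algebraMap (ZMod (p ^ 2)) Al (p : ZMod (p ^ 2)) := (map_natCast _ p).symm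
    rw [h1, ← map_mul, hp2Z, map_zero]
  have hne : NeZero (p ^ 2) := ⟨pow_ne_zero 2 (Fact.out : p.Prime).ne_zero⟩
  have hexZ : ∀ y : ZMod (p ^ 2), (p : ZMod (p ^ 2)) * y = 0 →
      ∃ x, (p : ZMod (p ^ 2)) * x = y := by
    intro y hy
    obtain ⟨n, rfl⟩ := ZMod.natCast_zmod_surjective y
    rw [← Nat.cast_mul, ZMod.natCast_eq_zero_iff, pow_two] at hy
    have hpn : p ∣ n := (Nat.mul_dvd_mul_iff_left (Fact.out : p.Prime).pos).mp hy
    obtain ⟨m, rfl⟩ := hpn
    exact ⟨(m : ZMod (p ^ 2)), by push_cast; ring⟩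
  have hexA : ∀ y : Al, (p : Al) * y = 0 → ∃ x, (p : Al) * x = y := by
    intro y hy
    have hy' : (p : ZMod (p ^ 2)) • y = 0 := by
      rw [Algebra.smul_def, map_natCast]
      exact hy
    obtain ⟨x, hx⟩ := exact_smul_of_flat (p : ZMod (p ^ 2)) hp2Z hexZ Al y hy'
    refine ⟨x, ?_⟩
    rw [← hx, Algebra.smul_def, map_natCast]
  constructor
  · intro hflat b hb
    have hb' : (p : Al) • b = 0 := by
      rw [Algebra.smul_def, map_natCast]
      exact hb
    obtain ⟨x, hx⟩ := exact_smul_of_flat (p : Al) hPP hexA Bl b hb'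
    rw [Ideal.mem_span_singleton']
    refine ⟨x, ?_⟩
    rw [← hx, Algebra.smul_def, map_natCast, mul_comm]
  · intro h
    have hn : (Ideal.span {(p : Al)}) ^ 2 = ⊥ := by
      rw [Ideal.span_singleton_pow, pow_two, hPP, Ideal.span_singleton_eq_bot]
    have h2 : Module.Flat (Al ⧸ Ideal.span {(p : Al)})
        ((Al ⧸ Ideal.span {(p : Al)}) ⊗[Al] Bl) :=
      Module.Flat.of_linearEquiv
        (Algebra.TensorProduct.quotIdealMapEquivQuotTensor Bl
          (Ideal.span {(p : Al)})).symm.toLinearEquiv
    refine Groth.Agent.Helper8.LocalCrit.flat_of_nilpotent (Ideal.span {(p : Al)}) 2 hn ?_ h2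
    have hpmem : (p : Al) ∈ Ideal.span {(p : Al)} := Ideal.subset_span rfl
    have hrep : ∀ z : ↥(Ideal.span {(p : Al)}) ⊗[Al] Bl, ∃ x : Bl,
        z = (⟨(p : Al), hpmem⟩ : ↥(Ideal.span {(p : Al)})) ⊗ₜ x := by
      intro z
      induction z using TensorProduct.induction_on with
      | zero => exact ⟨0, (TensorProduct.tmul_zero _ _).symm⟩
      | add z₁ z₂ h₁ h₂ =>
        obtain ⟨x₁, rfl⟩ := h₁
        obtain ⟨x₂, rfl⟩ := h₂
        exact ⟨x₁ + x₂, (TensorProduct.tmul_add _ _ _).symm⟩
      | tmul a x =>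
        obtain ⟨a, ha⟩ := a
        obtain ⟨c, rfl⟩ := Ideal.mem_span_singleton'.mp ha
        refine ⟨c • x, ?_⟩
        rw [← TensorProduct.smul_tmul]
        rfl
    rw [injective_iff_map_eq_zero]
    intro z hz
    obtain ⟨b, rfl⟩ := hrep z
    rw [LinearMap.rTensor_tmul, Submodule.subtype_apply] at hz
    have h3 : (p : Bl) * b = 0 := by
      have := congrArg (TensorProduct.lid Al Bl) hz
      rw [TensorProduct.lid_tmul, map_zero, Algebra.smul_def, map_natCast] at this
      exact this
    obtain ⟨b', hb'⟩ := Ideal.mem_span_singleton'.mp (h b h3)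
    rw [← hb']
    have h4 : b' * (p : Bl) = (p : Al) • b' := by rw [Algebra.smul_def, map_natCast, mul_comm]
    rw [h4, TensorProduct.tmul_smul, TensorProduct.smul_tmul']
    have h5 : (p : Al) • (⟨(p : Al), hpmem⟩ : ↥(Ideal.span {(p : Al)})) = 0 := by
      apply Subtype.ext
      show (p : Al) * (p : Al) = 0
      exact hPP
    rw [h5, TensorProduct.zero_tmul]

end Groth.Agent.S16742
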