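import Groth.Statements.S16762
import Mathlib
-- import your own Groth.Agent.* helpers here

set_option autoImplicit false
universe u
open CAlgX

namespace Groth.Agent.S16762


open TensorProduct

theorem sqL {R : Type*} [CommRing R] {K G : Type*} [AddCommGroup K] [Module R K] [AddCommGroup G]
    [Module R G] (κ : K →ₗ[R] G) (S : Type*) [CommRing S] [Algebra R S]
    (C : Type*) [AddCommGroup C] [Module R C] [Module S C] [IsScalarTower R S C] :
    Function.Injective ((κ.baseChange S).lTensor C) ↔ Function.Injective (κ.lTensor C) := by
  have sq' : ∀ w : C ⊗[S] (S ⊗[R] K),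
      TensorProduct.AlgebraTensorModule.cancelBaseChange R S S C G ((κ.baseChange S).lTensor C w) =
        κ.lTensor C (TensorProduct.AlgebraTensorModule.cancelBaseChange R S S C K w) := by
    intro w
    induction w using TensorProduct.induction_on with
    | zero => simp
    | tmul c y =>
      induction y using TensorProduct.induction_on with
      | zero => simp
      | tmul s k =>
        rw [LinearMap.lTensor_tmul, LinearMap.baseChange_tmul,
          TensorProduct.AlgebraTensorModule.cancelBaseChange_tmul,
          TensorProduct.AlgebraTensorModule.cancelBaseChange_tmul, LinearMap.lTensor_tmul]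
      | add y₁ y₂ h₁ h₂ =>
        rw [TensorProduct.tmul_add, map_add, map_add, map_add, map_add, h₁, h₂]
    | add w₁ w₂ h₁ h₂ => rw [map_add, map_add, map_add, map_add, h₁, h₂]
  constructor
  · intro h
    rw [injective_iff_map_eq_zero]
    intro z hz
    obtain ⟨w, rfl⟩ := (TensorProduct.AlgebraTensorModule.cancelBaseChange R S S C K).surjective z
    rw [← sq'] at hz
    have h6 : (κ.baseChange S).lTensor C w = 0 :=
      (TensorProduct.AlgebraTensorModule.cancelBaseChange R S S C G).injective
        (hz.trans (map_zero _).symm)
    rw [h (h6.trans (map_zero _).symm), map_zero]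
  · intro h
    rw [injective_iff_map_eq_zero]
    intro w hw
    have h7 : κ.lTensor C (TensorProduct.AlgebraTensorModule.cancelBaseChange R S S C K w) = 0 := by
      rw [← sq', hw, map_zero]
    have h8 := h (h7.trans (map_zero _).symm)
    exact (TensorProduct.AlgebraTensorModule.cancelBaseChange R S S C K).injective
      (h8.trans (map_zero _).symm)

/-- Let A → A' be faithfully flat and u : M → N a map of A-modules. Then u is universally injective (u ⊗
id_Q injective for every A-module Q) if and only if its base change A' ⊗_A M → A' ⊗_A N is
universally injective as a map of A'-modules. -/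
theorem result (A A' : Type u) [CommRing A] [CommRing A']
    [Algebra A A'] [Module.FaithfullyFlat A A'] {M N : Type u} [AddCommGroup M] [Module A M]
    [AddCommGroup N] [Module A N] (u : M →ₗ[A] N) :
    CAlgX.UniversallyInjective A u ↔ CAlgX.UniversallyInjective A' (u.baseChange A') := by
  constructor
  · intro h Q' _ _
    letI : Module A Q' := Module.compHom Q' (algebraMap A A')
    haveI : IsScalarTower A A' Q' := IsScalarTower.of_algebraMap_smul (fun r x => rfl)
    exact (LinearMap.lTensor_inj_iff_rTensor_inj Q' (u.baseChange A')).1
      ((sqL u A' Q').2 ((LinearMap.lTensor_inj_iff_rTensor_inj Q' u).2 (h Q')))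
  · intro h Q _ _
    have h1 : Function.Injective ((u.baseChange A').rTensor (A' ⊗[A] Q)) := h (A' ⊗[A] Q)
    have h2 : Function.Injective (u.lTensor (A' ⊗[A] Q)) :=
      (sqL u A' _).1 ((LinearMap.lTensor_inj_iff_rTensor_inj _ _).2 h1)
    have h3 : Function.Injective ((u.lTensor Q).lTensor A') := by
      rw [LinearMap.lTensor_tensor] at h2
      intro x y hxy
      have := @h2 ((TensorProduct.assoc A A' Q M).symm x) ((TensorProduct.assoc A A' Q M).symm y)
        (by simp [hxy])
      exact (TensorProduct.assoc A A' Q M).symm.injective this
    have h4 : Function.Injective (u.lTensor Q) :=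
      (Module.FaithfullyFlat.lTensor_injective_iff_injective A A' _).1 h3
    exact (LinearMap.lTensor_inj_iff_rTensor_inj Q u).1 h4

end Groth.Agent.S16762
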