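import Groth.Statements.S16792
import Mathlib

set_option autoImplicit false
universe v u
open LogConn

namespace Groth.Agent.S16792


open TensorProduct

section Aux

variable {A : Type v} {B L E : Type u} [CommRing A] [CommRing B]
    [Algebra A B] [AddCommGroup L] [Module B L] [Module A L] [IsScalarTower A B L]
    [AddCommGroup E] [Module B E] [Module A E] [IsScalarTower A B E]

theorem comp_smul (lam : B) {n : ℕ} (ω : Module.Basis (Fin n) B L) (δ : Derivation A B L)
    (nabla : E →ₗ[A] E ⊗[B] L) (hc : Conn.IsLamConn δ lam nabla) (i : Fin n) (b : B) (e : E) :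
    LogConn.comp nabla ω i (b • e) =
      b • LogConn.comp nabla ω i e + (lam * ω.repr (δ b) i) • e := by
  unfold LogConn.comp
  rw [Conn.along_apply, Conn.along_apply, hc b e]
  simp only [map_add, map_smul, TensorProduct.map_tmul, TensorProduct.rid_tmul, LinearMap.id_apply,
    Module.Basis.coord_apply, smul_smul]

theorem repr_iota {n : ℕ} (t : Fin n → B) (bΩ : Module.Basis (Fin n) B (KaehlerDifferential A B))
    (hbΩ : ∀ i, bΩ i = KaehlerDifferential.D A B (t i))
    (ω : Module.Basis (Fin n) B L) (ι : KaehlerDifferential A B →ₗ[B] L)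
    (hι : ∀ i, ι (KaehlerDifferential.D A B (t i)) = t i • ω i) (x : KaehlerDifferential A B)
    (i : Fin n) :
    ω.repr (ι x) i = t i * bΩ.repr x i := by
  have hx : x = ∑ j, bΩ.repr x j • bΩ j := (bΩ.sum_repr x).symm
  have h1 : ι x = ∑ j, (bΩ.repr x j * t j) • ω j := by
    conv_lhs => rw [hx]
    rw [map_sum]
    refine Finset.sum_congr rfl fun j _ => ?_
    rw [map_smul, hbΩ, hι, smul_smul]
  rw [h1, map_sum, Finsupp.finset_sum_apply, Finset.sum_eq_single i]
  · rw [map_smul, Finsupp.smul_apply, Module.Basis.repr_self, Finsupp.single_eq_same, smul_eq_mul,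
      mul_one, mul_comm]
  · intro j _ hji
    rw [map_smul, Finsupp.smul_apply, Module.Basis.repr_self, Finsupp.single_apply, if_neg hji,
      smul_zero]
  · intro h; exact absurd (Finset.mem_univ i) h

theorem repr_D_prod {n : ℕ} (t : Fin n → B)
    (bΩ : Module.Basis (Fin n) B (KaehlerDifferential A B))
    (hbΩ : ∀ i, bΩ i = KaehlerDifferential.D A B (t i)) (K : Finset (Fin n)) (j : Fin n)
    (hj : j ∉ K) :
    bΩ.repr (KaehlerDifferential.D A B (∏ k ∈ K, t k)) j = 0 := by
  refine Finset.prod_induction t (fun b => bΩ.repr (KaehlerDifferential.D A B b) j = 0) ?_ ?_ ?_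
  · intro a b ha hb
    have ha' : bΩ.repr (KaehlerDifferential.D A B a) j = 0 := ha
    have hb' : bΩ.repr (KaehlerDifferential.D A B b) j = 0 := hb
    show bΩ.repr (KaehlerDifferential.D A B (a * b)) j = 0
    rw [Derivation.leibniz, map_add, map_smul, map_smul, Finsupp.add_apply, Finsupp.smul_apply,
      Finsupp.smul_apply, ha', hb', smul_zero, smul_zero, add_zero]
  · show bΩ.repr (KaehlerDifferential.D A B 1) j = 0
    rw [Derivation.map_one_eq_zero, map_zero, Finsupp.zero_apply]
  · intro k hk
    show bΩ.repr (KaehlerDifferential.D A B (t k)) j = 0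
    rw [← hbΩ, Module.Basis.repr_self, Finsupp.single_apply, if_neg]
    rintro rfl; exact hj hk

theorem comp_smul' (lam : B) {n : ℕ} (t : Fin n → B)
    (bΩ : Module.Basis (Fin n) B (KaehlerDifferential A B))
    (hbΩ : ∀ i, bΩ i = KaehlerDifferential.D A B (t i))
    (ω : Module.Basis (Fin n) B L) (ι : KaehlerDifferential A B →ₗ[B] L)
    (hι : ∀ i, ι (KaehlerDifferential.D A B (t i)) = t i • ω i)
    (nabla : E →ₗ[A] E ⊗[B] L)
    (hc : Conn.IsLamConn (ι.compDer (KaehlerDifferential.D A B)) lam nabla)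
    (i : Fin n) (b : B) (e : E) :
    LogConn.comp nabla ω i (b • e) =
      b • LogConn.comp nabla ω i e +
        (lam * (t i * bΩ.repr (KaehlerDifferential.D A B b) i)) • e := by
  rw [comp_smul lam ω _ nabla hc i b e]
  have h : (ι.compDer (KaehlerDifferential.D A B)) b = ι (KaehlerDifferential.D A B b) := rfl
  rw [h, repr_iota t bΩ hbΩ ω ι hι]

theorem comp_prod_smul (lam : B) {n : ℕ} (t : Fin n → B)
    (bΩ : Module.Basis (Fin n) B (KaehlerDifferential A B))
    (hbΩ : ∀ i, bΩ i = KaehlerDifferential.D A B (t i))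
    (ω : Module.Basis (Fin n) B L) (ι : KaehlerDifferential A B →ₗ[B] L)
    (hι : ∀ i, ι (KaehlerDifferential.D A B (t i)) = t i • ω i)
    (nabla : E →ₗ[A] E ⊗[B] L)
    (hc : Conn.IsLamConn (ι.compDer (KaehlerDifferential.D A B)) lam nabla)
    (j : Fin n) (K : Finset (Fin n)) (hj : j ∉ K) (e : E) :
    LogConn.comp nabla ω j ((∏ k ∈ K, t k) • e) = (∏ k ∈ K, t k) • LogConn.comp nabla ω j e := by
  rw [comp_smul' lam t bΩ hbΩ ω ι hι nabla hc, repr_D_prod t bΩ hbΩ K j hj, mul_zero, mul_zero,
    zero_smul, add_zero]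

theorem compProd_empty {n : ℕ} (nabla : E →ₗ[A] E ⊗[B] L) (ω : Module.Basis (Fin n) B L) :
    LogConn.compProd nabla ω ∅ = LinearMap.id := by
  unfold LogConn.compProd
  rw [Finset.sort_empty]
  rfl

theorem compProd_insert {n : ℕ} (nabla : E →ₗ[A] E ⊗[B] L) (ω : Module.Basis (Fin n) B L)
    (j : Fin n) (J : Finset (Fin n)) (h : ∀ x ∈ J, j < x) :
    LogConn.compProd nabla ω (insert j J) =
      LogConn.comp nabla ω j ∘ₗ LogConn.compProd nabla ω J := by
  unfold LogConn.compProd
  rw [Finset.sort_insert _ (fun b hb => (h b hb).le) (fun hj => lt_irrefl _ (h j hj)),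
    List.foldr_cons]

theorem mem_piece {n : ℕ} (nabla : E →ₗ[A] E ⊗[B] L) (ω : Module.Basis (Fin n) B L)
    (t : Fin n → B) (I J : Finset (Fin n)) (hJ : J ⊆ I) (e : E) :
    (∏ i ∈ I \ J, t i) • LogConn.compProd nabla ω J e ∈ LogConn.piece nabla ω t I := by
  unfold LogConn.piece
  refine Submodule.mem_iSup_of_mem J (Submodule.mem_iSup_of_mem (Finset.mem_powerset.mpr hJ) ?_)
  exact LinearMap.mem_range.mpr ⟨e, rfl⟩

theorem piece_le {n : ℕ} (nabla : E →ₗ[A] E ⊗[B] L) (ω : Module.Basis (Fin n) B L)
    (t : Fin n → B) (I : Finset (Fin n)) (S : Submodule A E)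
    (h : ∀ J, J ⊆ I → ∀ e : E, (∏ i ∈ I \ J, t i) • LogConn.compProd nabla ω J e ∈ S) :
    LogConn.piece nabla ω t I ≤ S := by
  unfold LogConn.piece
  refine iSup₂_le fun J hJ => ?_
  rintro _ ⟨e, rfl⟩
  exact h J (Finset.mem_powerset.mp hJ) e

/-- multiplying `piece J` by `t_{I∖J}` lands in `piece I`. -/
theorem prod_smul_piece {n : ℕ} (nabla : E →ₗ[A] E ⊗[B] L) (ω : Module.Basis (Fin n) B L)
    (t : Fin n → B) (I J : Finset (Fin n)) (hJI : J ⊆ I) (x : E)
    (hx : x ∈ LogConn.piece nabla ω t J) :
    (∏ i ∈ I \ J, t i) • x ∈ LogConn.piece nabla ω t I := by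
  have hle : LogConn.piece nabla ω t J ≤
      (LogConn.piece nabla ω t I).comap
        ((LinearMap.lsmul B E (∏ i ∈ I \ J, t i)).restrictScalars A) := by
    refine piece_le nabla ω t J _ fun J' hJ'J e => ?_
    show (∏ i ∈ I \ J, t i) • ((∏ i ∈ J \ J', t i) • LogConn.compProd nabla ω J' e) ∈
      LogConn.piece nabla ω t I
    have hset : (I \ J') \ (J \ J') = I \ J := by
      ext x
      simp only [Finset.mem_sdiff, not_and, not_not]
      constructor
      · rintro ⟨⟨h1, h2⟩, h3⟩
        exact ⟨h1, fun h4 => h2 (h3 h4)⟩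
      · rintro ⟨h1, h2⟩
        exact ⟨⟨h1, fun h4 => h2 (hJ'J h4)⟩, fun h4 => absurd h4 h2⟩
    have hsub : J \ J' ⊆ I \ J' := fun x hx => by
      rw [Finset.mem_sdiff] at hx ⊢
      exact ⟨hJI hx.1, hx.2⟩
    have hprod := Finset.prod_sdiff (f := t) hsub
    rw [hset] at hprod
    rw [smul_smul, hprod]
    exact mem_piece nabla ω t I J' (hJ'J.trans hJI) e
  exact hle hx

theorem tj_smul_piece {n : ℕ} (nabla : E →ₗ[A] E ⊗[B] L) (ω : Module.Basis (Fin n) B L)
    (t : Fin n → B) (j : Fin n) (J : Finset (Fin n)) (hj : j ∉ J) (x : E)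
    (hx : x ∈ LogConn.piece nabla ω t J) :
    t j • x ∈ LogConn.piece nabla ω t (insert j J) := by
  have := prod_smul_piece nabla ω t (insert j J) J (Finset.subset_insert j J) x hx
  have hset : insert j J \ J = {j} := by
    ext x
    simp only [Finset.mem_sdiff, Finset.mem_insert, Finset.mem_singleton]
    constructor
    · rintro ⟨h1 | h1, h2⟩
      · exact h1
      · exact absurd h1 h2
    · rintro rfl
      exact ⟨Or.inl rfl, hj⟩
  rw [hset, Finset.prod_singleton] at this
  exact this

theorem comp_piece (lam : B) {n : ℕ} (t : Fin n → B)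
    (bΩ : Module.Basis (Fin n) B (KaehlerDifferential A B))
    (hbΩ : ∀ i, bΩ i = KaehlerDifferential.D A B (t i))
    (ω : Module.Basis (Fin n) B L) (ι : KaehlerDifferential A B →ₗ[B] L)
    (hι : ∀ i, ι (KaehlerDifferential.D A B (t i)) = t i • ω i)
    (nabla : E →ₗ[A] E ⊗[B] L)
    (hc : Conn.IsLamConn (ι.compDer (KaehlerDifferential.D A B)) lam nabla)
    (j : Fin n) (I : Finset (Fin n)) (hj : ∀ x ∈ I, j < x) (x : E)
    (hx : x ∈ LogConn.piece nabla ω t I) :
    LogConn.comp nabla ω j x ∈ LogConn.piece nabla ω t (insert j I) := by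
  have hjI : j ∉ I := fun h => lt_irrefl _ (hj j h)
  have hle : LogConn.piece nabla ω t I ≤
      (LogConn.piece nabla ω t (insert j I)).comap (LogConn.comp nabla ω j) := by
    refine piece_le nabla ω t I _ fun J hJI e => ?_
    show LogConn.comp nabla ω j ((∏ i ∈ I \ J, t i) • LogConn.compProd nabla ω J e) ∈
      LogConn.piece nabla ω t (insert j I)
    have hjK : j ∉ I \ J := fun h => hjI (Finset.mem_sdiff.mp h).1
    rw [comp_prod_smul lam t bΩ hbΩ ω ι hι nabla hc j (I \ J) hjK]
    have hset : insert j I \ insert j J = I \ J := by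
      ext x
      simp only [Finset.mem_sdiff, Finset.mem_insert, not_or]
      constructor
      · rintro ⟨h1 | h1, h2, h3⟩
        · exact absurd h1 h2
        · exact ⟨h1, h3⟩
      · rintro ⟨h1, h3⟩
        refine ⟨Or.inr h1, ?_, h3⟩
        rintro rfl; exact hjI h1
    have hcp : LogConn.comp nabla ω j (LogConn.compProd nabla ω J e) =
        LogConn.compProd nabla ω (insert j J) e := by
      rw [compProd_insert nabla ω j J (fun x hx => hj x (hJI hx))]
      rfl
    rw [hcp, ← hset]
    exact mem_piece nabla ω t (insert j I) (insert j J) (Finset.insert_subset_insert j hJI) e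
  exact hle hx

theorem smul_compProd_mem (lam : B) {n : ℕ} (t : Fin n → B)
    (bΩ : Module.Basis (Fin n) B (KaehlerDifferential A B))
    (hbΩ : ∀ i, bΩ i = KaehlerDifferential.D A B (t i))
    (ω : Module.Basis (Fin n) B L) (ι : KaehlerDifferential A B →ₗ[B] L)
    (hι : ∀ i, ι (KaehlerDifferential.D A B (t i)) = t i • ω i)
    (nabla : E →ₗ[A] E ⊗[B] L)
    (hc : Conn.IsLamConn (ι.compDer (KaehlerDifferential.D A B)) lam nabla)
    (J : Finset (Fin n)) :
    ∀ (b : B) (e : E), b • LogConn.compProd nabla ω J e ∈ LogConn.piece nabla ω t J := by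
  induction J using Finset.induction_on_min with
  | empty =>
    intro b e
    have := mem_piece nabla ω t ∅ ∅ (subset_refl _) (b • e)
    rw [Finset.sdiff_self, Finset.prod_empty, one_smul, compProd_empty] at this
    rw [compProd_empty]
    exact this
  | insert j J hj ih =>
    intro b e
    have hjJ : j ∉ J := fun h => lt_irrefl _ (hj j h)
    have hcp : LogConn.compProd nabla ω (insert j J) e =
        LogConn.comp nabla ω j (LogConn.compProd nabla ω J e) := by
      rw [compProd_insert nabla ω j J hj]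
      rfl
    obtain ⟨y, hy⟩ : ∃ y, y = LogConn.compProd nabla ω J e := ⟨_, rfl⟩
    rw [hcp, ← hy]
    have hL := comp_smul' lam t bΩ hbΩ ω ι hι nabla hc j b y
    have h1 : LogConn.comp nabla ω j (b • y) ∈ LogConn.piece nabla ω t (insert j J) := by
      refine comp_piece lam t bΩ hbΩ ω ι hι nabla hc j J hj _ ?_
      rw [hy]
      exact ih b e
    have h2 : t j • ((lam * bΩ.repr (KaehlerDifferential.D A B b) j) • y) ∈
        LogConn.piece nabla ω t (insert j J) := by
      refine tj_smul_piece nabla ω t j J hjJ _ ?_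
      rw [hy]
      exact ih _ e
    have heq : b • LogConn.comp nabla ω j y =
        LogConn.comp nabla ω j (b • y) -
          t j • ((lam * bΩ.repr (KaehlerDifferential.D A B b) j) • y) := by
      rw [hL, smul_smul, mul_left_comm (t j) lam, add_sub_cancel_right]
    rw [heq]
    exact Submodule.sub_mem _ h1 h2

end Aux


open TensorProduct in
/-- Let B be a commutative algebra over a commutative ring A, let λ ∈ B, and let t₁, …, tₙ ∈ B be
elements whose differentials dt₁, …, dtₙ form a basis of the module Ω of Kähler differentials of B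
over A. Let L be a B-module free on ω₁, …, ωₙ together with a B-linear map ι : Ω → L sending dtᵢ to
tᵢ ωᵢ (L plays the role of the module of differentials with logarithmic poles along t₁ ⋯ tₙ, and ωᵢ
that of dlog tᵢ), and let E be a B-module with an A-linear map ∇ : E → E ⊗ L obeying the λ-twisted
Leibniz rule ∇(b e) = b ∇e + λ e ⊗ ι(db). Write ∇ᵢ for the components of ∇ in the basis ω and, for a
finite set J of indices, ∇_J for the composite of the ∇ⱼ, j ∈ J, taken in increasing order. Then for
every finite set I of indices the A-submodule E_I = Σ_{J ⊆ I} (∏_{i ∈ I∖J} tᵢ) · ∇_J(E) of E is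
stable under multiplication by every element of B. (Flatness of ∇ and λ coming from the base ring,
both part of the published setting, are not used.) -/
theorem result {A : Type v} {B L E : Type u} [CommRing A] [CommRing B]
    [Algebra A B] [AddCommGroup L] [Module B L] [Module A L] [IsScalarTower A B L]
    [AddCommGroup E] [Module B E] [Module A E] [IsScalarTower A B E]
    (lam : B) {n : ℕ} (t : Fin n → B) (bΩ : Module.Basis (Fin n) B (KaehlerDifferential A B))
    (hbΩ : ∀ i, bΩ i = KaehlerDifferential.D A B (t i))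
    (ω : Module.Basis (Fin n) B L) (ι : KaehlerDifferential A B →ₗ[B] L)
    (hι : ∀ i, ι (KaehlerDifferential.D A B (t i)) = t i • ω i)
    (nabla : E →ₗ[A] E ⊗[B] L)
    (hc : Conn.IsLamConn (ι.compDer (KaehlerDifferential.D A B)) lam nabla)
    (I : Finset (Fin n)) (b : B) (x : E) (hx : x ∈ LogConn.piece nabla ω t I) :
    b • x ∈ LogConn.piece nabla ω t I := by
  have hle : LogConn.piece nabla ω t I ≤
      (LogConn.piece nabla ω t I).comap ((LinearMap.lsmul B E b).restrictScalars A) := by
    refine piece_le nabla ω t I _ fun J hJI e => ?_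
    show b • ((∏ i ∈ I \ J, t i) • LogConn.compProd nabla ω J e) ∈ LogConn.piece nabla ω t I
    rw [smul_comm]
    exact prod_smul_piece nabla ω t I J hJI _
      (smul_compProd_mem lam t bΩ hbΩ ω ι hι nabla hc J b e)
  exact hle hx

end Groth.Agent.S16792
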