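import Groth.Statements.S16793
import Mathlib

set_option autoImplicit false
universe v u
open PCurv

namespace Groth.Agent.S16793


open TensorProduct


open TensorProduct in
/-- Let B be a commutative algebra over a commutative ring A whose module Ω of Kähler differentials over
A is free of rank one on a form ω, and let ∇ be a connection on the free module B^r whose connection
matrix with respect to the standard basis e₁, …, e_r and ω is T, that is ∇(e_j) = Σ_i T_{ij} e_i ⊗
ω. Then for every A-derivation θ of B, writing f_θ ∈ B for the value on ω of the B-linear functional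
Ω → B attached to θ, the covariant derivative along θ is given by ∇_θ(s) = f_θ · (T s) + θ(s) for
all s ∈ B^r, where θ(s) is θ applied to each coordinate of s. -/
theorem result {A : Type v} {B : Type u} [CommRing A] [CommRing B] [Algebra A B]
    (bΩ : Module.Basis (Fin 1) B (KaehlerDifferential A B)) {r : ℕ} (T : Matrix (Fin r) (Fin r) B)
    (nabla : (Fin r → B) →ₗ[A] (Fin r → B) ⊗[B] KaehlerDifferential A B)
    (hc : Conn.IsConn (KaehlerDifferential.D A B) nabla)
    (hT : ∀ j : Fin r, nabla (Pi.single j 1) = ∑ i : Fin r, T i j • (Pi.single i (1 : B) ⊗ₜ[B] bΩ 0))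
    (θ : Derivation A B B) (s : Fin r → B) :
    Conn.alongDer nabla θ s = θ.liftKaehlerDifferential (bΩ 0) • T.mulVec s + (fun i => θ (s i)) := by
  obtain ⟨f, hf⟩ : ∃ f : KaehlerDifferential A B →ₗ[B] B, f = θ.liftKaehlerDifferential :=
    ⟨_, rfl⟩
  have key : Conn.alongDer nabla θ s =
      TensorProduct.rid B (Fin r → B) (TensorProduct.map LinearMap.id f (nabla s)) := by
    rw [hf]; rfl
  have hsum : ∀ c : Fin r → B, ∑ i, c i • (Pi.single i (1 : B) : Fin r → B) = c := by
    intro c
    funext k
    rw [Finset.sum_apply, Finset.sum_eq_single k]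
    · rw [Pi.smul_apply, Pi.single_apply, if_pos rfl, smul_eq_mul, mul_one]
    · intro j _ hjk
      rw [Pi.smul_apply, Pi.single_apply, if_neg (Ne.symm hjk), smul_zero]
    · intro h; exact absurd (Finset.mem_univ k) h
  have hterm : ∀ j, TensorProduct.rid B (Fin r → B) (TensorProduct.map LinearMap.id f
      (nabla (s j • (Pi.single j (1 : B) : Fin r → B)))) =
      s j • (fun i => T i j * f (bΩ 0)) + θ (s j) • (Pi.single j (1 : B) : Fin r → B) := by
    intro j
    have h1 : TensorProduct.rid B (Fin r → B) (TensorProduct.map LinearMap.id f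
        (∑ i, T i j • ((Pi.single i (1 : B) : Fin r → B) ⊗ₜ[B] bΩ 0))) =
        (fun i => T i j * f (bΩ 0)) := by
      rw [map_sum, map_sum, ← hsum (fun i => T i j * f (bΩ 0))]
      refine Finset.sum_congr rfl fun i _ => ?_
      rw [map_smul, map_smul, TensorProduct.map_tmul, TensorProduct.rid_tmul, LinearMap.id_apply,
        smul_smul]
    rw [hc (s j) (Pi.single j 1), hT j, map_add, map_add, map_smul, map_smul, h1,
      TensorProduct.map_tmul, TensorProduct.rid_tmul, LinearMap.id_apply, hf,
      Derivation.liftKaehlerDifferential_comp_D]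
  rw [key]
  conv_lhs => rw [← hsum s]
  rw [map_sum, map_sum, map_sum, Finset.sum_congr rfl (fun j _ => hterm j),
    Finset.sum_add_distrib, hsum (fun j => θ (s j)), ← hf]
  congr 1
  funext k
  rw [Finset.sum_apply, Pi.smul_apply, Matrix.mulVec, dotProduct, smul_eq_mul, Finset.mul_sum]
  refine Finset.sum_congr rfl fun j _ => ?_
  rw [Pi.smul_apply, smul_eq_mul]
  ring

end Groth.Agent.S16793
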