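import Groth.Statements.S16795
import Mathlib
import Groth.Agent.S16792

set_option autoImplicit false
universe v u
open LogConn

namespace Groth.Agent.S16795


open TensorProduct
open Groth.Agent.S16792 (piece_le mem_piece comp_smul' comp_prod_smul compProd_empty compProd_insert)

section Aux

variable {A : Type v} {B L E : Type u} [CommRing A] [CommRing B]
    [Algebra A B] [AddCommGroup L] [Module B L] [Module A L] [IsScalarTower A B L]
    [AddCommGroup E] [Module B E] [Module A E] [IsScalarTower A B E]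

def Gen {n m : ℕ} (nabla : E →ₗ[A] E ⊗[B] L) (ω : Module.Basis (Fin n) B L) (t : Fin n → B)
    (e : Fin m → E) (I : Finset (Fin n)) : Set E :=
  ⋃ J ∈ I.powerset, Set.range (fun k : Fin m =>
    (∏ i ∈ I \ J, t i) • LogConn.compProd nabla ω J (e k))

theorem mem_Gen {n m : ℕ} (nabla : E →ₗ[A] E ⊗[B] L) (ω : Module.Basis (Fin n) B L)
    (t : Fin n → B) (e : Fin m → E) (I J : Finset (Fin n)) (hJ : J ⊆ I) (k : Fin m) :
    (∏ i ∈ I \ J, t i) • LogConn.compProd nabla ω J (e k) ∈ Gen nabla ω t e I := by
  unfold Gen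
  exact Set.mem_iUnion₂.mpr ⟨J, Finset.mem_powerset.mpr hJ, ⟨k, rfl⟩⟩

theorem Gen_cases {n m : ℕ} (nabla : E →ₗ[A] E ⊗[B] L) (ω : Module.Basis (Fin n) B L)
    (t : Fin n → B) (e : Fin m → E) (I : Finset (Fin n)) (x : E) (hx : x ∈ Gen nabla ω t e I) :
    ∃ J, J ⊆ I ∧ ∃ k, (∏ i ∈ I \ J, t i) • LogConn.compProd nabla ω J (e k) = x := by
  unfold Gen at hx
  obtain ⟨J, hJ, k, hk⟩ := Set.mem_iUnion₂.mp hx
  exact ⟨J, Finset.mem_powerset.mp hJ, k, hk⟩

theorem prod_sdiff_mul {n : ℕ} (t : Fin n → B) (I J J' : Finset (Fin n)) (hJ'J : J' ⊆ J)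
    (hJI : J ⊆ I) :
    (∏ i ∈ I \ J, t i) * (∏ i ∈ J \ J', t i) = ∏ i ∈ I \ J', t i := by
  have hset : (I \ J') \ (J \ J') = I \ J := by
    ext x
    simp only [Finset.mem_sdiff, not_and, not_not]
    constructor
    · rintro ⟨⟨h1, h2⟩, h3⟩
      exact ⟨h1, fun h4 => h2 (h3 h4)⟩
    · rintro ⟨h1, h2⟩
      exact ⟨⟨h1, fun h4 => h2 (hJ'J h4)⟩, fun h4 => absurd h4 h2⟩
  have hsub : J \ J' ⊆ I \ J' := fun x hx => by
    rw [Finset.mem_sdiff] at hx ⊢
    exact ⟨hJI hx.1, hx.2⟩
  have hprod := Finset.prod_sdiff (f := t) hsub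
  rw [hset] at hprod
  exact hprod

theorem G4 {n m : ℕ} (nabla : E →ₗ[A] E ⊗[B] L) (ω : Module.Basis (Fin n) B L)
    (t : Fin n → B) (e : Fin m → E) (I J : Finset (Fin n)) (hJI : J ⊆ I) (x : E)
    (hx : x ∈ Submodule.span B (Gen nabla ω t e J)) :
    (∏ i ∈ I \ J, t i) • x ∈ Submodule.span B (Gen nabla ω t e I) := by
  induction hx using Submodule.span_induction with
  | mem x hx =>
    obtain ⟨J', hJ', k, rfl⟩ := Gen_cases nabla ω t e J x hx
    rw [smul_smul, prod_sdiff_mul t I J J' hJ' hJI]
    exact Submodule.subset_span (mem_Gen nabla ω t e I J' (hJ'.trans hJI) k)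
  | zero => rw [smul_zero]; exact Submodule.zero_mem _
  | add x y _ _ hx hy => rw [smul_add]; exact Submodule.add_mem _ hx hy
  | smul b x _ hx => rw [smul_comm]; exact Submodule.smul_mem _ _ hx

theorem G1 {n m : ℕ} (nabla : E →ₗ[A] E ⊗[B] L) (ω : Module.Basis (Fin n) B L)
    (t : Fin n → B) (e : Fin m → E) (j : Fin n) (J : Finset (Fin n)) (hj : j ∉ J) (x : E)
    (hx : x ∈ Submodule.span B (Gen nabla ω t e J)) :
    t j • x ∈ Submodule.span B (Gen nabla ω t e (insert j J)) := by
  have := G4 nabla ω t e (insert j J) J (Finset.subset_insert j J) x hx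
  have hset : insert j J \ J = {j} := by
    ext x
    simp only [Finset.mem_sdiff, Finset.mem_insert, Finset.mem_singleton]
    constructor
    · rintro ⟨h1 | h1, h2⟩
      · exact h1
      · exact absurd h1 h2
    · rintro rfl
      exact ⟨Or.inl rfl, hj⟩
  rw [hset, Finset.prod_singleton] at this
  exact this

theorem G2 (lam : B) {n m : ℕ} (t : Fin n → B)
    (bΩ : Module.Basis (Fin n) B (KaehlerDifferential A B))
    (hbΩ : ∀ i, bΩ i = KaehlerDifferential.D A B (t i))
    (ω : Module.Basis (Fin n) B L) (ι : KaehlerDifferential A B →ₗ[B] L)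
    (hι : ∀ i, ι (KaehlerDifferential.D A B (t i)) = t i • ω i)
    (nabla : E →ₗ[A] E ⊗[B] L)
    (hc : Conn.IsLamConn (ι.compDer (KaehlerDifferential.D A B)) lam nabla)
    (e : Fin m → E) (j : Fin n) (J : Finset (Fin n)) (hj : ∀ x ∈ J, j < x) (x : E)
    (hx : x ∈ Submodule.span B (Gen nabla ω t e J)) :
    LogConn.comp nabla ω j x ∈ Submodule.span B (Gen nabla ω t e (insert j J)) := by
  have hjJ : j ∉ J := fun h => lt_irrefl _ (hj j h)
  induction hx using Submodule.span_induction with
  | mem x hx =>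
    obtain ⟨J', hJ', k, rfl⟩ := Gen_cases nabla ω t e J x hx
    have hjK : j ∉ J \ J' := fun h => hjJ (Finset.mem_sdiff.mp h).1
    rw [comp_prod_smul lam t bΩ hbΩ ω ι hι nabla hc j (J \ J') hjK]
    have hset : insert j J \ insert j J' = J \ J' := by
      ext x
      simp only [Finset.mem_sdiff, Finset.mem_insert, not_or]
      constructor
      · rintro ⟨h1 | h1, h2, h3⟩
        · exact absurd h1 h2
        · exact ⟨h1, h3⟩
      · rintro ⟨h1, h3⟩
        refine ⟨Or.inr h1, ?_, h3⟩
        rintro rfl; exact hjJ h1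
    have hcp : LogConn.comp nabla ω j (LogConn.compProd nabla ω J' (e k)) =
        LogConn.compProd nabla ω (insert j J') (e k) := by
      rw [compProd_insert nabla ω j J' (fun x hx => hj x (hJ' hx))]
      rfl
    rw [hcp, ← hset]
    exact Submodule.subset_span
      (mem_Gen nabla ω t e (insert j J) (insert j J') (Finset.insert_subset_insert j hJ') k)
  | zero => rw [map_zero]; exact Submodule.zero_mem _
  | add x y _ _ hx hy => rw [map_add]; exact Submodule.add_mem _ hx hy
  | smul b x hx ih =>
    rw [comp_smul' lam t bΩ hbΩ ω ι hι nabla hc j b x]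
    refine Submodule.add_mem _ (Submodule.smul_mem _ _ ih) ?_
    have h1 := G1 nabla ω t e j J hjJ x hx
    have h2 : (lam * (t j * bΩ.repr (KaehlerDifferential.D A B b) j)) • x =
        (lam * bΩ.repr (KaehlerDifferential.D A B b) j) • (t j • x) := by
      rw [smul_smul]
      congr 1
      ring
    rw [h2]
    exact Submodule.smul_mem _ _ h1

theorem G3 (lam : B) {n m : ℕ} (t : Fin n → B)
    (bΩ : Module.Basis (Fin n) B (KaehlerDifferential A B))
    (hbΩ : ∀ i, bΩ i = KaehlerDifferential.D A B (t i))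
    (ω : Module.Basis (Fin n) B L) (ι : KaehlerDifferential A B →ₗ[B] L)
    (hι : ∀ i, ι (KaehlerDifferential.D A B (t i)) = t i • ω i)
    (nabla : E →ₗ[A] E ⊗[B] L)
    (hc : Conn.IsLamConn (ι.compDer (KaehlerDifferential.D A B)) lam nabla)
    (e : Fin m → E) (he : Submodule.span B (Set.range e) = ⊤) (J : Finset (Fin n)) :
    ∀ x : E, LogConn.compProd nabla ω J x ∈ Submodule.span B (Gen nabla ω t e J) := by
  induction J using Finset.induction_on_min with
  | empty =>
    intro x
    rw [compProd_empty]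
    show x ∈ Submodule.span B (Gen nabla ω t e ∅)
    have hx : x ∈ Submodule.span B (Set.range e) := by rw [he]; exact Submodule.mem_top
    refine Submodule.span_mono ?_ hx
    rintro _ ⟨k, rfl⟩
    have := mem_Gen nabla ω t e ∅ ∅ (subset_refl _) k
    rw [Finset.sdiff_self, Finset.prod_empty, one_smul, compProd_empty] at this
    exact this
  | insert j J hj ih =>
    intro x
    rw [compProd_insert nabla ω j J hj]
    exact G2 lam t bΩ hbΩ ω ι hι nabla hc e j J hj _ (ih x)

end Aux


open TensorProduct in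
/-- Let B be a commutative algebra over a commutative ring A, λ ∈ B, and t₁, …, tₙ ∈ B elements whose
differentials dt₁, …, dtₙ form a basis of the Kähler differentials Ω of B over A; let L be a
B-module free on ω₁, …, ωₙ with a B-linear ι : Ω → L sending dtᵢ to tᵢ ωᵢ (ωᵢ playing the role of
dlog tᵢ), and E a B-module with an A-linear ∇ : E → E ⊗ L obeying the λ-twisted Leibniz rule ∇(b e)
= b ∇e + λ e ⊗ ι(db); write ∇ᵢ for the components of ∇ in the basis ω, ∇_J for their composite over
a finite index set J in increasing order, and E_I = Σ_{J ⊆ I} (∏_{i ∈ I∖J} tᵢ) · ∇_J(E) (an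
A-submodule of E) for a finite index set I. Suppose E is generated over B by finitely many elements
e₁, …, e_m. Then for every finite index set I the piece E_I is the B-span of the finitely many
elements (∏_{i ∈ I∖J} tᵢ) · ∇_J(e_k), J ⊆ I, 1 ≤ k ≤ m; in particular E_I is a finitely generated
B-module. (The published statement is phrased for sheaves — E_w is quasi-coherent, resp. coherent,
when E is — and its proof exhibits these generators; flatness of ∇ is not used.) -/
theorem result {A : Type v} {B L E : Type u} [CommRing A] [CommRing B]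
    [Algebra A B] [AddCommGroup L] [Module B L] [Module A L] [IsScalarTower A B L]
    [AddCommGroup E] [Module B E] [Module A E] [IsScalarTower A B E]
    (lam : B) {n : ℕ} (t : Fin n → B) (bΩ : Module.Basis (Fin n) B (KaehlerDifferential A B))
    (hbΩ : ∀ i, bΩ i = KaehlerDifferential.D A B (t i))
    (ω : Module.Basis (Fin n) B L) (ι : KaehlerDifferential A B →ₗ[B] L)
    (hι : ∀ i, ι (KaehlerDifferential.D A B (t i)) = t i • ω i)
    (nabla : E →ₗ[A] E ⊗[B] L)
    (hc : Conn.IsLamConn (ι.compDer (KaehlerDifferential.D A B)) lam nabla)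
    {m : ℕ} (e : Fin m → E) (he : Submodule.span B (Set.range e) = ⊤) (I : Finset (Fin n)) :
    (Submodule.span B (⋃ J ∈ I.powerset, Set.range (fun k : Fin m =>
        (∏ i ∈ I \ J, t i) • LogConn.compProd nabla ω J (e k)))).restrictScalars A =
      LogConn.piece nabla ω t I := by
  show (Submodule.span B (Gen nabla ω t e I)).restrictScalars A = _
  apply le_antisymm
  · intro x hx
    rw [Submodule.restrictScalars_mem] at hx
    induction hx using Submodule.span_induction with
    | mem x hx =>
      obtain ⟨J, hJ, k, rfl⟩ := Gen_cases nabla ω t e I x hx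
      exact mem_piece nabla ω t I J hJ (e k)
    | zero => exact Submodule.zero_mem _
    | add x y _ _ hx hy => exact Submodule.add_mem _ hx hy
    | smul b x _ hx => exact Groth.Agent.S16792.result lam t bΩ hbΩ ω ι hι nabla hc I b x hx
  · refine piece_le nabla ω t I _ fun J hJ x => ?_
    rw [Submodule.restrictScalars_mem]
    exact G4 nabla ω t e I J hJ _ (G3 lam t bΩ hbΩ ω ι hι nabla hc e he J x)

end Groth.Agent.S16795
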