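import Groth.Statements.S16796
import Mathlib
import Groth.Agent.S16792

set_option autoImplicit false
universe v u
open LogConn

namespace Groth.Agent.S16796


open TensorProduct
open Groth.Agent.S16792 (piece_le mem_piece repr_iota)

section Aux

variable {A : Type v} {B L E : Type u} [CommRing A] [CommRing B]
    [Algebra A B] [AddCommGroup L] [Module B L] [Module A L] [IsScalarTower A B L]
    [AddCommGroup E] [Module B E] [Module A E] [IsScalarTower A B E]

theorem coordE_tmul {n : ℕ} (ω : Module.Basis (Fin n) B L) (p : ℕ)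
    (K : Set.powersetCard (Fin n) p) (y : E) (z : ↥(⋀[B]^p L)) :
    LogConn.coordE (E := E) ω p K (y ⊗ₜ[B] z) = ((ω.exteriorPower p).coord K z) • y := by
  unfold LogConn.coordE
  rw [LinearMap.comp_apply, TensorProduct.map_tmul, LinearEquiv.coe_coe, TensorProduct.rid_tmul,
    LinearMap.id_apply]

theorem coord_ιMulti {n : ℕ} (ω : Module.Basis (Fin n) B L) (p : ℕ)
    (K : Set.powersetCard (Fin n) p) (v : Fin p → L) :
    (ω.exteriorPower p).coord K (exteriorPower.ιMulti B p v) =
      (Matrix.of fun i j => ω.repr (v i) (Finset.orderEmbOfFin K.val K.prop j)).det := by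
  rw [exteriorPower.basis_coord, exteriorPower.ιMultiDual_apply_ιMulti]
  rfl

theorem prod_ite_eq {n p : ℕ} (t : Fin n → B) (K' J : Finset (Fin n)) (hJ : J ⊆ K')
    (g : Fin p → Fin n) (hg : Function.Injective g)
    (himg : Finset.image g Finset.univ = K') :
    ∏ k, (if g k ∈ J then (1 : B) else t (g k)) = ∏ x ∈ K' \ J, t x := by
  have h1 : ∏ k, (if g k ∈ J then (1 : B) else t (g k)) =
      ∏ x ∈ K', (if x ∈ J then (1 : B) else t x) := by
    rw [← himg, Finset.prod_image (fun a _ b _ h => hg h)]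
  rw [h1, ← Finset.prod_sdiff hJ]
  have h2 : ∏ x ∈ J, (if x ∈ J then (1 : B) else t x) = 1 :=
    Finset.prod_eq_one fun x hx => if_pos hx
  rw [h2, mul_one]
  refine Finset.prod_congr rfl fun x hx => ?_
  exact if_neg (Finset.mem_sdiff.mp hx).2

theorem gen_mem (lam : B) {n : ℕ} (t : Fin n → B)
    (bΩ : Module.Basis (Fin n) B (KaehlerDifferential A B))
    (hbΩ : ∀ i, bΩ i = KaehlerDifferential.D A B (t i))
    (ω : Module.Basis (Fin n) B L) (ι : KaehlerDifferential A B →ₗ[B] L)
    (hι : ∀ i, ι (KaehlerDifferential.D A B (t i)) = t i • ω i)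
    (nabla : E →ₗ[A] E ⊗[B] L)
    (hc : Conn.IsLamConn (ι.compDer (KaehlerDifferential.D A B)) lam nabla)
    (p : ℕ) (K : Set.powersetCard (Fin n) p)
    (I : Finset (Fin n)) (hI : I.card ≤ p) (e : E) (v : Fin p → L)
    (hv1 : ∀ (k : Fin p) (hk : k.val < I.card), v k = ω (I.orderEmbOfFin rfl ⟨k.val, hk⟩))
    (hv2 : ∀ k : Fin p, I.card ≤ k.val → v k ∈ LinearMap.range ι) :
    LogConn.coordE (E := E) ω p K
        (LogConn.compProd nabla ω I e ⊗ₜ[B] exteriorPower.ιMulti B p v) ∈
      LogConn.piece nabla ω t K.val := by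
  rw [coordE_tmul, coord_ιMulti]
  obtain ⟨kk, hkk⟩ : ∃ kk : Fin p ↪o Fin n, kk = Finset.orderEmbOfFin K.val K.prop := ⟨_, rfl⟩
  rw [← hkk]
  have hkkmem : ∀ j, kk j ∈ K.val := fun j => by
    rw [hkk]; exact Finset.orderEmbOfFin_mem _ _ j
  by_cases hIK : I ⊆ K.val
  · have hη : ∀ i : Fin p, ∃ η : KaehlerDifferential A B, I.card ≤ i.val → v i = ι η := by
      intro i
      by_cases h : I.card ≤ i.val
      · obtain ⟨η, hη⟩ := hv2 i h
        exact ⟨η, fun _ => hη.symm⟩
      · exact ⟨0, fun h' => absurd h' h⟩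
    choose η hη using hη
    obtain ⟨M', hM'⟩ : ∃ M' : Matrix (Fin p) (Fin p) B, M' = Matrix.of fun i j =>
        if kk j ∈ I then ω.repr (v i) (kk j)
        else (if I.card ≤ i.val then bΩ.repr (η i) (kk j) else 0) := ⟨_, rfl⟩
    have hM : (Matrix.of fun i j => ω.repr (v i) (kk j)) =
        Matrix.of fun i j => (if kk j ∈ I then (1 : B) else t (kk j)) * M' i j := by
      refine Matrix.ext fun i j => ?_
      rw [hM']
      simp only [Matrix.of_apply]
      by_cases h1 : kk j ∈ I
      · rw [if_pos h1, if_pos h1, one_mul]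
      · rw [if_neg h1, if_neg h1]
        by_cases h2 : I.card ≤ i.val
        · rw [if_pos h2, hη i h2, repr_iota t bΩ hbΩ ω ι hι]
        · rw [if_neg h2, mul_zero, hv1 i (not_le.mp h2), Module.Basis.repr_self,
            Finsupp.single_apply, if_neg]
          intro h3
          refine h1 ?_
          rw [← h3]
          exact Finset.orderEmbOfFin_mem _ _ _
    have hprod : ∏ j, (if kk j ∈ I then (1 : B) else t (kk j)) = ∏ x ∈ K.val \ I, t x :=
      prod_ite_eq t K.val I hIK kk kk.injective
        (by rw [hkk]; exact Finset.image_orderEmbOfFin_univ _ _)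
    rw [hM, Matrix.det_mul_row, hprod, mul_comm (∏ x ∈ K.val \ I, t x) M'.det, mul_smul]
    exact Groth.Agent.S16792.result lam t bΩ hbΩ ω ι hι nabla hc K.val _ _
      (mem_piece nabla ω t K.val I hIK e)
  · obtain ⟨x, hxI, hxK⟩ := Finset.not_subset.mp hIK
    have hxr : x ∈ Set.range (I.orderEmbOfFin rfl) := by
      rw [Finset.range_orderEmbOfFin]; exact Finset.mem_coe.mpr hxI
    obtain ⟨m, rfl⟩ := hxr
    have hdet : (Matrix.of fun i j => ω.repr (v i) (kk j)).det = 0 := by
      refine Matrix.det_eq_zero_of_row_eq_zero ⟨m.val, lt_of_lt_of_le m.2 hI⟩ fun j => ?_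
      rw [Matrix.of_apply, hv1 ⟨m.val, lt_of_lt_of_le m.2 hI⟩ m.2, Module.Basis.repr_self,
        Finsupp.single_apply, if_neg]
      intro h3
      refine hxK ?_
      have := hkkmem j
      rw [← h3] at this
      exact this
    rw [hdet, zero_smul]
    exact Submodule.zero_mem _

theorem expand {n : ℕ} (ω : Module.Basis (Fin n) B L) (p : ℕ) (x : E ⊗[B] ↥(⋀[B]^p L)) :
    x = ∑ K : Set.powersetCard (Fin n) p,
      (LogConn.coordE (E := E) ω p K x) ⊗ₜ[B] (ω.exteriorPower p K) := by
  induction x using TensorProduct.induction_on with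
  | zero => simp only [map_zero, TensorProduct.zero_tmul, Finset.sum_const_zero]
  | tmul y z =>
    conv_lhs => rw [← (ω.exteriorPower p).sum_repr z, TensorProduct.tmul_sum]
    refine Finset.sum_congr rfl fun K _ => ?_
    rw [coordE_tmul, Module.Basis.coord_apply, TensorProduct.smul_tmul]
  | add a b ha hb =>
    conv_lhs => rw [ha, hb]
    rw [← Finset.sum_add_distrib]
    refine Finset.sum_congr rfl fun K _ => ?_
    rw [map_add, TensorProduct.add_tmul]

theorem ιMulti_eq_or_neg {n : ℕ} (ω : Module.Basis (Fin n) B L) (p : ℕ)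
    (K : Set.powersetCard (Fin n) p)
    (g : Fin p → Fin n) (hg : Function.Injective g) (hgK : ∀ i, g i ∈ K.val) :
    exteriorPower.ιMulti B p (fun i => ω (g i)) = ω.exteriorPower p K ∨
    exteriorPower.ιMulti B p (fun i => ω (g i)) = - ω.exteriorPower p K := by
  obtain ⟨e, he⟩ : ∃ e : Fin p ≃o K.val, e = K.val.orderIsoOfFin K.prop := ⟨_, rfl⟩
  have hinj : Function.Injective (fun i : Fin p => e.symm ⟨g i, hgK i⟩) := by
    intro i j hij
    have := e.symm.injective hij
    exact hg (congrArg Subtype.val this)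
  have hbij : Function.Bijective (fun i : Fin p => e.symm ⟨g i, hgK i⟩) :=
    ⟨hinj, Finite.injective_iff_surjective.mp hinj⟩
  obtain ⟨σ, hσdef⟩ : ∃ σ : Equiv.Perm (Fin p), ∀ i, σ i = e.symm ⟨g i, hgK i⟩ :=
    ⟨Equiv.ofBijective _ hbij, fun i => rfl⟩
  have hσ : ∀ i, g i = Finset.orderEmbOfFin K.val K.prop (σ i) := by
    intro i
    have h1 : e (σ i) = ⟨g i, hgK i⟩ := by
      rw [hσdef i]
      exact e.apply_symm_apply _
    have h2 := congrArg Subtype.val h1
    rw [he, Finset.coe_orderIsoOfFin_apply] at h2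
    exact h2.symm
  have hfun : (fun i => ω (g i)) =
      (fun i => ω (Finset.orderEmbOfFin K.val K.prop i)) ∘ σ := by
    funext i
    rw [Function.comp_apply, hσ i]
  have hb : ω.exteriorPower p K =
      exteriorPower.ιMulti B p (fun i => ω (Finset.orderEmbOfFin K.val K.prop i)) := by
    rw [exteriorPower.basis_apply]
    rfl
  rw [hfun, AlternatingMap.map_perm, hb]
  rcases Int.units_eq_one_or (Equiv.Perm.sign σ) with h | h
  · left; rw [h, one_smul]
  · right; rw [h, Units.neg_smul, one_smul]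

/-- the `A`-submodule `{y | y ⊗ z ∈ G}` of `E`. -/
def tmulComap {N : Type u} [AddCommGroup N] [Module B N] (G : Submodule B (E ⊗[B] N)) (z : N) :
    Submodule A E where
  carrier := {y | y ⊗ₜ[B] z ∈ G}
  add_mem' := by
    intro a b ha hb
    show (a + b) ⊗ₜ[B] z ∈ G
    rw [TensorProduct.add_tmul]
    exact G.add_mem ha hb
  zero_mem' := by
    show (0 : E) ⊗ₜ[B] z ∈ G
    rw [TensorProduct.zero_tmul]
    exact G.zero_mem
  smul_mem' := by
    intro a y hy
    show (a • y) ⊗ₜ[B] z ∈ G
    rw [← algebraMap_smul B a y, ← TensorProduct.smul_tmul']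
    exact G.smul_mem _ hy

theorem tmul_basis_mem {n : ℕ} (t : Fin n → B)
    (ω : Module.Basis (Fin n) B L) (ι : KaehlerDifferential A B →ₗ[B] L)
    (hι : ∀ i, ι (KaehlerDifferential.D A B (t i)) = t i • ω i)
    (nabla : E →ₗ[A] E ⊗[B] L)
    (p : ℕ) (K : Set.powersetCard (Fin n) p)
    (J : Finset (Fin n)) (hJK : J ⊆ K.val) (e : E) :
    ((∏ x ∈ K.val \ J, t x) • LogConn.compProd nabla ω J e) ⊗ₜ[B] (ω.exteriorPower p K) ∈
      Submodule.span B (LogConn.gens nabla ω ι p) := by
  have hKc : K.val.card = p := K.prop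
  have hl : J.card ≤ p := hKc ▸ Finset.card_le_card hJK
  have hD : (K.val \ J).card = p - J.card := by
    rw [Finset.card_sdiff_of_subset hJK, hKc]
  obtain ⟨g, hg⟩ : ∃ g : Fin p → Fin n, g = fun k =>
      if h : k.val < J.card then J.orderEmbOfFin rfl ⟨k.val, h⟩
      else (K.val \ J).orderEmbOfFin hD ⟨k.val - J.card, by have := k.isLt; omega⟩ := ⟨_, rfl⟩
  have hg1 : ∀ (k : Fin p) (hk : k.val < J.card), g k = J.orderEmbOfFin rfl ⟨k.val, hk⟩ := by
    intro k hk; rw [hg]; exact dif_pos hk
  have hg2 : ∀ (k : Fin p) (hk : ¬ k.val < J.card),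
      g k = (K.val \ J).orderEmbOfFin hD ⟨k.val - J.card, by have := k.isLt; omega⟩ := by
    intro k hk; rw [hg]; exact dif_neg hk
  have hgJ : ∀ k : Fin p, k.val < J.card → g k ∈ J := fun k hk => by
    rw [hg1 k hk]; exact Finset.orderEmbOfFin_mem _ _ _
  have hgD : ∀ k : Fin p, ¬ k.val < J.card → g k ∈ K.val \ J := fun k hk => by
    rw [hg2 k hk]; exact Finset.orderEmbOfFin_mem _ _ _
  have hgK : ∀ k, g k ∈ K.val := by
    intro k
    by_cases hk : k.val < J.card
    · exact hJK (hgJ k hk)
    · exact (Finset.mem_sdiff.mp (hgD k hk)).1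
  have hginj : Function.Injective g := by
    intro k k' hkk'
    by_cases hk : k.val < J.card <;> by_cases hk' : k'.val < J.card
    · rw [hg1 k hk, hg1 k' hk'] at hkk'
      have := (J.orderEmbOfFin rfl).injective hkk'
      have h3 := congrArg Fin.val this
      exact Fin.ext h3
    · exfalso
      have h1 := hgJ k hk
      have h2 := hgD k' hk'
      rw [hkk'] at h1
      exact (Finset.mem_sdiff.mp h2).2 h1
    · exfalso
      have h1 := hgJ k' hk'
      have h2 := hgD k hk
      rw [← hkk'] at h1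
      exact (Finset.mem_sdiff.mp h2).2 h1
    · rw [hg2 k hk, hg2 k' hk'] at hkk'
      have := ((K.val \ J).orderEmbOfFin hD).injective hkk'
      have h3 := congrArg Fin.val this
      change k.val - J.card = k'.val - J.card at h3
      exact Fin.ext (by omega)
  have himg : Finset.image g Finset.univ = K.val := by
    refine Finset.eq_of_subset_of_card_le ?_ ?_
    · intro x hx
      obtain ⟨k, _, rfl⟩ := Finset.mem_image.mp hx
      exact hgK k
    · rw [Finset.card_image_of_injective _ hginj, Finset.card_univ, Fintype.card_fin, hKc]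
  obtain ⟨c, hc'⟩ : ∃ c : Fin p → B, c = fun k => if g k ∈ J then (1 : B) else t (g k) :=
    ⟨_, rfl⟩
  have hc1 : ∀ k, c k = if g k ∈ J then (1 : B) else t (g k) := fun k => by rw [hc']
  obtain ⟨v, hv⟩ : ∃ v : Fin p → L, v = fun k => c k • ω (g k) := ⟨_, rfl⟩
  have hvk : ∀ k, v k = c k • ω (g k) := fun k => by rw [hv]
  have hv1 : ∀ (k : Fin p) (hk : k.val < J.card),
      v k = ω (J.orderEmbOfFin rfl ⟨k.val, hk⟩) := by
    intro k hk
    rw [hvk, hc1, if_pos (hgJ k hk), one_smul, hg1 k hk]
  have hv2 : ∀ k : Fin p, J.card ≤ k.val → v k ∈ LinearMap.range ι := by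
    intro k hk
    have hk' : ¬ k.val < J.card := not_lt.mpr hk
    rw [hvk, hc1, if_neg (Finset.mem_sdiff.mp (hgD k hk')).2, ← hι]
    exact LinearMap.mem_range_self _ _
  have hgen : LogConn.compProd nabla ω J e ⊗ₜ[B] exteriorPower.ιMulti B p v ∈
      LogConn.gens nabla ω ι p :=
    ⟨J, hl, e, v, hv1, hv2, rfl⟩
  have hprod : ∏ i, c i = ∏ x ∈ K.val \ J, t x := by
    rw [hc']; exact prod_ite_eq t K.val J hJK g hginj himg
  have hmul : exteriorPower.ιMulti B p v =
      (∏ x ∈ K.val \ J, t x) • exteriorPower.ιMulti B p (fun i => ω (g i)) := by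
    rw [hv, AlternatingMap.map_smul_univ, hprod]
  rcases ιMulti_eq_or_neg ω p K g hginj hgK with h | h
  · have : ((∏ x ∈ K.val \ J, t x) • LogConn.compProd nabla ω J e) ⊗ₜ[B]
          (ω.exteriorPower p K) =
        LogConn.compProd nabla ω J e ⊗ₜ[B] exteriorPower.ιMulti B p v := by
      rw [hmul, h, TensorProduct.smul_tmul]
    rw [this]
    exact Submodule.subset_span hgen
  · have : ((∏ x ∈ K.val \ J, t x) • LogConn.compProd nabla ω J e) ⊗ₜ[B]
          (ω.exteriorPower p K) =
        - (LogConn.compProd nabla ω J e ⊗ₜ[B] exteriorPower.ιMulti B p v) := by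
      rw [hmul, h, TensorProduct.smul_tmul, smul_neg, TensorProduct.tmul_neg, neg_neg]
    rw [this]
    exact Submodule.neg_mem _ (Submodule.subset_span hgen)

end Aux


open TensorProduct in
/-- Let B be a commutative algebra over a commutative ring A, λ ∈ B, and t₁, …, tₙ ∈ B elements whose
differentials dt₁, …, dtₙ form a basis of the Kähler differentials Ω of B over A; let L be a
B-module free on ω₁, …, ωₙ with a B-linear ι : Ω → L sending dtᵢ to tᵢ ωᵢ (ωᵢ playing the role of
dlog tᵢ), and E a B-module with an A-linear ∇ : E → E ⊗ L obeying the λ-twisted Leibniz rule ∇(b e)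
= b ∇e + λ e ⊗ ι(db); write ∇ᵢ for the components of ∇ in the basis ω, ∇_J for their composite over
a finite index set J in increasing order, and E_I = Σ_{J ⊆ I} (∏_{i ∈ I∖J} tᵢ) · ∇_J(E) (an
A-submodule of E) for a finite index set I. For each degree p let R^p ⊆ E ⊗ Λ^p L be the B-span of
the elements ∇_I(e) ⊗ (ω_{i₁} ∧ ⋯ ∧ ω_{i_l} ∧ ι(η₁) ∧ ⋯ ∧ ι(η_{p−l})) with I = {i₁ < ⋯ < i_l}, l ≤
p, e ∈ E, ηⱼ ∈ Ω (the degree-p part of the graded submodule generated by the ∇_I(e) ⊗ ω_I under
multiplication by forms from Ω). Then R^p is the set of elements of E ⊗ Λ^p L whose coordinate along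
ω_K = ω_{k₁} ∧ ⋯ ∧ ω_{k_p} lies in E_K for every set K of p indices; in other words R^p = ⊕_{|K| =
p} E_K ⊗ ω_K. (Flatness of ∇ is not used.) -/
theorem result {A : Type v} {B L E : Type u} [CommRing A] [CommRing B]
    [Algebra A B] [AddCommGroup L] [Module B L] [Module A L] [IsScalarTower A B L]
    [AddCommGroup E] [Module B E] [Module A E] [IsScalarTower A B E]
    (lam : B) {n : ℕ} (t : Fin n → B) (bΩ : Module.Basis (Fin n) B (KaehlerDifferential A B))
    (hbΩ : ∀ i, bΩ i = KaehlerDifferential.D A B (t i))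
    (ω : Module.Basis (Fin n) B L) (ι : KaehlerDifferential A B →ₗ[B] L)
    (hι : ∀ i, ι (KaehlerDifferential.D A B (t i)) = t i • ω i)
    (nabla : E →ₗ[A] E ⊗[B] L)
    (hc : Conn.IsLamConn (ι.compDer (KaehlerDifferential.D A B)) lam nabla)
    (p : ℕ) :
    (Submodule.span B (LogConn.gens nabla ω ι p)).restrictScalars A = LogConn.layer nabla ω t p := by
  apply le_antisymm
  · intro x hx
    rw [Submodule.restrictScalars_mem] at hx
    unfold LogConn.layer
    rw [Submodule.mem_iInf]
    intro K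
    rw [Submodule.mem_comap]
    show LogConn.coordE (E := E) ω p K x ∈ LogConn.piece nabla ω t K.val
    induction hx using Submodule.span_induction with
    | mem x hx =>
      obtain ⟨I, hI, e, v, hv1, hv2, rfl⟩ := hx
      exact gen_mem lam t bΩ hbΩ ω ι hι nabla hc p K I hI e v hv1 hv2
    | zero => rw [map_zero]; exact Submodule.zero_mem _
    | add x y _ _ hx hy => rw [map_add]; exact Submodule.add_mem _ hx hy
    | smul b x _ hx =>
      rw [map_smul]
      exact Groth.Agent.S16792.result lam t bΩ hbΩ ω ι hι nabla hc K.val b _ hx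
  · intro x hx
    rw [Submodule.restrictScalars_mem]
    have hK : ∀ K : Set.powersetCard (Fin n) p,
        LogConn.coordE (E := E) ω p K x ∈ LogConn.piece nabla ω t K.val := by
      intro K
      unfold LogConn.layer at hx
      rw [Submodule.mem_iInf] at hx
      exact hx K
    rw [expand ω p x]
    refine Submodule.sum_mem _ fun K _ => ?_
    have hle := piece_le nabla ω t K.val
      (tmulComap (A := A) (Submodule.span B (LogConn.gens nabla ω ι p)) (ω.exteriorPower p K))
      (fun J hJ e => tmul_basis_mem t ω ι hι nabla p K J hJ e)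
    exact hle (hK K)

end Groth.Agent.S16796
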