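import Groth.Statements.S16797
import Mathlib
import Groth.Agent.S16792
import Groth.Agent.S16796

set_option autoImplicit false
universe v u
open LogConn

namespace Groth.Agent.S16797


open TensorProduct
open Groth.Agent.S16792 (piece_le mem_piece repr_iota repr_D_prod compProd_empty compProd_insert)
open Groth.Agent.S16796 (coordE_tmul expand ιMulti_eq_or_neg)

section Aux

variable {A : Type v} {B L E : Type u} [CommRing A] [CommRing B]
    [Algebra A B] [AddCommGroup L] [Module B L] [Module A L] [IsScalarTower A B L]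
    [AddCommGroup E] [Module B E] [Module A E] [IsScalarTower A B E]

theorem expandL {n : ℕ} (ω : Module.Basis (Fin n) B L) (z : E ⊗[B] L) :
    z = ∑ i, (TensorProduct.rid B E (TensorProduct.map LinearMap.id (ω.coord i) z)) ⊗ₜ[B] ω i := by
  induction z using TensorProduct.induction_on with
  | zero => simp only [map_zero, TensorProduct.zero_tmul, Finset.sum_const_zero]
  | tmul y x =>
    conv_lhs => rw [← ω.sum_repr x, TensorProduct.tmul_sum]
    refine Finset.sum_congr rfl fun i _ => ?_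
    rw [TensorProduct.map_tmul, TensorProduct.rid_tmul, LinearMap.id_apply,
      Module.Basis.coord_apply, TensorProduct.smul_tmul]
  | add a b ha hb =>
    conv_lhs => rw [ha, hb]
    rw [← Finset.sum_add_distrib]
    refine Finset.sum_congr rfl fun i _ => ?_
    rw [map_add, map_add, TensorProduct.add_tmul]

noncomputable def W (p : ℕ) (η : ↥(⋀[B]^p L)) :
    E ⊗[B] L →ₗ[B] E ⊗[B] ↥(⋀[B]^(p + 1) L) :=
  (Conn.twedge p).flip η ∘ₗ Conn.toOne

theorem W_apply (p : ℕ) (η : ↥(⋀[B]^p L)) (z : E ⊗[B] L) :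
    W p η z = Conn.twedge p (Conn.toOne z) η := rfl

theorem W_tmul (p : ℕ) (η : ↥(⋀[B]^p L)) (y : E) (x : L) :
    W p η (y ⊗ₜ[B] x) =
      y ⊗ₜ[B] Conn.wedge p ((exteriorPower.oneEquiv B L).symm x) η := by
  rw [W_apply, Conn.toOne_tmul, Conn.twedge_tmul]

theorem d_basis_eq_zero {n : ℕ} (ω : Module.Basis (Fin n) B L)
    (ι : KaehlerDifferential A B →ₗ[B] L)
    (d : ∀ p : ℕ, ↥(⋀[B]^p L) →ₗ[A] ↥(⋀[B]^(p + 1) L))
    (hd : LogDiff.IsLogRule (KaehlerDifferential.D A B) ι (⇑ω) d)
    (p : ℕ) (v : Fin p → L) (hv : ∀ k, ∃ i, v k = ω i) :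
    d p (exteriorPower.ιMulti B p v) = 0 := by
  have h := hd p 1 v (fun k => Or.inr (hv k))
  rw [one_smul] at h
  rw [h]
  refine (exteriorPower.ιMulti B (p + 1)).map_coord_zero (0 : Fin (p + 1)) ?_
  rw [Fin.cons_zero, Derivation.map_one_eq_zero, map_zero]

theorem oneEquiv_symm_eq (x : L) :
    (exteriorPower.oneEquiv B L).symm x = exteriorPower.ιMulti B 1 (fun _ => x) := by
  rw [LinearEquiv.symm_apply_eq, exteriorPower.oneEquiv_ιMulti]

theorem oneEquiv_symm_coe (x : L) :
    (((exteriorPower.oneEquiv B L).symm x : ↥(⋀[B]^1 L)) : ExteriorAlgebra B L) =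
      ExteriorAlgebra.ι B x := by
  rw [oneEquiv_symm_eq, exteriorPower.ιMulti_apply_coe, ExteriorAlgebra.ιMulti_succ_apply,
    ExteriorAlgebra.ιMulti_zero_apply, mul_one]

theorem wedge_ιMulti (p : ℕ) (x : L) (v : Fin p → L) :
    Conn.wedge p ((exteriorPower.oneEquiv B L).symm x) (exteriorPower.ιMulti B p v) =
      exteriorPower.ιMulti B (p + 1) (Fin.cons x v) := by
  apply Subtype.ext
  rw [Conn.wedge_apply_coe, oneEquiv_symm_coe, exteriorPower.ιMulti_apply_coe,
    exteriorPower.ιMulti_apply_coe, ExteriorAlgebra.ιMulti_succ_apply]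
  have h2 : Matrix.vecTail (Fin.cons x v : Fin (p + 1) → L) = v := by
    funext i
    simp only [Matrix.vecTail, Function.comp_apply, Fin.cons_succ]
  rw [h2, Fin.cons_zero]

theorem basis_eq {n : ℕ} (ω : Module.Basis (Fin n) B L) (p : ℕ)
    (K : Set.powersetCard (Fin n) p) :
    ω.exteriorPower p K =
      exteriorPower.ιMulti B p (fun i => ω (Finset.orderEmbOfFin K.val K.prop i)) := by
  rw [exteriorPower.basis_apply]
  rfl

theorem w_mem {n : ℕ} (ω : Module.Basis (Fin n) B L) (p : ℕ)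
    (K : Set.powersetCard (Fin n) p) (i : Fin n) (hi : i ∈ K.val) :
    Conn.wedge p ((exteriorPower.oneEquiv B L).symm (ω i)) (ω.exteriorPower p K) = 0 := by
  rw [basis_eq, wedge_ιMulti]
  have hr : i ∈ Set.range (Finset.orderEmbOfFin K.val K.prop) := by
    rw [Finset.range_orderEmbOfFin]; exact Finset.mem_coe.mpr hi
  obtain ⟨m, hm⟩ := hr
  refine (exteriorPower.ιMulti B (p + 1)).map_eq_zero_of_eq _ (i := 0) (j := m.succ) ?_
    (Fin.succ_ne_zero m).symm
  rw [Fin.cons_zero, Fin.cons_succ, hm]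

theorem w_not_mem {n : ℕ} (ω : Module.Basis (Fin n) B L) (p : ℕ)
    (K : Set.powersetCard (Fin n) p) (i : Fin n) (hi : i ∉ K.val) :
    ∃ K' : Set.powersetCard (Fin n) (p + 1), K'.val = insert i K.val ∧
      (Conn.wedge p ((exteriorPower.oneEquiv B L).symm (ω i)) (ω.exteriorPower p K) =
          ω.exteriorPower (p + 1) K' ∨
       Conn.wedge p ((exteriorPower.oneEquiv B L).symm (ω i)) (ω.exteriorPower p K) =
          - ω.exteriorPower (p + 1) K') := by
  have hcard : (insert i K.val).card = p + 1 := by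
    rw [Finset.card_insert_of_notMem hi, K.prop]
  refine ⟨Set.powersetCard.ofCard hcard, rfl, ?_⟩
  rw [basis_eq, wedge_ιMulti]
  obtain ⟨g, hg⟩ : ∃ g : Fin (p + 1) → Fin n,
      g = Fin.cons i (fun m => Finset.orderEmbOfFin K.val K.prop m) := ⟨_, rfl⟩
  have hfun : (Fin.cons (ω i) (fun m => ω (Finset.orderEmbOfFin K.val K.prop m)) :
      Fin (p + 1) → L) = fun j => ω (g j) := by
    funext j
    rw [hg]
    refine Fin.cases ?_ (fun m => ?_) j
    · rw [Fin.cons_zero, Fin.cons_zero]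
    · rw [Fin.cons_succ, Fin.cons_succ]
  rw [hfun]
  refine ιMulti_eq_or_neg ω (p + 1) (Set.powersetCard.ofCard hcard) g ?_ ?_
  · intro a b hab
    rw [hg] at hab
    revert hab
    refine Fin.cases ?_ (fun a' => ?_) a <;> refine Fin.cases ?_ (fun b' => ?_) b
    · intro _; rfl
    · intro hab
      rw [Fin.cons_zero, Fin.cons_succ] at hab
      have := Finset.orderEmbOfFin_mem K.val K.prop b'
      rw [← hab] at this
      exact absurd this hi
    · intro hab
      rw [Fin.cons_zero, Fin.cons_succ] at hab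
      have := Finset.orderEmbOfFin_mem K.val K.prop a'
      rw [hab] at this
      exact absurd this hi
    · intro hab
      rw [Fin.cons_succ, Fin.cons_succ] at hab
      rw [(Finset.orderEmbOfFin K.val K.prop).injective hab]
  · intro j
    rw [hg]
    refine Fin.cases ?_ (fun m => ?_) j
    · rw [Fin.cons_zero]; exact Finset.mem_insert_self _ _
    · rw [Fin.cons_succ]; exact Finset.mem_insert_of_mem (Finset.orderEmbOfFin_mem _ _ _)

theorem tmul_basis_mem_layer {n : ℕ} (nabla : E →ₗ[A] E ⊗[B] L) (ω : Module.Basis (Fin n) B L)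
    (t : Fin n → B) (p : ℕ) (K' : Set.powersetCard (Fin n) p) (m : E)
    (hm : m ∈ LogConn.piece nabla ω t K'.val) :
    m ⊗ₜ[B] (ω.exteriorPower p K') ∈ LogConn.layer nabla ω t p := by
  unfold LogConn.layer
  rw [Submodule.mem_iInf]
  intro K''
  rw [Submodule.mem_comap]
  show LogConn.coordE (E := E) ω p K'' (m ⊗ₜ[B] (ω.exteriorPower p K')) ∈
    LogConn.piece nabla ω t K''.val
  rw [coordE_tmul, Module.Basis.coord_apply, Module.Basis.repr_self, Finsupp.single_apply]
  by_cases h : K' = K''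
  · rw [if_pos h, one_smul, ← h]; exact hm
  · rw [if_neg h, zero_smul]; exact Submodule.zero_mem _

theorem sum_sum_ite {n : ℕ} (f : Fin n → Fin n → E) (a b : Fin n) :
    ∑ j, ∑ i, ((if i = a then (1 : B) else 0) * (if j = b then (1 : B) else 0)) • f i j =
      f a b := by
  rw [Finset.sum_eq_single b]
  · rw [Finset.sum_eq_single a]
    · rw [if_pos rfl, if_pos rfl, one_mul, one_smul]
    · intro i _ hi
      rw [if_neg hi, zero_mul, zero_smul]
    · intro h; exact absurd (Finset.mem_univ a) h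
  · intro j _ hj
    refine Finset.sum_eq_zero fun i _ => ?_
    rw [if_neg hj, mul_zero, zero_smul]
  · intro h; exact absurd (Finset.mem_univ b) h

theorem det_two {k : ℕ} (hk : k = 2) (M : Matrix (Fin k) (Fin k) B) (i0 i1 : Fin k)
    (h0 : i0.val = 0) (h1 : i1.val = 1) :
    M.det = M i0 i0 * M i1 i1 - M i0 i1 * M i1 i0 := by
  subst hk
  have e0 : i0 = 0 := Fin.ext h0
  have e1 : i1 = 1 := Fin.ext h1
  rw [e0, e1, Matrix.det_fin_two]

noncomputable def phi {n : ℕ} (ω : Module.Basis (Fin n) B L) (a b : Fin n) :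
    Module.Dual B ↥(⋀[B]^(1 + 1) L) :=
  exteriorPower.pairingDual B L (1 + 1)
    (exteriorPower.ιMulti B (1 + 1)
      (Fin.cons (ω.coord a) (fun _ => ω.coord b) : Fin (1 + 1) → Module.Dual B L))

theorem phi_apply {n : ℕ} (ω : Module.Basis (Fin n) B L) (a b i j : Fin n) :
    phi ω a b (exteriorPower.ιMulti B (1 + 1) (Fin.cons (ω i) (fun _ => ω j))) =
      (if i = a then (1 : B) else 0) * (if j = b then (1 : B) else 0) -
        (if i = b then (1 : B) else 0) * (if j = a then (1 : B) else 0) := by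
  unfold phi
  rw [exteriorPower.pairingDual_ιMulti_ιMulti, det_two rfl _ 0 (Fin.succ 0) rfl rfl]
  simp only [Matrix.of_apply, Fin.cons_zero, Fin.cons_succ, Module.Basis.coord_apply,
    Module.Basis.repr_self, Finsupp.single_apply]

/-- computation of `∇^p` on `y ⊗ ιMulti v` with `v` made of basis vectors. -/
theorem nablas_tmul_ιMulti (lam : B) {n : ℕ}
    (ω : Module.Basis (Fin n) B L) (ι : KaehlerDifferential A B →ₗ[B] L)
    (nabla : E →ₗ[A] E ⊗[B] L)
    (d : ∀ p : ℕ, ↥(⋀[B]^p L) →ₗ[A] ↥(⋀[B]^(p + 1) L))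
    (hd : LogDiff.IsLogRule (KaehlerDifferential.D A B) ι (⇑ω) d)
    (nablas : ∀ p : ℕ, E ⊗[B] ↥(⋀[B]^p L) →ₗ[A] E ⊗[B] ↥(⋀[B]^(p + 1) L))
    (hint : Conn.IsIntegrable nabla (fun p => lam • d p) nablas)
    (p : ℕ) (v : Fin p → L) (hv : ∀ k, ∃ i, v k = ω i) (y : E) :
    nablas p (y ⊗ₜ[B] exteriorPower.ιMulti B p v) =
      ∑ i, LogConn.comp nabla ω i y ⊗ₜ[B] exteriorPower.ιMulti B (p + 1) (Fin.cons (ω i) v) := by
  have key : nablas p (y ⊗ₜ[B] exteriorPower.ιMulti B p v) =
      Conn.twedge p (Conn.toOne (nabla y)) (exteriorPower.ιMulti B p v) +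
        y ⊗ₜ[B] ((lam • d p) (exteriorPower.ιMulti B p v)) := hint.1 p y _
  rw [key, LinearMap.smul_apply, d_basis_eq_zero ω ι d hd p v hv, smul_zero,
    TensorProduct.tmul_zero, add_zero, ← W_apply]
  conv_lhs => rw [expandL ω (nabla y)]
  rw [map_sum]
  refine Finset.sum_congr rfl fun i _ => ?_
  rw [W_tmul, wedge_ιMulti]
  rfl

theorem comp_comm (lam : B) {n : ℕ}
    (ω : Module.Basis (Fin n) B L) (ι : KaehlerDifferential A B →ₗ[B] L)
    (nabla : E →ₗ[A] E ⊗[B] L)
    (d : ∀ p : ℕ, ↥(⋀[B]^p L) →ₗ[A] ↥(⋀[B]^(p + 1) L))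
    (hd : LogDiff.IsLogRule (KaehlerDifferential.D A B) ι (⇑ω) d)
    (nablas : ∀ p : ℕ, E ⊗[B] ↥(⋀[B]^p L) →ₗ[A] E ⊗[B] ↥(⋀[B]^(p + 1) L))
    (hint : Conn.IsIntegrable nabla (fun p => lam • d p) nablas)
    (a b : Fin n) (m : E) :
    LogConn.comp nabla ω a (LogConn.comp nabla ω b m) =
      LogConn.comp nabla ω b (LogConn.comp nabla ω a m) := by
  obtain ⟨c, hcdef⟩ : ∃ c : Fin n → Fin n → E,
      ∀ i j, c i j = LogConn.comp nabla ω i (LogConn.comp nabla ω j m) := ⟨_, fun _ _ => rfl⟩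
  have h0 := hint.2 m
  have h1 : nablas 1 (Conn.toOne (nabla m)) =
      ∑ j, ∑ i, c i j ⊗ₜ[B]
        exteriorPower.ιMulti B (1 + 1) (Fin.cons (ω i) (fun _ => ω j)) := by
    conv_lhs => rw [expandL ω (nabla m)]
    rw [map_sum, map_sum]
    refine Finset.sum_congr rfl fun j _ => ?_
    rw [Conn.toOne_tmul, oneEquiv_symm_eq,
      nablas_tmul_ιMulti lam ω ι nabla d hd nablas hint 1 _ (fun _ => ⟨j, rfl⟩)]
    refine Finset.sum_congr rfl fun i _ => ?_
    rw [hcdef]
    rfl
  rw [h1] at h0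
  have h4 : TensorProduct.rid B E (TensorProduct.map LinearMap.id (phi ω a b)
      (∑ j, ∑ i, c i j ⊗ₜ[B]
        exteriorPower.ιMulti B (1 + 1) (Fin.cons (ω i) (fun _ => ω j)))) = 0 := by
    rw [h0]; simp only [map_zero]
  have h3 : ∑ j, ∑ i, ((if i = a then (1 : B) else 0) * (if j = b then (1 : B) else 0) -
      (if i = b then (1 : B) else 0) * (if j = a then (1 : B) else 0)) • c i j = 0 := by
    rw [← h4, map_sum, map_sum]
    refine Finset.sum_congr rfl fun j _ => ?_
    rw [map_sum, map_sum]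
    refine Finset.sum_congr rfl fun i _ => ?_
    rw [TensorProduct.map_tmul, TensorProduct.rid_tmul, LinearMap.id_apply, phi_apply]
  simp only [sub_smul, Finset.sum_sub_distrib] at h3
  rw [sum_sum_ite c a b, sum_sum_ite c b a] at h3
  rw [← hcdef, ← hcdef]
  exact sub_eq_zero.mp h3

theorem comp_compProd {n : ℕ} (nabla : E →ₗ[A] E ⊗[B] L) (ω : Module.Basis (Fin n) B L)
    (hcomm : ∀ (a b : Fin n) (m : E), LogConn.comp nabla ω a (LogConn.comp nabla ω b m) =
      LogConn.comp nabla ω b (LogConn.comp nabla ω a m))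
    (i : Fin n) (J : Finset (Fin n)) :
    i ∉ J → ∀ e : E, LogConn.comp nabla ω i (LogConn.compProd nabla ω J e) =
      LogConn.compProd nabla ω (insert i J) e := by
  induction J using Finset.induction_on_min with
  | empty =>
    intro _ e
    rw [compProd_insert nabla ω i ∅ (fun x hx => absurd hx (Finset.notMem_empty x))]
    rfl
  | insert j J hj ih =>
    intro hiJ e
    have hij : i ≠ j := fun h => hiJ (by rw [h]; exact Finset.mem_insert_self _ _)
    have hiJ' : i ∉ J := fun h => hiJ (Finset.mem_insert_of_mem h)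
    rcases lt_or_gt_of_ne hij with hlt | hgt
    · rw [compProd_insert nabla ω i (insert j J) (fun x hx => by
        rcases Finset.mem_insert.mp hx with rfl | hx
        · exact hlt
        · exact hlt.trans (hj x hx))]
      rfl
    · have h1 : LogConn.compProd nabla ω (insert j J) e =
          LogConn.comp nabla ω j (LogConn.compProd nabla ω J e) := by
        rw [compProd_insert nabla ω j J hj]; rfl
      rw [h1, hcomm i j, ih hiJ' e, Finset.insert_comm i j J]
      rw [compProd_insert nabla ω j (insert i J) (fun x hx => by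
        rcases Finset.mem_insert.mp hx with rfl | hx
        · exact hgt
        · exact hj x hx)]
      rfl

theorem nablas_tmul_basis (lam : B) {n : ℕ} (t : Fin n → B)
    (bΩ : Module.Basis (Fin n) B (KaehlerDifferential A B))
    (hbΩ : ∀ i, bΩ i = KaehlerDifferential.D A B (t i))
    (ω : Module.Basis (Fin n) B L) (ι : KaehlerDifferential A B →ₗ[B] L)
    (hι : ∀ i, ι (KaehlerDifferential.D A B (t i)) = t i • ω i)
    (nabla : E →ₗ[A] E ⊗[B] L)
    (hc : Conn.IsLamConn (ι.compDer (KaehlerDifferential.D A B)) lam nabla)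
    (d : ∀ p : ℕ, ↥(⋀[B]^p L) →ₗ[A] ↥(⋀[B]^(p + 1) L))
    (hd : LogDiff.IsLogRule (KaehlerDifferential.D A B) ι (⇑ω) d)
    (nablas : ∀ p : ℕ, E ⊗[B] ↥(⋀[B]^p L) →ₗ[A] E ⊗[B] ↥(⋀[B]^(p + 1) L))
    (hint : Conn.IsIntegrable nabla (fun p => lam • d p) nablas)
    (p : ℕ) (K : Set.powersetCard (Fin n) p) (b : B) (y : E)
    (hb : ∀ k, k ∉ K.val → bΩ.repr (KaehlerDifferential.D A B b) k = 0) :
    nablas p ((b • y) ⊗ₜ[B] ω.exteriorPower p K) =
      ∑ i, (b • LogConn.comp nabla ω i y) ⊗ₜ[B]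
        Conn.wedge p ((exteriorPower.oneEquiv B L).symm (ω i)) (ω.exteriorPower p K) := by
  have key : nablas p ((b • y) ⊗ₜ[B] ω.exteriorPower p K) =
      Conn.twedge p (Conn.toOne (nabla (b • y))) (ω.exteriorPower p K) +
        (b • y) ⊗ₜ[B] ((lam • d p) (ω.exteriorPower p K)) := hint.1 p (b • y) _
  have hd0 : d p (ω.exteriorPower p K) = 0 := by
    rw [basis_eq]; exact d_basis_eq_zero ω ι d hd p _ (fun k => ⟨_, rfl⟩)
  rw [key, LinearMap.smul_apply, hd0, smul_zero, TensorProduct.tmul_zero, add_zero, ← W_apply]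
  have hleib : nabla (b • y) =
      b • nabla y + lam • (y ⊗ₜ[B] ι (KaehlerDifferential.D A B b)) := hc b y
  rw [hleib, map_add, map_smul, map_smul, W_tmul]
  have hz : Conn.wedge p ((exteriorPower.oneEquiv B L).symm (ι (KaehlerDifferential.D A B b)))
      (ω.exteriorPower p K) = 0 := by
    have hexp : ι (KaehlerDifferential.D A B b) =
        ∑ k, (ω.repr (ι (KaehlerDifferential.D A B b)) k) • ω k := (ω.sum_repr _).symm
    rw [hexp, map_sum, map_sum, LinearMap.sum_apply]
    refine Finset.sum_eq_zero fun k _ => ?_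
    rw [map_smul, map_smul, LinearMap.smul_apply]
    by_cases hk : k ∈ K.val
    · rw [w_mem ω p K k hk, smul_zero]
    · rw [repr_iota t bΩ hbΩ ω ι hι, hb k hk, mul_zero, zero_smul]
  rw [hz, TensorProduct.tmul_zero, smul_zero, add_zero]
  conv_lhs => rw [expandL ω (nabla y)]
  rw [map_sum, Finset.smul_sum]
  refine Finset.sum_congr rfl fun i _ => ?_
  rw [W_tmul, TensorProduct.smul_tmul']
  rfl

/-- the `A`-submodule `{y | f (y ⊗ z) ∈ S}` of `E`. -/
def preLayer {N X : Type u} [AddCommGroup N] [Module B N] [AddCommGroup X] [Module A X]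
    (f : E ⊗[B] N →ₗ[A] X) (z : N) (S : Submodule A X) : Submodule A E where
  carrier := {y | f (y ⊗ₜ[B] z) ∈ S}
  add_mem' := by
    intro a b ha hb
    show f ((a + b) ⊗ₜ[B] z) ∈ S
    rw [TensorProduct.add_tmul, map_add]
    exact S.add_mem ha hb
  zero_mem' := by
    show f ((0 : E) ⊗ₜ[B] z) ∈ S
    rw [TensorProduct.zero_tmul, map_zero]
    exact S.zero_mem
  smul_mem' := by
    intro a y hy
    show f ((a • y) ⊗ₜ[B] z) ∈ S
    rw [← TensorProduct.smul_tmul', map_smul]
    exact S.smul_mem a hy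

end Aux


open TensorProduct in
/-- Let B be a commutative algebra over a commutative ring A, λ ∈ B, and t₁, …, tₙ ∈ B elements whose
differentials dt₁, …, dtₙ form a basis of the Kähler differentials Ω of B over A; let L be a
B-module free on ω₁, …, ωₙ with a B-linear ι : Ω → L sending dtᵢ to tᵢ ωᵢ (ωᵢ playing the role of
dlog tᵢ), and E a B-module with an A-linear ∇ : E → E ⊗ L obeying the λ-twisted Leibniz rule ∇(b e)
= b ∇e + λ e ⊗ ι(db); write ∇ᵢ for the components of ∇ in the basis ω, ∇_J for their composite over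
a finite index set J in increasing order, and E_I = Σ_{J ⊆ I} (∏_{i ∈ I∖J} tᵢ) · ∇_J(E) (an
A-submodule of E) for a finite index set I. Let d be the logarithmic de Rham differential on the
exterior powers of L — the A-linear family pinned on generators by d(b₀ · e₁ ∧ ⋯ ∧ e_p) = ι(db₀) ∧
e₁ ∧ ⋯ ∧ e_p for factors eⱼ of the form ι(db) or ωᵢ — and let ∇^p : E ⊗ Λ^p L → E ⊗ Λ^{p+1} L be the
λ-twisted extension of ∇, ∇^p(e ⊗ η) = ∇(e) ∧ η + e ⊗ λ dη, with ∇ flat in the sense that ∇¹ ∘ ∇ =
0. Then for every p, ∇^p maps the layer ⊕_{|K| = p} E_K ⊗ ω_K (elements all of whose ω_K-coordinates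
lie in E_K) into the layer ⊕_{|K| = p+1} E_K ⊗ ω_K. -/
theorem result {A : Type v} {B L E : Type u} [CommRing A] [CommRing B]
    [Algebra A B] [AddCommGroup L] [Module B L] [Module A L] [IsScalarTower A B L]
    [AddCommGroup E] [Module B E] [Module A E] [IsScalarTower A B E]
    (lam : B) {n : ℕ} (t : Fin n → B) (bΩ : Module.Basis (Fin n) B (KaehlerDifferential A B))
    (hbΩ : ∀ i, bΩ i = KaehlerDifferential.D A B (t i))
    (ω : Module.Basis (Fin n) B L) (ι : KaehlerDifferential A B →ₗ[B] L)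
    (hι : ∀ i, ι (KaehlerDifferential.D A B (t i)) = t i • ω i)
    (nabla : E →ₗ[A] E ⊗[B] L)
    (hc : Conn.IsLamConn (ι.compDer (KaehlerDifferential.D A B)) lam nabla)
    (d : ∀ p : ℕ, ↥(⋀[B]^p L) →ₗ[A] ↥(⋀[B]^(p + 1) L))
    (hd : LogDiff.IsLogRule (KaehlerDifferential.D A B) ι (⇑ω) d)
    (nablas : ∀ p : ℕ, E ⊗[B] ↥(⋀[B]^p L) →ₗ[A] E ⊗[B] ↥(⋀[B]^(p + 1) L))
    (hint : Conn.IsIntegrable nabla (fun p => lam • d p) nablas)
    (p : ℕ) (x : E ⊗[B] ↥(⋀[B]^p L)) (hx : x ∈ LogConn.layer nabla ω t p) :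
    nablas p x ∈ LogConn.layer nabla ω t (p + 1) := by
  have hK : ∀ K : Set.powersetCard (Fin n) p,
      LogConn.coordE (E := E) ω p K x ∈ LogConn.piece nabla ω t K.val := by
    intro K
    unfold LogConn.layer at hx
    rw [Submodule.mem_iInf] at hx
    exact hx K
  have hcomm := comp_comm lam ω ι nabla d hd nablas hint
  rw [expand ω p x, map_sum]
  refine Submodule.sum_mem _ fun K _ => ?_
  have hgen : ∀ J, J ⊆ K.val → ∀ e : E,
      (∏ i ∈ K.val \ J, t i) • LogConn.compProd nabla ω J e ∈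
        preLayer (nablas p) (ω.exteriorPower p K) (LogConn.layer nabla ω t (p + 1)) := by
    intro J hJ e
    show nablas p (((∏ i ∈ K.val \ J, t i) • LogConn.compProd nabla ω J e) ⊗ₜ[B]
      ω.exteriorPower p K) ∈ LogConn.layer nabla ω t (p + 1)
    rw [nablas_tmul_basis lam t bΩ hbΩ ω ι hι nabla hc d hd nablas hint p K _ _
      (fun k hk => repr_D_prod t bΩ hbΩ (K.val \ J) k
        (fun h => hk (Finset.mem_sdiff.mp h).1))]
    refine Submodule.sum_mem _ fun i _ => ?_
    by_cases hi : i ∈ K.val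
    · rw [w_mem ω p K i hi, TensorProduct.tmul_zero]; exact Submodule.zero_mem _
    · obtain ⟨K', hK', hw⟩ := w_not_mem ω p K i hi
      have hm : (∏ i ∈ K.val \ J, t i) • LogConn.comp nabla ω i (LogConn.compProd nabla ω J e) ∈
          LogConn.piece nabla ω t K'.val := by
        have hiJ : i ∉ J := fun h => hi (hJ h)
        rw [comp_compProd nabla ω hcomm i J hiJ e]
        have hset : insert i K.val \ insert i J = K.val \ J := by
          ext x
          simp only [Finset.mem_sdiff, Finset.mem_insert, not_or]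
          constructor
          · rintro ⟨h1 | h1, h2, h3⟩
            · exact absurd h1 h2
            · exact ⟨h1, h3⟩
          · rintro ⟨h1, h3⟩
            refine ⟨Or.inr h1, ?_, h3⟩
            rintro rfl; exact hi h1
        rw [hK', ← hset]
        exact mem_piece nabla ω t (insert i K.val) (insert i J)
          (Finset.insert_subset_insert i hJ) e
      rcases hw with hw | hw
      · rw [hw]; exact tmul_basis_mem_layer nabla ω t (p + 1) K' _ hm
      · rw [hw, TensorProduct.tmul_neg]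
        exact Submodule.neg_mem _ (tmul_basis_mem_layer nabla ω t (p + 1) K' _ hm)
  exact piece_le nabla ω t K.val _ hgen (hK K)

end Groth.Agent.S16797
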