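import Groth.Statements.S16798
import Mathlib
import Groth.Agent.S16792
import Groth.Agent.S16796
import Groth.Agent.S16797

set_option autoImplicit false
universe v u
open LogConn

namespace Groth.Agent.S16798


open TensorProduct
open Groth.Agent.S16792 (piece_le mem_piece repr_iota repr_D_prod compProd_empty compProd_insert
  prod_smul_piece tj_smul_piece comp_prod_smul)
open Groth.Agent.S16796 (coordE_tmul coord_ιMulti expand prod_ite_eq)
open Groth.Agent.S16797 (expandL comp_compProd basis_eq oneEquiv_symm_eq W W_apply W_tmul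
  wedge_ιMulti phi phi_apply sum_sum_ite d_basis_eq_zero)

section Aux

variable {A : Type v} {B L E : Type u} [CommRing A] [CommRing B]
    [Algebra A B] [AddCommGroup L] [Module B L] [Module A L] [IsScalarTower A B L]
    [AddCommGroup E] [Module B E] [Module A E] [IsScalarTower A B E]

theorem nablas_one (lam : B) {n : ℕ} (ω : Module.Basis (Fin n) B L)
    (nabla : E →ₗ[A] E ⊗[B] L)
    (d : ∀ p : ℕ, ↥(⋀[B]^p L) →ₗ[A] ↥(⋀[B]^(p + 1) L))
    (nablas : ∀ p : ℕ, E ⊗[B] ↥(⋀[B]^p L) →ₗ[A] E ⊗[B] ↥(⋀[B]^(p + 1) L))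
    (hint : Conn.IsIntegrable nabla (fun p => lam • d p) nablas)
    (hd1 : ∀ j, d 1 (exteriorPower.ιMulti B 1 (fun _ => ω j)) = 0) (j : Fin n) (y : E) :
    nablas 1 (y ⊗ₜ[B] exteriorPower.ιMulti B 1 (fun _ => ω j)) =
      ∑ i, LogConn.comp nabla ω i y ⊗ₜ[B]
        exteriorPower.ιMulti B (1 + 1) (Fin.cons (ω i) (fun _ => ω j)) := by
  have key : nablas 1 (y ⊗ₜ[B] exteriorPower.ιMulti B 1 (fun _ => ω j)) =
      Conn.twedge 1 (Conn.toOne (nabla y)) (exteriorPower.ιMulti B 1 (fun _ => ω j)) +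
        y ⊗ₜ[B] ((lam • d 1) (exteriorPower.ιMulti B 1 (fun _ => ω j))) := hint.1 1 y _
  rw [key, LinearMap.smul_apply, hd1 j, smul_zero, TensorProduct.tmul_zero, add_zero, ← W_apply]
  conv_lhs => rw [expandL ω (nabla y)]
  rw [map_sum]
  refine Finset.sum_congr rfl fun i _ => ?_
  rw [W_tmul, wedge_ιMulti]
  rfl

theorem comp_comm' (lam : B) {n : ℕ} (ω : Module.Basis (Fin n) B L)
    (nabla : E →ₗ[A] E ⊗[B] L)
    (d : ∀ p : ℕ, ↥(⋀[B]^p L) →ₗ[A] ↥(⋀[B]^(p + 1) L))
    (nablas : ∀ p : ℕ, E ⊗[B] ↥(⋀[B]^p L) →ₗ[A] E ⊗[B] ↥(⋀[B]^(p + 1) L))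
    (hint : Conn.IsIntegrable nabla (fun p => lam • d p) nablas)
    (hd1 : ∀ j, d 1 (exteriorPower.ιMulti B 1 (fun _ => ω j)) = 0)
    (a b : Fin n) (m : E) :
    LogConn.comp nabla ω a (LogConn.comp nabla ω b m) =
      LogConn.comp nabla ω b (LogConn.comp nabla ω a m) := by
  obtain ⟨c, hcdef⟩ : ∃ c : Fin n → Fin n → E,
      ∀ i j, c i j = LogConn.comp nabla ω i (LogConn.comp nabla ω j m) := ⟨_, fun _ _ => rfl⟩
  have h0 := hint.2 m
  have h1 : nablas 1 (Conn.toOne (nabla m)) =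
      ∑ j, ∑ i, c i j ⊗ₜ[B]
        exteriorPower.ιMulti B (1 + 1) (Fin.cons (ω i) (fun _ => ω j)) := by
    conv_lhs => rw [expandL ω (nabla m)]
    rw [map_sum, map_sum]
    refine Finset.sum_congr rfl fun j _ => ?_
    rw [Conn.toOne_tmul, oneEquiv_symm_eq, nablas_one lam ω nabla d nablas hint hd1 j]
    refine Finset.sum_congr rfl fun i _ => ?_
    rw [hcdef]
    rfl
  rw [h1] at h0
  have h4 : TensorProduct.rid B E (TensorProduct.map LinearMap.id (phi ω a b)
      (∑ j, ∑ i, c i j ⊗ₜ[B]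
        exteriorPower.ιMulti B (1 + 1) (Fin.cons (ω i) (fun _ => ω j)))) = 0 := by
    rw [h0]; simp only [map_zero]
  have h3 : ∑ j, ∑ i, ((if i = a then (1 : B) else 0) * (if j = b then (1 : B) else 0) -
      (if i = b then (1 : B) else 0) * (if j = a then (1 : B) else 0)) • c i j = 0 := by
    rw [← h4, map_sum, map_sum]
    refine Finset.sum_congr rfl fun j _ => ?_
    rw [map_sum, map_sum]
    refine Finset.sum_congr rfl fun i _ => ?_
    rw [TensorProduct.map_tmul, TensorProduct.rid_tmul, LinearMap.id_apply, phi_apply]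
  simp only [sub_smul, Finset.sum_sub_distrib] at h3
  rw [sum_sum_ite c a b, sum_sum_ite c b a] at h3
  rw [← hcdef, ← hcdef]
  exact sub_eq_zero.mp h3

theorem D_inv (u : Bˣ) :
    KaehlerDifferential.D A B ((u⁻¹ : Bˣ) : B) =
      -((((u⁻¹ : Bˣ) : B) * ((u⁻¹ : Bˣ) : B)) • KaehlerDifferential.D A B (u : B)) := by
  have h1 : (u : B) • KaehlerDifferential.D A B ((u⁻¹ : Bˣ) : B) +
      ((u⁻¹ : Bˣ) : B) • KaehlerDifferential.D A B (u : B) = 0 := by
    rw [← Derivation.leibniz, Units.mul_inv, Derivation.map_one_eq_zero]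
  have h2 := congrArg (fun z => ((u⁻¹ : Bˣ) : B) • z) h1
  simp only [smul_add, smul_zero, smul_smul, Units.inv_mul, one_smul] at h2
  exact eq_neg_of_add_eq_zero_left h2

theorem hd1_prime {n : ℕ} (ω : Module.Basis (Fin n) B L)
    (ι : KaehlerDifferential A B →ₗ[B] L)
    (d : ∀ p : ℕ, ↥(⋀[B]^p L) →ₗ[A] ↥(⋀[B]^(p + 1) L))
    (hd : LogDiff.IsLogRule (KaehlerDifferential.D A B) ι (⇑ω) d)
    (u : Bˣ) (j : Fin n) (x : L)
    (hx : x = ω j + ((u⁻¹ : Bˣ) : B) • ι (KaehlerDifferential.D A B (u : B))) :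
    d 1 (exteriorPower.ιMulti B 1 (fun _ => x)) = 0 := by
  have hsplit : exteriorPower.ιMulti B 1 (fun _ => x) =
      exteriorPower.ιMulti B 1 (fun _ => ω j) +
        ((u⁻¹ : Bˣ) : B) •
          exteriorPower.ιMulti B 1 (fun _ => ι (KaehlerDifferential.D A B (u : B))) := by
    rw [← oneEquiv_symm_eq, ← oneEquiv_symm_eq, ← oneEquiv_symm_eq, hx, map_add, map_smul]
  rw [hsplit, map_add, d_basis_eq_zero ω ι d hd 1 _ (fun _ => ⟨j, rfl⟩), zero_add]
  have h := hd 1 ((u⁻¹ : Bˣ) : B) (fun _ => ι (KaehlerDifferential.D A B (u : B)))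
    (fun _ => Or.inl ⟨_, rfl⟩)
  rw [h, D_inv, ← wedge_ιMulti]
  simp only [map_neg, map_smul, LinearMap.neg_apply, LinearMap.smul_apply]
  rw [wedge_ιMulti]
  have hz : exteriorPower.ιMulti B (1 + 1)
      (Fin.cons (ι (KaehlerDifferential.D A B (u : B)))
        (fun _ => ι (KaehlerDifferential.D A B (u : B))) : Fin (1 + 1) → L) = 0 :=
    (exteriorPower.ιMulti B (1 + 1)).map_eq_zero_of_eq _ (i := 0) (j := Fin.succ 0)
      (by rw [Fin.cons_zero, Fin.cons_succ]) (Fin.succ_ne_zero 0).symm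
  rw [hz, smul_zero, neg_zero]

theorem comp_change {n : ℕ} (ω ω' : Module.Basis (Fin n) B L) (nabla : E →ₗ[A] E ⊗[B] L)
    (j : Fin n) (x : E) :
    LogConn.comp nabla ω' j x = ∑ i, (ω'.repr (ω i) j) • LogConn.comp nabla ω i x := by
  have h1 : LogConn.comp nabla ω' j x =
      TensorProduct.rid B E (TensorProduct.map LinearMap.id (ω'.coord j) (nabla x)) := rfl
  rw [h1]
  conv_lhs => rw [expandL ω (nabla x)]
  rw [map_sum, map_sum]
  refine Finset.sum_congr rfl fun i _ => ?_
  rw [TensorProduct.map_tmul, TensorProduct.rid_tmul, LinearMap.id_apply, Module.Basis.coord_apply]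
  rfl

section Closure

variable (lam : B) {n : ℕ} (t : Fin n → B)
    (bΩ : Module.Basis (Fin n) B (KaehlerDifferential A B))
    (hbΩ : ∀ i, bΩ i = KaehlerDifferential.D A B (t i))
    (ω : Module.Basis (Fin n) B L) (ι : KaehlerDifferential A B →ₗ[B] L)
    (hι : ∀ i, ι (KaehlerDifferential.D A B (t i)) = t i • ω i)
    (nabla : E →ₗ[A] E ⊗[B] L)
    (hc : Conn.IsLamConn (ι.compDer (KaehlerDifferential.D A B)) lam nabla)
    (hcomm : ∀ (a b : Fin n) (m : E), LogConn.comp nabla ω a (LogConn.comp nabla ω b m) =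
      LogConn.comp nabla ω b (LogConn.comp nabla ω a m))
include hbΩ hι hc hcomm

theorem comp_compProd_comm (i : Fin n) (J : Finset (Fin n)) :
    ∀ e : E, LogConn.comp nabla ω i (LogConn.compProd nabla ω J e) =
      LogConn.compProd nabla ω J (LogConn.comp nabla ω i e) := by
  induction J using Finset.induction_on_min with
  | empty => intro e; rw [compProd_empty]; rfl
  | insert j J hj ih =>
    intro e
    rw [compProd_insert nabla ω j J hj]
    show LogConn.comp nabla ω i (LogConn.comp nabla ω j (LogConn.compProd nabla ω J e)) =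
      LogConn.comp nabla ω j (LogConn.compProd nabla ω J (LogConn.comp nabla ω i e))
    rw [hcomm i j, ih e]

theorem C1 (i : Fin n) (K : Finset (Fin n)) (hi : i ∉ K) (x : E)
    (hx : x ∈ LogConn.piece nabla ω t K) :
    LogConn.comp nabla ω i x ∈ LogConn.piece nabla ω t (insert i K) := by
  have hle : LogConn.piece nabla ω t K ≤
      (LogConn.piece nabla ω t (insert i K)).comap (LogConn.comp nabla ω i) := by
    refine piece_le nabla ω t K _ fun J hJK e => ?_
    show LogConn.comp nabla ω i ((∏ k ∈ K \ J, t k) • LogConn.compProd nabla ω J e) ∈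
      LogConn.piece nabla ω t (insert i K)
    have hiK : i ∉ K \ J := fun h => hi (Finset.mem_sdiff.mp h).1
    rw [comp_prod_smul lam t bΩ hbΩ ω ι hι nabla hc i (K \ J) hiK]
    have hset : insert i K \ insert i J = K \ J := by
      ext x
      simp only [Finset.mem_sdiff, Finset.mem_insert, not_or]
      constructor
      · rintro ⟨h1 | h1, h2, h3⟩
        · exact absurd h1 h2
        · exact ⟨h1, h3⟩
      · rintro ⟨h1, h3⟩
        refine ⟨Or.inr h1, ?_, h3⟩
        rintro rfl; exact hi h1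
    rw [comp_compProd nabla ω hcomm i J (fun h => hi (hJK h)) e, ← hset]
    exact mem_piece nabla ω t (insert i K) (insert i J) (Finset.insert_subset_insert i hJK) e
  exact hle hx

theorem C2 (i : Fin n) (K : Finset (Fin n)) (hi : i ∉ K) :
    LogConn.piece nabla ω t (insert i K) ≤ LogConn.piece nabla ω t K := by
  refine piece_le nabla ω t (insert i K) _ fun J hJ e => ?_
  by_cases hiJ : i ∈ J
  · obtain ⟨J0, hJ0⟩ : ∃ J0, J0 = J.erase i := ⟨_, rfl⟩
    have hJeq : J = insert i J0 := by rw [hJ0, Finset.insert_erase hiJ]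
    have hiJ0 : i ∉ J0 := by rw [hJ0]; exact Finset.notMem_erase i J
    have hJ0K : J0 ⊆ K := by
      intro x hx
      rw [hJ0] at hx
      have h1 := Finset.mem_of_mem_erase hx
      have h2 := Finset.ne_of_mem_erase hx
      rcases Finset.mem_insert.mp (hJ h1) with h | h
      · exact absurd h h2
      · exact h
    have hset : insert i K \ insert i J0 = K \ J0 := by
      ext x
      simp only [Finset.mem_sdiff, Finset.mem_insert, not_or]
      constructor
      · rintro ⟨h1 | h1, h2, h3⟩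
        · exact absurd h1 h2
        · exact ⟨h1, h3⟩
      · rintro ⟨h1, h3⟩
        refine ⟨Or.inr h1, ?_, h3⟩
        rintro rfl; exact hi h1
    rw [hJeq, hset, ← comp_compProd nabla ω hcomm i J0 hiJ0 e,
      comp_compProd_comm lam t bΩ hbΩ ω ι hι nabla hc hcomm i J0 e]
    exact mem_piece nabla ω t K J0 hJ0K _
  · have hJK : J ⊆ K := by
      intro x hx
      rcases Finset.mem_insert.mp (hJ hx) with h | h
      · rw [h] at hx; exact absurd hx hiJ
      · exact h
    have hset : insert i K \ J = insert i (K \ J) := Finset.insert_sdiff_of_notMem K hiJ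
    rw [hset, Finset.prod_insert (fun h => hi (Finset.mem_sdiff.mp h).1), mul_smul]
    exact Groth.Agent.S16792.result lam t bΩ hbΩ ω ι hι nabla hc K (t i) _
      (mem_piece nabla ω t K J hJK e)

theorem C3 (i : Fin n) (K : Finset (Fin n)) (x : E) (hx : x ∈ LogConn.piece nabla ω t K) :
    LogConn.comp nabla ω i x ∈ LogConn.piece nabla ω t K := by
  by_cases hi : i ∈ K
  · have hi' : i ∉ K.erase i := Finset.notMem_erase i K
    have hx' : x ∈ LogConn.piece nabla ω t (K.erase i) :=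
      C2 lam t bΩ hbΩ ω ι hι nabla hc hcomm i (K.erase i) hi'
        (by rw [Finset.insert_erase hi]; exact hx)
    have := C1 lam t bΩ hbΩ ω ι hι nabla hc hcomm i (K.erase i) hi' x hx'
    rw [Finset.insert_erase hi] at this
    exact this
  · exact C2 lam t bΩ hbΩ ω ι hι nabla hc hcomm i K hi
      (C1 lam t bΩ hbΩ ω ι hι nabla hc hcomm i K hi x hx)

theorem C3' (j : Fin n) (K : Finset (Fin n)) (x : E) (hx : x ∈ LogConn.piece nabla ω t K) :
    LogConn.comp nabla ω j x ∈ LogConn.piece nabla ω t (insert j K) := by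
  by_cases hj : j ∈ K
  · rw [Finset.insert_eq_of_mem hj]
    exact C3 lam t bΩ hbΩ ω ι hι nabla hc hcomm j K x hx
  · exact C1 lam t bΩ hbΩ ω ι hι nabla hc hcomm j K hj x hx

theorem C4' (j : Fin n) (K : Finset (Fin n)) (x : E) (hx : x ∈ LogConn.piece nabla ω t K) :
    t j • x ∈ LogConn.piece nabla ω t (insert j K) := by
  by_cases hj : j ∈ K
  · rw [Finset.insert_eq_of_mem hj]
    exact Groth.Agent.S16792.result lam t bΩ hbΩ ω ι hι nabla hc K (t j) x hx
  · exact tj_smul_piece nabla ω t j K hj x hx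

theorem C5aux (S : Finset (Fin n)) :
    ∀ J : Finset (Fin n), LogConn.piece nabla ω t (J ∪ S) ≤ LogConn.piece nabla ω t J := by
  induction S using Finset.induction_on with
  | empty => intro J; rw [Finset.union_empty]
  | insert a S' ha ih =>
    intro J
    rw [Finset.union_insert]
    by_cases h : a ∈ J ∪ S'
    · rw [Finset.insert_eq_of_mem h]; exact ih J
    · exact (C2 lam t bΩ hbΩ ω ι hι nabla hc hcomm a (J ∪ S') h).trans (ih J)

section Main

variable (ω' : Module.Basis (Fin n) B L) (t' : Fin n → B) (v : Fin n → B)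
    (ht' : ∀ i, t' i = v i * t i)
    (hP : ∀ i j, ∃ p, ω.repr (ω' i) j = (if i = j then (1 : B) else 0) + t j * p)
    (hQ : ∀ i j, ∃ q, ω'.repr (ω i) j = (if i = j then (1 : B) else 0) + t j * q)
include ht' hP hQ

theorem M2 (j : Fin n) (K : Finset (Fin n)) (x : E) (hx : x ∈ LogConn.piece nabla ω t K) :
    LogConn.comp nabla ω' j x ∈ LogConn.piece nabla ω t (insert j K) := by
  rw [comp_change ω ω' nabla j x]
  refine Submodule.sum_mem _ fun i _ => ?_
  obtain ⟨q, hq⟩ := hQ i j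
  rw [hq, add_smul, mul_comm (t j) q, mul_smul]
  refine Submodule.add_mem _ ?_ ?_
  · by_cases hij : i = j
    · rw [if_pos hij, one_smul, hij]
      exact C3' lam t bΩ hbΩ ω ι hι nabla hc hcomm j K x hx
    · rw [if_neg hij, zero_smul]; exact Submodule.zero_mem _
  · refine Groth.Agent.S16792.result lam t bΩ hbΩ ω ι hι nabla hc (insert j K) q _ ?_
    exact C4' lam t bΩ hbΩ ω ι hι nabla hc hcomm j K _
      (C3 lam t bΩ hbΩ ω ι hι nabla hc hcomm i K x hx)

theorem M3 (J : Finset (Fin n)) :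
    ∀ e : E, LogConn.compProd nabla ω' J e ∈ LogConn.piece nabla ω t J := by
  induction J using Finset.induction_on_min with
  | empty =>
    intro e
    rw [compProd_empty]
    show e ∈ LogConn.piece nabla ω t ∅
    have := mem_piece nabla ω t ∅ ∅ (subset_refl _) e
    rw [Finset.sdiff_self, Finset.prod_empty, one_smul, compProd_empty] at this
    exact this
  | insert j J hj ih =>
    intro e
    rw [compProd_insert nabla ω' j J hj]
    exact M2 lam t bΩ hbΩ ω ι hι nabla hc hcomm ω' t' v ht' hP hQ j J _ (ih e)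

theorem M4 (K : Finset (Fin n)) :
    LogConn.piece nabla ω' t' K ≤ LogConn.piece nabla ω t K := by
  refine piece_le nabla ω' t' K _ fun J hJK e => ?_
  have hprod : ∏ i ∈ K \ J, t' i = (∏ i ∈ K \ J, v i) * ∏ i ∈ K \ J, t i := by
    rw [← Finset.prod_mul_distrib]
    exact Finset.prod_congr rfl fun i _ => ht' i
  rw [hprod, mul_smul]
  refine Groth.Agent.S16792.result lam t bΩ hbΩ ω ι hι nabla hc K _ _ ?_
  exact prod_smul_piece nabla ω t K J hJK _
    (M3 lam t bΩ hbΩ ω ι hι nabla hc hcomm ω' t' v ht' hP hQ J e)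

theorem coord_smul_mem (p : ℕ) (K K' : Set.powersetCard (Fin n) p) (y : E)
    (hy : y ∈ LogConn.piece nabla ω t K.val) :
    ((ω.exteriorPower p).coord K' (ω'.exteriorPower p K)) • y ∈
      LogConn.piece nabla ω t K'.val := by
  rw [basis_eq ω' p K, coord_ιMulti]
  obtain ⟨kk, hkk⟩ : ∃ kk : Fin p ↪o Fin n, kk = Finset.orderEmbOfFin K.val K.prop := ⟨_, rfl⟩
  obtain ⟨kk', hkk'⟩ : ∃ kk' : Fin p ↪o Fin n, kk' = Finset.orderEmbOfFin K'.val K'.prop :=
    ⟨_, rfl⟩
  rw [← hkk, ← hkk']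
  have hkkmem : ∀ i, kk i ∈ K.val := fun i => by
    rw [hkk]; exact Finset.orderEmbOfFin_mem _ _ i
  have hkk'mem : ∀ j, kk' j ∈ K'.val := fun j => by
    rw [hkk']; exact Finset.orderEmbOfFin_mem _ _ j
  choose pp hpp using hP
  obtain ⟨M', hM'⟩ : ∃ M' : Matrix (Fin p) (Fin p) B, M' = Matrix.of fun i j =>
      if kk' j ∈ K.val then ω.repr (ω' (kk i)) (kk' j) else pp (kk i) (kk' j) := ⟨_, rfl⟩
  have hM : (Matrix.of fun i j => ω.repr (ω' (kk i)) (kk' j)) =
      Matrix.of fun i j => (if kk' j ∈ K.val then (1 : B) else t (kk' j)) * M' i j := by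
    refine Matrix.ext fun i j => ?_
    rw [hM']
    simp only [Matrix.of_apply]
    by_cases h1 : kk' j ∈ K.val
    · rw [if_pos h1, if_pos h1, one_mul]
    · rw [if_neg h1, if_neg h1, hpp (kk i) (kk' j), if_neg, zero_add]
      intro h3
      refine h1 ?_
      rw [← h3]
      exact hkkmem i
  have hprod : ∏ j, (if kk' j ∈ K.val then (1 : B) else t (kk' j)) =
      ∏ x ∈ K'.val \ K.val, t x := by
    have h1 : ∏ j, (if kk' j ∈ K.val then (1 : B) else t (kk' j)) =
        ∏ j, (if kk' j ∈ K'.val ∩ K.val then (1 : B) else t (kk' j)) := by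
      refine Finset.prod_congr rfl fun j _ => ?_
      by_cases h : kk' j ∈ K.val
      · rw [if_pos h, if_pos (Finset.mem_inter.mpr ⟨hkk'mem j, h⟩)]
      · rw [if_neg h, if_neg (fun h' => h (Finset.mem_inter.mp h').2)]
    rw [h1, prod_ite_eq t K'.val (K'.val ∩ K.val) Finset.inter_subset_left kk' kk'.injective
      (by rw [hkk']; exact Finset.image_orderEmbOfFin_univ _ _), Finset.sdiff_inter_self_left]
  rw [hM, Matrix.det_mul_row, hprod, mul_comm (∏ x ∈ K'.val \ K.val, t x) M'.det, mul_smul]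
  refine Groth.Agent.S16792.result lam t bΩ hbΩ ω ι hι nabla hc K'.val _ _ ?_
  have h1 : (∏ x ∈ (K.val ∪ K'.val) \ K.val, t x) • y ∈
      LogConn.piece nabla ω t (K.val ∪ K'.val) :=
    prod_smul_piece nabla ω t (K.val ∪ K'.val) K.val Finset.subset_union_left y hy
  rw [Finset.union_sdiff_left] at h1
  have h2 := C5aux lam t bΩ hbΩ ω ι hι nabla hc hcomm K.val K'.val
  rw [Finset.union_comm] at h2
  exact h2 h1

theorem M5 (p : ℕ) : LogConn.layer nabla ω' t' p ≤ LogConn.layer nabla ω t p := by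
  intro x hx
  have hK : ∀ K : Set.powersetCard (Fin n) p,
      LogConn.coordE (E := E) ω' p K x ∈ LogConn.piece nabla ω t K.val := by
    intro K
    unfold LogConn.layer at hx
    rw [Submodule.mem_iInf] at hx
    exact M4 lam t bΩ hbΩ ω ι hι nabla hc hcomm ω' t' v ht' hP hQ K.val (hx K)
  unfold LogConn.layer
  rw [Submodule.mem_iInf]
  intro K'
  rw [Submodule.mem_comap]
  show LogConn.coordE (E := E) ω p K' x ∈ LogConn.piece nabla ω t K'.val
  rw [expand ω' p x, map_sum]
  refine Submodule.sum_mem _ fun K _ => ?_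
  rw [coordE_tmul]
  exact coord_smul_mem lam t bΩ hbΩ ω ι hι nabla hc hcomm ω' t' v ht' hP hQ p K K' _ (hK K)

end Main

end Closure

end Aux


open TensorProduct in
/-- Let B be a commutative algebra over a commutative ring A, λ ∈ B, and t₁, …, tₙ ∈ B elements whose
differentials dt₁, …, dtₙ form a basis of the Kähler differentials Ω of B over A; let L be a
B-module free on ω₁, …, ωₙ with a B-linear ι : Ω → L sending dtᵢ to tᵢ ωᵢ (ωᵢ playing the role of
dlog tᵢ), and E a B-module with an A-linear ∇ : E → E ⊗ L obeying the λ-twisted Leibniz rule ∇(b e)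
= b ∇e + λ e ⊗ ι(db); write ∇ᵢ for the components of ∇ in the basis ω, ∇_J for their composite over
a finite index set J in increasing order, and E_I = Σ_{J ⊆ I} (∏_{i ∈ I∖J} tᵢ) · ∇_J(E) (an
A-submodule of E) for a finite index set I. Assume ∇ flat: for the logarithmic de Rham differential
d on the exterior powers of L (pinned on generators by d(b₀ · e₁ ∧ ⋯ ∧ e_p) = ι(db₀) ∧ e₁ ∧ ⋯ ∧ e_p,
factors eⱼ of the form ι(db) or ωᵢ) and the λ-twisted extension ∇^• of ∇ (∇^p(e ⊗ η) = ∇(e) ∧ η + e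
⊗ λ dη) one has ∇¹ ∘ ∇ = 0. Let u₁, …, uₙ be units of B such that the elements t'ᵢ = uᵢ tᵢ again
have differentials forming a basis of Ω, and such that the elements ω'ᵢ = ωᵢ + uᵢ⁻¹ ι(duᵢ) again
form a basis of L (a second admissible coordinate system with the same branches, ω'ᵢ playing the
role of dlog t'ᵢ). Then for every p the layer ⊕_{|K| = p} E_K ⊗ ω_K formed with the coordinates t,
the basis ω and the components of ∇ in ω coincides with the layer formed with t', ω' and the
components of ∇ in ω'. (The published statement also allows a permutation of the indices.) -/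
theorem result {A : Type v} {B L E : Type u} [CommRing A] [CommRing B]
    [Algebra A B] [AddCommGroup L] [Module B L] [Module A L] [IsScalarTower A B L]
    [AddCommGroup E] [Module B E] [Module A E] [IsScalarTower A B E]
    (lam : B) {n : ℕ} (t : Fin n → B) (bΩ : Module.Basis (Fin n) B (KaehlerDifferential A B))
    (hbΩ : ∀ i, bΩ i = KaehlerDifferential.D A B (t i))
    (ω : Module.Basis (Fin n) B L) (ι : KaehlerDifferential A B →ₗ[B] L)
    (hι : ∀ i, ι (KaehlerDifferential.D A B (t i)) = t i • ω i)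
    (nabla : E →ₗ[A] E ⊗[B] L)
    (hc : Conn.IsLamConn (ι.compDer (KaehlerDifferential.D A B)) lam nabla)
    (d : ∀ p : ℕ, ↥(⋀[B]^p L) →ₗ[A] ↥(⋀[B]^(p + 1) L))
    (hd : LogDiff.IsLogRule (KaehlerDifferential.D A B) ι (⇑ω) d)
    (nablas : ∀ p : ℕ, E ⊗[B] ↥(⋀[B]^p L) →ₗ[A] E ⊗[B] ↥(⋀[B]^(p + 1) L))
    (hint : Conn.IsIntegrable nabla (fun p => lam • d p) nablas)
    (u : Fin n → Bˣ) (bΩ' : Module.Basis (Fin n) B (KaehlerDifferential A B))
    (hbΩ' : ∀ i, bΩ' i = KaehlerDifferential.D A B ((u i : B) * t i))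
    (ω' : Module.Basis (Fin n) B L)
    (hω' : ∀ i, ω' i = ω i + ((u i)⁻¹ : Bˣ).val • ι (KaehlerDifferential.D A B (u i : B)))
    (p : ℕ) :
    LogConn.layer nabla ω t p = LogConn.layer nabla ω' (fun i => (u i : B) * t i) p := by
  obtain ⟨t', ht'⟩ : ∃ t' : Fin n → B, t' = fun i => (u i : B) * t i := ⟨_, rfl⟩
  have ht'i : ∀ i, t' i = (u i : B) * t i := fun i => by rw [ht']
  rw [← ht']
  have hbΩ'' : ∀ i, bΩ' i = KaehlerDifferential.D A B (t' i) := fun i => by
    rw [ht'i i]; exact hbΩ' i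
  have hι' : ∀ i, ι (KaehlerDifferential.D A B (t' i)) = t' i • ω' i := by
    intro i
    rw [ht'i i, Derivation.leibniz, map_add, map_smul, map_smul, hι, hω' i, smul_add, smul_smul,
      smul_smul]
    congr 1
    have h : (u i : B) * t i * ((u i)⁻¹ : Bˣ).val = t i := by
      rw [mul_comm (u i : B) (t i), mul_assoc, Units.mul_inv, mul_one]
    rw [h]
  have R1 : ∀ i j, ω.repr (ω' i) j = (if i = j then (1 : B) else 0) +
      ((u i)⁻¹ : Bˣ).val * (t j * bΩ.repr (KaehlerDifferential.D A B (u i : B)) j) := by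
    intro i j
    rw [hω' i, map_add, map_smul, Finsupp.add_apply, Finsupp.smul_apply, Module.Basis.repr_self,
      Finsupp.single_apply, repr_iota t bΩ hbΩ ω ι hι, smul_eq_mul]
  have R2 : ∀ i j, ω'.repr (ω i) j = (if i = j then (1 : B) else 0) -
      ((u i)⁻¹ : Bˣ).val * (t' j * bΩ'.repr (KaehlerDifferential.D A B (u i : B)) j) := by
    intro i j
    have h : ω i = ω' i - ((u i)⁻¹ : Bˣ).val • ι (KaehlerDifferential.D A B (u i : B)) := by
      rw [hω' i, add_sub_cancel_right]
    rw [h, map_sub, map_smul, Finsupp.sub_apply, Finsupp.smul_apply, Module.Basis.repr_self,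
      Finsupp.single_apply, repr_iota t' bΩ' hbΩ'' ω' ι hι', smul_eq_mul]
  have ht2 : ∀ i, t i = ((u i)⁻¹ : Bˣ).val * t' i := by
    intro i
    rw [ht'i, ← mul_assoc, Units.inv_mul, one_mul]
  have hP1 : ∀ i j, ∃ p, ω.repr (ω' i) j = (if i = j then (1 : B) else 0) + t j * p :=
    fun i j => ⟨((u i)⁻¹ : Bˣ).val * bΩ.repr (KaehlerDifferential.D A B (u i : B)) j, by
      rw [R1 i j]; ring⟩
  have hQ1 : ∀ i j, ∃ q, ω'.repr (ω i) j = (if i = j then (1 : B) else 0) + t j * q :=
    fun i j => ⟨-(((u i)⁻¹ : Bˣ).val *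
        ((u j : B) * bΩ'.repr (KaehlerDifferential.D A B (u i : B)) j)), by
      rw [R2 i j, ht'i j]; ring⟩
  have hP2 : ∀ i j, ∃ p, ω'.repr (ω i) j = (if i = j then (1 : B) else 0) + t' j * p :=
    fun i j => ⟨-(((u i)⁻¹ : Bˣ).val * bΩ'.repr (KaehlerDifferential.D A B (u i : B)) j), by
      rw [R2 i j]; ring⟩
  have hQ2 : ∀ i j, ∃ q, ω.repr (ω' i) j = (if i = j then (1 : B) else 0) + t' j * q :=
    fun i j => ⟨((u j)⁻¹ : Bˣ).val *
        (((u i)⁻¹ : Bˣ).val * bΩ.repr (KaehlerDifferential.D A B (u i : B)) j), by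
      rw [R1 i j, ht2 j]; ring⟩
  have hcomm := comp_comm' lam ω nabla d nablas hint
    (fun j => d_basis_eq_zero ω ι d hd 1 _ (fun _ => ⟨j, rfl⟩))
  have hcomm' := comp_comm' lam ω' nabla d nablas hint
    (fun j => hd1_prime ω ι d hd (u j) j (ω' j) (hω' j))
  apply le_antisymm
  · exact M5 lam t' bΩ' hbΩ'' ω' ι hι' nabla hc hcomm' ω t (fun i => ((u i)⁻¹ : Bˣ).val) ht2
      hP2 hQ2 p
  · exact M5 lam t bΩ hbΩ ω ι hι nabla hc hcomm ω' t' (fun i => (u i : B)) ht'i hP1 hQ1 p

end Groth.Agent.S16798
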