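import Groth.Statements.S1682
import Mathlib

set_option autoImplicit false
universe u
open CategoryTheory CategoryTheory.Limits AlgebraicGeometry TopologicalSpace
open SDiv

namespace Groth.Agent.S1682

open AlgebraicGeometry CategoryTheory in
theorem effCartier_of_range_subset {X Y : Scheme.{u}} (𝓘 : X.IdealSheafData) (g : Y ⟶ X)
    (hg : Set.range g ⊆ (𝓘.support.compl : Set X)) : BlowUp.IsEffCartierIdeal (𝓘.comap g) := by
  have htop : 𝓘.comap g = ⊤ := by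
    rw [← Scheme.IdealSheafData.support_eq_bot_iff, Scheme.IdealSheafData.support_comap]
    ext y
    simp only [TopologicalSpace.Closeds.coe_preimage, Set.mem_preimage, SetLike.mem_coe,
      TopologicalSpace.Closeds.coe_bot, Set.mem_empty_iff_false, iff_false]
    intro hy
    exact hg ⟨y, rfl⟩ hy
  rw [htop]
  intro x
  obtain ⟨U, hU, hx, -⟩ := exists_isAffineOpen_mem_and_subset (X := Y) (x := x) (U := ⊤) (by simp)
  refine ⟨⟨U, hU⟩, hx, 1, one_mem _, ?_⟩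
  simp

/-- Let b : X' ⟶ X be a blowing-up of X along the quasi-coherent ideal sheaf 𝓘, with centre Z = support
of 𝓘. Then b restricted over the open complement of Z is an isomorphism. -/
theorem result {X X' : Scheme.{u}} (𝓘 : X.IdealSheafData) (b : X' ⟶ X) (hb : BlowUp.IsBlowUp b 𝓘) :
    IsIso (b ∣_ 𝓘.support.compl) := by
  set U : X.Opens := 𝓘.support.compl with hUdef
  have hU : Set.range U.ι ⊆ (𝓘.support.compl : Set X) := by
    rw [Scheme.Opens.range_ι]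
  obtain ⟨h, hh, -⟩ := hb.2 _ U.ι (effCartier_of_range_subset 𝓘 U.ι hU)
  -- h lands in b ⁻¹ᵁ U
  have hr : Set.range h ⊆ Set.range (b ⁻¹ᵁ U).ι := by
    rw [Scheme.Opens.range_ι]
    rintro _ ⟨x, rfl⟩
    show b (h x) ∈ U
    have : b (h x) = U.ι x := by
      rw [← hh]; rfl
    rw [this]
    exact x.2
  let h' : (U : Scheme.{u}) ⟶ (b ⁻¹ᵁ U : Scheme.{u}) := IsOpenImmersion.lift (b ⁻¹ᵁ U).ι h hr
  have hh' : h' ≫ (b ⁻¹ᵁ U).ι = h := IsOpenImmersion.lift_fac _ _ _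
  have hres : (b ∣_ U) ≫ U.ι = (b ⁻¹ᵁ U).ι ≫ b := morphismRestrict_ι b U
  refine ⟨h', ?_, ?_⟩
  · -- (b ∣_ U) ≫ h' = 𝟙
    rw [← cancel_mono (b ⁻¹ᵁ U).ι, Category.assoc, hh', Category.id_comp]
    have hg : Set.range ((b ⁻¹ᵁ U).ι ≫ b) ⊆ (𝓘.support.compl : Set X) := by
      rintro _ ⟨y, rfl⟩
      exact y.2
    obtain ⟨k, -, hk⟩ := hb.2 _ ((b ⁻¹ᵁ U).ι ≫ b) (effCartier_of_range_subset 𝓘 _ hg)
    rw [hk ((b ∣_ U) ≫ h) (by show ((b ∣_ U) ≫ h) ≫ b = _; rw [Category.assoc, hh, hres]),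
      hk (b ⁻¹ᵁ U).ι rfl]
  · rw [← cancel_mono U.ι, Category.assoc, hres, ← Category.assoc, hh', hh, Category.id_comp]

end Groth.Agent.S1682
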