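import Groth.Statements.S16836
import Mathlib

set_option autoImplicit false
universe u v
open scoped Classical
open AbVar

namespace Groth.Agent.S16836

open Polynomial UniqueFactorizationMonoid

section RR
variable {F : Type*} [Field F]

/-- multiset form of the number `r` -/
private noncomputable def R (A B : Multiset F[X]) : ℕ :=
  (A.map (fun Q => B.count Q * Q.natDegree)).sum

private lemma R_eq (A B : Multiset F[X]) :
    ∑ P ∈ A.toFinset, A.count P * B.count P * P.natDegree = R A B := by
  unfold R
  rw [Finset.sum_multiset_map_count]
  refine Finset.sum_congr rfl (fun P _ => ?_)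
  rw [smul_eq_mul, mul_assoc]

private lemma R_add_left (A A' B : Multiset F[X]) : R (A + A') B = R A B + R A' B := by
  unfold R
  rw [Multiset.map_add, Multiset.sum_add]

private lemma R_add_right (A B B' : Multiset F[X]) : R A (B + B') = R A B + R A B' := by
  unfold R
  rw [← Multiset.sum_map_add]
  congr 1
  apply Multiset.map_congr rfl
  intro Q _
  rw [Multiset.count_add, add_mul]

private lemma R_zero_left (B : Multiset F[X]) : R 0 B = 0 := by
  unfold R
  simp

private lemma R_zero_right (A : Multiset F[X]) : R A 0 = 0 := by
  unfold R
  simp

end RR

section Main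
variable (K : Type u) (L : Type v) [Field K] [PerfectField K] [Field L] [Algebra K L]

private lemma base_case (p q : K[X]) (hp : Prime p) (hq : Prime q) :
    R (normalizedFactors (p.map (algebraMap K L))) (normalizedFactors (q.map (algebraMap K L))) =
      R (normalizedFactors p) (normalizedFactors q) := by
  have hpi := hp.irreducible
  have hqi := hq.irreducible
  rw [normalizedFactors_irreducible hpi, normalizedFactors_irreducible hqi]
  have hp0 : p.map (algebraMap K L) ≠ 0 := Polynomial.map_ne_zero hp.ne_zero
  have hq0 : q.map (algebraMap K L) ≠ 0 := Polynomial.map_ne_zero hq.ne_zero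
  by_cases hass : Associated p q
  · have hass' : Associated (p.map (algebraMap K L)) (q.map (algebraMap K L)) :=
      hass.map (mapRingHom (algebraMap K L))
    have hnf : normalizedFactors (q.map (algebraMap K L)) =
        normalizedFactors (p.map (algebraMap K L)) :=
      ((associated_iff_normalizedFactors_eq_normalizedFactors hp0 hq0).mp hass').symm
    rw [hnf]
    have hsq : Squarefree (p.map (algebraMap K L)) :=
      ((PerfectField.separable_of_irreducible hpi).map).squarefree
    have hnd : (normalizedFactors (p.map (algebraMap K L))).Nodup :=
      (squarefree_iff_nodup_normalizedFactors hp0).mp hsq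
    have h1 : R (normalizedFactors (p.map (algebraMap K L)))
        (normalizedFactors (p.map (algebraMap K L))) =
        ((normalizedFactors (p.map (algebraMap K L))).map natDegree).sum := by
      unfold R
      congr 1
      apply Multiset.map_congr rfl
      intro Q hQ
      rw [Multiset.count_eq_one_of_mem hnd hQ, one_mul]
    have h2 : ((normalizedFactors (p.map (algebraMap K L))).map natDegree).sum =
        (normalizedFactors (p.map (algebraMap K L))).prod.natDegree :=
      (natDegree_multiset_prod _ (zero_notMem_normalizedFactors _)).symm
    have h3 : (normalizedFactors (p.map (algebraMap K L))).prod.natDegree =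
        (p.map (algebraMap K L)).natDegree :=
      natDegree_eq_of_degree_eq (degree_eq_degree_of_associated (prod_normalizedFactors hp0))
    have hnpq : normalize q = normalize p :=
      normalize_eq_normalize_iff_associated.mpr hass.symm
    have h4 : (normalize p).natDegree = p.natDegree :=
      natDegree_eq_of_degree_eq (degree_eq_degree_of_associated (normalize_associated p))
    rw [h1, h2, h3, natDegree_map, hnpq]
    unfold R
    simp [h4]
  · have hcop : IsCoprime p q :=
      hpi.coprime_iff_not_dvd.mpr (fun hdvd => hass (hpi.associated_of_dvd hqi hdvd))
    have hcop' : IsCoprime (p.map (algebraMap K L)) (q.map (algebraMap K L)) :=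
      hcop.map (mapRingHom (algebraMap K L))
    have hL : R (normalizedFactors (p.map (algebraMap K L)))
        (normalizedFactors (q.map (algebraMap K L))) = 0 := by
      unfold R
      apply Multiset.sum_eq_zero
      intro x hx
      obtain ⟨Q, hQ, rfl⟩ := Multiset.mem_map.mp hx
      have hQq : Q ∉ normalizedFactors (q.map (algebraMap K L)) := by
        intro hQ2
        have hd1 := dvd_of_mem_normalizedFactors hQ
        have hd2 := dvd_of_mem_normalizedFactors hQ2
        have hu : IsUnit Q := hcop'.isUnit_of_dvd' hd1 hd2
        exact (irreducible_of_normalized_factor Q hQ).not_isUnit hu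
      rw [Multiset.count_eq_zero_of_notMem hQq, zero_mul]
    have hne : normalize p ≠ normalize q := fun h =>
      hass (normalize_eq_normalize_iff_associated.mp h)
    rw [hL]
    unfold R
    simp [Multiset.count_singleton, hne]

private lemma T_prime_left (p : K[X]) (hp : Prime p) (f₂ : K[X]) :
    f₂ ≠ 0 → R (normalizedFactors (p.map (algebraMap K L)))
        (normalizedFactors (f₂.map (algebraMap K L))) =
      R (normalizedFactors p) (normalizedFactors f₂) := by
  refine UniqueFactorizationMonoid.induction_on_prime
    (P := fun f₂ : K[X] => f₂ ≠ 0 → R (normalizedFactors (p.map (algebraMap K L)))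
        (normalizedFactors (f₂.map (algebraMap K L))) =
      R (normalizedFactors p) (normalizedFactors f₂)) f₂ ?_ ?_ ?_
  · intro h
    exact absurd rfl h
  · intro x hx _
    have hx' : IsUnit (x.map (algebraMap K L)) := hx.map (mapRingHom (algebraMap K L))
    rw [normalizedFactors_of_isUnit hx, normalizedFactors_of_isUnit hx', R_zero_right,
      R_zero_right]
  · intro a q ha hq ih _
    have hq0 := hq.ne_zero
    rw [Polynomial.map_mul, normalizedFactors_mul (Polynomial.map_ne_zero hq0)
      (Polynomial.map_ne_zero ha), normalizedFactors_mul hq0 ha, R_add_right, R_add_right,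
      base_case K L p q hp hq, ih ha]

private lemma T (f₁ : K[X]) : f₁ ≠ 0 → ∀ f₂ : K[X], f₂ ≠ 0 →
    R (normalizedFactors (f₁.map (algebraMap K L))) (normalizedFactors (f₂.map (algebraMap K L))) =
      R (normalizedFactors f₁) (normalizedFactors f₂) := by
  refine UniqueFactorizationMonoid.induction_on_prime
    (P := fun f₁ : K[X] => f₁ ≠ 0 → ∀ f₂ : K[X], f₂ ≠ 0 →
      R (normalizedFactors (f₁.map (algebraMap K L)))
        (normalizedFactors (f₂.map (algebraMap K L))) =
      R (normalizedFactors f₁) (normalizedFactors f₂)) f₁ ?_ ?_ ?_
  · intro h
    exact absurd rfl h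
  · intro x hx _ f₂ _
    have hx' : IsUnit (x.map (algebraMap K L)) := hx.map (mapRingHom (algebraMap K L))
    rw [normalizedFactors_of_isUnit hx, normalizedFactors_of_isUnit hx', R_zero_left,
      R_zero_left]
  · intro a p ha hp ih _ f₂ hf₂
    have hp0 := hp.ne_zero
    rw [Polynomial.map_mul, normalizedFactors_mul (Polynomial.map_ne_zero hp0)
      (Polynomial.map_ne_zero ha), normalizedFactors_mul hp0 ha, R_add_left, R_add_left,
      T_prime_left K L p hp f₂ hf₂, ih ha f₂ hf₂]

end Main

open Polynomial UniqueFactorizationMonoid in
/-- Let K ⊆ L be a field extension and f₁, f₂ non-zero polynomials in K[t]. For a field F and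
polynomials g₁, g₂ over F put r_F(g₁, g₂) = Σ_P mult_P(g₁) · mult_P(g₂) · deg P, the sum running
over the monic irreducible polynomials P in F[t] (mult_P the multiplicity of P as an irreducible
factor). Assume K is perfect. Then r_K(f₁, f₂) = r_L(f₁, f₂): the number does not depend on the
field over which the factorisations are taken. (Perfectness of K cannot be dropped: for K = F_p(s),
L = K(s^{1/p}) and f₁ = f₂ = t^p − s the number is p over K and p² over L, since the irreducible t^p
− s becomes a p-th power over L; the published statement has no restriction on K, and its proof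
requires the relevant K[t]-modules to remain semisimple after base change, which holds when every
irreducible factor stays squarefree over L, in particular for K perfect.) -/
theorem result (K : Type u) (L : Type v) [Field K] [PerfectField K] [Field L] [Algebra K L]
    (f₁ f₂ : K[X]) (h₁ : f₁ ≠ 0) (h₂ : f₂ ≠ 0) :
    ∑ P ∈ (normalizedFactors (f₁.map (algebraMap K L))).toFinset,
        (normalizedFactors (f₁.map (algebraMap K L))).count P *
          (normalizedFactors (f₂.map (algebraMap K L))).count P * P.natDegree =
      ∑ P ∈ (normalizedFactors f₁).toFinset,
        (normalizedFactors f₁).count P * (normalizedFactors f₂).count P * P.natDegree := by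
  rw [R_eq, R_eq]
  exact T K L f₁ h₁ f₂ h₂

end Groth.Agent.S16836
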