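import Groth.Statements.S1688
import Mathlib
import Groth.Agent.Lib.Helper4.TorsFreeCurve
import Groth.Agent.S7830

set_option autoImplicit false
universe u
open CategoryTheory CategoryTheory.Limits AlgebraicGeometry TopologicalSpace
open SDiv

namespace Groth.Agent.S1688

/-- Let X be a locally Noetherian integral scheme of dimension at most 1 all of whose local rings are
regular, and F a coherent module on X. Then F is torsion free (every stalk is a torsion-free module
over the local ring) if and only if F is finite locally free. -/
theorem result (X : Scheme.{u}) [IsIntegral X] [IsLocallyNoetherian X] (hreg : ∀ x : ↥X, IsRegularLocalRing (X.presheaf.stalk x))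
    (hdim : topologicalKrullDim ↥X ≤ 1) (F : X.Modules) (hF : Coh.IsCoh F) :
    (∀ x : ↥X, NoZeroSMulDivisors (X.presheaf.stalk x) (F.presheaf.stalk x)) ↔ FlatMod.IsFinLocFree F := by
  haveI : F.IsQuasicoherent := hF.1
  haveI : SheafOfModules.IsFiniteType (R := X.ringCatSheaf) F := hF.2
  constructor
  · intro h x
    haveI := hreg x
    haveI := h x
    have hdimx : ringKrullDim (X.presheaf.stalk x) ≤ 1 :=
      (Groth.Agent.S7830.ringKrullDim_stalk_le_topologicalKrullDim X x).trans hdim
    haveI : IsPrincipalIdealRing (X.presheaf.stalk x) :=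
      Groth.Agent.Helper4.TorsFreeCurve.isPrincipalIdealRing_of_regular _ hdimx
    haveI := Groth.Agent.Helper4.CohDepth.finite_stalk F x
    haveI : Module.IsTorsionFree (X.presheaf.stalk x) (F.presheaf.stalk x) := inferInstance
    haveI : Module.Free (X.presheaf.stalk x) (F.presheaf.stalk x) :=
      Module.free_of_finite_type_torsion_free'
    obtain ⟨U, hxU, e⟩ := Groth.Agent.Helper4.TorsFreeCurve.free_at X F x
    exact ⟨U, _, hxU, e⟩
  · intro h x
    obtain ⟨U, n, hxU, ⟨e⟩⟩ := h x
    exact Groth.Agent.Helper4.TorsFreeCurve.noZeroSMulDivisors_stalk_of_iso F U n e x hxU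

end Groth.Agent.S1688
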