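import Groth.Statements.S1689
import Mathlib
import Groth.Agent.Lib.Helper4.ReflSurface
import Groth.Agent.Lib.Helper4.CohDepth
import Groth.Agent.S0018
import Groth.Agent.S9806
import Groth.Agent.S7830

set_option autoImplicit false
universe u
open CategoryTheory CategoryTheory.Limits AlgebraicGeometry TopologicalSpace
open SDiv

namespace Groth.Agent.S1689

/-- Let X be a locally Noetherian scheme of dimension at most 2 all of whose local rings are regular,
and F a coherent module on X. Then F is reflexive (every stalk is a reflexive module over the local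
ring) if and only if F is finite locally free. -/
theorem result (X : Scheme.{u}) [IsLocallyNoetherian X]
    (hreg : ∀ x : ↥X, IsRegularLocalRing (X.presheaf.stalk x)) (hdim : topologicalKrullDim ↥X ≤ 2) (F : X.Modules)
    (hF : Coh.IsCoh F) : (∀ x : ↥X, Module.IsReflexive (X.presheaf.stalk x) (F.presheaf.stalk x)) ↔ FlatMod.IsFinLocFree F := by
  haveI : F.IsQuasicoherent := hF.1
  haveI : SheafOfModules.IsFiniteType (R := X.ringCatSheaf) F := hF.2
  have hFP : CohB1.IsFP F := (Groth.Agent.S0018.result X F).mp hF
  constructor
  · intro h
    refine (Groth.Agent.S9806.result X F hF.1).mp ⟨hFP, fun x => ?_⟩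
    haveI := hreg x
    haveI := h x
    haveI := Groth.Agent.Helper4.CohDepth.finite_stalk F x
    have hdimx : ringKrullDim (X.presheaf.stalk x) ≤ 2 :=
      (Groth.Agent.S7830.ringKrullDim_stalk_le_topologicalKrullDim X x).trans hdim
    exact Groth.Agent.Helper4.ReflSurface.free_of_isReflexive _ hdimx _
  · intro h x
    obtain ⟨-, hfree⟩ := (Groth.Agent.S9806.result X F hF.1).mpr h
    haveI := hfree x
    haveI := Groth.Agent.Helper4.CohDepth.finite_stalk F x
    infer_instance

end Groth.Agent.S1689
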