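import Mathlib
import Groth.Statements.S1692
-- import your own Groth.Agent.* helpers here

set_option autoImplicit false
universe u
open CategoryTheory CategoryTheory.Limits AlgebraicGeometry TopologicalSpace
open SDiv

namespace Groth.Agent.S1692


theorem key (X : Scheme.{u}) [IsIntegral X] [IsLocallyNoetherian X] (f : ↑X.functionField)
    (hf : f ≠ 0) (W : X.Opens) (hW : IsAffineOpen W) [Nonempty W] :
    ∃ r : Γ(X, W), r ≠ 0 ∧ ∀ ξ ∈ X.basicOpen r, Scheme.ord f ξ = 0 := by
  haveI := functionField_isFractionRing_of_isAffineOpen X W hW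
  obtain ⟨a, b, hb, hab⟩ := IsFractionRing.div_surjective (A := Γ(X, W)) f
  have hb0 : b ≠ 0 := nonZeroDivisors.ne_zero hb
  have ha0 : a ≠ 0 := by
    rintro rfl
    rw [map_zero, zero_div] at hab
    exact hf hab.symm
  refine ⟨a * b, mul_ne_zero ha0 hb0, fun ξ hξ => ?_⟩
  have hle : X.basicOpen (a * b) ≤ W := X.basicOpen_le _
  haveI : Nonempty (X.basicOpen (a * b)) := ⟨⟨ξ, hξ⟩⟩
  have hu : IsUnit (X.presheaf.map (homOfLE hle).op (a * b)) :=
    X.toRingedSpace.isUnit_res_basicOpen (a * b)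
  rw [map_mul] at hu
  have hua : IsUnit (X.presheaf.map (homOfLE hle).op a) := isUnit_of_mul_isUnit_left hu
  have hub : IsUnit (X.presheaf.map (homOfLE hle).op b) := isUnit_of_mul_isUnit_right hu
  have hgen : genericPoint X ∈ X.basicOpen (a * b) :=
    ((genericPoint_spec X).mem_open_set_iff (X.basicOpen (a * b)).isOpen).mpr ⟨ξ, trivial, hξ⟩
  have ha' : algebraMap Γ(X, W) X.functionField a =
      X.germToFunctionField (X.basicOpen (a * b)) (X.presheaf.map (homOfLE hle).op a) :=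
    (X.presheaf.germ_res_apply (homOfLE hle) (genericPoint X) hgen a).symm
  have hb' : algebraMap Γ(X, W) X.functionField b =
      X.germToFunctionField (X.basicOpen (a * b)) (X.presheaf.map (homOfLE hle).op b) :=
    (X.presheaf.germ_res_apply (homOfLE hle) (genericPoint X) hgen b).symm
  have hbne : algebraMap Γ(X, W) X.functionField b ≠ 0 := by
    intro h0
    exact hb0 (IsFractionRing.injective Γ(X, W) X.functionField (h0.trans (map_zero _).symm))
  have hfb : f * algebraMap Γ(X, W) X.functionField b = algebraMap Γ(X, W) X.functionField a := by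
    rw [← hab, div_mul_cancel₀ _ hbne]
  have h0 : Scheme.ord (f * algebraMap Γ(X, W) X.functionField b) ξ =
      Scheme.ord f ξ + Scheme.ord (algebraMap Γ(X, W) X.functionField b) ξ :=
    Scheme.ord_mul hf hbne
  rw [hfb, ha', hb', Scheme.ord_of_isUnit hua hξ, Scheme.ord_of_isUnit hub hξ] at h0
  omega

theorem minimal_of_coheight (X : Scheme.{u}) [IsIntegral X] (W : X.Opens) (hW : IsAffineOpen W)
    (r : Γ(X, W)) (hr0 : r ≠ 0) (ξ : X) (hξW : ξ ∈ W) (hc : Order.coheight ξ = 1)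
    (hξr : ξ ∉ X.basicOpen r) :
    (hW.primeIdealOf ⟨ξ, hξW⟩).asIdeal ∈ (Ideal.span {r}).minimalPrimes := by
  have hmem : ∀ P : PrimeSpectrum Γ(X, W), hW.fromSpec.base P ∈ X.basicOpen r ↔
      r ∉ P.asIdeal := by
    intro P
    constructor
    · intro h
      have h' : P ∈ hW.fromSpec ⁻¹ᵁ X.basicOpen r := h
      rw [hW.fromSpec_preimage_basicOpen] at h'
      exact h'
    · intro h
      have h' : P ∈ hW.fromSpec ⁻¹ᵁ X.basicOpen r := by
        rw [hW.fromSpec_preimage_basicOpen]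
        exact h
      exact h'
  have hP : hW.fromSpec.base (hW.primeIdealOf ⟨ξ, hξW⟩) = ξ := hW.fromSpec_primeIdealOf ⟨ξ, hξW⟩
  have hgW : genericPoint X ∈ W :=
    ((genericPoint_spec X).mem_open_set_iff W.isOpen).mpr ⟨ξ, trivial, hξW⟩
  refine ⟨⟨(hW.primeIdealOf ⟨ξ, hξW⟩).isPrime, ?_⟩, ?_⟩
  · rw [Ideal.span_singleton_le_iff_mem]
    by_contra h
    exact hξr (hP ▸ (hmem _).mpr h)
  · rintro q ⟨hq, hrq⟩ hqP
    have hη : hW.fromSpec.base (⟨q, hq⟩ : PrimeSpectrum Γ(X, W)) ⤳ ξ := by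
      rw [← hP]
      exact ((PrimeSpectrum.le_iff_specializes (⟨q, hq⟩ : PrimeSpectrum Γ(X, W)) _).mp hqP).map
        hW.fromSpec.continuous
    have hηr : hW.fromSpec.base (⟨q, hq⟩ : PrimeSpectrum Γ(X, W)) ∉ X.basicOpen r := fun h =>
      (hmem _).mp h (hrq (Ideal.mem_span_singleton_self r))
    have hg : genericPoint X ∈ X.basicOpen r := by
      rw [Scheme.mem_basicOpen _ _ (genericPoint X) hgW]
      exact IsUnit.mk0 _ (fun h0 => hr0
        (germ_injective_of_isIntegral X _ hgW (h0.trans (map_zero _).symm)))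
    by_contra hne
    have hηξ : hW.fromSpec.base (⟨q, hq⟩ : PrimeSpectrum Γ(X, W)) ≠ ξ := by
      intro h
      apply hne
      have h' : (⟨q, hq⟩ : PrimeSpectrum Γ(X, W)) = hW.primeIdealOf ⟨ξ, hξW⟩ :=
        hW.fromSpec.isOpenEmbedding.injective (h.trans hP.symm)
      rw [← h']
    have h1 : ξ < hW.fromSpec.base (⟨q, hq⟩ : PrimeSpectrum Γ(X, W)) :=
      lt_iff_le_not_ge.mpr ⟨Scheme.le_iff_specializes.mpr hη, fun h =>
        hηξ (hη.antisymm (Scheme.le_iff_specializes.mp h)).eq⟩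
    have h2 : hW.fromSpec.base (⟨q, hq⟩ : PrimeSpectrum Γ(X, W)) < genericPoint X :=
      lt_iff_le_not_ge.mpr ⟨Scheme.le_iff_specializes.mpr (genericPoint_specializes _), fun h =>
        hηr ((Scheme.le_iff_specializes.mp h).mem_open (X.basicOpen r).isOpen hg)⟩
    have h3 := Order.coheight_add_one_le h1
    have h4 := Order.coheight_add_one_le h2
    rw [hc] at h3
    have h5 : (1 : ℕ∞) ≤ Order.coheight (hW.fromSpec.base (⟨q, hq⟩ : PrimeSpectrum Γ(X, W))) :=
      le_trans le_add_self h4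
    have h6 : (1 : ℕ∞) + 1 ≤ 1 := (add_le_add_left h5 1).trans h3
    exact absurd h6 (by decide)

/-- Let X be a locally Noetherian integral scheme and f a nonzero rational function. Then the closures
of the codimension-one points at which f has nonzero order of vanishing form a locally finite family
of closed subsets of X. -/
theorem result (X : Scheme.{u}) [IsIntegral X] [IsLocallyNoetherian X] (f : ↑X.functionField) (hf : f ≠ 0) :
    LocallyFinite (fun ξ : {ξ : ↥X // Order.coheight ξ = 1 ∧ Scheme.ord f ξ ≠ 0} => closure ({ξ.1} : Set ↥X)) := by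
  intro x
  obtain ⟨_, ⟨W, hW, rfl⟩, hxW, -⟩ := X.isBasis_affineOpens.exists_subset_of_mem_open
    (Set.mem_univ x) isOpen_univ
  haveI : Nonempty W := ⟨⟨x, hxW⟩⟩
  obtain ⟨r, hr0, hr⟩ := key X f hf W hW
  haveI : IsNoetherianRing Γ(X, W) := IsLocallyNoetherian.component_noetherian ⟨W, hW⟩
  refine ⟨(W : Set X), W.isOpen.mem_nhds hxW, ?_⟩
  classical
  have hmemW : ∀ i ∈ {i : {ξ : ↥X // Order.coheight ξ = 1 ∧ Scheme.ord f ξ ≠ 0} |
      (closure {i.1} ∩ (W : Set X)).Nonempty}, i.1 ∈ W := by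
    rintro i ⟨y, hy1, hy2⟩
    exact (specializes_iff_mem_closure.mpr hy1).mem_open W.isOpen hy2
  apply Set.Finite.of_finite_image (f := fun i : {ξ : ↥X // Order.coheight ξ = 1 ∧
    Scheme.ord f ξ ≠ 0} => if h : i.1 ∈ W then (hW.primeIdealOf ⟨i.1, h⟩).asIdeal else ⊥)
  · refine (Ideal.finite_minimalPrimes_of_isNoetherianRing _ (Ideal.span {r})).subset ?_
    rintro _ ⟨i, hi, rfl⟩
    have hiW := hmemW i hi
    simp only [dif_pos hiW]
    exact minimal_of_coheight X W hW r hr0 i.1 hiW i.2.1 (fun h => i.2.2 (hr _ h))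
  · intro i hi j hj hij
    have hiW := hmemW i hi
    have hjW := hmemW j hj
    simp only [dif_pos hiW, dif_pos hjW] at hij
    have h' := PrimeSpectrum.ext hij
    apply Subtype.ext
    rw [← hW.fromSpec_primeIdealOf ⟨i.1, hiW⟩, ← hW.fromSpec_primeIdealOf ⟨j.1, hjW⟩, h']

end Groth.Agent.S1692
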