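import Groth.Statements.S16920
import Mathlib
import Groth.Agent.S15237

set_option autoImplicit false
open CategoryTheory AlgebraicGeometry
universe u
open Variety

namespace Groth.Agent.S16920

/-- Let k be an uncountable algebraically closed field, V an irreducible k-scheme of finite type and Z₀,
Z₁, … closed subsets of V, each different from V. Then the set of closed points of V lying in no Zₙ
is dense in V. (The published statement: a nonempty c-open subset of an irreducible quasi-projective
variety is Zariski dense, a variety being read through its closed points; nonemptiness of the c-open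
subset amounts to every Zₙ being a proper subset, while quasi-projectivity and the standing
characteristic-zero assumption play no role and are dropped.) -/
theorem result (k : Type u) [Field k] [IsAlgClosed k]
    [Uncountable k] (V : Scheme.{u}) (sV : V ⟶ Spec (CommRingCat.of k)) [IrreducibleSpace V]
    [LocallyOfFiniteType sV] [QuasiCompact sV] (Z : ℕ → TopologicalSpace.Closeds V)
    (hZ : ∀ n, (Z n : Set V) ≠ Set.univ) :
    Dense {x : V | IsClosed ({x} : Set V) ∧ ∀ n, x ∉ Z n} := by
  rw [dense_iff_inter_open]
  intro W hW hWne
  obtain ⟨w, hw⟩ := hWne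
  obtain ⟨U, hU, hwU, hUW⟩ : ∃ U : V.Opens, IsAffineOpen U ∧ w ∈ U ∧ (U : Set V) ⊆ W := by
    obtain ⟨_, ⟨U, hU, rfl⟩, hxU, hUW⟩ := V.isBasis_affineOpens.exists_subset_of_mem_open hw hW
    exact ⟨U, hU, hxU, hUW⟩
  obtain ⟨x, hxU, hx, hxZ⟩ :=
    Groth.Agent.S15237.exists_closedPoint_mem k V sV Z hZ U hU ⟨w, hwU⟩
  exact ⟨x, hUW hxU, hx, hxZ⟩

end Groth.Agent.S16920
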