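import Groth.Statements.S1693
import Mathlib

set_option autoImplicit false
universe u
open CategoryTheory CategoryTheory.Limits AlgebraicGeometry TopologicalSpace
open SDiv

namespace Groth.Agent.S1693

/-- Let X be a locally Noetherian scheme and Z a closed subset. Then the irreducible components of Z
form a locally finite family of subsets of X. -/
theorem result (X : Scheme.{u}) [IsLocallyNoetherian X] (Z : Set ↥X) (hZ : IsClosed Z) :
    LocallyFinite (fun T : ↥(irreducibleComponents ↥Z) => ((↑) '' (T.1 : Set ↥Z) : Set ↥X)) := by
  intro x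
  obtain ⟨U, hU, hxU, -⟩ := exists_isAffineOpen_mem_and_subset (X := X) (x := x) (U := ⊤) trivial
  have : IsNoetherianRing Γ(X, U) := IsLocallyNoetherian.component_noetherian ⟨U, hU⟩
  have hN : NoetherianSpace U := noetherianSpace_of_isAffineOpen U hU
  refine ⟨U, U.isOpen.mem_nhds hxU, ?_⟩
  let W : Set Z := Subtype.val ⁻¹' (U : Set X)
  have hWopen : IsOpen W := U.isOpen.preimage continuous_subtype_val
  have hN' : NoetherianSpace ((U : Set X) : Type u) := hN
  have hNW : NoetherianSpace W := by
    let i : W → ((U : Set X) : Type u) := fun w => ⟨w.1.1, w.2⟩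
    have hi : Topology.IsInducing i := by
      have h1 : Topology.IsInducing ((Subtype.val : ((U : Set X) : Type u) → X) ∘ i) := by
        have : (Subtype.val : ((U : Set X) : Type u) → X) ∘ i = (Subtype.val : Z → X) ∘ (Subtype.val : W → Z) := rfl
        rw [this]
        exact Topology.IsInducing.subtypeVal.comp Topology.IsInducing.subtypeVal
      have hic : Continuous i := by
        apply Continuous.subtype_mk
        exact continuous_subtype_val.comp continuous_subtype_val
      exact Topology.IsInducing.of_comp hic continuous_subtype_val h1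
    exact hi.noetherianSpace
  have hfin : (irreducibleComponents W).Finite := NoetherianSpace.finite_irreducibleComponents
  let f : W → Z := Subtype.val
  have hf : Topology.IsOpenEmbedding f := hWopen.isOpenEmbedding_subtypeVal
  have hne : ∀ T : ↥(irreducibleComponents ↥Z),
      (((↑) '' (T.1 : Set ↥Z) : Set ↥X) ∩ (U : Set X)).Nonempty → (f ⁻¹' T.1).Nonempty := by
    rintro T ⟨y, ⟨z, hzT, rfl⟩, hyU⟩
    exact ⟨⟨z, hyU⟩, hzT⟩
  apply Set.Finite.of_finite_image (f := fun T : ↥(irreducibleComponents ↥Z) => f ⁻¹' T.1)
  · apply hfin.subset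
    rintro _ ⟨T, hT, rfl⟩
    obtain ⟨w, hw⟩ := hne T hT
    exact preimage_mem_irreducibleComponents T.2 hf ⟨f w, hw, w, rfl⟩
  · intro T hT T' hT' h
    apply Subtype.ext
    have e1 := closure_image_preimage_of_isPreirreducible f hf.isOpenMap T.1 (hne T hT)
      T.2.1.isPreirreducible (isClosed_of_mem_irreducibleComponents _ T.2)
    have e2 := closure_image_preimage_of_isPreirreducible f hf.isOpenMap T'.1 (hne T' hT')
      T'.2.1.isPreirreducible (isClosed_of_mem_irreducibleComponents _ T'.2)
    simp only at h
    rw [← e1, ← e2, h]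

end Groth.Agent.S1693
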