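import Groth.Statements.S16962
import Groth.Agent.H21.ConstAct2

set_option autoImplicit false
universe u
open ConstAct

namespace Groth.Agent.S16962

open TensorProduct in
/-- Let R be a commutative ring, Γ a finite group and B a commutative R-algebra equipped with a comodule
structure over the Hopf algebra of R-valued functions on Γ (the coordinate ring of the constant
group scheme of Γ over Spec R, with basis the indicator functions e_γ) whose coaction B → B ⊗ Fun(Γ,
R) is a homomorphism of algebras, i.e. an action of the constant group scheme on Spec B. Then there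
is exactly one action of Γ on B by R-algebra automorphisms whose associated coaction b ↦ Σ_γ (γ · b)
⊗ e_γ is the given coaction; and for that action the ring of invariants of the comodule algebra (the
b whose coaction is b ⊗ 1) equals the ring of elements fixed by Γ. (That the coaction associated
with an action is a comodule algebra structure is the other direction of the published equivalence
and is a construction here.) -/
theorem result (R : Type u) [CommRing R]
    (B : Type u) [CommRing B] [Algebra R B] (Γ : Type u) [Group Γ] [Fintype Γ] [DecidableEq Γ]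
    [HopfRep.Comod R (ConstGrp.F R Γ) B] [GLin.IsCoactAlg R (ConstGrp.F R Γ) B] :
    ∃! a : MulSemiringAction Γ B, ∃ _ : SMulCommClass Γ R B,
      ConstAct.coactLin R B Γ = HopfRep.Comod.coact (k := R) (A := ConstGrp.F R Γ) (V := B) ∧
        GLin.invariants R (ConstGrp.F R Γ) B = ConstAct.inv R B Γ := by
  refine ⟨H21.ConstAct2.msa R B Γ, ⟨H21.ConstAct2.msa_smulComm R B Γ, ?_, ?_⟩, ?_⟩
  · letI := H21.ConstAct2.msa R B Γ
    haveI := H21.ConstAct2.msa_smulComm R B Γ
    apply LinearMap.ext
    intro b
    rw [ConstAct.coactLin_apply, H21.ConstAct2.coact_eq_sum]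
    rfl
  · letI := H21.ConstAct2.msa R B Γ
    haveI := H21.ConstAct2.msa_smulComm R B Γ
    ext b
    rw [GLin.mem_invariants_iff, ConstAct.mem_inv]
    constructor
    · intro hb γ
      show H21.ConstAct2.act R B Γ γ b = b
      rw [H21.ConstAct2.act_apply, hb, H21.ConstAct1.coef_tmul]
      simp
    · intro hb
      rw [H21.ConstAct2.coact_eq_sum]
      have h1 : ∀ γ : Γ, H21.ConstAct2.act R B Γ γ b = b := hb
      simp_rw [h1]
      rw [← TensorProduct.tmul_sum, ConstGrp.sum_e]
  · rintro a' ⟨hcomm, hco, -⟩
    refine H21.ConstAct2.mulSemiringAction_ext _ _ (fun γ b => ?_)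
    show (letI := a'; γ • b) = H21.ConstAct2.act R B Γ γ b
    rw [H21.ConstAct2.act_apply, ← hco, ConstAct.coactLin_apply, H21.ConstAct1.coef_sum]

end Groth.Agent.S16962
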