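import Groth.Statements.S16979
import Mathlib

set_option autoImplicit false
universe u v
open CAlg

namespace Groth.Agent.S16979

/-- Let R be an integral domain with fraction field K and φ a square matrix over R whose characteristic
polynomial becomes separable in K[T] (equivalently, K[T] modulo the characteristic polynomial is
geometrically reduced over K). Then a polynomial f over R satisfies f(φ) = 0 exactly when the
characteristic polynomial of φ divides f in R[T]: the kernel of evaluation at φ (the minimal ideal
of φ) is the principal ideal generated by the characteristic polynomial. -/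
theorem result
    {R : Type u} [CommRing R] [IsDomain R] {n : Type v} [Fintype n] [DecidableEq n]
    (φ : Matrix n n R)
    (hsep : (φ.charpoly.map (algebraMap R (FractionRing R))).Separable) :
    RingHom.ker (Polynomial.aeval (R := R) φ) = Ideal.span {φ.charpoly} := by
  classical
  apply le_antisymm
  · intro f hf
    rw [RingHom.mem_ker] at hf
    rw [Ideal.mem_span_singleton]
    obtain ⟨ι, hιdef⟩ : ∃ ι : R →+* AlgebraicClosure (FractionRing R),
        ι = (algebraMap (FractionRing R) (AlgebraicClosure (FractionRing R))).comp
          (algebraMap R (FractionRing R)) := ⟨_, rfl⟩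
    have hι : Function.Injective ι := by
      rw [hιdef]
      exact (algebraMap (FractionRing R) (AlgebraicClosure (FractionRing R))).injective.comp
        (IsFractionRing.injective R (FractionRing R))
    rw [← Polynomial.map_dvd_map ι hι (Matrix.charpoly_monic φ)]
    have hsep' : (φ.charpoly.map ι).Separable := by
      rw [hιdef, ← Polynomial.map_map]
      exact hsep.map
    have hsplit : (φ.charpoly.map ι).Splits := IsAlgClosed.splits _
    have hχ0 : φ.charpoly.map ι ≠ 0 := Polynomial.map_monic_ne_zero (Matrix.charpoly_monic φ)
    by_cases hf0 : f.map ι = 0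
    · rw [hf0]; exact dvd_zero _
    apply hsplit.dvd_of_roots_le_roots hχ0
    rw [Multiset.le_iff_subset (Polynomial.nodup_roots hsep')]
    intro μ hμ
    rw [Polynomial.mem_roots hχ0] at hμ
    rw [Polynomial.mem_roots hf0]
    obtain ⟨Φ, hΦ⟩ : ∃ Φ : Matrix n n (AlgebraicClosure (FractionRing R)), Φ = φ.map ι := ⟨_, rfl⟩
    have hchar : Φ.charpoly = φ.charpoly.map ι := by rw [hΦ, Matrix.charpoly_map]
    have hdet : (Matrix.scalar n μ - Φ).det = 0 := by
      rw [← Matrix.eval_charpoly, hchar]; exact hμ
    obtain ⟨v, hv0, hv⟩ := Matrix.exists_mulVec_eq_zero_iff.mpr hdet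
    have hΦv : Φ.mulVec v = μ • v := by
      rw [Matrix.sub_mulVec, sub_eq_zero] at hv
      rw [← hv]
      simp [Matrix.scalar_apply, Matrix.smul_mulVec]
    have hpow : ∀ k : ℕ, (Φ ^ k).mulVec v = μ ^ k • v := by
      intro k
      induction k with
      | zero => simp
      | succ k ih =>
        rw [pow_succ, ← Matrix.mulVec_mulVec, hΦv, Matrix.mulVec_smul, ih, smul_smul, pow_succ,
          mul_comm]
    have key : ∀ g : Polynomial (AlgebraicClosure (FractionRing R)),
        (Polynomial.aeval Φ g).mulVec v = (g.eval μ) • v := by
      intro g
      induction g using Polynomial.induction_on' with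
      | add p q hp hq =>
        rw [map_add, Matrix.add_mulVec, hp, hq, Polynomial.eval_add, add_smul]
      | monomial k a =>
        rw [Polynomial.aeval_monomial, Polynomial.eval_monomial, Algebra.algebraMap_eq_smul_one,
          smul_mul_assoc, one_mul, Matrix.smul_mulVec, hpow, smul_smul]
    have haev : Polynomial.aeval Φ (f.map ι) = 0 := by
      have h1 := congrArg (ι.mapMatrix) hf
      rw [map_zero] at h1
      rw [← h1, Polynomial.aeval_def, Polynomial.aeval_def, Polynomial.eval₂_map,
        Polynomial.hom_eval₂]
      congr 1
      ext a i j
      simp [Matrix.algebraMap_matrix_apply]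
      split_ifs <;> simp
    have h2 := key (f.map ι)
    rw [haev, Matrix.zero_mulVec] at h2
    rcases smul_eq_zero.mp h2.symm with h | h
    · exact h
    · exact absurd h hv0
  · rw [Ideal.span_le, Set.singleton_subset_iff]
    exact Matrix.aeval_self_charpoly φ

end Groth.Agent.S16979
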