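import Groth.Statements.S16982
import Mathlib
import Groth.Agent.H27.PSLift

set_option autoImplicit false
universe u v w w'
open CAlg

namespace Groth.Agent.S16982

/-- Let R be a commutative ring, A a complete Noetherian local R-algebra written as a quotient of a
power series ring over R in finitely many variables by a surjective R-algebra map π, and f : E → A a
surjective R-algebra map whose kernel has square zero and is finitely generated. Then π lifts along
f to an R-algebra map λ from the power series ring to E with f ∘ λ = π. (The published statement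
takes R Artinian local and asks for a lift that is continuous for the adic topologies; this row
allows any commutative R and asks for any lift.) -/
theorem result
    {R : Type u} [CommRing R] {σ : Type v} [Finite σ]
    {A : Type w} {E : Type w'} [CommRing A] [CommRing E] [Algebra R A] [Algebra R E]
    [IsNoetherianRing A] [IsLocalRing A] [IsAdicComplete (IsLocalRing.maximalIdeal A) A]
    (π : MvPowerSeries σ R →ₐ[R] A) (hπ : Function.Surjective π)
    (f : E →ₐ[R] A) (hf : Function.Surjective f)
    (hsq : RingHom.ker f.toRingHom ^ 2 = ⊥) (hfg : (RingHom.ker f.toRingHom).FG) :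
    ∃ l : MvPowerSeries σ R →ₐ[R] E, f.comp l = π := by
  classical
  haveI hcomp : IsAdicComplete ((IsLocalRing.maximalIdeal A).comap f.toRingHom) E :=
    Groth.Agent.H27.PSLift.isAdicComplete_of_sqZero_ext (IsLocalRing.maximalIdeal A)
      f.toRingHom hf hsq hfg
  have ha : ∀ i, π (MvPowerSeries.X i) ∈ IsLocalRing.maximalIdeal A := by
    intro i
    rw [IsLocalRing.mem_maximalIdeal, mem_nonunits_iff]
    intro hu
    obtain ⟨b, hb⟩ := isUnit_iff_exists_inv.mp hu
    obtain ⟨p, rfl⟩ := hπ b
    have h1 : IsUnit (1 - MvPowerSeries.X i * p : MvPowerSeries σ R) := by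
      rw [MvPowerSeries.isUnit_iff_constantCoeff]
      simp
    have h2 : π (1 - MvPowerSeries.X i * p) = 0 := by
      rw [map_sub, map_one, map_mul, hb, sub_self]
    have h3 := h1.map π
    rw [h2] at h3
    exact not_isUnit_zero h3
  choose e he using fun i => hf (π (MvPowerSeries.X i))
  have heJ : ∀ i, e i ∈ (IsLocalRing.maximalIdeal A).comap f.toRingHom := fun i => by
    rw [Ideal.mem_comap]
    show f (e i) ∈ _
    rw [he]
    exact ha i
  obtain ⟨u, huC, huX⟩ :=
    Groth.Agent.H27.PSLift.exists_ps_hom_gen _ (algebraMap R E) e heJ
  have hfu : f.toRingHom.comp u = π.toRingHom := by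
    apply Groth.Agent.H27.PSLift.ps_ringHom_ext_complete (IsLocalRing.maximalIdeal A)
    · intro a
      rw [RingHom.comp_apply, huC]
      show f (algebraMap R E a) = π (MvPowerSeries.C a)
      rw [AlgHom.commutes, MvPowerSeries.c_eq_algebraMap, AlgHom.commutes]
    · intro i
      rw [RingHom.comp_apply, huX]
      exact he i
    · intro i
      rw [RingHom.comp_apply, huX]
      show f (e i) ∈ _
      rw [he]
      exact ha i
  obtain ⟨l, hl⟩ : ∃ l : MvPowerSeries σ R →ₐ[R] E, ∀ p, l p = u p :=
    ⟨{ toRingHom := u
       commutes' := fun r => by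
        show u (algebraMap R (MvPowerSeries σ R) r) = algebraMap R E r
        rw [← MvPowerSeries.c_eq_algebraMap, huC] }, fun p => rfl⟩
  refine ⟨l, AlgHom.ext fun p => ?_⟩
  show f (l p) = π p
  rw [hl]
  exact DFunLike.congr_fun hfu p

end Groth.Agent.S16982
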