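import Groth.Statements.S16983
import Mathlib

set_option autoImplicit false
universe u
open DeformData

namespace Groth.Agent.S16983

/-- Let p be a prime, s ≥ 1, B a finite index set with a subset B₀ of exactly three elements, m_j ≥ 1
integers coprime to p, and σ_{i,j} (i < s, j ∈ B) rational numbers with m_j σ_{i,j} an integer, such
that Σ_j (σ_{i,j} − 1) = −2 for every i, the fractional part of σ_{i,j} equals that of p^i σ_{0,j},
no σ_{i,j} equals 1, and the minimum over i of ⌊σ_{i,j}⌋ is 0 for j ∈ B₀ and 1 for j ∉ B₀. Then for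
every i the fractional parts ⟨σ_{i,j}⟩ sum over j to 1 (purity), and ⌊σ_{i,j}⌋ is 0 on B₀ and 1 off
B₀ for every i. (The hypotheses are exactly the properties of the signature of a special deformation
datum on the projective line: each entry is an integer divided by a stabilizer order m_j in a group
of order prime to p, the degree identity coming from Riemann–Hurwitz, the Frobenius-twist relation
between fractional parts, and the speciality conditions; the statement is given here for any such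
tuple.) -/
theorem result
    {B : Type u} [Fintype B] [DecidableEq B] (B₀ : Finset B) (hB₀ : B₀.card = 3)
    (p : ℕ) (hp : p.Prime) (s : ℕ) (hs : 0 < s)
    (m : B → ℕ) (hm : ∀ j, 0 < m j) (hmp : ∀ j, Nat.Coprime (m j) p)
    (σ : Fin s → B → ℚ) (hint : ∀ i j, ∃ h : ℤ, σ i j = (h : ℚ) / (m j : ℚ))
    (hsum : ∀ i, ∑ j, (σ i j - 1) = -2)
    (hfract : ∀ i j, Int.fract (σ i j) = Int.fract ((p : ℚ) ^ (i : ℕ) * σ ⟨0, hs⟩ j))
    (hne : ∀ i j, σ i j ≠ 1)
    (hB₀min : ∀ j ∈ B₀, (∃ i, ⌊σ i j⌋ = 0) ∧ ∀ i, 0 ≤ ⌊σ i j⌋)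
    (hBmin : ∀ j ∉ B₀, (∃ i, ⌊σ i j⌋ = 1) ∧ ∀ i, 1 ≤ ⌊σ i j⌋) :
    (∀ i, ∑ j, Int.fract (σ i j) = 1) ∧ (∀ i j, ⌊σ i j⌋ = if j ∈ B₀ then 0 else 1) := by
  classical
  have hdecomp : ∀ i, ((∑ j, ((⌊σ i j⌋ : ℤ) - 1) : ℤ) : ℚ) + ∑ j, Int.fract (σ i j) = -2 := by
    intro i
    push_cast
    rw [← Finset.sum_add_distrib, ← hsum i]
    refine Finset.sum_congr rfl (fun j _ => ?_)
    have := Int.floor_add_fract (σ i j)
    linarith
  have hlow : ∀ i j, (if j ∈ B₀ then (0:ℤ) else 1) - 1 ≤ ⌊σ i j⌋ - 1 := by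
    intro i j
    split_ifs with h
    · have := (hB₀min j h).2 i
      omega
    · have := (hBmin j h).2 i
      omega
  have hcard : ∑ j : B, ((if j ∈ B₀ then (0:ℤ) else 1) - 1) = -3 := by
    have h1 : ∀ j : B, ((if j ∈ B₀ then (0:ℤ) else 1) - 1) = if j ∈ B₀ then (-1 : ℤ) else 0 := by
      intro j; split_ifs <;> simp
    rw [Finset.sum_congr rfl (fun j _ => h1 j), Finset.sum_ite_mem, Finset.univ_inter,
      Finset.sum_const, hB₀]
    simp
  have hF : ∀ i, ∑ j, Int.fract (σ i j) ≠ 0 := by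
    intro i h0
    have h1 : ∀ j, Int.fract (σ i j) = 0 := by
      intro j
      exact (Finset.sum_eq_zero_iff_of_nonneg (fun j _ => Int.fract_nonneg _)).mp h0 j
        (Finset.mem_univ _)
    have h2 : ∀ j, ∃ z : ℤ, σ ⟨0, hs⟩ j = z := by
      intro j
      obtain ⟨h, hh⟩ := hint ⟨0, hs⟩ j
      have h3 := h1 j
      rw [hfract i j, Int.fract_eq_zero_iff] at h3
      obtain ⟨z, hz⟩ := h3
      have hmj : (m j : ℚ) ≠ 0 := by
        have := hm j
        positivity
      have h4 : (p : ℤ) ^ (i : ℕ) * h = z * m j := by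
        have : ((p : ℚ) ^ (i : ℕ) * h = z * m j) := by
          rw [hz, hh]; field_simp
        exact_mod_cast this
      have h5 : (m j : ℤ) ∣ h := by
        have hc : IsCoprime ((m j : ℤ)) ((p : ℤ) ^ (i : ℕ)) :=
          (Nat.isCoprime_iff_coprime.mpr (hmp j)).pow_right
        exact hc.dvd_of_dvd_mul_left ⟨z, by rw [h4]; ring⟩
      obtain ⟨w, hw⟩ := h5
      refine ⟨w, ?_⟩
      rw [hh, hw]; push_cast; field_simp
    have h3 : ∀ i' j, ∃ z : ℤ, σ i' j = z := by
      intro i' j
      obtain ⟨z, hz⟩ := h2 j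
      have : Int.fract (σ i' j) = 0 := by
        rw [hfract i' j, hz]
        have : ((p : ℚ) ^ (i' : ℕ) * (z : ℚ)) = (((p : ℤ) ^ (i' : ℕ) * z : ℤ) : ℚ) := by
          push_cast; ring
        rw [this, Int.fract_intCast]
      rw [Int.fract_eq_zero_iff] at this
      obtain ⟨w, hw⟩ := this
      exact ⟨w, hw.symm⟩
    have h4 : ∀ j, j ∈ B₀ := by
      intro j
      by_contra hj
      obtain ⟨⟨i', hi'⟩, -⟩ := hBmin j hj
      obtain ⟨z, hz⟩ := h3 i' j
      rw [hz, Int.floor_intCast] at hi'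
      apply hne i' j
      rw [hz, hi']; simp
    have h5 : ∑ j, σ i j = 1 := by
      have := hsum i
      rw [Finset.sum_sub_distrib, Finset.sum_const, Finset.card_univ] at this
      have hc : Fintype.card B = 3 := by
        rw [← hB₀, ← Finset.card_univ]
        congr 1
        ext j; simp [h4 j]
      rw [hc] at this
      simp at this
      linarith
    have h6 : ∀ j, σ i j = 0 := by
      intro j
      obtain ⟨z, hz⟩ := h3 i j
      have hz0 : 0 ≤ z := by
        have := (hB₀min j (h4 j)).2 i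
        rwa [hz, Int.floor_intCast] at this
      have hz1 : z ≤ 1 := by
        have h7 : σ i j ≤ ∑ j, σ i j := by
          refine Finset.single_le_sum (f := fun j => σ i j) (fun j' _ => ?_) (Finset.mem_univ j)
          obtain ⟨z', hz'⟩ := h3 i j'
          have := (hB₀min j' (h4 j')).2 i
          rw [hz', Int.floor_intCast] at this
          show (0 : ℚ) ≤ σ i j'
          rw [hz']
          exact_mod_cast this
        rw [h5, hz] at h7
        exact_mod_cast h7
      have hz2 : z ≠ 1 := by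
        intro h
        apply hne i j
        rw [hz, h]; simp
      have : z = 0 := by omega
      rw [hz, this]; simp
    rw [Finset.sum_congr rfl (fun j _ => h6 j)] at h5
    simp at h5
  have hN : ∀ i, ∑ j, ((⌊σ i j⌋ : ℤ) - 1) = -3 := by
    intro i
    have h1 : (-3 : ℤ) ≤ ∑ j, ((⌊σ i j⌋ : ℤ) - 1) := by
      rw [← hcard]
      exact Finset.sum_le_sum (fun j _ => hlow i j)
    have h2 : (0 : ℚ) < ∑ j, Int.fract (σ i j) :=
      lt_of_le_of_ne (Finset.sum_nonneg (fun j _ => Int.fract_nonneg _)) (Ne.symm (hF i))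
    have h3 := hdecomp i
    have h4 : ((∑ j, ((⌊σ i j⌋ : ℤ) - 1) : ℤ) : ℚ) < -2 := by linarith
    have h5 : (∑ j, ((⌊σ i j⌋ : ℤ) - 1) : ℤ) < -2 := by exact_mod_cast h4
    omega
  refine ⟨?_, ?_⟩
  · intro i
    have h3 := hdecomp i
    rw [hN i] at h3
    push_cast at h3
    linarith
  · intro i j
    have h1 : ∑ j, ((if j ∈ B₀ then (0:ℤ) else 1) - 1) = ∑ j, ((⌊σ i j⌋ : ℤ) - 1) := by
      rw [hcard, hN i]
    have h2 := (Finset.sum_eq_sum_iff_of_le (fun j _ => hlow i j)).mp h1 j (Finset.mem_univ _)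
    omega

end Groth.Agent.S16983
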