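import Groth.Statements.S17016
import Groth.Agent.Lib.Helper22.CliffEven

set_option autoImplicit false
universe u
open QuadGrp

namespace Groth.Agent.S17016

/-- For the standard split quadratic form Σ x_{2i} x_{2i+1} on R^{2m} over any commutative ring R, with
standard basis vectors e_j in the Clifford algebra, the product w of the elements 1 − 2 e_{2i}
e_{2i+1} (i < m, which pairwise commute) satisfies w² = 1 and anticommutes with every e_j. (Hence w
is central in the even Clifford algebra; over rings in which 2 is invertible (1 − w)/2 is the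
non-trivial central idempotent of the even part.) -/
theorem result (R : Type u) [CommRing R] (m : ℕ) :
    let Q := QuadGrp.splitForm R (m * 2)
    let e : Fin (m * 2) → CliffordAlgebra Q := fun j => CliffordAlgebra.ι Q (Pi.single j 1)
    let w : CliffordAlgebra Q :=
      ((List.finRange m).map fun i => 1 - 2 * (e (finProdFinEquiv (i, 0)) * e (finProdFinEquiv (i, 1)))).prod
    w * w = 1 ∧ ∀ j : Fin (m * 2), e j * w = -(w * e j) := by
  intro Q e w
  have hsq : ∀ j : Fin (m * 2), e j * e j = 0 := by
    intro j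
    obtain ⟨p, rfl⟩ := finProdFinEquiv.surjective j
    change CliffordAlgebra.ι Q _ * CliffordAlgebra.ι Q _ = 0
    rw [CliffordAlgebra.ι_sq_scalar, Groth.Agent.Helper22.CliffEven.Q_single, map_zero]
  have hpair : ∀ i : Fin m, e (finProdFinEquiv (i, 0)) * e (finProdFinEquiv (i, 1)) +
      e (finProdFinEquiv (i, 1)) * e (finProdFinEquiv (i, 0)) = 1 := by
    intro i
    change CliffordAlgebra.ι Q _ * CliffordAlgebra.ι Q _ + CliffordAlgebra.ι Q _ * CliffordAlgebra.ι Q _ = 1
    rw [CliffordAlgebra.ι_mul_ι_add_swap, Groth.Agent.Helper22.CliffEven.polar_pair, map_one]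
  have hanti : ∀ p q : Fin m × Fin 2, p.1 ≠ q.1 →
      e (finProdFinEquiv p) * e (finProdFinEquiv q) = -(e (finProdFinEquiv q) * e (finProdFinEquiv p)) := by
    intro p q hpq
    rw [eq_neg_iff_add_eq_zero]
    change CliffordAlgebra.ι Q _ * CliffordAlgebra.ι Q _ + CliffordAlgebra.ι Q _ * CliffordAlgebra.ι Q _ = 0
    rw [CliffordAlgebra.ι_mul_ι_add_swap, Groth.Agent.Helper22.CliffEven.polar_ne R m p q hpq, map_zero]
  set f : Fin m → CliffordAlgebra Q :=
    fun i => 1 - 2 * (e (finProdFinEquiv (i, 0)) * e (finProdFinEquiv (i, 1))) with hf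
  have hw : w = ((List.finRange m).map f).prod := rfl
  have hxf : ∀ (p : Fin m × Fin 2) (i : Fin m), i ≠ p.1 →
      e (finProdFinEquiv p) * f i = f i * e (finProdFinEquiv p) := by
    intro p i hi
    exact Groth.Agent.Helper22.CliffEven.x_f (hanti p (i, 0) (Ne.symm hi)) (hanti p (i, 1) (Ne.symm hi))
  have hfa : ∀ p : Fin m × Fin 2, e (finProdFinEquiv p) * f p.1 = -(f p.1 * e (finProdFinEquiv p)) := by
    rintro ⟨i, ε⟩
    fin_cases ε
    · exact Groth.Agent.Helper22.CliffEven.a_f (hsq _) (hsq _) (hpair i)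
    · exact Groth.Agent.Helper22.CliffEven.b_f (hsq _) (hsq _) (hpair i)
  have hfsq : ∀ i, f i * f i = 1 := fun i =>
    Groth.Agent.Helper22.CliffEven.f_sq (hsq _) (hsq _) (hpair i)
  have hfcomm : ∀ i j, i ≠ j → f i * f j = f j * f i := by
    intro i j hij
    have h0 := hxf (i, 0) j (Ne.symm hij)
    have h1 := hxf (i, 1) j (Ne.symm hij)
    have h : e (finProdFinEquiv (i, 0)) * e (finProdFinEquiv (i, 1)) * f j =
        f j * (e (finProdFinEquiv (i, 0)) * e (finProdFinEquiv (i, 1))) := by
      rw [mul_assoc, h1, ← mul_assoc, h0, mul_assoc]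
    calc f i * f j = f j - 2 * (e (finProdFinEquiv (i, 0)) * e (finProdFinEquiv (i, 1)) * f j) := by
          rw [hf]; noncomm_ring
      _ = f j * f i := by rw [h, hf]; noncomm_ring
  constructor
  · rw [hw]
    exact Groth.Agent.Helper22.CliffEven.list_sq f hfcomm hfsq _ (List.nodup_finRange m)
  · intro j
    obtain ⟨p, rfl⟩ := finProdFinEquiv.surjective j
    rw [hw]
    exact (Groth.Agent.Helper22.CliffEven.list_anticomm f (e (finProdFinEquiv p)) p.1
      (fun i hi => hxf p i hi) (hfa p) _ (List.nodup_finRange m)).2 (List.mem_finRange _)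

end Groth.Agent.S17016
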