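import Groth.Statements.S17023
import Mathlib
import Groth.Agent.S0549

set_option autoImplicit false
universe u
open FlatMor

namespace Groth.Agent.S17023

/-- Let B be a discrete valuation ring, A a B-algebra of finite type and p a prime ideal of A which lies
over the maximal ideal of B (a point of the special fibre), at which A is smooth over B (the
localization A_p is formally smooth over B), and such that B maps onto the residue field κ(p). Then
there are a discrete valuation ring B' and a ring map ψ : A → B' pulling the maximal ideal of B'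
back to p, such that the composite B → A → B' is injective, the maximal ideal of B generates the
maximal ideal of B', and B maps onto the residue field of B'; in other words Spec B' → Spec A → Spec
B is surjective and unramified with trivial residue field extension. (The published statement does
not say that the closed point of Spec B' goes to p; it is required here. The published setting takes
A essentially of finite type over a field of characteristic zero; here A is taken of finite type
over B, with no ground field.) -/
theorem result
    (B : Type u) [CommRing B] [IsDomain B] [IsDiscreteValuationRing B]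
    (A : Type u) [CommRing A] [Algebra B A] [Algebra.FiniteType B A]
    (p : Ideal A) [p.IsPrime] (hp : p.comap (algebraMap B A) = IsLocalRing.maximalIdeal B)
    [Algebra.IsSmoothAt B p]
    (hres : Function.Surjective ((algebraMap A p.ResidueField).comp (algebraMap B A))) :
    ∃ (B' : Type u) (_ : CommRing B') (_ : IsDomain B') (_ : IsDiscreteValuationRing B') (ψ : A →+* B'),
      Ideal.comap ψ (IsLocalRing.maximalIdeal B') = p ∧
      Function.Injective (ψ.comp (algebraMap B A)) ∧
      Ideal.map (ψ.comp (algebraMap B A)) (IsLocalRing.maximalIdeal B) = IsLocalRing.maximalIdeal B' ∧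
      Function.Surjective ((IsLocalRing.residue B').comp (ψ.comp (algebraMap B A))) := by
  classical
  letI : Field (B ⧸ IsLocalRing.maximalIdeal B) := Ideal.Quotient.field _
  haveI hN : IsNoetherianRing B := inferInstance
  have hfg : (IsLocalRing.maximalIdeal B).FG := IsNoetherian.noetherian _
  have hne : IsLocalRing.maximalIdeal B ≠ ⊤ := Ideal.IsPrime.ne_top'
  obtain ⟨hdom, hdvr⟩ := (Groth.Agent.S0549.result B).mp ⟨inferInstance, inferInstance⟩
  haveI := hdom
  haveI := hdvr
  haveI hloc : IsLocalRing (AdicCompletion (IsLocalRing.maximalIdeal B) B) := inferInstance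
  have hmax : IsLocalRing.maximalIdeal (AdicCompletion (IsLocalRing.maximalIdeal B) B) =
      (IsLocalRing.maximalIdeal B).map
        (algebraMap B (AdicCompletion (IsLocalRing.maximalIdeal B) B)) :=
    Groth.Agent.S19474.maximalIdeal_adicCompletion B (IsLocalRing.maximalIdeal B) hne
  haveI hcomp : IsAdicComplete ((IsLocalRing.maximalIdeal B).map
      (algebraMap B (AdicCompletion (IsLocalRing.maximalIdeal B) B)))
      (AdicCompletion (IsLocalRing.maximalIdeal B) B) :=
    AdicCompletion.isAdicComplete_self (IsLocalRing.maximalIdeal B) hfg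
  haveI hnt : Nontrivial (AdicCompletion (IsLocalRing.maximalIdeal B) B ⧸
      (IsLocalRing.maximalIdeal B).map
        (algebraMap B (AdicCompletion (IsLocalRing.maximalIdeal B) B))) :=
    Ideal.Quotient.nontrivial_iff.mpr (by rw [← hmax]; exact Ideal.IsPrime.ne_top')
  -- the residue field identification
  have hφ0 : ∀ b ∈ IsLocalRing.maximalIdeal B,
      ((algebraMap A p.ResidueField).comp (algebraMap B A)) b = 0 := by
    intro b hb
    rw [← hp] at hb
    exact Ideal.algebraMap_residueField_eq_zero.mpr hb
  obtain ⟨θ, hθ⟩ : ∃ θ : B ⧸ IsLocalRing.maximalIdeal B →+* p.ResidueField,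
      ∀ b, θ (Ideal.Quotient.mk _ b) = algebraMap A p.ResidueField (algebraMap B A b) :=
    ⟨Ideal.Quotient.lift _ ((algebraMap A p.ResidueField).comp (algebraMap B A)) hφ0,
      fun b => Ideal.Quotient.lift_mk _ _ _⟩
  have hθbij : Function.Bijective θ := by
    refine ⟨RingHom.injective θ, ?_⟩
    intro y
    obtain ⟨b, hb⟩ := hres y
    exact ⟨Ideal.Quotient.mk _ b, by rw [hθ]; exact hb⟩
  obtain ⟨e, he⟩ : ∃ e : B ⧸ IsLocalRing.maximalIdeal B ≃+* p.ResidueField, ∀ x, e x = θ x :=
    ⟨RingEquiv.ofBijective θ hθbij, fun x => rfl⟩
  obtain ⟨q, hq⟩ : ∃ q : B ⧸ IsLocalRing.maximalIdeal B →+*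
      AdicCompletion (IsLocalRing.maximalIdeal B) B ⧸ (IsLocalRing.maximalIdeal B).map
        (algebraMap B (AdicCompletion (IsLocalRing.maximalIdeal B) B)),
      ∀ b, q (Ideal.Quotient.mk _ b) = Ideal.Quotient.mk _
        (algebraMap B (AdicCompletion (IsLocalRing.maximalIdeal B) B) b) :=
    ⟨Ideal.quotientMap _ (algebraMap B (AdicCompletion (IsLocalRing.maximalIdeal B) B))
      Ideal.le_comap_map, fun b => Ideal.quotientMap_mk⟩
  have hqinj : Function.Injective q := RingHom.injective q
  have hres1 : ∀ b : B, IsLocalRing.residue (Localization.AtPrime p)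
      (algebraMap B (Localization.AtPrime p) b) = e (Ideal.Quotient.mk _ b) := by
    intro b
    rw [he, hθ, IsScalarTower.algebraMap_apply B A (Localization.AtPrime p),
      IsScalarTower.algebraMap_apply A (Localization.AtPrime p) p.ResidueField]
    rfl
  have hcomm : ∀ b : B, (q.comp (e.symm.toRingHom.comp
      (IsLocalRing.residue (Localization.AtPrime p)))) (algebraMap B (Localization.AtPrime p) b) =
      algebraMap B (AdicCompletion (IsLocalRing.maximalIdeal B) B ⧸
        (IsLocalRing.maximalIdeal B).map
          (algebraMap B (AdicCompletion (IsLocalRing.maximalIdeal B) B))) b := by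
    intro b
    show q (e.symm (IsLocalRing.residue (Localization.AtPrime p)
      (algebraMap B (Localization.AtPrime p) b))) = _
    rw [hres1, RingEquiv.symm_apply_apply, hq]
    rfl
  obtain ⟨g, hg⟩ : ∃ g : Localization.AtPrime p →ₐ[B]
      (AdicCompletion (IsLocalRing.maximalIdeal B) B ⧸ (IsLocalRing.maximalIdeal B).map
        (algebraMap B (AdicCompletion (IsLocalRing.maximalIdeal B) B))),
      ∀ w, g w = q (e.symm (IsLocalRing.residue (Localization.AtPrime p) w)) :=
    ⟨AlgHom.mk (q.comp (e.symm.toRingHom.comp
      (IsLocalRing.residue (Localization.AtPrime p)))) hcomm, fun w => rfl⟩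
  obtain ⟨f, hf⟩ := Algebra.FormallySmooth.exists_mkₐ_comp_eq_of_isAdicComplete
    (I := (IsLocalRing.maximalIdeal B).map
      (algebraMap B (AdicCompletion (IsLocalRing.maximalIdeal B) B))) g
  have hψB : (f.toRingHom.comp (algebraMap A (Localization.AtPrime p))).comp (algebraMap B A) =
      algebraMap B (AdicCompletion (IsLocalRing.maximalIdeal B) B) := by
    refine RingHom.ext fun b => ?_
    show f (algebraMap A (Localization.AtPrime p) (algebraMap B A b)) = _
    rw [← IsScalarTower.algebraMap_apply B A (Localization.AtPrime p), f.commutes]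
  have hinj : Function.Injective (algebraMap B (AdicCompletion (IsLocalRing.maximalIdeal B) B)) := by
    intro a b hab
    rw [AdicCompletion.algebraMap_apply, AdicCompletion.algebraMap_apply] at hab
    exact AdicCompletion.of_inj.mp hab
  refine ⟨AdicCompletion (IsLocalRing.maximalIdeal B) B, inferInstance, hdom, hdvr,
    f.toRingHom.comp (algebraMap A (Localization.AtPrime p)), ?_, ?_, ?_, ?_⟩
  · ext x
    rw [Ideal.mem_comap, hmax, ← Ideal.Quotient.eq_zero_iff_mem]
    have h1 : Ideal.Quotient.mk _ ((f.toRingHom.comp (algebraMap A (Localization.AtPrime p))) x) =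
        g (algebraMap A (Localization.AtPrime p) x) :=
      AlgHom.congr_fun hf (algebraMap A (Localization.AtPrime p) x)
    rw [h1, hg, map_eq_zero_iff q hqinj, map_eq_zero_iff e.symm e.symm.injective,
      IsLocalRing.residue_eq_zero_iff]
    exact IsLocalization.AtPrime.to_map_mem_maximal_iff (Localization.AtPrime p) p x
  · rw [hψB]
    exact hinj
  · rw [hψB, hmax]
  · rw [hψB]
    intro y
    obtain ⟨c, rfl⟩ := IsLocalRing.residue_surjective y
    obtain ⟨a, ha⟩ := Groth.Agent.S19474.exists_sub_mem B (IsLocalRing.maximalIdeal B) c
    refine ⟨a, ?_⟩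
    show IsLocalRing.residue _ (algebraMap B _ a) = IsLocalRing.residue _ c
    symm
    rw [← sub_eq_zero, ← map_sub, IsLocalRing.residue_eq_zero_iff, hmax]
    exact ha

end Groth.Agent.S17023
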