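import Groth.Statements.S1704
import Mathlib
import Groth.Agent.Lead.QCoh
-- import your own Groth.Agent.* helpers here

set_option autoImplicit false
universe u
open CategoryTheory CategoryTheory.Limits AlgebraicGeometry TopologicalSpace
open SDiv

namespace Groth.Agent.S1704

/-- Let X be a locally Noetherian scheme and F a quasi-coherent module. Then F is zero if and only if F
has no associated point. -/
theorem result (X : Scheme.{u}) [IsLocallyNoetherian X] (F : X.Modules) (hF : Coh.IsQCoh F) :
    IsZero F ↔ ∀ x : ↥X, ¬ Curv2.IsAssPoint F x := by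
  have : F.IsQuasicoherent := hF
  constructor
  · intro hz x hass
    haveI := Groth.Agent.Lead.QCoh.subsingleton_stalk_of_isZero F hz x
    exact not_isAssociatedPrime_of_subsingleton hass
  · intro h
    by_contra hnz
    have : ∃ x : X, ¬ Subsingleton (F.presheaf.stalk x) := by
      by_contra hcon
      push_neg at hcon
      exact hnz (Groth.Agent.Lead.QCoh.isZero_of_subsingleton_stalk F hcon)
    obtain ⟨x, hx⟩ := this
    obtain ⟨y, t, ht⟩ := Groth.Agent.Lead.QCoh.exists_radical_annihilator_eq_maximalIdeal F x hx
    refine h y ?_
    show (⊥ : Submodule (X.presheaf.stalk y) (F.presheaf.stalk y)).IsAssociatedPrime _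
    rw [Submodule.isAssociatedPrime_def]
    refine ⟨(IsLocalRing.maximalIdeal.isMaximal _).isPrime, t, ?_⟩
    symm
    apply ht
    intro α
    rw [Submodule.mem_colon_singleton, Submodule.mem_bot]

end Groth.Agent.S1704
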