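import Groth.Statements.S1705
import Mathlib
import Groth.Agent.Lead.QCoh
-- import your own Groth.Agent.* helpers here

set_option autoImplicit false
universe u
open CategoryTheory CategoryTheory.Limits AlgebraicGeometry TopologicalSpace
open SDiv

namespace Groth.Agent.S1705

/-- Let X be a locally Noetherian scheme, F a quasi-coherent module and U an open subset containing
every associated point of F. Then the restriction map Γ(X, F) → Γ(U, F) is injective. -/
theorem result (X : Scheme.{u}) [IsLocallyNoetherian X] (F : X.Modules) (hF : Coh.IsQCoh F)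
    (U : X.Opens) (hU : ∀ x : ↥X, Curv2.IsAssPoint F x → x ∈ U) :
    Function.Injective (F.presheaf.map (homOfLE (le_top : U ≤ ⊤)).op) := by
  have : F.IsQuasicoherent := hF
  rw [injective_iff_map_eq_zero]
  intro s hs
  by_contra hne
  have hex : ∃ x : X, F.presheaf.germ ⊤ x trivial s ≠ 0 := by
    by_contra hcon
    push_neg at hcon
    apply hne
    apply TopCat.Presheaf.section_ext ((SheafOfModules.toSheaf _).obj F) ⊤
    intro x hx
    exact (hcon x).trans (map_zero _).symm
  obtain ⟨x, hx⟩ := hex
  obtain ⟨_, ⟨V, hV, rfl⟩, hxV, -⟩ :=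
    X.isBasis_affineOpens.exists_subset_of_mem_open (Set.mem_univ x) isOpen_univ
  have hV' : IsAffineOpen V := hV
  let m := F.presheaf.map (homOfLE (le_top : V ≤ ⊤)).op s
  have hgm : ∀ (y : X) (hy : y ∈ V), F.presheaf.germ V y hy m = F.presheaf.germ ⊤ y trivial s :=
    fun y hy => TopCat.Presheaf.germ_res_apply F.presheaf (homOfLE (le_top : V ≤ ⊤)) y hy s
  obtain ⟨y, hyV, -, hN⟩ := Groth.Agent.Lead.QCoh.exists_weakAss_germ F hV' m x hxV
    (by rw [hgm]; exact hx)
  have hker : ∀ α : X.presheaf.stalk y, α ∈ (⊥ : Submodule (X.presheaf.stalk y)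
      (F.presheaf.stalk y)).colon {F.presheaf.germ V y hyV m} ↔
      α • F.presheaf.germ V y hyV m = 0 := fun α => by
    rw [Submodule.mem_colon_singleton, Submodule.mem_bot]
  have h1 := hN _ hker
  have hyass : Curv2.IsAssPoint F y := by
    show (⊥ : Submodule (X.presheaf.stalk y) (F.presheaf.stalk y)).IsAssociatedPrime _
    rw [Submodule.isAssociatedPrime_def]
    exact ⟨(IsLocalRing.maximalIdeal.isMaximal _).isPrime, _, h1.symm⟩
  have hyU : y ∈ U := hU y hyass
  have h0 : F.presheaf.germ V y hyV m = 0 := by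
    rw [hgm, ← TopCat.Presheaf.germ_res_apply F.presheaf (homOfLE (le_top : U ≤ ⊤)) y hyU s, hs,
      map_zero]
  have h2 : (1 : X.presheaf.stalk y) ∈ Ideal.radical ((⊥ : Submodule (X.presheaf.stalk y)
      (F.presheaf.stalk y)).colon {F.presheaf.germ V y hyV m}) :=
    Ideal.le_radical (by rw [hker, h0, smul_zero])
  rw [h1] at h2
  exact (IsLocalRing.maximalIdeal.isMaximal _).ne_top ((Ideal.eq_top_iff_one _).mpr h2)

end Groth.Agent.S1705
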