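import Groth.Statements.S17065
import Mathlib.RingTheory.Ideal.IdempotentFG

set_option autoImplicit false
universe u
open CAlg

namespace Groth.Agent.S17065

/-- The local algebraic statement its proof establishes: let A be a Noetherian ring, I ≤ J radical
ideals and Â the J-adic completion of A. If J^n Â ⊆ I Â for some n, then the closed set V(J) is open
inside V(I) ⊆ Spec A. (Globally: if X₂ ⊆ X₁ are the completions of a locally Noetherian scheme along
nested closed subsets Z₂ ⊆ Z₁ and the ideal of Z₁ generates an ideal of definition of X₂, then X₂ is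
a union of connected components of X₁.) -/
theorem result (A : Type u) [CommRing A] [IsNoetherianRing A]
    (I J : Ideal A) (hIJ : I ≤ J) (hI : I.IsRadical) (hJ : J.IsRadical) (n : ℕ)
    (h : (J ^ n).map (algebraMap A (AdicCompletion J A)) ≤ I.map (algebraMap A (AdicCompletion J A))) :
    IsOpen ((fun x : PrimeSpectrum.zeroLocus (I : Set A) => (x : PrimeSpectrum A)) ⁻¹'
      PrimeSpectrum.zeroLocus (J : Set A)) := by
  classical
  -- Step 1: `J ^ n ≤ I ⊔ J ^ m` for every `m`
  have h1 : ∀ m : ℕ, J ^ n ≤ I ⊔ J ^ m := by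
    intro m x hx
    have hx' : algebraMap A (AdicCompletion J A) x ∈ I.map (algebraMap A (AdicCompletion J A)) :=
      h (Ideal.mem_map_of_mem _ hx)
    have h2 := Ideal.mem_map_of_mem (AdicCompletion.evalₐ J m : AdicCompletion J A →+* A ⧸ J ^ m) hx'
    rw [Ideal.map_map] at h2
    have hcomp : ((AdicCompletion.evalₐ J m : AdicCompletion J A →+* A ⧸ J ^ m).comp
        (algebraMap A (AdicCompletion J A))) = Ideal.Quotient.mk (J ^ m) := by
      ext a
      simp
    have hval : (AdicCompletion.evalₐ J m : AdicCompletion J A →+* A ⧸ J ^ m)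
        (algebraMap A (AdicCompletion J A) x) = Ideal.Quotient.mk (J ^ m) x := by
      simp
    rw [hcomp, hval, Ideal.mem_quotient_iff_mem_sup] at h2
    exact h2
  -- Step 2: idempotent generator modulo `I`
  obtain ⟨K, hK⟩ : ∃ K : Ideal (A ⧸ I), K = (J ^ n).map (Ideal.Quotient.mk I) := ⟨_, rfl⟩
  have hKidem : IsIdempotentElem K := by
    apply le_antisymm
    · exact Ideal.mul_le_right
    · rw [hK, ← Ideal.map_mul, ← pow_add]
      intro y hy
      obtain ⟨x, hx, rfl⟩ := (Ideal.mem_map_iff_of_surjective _ Ideal.Quotient.mk_surjective).1 hy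
      obtain ⟨i, hi, z, hz, rfl⟩ := Submodule.mem_sup.1 (h1 (n + n) hx)
      rw [map_add, Ideal.Quotient.eq_zero_iff_mem.2 hi, zero_add]
      exact Ideal.mem_map_of_mem _ hz
  obtain ⟨ebar, hebar, hKe⟩ :=
    (Ideal.isIdempotentElem_iff_of_fg K (by rw [hK]; exact ((isNoetherianRing_iff_ideal_fg A).1 inferInstance _).map _)).1 hKidem
  obtain ⟨e, rfl⟩ := Ideal.Quotient.mk_surjective ebar
  -- Step 3
  have hset : ((fun x : PrimeSpectrum.zeroLocus (I : Set A) => (x : PrimeSpectrum A)) ⁻¹'
      PrimeSpectrum.zeroLocus (J : Set A)) =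
      (fun x : PrimeSpectrum.zeroLocus (I : Set A) => (x : PrimeSpectrum A)) ⁻¹'
        (PrimeSpectrum.basicOpen (1 - e) : Set (PrimeSpectrum A)) := by
    ext ⟨p, hp⟩
    have hIp : I ≤ p.asIdeal := (PrimeSpectrum.mem_zeroLocus _ _).1 hp
    simp only [Set.mem_preimage, PrimeSpectrum.mem_zeroLocus, SetLike.coe_subset_coe,
      SetLike.mem_coe, PrimeSpectrum.mem_basicOpen]
    constructor
    · intro hJp h1e
      have he : e ∈ J ^ n ⊔ I := by
        rw [← Ideal.mem_quotient_iff_mem_sup, ← hK, hKe]
        exact Ideal.subset_span rfl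
      have hep : e ∈ p.asIdeal := by
        have h3 : J ^ n ⊔ I ≤ p.asIdeal := by
          refine sup_le ((h1 1).trans ?_) hIp
          rw [pow_one]
          exact sup_le hIp hJp
        exact h3 he
      have : (1 : A) ∈ p.asIdeal := by
        have := p.asIdeal.add_mem h1e hep
        simpa using this
      exact p.2.ne_top ((Ideal.eq_top_iff_one _).2 this)
    · intro h1e
      have hprod : e * (1 - e) ∈ I := by
        rw [← Ideal.Quotient.eq_zero_iff_mem, map_mul, map_sub, map_one, mul_sub, mul_one,
          hebar.eq, sub_self]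
      have hep : e ∈ p.asIdeal := (p.2.mem_or_mem (hIp hprod)).resolve_right h1e
      have hJn : J ^ n ≤ p.asIdeal := by
        intro x hx
        have hxK : Ideal.Quotient.mk I x ∈ K := by rw [hK]; exact Ideal.mem_map_of_mem _ hx
        rw [hKe, Ideal.mem_span_singleton'] at hxK
        obtain ⟨bbar, hb⟩ := hxK
        obtain ⟨b, rfl⟩ := Ideal.Quotient.mk_surjective bbar
        rw [← map_mul, Ideal.Quotient.eq] at hb
        have : x = b * e - (b * e - x) := by ring
        rw [this]
        exact p.asIdeal.sub_mem (p.asIdeal.mul_mem_left _ hep) (hIp hb)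
      exact Ideal.IsPrime.le_of_pow_le hJn
  rw [hset]
  exact (PrimeSpectrum.basicOpen (1 - e)).isOpen.preimage continuous_subtype_val

end Groth.Agent.S17065
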