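import Groth.Statements.S1707
import Mathlib
import Groth.Agent.Lead.QCoh
-- import your own Groth.Agent.* helpers here

set_option autoImplicit false
universe u
open CategoryTheory CategoryTheory.Limits AlgebraicGeometry TopologicalSpace
open SDiv

namespace Groth.Agent.S1707

/-- Let X be a scheme, F a quasi-coherent module and x a point of the support of F such that no other
point of the support specializes to x. Then x is weakly associated to F. -/
theorem result (X : Scheme.{u}) (F : X.Modules) (hF : Coh.IsQCoh F) (x : ↥X)
    (hx : x ∈ CohB1.support F) (hmax : ∀ y : ↥X, y ∈ CohB1.support F → y ⤳ x → y = x) : Curv2.IsWeakAssPoint F x := by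
  have : F.IsQuasicoherent := hF
  have hne : ¬ Subsingleton (F.presheaf.stalk x) := hx
  rw [not_subsingleton_iff_nontrivial] at hne
  obtain ⟨m, hm⟩ := exists_ne (0 : F.presheaf.stalk x)
  refine ⟨m, ?_⟩
  apply Groth.Agent.Lead.QCoh.radical_annihilator_eq_maximalIdeal F x
    (fun y hy hyx => hmax y hy hyx) m hm
  intro s
  rw [LinearMap.mem_ker, LinearMap.toSpanSingleton_apply]

end Groth.Agent.S1707
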