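import Groth.Statements.S17075
import Mathlib.AlgebraicGeometry.PullbackCarrier

set_option autoImplicit false
universe u
open CategoryTheory CategoryTheory.Limits AlgebraicGeometry
open MorSch

namespace Groth.Agent.S17075

/-- Let g : X → S be a proper morphism, i : V → X a closed immersion and j : U → X an open immersion.
Then there is an open subset S₀ of S such that, for every scheme S' and every morphism f : S' → S,
the image of f lies in S₀ if and only if the base change V ×_S S' → X ×_S S' of i factors through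
the open subscheme U ×_S S', equivalently the composite V ×_S S' → V → X has image contained in the
image of j. -/
theorem result
    {V X U S : Scheme.{u}} (g : X ⟶ S) [IsProper g] (i : V ⟶ X) [IsClosedImmersion i]
    (j : U ⟶ X) [IsOpenImmersion j] :
    ∃ S₀ : S.Opens, ∀ (S' : Scheme.{u}) (f : S' ⟶ S),
      Set.range f ⊆ (S₀ : Set S) ↔
        Set.range (pullback.fst (i ≫ g) f ≫ i) ⊆ Set.range j := by
  have hZ : IsClosed (Set.range i \ Set.range j) :=
    i.isClosedEmbedding.isClosed_range.sdiff j.isOpenEmbedding.isOpen_range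
  have hgZ : IsClosed (g '' (Set.range i \ Set.range j)) := g.isClosedMap _ hZ
  refine ⟨⟨(g '' (Set.range i \ Set.range j))ᶜ, hgZ.isOpen_compl⟩, fun S' f => ?_⟩
  constructor
  · rintro h _ ⟨w, rfl⟩
    by_contra hx
    have hmem : g ((pullback.fst (i ≫ g) f ≫ i) w) ∈ g '' (Set.range i \ Set.range j) :=
      ⟨_, ⟨⟨pullback.fst (i ≫ g) f w, by rw [Scheme.Hom.comp_apply]⟩, hx⟩, rfl⟩
    have hf : g ((pullback.fst (i ≫ g) f ≫ i) w) = f (pullback.snd (i ≫ g) f w) := by
      rw [← Scheme.Hom.comp_apply, ← Scheme.Hom.comp_apply, Category.assoc, pullback.condition]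
    rw [hf] at hmem
    exact h ⟨_, rfl⟩ hmem
  · rintro h _ ⟨s', rfl⟩
    rintro ⟨x, ⟨⟨v, rfl⟩, hxj⟩, hx⟩
    have hv : (i ≫ g) v = f s' := by rw [Scheme.Hom.comp_apply]; exact hx
    obtain ⟨w, hw₁, hw₂⟩ := Scheme.Pullback.exists_preimage_pullback v s' hv
    apply hxj
    apply h
    exact ⟨w, by rw [Scheme.Hom.comp_apply, hw₁]⟩

end Groth.Agent.S17075
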