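import Groth.Statements.S17077
import Mathlib
-- import your own Groth.Agent.* helpers here

set_option autoImplicit false
universe u
open RatCurve

namespace Groth.Agent.S17077


open MvPolynomial

theorem L1 {k : Type u} [Field k] (a : Fin 2 → k) (L : MvPolynomial (Fin 2) k)
    (F : MvPolynomial (Fin 2) k) (d : ℕ) (hF : F.IsHomogeneous d) :
    aeval (fun i => C (a i) * L) F = C (eval a F) * L ^ d := by
  rw [aeval_def, eval₂_eq', eval_eq', map_sum, Finset.sum_mul]
  apply Finset.sum_congr rfl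
  intro m hm
  have hd : m 0 + m 1 = d := by
    have h1 := hF.degree_eq_sum_deg_support hm
    rw [h1]
    have : ∑ i ∈ m.support, m i = ∑ i, m i :=
      Finset.sum_subset (Finset.subset_univ _) (fun i _ hi => Finsupp.notMem_support_iff.mp hi)
    rw [this, Fin.sum_univ_two]
  rw [Fin.prod_univ_two, Fin.prod_univ_two, ← hd, algebraMap_eq]
  simp only [map_mul, map_pow, mul_pow, pow_add]
  ring

theorem dvd_of_eval {k : Type u} [Field k] (a : Fin 2 → k) (ha : a ≠ 0)
    (F : MvPolynomial (Fin 2) k) (d : ℕ) (hF : F.IsHomogeneous d) (h0 : eval a F = 0) :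
    (C (a 1) * X 0 - C (a 0) * X 1 : MvPolynomial (Fin 2) k) ∣ F := by
  obtain ⟨u, hu⟩ : ∃ u : Fin 2 → k, u 0 * a 0 + u 1 * a 1 = 1 := by
    by_cases h : a 0 = 0
    · have h1 : a 1 ≠ 0 := by
        intro h1; apply ha; funext i; fin_cases i <;> simp [h, h1]
      exact ⟨![0, (a 1)⁻¹], by simp [h1]⟩
    · exact ⟨![(a 0)⁻¹, 0], by simp [h]⟩
  have hu' : (C (u 0) * C (a 0) + C (u 1) * C (a 1) : MvPolynomial (Fin 2) k) = 1 := by
    rw [← C_mul, ← C_mul, ← C_add, hu, C_1]
  let H : MvPolynomial (Fin 2) k := C (a 1) * X 0 - C (a 0) * X 1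
  let L : MvPolynomial (Fin 2) k := C (u 0) * X 0 + C (u 1) * X 1
  let τ : MvPolynomial (Fin 2) k →ₐ[k] MvPolynomial (Fin 2) k := aeval (fun i => C (a i) * L)
  have hτF : τ F = 0 := by
    show aeval (fun i => C (a i) * L) F = 0
    rw [L1 a L F d hF, h0, map_zero, zero_mul]
  have key : (Ideal.Quotient.mkₐ k (Ideal.span {H})).comp τ = Ideal.Quotient.mkₐ k (Ideal.span {H}) := by
    apply MvPolynomial.algHom_ext
    intro i
    rw [AlgHom.comp_apply]
    show Ideal.Quotient.mk _ (aeval (fun i => C (a i) * L) (X i)) = Ideal.Quotient.mk _ (X i)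
    rw [aeval_X, Ideal.Quotient.eq, Ideal.mem_span_singleton]
    fin_cases i
    · show ∃ c, C (a 0) * (C (u 0) * X 0 + C (u 1) * X 1) - X 0 = (C (a 1) * X 0 - C (a 0) * X 1) * c
      refine ⟨-C (u 1), ?_⟩
      linear_combination (X 0) * hu'
    · show ∃ c, C (a 1) * (C (u 0) * X 0 + C (u 1) * X 1) - X 1 = (C (a 1) * X 0 - C (a 0) * X 1) * c
      refine ⟨C (u 0), ?_⟩
      linear_combination (X 1) * hu'
  have h3 : Ideal.Quotient.mk (Ideal.span {H}) F = 0 := by
    have := DFunLike.congr_fun key F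
    rw [AlgHom.comp_apply, hτF, map_zero] at this
    exact this.symm
  exact Ideal.mem_span_singleton.mp (Ideal.Quotient.eq_zero_iff_mem.mp h3)

theorem unit_of_no_zero {k : Type u} [Field k] [IsAlgClosed k] (H : MvPolynomial (Fin 2) k)
    (hz : ∀ a : Fin 2 → k, a ≠ 0 → eval a H ≠ 0) : IsUnit H := by
  have hmem : ∀ j : Fin 2, (X j : MvPolynomial (Fin 2) k) ∈ (Ideal.span {H}).radical := by
    intro j
    rw [← vanishingIdeal_zeroLocus_eq_radical (K := k)]
    intro x hx
    have hx0 : x = 0 := by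
      by_contra hne
      apply hz x hne
      have := hx H (Ideal.mem_span_singleton_self H)
      rwa [aeval_eq_eval] at this
    rw [hx0, aeval_X]; rfl
  obtain ⟨N, hN⟩ := hmem 0
  obtain ⟨M, hM⟩ := hmem 1
  rw [Ideal.mem_span_singleton] at hN hM
  obtain ⟨i, -, hi⟩ := (dvd_prime_pow (X_prime (i := (0 : Fin 2))) N).mp hN
  rcases Nat.eq_zero_or_pos i with rfl | hipos
  · rw [pow_zero] at hi; exact associated_one_iff_isUnit.mp hi
  · exfalso
    have h1 : (X 0 : MvPolynomial (Fin 2) k) ∣ H := (dvd_pow_self _ hipos.ne').trans hi.symm.dvd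
    have h2 : (X 0 : MvPolynomial (Fin 2) k) ∣ X 1 ^ M := h1.trans hM
    have h3 : (X 0 : MvPolynomial (Fin 2) k) ∣ X 1 := (X_prime).dvd_of_dvd_pow h2
    obtain ⟨G, hG⟩ := h3
    have := congrArg (eval (![0, 1] : Fin 2 → k)) hG
    simp at this

/-- Let k be an algebraically closed field and F_0, …, F_{n-1} homogeneous polynomials in k[u, v] (of
possibly different degrees). Then the F_i have a common factor which is not a unit if and only if
they have a common zero (a, b) ≠ (0, 0) in k², that is, a common zero in the projective line. -/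
theorem result
    {k : Type u} [Field k] [IsAlgClosed k] {n : ℕ} (F : Fin n → MvPolynomial (Fin 2) k)
    (d : Fin n → ℕ) (hF : ∀ i, (F i).IsHomogeneous (d i)) :
    (∃ H : MvPolynomial (Fin 2) k, ¬ IsUnit H ∧ ∀ i, H ∣ F i) ↔
      ∃ a : Fin 2 → k, a ≠ 0 ∧ ∀ i, MvPolynomial.eval a (F i) = 0 := by
  constructor
  · rintro ⟨H, hHu, hHdvd⟩
    by_contra hcon
    push_neg at hcon
    apply hHu
    apply unit_of_no_zero
    intro a ha h0
    obtain ⟨i, hi⟩ := hcon a ha
    obtain ⟨G, hG⟩ := hHdvd i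
    apply hi
    rw [hG, map_mul, h0, zero_mul]
  · rintro ⟨a, ha, h0⟩
    refine ⟨C (a 1) * X 0 - C (a 0) * X 1, ?_, fun i => dvd_of_eval a ha (F i) (d i) (hF i) (h0 i)⟩
    intro hu
    have h1 : eval a (C (a 1) * X 0 - C (a 0) * X 1 : MvPolynomial (Fin 2) k) = 0 := by
      simp only [map_sub, map_mul, eval_C, eval_X]; ring
    have := hu.map (eval a)
    rw [h1] at this
    exact not_isUnit_zero this

end Groth.Agent.S17077
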