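import Groth.Statements.S17079
import Mathlib
set_option linter.style.haveILetI false

set_option autoImplicit false
universe u
open CategoryTheory CategoryTheory.Limits AlgebraicGeometry
open MorSch

namespace Groth.Agent.S17079

section Aux
open Opposite

variable {X Y S S' : Scheme.{u}} (gX : X ⟶ S) (gY : Y ⟶ S) (h : S' ⟶ S)

noncomputable def phiHom (T' : Over S') :
    pullback T'.hom (pullback.snd gX h) ⟶ pullback (T'.hom ≫ h) gX :=
  pullback.lift (pullback.fst _ _) (pullback.snd _ _ ≫ pullback.fst gX h)
    (by simp [pullback.condition, pullback.condition_assoc])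

noncomputable def phiInv (T' : Over S') :
    pullback (T'.hom ≫ h) gX ⟶ pullback T'.hom (pullback.snd gX h) :=
  pullback.lift (pullback.fst _ _)
    (pullback.lift (pullback.snd _ _) (pullback.fst _ _ ≫ T'.hom)
      (by simp [pullback.condition]))
    (by rw [pullback.lift_snd])

lemma phi_hom_inv (T' : Over S') : phiHom gX h T' ≫ phiInv gX h T' = 𝟙 _ := by
  apply pullback.hom_ext
  · simp [phiHom, phiInv, pullback.lift_fst, pullback.lift_snd]
  · apply pullback.hom_ext
    · simp [phiHom, phiInv, pullback.lift_fst, pullback.lift_snd]
    · simp [phiHom, phiInv, pullback.condition, pullback.lift_fst, pullback.lift_snd,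
        pullback.lift_fst_assoc, pullback.lift_snd_assoc]

lemma phi_inv_hom (T' : Over S') : phiInv gX h T' ≫ phiHom gX h T' = 𝟙 _ := by
  apply pullback.hom_ext <;>
    simp [phiHom, phiInv, pullback.lift_fst, pullback.lift_snd, pullback.lift_fst_assoc,
      pullback.lift_snd_assoc]

noncomputable def phi (T' : Over S') :
    (Over.map h).obj ((Over.map (pullback.snd gX h)).obj
      ((Over.pullback (pullback.snd gX h)).obj T')) ≅
    (Over.map gX).obj ((Over.pullback gX).obj ((Over.map h).obj T')) :=
  Over.isoMk ⟨phiHom gX h T', phiInv gX h T', phi_hom_inv gX h T', phi_inv_hom gX h T'⟩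
    (by simp [phiHom, pullback.condition, pullback.lift_snd_assoc])

lemma phi_nat {T'' T' : Over S'} (f : T'' ⟶ T') :
    (Over.map h).map ((Over.map (pullback.snd gX h)).map
      ((Over.pullback (pullback.snd gX h)).map f)) ≫ (phi gX h T').hom =
    (phi gX h T'').hom ≫ (Over.map gX).map ((Over.pullback gX).map ((Over.map h).map f)) := by
  ext
  simp only [phi, phiHom, Over.comp_left, Over.map_map_left, Over.isoMk_hom_left,
    Over.pullback_map_left]
  apply pullback.hom_ext <;>
    simp [pullback.lift_fst, pullback.lift_snd, pullback.lift_fst_assoc, pullback.lift_snd_assoc]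

end Aux

/-- Let gX : X → S and gY : Y → S be morphisms and suppose the functor Mor_S(X, Y) — sending an S-scheme
T to the set of S-morphisms T ×_S X → Y, with base change as transition maps — is represented by an
S-scheme M. Then for every morphism h : S' → S the functor Mor_{S'}(X ×_S S', Y ×_S S') on
S'-schemes is represented by M ×_S S'. (The published statement assumes X and Y projective over S
with X flat and S, S' locally Noetherian; this row assumes only that the functor is represented by
M. Only the existence of a representing structure on M ×_S S' is asserted, not its compatibility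
with the one on M.) -/
theorem result
    {X Y S S' : Scheme.{u}} (gX : X ⟶ S) (gY : Y ⟶ S) (h : S' ⟶ S)
    (M : Over S) (e : (Flatn.morS gX gY).RepresentableBy M) :
    Nonempty ((Flatn.morS (pullback.snd gX h) (pullback.snd gY h)).RepresentableBy
      (Over.mk (pullback.snd M.hom h))) := by
  refine ⟨{
    homEquiv := fun {T'} =>
      ((Over.mapPullbackAdj h).homEquiv T' M).symm.trans <|
        (e.homEquiv (X := (Over.map h).obj T')).trans <|
          (Iso.homFromEquiv (phi gX h T') (Z := Over.mk gY)).symm.trans <|
            ((Over.mapPullbackAdj h).homEquiv _ (Over.mk gY))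
    homEquiv_comp := ?_ }⟩
  intro T'' T' f g
  change (Over.mapPullbackAdj h).homEquiv _ (Over.mk gY) ((phi gX h T'').hom ≫
      (e.homEquiv (((Over.mapPullbackAdj h).homEquiv T'' M).symm (f ≫ g)) :
        (Over.map gX).obj ((Over.pullback gX).obj ((Over.map h).obj T'')) ⟶ Over.mk gY)) =
    (Over.map (pullback.snd gX h)).map ((Over.pullback (pullback.snd gX h)).map f) ≫
      (Over.mapPullbackAdj h).homEquiv _ (Over.mk gY) ((phi gX h T').hom ≫
        (e.homEquiv (((Over.mapPullbackAdj h).homEquiv T' M).symm g) :
          (Over.map gX).obj ((Over.pullback gX).obj ((Over.map h).obj T')) ⟶ Over.mk gY))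
  rw [Adjunction.homEquiv_naturality_left_symm, e.homEquiv_comp, Flatn.morS_map,
    ← Category.assoc, ← phi_nat, Category.assoc, Adjunction.homEquiv_naturality_left]

end Groth.Agent.S17079
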