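import Groth.Statements.S17084
import Mathlib
set_option linter.style.haveILetI false

set_option autoImplicit false
universe u
open CategoryTheory CategoryTheory.Limits AlgebraicGeometry
open MorSch

namespace Groth.Agent.S17084

/-- Let (X_i)_{i ∈ ι} be a finite family of schemes over S with structure morphisms g_i : X_i → S, let Y
→ S be a scheme over S and T an S-scheme. Then for every family of S-morphisms a_i : T ×_S X_i → Y
there is a unique S-morphism b : T ×_S (∐_i X_i) → Y whose restriction along each T ×_S X_i → T ×_S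
(∐_i X_i) is a_i. In other words the canonical map Mor_S(∐_i X_i, Y) → ∏_i Mor_S(X_i, Y) of functors
on S-schemes is an isomorphism. -/
theorem result
    {S Y : Scheme.{u}} {ι : Type u} [Finite ι] (X : ι → Scheme.{u}) (g : ∀ i, X i ⟶ S)
    (gY : Y ⟶ S) (T : Over S) (a : ∀ i, (Flatn.morS (g i) gY).obj (Opposite.op T)) :
    ∃! b : (Flatn.morS (Sigma.desc g) gY).obj (Opposite.op T),
      ∀ i, pullback.map T.hom (g i) T.hom (Sigma.desc g) (𝟙 T.left) (Sigma.ι X i) (𝟙 S)
          ((Category.comp_id _).trans (Category.id_comp _).symm)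
          ((Category.comp_id _).trans (Sigma.ι_desc g i).symm) ≫ b.left = (a i).left := by
  classical
  let ι' : ∀ i, pullback T.hom (g i) ⟶ pullback T.hom (Sigma.desc g) := fun i =>
    pullback.map T.hom (g i) T.hom (Sigma.desc g) (𝟙 T.left) (Sigma.ι X i) (𝟙 S)
      ((Category.comp_id _).trans (Category.id_comp _).symm)
      ((Category.comp_id _).trans (Sigma.ι_desc g i).symm)
  have hfst : ∀ i, ι' i ≫ pullback.fst T.hom (Sigma.desc g) = pullback.fst T.hom (g i) := by
    intro i
    simp only [ι', pullback.map, pullback.lift_fst, Category.comp_id]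
  have hsnd : ∀ i, ι' i ≫ pullback.snd T.hom (Sigma.desc g) =
      pullback.snd T.hom (g i) ≫ Sigma.ι X i := by
    intro i
    simp only [ι', pullback.map, pullback.lift_snd]
  have hpb : ∀ i, IsPullback (ι' i) (pullback.snd T.hom (g i))
      (pullback.snd T.hom (Sigma.desc g)) (Sigma.ι X i) := by
    intro i
    refine IsPullback.of_right (h₁₂ := pullback.fst T.hom (Sigma.desc g)) (h₂₂ := Sigma.desc g)
      ?_ (hsnd i) (IsPullback.of_hasPullback T.hom (Sigma.desc g))
    rw [hfst, Sigma.ι_desc]
    exact IsPullback.of_hasPullback T.hom (g i)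
  have hc : IsColimit (Cofan.mk (∐ X) (Sigma.ι X)) := coproductIsCoproduct X
  have huniv := (FinitaryExtensive.isVanKampen_finiteCoproducts hc).isUniversal
  obtain ⟨hcol⟩ := huniv (Cofan.mk (pullback T.hom (Sigma.desc g)) ι')
    (Discrete.natTrans fun i => pullback.snd T.hom (g i.as))
    (pullback.snd T.hom (Sigma.desc g))
    (by ext ⟨i⟩; simpa using (hsnd i).symm)
    (NatTrans.Equifibered.of_discrete _) (by rintro ⟨i⟩; exact hpb i)
  have hfac : ∀ i, ι' i ≫ Cofan.IsColimit.desc hcol (fun i => (a i).left) = (a i).left :=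
    fun i => Cofan.IsColimit.fac hcol _ i
  have hw : Cofan.IsColimit.desc hcol (fun i => (a i).left) ≫ gY =
      pullback.snd T.hom (Sigma.desc g) ≫ Sigma.desc g := by
    refine Cofan.IsColimit.hom_ext hcol _ _ fun i => ?_
    change ι' i ≫ _ = ι' i ≫ _
    rw [reassoc_of% (hfac i), reassoc_of% (hsnd i), Sigma.ι_desc]
    exact Over.w (a i)
  refine ⟨(Over.homMk (Cofan.IsColimit.desc hcol (fun i => (a i).left)) hw :
    (Over.map (Sigma.desc g)).obj ((Over.pullback (Sigma.desc g)).obj T) ⟶ Over.mk gY), ?_, ?_⟩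
  · intro i
    exact hfac i
  · intro b' hb'
    apply Over.OverMorphism.ext
    refine Cofan.IsColimit.hom_ext hcol _ _ fun i => ?_
    change ι' i ≫ _ = ι' i ≫ _
    rw [hb' i]
    exact (hfac i).symm

end Groth.Agent.S17084
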