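import Groth.Statements.S17088
import Mathlib
set_option linter.style.haveILetI false

set_option autoImplicit false
universe u
open CategoryTheory CategoryTheory.Limits AlgebraicGeometry
open MorSch

namespace Groth.Agent.S17088

section Aux

theorem ker_comap_of_closedImmersion {A B C : Scheme.{u}} (a : A ⟶ B) (j : B ⟶ C) [Mono j]
    (c : A ⟶ C) [IsClosedImmersion c] (hc : a ≫ j = c) : a.ker = c.ker.comap j := by
  have hw : a ≫ j = c.toImage ≫ c.ker.subschemeι := hc.trans c.toImage_imageι.symm
  have hθ1 : pullback.lift a c.toImage hw ≫ pullback.fst j c.ker.subschemeι = a :=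
    pullback.lift_fst _ _ _
  have hθ2 : pullback.lift a c.toImage hw ≫ pullback.snd j c.ker.subschemeι = c.toImage :=
    pullback.lift_snd _ _ _
  haveI : IsIso (pullback.lift a c.toImage hw) := by
    refine ⟨pullback.snd j c.ker.subschemeι ≫ inv c.toImage, ?_, ?_⟩
    · rw [reassoc_of% hθ2, IsIso.hom_inv_id]
    · apply pullback.hom_ext
      · rw [Category.assoc, Category.assoc, hθ1, Category.id_comp, ← cancel_mono j,
          Category.assoc, Category.assoc, hw, IsIso.inv_hom_id_assoc, pullback.condition]
      · rw [Category.assoc, Category.assoc, hθ2, IsIso.inv_hom_id, Category.comp_id,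
          Category.id_comp]
  calc a.ker = (pullback.lift a c.toImage hw ≫ pullback.fst j c.ker.subschemeι).ker := by
        rw [hθ1]
    _ = (pullback.fst j c.ker.subschemeι).ker := Scheme.Hom.ker_comp_of_isIso _ _
    _ = c.ker.comap j := rfl

end Aux

/-- Let f : X → S be a separated morphism, ι : W → X an immersion and T an S-scheme. For every closed
subscheme V of W ×_S T which is proper and flat over T — a T-point of the Hilbert functor of W over
S — the composite V → W ×_S T → X ×_S T is a closed immersion, and the map sending V to the ideal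
sheaf of this composite, from T-points of the Hilbert functor of W to ideal sheaves on X ×_S T, is
injective: an immersion induces a monomorphism of Hilbert functors. -/
theorem result
    {W X S : Scheme.{u}} (f : X ⟶ S) [IsSeparated f] (ι : W ⟶ X) [IsImmersion ι]
    (T : Over S) :
    (∀ V : FGA.HilbSet (ι ≫ f) T,
      IsClosedImmersion (V.1.subschemeι ≫ pullback.map (ι ≫ f) T.hom f T.hom ι (𝟙 T.left) (𝟙 S)
          (Category.comp_id _) ((Category.comp_id _).trans (Category.id_comp _).symm))) ∧
    Function.Injective (fun V : FGA.HilbSet (ι ≫ f) T =>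
      (V.1.subschemeι ≫ pullback.map (ι ≫ f) T.hom f T.hom ι (𝟙 T.left) (𝟙 S)
          (Category.comp_id _) ((Category.comp_id _).trans (Category.id_comp _).symm)).ker) := by
  have hjdef : ∃ j : pullback (ι ≫ f) T.hom ⟶ pullback f T.hom,
      j = pullback.map (ι ≫ f) T.hom f T.hom ι (𝟙 T.left) (𝟙 S)
          (Category.comp_id _) ((Category.comp_id _).trans (Category.id_comp _).symm) := ⟨_, rfl⟩
  obtain ⟨j, hj⟩ := hjdef
  rw [← hj]
  haveI : IsImmersion j := by
    rw [hj]
    exact MorphismProperty.pullbackMap (P := @IsImmersion) (inferInstance : IsImmersion ι)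
      (inferInstance : IsImmersion (𝟙 T.left)) rfl (Category.id_comp _).symm
  have hjsnd : j ≫ pullback.snd f T.hom = pullback.snd (ι ≫ f) T.hom := by
    rw [hj]
    simp [pullback.map, pullback.lift_snd]
  have hci : ∀ V : FGA.HilbSet (ι ≫ f) T, IsClosedImmersion (V.1.subschemeι ≫ j) := by
    intro V
    haveI : IsProper ((V.1.subschemeι ≫ j) ≫ pullback.snd f T.hom) := by
      rw [Category.assoc, hjsnd]; exact V.2.1
    haveI : IsProper (V.1.subschemeι ≫ j) :=
      IsProper.of_comp (V.1.subschemeι ≫ j) (pullback.snd f T.hom)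
    exact (IsClosedImmersion.iff_isProper_and_mono _).mpr ⟨inferInstance, inferInstance⟩
  refine ⟨hci, ?_⟩
  have key : ∀ V : FGA.HilbSet (ι ≫ f) T, V.1 = (V.1.subschemeι ≫ j).ker.comap j := by
    intro V
    haveI := hci V
    have := ker_comap_of_closedImmersion V.1.subschemeι j (V.1.subschemeι ≫ j) rfl
    rwa [V.1.ker_subschemeι] at this
  intro V V' hVV'
  have hVV'' : (V.1.subschemeι ≫ j).ker = (V'.1.subschemeι ≫ j).ker := hVV'
  apply Subtype.ext
  rw [key V, key V', hVV'']

end Groth.Agent.S17088
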