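import Groth.Statements.S1717
import Groth.Agent.H29.MinPrimeDim
import Groth.Agent.H29.DepthLocal
import Groth.Agent.H29.ReducedR0S1

set_option autoImplicit false
universe u
open LocCoh

namespace Groth.Agent.S1717

/-- Let A be a catenary Noetherian local ring satisfying Serre's condition (S_2). Then Spec A is
equidimensional: for every minimal prime p of A the dimension of A/p equals the dimension of A. -/
theorem result (A : Type u) [CommRing A] [IsLocalRing A] [IsNoetherianRing A] (hc : CAlg.IsCatenary A) (hS : LocCoh.HasSk 2 A A) (p : Ideal A) (hp : p ∈ minimalPrimes A) : ringKrullDim (A ⧸ p) = ringKrullDim A := by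
  refine Groth.Agent.H29.ringKrullDim_quotient_eq_of_depth A hc (fun q hq hht => ?_) p hp
  have h1 := hS q
  rw [Groth.Agent.H29.supportDim_localizedModule_self, Groth.Agent.H29.depth_localizedModule_self,
    IsLocalization.AtPrime.ringKrullDim_eq_height q] at h1
  have h2 : ((2 : ℕ∞) : WithBot ℕ∞) ≤ ((q.height : ℕ∞) : WithBot ℕ∞) := by exact_mod_cast hht
  have h3 : min ((2 : ℕ) : WithBot ℕ∞) ((q.height : ℕ∞) : WithBot ℕ∞) = ((2 : ℕ∞) : WithBot ℕ∞) := by
    rw [min_eq_left]
    · rfl
    · exact h2
  rw [h3] at h1
  exact_mod_cast h1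

end Groth.Agent.S1717
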