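import Groth.Statements.S17174
import Mathlib
import Groth.Agent.Lib.Helper7.BI4
import Groth.Agent.Lib.Helper7.PhiStab1
-- import your own Groth.Agent.* helpers here

set_option autoImplicit false
universe u
open LabGraph

namespace Groth.Agent.S17174


open Groth.Agent.Helper7.BI


open LabGraph in
/-- Let Γ be the weighted dual graph of a Deligne–Mumford semistable curve X of genus g ≥ 3 over an
algebraically closed field (connected; every weight-zero vertex without loop is joined to the other
vertices by at least two edges), and let d, d' be two multidegrees of the same (arbitrary) total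
degree D (g ≥ 3 being the paper's standing assumption) which both satisfy the Basic Inequality and
lie in the same degree class (d - d' is a twist). Then d - d' can be written in normal form: there
is a labelling h of the vertices by natural numbers taking exactly the values 0, 1, …, q, with d -
d' equal to the twist of h (that is, d - d' = Σ_v h(v)·c_v with c_v the multidegree of O(C_v)), such
that for distinct levels i ≠ j in {0, …, q} the subcurves on h⁻¹(i) and h⁻¹(j) meet (some edge joins
the two levels) exactly when |i - j| = 1. -/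
theorem result {V E : Type u} [Fintype V] [Fintype E]
    [DecidableEq V] [DecidableEq E] (ends : E → V × V) (w : V → ℕ) (hX : IsSemistableGraph ends w)
    (hg : 3 ≤ genus ends w) (d d' : V → ℤ)
    (hBI : SatisfiesBI ends w d) (hBI' : SatisfiesBI ends w d') (heq : TwistEquiv ends d d') :
    ∃ (q : ℕ) (h : V → ℕ), (∀ v : V, h v ≤ q) ∧ (∀ i : ℕ, i ≤ q → ∃ v : V, h v = i) ∧
      (∀ v : V, d v - d' v = twist ends (fun u => (h u : ℤ)) v) ∧
      (∀ i j : ℕ, i ≤ q → j ≤ q → i ≠ j →
        ((∃ e : E, (h (ends e).1 = i ∧ h (ends e).2 = j) ∨ (h (ends e).1 = j ∧ h (ends e).2 = i)) ↔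
          (i + 1 = j ∨ j + 1 = i))) := by
  classical
  obtain ⟨φ₀, hφ₀⟩ := heq
  have hconn := hX.1
  haveI : Nonempty V := hconn.1
  have hK : 0 < canDeg ends w Finset.univ := by rw [canDeg_univ]; linarith
  obtain ⟨v₀, -, hv₀⟩ := Finset.exists_min_image Finset.univ φ₀ Finset.univ_nonempty
  obtain ⟨h, hh⟩ : ∃ h : V → ℕ, ∀ v, (h v : ℤ) = φ₀ v - φ₀ v₀ :=
    ⟨fun v => (φ₀ v - φ₀ v₀).toNat,
      fun v => Int.toNat_of_nonneg (sub_nonneg.2 (hv₀ v (Finset.mem_univ v)))⟩
  have hh0 : h v₀ = 0 := by
    have := hh v₀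
    rw [sub_self] at this
    exact_mod_cast this
  have htw : ∀ v, twist ends (fun u => (h u : ℤ)) v = twist ends φ₀ v := by
    intro v
    have : (fun u => (h u : ℤ)) = fun u => φ₀ u - φ₀ v₀ := funext hh
    rw [this]
    unfold LabGraph.twist
    refine Finset.sum_congr rfl fun e _ => ?_
    congr 1 <;> split_ifs <;> ring
  have hdd : ∀ v, d v - d' v = twist ends (fun u => (h u : ℤ)) v := fun v => by
    rw [htw, hφ₀]
  have hD : ∑ v, d v = ∑ v, d' v := by
    have h1 : ∑ v, (d v - d' v) = 0 := by
      rw [Finset.sum_congr rfl (fun v _ => hdd v)]; exact sum_twist_univ ends _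
    rw [Finset.sum_sub_distrib] at h1; linarith
  have hlip : ∀ e : E, h (ends e).1 ≤ h (ends e).2 + 1 ∧ h (ends e).2 ≤ h (ends e).1 + 1 :=
    fun e => lip_of_level ends h e (fun t => level_eq ends w hK d d' hD hBI hBI' h hdd t e)
  obtain ⟨v₁, -, hv₁⟩ := Finset.exists_max_image Finset.univ h Finset.univ_nonempty
  have hmax : ∀ v, h v ≤ h v₁ := fun v => hv₁ v (Finset.mem_univ v)
  have hclos : ∀ i : ℕ, i + 1 ≤ h v₁ → ∃ e : E,
      (h (ends e).1 = i ∧ h (ends e).2 = i + 1) ∨ (h (ends e).1 = i + 1 ∧ h (ends e).2 = i) := by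
    intro i hi
    by_contra hno
    have hA : (Finset.univ.filter (fun v => i + 1 ≤ h v)) = Finset.univ := by
      apply Groth.Agent.Helper7.PhiS.closed_univ_of_connected ends hconn
        ⟨v₁, Finset.mem_filter.2 ⟨Finset.mem_univ _, hi⟩⟩
      intro e
      simp only [Finset.mem_filter, Finset.mem_univ, true_and]
      have l := hlip e
      constructor
      · intro h1
        by_contra h2
        exact hno ⟨e, Or.inr ⟨by omega, by omega⟩⟩
      · intro h1
        by_contra h2
        exact hno ⟨e, Or.inl ⟨by omega, by omega⟩⟩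
    have hm : v₀ ∈ Finset.univ.filter (fun v => i + 1 ≤ h v) := by
      rw [hA]; exact Finset.mem_univ _
    rw [Finset.mem_filter] at hm
    omega
  refine ⟨h v₁, h, hmax, ?_, hdd, ?_⟩
  · intro i hi
    rcases Nat.eq_zero_or_pos i with rfl | hpos
    · exact ⟨v₀, hh0⟩
    · obtain ⟨e, he⟩ := hclos (i - 1) (by omega)
      rcases he with ⟨_, h2⟩ | ⟨h1, _⟩
      · exact ⟨(ends e).2, by omega⟩
      · exact ⟨(ends e).1, by omega⟩
  · intro i j hi hj hij
    constructor
    · rintro ⟨e, he⟩
      have l := hlip e
      rcases he with ⟨h1, h2⟩ | ⟨h1, h2⟩ <;> omega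
    · rintro (hc | hc)
      · obtain ⟨e, he⟩ := hclos i (by omega)
        subst hc
        exact ⟨e, he⟩
      · obtain ⟨e, he⟩ := hclos j (by omega)
        subst hc
        exact ⟨e, he.symm⟩

end Groth.Agent.S17174
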