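import Groth.Statements.S17176
import Mathlib.Tactic

set_option autoImplicit false
open Curves

namespace Groth.Agent.S17176

/-- Fix integers g ≥ 3 and d. For a complete subcurve Y of arithmetic genus g_Y of a nodal curve of
genus g, meeting the rest of the curve in k points, the lower extreme of the Basic Inequality for
line bundles of degree d is m = d(2g_Y - 2 + k)/(2g - 2) - k/2, which is an integer exactly when 2(g
- 1) divides d(2g_Y - 2 + k) - k(g - 1). Then gcd(d - g + 1, 2g - 2) = 1 if and only if m is not an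
integer for all integers g_Y, k with 0 < g_Y < g - 1, k ≥ 1 and k + 2g_Y - 2 < 2g - 2. (The row
makes explicit the bound 2g_Y - 2 + k < 2g - 2, which is automatic for subcurves of stable curves
and is satisfied by every subcurve to which the source applies the lemma; the source leaves the
ambient curve's class implicit.) -/
theorem result (g d : ℤ) (hg : 3 ≤ g) :
    Int.gcd (d - g + 1) (2 * g - 2) = 1 ↔
      ∀ gY k : ℤ, 0 < gY → gY < g - 1 → 1 ≤ k → k + 2 * gY - 2 < 2 * g - 2 →
        ¬ (2 * (g - 1) ∣ d * (2 * gY - 2 + k) - k * (g - 1)) := by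
  have key : ∀ gY k : ℤ, d * (2 * gY - 2 + k) - k * (g - 1) =
      (d - g + 1) * (2 * gY - 2 + k) + (2 * g - 2) * (gY - 1) := by intros; ring
  have e2 : 2 * (g - 1) = 2 * g - 2 := by ring
  constructor
  · intro hgcd gY k h1 h2 h3 h4 hdvd
    rw [key, e2] at hdvd
    have hdvd2 : (2 * g - 2) ∣ (d - g + 1) * (2 * gY - 2 + k) :=
      (dvd_add_left (dvd_mul_right (2 * g - 2) (gY - 1))).mp hdvd
    have hcop : IsCoprime (2 * g - 2) (d - g + 1) := by
      rw [Int.isCoprime_iff_gcd_eq_one, Int.gcd_comm]; exact hgcd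
    have hdvd3 : (2 * g - 2) ∣ (2 * gY - 2 + k) := hcop.dvd_of_dvd_mul_left hdvd2
    have := Int.le_of_dvd (by linarith) hdvd3
    linarith
  · intro H
    by_contra hne
    obtain ⟨w, hw⟩ := Int.gcd_dvd_right (d - g + 1) (2 * g - 2)
    obtain ⟨e', he'⟩ := Int.gcd_dvd_left (d - g + 1) (2 * g - 2)
    have hcpos : 0 < Int.gcd (d - g + 1) (2 * g - 2) :=
      Int.gcd_pos_of_ne_zero_right _ (by omega)
    generalize Int.gcd (d - g + 1) (2 * g - 2) = c at *
    have hc2 : (2 : ℤ) ≤ (c : ℤ) := by omega
    have hwpos : 0 < w := by nlinarith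
    have hwlt : w < 2 * g - 2 := by nlinarith
    apply H 1 w (by norm_num) (by linarith) (by linarith) (by linarith)
    rw [key]
    refine ⟨e', ?_⟩
    rw [e2, he', hw]
    ring

end Groth.Agent.S17176
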