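import Groth.Statements.S17181
import Mathlib
set_option linter.style.haveILetI false

set_option autoImplicit false
universe u
open CategoryTheory CategoryTheory.Limits AlgebraicGeometry
open FBase

namespace Groth.Agent.S17181

section Aux
open CategoryTheory CategoryTheory.Limits AlgebraicGeometry

private lemma irreducible_of_generalizing {A B : Type*} [TopologicalSpace A] [TopologicalSpace B]
    (p : A → B) (hg : GeneralizingMap p) (η : B) (hη : ∀ b, η ⤳ b)
    (hfib : IsIrreducible (p ⁻¹' {η})) : IrreducibleSpace A := by
  rw [irreducibleSpace_def]
  have : closure (p ⁻¹' {η}) = (⊤ : Set A) := by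
    rw [Set.top_eq_univ, Set.eq_univ_iff_forall]
    intro a
    obtain ⟨a', ha'a, ha'⟩ := hg (hη (p a))
    have hsub : ({a'} : Set A) ⊆ p ⁻¹' {η} := Set.singleton_subset_iff.mpr ha'
    exact closure_mono hsub ha'a.mem_closure
  rw [← this]
  exact hfib.closure

private lemma flat_of_field {k K : Type u} [Field k] [Field K]
    (y : Spec (CommRingCat.of K) ⟶ Spec (CommRingCat.of k)) : Flat y := by
  rw [← Spec.map_preimage y, HasRingHomProperty.Spec_iff (P := @Flat)]
  letI : Algebra k K := (Spec.preimage y).hom.toAlgebra
  show Module.Flat k K
  infer_instance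

end Aux


/-- Let k be a field, C an irreducible k-scheme which is geometrically irreducible over k, and f : X → C
a flat k-morphism locally of finite type with X irreducible. If the generic fibre of f is
geometrically irreducible over the residue field of the generic point of C, then X is geometrically
irreducible over k. (The published setting is a regular proper surface mapping onto a smooth
projective geometrically irreducible curve with smooth projective geometrically irreducible generic
fibre; the printed argument uses only the hypotheses kept here.) -/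
theorem result (k : Type u) [Field k]
    (X C : Scheme.{u}) [X.Over (Spec (CommRingCat.of k))] [C.Over (Spec (CommRingCat.of k))]
    (f : X ⟶ C) [f.IsOver (Spec (CommRingCat.of k))] [IrreducibleSpace X] [IrreducibleSpace C]
    [GeometricallyIrreducible (C ↘ Spec (CommRingCat.of k))] [Flat f] [LocallyOfFiniteType f]
    [GeometricallyIrreducible (f.fiberToSpecResidueField (genericPoint C))] :
    GeometricallyIrreducible (X ↘ Spec (CommRingCat.of k)) := by
  refine ⟨?_⟩
  intro K _ y Z fstZ sndZ h
  show IrreducibleSpace Z
  haveI : Flat y := flat_of_field y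
  -- the base change of C
  let gC := pullback.fst (C ↘ Spec (CommRingCat.of k)) y
  let sC := pullback.snd (C ↘ Spec (CommRingCat.of k)) y
  haveI hCK : IrreducibleSpace ↥(pullback (C ↘ Spec (CommRingCat.of k)) y) :=
    (inferInstance : GeometricallyIrreducible (C ↘ Spec (CommRingCat.of k))).geometrically_irreducibleSpace
      y gC sC (IsPullback.of_hasPullback _ _)
  have hover : f ≫ (C ↘ Spec (CommRingCat.of k)) = X ↘ Spec (CommRingCat.of k) :=
    CategoryTheory.comp_over f (Spec (CommRingCat.of k))
  let fK : Z ⟶ pullback (C ↘ Spec (CommRingCat.of k)) y :=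
    pullback.lift (fstZ ≫ f) sndZ (by rw [Category.assoc, hover]; exact h.w)
  have hfK1 : fK ≫ gC = fstZ ≫ f := pullback.lift_fst _ _ _
  have hfK2 : fK ≫ sC = sndZ := pullback.lift_snd _ _ _
  have houter : IsPullback fstZ (fK ≫ sC) (f ≫ (C ↘ Spec (CommRingCat.of k))) y := by
    rw [hfK2, hover]
    exact h
  have hsq : IsPullback fstZ fK f gC :=
    IsPullback.of_bot houter hfK1.symm (IsPullback.of_hasPullback _ _)
  haveI : Flat fK := MorphismProperty.of_isPullback (P := @Flat) hsq inferInstance
  haveI : Flat gC := inferInstance
  -- generic point
  let ηK := genericPoint ↥(pullback (C ↘ Spec (CommRingCat.of k)) y)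
  have hηK : gC ηK = genericPoint ↥C := by
    obtain ⟨c'', hc'', hgc''⟩ := (Flat.generalizingMap gC) (genericPoint_specializes (gC ηK))
    have : c'' = ηK := (hc''.antisymm (genericPoint_specializes c'')).eq
    rw [← this, hgc'']
  haveI hgi : GeometricallyIrreducible (f.fiberToSpecResidueField (gC ηK)) := by
    rw [hηK]
    infer_instance
  have hfib : IrreducibleSpace ↥(fK.fiber ηK) :=
    hgi.geometrically_irreducibleSpace _ _ _
      (isPullback_fiberToSpecResidueField_of_isPullback hsq ηK)
  have hfib' : IsIrreducible (fK ⁻¹' {ηK}) := by
    rw [← fK.range_fiberι ηK, ← Set.image_univ]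
    exact (IrreducibleSpace.isIrreducible_univ _).image _ (fK.fiberι ηK).continuous.continuousOn
  exact irreducible_of_generalizing (fun a => fK a) (Flat.generalizingMap fK) ηK
    (fun b => genericPoint_specializes b) hfib'

end Groth.Agent.S17181
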