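import Groth.Statements.S17264
import Groth.Agent.S12784
import Groth.Agent.S12785
import Groth.Agent.S12786

set_option autoImplicit false
open CategoryTheory
universe v u
open FibCat


set_option backward.isDefEq.respectTransparency false
set_option backward.isDefEq.respectTransparency.types false

namespace Groth.Agent.S17264aux

open CategoryTheory CategoryTheory.Limits FibCat
open Groth.Agent.Helper22 Groth.Agent.Helper22.EquivComp Groth.Agent.Helper22.RepDiag

section ids
variable {C : Type u} [Category.{v} C] {𝒳 𝒴 : BasedCategory.{v, max u v} C}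

/-- an isomorphism of based functors with identity components. -/
def isoOfEq (F G : 𝒳 ⥤ᵇ 𝒴) (hobj : ∀ x, F.obj x = G.obj x)
    (hmap : ∀ {x x' : 𝒳.obj} (k : x ⟶ x'),
      F.map k ≫ eqToHom (hobj x') = eqToHom (hobj x) ≫ G.map k) : F ≅ G :=
  BasedNatIso.mkNatIso (NatIso.ofComponents (fun x => eqToIso (hobj x)) (fun k => hmap k))
    (fun x => IsHomLift.eqToHom_domain_lift_id (hobj x) (F.w_obj x))

lemma isEquivOver_id : FibCat.IsEquivOver (BasedFunctor.id 𝒳) :=
  ⟨BasedFunctor.id 𝒳,
    ⟨isoOfEq _ _ (fun x => rfl) (fun k => (Category.comp_id _).trans (Category.id_comp _).symm)⟩,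
    ⟨isoOfEq _ _ (fun x => rfl) (fun k => (Category.comp_id _).trans (Category.id_comp _).symm)⟩⟩

end ids

section main
variable {C : Type u} [Category.{v} C] {𝒳 𝒴 𝒵 : BasedCategory.{v, max u v} C}
  (f : 𝒳 ⥤ᵇ 𝒴) (g : 𝒴 ⥤ᵇ 𝒵)

/-- `𝒴 ×_𝒵 𝒳 ⟶ 𝒴 ×_𝒵 𝒴`, `(y, x, θ) ↦ (y, f x, θ)`. -/
def hh : FibCat.fp g (BasedFunctor.comp f g) ⥤ᵇ FibCat.fp g g where
  toFunctor :=
    { obj := fun X => ⟨{ fst := X.obj.fst, snd := f.obj X.obj.snd, iso := X.obj.iso }, X.property⟩
      map := fun {X Y} m => ObjectProperty.homMk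
          { fst := m.hom.fst, snd := f.map m.hom.snd, w := m.hom.w }
      map_id := fun X => by
        apply ObjectProperty.hom_ext
        apply CategoryTheory.Limits.CategoricalPullback.hom_ext
        · rfl
        · exact f.toFunctor.map_id _
      map_comp := fun m n => by
        apply ObjectProperty.hom_ext
        apply CategoryTheory.Limits.CategoricalPullback.hom_ext
        · rfl
        · exact f.toFunctor.map_comp _ _ }
  w := rfl

lemma diag_iso_hom (y' : 𝒴.obj) : ((FibCat.diag g).obj y').obj.iso.hom = 𝟙 (g.obj y') := rfl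

/-- the graph object `(f x, x, 𝟙)`. -/
def Γobj (x : 𝒳.obj) : (FibCat.fp g (BasedFunctor.comp f g)).obj :=
  ⟨{ fst := f.obj x, snd := x, iso := Iso.refl (g.obj (f.obj x)) },
    IsHomLift.id (g.w_obj (f.obj x))⟩

def Γmap {x x' : 𝒳.obj} (k : x ⟶ x') : Γobj f g x ⟶ Γobj f g x' :=
  ObjectProperty.homMk
    { fst := f.map k, snd := k, w := (Category.comp_id _).trans (Category.id_comp _).symm }

def Θ (x : 𝒳.obj) : (hh f g).obj (Γobj f g x) ≅ (FibCat.diag g).obj (f.obj x) :=
  ObjectProperty.isoMk _ (CategoryTheory.Limits.CategoricalPullback.mkIso (Iso.refl (f.obj x))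
    (Iso.refl (f.obj x)) (by
      show g.map (𝟙 (f.obj x)) ≫ ((FibCat.diag g).obj (f.obj x)).obj.iso.hom =
        𝟙 (g.obj (f.obj x)) ≫ g.map (𝟙 (f.obj x))
      rw [diag_iso_hom, Category.comp_id, Category.id_comp]))

lemma Θ_lift (x : 𝒳.obj) : (FibCat.fp g g).p.IsHomLift
    (𝟙 ((FibCat.fp g (BasedFunctor.comp f g)).p.obj (Γobj f g x))) (Θ f g x).hom := by
  refine (Groth.Agent.H13.fp_isHomLift_iff g g (Θ f g x).hom _).2 ?_
  exact IsHomLift.id rfl

/-- the comparison functor `𝒳 ⟶ (𝒴 ×_𝒵 𝒳) ×_{𝒴 ×_𝒵 𝒴} 𝒴`. -/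
def aa : 𝒳 ⥤ᵇ FibCat.fp (hh f g) (FibCat.diag g) where
  toFunctor :=
    { obj := fun x =>
        ⟨{ fst := Γobj f g x, snd := f.obj x, iso := Θ f g x }, Θ_lift f g x⟩
      map := fun {x x'} k => ObjectProperty.homMk
          { fst := Γmap f g k
            snd := f.map k
            w := by
              apply ObjectProperty.hom_ext
              apply CategoryTheory.Limits.CategoricalPullback.hom_ext
              · exact (Category.comp_id (f.map k)).trans (Category.id_comp (f.map k)).symm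
              · exact (Category.comp_id (f.map k)).trans (Category.id_comp (f.map k)).symm }
      map_id := fun x => by
        apply ObjectProperty.hom_ext
        apply CategoryTheory.Limits.CategoricalPullback.hom_ext
        · apply ObjectProperty.hom_ext
          apply CategoryTheory.Limits.CategoricalPullback.hom_ext
          · exact f.toFunctor.map_id _
          · rfl
        · exact f.toFunctor.map_id _
      map_comp := fun k l => by
        apply ObjectProperty.hom_ext
        apply CategoryTheory.Limits.CategoricalPullback.hom_ext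
        · apply ObjectProperty.hom_ext
          apply CategoryTheory.Limits.CategoricalPullback.hom_ext
          · exact f.toFunctor.map_comp _ _
          · rfl
        · exact f.toFunctor.map_comp _ _ }
  w := CategoryTheory.Functor.ext (fun x => f.w_obj x) (fun x x' k => Functor.congr_hom f.w k)

lemma isEquivOver_aa : FibCat.IsEquivOver (aa f g) := by
  haveI hfa : (aa f g).toFunctor.Faithful := by
    refine ⟨?_⟩
    intro x x' k k' h
    exact congrArg (fun t => t.hom.fst.hom.snd) h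
  haveI hfu : (aa f g).toFunctor.Full := by
    refine ⟨?_⟩
    intro x x' n
    let ν := n.hom.fst
    let m : f.obj x ⟶ f.obj x' := ν.hom.fst
    let k : x ⟶ x' := ν.hom.snd
    let t : f.obj x ⟶ f.obj x' := n.hom.snd
    have hw := n.hom.w
    have h1 : m ≫ 𝟙 _ = 𝟙 _ ≫ t :=
      congrArg (fun z : (hh f g).obj (Γobj f g x) ⟶ (FibCat.diag g).obj (f.obj x') => z.hom.fst) hw
    have h2 : f.map k ≫ 𝟙 _ = 𝟙 _ ≫ t :=
      congrArg (fun z : (hh f g).obj (Γobj f g x) ⟶ (FibCat.diag g).obj (f.obj x') => z.hom.snd) hw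
    rw [Category.comp_id, Category.id_comp] at h1 h2
    refine ⟨k, ?_⟩
    apply ObjectProperty.hom_ext
    apply CategoryTheory.Limits.CategoricalPullback.hom_ext
    · apply ObjectProperty.hom_ext
      apply CategoryTheory.Limits.CategoricalPullback.hom_ext
      · exact h2.trans h1.symm
      · rfl
    · exact h2
  apply FibLift.isEquivOver_of_ff
  intro η
  let P : (FibCat.fp g (BasedFunctor.comp f g)).obj := η.obj.fst
  let y : 𝒴.obj := P.obj.fst
  let x : 𝒳.obj := P.obj.snd
  let θ : g.obj y ≅ g.obj (f.obj x) := P.obj.iso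
  let y' : 𝒴.obj := η.obj.snd
  let Θη : (hh f g).obj P ≅ (FibCat.diag g).obj y' := η.obj.iso
  let T₁ : y ≅ y' := (FibCat.fpFst g g).toFunctor.mapIso Θη
  let T₂ : f.obj x ≅ y' := (FibCat.fpSnd g g).toFunctor.mapIso Θη
  have hΘl : (FibCat.fp g g).p.IsHomLift (𝟙 (𝒴.p.obj y)) Θη.hom := η.property
  haveI hT₁ : 𝒴.p.IsHomLift (𝟙 (𝒴.p.obj y)) T₁.hom :=
    (Groth.Agent.H13.fp_isHomLift_iff g g Θη.hom _).1 hΘl
  haveI hT₂ : 𝒴.p.IsHomLift (𝟙 (𝒴.p.obj y)) T₂.hom := fp_lift_snd g g Θη.hom _ hΘl
  haveI hT₁i : 𝒴.p.IsHomLift (𝟙 (𝒴.p.obj y)) T₁.inv := inferInstance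
  have hcompat : g.map T₁.hom ≫ 𝟙 _ = θ.hom ≫ g.map T₂.hom := by
    have h0 := Θη.hom.hom.w
    rw [diag_iso_hom] at h0
    exact h0
  rw [Category.comp_id] at hcompat
  let innerIso : Γobj f g x ≅ P :=
    ObjectProperty.isoMk _ (CategoryTheory.Limits.CategoricalPullback.mkIso (T₂ ≪≫ T₁.symm)
      (Iso.refl x) (by
        show g.map (T₂.hom ≫ T₁.inv) ≫ θ.hom = 𝟙 _ ≫ g.map (f.map (𝟙 x))
        rw [f.toFunctor.map_id, g.toFunctor.map_id, Category.id_comp, g.toFunctor.map_comp,
          Category.assoc]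
        have h3 : g.map T₁.inv ≫ θ.hom = g.map T₂.inv := by
          have h4 : g.map T₁.inv ≫ g.map T₁.hom = 𝟙 _ := by
            rw [← g.toFunctor.map_comp, Iso.inv_hom_id, g.toFunctor.map_id]
          have h5 : g.map T₂.hom ≫ g.map T₂.inv = 𝟙 _ := by
            rw [← g.toFunctor.map_comp, Iso.hom_inv_id, g.toFunctor.map_id]
          calc g.map T₁.inv ≫ θ.hom = g.map T₁.inv ≫ θ.hom ≫ (g.map T₂.hom ≫ g.map T₂.inv) := by
                rw [h5, Category.comp_id]
            _ = g.map T₁.inv ≫ (θ.hom ≫ g.map T₂.hom) ≫ g.map T₂.inv := by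
                simp only [Category.assoc]
            _ = g.map T₁.inv ≫ g.map T₁.hom ≫ g.map T₂.inv := by rw [← hcompat]
            _ = g.map T₂.inv := by rw [← Category.assoc, h4, Category.id_comp]
        rw [h3, ← g.toFunctor.map_comp, Iso.hom_inv_id, g.toFunctor.map_id]))
  let E : (aa f g).obj x ≅ η :=
    ObjectProperty.isoMk _ (CategoryTheory.Limits.CategoricalPullback.mkIso innerIso T₂ (by
      apply ObjectProperty.hom_ext
      apply CategoryTheory.Limits.CategoricalPullback.hom_ext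
      · show (T₂.hom ≫ T₁.inv) ≫ T₁.hom = 𝟙 _ ≫ T₂.hom
        rw [Category.assoc, Iso.inv_hom_id, Category.comp_id, Category.id_comp]
      · show f.map (𝟙 x) ≫ T₂.hom = 𝟙 _ ≫ T₂.hom
        rw [f.toFunctor.map_id]))
  refine ⟨x, E, ?_⟩
  refine (Groth.Agent.H13.fp_isHomLift_iff (hh f g) (FibCat.diag g) E.hom _).2 ?_
  refine (Groth.Agent.H13.fp_isHomLift_iff g (BasedFunctor.comp f g) innerIso.hom _).2 ?_
  show 𝒴.p.IsHomLift (𝟙 (𝒴.p.obj y)) (T₂.hom ≫ T₁.inv)
  exact IsHomLift.comp_lift_id_right 𝒴.p (𝟙 (𝒴.p.obj y)) T₂.hom T₁.inv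

theorem main (hgf : FibCat.IsRepresentable1 (BasedFunctor.comp f g))
    (hΔ : FibCat.IsRepresentable1 (FibCat.diag g)) : FibCat.IsRepresentable1 f := by
  -- the projection `𝒴 ×_𝒵 𝒳 ⟶ 𝒴`
  have hπ : FibCat.IsRepresentable1 (FibCat.fpFst g (BasedFunctor.comp f g)) :=
    Groth.Agent.S12786.result (BasedFunctor.comp f g) g hgf
  have hq : FibCat.IsRepresentable1 (FibCat.fpFst (hh f g) (FibCat.diag g)) :=
    Groth.Agent.S12786.result (FibCat.diag g) (hh f g) hΔ
  -- the graph
  let Γ : 𝒳 ⥤ᵇ FibCat.fp g (BasedFunctor.comp f g) :=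
    BasedFunctor.comp (aa f g) (FibCat.fpFst (hh f g) (FibCat.diag g))
  have hΓ : FibCat.IsRepresentable1 Γ := by
    refine (Groth.Agent.S12784.result (FibCat.fpFst (hh f g) (FibCat.diag g)) Γ (aa f g)
      (BasedFunctor.id _) (isEquivOver_aa f g) isEquivOver_id ?_).1 hq
    exact isoOfEq _ _ (fun x => rfl)
      (fun k => (Category.comp_id _).trans (Category.id_comp _).symm)
  have hcomp : FibCat.IsRepresentable1
      (BasedFunctor.comp Γ (FibCat.fpFst g (BasedFunctor.comp f g))) :=
    Groth.Agent.S12785.result Γ (FibCat.fpFst g (BasedFunctor.comp f g)) hΓ hπ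
  refine (Groth.Agent.S12784.result
    (BasedFunctor.comp Γ (FibCat.fpFst g (BasedFunctor.comp f g))) f (BasedFunctor.id _)
    (BasedFunctor.id _) isEquivOver_id isEquivOver_id ?_).1 hcomp
  exact isoOfEq _ _ (fun x => rfl)
    (fun k => (Category.comp_id _).trans (Category.id_comp _).symm)

end main

end Groth.Agent.S17264aux

namespace Groth.Agent.S17264

/-- Let C be a category with fibre products and let f : 𝒳 → 𝒴 and g : 𝒴 → 𝒵 be functors over C between
categories fibred in groupoids over C. If the composite g ∘ f is a representable 1-morphism (its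
2-fibre product with every slice category C/U is equivalent over C to a slice category) and the
diagonal 𝒴 → 𝒴 ×_𝒵 𝒴 of g is a representable 1-morphism, then f is a representable 1-morphism. This
is the case of the source's lemma in which the class of test objects is the class of representable
categories over C. -/
theorem result {C : Type u} [Category.{v} C]
    [Limits.HasPullbacks C] {𝒳 𝒴 𝒵 : BasedCategory.{v, max u v} C}
    (h𝒳 : FibCat.IsFibGrpd 𝒳.p) (h𝒴 : FibCat.IsFibGrpd 𝒴.p) (h𝒵 : FibCat.IsFibGrpd 𝒵.p)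
    (f : 𝒳 ⥤ᵇ 𝒴) (g : 𝒴 ⥤ᵇ 𝒵)
    (hgf : FibCat.IsRepresentable1 (BasedFunctor.comp f g))
    (hΔ : FibCat.IsRepresentable1 (FibCat.diag g)) :
    FibCat.IsRepresentable1 f := by
  exact Groth.Agent.S17264aux.main f g hgf hΔ

end Groth.Agent.S17264
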