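import Groth.Statements.S17266
import Mathlib.CategoryTheory.Sites.Grothendieck
import Mathlib.CategoryTheory.FiberedCategory.BasedCategory
import Mathlib.Tactic

set_option autoImplicit false
open CategoryTheory
universe v u
open Stk

namespace Groth.Agent.S17266


theorem basedFunctor_ext {C : Type u} [Category.{v} C] {𝒳 𝒴 : BasedCategory.{v, max u v} C}
    (F G : 𝒳 ⥤ᵇ 𝒴) (h : F.toFunctor = G.toFunctor) : F = G := by
  cases F; cases G
  simp only at h
  subst h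
  rfl


/-- Let C be a category with a Grothendieck topology J and let F : 𝒳 → 𝒴, G : 𝒴 → 𝒵 be functors over C
between categories fibred in groupoids over C. Say that a functor H : 𝒜 → ℬ over C is covering when
for every object U of C and every functor b : C/U → ℬ over C there is a J-covering sieve of U such
that for each of its arrows h : V → U the composite of C/V → C/U with b is 2-isomorphic over C to H
∘ a for some functor a : C/V → 𝒜 over C (locally on the base every object of ℬ lifts to 𝒜 up to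
isomorphism). If F and G are covering, then the composite G ∘ F is covering. -/
theorem result {C : Type u} [Category.{v} C] (J : GrothendieckTopology C)
    {𝒳 𝒴 𝒵 : BasedCategory.{v, max u v} C}
    (h𝒳 : FibCat.IsFibGrpd 𝒳.p) (h𝒴 : FibCat.IsFibGrpd 𝒴.p) (h𝒵 : FibCat.IsFibGrpd 𝒵.p)
    (F : 𝒳 ⥤ᵇ 𝒴) (G : 𝒴 ⥤ᵇ 𝒵)
    (hF : (∀ (U : C) (y : FibCat.overCat U ⥤ᵇ 𝒴), ∃ R ∈ J U, ∀ ⦃V : C⦄ (h : V ⟶ U), R.arrows h →
        ∃ x : FibCat.overCat V ⥤ᵇ 𝒳,
          Nonempty (BasedFunctor.comp x F ≅ BasedFunctor.comp (⟨Over.map h, Over.mapForget_eq h⟩ : FibCat.overCat V ⥤ᵇ FibCat.overCat U) y)))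
    (hG : (∀ (U : C) (y : FibCat.overCat U ⥤ᵇ 𝒵), ∃ R ∈ J U, ∀ ⦃V : C⦄ (h : V ⟶ U), R.arrows h →
        ∃ x : FibCat.overCat V ⥤ᵇ 𝒴,
          Nonempty (BasedFunctor.comp x G ≅ BasedFunctor.comp (⟨Over.map h, Over.mapForget_eq h⟩ : FibCat.overCat V ⥤ᵇ FibCat.overCat U) y))) :
    (∀ (U : C) (y : FibCat.overCat U ⥤ᵇ 𝒵), ∃ R ∈ J U, ∀ ⦃V : C⦄ (h : V ⟶ U), R.arrows h →
        ∃ x : FibCat.overCat V ⥤ᵇ 𝒳,
          Nonempty (BasedFunctor.comp x (BasedFunctor.comp F G) ≅ BasedFunctor.comp (⟨Over.map h, Over.mapForget_eq h⟩ : FibCat.overCat V ⥤ᵇ FibCat.overCat U) y)) := by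
  intro U y
  obtain ⟨R, hR, hR'⟩ := hG U y
  choose xG hxG using hR'
  choose R' hR'J hR'prop using fun (V : C) (h : V ⟶ U) (hh : R.arrows h) => hF V (xG h hh)
  refine ⟨Sieve.bind R.arrows (@fun V h hh => R' V h hh),
    J.bind_covering hR (@fun V h hh => hR'J V h hh), ?_⟩
  rintro W f ⟨V, k, h, hh, hk, rfl⟩
  obtain ⟨x', ⟨e'⟩⟩ := hR'prop V h hh k hk
  obtain ⟨e⟩ := hxG h hh
  refine ⟨x', ⟨?_⟩⟩
  have hM : (⟨Over.map (k ≫ h), Over.mapForget_eq (k ≫ h)⟩ :
      FibCat.overCat W ⥤ᵇ FibCat.overCat U) =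
      BasedFunctor.comp (⟨Over.map k, Over.mapForget_eq k⟩ :
        FibCat.overCat W ⥤ᵇ FibCat.overCat V) ⟨Over.map h, Over.mapForget_eq h⟩ := by
    apply basedFunctor_ext
    exact Over.mapComp_eq k h
  rw [hM]
  have i1 : BasedFunctor.comp (BasedFunctor.comp x' F) G ≅
      BasedFunctor.comp (BasedFunctor.comp (⟨Over.map k, Over.mapForget_eq k⟩ :
        FibCat.overCat W ⥤ᵇ FibCat.overCat V) (xG h hh)) G :=
    Bicategory.whiskerRightIso (B := BasedCategory.{v, max u v} C) e' G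
  have i2 : BasedFunctor.comp (⟨Over.map k, Over.mapForget_eq k⟩ :
        FibCat.overCat W ⥤ᵇ FibCat.overCat V) (BasedFunctor.comp (xG h hh) G) ≅
      BasedFunctor.comp (⟨Over.map k, Over.mapForget_eq k⟩ :
        FibCat.overCat W ⥤ᵇ FibCat.overCat V)
        (BasedFunctor.comp (⟨Over.map h, Over.mapForget_eq h⟩ :
          FibCat.overCat V ⥤ᵇ FibCat.overCat U) y) :=
    Bicategory.whiskerLeftIso (B := BasedCategory.{v, max u v} C) _ e
  exact i1 ≪≫ i2

end Groth.Agent.S17266
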