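import Groth.Statements.S1728
import Groth.Agent.Lib.Helper7.InjHull

set_option autoImplicit false
universe u
open InjHull

namespace Groth.Agent.S1728

/-- Let I be an injective R-module and E a submodule of I. Then E is an injective module if and only if
every submodule E' of I containing E, such that every nonzero submodule of E' meets E nontrivially,
is equal to E. -/
theorem result (R : Type u) [CommRing R] (I : Type u) [AddCommGroup I] [Module R I] [Module.Injective R I] (E : Submodule R I) : Module.Injective R E ↔ ∀ E' : Submodule R I, E ≤ E' → (∀ N : Submodule R I, N ≤ E' → N ≠ ⊥ → N ⊓ E ≠ ⊥) → E' = E := by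
  constructor
  · intro hE E' hle hess
    obtain ⟨C, hC⟩ := Groth.Agent.Helper7.IH.exists_isCompl_range hE E.subtype
      E.injective_subtype
    rw [Submodule.range_subtype] at hC
    apply le_antisymm _ hle
    intro y hy
    obtain ⟨e, he, c, hc, rfl⟩ : ∃ e ∈ E, ∃ c ∈ C, e + c = y := by
      have hy' : y ∈ E ⊔ C := by
        rw [hC.sup_eq_top]
        exact Submodule.mem_top
      exact Submodule.mem_sup.mp hy'
    have hcE' : c ∈ E' := by
      have h0 := E'.sub_mem hy (hle he)
      simpa using h0
    have hc0 : c = 0 := by
      by_contra hne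
      have h1 : Submodule.span R {c} ≠ ⊥ :=
        fun h0 => hne (Submodule.span_singleton_eq_bot.mp h0)
      have h2 := hess (Submodule.span R {c})
        ((Submodule.span_singleton_le_iff_mem _ _).mpr hcE') h1
      apply h2
      rw [eq_bot_iff]
      have h3 : Submodule.span R {c} ≤ C := (Submodule.span_singleton_le_iff_mem _ _).mpr hc
      calc Submodule.span R {c} ⊓ E ≤ C ⊓ E := inf_le_inf_right _ h3
        _ = ⊥ := by rw [inf_comm]; exact hC.inf_eq_bot
    rw [hc0, add_zero]
    exact he
  · intro h
    obtain ⟨E', C, hess, hcompl⟩ :=
      Groth.Agent.Helper7.IH.exists_summand_ess (inferInstance : Module.Injective R I) E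
    have hE' : E' = E := h E' hess.1 (fun N hN hN0 => hess.inf_ne_bot N hN hN0)
    rw [hE'] at hcompl
    exact Groth.Agent.Helper7.IH.injective_of_isCompl inferInstance hcompl

end Groth.Agent.S1728
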