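import Groth.Statements.S1729
import Mathlib

set_option autoImplicit false
universe u
open Dual2

namespace Groth.Agent.S1729

/-- Over a local ring, every finite module M admits a projective cover: a surjection from a projective
module P onto M such that no proper submodule of P maps onto M. -/
theorem result (R : Type u) [CommRing R] [IsLocalRing R] (M : Type u) [AddCommGroup M] [Module R M] [Module.Finite R M] : ∃ (P : Type u) (_ : AddCommGroup P) (_ : Module R P) (f : P →ₗ[R] M), Dual2.IsProjectiveCover f := by
  classical
  have hsurjM : Function.Surjective
      (TensorProduct.mk R (IsLocalRing.ResidueField R) M 1) :=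
    TensorProduct.mk_surjective R M (IsLocalRing.ResidueField R) Ideal.Quotient.mk_surjective
  let b := Module.finBasis (IsLocalRing.ResidueField R)
    (TensorProduct R (IsLocalRing.ResidueField R) M)
  choose x hx using fun i => hsurjM (b i)
  let f : (Fin (Module.finrank (IsLocalRing.ResidueField R)
      (TensorProduct R (IsLocalRing.ResidueField R) M)) →₀ R) →ₗ[R] M :=
    Finsupp.linearCombination R x
  refine ⟨_, inferInstance, inferInstance, f, ⟨inferInstance, ?_, ?_⟩⟩
  · rw [← LinearMap.range_eq_top, Finsupp.range_linearCombination]
    exact IsLocalRing.span_eq_top_of_tmul_eq_basis x b hx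
  · intro N hN
    rw [← IsLocalRing.map_tensorProduct_mk_eq_top]
    let bP := (Finsupp.basisSingleOne (R := R) (ι := Fin (Module.finrank
      (IsLocalRing.ResidueField R) (TensorProduct R (IsLocalRing.ResidueField R) M)))).baseChange
      (IsLocalRing.ResidueField R)
    let e := bP.equiv b (Equiv.refl _)
    have hF : (f.baseChange (IsLocalRing.ResidueField R)) = e.toLinearMap := by
      apply bP.ext
      intro i
      have h1 : bP i = (1 : IsLocalRing.ResidueField R) ⊗ₜ[R] Finsupp.single i (1 : R) := by
        simp [bP]
      have h2 : e (bP i) = b i := by simp [e]
      rw [LinearEquiv.coe_coe, h2, h1, LinearMap.baseChange_tmul]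
      simp only [f, Finsupp.linearCombination_single, one_smul]
      exact hx i
    have hinj : Function.Injective
        ((f.baseChange (IsLocalRing.ResidueField R)).restrictScalars R) := by
      rw [hF]
      exact e.injective
    have hcomm : ((f.baseChange (IsLocalRing.ResidueField R)).restrictScalars R) ∘ₗ
        (TensorProduct.mk R (IsLocalRing.ResidueField R) _ 1) =
        (TensorProduct.mk R (IsLocalRing.ResidueField R) M 1) ∘ₗ f := by
      apply LinearMap.ext
      intro q
      simp
    have h1 : (N.map (TensorProduct.mk R (IsLocalRing.ResidueField R) _ 1)).map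
        ((f.baseChange (IsLocalRing.ResidueField R)).restrictScalars R) = ⊤ := by
      rw [← Submodule.map_comp, hcomm, Submodule.map_comp, hN, Submodule.map_top,
        LinearMap.range_eq_top]
      exact hsurjM
    rw [← Submodule.comap_map_eq_of_injective hinj (N.map _), h1, Submodule.comap_top]

end Groth.Agent.S1729
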