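import Groth.Statements.S17321
import Groth.Agent.H28.FinAlg

set_option autoImplicit false
set_option linter.style.haveILetI false
universe u v
open CAlg

namespace Groth.Agent.S17321

open Groth.Agent.H28.FinAlg

theorem result (k : Type u) [Field k] [IsAlgClosed k]
    (A : Type v) [CommRing A] [Algebra k A] [Module.Finite k A] :
    Subsingleton (Derivation k A A) ↔ IsReduced A := by
  classical
  haveI : IsArtinianRing A := IsArtinianRing.of_finite k A
  haveI := finite_algHom k A
  letI := Fintype.ofFinite (A →ₐ[k] k)
  obtain ⟨e, he, hdual⟩ := exists_coi k A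
  constructor
  · intro hsub
    by_contra hred
    -- a nonzero nilpotent element
    obtain ⟨x, hx, hx0⟩ : ∃ x : A, x ∈ nilradical A ∧ x ≠ 0 := by
      by_contra hcon
      push Not at hcon
      exact hred ⟨fun x hx => hcon x hx⟩
    -- choose a character f with e f * x ≠ 0
    obtain ⟨f, hfz⟩ : ∃ f : A →ₐ[k] k, e f * x ≠ 0 := by
      by_contra hcon
      push Not at hcon
      apply hx0
      calc x = (∑ f, e f) * x := by rw [he.complete, one_mul]
        _ = ∑ f, e f * x := Finset.sum_mul _ _ _
        _ = 0 := Finset.sum_eq_zero fun f _ => hcon f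
    set N := nilradical A with hN
    set M := RingHom.ker (f : A →+* k) with hM
    have hefM : ∀ y ∈ M, e f * y ∈ N := by
      intro y hy
      rw [hN, mem_nilradical_iff k A]
      intro f'
      rw [map_mul, hdual]
      by_cases hff : f = f'
      · subst hff
        have : f y = 0 := hy
        rw [this, mul_zero]
      · rw [if_neg hff, zero_mul]
    obtain ⟨n, hn⟩ : ∃ n, N ^ n = ⊥ := by
      obtain ⟨n, hn⟩ := IsArtinianRing.isNilpotent_nilradical (R := A)
      exact ⟨n, hn⟩
    -- socle element
    obtain ⟨s, hs0, hes, hNs⟩ : ∃ s : A, s ≠ 0 ∧ e f * s = s ∧ ∀ t ∈ N, t * s = 0 := by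
      by_contra hcon
      push Not at hcon
      have hP : ∀ j : ℕ, ∃ s ∈ N ^ j, s ≠ 0 ∧ e f * s = s := by
        intro j
        induction j with
        | zero =>
          refine ⟨e f * x, by simp, hfz, ?_⟩
          rw [← mul_assoc, (he.idem f).eq]
        | succ j ih =>
          obtain ⟨s, hsN, hs0, hes⟩ := ih
          obtain ⟨t, ht, hts⟩ := hcon s hs0 hes
          refine ⟨t * s, ?_, hts, ?_⟩
          · rw [pow_succ']
            exact Ideal.mul_mem_mul ht hsN
          · rw [mul_left_comm, hes]
      obtain ⟨s, hsN, hs0, -⟩ := hP n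
      rw [hn, Ideal.mem_bot] at hsN
      exact hs0 hsN
    have hMs : ∀ y ∈ M, y * s = 0 := by
      intro y hy
      calc y * s = y * (e f * s) := by rw [hes]
        _ = (e f * y) * s := by ring
        _ = 0 := hNs _ (hefM y hy)
    have hfa : ∀ a : A, a - algebraMap k A (f a) ∈ M := by
      intro a
      rw [hM, RingHom.mem_ker, map_sub]
      simp
    -- the subspace k·1 + M²
    set W : Submodule k A := (k ∙ (1 : A)) ⊔ (M ^ 2).restrictScalars k with hW
    have hWtop : W < ⊤ := by
      rw [lt_top_iff_ne_top]
      intro hWt
      have hMM : M ≤ M ^ 2 := by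
        intro y hy
        have hyW : y ∈ W := by rw [hWt]; trivial
        rw [hW, Submodule.mem_sup] at hyW
        obtain ⟨u, hu, w, hw, huw⟩ := hyW
        rw [Submodule.mem_span_singleton] at hu
        obtain ⟨c, rfl⟩ := hu
        have hw' : w ∈ M ^ 2 := hw
        have hwM : w ∈ M := Ideal.pow_le_self two_ne_zero hw'
        have hc : c = 0 := by
          have h1 : f (c • (1 : A) + w) = f y := by rw [huw]
          have h2 : f w = 0 := hwM
          have h3 : f y = 0 := hy
          rw [map_add, map_smul, map_one, h2, h3, add_zero, smul_eq_mul, mul_one] at h1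
          exact h1
        rw [hc, zero_smul, zero_add] at huw
        rw [← huw]; exact hw'
      have hMpow : ∀ j : ℕ, M ≤ M ^ (j + 1) := by
        intro j
        induction j with
        | zero => simp
        | succ j ih =>
          calc M ≤ M ^ 2 := hMM
            _ = M * M := pow_two M
            _ ≤ M ^ (j + 1) * M := Ideal.mul_mono_left ih
            _ = M ^ (j + 1 + 1) := (pow_succ M (j + 1)).symm
      -- e f * x ∈ M, hence in M^(n+1), hence zero
      have hxM : e f * x ∈ M := by
        have : e f * x ∈ N := Ideal.mul_mem_left _ _ hx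
        rw [hN, mem_nilradical_iff k A] at this
        exact this f
      have h1 : e f * x ∈ M ^ (n + 1) := hMpow n hxM
      have h2 : (Ideal.span {e f}) * M ≤ N := by
        rw [Ideal.mul_le]
        intro r hr y hy
        rw [Ideal.mem_span_singleton'] at hr
        obtain ⟨a, rfl⟩ := hr
        rw [mul_assoc]
        exact Ideal.mul_mem_left _ _ (hefM y hy)
      have h3 : (Ideal.span {e f}) ^ (n + 1) * M ^ (n + 1) ≤ ⊥ := by
        rw [← mul_pow]
        calc (Ideal.span {e f} * M) ^ (n + 1) ≤ N ^ (n + 1) := Ideal.pow_right_mono h2 _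
          _ = N ^ n * N := pow_succ _ _
          _ = ⊥ := by rw [hn, Ideal.bot_mul]
      have h4 : e f ^ (n + 1) * (e f * x) ∈ (Ideal.span {e f}) ^ (n + 1) * M ^ (n + 1) :=
        Ideal.mul_mem_mul (Ideal.pow_mem_pow (Ideal.mem_span_singleton_self _) _) h1
      have h5 := h3 h4
      rw [Ideal.mem_bot, (he.idem f).pow_succ_eq, ← mul_assoc, (he.idem f).eq] at h5
      exact hfz h5
    obtain ⟨ψ, hψ0, hψW⟩ := Submodule.exists_le_ker_of_lt_top W hWtop
    have hψ1 : ψ 1 = 0 := by
      have : (1 : A) ∈ W := Submodule.mem_sup_left (Submodule.mem_span_singleton_self _)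
      exact hψW this
    have hψM : ∀ y ∈ M ^ 2, ψ y = 0 := by
      intro y hy
      have : y ∈ W := Submodule.mem_sup_right hy
      exact hψW this
    have hψmul : ∀ a b : A, ψ (a * b) = f a * ψ b + f b * ψ a := by
      intro a b
      have h1 : (a - algebraMap k A (f a)) * (b - algebraMap k A (f b)) ∈ M ^ 2 := by
        rw [pow_two]
        exact Ideal.mul_mem_mul (hfa a) (hfa b)
      have h2 := hψM _ h1
      have h3 : (a - algebraMap k A (f a)) * (b - algebraMap k A (f b)) =
          a * b - f a • b - f b • a + (f a * f b) • (1 : A) := by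
        simp only [Algebra.smul_def, map_mul]
        ring
      rw [h3] at h2
      simp only [map_add, map_sub, map_smul, hψ1, smul_zero, add_zero, smul_eq_mul] at h2
      linear_combination h2
    have has : ∀ a : A, a * s = f a • s := by
      intro a
      have := hMs _ (hfa a)
      rw [sub_mul, sub_eq_zero] at this
      rw [this, Algebra.smul_def]
    let D : Derivation k A A := Derivation.mk' (ψ.smulRight s) (by
      intro a b
      simp only [LinearMap.smulRight_apply, smul_eq_mul]
      rw [hψmul, add_smul, mul_smul, mul_smul]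
      rw [mul_smul_comm, mul_smul_comm, has, has]
      rw [smul_comm (ψ b), smul_comm (ψ a)])
    obtain ⟨a, ha⟩ : ∃ a, ψ a ≠ 0 := by
      by_contra hcon
      push Not at hcon
      exact hψ0 (LinearMap.ext hcon)
    have hD : D a = 0 := by
      rw [Subsingleton.elim D 0]; rfl
    have hD' : D a = ψ a • s := rfl
    rw [hD'] at hD
    exact (smul_ne_zero ha hs0) hD
  · intro hred
    refine ⟨fun D D' => ?_⟩
    have hzero : ∀ D : Derivation k A A, D = 0 := by
      intro D
      have hDe : ∀ f, D (e f) = 0 := by
        intro f
        have h1 : D (e f * e f) = D (e f) := by rw [(he.idem f).eq]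
        rw [Derivation.leibniz, smul_eq_mul] at h1
        -- h1 : e f * D (e f) + e f * D (e f) = D (e f)
        have h2 : e f * D (e f) = 0 := by
          have := congrArg (fun t => e f * t) h1
          simp only [mul_add, ← mul_assoc, (he.idem f).eq] at this
          simpa using this
        rw [h2, add_zero] at h1
        exact h1.symm
      ext a
      have ha : a = retr e he a := by
        have h := retr_sub_mem_nilradical e he hdual a
        rw [nilradical_eq_zero, Ideal.zero_eq_bot, Ideal.mem_bot, sub_eq_zero] at h
        exact h.symm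
      rw [ha, retr_apply, map_sum]
      simp only [Derivation.map_smul, hDe, smul_zero, Finset.sum_const_zero, Derivation.coe_zero,
        Pi.zero_apply]
    rw [hzero D, hzero D']

end Groth.Agent.S17321
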