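import Groth.Statements.S17322
import Groth.Agent.H28.Shear
import Mathlib

set_option autoImplicit false
universe u v w
open Hopf

namespace Groth.Agent.S17322

open scoped TensorProduct
open Groth.Agent.H28.Shear Coalgebra

section
variable {k : Type u} [Field k] {A : Type v} [CommRing A] [HopfAlgebra k A]
  {R : Type w} [CommRing R] [Algebra k R]

theorem shear_includeLeft (x : R ⊗[k] A) :
    shearHom (Algebra.TensorProduct.includeRight : A →ₐ[k] R ⊗[k] A)
      (Algebra.TensorProduct.map (Algebra.TensorProduct.includeLeft : R →ₐ[k] R ⊗[k] A)
        (AlgHom.id k A) x) =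
      (TensorProduct.assoc k R A A).symm
        ((CoalgebraStruct.comul (R := k) (A := A)).lTensor R x) := by
  classical
  induction x using TensorProduct.induction_on with
  | zero => simp
  | tmul r a =>
    rw [Algebra.TensorProduct.map_tmul, AlgHom.id_apply, shearHom_tmul_repr _ _ _ (ℛ k a),
      LinearMap.lTensor_tmul, ← (ℛ k a).eq, TensorProduct.tmul_sum, map_sum]
    refine Finset.sum_congr rfl fun i _ => ?_
    simp
  | add x y hx hy => simp only [map_add, hx, hy]

end

/-- Let k be an algebraically closed field, A a commutative Hopf algebra over k which is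
finite-dimensional as a k-vector space (a finite group scheme G = Spec A over k), and R a finitely
generated commutative k-algebra with an A-comodule structure whose coaction R → R ⊗ A is a k-algebra
homomorphism (an action of G on the affine scheme Spec R). Then the subalgebra R^G of invariants
(elements whose coaction is r ⊗ 1) is finitely generated as a k-algebra, and R is finitely generated
as a module over R^G. -/
theorem result (k : Type u) [Field k] [IsAlgClosed k]
    (A : Type v) [CommRing A] [HopfAlgebra k A] [Module.Finite k A]
    (R : Type w) [CommRing R] [Algebra k R] [Algebra.FiniteType k R]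
    [HopfRep.Comod k A R] [GLin.IsCoactAlg k A R] :
    Algebra.FiniteType k ↥(GLin.invariants k A R) ∧ Module.Finite ↥(GLin.invariants k A R) R := by
  classical
  let ρ : R →ₐ[k] R ⊗[k] A := GLin.coactAlgHom k A R
  let ι₁ : R →ₐ[k] R ⊗[k] A := Algebra.TensorProduct.includeLeft
  have hρinj : Function.Injective ρ := by
    intro r r' h
    have h1 := LinearMap.congr_fun (HopfRep.Comod.counit_comp (k := k) (A := A) (V := R)) r
    have h2 := LinearMap.congr_fun (HopfRep.Comod.counit_comp (k := k) (A := A) (V := R)) r'
    simp only [LinearMap.comp_apply, LinearMap.flip_apply, TensorProduct.mk_apply] at h1 h2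
    have h3 : HopfRep.Comod.coact (k := k) (A := A) r = HopfRep.Comod.coact (k := k) (A := A) r' := h
    rw [h3, h2] at h1
    have := congrArg (TensorProduct.rid k R) h1
    simpa using this.symm
  have hinv : ∀ (r : R) (n : ℕ), (chi R (ρ r)).coeff n ∈ GLin.invariants k A R := by
    intro r n
    rw [GLin.mem_invariants_iff]
    have h1 := chi_map ρ (ρ r)
    have h2 := chi_map ι₁ (ρ r)
    have h3 : Algebra.TensorProduct.map ρ (AlgHom.id k A) (ρ r) =
        shearEquiv (Algebra.TensorProduct.includeRight : A →ₐ[k] R ⊗[k] A)
          (Algebra.TensorProduct.map ι₁ (AlgHom.id k A) (ρ r)) := by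
      rw [shearEquiv_apply, shear_includeLeft]
      have hc := LinearMap.congr_fun (HopfRep.Comod.coassoc (k := k) (A := A) (V := R)) r
      simp only [LinearMap.comp_apply] at hc
      rw [LinearEquiv.eq_symm_apply]
      exact hc
    rw [h3, chi_algEquiv, h2] at h1
    have := congrArg (fun p => p.coeff n) h1
    simp only [Polynomial.coeff_map] at this
    exact this.symm
  have hint : Algebra.IsIntegral (GLin.invariants k A R) R := by
    refine ⟨fun r => ?_⟩
    rcases subsingleton_or_nontrivial R with hR | hR
    · exact ⟨1, Polynomial.monic_one, Subsingleton.elim _ _⟩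
    have hlift : chi R (ρ r) ∈ Polynomial.lifts (algebraMap (GLin.invariants k A R) R) := by
      rw [Polynomial.lifts_iff_coeff_lifts]
      intro n
      exact ⟨⟨_, hinv r n⟩, rfl⟩
    obtain ⟨q, hq, -, hqm⟩ := Polynomial.lifts_and_degree_eq_and_monic hlift (chi_monic R (ρ r))
    refine ⟨q, hqm, ?_⟩
    rw [← Polynomial.eval_map, hq]
    apply hρinj
    rw [map_zero]
    have h0 := aeval_chi R (ρ r)
    rw [Polynomial.aeval_def, Polynomial.eval₂_eq_sum_range] at h0
    rw [Polynomial.eval_eq_sum_range, map_sum, ← h0]
    refine Finset.sum_congr rfl fun n _ => ?_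
    rw [map_mul, map_pow]
    congr 1
    have := hinv r n
    rw [GLin.mem_invariants_iff] at this
    rw [Algebra.TensorProduct.algebraMap_apply]
    exact this
  have hft : Algebra.FiniteType (GLin.invariants k A R) R :=
    Algebra.FiniteType.of_restrictScalars_finiteType k (GLin.invariants k A R) R
  have hfin : Module.Finite (GLin.invariants k A R) R := Algebra.IsIntegral.finite
  refine ⟨⟨?_⟩, hfin⟩
  exact fg_of_fg_of_fg k (GLin.invariants k A R) R
    (Algebra.FiniteType.out) hfin.1 Subtype.val_injective

end Groth.Agent.S17322
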