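import Groth.Statements.S17323
import Groth.Agent.H28.FinAlg

set_option autoImplicit false
set_option linter.style.haveILetI false
universe u v
open CAlg

namespace Groth.Agent.S17323

open Groth.Agent.H28.FinAlg

theorem result (k : Type u) [Field k] [IsAlgClosed k]
    (A : Type v) [CommRing A] [Algebra k A] [Module.Finite k A] :
    ∃ B : Subalgebra k A, IsReduced ↥B ∧ (∀ C : Subalgebra k A, IsReduced ↥C → C ≤ B) ∧
      Function.Bijective ((Ideal.Quotient.mkₐ k (nilradical A)).comp B.val) := by
  classical
  haveI := finite_algHom k A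
  letI := Fintype.ofFinite (A →ₐ[k] k)
  obtain ⟨e, he, hdual⟩ := exists_coi k A
  have hretr2 : ∀ y : A, retr e he (retr e he y) = retr e he y := by
    intro y
    rw [retr_apply e he (retr e he y)]
    conv_rhs => rw [retr_apply e he y]
    refine Finset.sum_congr rfl fun f _ => ?_
    rw [algHom_retr e he hdual f y]
  have hB0 : ∀ x ∈ (retr e he).range, x ∈ nilradical A → x = 0 := by
    rintro x ⟨y, rfl⟩ hx
    change retr e he y ∈ nilradical A at hx
    change retr e he y = 0
    rw [← hretr2]
    exact retr_eq_zero_of_mem_nilradical e he _ hx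
  refine ⟨(retr e he).range, ?_, ?_, ?_⟩
  · refine ⟨fun x hx => ?_⟩
    obtain ⟨n, hn⟩ := hx
    apply Subtype.ext
    apply hB0 _ x.2
    refine ⟨n, ?_⟩
    have := congrArg Subtype.val hn
    simpa using this
  · intro C hC c hc
    -- structure theory for C
    haveI : Module.Finite k ↥C := by
      have : Module.Finite k ↥(Subalgebra.toSubmodule C) := inferInstance
      exact this
    haveI := finite_algHom k ↥C
    letI := Fintype.ofFinite (↥C →ₐ[k] k)
    obtain ⟨eC, heC, hdualC⟩ := exists_coi k ↥C
    have hc' : (⟨c, hc⟩ : ↥C) = retr eC heC ⟨c, hc⟩ := by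
      have h := retr_sub_mem_nilradical eC heC hdualC ⟨c, hc⟩
      rw [nilradical_eq_zero, Ideal.zero_eq_bot, Ideal.mem_bot, sub_eq_zero] at h
      exact h.symm
    have hc'' : c = ((retr eC heC ⟨c, hc⟩ : ↥C) : A) := congrArg Subtype.val hc'
    rw [hc'', retr_apply, AddSubmonoidClass.coe_finsetSum]
    refine Subalgebra.sum_mem _ fun g _ => ?_
    rw [Subalgebra.coe_smul]
    refine Subalgebra.smul_mem _ ?_ _
    have hidem : IsIdempotentElem ((eC g : ↥C) : A) := by
      have := congrArg Subtype.val (heC.idem g).eq
      simpa [IsIdempotentElem] using this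
    exact ⟨_, retr_eq_self_of_isIdempotentElem e he hdual _ hidem⟩
  · constructor
    · rw [injective_iff_map_eq_zero]
      intro b hb
      apply Subtype.ext
      apply hB0 _ b.2
      have : Ideal.Quotient.mk (nilradical A) (b : A) = 0 := hb
      rwa [Ideal.Quotient.eq_zero_iff_mem] at this
    · intro y
      obtain ⟨x, rfl⟩ := Ideal.Quotient.mk_surjective y
      refine ⟨⟨retr e he x, x, rfl⟩, ?_⟩
      change Ideal.Quotient.mk (nilradical A) (retr e he x) = _
      rw [Ideal.Quotient.eq]
      exact retr_sub_mem_nilradical e he hdual x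

end Groth.Agent.S17323
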