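import Groth.Statements.S17324
import Groth.Agent.H28.FinAlg

set_option autoImplicit false
set_option linter.style.haveILetI false
universe u v
open CAlg

namespace Groth.Agent.S17324

open Groth.Agent.H28.FinAlg

theorem result (k : Type u) [Field k] [IsAlgClosed k]
    (A : Type v) [CommRing A] [Algebra k A] [Module.Finite k A] [IsLocalRing A]
    (m : ℕ) (a : Fin m → A) (ha : ∀ i, a i ∈ IsLocalRing.maximalIdeal A) :
    Algebra.adjoin k (Set.range a) = ⊤ ↔ Ideal.span (Set.range a) = IsLocalRing.maximalIdeal A := by
  classical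
  haveI : IsArtinianRing A := IsArtinianRing.of_finite k A
  obtain ⟨f, hf⟩ := exists_algHom_ker_eq k A (IsLocalRing.maximalIdeal A)
  have hspan_le : Ideal.span (Set.range a) ≤ IsLocalRing.maximalIdeal A := by
    rw [Ideal.span_le]
    rintro _ ⟨i, rfl⟩
    exact ha i
  have hsub : ∀ x : A, x - algebraMap k A (f x) ∈ IsLocalRing.maximalIdeal A := by
    intro x
    rw [← hf, RingHom.mem_ker, map_sub, AlgHom.commutes]
    simp
  constructor
  · intro h
    refine le_antisymm hspan_le ?_
    intro x hx
    have hP : ∀ y ∈ Algebra.adjoin k (Set.range a),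
        ∃ c : k, y - algebraMap k A c ∈ Ideal.span (Set.range a) := by
      intro y hy
      induction hy using Algebra.adjoin_induction with
      | mem y hy => exact ⟨0, by simpa using Ideal.subset_span hy⟩
      | algebraMap c => exact ⟨c, by simp⟩
      | add y z _ _ hy hz =>
        obtain ⟨c, hc⟩ := hy
        obtain ⟨d, hd⟩ := hz
        refine ⟨c + d, ?_⟩
        have : y + z - algebraMap k A (c + d) = (y - algebraMap k A c) + (z - algebraMap k A d) := by
          rw [map_add]; ring
        rw [this]
        exact Ideal.add_mem _ hc hd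
      | mul y z _ _ hy hz =>
        obtain ⟨c, hc⟩ := hy
        obtain ⟨d, hd⟩ := hz
        refine ⟨c * d, ?_⟩
        have : y * z - algebraMap k A (c * d) =
            (y - algebraMap k A c) * z + algebraMap k A c * (z - algebraMap k A d) := by
          rw [map_mul]; ring
        rw [this]
        exact Ideal.add_mem _ (Ideal.mul_mem_right _ _ hc) (Ideal.mul_mem_left _ _ hd)
    obtain ⟨c, hc⟩ := hP x (by rw [h]; trivial)
    have hc' : algebraMap k A c ∈ IsLocalRing.maximalIdeal A := by
      have := Ideal.sub_mem _ hx (hspan_le hc)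
      simpa using this
    have hc0 : c = 0 := by
      rw [← hf, RingHom.mem_ker, AlgHom.commutes] at hc'
      simpa using hc'
    simpa [hc0] using hc
  · intro h
    set B := Algebra.adjoin k (Set.range a) with hB
    have key : ∀ n : ℕ, ∀ x : A, ∃ b ∈ B, x - b ∈ (IsLocalRing.maximalIdeal A) ^ n := by
      intro n
      induction n with
      | zero => intro x; exact ⟨0, B.zero_mem, by simp⟩
      | succ n ih =>
        intro x
        have hx := hsub x
        rw [← h] at hx
        obtain ⟨c, hc⟩ := (Submodule.mem_span_range_iff_exists_fun A).1 hx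
        choose b hb hbm using fun i => ih (c i)
        refine ⟨algebraMap k A (f x) + ∑ i, b i * a i, ?_, ?_⟩
        · refine B.add_mem (B.algebraMap_mem _) (B.sum_mem fun i _ => ?_)
          exact B.mul_mem (hb i) (Algebra.subset_adjoin ⟨i, rfl⟩)
        · have : x - (algebraMap k A (f x) + ∑ i, b i * a i) = ∑ i, (c i - b i) * a i := by
            rw [← sub_sub, ← hc]
            simp only [smul_eq_mul, ← Finset.sum_sub_distrib, sub_mul]
          rw [this, pow_succ]
          refine Ideal.sum_mem _ fun i _ => ?_
          exact Ideal.mul_mem_mul (hbm i) (ha i)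
    obtain ⟨n, hn⟩ : ∃ n, (IsLocalRing.maximalIdeal A) ^ n = ⊥ := by
      have := IsArtinianRing.isNilpotent_jacobson_bot (R := A)
      rw [IsLocalRing.jacobson_eq_maximalIdeal ⊥ bot_ne_top] at this
      obtain ⟨n, hn⟩ := this
      exact ⟨n, hn⟩
    rw [eq_top_iff]
    intro x _
    obtain ⟨b, hb, hxb⟩ := key n x
    rw [hn, Ideal.mem_bot, sub_eq_zero] at hxb
    rw [hxb]; exact hb

end Groth.Agent.S17324
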