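import Groth.Statements.S17325
import Mathlib
import Mathlib
import Groth.Agent.Lib.Helper8.QLinear

set_option autoImplicit false
universe u v
open LieAlg

namespace Groth.Agent.S17325

/-- Let k be an algebraically closed field of characteristic p > 0, V a finite-dimensional k-vector
space and g a nonzero k-linear subspace of End_k(V) closed under the p-th power map u ↦ u^p. Then g
contains a nonzero u with u^p = c u for some c ∈ k, i.e. a line k u closed under p-th powers. (The
published lemma concerns an abstract nonzero finite-dimensional restricted Lie algebra; this row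
concerns subspaces of End_k(V) closed under p-th powers, a class that contains every restricted Lie
subalgebra of gl(V).) -/
theorem result (k : Type u) [Field k] [IsAlgClosed k]
    (p : ℕ) [Fact p.Prime] [CharP k p] (V : Type v) [AddCommGroup V] [Module k V] [FiniteDimensional k V]
    (g : Submodule k (Module.End k V)) (hg : ∀ u ∈ g, u ^ p ∈ g) (hne : g ≠ ⊥) :
    ∃ u ∈ g, u ≠ 0 ∧ ∃ c : k, u ^ p = c • u := by
  classical
  have hp := (Fact.out : p.Prime)
  obtain ⟨u0, hu0g, hu0⟩ := Submodule.exists_mem_ne_zero_of_ne_bot hne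
  haveI : Nontrivial (Module.End k V) := ⟨⟨u0, 0, hu0⟩⟩
  haveI : CharP (Module.End k V) p :=
    charP_of_injective_algebraMap (algebraMap k (Module.End k V)).injective p
  let A : Subalgebra k (Module.End k V) := Algebra.adjoin k {u0}
  have hcomm : ∀ a ∈ A, ∀ b ∈ A, Commute a b := by
    intro a ha b hb
    exact Algebra.commute_of_mem_adjoin_singleton_of_commute hb
      (Algebra.commute_of_mem_adjoin_self ha).symm
  let h : Submodule k (Module.End k V) := g ⊓ Subalgebra.toSubmodule A
  have hmem : ∀ a : h, (a : Module.End k V) ^ p ∈ h := fun a =>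
    ⟨hg _ a.2.1, A.pow_mem a.2.2 p⟩
  let Φ : h →ₛₗ[iterateFrobenius k p 1] h :=
    { toFun := fun a => ⟨(a : Module.End k V) ^ p, hmem a⟩
      map_add' := fun a b => by
        apply Subtype.ext
        show ((a : Module.End k V) + b) ^ p = (a : Module.End k V) ^ p + (b : Module.End k V) ^ p
        exact add_pow_char_of_commute p (hcomm _ a.2.2 _ b.2.2)
      map_smul' := fun c a => by
        apply Subtype.ext
        show (c • (a : Module.End k V)) ^ p = (iterateFrobenius k p 1 c) • (a : Module.End k V) ^ p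
        rw [smul_pow, iterateFrobenius_def, pow_one] }
  have hΦ : ∀ a : h, ((Φ a : h) : Module.End k V) = (a : Module.End k V) ^ p := fun a => rfl
  let x0 : h := ⟨u0, hu0g, Algebra.subset_adjoin rfl⟩
  have hx0 : x0 ≠ 0 := fun h0 => hu0 (congrArg Subtype.val h0)
  by_cases hnil : ∀ n, (⇑Φ)^[n] x0 ≠ 0
  · obtain ⟨w, hw0, hw⟩ := Groth.Agent.Helper8.QLinear.exists_fixed p 1 one_pos Φ x0 hnil
    refine ⟨w, w.2.1, fun h0 => hw0 (Subtype.ext h0), 1, ?_⟩
    rw [one_smul, ← hΦ, hw]
  · push Not at hnil
    obtain ⟨n, hn0, hnmin⟩ : ∃ n, (⇑Φ)^[n] x0 = 0 ∧ ∀ j < n, (⇑Φ)^[j] x0 ≠ 0 :=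
      ⟨Nat.find hnil, Nat.find_spec hnil, fun j hj => Nat.find_min hnil hj⟩
    cases n with
    | zero => exact absurd hn0 hx0
    | succ m =>
      have hm := hnmin m (Nat.lt_succ_self m)
      refine ⟨((⇑Φ)^[m] x0 : h), ((⇑Φ)^[m] x0).2.1, fun h0 => hm (Subtype.ext h0), 0, ?_⟩
      rw [zero_smul, ← hΦ, ← Function.iterate_succ_apply' (⇑Φ) m x0, hn0]
      rfl

end Groth.Agent.S17325
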