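import Groth.Statements.S17326
import Groth.Agent.H28.FinAlg

set_option autoImplicit false
set_option linter.style.haveILetI false
universe u v
open CAlg

namespace Groth.Agent.S17326

open Groth.Agent.H28.FinAlg

theorem result (k : Type u) [Field k] [IsAlgClosed k]
    (p : ℕ) [Fact p.Prime] [CharP k p] (A : Type v) [CommRing A] [Algebra k A] [Module.Finite k A]
    (n : ℕ) (hn : 1 ≤ n) :
    Function.Bijective (fun a : A => a ^ p ^ n) ↔ IsReduced A := by
  have hp : p.Prime := Fact.out
  have hq : 2 ≤ p ^ n := by
    calc 2 ≤ p := hp.two_le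
      _ = p ^ 1 := (pow_one p).symm
      _ ≤ p ^ n := Nat.pow_le_pow_right hp.pos hn
  constructor
  · rintro ⟨hinj, -⟩
    refine ⟨fun a ha => ?_⟩
    obtain ⟨N, hN⟩ := ha
    -- iterate
    have hiter : ∀ j : ℕ, (fun a : A => a ^ p ^ n)^[j] a = a ^ ((p ^ n) ^ j) := by
      intro j
      induction j with
      | zero => simp
      | succ j ih =>
        rw [Function.iterate_succ_apply', ih, ← pow_mul, pow_succ]
    have hiter0 : ∀ j : ℕ, (fun a : A => a ^ p ^ n)^[j] 0 = 0 := by
      intro j
      induction j with
      | zero => simp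
      | succ j ih =>
        rw [Function.iterate_succ_apply', ih]
        exact zero_pow (by omega)
    have hbig : N ≤ (p ^ n) ^ N := (Nat.lt_pow_self (by omega)).le
    have h0 : (fun a : A => a ^ p ^ n)^[N] a = (fun a : A => a ^ p ^ n)^[N] 0 := by
      rw [hiter, hiter0]
      exact pow_eq_zero_of_le hbig hN
    exact (hinj.iterate N) h0
  · intro hred
    haveI : ExpChar k p := ExpChar.prime hp
    have hnil0 : ∀ a : A, (∀ f : A →ₐ[k] k, f a = 0) → a = 0 := by
      intro a ha
      have : a ∈ nilradical A := (mem_nilradical_iff k A a).mpr ha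
      rw [nilradical_eq_zero] at this
      exact this
    constructor
    · intro a b hab
      have hab' : a ^ p ^ n = b ^ p ^ n := hab
      rw [← sub_eq_zero]
      apply hnil0
      intro f
      rw [map_sub, sub_eq_zero]
      apply iterateFrobenius_inj k p n
      rw [iterateFrobenius_def, iterateFrobenius_def, ← map_pow, ← map_pow, hab']
    · intro b
      choose c hc using fun f : A →ₐ[k] k =>
        IsAlgClosed.exists_pow_nat_eq (f b) (n := p ^ n) (by omega)
      obtain ⟨a, ha⟩ := exists_forall_algHom_eq k A c
      refine ⟨a, ?_⟩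
      change a ^ p ^ n = b
      rw [← sub_eq_zero]
      apply hnil0
      intro f
      rw [map_sub, map_pow, ha, hc, sub_self]

end Groth.Agent.S17326
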