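import Groth.Statements.S1733
import Mathlib

set_option autoImplicit false
universe u
open LocCoh

namespace Groth.Agent.S1733

/-- Let f_1, …, f_r and g be elements of a ring (r ≥ 1). If the family f_1, …, f_{r-1}, f_r g is
independent (every linear relation has coefficients in the ideal the family generates), then f_1, …,
f_r is independent. -/
theorem result (A : Type u) [CommRing A] (r : ℕ) (f : Fin (r + 1) → A) (g : A) (h : Dual2.Independent (Function.update f (Fin.last r) (f (Fin.last r) * g))) : Dual2.Independent f := by
  classical
  intro a ha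
  set f' : Fin (r + 1) → A := Function.update f (Fin.last r) (f (Fin.last r) * g) with hf'
  have hf'c : ∀ j : Fin r, f' (Fin.castSucc j) = f (Fin.castSucc j) := fun j => by
    rw [hf', Function.update_of_ne (Fin.castSucc_lt_last j).ne]
  have hf'l : f' (Fin.last r) = f (Fin.last r) * g := by rw [hf', Function.update_self]
  have hle : Ideal.span (Set.range f') ≤ Ideal.span (Set.range f) := by
    rw [Ideal.span_le]
    rintro _ ⟨i, rfl⟩
    by_cases hi : i = Fin.last r
    · subst hi
      rw [hf'l]
      exact Ideal.mul_mem_right _ _ (Ideal.subset_span ⟨_, rfl⟩)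
    · obtain ⟨j, rfl⟩ := Fin.exists_castSucc_eq.mpr hi
      rw [hf'c]
      exact Ideal.subset_span ⟨_, rfl⟩
  rw [Fin.sum_univ_castSucc] at ha
  -- first relation
  have h1 : a (Fin.last r) ∈ Ideal.span (Set.range f') := by
    have := h (Function.update (fun i => a i * g) (Fin.last r) (a (Fin.last r))) (by
      rw [Fin.sum_univ_castSucc]
      simp only [Function.update_self, Function.update_of_ne (Fin.castSucc_lt_last _).ne, hf'c,
        hf'l]
      have : ∑ j : Fin r, a (Fin.castSucc j) * g * f (Fin.castSucc j) +
          a (Fin.last r) * (f (Fin.last r) * g) =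
          g * (∑ j : Fin r, a (Fin.castSucc j) * f (Fin.castSucc j) +
            a (Fin.last r) * f (Fin.last r)) := by
        rw [mul_add, Finset.mul_sum]
        congr 1
        · exact Finset.sum_congr rfl fun j _ => by ring
        · ring
      rw [this, ha, mul_zero]) (Fin.last r)
    simpa using this
  obtain ⟨c, hc⟩ := Ideal.mem_span_range_iff_exists_fun.mp h1
  rw [Fin.sum_univ_castSucc] at hc
  simp only [hf'c, hf'l] at hc
  -- second relation
  have h2 := h (Function.update (fun i => a i + c i * f (Fin.last r)) (Fin.last r)
    (c (Fin.last r) * f (Fin.last r))) (by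
      rw [Fin.sum_univ_castSucc]
      simp only [Function.update_self, Function.update_of_ne (Fin.castSucc_lt_last _).ne, hf'c,
        hf'l]
      have : ∑ j : Fin r, (a (Fin.castSucc j) + c (Fin.castSucc j) * f (Fin.last r)) *
          f (Fin.castSucc j) + c (Fin.last r) * f (Fin.last r) * (f (Fin.last r) * g) =
          (∑ j : Fin r, a (Fin.castSucc j) * f (Fin.castSucc j)) +
            f (Fin.last r) * (∑ j : Fin r, c (Fin.castSucc j) * f (Fin.castSucc j) +
              c (Fin.last r) * (f (Fin.last r) * g)) := by
        rw [mul_add, Finset.mul_sum, ← add_assoc, ← Finset.sum_add_distrib]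
        congr 1
        · exact Finset.sum_congr rfl fun j _ => by ring
        · ring
      rw [this, hc, mul_comm (f (Fin.last r)), ha])
  intro i
  by_cases hi : i = Fin.last r
  · subst hi
    exact hle h1
  · obtain ⟨j, rfl⟩ := Fin.exists_castSucc_eq.mpr hi
    have h3 := h2 (Fin.castSucc j)
    rw [Function.update_of_ne (Fin.castSucc_lt_last j).ne] at h3
    have h4 : c (Fin.castSucc j) * f (Fin.last r) ∈ Ideal.span (Set.range f) :=
      Ideal.mul_mem_left _ _ (Ideal.subset_span ⟨_, rfl⟩)
    have h5 := Ideal.sub_mem _ (hle h3) h4
    simpa using h5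

end Groth.Agent.S1733
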