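import Groth.Statements.S17332
import Mathlib

set_option autoImplicit false
universe u v w
open CAlg

namespace Groth.Agent.S17332

theorem result (k : Type u) [Field k] (E : Type v) [Finite E]
    (F : Type w) [Finite F] (u : (F → k) →ₐ[k] (E → k)) :
    ∃! φ : E → F, ∀ g : F → k, u g = g ∘ φ := by
  classical
  cases nonempty_fintype F
  have key : ∀ χ : (F → k) →ₐ[k] k, ∃ f₀ : F, ∀ g : F → k, χ g = g f₀ := by
    intro χ
    have h1 : ∑ f : F, χ (Pi.single f 1) = 1 := by
      rw [← map_sum, Finset.univ_sum_single]
      exact map_one χ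
    have : ∃ f₀, χ (Pi.single f₀ 1) ≠ 0 := by
      by_contra h
      push Not at h
      simp [h] at h1
    obtain ⟨f₀, hf₀⟩ := this
    have hidem : χ (Pi.single f₀ 1) = 1 := by
      have : χ (Pi.single f₀ 1) * χ (Pi.single f₀ 1) = χ (Pi.single f₀ 1) := by
        rw [← map_mul]
        congr 1
        ext x
        simp [Pi.single_apply]
      exact (mul_eq_right₀ hf₀).mp this
    have hzero : ∀ f, f ≠ f₀ → χ (Pi.single f 1) = 0 := by
      intro f hf
      have : χ (Pi.single f 1) * χ (Pi.single f₀ 1) = 0 := by
        rw [← map_mul]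
        have : (Pi.single f (1:k) * Pi.single f₀ (1:k) : F → k) = 0 := by
          ext x
          simp only [Pi.mul_apply, Pi.single_apply, Pi.zero_apply]
          split_ifs with h1 h2
          · exact absurd (h1.symm.trans h2) hf
          · simp
          · simp
          · simp
        rw [this, map_zero]
      rw [hidem, mul_one] at this; exact this
    refine ⟨f₀, fun g => ?_⟩
    have hg : g = ∑ f, g f • Pi.single f (1:k) := by
      ext x; simp [Finset.sum_apply, Pi.single_apply]
    conv_lhs => rw [hg]
    rw [map_sum]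
    simp_rw [map_smul]
    rw [Finset.sum_eq_single f₀]
    · rw [hidem]; simp
    · intro f _ hf; rw [hzero f hf]; simp
    · simp
  choose φ hφ using fun e : E => key ((Pi.evalAlgHom k (fun _ : E => k) e).comp u)
  refine ⟨φ, fun g => funext fun e => hφ e g, ?_⟩
  intro φ' hφ'
  funext e
  have h1 := congrFun (hφ' (Pi.single (φ e) 1)) e
  have h2 := hφ e (Pi.single (φ e) 1)
  simp only [AlgHom.coe_comp, Function.comp_apply, Pi.evalAlgHom_apply, Pi.single_eq_same] at h1 h2
  rw [h2] at h1
  by_contra hne
  rw [Pi.single_eq_of_ne hne] at h1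
  exact one_ne_zero h1

end Groth.Agent.S17332
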