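import Groth.Statements.S17333
import Mathlib

set_option autoImplicit false
universe u v w
open CAlg

namespace Groth.Agent.S17333

/-- Let k be a field and A = B × C a decomposable commutative k-algebra. Then the natural map Der(B) ×
Der(C) → Der(A) is bijective: every k-derivation D : A → A is (b, c) ↦ (D₁ b, D₂ c) for a unique
pair of k-derivations D₁ : B → B, D₂ : C → C. Compatibility with brackets is not stated. (The
published statement takes k algebraically closed; this row takes any field.) -/
theorem result (k : Type u) [Field k] (B : Type v) [CommRing B] [Algebra k B]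
    (C : Type w) [CommRing C] [Algebra k C] (D : Derivation k (B × C) (B × C)) :
    ∃! P : Derivation k B B × Derivation k C C, ∀ (b : B) (c : C), D (b, c) = (P.1 b, P.2 c) := by
  -- the idempotent e = (1, 0) is killed by D
  have he : D ((1 : B), (0 : C)) = 0 := by
    have h1 : ((1 : B), (0 : C)) * ((1 : B), (0 : C)) = ((1 : B), (0 : C)) := by
      ext <;> simp
    have h2 := D.leibniz ((1 : B), (0 : C)) ((1 : B), (0 : C))
    rw [h1] at h2
    set x := D ((1 : B), (0 : C)) with hx
    have h3 : x = ((1 : B), (0 : C)) * x + ((1 : B), (0 : C)) * x := by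
      simpa [smul_eq_mul] using h2
    have h4 : ((1 : B), (0 : C)) * x = ((1 : B), (0 : C)) * x + ((1 : B), (0 : C)) * x := by
      conv_lhs => rw [h3]
      rw [mul_add, ← mul_assoc, h1]
    have h5 : ((1 : B), (0 : C)) * x = 0 := by
      have := h4
      exact left_eq_add.mp this
    rw [h5] at h3
    simpa using h3
  have hf : D ((0 : B), (1 : C)) = 0 := by
    have : ((0 : B), (1 : C)) = 1 - ((1 : B), (0 : C)) := by ext <;> simp
    rw [this, map_sub, he, sub_zero]
    exact D.map_one_eq_zero
  have hb : ∀ b : B, D (b, 0) = ((D (b, 0)).1, 0) := by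
    intro b
    have h1 : ((b, 0) : B × C) = ((1 : B), (0 : C)) * (b, 0) := by ext <;> simp
    have h2 := D.leibniz ((1 : B), (0 : C)) ((b : B), (0 : C))
    rw [← h1, he] at h2
    ext
    · rfl
    · have := congrArg Prod.snd h2
      simpa using this
  have hc : ∀ c : C, D (0, c) = (0, (D (0, c)).2) := by
    intro c
    have h1 : ((0, c) : B × C) = ((0 : B), (1 : C)) * (0, c) := by ext <;> simp
    have h2 := D.leibniz ((0 : B), (1 : C)) ((0 : B), (c : C))
    rw [← h1, hf] at h2
    ext
    · have := congrArg Prod.fst h2
      simpa using this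
    · rfl
  let D₁ : Derivation k B B := Derivation.mk'
    { toFun := fun b => (D (b, 0)).1
      map_add' := fun x y => by
        have : ((x + y, 0) : B × C) = (x, 0) + (y, 0) := by ext <;> simp
        rw [this, map_add]; rfl
      map_smul' := fun r x => by
        have : ((r • x, 0) : B × C) = r • (x, 0) := by ext <;> simp
        rw [this, D.map_smul]; rfl }
    (fun a b => by
      have : ((a * b, 0) : B × C) = (a, 0) * (b, 0) := by ext <;> simp
      change (D (a * b, 0)).1 = a • (D (b, 0)).1 + b • (D (a, 0)).1
      rw [this, D.leibniz]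
      simp [smul_eq_mul])
  let D₂ : Derivation k C C := Derivation.mk'
    { toFun := fun c => (D (0, c)).2
      map_add' := fun x y => by
        have : ((0, x + y) : B × C) = (0, x) + (0, y) := by ext <;> simp
        rw [this, map_add]; rfl
      map_smul' := fun r x => by
        have : ((0, r • x) : B × C) = r • (0, x) := by ext <;> simp
        rw [this, D.map_smul]; rfl }
    (fun a b => by
      have : ((0, a * b) : B × C) = (0, a) * (0, b) := by ext <;> simp
      change (D (0, a * b)).2 = a • (D (0, b)).2 + b • (D (0, a)).2
      rw [this, D.leibniz]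
      simp [smul_eq_mul])
  have key : ∀ (b : B) (c : C), D (b, c) = (D₁ b, D₂ c) := by
    intro b c
    have : ((b, c) : B × C) = (b, 0) + (0, c) := by ext <;> simp
    rw [this, map_add, hb b, hc c]
    ext <;> simp [D₁, D₂]
  refine ⟨(D₁, D₂), key, ?_⟩
  rintro ⟨P₁, P₂⟩ hP
  simp only at hP
  ext x
  · have := hP x 0
    rw [key] at this
    exact (congrArg Prod.fst this).symm
  · have := hP 0 x
    rw [key] at this
    exact (congrArg Prod.snd this).symm

end Groth.Agent.S17333
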