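import Groth.Statements.S17334
import Mathlib

set_option autoImplicit false
universe u v
open CAlg

namespace Groth.Agent.S17334

/-- In a commutative artinian ring without nontrivial idempotents, every element is
a unit or nilpotent. -/
lemma isUnit_or_isNilpotent {A : Type*} [CommRing A] [IsArtinianRing A]
    (h : ∀ e : A, IsIdempotentElem e → e = 0 ∨ e = 1) (a : A) : IsUnit a ∨ IsNilpotent a := by
  obtain ⟨n, b, hb⟩ := IsArtinian.exists_pow_succ_smul_dvd a (1 : A)
  simp only [smul_eq_mul, mul_one] at hb
  -- hb : a ^ (n+1) * b = a ^ n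
  have hstep : ∀ j : ℕ, a ^ n = a ^ n * (a * b) ^ j := by
    intro j
    induction j with
    | zero => simp
    | succ j ih =>
      have : a ^ n * (a * b) ^ (j + 1) = (a ^ (n + 1) * b) * (a * b) ^ j := by ring
      rw [this, hb]
      exact ih
  have he : IsIdempotentElem ((a * b) ^ n) := by
    change (a * b) ^ n * (a * b) ^ n = (a * b) ^ n
    have : (a * b) ^ n * (a * b) ^ n = b ^ n * (a ^ n * (a * b) ^ n) := by ring
    rw [this, ← hstep n]
    ring
  rcases h _ he with h0 | h1
  · right
    refine ⟨n, ?_⟩
    rw [hstep n, h0, mul_zero]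
  · left
    by_cases hn : n = 0
    · subst hn
      simp only [zero_add, pow_one, pow_zero] at hb
      exact IsUnit.of_mul_eq_one b hb
    · exact isUnit_of_mul_isUnit_left (IsUnit.of_pow_eq_one h1 hn)

theorem result (k : Type u) [Field k]
    (A : Type v) [CommRing A] [Algebra k A] [Module.Finite k A] [Nontrivial A] :
    (∀ e : A, IsIdempotentElem e → e = 0 ∨ e = 1) ↔ IsLocalRing A := by
  constructor
  · intro h
    haveI : IsArtinianRing A := IsArtinianRing.of_finite k A
    refine IsLocalRing.of_isUnit_or_isUnit_one_sub_self fun a => ?_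
    rcases isUnit_or_isNilpotent h a with ha | ha
    · exact Or.inl ha
    · exact Or.inr ha.isUnit_one_sub
  · intro hloc e he
    rcases IsLocalRing.isUnit_or_isUnit_one_sub_self e with hu | hu
    · right
      have : e * e = e * 1 := by rw [mul_one]; exact he
      exact hu.mul_left_cancel this
    · left
      have : (1 - e) * e = (1 - e) * 0 := by
        rw [mul_zero, sub_mul, one_mul, he.eq, sub_self]
      exact hu.mul_left_cancel this

end Groth.Agent.S17334
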