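import Groth.Statements.S17335
import Groth.Agent.H28.FinAlg

set_option autoImplicit false
universe u v
open CAlg

namespace Groth.Agent.S17335

open Groth.Agent.H28.FinAlg

theorem result (k : Type u) [Field k]
    [IsAlgClosed k] (A : Type v) [CommRing A] [Algebra k A] [Module.Finite k A] :
    Finite (A →ₐ[k] k) ∧
      Function.Surjective (AlgHom.pi (R := k) (fun f : A →ₐ[k] k => f)) ∧
      RingHom.ker (AlgHom.pi (R := k) (fun f : A →ₐ[k] k => f)) = nilradical A := by
  refine ⟨finite_algHom k A, ?_, ?_⟩
  · intro g
    obtain ⟨a, ha⟩ := exists_forall_algHom_eq k A g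
    exact ⟨a, funext ha⟩
  · ext a
    rw [mem_nilradical_iff k A, RingHom.mem_ker]
    constructor
    · intro h f
      exact congrFun h f
    · intro h
      funext f
      exact h f

end Groth.Agent.S17335
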