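import Groth.Statements.S17336
import Groth.Agent.H28.FinAlg

set_option autoImplicit false
set_option linter.style.haveILetI false
universe u v
open CAlg

namespace Groth.Agent.S17336

open Groth.Agent.H28.FinAlg

theorem result (k : Type u) [Field k]
    [IsAlgClosed k] (A : Type v) [CommRing A] [Algebra k A] [Module.Finite k A] :
    ∃! s : (A ⧸ nilradical A) →ₐ[k] A,
      (Ideal.Quotient.mkₐ k (nilradical A)).comp s = AlgHom.id k (A ⧸ nilradical A) := by
  classical
  haveI := finite_algHom k A
  letI := Fintype.ofFinite (A →ₐ[k] k)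
  obtain ⟨e, he, hdual⟩ := exists_coi k A
  let s : (A ⧸ nilradical A) →ₐ[k] A :=
    Ideal.Quotient.liftₐ (nilradical A) (retr e he) (retr_eq_zero_of_mem_nilradical e he)
  have hs : ∀ x : A, s (Ideal.Quotient.mk _ x) = retr e he x := fun x =>
    Ideal.Quotient.lift_mk _ _ _
  have hsec : (Ideal.Quotient.mkₐ k (nilradical A)).comp s = AlgHom.id k (A ⧸ nilradical A) := by
    ext x
    obtain ⟨x, rfl⟩ := Ideal.Quotient.mk_surjective x
    rw [AlgHom.comp_apply, hs, AlgHom.id_apply, Ideal.Quotient.mkₐ_eq_mk, Ideal.Quotient.eq]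
    exact retr_sub_mem_nilradical e he hdual x
  refine ⟨s, hsec, ?_⟩
  intro s' hs'
  have hs'mk : ∀ y : A ⧸ nilradical A, Ideal.Quotient.mk (nilradical A) (s' y) = y := by
    intro y
    have := congrArg (fun φ => φ y) hs'
    simpa using this
  -- s' fixes the idempotents
  have hidem : ∀ f : A →ₐ[k] k, s' (Ideal.Quotient.mk _ (e f)) = e f := by
    intro f
    apply eq_of_isNilpotent_sub_of_isIdempotentElem
    · exact ((he.idem f).map (Ideal.Quotient.mk (nilradical A))).map s'
    · exact he.idem f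
    · change s' (Ideal.Quotient.mk _ (e f)) - e f ∈ nilradical A
      rw [← Ideal.Quotient.eq, hs'mk]
  ext y
  obtain ⟨x, rfl⟩ := Ideal.Quotient.mk_surjective y
  -- mk x = mk (retr x)
  have hx : Ideal.Quotient.mk (nilradical A) x = Ideal.Quotient.mk (nilradical A) (retr e he x) := by
    rw [eq_comm, Ideal.Quotient.eq]
    exact retr_sub_mem_nilradical e he hdual x
  rw [hs, hx, retr_apply, map_sum, map_sum]
  refine Finset.sum_congr rfl fun f _ => ?_
  rw [← Ideal.Quotient.mkₐ_eq_mk k, map_smul, map_smul, Ideal.Quotient.mkₐ_eq_mk, hidem]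

end Groth.Agent.S17336
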