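import Groth.Statements.S1734
import Mathlib

set_option autoImplicit false
universe u
open LocCoh

namespace Groth.Agent.S1734

/-- Let f_1, …, f_r, g be elements of a ring A (r ≥ 1) such that f_1, …, f_{r-1}, f_r g is independent
and A/(f_1, …, f_{r-1}, f_r g) has finite length. Then length A/(f_1, …, f_{r-1}, f_r g) = length
A/(f_1, …, f_r) + length A/(f_1, …, f_{r-1}, g). -/
theorem result (A : Type u) [CommRing A] (r : ℕ) (f : Fin (r + 1) → A) (g : A) (h : Dual2.Independent (Function.update f (Fin.last r) (f (Fin.last r) * g))) (hfin : IsFiniteLength A (A ⧸ Ideal.span (Set.range (Function.update f (Fin.last r) (f (Fin.last r) * g))))) : Module.length A (A ⧸ Ideal.span (Set.range (Function.update f (Fin.last r) (f (Fin.last r) * g)))) = Module.length A (A ⧸ Ideal.span (Set.range f)) + Module.length A (A ⧸ Ideal.span (Set.range (Function.update f (Fin.last r) g))) := by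
  classical
  set F : A := f (Fin.last r) with hF
  -- membership in the span of an updated family
  have hmem : ∀ (x a : A), a ∈ Ideal.span (Set.range (Function.update f (Fin.last r) x)) ↔
      ∃ c : Fin (r + 1) → A,
        a = ∑ j : Fin r, c (Fin.castSucc j) * f (Fin.castSucc j) + c (Fin.last r) * x := by
    intro x a
    rw [Ideal.mem_span_range_iff_exists_fun]
    constructor
    · rintro ⟨c, rfl⟩
      refine ⟨c, ?_⟩
      rw [Fin.sum_univ_castSucc]
      simp only [Function.update_self, Function.update_of_ne (Fin.castSucc_lt_last _).ne]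
    · rintro ⟨c, rfl⟩
      refine ⟨c, ?_⟩
      rw [Fin.sum_univ_castSucc]
      simp only [Function.update_self, Function.update_of_ne (Fin.castSucc_lt_last _).ne]
  have hmem₁ : ∀ a : A, a ∈ Ideal.span (Set.range f) ↔
      ∃ c : Fin (r + 1) → A,
        a = ∑ j : Fin r, c (Fin.castSucc j) * f (Fin.castSucc j) + c (Fin.last r) * F := by
    intro a
    have := hmem F a
    rwa [hF, Function.update_eq_self] at this
  set I' : Ideal A := Ideal.span (Set.range (Function.update f (Fin.last r) (F * g))) with hI'
  set I₁ : Ideal A := Ideal.span (Set.range f) with hI₁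
  set I₂ : Ideal A := Ideal.span (Set.range (Function.update f (Fin.last r) g)) with hI₂
  -- the key fact coming from independence
  have key : ∀ a : A, F * a ∈ I' → a ∈ I₂ := by
    intro a ha
    obtain ⟨c, hc⟩ := (hmem (F * g) (F * a)).mp ha
    have hrel := h (Function.update (fun i => c i * g) (Fin.last r) (c (Fin.last r) * g - a)) (by
      rw [Fin.sum_univ_castSucc]
      simp only [Function.update_self, Function.update_of_ne (Fin.castSucc_lt_last _).ne]
      have : ∑ j : Fin r, c (Fin.castSucc j) * g * f (Fin.castSucc j) +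
          (c (Fin.last r) * g - a) * (F * g) =
          g * (∑ j : Fin r, c (Fin.castSucc j) * f (Fin.castSucc j) + c (Fin.last r) * (F * g)
            - F * a) := by
        rw [mul_sub, mul_add, Finset.mul_sum]
        have e1 : ∑ j : Fin r, c (Fin.castSucc j) * g * f (Fin.castSucc j) =
            ∑ j : Fin r, g * (c (Fin.castSucc j) * f (Fin.castSucc j)) :=
          Finset.sum_congr rfl fun j _ => by ring
        rw [e1]
        ring
      rw [this, ← hc, sub_self, mul_zero]) (Fin.last r)
    rw [Function.update_self] at hrel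
    obtain ⟨c', hc'⟩ := (hmem (F * g) _).mp hrel
    rw [hI₂, hmem g a]
    refine ⟨Function.update (fun i => - c' i) (Fin.last r) (c (Fin.last r) - c' (Fin.last r) * F), ?_⟩
    simp only [Function.update_self, Function.update_of_ne (Fin.castSucc_lt_last _).ne]
    have e2 : ∑ j : Fin r, -c' (Fin.castSucc j) * f (Fin.castSucc j) =
        - ∑ j : Fin r, c' (Fin.castSucc j) * f (Fin.castSucc j) := by
      rw [← Finset.sum_neg_distrib]
      exact Finset.sum_congr rfl fun j _ => by ring
    rw [e2]
    have e3 : ∑ j : Fin r, c' (Fin.castSucc j) * f (Fin.castSucc j) =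
        c (Fin.last r) * g - a - c' (Fin.last r) * (F * g) := by
      rw [hc']; ring
    rw [e3]
    ring
  have hle₂ : I₂ ≤ Submodule.comap (LinearMap.mulLeft A F) I' := by
    intro a ha
    obtain ⟨c, rfl⟩ := (hmem g a).mp ha
    rw [Submodule.mem_comap, LinearMap.mulLeft_apply, hI', hmem (F * g)]
    refine ⟨Function.update (fun i => F * c i) (Fin.last r) (c (Fin.last r)), ?_⟩
    simp only [Function.update_self, Function.update_of_ne (Fin.castSucc_lt_last _).ne]
    rw [mul_add, Finset.mul_sum]
    congr 1
    · exact Finset.sum_congr rfl fun j _ => by ring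
    · ring
  have hle₁ : I' ≤ Submodule.comap (LinearMap.id : A →ₗ[A] A) I₁ := by
    intro a ha
    obtain ⟨c, rfl⟩ := (hmem (F * g) a).mp ha
    rw [Submodule.mem_comap, LinearMap.id_apply, hI₁, hmem₁]
    refine ⟨Function.update c (Fin.last r) (c (Fin.last r) * g), ?_⟩
    simp only [Function.update_self, Function.update_of_ne (Fin.castSucc_lt_last _).ne]
    ring
  let i : (A ⧸ I₂) →ₗ[A] (A ⧸ I') := Submodule.mapQ I₂ I' (LinearMap.mulLeft A F) hle₂
  let p : (A ⧸ I') →ₗ[A] (A ⧸ I₁) := Submodule.mapQ I' I₁ LinearMap.id hle₁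
  have hi : Function.Injective i := by
    rw [← LinearMap.ker_eq_bot, Submodule.eq_bot_iff]
    intro x hx
    obtain ⟨a, rfl⟩ := Submodule.Quotient.mk_surjective _ x
    rw [LinearMap.mem_ker, Submodule.mapQ_apply, Submodule.Quotient.mk_eq_zero,
      LinearMap.mulLeft_apply] at hx
    exact (Submodule.Quotient.mk_eq_zero _).mpr (key a hx)
  have hp : Function.Surjective p := by
    intro y
    obtain ⟨a, rfl⟩ := Submodule.Quotient.mk_surjective _ y
    exact ⟨Submodule.Quotient.mk a, by rw [Submodule.mapQ_apply]; rfl⟩
  have hex : Function.Exact i p := by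
    intro y
    obtain ⟨a, rfl⟩ := Submodule.Quotient.mk_surjective _ y
    rw [Submodule.mapQ_apply, Submodule.Quotient.mk_eq_zero, LinearMap.id_apply]
    constructor
    · intro ha
      obtain ⟨c, rfl⟩ := (hmem₁ a).mp ha
      refine ⟨Submodule.Quotient.mk (c (Fin.last r)), ?_⟩
      rw [Submodule.mapQ_apply, Submodule.Quotient.eq, LinearMap.mulLeft_apply, hI',
        hmem (F * g)]
      refine ⟨Function.update (fun i => - c i) (Fin.last r) 0, ?_⟩
      simp only [Function.update_self, Function.update_of_ne (Fin.castSucc_lt_last _).ne]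
      have e2 : ∑ j : Fin r, -c (Fin.castSucc j) * f (Fin.castSucc j) =
          - ∑ j : Fin r, c (Fin.castSucc j) * f (Fin.castSucc j) := by
        rw [← Finset.sum_neg_distrib]
        exact Finset.sum_congr rfl fun j _ => by ring
      rw [e2]
      ring
    · rintro ⟨x, hx⟩
      obtain ⟨a', rfl⟩ := Submodule.Quotient.mk_surjective _ x
      rw [Submodule.mapQ_apply, Submodule.Quotient.eq, LinearMap.mulLeft_apply] at hx
      have h1 : F * a' - a ∈ I₁ := hle₁ hx
      have h2 : F * a' ∈ I₁ := Ideal.mul_mem_right _ _ (Ideal.subset_span ⟨Fin.last r, rfl⟩)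
      have h3 := Ideal.sub_mem _ h2 h1
      simpa using h3
  have hlen := Module.length_eq_add_of_exact i p hi hp hex
  rw [hlen, add_comm]

end Groth.Agent.S1734
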