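import Groth.Statements.S17754
import Mathlib

set_option autoImplicit false
universe u
open CAlg

namespace Groth.Agent.S17754

/-- Let R be a complete Noetherian local ring with maximal ideal m, and let I_0 ⊇ I_1 ⊇ I_2 ⊇ ⋯ be a
descending sequence of ideals of R whose intersection is zero. Then for every natural number n there
is an index s with I_s contained in m^n; that is, the filtration by the I_s is at least as fine as
the m-adic one. -/
theorem result (R : Type u) [CommRing R] [IsNoetherianRing R] [IsLocalRing R] [IsAdicComplete (IsLocalRing.maximalIdeal R) R] (I : ℕ → Ideal R) (hI : Antitone I) (hinf : ⨅ s, I s = ⊥) (n : ℕ) : ∃ s : ℕ, I s ≤ IsLocalRing.maximalIdeal R ^ n := by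
  classical
  rcases Nat.eq_zero_or_pos n with rfl | hnpos
  · exact ⟨0, by simp⟩
  -- Step 1: stabilisation of `I s ⊔ m ^ k`
  have hstab : ∀ k : ℕ, ∃ s0, ∀ s, s0 ≤ s →
      I s ⊔ IsLocalRing.maximalIdeal R ^ k = I s0 ⊔ IsLocalRing.maximalIdeal R ^ k := by
    intro k
    rcases Nat.eq_zero_or_pos k with rfl | hk
    · exact ⟨0, fun s _ => by simp⟩
    have hmin : IsLocalRing.maximalIdeal R ∈ (IsLocalRing.maximalIdeal R ^ k).minimalPrimes := by
      refine ⟨⟨(IsLocalRing.maximalIdeal.isMaximal R).isPrime, Ideal.pow_le_self hk.ne'⟩, ?_⟩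
      rintro q ⟨hq, hle⟩ _
      exact hq.le_of_pow_le hle
    have hArt : IsArtinianRing (R ⧸ IsLocalRing.maximalIdeal R ^ k) :=
      IsLocalRing.quotient_artinian_of_mem_minimalPrimes_of_isLocalRing _ hmin
    obtain ⟨s0, hs0⟩ := IsArtinian.monotone_stabilizes
      (R := R ⧸ IsLocalRing.maximalIdeal R ^ k) (M := R ⧸ IsLocalRing.maximalIdeal R ^ k)
      ⟨fun s => OrderDual.toDual ((I s).map (Ideal.Quotient.mk (IsLocalRing.maximalIdeal R ^ k))),
        fun a b h => Ideal.map_mono (hI h)⟩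
    refine ⟨s0, fun s hs => ?_⟩
    have h1 : (I s0).map (Ideal.Quotient.mk (IsLocalRing.maximalIdeal R ^ k)) =
        (I s).map (Ideal.Quotient.mk (IsLocalRing.maximalIdeal R ^ k)) := hs0 s hs
    have h2 : ∀ t, ((I t).map (Ideal.Quotient.mk (IsLocalRing.maximalIdeal R ^ k))).comap
        (Ideal.Quotient.mk (IsLocalRing.maximalIdeal R ^ k)) =
        I t ⊔ IsLocalRing.maximalIdeal R ^ k := by
      intro t
      rw [Ideal.comap_map_of_surjective _ Ideal.Quotient.mk_surjective, ← RingHom.ker_eq_comap_bot,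
        Ideal.mk_ker]
    rw [← h2 s, ← h2 s0, h1]
  choose s0 hs0 using hstab
  have hJstep : ∀ k, (I (s0 (k + 1)) ⊔ IsLocalRing.maximalIdeal R ^ (k + 1)) ⊔
      IsLocalRing.maximalIdeal R ^ k = I (s0 k) ⊔ IsLocalRing.maximalIdeal R ^ k := by
    intro k
    have h1 := hs0 (k + 1) (max (s0 k) (s0 (k + 1))) (le_max_right _ _)
    have h2 := hs0 k (max (s0 k) (s0 (k + 1))) (le_max_left _ _)
    have h3 : IsLocalRing.maximalIdeal R ^ (k + 1) ⊔ IsLocalRing.maximalIdeal R ^ k =
        IsLocalRing.maximalIdeal R ^ k :=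
      sup_eq_right.mpr (Ideal.pow_le_pow_right (Nat.le_succ k))
    rw [← h1, ← h2, sup_assoc, h3]
  by_contra hcon
  push Not at hcon
  obtain ⟨x0, hx0J, hx0m⟩ : ∃ x0 ∈ I (s0 n) ⊔ IsLocalRing.maximalIdeal R ^ n,
      x0 ∉ IsLocalRing.maximalIdeal R ^ n := by
    have h1 := hcon (s0 n)
    rw [SetLike.not_le_iff_exists] at h1
    obtain ⟨x, hx, hxm⟩ := h1
    exact ⟨x, Ideal.mem_sup_left hx, hxm⟩
  have hlift : ∀ k (x : R), x ∈ I (s0 (n + k)) ⊔ IsLocalRing.maximalIdeal R ^ (n + k) →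
      ∃ y ∈ I (s0 (n + k + 1)) ⊔ IsLocalRing.maximalIdeal R ^ (n + k + 1),
        y - x ∈ IsLocalRing.maximalIdeal R ^ (n + k) := by
    intro k x hx
    rw [← hJstep (n + k)] at hx
    obtain ⟨y, hy, z, hz, rfl⟩ := Submodule.mem_sup.mp hx
    refine ⟨y, hy, ?_⟩
    have h1 : y - (y + z) = -z := by ring
    rw [h1]
    exact (IsLocalRing.maximalIdeal R ^ (n + k)).neg_mem hz
  let X : (k : ℕ) → {x : R // x ∈ I (s0 (n + k)) ⊔ IsLocalRing.maximalIdeal R ^ (n + k)} :=
    fun k => Nat.rec (motive := fun k =>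
        {x : R // x ∈ I (s0 (n + k)) ⊔ IsLocalRing.maximalIdeal R ^ (n + k)}) ⟨x0, hx0J⟩
      (fun k xk => ⟨Classical.choose (hlift k xk.1 xk.2),
        (Classical.choose_spec (hlift k xk.1 xk.2)).1⟩) k
  have hXsucc : ∀ k, (X (k + 1)).1 - (X k).1 ∈ IsLocalRing.maximalIdeal R ^ (n + k) :=
    fun k => (Classical.choose_spec (hlift k (X k).1 (X k).2)).2
  have hX0 : (X 0).1 = x0 := rfl
  have hcauchy : ∀ a b, a ≤ b → (X b).1 - (X a).1 ∈ IsLocalRing.maximalIdeal R ^ (n + a) := by
    intro a b hab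
    induction b, hab using Nat.le_induction with
    | base => simp
    | succ b hab ih =>
      have h1 := hXsucc b
      have h2 : (X (b + 1)).1 - (X a).1 = ((X (b + 1)).1 - (X b).1) + ((X b).1 - (X a).1) := by ring
      rw [h2]
      exact add_mem (Ideal.pow_le_pow_right (by omega) h1) ih
  have hcomplete : IsPrecomplete (IsLocalRing.maximalIdeal R) R := inferInstance
  obtain ⟨L, hL⟩ := hcomplete.prec (f := fun k => (X k).1) (by
    intro a b hab
    rw [SModEq.sub_mem, smul_eq_mul, Ideal.mul_top]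
    have h1 := hcauchy a b hab
    have h2 : (X a).1 - (X b).1 = -((X b).1 - (X a).1) := by ring
    rw [h2]
    exact (IsLocalRing.maximalIdeal R ^ a).neg_mem (Ideal.pow_le_pow_right (by omega) h1))
  have hL' : ∀ k, (X k).1 - L ∈ IsLocalRing.maximalIdeal R ^ k := by
    intro k
    have h1 := hL k
    rw [SModEq.sub_mem, smul_eq_mul, Ideal.mul_top] at h1
    exact h1
  -- `L` agrees with `X k` modulo `m ^ (n + k)`
  have hLk : ∀ k, (X k).1 - L ∈ IsLocalRing.maximalIdeal R ^ (n + k) := by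
    intro k
    have h1 := hL' (n + k)
    have h2 := hcauchy k (n + k) (by omega)
    have h3 : (X k).1 - L = ((X (n + k)).1 - L) - ((X (n + k)).1 - (X k).1) := by ring
    rw [h3]
    exact sub_mem h1 h2
  -- `L` is not in `m ^ n`
  have hLn : L ∉ IsLocalRing.maximalIdeal R ^ n := by
    intro hLmem
    apply hx0m
    have h1 := hLk 0
    rw [hX0, add_zero] at h1
    have h2 : x0 = (x0 - L) + L := by ring
    rw [h2]
    exact add_mem h1 hLmem
  -- `L` lies in every `I s`
  have hLI : ∀ s, L ∈ I s := by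
    intro s
    have hmem : ∀ k, L ∈ I s ⊔ IsLocalRing.maximalIdeal R ^ k := by
      intro k
      have h1 : (X k).1 ∈ I (max s (s0 (n + k))) ⊔ IsLocalRing.maximalIdeal R ^ (n + k) := by
        rw [hs0 (n + k) (max s (s0 (n + k))) (le_max_right _ _)]
        exact (X k).2
      have h2 : I (max s (s0 (n + k))) ⊔ IsLocalRing.maximalIdeal R ^ (n + k) ≤
          I s ⊔ IsLocalRing.maximalIdeal R ^ k :=
        sup_le_sup (hI (le_max_left _ _)) (Ideal.pow_le_pow_right (by omega))
      have h3 : L = (X k).1 - ((X k).1 - L) := by ring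
      rw [h3]
      exact sub_mem (h2 h1) (Ideal.mem_sup_right (Ideal.pow_le_pow_right (by omega) (hLk k)))
    by_cases hIs : I s = ⊤
    · rw [hIs]
      trivial
    have hkrull := Ideal.iInf_pow_smul_eq_bot_of_isLocalRing (R := R) (M := R ⧸ I s)
      (IsLocalRing.maximalIdeal R) (IsLocalRing.maximalIdeal.isMaximal R).ne_top
    have hLbar : (Ideal.Quotient.mk (I s) L : R ⧸ I s) ∈
        (⨅ i : ℕ, IsLocalRing.maximalIdeal R ^ i • ⊤ : Submodule R (R ⧸ I s)) := by
      rw [Submodule.mem_iInf]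
      intro k
      obtain ⟨a, ha, b, hb, hab⟩ := Submodule.mem_sup.mp (hmem k)
      have h1 : (Ideal.Quotient.mk (I s) L : R ⧸ I s) = b • (1 : R ⧸ I s) := by
        rw [← hab, map_add, Ideal.Quotient.eq_zero_iff_mem.mpr ha, zero_add, Algebra.smul_def,
          mul_one]
        rfl
      rw [h1]
      exact Submodule.smul_mem_smul hb trivial
    rw [hkrull, Submodule.mem_bot, Ideal.Quotient.eq_zero_iff_mem] at hLbar
    exact hLbar
  have hL0 : L ∈ ⨅ s, I s := by
    rw [Ideal.mem_iInf]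
    exact hLI
  rw [hinf, Ideal.mem_bot] at hL0
  exact hLn (by rw [hL0]; exact zero_mem _)

end Groth.Agent.S17754
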