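import Groth.Statements.S1735
import Groth.Agent.S17754

set_option autoImplicit false
universe u
open LocCoh

namespace Groth.Agent.S1735

/-- Let A be a complete Noetherian local domain and p a prime ideal with dim(A/p) = 1. For every n ≥ 1
there is m ≥ n such that the m-th symbolic power of p (the contraction of p^m A_p to A) is contained
in p^n. -/
theorem result (A : Type u) [CommRing A] [IsDomain A] [IsLocalRing A] [IsNoetherianRing A] [IsAdicComplete (IsLocalRing.maximalIdeal A) A] (p : Ideal A) [p.IsPrime] (hp : ringKrullDim (A ⧸ p) = 1) (n : ℕ) (hn : 1 ≤ n) : ∃ m : ℕ, n ≤ m ∧ ((Ideal.map (algebraMap A (Localization.AtPrime p)) p) ^ m).comap (algebraMap A (Localization.AtPrime p)) ≤ p ^ n := by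
  classical
  set B := Localization.AtPrime p with hB
  set P : Ideal B := Ideal.map (algebraMap A B) p with hP
  have hPne : P ≠ ⊤ := by
    rw [hP, Localization.AtPrime.map_eq_maximalIdeal]
    exact Ideal.IsPrime.ne_top'
  have hinj : Function.Injective (algebraMap A B) :=
    IsLocalization.injective B (Ideal.primeCompl_le_nonZeroDivisors p)
  set S : ℕ → Ideal A := fun m => (P ^ m).comap (algebraMap A B) with hS
  have hanti : Antitone S := fun a b hab => Ideal.comap_mono (Ideal.pow_le_pow_right hab)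
  have hinf : ⨅ m, S m = ⊥ := by
    rw [eq_bot_iff]
    intro x hx
    rw [Ideal.mem_iInf] at hx
    have h1 : algebraMap A B x ∈ ⨅ m, P ^ m := by
      rw [Ideal.mem_iInf]
      exact fun m => hx m
    rw [Ideal.iInf_pow_eq_bot_of_isLocalRing P hPne, Ideal.mem_bot] at h1
    rw [Ideal.mem_bot]
    exact hinj (by rw [h1, map_zero])
  -- the colon ideal
  have hmem : ∀ x ∈ S n, ∃ s : A, s ∉ p ∧ s * x ∈ p ^ n := by
    intro x hx
    have hx' : algebraMap A B x ∈ (p ^ n).map (algebraMap A B) := by
      rw [Ideal.map_pow]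
      exact hx
    obtain ⟨s, hs, hsx⟩ := (IsLocalization.algebraMap_mem_map_algebraMap_iff p.primeCompl B _ _).mp hx'
    exact ⟨s, hs, hsx⟩
  obtain ⟨G, hG⟩ : (S n).FG := IsNoetherian.noetherian _
  have hGmem : ∀ g ∈ G, g ∈ S n := fun g hg => hG ▸ Submodule.subset_span hg
  choose! σ hσp hσ using hmem
  set s0 : A := ∏ g ∈ G, σ g with hs0
  have hs0p : s0 ∉ p := by
    rw [hs0, Ideal.IsPrime.prod_mem_iff]
    rintro ⟨g, hg, hgp⟩
    exact hσp g (hGmem g hg) hgp
  set c : Ideal A := (p ^ n).colon (S n : Set A) with hc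
  have hs0c : s0 ∈ c := by
    rw [hc, Submodule.mem_colon]
    have key : ∀ x ∈ Ideal.span (G : Set A), s0 • x ∈ p ^ n := by
      intro x hx'
      induction hx' using Submodule.span_induction with
      | mem g hg =>
        rw [hs0, ← Finset.mul_prod_erase G σ hg, smul_eq_mul, mul_comm (σ g), mul_assoc]
        exact Ideal.mul_mem_left _ _ (hσ g (hGmem g hg))
      | zero => rw [smul_zero]; exact Ideal.zero_mem _
      | add a b _ _ ha hb => rw [smul_add]; exact Ideal.add_mem _ ha hb
      | smul r a _ ha => rw [smul_comm]; exact Ideal.mul_mem_left _ _ ha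
    intro x hx
    exact key x (hG.symm ▸ hx)
  have hpnc : p ^ n ≤ c := by
    intro a ha
    rw [hc, Submodule.mem_colon]
    intro x _
    exact Ideal.mul_mem_right _ _ ha
  have hrad : IsLocalRing.maximalIdeal A ≤ c.radical := by
    rw [Ideal.radical_eq_sInf]
    refine le_sInf (fun Q hQ => ?_)
    obtain ⟨hcQ, hQprime⟩ := hQ
    have hpQ : p ≤ Q := hQprime.le_of_pow_le (hpnc.trans hcQ)
    have hQne : Q ≠ p := by
      rintro rfl
      exact hs0p (hcQ hs0c)
    have : Ring.KrullDimLE 1 (A ⧸ p) := Ring.krullDimLE_iff.mpr (by rw [hp]; rfl)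
    have hker : RingHom.ker (Ideal.Quotient.mk p) ≤ Q := by rwa [Ideal.mk_ker]
    have hmapprime : (Q.map (Ideal.Quotient.mk p)).IsPrime :=
      Ideal.map_isPrime_of_surjective Ideal.Quotient.mk_surjective hker
    have hmapne : Q.map (Ideal.Quotient.mk p) ≠ ⊥ := by
      intro h0
      apply hQne
      apply le_antisymm _ hpQ
      have h1 : Q ≤ (Q.map (Ideal.Quotient.mk p)).comap (Ideal.Quotient.mk p) := Ideal.le_comap_map
      rw [h0, ← RingHom.ker_eq_comap_bot, Ideal.mk_ker] at h1
      exact h1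
    have hmapmax : (Q.map (Ideal.Quotient.mk p)).IsMaximal := hmapprime.isMaximal_of_ne_bot hmapne
    have hQmax : Q.IsMaximal := by
      have h2 := Ideal.comap_isMaximal_of_surjective (Ideal.Quotient.mk p)
        Ideal.Quotient.mk_surjective (K := Q.map (Ideal.Quotient.mk p))
      rwa [Ideal.comap_map_of_surjective _ Ideal.Quotient.mk_surjective,
        ← RingHom.ker_eq_comap_bot, Ideal.mk_ker, sup_eq_left.mpr hpQ] at h2
    exact (IsLocalRing.eq_maximalIdeal hQmax).ge
  obtain ⟨k, hk⟩ := Ideal.exists_pow_le_of_le_radical_of_fg hrad (IsNoetherian.noetherian _)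
  obtain ⟨c0, hc0⟩ := Ideal.exists_pow_inf_eq_pow_smul (IsLocalRing.maximalIdeal A) (S n)
  obtain ⟨s, hs⟩ := Groth.Agent.S17754.result A S hanti hinf (c0 + k)
  refine ⟨max s n, le_max_right _ _, ?_⟩
  have h1 : S (max s n) ≤ IsLocalRing.maximalIdeal A ^ (c0 + k) • (⊤ : Submodule A A) ⊓ S n := by
    refine le_inf ?_ (hanti (le_max_right _ _))
    rw [Ideal.smul_top_eq_map, Algebra.algebraMap_self, Ideal.map_id]
    exact (hanti (le_max_left _ _)).trans hs
  refine h1.trans ?_
  rw [hc0 (c0 + k) (Nat.le_add_right _ _), Nat.add_sub_cancel_left]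
  rw [Submodule.smul_le]
  intro a ha x hx
  have hac : a ∈ c := hk ha
  rw [hc, Submodule.mem_colon] at hac
  exact hac x hx.2

end Groth.Agent.S1735
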