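import Groth.Statements.S17360
import Mathlib

set_option autoImplicit false
universe u
open scoped TensorProduct
open AzInv

namespace Groth.Agent.S17360


open TensorProduct

section Aux

theorem fix_rank {S' : Type*} [CommRing S'] [Nontrivial S'] {α : Type*} [Fintype α]
    [DecidableEq α]
    {V : Type*} [AddCommGroup V] [Module S' V] (h2 : IsUnit (2 : S'))
    (b : Module.Basis α S' V) (T : V →ₗ[S'] V) (π : α → α) (hπ : Function.Involutive π)
    (ε : α → S') (hε : ∀ a, ε a = 1 ∨ ε a = -1) (hεπ : ∀ a, ε (π a) = ε a)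
    (hT : ∀ a, T (b a) = ε a • b (π a)) (Fm Fp : Finset α)
    (hFm : ∀ a, a ∈ Fm ↔ (π a = a ∧ ε a = -1)) (hFp : ∀ a, a ∈ Fp ↔ (π a = a ∧ ε a = 1)) :
    2 * Module.finrank S' (LinearMap.ker (T - 1)) + Fm.card = Fintype.card α + Fp.card := by
  classical
  have hne : (-1 : S') ≠ 1 := by
    intro h
    have h0 : (2 : S') = 0 := by
      have h1 : (2 : S') = 1 - (-1) := by ring
      rw [h1, h, sub_self]
    rw [h0] at h2
    exact not_isUnit_zero h2
  have hεsq : ∀ a, ε a * ε a = 1 := by
    intro a; rcases hε a with h | h <;> rw [h] <;> ring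
  have hrepr : ∀ (x : V) (a : α), b.repr (T x) a = ε a * b.repr x (π a) := by
    intro x a
    have hlin : (Finsupp.lapply a ∘ₗ b.repr.toLinearMap ∘ₗ T) =
        (ε a) • (Finsupp.lapply (π a) ∘ₗ b.repr.toLinearMap) := by
      apply b.ext
      intro a'
      simp only [LinearMap.comp_apply, LinearEquiv.coe_coe, Finsupp.lapply_apply,
        LinearMap.smul_apply, hT, map_smul, Finsupp.smul_apply, Module.Basis.repr_self, smul_eq_mul]
      rw [Finsupp.single_apply, Finsupp.single_apply]
      by_cases h : π a' = a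
      · have h' : a' = π a := by rw [← h, hπ a']
        rw [if_pos h, if_pos h', mul_one, mul_one, ← h, hεπ]
      · have h' : ¬ a' = π a := fun h' => h (by rw [h', hπ a])
        rw [if_neg h, if_neg h', mul_zero, mul_zero]
    have := LinearMap.congr_fun hlin x
    simpa only [LinearMap.comp_apply, LinearEquiv.coe_coe, Finsupp.lapply_apply,
        LinearMap.smul_apply, smul_eq_mul] using this
  have hker : ∀ x : V, x ∈ LinearMap.ker (T - 1) ↔
      ∀ a, b.repr x a = ε a * b.repr x (π a) := by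
    intro x
    rw [LinearMap.mem_ker, LinearMap.sub_apply, Module.End.one_apply, sub_eq_zero]
    constructor
    · intro h a
      rw [← hrepr, h]
    · intro h
      apply b.repr.injective
      ext a
      rw [hrepr, ← h a]
  obtain ⟨e₀⟩ : Nonempty (α ≃ Fin (Fintype.card α)) := ⟨Fintype.equivFin α⟩
  obtain ⟨P, hPdef⟩ : ∃ P : α → Prop, ∀ a, P a ↔ (e₀ a < e₀ (π a) ∨ (π a = a ∧ ε a = 1)) :=
    ⟨_, fun _ => Iff.rfl⟩
  haveI : DecidablePred P := fun a => decidable_of_iff _ (hPdef a).symm
  let ρ : LinearMap.ker (T - 1) →ₗ[S'] ({a // P a} → S') :=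
    LinearMap.pi (fun d =>
      Finsupp.lapply d.1 ∘ₗ b.repr.toLinearMap ∘ₗ (LinearMap.ker (T - 1)).subtype)
  have hρ : ∀ (x : LinearMap.ker (T - 1)) (d : {a // P a}), ρ x d = b.repr x.1 d.1 :=
    fun x d => rfl
  have hinj : Function.Injective ρ := by
    rw [← LinearMap.ker_eq_bot, LinearMap.ker_eq_bot']
    intro x hx
    have hc := (hker x.1).1 x.2
    have hD : ∀ a, P a → b.repr x.1 a = 0 := fun a ha => by
      have := congrFun hx ⟨a, ha⟩
      rwa [hρ] at this
    have hx0 : b.repr x.1 = 0 := by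
      ext a
      rw [Finsupp.zero_apply]
      rcases lt_trichotomy (e₀ a) (e₀ (π a)) with h | h | h
      · exact hD a ((hPdef a).2 (Or.inl h))
      · have ha : π a = a := (e₀.injective h).symm
        rcases hε a with h1 | h1
        · exact hD a ((hPdef a).2 (Or.inr ⟨ha, h1⟩))
        · have := hc a
          rw [ha, h1] at this
          have h2c : (2 : S') * b.repr x.1 a = 0 := by
            linear_combination this
          exact (h2.mul_right_eq_zero).1 h2c
      · have hπa : P (π a) := (hPdef _).2 (Or.inl (by rw [hπ a]; exact h))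
        rw [hc a, hD (π a) hπa, mul_zero]
    exact Subtype.ext (by simpa using hx0)
  have hsurj : Function.Surjective ρ := by
    intro d
    obtain ⟨d', hd'⟩ : ∃ d' : α → S', ∀ a, d' a = if h : P a then d ⟨a, h⟩ else 0 := ⟨_, fun _ => rfl⟩
    obtain ⟨c, hcdef⟩ : ∃ c : α → S', ∀ a, c a = if e₀ (π a) < e₀ a then ε a * d' (π a) else d' a :=
      ⟨_, fun _ => rfl⟩
    have hc : ∀ a, c a = ε a * c (π a) := by
      intro a
      by_cases h1 : e₀ (π a) < e₀ a
      · have h2' : ¬ e₀ (π (π a)) < e₀ (π a) := by rw [hπ a]; exact not_lt.2 h1.le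
        rw [hcdef a, hcdef (π a), if_pos h1, if_neg h2']
      · by_cases h3 : e₀ a < e₀ (π a)
        · have h3' : e₀ (π (π a)) < e₀ (π a) := by rw [hπ a]; exact h3
          rw [hcdef a, hcdef (π a), if_neg h1, if_pos h3', hπ a, hεπ, ← mul_assoc, hεsq, one_mul]
        · have ha : π a = a :=
            (e₀.injective (le_antisymm (not_lt.1 h1) (not_lt.1 h3))).symm
          have h3' : ¬ e₀ (π (π a)) < e₀ (π a) := by rw [hπ a]; exact h3
          rw [hcdef a, hcdef (π a), if_neg h1, if_neg h3', ha]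
          rcases hε a with h | h
          · rw [h, one_mul]
          · have hnP : ¬ P a := by
              rw [hPdef]
              rintro (hP | ⟨_, hP⟩)
              · exact h3 hP
              · rw [h] at hP; exact hne hP
            rw [hd' a, dif_neg hnP, mul_zero]
    obtain ⟨x, hxdef⟩ : ∃ x : V, x = b.equivFun.symm c := ⟨_, rfl⟩
    have hx : ∀ a, b.repr x a = c a := fun a => by
      have h := b.equivFun.apply_symm_apply c
      rw [Module.Basis.equivFun_apply, ← hxdef] at h
      exact congrFun h a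
    have hxk : x ∈ LinearMap.ker (T - 1) := (hker x).2 (fun a => by rw [hx, hx]; exact hc a)
    refine ⟨⟨x, hxk⟩, ?_⟩
    funext dd
    rw [hρ]
    show b.repr x dd.1 = d dd
    rw [hx]
    obtain ⟨a, ha⟩ := dd
    have h1 : ¬ e₀ (π a) < e₀ a := by
      rcases (hPdef a).1 ha with h | ⟨h, _⟩
      · exact not_lt.2 h.le
      · rw [h]; exact lt_irrefl _
    show c a = d ⟨a, ha⟩
    rw [hcdef a, if_neg h1, hd' a, dif_pos ha]
  have hfin : Module.finrank S' (LinearMap.ker (T - 1)) = Fintype.card {a // P a} := by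
    rw [LinearEquiv.finrank_eq (LinearEquiv.ofBijective ρ ⟨hinj, hsurj⟩),
      Module.finrank_fintype_fun_eq_card]
  have hfin2 : Fintype.card {a // P a} = (Finset.univ.filter P).card :=
    Fintype.card_of_subtype _ (fun x => by simp)
  rw [hfin, hfin2]
  have hAB : (Finset.univ.filter (fun a => e₀ a < e₀ (π a))).card =
      (Finset.univ.filter (fun a => e₀ (π a) < e₀ a)).card := by
    apply Finset.card_nbij' π π
    · intro a ha
      simp only [Finset.coe_filter, Finset.mem_univ, true_and, Set.mem_setOf_eq] at ha ⊢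
      rw [hπ a]; exact ha
    · intro a ha
      simp only [Finset.coe_filter, Finset.mem_univ, true_and, Set.mem_setOf_eq] at ha ⊢
      rw [hπ a]; exact ha
    · intro a _; exact hπ a
    · intro a _; exact hπ a
  have hP : (Finset.univ.filter P).card =
      (Finset.univ.filter (fun a => e₀ a < e₀ (π a))).card +
        (Finset.univ.filter (fun a => π a = a ∧ ε a = 1)).card := by
    rw [Finset.card_filter, Finset.card_filter, Finset.card_filter, ← Finset.sum_add_distrib]
    apply Finset.sum_congr rfl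
    intro a _
    by_cases h1 : e₀ a < e₀ (π a)
    · have h2' : ¬ (π a = a ∧ ε a = 1) := fun h => by rw [h.1] at h1; exact lt_irrefl _ h1
      rw [if_pos ((hPdef a).2 (Or.inl h1)), if_pos h1, if_neg h2']
    · by_cases h2' : π a = a ∧ ε a = 1
      · rw [if_pos ((hPdef a).2 (Or.inr h2')), if_neg h1, if_pos h2']
      · rw [if_neg (fun h => ((hPdef a).1 h).elim h1 h2'), if_neg h1, if_neg h2']
  have hall : (Finset.univ : Finset α).card =
      (Finset.univ.filter (fun a => e₀ a < e₀ (π a))).card +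
      (Finset.univ.filter (fun a => e₀ (π a) < e₀ a)).card +
      (Finset.univ.filter (fun a => π a = a ∧ ε a = 1)).card +
      (Finset.univ.filter (fun a => π a = a ∧ ε a = -1)).card := by
    rw [Finset.card_eq_sum_ones, Finset.card_filter, Finset.card_filter,
      Finset.card_filter, Finset.card_filter, ← Finset.sum_add_distrib, ← Finset.sum_add_distrib,
      ← Finset.sum_add_distrib]
    apply Finset.sum_congr rfl
    intro a _
    rcases lt_trichotomy (e₀ a) (e₀ (π a)) with h | h | h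
    · have hn1 : ¬ e₀ (π a) < e₀ a := not_lt.2 h.le
      have hn2 : ¬ (π a = a ∧ ε a = 1) := fun h' => by rw [h'.1] at h; exact lt_irrefl _ h
      have hn3 : ¬ (π a = a ∧ ε a = -1) := fun h' => by rw [h'.1] at h; exact lt_irrefl _ h
      rw [if_pos h, if_neg hn1, if_neg hn2, if_neg hn3]
    · have ha : π a = a := (e₀.injective h).symm
      have hn0 : ¬ e₀ a < e₀ (π a) := by rw [← h]; exact lt_irrefl _
      have hn1 : ¬ e₀ (π a) < e₀ a := by rw [← h]; exact lt_irrefl _
      rcases hε a with h1 | h1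
      · have hn3 : ¬ (π a = a ∧ ε a = -1) := fun h' => hne (h'.2.symm.trans h1)
        rw [if_neg hn0, if_neg hn1, if_pos ⟨ha, h1⟩, if_neg hn3]
      · have hn2 : ¬ (π a = a ∧ ε a = 1) := fun h' => hne (h1.symm.trans h'.2)
        rw [if_neg hn0, if_neg hn1, if_neg hn2, if_pos ⟨ha, h1⟩]
    · have hn0 : ¬ e₀ a < e₀ (π a) := not_lt.2 h.le
      have hn2 : ¬ (π a = a ∧ ε a = 1) := fun h' => by rw [h'.1] at h; exact lt_irrefl _ h
      have hn3 : ¬ (π a = a ∧ ε a = -1) := fun h' => by rw [h'.1] at h; exact lt_irrefl _ h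
      rw [if_neg hn0, if_pos h, if_neg hn2, if_neg hn3]
  have hFm' : Finset.univ.filter (fun a => π a = a ∧ ε a = -1) = Fm := by
    ext a; rw [Finset.mem_filter, hFm]; simp
  have hFp' : Finset.univ.filter (fun a => π a = a ∧ ε a = 1) = Fp := by
    ext a; rw [Finset.mem_filter, hFp]; simp
  rw [hFm', hFp', Finset.card_univ] at hall
  rw [hFp'] at hP
  omega

theorem sigma_single (R : Type*) [CommRing R] (a b : Fin 2) :
    (Matrix.of ![![0, -1], ![1, 0]] : Matrix (Fin 2) (Fin 2) R) * (Matrix.single a b (1 : R)).transpose *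
      (Matrix.of ![![0, 1], ![-1, 0]] : Matrix (Fin 2) (Fin 2) R)
      = (if a = b then (1 : R) else -1) • Matrix.single b.rev a.rev (1 : R) := by
  ext k l
  simp only [Matrix.mul_apply, Fin.sum_univ_two, Matrix.smul_apply, Matrix.transpose_apply,
    Matrix.single_apply, Matrix.of_apply, smul_eq_mul]
  fin_cases a <;> fin_cases b <;> fin_cases k <;> fin_cases l <;> simp [Fin.rev]

theorem side1 {R : Type u} [CommRing R]
    (hlam : ∀ r : R, (AlgEquiv.refl : R ≃ₐ[R] R) ((AlgEquiv.refl : R ≃ₐ[R] R) r) = r)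
    (S' : Type u) [CommRing S'] [Algebra R S'] (n : ℕ) (p : Fin n × Fin n) :
    ((AzInv.LamInv.self (AlgEquiv.refl : R ≃ₐ[R] R) hlam).matrix (Fin n)).bc R
        (AlgEquiv.refl : R ≃ₐ[R] R) S'
      (((Matrix.stdBasis R (Fin n) (Fin n)).baseChange S') p)
    = (1 : S') • (((Matrix.stdBasis R (Fin n) (Fin n)).baseChange S') p.swap) := by
  obtain ⟨i, j⟩ := p
  rw [one_smul, Module.Basis.baseChange_apply, Module.Basis.baseChange_apply,
    AzInv.LamInv.bc_tmul, Prod.swap_prod_mk, Matrix.stdBasis_eq_single, Matrix.stdBasis_eq_single]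
  congr 1
  apply Matrix.ext; intro k l
  rw [AzInv.LamInv.matrix_apply, AzInv.LamInv.self_apply, Matrix.single_apply, Matrix.single_apply]
  by_cases h : i = l ∧ j = k
  · rw [if_pos h, if_pos ⟨h.2, h.1⟩]; rfl
  · rw [if_neg h, if_neg (fun h' => h ⟨h'.2, h'.1⟩)]; rfl

theorem side2 {R : Type u} [CommRing R]
    (hlam : ∀ r : R, (AlgEquiv.refl : R ≃ₐ[R] R) ((AlgEquiv.refl : R ≃ₐ[R] R) r) = r)
    (J : (Matrix (Fin 2) (Fin 2) R)ˣ)
    (hJ : (↑J : Matrix (Fin 2) (Fin 2) R) = Matrix.of ![![0, -1], ![1, 0]])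
    (hJt : AzInv.LamInv.transpose (AlgEquiv.refl : R ≃ₐ[R] R) (Fin 2) hlam
      (↑J : Matrix (Fin 2) (Fin 2) R) = (-1 : R) • (↑J : Matrix (Fin 2) (Fin 2) R))
    (hneg : (AlgEquiv.refl : R ≃ₐ[R] R) (-1) * (-1) = 1)
    (S' : Type u) [CommRing S'] [Algebra R S'] (n' : ℕ) (i j : Fin n') (a b : Fin 2) :
    (((AzInv.LamInv.transpose (AlgEquiv.refl : R ≃ₐ[R] R) (Fin 2) hlam).conj J (-1) hJt
        hneg).matrix (Fin n')).bc R (AlgEquiv.refl : R ≃ₐ[R] R) S'
      ((((Matrix.stdBasis R (Fin 2) (Fin 2)).matrix (Fin n') (Fin n')).baseChange S') (i, j, (a, b)))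
    = (if a = b then (1 : S') else -1) •
      ((((Matrix.stdBasis R (Fin 2) (Fin 2)).matrix (Fin n') (Fin n')).baseChange S')
        (j, i, (b.rev, a.rev))) := by
  have hJinv : ((J⁻¹ : (Matrix (Fin 2) (Fin 2) R)ˣ) : Matrix (Fin 2) (Fin 2) R) =
      Matrix.of ![![0, 1], ![-1, 0]] := by
    have h1 : (↑J : Matrix (Fin 2) (Fin 2) R) * Matrix.of ![![0, 1], ![-1, 0]] = 1 := by
      rw [hJ]; ext k l; fin_cases k <;> fin_cases l <;> simp [Matrix.mul_apply, Fin.sum_univ_two]
    exact Units.inv_eq_of_mul_eq_one_right h1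
  have hcore : ((AzInv.LamInv.transpose (AlgEquiv.refl : R ≃ₐ[R] R) (Fin 2) hlam).conj J (-1) hJt
        hneg) (Matrix.single a b (1 : R))
       = (if a = b then (1 : R) else -1) • Matrix.single b.rev a.rev (1 : R) := by
    rw [AzInv.LamInv.conj_apply, hJ, hJinv, ← sigma_single]
    congr 2
  have hmat : (((AzInv.LamInv.transpose (AlgEquiv.refl : R ≃ₐ[R] R) (Fin 2) hlam).conj J (-1) hJt
        hneg).matrix (Fin n')) (Matrix.single i j (Matrix.single a b (1 : R)))
       = (if a = b then (1 : R) else -1) •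
          Matrix.single j i (Matrix.single b.rev a.rev (1 : R)) := by
    apply Matrix.ext; intro k l
    rw [AzInv.LamInv.matrix_apply, Matrix.smul_apply, Matrix.single_apply, Matrix.single_apply]
    by_cases h : i = l ∧ j = k
    · rw [if_pos h, if_pos (show j = k ∧ i = l from ⟨h.2, h.1⟩), hcore]
    · rw [if_neg h, if_neg (show ¬ (j = k ∧ i = l) from fun h' => h ⟨h'.2, h'.1⟩),
        AzInv.LamInv.map_zero, smul_zero]
  rw [Module.Basis.baseChange_apply, Module.Basis.baseChange_apply, AzInv.LamInv.bc_tmul,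
    Module.Basis.matrix_apply, Module.Basis.matrix_apply, Matrix.stdBasis_eq_single,
    Matrix.stdBasis_eq_single, hmat]
  by_cases hab : a = b
  · rw [if_pos hab, if_pos hab, one_smul, one_smul]
  · rw [if_neg hab, if_neg hab, neg_one_smul, TensorProduct.tmul_neg]
    exact (neg_one_smul S' _).symm

end Aux


/-- Let `R` be a nontrivial commutative ring in which `2` is a unit, with the trivial involution. This
row states the second half of the count of types: the identity of `R` (the orthogonal type) and the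
standard symplectic involution `x ↦ J xᵀ J⁻¹` of the `2 × 2` matrix algebra, `J` the matrix with
rows `(0, -1)` and `(1, 0)`, do not have the same type, i.e. for no positive sizes do the matrix
algebras over `R` with the transpose and over `M_2(R)` with the involution induced by the symplectic
one become isomorphic as `R`-algebras with involution after an etale faithfully flat base change of
`R`. (The source states that the monoid of types is isomorphic to the group of global square roots
of `1`, for a locally ringed topos with trivial involution and `2` invertible; the row is the affine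
case.) -/
theorem result (R : Type u) [CommRing R] (hlam : ∀ r : R, (AlgEquiv.refl : R ≃ₐ[R] R) ((AlgEquiv.refl : R ≃ₐ[R] R) r) = r)
    [Nontrivial R] (h2 : IsUnit (2 : R))
    (J : (Matrix (Fin 2) (Fin 2) R)ˣ) (hJ : (↑J : Matrix (Fin 2) (Fin 2) R) = Matrix.of ![![0, -1], ![1, 0]])
    (hJt : AzInv.LamInv.transpose (AlgEquiv.refl : R ≃ₐ[R] R) (Fin 2) hlam (↑J : Matrix (Fin 2) (Fin 2) R) = (-1 : R) • (↑J : Matrix (Fin 2) (Fin 2) R))
    (hneg : (AlgEquiv.refl : R ≃ₐ[R] R) (-1) * (-1) = 1) :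
    ¬ AzInv.SameType R (AlgEquiv.refl : R ≃ₐ[R] R) (AzInv.LamInv.self (AlgEquiv.refl : R ≃ₐ[R] R) hlam) ((AzInv.LamInv.transpose (AlgEquiv.refl : R ≃ₐ[R] R) (Fin 2) hlam).conj J (-1) hJt hneg) := by
  rintro ⟨n, n', hn, hn', S', _, _, _, hff, f, -, hf⟩
  classical
  haveI : Nontrivial S' := by
    by_contra hnt
    rw [not_nontrivial_iff_subsingleton] at hnt
    obtain ⟨m, hm⟩ := Ideal.exists_maximal R
    refine hff.submodule_ne_top hm ?_
    rw [Submodule.eq_top_iff']
    intro x
    rw [Subsingleton.elim x 0]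
    exact zero_mem _
  have h2' : IsUnit (2 : S') := by
    have := h2.map (algebraMap R S')
    rwa [map_ofNat] at this
  have hne : (-1 : S') ≠ 1 := by
    intro h
    have h0 : (2 : S') = 0 := by
      have h1 : (2 : S') = 1 - (-1) := by ring
      rw [h1, h, sub_self]
    rw [h0] at h2'
    exact not_isUnit_zero h2'
  obtain ⟨b₁, hb₁⟩ : ∃ b₁, b₁ = (Matrix.stdBasis R (Fin n) (Fin n)).baseChange S' := ⟨_, rfl⟩
  obtain ⟨b₂, hb₂⟩ : ∃ b₂, b₂ =
      ((Matrix.stdBasis R (Fin 2) (Fin 2)).matrix (Fin n') (Fin n')).baseChange S' := ⟨_, rfl⟩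
  obtain ⟨T₁, hT₁def⟩ : ∃ T₁, T₁ =
      ((AzInv.LamInv.self (AlgEquiv.refl : R ≃ₐ[R] R) hlam).matrix (Fin n)).bc R
        (AlgEquiv.refl : R ≃ₐ[R] R) S' := ⟨_, rfl⟩
  obtain ⟨T₂, hT₂def⟩ : ∃ T₂, T₂ =
      (((AzInv.LamInv.transpose (AlgEquiv.refl : R ≃ₐ[R] R) (Fin 2) hlam).conj J (-1) hJt
        hneg).matrix (Fin n')).bc R (AlgEquiv.refl : R ≃ₐ[R] R) S' := ⟨_, rfl⟩
  have hT₁ : ∀ p, T₁ (b₁ p) = (fun _ => (1 : S')) p • b₁ (Prod.swap p) := by
    intro p; rw [hT₁def, hb₁]; exact side1 hlam S' n p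
  have hT₂ : ∀ x : Fin n' × Fin n' × (Fin 2 × Fin 2), T₂ (b₂ x) =
      (fun x : Fin n' × Fin n' × (Fin 2 × Fin 2) =>
        if x.2.2.1 = x.2.2.2 then (1 : S') else -1) x •
        b₂ ((fun x : Fin n' × Fin n' × (Fin 2 × Fin 2) =>
          (x.2.1, x.1, (x.2.2.2.rev, x.2.2.1.rev))) x) := by
    rintro ⟨i, j, a, b⟩; rw [hT₂def, hb₂]; exact side2 hlam J hJ hJt hneg S' n' i j a b
  obtain ⟨Fp₁, hFp₁def⟩ : ∃ Fp₁ : Finset (Fin n × Fin n),
      Fp₁ = Finset.univ.filter (fun a : Fin n × Fin n => Prod.swap a = a) := ⟨_, rfl⟩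
  have hF1p : 1 ≤ Fp₁.card := by
    rw [Nat.one_le_iff_ne_zero, ← Nat.pos_iff_ne_zero, Finset.card_pos]
    exact ⟨(⟨0, hn⟩, ⟨0, hn⟩), by rw [hFp₁def]; exact Finset.mem_filter.2 ⟨Finset.mem_univ _, rfl⟩⟩
  have E1 := fix_rank h2' b₁ T₁ Prod.swap (fun x => Prod.swap_swap x) (fun _ => (1 : S'))
    (fun _ => Or.inl rfl) (fun _ => rfl) hT₁ ∅ Fp₁
    (fun a => by
      constructor
      · intro h; simp at h
      · rintro ⟨_, h⟩; exact absurd h.symm hne)
    (fun a => by
      rw [hFp₁def, Finset.mem_filter]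
      constructor
      · rintro ⟨_, h⟩; exact ⟨h, rfl⟩
      · rintro ⟨h, _⟩; exact ⟨Finset.mem_univ _, h⟩)
  obtain ⟨Fm₂, hFm₂def⟩ : ∃ Fm₂ : Finset (Fin n' × Fin n' × (Fin 2 × Fin 2)),
      Fm₂ = Finset.univ.filter (fun x : Fin n' × Fin n' × (Fin 2 × Fin 2) =>
        (x.2.1, x.1, (x.2.2.2.rev, x.2.2.1.rev)) = x ∧
          (if x.2.2.1 = x.2.2.2 then (1 : S') else -1) = -1) := ⟨_, rfl⟩
  have E2 := fix_rank h2' b₂ T₂
    (fun x : Fin n' × Fin n' × (Fin 2 × Fin 2) => (x.2.1, x.1, (x.2.2.2.rev, x.2.2.1.rev)))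
    (by rintro ⟨i, j, a, b⟩; simp [Fin.rev_rev])
    (fun x : Fin n' × Fin n' × (Fin 2 × Fin 2) => if x.2.2.1 = x.2.2.2 then (1 : S') else -1)
    (by
      rintro ⟨i, j, a, b⟩
      by_cases h : a = b
      · left; exact if_pos h
      · right; exact if_neg h)
    (by
      rintro ⟨i, j, a, b⟩
      by_cases h : a = b
      · subst h; simp
      · have h' : ¬ b.rev = a.rev := fun h' => h (Fin.rev_injective h').symm
        show (if b.rev = a.rev then (1 : S') else -1) = if a = b then (1 : S') else -1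
        rw [if_neg h, if_neg h'])
    hT₂ Fm₂ ∅
    (fun x => by
      rw [hFm₂def, Finset.mem_filter]
      constructor
      · rintro ⟨_, h⟩; exact h
      · intro h; exact ⟨Finset.mem_univ _, h⟩)
    (fun x => by
      constructor
      · intro h; simp at h
      · obtain ⟨i, j, a, b⟩ := x
        rintro ⟨h1, h2c⟩
        exfalso
        simp only [Prod.mk.injEq] at h1
        obtain ⟨-, -, hb, -⟩ := h1
        by_cases hab : a = b
        · subst hab
          have hb' := congrArg Fin.val hb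
          rw [Fin.val_rev] at hb'
          have := a.isLt
          omega
        · have h2d : (if a = b then (1 : S') else -1) = 1 := h2c
          rw [if_neg hab] at h2d
          exact hne h2d)
  rw [Finset.card_empty] at E1 E2
  -- the equivalence
  obtain ⟨e, he0⟩ : ∃ e : (S' ⊗[R] Matrix (Fin n) (Fin n) R) ≃ₗ[S']
      (S' ⊗[R] Matrix (Fin n') (Fin n') (Matrix (Fin 2) (Fin 2) R)), ∀ x, e x = f x :=
    ⟨f.toLinearEquiv, fun _ => rfl⟩
  have he : ∀ x, e (T₁ x) = T₂ (e x) := by
    intro x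
    rw [he0, he0, hT₁def, hT₂def]
    exact hf x
  have hcard : Fintype.card (Fin n × Fin n) = Fintype.card (Fin n' × Fin n' × (Fin 2 × Fin 2)) := by
    rw [← Module.finrank_eq_card_basis b₁, ← Module.finrank_eq_card_basis b₂]
    exact e.finrank_eq
  have hmap : (LinearMap.ker (T₁ - 1)).map (e : _ →ₗ[S'] _) = LinearMap.ker (T₂ - 1) := by
    ext y
    simp only [Submodule.mem_map, LinearMap.mem_ker, LinearMap.sub_apply, Module.End.one_apply,
      sub_eq_zero]
    constructor
    · rintro ⟨x, hx, rfl⟩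
      rw [LinearEquiv.coe_coe, ← he, hx]
    · intro hy
      refine ⟨e.symm y, ?_, by simp⟩
      apply e.injective
      rw [he, e.apply_symm_apply, hy]
  have hr : Module.finrank S' (LinearMap.ker (T₁ - 1)) =
      Module.finrank S' (LinearMap.ker (T₂ - 1)) := by
    rw [← hmap]; exact (e.submoduleMap _).finrank_eq
  omega

end Groth.Agent.S17360
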