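import Groth.Statements.S1737
import Groth.Agent.H29.Pure

set_option autoImplicit false
universe u
open LocCoh

namespace Groth.Agent.S1737

/-- Let A be a Noetherian ring, T ⊆ Spec A stable under specialization and M a finite A-module. There
are a finite A-module M' and a surjection M → M' which is bijective after localizing at every prime
outside T and such that M'_p has depth ≥ 1 over A_p for every p in T. (The source states this for
coherent modules on a Noetherian scheme, with uniqueness.) -/
theorem result (A : Type u) [CommRing A] [IsNoetherianRing A] (T : Set (PrimeSpectrum A)) (hT : StableUnderSpecialization T) (M : Type u) [AddCommGroup M] [Module A M] [Module.Finite A M] : ∃ (M' : Type u) (_ : AddCommGroup M') (_ : Module A M') (_ : Module.Finite A M') (f : M →ₗ[A] M'), Function.Surjective f ∧ (∀ p : PrimeSpectrum A, p ∉ T → Function.Bijective (LocalizedModule.map p.asIdeal.primeCompl f)) ∧ ∀ p : PrimeSpectrum A, p ∈ T → 1 ≤ LocCoh.depth (Localization.AtPrime p.asIdeal) (LocalizedModule p.asIdeal.primeCompl M') := by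
  classical
  let N : Submodule A M :=
    { carrier := {m | ∀ p : PrimeSpectrum A, p ∉ T → ∃ t : A, t ∉ p.asIdeal ∧ t • m = 0}
      add_mem' := by
        intro a b ha hb p hp
        obtain ⟨t₁, ht₁, h₁⟩ := ha p hp
        obtain ⟨t₂, ht₂, h₂⟩ := hb p hp
        refine ⟨t₁ * t₂, fun h => (p.isPrime.mem_or_mem h).elim ht₁ ht₂, ?_⟩
        rw [smul_add, mul_smul t₁ t₂ b, h₂, smul_zero, mul_comm, mul_smul t₂ t₁ a, h₁, smul_zero, add_zero]
      zero_mem' := fun p _ => ⟨1, p.isPrime.one_notMem, smul_zero _⟩
      smul_mem' := by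
        intro c a ha p hp
        obtain ⟨t, ht, h⟩ := ha p hp
        exact ⟨t, ht, by rw [smul_comm, h, smul_zero]⟩ }
  have hN : ∀ m : M, m ∈ N ↔ ∀ p : PrimeSpectrum A, p ∉ T →
      ∃ t : A, t ∉ p.asIdeal ∧ t • m = 0 := fun m => Iff.rfl
  refine ⟨M ⧸ N, inferInstance, inferInstance, inferInstance, N.mkQ, N.mkQ_surjective, ?_, ?_⟩
  · intro p hp
    constructor
    · rw [injective_iff_map_eq_zero]
      intro z hz
      induction z using LocalizedModule.induction_on with
      | h m s =>
        rw [LocalizedModule.map_mk, ← LocalizedModule.zero_mk 1, LocalizedModule.mk_eq] at hz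
        obtain ⟨u, hu⟩ := hz
        simp only [smul_zero, one_smul] at hu
        have hu' : (u : A) • m ∈ N := by
          rw [← Submodule.Quotient.mk_eq_zero, Submodule.Quotient.mk_smul]
          exact hu
        obtain ⟨t, ht, htm⟩ := (hN _).mp hu' p hp
        rw [← LocalizedModule.zero_mk 1, LocalizedModule.mk_eq]
        refine ⟨⟨t * u, p.asIdeal.primeCompl.mul_mem ht u.2⟩, ?_⟩
        simp only [smul_zero, one_smul]
        show (t * (u : A)) • m = 0
        rw [mul_smul]
        exact htm
    · intro z'
      induction z' using LocalizedModule.induction_on with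
      | h m' s =>
        obtain ⟨m, rfl⟩ := N.mkQ_surjective m'
        exact ⟨LocalizedModule.mk m s, LocalizedModule.map_mk _ _ _ _⟩
  · have h : ∀ p : PrimeSpectrum A, p.asIdeal ∈ associatedPrimes A (M ⧸ N) → p ∉ T := by
      intro p hpass hpT
      obtain ⟨hpp, n, hn⟩ := isAssociatedPrime_iff.mp hpass
      obtain ⟨m, rfl⟩ := N.mkQ_surjective n
      have hmem : ∀ a : A, a ∈ p.asIdeal ↔ a • (N.mkQ m) = 0 := fun a => by
        rw [hn, Submodule.mem_colon_singleton, Submodule.mem_bot]
      have hmN : m ∈ N := by
        rw [hN]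
        intro q hq
        have hnle : ¬ p.asIdeal ≤ q.asIdeal := by
          intro hle
          have hpq : p ≤ q := (PrimeSpectrum.asIdeal_le_asIdeal p q).mp hle
          exact hq (hT ((PrimeSpectrum.le_iff_specializes p q).mp hpq) hpT)
        obtain ⟨s, hsp, hsq⟩ := SetLike.not_le_iff_exists.mp hnle
        have h1 : s • m ∈ N := by
          have := (hmem s).mp hsp
          rw [Submodule.mkQ_apply, ← Submodule.Quotient.mk_smul,
            Submodule.Quotient.mk_eq_zero] at this
          exact this
        obtain ⟨t, ht, htm⟩ := (hN _).mp h1 q hq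
        exact ⟨t * s, fun h => (q.isPrime.mem_or_mem h).elim ht hsq, by rw [mul_smul]; exact htm⟩
      have h0 : N.mkQ m = 0 := by
        rw [Submodule.mkQ_apply, Submodule.Quotient.mk_eq_zero]
        exact hmN
      exact hpp.ne_top ((Ideal.eq_top_iff_one _).mpr ((hmem 1).mpr (by rw [h0, smul_zero])))
    exact (Groth.Agent.H29.Pure.isPureAlong_iff_depth A (M ⧸ N) T hT).mp
      ((Groth.Agent.H29.Pure.isPureAlong_iff_associatedPrimes A (M ⧸ N) T hT).mpr h)

end Groth.Agent.S1737
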