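import Groth.Statements.S17444
import Mathlib

set_option autoImplicit false
universe u v
open SSRed

namespace Groth.Agent.S17444

/-- Let K be a field of characteristic zero, V a K-vector space and g a K-linear endomorphism of V such
that g - 1 is nilpotent (a unipotent automorphism). Then for every integer n > 0 the endomorphisms
gⁿ - 1 and g - 1 have the same kernel: a vector fixed by gⁿ is fixed by g. (The published statement
assumes V finite-dimensional; this row allows any V.) -/
theorem result (K : Type u) (V : Type v) [Field K] [CharZero K]
    [AddCommGroup V] [Module K V] (g : Module.End K V) (hg : IsNilpotent (g - 1)) (n : ℕ) (hn : 0 < n) :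
    LinearMap.ker (g ^ n - 1) = LinearMap.ker (g - 1) := by
  set N := g - 1 with hN
  let s : ℕ → Module.End K V := fun i => ∑ j ∈ Finset.range i, g ^ j
  have hu : g ^ n - 1 = s n * N := (geom_sum_mul g n).symm
  have hcomm : ∀ i, Commute N (s i) := fun i =>
    Commute.sum_right _ _ _ fun j _ => ((Commute.refl g).sub_left (Commute.one_left g)).pow_right j
  have hdecomp : s n = (n : K) • (1 : Module.End K V) + N * ∑ i ∈ Finset.range n, s i := by
    have h1 : ∀ i, g ^ i = 1 + N * s i := fun i => by
      show g ^ i = 1 + (g - 1) * ∑ j ∈ Finset.range i, g ^ j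
      rw [mul_geom_sum]; abel
    show ∑ j ∈ Finset.range n, g ^ j = _
    rw [Finset.sum_congr rfl (fun i _ => h1 i), Finset.sum_add_distrib, Finset.sum_const,
      Finset.card_range, ← Finset.mul_sum, Nat.cast_smul_eq_nsmul]
  have hunit : IsUnit (s n) := by
    rw [hdecomp]
    refine IsNilpotent.isUnit_add_left_of_commute ?_ ?_ ?_
    · exact (Commute.sum_right _ _ _ fun i _ => hcomm i).isNilpotent_mul_right hg
    · have hn0 : (n : K) ≠ 0 := Nat.cast_ne_zero.mpr hn.ne'
      have := (IsUnit.mk0 _ hn0).map (algebraMap K (Module.End K V))
      rwa [Algebra.algebraMap_eq_smul_one] at this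
    · exact Commute.smul_right (Commute.one_right _) _
  rw [hu]
  ext v
  simp only [LinearMap.mem_ker, Module.End.mul_apply]
  constructor
  · intro h
    have hinj : Function.Injective (s n) := ((Module.End.isUnit_iff (s n)).mp hunit).1
    exact hinj (h.trans (map_zero (s n)).symm)
  · intro h
    rw [h, map_zero]

end Groth.Agent.S17444
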