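import Groth.Statements.S17445
import Mathlib

set_option autoImplicit false
open Finset
open SSRed

namespace Groth.Agent.S17445

/-- valuation of a finite product -/
theorem padicValNat_prod' {ι : Type*} (p : ℕ) [Fact p.Prime] (s : Finset ι) (f : ι → ℕ)
    (h : ∀ i ∈ s, f i ≠ 0) :
    padicValNat p (∏ i ∈ s, f i) = ∑ i ∈ s, padicValNat p (f i) := by
  classical
  induction s using Finset.induction_on with
  | empty => simp
  | insert a s ha ih =>
    rw [Finset.prod_insert ha, Finset.sum_insert ha,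
      padicValNat.mul (h a (Finset.mem_insert_self a s))
        (Finset.prod_ne_zero_iff.mpr fun i hi => h i (Finset.mem_insert_of_mem hi)),
      ih fun i hi => h i (Finset.mem_insert_of_mem hi)]

theorem factor_ne_zero {ℓ : ℕ} (hℓ : 2 ≤ ℓ) {a : ℕ} (ha : 1 ≤ a) : ℓ ^ (2 * a) - 1 ≠ 0 := by
  have := Nat.one_lt_pow (n := 2 * a) (by omega) (by omega : 1 < ℓ)
  omega

theorem dvd_pow_sub_one_iff (q ℓ n : ℕ) (hℓ : 1 ≤ ℓ) :
    q ∣ ℓ ^ n - 1 ↔ ((ℓ : ZMod q)) ^ n = 1 := by
  rw [← ZMod.natCast_eq_zero_iff, Nat.cast_sub (Nat.one_le_pow _ _ hℓ), Nat.cast_pow,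
    Nat.cast_one, sub_eq_zero]

theorem sum_padicValNat_Icc (p : ℕ) [Fact p.Prime] (g : ℕ) :
    ∑ a ∈ Icc 1 g, padicValNat p a = padicValNat p g.factorial := by
  induction g with
  | zero =>
    rw [Finset.Icc_eq_empty (by omega), Finset.sum_empty, Nat.factorial_zero, padicValNat_one_right]
  | succ g ih =>
    rw [Finset.sum_Icc_succ_top (by omega), ih, Nat.factorial_succ,
      padicValNat.mul (by omega) (Nat.factorial_ne_zero g), add_comm]

theorem padicValNat_two_eq {x n : ℕ} (h1 : 2 ^ n ∣ x) (h2 : ¬ 2 ^ (n + 1) ∣ x) :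
    padicValNat 2 x = n := by
  have hx : x ≠ 0 := by rintro rfl; exact h2 (dvd_zero _)
  have a := (padicValNat_dvd_iff_le (p := 2) hx).mp h1
  have b := mt (padicValNat_dvd_iff_le (p := 2) hx).mpr h2
  omega

theorem val_pow_eq {p h : ℕ} [Fact p.Prime] (hp : p = 2 * h + 1) (hh : 1 ≤ h) {ℓ : ℕ}
    (hℓ : 2 ≤ ℓ) (hpl : ¬ p ∣ ℓ) :
    1 ≤ padicValNat p (ℓ ^ (2 * h) - 1) ∧
    ∀ i : ℕ, 1 ≤ i → padicValNat p (ℓ ^ (2 * (h * i)) - 1) =
      padicValNat p (ℓ ^ (2 * h) - 1) + padicValNat p i := by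
  have hprime : p.Prime := Fact.out
  have hodd : Odd p := ⟨h, hp⟩
  have hx1 : 1 < ℓ ^ (2 * h) := Nat.one_lt_pow (by omega) (by omega)
  have hdvd : p ∣ ℓ ^ (2 * h) - 1 := by
    rw [dvd_pow_sub_one_iff p ℓ (2 * h) (by omega)]
    have h0 : (ℓ : ZMod p) ≠ 0 := by rwa [Ne, ZMod.natCast_eq_zero_iff]
    have := ZMod.pow_card_sub_one_eq_one h0
    rwa [show p - 1 = 2 * h by omega] at this
  have hnd : ¬ p ∣ ℓ ^ (2 * h) := fun hd => hpl (hprime.dvd_of_dvd_pow hd)
  refine ⟨one_le_padicValNat_of_dvd (by omega) hdvd, fun i hi => ?_⟩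
  have := padicValNat.pow_sub_pow (p := p) hodd hx1 hdvd hnd (n := i) (by omega)
  rw [one_pow, ← pow_mul] at this
  rw [← mul_assoc]
  exact this

theorem image_subset {g h : ℕ} (hh : 1 ≤ h) :
    (Icc 1 (g / h)).image (fun i => h * i) ⊆ Icc 1 g := by
  intro a ha
  obtain ⟨i, hi, rfl⟩ := Finset.mem_image.mp ha
  rw [Finset.mem_Icc] at hi ⊢
  constructor
  · exact Nat.one_le_iff_ne_zero.mpr (Nat.mul_ne_zero (by omega) (by omega))
  · calc h * i ≤ h * (g / h) := Nat.mul_le_mul_left h hi.2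
      _ ≤ g := Nat.mul_div_le g h

theorem sum_one_add (p g h : ℕ) :
    g / h + ∑ i ∈ Icc 1 (g / h), padicValNat p i =
      ∑ i ∈ Icc 1 (g / h), (1 + padicValNat p i) := by
  rw [Finset.sum_add_distrib, Finset.sum_const, Nat.card_Icc, smul_eq_mul, mul_one,
    Nat.add_sub_cancel]

theorem sum_ge {p h : ℕ} [Fact p.Prime] (hp : p = 2 * h + 1) (hh : 1 ≤ h) {ℓ : ℕ}
    (hℓ : 2 ≤ ℓ) (hpl : ¬ p ∣ ℓ) (g : ℕ) :
    g / h + ∑ i ∈ Icc 1 (g / h), padicValNat p i ≤
      ∑ a ∈ Icc 1 g, padicValNat p (ℓ ^ (2 * a) - 1) := by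
  obtain ⟨h1, h2⟩ := val_pow_eq hp hh hℓ hpl
  calc g / h + ∑ i ∈ Icc 1 (g / h), padicValNat p i
      = ∑ i ∈ Icc 1 (g / h), (1 + padicValNat p i) := sum_one_add p g h
    _ ≤ ∑ i ∈ Icc 1 (g / h), padicValNat p (ℓ ^ (2 * (h * i)) - 1) := by
        refine Finset.sum_le_sum fun i hi => ?_
        rw [h2 i (Finset.mem_Icc.mp hi).1]
        omega
    _ = ∑ a ∈ (Icc 1 (g / h)).image (fun i => h * i), padicValNat p (ℓ ^ (2 * a) - 1) := by
        rw [Finset.sum_image]
        intro i _ j _ hij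
        exact Nat.eq_of_mul_eq_mul_left (by omega) hij
    _ ≤ ∑ a ∈ Icc 1 g, padicValNat p (ℓ ^ (2 * a) - 1) :=
        Finset.sum_le_sum_of_subset (image_subset hh)

theorem sum_eq {p h : ℕ} [Fact p.Prime] (hp : p = 2 * h + 1) (hh : 1 ≤ h) {ℓ : ℕ}
    (hℓ : 2 ≤ ℓ) (hpl : ¬ p ∣ ℓ) (g : ℕ)
    (hA : ∀ a ∈ Icc 1 g, ¬ h ∣ a → ¬ p ∣ ℓ ^ (2 * a) - 1)
    (hB : padicValNat p (ℓ ^ (2 * h) - 1) = 1) :
    ∑ a ∈ Icc 1 g, padicValNat p (ℓ ^ (2 * a) - 1) =
      g / h + ∑ i ∈ Icc 1 (g / h), padicValNat p i := by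
  obtain ⟨h1, h2⟩ := val_pow_eq hp hh hℓ hpl
  have hz : ∀ a ∈ Icc 1 g, a ∉ (Icc 1 (g / h)).image (fun i => h * i) →
      padicValNat p (ℓ ^ (2 * a) - 1) = 0 := by
    intro a ha hna
    apply padicValNat.eq_zero_of_not_dvd
    apply hA a ha
    intro hdiv
    obtain ⟨i, rfl⟩ := hdiv
    apply hna
    rw [Finset.mem_Icc] at ha
    refine Finset.mem_image.mpr ⟨i, Finset.mem_Icc.mpr ⟨?_, ?_⟩, rfl⟩
    · rcases Nat.eq_zero_or_pos i with rfl | hi
      · simp at ha
      · exact hi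
    · exact (Nat.le_div_iff_mul_le (by omega)).mpr (by rw [mul_comm]; exact ha.2)
  rw [← Finset.sum_subset (image_subset hh) hz,
    Finset.sum_image (by intro i _ j _ hij; exact Nat.eq_of_mul_eq_mul_left (by omega) hij),
    sum_one_add]
  refine Finset.sum_congr rfl fun i hi => ?_
  rw [h2 i (Finset.mem_Icc.mp hi).1, hB]

/-- For natural numbers g and B with B ≥ 2g + 1, a natural number d divides ∏_{a=1}^{g} (ℓ^{2a} - 1) for
every prime ℓ > B if and only if d divides N(g) = 2^{3g + v₂(g!)} · ∏_{3 ≤ p ≤ 2g+1, p prime}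
p^{[2g/(p-1)] + Σ_{1 ≤ i ≤ [2g/(p-1)]} v_p(i)}. In words: N(g) is the greatest common divisor of
these products as ℓ runs through the primes beyond any bound that is at least 2g + 1; its prime
factors are the primes p ≤ 2g + 1. (This is the number N(g) of the published result, which bounds
the degree of the field of semistable reduction of a g-dimensional abelian variety over a strictly
henselian discretely valued field; the printed phrase is the greatest common divisor over all large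
primes, made precise here by the bound 2g + 1, below which a prime ℓ ≤ 2g + 1 divides N(g) but not
its own product.) -/
theorem result (g B d : ℕ) (hB : 2 * g + 1 ≤ B) :
    (∀ ℓ : ℕ, ℓ.Prime → B < ℓ → d ∣ ∏ a ∈ Icc 1 g, (ℓ ^ (2 * a) - 1)) ↔
      d ∣ 2 ^ (3 * g + padicValNat 2 g.factorial) *
        ∏ p ∈ (Icc 3 (2 * g + 1)).filter Nat.Prime,
          p ^ ((2 * g) / (p - 1) + ∑ i ∈ Icc 1 ((2 * g) / (p - 1)), padicValNat p i) := by
  constructor
  · intro H
    rw [Nat.dvd_iff_prime_pow_dvd_dvd]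
    intro p k hp hpk
    rcases hp.eq_two_or_odd' with rfl | hodd
    · -- p = 2
      obtain ⟨ℓ, hℓB, hℓp, hℓ8⟩ := Nat.forall_exists_prime_gt_and_eq_mod (q := 8)
        (a := (3 : ZMod 8)) ⟨⟨3, 3, by decide, by decide⟩, rfl⟩ B
      have hmod : ℓ % 8 = 3 % 8 :=
        (ZMod.natCast_eq_natCast_iff' ℓ 3 8).mp (by rw [hℓ8]; simp)
      have hℓ2 : 2 ≤ ℓ := hℓp.two_le
      have hfac : ∀ a ∈ Icc 1 g, ℓ ^ (2 * a) - 1 ≠ 0 :=
        fun a ha => factor_ne_zero hℓ2 (Finset.mem_Icc.mp ha).1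
      have hP0 : ∏ a ∈ Icc 1 g, (ℓ ^ (2 * a) - 1) ≠ 0 := Finset.prod_ne_zero_iff.mpr hfac
      have hk := (padicValNat_dvd_iff_le hP0).mp (dvd_trans hpk (H ℓ hℓp hℓB))
      rw [padicValNat_prod' 2 _ _ hfac] at hk
      have hval : ∀ a ∈ Icc 1 g, padicValNat 2 (ℓ ^ (2 * a) - 1) = 3 + padicValNat 2 a := by
        intro a ha
        have ha1 := (Finset.mem_Icc.mp ha).1
        have e1 := padicValNat.pow_two_sub_one (x := ℓ) (n := 2 * a) (by omega) (by omega)
          (by omega) (even_two_mul a)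
        have e2 : padicValNat 2 (ℓ + 1) = 2 :=
          padicValNat_two_eq (n := 2) (by norm_num; omega) (by norm_num; omega)
        have e3 : padicValNat 2 (ℓ - 1) = 1 :=
          padicValNat_two_eq (n := 1) (by norm_num; omega) (by norm_num; omega)
        have e4 : padicValNat 2 (2 * a) = 1 + padicValNat 2 a := by
          rw [padicValNat.mul (by norm_num) (by omega), padicValNat_self]
        omega
      rw [Finset.sum_congr rfl hval, Finset.sum_add_distrib, Finset.sum_const, Nat.card_Icc,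
        smul_eq_mul, Nat.add_sub_cancel, sum_padicValNat_Icc] at hk
      exact dvd_trans (pow_dvd_pow 2 (by omega)) (dvd_mul_right _ _)
    · -- p odd
      have : Fact p.Prime := ⟨hp⟩
      obtain ⟨h, hph⟩ := hodd
      have hh : 1 ≤ h := by have := hp.two_le; omega
      have hp2 : p ≠ 2 := by omega
      have : NeZero (p ^ 2) := ⟨pow_ne_zero 2 hp.ne_zero⟩
      have := ZMod.isCyclic_units_of_prime_pow p hp hp2 2
      obtain ⟨c, hc⟩ := IsCyclic.exists_generator (α := (ZMod (p ^ 2))ˣ)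
      have hord : orderOf (c : ZMod (p ^ 2)) = p * (p - 1) := by
        rw [orderOf_units, orderOf_eq_card_of_forall_mem_zpowers hc, Nat.card_eq_fintype_card,
          ZMod.card_units_eq_totient, Nat.totient_prime_pow hp (by norm_num)]
        norm_num
      obtain ⟨ℓ, hℓB, hℓp, hℓc⟩ := Nat.forall_exists_prime_gt_and_eq_mod (q := p ^ 2)
        (a := (c : ZMod (p ^ 2))) c.isUnit (max B p)
      have hℓB' : B < ℓ := lt_of_le_of_lt (le_max_left _ _) hℓB
      have hℓp' : p < ℓ := lt_of_le_of_lt (le_max_right _ _) hℓB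
      have hℓ2 : 2 ≤ ℓ := hℓp.two_le
      have hpl : ¬ p ∣ ℓ := fun hd => by
        have := (Nat.prime_dvd_prime_iff_eq hp hℓp).mp hd
        omega
      have hZ : ∀ n : ℕ, p ^ 2 ∣ ℓ ^ n - 1 ↔ p * (p - 1) ∣ n := by
        intro n
        rw [dvd_pow_sub_one_iff (p ^ 2) ℓ n (by omega), hℓc, ← hord,
          orderOf_dvd_iff_pow_eq_one]
      have hA : ∀ a ∈ Icc 1 g, ¬ h ∣ a → ¬ p ∣ ℓ ^ (2 * a) - 1 := by
        intro a ha hna hdiv
        have ha1 := (Finset.mem_Icc.mp ha).1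
        have hx1 : 1 < ℓ ^ (2 * a) := Nat.one_lt_pow (by omega) (by omega)
        have hnd : ¬ p ∣ ℓ ^ (2 * a) := fun hd => hpl (hp.dvd_of_dvd_pow hd)
        have hlte := padicValNat.pow_sub_pow (p := p) ⟨h, hph⟩ hx1 hdiv hnd (n := p) hp.ne_zero
        rw [one_pow, ← pow_mul, padicValNat_self] at hlte
        have h1 : 1 ≤ padicValNat p (ℓ ^ (2 * a) - 1) :=
          one_le_padicValNat_of_dvd (by omega) hdiv
        have hne : ℓ ^ (2 * a * p) - 1 ≠ 0 := by
          have := Nat.one_lt_pow (n := 2 * a * p)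
            (Nat.mul_ne_zero (by omega) hp.ne_zero) (by omega : 1 < ℓ)
          omega
        have h2 : p ^ 2 ∣ ℓ ^ (2 * a * p) - 1 := (padicValNat_dvd_iff_le hne).mpr (by omega)
        rw [hZ] at h2
        have h3 : (p - 1) ∣ 2 * a := by
          have : p * (p - 1) ∣ p * (2 * a) := by rwa [mul_comm p (2 * a)]
          exact Nat.dvd_of_mul_dvd_mul_left hp.pos this
        rw [show p - 1 = 2 * h by omega] at h3
        exact hna (Nat.dvd_of_mul_dvd_mul_left two_pos h3)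
      have hBv : padicValNat p (ℓ ^ (2 * h) - 1) = 1 := by
        have h1 := (val_pow_eq hph hh hℓ2 hpl).1
        have hne : ℓ ^ (2 * h) - 1 ≠ 0 := by
          have := Nat.one_lt_pow (n := 2 * h) (by omega) (by omega : 1 < ℓ)
          omega
        have h2 : ¬ p ^ 2 ∣ ℓ ^ (2 * h) - 1 := by
          rw [hZ]
          intro hd
          have h3 := Nat.le_of_dvd (by omega) hd
          rw [show p - 1 = 2 * h by omega] at h3
          have h4 : 3 * (2 * h) ≤ p * (2 * h) := Nat.mul_le_mul_right _ (by omega)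
          omega
        have := mt (padicValNat_dvd_iff_le hne).mpr h2
        omega
      have hfac : ∀ a ∈ Icc 1 g, ℓ ^ (2 * a) - 1 ≠ 0 :=
        fun a ha => factor_ne_zero hℓ2 (Finset.mem_Icc.mp ha).1
      have hP0 : ∏ a ∈ Icc 1 g, (ℓ ^ (2 * a) - 1) ≠ 0 := Finset.prod_ne_zero_iff.mpr hfac
      have hk := (padicValNat_dvd_iff_le hP0).mp (dvd_trans hpk (H ℓ hℓp hℓB'))
      rw [padicValNat_prod' p _ _ hfac, sum_eq hph hh hℓ2 hpl g hA hBv] at hk
      by_cases hple : p ≤ 2 * g + 1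
      · have hmem : p ∈ (Icc 3 (2 * g + 1)).filter Nat.Prime :=
          Finset.mem_filter.mpr ⟨Finset.mem_Icc.mpr ⟨by omega, hple⟩, hp⟩
        have hdiv2 : (2 * g) / (p - 1) = g / h := by
          rw [show p - 1 = 2 * h by omega, Nat.mul_div_mul_left _ _ two_pos]
        refine dvd_trans ?_ (dvd_mul_of_dvd_right (Finset.dvd_prod_of_mem _ hmem) _)
        show p ^ k ∣ p ^ ((2 * g) / (p - 1) + ∑ i ∈ Icc 1 ((2 * g) / (p - 1)), padicValNat p i)
        rw [hdiv2]
        exact pow_dvd_pow p hk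
      · have h0 : g / h = 0 := Nat.div_eq_of_lt (by omega)
        rw [h0] at hk
        simp at hk
        subst hk
        simp
  · intro hdN ℓ hℓp hℓB
    refine dvd_trans hdN ?_
    have hℓ2 := hℓp.two_le
    have hfac : ∀ a ∈ Icc 1 g, ℓ ^ (2 * a) - 1 ≠ 0 :=
      fun a ha => factor_ne_zero hℓ2 (Finset.mem_Icc.mp ha).1
    have hP0 : ∏ a ∈ Icc 1 g, (ℓ ^ (2 * a) - 1) ≠ 0 := Finset.prod_ne_zero_iff.mpr hfac
    apply Nat.Coprime.mul_dvd_of_dvd_of_dvd
    · apply Nat.Coprime.pow_left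
      apply Nat.Coprime.prod_right
      intro p hp
      obtain ⟨hpI, hpp⟩ := Finset.mem_filter.mp hp
      apply Nat.Coprime.pow_right
      rw [Nat.coprime_primes Nat.prime_two hpp]
      have := (Finset.mem_Icc.mp hpI).1
      omega
    · rw [padicValNat_dvd_iff_le hP0, padicValNat_prod' 2 _ _ hfac]
      calc 3 * g + padicValNat 2 g.factorial = ∑ a ∈ Icc 1 g, (3 + padicValNat 2 a) := by
            rw [Finset.sum_add_distrib, Finset.sum_const, Nat.card_Icc, smul_eq_mul,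
              Nat.add_sub_cancel, sum_padicValNat_Icc, mul_comm]
        _ ≤ _ := Finset.sum_le_sum fun a ha => ?_
      have ha1 := (Finset.mem_Icc.mp ha).1
      have hg1 : 1 ≤ g := le_trans ha1 (Finset.mem_Icc.mp ha).2
      have hodd : ¬ 2 ∣ ℓ := by
        intro h2
        have := (Nat.prime_dvd_prime_iff_eq Nat.prime_two hℓp).mp h2
        omega
      have := padicValNat.pow_two_sub_one_ge (x := ℓ) (n := 2 * a) (by omega) hodd (by omega)
        (even_two_mul a)
      rw [padicValNat.mul (by norm_num) (by omega), padicValNat_self] at this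
      omega
    · apply Finset.prod_dvd_of_isRelPrime
      · intro p hp q hq hpq
        obtain ⟨_, hpp⟩ := Finset.mem_filter.mp (Finset.mem_coe.mp hp)
        obtain ⟨_, hqp⟩ := Finset.mem_filter.mp (Finset.mem_coe.mp hq)
        show IsRelPrime (p ^ _) (q ^ _)
        rw [← Nat.coprime_iff_isRelPrime]
        exact Nat.Coprime.pow _ _ ((Nat.coprime_primes hpp hqp).mpr hpq)
      · intro p hp
        obtain ⟨hpI, hpp⟩ := Finset.mem_filter.mp hp
        have : Fact p.Prime := ⟨hpp⟩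
        have hp3 := (Finset.mem_Icc.mp hpI).1
        have hple := (Finset.mem_Icc.mp hpI).2
        obtain ⟨h, hph⟩ := hpp.eq_two_or_odd'.resolve_left (by omega)
        have hh : 1 ≤ h := by omega
        have hpl : ¬ p ∣ ℓ := fun hd => by
          have := (Nat.prime_dvd_prime_iff_eq hpp hℓp).mp hd
          omega
        have hdiv2 : (2 * g) / (p - 1) = g / h := by
          rw [show p - 1 = 2 * h by omega, Nat.mul_div_mul_left _ _ two_pos]
        rw [padicValNat_dvd_iff_le hP0, padicValNat_prod' p _ _ hfac, hdiv2]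
        exact sum_ge hph hh hℓ2 hpl g

end Groth.Agent.S17445
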