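import Mathlib
import Groth.Agent.H11.SplitFiniteSch
import Groth.Statements.S17447

set_option autoImplicit false
universe u
open CategoryTheory CategoryTheory.Limits AlgebraicGeometry
open Hensel

namespace Groth.Agent.S17447

/-- Let R be a henselian local ring and X → Spec R a quasi-finite separated morphism (locally of finite
type, quasi-compact, with discrete fibres). Then X decomposes uniquely as the disjoint union of an
open and closed subscheme finite over Spec R and an open and closed subscheme with empty special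
fibre: there is exactly one open subset W of X which is closed, finite over Spec R (as an open
subscheme) and contains every point lying over the closed point of Spec R. (No Noetherian hypothesis
on R.) -/
theorem result (R : Type u) [CommRing R] [HenselianLocalRing R]
    {X : Scheme.{u}} (f : X ⟶ Spec (CommRingCat.of R))
    [LocallyQuasiFinite f] [LocallyOfFiniteType f] [QuasiCompact f] [IsSeparated f] :
    ∃! W : X.Opens, IsClosed (W : Set X) ∧ IsFinite (W.ι ≫ f) ∧
      ∀ x : X, f.base x = IsLocalRing.closedPoint R → x ∈ W := by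

  classical
  haveI hH : HenselianRing R (IsLocalRing.maximalIdeal R) := inferInstance
  haveI : IsLocallyArtinian (Spec (CommRingCat.of (R ⧸ IsLocalRing.maximalIdeal R))) := by
    rw [Scheme.isLocallyArtinianScheme_Spec]
    show IsArtinianRing (IsLocalRing.ResidueField R)
    infer_instance
  have hfin : IsFinite (pullback.snd f (Spec.map (CommRingCat.ofHom
      (Ideal.Quotient.mk (IsLocalRing.maximalIdeal R))))) :=
    IsFinite.of_locallyQuasiFinite _
  obtain ⟨W, hW1, hW2, hW3⟩ :=
    Groth.Agent.H11.SplitSch.split_finite R (IsLocalRing.maximalIdeal R) f hfin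
  have key : ∀ W₁ W₂ : X.Opens, IsClosed (W₁ : Set X) → IsFinite (W₁.ι ≫ f) →
      (∀ x : X, f.base x = IsLocalRing.closedPoint R → x ∈ W₂) → W₁ ≤ W₂ := by
    intro W₁ W₂ hc1 hf1 h2
    by_contra hne
    obtain ⟨x, hx1, hx2⟩ := Set.not_subset.1 hne
    let Z : Set X := (W₁ : Set X) ∩ (W₂ : Set X)ᶜ
    have hZ : IsClosed Z := hc1.inter W₂.isOpen.isClosed_compl
    have himg : IsClosed (f '' Z) := by
      have h1 : f '' Z = (W₁.ι ≫ f) '' (W₁.ι ⁻¹' Z) := by
        rw [Scheme.Hom.comp_base, TopCat.coe_comp, Set.image_comp,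
          Set.image_preimage_eq_inter_range, Scheme.Opens.range_ι]
        congr 1
        ext y
        simp only [Z, Set.mem_inter_iff, SetLike.mem_coe, Set.mem_compl_iff]
        tauto
      rw [h1]
      exact (W₁.ι ≫ f).isClosedMap _ (hZ.preimage W₁.ι.continuous)
    have hcp : IsLocalRing.closedPoint R ∈ f '' Z := by
      by_contra hcp
      have hopen : IsOpen (f '' Z)ᶜ := himg.isOpen_compl
      have h3 := (IsLocalRing.closedPoint_mem_iff (U := ⟨_, hopen⟩)).1 hcp
      have hfx : f x ∈ (f '' Z)ᶜ := by
        have h4 : ((f '' Z)ᶜ : Set (PrimeSpectrum R)) = Set.univ := congrArg (fun U : TopologicalSpace.Opens (PrimeSpectrum R) => (U : Set (PrimeSpectrum R))) h3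
        exact h4 ▸ Set.mem_univ _
      exact hfx ⟨x, ⟨hx1, hx2⟩, rfl⟩
    obtain ⟨y, ⟨hy1, hy2⟩, hy⟩ := hcp
    exact hy2 (h2 y hy)
  have hW4 : ∀ x : X, f.base x = IsLocalRing.closedPoint R → x ∈ W := by
    intro x hx
    by_contra hxW
    refine hW3 x hxW ?_
    rw [hx]
    exact le_rfl
  refine ⟨W, ⟨hW1, hW2, hW4⟩, ?_⟩
  rintro W' ⟨h1, h2, h3⟩
  exact le_antisymm (key W' W h1 h2 hW4) (key W W' hW1 hW2 h3)

end Groth.Agent.S17447
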