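import Mathlib
import Groth.Agent.H11.HensLift
import Groth.Statements.S17448

set_option autoImplicit false
universe u
open CategoryTheory CategoryTheory.Limits AlgebraicGeometry
open Hensel

namespace Groth.Agent.S17448

/-- Sections over henselian rings: let R be a henselian local ring with residue field k and X → Spec R a
quasi-finite (quasi-compact with discrete fibres), separated and étale morphism. Then the natural
map from sections X(R) to points X(k) of the special fibre is bijective: for every morphism t : Spec
k → X over Spec k → Spec R there is exactly one section s : Spec R → X of X → Spec R whose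
restriction to Spec k is t. -/
theorem result (R : Type u) [CommRing R]
    [HenselianLocalRing R] {X : Scheme.{u}} (f : X ⟶ Spec (CommRingCat.of R))
    [LocallyQuasiFinite f] [QuasiCompact f] [IsSeparated f] [Etale f]
    (t : Spec (CommRingCat.of (IsLocalRing.ResidueField R)) ⟶ X)
    (ht : t ≫ f = Spec.map (CommRingCat.ofHom (IsLocalRing.residue R))) :
    ∃! s : Spec (CommRingCat.of R) ⟶ X,
      s ≫ f = 𝟙 (Spec (CommRingCat.of R)) ∧ Spec.map (CommRingCat.ofHom (IsLocalRing.residue R)) ≫ s = t := by
  classical
  -- the image point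
  let pt : Spec (CommRingCat.of (IsLocalRing.ResidueField R)) :=
    IsLocalRing.closedPoint (IsLocalRing.ResidueField R)
  obtain ⟨U, hU, hxU⟩ : ∃ U : X.Opens, IsAffineOpen U ∧ t.base pt ∈ U := by
    obtain ⟨_, ⟨V, hV, rfl⟩, hxV, -⟩ :=
      X.isBasis_affineOpens.exists_subset_of_mem_open (Set.mem_univ (t.base pt)) isOpen_univ
    exact ⟨V, hV, hxV⟩
  have hsingle : ∀ y : Spec (CommRingCat.of (IsLocalRing.ResidueField R)), y = pt := by
    intro y
    exact Subsingleton.elim (α := PrimeSpectrum (IsLocalRing.ResidueField R)) _ _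
  have hrange : Set.range t.base ⊆ Set.range hU.fromSpec.base := by
    rintro _ ⟨y, rfl⟩
    rw [hU.range_fromSpec, hsingle y]
    exact hxU
  let t' := IsOpenImmersion.lift hU.fromSpec t hrange
  have ht' : t' ≫ hU.fromSpec = t := IsOpenImmersion.lift_fac _ _ _
  let θ := Spec.preimage t'
  have hθ : Spec.map θ = t' := Spec.map_preimage _
  let ψ := Spec.preimage (hU.fromSpec ≫ f)
  have hψ : Spec.map ψ = hU.fromSpec ≫ f := Spec.map_preimage _
  have hψθ : ψ ≫ θ = CommRingCat.ofHom (IsLocalRing.residue R) := by
    apply Spec.map_injective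
    rw [Spec.map_comp, hθ, hψ, ← Category.assoc, ht', ht]
  have hψet : ψ.hom.Etale := by
    rw [← HasRingHomProperty.Spec_iff (P := @Etale), hψ]
    infer_instance
  letI : Algebra R Γ(X, U) := ψ.hom.toAlgebra
  haveI : Algebra.Etale R Γ(X, U) := hψet
  let θa : Γ(X, U) →ₐ[R] IsLocalRing.ResidueField R :=
    { θ.hom with
      commutes' := fun r => by
        have := congrArg (fun h => h.hom r) hψθ
        exact this }
  have jac : Ideal.jacobson (⊥ : Ideal R) = IsLocalRing.maximalIdeal R :=
    IsLocalRing.jacobson_eq_maximalIdeal ⊥ bot_ne_top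
  obtain ⟨g, hg⟩ := Groth.Agent.H11.HensEt.exists_algHom_lift_residue R R Γ(X, U) θa
  have hψg : ψ ≫ CommRingCat.ofHom g.toRingHom = 𝟙 _ := by
    ext r
    exact g.commutes r
  have hgθ : CommRingCat.ofHom g.toRingHom ≫ CommRingCat.ofHom (IsLocalRing.residue R) = θ := by
    ext a
    exact hg a
  refine ⟨Spec.map (CommRingCat.ofHom g.toRingHom) ≫ hU.fromSpec, ⟨?_, ?_⟩, ?_⟩
  · rw [Category.assoc, ← hψ, ← Spec.map_comp, hψg, Spec.map_id]
  · rw [← Category.assoc, ← Spec.map_comp, hgθ, hθ, ht']
  · rintro s' ⟨hs1, hs2⟩
    have hclosed : s'.base (IsLocalRing.closedPoint R) = t.base pt := by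
      rw [← hs2]
      rw [Scheme.Hom.comp_base, TopCat.comp_app]
      congr 1
      exact (IsLocalRing.PrimeSpectrum.comap_residue R pt).symm
    have hrange' : Set.range s'.base ⊆ Set.range hU.fromSpec.base := by
      rw [hU.range_fromSpec]
      rintro _ ⟨y, rfl⟩
      have hopen : IsOpen (s'.base ⁻¹' (U : Set X)) := U.isOpen.preimage s'.base.hom.continuous
      have hmem : IsLocalRing.closedPoint R ∈ (⟨_, hopen⟩ : TopologicalSpace.Opens (PrimeSpectrum R)) := by
        show s'.base (IsLocalRing.closedPoint R) ∈ U
        rw [hclosed]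
        exact hxU
      rw [IsLocalRing.closed_point_mem_iff] at hmem
      have : y ∈ (⟨_, hopen⟩ : TopologicalSpace.Opens (PrimeSpectrum R)) := by
        rw [hmem]; trivial
      exact this
    let s'' := IsOpenImmersion.lift hU.fromSpec s' hrange'
    have hs'' : s'' ≫ hU.fromSpec = s' := IsOpenImmersion.lift_fac _ _ _
    let γ := Spec.preimage s''
    have hγ : Spec.map γ = s'' := Spec.map_preimage _
    have hψγ : ψ ≫ γ = 𝟙 _ := by
      apply Spec.map_injective
      rw [Spec.map_comp, hγ, hψ, ← Category.assoc, hs'', hs1, Spec.map_id]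
    have hγθ : γ ≫ CommRingCat.ofHom (IsLocalRing.residue R) = θ := by
      apply Spec.map_injective
      rw [Spec.map_comp, hγ, hθ]
      rw [← cancel_mono hU.fromSpec, Category.assoc, hs'', hs2, ht']
    let γa : Γ(X, U) →ₐ[R] R :=
      { γ.hom with
        commutes' := fun r => by
          have := congrArg (fun h => h.hom r) hψγ
          exact this }
    have heq : γa = g := by
      apply Groth.Agent.H11.HensEt.algHom_eq_of_sub_mem_jacobson
      intro a
      rw [jac, ← Ideal.Quotient.eq_zero_iff_mem]
      show IsLocalRing.residue R (γa a - g a) = 0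
      rw [map_sub, hg a, sub_eq_zero]
      have := congrArg (fun h => h.hom a) hγθ
      exact this
    have hγg : γ = CommRingCat.ofHom g.toRingHom := by
      ext a
      exact congrArg (fun h => h a) heq
    rw [← hs'', ← hγ, hγg]

end Groth.Agent.S17448
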