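import Groth.Statements.S1746
import Groth.Agent.Lib.Helper6.ExtFin4

set_option autoImplicit false
universe u
open CategoryTheory
attribute [local instance] HasDerivedCategory.standard
open Dual

namespace Groth.Agent.S1746

/-- Let A be a Noetherian ring and K, L objects of D(A) all of whose cohomology modules are finite
A-modules, with L of finite injective dimension. Then for every integer i the A-module of maps K →
L[i] in D(A) (the i-th cohomology of RHom(K, L)) is a finite A-module. -/
theorem result (A : Type u) [CommRing A] [IsNoetherianRing A] (K L : Dual.D A) (hK : ∀ i : ℤ, Module.Finite A (Dual.HD A K i)) (hL : ∀ i : ℤ, Module.Finite A (Dual.HD A L i)) (hLi : DRing.HasFiniteInjDim A L) (i : ℤ) : Module.Finite A (K ⟶ L⟦i⟧) := by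
  obtain ⟨a, b, E, hE, hinj, ⟨e⟩⟩ := hLi
  have hLE : ∀ j : ℤ, Module.Finite A
      ((DerivedCategory.homologyFunctor (ModuleCat.{u} A) j).obj (DerivedCategory.Q.obj E)) := by
    intro j
    haveI := hL j
    exact Module.Finite.equiv
      ((DerivedCategory.homologyFunctor (ModuleCat.{u} A) j).mapIso e).toLinearEquiv.symm
  have h1 := Groth.Agent.Helper6.ExtFin.noeth_hom_of_injAmp K hK E a b hE hinj hLE i
  have h2 : IsNoetherian A (K ⟶ L⟦i⟧) :=
    Groth.Agent.Helper6.ExtFin.noeth_postcomp
      ((CategoryTheory.shiftFunctor (DerivedCategory (ModuleCat.{u} A)) i).mapIso e) h1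
  infer_instance

end Groth.Agent.S1746
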