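import Groth.Statements.S17463
import Mathlib.Tactic

set_option autoImplicit false
universe u v w
open SSRed

namespace Groth.Agent.S17463

/-- Let K be a field of characteristic zero, V a K-vector space, G a group with a K-linear action ρ : G
→ GL(V) such that every ρ(g) is unipotent (ρ(g) - 1 is nilpotent), and H a subgroup of G of finite
index. Then the H-invariants equal the G-invariants: a vector fixed by every element of H is fixed
by every element of G. (In the source G and H are the absolute Galois groups of K and of a finite
extension K', acting unipotently on the rational ℓ-adic Tate module of an abelian variety.) -/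
theorem result (K : Type u) (V : Type v) (G : Type w) [Field K] [CharZero K]
    [AddCommGroup V] [Module K V] [Group G] (ρ : G →* (V ≃ₗ[K] V))
    (hunip : ∀ g : G, IsNilpotent (((ρ g : V ≃ₗ[K] V) : Module.End K V) - 1))
    (H : Subgroup G) [H.FiniteIndex] (v : V) (hv : ∀ h ∈ H, ρ h v = v) (g : G) :
    ρ g v = v := by
  classical
  obtain ⟨n, hn0, -, hn⟩ := Subgroup.exists_pow_mem_of_index_ne_zero (H := H)
    Subgroup.FiniteIndex.index_ne_zero g
  set u : Module.End K V := ((ρ g : V ≃ₗ[K] V) : Module.End K V) with hu
  have hpow : ∀ (k : ℕ) (x : V), ((ρ g) ^ k : V ≃ₗ[K] V) x = (u ^ k) x := by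
    intro k
    induction k with
    | zero => intro x; simp
    | succ k ih =>
      intro x
      rw [pow_succ, pow_succ, LinearEquiv.mul_apply, Module.End.mul_apply, ih]
      rfl
  have hun : (u ^ n) v = v := by
    have := hv _ hn
    rw [map_pow, hpow] at this
    exact this
  have hN := hunip g
  rw [← hu] at hN
  -- the geometric sum
  set w : Module.End K V := ∑ i ∈ Finset.range n, u ^ i with hw
  have hw1 : w * (u - 1) = u ^ n - 1 := geom_sum_mul u n
  have hzero : w ((u - 1) v) = 0 := by
    rw [← Module.End.mul_apply, hw1]
    simp [hun]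
  -- w is a unit
  let p : Polynomial K := ∑ i ∈ Finset.range n, Polynomial.X ^ i
  have hp1 : (p - Polynomial.C (n : K)).IsRoot 1 := by
    simp [p, Polynomial.IsRoot, Polynomial.eval_finsetSum]
  obtain ⟨q, hq⟩ := Polynomial.dvd_iff_isRoot.mpr hp1
  have hwp : Polynomial.aeval u p = w := by
    simp [p, hw, map_sum]
  have hw2 : w = (n : Module.End K V) + (u - 1) * Polynomial.aeval u q := by
    have := congrArg (Polynomial.aeval u) hq
    simp only [map_sub, map_mul, Polynomial.aeval_X, Polynomial.aeval_C, map_one, hwp,
      map_natCast] at this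
    rw [← this]; abel
  have hcomm : Commute (u - 1) (Polynomial.aeval u q) := by
    have h1 : Polynomial.aeval u (Polynomial.X - Polynomial.C (1 : K)) = u - 1 := by simp
    rw [← h1]
    exact (Commute.all (Polynomial.X - Polynomial.C (1 : K)) q).map (Polynomial.aeval u)
  have hnil : IsNilpotent ((u - 1) * Polynomial.aeval u q) := hcomm.isNilpotent_mul_right hN
  have hnunit : IsUnit (n : Module.End K V) := by
    have : (n : Module.End K V) = algebraMap K (Module.End K V) (n : K) := by simp
    rw [this]
    apply IsUnit.map
    exact isUnit_iff_ne_zero.mpr (Nat.cast_ne_zero.mpr hn0.ne')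
  have hwunit : IsUnit w := by
    rw [hw2]
    exact hnil.isUnit_add_left_of_commute hnunit (Nat.commute_cast _ _)
  obtain ⟨wu, hwu⟩ := hwunit
  have : (u - 1) v = 0 := by
    have h := congrArg (fun x => ((wu⁻¹ : (Module.End K V)ˣ) : Module.End K V) x) hzero
    simp only [map_zero] at h
    rw [← hwu, ← Module.End.mul_apply, Units.inv_mul] at h
    simpa using h
  have h2 : u v - v = 0 := by simpa using this
  exact sub_eq_zero.mp h2

end Groth.Agent.S17463
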