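import Groth.Statements.S17466
import Mathlib

set_option autoImplicit false
universe u v
open BigOperators
open NRGIT

namespace Groth.Agent.S17466

/-- Let A be a commutative algebra graded by the natural numbers, let σ_1, …, σ_n be homogeneous
elements of degree 1 and let s ≥ 1 be an integer such that, for every i, the degree-zero homogeneous
localisation of A away from σ_i is generated over A_0 by the fractions f / σ_i ^ s with f
homogeneous of degree s. Then for every exponent vector K = (k_1, …, k_n) with k_1 + ⋯ + k_n = s,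
the degree-zero homogeneous localisation of A away from the monomial σ^K = ∏ σ_i ^ (k_i) is
generated over A_0 by the fractions f / σ^K with f homogeneous of degree s. (Equivalently: the
natural map from the degree-zero localisation of the symmetric algebra on A_s, taken away from σ^K
viewed as an element of degree one, to the degree-zero localisation of A away from σ^K is
surjective. The published lemma concerns the algebra of invariant sections of the powers of a
linearised line bundle on an irreducible projective scheme over a field, with the σ_i a basis of a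
weight space of sections, and concludes a closed immersion of a quotient into an open piece of a
projective space; this row keeps only the graded-algebra step, for any commutative graded algebra,
with the base field replaced by A_0, which generates nothing new since a / 1 = a σ^s / σ^s for a of
degree zero.) -/
theorem result
    {R : Type u} {A : Type v} [CommRing R] [CommRing A] [Algebra R A]
    (𝒜 : ℕ → Submodule R A) [GradedAlgebra 𝒜]
    {n : ℕ} (σ : Fin n → A) (hσ : ∀ i, σ i ∈ 𝒜 1) {s : ℕ} (hs : 0 < s)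
    (hgen : ∀ i, Algebra.adjoin (𝒜 0)
      {z : HomogeneousLocalization.Away 𝒜 (σ i) |
        ∃ f ∈ 𝒜 s, z.val = Localization.mk f ⟨σ i ^ s, Submonoid.pow_mem _ (Submonoid.mem_powers (σ i)) s⟩} = ⊤)
    (K : Fin n → ℕ) (hK : ∑ i, K i = s) :
    Algebra.adjoin (𝒜 0)
      {z : HomogeneousLocalization.Away 𝒜 (∏ i, σ i ^ K i) |
        ∃ f ∈ 𝒜 s, z.val = Localization.mk f ⟨∏ i, σ i ^ K i, Submonoid.mem_powers _⟩} = ⊤ := by
  classical
  have mk_eq : ∀ (x : A) (a b : A) (p q : Submonoid.powers x), (q : A) * a = (p : A) * b →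
      Localization.mk a p = Localization.mk b q := fun x a b p q h =>
    Localization.mk_eq_mk_iff.mpr (Localization.r_of_eq h)
  have hσs : ∀ i, σ i ^ s ∈ 𝒜 s := by
    intro i
    have := SetLike.pow_mem_graded s (hσ i)
    simpa using this
  have σs_mem : ∀ i j, (σ i ^ s) ^ j ∈ (𝒜 s) ^ j := fun i j => Submodule.pow_mem_pow _ (hσs i) j
  have zero_mul_mem : ∀ (a : A), a ∈ 𝒜 0 → ∀ g ∈ 𝒜 s, a * g ∈ 𝒜 s := by
    intro a ha g hg
    have := SetLike.mul_mem_graded ha hg
    simpa using this
  have hπ : (∏ i, σ i ^ K i) ∈ 𝒜 s := by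
    have := SetLike.prod_pow_mem_graded 𝒜 (fun _ : Fin n => (1 : ℕ)) σ (F := Finset.univ) K
      (fun i _ => hσ i)
    simpa [hK] using this
  -- Claim 1
  have claim1 : ∀ i (z : HomogeneousLocalization.Away 𝒜 (σ i)), ∃ e0, ∀ e, e0 ≤ e →
      ∃ b ∈ (𝒜 s) ^ e, z.val = Localization.mk b (⟨σ i ^ (s * e), s * e, rfl⟩ : Submonoid.powers (σ i)) := by
    intro i z
    have hz : z ∈ Algebra.adjoin (𝒜 0) {z : HomogeneousLocalization.Away 𝒜 (σ i) |
        ∃ f ∈ 𝒜 s, z.val = Localization.mk f
          ⟨σ i ^ s, Submonoid.pow_mem _ (Submonoid.mem_powers (σ i)) s⟩} := by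
      rw [hgen i]; trivial
    induction hz using Algebra.adjoin_induction with
    | mem z hz =>
      obtain ⟨f, hf, hzf⟩ := hz
      refine ⟨1, fun e he => ?_⟩
      obtain ⟨e', rfl⟩ : ∃ e', e = e' + 1 := ⟨e - 1, by omega⟩
      refine ⟨f * (σ i ^ s) ^ e', ?_, ?_⟩
      · rw [pow_succ']
        exact Submodule.mul_mem_mul hf (σs_mem i e')
      · rw [hzf]
        apply mk_eq
        simp only
        ring
    | algebraMap a =>
      refine ⟨1, fun e he => ?_⟩
      obtain ⟨e', rfl⟩ : ∃ e', e = e' + 1 := ⟨e - 1, by omega⟩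
      refine ⟨((a : A) * σ i ^ s) * (σ i ^ s) ^ e', ?_, ?_⟩
      · rw [pow_succ']
        exact Submodule.mul_mem_mul (zero_mul_mem _ a.2 _ (hσs i)) (σs_mem i e')
      · have : (algebraMap (𝒜 0) (HomogeneousLocalization.Away 𝒜 (σ i)) a).val =
            Localization.mk (a : A) 1 := rfl
        rw [this]
        apply mk_eq
        simp only [OneMemClass.coe_one]
        ring
    | add z1 z2 _ _ h1 h2 =>
      obtain ⟨e1, h1⟩ := h1
      obtain ⟨e2, h2⟩ := h2
      refine ⟨max e1 e2, fun e he => ?_⟩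
      obtain ⟨b1, hb1, hz1⟩ := h1 e (le_trans (le_max_left _ _) he)
      obtain ⟨b2, hb2, hz2⟩ := h2 e (le_trans (le_max_right _ _) he)
      refine ⟨b1 + b2, add_mem hb1 hb2, ?_⟩
      rw [HomogeneousLocalization.val_add, hz1, hz2, Localization.add_mk_self]
    | mul z1 z2 _ _ h1 h2 =>
      obtain ⟨e1, h1⟩ := h1
      obtain ⟨e2, h2⟩ := h2
      refine ⟨e1 + e2, fun e he => ?_⟩
      obtain ⟨e', rfl⟩ : ∃ e', e = e1 + e' := ⟨e - e1, by omega⟩
      obtain ⟨b1, hb1, hz1⟩ := h1 e1 le_rfl
      obtain ⟨b2, hb2, hz2⟩ := h2 e' (by omega)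
      refine ⟨b1 * b2, ?_, ?_⟩
      · rw [pow_add]; exact Submodule.mul_mem_mul hb1 hb2
      · rw [HomogeneousLocalization.val_mul, hz1, hz2, Localization.mk_mul]
        apply mk_eq
        simp only [Submonoid.coe_mul]
        ring
  -- Claim 2
  have claim2 : ∀ i (m : ℕ) (a : A), a ∈ 𝒜 (m * s) → ∃ E, ∀ E', E ≤ E' →
      σ i ^ (s * E') * a ∈ (𝒜 s) ^ (E' + m) := by
    intro i m a ha
    have ha' : a ∈ 𝒜 ((m * s) • 1) := by simpa using ha
    obtain ⟨e0, h⟩ := claim1 i (HomogeneousLocalization.Away.mk 𝒜 (hσ i) (m * s) a ha')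
    obtain ⟨b, hb, hzb⟩ := h e0 le_rfl
    rw [HomogeneousLocalization.Away.val_mk] at hzb
    obtain ⟨c, hc⟩ := Localization.r_iff_exists.mp (Localization.mk_eq_mk_iff.mp hzb)
    obtain ⟨N, hN⟩ := (Submonoid.mem_powers_iff _ _).mp c.2
    simp only at hc
    rw [← hN] at hc
    have hc2 : (σ i ^ N) ^ s * (σ i ^ (s * e0) * a) = (σ i ^ N) ^ s * (σ i ^ (m * s) * b) := by
      have hp : (σ i ^ N) ^ s = (σ i ^ N) ^ (s - 1) * σ i ^ N := by
        rw [← pow_succ, Nat.sub_add_cancel hs]
      rw [hp, mul_assoc, mul_assoc, hc]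
    refine ⟨N + e0, fun E' hE' => ?_⟩
    obtain ⟨d, rfl⟩ : ∃ d, E' = N + e0 + d := ⟨E' - (N + e0), by omega⟩
    have key : σ i ^ (s * (N + e0 + d)) * a = ((σ i ^ s) ^ (N + d + m)) * b := by
      linear_combination (σ i ^ (s * d)) * hc2
    rw [key]
    have : N + e0 + d + m = (N + d + m) + e0 := by omega
    rw [this, pow_add]
    exact Submodule.mul_mem_mul (σs_mem i _) hb
  have lemB : ∀ (t : Finset (Fin n)) (c : Fin n → ℕ),
      ∏ i ∈ t, (σ i ^ s) ^ c i ∈ (𝒜 s) ^ (∑ i ∈ t, c i) := by
    intro t c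
    induction t using Finset.induction_on with
    | empty =>
      simp only [Finset.prod_empty, Finset.sum_empty, pow_zero]
      exact Submodule.mem_one.mpr ⟨1, map_one _⟩
    | insert j t hj ih =>
      rw [Finset.prod_insert hj, Finset.sum_insert hj, pow_add]
      exact Submodule.mul_mem_mul (σs_mem j _) ih
  obtain ⟨i0, hi0⟩ : ∃ i0, 0 < K i0 := by
    by_contra h
    push Not at h
    have : ∑ i, K i = 0 := Finset.sum_eq_zero (fun i _ => Nat.le_zero.mp (h i))
    omega
  rw [eq_top_iff]
  intro z _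
  obtain ⟨m, a, ha, rfl⟩ := HomogeneousLocalization.Away.mk_surjective 𝒜 hπ z
  have claim3 : ∀ j (b : A), b ∈ (𝒜 s) ^ j → ∃ w ∈ Algebra.adjoin (𝒜 0)
      {z : HomogeneousLocalization.Away 𝒜 (∏ i, σ i ^ K i) |
        ∃ f ∈ 𝒜 s, z.val = Localization.mk f ⟨∏ i, σ i ^ K i, Submonoid.mem_powers _⟩},
      w.val = Localization.mk b (⟨(∏ i, σ i ^ K i) ^ j, j, rfl⟩ : Submonoid.powers (∏ i, σ i ^ K i)) := by
    intro j
    induction j with
    | zero =>
      intro b hb
      rw [pow_zero] at hb
      obtain ⟨r, rfl⟩ := Submodule.mem_one.mp hb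
      have hr0 : algebraMap R A r ∈ 𝒜 0 := by
        rw [Algebra.algebraMap_eq_smul_one]
        exact (𝒜 0).smul_mem r (SetLike.one_mem_graded 𝒜)
      refine ⟨algebraMap (𝒜 0) _ ⟨algebraMap R A r, hr0⟩, Subalgebra.algebraMap_mem _ _, ?_⟩
      have : (algebraMap (𝒜 0) (HomogeneousLocalization.Away 𝒜 (∏ i, σ i ^ K i))
          ⟨algebraMap R A r, hr0⟩).val = Localization.mk (algebraMap R A r) 1 := rfl
      rw [this]
      apply mk_eq
      simp
    | succ j ih =>
      intro b hb
      rw [pow_succ'] at hb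
      refine Submodule.mul_induction_on hb ?_ ?_
      · intro g hg x hx
        obtain ⟨w, hw, hwx⟩ := ih x hx
        have hg' : g ∈ 𝒜 (1 • s) := by simpa using hg
        refine ⟨HomogeneousLocalization.Away.mk 𝒜 hπ 1 g hg' * w,
          Subalgebra.mul_mem _ (Algebra.subset_adjoin ⟨g, hg, ?_⟩) hw, ?_⟩
        · rw [HomogeneousLocalization.Away.val_mk]
          apply mk_eq; simp
        · rw [HomogeneousLocalization.val_mul, hwx, HomogeneousLocalization.Away.val_mk,
            Localization.mk_mul]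
          apply mk_eq
          simp only [Submonoid.coe_mul]
          ring
      · rintro x y ⟨w1, hw1, h1⟩ ⟨w2, hw2, h2⟩
        exact ⟨w1 + w2, Subalgebra.add_mem _ hw1 hw2, by
          rw [HomogeneousLocalization.val_add, h1, h2, Localization.add_mk_self]⟩
  have ha2 : a ∈ 𝒜 (m * s) := by simpa using ha
  obtain ⟨E, hE⟩ := claim2 i0 m a ha2
  have h1 : σ i0 ^ (s * (K i0 * E)) * a ∈ (𝒜 s) ^ (K i0 * E + m) :=
    hE (K i0 * E) (Nat.le_mul_of_pos_left E hi0)
  have h2 := lemB (Finset.univ.erase i0) (fun i => K i * E)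
  have hprod : (∏ i, σ i ^ K i) ^ (s * E) * a =
      (∏ i ∈ Finset.univ.erase i0, (σ i ^ s) ^ (K i * E)) * (σ i0 ^ (s * (K i0 * E)) * a) := by
    rw [← Finset.prod_pow, ← Finset.mul_prod_erase Finset.univ _ (Finset.mem_univ i0)]
    have e1 : ∏ i ∈ Finset.univ.erase i0, (σ i ^ K i) ^ (s * E) =
        ∏ i ∈ Finset.univ.erase i0, (σ i ^ s) ^ (K i * E) :=
      Finset.prod_congr rfl (fun i _ => by ring)
    rw [e1]
    ring
  have hmem : (∏ i, σ i ^ K i) ^ (s * E) * a ∈ (𝒜 s) ^ (s * E + m) := by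
    rw [hprod]
    have hsum : s * E + m = (∑ i ∈ Finset.univ.erase i0, K i * E) + (K i0 * E + m) := by
      have : ∑ i ∈ Finset.univ.erase i0, K i * E + K i0 * E = s * E := by
        rw [Finset.sum_erase_add _ _ (Finset.mem_univ i0), ← Finset.sum_mul, hK]
      omega
    rw [hsum, pow_add]
    exact Submodule.mul_mem_mul h2 h1
  obtain ⟨w, hw, hwv⟩ := claim3 _ _ hmem
  have hwz : w = HomogeneousLocalization.Away.mk 𝒜 hπ m a ha := by
    apply HomogeneousLocalization.val_injective
    rw [hwv, HomogeneousLocalization.Away.val_mk]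
    apply mk_eq
    simp only
    ring
  rw [← hwz]; exact hw

end Groth.Agent.S17466
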