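import Groth.Statements.S17469
import Mathlib
import Groth.Agent.Lib.Helper9.IntSection

set_option autoImplicit false
universe u
open CategoryTheory AlgebraicGeometry
open Variety

namespace Groth.Agent.S17469

/-- Let X be a locally Noetherian integral scheme all of whose local rings are integrally closed domains
and U an open subset of X. A section of O_X over U that is integral over the ring of global sections
of X, the latter acting through restriction, is itself the restriction of a global section. (The
published lemma is stated for an irreducible normal variety and for the graded ring of sections over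
U of all non-negative powers of a line bundle, integral over the corresponding ring of sections over
X; for the trivial line bundle its homogeneous components are the present statement, which is made
here for any locally Noetherian normal integral scheme.) -/
theorem result
    (X : Scheme.{u}) [AlgebraicGeometry.IsIntegral X] [IsLocallyNoetherian X]
    (hX : Pi1.IsNormalScheme X) (U : X.Opens) (b : Γ(X, U))
    (hb : (X.presheaf.map (homOfLE le_top : U ⟶ ⊤).op).hom.IsIntegralElem b) :
    b ∈ Set.range (X.presheaf.map (homOfLE le_top : U ⟶ ⊤).op).hom := by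
  classical
  by_cases hUne : Nonempty U
  swap
  · have hbot : U = ⊥ := by
      by_contra hne
      apply hUne
      obtain ⟨x, hx⟩ := (TopologicalSpace.Opens.ne_bot_iff_nonempty U).mp hne
      exact ⟨⟨x, hx⟩⟩
    have key : ∀ (V : X.Opens), V = ⊥ → Subsingleton Γ(X, V) := by
      rintro _ rfl; infer_instance
    haveI := key U hbot
    exact ⟨0, Subsingleton.elim _ _⟩
  have hξ : ∀ (W : X.Opens), (W : Set X).Nonempty → genericPoint X ∈ W := fun W hW =>
    ((genericPoint_spec X).mem_open_set_iff W.isOpen).mpr (by simpa using hW)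
  have hξU : genericPoint X ∈ U := hξ U (by obtain ⟨x⟩ := hUne; exact ⟨x.1, x.2⟩)
  have hξtop : genericPoint X ∈ (⊤ : X.Opens) := trivial
  obtain ⟨β, hβ⟩ : ∃ β : X.presheaf.stalk (genericPoint X),
      β = (X.presheaf.germ U (genericPoint X) hξU).hom b := ⟨_, rfl⟩
  obtain ⟨P, hPm, hP0⟩ := hb
  have hgerm_top : (X.presheaf.germ U (genericPoint X) hξU).hom.comp
      (X.presheaf.map (homOfLE le_top : U ⟶ ⊤).op).hom =
      (X.presheaf.germ ⊤ (genericPoint X) hξtop).hom := by
    rw [← CommRingCat.hom_comp, TopCat.Presheaf.germ_res]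
  have hev : Polynomial.eval₂ (X.presheaf.germ ⊤ (genericPoint X) hξtop).hom β P = 0 := by
    rw [← hgerm_top, hβ, ← Polynomial.hom_eval₂, hP0, map_zero]
  have hloc : ∀ (W : X.Opens), IsAffineOpen W → ∀ hW : genericPoint X ∈ W,
      ∃ a : Γ(X, W), (X.presheaf.germ W (genericPoint X) hW).hom a = β := by
    intro W hWaff hW
    haveI : Nonempty W := ⟨⟨genericPoint X, hW⟩⟩
    haveI : IsIntegrallyClosed Γ(X, W) :=
      Groth.Agent.Helper9.IntSection.isIntegrallyClosed_of_isAffineOpen
        (fun x => (hX x).2) W hWaff
    haveI : IsFractionRing Γ(X, W) X.functionField :=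
      functionField_isFractionRing_of_isAffineOpen X W hWaff
    have halg : algebraMap Γ(X, W) X.functionField =
        (X.presheaf.germ W (genericPoint X) hW).hom := rfl
    have h1 : IsIntegral Γ(X, W) (β : X.functionField) := by
      refine ⟨P.map (X.presheaf.map (homOfLE le_top : W ⟶ ⊤).op).hom, hPm.map _, ?_⟩
      rw [Polynomial.eval₂_map, halg, ← CommRingCat.hom_comp, TopCat.Presheaf.germ_res]
      exact hev
    obtain ⟨a, ha⟩ := IsIntegrallyClosed.isIntegral_iff.mp h1
    exact ⟨a, ha⟩
  have hcov : ∀ x : X, ∃ W : X.Opens, IsAffineOpen W ∧ x ∈ W := by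
    intro x
    obtain ⟨_, ⟨W, hW, rfl⟩, hxW, -⟩ :=
      X.isBasis_affineOpens.exists_subset_of_mem_open (Set.mem_univ x) isOpen_univ
    exact ⟨W, hW, hxW⟩
  choose W hWaff hxW using hcov
  have hξW : ∀ x, genericPoint X ∈ W x := fun x => hξ (W x) ⟨x, hxW x⟩
  choose a ha using fun x => hloc (W x) (hWaff x) (hξW x)
  have hcompat : TopCat.Presheaf.IsCompatible X.presheaf W a := by
    intro x y
    have hξxy : genericPoint X ∈ W x ⊓ W y := ⟨hξW x, hξW y⟩
    apply germ_injective_of_isIntegral X (genericPoint X) hξxy
    have e1 := TopCat.Presheaf.germ_res_apply X.presheaf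
      (TopologicalSpace.Opens.infLELeft (W x) (W y)) (genericPoint X) hξxy (a x)
    have e2 := TopCat.Presheaf.germ_res_apply X.presheaf
      (TopologicalSpace.Opens.infLERight (W x) (W y)) (genericPoint X) hξxy (a y)
    exact e1.trans ((ha x).trans ((ha y).symm.trans e2.symm))
  obtain ⟨s, hs, -⟩ := TopCat.Sheaf.existsUnique_gluing' X.sheaf W ⊤
    (fun x => homOfLE le_top) (fun x _ => TopologicalSpace.Opens.mem_iSup.mpr ⟨x, hxW x⟩)
    a hcompat
  refine ⟨s, ?_⟩
  apply germ_injective_of_isIntegral X (genericPoint X) hξU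
  obtain ⟨x0⟩ : Nonempty X := inferInstance
  have h1 : (X.presheaf.map (homOfLE le_top : W x0 ⟶ ⊤).op).hom s = a x0 := hs x0
  have e1 := TopCat.Presheaf.germ_res_apply X.presheaf
    (homOfLE le_top : U ⟶ ⊤) (genericPoint X) hξU s
  have e2 := TopCat.Presheaf.germ_res_apply X.presheaf
    (homOfLE le_top : W x0 ⟶ ⊤) (genericPoint X) (hξW x0) s
  have h2 : (X.presheaf.germ (W x0) (genericPoint X) (hξW x0)).hom
      ((X.presheaf.map (homOfLE le_top : W x0 ⟶ ⊤).op).hom s) = β := by
    rw [h1]; exact ha x0
  exact e1.trans (e2.symm.trans (h2.trans hβ))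

end Groth.Agent.S17469
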