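import Groth.Statements.S17471

set_option autoImplicit false
universe u v w x
open RootCh

namespace Groth.Agent.S17471

/-- Let Φ be a finite, reduced, crystallographic, irreducible root system with a base, and θ a positive
root such that θ + β is a root for no positive root β (so θ is the highest root). Then Σ_{β>0} ⟨β,
θ^∨⟩² = 2 + Σ_{β>0} ⟨β, θ^∨⟩ = 2(1 + ⟨ρ, θ^∨⟩), ρ being half the sum of the positive roots; in the
source the left side is the index of the adjoint representation obtained from its formal character,
and 1 + ⟨ρ, θ^∨⟩ is the dual Coxeter number. -/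
theorem result
    {ι : Type u} {R : Type v} {M : Type w} {N : Type x}
    [Field R] [LinearOrder R] [IsStrictOrderedRing R]
    [AddCommGroup M] [Module R M] [AddCommGroup N] [Module R N] [Fintype ι]
    (P : RootPairing ι R M N) [P.IsRootSystem] [P.IsCrystallographic] [P.IsReduced]
    [P.IsIrreducible] (b : P.Base) (θ : ι) (hθ : b.IsPos θ)
    (hmax : ∀ i : ι, b.IsPos i → P.root θ + P.root i ∉ Set.range P.root) :
    ∑ i ∈ Finset.univ.filter (fun i => 0 < b.height i), P.pairing i θ ^ 2 =
      2 + ∑ i ∈ Finset.univ.filter (fun i => 0 < b.height i), P.pairing i θ := by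
  classical
  have main : ∀ i, b.IsPos i → i ≠ θ → P.pairingIn ℤ i θ = 0 ∨ P.pairingIn ℤ i θ = 1 := by
    intro i hi hne
    have hneg : P.root i ≠ -P.root θ := by
      intro h
      have h2 : P.root i = P.root θ + (-2 : ℤ) • P.root θ := by
        rw [h]; module
      have h4 := b.height_add_zsmul h2
      have h1 : 0 < b.height i := hi
      have h3 : 0 < b.height θ := hθ
      simp only [smul_eq_mul] at h4
      omega
    have hlist := P.pairingIn_pairingIn_mem_set_of_isCrystal_of_isRed i θ
    have hnn : 0 ≤ P.pairingIn ℤ i θ := by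
      by_contra hlt
      push Not at hlt
      have h5 := P.root_add_root_mem_of_pairingIn_neg hlt hneg
      exact hmax i hi (by rwa [add_comm])
    simp only [Set.mem_insert_iff, Set.mem_singleton_iff, Prod.mk.injEq] at hlist
    have h22 : ¬ (P.pairingIn ℤ i θ = 2 ∧ P.pairingIn ℤ θ i = 2) := by
      rw [P.pairingIn_two_two_iff]; exact hne
    by_contra hcon
    push Not at hcon
    have hz' : P.pairingIn ℤ θ i = 1 ∧ (P.pairingIn ℤ i θ = 2 ∨ P.pairingIn ℤ i θ = 3) := by
      omega
    obtain ⟨hz1, hz⟩ := hz'
    obtain ⟨δ, hδ⟩ := P.root_sub_root_mem_of_pairingIn_pos (i := θ) (j := i) (by omega) (Ne.symm hne)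
    have hδpos : b.IsPos δ := by
      by_contra hnp
      have hr : P.root (P.reflectionPerm δ δ) = P.root i - P.root θ := by
        rw [P.root_reflectionPerm, P.reflection_apply_self, hδ]; abel
      have hpos' : b.IsPos (P.reflectionPerm δ δ) := by
        have h1 := b.height_sub hr
        have h2 := b.height_sub hδ
        have h3 := b.height_ne_zero δ
        rw [RootPairing.Base.isPos_iff] at hnp ⊢
        omega
      apply hmax _ hpos'
      exact ⟨i, by rw [hr]; abel⟩
    apply hmax δ hδpos
    rcases hz with hz | hz
    · refine ⟨P.reflectionPerm (P.reflectionPerm θ i) (P.reflectionPerm θ i), ?_⟩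
      rw [P.root_reflectionPerm, P.reflection_apply_self, P.root_reflectionPerm,
        P.reflection_apply_root' ℤ, hz, hδ]
      module
    · refine ⟨P.reflectionPerm θ δ, ?_⟩
      have hp : P.pairingIn ℤ δ θ = -1 := by
        have h6 : P.root θ = P.root δ + P.root i := by rw [hδ]; abel
        have h7 := RootPairing.pairingIn_eq_add_of_root_eq_add (S := ℤ) (j := θ) h6
        rw [P.pairingIn_same] at h7
        omega
      rw [P.root_reflectionPerm, P.reflection_apply_root' ℤ, hp]
      module
  have key : ∑ i ∈ Finset.univ.filter (fun i => 0 < b.height i),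
      (P.pairing i θ ^ 2 - P.pairing i θ) = 2 := by
    rw [Finset.sum_eq_single θ]
    · rw [P.pairing_same]; norm_num
    · intro i hi hne
      have hi' : b.IsPos i := (Finset.mem_filter.mp hi).2
      rcases main i hi' hne with h | h
      · rw [← P.algebraMap_pairingIn ℤ, h]; simp
      · rw [← P.algebraMap_pairingIn ℤ, h]; simp
    · intro hθ'
      exact (hθ' (by simp only [Finset.mem_filter, Finset.mem_univ, true_and]; exact hθ)).elim
  rw [Finset.sum_sub_distrib] at key
  linarith

end Groth.Agent.S17471
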