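import Groth.Statements.S8925
import Mathlib

set_option autoImplicit false
universe u
open InjHull

namespace Groth.Agent.S8925

/-- If S is a flat R-algebra and E is an injective S-module, then E, viewed as an R-module by
restriction of scalars, is an injective R-module. -/
theorem result (R S : Type u) [CommRing R] [CommRing S] [Algebra R S] [Module.Flat R S] (E : Type u) [AddCommGroup E] [Module S E] [Module R E] [IsScalarTower R S E] [Module.Injective S E] : Module.Injective R E := by
  apply Module.Baer.injective
  intro I g
  -- the S-linear injection S ⊗[R] I → S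
  let f : TensorProduct R S I →ₗ[S] S :=
    (TensorProduct.AlgebraTensorModule.rid R S S).toLinearMap ∘ₗ (LinearMap.baseChange S I.subtype)
  have hf : Function.Injective f := by
    have h1 : Function.Injective (LinearMap.baseChange S (I.subtype : I →ₗ[R] R)) := by
      have := Module.Flat.lTensor_preserves_injective_linearMap (M := S) (I.subtype : I →ₗ[R] R)
        Subtype.val_injective
      rw [LinearMap.baseChange_eq_ltensor]
      exact this
    exact (TensorProduct.AlgebraTensorModule.rid R S S).injective.comp h1
  let gt : TensorProduct R S I →ₗ[S] E := LinearMap.liftBaseChange S g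
  obtain ⟨H, hH⟩ := Module.Injective.out f hf gt
  refine ⟨(H.restrictScalars R) ∘ₗ (Algebra.linearMap R S), ?_⟩
  intro x hx
  have h2 := hH ((1 : S) ⊗ₜ[R] (⟨x, hx⟩ : I))
  have h3 : f ((1 : S) ⊗ₜ[R] (⟨x, hx⟩ : I)) = algebraMap R S x := by
    simp [f, Algebra.smul_def]
  have h4 : gt ((1 : S) ⊗ₜ[R] (⟨x, hx⟩ : I)) = g ⟨x, hx⟩ := by
    simp [gt]
  rw [h3, h4] at h2
  simpa using h2

end Groth.Agent.S8925
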