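import Groth.Statements.S1750
import Mathlib
import Groth.Agent.Lib.Helper7.Matlis3
import Groth.Agent.S8925

set_option autoImplicit false
universe u
open InjHull

namespace Groth.Agent.S1750

/-- Let R → S be a flat local homomorphism of Noetherian local rings with m_R S = m_S inducing a
bijection on residue fields. If κ_S → E is an injective hull of the residue field of S over S, then
E regarded as an R-module is an injective hull of the residue field of R (for a suitable R-linear
map κ_R → E). -/
theorem result (R S : Type u) [CommRing R] [CommRing S] [IsLocalRing R] [IsLocalRing S] [IsNoetherianRing R] [IsNoetherianRing S] [Algebra R S] [IsLocalHom (algebraMap R S)] [Module.Flat R S] (hm : (IsLocalRing.maximalIdeal R).map (algebraMap R S) = IsLocalRing.maximalIdeal S) (hk : Function.Bijective (IsLocalRing.ResidueField.map (algebraMap R S))) (E : Type u) [AddCommGroup E] [Module S E] [Module R E] [IsScalarTower R S E] (f : IsLocalRing.ResidueField S →ₗ[S] E) (hf : InjHull.IsInjectiveHull f) : ∃ g : IsLocalRing.ResidueField R →ₗ[R] E, InjHull.IsInjectiveHull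 g := by
  classical
  haveI := hf.isInjective
  have hinjR : Module.Injective R E := Groth.Agent.S8925.result R S E
  -- power torsion over R
  have hptS := Groth.Agent.Helper7.Matlis.hull_isPowerTorsion f hf
  have hmap : ∀ n : ℕ, ∀ a ∈ (IsLocalRing.maximalIdeal R) ^ n,
      algebraMap R S a ∈ (IsLocalRing.maximalIdeal S) ^ n := by
    intro n a ha
    rw [← hm, ← Ideal.map_pow]
    exact Ideal.mem_map_of_mem _ ha
  have hptR : LocCoh.IsPowerTorsion (IsLocalRing.maximalIdeal R) E := by
    intro x
    obtain ⟨n, hn⟩ := hptS x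
    refine ⟨n, fun a ha => ?_⟩
    rw [← algebraMap_smul S a x]
    exact hn _ (hmap n a ha)
  -- the R-linear map k_R → k_S
  let ρ : IsLocalRing.ResidueField R →+* IsLocalRing.ResidueField S :=
    IsLocalRing.ResidueField.map (algebraMap R S)
  let φ : IsLocalRing.ResidueField R →ₗ[R] IsLocalRing.ResidueField S :=
    { toFun := ρ
      map_add' := map_add ρ
      map_smul' := fun r x => by
        rw [RingHom.id_apply, Algebra.smul_def, Algebra.smul_def, map_mul,
          IsLocalRing.ResidueField.algebraMap_eq,
          IsScalarTower.algebraMap_apply R S (IsLocalRing.ResidueField S),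
          IsLocalRing.ResidueField.algebraMap_eq]
        congr 1 }
  let g : IsLocalRing.ResidueField R →ₗ[R] E := (f.restrictScalars R) ∘ₗ φ
  have hg : ∀ x, g x = f (ρ x) := fun x => rfl
  refine ⟨g, ?_⟩
  refine { toIsEssentialInj := ?_, isInjective := hinjR }
  rw [Groth.Agent.Helper7.IH.isEssentialInj_iff]
  refine ⟨fun x y h => hk.1 (hf.injective h), fun x hx => ?_⟩
  obtain ⟨r, hr, hr0⟩ := Groth.Agent.Helper7.Matlis.socle_essential
    (IsLocalRing.maximalIdeal R) hptR x hx
  refine ⟨r, ?_, hr0⟩
  set y := r • x with hy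
  -- y is killed by m_S
  have hyS : y ∈ Submodule.torsionBySet S E (IsLocalRing.maximalIdeal S : Set S) := by
    rw [Submodule.mem_torsionBySet_iff]
    rintro ⟨b, hb⟩
    change b • y = 0
    rw [← hm, Ideal.map] at hb
    refine Submodule.span_induction (p := fun b _ => b • y = 0) ?_ ?_ ?_ ?_ hb
    · rintro _ ⟨a, ha, rfl⟩
      rw [algebraMap_smul]
      exact (Submodule.mem_torsionBySet_iff _ _).1 hr ⟨a, ha⟩
    · exact zero_smul _ _
    · intro b c _ _ hb hc
      rw [add_smul, hb, hc, add_zero]
    · intro s b _ hb
      rw [smul_eq_mul, mul_smul, hb, smul_zero]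
  rw [Groth.Agent.Helper7.Matlis.socle_eq_range f hf.toIsEssentialInj] at hyS
  obtain ⟨c, hc⟩ := hyS
  obtain ⟨c', rfl⟩ := hk.2 c
  exact ⟨c', by rw [hg]; exact hc⟩

end Groth.Agent.S1750
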