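import Groth.Statements.S17500
import Mathlib

set_option autoImplicit false
universe u
open TorsMod

namespace Groth.Agent.S17500

section Aux

open TensorProduct

theorem pi_pow_n (p n : ℕ) : ((p : ZMod (p ^ n)) ^ n) = 0 := by
  rw [← Nat.cast_pow]; exact ZMod.natCast_self _

theorem ann_pow (p n : ℕ) (hp : p.Prime) (i : ℕ) (hi : i ≤ n) (a : ZMod (p ^ n))
    (h : (p : ZMod (p ^ n)) ^ i * a = 0) :
    ∃ b : ZMod (p ^ n), a = (p : ZMod (p ^ n)) ^ (n - i) * b := by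
  have : NeZero (p ^ n) := ⟨pow_ne_zero n hp.ne_zero⟩
  have h1 : ((p ^ i * a.val : ℕ) : ZMod (p ^ n)) = 0 := by
    rw [Nat.cast_mul, Nat.cast_pow, ZMod.natCast_zmod_val]; exact h
  rw [ZMod.natCast_eq_zero_iff] at h1
  have h2 : p ^ i * p ^ (n - i) ∣ p ^ i * a.val := by
    rw [← pow_add, Nat.add_sub_cancel' hi]; exact h1
  obtain ⟨c, hc⟩ := Nat.dvd_of_mul_dvd_mul_left (pow_pos hp.pos i) h2
  refine ⟨(c : ZMod (p ^ n)), ?_⟩
  calc a = ((a.val : ℕ) : ZMod (p ^ n)) := (ZMod.natCast_zmod_val a).symm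
    _ = ((p ^ (n - i) * c : ℕ) : ZMod (p ^ n)) := by rw [hc]
    _ = _ := by rw [Nat.cast_mul, Nat.cast_pow]

theorem ideal_eq (p n : ℕ) (hp : p.Prime) (I : Ideal (ZMod (p ^ n))) :
    ∃ i : ℕ, i ≤ n ∧ I = Ideal.span {(p : ZMod (p ^ n)) ^ i} := by
  classical
  have : NeZero (p ^ n) := ⟨pow_ne_zero n hp.ne_zero⟩
  have hn0 := pi_pow_n p n
  have hex : ∃ i, (p : ZMod (p ^ n)) ^ i ∈ I := ⟨n, by rw [hn0]; exact I.zero_mem⟩
  have hi : (p : ZMod (p ^ n)) ^ (Nat.find hex) ∈ I := Nat.find_spec hex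
  have hmin : ∀ j, (p : ZMod (p ^ n)) ^ j ∈ I → Nat.find hex ≤ j := fun j hj => Nat.find_min' hex hj
  refine ⟨Nat.find hex, hmin n (by rw [hn0]; exact I.zero_mem),
    le_antisymm ?_ ((Ideal.span_singleton_le_iff_mem _).mpr hi)⟩
  intro a ha
  by_cases ha0 : a = 0
  · rw [ha0]; exact zero_mem _
  have hval : a.val ≠ 0 := fun h0 => ha0 (by rw [← ZMod.natCast_zmod_val a, h0, Nat.cast_zero])
  obtain ⟨v, m, hpm, hvm⟩ := Nat.exists_eq_pow_mul_and_not_dvd hval p hp.ne_one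
  have ha' : a = (p : ZMod (p ^ n)) ^ v * (m : ZMod (p ^ n)) := by
    calc a = ((a.val : ℕ) : ZMod (p ^ n)) := (ZMod.natCast_zmod_val a).symm
      _ = ((p ^ v * m : ℕ) : ZMod (p ^ n)) := by rw [hvm]
      _ = _ := by rw [Nat.cast_mul, Nat.cast_pow]
  have hu : IsUnit (m : ZMod (p ^ n)) := by
    rw [ZMod.isUnit_iff_coprime]
    exact Nat.Coprime.pow_right n ((Nat.Prime.coprime_iff_not_dvd hp).mpr hpm).symm
  have hπv : (p : ZMod (p ^ n)) ^ v ∈ I := by
    obtain ⟨u, hu⟩ := hu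
    have : (p : ZMod (p ^ n)) ^ v = a * ↑u⁻¹ := by
      rw [ha', ← hu, mul_assoc, Units.mul_inv, mul_one]
    rw [this]; exact I.mul_mem_right _ ha
  have hiv := hmin v hπv
  rw [ha', Ideal.mem_span_singleton]
  exact Dvd.dvd.mul_right (pow_dvd_pow _ hiv) _

theorem flat_of_cond (p n : ℕ) (hp : p.Prime)
    (H : Type u) [AddCommGroup H] [Module (ZMod (p ^ n)) H]
    (hc : ∀ i : ℕ, i ≤ n → ∀ h : H, (p : ZMod (p ^ n)) ^ i • h = 0 →
      ∃ h' : H, h = (p : ZMod (p ^ n)) ^ (n - i) • h') :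
    Module.Flat (ZMod (p ^ n)) H := by
  rw [Module.Flat.iff_rTensor_injective']
  intro I
  obtain ⟨i, hi, rfl⟩ := ideal_eq p n hp I
  have hg : (p : ZMod (p ^ n)) ^ i ∈ Ideal.span {(p : ZMod (p ^ n)) ^ i} :=
    Ideal.mem_span_singleton_self _
  have hrep : ∀ z : (Ideal.span {(p : ZMod (p ^ n)) ^ i} : Ideal (ZMod (p ^ n))) ⊗[ZMod (p ^ n)] H,
      ∃ h : H, z = (⟨(p : ZMod (p ^ n)) ^ i, hg⟩ : (Ideal.span {(p : ZMod (p ^ n)) ^ i} :
        Ideal (ZMod (p ^ n)))) ⊗ₜ[ZMod (p ^ n)] h := by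
    intro z
    induction z using TensorProduct.induction_on with
    | zero => exact ⟨0, by rw [tmul_zero]⟩
    | tmul x m =>
      obtain ⟨r, hr⟩ := Ideal.mem_span_singleton'.mp x.2
      refine ⟨r • m, ?_⟩
      have hx : x = r • (⟨(p : ZMod (p ^ n)) ^ i, hg⟩ : (Ideal.span {(p : ZMod (p ^ n)) ^ i} :
          Ideal (ZMod (p ^ n)))) := by
        apply Subtype.ext
        rw [Submodule.coe_smul, smul_eq_mul]
        exact hr.symm
      rw [hx, TensorProduct.smul_tmul]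
    | add z₁ z₂ h₁ h₂ =>
      obtain ⟨a₁, rfl⟩ := h₁
      obtain ⟨a₂, rfl⟩ := h₂
      exact ⟨a₁ + a₂, by rw [tmul_add]⟩
  rw [injective_iff_map_eq_zero]
  intro z hz
  obtain ⟨h, rfl⟩ := hrep z
  have h0 : (p : ZMod (p ^ n)) ^ i • h = 0 := by
    have := congrArg (TensorProduct.lid (ZMod (p ^ n)) H) hz
    simpa using this
  obtain ⟨h', rfl⟩ := hc i hi h h0
  rw [← TensorProduct.smul_tmul]
  have : (p : ZMod (p ^ n)) ^ (n - i) • (⟨(p : ZMod (p ^ n)) ^ i, hg⟩ :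
      (Ideal.span {(p : ZMod (p ^ n)) ^ i} : Ideal (ZMod (p ^ n)))) = 0 := by
    apply Subtype.ext
    rw [Submodule.coe_smul, smul_eq_mul, ← pow_add, Nat.sub_add_cancel hi, pi_pow_n]
    rfl
  rw [this, zero_tmul]

theorem cond_of_flat (p n : ℕ) (hp : p.Prime)
    (H : Type u) [AddCommGroup H] [Module (ZMod (p ^ n)) H] [Module.Flat (ZMod (p ^ n)) H]
    (i : ℕ) (hi : i ≤ n) (h : H) (h0 : (p : ZMod (p ^ n)) ^ i • h = 0) :
    ∃ h' : H, h = (p : ZMod (p ^ n)) ^ (n - i) • h' := by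
  have hrel : ∑ j : Fin 1, (fun _ : Fin 1 => (p : ZMod (p ^ n)) ^ i) j • (fun _ : Fin 1 => h) j
      = 0 := by
    simpa using h0
  obtain ⟨k, a, y, hx, ha⟩ := Module.Flat.isTrivialRelation_of_sum_smul_eq_zero
    (f := fun _ : Fin 1 => (p : ZMod (p ^ n)) ^ i) (x := fun _ : Fin 1 => h) hrel
  have hb : ∀ j : Fin k, ∃ b : ZMod (p ^ n), a 0 j = (p : ZMod (p ^ n)) ^ (n - i) * b := by
    intro j
    apply ann_pow p n hp i hi
    have := ha j
    simpa using this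
  choose b hb using hb
  refine ⟨∑ j, b j • y j, ?_⟩
  have := hx 0
  simp only at this
  rw [this, Finset.smul_sum]
  refine Finset.sum_congr rfl fun j _ => ?_
  rw [hb j, mul_smul]

end Aux

/-- Let p be a prime number, n a natural number and H a module over ℤ/p^nℤ. Then H is flat over ℤ/p^nℤ
if and only if, for every i with 0 ≤ i ≤ n, the kernel of multiplication by p^i on H coincides with
the image of multiplication by p^(n-i) on H. (The published item is phrased for an fppf sheaf of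
ℤ/p^nℤ-modules on a scheme; this is the case of a single module, which is the case the argument
treats.) -/
theorem result (p n : ℕ) [Fact p.Prime]
    (H : Type u) [AddCommGroup H] [Module (ZMod (p ^ n)) H] :
    Module.Flat (ZMod (p ^ n)) H ↔
      ∀ i : ℕ, i ≤ n →
        LinearMap.ker ((p ^ i : ZMod (p ^ n)) • (LinearMap.id : H →ₗ[ZMod (p ^ n)] H)) =
          LinearMap.range ((p ^ (n - i) : ZMod (p ^ n)) • (LinearMap.id : H →ₗ[ZMod (p ^ n)] H)) := by
  have hp : p.Prime := Fact.out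
  constructor
  · intro hflat i hi
    ext h
    simp only [LinearMap.mem_ker, LinearMap.smul_apply, LinearMap.id_apply, LinearMap.mem_range]
    constructor
    · intro h0
      obtain ⟨h', hh'⟩ := cond_of_flat p n hp H i hi h h0
      exact ⟨h', hh'.symm⟩
    · rintro ⟨y, rfl⟩
      rw [← mul_smul, ← pow_add, Nat.add_sub_cancel' hi, pi_pow_n, zero_smul]
  · intro hc
    apply flat_of_cond p n hp H
    intro i hi h h0
    have hmem : h ∈ LinearMap.ker
        ((p ^ i : ZMod (p ^ n)) • (LinearMap.id : H →ₗ[ZMod (p ^ n)] H)) := by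
      simpa using h0
    rw [hc i hi] at hmem
    obtain ⟨y, hy⟩ := hmem
    exact ⟨y, by simpa using hy.symm⟩

end Groth.Agent.S17500
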