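import Groth.Statements.S17512
import Mathlib

set_option autoImplicit false
universe u
open ThetaRep

namespace Groth.Agent.S17512


open Subgroup
open scoped commutatorElement

section Aux

theorem card_quot_le {G : Type*} {T : Type*} [Group G] (C : Subgroup G) [Finite T] (f : G → T)
    (h : ∀ a b, f a = f b ↔ a⁻¹ * b ∈ C) : Nat.card (G ⧸ C) ≤ Nat.card T := by
  refine Nat.card_le_card_of_injective
    (Quotient.lift f (fun a b hab => (h a b).mpr (QuotientGroup.leftRel_apply.mp hab))) ?_
  rintro ⟨a⟩ ⟨b⟩ hxy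
  exact QuotientGroup.eq.mpr ((h a b).mp hxy)

theorem char_bound {G : Type*} [Group G] (N : Subgroup G) [Finite (G ⧸ N)] (L : Type*) [Field L] :
    Finite {χ : G →* L // ∀ n ∈ N, χ n = 1} ∧
      Nat.card {χ : G →* L // ∀ n ∈ N, χ n = 1} ≤ Nat.card (G ⧸ N) := by
  classical
  have hli0 : LinearIndependent L
      (fun t : {χ : G →* L // ∀ n ∈ N, χ n = 1} => ((t.1 : G →* L) : G → L)) :=
    (linearIndependent_monoidHom G L).comp Subtype.val Subtype.val_injective
  let v : {χ : G →* L // ∀ n ∈ N, χ n = 1} → (G ⧸ N → L) := fun t =>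
    Quotient.lift (t.1 : G → L) (fun a b hab => by
      have h1 : a⁻¹ * b ∈ N := QuotientGroup.leftRel_apply.mp hab
      have h2 : t.1 (a⁻¹ * b) = 1 := t.2 _ h1
      have h3 : t.1 b = t.1 a * t.1 (a⁻¹ * b) := by rw [← map_mul, mul_inv_cancel_left]
      rw [h3, h2, mul_one])
  have hli : LinearIndependent L v := by
    refine LinearIndependent.of_comp (LinearMap.funLeft L L (QuotientGroup.mk : G → G ⧸ N)) ?_
    have hcomp : (LinearMap.funLeft L L (QuotientGroup.mk : G → G ⧸ N)) ∘ v
        = fun t => ((t.1 : G →* L) : G → L) := by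
      funext t g
      rfl
    rw [hcomp]; exact hli0
  haveI := Fintype.ofFinite (G ⧸ N)
  have hfin : Finite {χ : G →* L // ∀ n ∈ N, χ n = 1} := hli.finite
  refine ⟨hfin, ?_⟩
  haveI := Fintype.ofFinite {χ : G →* L // ∀ n ∈ N, χ n = 1}
  have h1 := hli.fintype_card_le_finrank
  rw [Module.finrank_fintype_fun_eq_card] at h1
  rw [Nat.card_eq_fintype_card, Nat.card_eq_fintype_card]
  exact h1

variable {k : Type u} [Field k] {Γ : Type u} [Group Γ] (ι : kˣ →* Γ)

theorem comm_mem (hcomm : commutator Γ ≤ ι.range) (g h : Γ) : ∃ u : kˣ, ι u = ⁅g, h⁆ :=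
  hcomm (Subgroup.commutator_mem_commutator (Subgroup.mem_top g) (Subgroup.mem_top h))

noncomputable def ee (hcomm : commutator Γ ≤ ι.range) (g h : Γ) : kˣ :=
  Classical.choose (comm_mem ι hcomm g h)

theorem ι_ee (hcomm : commutator Γ ≤ ι.range) (g h : Γ) : ι (ee ι hcomm g h) = ⁅g, h⁆ :=
  Classical.choose_spec (comm_mem ι hcomm g h)

theorem comm_mul (hcomm : commutator Γ ≤ ι.range) (hcent : ι.range = Subgroup.center Γ)
    (g h h' : Γ) : ⁅g, h * h'⁆ = ⁅g, h⁆ * ⁅g, h'⁆ := by
  have hc : ⁅g, h'⁆ ∈ Subgroup.center Γ := by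
    rw [← hcent]; exact comm_mem ι hcomm g h'
  have hc' := Subgroup.mem_center_iff.mp hc h⁻¹
  calc ⁅g, h * h'⁆ = g * h * g⁻¹ * (⁅g, h'⁆ * h⁻¹) := by
        simp only [commutatorElement_def]; group
    _ = g * h * g⁻¹ * (h⁻¹ * ⁅g, h'⁆) := by rw [hc']
    _ = ⁅g, h⁆ * ⁅g, h'⁆ := by simp only [commutatorElement_def]; group

noncomputable def psi (hι : Function.Injective ι) (hcomm : commutator Γ ≤ ι.range)
    (hcent : ι.range = Subgroup.center Γ) (g : Γ) : Γ →* k :=
  (Units.coeHom k).comp
    { toFun := ee ι hcomm g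
      map_one' := by
        apply hι
        rw [ι_ee, map_one, commutatorElement_one_right]
      map_mul' := fun h h' => by
        apply hι
        rw [map_mul, ι_ee, ι_ee, ι_ee, comm_mul ι hcomm hcent] }

theorem psi_apply (hι : Function.Injective ι) (hcomm : commutator Γ ≤ ι.range)
    (hcent : ι.range = Subgroup.center Γ) (g h : Γ) :
    psi ι hι hcomm hcent g h = ((ee ι hcomm g h : kˣ) : k) := rfl

theorem psi_eq_iff (hι : Function.Injective ι) (hcomm : commutator Γ ≤ ι.range)
    (hcent : ι.range = Subgroup.center Γ) (g g' h : Γ) :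
    psi ι hι hcomm hcent g h = psi ι hι hcomm hcent g' h ↔ h * (g⁻¹ * g') = (g⁻¹ * g') * h := by
  rw [psi_apply, psi_apply, Units.val_inj, ← hι.eq_iff, ι_ee, ι_ee]
  simp only [commutatorElement_def]
  constructor
  · intro hyp
    calc h * (g⁻¹ * g') = g⁻¹ * (g * h * g⁻¹ * h⁻¹) * h * g' := by group
      _ = g⁻¹ * (g' * h * g'⁻¹ * h⁻¹) * h * g' := by rw [hyp]
      _ = (g⁻¹ * g') * h := by group
  · intro hyp
    calc g * h * g⁻¹ * h⁻¹ = g * (h * (g⁻¹ * g')) * g'⁻¹ * h⁻¹ := by group
      _ = g * ((g⁻¹ * g') * h) * g'⁻¹ * h⁻¹ := by rw [hyp]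
      _ = g' * h * g'⁻¹ * h⁻¹ := by group

theorem psi_eq_one_iff (hι : Function.Injective ι) (hcomm : commutator Γ ≤ ι.range)
    (hcent : ι.range = Subgroup.center Γ) (g h : Γ) :
    psi ι hι hcomm hcent g h = 1 ↔ g * h = h * g := by
  rw [psi_apply, Units.val_eq_one, ← commutatorElement_eq_one_iff_mul_comm, ← ι_ee ι hcomm g h]
  constructor
  · intro h1; rw [h1, map_one]
  · intro h1; exact hι (by rw [h1, map_one])

theorem ineq_a (hι : Function.Injective ι) (hcomm : commutator Γ ≤ ι.range)
    (hcent : ι.range = Subgroup.center Γ) [Finite (Γ ⧸ ι.range)] (H : Subgroup Γ)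
    (hH : ι.range ≤ H) : (centralizer (H : Set Γ)).index ≤ ι.range.relIndex H := by
  have hn0 : ι.range.index ≠ 0 := Subgroup.index_ne_zero_of_finite
  have h1 := Subgroup.relIndex_mul_index hH
  have hz0 : (ι.range.subgroupOf H).index ≠ 0 := fun h0 => hn0 (by
    rw [← h1]; show (ι.range.subgroupOf H).index * _ = 0; rw [h0, zero_mul])
  haveI : Finite (↥H ⧸ ι.range.subgroupOf H) := Nat.finite_of_card_ne_zero hz0
  obtain ⟨hfin, hcard⟩ := char_bound (ι.range.subgroupOf H) k
  let f : Γ → {χ : ↥H →* k // ∀ n ∈ ι.range.subgroupOf H, χ n = 1} := fun g =>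
    ⟨(psi ι hι hcomm hcent g).comp H.subtype, fun n hn => by
      rw [MonoidHom.comp_apply, psi_eq_one_iff]
      have hn' : (n : Γ) ∈ Subgroup.center Γ := by
        rw [← hcent]; exact Subgroup.mem_subgroupOf.mp hn
      exact Subgroup.mem_center_iff.mp hn' g⟩
  have hf : ∀ a b, f a = f b ↔ a⁻¹ * b ∈ centralizer (H : Set Γ) := by
    intro a b
    rw [Subtype.ext_iff, DFunLike.ext_iff, Subgroup.mem_centralizer_iff]
    constructor
    · intro h2 x hx
      exact (psi_eq_iff ι hι hcomm hcent a b x).mp (h2 ⟨x, hx⟩)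
    · intro h2 x
      exact (psi_eq_iff ι hι hcomm hcent a b x).mpr (h2 x x.2)
  have h3 := card_quot_le (centralizer (H : Set Γ)) f hf
  exact h3.trans hcard

theorem ineq_b (hι : Function.Injective ι) (hcomm : commutator Γ ≤ ι.range)
    (hcent : ι.range = Subgroup.center Γ) [Finite (Γ ⧸ ι.range)] (H : Subgroup Γ)
    (hH : ι.range ≤ H) : ι.range.relIndex (centralizer (H : Set Γ)) ≤ H.index := by
  have hn0 : ι.range.index ≠ 0 := Subgroup.index_ne_zero_of_finite
  have h1 := Subgroup.relIndex_mul_index hH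
  have hH0 : H.index ≠ 0 := fun h0 => hn0 (by rw [← h1, h0, mul_zero])
  haveI : Finite (Γ ⧸ H) := Nat.finite_of_card_ne_zero hH0
  obtain ⟨hfin, hcard⟩ := char_bound H k
  let f : ↥(centralizer (H : Set Γ)) → {χ : Γ →* k // ∀ n ∈ H, χ n = 1} := fun g =>
    ⟨psi ι hι hcomm hcent g, fun n hn => by
      rw [psi_eq_one_iff]
      exact (Subgroup.mem_centralizer_iff.mp g.2 n hn).symm⟩
  have hf : ∀ a b, f a = f b ↔ a⁻¹ * b ∈ ι.range.subgroupOf (centralizer (H : Set Γ)) := by
    intro a b
    rw [Subtype.ext_iff, DFunLike.ext_iff, Subgroup.mem_subgroupOf, hcent,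
      Subgroup.mem_center_iff]
    constructor
    · intro h2 x
      exact (psi_eq_iff ι hι hcomm hcent a b x).mp (h2 x)
    · intro h2 x
      exact (psi_eq_iff ι hι hcomm hcent a b x).mpr (h2 x)
  have h3 := card_quot_le (ι.range.subgroupOf (centralizer (H : Set Γ))) f hf
  exact h3.trans hcard

theorem main (hι : Function.Injective ι) (hcomm : commutator Γ ≤ ι.range)
    (hcent : ι.range = Subgroup.center Γ) [Finite (Γ ⧸ ι.range)] (H : Subgroup Γ)
    (hH : ι.range ≤ H) :
    List.TFAE [
      IsMulCommutative H ∧ ∀ H' : Subgroup Γ, IsMulCommutative H' → H ≤ H' → H' = H,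
      IsMulCommutative H ∧ (ι.range.relIndex H) ^ 2 = ι.range.index,
      H = Subgroup.centralizer (H : Set Γ)] := by
  have hZC : ι.range ≤ centralizer (H : Set Γ) := by
    rw [hcent]; exact Subgroup.center_le_centralizer _
  have hn0 : ι.range.index ≠ 0 := Subgroup.index_ne_zero_of_finite
  have h1 := Subgroup.relIndex_mul_index hH
  have h2 := Subgroup.relIndex_mul_index hZC
  have ha := ineq_a ι hι hcomm hcent H hH
  have hb := ineq_b ι hι hcomm hcent H hH
  have hz0 : ι.range.relIndex H ≠ 0 := fun h0 => hn0 (by rw [← h1, h0, zero_mul])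
  have hkey : ι.range.relIndex (centralizer (H : Set Γ)) * ι.range.relIndex H
      = ι.range.index := by
    apply le_antisymm
    · calc ι.range.relIndex (centralizer (H : Set Γ)) * ι.range.relIndex H
          ≤ H.index * ι.range.relIndex H := Nat.mul_le_mul_right _ hb
        _ = ι.range.index := by rw [mul_comm, h1]
    · calc ι.range.index
          = ι.range.relIndex (centralizer (H : Set Γ)) * (centralizer (H : Set Γ)).index :=
            h2.symm
        _ ≤ ι.range.relIndex (centralizer (H : Set Γ)) * ι.range.relIndex H :=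
            Nat.mul_le_mul_left _ ha
  tfae_have 1 → 3 := by
    rintro ⟨hc, hmax⟩
    haveI := hc
    have hle : H ≤ centralizer (H : Set Γ) := Subgroup.le_centralizer H
    apply le_antisymm hle
    intro g hg
    have hcommA : ∀ x ∈ ((H : Set Γ) ∪ {g}), ∀ y ∈ ((H : Set Γ) ∪ {g}), x * y = y * x := by
      rintro x (hx | hx) y (hy | hy)
      · exact setLike_mul_comm hx hy
      · rw [Set.mem_singleton_iff] at hy; subst hy
        exact Subgroup.mem_centralizer_iff.mp hg x hx
      · rw [Set.mem_singleton_iff] at hx; subst hx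
        exact (Subgroup.mem_centralizer_iff.mp hg y hy).symm
      · rw [Set.mem_singleton_iff] at hx hy; rw [hx, hy]
    have hHle : H ≤ closure ((H : Set Γ) ∪ {g}) := fun x hx => subset_closure (Or.inl hx)
    have h5 := hmax (closure ((H : Set Γ) ∪ {g})) (Subgroup.isMulCommutative_closure hcommA) hHle
    rw [← h5]
    exact subset_closure (Or.inr rfl)
  tfae_have 3 → 1 := by
    intro h3
    have hle : H ≤ centralizer (H : Set Γ) := le_of_eq h3
    have hc : IsMulCommutative H := Subgroup.le_centralizer_iff_isMulCommutative.mp hle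
    refine ⟨hc, fun H' hH' hHH' => le_antisymm ?_ hHH'⟩
    intro x hx
    haveI := hH'
    have hx' : x ∈ centralizer (H : Set Γ) :=
      Subgroup.mem_centralizer_iff.mpr (fun y hy =>
        setLike_mul_comm (hHH' hy) hx)
    exact h3 ▸ hx'
  tfae_have 3 → 2 := by
    intro h3
    have hle : H ≤ centralizer (H : Set Γ) := le_of_eq h3
    have hc : IsMulCommutative H := Subgroup.le_centralizer_iff_isMulCommutative.mp hle
    refine ⟨hc, ?_⟩
    rw [← h3] at hkey
    rw [pow_two]; exact hkey
  tfae_have 2 → 3 := by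
    rintro ⟨hc, h2'⟩
    haveI := hc
    have hle : H ≤ centralizer (H : Set Γ) := Subgroup.le_centralizer H
    have heq : ι.range.relIndex (centralizer (H : Set Γ)) = ι.range.relIndex H :=
      Nat.eq_of_mul_eq_mul_right (Nat.pos_of_ne_zero hz0)
        (hkey.trans (h2'.symm.trans (pow_two _)))
    have h6 := Subgroup.relIndex_mul_relIndex ι.range H (centralizer (H : Set Γ)) hH hle
    have h7 : H.relIndex (centralizer (H : Set Γ)) = 1 :=
      Nat.eq_of_mul_eq_mul_left (Nat.pos_of_ne_zero hz0) (by rw [h6, mul_one, heq])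
    exact le_antisymm hle (Subgroup.relIndex_eq_one.mp h7)
  tfae_finish

end Aux


/-- For the group of k-points of a non-degenerate theta group with constant K, let k be an algebraically
closed field and Γ a group given with an injective homomorphism ι from kˣ onto the centre of Γ such
that K = Γ/ι(kˣ) is finite and commutative (all commutators lie in ι(kˣ)) of order prime to the
characteristic exponent of k — the group of k-points of a non-degenerate theta group 1 → G_m → G → K
→ 1 with rank(K) prime to char(k). Subgroups of K correspond to subgroups H of Γ containing ι(kˣ);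
such an H is totally isotropic for the commutator pairing exactly when it is commutative, and its
orthogonal corresponds to the centralizer of H. For a subgroup H ⊇ ι(kˣ) the following are
equivalent: (i) H is commutative and maximal among commutative subgroups of Γ; (ii) H is commutative
and [H : ι(kˣ)]² = [Γ : ι(kˣ)]; (iii) H is its own centralizer. (The published lemma is for an
arbitrary non-degenerate theta group scheme, where (iii) ⇔ (ii) ⇒ (i) always and (i) ⇒ (iii) needs k
algebraically closed; this row is the case of the group of k-points with K constant.) -/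
theorem result
    (k : Type u) [Field k] [IsAlgClosed k]
    (Γ : Type u) [Group Γ] (ι : kˣ →* Γ) (hι : Function.Injective ι)
    (hcent : ι.range = Subgroup.center Γ) (hcomm : commutator Γ ≤ ι.range)
    [Finite (Γ ⧸ ι.range)] (hcop : (Nat.card (Γ ⧸ ι.range)).Coprime (ringExpChar k))
    (H : Subgroup Γ) (hH : ι.range ≤ H) :
    List.TFAE [
      IsMulCommutative H ∧ ∀ H' : Subgroup Γ, IsMulCommutative H' → H ≤ H' → H' = H,
      IsMulCommutative H ∧ (ι.range.relIndex H) ^ 2 = ι.range.index,
      H = Subgroup.centralizer (H : Set Γ)] := by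
  exact main ι hι hcomm hcent H hH

end Groth.Agent.S17512
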