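import Groth.Statements.S17506
import Mathlib
import Groth.Agent.S17512

set_option autoImplicit false
universe u
open CategoryTheory
open ThetaRep

namespace Groth.Agent.S17506


open Representation
open Groth.Agent.S17512 (ee ι_ee psi psi_apply psi_eq_iff)

section Aux

variable {k : Type u} [Field k] {Γ : Type u} [Group Γ] (ι : kˣ →* Γ)

theorem decomp (hcent : ι.range = Subgroup.center Γ) (s : Γ ⧸ ι.range → Γ)
    (hs : ∀ x, (QuotientGroup.mk (s x) : Γ ⧸ ι.range) = x) (γ : Γ) :
    ∃ z : kˣ, γ = ι z * s (QuotientGroup.mk γ) := by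
  have h1 : (s (QuotientGroup.mk γ))⁻¹ * γ ∈ ι.range := QuotientGroup.eq.mp (hs _)
  obtain ⟨z, hz⟩ := MonoidHom.mem_range.mp h1
  have hc : ι z ∈ Subgroup.center Γ := by rw [← hcent]; exact MonoidHom.mem_range.mpr ⟨z, rfl⟩
  refine ⟨z, ?_⟩
  rw [← Subgroup.mem_center_iff.mp hc (s (QuotientGroup.mk γ)), hz, mul_inv_cancel_left]

section OneRep

variable {V : Type u} [AddCommGroup V] [Module k V] (ρ : Representation k Γ V)

theorem rho_mul_apply (a b : Γ) (v : V) : ρ (a * b) v = ρ a (ρ b v) := by
  rw [map_mul]; rfl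

theorem rho_central (hw : ∀ (z : kˣ) (v : V), ρ (ι z) v = (z : k) • v) (z : kˣ) (g : Γ) :
    ρ (ι z * g) = (z : k) • ρ g := by
  apply LinearMap.ext; intro v
  rw [rho_mul_apply, hw]; rfl

theorem rho_comm (hcomm : commutator Γ ≤ ι.range)
    (hw : ∀ (z : kˣ) (v : V), ρ (ι z) v = (z : k) • v) (t γ : Γ) (v : V) :
    ρ t (ρ γ v) = ((ee ι hcomm t γ : kˣ) : k) • ρ γ (ρ t v) := by
  have h1 : t * γ = ι (ee ι hcomm t γ) * (γ * t) := by
    rw [ι_ee, commutatorElement_def]; group
  rw [← rho_mul_apply, h1, rho_mul_apply, hw, rho_mul_apply]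

theorem nontrivial_of_irr (hirr : ρ.IsIrreducible) : Nontrivial V := by
  by_contra hnt
  rw [not_nontrivial_iff_subsingleton] at hnt
  haveI := hirr
  obtain ⟨a, b, hab⟩ := exists_pair_ne (Subrepresentation ρ)
  apply hab
  apply Subrepresentation.toSubmodule_injective
  apply Submodule.ext; intro x
  rw [Subsingleton.elim x 0]
  exact ⟨fun _ => zero_mem _, fun _ => zero_mem _⟩

theorem li_aux (hι : Function.Injective ι) (hcent : ι.range = Subgroup.center Γ)
    (hcomm : commutator Γ ≤ ι.range) [Nontrivial V]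
    (hw : ∀ (z : kˣ) (v : V), ρ (ι z) v = (z : k) • v)
    {I : Type*} (t : I → Γ) (ht : ∀ i j, (t i)⁻¹ * t j ∈ ι.range → i = j) :
    LinearIndependent k (fun i => ρ (t i)) := by
  classical
  have hinj : Function.Injective (fun i => psi ι hι hcomm hcent (t i)) := by
    intro i j hij
    apply ht
    rw [hcent, Subgroup.mem_center_iff]
    intro h
    have h1 : psi ι hι hcomm hcent (t i) h = psi ι hι hcomm hcent (t j) h :=
      congrArg (fun f : Γ →* k => f h) hij
    exact (psi_eq_iff ι hι hcomm hcent (t i) (t j) h).mp h1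
  have hli : LinearIndependent k (fun i => (⇑(psi ι hι hcomm hcent (t i)) : Γ → k)) :=
    (linearIndependent_monoidHom Γ k).comp _ hinj
  rw [linearIndependent_iff'] at hli ⊢
  intro s c hsum i hi
  obtain ⟨v, hv⟩ := exists_ne (0 : V)
  by_contra hci
  have hzero : ρ (t i) v = 0 := by
    rw [← Module.forall_dual_apply_eq_zero_iff k]
    intro φ
    have h1 : ∑ j ∈ s, (c j * φ (ρ (t j) v)) • (⇑(psi ι hι hcomm hcent (t j)) : Γ → k) = 0 := by
      funext γ
      rw [Finset.sum_apply]
      simp only [Pi.smul_apply, smul_eq_mul, Pi.zero_apply]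
      have h2 := LinearMap.congr_fun hsum (ρ γ v)
      simp only [LinearMap.sum_apply, LinearMap.smul_apply, LinearMap.zero_apply] at h2
      have h3 : ρ γ (∑ j ∈ s, (c j * psi ι hι hcomm hcent (t j) γ) • ρ (t j) v)
          = ∑ j ∈ s, c j • ρ (t j) (ρ γ v) := by
        rw [map_sum]
        refine Finset.sum_congr rfl fun j _ => ?_
        rw [map_smul, rho_comm ι ρ hcomm hw (t j) γ v, psi_apply, smul_smul]
      have h4 := (ρ.apply_bijective γ).1 ((h3.trans h2).trans (map_zero _).symm)
      have h5 := congrArg φ h4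
      rw [map_sum, map_zero] at h5
      rw [← h5]
      refine Finset.sum_congr rfl fun j _ => ?_
      rw [map_smul, smul_eq_mul]; ring
    have h6 := hli s (fun j => c j * φ (ρ (t j) v)) h1 i hi
    rcases mul_eq_zero.mp h6 with h7 | h7
    · exact absurd h7 hci
    · exact h7
  exact hv ((ρ.apply_bijective (t i)).1 (hzero.trans (map_zero _).symm))

theorem density_aux [IsAlgClosed k] [FiniteDimensional k V] (hirr : ρ.IsIrreducible)
    (T : V →ₗ[k] V) : ∃ r : MonoidAlgebra k Γ, ρ.asAlgebraHom r = T := by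
  haveI := hirr
  haveI : IsSimpleModule (MonoidAlgebra k Γ) ρ.asModule := inferInstance
  have hschur : Function.Bijective (algebraMap k (Module.End (MonoidAlgebra k Γ) ρ.asModule)) :=
    IsSimpleModule.algebraMap_end_bijective_of_isAlgClosed k
  haveI : Module.Finite (Module.End (MonoidAlgebra k Γ) ρ.asModule) ρ.asModule :=
    Module.Finite.of_restrictScalars_finite k _ _
  let f : Module.End (Module.End (MonoidAlgebra k Γ) ρ.asModule) ρ.asModule :=
    { toFun := fun m => ρ.asModuleEquiv.symm (T (ρ.asModuleEquiv m))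
      map_add' := fun a b => by rw [map_add, map_add, map_add]
      map_smul' := fun φ m => by
        obtain ⟨c, rfl⟩ := hschur.2 φ
        simp only [RingHom.id_apply, Module.End.smul_def, Module.algebraMap_end_apply]
        rw [map_smul, map_smul, map_smul] }
  obtain ⟨r, hr⟩ := Module.Finite.toModuleEnd_moduleEnd_surjective
    (R := MonoidAlgebra k Γ) (M := ρ.asModule) f
  refine ⟨r, LinearMap.ext fun v => ?_⟩
  have h1 := LinearMap.congr_fun hr (ρ.asModuleEquiv.symm v)
  exact h1

theorem span_top_aux [IsAlgClosed k] [FiniteDimensional k V]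
    (hcent : ι.range = Subgroup.center Γ)
    (hw : ∀ (z : kˣ) (v : V), ρ (ι z) v = (z : k) • v) (hirr : ρ.IsIrreducible)
    (s : Γ ⧸ ι.range → Γ) (hs : ∀ x, (QuotientGroup.mk (s x) : Γ ⧸ ι.range) = x) :
    Submodule.span k (Set.range fun x => ρ (s x)) = ⊤ := by
  rw [eq_top_iff]
  rintro T -
  obtain ⟨r, rfl⟩ := density_aux ρ hirr T
  induction r using MonoidAlgebra.induction_linear with
  | zero => rw [map_zero]; exact zero_mem _
  | add a b ha hb => rw [map_add]; exact add_mem ha hb
  | single γ c =>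
    rw [Representation.asAlgebraHom_single]
    apply Submodule.smul_mem
    obtain ⟨z, hz⟩ := decomp ι hcent s hs γ
    have h1 : ρ γ = (z : k) • ρ (s (QuotientGroup.mk γ)) := by
      rw [← rho_central ι ρ hw]; exact congrArg ρ hz
    rw [h1]
    exact Submodule.smul_mem _ _ (Submodule.subset_span ⟨_, rfl⟩)

theorem dim_sq [IsAlgClosed k] [FiniteDimensional k V] [Finite (Γ ⧸ ι.range)]
    (hι : Function.Injective ι) (hcent : ι.range = Subgroup.center Γ)
    (hcomm : commutator Γ ≤ ι.range)
    (hw : ∀ (z : kˣ) (v : V), ρ (ι z) v = (z : k) • v) (hirr : ρ.IsIrreducible) :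
    Module.finrank k V ^ 2 = Nat.card (Γ ⧸ ι.range) := by
  classical
  haveI := Fintype.ofFinite (Γ ⧸ ι.range)
  haveI : Nontrivial V := nontrivial_of_irr ρ hirr
  let s : Γ ⧸ ι.range → Γ := Quotient.out
  have hs : ∀ x, (QuotientGroup.mk (s x) : Γ ⧸ ι.range) = x := fun x => QuotientGroup.out_eq' x
  have hli := li_aux ι ρ hι hcent hcomm hw s (fun x y hxy => by
      have := QuotientGroup.eq.mpr hxy
      rwa [hs, hs] at this)
  have h1 := hli.fintype_card_le_finrank
  rw [Module.finrank_linearMap] at h1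
  have hspan := span_top_aux ι ρ hcent hw hirr s hs
  have h2 := finrank_range_le_card (R := k) (fun x => ρ (s x))
  rw [Set.finrank, hspan, finrank_top, Module.finrank_linearMap] at h2
  rw [Nat.card_eq_fintype_card, pow_two]
  exact le_antisymm h2 h1

end OneRep

section TwoReps

variable {V : Type u} [AddCommGroup V] [Module k V] (ρ : Representation k Γ V)
variable {W : Type u} [AddCommGroup W] [Module k W] (σ : Representation k Γ W)

noncomputable def cc (T : V →ₗ[k] W) (g : Γ) : V →ₗ[k] W := (σ g).comp (T.comp (ρ g⁻¹))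

theorem cc_apply (T : V →ₗ[k] W) (g : Γ) (v : V) : cc ρ σ T g v = σ g (T (ρ g⁻¹ v)) := rfl

theorem cc_central (hwV : ∀ (z : kˣ) (v : V), ρ (ι z) v = (z : k) • v)
    (hwW : ∀ (z : kˣ) (w : W), σ (ι z) w = (z : k) • w) (T : V →ₗ[k] W) (z : kˣ) (g : Γ) :
    cc ρ σ T (ι z * g) = cc ρ σ T g := by
  apply LinearMap.ext; intro v
  have h1 : (ι z * g)⁻¹ = g⁻¹ * ι z⁻¹ := by rw [mul_inv_rev, map_inv]
  rw [cc_apply, cc_apply, h1, rho_mul_apply, rho_mul_apply, hwV, hwW, map_smul, map_smul,
    map_smul, smul_smul, Units.mul_inv, one_smul]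

theorem cc_conj (T : V →ₗ[k] W) (γ g : Γ) :
    (σ γ).comp ((cc ρ σ T g).comp (ρ γ⁻¹)) = cc ρ σ T (γ * g) := by
  apply LinearMap.ext; intro v
  rw [cc_apply, mul_inv_rev, rho_mul_apply, rho_mul_apply]
  rfl

theorem PP_equiv [Fintype (Γ ⧸ ι.range)] (hcent : ι.range = Subgroup.center Γ)
    (hwV : ∀ (z : kˣ) (v : V), ρ (ι z) v = (z : k) • v)
    (hwW : ∀ (z : kˣ) (w : W), σ (ι z) w = (z : k) • w)
    (s : Γ ⧸ ι.range → Γ) (hs : ∀ x, (QuotientGroup.mk (s x) : Γ ⧸ ι.range) = x)
    (T : V →ₗ[k] W) (γ : Γ) :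
    (σ γ).comp ((∑ x, cc ρ σ T (s x)).comp (ρ γ⁻¹)) = ∑ x, cc ρ σ T (s x) := by
  have hmk : ∀ g, cc ρ σ T g = cc ρ σ T (s (QuotientGroup.mk g)) := by
    intro g
    obtain ⟨z, hz⟩ := decomp ι hcent s hs g
    calc cc ρ σ T g = cc ρ σ T (ι z * s (QuotientGroup.mk g)) := congrArg _ hz
      _ = _ := cc_central ι ρ σ hwV hwW T z _
  apply LinearMap.ext; intro v
  simp only [LinearMap.comp_apply, LinearMap.sum_apply, map_sum]
  have hterm : ∀ x, σ γ (cc ρ σ T (s x) (ρ γ⁻¹ v)) = cc ρ σ T (s (γ • x)) v := by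
    intro x
    have h3 : (QuotientGroup.mk (γ * s x) : Γ ⧸ ι.range) = γ • x := by
      have h4 : (QuotientGroup.mk (γ * s x) : Γ ⧸ ι.range)
          = γ • (QuotientGroup.mk (s x) : Γ ⧸ ι.range) := rfl
      rw [h4, hs]
    have h5 := LinearMap.congr_fun (cc_conj ρ σ T γ (s x)) v
    rw [hmk (γ * s x), h3] at h5
    exact h5
  rw [Finset.sum_congr rfl (fun x _ => hterm x)]
  exact Fintype.sum_equiv (MulAction.toPerm γ) _ _ (fun x => rfl)

theorem uniq [Finite (Γ ⧸ ι.range)]
    (hι : Function.Injective ι) (hcent : ι.range = Subgroup.center Γ)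
    (hcomm : commutator Γ ≤ ι.range)
    (hV : ρ.IsIrreducible) (hW : σ.IsIrreducible)
    (hwV : ∀ (z : kˣ) (v : V), ρ (ι z) v = (z : k) • v)
    (hwW : ∀ (z : kˣ) (w : W), σ (ι z) w = (z : k) • w) :
    Nonempty (Representation.Equiv ρ σ) := by
  classical
  haveI := Fintype.ofFinite (Γ ⧸ ι.range)
  haveI : Nontrivial V := nontrivial_of_irr ρ hV
  haveI : Nontrivial W := nontrivial_of_irr σ hW
  haveI := hV
  haveI := hW
  let s : Γ ⧸ ι.range → Γ := Quotient.out
  have hs : ∀ x, (QuotientGroup.mk (s x) : Γ ⧸ ι.range) = x := fun x => QuotientGroup.out_eq' x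
  by_cases hex : ∃ T : V →ₗ[k] W, ∑ x, cc ρ σ T (s x) ≠ 0
  · obtain ⟨T, hT⟩ := hex
    let f : IntertwiningMap ρ σ := ⟨∑ x, cc ρ σ T (s x), fun γ => by
      apply LinearMap.ext; intro v
      have h1 := LinearMap.congr_fun (PP_equiv ι ρ σ hcent hwV hwW s hs T γ) (ρ γ v)
      simp only [LinearMap.comp_apply] at h1 ⊢
      rw [ρ.inv_self_apply] at h1
      exact h1.symm⟩
    rcases IsIrreducible.bijective_or_eq_zero f with hb | h0
    · exact ⟨f.ofBijective hb⟩
    · exfalso; apply hT
      have h2 := congrArg IntertwiningMap.toLinearMap h0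
      exact h2
  · push_neg at hex
    exfalso
    obtain ⟨v0, hv0⟩ := exists_ne (0 : V)
    obtain ⟨x0, hx0⟩ : ∃ x0 : Γ ⧸ ι.range, x0 = QuotientGroup.mk 1 := ⟨_, rfl⟩
    have hu : ρ (s x0)⁻¹ v0 ≠ 0 := fun h =>
      hv0 ((ρ.apply_bijective _).1 (h.trans (map_zero _).symm))
    obtain ⟨φ, hφ⟩ : ∃ φ : Module.Dual k V, φ (ρ (s x0)⁻¹ v0) ≠ 0 := by
      by_contra hcon; push_neg at hcon
      exact hu ((Module.forall_dual_apply_eq_zero_iff k _).mp hcon)
    have hli := li_aux ι σ hι hcent hcomm hwW s (fun x y hxy => by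
      have := QuotientGroup.eq.mpr hxy
      rwa [hs, hs] at this)
    rw [Fintype.linearIndependent_iff] at hli
    have hz := hli (fun x => φ (ρ (s x)⁻¹ v0)) (by
      apply LinearMap.ext; intro w
      have h1 := LinearMap.congr_fun (hex (φ.smulRight w)) v0
      simp only [LinearMap.sum_apply, cc_apply, LinearMap.smulRight_apply, map_smul,
        LinearMap.zero_apply] at h1
      simp only [LinearMap.sum_apply, LinearMap.smul_apply, LinearMap.zero_apply]
      exact h1) x0
    exact hφ hz

end TwoReps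

section Existence

def V0 : Submodule k (Γ → k) where
  carrier := {f | ∀ (z : kˣ) (g : Γ), f (ι z * g) = (z : k) * f g}
  add_mem' := by
    intro a b ha hb z g
    show a (ι z * g) + b (ι z * g) = (z : k) * (a g + b g)
    rw [ha z g, hb z g, mul_add]
  zero_mem' := by
    intro z g
    show (0 : k) = (z : k) * 0
    rw [mul_zero]
  smul_mem' := by
    intro c a ha z g
    show c * a (ι z * g) = (z : k) * (c * a g)
    rw [ha z g]; ring

theorem mem_V0 (f : Γ → k) :
    f ∈ V0 ι ↔ ∀ (z : kˣ) (g : Γ), f (ι z * g) = (z : k) * f g := Iff.rfl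

noncomputable def rho0 : Representation k Γ (V0 ι) where
  toFun γ := (LinearMap.funLeft k k (fun g : Γ => g * γ)).restrict (p := V0 ι) (q := V0 ι) (by
      intro f hf
      rw [mem_V0] at hf ⊢
      intro z g
      show f (ι z * g * γ) = (z : k) * f (g * γ)
      rw [mul_assoc]; exact hf z (g * γ))
  map_one' := by
    apply LinearMap.ext; intro f
    apply Subtype.ext; funext g
    show f.1 (g * 1) = f.1 g
    rw [mul_one]
  map_mul' γ γ' := by
    apply LinearMap.ext; intro f
    apply Subtype.ext; funext g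
    show f.1 (g * (γ * γ')) = f.1 (g * γ * γ')
    rw [mul_assoc]

theorem rho0_weight (hcent : ι.range = Subgroup.center Γ) (z : kˣ) (f : V0 ι) :
    rho0 ι (ι z) f = (z : k) • f := by
  apply Subtype.ext; funext g
  show f.1 (g * ι z) = (z : k) * f.1 g
  have hc : ι z ∈ Subgroup.center Γ := by rw [← hcent]; exact MonoidHom.mem_range.mpr ⟨z, rfl⟩
  rw [Subgroup.mem_center_iff.mp hc g]
  exact (mem_V0 ι _).mp f.2 z g

theorem V0_finite (hcent : ι.range = Subgroup.center Γ) [Finite (Γ ⧸ ι.range)] :
    Module.Finite k (V0 ι) := by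
  let s : Γ ⧸ ι.range → Γ := Quotient.out
  have hs : ∀ x, (QuotientGroup.mk (s x) : Γ ⧸ ι.range) = x := fun x => QuotientGroup.out_eq' x
  let res : V0 ι →ₗ[k] (Γ ⧸ ι.range → k) := (LinearMap.funLeft k k s).comp (V0 ι).subtype
  refine Module.Finite.of_injective res ((injective_iff_map_eq_zero res).mpr ?_)
  intro f hf
  apply Subtype.ext; funext g
  obtain ⟨z, hz⟩ := decomp ι hcent s hs g
  have h1 : f.1 (s (QuotientGroup.mk g)) = 0 := congrFun hf (QuotientGroup.mk g)
  show f.1 g = 0
  rw [hz, (mem_V0 ι _).mp f.2 z, h1, mul_zero]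

theorem V0_nontrivial (hι : Function.Injective ι) : Nontrivial (V0 ι) := by
  classical
  let f0 : Γ → k := fun g =>
    if h : g ∈ ι.range then ((Classical.choose (MonoidHom.mem_range.mp h) : kˣ) : k) else 0
  have hf0 : f0 ∈ V0 ι := by
    rw [mem_V0]
    intro z g
    by_cases h : g ∈ ι.range
    · have h' : ι z * g ∈ ι.range := mul_mem (MonoidHom.mem_range.mpr ⟨z, rfl⟩) h
      have e1 : f0 (ι z * g) = ((Classical.choose (MonoidHom.mem_range.mp h') : kˣ) : k) :=
        dif_pos h'
      have e2 : f0 g = ((Classical.choose (MonoidHom.mem_range.mp h) : kˣ) : k) := dif_pos h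
      rw [e1, e2, ← Units.val_mul]
      congr 1
      apply hι
      rw [map_mul, Classical.choose_spec (MonoidHom.mem_range.mp h'),
        Classical.choose_spec (MonoidHom.mem_range.mp h)]
    · have h' : ι z * g ∉ ι.range := fun h2 => h (by
        have h3 := mul_mem (inv_mem (MonoidHom.mem_range.mpr ⟨z, rfl⟩ : ι z ∈ ι.range)) h2
        rwa [inv_mul_cancel_left] at h3)
      have e1 : f0 (ι z * g) = 0 := dif_neg h'
      have e2 : f0 g = 0 := dif_neg h
      rw [e1, e2, mul_zero]
  have hne : (⟨f0, hf0⟩ : V0 ι) ≠ 0 := by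
    intro h0
    have h1 : f0 1 = 0 := congrFun (congrArg Subtype.val h0) 1
    have h2 : f0 1 = ((Classical.choose (MonoidHom.mem_range.mp (one_mem ι.range)) : kˣ) : k) :=
      dif_pos (one_mem _)
    rw [h2] at h1
    exact Units.ne_zero _ h1
  exact nontrivial_of_ne _ _ hne

theorem exists_irr : ∀ (n : ℕ) (V : Type u) [AddCommGroup V] [Module k V] [FiniteDimensional k V]
    [Nontrivial V] (ρ : Representation k Γ V),
    (∀ (z : kˣ) (v : V), ρ (ι z) v = (z : k) • v) → Module.finrank k V = n →
    ∃ (W : Type u) (_ : AddCommGroup W) (_ : Module k W) (_ : FiniteDimensional k W)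
      (σ : Representation k Γ W),
      σ.IsIrreducible ∧ ∀ (z : kˣ) (w : W), σ (ι z) w = (z : k) • w := by
  intro n
  induction n using Nat.strong_induction_on with
  | _ n ih =>
    intro V _ _ _ _ ρ hw hn
    by_cases hirr : ρ.IsIrreducible
    · exact ⟨V, inferInstance, inferInstance, inferInstance, ρ, hirr, hw⟩
    · have hnt : Nontrivial (Subrepresentation ρ) := ⟨⟨⊥, ⊤, fun h => by
          obtain ⟨v, hv⟩ := exists_ne (0 : V)
          have h2 : (⊥ : Submodule k V) = ⊤ := congrArg Subrepresentation.toSubmodule h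
          have h3 : v ∈ (⊥ : Submodule k V) := h2 ▸ Submodule.mem_top
          exact hv ((Submodule.mem_bot k).mp h3)⟩⟩
      have hex : ∃ τ : Subrepresentation ρ, τ ≠ ⊥ ∧ τ ≠ ⊤ := by
        by_contra hcon
        push_neg at hcon
        exact hirr { toNontrivial := hnt
                     eq_bot_or_eq_top := fun τ => by
                      by_cases h : τ = ⊥
                      · exact Or.inl h
                      · exact Or.inr (hcon τ h) }
      obtain ⟨τ, hτb, hτt⟩ := hex
      have hlt : Module.finrank k τ.toSubmodule < n := by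
        rw [← hn]; apply Submodule.finrank_lt
        intro h; apply hτt; apply Subrepresentation.toSubmodule_injective; exact h
      haveI : Nontrivial τ.toSubmodule := by
        rw [Submodule.nontrivial_iff_ne_bot]
        intro h; apply hτb; apply Subrepresentation.toSubmodule_injective; exact h
      exact ih _ hlt τ.toSubmodule τ.toRepresentation (fun z w => by
          apply Subtype.ext
          exact hw z w.1) rfl

end Existence

end Aux


/-- Let k be an algebraically closed field and Γ a group given with an injective homomorphism ι from the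
multiplicative group kˣ onto the centre of Γ, such that the quotient K = Γ/ι(kˣ) is a finite
commutative group (every commutator lies in ι(kˣ)) whose order is prime to the characteristic
exponent of k — the group of k-points of a non-degenerate theta group 1 → G_m → G → K → 1 with
rank(K) prime to char(k), non-degeneracy of the commutator pairing being the condition that ι(kˣ) is
the whole centre. A finite-dimensional representation of Γ over k has weight 1 when ι(z) acts as
multiplication by z for every z. Then Γ has an irreducible finite-dimensional representation of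
weight 1; any two irreducible finite-dimensional representations of weight 1 are equivalent; and
every irreducible finite-dimensional representation V of weight 1 satisfies (dim_k V)² = |K|. (The
published statement is about representations of the theta group scheme; under its hypotheses K is a
constant group scheme and the statement is rendered here for the group of k-points.) -/
theorem result (k : Type u) [Field k] [IsAlgClosed k]
    (Γ : Type u) [Group Γ] (ι : kˣ →* Γ) (hι : Function.Injective ι)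
    (hcent : ι.range = Subgroup.center Γ) (hcomm : commutator Γ ≤ ι.range)
    [Finite (Γ ⧸ ι.range)] (hcop : (Nat.card (Γ ⧸ ι.range)).Coprime (ringExpChar k)) :
    (∃ V : FDRep k Γ, Representation.IsIrreducible V.ρ ∧ ∀ (z : kˣ) (v : V), V.ρ (ι z) v = (z : k) • v) ∧
    (∀ V W : FDRep k Γ, Representation.IsIrreducible V.ρ → Representation.IsIrreducible W.ρ →
      (∀ (z : kˣ) (v : V), V.ρ (ι z) v = (z : k) • v) → (∀ (z : kˣ) (w : W), W.ρ (ι z) w = (z : k) • w) →
      Nonempty (Representation.Equiv V.ρ W.ρ)) ∧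
    (∀ V : FDRep k Γ, Representation.IsIrreducible V.ρ → (∀ (z : kˣ) (v : V), V.ρ (ι z) v = (z : k) • v) →
      Module.finrank k V ^ 2 = Nat.card (Γ ⧸ ι.range)) := by
  refine ⟨?_, ?_, ?_⟩
  · haveI : Module.Finite k (V0 ι) := V0_finite ι hcent
    haveI : Nontrivial (V0 ι) := V0_nontrivial ι hι
    obtain ⟨W, i1, i2, i3, σ, hσ, hσw⟩ :=
      exists_irr ι _ (V0 ι) (rho0 ι) (rho0_weight ι hcent) rfl
    exact ⟨FDRep.of σ, hσ, hσw⟩
  · intro V W hV hW hV1 hW1
    exact uniq ι V.ρ W.ρ hι hcent hcomm hV hW hV1 hW1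
  · intro V hV hV1
    exact dim_sq ι V.ρ hι hcent hcomm hV1 hV

end Groth.Agent.S17506
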