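import Groth.Statements.S17507
import Mathlib
import Groth.Agent.S17512
import Groth.Agent.S17506

set_option autoImplicit false
universe u
open CategoryTheory
open ThetaRep

namespace Groth.Agent.S17507


open Representation
open scoped commutatorElement
open Groth.Agent.S17512 (ee ι_ee psi psi_apply psi_eq_iff psi_eq_one_iff comm_mem)
open Groth.Agent.S17506 (decomp rho_mul_apply rho_central rho_comm cc cc_apply PP_equiv dim_sq)

section Aux

variable {k : Type u} [Field k] {Γ : Type u} [Group Γ] (ι : kˣ →* Γ)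

theorem card_ne_zero (n : ℕ) (hn : 0 < n) (hcop : n.Coprime (ringExpChar k)) :
    ((n : ℕ) : k) ≠ 0 := by
  intro h0
  have h1 : ringChar k ∣ n := (ringChar.spec k n).mp h0
  rcases Nat.eq_zero_or_pos (ringChar k) with hp | hp
  · rw [hp] at h1
    have := Nat.eq_zero_of_zero_dvd h1
    omega
  · have h3 : ringExpChar k = ringChar k := max_eq_left hp
    rw [h3] at hcop
    exact CharP.ringChar_ne_one (Nat.Coprime.eq_one_of_dvd hcop.symm h1)

theorem maschke [Finite (Γ ⧸ ι.range)] (hcent : ι.range = Subgroup.center Γ)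
    {W : Type u} [AddCommGroup W] [Module k W] (ρ : Representation k Γ W)
    (hw : ∀ (z : kˣ) (w : W), ρ (ι z) w = (z : k) • w)
    (hn : ((Nat.card (Γ ⧸ ι.range) : ℕ) : k) ≠ 0) : IsSemisimpleRepresentation ρ := by
  classical
  haveI := Fintype.ofFinite (Γ ⧸ ι.range)
  obtain ⟨s, hs⟩ : ∃ s : Γ ⧸ ι.range → Γ, ∀ x, (QuotientGroup.mk (s x) : Γ ⧸ ι.range) = x :=
    ⟨Quotient.out, fun x => QuotientGroup.out_eq' x⟩
  rw [Nat.card_eq_fintype_card] at hn
  refine ⟨fun σ => ?_⟩
  obtain ⟨g, hg⟩ :=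
    σ.toSubmodule.subtype.exists_leftInverse_of_injective σ.toSubmodule.ker_subtype
  obtain ⟨π0, hπ0⟩ : ∃ π0 : W →ₗ[k] W, π0 = σ.toSubmodule.subtype.comp g := ⟨_, rfl⟩
  have hπ0_mem : ∀ w, π0 w ∈ σ.toSubmodule := fun w => by rw [hπ0]; exact (g w).2
  have hπ0_id : ∀ u ∈ σ.toSubmodule, π0 u = u := fun u hu => by
    have e : g u = ⟨u, hu⟩ := LinearMap.congr_fun hg ⟨u, hu⟩
    rw [hπ0]
    show ((g u : σ.toSubmodule) : W) = u
    rw [e]
  obtain ⟨P, hP⟩ : ∃ P : W →ₗ[k] W, P = ∑ x, cc ρ ρ π0 (s x) := ⟨_, rfl⟩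
  have hPmem : ∀ w, P w ∈ σ.toSubmodule := by
    intro w
    rw [hP, LinearMap.sum_apply]
    refine Submodule.sum_mem _ fun x _ => ?_
    rw [cc_apply]
    exact σ.apply_mem_toSubmodule _ (hπ0_mem _)
  have hPid : ∀ u ∈ σ.toSubmodule, P u = ((Fintype.card (Γ ⧸ ι.range) : ℕ) : k) • u := by
    intro u hu
    rw [hP, LinearMap.sum_apply]
    have h1 : ∀ x, cc ρ ρ π0 (s x) u = u := fun x => by
      rw [cc_apply, hπ0_id _ (σ.apply_mem_toSubmodule _ hu), ρ.self_inv_apply]
    rw [Finset.sum_congr rfl (fun x _ => h1 x), Finset.sum_const, Finset.card_univ,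
      Nat.cast_smul_eq_nsmul k]
  have hPint : ∀ γ, P ∘ₗ ρ γ = ρ γ ∘ₗ P := by
    intro γ
    apply LinearMap.ext; intro v
    have h1 := LinearMap.congr_fun (PP_equiv ι ρ ρ hcent hw hw s hs π0 γ) (ρ γ v)
    rw [← hP] at h1
    simp only [LinearMap.comp_apply] at h1 ⊢
    rw [ρ.inv_self_apply] at h1
    exact h1.symm
  obtain ⟨f, hf⟩ : ∃ f : IntertwiningMap ρ ρ, f.toLinearMap = P := ⟨⟨P, hPint⟩, rfl⟩
  refine ⟨f.ker, ⟨disjoint_iff.mpr ?_, codisjoint_iff.mpr ?_⟩⟩
  · apply Subrepresentation.toSubmodule_injective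
    show σ.toSubmodule ⊓ LinearMap.ker f.toLinearMap = ⊥
    rw [hf, eq_bot_iff]
    rintro w ⟨h1, h2⟩
    have h3 : P w = 0 := LinearMap.mem_ker.mp h2
    rw [hPid w h1] at h3
    rcases smul_eq_zero.mp h3 with h4 | h4
    · exact absurd h4 hn
    · exact (Submodule.mem_bot k).mpr h4
  · apply Subrepresentation.toSubmodule_injective
    show σ.toSubmodule ⊔ LinearMap.ker f.toLinearMap = ⊤
    rw [hf, eq_top_iff]
    rintro w -
    have hdec : w = ((Fintype.card (Γ ⧸ ι.range) : ℕ) : k)⁻¹ • P w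
        + (w - ((Fintype.card (Γ ⧸ ι.range) : ℕ) : k)⁻¹ • P w) := by abel
    rw [hdec]
    refine Submodule.add_mem_sup (Submodule.smul_mem _ _ (hPmem w)) ?_
    rw [LinearMap.mem_ker, map_sub, map_smul, hPid _ (hPmem w), smul_smul, inv_mul_cancel₀ hn,
      one_smul, sub_self]

theorem comm_mul_left (hcent : ι.range = Subgroup.center Γ) (hcomm : commutator Γ ≤ ι.range)
    (g g' h : Γ) : ⁅g * g', h⁆ = ⁅g, h⁆ * ⁅g', h⁆ := by
  have hc : ⁅g', h⁆ ∈ Subgroup.center Γ := by
    rw [← hcent]; exact MonoidHom.mem_range.mpr (comm_mem ι hcomm g' h)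
  calc ⁅g * g', h⁆ = g * ⁅g', h⁆ * (h * g⁻¹ * h⁻¹) := by
        simp only [commutatorElement_def]; group
    _ = ⁅g', h⁆ * g * (h * g⁻¹ * h⁻¹) := by rw [Subgroup.mem_center_iff.mp hc g]
    _ = ⁅g', h⁆ * ⁅g, h⁆ := by simp only [commutatorElement_def]; group
    _ = ⁅g, h⁆ * ⁅g', h⁆ := (Subgroup.mem_center_iff.mp hc ⁅g, h⁆).symm

theorem psi_mul_left (hι : Function.Injective ι) (hcent : ι.range = Subgroup.center Γ)
    (hcomm : commutator Γ ≤ ι.range) (g g' h : Γ) :
    psi ι hι hcomm hcent (g * g') h = psi ι hι hcomm hcent g h * psi ι hι hcomm hcent g' h := by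
  have h1 : ee ι hcomm (g * g') h = ee ι hcomm g h * ee ι hcomm g' h := by
    apply hι; rw [map_mul, ι_ee, ι_ee, ι_ee, comm_mul_left ι hcent hcomm]
  rw [psi_apply, psi_apply, psi_apply, h1, Units.val_mul]

section Orbit

variable {W : Type u} [AddCommGroup W] [Module k W] (ρ : Representation k Γ W)
variable (H : Subgroup Γ)

theorem inv_apply (v : W) (hv : v ∈ invariants (ρ.comp H.subtype)) (h : Γ) (hh : h ∈ H) :
    ρ h v = v :=
  (mem_invariants _ v).mp hv ⟨h, hh⟩

theorem eig (hι : Function.Injective ι) (hcent : ι.range = Subgroup.center Γ)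
    (hcomm : commutator Γ ≤ ι.range)
    (hw : ∀ (z : kˣ) (w : W), ρ (ι z) w = (z : k) • w)
    (t : Γ) (v : W) (hv : v ∈ invariants (ρ.comp H.subtype)) (h : Γ) (hh : h ∈ H) :
    ρ h⁻¹ (ρ t v) = psi ι hι hcomm hcent t h • ρ t v := by
  have h1 := rho_comm ι ρ hcomm hw t h v
  rw [inv_apply ρ H v hv h hh] at h1
  have h2 := congrArg (ρ h⁻¹) h1
  rw [map_smul, ρ.inv_self_apply] at h2
  rw [psi_apply]; exact h2

theorem conj_formula (hι : Function.Injective ι) (hcent : ι.range = Subgroup.center Γ)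
    (hcomm : commutator Γ ≤ ι.range)
    (hw : ∀ (z : kˣ) (w : W), ρ (ι z) w = (z : k) • w) (g h : Γ) (w : W) :
    ρ g (ρ h (ρ g⁻¹ w)) = psi ι hι hcomm hcent g h • ρ h w := by
  have h1 := rho_comm ι ρ hcomm hw g h (ρ g⁻¹ w)
  rw [ρ.self_inv_apply] at h1
  rw [psi_apply]; exact h1

theorem NH_mem [Fintype H] (v : W) :
    ∑ h : H, ρ (h : Γ) v ∈ invariants (ρ.comp H.subtype) := by
  rw [mem_invariants]
  intro h'
  show ρ (h' : Γ) (∑ h : H, ρ (h : Γ) v) = _
  rw [map_sum]
  refine Fintype.sum_equiv (Equiv.mulLeft h') _ _ (fun h => ?_)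
  show ρ (h' : Γ) (ρ (h : Γ) v) = ρ ((h' * h : H) : Γ) v
  rw [Subgroup.coe_mul, rho_mul_apply]

theorem orth (hι : Function.Injective ι) (hcent : ι.range = Subgroup.center Γ)
    (hcomm : commutator Γ ≤ ι.range) (hH : H ⊓ ι.range = ⊥)
    [Fintype (Γ ⧸ Subgroup.centralizer (H : Set Γ))]
    (t : Γ ⧸ Subgroup.centralizer (H : Set Γ) → Γ)
    (ht : ∀ y, (QuotientGroup.mk (t y) : Γ ⧸ Subgroup.centralizer (H : Set Γ)) = y)
    (h : Γ) (hh : h ∈ H) (hne : h ≠ 1) :
    ∑ y, psi ι hι hcomm hcent (t y) h = 0 := by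
  have hnc : h ∉ Subgroup.center Γ := by
    intro hc
    rw [← hcent] at hc
    have h1 : h ∈ H ⊓ ι.range := Subgroup.mem_inf.mpr ⟨hh, hc⟩
    rw [hH] at h1
    exact hne (Subgroup.mem_bot.mp h1)
  rw [Subgroup.mem_center_iff] at hnc
  push_neg at hnc
  obtain ⟨g0, hg0⟩ := hnc
  have hne1 : psi ι hι hcomm hcent g0 h ≠ 1 := fun h1 =>
    hg0 ((psi_eq_one_iff ι hι hcomm hcent g0 h).mp h1)
  have key : psi ι hι hcomm hcent g0 h * ∑ y, psi ι hι hcomm hcent (t y) h
      = ∑ y, psi ι hι hcomm hcent (t y) h := by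
    rw [Finset.mul_sum]
    have hterm : ∀ y, psi ι hι hcomm hcent g0 h * psi ι hι hcomm hcent (t y) h
        = psi ι hι hcomm hcent (t (g0 • y)) h := by
      intro y
      rw [← psi_mul_left]
      have hcmem : (t (QuotientGroup.mk (g0 * t y)))⁻¹ * (g0 * t y)
          ∈ Subgroup.centralizer (H : Set Γ) := QuotientGroup.eq.mp (ht _)
      have hdec : g0 * t y = t (QuotientGroup.mk (g0 * t y))
          * ((t (QuotientGroup.mk (g0 * t y)))⁻¹ * (g0 * t y)) := (mul_inv_cancel_left _ _).symm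
      have hmk : (QuotientGroup.mk (g0 * t y) : Γ ⧸ Subgroup.centralizer (H : Set Γ))
          = g0 • y := by
        have h4 : (QuotientGroup.mk (g0 * t y) : Γ ⧸ Subgroup.centralizer (H : Set Γ))
            = g0 • (QuotientGroup.mk (t y) : Γ ⧸ Subgroup.centralizer (H : Set Γ)) := rfl
        rw [h4, ht]
      have hone : psi ι hι hcomm hcent
          ((t (QuotientGroup.mk (g0 * t y)))⁻¹ * (g0 * t y)) h = 1 :=
        (psi_eq_one_iff ι hι hcomm hcent _ h).mpr
          (Subgroup.mem_centralizer_iff.mp hcmem h hh).symm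
      rw [hdec, psi_mul_left, hone, mul_one, hmk]
    rw [Finset.sum_congr rfl (fun y _ => hterm y)]
    exact Fintype.sum_equiv (MulAction.toPerm g0) _ _ (fun y => rfl)
  have h5 : (psi ι hι hcomm hcent g0 h - 1) * ∑ y, psi ι hι hcomm hcent (t y) h = 0 := by
    rw [sub_mul, key, one_mul, sub_self]
  rcases mul_eq_zero.mp h5 with h6 | h6
  · exact absurd (sub_eq_zero.mp h6) hne1
  · exact h6

theorem orbit_dim [FiniteDimensional k W]
    (hι : Function.Injective ι) (hcent : ι.range = Subgroup.center Γ)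
    (hcomm : commutator Γ ≤ ι.range)
    (hw : ∀ (z : kˣ) (w : W), ρ (ι z) w = (z : k) • w) (hH : H ⊓ ι.range = ⊥)
    [Finite H] [Finite (Γ ⧸ Subgroup.centralizer (H : Set Γ))]
    (hN : ((Nat.card (Γ ⧸ Subgroup.centralizer (H : Set Γ)) : ℕ) : k) ≠ 0) :
    Module.finrank k W = Nat.card (Γ ⧸ Subgroup.centralizer (H : Set Γ))
      * Module.finrank k (invariants (ρ.comp H.subtype)) := by
  classical
  haveI := Fintype.ofFinite H
  haveI := Fintype.ofFinite (Γ ⧸ Subgroup.centralizer (H : Set Γ))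
  rw [Nat.card_eq_fintype_card] at hN ⊢
  obtain ⟨t, ht⟩ : ∃ t : Γ ⧸ Subgroup.centralizer (H : Set Γ) → Γ,
      ∀ y, (QuotientGroup.mk (t y) : Γ ⧸ Subgroup.centralizer (H : Set Γ)) = y :=
    ⟨Quotient.out, fun y => QuotientGroup.out_eq' y⟩
  obtain ⟨Φ, hΦ⟩ : ∃ Φ : (Γ ⧸ Subgroup.centralizer (H : Set Γ) →
      invariants (ρ.comp H.subtype)) →ₗ[k] W, ∀ f, Φ f = ∑ y, ρ (t y) (f y : W) :=
    ⟨∑ y, ((ρ (t y)).comp (invariants (ρ.comp H.subtype)).subtype).comp (LinearMap.proj y),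
      fun f => by simp [LinearMap.sum_apply]⟩
  have hinj : Function.Injective Φ := by
    rw [injective_iff_map_eq_zero]
    intro f hf
    rw [hΦ] at hf
    have hχinj : Function.Injective (fun y : Γ ⧸ Subgroup.centralizer (H : Set Γ) =>
        (psi ι hι hcomm hcent (t y)).comp H.subtype) := by
      intro y y' hyy
      have h1 : (t y)⁻¹ * t y' ∈ Subgroup.centralizer (H : Set Γ) := by
        rw [Subgroup.mem_centralizer_iff]
        intro h hh
        have h2 : psi ι hι hcomm hcent (t y) h = psi ι hι hcomm hcent (t y') h :=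
          congrArg (fun χ : H →* k => χ ⟨h, hh⟩) hyy
        exact (psi_eq_iff ι hι hcomm hcent (t y) (t y') h).mp h2
      have h3 := QuotientGroup.eq.mpr h1
      rwa [ht, ht] at h3
    have hli : LinearIndependent k (fun y : Γ ⧸ Subgroup.centralizer (H : Set Γ) =>
        (⇑((psi ι hι hcomm hcent (t y)).comp H.subtype) : H → k)) :=
      (linearIndependent_monoidHom H k).comp _ hχinj
    rw [Fintype.linearIndependent_iff] at hli
    funext y
    apply Subtype.ext
    show (f y : W) = 0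
    have hu : ρ (t y) (f y : W) = 0 := by
      rw [← Module.forall_dual_apply_eq_zero_iff k]
      intro φ
      refine hli (fun y => φ (ρ (t y) (f y : W))) ?_ y
      funext h
      have h3 := congrArg (fun w => φ (ρ (h : Γ)⁻¹ w)) hf
      simp only [map_sum, map_zero] at h3
      rw [Finset.sum_apply]
      show ∑ y, φ (ρ (t y) (f y : W)) * psi ι hι hcomm hcent (t y) (h : Γ) = 0
      rw [← h3]
      refine Finset.sum_congr rfl fun y _ => ?_
      rw [eig ι ρ H hι hcent hcomm hw (t y) (f y) (f y).2 h h.2, map_smul, smul_eq_mul, mul_comm]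
    exact (ρ.apply_bijective (t y)).1 (hu.trans (map_zero _).symm)
  have hsurj : Function.Surjective Φ := by
    intro w
    obtain ⟨b, hb⟩ : ∃ b : Γ ⧸ Subgroup.centralizer (H : Set Γ) → invariants (ρ.comp H.subtype),
        ∀ y, ((b y : invariants (ρ.comp H.subtype)) : W) = ∑ h : H, ρ (h : Γ) (ρ (t y)⁻¹ w) :=
      ⟨fun y => ⟨_, NH_mem ρ H (ρ (t y)⁻¹ w)⟩, fun y => rfl⟩
    refine ⟨((Fintype.card (Γ ⧸ Subgroup.centralizer (H : Set Γ)) : ℕ) : k)⁻¹ • b, ?_⟩
    rw [map_smul, hΦ]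
    have h1 : ∑ y, ρ (t y) ((b y : invariants (ρ.comp H.subtype)) : W)
        = ((Fintype.card (Γ ⧸ Subgroup.centralizer (H : Set Γ)) : ℕ) : k) • w := by
      calc ∑ y, ρ (t y) ((b y : invariants (ρ.comp H.subtype)) : W)
          = ∑ y, ∑ h : H, psi ι hι hcomm hcent (t y) (h : Γ) • ρ (h : Γ) w := by
            refine Finset.sum_congr rfl fun y _ => ?_
            rw [hb, map_sum]
            refine Finset.sum_congr rfl fun h _ => ?_
            exact conj_formula ι ρ hι hcent hcomm hw (t y) h w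
        _ = ∑ h : H, (∑ y, psi ι hι hcomm hcent (t y) (h : Γ)) • ρ (h : Γ) w := by
            rw [Finset.sum_comm]
            refine Finset.sum_congr rfl fun h _ => ?_
            rw [Finset.sum_smul]
        _ = ((Fintype.card (Γ ⧸ Subgroup.centralizer (H : Set Γ)) : ℕ) : k) • w := by
            rw [Finset.sum_eq_single (1 : H)]
            · rw [Subgroup.coe_one, map_one]
              simp only [map_one, Finset.sum_const, Finset.card_univ, nsmul_eq_mul, mul_one,
                Module.End.one_apply]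
            · intro h _ hne
              rw [orth ι H hι hcent hcomm hH t ht h h.2 (fun h1 => hne (Subtype.ext h1)),
                zero_smul]
            · intro h; exact absurd (Finset.mem_univ _) h
    rw [h1, smul_smul, inv_mul_cancel₀ hN, one_smul]
  have e : (Γ ⧸ Subgroup.centralizer (H : Set Γ) → invariants (ρ.comp H.subtype)) ≃ₗ[k] W :=
    LinearEquiv.ofBijective Φ ⟨hinj, hsurj⟩
  rw [← e.finrank_eq, Module.finrank_pi_fintype, Finset.sum_const, Finset.card_univ, smul_eq_mul]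

end Orbit

section MaxLevel

def H1 (H : Subgroup Γ) (g' : Γ) (hc : ∀ h ∈ H, Commute g' h) : Subgroup Γ where
  carrier := {x | ∃ h ∈ H, ∃ j : ℤ, x = h * g' ^ j}
  mul_mem' := by
    rintro _ _ ⟨h, hh, j, rfl⟩ ⟨h', hh', j', rfl⟩
    refine ⟨h * h', mul_mem hh hh', j + j', ?_⟩
    have hc1 : g' ^ j * h' = h' * g' ^ j := ((hc h' hh').zpow_left j).eq
    rw [zpow_add]
    calc h * g' ^ j * (h' * g' ^ j') = h * (g' ^ j * h') * g' ^ j' := by simp only [mul_assoc]
      _ = h * (h' * g' ^ j) * g' ^ j' := by rw [hc1]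
      _ = h * h' * (g' ^ j * g' ^ j') := by simp only [mul_assoc]
  one_mem' := ⟨1, one_mem H, 0, by rw [zpow_zero, mul_one]⟩
  inv_mem' := by
    rintro _ ⟨h, hh, j, rfl⟩
    refine ⟨h⁻¹, inv_mem hh, -j, ?_⟩
    have hc2 : Commute (g' ^ j)⁻¹ h⁻¹ := ((hc h hh).zpow_left j).inv_inv
    rw [zpow_neg, mul_inv_rev]
    exact hc2.eq

theorem mem_H1 (H : Subgroup Γ) (g' : Γ) (hc : ∀ h ∈ H, Commute g' h) (x : Γ) :
    x ∈ H1 H g' hc ↔ ∃ h ∈ H, ∃ j : ℤ, x = h * g' ^ j := Iff.rfl

theorem max_level [IsAlgClosed k] [Finite (Γ ⧸ ι.range)]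
    (hcent : ι.range = Subgroup.center Γ)
    (H : Subgroup Γ) (hH : H ⊓ ι.range = ⊥)
    (hmax : ∀ H' : Subgroup Γ, H' ⊓ ι.range = ⊥ → H ≤ H' → H' = H)
    (g : Γ) (hg : g ∈ Subgroup.centralizer (H : Set Γ)) :
    ∃ h ∈ H, ∃ z : kˣ, g = h * ι z := by
  classical
  haveI : ι.range.Normal := by rw [hcent]; infer_instance
  have hcen : ∀ (z : kˣ) (x : Γ), Commute (ι z) x := fun z x => by
    have hc : ι z ∈ Subgroup.center Γ := by
      rw [← hcent]; exact MonoidHom.mem_range.mpr ⟨z, rfl⟩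
    exact (Subgroup.mem_center_iff.mp hc x).symm
  have hgH : ∀ h ∈ H, Commute g h := fun h hh =>
    (Subgroup.mem_centralizer_iff.mp hg h hh).symm
  have hex : ∃ j : ℕ, 0 < j ∧ ∃ h ∈ H, ∃ z : kˣ, g ^ j = h * ι z := by
    refine ⟨Nat.card (Γ ⧸ ι.range), Nat.card_pos, 1, one_mem H, ?_⟩
    have h1 : (QuotientGroup.mk g : Γ ⧸ ι.range) ^ Nat.card (Γ ⧸ ι.range) = 1 :=
      pow_card_eq_one'
    rw [← QuotientGroup.mk_pow, QuotientGroup.eq_one_iff] at h1
    obtain ⟨z, hz⟩ := MonoidHom.mem_range.mp h1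
    exact ⟨z, by rw [hz, one_mul]⟩
  obtain ⟨m, hm_def⟩ : ∃ m, m = Nat.find hex := ⟨_, rfl⟩
  have hspec := Nat.find_spec hex
  rw [← hm_def] at hspec
  obtain ⟨hm0, h0, hh0, a, ha⟩ := hspec
  have hmin : ∀ j, j < m → ¬ (0 < j ∧ ∃ h ∈ H, ∃ z : kˣ, g ^ j = h * ι z) := fun j hj =>
    Nat.find_min hex (hm_def ▸ hj)
  obtain ⟨c, hc⟩ := IsAlgClosed.exists_pow_nat_eq ((a⁻¹ : kˣ) : k) hm0
  have hc0 : c ≠ 0 := by
    intro h
    rw [h, zero_pow (Nat.pos_iff_ne_zero.mp hm0)] at hc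
    exact (Units.ne_zero _) hc.symm
  obtain ⟨cu, hcu_def⟩ : ∃ cu : kˣ, cu = Units.mk0 c hc0 := ⟨_, rfl⟩
  have hcu : cu ^ m = a⁻¹ := by
    apply Units.ext
    rw [Units.val_pow_eq_pow_val, hcu_def, Units.val_mk0]
    exact hc
  obtain ⟨g', hg'def⟩ : ∃ g' : Γ, g' = g * ι cu := ⟨_, rfl⟩
  have hg'pow : ∀ j : ℕ, g' ^ j = g ^ j * ι (cu ^ j) := fun j => by
    rw [hg'def, (hcen cu g).symm.mul_pow, map_pow]
  have hg'm : g' ^ m = h0 := by
    rw [hg'pow, hcu, ha, mul_assoc, ← map_mul, mul_inv_cancel, map_one, mul_one]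
  have hg'H : ∀ h ∈ H, Commute g' h := fun h hh => by
    rw [hg'def]; exact (hgH h hh).mul_left (hcen cu h)
  have hH1 : H1 H g' hg'H ⊓ ι.range = ⊥ := by
    rw [eq_bot_iff]
    rintro x ⟨hx1, hx2⟩
    obtain ⟨h, hh, j, rfl⟩ := (mem_H1 H g' hg'H x).mp hx1
    obtain ⟨b, hb⟩ := MonoidHom.mem_range.mp hx2
    have hmZ : (0 : ℤ) < (m : ℤ) := by exact_mod_cast hm0
    obtain ⟨r, hr⟩ : ∃ r : ℕ, (r : ℤ) = j % (m : ℤ) :=
      ⟨(j % (m : ℤ)).toNat, Int.toNat_of_nonneg (Int.emod_nonneg j (ne_of_gt hmZ))⟩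
    have hrlt : r < m := by
      have h1 := Int.emod_lt_of_pos j hmZ
      rw [← hr] at h1
      exact_mod_cast h1
    have hj : g' ^ j = h0 ^ (j / (m : ℤ)) * g' ^ r := by
      conv_lhs => rw [← Int.mul_ediv_add_emod j (m : ℤ)]
      rw [zpow_add, zpow_mul, zpow_natCast, hg'm, ← hr, zpow_natCast]
    have hr0 : r = 0 := by
      by_contra hne
      have hrpos : 0 < r := Nat.pos_of_ne_zero hne
      apply hmin r hrlt
      refine ⟨hrpos, (h * h0 ^ (j / (m : ℤ)))⁻¹, inv_mem (mul_mem hh (zpow_mem hh0 _)),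
        b * (cu ^ r)⁻¹, ?_⟩
      rw [map_mul, map_inv, hb, hj, hg'pow r]
      group
    subst hr0
    rw [pow_zero, mul_one] at hj
    have hxH : h * g' ^ j ∈ H := by rw [hj]; exact mul_mem hh (zpow_mem hh0 _)
    have h7 : h * g' ^ j ∈ H ⊓ ι.range := Subgroup.mem_inf.mpr ⟨hxH, hx2⟩
    rw [hH] at h7
    exact h7
  have hle : H ≤ H1 H g' hg'H := fun h hh =>
    (mem_H1 H g' hg'H h).mpr ⟨h, hh, 0, by rw [zpow_zero, mul_one]⟩
  have heq := hmax (H1 H g' hg'H) hH1 hle
  have hg'mem : g' ∈ H := by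
    rw [← heq]
    exact (mem_H1 H g' hg'H g').mpr ⟨1, one_mem H, 1, by rw [zpow_one, one_mul]⟩
  refine ⟨g', hg'mem, cu⁻¹, ?_⟩
  rw [hg'def, map_inv, mul_assoc, mul_inv_cancel, mul_one]

theorem numbers [IsAlgClosed k] [Finite (Γ ⧸ ι.range)]
    (hι : Function.Injective ι) (hcent : ι.range = Subgroup.center Γ)
    (hcomm : commutator Γ ≤ ι.range)
    (H : Subgroup Γ) (hH : H ⊓ ι.range = ⊥)
    (hmax : ∀ H' : Subgroup Γ, H' ⊓ ι.range = ⊥ → H ≤ H' → H' = H) :
    Nat.card (Γ ⧸ Subgroup.centralizer (H : Set Γ)) ^ 2 = Nat.card (Γ ⧸ ι.range) := by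
  obtain ⟨C, hC⟩ : ∃ C : Subgroup Γ, C = Subgroup.centralizer (H : Set Γ) := ⟨_, rfl⟩
  rw [← hC]
  have hιC : ι.range ≤ C := by rw [hC, hcent]; exact Subgroup.center_le_centralizer _
  have hHcomm : ∀ a ∈ H, ∀ b ∈ H, a * b = b * a := by
    intro a ha b hb
    have h1 : ⁅a, b⁆ ∈ H ⊓ ι.range := by
      refine Subgroup.mem_inf.mpr ⟨?_, MonoidHom.mem_range.mpr (comm_mem ι hcomm a b)⟩
      rw [commutatorElement_def]
      exact H.mul_mem (H.mul_mem (H.mul_mem ha hb) (H.inv_mem ha)) (H.inv_mem hb)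
    rw [hH] at h1
    exact commutatorElement_eq_one_iff_mul_comm.mp (Subgroup.mem_bot.mp h1)
  have hHC : (H : Set Γ) ⊆ (C : Set Γ) := by
    intro h hh
    rw [hC]
    exact Subgroup.mem_centralizer_iff.mpr (fun h' hh' => hHcomm h' hh' h hh)
  have hform : ∀ b ∈ C, ∃ h ∈ H, ∃ z : kˣ, b = h * ι z := fun b hb =>
    max_level ι hcent H hH hmax b (hC ▸ hb)
  have hCC : C = Subgroup.centralizer (C : Set Γ) := by
    apply le_antisymm
    · intro a ha
      rw [Subgroup.mem_centralizer_iff]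
      intro b hb
      obtain ⟨h, hh, z, rfl⟩ := hform b hb
      have h1 : h * a = a * h := by
        rw [hC] at ha; exact Subgroup.mem_centralizer_iff.mp ha h hh
      have hc : ι z ∈ Subgroup.center Γ := by
        rw [← hcent]; exact MonoidHom.mem_range.mpr ⟨z, rfl⟩
      have h2 : a * ι z = ι z * a := Subgroup.mem_center_iff.mp hc a
      calc h * ι z * a = h * (ι z * a) := mul_assoc _ _ _
        _ = h * (a * ι z) := by rw [h2]
        _ = (h * a) * ι z := (mul_assoc _ _ _).symm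
        _ = a * h * ι z := by rw [h1]
        _ = a * (h * ι z) := mul_assoc _ _ _
    · exact (Subgroup.centralizer_le hHC).trans (le_of_eq hC.symm)
  have htfae := Groth.Agent.S17512.main ι hι hcomm hcent C hιC
  have h2' : IsMulCommutative C ∧ ι.range.relIndex C ^ 2 = ι.range.index :=
    (htfae.out 2 1).mp hCC
  have h2 := h2'.2
  have h3 := Subgroup.relIndex_mul_index hιC
  have hn0 : ι.range.index ≠ 0 := Subgroup.index_ne_zero_of_finite
  have hr0 : 0 < ι.range.relIndex C := Nat.pos_of_ne_zero (fun h0 => hn0 (by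
    rw [← h2, h0]; rfl))
  have hNr : C.index = ι.range.relIndex C :=
    Nat.eq_of_mul_eq_mul_left hr0 (by rw [h3, ← h2, pow_two])
  show C.index ^ 2 = ι.range.index
  rw [hNr, h2]

end MaxLevel

end Aux


/-- Let k be an algebraically closed field and Γ a group given with an injective homomorphism ι from the
multiplicative group kˣ onto the centre of Γ, such that the quotient K = Γ/ι(kˣ) is a finite
commutative group (every commutator lies in ι(kˣ)) whose order is prime to the characteristic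
exponent of k — the group of k-points of a non-degenerate theta group 1 → G_m → G → K → 1 with
rank(K) prime to char(k), non-degeneracy of the commutator pairing being the condition that ι(kˣ) is
the whole centre. A finite-dimensional representation of Γ over k has weight 1 when ι(z) acts as
multiplication by z for every z. Let V be an irreducible finite-dimensional representation of weight
1, W any finite-dimensional representation of weight 1, and H a maximal level subgroup of Γ: a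
subgroup with H ∩ ι(kˣ) = 1 which is maximal among subgroups with this property. Then W is
semisimple (completely reducible) and dim_k W = dim_k(W^H) · dim_k V, where W^H is the subspace of
H-invariants; together with the uniqueness of the irreducible weight-1 representation this says that
W is a direct sum of dim_k(W^H) copies of V. (Rendered for the group of k-points of the theta group
scheme, as in the preceding row.) -/
theorem result (k : Type u) [Field k] [IsAlgClosed k]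
    (Γ : Type u) [Group Γ] (ι : kˣ →* Γ) (hι : Function.Injective ι)
    (hcent : ι.range = Subgroup.center Γ) (hcomm : commutator Γ ≤ ι.range)
    [Finite (Γ ⧸ ι.range)] (hcop : (Nat.card (Γ ⧸ ι.range)).Coprime (ringExpChar k))
    (V : FDRep k Γ) (hV : Representation.IsIrreducible V.ρ) (hV1 : ∀ (z : kˣ) (v : V), V.ρ (ι z) v = (z : k) • v)
    (W : FDRep k Γ) (hW1 : ∀ (z : kˣ) (w : W), W.ρ (ι z) w = (z : k) • w)
    (H : Subgroup Γ) (hH : H ⊓ ι.range = ⊥) (hmax : ∀ H' : Subgroup Γ, H' ⊓ ι.range = ⊥ → H ≤ H' → H' = H) :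
    Representation.IsSemisimpleRepresentation W.ρ ∧
      Module.finrank k W =
        Module.finrank k (Representation.invariants (W.ρ.comp H.subtype)) * Module.finrank k V := by
  classical
  have hn0 : ((Nat.card (Γ ⧸ ι.range) : ℕ) : k) ≠ 0 := card_ne_zero _ Nat.card_pos hcop
  refine ⟨maschke ι hcent W.ρ hW1 hn0, ?_⟩
  have hd := dim_sq ι V.ρ hι hcent hcomm hV1 hV
  have hnum := numbers ι hι hcent hcomm H hH hmax
  have hnpos : 0 < Nat.card (Γ ⧸ ι.range) := Nat.card_pos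
  have hNd : Nat.card (Γ ⧸ Subgroup.centralizer (H : Set Γ)) = Module.finrank k V := by
    have h1 : Nat.card (Γ ⧸ Subgroup.centralizer (H : Set Γ)) ^ 2 = Module.finrank k V ^ 2 :=
      hnum.trans hd.symm
    rw [pow_two, pow_two] at h1
    exact Nat.mul_self_inj.mp h1
  have hNpos : Nat.card (Γ ⧸ Subgroup.centralizer (H : Set Γ)) ≠ 0 := by
    intro h0
    rw [h0] at hnum
    simp at hnum
    omega
  haveI : Finite (Γ ⧸ Subgroup.centralizer (H : Set Γ)) := Nat.finite_of_card_ne_zero hNpos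
  have hNk : ((Nat.card (Γ ⧸ Subgroup.centralizer (H : Set Γ)) : ℕ) : k) ≠ 0 := by
    intro h0
    apply hn0
    rw [← hnum, Nat.cast_pow, h0]
    exact zero_pow two_ne_zero
  haveI : Finite H := Finite.of_injective
    (fun h : H => (QuotientGroup.mk (h : Γ) : Γ ⧸ ι.range)) (by
      intro a b hab
      have h1 : (a : Γ)⁻¹ * b ∈ ι.range := QuotientGroup.eq.mp hab
      have h2 : (a : Γ)⁻¹ * b ∈ H ⊓ ι.range :=
        Subgroup.mem_inf.mpr ⟨H.mul_mem (H.inv_mem a.2) b.2, h1⟩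
      rw [hH] at h2
      have h3 : (a : Γ)⁻¹ * b = 1 := Subgroup.mem_bot.mp h2
      apply Subtype.ext
      exact inv_mul_eq_one.mp h3)
  have hfin := orbit_dim ι W.ρ H hι hcent hcomm hW1 hH hNk
  rw [hfin, hNd, mul_comm]

end Groth.Agent.S17507
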