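import Groth.Statements.S17517
import Mathlib

set_option autoImplicit false
universe u
open GIT

namespace Groth.Agent.S17517

section Inf
variable {E : Type*} [AddCommGroup E] [Module ℝ E]
    (G : Finset (Module.Dual ℝ E)) (hG : G.Nonempty)

/-- the minimum of finitely many functionals -/
noncomputable def gm (v : E) : ℝ := G.inf' hG (fun g => g v)

lemma gm_le {g : Module.Dual ℝ E} (hg : g ∈ G) (v : E) : gm G hG v ≤ g v :=
  Finset.inf'_le (fun g : Module.Dual ℝ E => g v) hg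

lemma le_gm_iff (a : ℝ) (v : E) : a ≤ gm G hG v ↔ ∀ g ∈ G, a ≤ g v :=
  Finset.le_inf'_iff hG _

lemma gm_smul {t : ℝ} (ht : 0 ≤ t) (v : E) : gm G hG (t • v) = t * gm G hG v := by
  apply le_antisymm
  · obtain ⟨g, hg, hgv⟩ := Finset.exists_mem_eq_inf' hG (fun g : Module.Dual ℝ E => g v)
    calc gm G hG (t • v) ≤ g (t • v) := gm_le G hG hg _
      _ = t * g v := by simp
      _ = t * gm G hG v := by rw [gm, hgv]
  · rw [le_gm_iff]
    intro g hg
    have := gm_le G hG hg v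
    calc t * gm G hG v ≤ t * g v := mul_le_mul_of_nonneg_left this ht
      _ = g (t • v) := by simp

lemma gm_zero : gm G hG 0 = 0 := by
  have := gm_smul G hG (le_refl (0:ℝ)) (0 : E)
  simpa using this

lemma gm_add (v w : E) : gm G hG v + gm G hG w ≤ gm G hG (v + w) := by
  rw [le_gm_iff]
  intro g hg
  rw [map_add]
  exact add_le_add (gm_le G hG hg v) (gm_le G hG hg w)

end Inf

lemma gm_continuous {E : Type*} [NormedAddCommGroup E] [InnerProductSpace ℝ E]
    [FiniteDimensional ℝ E] (G : Finset (Module.Dual ℝ E)) (hG : G.Nonempty) :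
    Continuous (gm G hG) := by
  show Continuous (fun v => G.inf' hG (fun g => g v))
  exact Continuous.finset_inf'_apply hG
    (fun g _ => LinearMap.continuous_of_finiteDimensional g)

section Rat
variable {E : Type*} [NormedAddCommGroup E] [InnerProductSpace ℝ E] (L : Submodule ℤ E)

/-- rational points with respect to the lattice -/
def IsRat (v : E) : Prop := ∃ N : ℕ, 0 < N ∧ (N : ℝ) • v ∈ L

lemma natCast_smul_mem {x : E} (hx : x ∈ L) (n : ℕ) : (n : ℝ) • x ∈ L := by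
  rw [Nat.cast_smul_eq_nsmul]
  exact nsmul_mem hx n

lemma intCast_smul_mem {x : E} (hx : x ∈ L) (n : ℤ) : (n : ℝ) • x ∈ L := by
  rw [Int.cast_smul_eq_zsmul]
  exact zsmul_mem hx n

lemma isRat_of_mem {x : E} (hx : x ∈ L) : IsRat L x := ⟨1, one_pos, by simpa using hx⟩

lemma isRat_zero : IsRat L (0 : E) := isRat_of_mem L L.zero_mem

lemma isRat_add {v w : E} (hv : IsRat L v) (hw : IsRat L w) : IsRat L (v + w) := by
  obtain ⟨N, hN, hNv⟩ := hv
  obtain ⟨M, hM, hMw⟩ := hw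
  refine ⟨N * M, Nat.mul_pos hN hM, ?_⟩
  have : ((N * M : ℕ) : ℝ) • (v + w) = (M : ℝ) • ((N : ℝ) • v) + (N : ℝ) • ((M : ℝ) • w) := by
    push_cast
    rw [smul_add, smul_smul, smul_smul, mul_comm (M:ℝ) (N:ℝ)]
  rw [this]
  exact L.add_mem (natCast_smul_mem L hNv M) (natCast_smul_mem L hMw N)

lemma isRat_smul {v : E} (hv : IsRat L v) (q : ℚ) : IsRat L ((q : ℝ) • v) := by
  obtain ⟨N, hN, hNv⟩ := hv
  refine ⟨q.den * N, Nat.mul_pos q.pos hN, ?_⟩
  have : ((q.den * N : ℕ) : ℝ) • ((q : ℝ) • v) = (q.num : ℝ) • ((N : ℝ) • v) := by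
    rw [smul_smul, smul_smul]
    congr 1
    have hden : (q.den : ℝ) ≠ 0 := by exact_mod_cast q.den_ne_zero
    push_cast
    rw [Rat.cast_def]
    field_simp
  rw [this]
  exact intCast_smul_mem L hNv _

lemma isRat_sum {ι : Type*} (s : Finset ι) (f : ι → E) (h : ∀ i ∈ s, IsRat L (f i)) :
    IsRat L (∑ i ∈ s, f i) :=
  Finset.sum_induction f (IsRat L) (fun _ _ => isRat_add L) (isRat_zero L) h

lemma isRat_inner (hint : ∀ x ∈ L, ∀ y ∈ L, ∃ n : ℤ, inner ℝ x y = (n : ℝ)) {v w : E}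
    (hv : IsRat L v) (hw : IsRat L w) : ∃ q : ℚ, inner ℝ v w = (q : ℝ) := by
  obtain ⟨N, hN, hNv⟩ := hv
  obtain ⟨M, hM, hMw⟩ := hw
  obtain ⟨n, hn⟩ := hint _ hNv _ hMw
  rw [real_inner_smul_left, real_inner_smul_right] at hn
  have hN' : (N : ℝ) ≠ 0 := by exact_mod_cast hN.ne'
  have hM' : (M : ℝ) ≠ 0 := by exact_mod_cast hM.ne'
  refine ⟨(n : ℚ) / ((N : ℚ) * (M : ℚ)), ?_⟩
  have h1 : inner ℝ v w = (n : ℝ) / ((N : ℝ) * (M : ℝ)) := by
    rw [eq_div_iff (mul_ne_zero hN' hM'), ← hn]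
    ring
  rw [h1]
  push_cast
  ring

lemma isRat_of_span (hint : ∀ x ∈ L, ∀ y ∈ L, ∃ n : ℤ, inner ℝ x y = (n : ℝ))
    {ι : Type*} [Fintype ι] (e : ι → E) (he : ∀ i, IsRat L (e i))
    (v : E) (hv : v ∈ Submodule.span ℝ (Set.range e))
    (hq : ∀ i, ∃ q : ℚ, inner ℝ (e i) v = (q : ℝ)) : IsRat L v := by
  classical
  obtain ⟨π, hπ⟩ := LinearMap.exists_leftInverse_of_injective (Algebra.linearMap ℚ ℝ)
    (LinearMap.ker_eq_bot.mpr (algebraMap ℚ ℝ).injective)
  have hπq : ∀ q : ℚ, π (q : ℝ) = q := by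
    intro q
    have := LinearMap.congr_fun hπ q
    simpa using this
  have hπmul : ∀ (q : ℚ) (x : ℝ), π (x * (q : ℝ)) = π x * q := by
    intro q x
    have h := π.map_smul q x
    rw [Rat.smul_def, smul_eq_mul] at h
    rw [mul_comm x, h, mul_comm]
  obtain ⟨c, hc⟩ := (Submodule.mem_span_range_iff_exists_fun ℝ).mp hv
  choose a ha using fun i j => isRat_inner L hint (he i) (he j)
  choose b hb using hq
  set v' : E := ∑ i, ((π (c i) : ℚ) : ℝ) • e i with hv'
  have hinner : ∀ j, inner ℝ (e j) v' = inner ℝ (e j) v := by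
    intro j
    rw [hv', inner_sum]
    simp only [real_inner_smul_right, ha]
    have h1 : ∀ i, ((π (c i) : ℚ) : ℝ) * ((a j i : ℚ) : ℝ)
        = ((π (c i * ((a j i : ℚ) : ℝ)) : ℚ) : ℝ) := by
      intro i
      rw [hπmul, Rat.cast_mul]
    simp only [h1]
    rw [← Rat.cast_sum, ← map_sum]
    have h2 : ∑ i, c i * ((a j i : ℚ) : ℝ) = inner ℝ (e j) v := by
      rw [← hc, inner_sum]
      simp only [real_inner_smul_right, ha]
    rw [h2, hb j, hπq]
  have hv'mem : v' ∈ Submodule.span ℝ (Set.range e) :=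
    Submodule.sum_mem _ (fun i _ => Submodule.smul_mem _ _ (Submodule.subset_span ⟨i, rfl⟩))
  have hd : v' - v ∈ Submodule.span ℝ (Set.range e) := Submodule.sub_mem _ hv'mem hv
  obtain ⟨c', hc'⟩ := (Submodule.mem_span_range_iff_exists_fun ℝ).mp hd
  have hzero : inner ℝ (v' - v) (v' - v) = 0 := by
    nth_rewrite 1 [← hc']
    rw [sum_inner]
    refine Finset.sum_eq_zero (fun i _ => ?_)
    rw [real_inner_smul_left, inner_sub_right, hinner i, sub_self, mul_zero]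
  have hvv' : v' = v := sub_eq_zero.mp (inner_self_eq_zero.mp hzero)
  rw [← hvv', hv']
  exact isRat_sum L _ _ (fun i _ => isRat_smul L (he i) _)

variable [CompleteSpace E] [FiniteDimensional ℝ E]

/-- Riesz representative of a functional -/
noncomputable def riesz (h : Module.Dual ℝ E) : E :=
  (InnerProductSpace.toDual ℝ E).symm (LinearMap.toContinuousLinearMap h)

lemma riesz_inner (h : Module.Dual ℝ E) (x : E) : inner ℝ (riesz h) x = h x := by
  unfold riesz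
  rw [InnerProductSpace.toDual_symm_apply]
  simp

lemma riesz_isRat [DiscreteTopology L] [IsZLattice ℝ L]
    (hint : ∀ x ∈ L, ∀ y ∈ L, ∃ n : ℤ, inner ℝ x y = (n : ℝ))
    (h : Module.Dual ℝ E) (hh : ∀ x ∈ L, ∃ n : ℤ, h x = (n : ℝ)) : IsRat L (riesz h) := by
  have hmem : riesz h ∈ Submodule.span ℝ (L : Set E) := by
    rw [IsZLattice.span_top]
    trivial
  obtain ⟨T, hTL, hT⟩ := Submodule.mem_span_finite_of_mem_span hmem
  refine isRat_of_span L hint (fun i : T => (i : E)) (fun i => isRat_of_mem L (hTL i.2)) _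
    (Submodule.span_mono (show (↑T : Set E) ⊆ Set.range (fun i : T => (i : E)) from
      fun x hx => ⟨⟨x, hx⟩, rfl⟩) hT) ?_
  intro i
  obtain ⟨n, hn⟩ := hh i (hTL i.2)
  refine ⟨(n : ℚ), ?_⟩
  rw [real_inner_comm, riesz_inner, hn]
  simp

end Rat


/-- Let `E` be a finite-dimensional real inner product space and `L` a full lattice in `E` (a discrete
subgroup spanning `E`) on which the inner product is integer valued; let `F` and `G` be nonempty
finite sets of real linear functionals on `E` taking integer values on `L`, with `f_min v = min_{f ∈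
F} f v` and `g_min v = min_{g ∈ G} g v`. If some vector `v` has `f_min v ≥ 0` and `g_min v > 0`,
then on the set `C_F` of nonzero `v` with `f_min v ≥ 0` the function `v ↦ g_min v / ‖v‖` attains a
greatest value `M`, and there is exactly one lattice vector `v₀ ∈ C_F` with `g_min v₀ / ‖v₀‖ = M` of
which every lattice vector `v ∈ C_F` with `g_min v / ‖v‖ = M` is an integer multiple. -/
theorem result
    (E : Type u) [NormedAddCommGroup E] [InnerProductSpace ℝ E] [FiniteDimensional ℝ E]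
    (L : Submodule ℤ E) [DiscreteTopology L] [IsZLattice ℝ L]
    (hint : ∀ x ∈ L, ∀ y ∈ L, ∃ n : ℤ, inner ℝ x y = (n : ℝ))
    (F G : Finset (Module.Dual ℝ E)) (hF : F.Nonempty) (hG : G.Nonempty)
    (hFi : ∀ f ∈ F, ∀ x ∈ L, ∃ n : ℤ, f x = (n : ℝ)) (hGi : ∀ g ∈ G, ∀ x ∈ L, ∃ n : ℤ, g x = (n : ℝ))
    (hpos : ∃ v : E, 0 ≤ F.inf' hF (fun f => f v) ∧ 0 < G.inf' hG (fun g => g v)) :
    ∃ M : ℝ, IsGreatest ((fun v => G.inf' hG (fun g => g v) / ‖v‖) ''
        {v : E | v ≠ 0 ∧ 0 ≤ F.inf' hF (fun f => f v)}) M ∧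
      ∃! v₀ : E, v₀ ∈ L ∧ v₀ ≠ 0 ∧ 0 ≤ F.inf' hF (fun f => f v₀) ∧
        G.inf' hG (fun g => g v₀) / ‖v₀‖ = M ∧
        ∀ v ∈ L, v ≠ 0 → 0 ≤ F.inf' hF (fun f => f v) → G.inf' hG (fun g => g v) / ‖v‖ = M →
          ∃ n : ℤ, v = n • v₀ := by
  classical
  haveI : CompleteSpace E := FiniteDimensional.complete ℝ E
  show ∃ M : ℝ, IsGreatest ((fun v => gm G hG v / ‖v‖) '' {v : E | v ≠ 0 ∧ 0 ≤ gm F hF v}) M ∧
      ∃! v₀ : E, v₀ ∈ L ∧ v₀ ≠ 0 ∧ 0 ≤ gm F hF v₀ ∧ gm G hG v₀ / ‖v₀‖ = M ∧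
        ∀ v ∈ L, v ≠ 0 → 0 ≤ gm F hF v → gm G hG v / ‖v‖ = M → ∃ n : ℤ, v = n • v₀
  have hpos' : ∃ v : E, 0 ≤ gm F hF v ∧ 0 < gm G hG v := hpos
  have hGc := gm_continuous G hG
  have hFc := gm_continuous F hF
  let K : Set E := Metric.sphere (0:E) 1 ∩ {v | 0 ≤ gm F hF v}
  have hKc : IsCompact K :=
    (isCompact_sphere (0:E) 1).inter_right (isClosed_le continuous_const hFc)
  have hnorm : ∀ v : E, v ≠ 0 → 0 ≤ gm F hF v →
      (‖v‖⁻¹ • v ∈ K ∧ gm G hG (‖v‖⁻¹ • v) = gm G hG v / ‖v‖) := by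
    intro v hv hFv
    have hn : 0 < ‖v‖ := norm_pos_iff.mpr hv
    refine ⟨⟨?_, ?_⟩, ?_⟩
    · rw [mem_sphere_zero_iff_norm, norm_smul, norm_inv, norm_norm,
        inv_mul_cancel₀ (norm_ne_zero_iff.mpr hv)]
    · show 0 ≤ gm F hF (‖v‖⁻¹ • v)
      rw [gm_smul F hF (inv_nonneg.mpr hn.le)]
      exact mul_nonneg (inv_nonneg.mpr hn.le) hFv
    · rw [gm_smul G hG (inv_nonneg.mpr hn.le), div_eq_inv_mul]
  obtain ⟨v1, hFv1, hGv1⟩ := hpos'
  have hv1 : v1 ≠ 0 := by
    rintro rfl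
    rw [gm_zero] at hGv1
    exact lt_irrefl _ hGv1
  obtain ⟨u₀, hu₀K, hu₀max⟩ :=
    hKc.exists_isMaxOn ⟨_, (hnorm v1 hv1 hFv1).1⟩ hGc.continuousOn
  have hmax : ∀ u ∈ K, gm G hG u ≤ gm G hG u₀ := fun u hu => isMaxOn_iff.mp hu₀max u hu
  have hu₀n : ‖u₀‖ = 1 := mem_sphere_zero_iff_norm.mp hu₀K.1
  have hu₀F : 0 ≤ gm F hF u₀ := hu₀K.2
  have hu₀0 : u₀ ≠ 0 := by
    intro h
    rw [h, norm_zero] at hu₀n
    exact zero_ne_one hu₀n
  obtain ⟨M, hM⟩ : ∃ M : ℝ, M = gm G hG u₀ := ⟨_, rfl⟩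
  rw [← hM] at hmax
  have hMpos : 0 < M := by
    have h1 := hmax _ (hnorm v1 hv1 hFv1).1
    rw [(hnorm v1 hv1 hFv1).2] at h1
    exact lt_of_lt_of_le (div_pos hGv1 (norm_pos_iff.mpr hv1)) h1
  have hbound : ∀ v : E, v ≠ 0 → 0 ≤ gm F hF v → gm G hG v / ‖v‖ ≤ M := by
    intro v hv hFv
    rw [← (hnorm v hv hFv).2]
    exact hmax _ (hnorm v hv hFv).1
  have huniq : ∀ u ∈ K, gm G hG u = M → u = u₀ := by
    intro u hu hGu
    by_contra hne
    have hun : ‖u‖ = 1 := mem_sphere_zero_iff_norm.mp hu.1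
    have hlt : ‖u + u₀‖ < 2 := by
      have hnsr : ¬ SameRay ℝ u u₀ :=
        (not_sameRay_iff_of_norm_eq (hun.trans hu₀n.symm)).mpr hne
      have := norm_add_lt_of_not_sameRay hnsr
      rw [hun, hu₀n] at this
      linarith
    have hGs : 2 * M ≤ gm G hG (u + u₀) := by
      have := gm_add G hG u u₀
      rw [hGu, ← hM] at this
      linarith
    have hFs : 0 ≤ gm F hF (u + u₀) := by
      have := gm_add F hF u u₀
      have h1 : 0 ≤ gm F hF u := hu.2
      linarith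
    have hs0 : u + u₀ ≠ 0 := by
      intro h0
      rw [h0, gm_zero] at hGs
      linarith
    have hb := hbound _ hs0 hFs
    rw [div_le_iff₀ (norm_pos_iff.mpr hs0)] at hb
    have : M * ‖u + u₀‖ < M * 2 := mul_lt_mul_of_pos_left hlt hMpos
    linarith
  have hray : ∀ v : E, v ≠ 0 → 0 ≤ gm F hF v → gm G hG v / ‖v‖ = M → v = ‖v‖ • u₀ := by
    intro v hv hFv hφ
    have h1 := huniq _ (hnorm v hv hFv).1 (by rw [(hnorm v hv hFv).2]; exact hφ)
    rw [← h1, smul_smul, mul_inv_cancel₀ (norm_ne_zero_iff.mpr hv), one_smul]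
  -- rationality of the optimal ray
  have hrat : ∃ t : ℝ, 0 < t ∧ t • u₀ ∈ L := by
    obtain ⟨vs, hvs⟩ : ∃ vs : E, vs = M⁻¹ • u₀ := ⟨_, rfl⟩
    have hMi : 0 < M⁻¹ := inv_pos.mpr hMpos
    have hGvs : gm G hG vs = 1 := by
      rw [hvs, gm_smul G hG hMi.le, ← hM]
      exact inv_mul_cancel₀ hMpos.ne'
    have hFvs : 0 ≤ gm F hF vs := by
      rw [hvs, gm_smul F hF hMi.le]
      exact mul_nonneg hMi.le hu₀F
    have hnvs : ‖vs‖ = M⁻¹ := by
      rw [hvs, norm_smul, hu₀n, mul_one, Real.norm_of_nonneg hMi.le]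
    have hmin : ∀ v : E, 1 ≤ gm G hG v → 0 ≤ gm F hF v → ‖vs‖ ≤ ‖v‖ := by
      intro v hGv hFv
      have hv : v ≠ 0 := by
        rintro rfl
        rw [gm_zero] at hGv
        linarith
      have hb := hbound v hv hFv
      rw [div_le_iff₀ (norm_pos_iff.mpr hv)] at hb
      rw [hnvs, inv_le_iff_one_le_mul₀' hMpos]
      linarith
    let T : Finset (Module.Dual ℝ E) :=
      (G.filter (fun g => g vs = 1)) ∪ (F.filter (fun f => f vs = 0))
    have hvsK : vs ∈ Submodule.span ℝ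
        (Set.range (fun h : T => riesz (h : Module.Dual ℝ E))) := by
      rw [← Submodule.orthogonal_orthogonal (Submodule.span ℝ
        (Set.range (fun h : T => riesz (h : Module.Dual ℝ E)))), Submodule.mem_orthogonal]
      intro w hw
      rw [Submodule.mem_orthogonal] at hw
      have hTw : ∀ h ∈ T, (h : Module.Dual ℝ E) w = 0 := by
        intro h hh
        have := hw (riesz h) (Submodule.subset_span ⟨⟨h, hh⟩, rfl⟩)
        rwa [riesz_inner] at this
      have hev : ∀ᶠ ε in nhds (0:ℝ), ‖vs‖ ≤ ‖vs + ε • w‖ := by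
        have hG' : ∀ᶠ ε in nhds (0:ℝ), ∀ g ∈ G, (1:ℝ) ≤ g (vs + ε • w) := by
          rw [Filter.eventually_all_finset]
          intro g hg
          by_cases hgv : g vs = 1
          · have hgT : g ∈ T := Finset.mem_union_left _ (Finset.mem_filter.mpr ⟨hg, hgv⟩)
            refine Filter.Eventually.of_forall (fun ε => ?_)
            rw [map_add, map_smul, hTw g hgT, hgv]
            simp
          · have hgt : 1 < g vs :=
              lt_of_le_of_ne (hGvs ▸ gm_le G hG hg vs) (Ne.symm hgv)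
            have hcont : Filter.Tendsto (fun ε : ℝ => g (vs + ε • w)) (nhds 0) (nhds (g vs)) := by
              have hc : Continuous (fun ε : ℝ => g (vs + ε • w)) := by
                simp only [map_add, map_smul, smul_eq_mul]
                fun_prop
              simpa using hc.tendsto 0
            exact (hcont.eventually_const_lt hgt).mono (fun ε h => h.le)
        have hF' : ∀ᶠ ε in nhds (0:ℝ), ∀ f ∈ F, (0:ℝ) ≤ f (vs + ε • w) := by
          rw [Filter.eventually_all_finset]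
          intro f hf
          by_cases hfv : f vs = 0
          · have hfT : f ∈ T := Finset.mem_union_right _ (Finset.mem_filter.mpr ⟨hf, hfv⟩)
            refine Filter.Eventually.of_forall (fun ε => ?_)
            rw [map_add, map_smul, hTw f hfT, hfv]
            simp
          · have hgt : 0 < f vs :=
              lt_of_le_of_ne (hFvs.trans (gm_le F hF hf vs)) (Ne.symm hfv)
            have hcont : Filter.Tendsto (fun ε : ℝ => f (vs + ε • w)) (nhds 0) (nhds (f vs)) := by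
              have hc : Continuous (fun ε : ℝ => f (vs + ε • w)) := by
                simp only [map_add, map_smul, smul_eq_mul]
                fun_prop
              simpa using hc.tendsto 0
            exact (hcont.eventually_const_lt hgt).mono (fun ε h => h.le)
        filter_upwards [hG', hF'] with ε h1 h2
        exact hmin _ ((le_gm_iff G hG _ _).mpr h1) ((le_gm_iff F hF _ _).mpr h2)
      have hq : ∀ᶠ ε in nhds (0:ℝ),
          0 ≤ ε * (2 * inner ℝ vs w) + ε ^ 2 * ‖w‖ ^ 2 := by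
        filter_upwards [hev] with ε hε
        have h2 : ‖vs‖ ^ 2 ≤ ‖vs + ε • w‖ ^ 2 := pow_le_pow_left₀ (norm_nonneg _) hε 2
        rw [norm_add_sq_real, real_inner_smul_right, norm_smul, mul_pow, Real.norm_eq_abs,
          sq_abs] at h2
        linarith
      have hlm : IsLocalMin (fun ε : ℝ => ε * (2 * inner ℝ vs w) + ε ^ 2 * ‖w‖ ^ 2) 0 := by
        filter_upwards [hq] with ε hε
        simpa using hε
      have hder : HasDerivAt (fun ε : ℝ => ε * (2 * inner ℝ vs w) + ε ^ 2 * ‖w‖ ^ 2)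
          (2 * inner ℝ vs w) 0 := by
        have h : HasDerivAt (fun ε : ℝ => ε * (2 * inner ℝ vs w) + ε ^ 2 * ‖w‖ ^ 2)
            (1 * (2 * inner ℝ vs w) + ((2:ℕ) : ℝ) * (0:ℝ) ^ (2 - 1) * ‖w‖ ^ 2) 0 :=
          ((hasDerivAt_id' (0:ℝ)).mul_const _).add ((hasDerivAt_pow 2 (0:ℝ)).mul_const _)
        have e : (1 * (2 * inner ℝ vs w) + ((2:ℕ) : ℝ) * (0:ℝ) ^ (2 - 1) * ‖w‖ ^ 2)
            = 2 * inner ℝ vs w := by
          norm_num
        rw [e] at h
        exact h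
      have h0 := hlm.hasDerivAt_eq_zero hder
      rw [real_inner_comm]
      linarith
    have hQvs : IsRat L vs := by
      refine isRat_of_span L hint (fun h : T => riesz (h : Module.Dual ℝ E)) ?_ vs hvsK ?_
      · intro h
        rcases Finset.mem_union.mp h.2 with hg | hf
        · exact riesz_isRat L hint _ (hGi _ (Finset.mem_filter.mp hg).1)
        · exact riesz_isRat L hint _ (hFi _ (Finset.mem_filter.mp hf).1)
      · intro h
        show ∃ q : ℚ, inner ℝ (riesz (h : Module.Dual ℝ E)) vs = (q : ℝ)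
        rw [riesz_inner]
        rcases Finset.mem_union.mp h.2 with hg | hf
        · exact ⟨1, by rw [(Finset.mem_filter.mp hg).2]; simp⟩
        · exact ⟨0, by rw [(Finset.mem_filter.mp hf).2]; simp⟩
    obtain ⟨N, hN, hNvs⟩ := hQvs
    refine ⟨(N:ℝ) * M⁻¹, mul_pos (by exact_mod_cast hN) hMi, ?_⟩
    rw [← smul_smul, ← hvs]
    exact hNvs
  -- lattice points on the optimal ray
  obtain ⟨t₁, ht₁, ht₁L⟩ := hrat
  let S : AddSubgroup ℝ :=
    { carrier := {t | t • u₀ ∈ L}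
      zero_mem' := by simp
      add_mem' := by
        intro a b ha hb
        simp only [Set.mem_ofPred_eq, add_smul] at *
        exact L.add_mem ha hb
      neg_mem' := by
        intro a ha
        simp only [Set.mem_ofPred_eq, neg_smul] at *
        exact L.neg_mem ha }
  have hSmem : ∀ t : ℝ, t ∈ S ↔ t • u₀ ∈ L := fun t => Iff.rfl
  have hSbot : S ≠ ⊥ := by
    intro h
    have h1 : t₁ ∈ S := (hSmem t₁).mpr ht₁L
    rw [h, AddSubgroup.mem_bot] at h1
    exact ht₁.ne' h1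
  obtain ⟨U, hUo, hU⟩ :=
    Topology.IsInducing.subtypeVal.isOpen_iff.mp (isOpen_discrete ({0} : Set L))
  have h0U : (0:E) ∈ U := by
    exact (Set.ext_iff.mp hU 0).mpr rfl
  obtain ⟨ε, hε, hball⟩ := Metric.isOpen_iff.mp hUo 0 h0U
  have hsmall : ∀ x ∈ L, ‖x‖ < ε → x = 0 := by
    intro x hx hxn
    have hxU : x ∈ U := hball (by rwa [Metric.mem_ball, dist_zero_right])
    have h1 := (Set.ext_iff.mp hU ⟨x, hx⟩).mp hxU
    exact congrArg Subtype.val (Set.mem_singleton_iff.mp h1)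
  have hdisj : Disjoint (S : Set ℝ) (Set.Ioo 0 ε) := by
    rw [Set.disjoint_left]
    rintro t htS ⟨ht0, htε⟩
    have hn : ‖t • u₀‖ < ε := by
      rw [norm_smul, hu₀n, mul_one, Real.norm_of_nonneg ht0.le]
      exact htε
    have h1 := hsmall _ ((hSmem t).mp htS) hn
    rcases smul_eq_zero.mp h1 with h | h
    · exact ht0.ne' h
    · exact hu₀0 h
  obtain ⟨t₀, ht₀least⟩ := AddSubgroup.exists_isLeast_pos hSbot hε hdisj
  have hScyc : S = AddSubgroup.closure {t₀} := AddSubgroup.cyclic_of_min ht₀least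
  obtain ⟨⟨ht₀S, ht₀pos⟩, ht₀min⟩ := ht₀least
  have hv₀L : t₀ • u₀ ∈ L := (hSmem t₀).mp ht₀S
  have hv₀0 : t₀ • u₀ ≠ 0 := smul_ne_zero ht₀pos.ne' hu₀0
  have hv₀F : 0 ≤ gm F hF (t₀ • u₀) := by
    rw [gm_smul F hF ht₀pos.le]
    exact mul_nonneg ht₀pos.le hu₀F
  have hv₀n : ‖t₀ • u₀‖ = t₀ := by
    rw [norm_smul, hu₀n, mul_one, Real.norm_of_nonneg ht₀pos.le]
  have hv₀φ : gm G hG (t₀ • u₀) / ‖t₀ • u₀‖ = M := by
    rw [hv₀n, gm_smul G hG ht₀pos.le, ← hM, mul_div_assoc, mul_comm, div_mul_cancel₀]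
    exact ht₀pos.ne'
  have hmult : ∀ v ∈ L, v ≠ 0 → 0 ≤ gm F hF v → gm G hG v / ‖v‖ = M →
      ∃ n : ℤ, v = n • (t₀ • u₀) := by
    intro v hvL hv hFv hφ
    have hvr := hray v hv hFv hφ
    have hnS : ‖v‖ ∈ S := (hSmem _).mpr (by rw [← hvr]; exact hvL)
    rw [hScyc, AddSubgroup.mem_closure_singleton] at hnS
    obtain ⟨n, hn⟩ := hnS
    refine ⟨n, ?_⟩
    rw [hvr, ← hn, smul_assoc]
  refine ⟨M, ⟨⟨u₀, ⟨hu₀0, hu₀F⟩, ?_⟩, ?_⟩, ?_⟩
  · show gm G hG u₀ / ‖u₀‖ = M
    rw [hu₀n, div_one, hM]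
  · rintro y ⟨v, ⟨hv, hFv⟩, rfl⟩
    exact hbound v hv hFv
  · refine ⟨t₀ • u₀, ⟨hv₀L, hv₀0, hv₀F, hv₀φ, hmult⟩, ?_⟩
    rintro y ⟨hyL, hy0, hyF, hyφ, hymult⟩
    have hyr := hray y hy0 hyF hyφ
    have hs : 0 < ‖y‖ := norm_pos_iff.mpr hy0
    have hsS : ‖y‖ ∈ S := (hSmem _).mpr (by rw [← hyr]; exact hyL)
    have h1 : t₀ ≤ ‖y‖ := ht₀min ⟨hsS, hs⟩
    obtain ⟨m, hm⟩ := hymult (t₀ • u₀) hv₀L hv₀0 hv₀F hv₀φ
    have e1 : m • y = ((m:ℝ) * ‖y‖) • u₀ := by
      rw [← Int.cast_smul_eq_zsmul ℝ m y, mul_smul, ← hyr]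
    have e2 : t₀ = (m:ℝ) * ‖y‖ := smul_left_injective ℝ hu₀0 (hm.trans e1)
    have hmpos : (0:ℝ) < (m:ℝ) := by
      by_contra hle
      push Not at hle
      have : (m:ℝ) * ‖y‖ ≤ 0 := mul_nonpos_of_nonpos_of_nonneg hle hs.le
      linarith
    have hm1 : (1:ℝ) ≤ (m:ℝ) := by
      have : (0:ℤ) < m := by exact_mod_cast hmpos
      exact_mod_cast this
    have h2 : ‖y‖ ≤ t₀ := by
      rw [e2]
      nlinarith
    have heq : ‖y‖ = t₀ := le_antisymm h2 h1
    rw [hyr, heq]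

end Groth.Agent.S17517
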