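import Groth.Statements.S17530
import Mathlib
import Groth.Agent.Lib.Helper4.LinRed
-- import your own Groth.Agent.* helpers here

set_option autoImplicit false
universe u
open GLin

namespace Groth.Agent.S17530

open TensorProduct

/-- Let `k` be a field, `H` a commutative Hopf algebra of finite type over `k` which is linearly
reductive (every finite-dimensional comodule semisimple; `G = Spec H`), `A` a commutative
`k`-algebra of finite type with a coaction of `H` that is an algebra map (an action of `G` on `Spec
A`), and `M` a finitely generated `A`-module with an `H`-coaction compatible with the module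
structure and with the coaction on `A` (a `G`-equivariant coherent module on `Spec A`). Then the
invariants `M^G` form a finitely generated module over the ring of invariants `A^G`. (The published
corollary is stated over an algebraically closed field; it is the affine case of a statement about
good moduli spaces valid over any Noetherian base, and is stated here over any field.) -/
theorem result
    (k : Type u) [Field k] (H : Type u) [CommRing H] [HopfAlgebra k H] [Algebra.FiniteType k H]
    (hG : HopfRep.IsLinearlyReductive k H)
    (A : Type u) [CommRing A] [Algebra k A] [Algebra.FiniteType k A]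
    [HopfRep.Comod k H A] [GLin.IsCoactAlg k H A]
    (M : Type u) [AddCommGroup M] [Module k M] [Module A M] [IsScalarTower k A M] [Module.Finite A M]
    [HopfRep.Comod k H M] [TameAct.IsHopfMod k H A M] :
    ∃ s : Finset M, (↑s : Set M) ⊆ ↑(HopfRep.fixedPts k H M) ∧
      (↑(HopfRep.fixedPts k H M) : Set M) ⊆
        ↑(Submodule.span ↥(GLin.invariants k H A) (↑s : Set M)) := by
  classical
  obtain ⟨α, hα, hα1⟩ := Groth.Agent.Helper4.LinRed.exists_total_integral hG A
  haveI : IsNoetherianRing A := Algebra.FiniteType.isNoetherianRing k A
  haveI : IsNoetherian A M := isNoetherian_of_isNoetherianRing_of_finite A M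
  haveI := Groth.Agent.H27.HopfInt.isHopfMod_self (k := k) (A := H) (B := A)
  have hfg : (Submodule.span A (HopfRep.fixedPts k H M : Set M)).FG := IsNoetherian.noetherian _
  obtain ⟨s, hs1, hs2⟩ := (Submodule.fg_span_iff_fg_span_finset_subset _).mp hfg
  refine ⟨s, hs1, ?_⟩
  intro m hm
  show m ∈ Submodule.span ↥(GLin.invariants k H A) (↑s : Set M)
  have hm' : m ∈ Submodule.span A (s : Set M) := by
    rw [← hs2]
    exact Submodule.subset_span hm
  obtain ⟨f, -, hf⟩ := Submodule.mem_span_finset.mp hm'
  have hE : ∀ (a : A) (x : M), x ∈ HopfRep.fixedPts k H M →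
      TameAct.reynolds k H A M α (a • x) = TameAct.reynolds k H A A α a • x := by
    intro a x hx
    have hx' : HopfRep.Comod.coact (k := k) (A := H) x = x ⊗ₜ[k] (1 : H) := hx
    rw [Groth.Agent.H27.HopfInt.reynolds_eq, Groth.Agent.H27.HopfInt.reynolds_eq,
      TameAct.IsHopfMod.coact_smul (k := k) (A := H) (B := A), hx',
      Groth.Agent.H27.HopfInt.hmSMul_tmul_right, ← Algebra.TensorProduct.one_def, mul_one]
    generalize HopfRep.Comod.coact (k := k) (A := H) a = z
    induction z using TensorProduct.induction_on with
    | zero => simp
    | tmul b c =>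
      simp only [LinearMap.rTensor_tmul, Groth.Agent.H27.HopfInt.sig_apply,
        Groth.Agent.H27.HopfInt.Phi_tmul, smul_smul, smul_eq_mul]
    | add z w hz hw => rw [map_add, map_add, map_add, hz, hw, add_smul]
  have hm1 : TameAct.reynolds k H A M α m = m :=
    Groth.Agent.H27.HopfInt.reynolds_of_mem_fixedPts α hα1 m hm
  rw [← hm1, ← hf, map_sum]
  apply Submodule.sum_mem
  intro x hx
  rw [hE (f x) x (hs1 hx)]
  have hinv : TameAct.reynolds k H A A α (f x) ∈ GLin.invariants k H A :=
    Groth.Agent.H27.HopfInt.reynolds_mem_fixedPts α hα (f x)
  exact Submodule.smul_mem _ (⟨_, hinv⟩ : GLin.invariants k H A) (Submodule.subset_span hx)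

end Groth.Agent.S17530
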