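import Groth.Statements.S17537
import Mathlib

set_option autoImplicit false
universe u v
open CAlg

namespace Groth.Agent.S17537

open AdicCompletion Submodule in
/-- `of` maps `I^n M` into `I^n M^`. -/
lemma of_mem_smul_top {A : Type u} [CommRing A] (I : Ideal A)
    (M : Type v) [AddCommGroup M] [Module A M] (n : ℕ) (y : M)
    (hy : y ∈ (I ^ n • ⊤ : Submodule A M)) :
    AdicCompletion.of I M y ∈ (I ^ n • ⊤ : Submodule A (AdicCompletion I M)) := by
  have h1 : (I ^ n • ⊤ : Submodule A M).map (AdicCompletion.of I M) ≤
      (I ^ n • ⊤ : Submodule A (AdicCompletion I M)) := by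
    rw [Submodule.map_smul'']
    exact Submodule.smul_mono le_rfl le_top
  exact h1 (Submodule.mem_map_of_mem hy)

theorem result {A : Type u} [CommRing A] (I : Ideal A)
    (M : Type v) [AddCommGroup M] [Module A M] :
    IsAdicComplete I (AdicCompletion I M) ↔
      ∀ (n : ℕ) (x : AdicCompletion I M), ∃ y : M,
        x - AdicCompletion.of I M y ∈ (I ^ n • ⊤ : Submodule A (AdicCompletion I M)) := by
  constructor
  · intro hc n x
    -- lifts of the components of `x`
    have hsurj : ∀ k : ℕ, ∃ y : M, Submodule.mkQ (I ^ k • ⊤ : Submodule A M) y = x.val k :=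
      fun k => Submodule.mkQ_surjective _ _
    choose y hy using hsurj
    have hdiff : ∀ {m k : ℕ}, m ≤ k → y m - y k ∈ (I ^ m • ⊤ : Submodule A M) := by
      intro m k hmk
      rw [← Submodule.ker_mkQ (I ^ m • ⊤ : Submodule A M), LinearMap.mem_ker, map_sub, hy m,
        sub_eq_zero]
      have h2 : AdicCompletion.transitionMap I M hmk (x.val k) = x.val m :=
        AdicCompletion.transitionMap_comp_eval_apply I M hmk x
      rw [← h2, ← hy k]
      simp
    have hcauchy : ∀ {m k : ℕ}, m ≤ k → AdicCompletion.of I M (y m) ≡ AdicCompletion.of I M (y k)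
        [SMOD (I ^ m • ⊤ : Submodule A (AdicCompletion I M))] := by
      intro m k hmk
      rw [SModEq.sub_mem, ← map_sub]
      exact of_mem_smul_top I M m _ (hdiff hmk)
    obtain ⟨L, hL⟩ := hc.toIsPrecomplete.prec hcauchy
    have hLx : L = x := by
      apply AdicCompletion.ext
      intro k
      have h3 := hL k
      rw [SModEq.sub_mem] at h3
      have h4 := AdicCompletion.pow_smul_top_le_ker_eval I k h3
      rw [LinearMap.mem_ker, map_sub, AdicCompletion.eval_of, sub_eq_zero] at h4
      rw [← AdicCompletion.eval_apply, ← h4, hy k]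
    refine ⟨y n, ?_⟩
    have h5 := hL n
    rw [hLx, SModEq.sub_mem] at h5
    have := (I ^ n • ⊤ : Submodule A (AdicCompletion I M)).neg_mem h5
    simpa using this
  · intro H
    -- the kernel of evaluation is `I^n M^`
    have hker : ∀ (n : ℕ) (z : AdicCompletion I M), z.val n = 0 →
        z ∈ (I ^ n • ⊤ : Submodule A (AdicCompletion I M)) := by
      intro n z hz
      obtain ⟨y, hy⟩ := H n z
      have h1 := AdicCompletion.pow_smul_top_le_ker_eval I n hy
      rw [LinearMap.mem_ker, map_sub, AdicCompletion.eval_of, AdicCompletion.eval_apply, hz,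
        zero_sub, neg_eq_zero, ← LinearMap.mem_ker, Submodule.ker_mkQ] at h1
      have h2 := of_mem_smul_top I M n y h1
      have := (I ^ n • ⊤ : Submodule A (AdicCompletion I M)).add_mem hy h2
      simpa using this
    refine { toIsHausdorff := inferInstance, toIsPrecomplete := ⟨fun f hf => ?_⟩ }
    have hcompat : ∀ {m n : ℕ} (hmn : m ≤ n),
        AdicCompletion.transitionMap I M hmn ((f n).val n) = (f m).val m := by
      intro m n hmn
      rw [AdicCompletion.transitionMap_comp_eval_apply I M hmn (f n)]
      have h1 := hf hmn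
      rw [SModEq.sub_mem] at h1
      have h2 := AdicCompletion.pow_smul_top_le_ker_eval I m h1
      rw [LinearMap.mem_ker, map_sub, sub_eq_zero, AdicCompletion.eval_apply,
        AdicCompletion.eval_apply] at h2
      exact h2.symm
    let L : AdicCompletion I M := ⟨fun n => (f n).val n, fun hmn => hcompat hmn⟩
    refine ⟨L, fun n => ?_⟩
    rw [SModEq.sub_mem]
    apply hker
    rw [AdicCompletion.val_sub_apply]
    exact sub_self _

end Groth.Agent.S17537
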