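import Groth.Statements.S17538
import Mathlib

set_option autoImplicit false
universe u v
open CAlg

namespace Groth.Agent.S17538

open AdicCompletion in
/-- the map `M^ / I^n M^ → M / I^n M` induced by evaluation. -/
noncomputable def evalQ {A : Type u} [CommRing A] (I : Ideal A)
    (M : Type v) [AddCommGroup M] [Module A M] (n : ℕ) :
    (AdicCompletion I M ⧸ (I ^ n • ⊤ : Submodule A (AdicCompletion I M))) →ₗ[A]
      M ⧸ (I ^ n • ⊤ : Submodule A M) :=
  Submodule.liftQ _ (AdicCompletion.eval I M n) (AdicCompletion.pow_smul_top_le_ker_eval I n)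

/-- For a commutative ring A, an ideal I and an A-module M, the canonical map from the I-adic completion
M^ to the I-adic completion of M^ admits an A-linear retraction (it is a split injection). (That M^
is I-adically separated is standard.) -/
theorem result {A : Type u} [CommRing A] (I : Ideal A)
    (M : Type v) [AddCommGroup M] [Module A M] :
    ∃ ψ : AdicCompletion I (AdicCompletion I M) →ₗ[A] AdicCompletion I M,
      ψ ∘ₗ AdicCompletion.of I (AdicCompletion I M) = LinearMap.id := by
  let f : ∀ n : ℕ, AdicCompletion I (AdicCompletion I M) →ₗ[A] M ⧸ (I ^ n • ⊤ : Submodule A M) :=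
    fun n => evalQ I M n ∘ₗ AdicCompletion.eval I (AdicCompletion I M) n
  have key : ∀ {m n : ℕ} (hle : m ≤ n),
      AdicCompletion.transitionMap I M hle ∘ₗ evalQ I M n =
        evalQ I M m ∘ₗ AdicCompletion.transitionMap I (AdicCompletion I M) hle := by
    intro m n hle
    apply Submodule.linearMap_qext
    refine LinearMap.ext fun x => ?_
    simp only [evalQ, LinearMap.coe_comp, Function.comp_apply, Submodule.mkQ_apply,
      Submodule.liftQ_apply, Submodule.factorPow, Submodule.factor_mk]
    exact AdicCompletion.transitionMap_comp_eval_apply I M hle x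
  have h : ∀ {m n : ℕ} (hle : m ≤ n), AdicCompletion.transitionMap I M hle ∘ₗ f n = f m := by
    intro m n hle
    simp only [f]
    rw [← LinearMap.comp_assoc, key hle, LinearMap.comp_assoc,
      AdicCompletion.transitionMap_comp_eval]
  refine ⟨AdicCompletion.lift I f h, ?_⟩
  refine LinearMap.ext fun x => ?_
  apply AdicCompletion.ext
  intro n
  simp only [LinearMap.coe_comp, Function.comp_apply, LinearMap.id_coe, id_eq]
  rw [AdicCompletion.eval_lift_apply]
  simp only [f, evalQ, LinearMap.coe_comp, Function.comp_apply, AdicCompletion.eval_of,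
    Submodule.mkQ_apply, Submodule.liftQ_apply, AdicCompletion.eval_apply]
  rw [AdicCompletion.of_apply, Submodule.mkQ_apply, Submodule.liftQ_apply,
    AdicCompletion.eval_apply]

end Groth.Agent.S17538
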