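import Groth.Statements.S17539
import Groth.Agent.S17537

set_option autoImplicit false
universe u v w
open W4c5adicflatcompl
open CAlg

namespace Groth.Agent.S17539

section aux

variable {A : Type u} [CommRing A] (I : Ideal A) (Z : Type v) (M : Type w)
  [AddCommGroup M] [Module A M]

/-- (F1) membership in `I^n • ⊤` of finitely supported functions is coordinatewise -/
lemma finsupp_mem_smul_top_iff (n : ℕ) (ξ : Z →₀ M) :
    ξ ∈ (I ^ n • ⊤ : Submodule A (Z →₀ M)) ↔ ∀ z, ξ z ∈ (I ^ n • ⊤ : Submodule A M) := by
  classical
  constructor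
  · intro h z
    have h1 : (I ^ n • ⊤ : Submodule A (Z →₀ M)).map (Finsupp.lapply (R := A) z) ≤
        (I ^ n • ⊤ : Submodule A M) := by
      rw [Submodule.map_smul'']
      exact Submodule.smul_mono le_rfl le_top
    exact h1 (Submodule.mem_map_of_mem h)
  · intro h
    rw [← Finsupp.sum_single ξ]
    refine Submodule.sum_mem _ fun z _ => ?_
    have h1 : (I ^ n • ⊤ : Submodule A M).map (Finsupp.lsingle (R := A) z) ≤
        (I ^ n • ⊤ : Submodule A (Z →₀ M)) := by
      rw [Submodule.map_smul'']
      exact Submodule.smul_mono le_rfl le_top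
    exact h1 (Submodule.mem_map_of_mem (h z))

variable {I Z M}

/-- (F2') -/
lemma val_eq_zero_of_mem (n : ℕ) (y : AdicCompletion I M)
    (hy : y ∈ (I ^ n • ⊤ : Submodule A (AdicCompletion I M))) : y.val n = 0 := by
  have := AdicCompletion.pow_smul_top_le_ker_eval I n hy
  exact this

/-- (F2) -/
lemma mem_of_val_eq_zero [IsAdicComplete I (AdicCompletion I M)] (n : ℕ)
    (y : AdicCompletion I M) (hy : y.val n = 0) :
    y ∈ (I ^ n • ⊤ : Submodule A (AdicCompletion I M)) := by
  obtain ⟨y0, hy0⟩ := (Groth.Agent.S17537.result I M).mp inferInstance n y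
  have h1 := val_eq_zero_of_mem n _ hy0
  rw [AdicCompletion.val_sub_apply, hy, zero_sub, neg_eq_zero, AdicCompletion.of_apply,
    Submodule.mkQ_apply, Submodule.Quotient.mk_eq_zero] at h1
  have h2 := Groth.Agent.S17537.of_mem_smul_top I M n y0 h1
  have : y = (y - AdicCompletion.of I M y0) + AdicCompletion.of I M y0 := by abel
  rw [this]
  exact Submodule.add_mem _ hy0 h2

lemma map_lapply_val (z : Z) (x : AdicCompletion I (Z →₀ M)) (n : ℕ) (ξ : Z →₀ M)
    (hξ : x.val n = Submodule.Quotient.mk ξ) :
    (AdicCompletion.map I (Finsupp.lapply (M := M) (R := A) z) x).val n =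
      Submodule.Quotient.mk (ξ z) := by
  rw [AdicCompletion.map_val_apply, hξ]
  rfl

end aux

theorem result {A : Type u} [CommRing A] (I : Ideal A) (Z : Type v)
    (M : Type w) [AddCommGroup M] [Module A M] [IsAdicComplete I (AdicCompletion I M)] :
    Function.Injective
        (LinearMap.pi fun z : Z =>
          (AdicCompletion.map I (Finsupp.lapply (M := M) (R := A) z)).restrictScalars A) ∧
      LinearMap.range
        (LinearMap.pi fun z : Z =>
          (AdicCompletion.map I (Finsupp.lapply (M := M) (R := A) z)).restrictScalars A) =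
        decaying I Z (AdicCompletion I M) := by
  classical
  constructor
  · rw [← LinearMap.ker_eq_bot, Submodule.eq_bot_iff]
    intro x hx
    rw [LinearMap.mem_ker] at hx
    apply AdicCompletion.ext
    intro n
    obtain ⟨ξ, hξ⟩ := Submodule.Quotient.mk_surjective _ (x.val n)
    rw [AdicCompletion.val_zero_apply, ← hξ, Submodule.Quotient.mk_eq_zero,
      finsupp_mem_smul_top_iff]
    intro z
    have h1 : (AdicCompletion.map I (Finsupp.lapply (M := M) (R := A) z) x) = 0 :=
      congrFun hx z
    have h2 := map_lapply_val z x n ξ hξ.symm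
    rw [h1, AdicCompletion.val_zero_apply] at h2
    exact (Submodule.Quotient.mk_eq_zero _).mp h2.symm
  · apply le_antisymm
    · rintro _ ⟨x, rfl⟩
      intro n
      obtain ⟨ξ, hξ⟩ := Submodule.Quotient.mk_surjective _ (x.val n)
      refine ξ.support.finite_toSet.subset ?_
      intro z hz
      by_contra hcon
      apply hz
      apply mem_of_val_eq_zero
      have h2 := map_lapply_val z x n ξ hξ.symm
      show (AdicCompletion.map I (Finsupp.lapply (M := M) (R := A) z) x).val n = 0
      rw [h2, Finsupp.notMem_support_iff.mp hcon]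
      rfl
    · intro h hh
      -- lifts
      have hl : ∀ (n : ℕ) (z : Z), ∃ l : M,
          Submodule.Quotient.mk (p := (I ^ n • ⊤ : Submodule A M)) l = (h z).val n :=
        fun n z => Submodule.Quotient.mk_surjective _ _
      choose ℓ hℓ using hl
      let T : ℕ → Finset Z := fun n => (hh n).toFinset
      have hT : ∀ n z, z ∉ T n → h z ∈ (I ^ n • ⊤ : Submodule A (AdicCompletion I M)) := by
        intro n z hz
        by_contra hcon
        exact hz ((Set.Finite.mem_toFinset _).mpr hcon)
      let ξ : ℕ → (Z →₀ M) := fun n =>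
        Finsupp.onFinset (T n) (fun z => if z ∈ T n then ℓ n z else 0) (by
          intro z hz
          by_contra hcon
          exact hz (if_neg hcon))
      have hξ : ∀ n z, ξ n z = if z ∈ T n then ℓ n z else 0 := fun n z => rfl
      -- (★)
      have hstar : ∀ {m n : ℕ} (hmn : m ≤ n) (z : Z),
          Submodule.Quotient.mk (p := (I ^ m • ⊤ : Submodule A M)) (ξ n z) = (h z).val m := by
        intro m n hmn z
        rw [hξ]
        split_ifs with hz
        · have h1 := (h z).property hmn
          rw [← hℓ n z] at h1
          rw [← h1]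
          rfl
        · have h1 := hT n z hz
          have h2 : h z ∈ (I ^ m • ⊤ : Submodule A (AdicCompletion I M)) :=
            Submodule.smul_mono_left (Ideal.pow_le_pow_right hmn) h1
          rw [val_eq_zero_of_mem m _ h2]
          rfl
      let x : AdicCompletion I (Z →₀ M) :=
        ⟨fun n => Submodule.Quotient.mk (ξ n), by
          intro m n hmn
          show Submodule.Quotient.mk (ξ n) = Submodule.Quotient.mk (ξ m)
          rw [Submodule.Quotient.eq, finsupp_mem_smul_top_iff]
          intro z
          rw [Finsupp.sub_apply, ← Submodule.Quotient.eq, hstar hmn z, hstar le_rfl z]⟩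
      refine ⟨x, ?_⟩
      funext z
      apply AdicCompletion.ext
      intro n
      have h2 := map_lapply_val z x n (ξ n) rfl
      show (AdicCompletion.map I (Finsupp.lapply (M := M) (R := A) z) x).val n = (h z).val n
      rw [h2, hstar le_rfl z]

end Groth.Agent.S17539
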