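import Groth.Statements.S17540
import Mathlib

set_option autoImplicit false
universe u v w
open W4c5adicflatcompl
open CAlg

namespace Groth.Agent.S17540

/-- Let A be I-adically complete, M an I-adically complete A-module and m : Z → M a family. The images
of the m z generate M/IM (the span of the family together with IM is all of M) if and only if the
family I-adically generates M: every x in M is the I-adically convergent sum of g z • m z for some
I-adically decaying function g : Z → A. -/
theorem result {A : Type u} [CommRing A] (I : Ideal A) [IsAdicComplete I A]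
    (M : Type v) [AddCommGroup M] [Module A M] [IsAdicComplete I M] (Z : Type w) (m : Z → M) :
    Submodule.span A (Set.range m) ⊔ I • ⊤ = ⊤ ↔
      ∀ x : M, ∃ g : Z → A, g ∈ decaying I Z A ∧
        ∀ n : ℕ, ∃ S : Finset Z,
          (∀ z, z ∉ S → g z • m z ∈ (I ^ n • ⊤ : Submodule A M)) ∧
          x - (∑ z ∈ S, g z • m z) ∈ (I ^ n • ⊤ : Submodule A M) := by
  classical
  have htop : ∀ k : ℕ, (I ^ k • ⊤ : Submodule A A) = I ^ k := fun k => by
    rw [smul_eq_mul, Ideal.mul_top]
  constructor
  · intro h x
    have hstep : ∀ (k : ℕ) (y : M), y ∈ (I ^ k • ⊤ : Submodule A M) →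
        ∃ a : Z →₀ A, (∀ z, a z ∈ I ^ k) ∧
          y - (a.sum fun z c => c • m z) ∈ (I ^ (k + 1) • ⊤ : Submodule A M) := by
      intro k y hy
      have hdec : (I ^ k • ⊤ : Submodule A M) =
          I ^ k • Submodule.span A (Set.range m) ⊔ I ^ (k + 1) • ⊤ := by
        calc (I ^ k • ⊤ : Submodule A M)
            = I ^ k • (Submodule.span A (Set.range m) ⊔ I • ⊤) := by rw [h]
          _ = I ^ k • Submodule.span A (Set.range m) ⊔ I ^ k • (I • ⊤) := Submodule.smul_sup _ _ _
          _ = I ^ k • Submodule.span A (Set.range m) ⊔ I ^ (k + 1) • ⊤ := by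
              rw [← mul_smul, ← pow_succ]
      rw [hdec, Submodule.mem_sup] at hy
      obtain ⟨y1, hy1, y2, hy2, rfl⟩ := hy
      obtain ⟨a, ha, rfl⟩ := (Submodule.mem_ideal_smul_span_iff_exists_sum _ _ _).mp hy1
      refine ⟨a, ha, ?_⟩
      simpa using hy2
    choose a ha1 ha2 using hstep
    let r : ∀ k : ℕ, {y : M // y ∈ (I ^ k • ⊤ : Submodule A M)} := fun k =>
      Nat.rec (motive := fun k => {y : M // y ∈ (I ^ k • ⊤ : Submodule A M)})
        ⟨x, by simp⟩
        (fun k rk => ⟨rk.1 - ((a k rk.1 rk.2).sum fun z c => c • m z), ha2 k rk.1 rk.2⟩) k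
    let b : ℕ → (Z →₀ A) := fun k => a k (r k).1 (r k).2
    have hb : ∀ k z, b k z ∈ I ^ k := fun k z => ha1 k _ _ z
    have hr0 : (r 0).1 = x := rfl
    have hrs : ∀ k, (r (k + 1)).1 = (r k).1 - ((b k).sum fun z c => c • m z) := fun k => rfl
    have hxr : ∀ n, x - ∑ k ∈ Finset.range n, ((b k).sum fun z c => c • m z) = (r n).1 := by
      intro n
      induction n with
      | zero => simp [hr0]
      | succ n ih => rw [Finset.sum_range_succ, ← sub_sub, ih, hrs]
    let T : ℕ → Finset Z := fun n => (Finset.range n).biUnion fun k => (b k).support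
    let s : ℕ → Z → A := fun n z => ∑ k ∈ Finset.range n, b k z
    have hcauchy : ∀ z, ∀ {i j : ℕ}, i ≤ j → s i z ≡ s j z [SMOD (I ^ i • ⊤ : Submodule A A)] := by
      intro z i j hij
      rw [SModEq.sub_mem, htop]
      have : s i z - s j z = -∑ k ∈ Finset.Ico i j, b k z := by
        simp only [s]
        rw [← Finset.sum_range_add_sum_Ico _ hij]
        ring
      rw [this]
      refine (I ^ i).neg_mem (Ideal.sum_mem _ fun k hk => ?_)
      exact Ideal.pow_le_pow_right (Finset.mem_Ico.mp hk).1 (hb k z)
    have hlim : ∀ z, ∃ L : A, ∀ n, s n z ≡ L [SMOD (I ^ n • ⊤ : Submodule A A)] := fun z =>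
      IsPrecomplete.prec (I := I) inferInstance (hcauchy z)
    choose g hg using hlim
    have hgs : ∀ n z, g z - s n z ∈ I ^ n := by
      intro n z
      have := hg z n
      rw [SModEq.sub_mem, htop] at this
      have h2 := (I ^ n).neg_mem this
      simpa using h2
    have hsT : ∀ n z, z ∉ T n → s n z = 0 := by
      intro n z hz
      apply Finset.sum_eq_zero
      intro k hk
      by_contra hne
      apply hz
      exact Finset.mem_biUnion.mpr ⟨k, hk, Finsupp.mem_support_iff.mpr hne⟩
    have hgT : ∀ n z, z ∉ T n → g z ∈ I ^ n := by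
      intro n z hz
      have := hgs n z
      rwa [hsT n z hz, sub_zero] at this
    refine ⟨g, ?_, ?_⟩
    · intro n
      refine (T n).finite_toSet.subset ?_
      intro z hz
      by_contra hcon
      apply hz
      rw [htop]
      exact hgT n z hcon
    · intro n
      refine ⟨T n, fun z hz => Submodule.smul_mem_smul (hgT n z hz) Submodule.mem_top, ?_⟩
      have hsum : ∑ z ∈ T n, s n z • m z
          = ∑ k ∈ Finset.range n, ((b k).sum fun z c => c • m z) := by
        simp only [s, Finset.sum_smul]
        rw [Finset.sum_comm]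
        refine Finset.sum_congr rfl fun k hk => ?_
        rw [Finsupp.sum_of_support_subset (b k) (s := T n)]
        · intro z hz
          exact Finset.mem_biUnion.mpr ⟨k, hk, hz⟩
        · intro z _
          exact zero_smul _ _
      have hsplit : x - ∑ z ∈ T n, g z • m z =
          (x - ∑ z ∈ T n, s n z • m z) - ∑ z ∈ T n, (g z - s n z) • m z := by
        simp only [sub_smul, Finset.sum_sub_distrib]
        abel
      rw [hsplit, hsum, hxr]
      refine Submodule.sub_mem _ (r n).2 (Submodule.sum_mem _ fun z _ => ?_)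
      exact Submodule.smul_mem_smul (hgs n z) Submodule.mem_top
  · intro h
    rw [eq_top_iff]
    intro x _
    obtain ⟨g, _, hg⟩ := h x
    obtain ⟨S, _, hS⟩ := hg 1
    rw [pow_one] at hS
    have : x = ∑ z ∈ S, g z • m z + (x - ∑ z ∈ S, g z • m z) := by abel
    rw [this]
    refine Submodule.add_mem _ (Submodule.mem_sup_left ?_) (Submodule.mem_sup_right hS)
    exact Submodule.sum_mem _ fun z _ => Submodule.smul_mem _ _ (Submodule.subset_span ⟨z, rfl⟩)

end Groth.Agent.S17540
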