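import Groth.Statements.S17542
import Mathlib

set_option autoImplicit false
universe u v w
open W4c5adicflatcompl
open CAlg

namespace Groth.Agent.S17542

/-- Over a Noetherian ring A which is I-adically complete, for a surjection φ : M → M'' of A-modules
with M finitely generated and a set Z, every I-adically decaying function Z → M'' is the composite
of φ with an I-adically decaying function Z → M. (This is the right exactness of the
decaying-functions functor on finitely generated modules; left exactness is the statement about
submodules.) -/
theorem result {A : Type u} [CommRing A] [IsNoetherianRing A] (I : Ideal A)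
    [IsAdicComplete I A] (Z : Type v) {M : Type w} {M'' : Type w} [AddCommGroup M] [Module A M]
    [Module.Finite A M] [AddCommGroup M''] [Module A M''] (φ : M →ₗ[A] M'')
    (hφ : Function.Surjective φ) (g : Z → M'') (hg : g ∈ decaying I Z M'') :
    ∃ f : Z → M, f ∈ decaying I Z M ∧ ∀ z, φ (f z) = g z := by
  classical
  haveI : Module.Finite A M'' := Module.Finite.of_surjective φ hφ
  have hkrull : (⨅ i : ℕ, I ^ i • ⊤ : Submodule A M'') = ⊥ :=
    Ideal.iInf_pow_smul_eq_bot_of_le_jacobson I (IsAdicComplete.le_jacobson_bot I)
  have hmap : ∀ n : ℕ, (I ^ n • ⊤ : Submodule A M).map φ = (I ^ n • ⊤ : Submodule A M'') := by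
    intro n
    rw [Submodule.map_smul'', Submodule.map_top, LinearMap.range_eq_top.mpr hφ]
  have hanti : ∀ {m n : ℕ}, m ≤ n → (I ^ n • ⊤ : Submodule A M'') ≤ I ^ m • ⊤ := fun h =>
    Submodule.smul_mono_left (Ideal.pow_le_pow_right h)
  have hanti' : ∀ {m n : ℕ}, m ≤ n → (I ^ n • ⊤ : Submodule A M) ≤ I ^ m • ⊤ := fun h =>
    Submodule.smul_mono_left (Ideal.pow_le_pow_right h)
  have hpt : ∀ z, ∃ x : M, φ x = g z ∧
      ∀ n, g z ∈ (I ^ n • ⊤ : Submodule A M'') → x ∈ (I ^ n • ⊤ : Submodule A M) := by
    intro z
    by_cases h0 : g z = 0
    · exact ⟨0, by simp [h0], fun n _ => Submodule.zero_mem _⟩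
    · have hex : ∃ k, g z ∉ (I ^ k • ⊤ : Submodule A M'') := by
        by_contra hcon
        push Not at hcon
        apply h0
        have : g z ∈ (⨅ i : ℕ, I ^ i • ⊤ : Submodule A M'') := by
          rw [Submodule.mem_iInf]
          exact hcon
        rw [hkrull] at this
        exact this
      have hk0 := Nat.find_spec hex
      have hkpos : 0 < Nat.find hex := by
        rcases Nat.eq_zero_or_pos (Nat.find hex) with h | h
        · exfalso
          rw [h, pow_zero, Ideal.one_eq_top, Submodule.top_smul] at hk0
          exact hk0 Submodule.mem_top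
        · exact h
      have hmem : g z ∈ (I ^ (Nat.find hex - 1) • ⊤ : Submodule A M'') := by
        have := Nat.find_min hex (m := Nat.find hex - 1) (by omega)
        push Not at this
        exact this
      rw [← hmap] at hmem
      obtain ⟨x, hx, hxz⟩ := hmem
      refine ⟨x, hxz, fun n hn => ?_⟩
      have hlt : n < Nat.find hex := by
        by_contra hge
        push Not at hge
        exact hk0 (hanti hge hn)
      exact hanti' (by omega) hx
  choose f hf hfdec using hpt
  refine ⟨f, fun n => ?_, hf⟩
  refine (hg n).subset ?_
  intro z hz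
  by_contra hcon
  simp only [Set.mem_ofPred_eq, not_not] at hcon
  exact hz (hfdec z n hcon)

end Groth.Agent.S17542
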