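import Groth.Statements.S17549
import Groth.Agent.H3.DecayingLift

set_option autoImplicit false
universe u
open W4c5adicflatcompl
open CAlg

namespace Groth.Agent.S17549

/-- Over a Noetherian ring A with I-adic completion Â, an A-module P is I-adically projective
(I-adically complete, and every A-linear map from P to the target of a surjection between I-adically
complete modules lifts along that surjection) exactly when P is a retract of some module of
I-adically decaying functions Z → Â: there are a set Z, an A-linear map i from P to the decaying
functions Z → Â and an A-linear map r back with r ∘ i the identity of P. Test modules, P and Z live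
in the universe of A. -/
theorem result {A : Type u} [CommRing A] [IsNoetherianRing A]
    (I : Ideal A) (P : Type u) [AddCommGroup P] [Module A P] :
    IsAdicProjective I P ↔
      ∃ (Z : Type u) (i : P →ₗ[A] decaying I Z (AdicCompletion I A))
        (r : decaying I Z (AdicCompletion I A) →ₗ[A] P), r ∘ₗ i = LinearMap.id := by
  classical
  have hI : I.FG := IsNoetherian.noetherian I
  haveI hAc : IsAdicComplete I (AdicCompletion I A) :=
    AdicCompletion.isAdicComplete (I := I) (M := A) hI
  have hF : ∀ Z : Type u, IsAdicComplete I (decaying I Z (AdicCompletion I A)) := fun Z =>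
    Groth.Agent.H3.Decaying.isAdicComplete_decaying hI
  have hmapmem : ∀ {X Y : Type u} [AddCommGroup X] [Module A X] [AddCommGroup Y] [Module A Y]
      (l : X →ₗ[A] Y) (n : ℕ) (x : X), x ∈ (I ^ n • ⊤ : Submodule A X) →
      l x ∈ (I ^ n • ⊤ : Submodule A Y) := by
    intro X Y _ _ _ _ l n x hx
    have h1 : (I ^ n • ⊤ : Submodule A X).map l ≤ (I ^ n • ⊤ : Submodule A Y) := by
      rw [Submodule.map_smul'']
      exact Submodule.smul_mono le_rfl le_top
    exact h1 (Submodule.mem_map_of_mem hx)
  constructor
  · rintro ⟨hc, hlift⟩
    haveI := hc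
    haveI := hF P
    let π : decaying I P (AdicCompletion I A) →ₗ[A] P :=
      Groth.Agent.H3.DecayingLift.lift I (fun p : P => p)
    have hπ : Function.Surjective π := fun p =>
      ⟨single I p 1, Groth.Agent.H3.DecayingLift.lift_single I (fun p : P => p) p⟩
    obtain ⟨χ, hχ⟩ := hlift (decaying I P (AdicCompletion I A)) P (hF P) hc π hπ LinearMap.id
    exact ⟨P, χ, π, hχ⟩
  · rintro ⟨Z, i, r, hri⟩
    have hri' : ∀ x, r (i x) = x := fun x => by
      have := congrArg (fun l : P →ₗ[A] P => l x) hri
      simpa using this
    haveI := hF Z
    have hPc : IsAdicComplete I P := by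
      refine { toIsHausdorff := ⟨fun x hx => ?_⟩, toIsPrecomplete := ⟨fun xs hxs => ?_⟩ }
      · have : i x = 0 := by
          apply IsHausdorff.haus (I := I) inferInstance
          intro n
          have := hx n
          rw [SModEq.zero] at this ⊢
          exact hmapmem i n x this
        rw [← hri' x, this, map_zero]
      · have hcau : ∀ {m n : ℕ}, m ≤ n → i (xs m) ≡ i (xs n)
            [SMOD (I ^ m • ⊤ : Submodule A (decaying I Z (AdicCompletion I A)))] := by
          intro m n hmn
          have := hxs hmn
          rw [SModEq.sub_mem] at this ⊢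
          rw [← map_sub]
          exact hmapmem i m _ this
        obtain ⟨L, hL⟩ := IsPrecomplete.prec (I := I) inferInstance hcau
        refine ⟨r L, fun n => ?_⟩
        have := hL n
        rw [SModEq.sub_mem] at this ⊢
        have h2 := hmapmem r n _ this
        rwa [map_sub, hri'] at h2
    refine ⟨hPc, ?_⟩
    intro M N _ _ _ _ hM hN φ hφ ψ
    haveI := hM
    haveI := hN
    choose m hm using fun z : Z => hφ (ψ (r (single I z (1 : AdicCompletion I A))))
    let χ₀ : decaying I Z (AdicCompletion I A) →ₗ[A] M := Groth.Agent.H3.DecayingLift.lift I m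
    have hχ₀ : φ ∘ₗ χ₀ = ψ ∘ₗ r := by
      rw [← sub_eq_zero]
      apply Groth.Agent.H3.DecayingLift.eq_zero_of_single I hI
      intro z
      rw [LinearMap.sub_apply, LinearMap.comp_apply, LinearMap.comp_apply,
        Groth.Agent.H3.DecayingLift.lift_single, hm, sub_self]
    refine ⟨χ₀ ∘ₗ i, ?_⟩
    rw [← LinearMap.comp_assoc, hχ₀, LinearMap.comp_assoc, hri, LinearMap.comp_id]

end Groth.Agent.S17549
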