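import Groth.Statements.S1757
import Mathlib

set_option autoImplicit false
universe u
open LocCoh

namespace Groth.Agent.S1757

section Helpers

variable {A : Type u} [CommRing A] {r : ℕ}

theorem span_le_update (f : Fin r → A) (k : Fin r) (u v : A) (hk : f k = u * v) :
    Ideal.span (Set.range f) ≤ Ideal.span (Set.range (Function.update f k u)) := by
  rw [Ideal.span_le]
  rintro _ ⟨i, rfl⟩
  by_cases hik : i = k
  · rw [hik, SetLike.mem_coe, hk]
    exact Ideal.mul_mem_right _ _ (Ideal.subset_span ⟨k, Function.update_self k u f⟩)
  · exact Ideal.subset_span ⟨i, Function.update_of_ne hik u f⟩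

theorem sum_update_split (f : Fin r → A) (k : Fin r) (u : A) (a : Fin r → A) :
    ∑ j, a j * Function.update f k u j
      = ∑ j, (if j = k then 0 else a j) * f j + u * a k := by
  have : ∀ j, a j * Function.update f k u j
      = (if j = k then 0 else a j) * f j + (if j = k then u * a k else 0) := by
    intro j
    by_cases hjk : j = k
    · rw [hjk, if_pos rfl, if_pos rfl, Function.update_self]; ring
    · rw [if_neg hjk, if_neg hjk, Function.update_of_ne hjk]; ring
  simp_rw [this]
  rw [Finset.sum_add_distrib]
  simp only [Finset.sum_ite_eq', Finset.mem_univ, if_true]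

theorem indep_update (f : Fin r → A) (hf : Dual2.Independent f) (k : Fin r) (u v : A)
    (hk : f k = u * v) : Dual2.Independent (Function.update f k u) := by
  intro a ha i
  have hle := span_le_update f k u v hk
  have hu : u ∈ Ideal.span (Set.range (Function.update f k u)) :=
    Ideal.subset_span ⟨k, Function.update_self k u f⟩
  have h1 : ∑ j, (a j * (if j = k then 1 else v)) * f j = 0 := by
    have : ∑ j, (a j * (if j = k then 1 else v)) * f j
        = v * ∑ j, a j * Function.update f k u j := by
      rw [Finset.mul_sum]
      refine Finset.sum_congr rfl (fun j _ => ?_)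
      by_cases hjk : j = k
      · rw [hjk, if_pos rfl, Function.update_self, hk]; ring
      · rw [if_neg hjk, Function.update_of_ne hjk]; ring
    rw [this, ha, mul_zero]
  have h2 : a k ∈ Ideal.span (Set.range f) := by
    have := hf _ h1 k
    rwa [if_pos rfl, mul_one] at this
  obtain ⟨c, hc⟩ := Ideal.mem_span_range_iff_exists_fun.mp h2
  have h3 : ∑ j, ((if j = k then 0 else a j) + c j * u) * f j = 0 := by
    have e1 : ∑ j, ((if j = k then 0 else a j) + c j * u) * f j
        = ∑ j, (if j = k then 0 else a j) * f j + u * ∑ j, c j * f j := by
      rw [Finset.mul_sum, ← Finset.sum_add_distrib]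
      refine Finset.sum_congr rfl (fun j _ => ?_)
      ring
    rw [e1, hc, ← sum_update_split, ha]
  have h4 := hf _ h3 i
  by_cases hik : i = k
  · rw [hik]; exact hle h2
  · rw [if_neg hik] at h4
    have : a i = (a i + c i * u) - c i * u := by ring
    rw [this]
    exact Ideal.sub_mem _ (hle h4) (Ideal.mul_mem_left _ _ hu)

theorem length_split (f : Fin r → A) (hf : Dual2.Independent f) (k : Fin r) (u v : A)
    (hk : f k = u * v) :
    Module.length A (A ⧸ Ideal.span (Set.range f)) =
      Module.length A (A ⧸ Ideal.span (Set.range (Function.update f k v))) +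
      Module.length A (A ⧸ Ideal.span (Set.range (Function.update f k u))) := by
  have hk' : f k = v * u := by rw [hk, mul_comm]
  have hleu := span_le_update f k u v hk
  have hlev := span_le_update f k v u hk'
  have huu : u ∈ Ideal.span (Set.range (Function.update f k u)) :=
    Ideal.subset_span ⟨k, Function.update_self k u f⟩
  have hvv : v ∈ Ideal.span (Set.range (Function.update f k v)) :=
    Ideal.subset_span ⟨k, Function.update_self k v f⟩
  have hcomap : Ideal.span (Set.range (Function.update f k v)) ≤
      Submodule.comap (LinearMap.lsmul A A u) (Ideal.span (Set.range f)) := by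
    rw [Ideal.span_le]
    rintro _ ⟨i, rfl⟩
    show u • Function.update f k v i ∈ Ideal.span (Set.range f)
    by_cases hik : i = k
    · rw [hik, Function.update_self, smul_eq_mul, ← hk]; exact Ideal.subset_span ⟨k, rfl⟩
    · rw [Function.update_of_ne hik, smul_eq_mul]
      exact Ideal.mul_mem_left _ _ (Ideal.subset_span ⟨i, rfl⟩)
  refine Module.length_eq_add_of_exact
    (Submodule.mapQ _ _ (LinearMap.lsmul A A u) hcomap) (Submodule.factor hleu) ?_ ?_ ?_
  · rw [injective_iff_map_eq_zero]
    intro y hy
    obtain ⟨a, rfl⟩ := Submodule.Quotient.mk_surjective _ y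
    rw [Submodule.mapQ_apply, Submodule.Quotient.mk_eq_zero] at hy
    rw [Submodule.Quotient.mk_eq_zero]
    have hy' : u * a ∈ Ideal.span (Set.range f) := hy
    obtain ⟨c, hc⟩ := Ideal.mem_span_range_iff_exists_fun.mp hy'
    have h1 : ∑ j, (v * c j - (if j = k then a else 0)) * f j = 0 := by
      have e : ∑ j, (v * c j - (if j = k then a else 0)) * f j
          = v * ∑ j, c j * f j - ∑ j, (if j = k then a * f k else 0) := by
        rw [Finset.mul_sum, ← Finset.sum_sub_distrib]
        refine Finset.sum_congr rfl (fun j _ => ?_)
        by_cases hjk : j = k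
        · rw [hjk, if_pos rfl, if_pos rfl]; ring
        · rw [if_neg hjk, if_neg hjk]; ring
      rw [e, hc, hk]
      simp only [Finset.sum_ite_eq', Finset.mem_univ, if_true]
      ring
    have h2 := hf _ h1 k
    rw [if_pos rfl] at h2
    have : a = v * c k - (v * c k - a) := by ring
    rw [this]
    exact Ideal.sub_mem _ (Ideal.mul_mem_right _ _ hvv) (hlev h2)
  · exact Submodule.factor_surjective hleu
  · intro y
    obtain ⟨b, rfl⟩ := Submodule.Quotient.mk_surjective _ y
    have hfac : Submodule.factor hleu (Submodule.Quotient.mk b)
        = Submodule.Quotient.mk b := rfl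
    rw [hfac, Submodule.Quotient.mk_eq_zero]
    constructor
    · intro hb
      obtain ⟨c, hc⟩ := Ideal.mem_span_range_iff_exists_fun.mp hb
      refine ⟨Submodule.Quotient.mk (c k), ?_⟩
      rw [Submodule.mapQ_apply, ← sub_eq_zero, ← Submodule.Quotient.mk_sub,
        Submodule.Quotient.mk_eq_zero]
      show u * c k - b ∈ Ideal.span (Set.range f)
      have : u * c k - b = -∑ j, (if j = k then 0 else c j) * f j := by
        rw [← hc, sum_update_split]; ring
      rw [this]
      exact (Ideal.neg_mem_iff _).mpr (Ideal.sum_mem _ fun j _ =>
        Ideal.mul_mem_left _ _ (Ideal.subset_span ⟨j, rfl⟩))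
    · rintro ⟨z, hz⟩
      obtain ⟨a, rfl⟩ := Submodule.Quotient.mk_surjective _ z
      rw [Submodule.mapQ_apply, Submodule.Quotient.eq] at hz
      have h1 : u * a - b ∈ Ideal.span (Set.range f) := hz
      have : b = u * a - (u * a - b) := by ring
      rw [this]
      exact Ideal.sub_mem _ (Ideal.mul_mem_right _ _ huu) (hleu h1)

theorem main_aux (A : Type u) [CommRing A] [IsLocalRing A] (r : ℕ) (x : Fin r → A)
    (hx : Ideal.span (Set.range x) = IsLocalRing.maximalIdeal A) :
    ∀ (s : ℕ) (e : Fin r → ℕ), (∀ i, 0 < e i) → ∑ i, e i = s →
      Dual2.Independent (fun i => x i ^ e i) →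
      Module.length A (A ⧸ Ideal.span (Set.range (fun i => x i ^ e i)))
        = ((∏ i, e i : ℕ) : ℕ∞) := by
  intro s
  induction s using Nat.strong_induction_on with
  | _ s ih =>
    intro e he hs hind
    by_cases hall : ∀ i, e i = 1
    · have h1 : (fun i => x i ^ e i) = x := by funext i; rw [hall i, pow_one]
      have h2 : ∏ i, e i = 1 := Finset.prod_eq_one (fun i _ => hall i)
      rw [h1, hx, h2, Nat.cast_one, Module.length_eq_one_iff]
      exact isSimpleModule_iff_isCoatom.mpr (Ideal.isMaximal_def.mp inferInstance)
    · push_neg at hall
      obtain ⟨k, hk⟩ := hall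
      have hk2 : 2 ≤ e k := by have := he k; omega
      have hfu : Function.update (fun i => x i ^ e i) k (x k)
          = fun i => x i ^ (Function.update e k 1 i) := by
        funext i
        by_cases hik : i = k
        · rw [hik, Function.update_self, Function.update_self, pow_one]
        · rw [Function.update_of_ne hik, Function.update_of_ne hik]
      have hfv : Function.update (fun i => x i ^ e i) k (x k ^ (e k - 1))
          = fun i => x i ^ (Function.update e k (e k - 1) i) := by
        funext i
        by_cases hik : i = k
        · rw [hik, Function.update_self, Function.update_self]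
        · rw [Function.update_of_ne hik, Function.update_of_ne hik]
      have hkf : (fun i => x i ^ e i) k = x k * x k ^ (e k - 1) := by
        show x k ^ e k = x k * x k ^ (e k - 1)
        rw [← pow_succ']
        congr 1
        omega
      have hsplit := length_split _ hind k (x k) (x k ^ (e k - 1)) hkf
      rw [hfu, hfv] at hsplit
      have hiu := indep_update _ hind k (x k) (x k ^ (e k - 1)) hkf
      rw [hfu] at hiu
      have hiv := indep_update _ hind k (x k ^ (e k - 1)) (x k) (hkf.trans (mul_comm _ _))
      rw [hfv] at hiv
      have hpos1 : ∀ i, 0 < Function.update e k 1 i := by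
        intro i
        by_cases hik : i = k
        · rw [hik, Function.update_self]; exact Nat.one_pos
        · rw [Function.update_of_ne hik]; exact he i
      have hpos2 : ∀ i, 0 < Function.update e k (e k - 1) i := by
        intro i
        by_cases hik : i = k
        · rw [hik, Function.update_self]; omega
        · rw [Function.update_of_ne hik]; exact he i
      have hlt1 : ∑ i, Function.update e k 1 i < s := by
        rw [← hs]
        refine Finset.sum_lt_sum (fun i _ => ?_) ⟨k, Finset.mem_univ _, ?_⟩
        · by_cases hik : i = k
          · rw [hik, Function.update_self]; omega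
          · rw [Function.update_of_ne hik]
        · rw [Function.update_self]; omega
      have hlt2 : ∑ i, Function.update e k (e k - 1) i < s := by
        rw [← hs]
        refine Finset.sum_lt_sum (fun i _ => ?_) ⟨k, Finset.mem_univ _, ?_⟩
        · by_cases hik : i = k
          · rw [hik, Function.update_self]; omega
          · rw [Function.update_of_ne hik]
        · rw [Function.update_self]; omega
      have ih1 := ih _ hlt1 (Function.update e k 1) hpos1 rfl hiu
      have ih2 := ih _ hlt2 (Function.update e k (e k - 1)) hpos2 rfl hiv
      have hprod : ∏ i, e i = ∏ i, Function.update e k (e k - 1) i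
          + ∏ i, Function.update e k 1 i := by
        rw [Finset.prod_update_of_mem (Finset.mem_univ k), Finset.prod_update_of_mem (Finset.mem_univ k)]
        have : ∏ i, e i = e k * ∏ i ∈ Finset.univ \ {k}, e i := by
          conv_lhs => rw [← Function.update_eq_self k e]
          rw [Finset.prod_update_of_mem (Finset.mem_univ k)]
        rw [this]
        obtain ⟨t, ht⟩ : ∃ t, e k = t + 1 := ⟨e k - 1, by omega⟩
        rw [ht, Nat.add_sub_cancel]
        ring
      rw [hsplit, ih2, ih1, ← Nat.cast_add, hprod]

end Helpers


/-- Let A be a local ring whose maximal ideal is generated by x_1, …, x_r, and let e_1, …, e_r be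
positive integers such that x_1^{e_1}, …, x_r^{e_r} are independent. Then the length of
A/(x_1^{e_1}, …, x_r^{e_r}) equals the product e_1 ⋯ e_r. -/
theorem result (A : Type u) [CommRing A] [IsLocalRing A] (r : ℕ) (x : Fin r → A) (hx : Ideal.span (Set.range x) = IsLocalRing.maximalIdeal A) (e : Fin r → ℕ) (he : ∀ i, 0 < e i) (hind : Dual2.Independent (fun i => x i ^ e i)) : Module.length A (A ⧸ Ideal.span (Set.range (fun i => x i ^ e i))) = ∏ i, (e i : ℕ∞) := by
  rw [main_aux A r x hx (∑ i, e i) e he rfl hind, Nat.cast_prod]

end Groth.Agent.S1757
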