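import Groth.Statements.S17592
import Mathlib
import Groth.Agent.Lib.Helper26.HensPair

set_option linter.style.haveILetI false

set_option autoImplicit false
universe u
open Hensel

namespace Groth.Agent.S17592

section Aux

open TensorProduct

/-- Two `R`-algebra maps from an unramified algebra (essentially of finite type) to `C` which
agree modulo an ideal contained in the Jacobson radical are equal. -/
theorem unram_unique {R S C : Type u} [CommRing R] [CommRing S] [CommRing C] [Algebra R S]
    [Algebra R C] [Algebra.FormallyUnramified R S] [Algebra.EssFiniteType R S] (J : Ideal C)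
    (hJ : J ≤ Ideal.jacobson ⊥) (h₁ h₂ : S →ₐ[R] C)
    (hmod : ∀ s, Ideal.Quotient.mk J (h₁ s) = Ideal.Quotient.mk J (h₂ s)) : h₁ = h₂ := by
  obtain ⟨t, ht1, ht2⟩ :=
    (Algebra.FormallyUnramified.iff_exists_tensorProduct (R := R) (S := S)).mp inferInstance
  let φ : S ⊗[R] S →ₐ[R] C := Algebra.TensorProduct.lift h₁ h₂ (fun _ _ => Commute.all _ _)
  have hφ : ∀ a b, φ (a ⊗ₜ b) = h₁ a * h₂ b :=
    fun a b => Algebra.TensorProduct.lift_tmul _ _ _ a b
  have hψ : (Ideal.Quotient.mkₐ R J).comp φ =
      ((Ideal.Quotient.mkₐ R J).comp h₁).comp (Algebra.TensorProduct.lmul' R) := by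
    apply Algebra.TensorProduct.ext'
    intro a b
    simp only [AlgHom.comp_apply, hφ, Algebra.TensorProduct.lmul'_apply_tmul, map_mul,
      Ideal.Quotient.mkₐ_eq_mk]
    rw [hmod b]
  have ht' : Ideal.Quotient.mk J (φ t) = 1 := by
    have := AlgHom.congr_fun hψ t
    simp only [AlgHom.comp_apply, Ideal.Quotient.mkₐ_eq_mk] at this
    rw [this]
    have h1 : (Algebra.TensorProduct.lmul' R) t = (1 : S) := ht2
    rw [h1, map_one, map_one]
  have hunit : IsUnit (φ t) := by
    have hmem : φ t - 1 ∈ J := by
      rw [← Ideal.Quotient.eq, ht', map_one]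
    have := Ideal.mem_jacobson_bot.mp (hJ hmem) 1
    simpa using this
  ext s
  have h0 : (h₂ s - h₁ s) * φ t = 0 := by
    have := congrArg φ (ht1 s)
    rw [map_mul, map_sub, hφ, hφ, map_one, map_one, one_mul, mul_one, map_zero] at this
    exact this
  have := (hunit.mul_left_eq_zero).mp h0
  exact (sub_eq_zero.mp this).symm

end Aux

/-- Let R → S be an étale ring map and I an ideal of R such that the induced map R/I → S/IS is
bijective. Then a Henselization of the pair (S, IS), regarded as an R-algebra, is a Henselization of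
the pair (R, I). -/
theorem result (R : Type u) [CommRing R] (I : Ideal R)
    (S : Type u) [CommRing S] [Algebra R S] [Algebra.Etale R S]
    (hq : Function.Bijective
      (Ideal.quotientMap (I.map (algebraMap R S)) (algebraMap R S) Ideal.le_comap_map))
    (H : Type u) [CommRing H] [Algebra S H] [Algebra R H] [IsScalarTower R S H]
    (hH : Hens2.IsPairHenselization S (I.map (algebraMap R S)) H) :
    Hens2.IsPairHenselization R I H := by
  classical
  have eI : (I.map (algebraMap R S)).map (algebraMap S H) = I.map (algebraMap R H) := by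
    rw [Ideal.map_map, ← IsScalarTower.algebraMap_eq]
  refine ⟨eI ▸ hH.1, ?_⟩
  intro C _ J f hC hfJ
  letI : Algebra R C := f.toAlgebra
  have hfalg : ∀ r, algebraMap R C r = f r := fun r => rfl
  have hIJ : ∀ i ∈ I, f i ∈ J := fun i hi => hfJ (Ideal.mem_map_of_mem f hi)
  -- every `R`-algebra map `S → C/J` kills `IS`
  have hkill : ∀ (θ : S →ₐ[R] C ⧸ J) (x : S), x ∈ I.map (algebraMap R S) → θ x = 0 := by
    intro θ x hx
    have hle : I.map (algebraMap R S) ≤ RingHom.ker (θ : S →+* C ⧸ J) := by
      rw [Ideal.map_le_iff_le_comap]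
      intro i hi
      rw [Ideal.mem_comap, RingHom.mem_ker]
      show θ (algebraMap R S i) = 0
      rw [θ.commutes, IsScalarTower.algebraMap_apply R C (C ⧸ J), hfalg,
        Ideal.Quotient.algebraMap_eq, Ideal.Quotient.eq_zero_iff_mem]
      exact hIJ i hi
    exact hle hx
  -- any two `R`-algebra maps `S → C/J` agree
  have hagree : ∀ (θ θ' : S →ₐ[R] C ⧸ J), θ = θ' := by
    intro θ θ'
    ext s
    obtain ⟨y, hy⟩ := hq.2 (Ideal.Quotient.mk _ s)
    obtain ⟨r, rfl⟩ := Ideal.Quotient.mk_surjective y
    rw [Ideal.quotientMap_mk] at hy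
    have hmem : s - algebraMap R S r ∈ I.map (algebraMap R S) := by
      rw [← Ideal.Quotient.eq]; exact hy.symm
    have e1 := hkill θ _ hmem
    have e2 := hkill θ' _ hmem
    rw [map_sub, sub_eq_zero, θ.commutes] at e1
    rw [map_sub, sub_eq_zero, θ'.commutes] at e2
    rw [e1, e2]
  let e : (R ⧸ I) ≃+* (S ⧸ I.map (algebraMap R S)) := RingEquiv.ofBijective _ hq
  have hle : I ≤ J.comap f := Ideal.map_le_iff_le_comap.mp hfJ
  let ρ : S →ₐ[R] C ⧸ J :=
    { toRingHom := (Ideal.quotientMap J f hle).comp
        (e.symm.toRingHom.comp (Ideal.Quotient.mk (I.map (algebraMap R S))))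
      commutes' := fun r => by
        show Ideal.quotientMap J f hle (e.symm (Ideal.Quotient.mk _ (algebraMap R S r))) =
          algebraMap R (C ⧸ J) r
        have : e.symm (Ideal.Quotient.mk _ (algebraMap R S r)) = Ideal.Quotient.mk I r := by
          rw [RingEquiv.symm_apply_eq]
          show _ = Ideal.quotientMap (I.map (algebraMap R S)) (algebraMap R S) Ideal.le_comap_map
            (Ideal.Quotient.mk I r)
          rw [Ideal.quotientMap_mk]
        rw [this, Ideal.quotientMap_mk]
        rfl }
  let σ : TensorProduct R C S →ₐ[C] C ⧸ J :=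
    Algebra.TensorProduct.lift (Algebra.ofId C (C ⧸ J)) ρ (fun _ _ => Commute.all _ _)
  obtain ⟨τ, hτ⟩ := Groth.Agent.Helper26.HensPair.exists_section J hC σ
  let fS : S →ₐ[R] C :=
    (τ.restrictScalars R).comp (Algebra.TensorProduct.includeRight : S →ₐ[R] TensorProduct R C S)
  have hfS : (fS : S →+* C).comp (algebraMap R S) = f := by
    ext r; exact fS.commutes r
  have hfSJ : (I.map (algebraMap R S)).map (fS : S →+* C) ≤ J := by
    rw [Ideal.map_map, hfS]; exact hfJ
  obtain ⟨g, hg, hguniq⟩ := hH.2 C J (fS : S →+* C) hC hfSJ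
  refine ⟨g, ?_, ?_⟩
  · show g.comp (algebraMap R H) = f
    rw [IsScalarTower.algebraMap_eq R S H, ← RingHom.comp_assoc, hg, hfS]
  · intro g' hg'
    apply hguniq
    let h' : S →ₐ[R] C :=
      { toRingHom := g'.comp (algebraMap S H)
        commutes' := fun r => by
          show g' (algebraMap S H (algebraMap R S r)) = f r
          rw [← IsScalarTower.algebraMap_apply R S H]
          exact RingHom.congr_fun hg' r }
    have hh' : h' = fS := by
      apply unram_unique J hC.jac
      intro s
      exact AlgHom.congr_fun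
        (hagree ((Ideal.Quotient.mkₐ R J).comp h') ((Ideal.Quotient.mkₐ R J).comp fS)) s
    show g'.comp (algebraMap S H) = (fS : S →+* C)
    exact congrArg (fun (a : S →ₐ[R] C) => (a : S →+* C)) hh'

end Groth.Agent.S17592
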