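import Groth.Statements.S17595
import Mathlib
import Groth.Agent.Lib.Helper26.OpenNbhd

set_option linter.style.haveILetI false

set_option autoImplicit false
universe u
open Hensel

namespace Groth.Agent.S17595

/-- Suppose (A, I) is a Henselian pair, and R is an A-algebra of finite presentation for which A → R is
quasi-finite at each prime of R that contains IR. Then there is an étale R-algebra R' such that R/IR
→ R'/IR' is bijective and A → R' is quasi-finite. -/
theorem result (A : Type u) [CommRing A] (I : Ideal A) [HenselianRing A I]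
    (R : Type u) [CommRing R] [Algebra A R] [Algebra.FinitePresentation A R]
    (h : ∀ (p : Ideal R) [p.IsPrime], I.map (algebraMap A R) ≤ p → Algebra.QuasiFiniteAt A p)
    : ∃ (R' : Type u) (_ : CommRing R') (_ : Algebra R R') (_ : Algebra A R') (_ : IsScalarTower A R R'),
      Algebra.Etale R R' ∧
      Function.Bijective (Ideal.quotientMap ((I.map (algebraMap A R)).map (algebraMap R R'))
        (algebraMap R R') Ideal.le_comap_map) ∧ Algebra.QuasiFinite A R' := by
  classical
  have hex : ∀ x : PrimeSpectrum R, I.map (algebraMap A R) ≤ x.asIdeal →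
      ∃ r : R, r ∉ x.asIdeal ∧ Algebra.QuasiFinite A (Localization.Away r) := by
    intro x hx
    haveI : Algebra.QuasiFiniteAt A x.asIdeal := h x.asIdeal hx
    obtain ⟨S', hS', r, hrp, H⟩ :=
      Algebra.QuasiFiniteAt.exists_fg_and_exists_notMem_and_awayMap_bijective (R := A) x.asIdeal
    haveI : Module.Finite A S' := ⟨(Submodule.fg_top _).mpr hS'⟩
    haveI : Algebra.QuasiFinite A (Localization.Away r) := .trans _ S' _
    exact ⟨r.1, hrp, .of_surjective_algHom (Localization.awayMapₐ S'.val r) H.2⟩
  obtain ⟨U, hUdef⟩ : ∃ U : Set (PrimeSpectrum R), U = {x | ∃ r : R, r ∉ x.asIdeal ∧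
      Algebra.QuasiFinite A (Localization.Away r)} := ⟨_, rfl⟩
  have hU : IsOpen U := by
    rw [isOpen_iff_forall_mem_open]
    intro x hx
    rw [hUdef] at hx
    obtain ⟨r, hr, hqf⟩ := hx
    refine ⟨PrimeSpectrum.basicOpen r, ?_, (PrimeSpectrum.basicOpen r).isOpen, hr⟩
    intro y hy
    rw [hUdef]
    exact ⟨r, hy, hqf⟩
  have hJU : PrimeSpectrum.zeroLocus ((I.map (algebraMap A R) : Ideal R) : Set R) ⊆ U := by
    intro x hx
    rw [hUdef]
    exact hex x hx
  obtain ⟨g, hg1, hgU⟩ :=
    Groth.Agent.Helper26.OpenNbhd.exists_basicOpen_subset _ U hU hJU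
  obtain ⟨t, ht⟩ := (PrimeSpectrum.isCompact_basicOpen g).elim_finite_subcover
    (fun r : {r : R // Algebra.QuasiFinite A (Localization.Away r)} =>
      (PrimeSpectrum.basicOpen r.1 : Set (PrimeSpectrum R)))
    (fun r => (PrimeSpectrum.basicOpen r.1).isOpen)
    (by
      intro x hx
      have := hgU hx
      rw [hUdef] at this
      obtain ⟨r, hr, hqf⟩ := this
      exact Set.mem_iUnion.mpr ⟨⟨r, hqf⟩, hr⟩)
  haveI : Algebra.FiniteType A (Localization.Away g) := by
    haveI : Algebra.FinitePresentation R (Localization.Away g) :=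
      IsLocalization.Away.finitePresentation g
    exact Algebra.FiniteType.trans (S := R) inferInstance inferInstance
  have hqf : Algebra.QuasiFinite A (Localization.Away g) := by
    rw [Algebra.QuasiFinite.iff_finite_comap_preimage_singleton]
    intro P
    have hinj : Function.Injective (PrimeSpectrum.comap (algebraMap R (Localization.Away g))) :=
      PrimeSpectrum.localization_comap_injective (Localization.Away g) (Submonoid.powers g)
    refine Set.Finite.of_finite_image ?_ hinj.injOn
    refine Set.Finite.subset (Set.Finite.biUnion t.finite_toSet (fun i _ => by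
      haveI := i.2
      exact (Algebra.QuasiFinite.finite_comap_preimage_singleton (R := A)
        (S := Localization.Away i.1) P).image
        (PrimeSpectrum.comap (algebraMap R (Localization.Away i.1))))) ?_
    rintro _ ⟨y, hy, rfl⟩
    have hxg : PrimeSpectrum.comap (algebraMap R (Localization.Away g)) y ∈
        (PrimeSpectrum.basicOpen g : Set (PrimeSpectrum R)) := by
      rw [← PrimeSpectrum.localization_away_comap_range (Localization.Away g) g]
      exact ⟨y, rfl⟩
    obtain ⟨i, hit, hxi⟩ := Set.mem_iUnion₂.mp (ht hxg)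
    refine Set.mem_iUnion₂.mpr ⟨i, Finset.mem_coe.mpr hit, ?_⟩
    rw [← PrimeSpectrum.localization_away_comap_range (Localization.Away i.1) i.1] at hxi
    obtain ⟨z, hz⟩ := hxi
    refine ⟨z, ?_, hz⟩
    rw [Set.mem_preimage, Set.mem_singleton_iff] at hy ⊢
    rw [← hy, IsScalarTower.algebraMap_eq A R (Localization.Away i.1),
      PrimeSpectrum.comap_comp_apply, hz, ← PrimeSpectrum.comap_comp_apply,
      ← IsScalarTower.algebraMap_eq]
  exact ⟨Localization.Away g, inferInstance, inferInstance, inferInstance, inferInstance,
    Algebra.Etale.of_isLocalizationAway g,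
    Groth.Agent.Helper26.OpenNbhd.quotientMap_away_bijective _ g hg1, hqf⟩

end Groth.Agent.S17595
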