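import Mathlib
import Groth.Agent.H11.ZMTSplit
import Groth.Agent.H11.PairEt
import Groth.Agent.H11.PairCRT
import Groth.Statements.S17596

set_option autoImplicit false
universe u
open Hensel

namespace Groth.Agent.S17596

/-- Let (A, I) be a Henselian pair and let B be a Henselization of the pair (R, IR) for a finitely
presented A-algebra R (that is, A → B is a Henselian finitely presented map of Henselian pairs). If
the induced map A/I → B/IB is module-finite, then B is module-finite and finitely presented over A. -/
theorem result (A : Type u) [CommRing A] (I : Ideal A)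
    [HenselianRing A I] (R : Type u) [CommRing R] [Algebra A R] [Algebra.FinitePresentation A R]
    (B : Type u) [CommRing B] [Algebra R B] [Algebra A B] [IsScalarTower A R B]
    (hB : Hens2.IsPairHenselization R (I.map (algebraMap A R)) B)
    (hfin : (Ideal.quotientMap (I.map (algebraMap A B)) (algebraMap A B) Ideal.le_comap_map).Finite) :
    Module.Finite A B ∧ Algebra.FinitePresentation A B := by

  classical
  open Groth.Agent.H11 in
  set IR := I.map (algebraMap A R) with hIR
  have hmap : IR.map (algebraMap R B) = I.map (algebraMap A B) := by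
    rw [hIR, Ideal.map_map, ← IsScalarTower.algebraMap_eq]
  -- finiteness of R / IR over A
  have hnb := Groth.Agent.H11.PH.isNbhd_of_isPairHenselization hB
  obtain ⟨φ⟩ := Groth.Agent.H11.PH.nonempty_algEquiv_quotient (A := A) (R := R) (B := B) I hnb
  have hfinB : Module.Finite A (B ⧸ I.map (algebraMap A B)) := by
    have h1 : (Ideal.Quotient.mk I).Finite := RingHom.Finite.of_surjective _ Ideal.Quotient.mk_surjective
    have h2 := RingHom.Finite.comp hfin h1
    have h3 : (Ideal.quotientMap (I.map (algebraMap A B)) (algebraMap A B) Ideal.le_comap_map).comp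
        (Ideal.Quotient.mk I) = algebraMap A (B ⧸ I.map (algebraMap A B)) := by
      refine RingHom.ext fun a => ?_
      rfl
    rw [h3] at h2
    exact RingHom.finite_algebraMap.mp h2
  have hfinR : Module.Finite A (R ⧸ IR) :=
    Module.Finite.of_surjective ((φ.restrictScalars A).symm.toLinearMap)
      (φ.restrictScalars A).symm.surjective
  obtain ⟨e, he, h1e, hfe⟩ := Groth.Agent.H11.ZMTS.exists_idempotent_finite I hfinR
  -- the quotient R₁
  set 𝔞 : Ideal R := Ideal.span {1 - e} with h𝔞
  haveI : Algebra.IsIntegral A (R ⧸ 𝔞) := Algebra.IsIntegral.of_finite A _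
  have hH1 : HenselianRing (R ⧸ 𝔞) (I.map (algebraMap A (R ⧸ 𝔞))) :=
    Groth.Agent.S0526.result A I (R ⧸ 𝔞)
  -- g : B → R₁
  obtain ⟨g, hg, -⟩ := hB.2 (R ⧸ 𝔞) (I.map (algebraMap A (R ⧸ 𝔞))) (Ideal.Quotient.mk 𝔞) hH1 (by
    rw [hIR, Ideal.map_map]
    exact le_of_eq rfl)
  -- algebraMap R B kills 1 - e
  have hkill : algebraMap R B (1 - e) = 0 := by
    apply Groth.Agent.H11.PH.idem_eq_zero_of_mem_jacobson
    · have := he.one_sub
      show algebraMap R B (1 - e) * algebraMap R B (1 - e) = algebraMap R B (1 - e)
      rw [← map_mul, this.eq]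
    · apply hB.1.jac
      exact Ideal.mem_map_of_mem _ h1e
  have hle : 𝔞 ≤ RingHom.ker (algebraMap R B) := by
    rw [h𝔞, Ideal.span_le]
    intro x hx
    rw [Set.mem_singleton_iff] at hx
    rw [hx]
    exact hkill
  let h : R ⧸ 𝔞 →+* B := Ideal.Quotient.lift 𝔞 (algebraMap R B) (fun x hx => hle hx)
  have hh : ∀ x : R, h (Ideal.Quotient.mk 𝔞 x) = algebraMap R B x := fun x => rfl
  have hgh : ∀ y, g (h y) = y := by
    intro y
    obtain ⟨x, rfl⟩ := Ideal.Quotient.mk_surjective y
    rw [hh]
    exact RingHom.congr_fun hg x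
  have hhg : ∀ b, h (g b) = b := by
    obtain ⟨u, -, huniq⟩ := hB.2 B (IR.map (algebraMap R B)) (algebraMap R B) hB.1 le_rfl
    have e1 := huniq (h.comp g) (by
      refine RingHom.ext fun x => ?_
      show h (g (algebraMap R B x)) = _
      have : g (algebraMap R B x) = Ideal.Quotient.mk 𝔞 x := RingHom.congr_fun hg x
      rw [this, hh])
    have e2 := huniq (RingHom.id B) (by rfl)
    intro b
    have := RingHom.congr_fun (e1.trans e2.symm) b
    exact this
  -- the A-algebra equivalence
  let ψ : (R ⧸ 𝔞) ≃ₐ[A] B :=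
    { toFun := h
      invFun := g
      left_inv := hgh
      right_inv := hhg
      map_mul' := map_mul h
      map_add' := map_add h
      commutes' := fun a => by
        show h (algebraMap A (R ⧸ 𝔞) a) = _
        rw [IsScalarTower.algebraMap_apply A R (R ⧸ 𝔞), Ideal.Quotient.algebraMap_eq, hh,
          ← IsScalarTower.algebraMap_apply] }
  haveI : Algebra.FinitePresentation A (R ⧸ 𝔞) := by
    haveI : Algebra.FinitePresentation R (R ⧸ 𝔞) :=
      Algebra.FinitePresentation.of_surjective (f := Ideal.Quotient.mkₐ R 𝔞)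
        (Ideal.Quotient.mkₐ_surjective R 𝔞) (by
          have : RingHom.ker (Ideal.Quotient.mkₐ R 𝔞).toRingHom = 𝔞 := by
            ext x
            simp [RingHom.mem_ker, Ideal.Quotient.eq_zero_iff_mem]
          rw [this]
          exact ⟨{1 - e}, by simp [h𝔞]⟩)
    exact Algebra.FinitePresentation.trans A R (R ⧸ 𝔞)
  exact ⟨Module.Finite.of_surjective ψ.toLinearMap ψ.surjective,
    Algebra.FinitePresentation.equiv ψ⟩

end Groth.Agent.S17596
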