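import Mathlib
import Groth.Agent.H11.PairSurj
import Groth.Statements.S17597

set_option autoImplicit false
universe u
open Hensel

namespace Groth.Agent.S17597

/-- Let (A, I) be a Henselian pair and let B be a Henselization of the pair (R, IR) for a finitely
presented A-algebra R (so A → B is Henselian finitely presented). If the induced map A/I → B/IB is
surjective, then A → B is surjective. -/
theorem result (A : Type u) [CommRing A] (I : Ideal A)
    [HenselianRing A I] (R : Type u) [CommRing R] [Algebra A R] [Algebra.FinitePresentation A R]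
    (B : Type u) [CommRing B] [Algebra R B] [Algebra A B] [IsScalarTower A R B]
    (hB : Hens2.IsPairHenselization R (I.map (algebraMap A R)) B)
    (hsurj : Function.Surjective
      (Ideal.quotientMap (I.map (algebraMap A B)) (algebraMap A B) Ideal.le_comap_map)) :
    Function.Surjective (algebraMap A B) := by

  classical
  set J : Ideal R := I.map (algebraMap A R) with hJ
  have hJB : J.map (algebraMap R B) = I.map (algebraMap A B) := by
    rw [hJ, Ideal.map_map, ← IsScalarTower.algebraMap_eq]
  have hjac : I.map (algebraMap A B) ≤ Ideal.jacobson ⊥ := by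
    rw [← hJB]
    exact hB.1.jac
  have hnB : H11.PH.IsNbhd J B := H11.PH.isNbhd_of_isPairHenselization hB
  obtain ⟨ρ, hρ⟩ := hnB.exists_retr
  intro b
  obtain ⟨R', _, _, _, hn', θ, r', rfl⟩ := H11.PH.exists_nbhd_of_mem hB b
  letI : Algebra A R' := ((algebraMap R R').comp (algebraMap A R)).toAlgebra
  haveI : IsScalarTower A R R' := IsScalarTower.of_algebraMap_eq (fun _ => rfl)
  haveI : Algebra.FinitePresentation A R' := Algebra.FinitePresentation.trans A R R'
  have hJR' : J.map (algebraMap R R') = I.map (algebraMap A R') := by
    rw [hJ, Ideal.map_map, ← IsScalarTower.algebraMap_eq]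
  have hθA : ∀ a : A, θ (algebraMap A R' a) = algebraMap A B a := by
    intro a
    rw [IsScalarTower.algebraMap_apply A R R', θ.commutes, ← IsScalarTower.algebraMap_apply]
  have hmod : ∀ r : R', ∃ a : A, r - algebraMap A R' a ∈ I.map (algebraMap A R') := by
    intro r
    obtain ⟨q, hq⟩ := hsurj (Ideal.Quotient.mk _ (θ r))
    obtain ⟨a, rfl⟩ := Ideal.Quotient.mk_surjective q
    rw [Ideal.quotientMap_mk, Ideal.Quotient.eq] at hq
    refine ⟨a, ?_⟩
    rw [← hJR', ← hn'.retr_eq_zero_iff (ρ.comp θ)]
    rw [AlgHom.comp_apply, map_sub, hθA, hρ, hJB]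
    have := (I.map (algebraMap A B)).neg_mem hq
    rwa [neg_sub] at this
  let σ : R' →ₐ[A] B :=
    { (θ : R' →+* B) with
      commutes' := hθA }
  exact H11.MVH.mem_range_of_surjective_mod (inferInstance : HenselianRing A I) hmod hjac σ r'

end Groth.Agent.S17597
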