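import Mathlib
import Groth.Agent.H11.PairFP
import Groth.Statements.S17607

set_option autoImplicit false
universe u
open Hensel

namespace Groth.Agent.S17607

/-- Let (A, I) and (B, IB) be Henselian pairs with B an A-algebra. Then the following are equivalent:
(i) A → B is Henselian finitely presented, i.e. there are n, a Henselization P of the pair
(A[X₁,…,Xₙ], I·A[X₁,…,Xₙ]) (a Henselized polynomial ring) and a surjective A-algebra map P → B with
finitely generated kernel; (ii) there are a finitely presented A-algebra R and an R-algebra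
structure on B compatible with that of A for which B is a Henselization of the pair (R, IR). -/
theorem result (A : Type u) [CommRing A] (I : Ideal A)
    [HenselianRing A I] (B : Type u) [CommRing B] [Algebra A B]
    [HenselianRing B (I.map (algebraMap A B))] :
    (∃ (n : ℕ) (P : Type u) (_ : CommRing P) (_ : Algebra (MvPolynomial (Fin n) A) P) (_ : Algebra A P)
        (_ : IsScalarTower A (MvPolynomial (Fin n) A) P),
        Hens2.IsPairHenselization (MvPolynomial (Fin n) A)
          (I.map (algebraMap A (MvPolynomial (Fin n) A))) P ∧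
        ∃ φ : P →ₐ[A] B, Function.Surjective φ ∧ (RingHom.ker φ).FG) ↔
    ∃ (R : Type u) (_ : CommRing R) (_ : Algebra A R) (_ : Algebra R B) (_ : IsScalarTower A R B),
      Algebra.FinitePresentation A R ∧ Hens2.IsPairHenselization R (I.map (algebraMap A R)) B := by
  constructor
  · rintro ⟨n, P, _, _, _, _, hP, φ, hφ, hker⟩
    have hker' : (RingHom.ker (φ : P →+* B)).FG := hker
    obtain ⟨S', _, _, _, h, 𝔟, h𝔟, θ, χ, hχ, hH⟩ :=
      Groth.Agent.H11.PH.exists_model_of_surjective hP (φ : P →+* B) hφ hker'
    letI algAS' : Algebra A S' :=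
      ((algebraMap (MvPolynomial (Fin n) A) S').comp (algebraMap A (MvPolynomial (Fin n) A))).toAlgebra
    haveI : IsScalarTower A (MvPolynomial (Fin n) A) S' := IsScalarTower.of_algebraMap_eq (fun _ => rfl)
    letI algRB : Algebra (S' ⧸ 𝔟) B := χ.toAlgebra
    haveI : IsScalarTower A (S' ⧸ 𝔟) B := IsScalarTower.of_algebraMap_eq (fun a => by
      show algebraMap A B a = χ (Ideal.Quotient.mk 𝔟 (algebraMap A S' a))
      rw [hχ]
      show _ = φ (θ (algebraMap (MvPolynomial (Fin n) A) S' (algebraMap A (MvPolynomial (Fin n) A) a)))
      rw [θ.commutes, ← IsScalarTower.algebraMap_apply A (MvPolynomial (Fin n) A) P, φ.commutes])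
    haveI : Algebra.FinitePresentation A S' :=
      Algebra.FinitePresentation.trans A (MvPolynomial (Fin n) A) S'
    refine ⟨S' ⧸ 𝔟, inferInstance, inferInstance, algRB, inferInstance,
      Algebra.FinitePresentation.quotient h𝔟, ?_⟩
    have hideal : ((I.map (algebraMap A (MvPolynomial (Fin n) A))).map
        (algebraMap (MvPolynomial (Fin n) A) S')).map (Ideal.Quotient.mk 𝔟) =
        I.map (algebraMap A (S' ⧸ 𝔟)) := by
      rw [Ideal.map_map, Ideal.map_map]
      rfl
    rw [hideal] at hH
    exact hH
  · rintro ⟨R, _, _, _, _, hfp, hB⟩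
    obtain ⟨n, π, hπ, hker⟩ := hfp.out
    let IS : Ideal (MvPolynomial (Fin n) A) := I.map (algebraMap A (MvPolynomial (Fin n) A))
    letI algAP : Algebra A (Groth.Agent.H11.PH.PHens (MvPolynomial (Fin n) A) IS) :=
      ((algebraMap (MvPolynomial (Fin n) A) (Groth.Agent.H11.PH.PHens (MvPolynomial (Fin n) A) IS)).comp
        (algebraMap A (MvPolynomial (Fin n) A))).toAlgebra
    haveI tow : IsScalarTower A (MvPolynomial (Fin n) A)
        (Groth.Agent.H11.PH.PHens (MvPolynomial (Fin n) A) IS) :=
      IsScalarTower.of_algebraMap_eq (fun _ => rfl)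
    have hP := Groth.Agent.H11.PH.isPairHenselization_pHens (MvPolynomial (Fin n) A) IS
    have hens : HenselianRing B (I.map (algebraMap A B)) := inferInstance
    have hfA : ((algebraMap R B).comp π.toRingHom).comp (algebraMap A (MvPolynomial (Fin n) A)) =
        algebraMap A B := by
      ext a
      show algebraMap R B (π (algebraMap A (MvPolynomial (Fin n) A) a)) = algebraMap A B a
      rw [π.commutes, ← IsScalarTower.algebraMap_apply]
    have hle : IS.map ((algebraMap R B).comp π.toRingHom) ≤ I.map (algebraMap A B) := by
      show (I.map _).map _ ≤ _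
      rw [Ideal.map_map, hfA]
    obtain ⟨g, hg, -⟩ := hP.2 B _ ((algebraMap R B).comp π.toRingHom) hens hle
    have hideal : IS.map π.toRingHom = I.map (algebraMap A R) := by
      show (I.map _).map _ = _
      rw [Ideal.map_map]
      congr 1
      ext a
      exact π.commutes a
    have hB' : Hens2.IsPairHenselization R (IS.map π.toRingHom) B := by
      rw [hideal]
      exact hB
    obtain ⟨hsurj, hkerg⟩ := Groth.Agent.H11.PH.surjective_and_ker_of_quotient IS hP π.toRingHom hπ
      hB' g hg
    let φ : Groth.Agent.H11.PH.PHens (MvPolynomial (Fin n) A) IS →ₐ[A] B :=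
      { g with
        commutes' := fun a => by
          show g (algebraMap (MvPolynomial (Fin n) A) _ (algebraMap A (MvPolynomial (Fin n) A) a)) = _
          have := RingHom.congr_fun hg (algebraMap A (MvPolynomial (Fin n) A) a)
          rw [RingHom.comp_apply] at this
          rw [this]
          exact RingHom.congr_fun hfA a }
    refine ⟨n, Groth.Agent.H11.PH.PHens (MvPolynomial (Fin n) A) IS, inferInstance, inferInstance,
      algAP, tow, hP, φ, hsurj, ?_⟩
    have : RingHom.ker φ = RingHom.ker g := rfl
    rw [this, hkerg]
    exact hker.map _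

end Groth.Agent.S17607
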