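import Mathlib
import Groth.Agent.H11.PairFP
import Groth.Statements.S17609

set_option autoImplicit false
universe u
open Hensel

namespace Groth.Agent.S17609

/-- Let (A, I) be a Henselian pair and let B, C be Henselizations of the pairs (R, IR), (S, IS) for
finitely presented A-algebras R and S, with their induced A-algebra structures (so A → B and A → C
are Henselian finitely presented). Then every A-algebra map B → C (encoded as a B-algebra structure
on C compatible with that of A) is Henselian finitely presented: there are a finitely presented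
B-algebra T and a T-algebra structure on C compatible with that of B for which C is a Henselization
of the pair (T, IBT). -/
theorem result (A : Type u) [CommRing A] (I : Ideal A) [HenselianRing A I]
    (R : Type u) [CommRing R] [Algebra A R] [Algebra.FinitePresentation A R]
    (B : Type u) [CommRing B] [Algebra R B] [Algebra A B] [IsScalarTower A R B]
    (hB : Hens2.IsPairHenselization R (I.map (algebraMap A R)) B)
    (S : Type u) [CommRing S] [Algebra A S] [Algebra.FinitePresentation A S]
    (C : Type u) [CommRing C] [Algebra S C] [Algebra A C] [IsScalarTower A S C]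
    (hC : Hens2.IsPairHenselization S (I.map (algebraMap A S)) C)
    [Algebra B C] [IsScalarTower A B C] :
    ∃ (T : Type u) (_ : CommRing T) (_ : Algebra B T) (_ : Algebra T C) (_ : IsScalarTower B T C),
      Algebra.FinitePresentation B T ∧
      Hens2.IsPairHenselization T ((I.map (algebraMap A B)).map (algebraMap B T)) C := by
  classical
  obtain ⟨F, hF⟩ := (Algebra.FiniteType.out : (⊤ : Subalgebra A R).FG)
  let c : R → C := fun r => algebraMap B C (algebraMap R B r)
  obtain ⟨S', _, _, _, h, θ, hθ⟩ := Groth.Agent.H11.PH.exists_nbhd_of_finset hC (F.image c)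
  let pre : R → S' := fun r => if h : ∃ s, θ s = c r then h.choose else 0
  have hpre : ∀ r ∈ F, θ (pre r) = c r := by
    intro r hr
    have hex : ∃ s, θ s = c r := hθ _ (Finset.mem_image_of_mem c hr)
    simp only [pre, dif_pos hex]
    exact hex.choose_spec
  letI algAS' : Algebra A S' := ((algebraMap S S').comp (algebraMap A S)).toAlgebra
  haveI : IsScalarTower A S S' := IsScalarTower.of_algebraMap_eq (fun _ => rfl)
  let θA : S' →ₐ[A] C :=
    { θ.toRingHom with
      commutes' := fun a => by
        show θ (algebraMap S S' (algebraMap A S a)) = algebraMap A C a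
        rw [θ.commutes, ← IsScalarTower.algebraMap_apply] }
  have hθA : ∀ s, θA s = θ s := fun _ => rfl
  let gen : R → TensorProduct A B S' := fun r =>
    TensorProduct.tmul A (algebraMap R B r) (1 : S') - TensorProduct.tmul A (1 : B) (pre r)
  let 𝔱 : Ideal (TensorProduct A B S') := Ideal.span ((F.image gen : Finset _) : Set _)
  let pm : TensorProduct A B S' →ₐ[B] C :=
    Algebra.TensorProduct.productLeftAlgHom (Algebra.ofId B C) θA
  have hpm : ∀ b s, pm (TensorProduct.tmul A b s) = algebraMap B C b * θ s := fun b s => by
    simp [pm, Algebra.ofId_apply, hθA]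
  have hkill : ∀ x ∈ 𝔱, pm x = 0 := by
    intro x hx
    have hle : 𝔱 ≤ RingHom.ker (pm : TensorProduct A B S' →+* C) := by
      rw [Ideal.span_le]
      intro y hy
      simp only [Finset.coe_image, Set.mem_image, Finset.mem_coe] at hy
      obtain ⟨r, hr, rfl⟩ := hy
      show pm (gen r) = 0
      simp only [gen, map_sub, hpm, map_one, mul_one, one_mul, hpre r hr]
      exact sub_self _
    exact hle hx
  let τ : (TensorProduct A B S' ⧸ 𝔱) →ₐ[B] C := Ideal.Quotient.liftₐ 𝔱 pm hkill
  have hτ : ∀ z, τ (Ideal.Quotient.mk 𝔱 z) = pm z := fun _ => rfl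
  letI algTC : Algebra (TensorProduct A B S' ⧸ 𝔱) C := τ.toRingHom.toAlgebra
  haveI towBTC : IsScalarTower B (TensorProduct A B S' ⧸ 𝔱) C :=
    IsScalarTower.of_algebraMap_eq (fun b => (τ.commutes b).symm)
  haveI : Algebra.FinitePresentation A S' := Algebra.FinitePresentation.trans A S S'
  haveI : Algebra.FinitePresentation B (TensorProduct A B S') :=
    Algebra.FinitePresentation.baseChange _
  have hfp : Algebra.FinitePresentation B (TensorProduct A B S' ⧸ 𝔱) :=
    Algebra.FinitePresentation.quotient ⟨F.image gen, rfl⟩
  refine ⟨TensorProduct A B S' ⧸ 𝔱, inferInstance, inferInstance, algTC, towBTC, hfp, ?_⟩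
  have hgen : ∀ r ∈ F, Ideal.Quotient.mk 𝔱 (TensorProduct.tmul A (algebraMap R B r) (1 : S')) =
      Ideal.Quotient.mk 𝔱 (TensorProduct.tmul A (1 : B) (pre r)) := by
    intro r hr
    rw [Ideal.Quotient.eq]
    exact Ideal.subset_span (Finset.mem_coe.2 (Finset.mem_image_of_mem gen hr))
  constructor
  · have e1 : ((I.map (algebraMap A B)).map (algebraMap B (TensorProduct A B S' ⧸ 𝔱))).map
        (algebraMap (TensorProduct A B S' ⧸ 𝔱) C) = I.map (algebraMap A C) := by
      rw [Ideal.map_map, Ideal.map_map, ← IsScalarTower.algebraMap_eq B, ← IsScalarTower.algebraMap_eq]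
    have e2 : (I.map (algebraMap A S)).map (algebraMap S C) = I.map (algebraMap A C) := by
      rw [Ideal.map_map, ← IsScalarTower.algebraMap_eq]
    rw [e1, ← e2]
    exact hC.1
  · intro D _ J f hD hJ
    letI : Algebra S' C := θ.toRingHom.toAlgebra
    haveI : IsScalarTower S S' C := IsScalarTower.of_algebraMap_eq (fun s => (θ.commutes s).symm)
    have hC' := Groth.Agent.H11.PH.isPairHenselization_of_isNbhd h hC
    let inR : S' →+* (TensorProduct A B S' ⧸ 𝔱) :=
      (Ideal.Quotient.mk 𝔱).comp
        (Algebra.TensorProduct.includeRight : S' →ₐ[A] TensorProduct A B S').toRingHom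
    let inL : B →+* (TensorProduct A B S' ⧸ 𝔱) :=
      (Ideal.Quotient.mk 𝔱).comp
        (Algebra.TensorProduct.includeLeft : B →ₐ[A] TensorProduct A B S').toRingHom
    have hinL : inL = algebraMap B (TensorProduct A B S' ⧸ 𝔱) := rfl
    have hinA : ∀ a : A, inL (algebraMap A B a) = inR (algebraMap A S' a) := by
      intro a
      show Ideal.Quotient.mk 𝔱 (TensorProduct.tmul A (algebraMap A B a) (1 : S')) =
        Ideal.Quotient.mk 𝔱 (TensorProduct.tmul A (1 : B) (algebraMap A S' a))
      rw [Algebra.algebraMap_eq_smul_one, Algebra.algebraMap_eq_smul_one, TensorProduct.smul_tmul]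
    have hJ' : I.map ((f.comp inL).comp (algebraMap A B)) ≤ J := by
      rw [← Ideal.map_map, ← Ideal.map_map]
      exact hJ
    let fS' : S' →+* D := f.comp inR
    have hfS' : ((I.map (algebraMap A S)).map (algebraMap S S')).map fS' ≤ J := by
      rw [Ideal.map_map, Ideal.map_map]
      have : (fS'.comp (algebraMap S S')).comp (algebraMap A S) =
          (f.comp inL).comp (algebraMap A B) := by
        ext a
        show f (inR (algebraMap A S' a)) = f (inL (algebraMap A B a))
        rw [hinA]
      rw [this]
      exact hJ'
    obtain ⟨γ, hγ, hγuniq⟩ := hC'.2 D J fS' hD hfS'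
    have hγθ : ∀ s, γ (θ s) = f (inR s) := fun s => RingHom.congr_fun hγ s
    have hτR : ∀ s, τ (inR s) = θ s := by
      intro s
      show pm (TensorProduct.tmul A (1 : B) s) = θ s
      rw [hpm, map_one, one_mul]
    have hτL : ∀ b, τ (inL b) = algebraMap B C b := by
      intro b
      show pm (TensorProduct.tmul A b (1 : S')) = _
      rw [hpm, map_one, mul_one]
    refine ⟨γ, ?_, fun γ' hγ' => hγuniq γ' ?_⟩
    · -- `γ ∘ τ = f`
      let β₁ : B →+* D := γ.comp (algebraMap B C)
      let β₂ : B →+* D := f.comp inL
      have hβA : ∀ a : A, β₂ (algebraMap A B a) = β₁ (algebraMap A B a) := by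
        intro a
        show f (inL (algebraMap A B a)) = γ (algebraMap B C (algebraMap A B a))
        rw [hinA, ← hγθ, ← IsScalarTower.algebraMap_apply A B C]
        congr 1
        exact θA.commutes a
      have hβ : β₁ = β₂ := by
        apply Groth.Agent.H11.PH.ringHom_ext_of_isPairHenselization hB J hD β₁ β₂
        · rw [Ideal.map_map]
          have : (β₁.comp (algebraMap R B)).comp (algebraMap A R) =
              (f.comp inL).comp (algebraMap A B) := by
            ext a
            show β₁ (algebraMap R B (algebraMap A R a)) = β₂ (algebraMap A B a)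
            rw [← IsScalarTower.algebraMap_apply A R B, hβA]
          rw [this]
          exact hJ'
        · letI : Algebra A D := (β₁.comp (algebraMap A B)).toAlgebra
          let φ₁ : R →ₐ[A] D :=
            { β₁.comp (algebraMap R B) with
              commutes' := fun a => by
                show β₁ (algebraMap R B (algebraMap A R a)) = β₁ (algebraMap A B a)
                rw [← IsScalarTower.algebraMap_apply A R B] }
          let φ₂ : R →ₐ[A] D :=
            { β₂.comp (algebraMap R B) with
              commutes' := fun a => by
                show β₂ (algebraMap R B (algebraMap A R a)) = β₁ (algebraMap A B a)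
                rw [← IsScalarTower.algebraMap_apply A R B, hβA] }
          have hφ : φ₁ = φ₂ := by
            apply AlgHom.ext_of_adjoin_eq_top hF
            intro r hr
            show γ (algebraMap B C (algebraMap R B r)) = f (inL (algebraMap R B r))
            have h1 : inL (algebraMap R B r) = inR (pre r) := hgen r hr
            rw [h1, ← hγθ, hpre r hr]
          ext r
          exact DFunLike.congr_fun hφ r
      refine RingHom.ext fun t => ?_
      obtain ⟨z, rfl⟩ := Ideal.Quotient.mk_surjective t
      show γ (τ (Ideal.Quotient.mk 𝔱 z)) = f (Ideal.Quotient.mk 𝔱 z)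
      induction z using TensorProduct.induction_on with
      | zero => simp
      | tmul b s =>
        have hz : TensorProduct.tmul A b s =
            TensorProduct.tmul A b (1 : S') * TensorProduct.tmul A (1 : B) s := by
          rw [Algebra.TensorProduct.tmul_mul_tmul, mul_one, one_mul]
        rw [hz, map_mul, map_mul, map_mul, map_mul]
        have e1 : γ (τ (Ideal.Quotient.mk 𝔱 (TensorProduct.tmul A b (1 : S')))) =
            f (Ideal.Quotient.mk 𝔱 (TensorProduct.tmul A b (1 : S'))) := by
          have := hτL b
          show γ (τ (inL b)) = f (inL b)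
          rw [this]
          exact RingHom.congr_fun hβ b
        have e2 : γ (τ (Ideal.Quotient.mk 𝔱 (TensorProduct.tmul A (1 : B) s))) =
            f (Ideal.Quotient.mk 𝔱 (TensorProduct.tmul A (1 : B) s)) := by
          show γ (τ (inR s)) = f (inR s)
          rw [hτR, hγθ]
        rw [e1, e2]
      | add x y hx hy =>
        rw [map_add, map_add, map_add, map_add, hx, hy]
    · refine RingHom.ext fun s => ?_
      show γ' (θ s) = f (inR s)
      rw [← hτR s]
      exact RingHom.congr_fun hγ' (inR s)

end Groth.Agent.S17609
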