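import Mathlib
import Groth.Agent.H11.HfpEtale
import Groth.Agent.S17597
import Groth.Agent.S17602
import Groth.Agent.S17607
import Groth.Agent.S17609
import Groth.Statements.S17598

set_option autoImplicit false
universe u
open Hensel

namespace Groth.Agent.S17598

/-- Let (A, I) be a Henselian pair and let B be a Henselization of the pair (R₀, IR₀) for a finitely
presented A-algebra R₀ (so A → B is a Henselian finitely presented map of Henselian pairs). Assume
that A/I^r → B/I^rB is étale for every r ≥ 1 (for Henselian finitely presented maps this is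
equivalent to the h-formally étale lifting property). Then there exist an étale A-algebra R, a
Henselization H of the pair (R, IR) and a surjective A-algebra map H → B whose kernel is a finitely
generated ideal contained in I^n H for every n. -/
theorem result (A : Type u) [CommRing A] (I : Ideal A)
    [HenselianRing A I] (R₀ : Type u) [CommRing R₀] [Algebra A R₀] [Algebra.FinitePresentation A R₀]
    (B : Type u) [CommRing B] [Algebra R₀ B] [Algebra A B] [IsScalarTower A R₀ B]
    (hB : Hens2.IsPairHenselization R₀ (I.map (algebraMap A R₀)) B)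
    (het : ∀ r : ℕ, 1 ≤ r → Algebra.Etale (A ⧸ I ^ r) (B ⧸ (I ^ r).map (algebraMap A B))) :
    ∃ (R : Type u) (_ : CommRing R) (_ : Algebra A R) (H : Type u) (_ : CommRing H) (_ : Algebra R H)
      (_ : Algebra A H) (_ : IsScalarTower A R H),
      Algebra.Etale A R ∧ Hens2.IsPairHenselization R (I.map (algebraMap A R)) H ∧
      ∃ φ : H →ₐ[A] B, Function.Surjective φ ∧ (RingHom.ker φ).FG ∧
        ∀ n : ℕ, RingHom.ker φ ≤ (I ^ n).map (algebraMap A H) := by

  classical
  have hBhens : HenselianRing B (I.map (algebraMap A B)) := by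
    have h1 := hB.1
    rwa [Ideal.map_map, ← IsScalarTower.algebraMap_eq] at h1
  haveI := het 1 le_rfl
  obtain ⟨R, _, _, hR, ρ, hρs, hρi⟩ := H11.HfpEt.exists_etale_model (I := I) B hBhens
  haveI := hR
  -- the henselization of `R`
  obtain ⟨H, _, _, _, _, hHhens, hH, φ, hφ⟩ := H11.HfpEt.exists_hens_model hBhens ρ
  haveI := hHhens
  have hIH : (I.map (algebraMap A R)).map (algebraMap R H) = I.map (algebraMap A H) := by
    rw [Ideal.map_map, ← IsScalarTower.algebraMap_eq]
  have hφI : ∀ y ∈ I.map (algebraMap A H), φ y ∈ I.map (algebraMap A B) := by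
    intro y hy
    have h1 : (φ : H →+* B) y ∈ (I.map (algebraMap A H)).map (φ : H →+* B) :=
      Ideal.mem_map_of_mem _ hy
    rw [Ideal.map_map] at h1
    have h2 : (φ : H →+* B).comp (algebraMap A H) = algebraMap A B := by
      ext a
      exact φ.commutes a
    rw [h2] at h1
    exact h1
  -- `φ` is bijective modulo `I`
  have hs : ∀ b : B, ∃ x : H, b - φ x ∈ I.map (algebraMap A B) := by
    intro b
    obtain ⟨r, hr⟩ := hρs b
    exact ⟨algebraMap R H r, by rw [hφ]; exact hr⟩
  have hi : ∀ x : H, φ x ∈ I.map (algebraMap A B) → x ∈ I.map (algebraMap A H) := by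
    intro x hx
    obtain ⟨r, hr⟩ := (H11.PH.isNbhd_of_isPairHenselization hH).exists_sub_mem x
    rw [hIH] at hr
    have h1 : ρ r ∈ I.map (algebraMap A B) := by
      have h2 := hφI _ hr
      rw [map_sub, hφ] at h2
      have h3 := (I.map (algebraMap A B)).sub_mem hx h2
      rwa [sub_sub_cancel] at h3
    have h4 : algebraMap R H r ∈ I.map (algebraMap A H) := by
      rw [← hIH]
      exact Ideal.mem_map_of_mem _ (hρi r h1)
    have := (I.map (algebraMap A H)).add_mem hr h4
    rwa [sub_add_cancel] at this
  -- `B` is henselian finitely presented over `H`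
  letI algHB : Algebra H B := (φ : H →+* B).toAlgebra
  haveI : IsScalarTower A H B := IsScalarTower.of_algebraMap_eq (fun a => (φ.commutes a).symm)
  haveI : Algebra.FinitePresentation A R := inferInstance
  obtain ⟨T, _, _, _, _, hTfp, hT⟩ := Groth.Agent.S17609.result A I R H hH R₀ B hB
  haveI := hTfp
  have hIB : (I.map (algebraMap A H)).map (algebraMap H B) = I.map (algebraMap A B) := by
    rw [Ideal.map_map, ← IsScalarTower.algebraMap_eq]
  -- surjectivity
  have hsurj : Function.Surjective (algebraMap H B) := by
    refine Groth.Agent.S17597.result H (I.map (algebraMap A H)) T B hT ?_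
    intro q
    obtain ⟨b, rfl⟩ := Ideal.Quotient.mk_surjective q
    obtain ⟨x, hx⟩ := hs b
    refine ⟨Ideal.Quotient.mk _ x, ?_⟩
    rw [Ideal.quotientMap_mk, eq_comm, Ideal.Quotient.eq, hIB]
    exact hx
  have hφsurj : Function.Surjective φ := hsurj
  -- finite generation of the kernel
  haveI hBH : HenselianRing B ((I.map (algebraMap A H)).map (algebraMap H B)) := hIB ▸ hBhens
  have hfg : (RingHom.ker (algebraMap H B)).FG := by
    obtain ⟨n, P, _, _, _, _, hP, ψ, hψs, hψk⟩ :=
      (Groth.Agent.S17607.result H (I.map (algebraMap A H)) B).2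
        ⟨T, inferInstance, inferInstance, inferInstance, inferInstance, hTfp, hT⟩
    choose h hh using fun j : Fin n => hsurj (ψ (algebraMap (MvPolynomial (Fin n) H) P (MvPolynomial.X j)))
    -- the evaluation map `P → H`
    let ev₀ : MvPolynomial (Fin n) H →ₐ[H] H := MvPolynomial.aeval h
    have hle : ((I.map (algebraMap A H)).map (algebraMap H (MvPolynomial (Fin n) H))).map
        (ev₀ : MvPolynomial (Fin n) H →+* H) ≤ I.map (algebraMap A H) := by
      rw [Ideal.map_map]
      have : (ev₀ : MvPolynomial (Fin n) H →+* H).comp (algebraMap H (MvPolynomial (Fin n) H)) =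
          RingHom.id H := by
        ext x
        simp [ev₀]
      rw [this, Ideal.map_id]
    obtain ⟨ev, hev, -⟩ := hP.2 H (I.map (algebraMap A H)) (ev₀ : MvPolynomial (Fin n) H →+* H)
      inferInstance hle
    have hev' : ∀ p, ev (algebraMap (MvPolynomial (Fin n) H) P p) = ev₀ p :=
      fun p => RingHom.congr_fun hev p
    have hevH : ∀ x : H, ev (algebraMap H P x) = x := by
      intro x
      rw [IsScalarTower.algebraMap_apply H (MvPolynomial (Fin n) H) P, hev']
      simp [ev₀]
    have hcomp : (ψ : P →+* B) = (algebraMap H B).comp ev := by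
      apply H11.PH.ringHom_ext_of_isPairHenselization hP _ hBH
      · rw [← Ideal.map_map]
        have h1 : ((I.map (algebraMap A H)).map (algebraMap H (MvPolynomial (Fin n) H))).map
            (algebraMap (MvPolynomial (Fin n) H) P) = (I.map (algebraMap A H)).map (algebraMap H P) := by
          rw [Ideal.map_map, ← IsScalarTower.algebraMap_eq]
        rw [h1, Ideal.map_map]
        have h2 : (ψ : P →+* B).comp (algebraMap H P) = algebraMap H B := by
          ext x
          exact ψ.commutes x
        rw [h2]
      · have h3 : ((ψ : P →ₐ[H] B).comp (IsScalarTower.toAlgHom H (MvPolynomial (Fin n) H) P)) =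
            ((Algebra.ofId H B).comp ev₀) := by
          apply MvPolynomial.algHom_ext
          intro j
          simp only [AlgHom.comp_apply, IsScalarTower.coe_toAlgHom', ev₀, MvPolynomial.aeval_X,
            Algebra.ofId_apply]
          exact (hh j).symm
        refine RingHom.ext fun p => ?_
        show ψ (algebraMap _ P p) = algebraMap H B (ev (algebraMap _ P p))
        rw [hev']
        exact DFunLike.congr_fun h3 p
    have hkey : RingHom.ker (algebraMap H B) = (RingHom.ker (ψ : P →+* B)).map ev := by
      apply le_antisymm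
      · intro x hx
        have h1 : (ψ : P →+* B) (algebraMap H P x) = 0 := by
          rw [hcomp, RingHom.comp_apply, hevH]
          exact hx
        have h2 := Ideal.mem_map_of_mem ev (show algebraMap H P x ∈ RingHom.ker (ψ : P →+* B) from h1)
        rwa [hevH] at h2
      · rw [Ideal.map_le_iff_le_comap]
        intro p hp
        rw [Ideal.mem_comap, RingHom.mem_ker]
        have h1 : (ψ : P →+* B) p = 0 := hp
        rw [hcomp] at h1
        exact h1
    rw [hkey]
    exact Ideal.FG.map hψk ev
  -- the kernel lies in every `I ^ n H`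
  have hker : ∀ n : ℕ, RingHom.ker φ ≤ (I ^ n).map (algebraMap A H) := by
    intro n
    rcases Nat.eq_zero_or_pos n with rfl | hn
    · rw [pow_zero, Ideal.one_eq_top, Ideal.map_top]
      exact le_top
    have hHet := (Groth.Agent.S17602.result A I R H hH).2 n hn
    haveI := hHet
    haveI := het n hn
    have hU : H11.FT.UniqK (I ^ n) H := H11.FT.uniqK_of_formallyUnramified
    have hL : H11.FT.LiftK (I ^ n) B := H11.FT.liftK_of_formallySmooth
    have hle1 : (I ^ n).map (algebraMap A H) ≤ I.map (algebraMap A H) :=
      Ideal.map_mono (Ideal.pow_le_self (Nat.pos_iff_ne_zero.1 hn))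
    let p : (H ⧸ (I ^ n).map (algebraMap A H)) →ₐ[A] (H ⧸ I.map (algebraMap A H)) :=
      Ideal.Quotient.factorₐ A hle1
    have hp : Function.Surjective p := Ideal.Quotient.factor_surjective hle1
    have hE : (I ^ n).map (algebraMap A (H ⧸ (I ^ n).map (algebraMap A H))) = ⊥ := by
      rw [eq_bot_iff, Ideal.map_le_iff_le_comap]
      intro a ha
      rw [Ideal.mem_comap, Ideal.mem_bot, IsScalarTower.algebraMap_apply A H,
        Ideal.Quotient.algebraMap_eq, Ideal.Quotient.eq_zero_iff_mem]
      exact Ideal.mem_map_of_mem _ ha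
    have hC : (I ^ n).map (algebraMap A (H ⧸ I.map (algebraMap A H))) = ⊥ := by
      rw [eq_bot_iff, Ideal.map_le_iff_le_comap]
      intro a ha
      rw [Ideal.mem_comap, Ideal.mem_bot, IsScalarTower.algebraMap_apply A H,
        Ideal.Quotient.algebraMap_eq, Ideal.Quotient.eq_zero_iff_mem]
      exact hle1 (Ideal.mem_map_of_mem _ ha)
    have hnil : IsNilpotent (RingHom.ker (p : (H ⧸ (I ^ n).map (algebraMap A H)) →+*
        (H ⧸ I.map (algebraMap A H)))) := by
      refine ⟨n, ?_⟩
      have h1 : RingHom.ker (p : (H ⧸ (I ^ n).map (algebraMap A H)) →+*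
          (H ⧸ I.map (algebraMap A H))) =
          (I.map (algebraMap A H)).map (Ideal.Quotient.mk _) := by
        ext x
        obtain ⟨y, rfl⟩ := Ideal.Quotient.mk_surjective x
        rw [RingHom.mem_ker]
        show Ideal.Quotient.factor hle1 (Ideal.Quotient.mk _ y) = 0 ↔ _
        rw [Ideal.Quotient.factor_mk, Ideal.Quotient.eq_zero_iff_mem,
          Ideal.mem_map_iff_of_surjective _ Ideal.Quotient.mk_surjective]
        constructor
        · intro hy
          exact ⟨y, hy, rfl⟩
        · rintro ⟨z, hz, hzy⟩
          rw [Ideal.Quotient.eq] at hzy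
          have := (I.map (algebraMap A H)).sub_mem hz (hle1 hzy)
          rwa [sub_sub_cancel] at this
      rw [h1, ← Ideal.map_pow, ← Ideal.map_pow, Ideal.zero_eq_bot, eq_bot_iff,
        Ideal.map_le_iff_le_comap]
      intro y hy
      rw [Ideal.mem_comap, Ideal.mem_bot, Ideal.Quotient.eq_zero_iff_mem]
      exact hy
    -- the inverse of `φ` modulo `I`
    let φb : (H ⧸ I.map (algebraMap A H)) →ₐ[A] (B ⧸ I.map (algebraMap A B)) :=
      Ideal.quotientMapₐ (I.map (algebraMap A B)) φ (fun y hy => hφI y hy)
    have hφb : ∀ x, φb (Ideal.Quotient.mk _ x) = Ideal.Quotient.mk _ (φ x) := fun x => rfl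
    have hφbbij : Function.Bijective φb := by
      constructor
      · rw [injective_iff_map_eq_zero]
        intro q hq
        obtain ⟨x, rfl⟩ := Ideal.Quotient.mk_surjective q
        rw [hφb, Ideal.Quotient.eq_zero_iff_mem] at hq
        exact Ideal.Quotient.eq_zero_iff_mem.2 (hi x hq)
      · intro q
        obtain ⟨b, rfl⟩ := Ideal.Quotient.mk_surjective q
        obtain ⟨x, hx⟩ := hs b
        exact ⟨Ideal.Quotient.mk _ x, by rw [hφb, eq_comm, Ideal.Quotient.eq]; exact hx⟩
    let e := AlgEquiv.ofBijective φb hφbbij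
    let u : B →ₐ[A] (H ⧸ I.map (algebraMap A H)) :=
      (e.symm : (B ⧸ I.map (algebraMap A B)) →ₐ[A] (H ⧸ I.map (algebraMap A H))).comp
        (Ideal.Quotient.mkₐ A _)
    obtain ⟨v, hv⟩ := hL _ _ hE hC p hp hnil u
    have hcomp : v.comp φ = Ideal.Quotient.mkₐ A ((I ^ n).map (algebraMap A H)) := by
      apply hU _ _ hE hC p hp hnil
      ext x
      show p (v (φ x)) = p (Ideal.Quotient.mk _ x)
      have h1 : p (v (φ x)) = u (φ x) := DFunLike.congr_fun hv (φ x)
      rw [h1]
      show e.symm (Ideal.Quotient.mk _ (φ x)) = Ideal.Quotient.factor hle1 (Ideal.Quotient.mk _ x)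
      rw [Ideal.Quotient.factor_mk, AlgEquiv.symm_apply_eq]
      rfl
    intro x hx
    have h1 : v (φ x) = Ideal.Quotient.mk _ x := DFunLike.congr_fun hcomp x
    rw [show φ x = 0 from hx, map_zero] at h1
    exact Ideal.Quotient.eq_zero_iff_mem.1 h1.symm
  refine ⟨R, inferInstance, inferInstance, H, inferInstance, inferInstance, inferInstance,
    inferInstance, hR, hH, φ, hφsurj, hfg, hker⟩

end Groth.Agent.S17598
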