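import Mathlib
import Groth.Agent.H11.PairUP
import Groth.Agent.S17598
import Groth.Statements.S17600

set_option autoImplicit false
universe u
open Hensel

namespace Groth.Agent.S17600

/-- Let (A, I) be a Henselian pair and let B be a Henselization of the pair (R₀, IR₀) for a finitely
presented A-algebra R₀ (so A → B is Henselian finitely presented). If B is flat over A and A/I^r →
B/I^rB is étale for every r ≥ 1 (the h-formally étale property, in its equivalent form for Henselian
finitely presented maps), then A → B is h-étale: there is an étale A-algebra R, with an R-algebra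
structure on B compatible with that of A, such that B is a Henselization of the pair (R, IR). -/
theorem result (A : Type u) [CommRing A] (I : Ideal A)
    [HenselianRing A I] (R₀ : Type u) [CommRing R₀] [Algebra A R₀] [Algebra.FinitePresentation A R₀]
    (B : Type u) [CommRing B] [Algebra R₀ B] [Algebra A B] [IsScalarTower A R₀ B]
    (hB : Hens2.IsPairHenselization R₀ (I.map (algebraMap A R₀)) B) [Module.Flat A B]
    (het : ∀ r : ℕ, 1 ≤ r → Algebra.Etale (A ⧸ I ^ r) (B ⧸ (I ^ r).map (algebraMap A B))) :
    ∃ (R : Type u) (_ : CommRing R) (_ : Algebra A R) (_ : Algebra R B) (_ : IsScalarTower A R B),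
      Algebra.Etale A R ∧ Hens2.IsPairHenselization R (I.map (algebraMap A R)) B := by

  classical
  obtain ⟨R, _, _, H, _, _, _, _, hR, hH, φ, hφs, hfg, hker⟩ :=
    Groth.Agent.S17598.result A I R₀ B hB het
  have hK1 : RingHom.ker φ ≤ I.map (algebraMap A H) := by
    have := hker 1
    rwa [pow_one] at this
  have hflat := LinearMap.ker_inf_smul_top_eq_smul_of_flat I φ.toLinearMap hφs
  have hKle : RingHom.ker φ ≤ (I.map (algebraMap A H)) • RingHom.ker φ := by
    intro x hx
    have h0 : x ∈ (I • (⊤ : Submodule A H)) := by
      rw [Ideal.smul_top_eq_map]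
      exact hK1 hx
    have h1 : x ∈ LinearMap.ker φ.toLinearMap ⊓ I • (⊤ : Submodule A H) := ⟨hx, h0⟩
    rw [hflat] at h1
    refine Submodule.smul_induction_on h1 ?_ ?_
    · intro a ha k hk
      have hak : a • k = algebraMap A H a * k := Algebra.smul_def a k
      rw [hak, smul_eq_mul]
      exact Ideal.mul_mem_mul (Ideal.mem_map_of_mem _ ha) hk
    · intro x y hx hy
      exact Ideal.add_mem _ hx hy
  have hjac : I.map (algebraMap A H) ≤ Ideal.jacobson ⊥ := by
    have := hH.1.jac
    rwa [Ideal.map_map, ← IsScalarTower.algebraMap_eq] at this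
  have hK0 : RingHom.ker φ = ⊥ :=
    Submodule.eq_bot_of_le_smul_of_le_jacobson_bot _ (RingHom.ker φ) hfg hKle hjac
  have hinj : Function.Injective φ := (RingHom.injective_iff_ker_eq_bot _).2 hK0
  let e : H ≃+* B := RingEquiv.ofBijective φ ⟨hinj, hφs⟩
  letI : Algebra R B := ((φ : H →+* B).comp (algebraMap R H)).toAlgebra
  haveI : IsScalarTower A R B := IsScalarTower.of_algebraMap_eq (fun a => by
    show algebraMap A B a = φ (algebraMap R H (algebraMap A R a))
    rw [← IsScalarTower.algebraMap_apply A R H, φ.commutes])
  exact ⟨R, inferInstance, inferInstance, inferInstance, inferInstance, hR,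
    H11.PH.isPairHenselization_of_ringEquiv_target e rfl hH⟩

end Groth.Agent.S17600
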