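import Mathlib
import Groth.Agent.H11.PairEt
import Groth.Statements.S17604

set_option autoImplicit false
universe u
open Hensel

namespace Groth.Agent.S17604

/-- Let (A, I) be a Henselian pair, R and R' étale A-algebras, and B, B' Henselizations of the pairs (R,
IR), (R', IR') with their induced A-algebra structures (so B and B' are h-étale over A). Then
reduction modulo I is a bijection from A-algebra maps B → B' to A-algebra maps B/IB → B'/IB': two
A-algebra maps B → B' that agree modulo IB' are equal, and every A-algebra map B/IB → B'/IB' is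
induced by an A-algebra map B → B'. -/
theorem result (A : Type u) [CommRing A]
    (I : Ideal A) [HenselianRing A I]
    (R : Type u) [CommRing R] [Algebra A R] [Algebra.Etale A R]
    (B : Type u) [CommRing B] [Algebra R B] [Algebra A B] [IsScalarTower A R B]
    (hB : Hens2.IsPairHenselization R (I.map (algebraMap A R)) B)
    (R' : Type u) [CommRing R'] [Algebra A R'] [Algebra.Etale A R']
    (B' : Type u) [CommRing B'] [Algebra R' B'] [Algebra A B'] [IsScalarTower A R' B']
    (hB' : Hens2.IsPairHenselization R' (I.map (algebraMap A R')) B') :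
    (∀ φ ψ : B →ₐ[A] B', (∀ b : B, φ b - ψ b ∈ I.map (algebraMap A B')) → φ = ψ) ∧
    ∀ χ : (B ⧸ I.map (algebraMap A B)) →ₐ[A] (B' ⧸ I.map (algebraMap A B')),
      ∃ φ : B →ₐ[A] B', ∀ b : B,
        Ideal.Quotient.mk (I.map (algebraMap A B')) (φ b) = χ (Ideal.Quotient.mk (I.map (algebraMap A B)) b) := by
  classical
  have hmapB' : (I.map (algebraMap A R')).map (algebraMap R' B') = I.map (algebraMap A B') := by
    rw [Ideal.map_map, ← IsScalarTower.algebraMap_eq]
  have hHB' : HenselianRing B' (I.map (algebraMap A B')) := hmapB' ▸ hB'.1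
  let ιR : R →ₐ[A] B := IsScalarTower.toAlgHom A R B
  refine ⟨fun φ ψ h => ?_, fun χ => ?_⟩
  · have h1 : φ.comp ιR = ψ.comp ιR :=
      Groth.Agent.H11.PH.algHom_ext_of_etale _ hHB' _ _ (fun r => h (ιR r))
    have hle : (I.map (algebraMap A R)).map ((φ.comp ιR : R →ₐ[A] B') : R →+* B') ≤
        I.map (algebraMap A B') := by
      rw [Ideal.map_map]
      have : ((φ.comp ιR : R →ₐ[A] B') : R →+* B').comp (algebraMap A R) = algebraMap A B' := by
        ext a
        exact (φ.comp ιR).commutes a
      rw [this]
    obtain ⟨g, -, huniq⟩ := hB.2 B' (I.map (algebraMap A B'))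
      ((φ.comp ιR : R →ₐ[A] B') : R →+* B') hHB' hle
    have e1 : (φ : B →+* B') = g := huniq _ (by ext r; rfl)
    have e2 : (ψ : B →+* B') = g := huniq _ (by
      ext r
      exact (DFunLike.congr_fun h1 r).symm)
    ext b
    exact RingHom.congr_fun (e1.trans e2.symm) b
  · let σ : R →ₐ[A] B' ⧸ I.map (algebraMap A B') :=
      (χ.comp (Ideal.Quotient.mkₐ A _)).comp ιR
    obtain ⟨τ, hτ⟩ := Groth.Agent.H11.PH.exists_algHom_lift_of_etale _ hHB' σ
    have hle : (I.map (algebraMap A R)).map (τ : R →+* B') ≤ I.map (algebraMap A B') := by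
      rw [Ideal.map_map]
      have : (τ : R →+* B').comp (algebraMap A R) = algebraMap A B' := by
        ext a
        exact τ.commutes a
      rw [this]
    obtain ⟨g, hg, -⟩ := hB.2 B' _ (τ : R →+* B') hHB' hle
    let φ : B →ₐ[A] B' := { g with
      commutes' := fun a => by
        show g (algebraMap A B a) = _
        rw [IsScalarTower.algebraMap_apply A R B, ← RingHom.comp_apply, hg]
        exact τ.commutes a }
    refine ⟨φ, ?_⟩
    have hbot := Groth.Agent.H11.PH.henselianRing_bot (B' ⧸ I.map (algebraMap A B'))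
    have hle2 : (I.map (algebraMap A R)).map (σ : R →+* B' ⧸ I.map (algebraMap A B')) ≤ ⊥ := by
      rw [Ideal.map_map, Ideal.map_le_iff_le_comap]
      intro i hi
      rw [Ideal.mem_comap, Ideal.mem_bot]
      show σ (algebraMap A R i) = 0
      rw [σ.commutes, IsScalarTower.algebraMap_apply A B' (B' ⧸ _), Ideal.Quotient.algebraMap_eq,
        Ideal.Quotient.eq_zero_iff_mem]
      exact Ideal.mem_map_of_mem _ hi
    obtain ⟨g2, -, huniq2⟩ := hB.2 _ ⊥ (σ : R →+* B' ⧸ I.map (algebraMap A B')) hbot hle2
    have e1 : ((Ideal.Quotient.mk (I.map (algebraMap A B'))).comp g) = g2 := huniq2 _ (by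
      ext r
      have hgr : g (algebraMap R B r) = τ r := RingHom.congr_fun hg r
      show Ideal.Quotient.mk _ (g (algebraMap R B r)) = σ r
      rw [hgr]
      exact DFunLike.congr_fun hτ r)
    have e2 : ((χ : (B ⧸ I.map (algebraMap A B)) →+* (B' ⧸ I.map (algebraMap A B'))).comp
        (Ideal.Quotient.mk (I.map (algebraMap A B)))) = g2 := huniq2 _ (by
      ext r
      rfl)
    intro b
    exact RingHom.congr_fun (e1.trans e2.symm) b

end Groth.Agent.S17604
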