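import Groth.Statements.S17605
import Mathlib

set_option autoImplicit false
universe u
open Hensel

namespace Groth.Agent.S17605

/-- Let A be a ring with an ideal I and let f₁, f₂ be elements of A such that D(f₂) ∩ V(I) ⊆ D(f₁) ∩
V(I) in Spec A. If H₁ is a Henselization of the pair (A_{f₁}, IA_{f₁}) and H₂ a Henselization of the
pair (A_{f₂}, IA_{f₂}), with their induced A-algebra structures, then there is exactly one A-algebra
map H₁ → H₂. -/
theorem result (A : Type u) [CommRing A]
    (I : Ideal A) (f₁ f₂ : A)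
    (h : (PrimeSpectrum.basicOpen f₂ : Set (PrimeSpectrum A)) ∩ PrimeSpectrum.zeroLocus (I : Set A) ⊆
      (PrimeSpectrum.basicOpen f₁ : Set (PrimeSpectrum A)) ∩ PrimeSpectrum.zeroLocus (I : Set A))
    (H₁ : Type u) [CommRing H₁] [Algebra (Localization.Away f₁) H₁] [Algebra A H₁]
    [IsScalarTower A (Localization.Away f₁) H₁]
    (hH₁ : Hens2.IsPairHenselization (Localization.Away f₁)
      (I.map (algebraMap A (Localization.Away f₁))) H₁)
    (H₂ : Type u) [CommRing H₂] [Algebra (Localization.Away f₂) H₂] [Algebra A H₂]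
    [IsScalarTower A (Localization.Away f₂) H₂]
    (hH₂ : Hens2.IsPairHenselization (Localization.Away f₂)
      (I.map (algebraMap A (Localization.Away f₂))) H₂) :
    Nonempty (H₁ →ₐ[A] H₂) ∧ Subsingleton (H₁ →ₐ[A] H₂) := by
  obtain ⟨hhens₁, huniv₁⟩ := hH₁
  obtain ⟨hhens₂, -⟩ := hH₂
  have htower₂ : algebraMap A H₂ = (algebraMap (Localization.Away f₂) H₂).comp
      (algebraMap A (Localization.Away f₂)) :=
    IsScalarTower.algebraMap_eq A (Localization.Away f₂) H₂
  have htower₁ : algebraMap A H₁ = (algebraMap (Localization.Away f₁) H₁).comp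
      (algebraMap A (Localization.Away f₁)) :=
    IsScalarTower.algebraMap_eq A (Localization.Away f₁) H₁
  have hJ : (I.map (algebraMap A (Localization.Away f₂))).map
      (algebraMap (Localization.Away f₂) H₂) = I.map (algebraMap A H₂) := by
    rw [Ideal.map_map, ← htower₂]
  have hunit : IsUnit (algebraMap A H₂ f₁) := by
    by_contra hnu
    obtain ⟨m, hm, hmem⟩ := exists_max_ideal_of_mem_nonunits hnu
    have hjac : I.map (algebraMap A H₂) ≤ m := by
      rw [← hJ]
      refine le_trans hhens₂.jac ?_
      exact sInf_le ⟨bot_le, hm⟩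
    have := hm.isPrime
    let q : PrimeSpectrum A := ⟨m.comap (algebraMap A H₂), inferInstance⟩
    have hq : q ∈ (PrimeSpectrum.basicOpen f₂ : Set (PrimeSpectrum A)) ∩
        PrimeSpectrum.zeroLocus (I : Set A) := by
      constructor
      · show f₂ ∉ q.asIdeal
        intro hf₂
        have hf₂' : algebraMap A H₂ f₂ ∈ m := hf₂
        have hu : IsUnit (algebraMap A H₂ f₂) := by
          rw [htower₂, RingHom.comp_apply]
          exact (IsLocalization.Away.algebraMap_isUnit f₂).map _
        exact hm.ne_top (Ideal.eq_top_of_isUnit_mem _ hf₂' hu)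
      · rw [PrimeSpectrum.mem_zeroLocus]
        intro a ha
        show algebraMap A H₂ a ∈ m
        exact hjac (Ideal.mem_map_of_mem _ ha)
    have h1 : f₁ ∉ q.asIdeal := (h hq).1
    exact h1 hmem
  let φ : Localization.Away f₁ →+* H₂ := IsLocalization.Away.lift f₁ hunit
  have hφ : φ.comp (algebraMap A (Localization.Away f₁)) = algebraMap A H₂ :=
    IsLocalization.Away.lift_comp f₁ hunit
  have hle : (I.map (algebraMap A (Localization.Away f₁))).map φ ≤
      (I.map (algebraMap A (Localization.Away f₂))).map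
        (algebraMap (Localization.Away f₂) H₂) := by
    rw [Ideal.map_map, hφ, hJ]
  obtain ⟨g, hg, hguniq⟩ := huniv₁ H₂ _ φ hhens₂ hle
  refine ⟨⟨{ toRingHom := g, commutes' := ?_ }⟩, ⟨?_⟩⟩
  · intro a
    show g (algebraMap A H₁ a) = algebraMap A H₂ a
    rw [htower₁, RingHom.comp_apply, ← RingHom.comp_apply g, hg, ← RingHom.comp_apply φ, hφ]
  · intro g₁ g₂
    have key : ∀ g' : H₁ →ₐ[A] H₂, (g' : H₁ →+* H₂) = g := by
      intro g'
      apply hguniq
      apply IsLocalization.ringHom_ext (Submonoid.powers f₁)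
      rw [RingHom.comp_assoc, ← htower₁, hφ]
      exact g'.comp_algebraMap
    apply AlgHom.coe_ringHom_injective
    rw [key g₁, key g₂]

end Groth.Agent.S17605
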