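import Mathlib
import Groth.Agent.H11.PairFP
import Groth.Statements.S17608

set_option autoImplicit false
universe u
open Hensel

namespace Groth.Agent.S17608

/-- Let (A, I) be a Henselian pair, let B be a Henselization of the pair (R, IR) for a finitely
presented A-algebra R, and let C be a Henselization of the pair (S, IS) for a finitely presented
B-algebra S, all algebra structures being compatible (so A → B and B → C are Henselian finitely
presented maps of Henselian pairs). Then the composite A → C is Henselian finitely presented: there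
are a finitely presented A-algebra T and a T-algebra structure on C compatible with that of A for
which C is a Henselization of the pair (T, IT). -/
theorem result (A : Type u) [CommRing A] (I : Ideal A) [HenselianRing A I]
    (R : Type u) [CommRing R] [Algebra A R] [Algebra.FinitePresentation A R]
    (B : Type u) [CommRing B] [Algebra R B] [Algebra A B] [IsScalarTower A R B]
    (hB : Hens2.IsPairHenselization R (I.map (algebraMap A R)) B)
    (S : Type u) [CommRing S] [Algebra B S] [Algebra A S] [IsScalarTower A B S] [Algebra.FinitePresentation B S]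
    (C : Type u) [CommRing C] [Algebra S C] [Algebra B C] [Algebra A C] [IsScalarTower B S C]
    [IsScalarTower A B C]
    (hC : Hens2.IsPairHenselization S (I.map (algebraMap A S)) C) :
    ∃ (T : Type u) (_ : CommRing T) (_ : Algebra A T) (_ : Algebra T C) (_ : IsScalarTower A T C),
      Algebra.FinitePresentation A T ∧ Hens2.IsPairHenselization T (I.map (algebraMap A T)) C := by
  classical
  obtain ⟨m, π, hπ, hker⟩ := (Algebra.FinitePresentation.out :
    ∃ (m : ℕ) (π : MvPolynomial (Fin m) B →ₐ[B] S), Function.Surjective π ∧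
      (RingHom.ker π.toRingHom).FG)
  obtain ⟨G, hG⟩ := hker
  obtain ⟨R', _, _, _, h, θ, hθ⟩ :=
    Groth.Agent.H11.PH.exists_nbhd_of_finset hB (G.biUnion (fun p => p.coeffs))
  have hrange : ∀ p ∈ G, ∃ q : MvPolynomial (Fin m) R', MvPolynomial.map (θ : R' →+* B) q = p := by
    intro p hp
    have : p ∈ Set.range (MvPolynomial.map (θ : R' →+* B)) := by
      rw [MvPolynomial.mem_range_map_iff_coeffs_subset]
      intro c hc
      exact hθ c (Finset.mem_biUnion.2 ⟨p, hp, hc⟩)
    exact this
  let pre : MvPolynomial (Fin m) B → MvPolynomial (Fin m) R' := fun p =>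
    if h : ∃ q : MvPolynomial (Fin m) R', MvPolynomial.map (θ : R' →+* B) q = p then h.choose else 0
  have hpre : ∀ p ∈ G, MvPolynomial.map (θ : R' →+* B) (pre p) = p := by
    intro p hp
    have hex := hrange p hp
    simp only [pre, dif_pos hex]
    exact hex.choose_spec
  letI algAR' : Algebra A R' := ((algebraMap R R').comp (algebraMap A R)).toAlgebra
  haveI : IsScalarTower A R R' := IsScalarTower.of_algebraMap_eq (fun _ => rfl)
  have hθA : ∀ a : A, θ (algebraMap A R' a) = algebraMap A B a := by
    intro a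
    show θ (algebraMap R R' (algebraMap A R a)) = _
    rw [θ.commutes, ← IsScalarTower.algebraMap_apply]
  let 𝔱 : Ideal (MvPolynomial (Fin m) R') := Ideal.span ((G.image pre : Finset _) : Set _)
  let ρ : MvPolynomial (Fin m) R' →+* S := π.toRingHom.comp (MvPolynomial.map (θ : R' →+* B))
  have hρ : ∀ q, ρ q = π (MvPolynomial.map (θ : R' →+* B) q) := fun _ => rfl
  have hπG : ∀ p ∈ G, π p = 0 := by
    intro p hp
    have : p ∈ RingHom.ker π.toRingHom := hG ▸ Ideal.subset_span (Finset.mem_coe.2 hp)
    exact this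
  have hkill : ∀ x ∈ 𝔱, ρ x = 0 := by
    intro x hx
    have hle : 𝔱 ≤ RingHom.ker ρ := by
      rw [Ideal.span_le]
      intro y hy
      simp only [Finset.coe_image, Set.mem_image, Finset.mem_coe] at hy
      obtain ⟨p, hp, rfl⟩ := hy
      show ρ (pre p) = 0
      rw [hρ, hpre p hp, hπG p hp]
    exact hle hx
  let ρb : (MvPolynomial (Fin m) R' ⧸ 𝔱) →+* S := Ideal.Quotient.lift 𝔱 ρ hkill
  have hρb : ∀ q, ρb (Ideal.Quotient.mk 𝔱 q) = ρ q := fun _ => rfl
  letI algTC : Algebra (MvPolynomial (Fin m) R' ⧸ 𝔱) C := ((algebraMap S C).comp ρb).toAlgebra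
  have halgTC : ∀ q, algebraMap (MvPolynomial (Fin m) R' ⧸ 𝔱) C (Ideal.Quotient.mk 𝔱 q) =
      algebraMap S C (ρ q) := fun _ => rfl
  have hAS : ∀ a : A, ρ (MvPolynomial.C (algebraMap A R' a)) = algebraMap A S a := by
    intro a
    rw [hρ, MvPolynomial.map_C]
    show π (MvPolynomial.C (θ (algebraMap A R' a))) = _
    rw [hθA, ← MvPolynomial.algebraMap_eq, π.commutes, ← IsScalarTower.algebraMap_apply]
  have hASC : ∀ a : A, algebraMap S C (algebraMap A S a) = algebraMap A C a := by
    intro a
    rw [IsScalarTower.algebraMap_apply A B S, ← IsScalarTower.algebraMap_apply B S C,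
      ← IsScalarTower.algebraMap_apply A B C]
  have halgAT : ∀ a : A, algebraMap A (MvPolynomial (Fin m) R' ⧸ 𝔱) a =
      Ideal.Quotient.mk 𝔱 (MvPolynomial.C (algebraMap A R' a)) := fun _ => rfl
  haveI towATC : IsScalarTower A (MvPolynomial (Fin m) R' ⧸ 𝔱) C :=
    by
      refine IsScalarTower.of_algebraMap_eq (R := A) (S := MvPolynomial (Fin m) R' ⧸ 𝔱) (A := C)
        (fun a => ?_)
      rw [halgAT, halgTC, hAS, hASC]
  haveI : Algebra.FinitePresentation A R' := Algebra.FinitePresentation.trans A R R'
  haveI : Algebra.FinitePresentation A (MvPolynomial (Fin m) R') :=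
    Algebra.FinitePresentation.trans A R' (MvPolynomial (Fin m) R')
  have hfp : Algebra.FinitePresentation A (MvPolynomial (Fin m) R' ⧸ 𝔱) :=
    Algebra.FinitePresentation.quotient ⟨G.image pre, rfl⟩
  refine ⟨MvPolynomial (Fin m) R' ⧸ 𝔱, inferInstance, inferInstance, algTC, towATC, hfp, ?_⟩
  constructor
  · have e1 : (I.map (algebraMap A (MvPolynomial (Fin m) R' ⧸ 𝔱))).map
        (algebraMap (MvPolynomial (Fin m) R' ⧸ 𝔱) C) = I.map (algebraMap A C) := by
      rw [Ideal.map_map, ← IsScalarTower.algebraMap_eq]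
    have e2 : (I.map (algebraMap A S)).map (algebraMap S C) = I.map (algebraMap A C) := by
      rw [Ideal.map_map]
      congr 1
      ext a
      exact hASC a
    rw [e1, ← e2]
    exact hC.1
  · intro D _ J f hD hJ
    letI : Algebra R' B := (θ : R' →+* B).toAlgebra
    haveI : IsScalarTower R R' B := IsScalarTower.of_algebraMap_eq (fun s => (θ.commutes s).symm)
    have hB' := Groth.Agent.H11.PH.isPairHenselization_of_isNbhd h hB
    let fR' : R' →+* D := f.comp ((Ideal.Quotient.mk 𝔱).comp MvPolynomial.C)
    have hfA : ∀ a : A, fR' (algebraMap A R' a) =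
        f (algebraMap A (MvPolynomial (Fin m) R' ⧸ 𝔱) a) := fun _ => rfl
    have hJ' : I.map (f.comp (algebraMap A (MvPolynomial (Fin m) R' ⧸ 𝔱))) ≤ J := by
      rw [← Ideal.map_map]
      exact hJ
    have hle : ((I.map (algebraMap A R)).map (algebraMap R R')).map fR' ≤ J := by
      rw [Ideal.map_map, Ideal.map_map]
      exact hJ'
    obtain ⟨β, hβ, hβuniq⟩ := hB'.2 D J fR' hD hle
    have hβθ : ∀ r, β (θ r) = fR' r := fun r => RingHom.congr_fun hβ r
    let x : Fin m → D := fun i => f (Ideal.Quotient.mk 𝔱 (MvPolynomial.X i))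
    let σ₀ : MvPolynomial (Fin m) B →+* D := MvPolynomial.eval₂Hom β x
    have key : σ₀.comp (MvPolynomial.map (θ : R' →+* B)) = f.comp (Ideal.Quotient.mk 𝔱) := by
      apply MvPolynomial.ringHom_ext
      · intro r
        show σ₀ (MvPolynomial.map (θ : R' →+* B) (MvPolynomial.C r)) = fR' r
        rw [MvPolynomial.map_C]
        show MvPolynomial.eval₂Hom β x (MvPolynomial.C (θ r)) = _
        rw [MvPolynomial.eval₂Hom_C, hβθ]
      · intro i
        show σ₀ (MvPolynomial.map (θ : R' →+* B) (MvPolynomial.X i)) = x i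
        rw [MvPolynomial.map_X]
        show MvPolynomial.eval₂Hom β x (MvPolynomial.X i) = _
        rw [MvPolynomial.eval₂Hom_X']
    have key' : ∀ q, σ₀ (MvPolynomial.map (θ : R' →+* B) q) = f (Ideal.Quotient.mk 𝔱 q) :=
      fun q => RingHom.congr_fun key q
    have hσ₀ : RingHom.ker π.toRingHom ≤ RingHom.ker σ₀ := by
      rw [← hG, Ideal.span_le]
      intro p hp
      show σ₀ p = 0
      rw [← hpre p hp, key']
      have : pre p ∈ 𝔱 := Ideal.subset_span (Finset.mem_coe.2 (Finset.mem_image_of_mem pre hp))
      rw [Ideal.Quotient.eq_zero_iff_mem.2 this, map_zero]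
    let σ : S →+* D := RingHom.liftOfSurjective π.toRingHom hπ ⟨σ₀, hσ₀⟩
    have hσ : σ.comp π.toRingHom = σ₀ := RingHom.liftOfSurjective_comp π.toRingHom hπ ⟨σ₀, hσ₀⟩
    have hσ' : ∀ p, σ (π p) = σ₀ p := fun p => RingHom.congr_fun hσ p
    have hσρ : ∀ q, σ (ρ q) = f (Ideal.Quotient.mk 𝔱 q) := by
      intro q
      rw [hρ, hσ', key']
    have hσA : σ.comp (algebraMap A S) = f.comp (algebraMap A (MvPolynomial (Fin m) R' ⧸ 𝔱)) := by
      ext a
      show σ (algebraMap A S a) = f (algebraMap A _ a)
      rw [← hAS, hσρ, halgAT]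
    have hle2 : (I.map (algebraMap A S)).map σ ≤ J := by
      rw [Ideal.map_map, hσA]
      exact hJ'
    obtain ⟨γ, hγ, hγuniq⟩ := hC.2 D J σ hD hle2
    refine ⟨γ, ?_, fun γ' hγ' => hγuniq γ' ?_⟩
    · refine RingHom.ext fun t => ?_
      obtain ⟨q, rfl⟩ := Ideal.Quotient.mk_surjective t
      show γ (algebraMap _ C (Ideal.Quotient.mk 𝔱 q)) = f (Ideal.Quotient.mk 𝔱 q)
      rw [halgTC, ← hσρ]
      exact RingHom.congr_fun hγ (ρ q)
    · show γ'.comp (algebraMap S C) = σ
      have hγ'q : ∀ q, γ' (algebraMap S C (ρ q)) = f (Ideal.Quotient.mk 𝔱 q) := by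
        intro q
        rw [← halgTC]
        exact RingHom.congr_fun hγ' _
      have hβ' : (γ'.comp (algebraMap S C)).comp (algebraMap B S) = β := by
        apply hβuniq
        refine RingHom.ext fun r => ?_
        show γ' (algebraMap S C (algebraMap B S (θ r))) = fR' r
        have : algebraMap B S (θ r) = ρ (MvPolynomial.C r) := by
          rw [hρ, MvPolynomial.map_C]
          show _ = π (MvPolynomial.C (θ r))
          rw [← MvPolynomial.algebraMap_eq, π.commutes]
        rw [this, hγ'q]
        rfl
      have h2 : (γ'.comp (algebraMap S C)).comp π.toRingHom = σ₀ := by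
        apply MvPolynomial.ringHom_ext
        · intro b
          show γ' (algebraMap S C (π (MvPolynomial.C b))) = σ₀ (MvPolynomial.C b)
          rw [← MvPolynomial.algebraMap_eq, π.commutes]
          show _ = MvPolynomial.eval₂Hom β x (MvPolynomial.C b)
          rw [MvPolynomial.eval₂Hom_C]
          exact RingHom.congr_fun hβ' b
        · intro i
          show γ' (algebraMap S C (π (MvPolynomial.X i))) = σ₀ (MvPolynomial.X i)
          have : π (MvPolynomial.X i) = ρ (MvPolynomial.X i) := by
            rw [hρ, MvPolynomial.map_X]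
          rw [this, hγ'q]
          show _ = MvPolynomial.eval₂Hom β x (MvPolynomial.X i)
          rw [MvPolynomial.eval₂Hom_X']
      rw [← hσ] at h2
      exact (RingHom.cancel_right hπ).1 h2

end Groth.Agent.S17608
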