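import Mathlib
import Groth.Agent.H11.PairEt
import Groth.Agent.H11.FormalTrunc
import Groth.Statements.S17611

set_option autoImplicit false
universe u
open Hensel

namespace Groth.Agent.S17611

/-- Let (A, I) be a Henselian pair and let B be a Henselization of the pair (R₀, IR₀) for a finitely
presented A-algebra R₀ (so A → B is a Henselian finitely presented map of Henselian pairs). Then A →
B is h-formally smooth, meaning that for all A-algebras E and C annihilated by some power I^N (N ≥
1), every surjective A-algebra map p : E → C with nilpotent kernel and every A-algebra map u : B →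
C, there is an A-algebra map v : B → E with p ∘ v = u, if and only if A/I^r → B/I^rB is smooth for
every r ≥ 1. (Test algebras E, C are taken in the universe of A.) -/
theorem result (A : Type u) [CommRing A] (I : Ideal A)
    [HenselianRing A I] (R₀ : Type u) [CommRing R₀] [Algebra A R₀] [Algebra.FinitePresentation A R₀]
    (B : Type u) [CommRing B] [Algebra R₀ B] [Algebra A B] [IsScalarTower A R₀ B]
    (hB : Hens2.IsPairHenselization R₀ (I.map (algebraMap A R₀)) B) :
    (∀ (E C : Type u) [CommRing E] [CommRing C] [Algebra A E] [Algebra A C] (N : ℕ), 1 ≤ N →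
        (I ^ N).map (algebraMap A E) = ⊥ → (I ^ N).map (algebraMap A C) = ⊥ →
        ∀ (p : E →ₐ[A] C), Function.Surjective p → (∃ M : ℕ, 1 ≤ M ∧ RingHom.ker p ^ M = ⊥) →
        ∀ u : B →ₐ[A] C, ∃ v : B →ₐ[A] E, p.comp v = u) ↔
    ∀ r : ℕ, 1 ≤ r → Algebra.Smooth (A ⧸ I ^ r) (B ⧸ (I ^ r).map (algebraMap A B)) := by
  have hfp : ∀ r : ℕ, Algebra.FinitePresentation (A ⧸ I ^ r)
      (B ⧸ (I ^ r).map (algebraMap A B)) := by
    intro r
    obtain ⟨e⟩ := Groth.Agent.H11.PH.nonempty_algEquiv_truncation (A := A) (I := I) hB r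
    haveI : Algebra.FinitePresentation (A ⧸ I ^ r) (TensorProduct A (A ⧸ I ^ r) R₀) :=
      Algebra.FinitePresentation.baseChange _
    haveI : Algebra.FinitePresentation (A ⧸ I ^ r) (R₀ ⧸ (I ^ r).map (algebraMap A R₀)) :=
      Algebra.FinitePresentation.equiv
        (Algebra.TensorProduct.quotIdealMapEquivQuotTensor R₀ (I ^ r)).symm
    exact Algebra.FinitePresentation.equiv e
  have hnil1 : ∀ {E C : Type u} [CommRing E] [CommRing C] [Algebra A E] [Algebra A C]
      (p : E →ₐ[A] C), IsNilpotent (RingHom.ker (p : E →+* C)) →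
      ∃ M : ℕ, 1 ≤ M ∧ RingHom.ker p ^ M = ⊥ := by
    intro E C _ _ _ _ p ⟨n, hn⟩
    rw [RingHom.ker_coe_toRingHom] at hn
    refine ⟨n + 1, by omega, ?_⟩
    rw [pow_succ, hn, Ideal.zero_eq_bot, Ideal.bot_mul]
  have hnil2 : ∀ {E C : Type u} [CommRing E] [CommRing C] [Algebra A E] [Algebra A C]
      (p : E →ₐ[A] C), (∃ M : ℕ, 1 ≤ M ∧ RingHom.ker p ^ M = ⊥) →
      IsNilpotent (RingHom.ker (p : E →+* C)) := by
    intro E C _ _ _ _ p ⟨M, _, hM⟩
    rw [RingHom.ker_coe_toRingHom]
    exact ⟨M, hM⟩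
  constructor
  · intro h r hr
    haveI := hfp r
    haveI : Algebra.FormallySmooth (A ⧸ I ^ r) (B ⧸ (I ^ r).map (algebraMap A B)) :=
      Groth.Agent.H11.FT.formallySmooth_of_liftK (fun E C _ _ _ _ hE hC p hp hnil u =>
        h E C r hr hE hC p hp (hnil1 p hnil) u)
    exact ⟨inferInstance, inferInstance⟩
  · intro h E C _ _ _ _ N hN hE hC p hp hM u
    haveI := h N hN
    exact Groth.Agent.H11.FT.liftK_of_formallySmooth (K := I ^ N) (B := B) E C hE hC p hp
      (hnil2 p hM) u

end Groth.Agent.S17611
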