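import Mathlib
import Groth.Agent.H11.DLFP
import Groth.Agent.H11.PairUP
import Groth.Statements.S17613

set_option autoImplicit false
universe u
open Hensel

namespace Groth.Agent.S17613

/-- Let (A, I) be a Henselian pair and let B be a Henselization of the pair (R₀, IR₀) for a finitely
presented A-algebra R₀ (so A → B is Henselian finitely presented). Let (R_a) be a directed system of
A-algebras with A-compatible transition maps such that each (R_a, IR_a) is a Henselian pair, and let
L be its direct limit with the induced A-algebra structure. Then the canonical map from the colimit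
of the Hom_A(B, R_a) to Hom_A(B, L) is bijective: every A-algebra map B → L factors through some
R_a, and two A-algebra maps B → R_a whose composites with R_a → L agree become equal after passing
to some R_b. (Index set in the universe of the rings.) -/
theorem result (A : Type u) [CommRing A] (I : Ideal A)
    [HenselianRing A I] (R₀ : Type u) [CommRing R₀] [Algebra A R₀] [Algebra.FinitePresentation A R₀]
    (B : Type u) [CommRing B] [Algebra R₀ B] [Algebra A B] [IsScalarTower A R₀ B]
    (hB : Hens2.IsPairHenselization R₀ (I.map (algebraMap A R₀)) B)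
    {κ : Type u} [Preorder κ] [IsDirectedOrder κ] [Nonempty κ]
    (Ra : κ → Type u) [∀ a, CommRing (Ra a)] [∀ a, Algebra A (Ra a)]
    [∀ a, HenselianRing (Ra a) (I.map (algebraMap A (Ra a)))]
    (t : ∀ a b : κ, a ≤ b → (Ra a →+* Ra b)) [DirectedSystem Ra (fun a b h => t a b h)]
    (ht : ∀ (a b : κ) (h : a ≤ b), (t a b h).comp (algebraMap A (Ra a)) = algebraMap A (Ra b))
    [Algebra A (DirectLimit Ra t)]
    (halg : ∀ (a : κ) (x : A), algebraMap A (DirectLimit Ra t) x =
      DirectLimit.Ring.of Ra t a (algebraMap A (Ra a) x)) :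
    (∀ χ : B →ₐ[A] DirectLimit Ra t, ∃ (a : κ) (φ : B →ₐ[A] Ra a),
        ∀ x : B, DirectLimit.Ring.of Ra t a (φ x) = χ x) ∧
    ∀ (a : κ) (φ ψ : B →ₐ[A] Ra a),
      (∀ x : B, DirectLimit.Ring.of Ra t a (φ x) = DirectLimit.Ring.of Ra t a (ψ x)) →
      ∃ (b : κ) (h : a ≤ b), ∀ x : B, t a b h (φ x) = t a b h (ψ x) := by
  classical
  let J : ∀ a, Ideal (Ra a) := fun a => I.map (algebraMap A (Ra a))
  have hJ : ∀ (a b : κ) (h : a ≤ b), (J a).map (t a b h) ≤ J b := by
    intro a b h
    show (I.map (algebraMap A (Ra a))).map (t a b h) ≤ I.map (algebraMap A (Ra b))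
    rw [Ideal.map_map, ht]
  have hofA : ∀ a, (DirectLimit.Ring.of Ra t a).comp (algebraMap A (Ra a)) =
      algebraMap A (DirectLimit Ra t) := by
    intro a
    ext x
    exact (halg a x).symm
  have hideal : Groth.Agent.H11.DL.colimIdeal Ra t J = I.map (algebraMap A (DirectLimit Ra t)) := by
    unfold Groth.Agent.H11.DL.colimIdeal
    have : ∀ a, (J a).map (DirectLimit.Ring.of Ra t a) = I.map (algebraMap A (DirectLimit Ra t)) := by
      intro a
      show (I.map (algebraMap A (Ra a))).map _ = _
      rw [Ideal.map_map, hofA]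
    simp only [this]
    exact iSup_const
  have hL : HenselianRing (DirectLimit Ra t) (I.map (algebraMap A (DirectLimit Ra t))) := by
    rw [← hideal]
    exact Groth.Agent.H11.DL.henselianRing_directLimit Ra t J hJ (fun a => inferInstance)
  let ιR : R₀ →ₐ[A] B := IsScalarTower.toAlgHom A R₀ B
  constructor
  · intro χ
    obtain ⟨b, ψ, hψ⟩ := Groth.Agent.H11.DL.exists_factor_of_fp Ra t ht halg R₀ (χ.comp ιR)
    have hle : (I.map (algebraMap A R₀)).map (ψ : R₀ →+* Ra b) ≤ I.map (algebraMap A (Ra b)) := by
      rw [Ideal.map_map]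
      have : (ψ : R₀ →+* Ra b).comp (algebraMap A R₀) = algebraMap A (Ra b) := by
        ext x
        exact ψ.commutes x
      rw [this]
    obtain ⟨φr, hφr, -⟩ := hB.2 (Ra b) (I.map (algebraMap A (Ra b))) (ψ : R₀ →+* Ra b)
      inferInstance hle
    have hφr' : ∀ r, φr (algebraMap R₀ B r) = ψ r := fun r => RingHom.congr_fun hφr r
    let φ : B →ₐ[A] Ra b :=
      { φr with
        commutes' := fun x => by
          show φr (algebraMap A B x) = _
          rw [IsScalarTower.algebraMap_apply A R₀ B, hφr', ψ.commutes] }
    refine ⟨b, φ, ?_⟩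
    have key : (DirectLimit.Ring.of Ra t b).comp φr = (χ : B →+* DirectLimit Ra t) := by
      apply Groth.Agent.H11.PH.ringHom_ext_of_isPairHenselization hB _ hL
      · rw [Ideal.map_map]
        have : (((DirectLimit.Ring.of Ra t b).comp φr).comp (algebraMap R₀ B)).comp
            (algebraMap A R₀) = algebraMap A (DirectLimit Ra t) := by
          ext x
          show DirectLimit.Ring.of Ra t b (φr (algebraMap R₀ B (algebraMap A R₀ x))) = _
          rw [hφr', ψ.commutes, halg b]
        rw [this]
      · ext r
        show DirectLimit.Ring.of Ra t b (φr (algebraMap R₀ B r)) = χ (algebraMap R₀ B r)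
        rw [hφr', hψ]
        rfl
    intro x
    exact RingHom.congr_fun key x
  · intro a φ ψ h
    obtain ⟨b, hab, hb⟩ := Groth.Agent.H11.DL.exists_eq_of_ft Ra t ht R₀ (φ.comp ιR) (ψ.comp ιR)
      (fun r => h (ιR r))
    refine ⟨b, hab, ?_⟩
    have key : (t a b hab).comp (φ : B →+* Ra a) = (t a b hab).comp (ψ : B →+* Ra a) := by
      apply Groth.Agent.H11.PH.ringHom_ext_of_isPairHenselization hB
        (I.map (algebraMap A (Ra b))) inferInstance
      · rw [Ideal.map_map]
        have : (((t a b hab).comp (φ : B →+* Ra a)).comp (algebraMap R₀ B)).comp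
            (algebraMap A R₀) = algebraMap A (Ra b) := by
          ext x
          show t a b hab (φ (algebraMap R₀ B (algebraMap A R₀ x))) = _
          rw [← IsScalarTower.algebraMap_apply A R₀ B, φ.commutes]
          exact RingHom.congr_fun (ht a b hab) x
        rw [this]
      · ext r
        exact hb r
    intro x
    exact RingHom.congr_fun key x

end Groth.Agent.S17613
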