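import Mathlib
import Groth.Agent.H11.PairNbhd
import Groth.Statements.S17616

set_option autoImplicit false
universe u
open Hensel

namespace Groth.Agent.S17616

/-- Let P be a property of ring maps (between rings in a fixed universe), and say that f : B → B' has P
at a prime q of B' if the composite B → B' → B'_g has P for some g ∉ q. Assume (i) for every
finitely presented f : B → B' the set of primes of B' at which f has P is ind-constructible in Spec
B', and f has P as soon as it has P at every prime; (ii) every étale ring map has P; (iii) for g : C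
→ C' and h : C' → C'', if h has P at a prime q of C'' and g has P at the inverse image of q in C',
then h ∘ g has P at q. Now suppose (A, I) is a Henselian pair, and take an A-algebra R of finite
presentation for which A → R has P at each prime of R that contains IR. Then there is an étale
R-algebra R' with R/IR → R'/IR' bijective such that A → R' has P. -/
theorem result
    (P : ∀ ⦃B B' : Type u⦄ [CommRing B] [CommRing B'], (B →+* B') → Prop)
    (PAt : ∀ ⦃B B' : Type u⦄ [CommRing B] [CommRing B'], (B →+* B') → Ideal B' → Prop)
    (hPAt : ∀ ⦃B B' : Type u⦄ [CommRing B] [CommRing B'] (f : B →+* B') (q : Ideal B'),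
      PAt f q ↔ ∃ g : B', g ∉ q ∧ P ((algebraMap B' (Localization.Away g)).comp f))
    (h₁ : ∀ ⦃B B' : Type u⦄ [CommRing B] [CommRing B'] (f : B →+* B'), f.FinitePresentation →
      ProCons.IsIndConstructible {q : PrimeSpectrum B' | PAt f q.asIdeal} ∧
        ((∀ q : PrimeSpectrum B', PAt f q.asIdeal) → P f))
    (h₂ : ∀ ⦃B B' : Type u⦄ [CommRing B] [CommRing B'] (f : B →+* B'), f.Etale → P f)
    (h₃ : ∀ ⦃C C' C'' : Type u⦄ [CommRing C] [CommRing C'] [CommRing C''] (g : C →+* C')
      (h : C' →+* C'') (q : Ideal C'') [q.IsPrime],
      PAt h q → PAt g (q.comap h) → PAt (h.comp g) q)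
    (A : Type u) [CommRing A] (I : Ideal A) [HenselianRing A I]
    (R : Type u) [CommRing R] [Algebra A R] [Algebra.FinitePresentation A R]
    (hR : ∀ (p : Ideal R) [p.IsPrime], I.map (algebraMap A R) ≤ p → PAt (algebraMap A R) p) :
    ∃ (R' : Type u) (_ : CommRing R') (_ : Algebra R R') (_ : Algebra A R') (_ : IsScalarTower A R R'),
      Algebra.Etale R R' ∧
      Function.Bijective (Ideal.quotientMap ((I.map (algebraMap A R)).map (algebraMap R R'))
        (algebraMap R R') Ideal.le_comap_map) ∧ P (algebraMap A R') := by

  classical
  set J : Ideal R := I.map (algebraMap A R) with hJ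
  set 𝔞 : Ideal R :=
    Ideal.span {g : R | P ((algebraMap R (Localization.Away g)).comp (algebraMap A R))} with h𝔞
  have htop : 𝔞 ⊔ J = ⊤ := by
    by_contra hne
    obtain ⟨p, hp, hle⟩ := Ideal.exists_le_maximal _ hne
    haveI := hp.isPrime
    have h1 := hR p (le_sup_right.trans hle)
    rw [hPAt] at h1
    obtain ⟨g, hg, hPg⟩ := h1
    exact hg (hle ((le_sup_left : 𝔞 ≤ 𝔞 ⊔ J) (Ideal.subset_span hPg)))
  obtain ⟨a, ha, j, hj, haj⟩ := Submodule.mem_sup.1 ((Ideal.eq_top_iff_one _).1 htop)
  have hetale : Algebra.Etale R (Localization.Away a) := Algebra.Etale.of_isLocalizationAway a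
  refine ⟨Localization.Away a, inferInstance, inferInstance, inferInstance, inferInstance,
    hetale, ?_, ?_⟩
  · refine (H11.PH.IsNbhd.self J).away a ?_
    rw [Algebra.algebraMap_self, Ideal.map_id]
    have : a - 1 = -j := by rw [← haj]; ring
    rw [this]
    exact J.neg_mem hj
  · have hfp : (algebraMap A (Localization.Away a)).FinitePresentation := by
      rw [RingHom.finitePresentation_algebraMap]
      haveI : Algebra.FinitePresentation R (Localization.Away a) := inferInstance
      exact Algebra.FinitePresentation.trans A R (Localization.Away a)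
    refine (h₁ (algebraMap A (Localization.Away a)) hfp).2 fun q => ?_
    rw [IsScalarTower.algebraMap_eq A R (Localization.Away a)]
    refine h₃ _ _ _ ?_ ?_
    · rw [hPAt]
      refine ⟨1, (Ideal.ne_top_iff_one _).1 q.isPrime.ne_top, h₂ _ ?_⟩
      refine RingHom.Etale.stableUnderComposition _ _ ?_ ?_
      · exact RingHom.etale_algebraMap.2 hetale
      · exact RingHom.etale_algebraMap.2
          (Algebra.Etale.of_isLocalizationAway (1 : Localization.Away a))
    · rw [hPAt]
      by_contra hcon
      push Not at hcon
      have hle : 𝔞 ≤ q.asIdeal.comap (algebraMap R (Localization.Away a)) := by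
        rw [h𝔞, Ideal.span_le]
        intro g hg
        by_contra hgq
        exact hcon g hgq hg
      have h1 : algebraMap R (Localization.Away a) a ∈ q.asIdeal := hle ha
      exact q.isPrime.ne_top (Ideal.eq_top_of_isUnit_mem _ h1
        (IsLocalization.Away.algebraMap_isUnit a))

end Groth.Agent.S17616
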