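import Mathlib
import Groth.Agent.H11.PairEt
import Groth.Statements.S17617

set_option autoImplicit false
universe u
open Hensel

namespace Groth.Agent.S17617

/-- Let (A, I) be a Henselian pair and let M' → M → M'' be A-linear maps with zero composite. Then M' →
M → M'' is exact if and only if for every prime ideal p of A containing I and every Henselization H
of the pair (A_p, IA_p), the sequence H ⊗_A M' → H ⊗_A M → H ⊗_A M'' is exact. (The modules H ⊗_A M
are the stalks at p of the sheaf associated to M on the affine Henselian scheme of (A, I), and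
exactness of a sequence of such sheaves is exactness at every stalk, so this is the statement that
the sequence of modules is exact exactly when the associated sequence of sheaves is.) -/
theorem result (A : Type u) [CommRing A]
    (I : Ideal A) [HenselianRing A I]
    (M' M M'' : Type u) [AddCommGroup M'] [Module A M'] [AddCommGroup M] [Module A M]
    [AddCommGroup M''] [Module A M''] (f : M' →ₗ[A] M) (g : M →ₗ[A] M'') (hfg : g.comp f = 0) :
    Function.Exact f g ↔
    ∀ (p : Ideal A) [p.IsPrime], I ≤ p →
      ∀ (H : Type u) [CommRing H] [Algebra (Localization.AtPrime p) H] [Algebra A H]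
        [IsScalarTower A (Localization.AtPrime p) H],
        Hens2.IsPairHenselization (Localization.AtPrime p)
          (I.map (algebraMap A (Localization.AtPrime p))) H →
        Function.Exact (f.baseChange H) (g.baseChange H) := by

  classical
  constructor
  · intro hex p _ hIp H _ _ _ _ hH
    haveI : Module.Flat (Localization.AtPrime p) H := H11.PH.flat_of_isPairHenselization hH
    haveI : Module.Flat A H := Module.Flat.trans A (Localization.AtPrime p) H
    exact Module.Flat.lTensor_exact H hex
  · intro hall x
    constructor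
    swap
    · rintro ⟨y, rfl⟩
      exact DFunLike.congr_fun hfg y
    intro hx
    by_contra hxN
    set N : Submodule A M := LinearMap.range f with hN
    set xb : M ⧸ N := N.mkQ x with hxb
    have hxb0 : xb ≠ 0 := by
      rw [hxb, Submodule.mkQ_apply, Ne, Submodule.Quotient.mk_eq_zero]
      exact hxN
    set T : A →ₗ[A] M ⧸ N := LinearMap.toSpanSingleton A (M ⧸ N) xb with hT
    set 𝔞 : Ideal A := LinearMap.ker T with h𝔞
    have h𝔞top : 𝔞 ≠ ⊤ := by
      intro h
      have h1 : (1 : A) ∈ 𝔞 := h ▸ Submodule.mem_top
      rw [h𝔞, LinearMap.mem_ker, hT, LinearMap.toSpanSingleton_apply, one_smul] at h1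
      exact hxb0 h1
    obtain ⟨m, hm, hle⟩ := Ideal.exists_le_maximal 𝔞 h𝔞top
    haveI := hm.isPrime
    have hIm : I ≤ m := (HenselianRing.jac (R := A) (I := I)).trans (sInf_le ⟨bot_le, hm⟩)
    set Ap := Localization.AtPrime m with hAp
    set IAp : Ideal Ap := I.map (algebraMap A Ap) with hIAp
    let H := H11.PH.PHens Ap IAp
    letI : Algebra A H := ((algebraMap Ap H).comp (algebraMap A Ap)).toAlgebra
    haveI : IsScalarTower A Ap H := IsScalarTower.of_algebraMap_eq (fun _ => rfl)
    have hH : Hens2.IsPairHenselization Ap IAp H := H11.PH.isPairHenselization_pHens Ap IAp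
    have hex := hall m hIm H hH
    haveI : Module.Flat Ap H := H11.PH.flat_of_isPairHenselization hH
    haveI : Module.Flat A H := Module.Flat.trans A Ap H
    -- the element `1 ⊗ x` is killed by `g`, hence comes from `H ⊗ M'`
    have h1 : (g.baseChange H) ((1 : H) ⊗ₜ[A] x) = 0 := by
      rw [LinearMap.baseChange_tmul, hx, TensorProduct.tmul_zero]
    obtain ⟨y, hy⟩ := (hex _).1 h1
    -- hence `1 ⊗ xb = 0`
    have h2 : (N.mkQ.lTensor H) ((1 : H) ⊗ₜ[A] x) = 0 := by
      have h3 : (N.mkQ.lTensor H) ((f.lTensor H) y) = 0 := by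
        rw [← LinearMap.comp_apply, ← LinearMap.lTensor_comp]
        have : N.mkQ.comp f = 0 := by
          ext z
          simp [hN]
        rw [this, LinearMap.lTensor_zero, LinearMap.zero_apply]
      have h4 : (f.lTensor H) y = (f.baseChange H) y := rfl
      rw [h4, hy] at h3
      exact h3
    rw [LinearMap.lTensor_tmul] at h2
    -- the injection `A/𝔞 → M/N`
    set ι : (A ⧸ 𝔞) →ₗ[A] M ⧸ N := Submodule.liftQ 𝔞 T le_rfl with hι
    have hιinj : Function.Injective ι := by
      rw [← LinearMap.ker_eq_bot, hι]
      exact Submodule.ker_liftQ_eq_bot _ _ _ le_rfl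
    have hιH : Function.Injective (ι.lTensor H) :=
      Module.Flat.lTensor_preserves_injective_linearMap ι hιinj
    have h5 : ((1 : H) ⊗ₜ[A] (Submodule.Quotient.mk (1 : A) : A ⧸ 𝔞)) = 0 := by
      apply hιH
      rw [LinearMap.lTensor_tmul, map_zero, hι, Submodule.liftQ_apply, hT,
        LinearMap.toSpanSingleton_apply, one_smul]
      exact h2
    -- the residue field
    have hIle : IAp ≤ IsLocalRing.maximalIdeal Ap := by
      rw [hIAp, Ideal.map_le_iff_le_comap]
      intro a ha
      rw [Ideal.mem_comap, IsLocalization.AtPrime.to_map_mem_maximal_iff Ap m]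
      exact hIm ha
    obtain ⟨ρ, -⟩ := (H11.PH.isNbhd_of_isPairHenselization hH).exists_retr
    let φ : H →ₐ[A] Ap ⧸ IsLocalRing.maximalIdeal Ap :=
      (Ideal.Quotient.factorₐ A hIle).comp (ρ.restrictScalars A)
    let θ : (A ⧸ 𝔞) →ₗ[A] Ap ⧸ IsLocalRing.maximalIdeal Ap :=
      Submodule.liftQ 𝔞 (Algebra.linearMap A (Ap ⧸ IsLocalRing.maximalIdeal Ap)) (by
        intro a ha
        rw [LinearMap.mem_ker, Algebra.linearMap_apply,
          IsScalarTower.algebraMap_apply A Ap (Ap ⧸ IsLocalRing.maximalIdeal Ap),
          Ideal.Quotient.algebraMap_eq, Ideal.Quotient.eq_zero_iff_mem,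
          IsLocalization.AtPrime.to_map_mem_maximal_iff Ap m]
        exact hle ha)
    let ψ := (LinearMap.mul' A (Ap ⧸ IsLocalRing.maximalIdeal Ap)).comp
      (TensorProduct.map φ.toLinearMap θ)
    have h6 : ψ ((1 : H) ⊗ₜ[A] (Submodule.Quotient.mk (1 : A) : A ⧸ 𝔞)) = 1 := by
      simp only [ψ, θ, LinearMap.comp_apply, TensorProduct.map_tmul, LinearMap.mul'_apply,
        AlgHom.toLinearMap_apply, map_one, Submodule.liftQ_apply, Algebra.linearMap_apply, mul_one]
    rw [h5, map_zero] at h6
    exact zero_ne_one h6

end Groth.Agent.S17617
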