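import Mathlib
import Groth.Agent.H11.HfpColim
import Groth.Statements.S17618

set_option autoImplicit false
universe u
open Hensel

namespace Groth.Agent.S17618

/-- Let (A, I) and (B, IB) be Henselian pairs with B an A-algebra. Assume that for every directed system
(R_a) of A-algebras with A-compatible transition maps such that each (R_a, IR_a) is a Henselian
pair, with direct limit L carrying the induced A-algebra structure, the canonical map from the
colimit of the Hom_A(B, R_a) to Hom_A(B, L) is bijective (every A-algebra map B → L factors through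
some R_a, and two A-algebra maps B → R_a with equal composites to L agree after passing to some
R_b). Then A → B is Henselian finitely presented: there are a finitely presented A-algebra R and an
R-algebra structure on B compatible with that of A for which B is a Henselization of the pair (R,
IR). (Index sets in the universe of the rings.) -/
theorem result (A : Type u) [CommRing A] (I : Ideal A)
    [HenselianRing A I] (B : Type u) [CommRing B] [Algebra A B]
    [HenselianRing B (I.map (algebraMap A B))]
    (h : ∀ (κ : Type u) [Preorder κ] [IsDirectedOrder κ] [Nonempty κ]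
      (Ra : κ → Type u) [∀ a, CommRing (Ra a)] [∀ a, Algebra A (Ra a)]
      [∀ a, HenselianRing (Ra a) (I.map (algebraMap A (Ra a)))]
      (t : ∀ a b : κ, a ≤ b → (Ra a →+* Ra b)) [DirectedSystem Ra (fun a b hab => t a b hab)],
      (∀ (a b : κ) (hab : a ≤ b), (t a b hab).comp (algebraMap A (Ra a)) = algebraMap A (Ra b)) →
      ∀ [Algebra A (DirectLimit Ra t)],
      (∀ (a : κ) (x : A), algebraMap A (DirectLimit Ra t) x =
        DirectLimit.Ring.of Ra t a (algebraMap A (Ra a) x)) →
      (∀ χ : B →ₐ[A] DirectLimit Ra t, ∃ (a : κ) (φ : B →ₐ[A] Ra a),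
          ∀ x : B, DirectLimit.Ring.of Ra t a (φ x) = χ x) ∧
      ∀ (a : κ) (φ ψ : B →ₐ[A] Ra a),
        (∀ x : B, DirectLimit.Ring.of Ra t a (φ x) = DirectLimit.Ring.of Ra t a (ψ x)) →
        ∃ (b : κ) (hab : a ≤ b), ∀ x : B, t a b hab (φ x) = t a b hab (ψ x)) :
    ∃ (R : Type u) (_ : CommRing R) (_ : Algebra A R) (_ : Algebra R B) (_ : IsScalarTower A R B),
      Algebra.FinitePresentation A R ∧ Hens2.IsPairHenselization R (I.map (algebraMap A R)) B := by

  classical
  have h' : H11.DL.HomColim A I B := by
    intro κ _ _ _ Ra _ _ _ t _ ht _ halg χ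
    exact (h κ Ra t ht halg).1 χ
  have hB : HenselianRing B (I.map (algebraMap A B)) := inferInstance
  obtain ⟨S, hS⟩ := H11.DL.exists_finset_surjective A I B hB h'
  have hker := H11.DL.ker_fg_of_homColim h' (MvPolynomial S A) hB
    (H11.DL.liftHOver hB (H11.DL.γ A B S)) hS
  obtain ⟨A', _, _, _, hn, 𝔟, h𝔟, θ, χ, hχ, hQ⟩ := H11.PH.exists_model_of_surjective
    (H11.DL.isPairHenselization_hOver A I (MvPolynomial S A))
    ((H11.DL.liftHOver hB (H11.DL.γ A B S) : H11.DL.HOver A I (MvPolynomial S A) →ₐ[A] B) :
      H11.DL.HOver A I (MvPolynomial S A) →+* B) hS hker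
  letI : Algebra A A' := ((algebraMap (MvPolynomial S A) A').comp
    (algebraMap A (MvPolynomial S A))).toAlgebra
  haveI : IsScalarTower A (MvPolynomial S A) A' := IsScalarTower.of_algebraMap_eq (fun _ => rfl)
  letI : Algebra (A' ⧸ 𝔟) B := χ.toAlgebra
  haveI : IsScalarTower A (A' ⧸ 𝔟) B := IsScalarTower.of_algebraMap_eq (fun a => by
    show algebraMap A B a = χ (algebraMap A (A' ⧸ 𝔟) a)
    rw [IsScalarTower.algebraMap_apply A A' (A' ⧸ 𝔟), Ideal.Quotient.algebraMap_eq, hχ,
      IsScalarTower.algebraMap_apply A (MvPolynomial S A) A', θ.commutes,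
      ← IsScalarTower.algebraMap_apply A (MvPolynomial S A)]
    exact ((H11.DL.liftHOver hB (H11.DL.γ A B S)).commutes a).symm)
  refine ⟨A' ⧸ 𝔟, inferInstance, inferInstance, inferInstance, inferInstance, ?_, ?_⟩
  · haveI : Algebra.FinitePresentation (MvPolynomial S A) A' := inferInstance
    haveI : Algebra.FinitePresentation A A' :=
      Algebra.FinitePresentation.trans A (MvPolynomial S A) A'
    exact Algebra.FinitePresentation.quotient h𝔟
  · have hid : ((I.map (algebraMap A (MvPolynomial S A))).map
        (algebraMap (MvPolynomial S A) A')).map (Ideal.Quotient.mk 𝔟) =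
        I.map (algebraMap A (A' ⧸ 𝔟)) := by
      rw [Ideal.map_map, Ideal.map_map]
      rfl
    rw [← hid]
    exact hQ

end Groth.Agent.S17618
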