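import Groth.Statements.S17620
import Mathlib

set_option autoImplicit false
universe u
open Hensel

namespace Groth.Agent.S17620

/-- Let R be a local ring and J an ideal of R contained in the maximal ideal, let H be a Henselization
of the pair (R, J) which is a local ring with local structure map R → H, and let S be a strict
Henselization of the local ring H. Then S, with its composite R-algebra structure, is a strict
Henselization of the local ring R. (This is the identification of the strict Henselization of the
local ring of a scheme at a point with that of the local ring of its Henselization along a closed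
subscheme through the point.) -/
theorem result
    (R : Type u) [CommRing R] [IsLocalRing R] (J : Ideal R) (hJ : J ≤ IsLocalRing.maximalIdeal R)
    (H : Type u) [CommRing H] [IsLocalRing H] [Algebra R H] [IsLocalHom (algebraMap R H)]
    (hH : Hens2.IsPairHenselization R J H)
    (S : Type u) [CommRing S] [IsLocalRing S] [Algebra H S] [IsLocalHom (algebraMap H S)]
    [Hensel.IsStrictHenselization H S]
    [Algebra R S] [IsScalarTower R H S] [IsLocalHom (algebraMap R S)] :
    Hensel.IsStrictHenselization R S := by
  obtain ⟨-, hunivH⟩ := hH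
  have hS : Hensel.IsStrictHenselization H S := inferInstance
  obtain ⟨JH, hJH⟩ : ∃ JH : Ideal H, JH = J.map (algebraMap R H) := ⟨_, rfl⟩
  have hJHle : JH ≤ IsLocalRing.maximalIdeal H := by
    rw [hJH, Ideal.map_le_iff_le_comap]
    intro x hx
    rw [Ideal.mem_comap]
    have hx' := hJ hx
    rw [IsLocalRing.mem_maximalIdeal, mem_nonunits_iff] at hx' ⊢
    intro hu
    exact hx' (isUnit_of_map_unit (algebraMap R H) x hu)
  have hbot : ∀ (C : Type u) [CommRing C], HenselianRing C (⊥ : Ideal C) := by
    intro C _
    exact ⟨bot_le, fun f _ a₀ h₀ _ =>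
      ⟨a₀, Ideal.mem_bot.mp h₀, by rw [sub_self]; exact Ideal.zero_mem _⟩⟩
  have hdecomp : ∀ a : H, ∃ r : R, a - algebraMap R H r ∈ JH := by
    obtain ⟨s, hs, -⟩ := hunivH (R ⧸ J) ⊥ (Ideal.Quotient.mk J) (hbot _) (by
      rw [Ideal.map_le_iff_le_comap]
      intro x hx
      rw [Ideal.mem_comap, Ideal.Quotient.eq_zero_iff_mem.mpr hx]
      exact Ideal.zero_mem _)
    obtain ⟨ψ, hψdef⟩ : ∃ ψ : R →+* H ⧸ JH,
      ψ = (Ideal.Quotient.mk JH).comp (algebraMap R H) := ⟨_, rfl⟩
    have hψ : ∀ x ∈ J, ψ x = 0 := by
      intro x hx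
      rw [hψdef, RingHom.comp_apply, hJH]
      exact Ideal.Quotient.eq_zero_iff_mem.mpr (Ideal.mem_map_of_mem _ hx)
    obtain ⟨t, ht, htuniq⟩ := hunivH (H ⧸ JH) ⊥ ψ (hbot _) (by
      rw [Ideal.map_le_iff_le_comap]
      intro x hx
      rw [Ideal.mem_comap, hψ x hx]
      exact Ideal.zero_mem _)
    have h1 : Ideal.Quotient.mk JH = t := htuniq _ hψdef.symm
    have h2 : (Ideal.Quotient.lift J ψ hψ).comp s = t := by
      apply htuniq
      rw [RingHom.comp_assoc, hs]
      ext x
      simp
    intro a
    obtain ⟨r, hr⟩ := Ideal.Quotient.mk_surjective (s a)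
    refine ⟨r, ?_⟩
    rw [← Ideal.Quotient.eq]
    calc Ideal.Quotient.mk JH a = t a := by rw [h1]
      _ = (Ideal.Quotient.lift J ψ hψ) (s a) := by rw [← h2]; rfl
      _ = (Ideal.Quotient.lift J ψ hψ) (Ideal.Quotient.mk J r) := by rw [hr]
      _ = Ideal.Quotient.mk JH (algebraMap R H r) := by
        rw [Ideal.Quotient.lift_mk, hψdef]; rfl
  have hres : ∀ (a : H) (r : R), a - algebraMap R H r ∈ JH →
      IsLocalRing.residue H a = IsLocalRing.residue H (algebraMap R H r) := by
    intro a r h
    exact Ideal.Quotient.eq.mpr (hJHle h)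
  refine { henselian := hS.henselian, isSepClosure := ?_, universal := ?_ }
  · have h1 := hS.isSepClosure
    refine ⟨h1.sep_closed, ?_⟩
    have hsep1 : Algebra.IsSeparable (IsLocalRing.ResidueField R) (IsLocalRing.ResidueField H) := by
      refine ⟨fun x => ?_⟩
      obtain ⟨a, rfl⟩ := IsLocalRing.residue_surjective x
      obtain ⟨r, hr⟩ := hdecomp a
      have e : IsLocalRing.residue H a = algebraMap (IsLocalRing.ResidueField R)
          (IsLocalRing.ResidueField H) (IsLocalRing.residue R r) := by
        rw [IsLocalRing.ResidueField.algebraMap_residue]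
        exact hres a r hr
      rw [e]
      exact isSeparable_algebraMap _
    have hsep2 := h1.separable
    exact Algebra.IsSeparable.trans _ (IsLocalRing.ResidueField H) _
  · intro T _ _ f _ τ hτ
    have hJf : J.map f ≤ IsLocalRing.maximalIdeal T := by
      rw [Ideal.map_le_iff_le_comap]
      intro x hx
      have hx' := hJ hx
      rw [Ideal.mem_comap]
      rw [IsLocalRing.mem_maximalIdeal, mem_nonunits_iff] at hx' ⊢
      exact fun hu => hx' (isUnit_of_map_unit f x hu)
    obtain ⟨f', hf', hf'uniq⟩ := hunivH T (IsLocalRing.maximalIdeal T) f inferInstance hJf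
    have hfr' : ∀ r, f' (algebraMap R H r) = f r := fun r => by rw [← hf']; rfl
    have hf'J : ∀ j ∈ JH, f' j ∈ IsLocalRing.maximalIdeal T := by
      intro j hj
      have hle : JH.map f' ≤ IsLocalRing.maximalIdeal T := by
        rw [hJH, Ideal.map_map, hf']; exact hJf
      exact hle (Ideal.mem_map_of_mem _ hj)
    have hloc : IsLocalHom f' := by
      constructor
      intro a ha
      by_contra hna
      have ham : a ∈ IsLocalRing.maximalIdeal H := hna
      obtain ⟨r, hr⟩ := hdecomp a
      have hrm : algebraMap R H r ∈ IsLocalRing.maximalIdeal H := by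
        have h3 := Ideal.sub_mem _ ham (hJHle hr)
        simpa using h3
      have hrR : r ∈ IsLocalRing.maximalIdeal R := by
        rw [IsLocalRing.mem_maximalIdeal, mem_nonunits_iff]
        intro hu
        exact (IsLocalRing.mem_maximalIdeal _).mp hrm (hu.map _)
      have hfr : f r ∈ IsLocalRing.maximalIdeal T := by
        rw [IsLocalRing.mem_maximalIdeal, mem_nonunits_iff]
        intro hu
        exact (IsLocalRing.mem_maximalIdeal _).mp hrR (isUnit_of_map_unit f r hu)
      have hfa : f' a ∈ IsLocalRing.maximalIdeal T := by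
        have e : f' a = f' (a - algebraMap R H r) + f r := by
          rw [map_sub, hfr']; ring
        rw [e]
        exact Ideal.add_mem _ (hf'J _ hr) hfr
      exact (IsLocalRing.mem_maximalIdeal _).mp hfa ha
    have hτ' : τ.comp (IsLocalRing.ResidueField.map (algebraMap H S)) =
        IsLocalRing.ResidueField.map f' := by
      refine RingHom.ext fun x => ?_
      obtain ⟨a, rfl⟩ := IsLocalRing.residue_surjective x
      obtain ⟨r, hr⟩ := hdecomp a
      rw [hres a r hr]
      have e2 := RingHom.congr_fun hτ (IsLocalRing.residue R r)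
      simp only [RingHom.comp_apply, IsLocalRing.ResidueField.map_residue] at e2 ⊢
      rw [hfr', ← IsScalarTower.algebraMap_apply]
      exact e2
    obtain ⟨g, ⟨hg1, hg2⟩, hguniq⟩ := hS.universal T f' τ hτ'
    refine ⟨g, ⟨?_, hg2⟩, ?_⟩
    · rw [IsScalarTower.algebraMap_eq R H S, ← RingHom.comp_assoc, hg1, hf']
    · rintro g₂ ⟨hg₂1, hg₂2⟩
      apply hguniq
      refine ⟨?_, hg₂2⟩
      apply hf'uniq
      rw [RingHom.comp_assoc, ← IsScalarTower.algebraMap_eq R H S, hg₂1]

end Groth.Agent.S17620
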