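import Groth.Statements.S17635
import Mathlib

set_option autoImplicit false
open Finset
open Variety

namespace Groth.Agent.S17635

noncomputable def N {r : ℕ} (v : Fin r → ℚ) : ℝ := ‖(fun j => ((v j : ℚ) : ℝ))‖

noncomputable def S (n : ℕ) (T D : ℝ) : ℝ :=
  (Finset.Icc 1 n).sum (fun q => T ^ (n - q) * D ^ q)

lemma N_nonneg {r : ℕ} (v : Fin r → ℚ) : 0 ≤ N v := norm_nonneg _

lemma S_nonneg (n : ℕ) {T D : ℝ} (hT : 0 ≤ T) (hD : 0 ≤ D) : 0 ≤ S n T D :=
  Finset.sum_nonneg (fun q _ => mul_nonneg (pow_nonneg hT _) (pow_nonneg hD _))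

lemma S_mono (n : ℕ) {T T' D D' : ℝ} (hT : 0 ≤ T) (hTT : T ≤ T') (hD : 0 ≤ D) (hDD : D ≤ D') :
    S n T D ≤ S n T' D' := by
  apply Finset.sum_le_sum
  intro q _
  exact mul_le_mul (pow_le_pow_left₀ hT hTT _) (pow_le_pow_left₀ hD hDD _) (pow_nonneg hD _)
    (pow_nonneg (hT.trans hTT) _)

lemma S_scale (n : ℕ) (M T D : ℝ) : S n (M * T) (M * D) = M ^ n * S n T D := by
  unfold S
  rw [Finset.mul_sum]
  apply Finset.sum_congr rfl
  intro q hq
  have hqn : q ≤ n := (Finset.mem_Icc.mp hq).2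
  have h1 : M ^ n = M ^ (n - q) * M ^ q := by rw [← pow_add, Nat.sub_add_cancel hqn]
  rw [mul_pow, mul_pow, h1]
  ring

lemma N_smul {r : ℕ} (m : ℕ) (v : Fin r → ℚ) : N ((m : ℚ) • v) = (m : ℝ) * N v := by
  have h : (fun j => ((((m : ℚ) • v) j : ℚ) : ℝ)) = (m : ℝ) • (fun j => ((v j : ℚ) : ℝ)) := by
    funext j
    simp [Pi.smul_apply]
  unfold N
  rw [h, norm_smul, Real.norm_eq_abs, abs_of_nonneg (Nat.cast_nonneg m)]

lemma coord_le_N {r : ℕ} (v : Fin r → ℚ) (i : Fin r) : |((v i : ℚ) : ℝ)| ≤ N v := by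
  have h := norm_le_pi_norm (fun j => ((v j : ℚ) : ℝ)) i
  rw [Real.norm_eq_abs] at h
  exact h

lemma N_le {r : ℕ} (v : Fin r → ℚ) {T : ℝ} (hT : 0 ≤ T) (h : ∀ j, |((v j : ℚ) : ℝ)| ≤ T) :
    N v ≤ T := by
  unfold N
  rw [pi_norm_le_iff_of_nonneg hT]
  intro j
  rw [Real.norm_eq_abs]
  exact h j

lemma step1 (r n : ℕ) (f : (Fin r → ℚ) → ℝ)
    (hhom : ∀ (q : ℚ) (v : Fin r → ℚ), 0 < q → f (q • v) = (q : ℝ) ^ n * f v)
    (i : Fin r) (Ci : ℝ)
    (hCi : ∀ (v : Fin r → ℚ) (b : ℕ), 1 ≤ b →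
      |f (v - (b : ℚ) • Pi.single i 1) - f v| ≤ Ci * S n (N v) (b : ℝ))
    (v : Fin r → ℚ) (β : ℚ) (hβ : 0 < β) :
    |f (v - β • Pi.single i 1) - f v| ≤ |Ci| * S n (N v) (β : ℝ) := by
  have hnum : 0 < β.num := Rat.num_pos.mpr hβ
  have ha : ((β.num.toNat : ℕ) : ℤ) = β.num := Int.toNat_of_nonneg hnum.le
  have ha1 : 1 ≤ β.num.toNat := by omega
  have hm : 0 < β.den := β.den_pos
  have hmq : (0 : ℚ) < (β.den : ℚ) := by exact_mod_cast hm
  have hkey : (β.den : ℚ) * β = (β.num.toNat : ℚ) := by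
    have h1 : β * (β.den : ℚ) = (β.num : ℚ) := Rat.mul_den_eq_num β
    have h2 : ((β.num.toNat : ℕ) : ℚ) = (β.num : ℚ) := by
      rw [← ha]
      push_cast
      rfl
    rw [h2, ← h1, mul_comm]
  have hv' : (β.den : ℚ) • v - (β.num.toNat : ℚ) • Pi.single i (1 : ℚ) =
      (β.den : ℚ) • (v - β • Pi.single i (1 : ℚ)) := by
    rw [smul_sub, smul_smul, hkey]
  have h1 := hCi ((β.den : ℚ) • v) β.num.toNat ha1
  rw [hv', hhom _ _ hmq, hhom _ _ hmq, N_smul] at h1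
  have haR : ((β.num.toNat : ℕ) : ℝ) = (β.den : ℝ) * (β : ℝ) := by
    have := congrArg (fun x : ℚ => (x : ℝ)) hkey
    simp only [Rat.cast_mul, Rat.cast_natCast] at this
    exact this.symm
  rw [haR, S_scale, Rat.cast_natCast] at h1
  have hM : (0 : ℝ) < (β.den : ℝ) ^ n := by
    apply pow_pos
    exact_mod_cast hm
  have hS : 0 ≤ S n (N v) (β : ℝ) := S_nonneg n (N_nonneg v) (by exact_mod_cast hβ.le)
  have h2 : (β.den : ℝ) ^ n * |f (v - β • Pi.single i 1) - f v| ≤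
      (β.den : ℝ) ^ n * (|Ci| * S n (N v) (β : ℝ)) := by
    calc (β.den : ℝ) ^ n * |f (v - β • Pi.single i 1) - f v|
        = |(β.den : ℝ) ^ n * f (v - β • Pi.single i 1) - (β.den : ℝ) ^ n * f v| := by
          rw [← mul_sub, abs_mul, abs_of_pos hM]
      _ ≤ Ci * ((β.den : ℝ) ^ n * S n (N v) (β : ℝ)) := h1
      _ ≤ |Ci| * ((β.den : ℝ) ^ n * S n (N v) (β : ℝ)) :=
          mul_le_mul_of_nonneg_right (le_abs_self Ci) (mul_nonneg hM.le hS)
      _ = (β.den : ℝ) ^ n * (|Ci| * S n (N v) (β : ℝ)) := by ring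
  exact le_of_mul_le_mul_left h2 hM

lemma main (r n : ℕ) (f : (Fin r → ℚ) → ℝ)
    (Cs : Fin r → ℝ) (hCs0 : ∀ i, 0 ≤ Cs i)
    (hCs : ∀ (i : Fin r) (v : Fin r → ℚ) (β : ℚ), 0 < β →
      |f (v - β • Pi.single i 1) - f v| ≤ Cs i * S n (N v) (β : ℝ))
    (v w : Fin r → ℚ) :
    |f v - f w| ≤ (∑ i, Cs i) * S n (max (N v) (N w)) (N (v - w)) := by
  classical
  set T := max (N v) (N w) with hTdef
  set D := N (v - w) with hDdef
  have hT0 : 0 ≤ T := le_trans (N_nonneg v) (le_max_left _ _)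
  have hD0 : 0 ≤ D := N_nonneg _
  let u : ℕ → Fin r → ℚ := fun k j => if (j : ℕ) < k then w j else v j
  have hu0 : u 0 = v := by
    funext j
    show (if (j : ℕ) < 0 then w j else v j) = v j
    rw [if_neg (Nat.not_lt_zero _)]
  have hur : u r = w := by
    funext j
    show (if (j : ℕ) < r then w j else v j) = w j
    rw [if_pos j.isLt]
  have huN : ∀ k, N (u k) ≤ T := by
    intro k
    apply N_le _ hT0
    intro j
    show |(((if (j : ℕ) < k then w j else v j) : ℚ) : ℝ)| ≤ T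
    by_cases hlt : (j : ℕ) < k
    · rw [if_pos hlt]
      exact (coord_le_N w j).trans (le_max_right _ _)
    · rw [if_neg hlt]
      exact (coord_le_N v j).trans (le_max_left _ _)
  have hu_succ : ∀ (k : ℕ) (hk : k < r),
      u (k + 1) = u k + (w ⟨k, hk⟩ - v ⟨k, hk⟩) • Pi.single (⟨k, hk⟩ : Fin r) (1 : ℚ) := by
    intro k hk
    funext j
    show (if (j : ℕ) < k + 1 then w j else v j) =
      (if (j : ℕ) < k then w j else v j) +
        (w ⟨k, hk⟩ - v ⟨k, hk⟩) • ((Pi.single (⟨k, hk⟩ : Fin r) (1 : ℚ) : Fin r → ℚ) j)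
    rw [Pi.single_apply, smul_eq_mul]
    by_cases hj : (j : ℕ) = k
    · have hji : (⟨k, hk⟩ : Fin r) = j := Fin.ext hj.symm
      rw [hji, if_pos (by omega), if_neg (by omega), if_pos rfl]
      ring
    · have hne : j ≠ (⟨k, hk⟩ : Fin r) := fun h => hj (by rw [h])
      rw [if_neg hne]
      by_cases hlt : (j : ℕ) < k
      · rw [if_pos (by omega), if_pos hlt]
        ring
      · rw [if_neg (by omega), if_neg hlt]
        ring
  have hcD : ∀ i : Fin r, |((w i - v i : ℚ) : ℝ)| ≤ D := by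
    intro i
    have h := coord_le_N (v - w) i
    have h2 : (((v - w) i : ℚ) : ℝ) = -((w i - v i : ℚ) : ℝ) := by
      rw [Pi.sub_apply]
      push_cast
      ring
    rw [h2, abs_neg] at h
    exact h
  have hstep : ∀ i : Fin r, |f (u ((i : ℕ) + 1)) - f (u (i : ℕ))| ≤ Cs i * S n T D := by
    intro i
    have hsucc := hu_succ (i : ℕ) i.isLt
    have hfin : (⟨(i : ℕ), i.isLt⟩ : Fin r) = i := Fin.ext rfl
    rw [hfin] at hsucc
    rcases lt_trichotomy (w i - v i) 0 with hc | hc | hc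
    · have hβ : 0 < -(w i - v i) := neg_pos.mpr hc
      have h1 := hCs i (u (i : ℕ)) (-(w i - v i)) hβ
      have h2 : u (i : ℕ) - (-(w i - v i)) • Pi.single i (1 : ℚ) = u ((i : ℕ) + 1) := by
        rw [hsucc, neg_smul, sub_neg_eq_add]
      rw [h2] at h1
      refine h1.trans (mul_le_mul_of_nonneg_left ?_ (hCs0 i))
      apply S_mono n (N_nonneg _) (huN _)
      · exact_mod_cast hβ.le
      · have h3 : ((-(w i - v i) : ℚ) : ℝ) = |((w i - v i : ℚ) : ℝ)| := by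
          rw [abs_of_neg (by exact_mod_cast hc)]
          push_cast
          ring
        rw [h3]
        exact hcD i
    · rw [hsucc, hc, zero_smul, add_zero, sub_self, abs_zero]
      exact mul_nonneg (hCs0 i) (S_nonneg n hT0 hD0)
    · have h1 := hCs i (u ((i : ℕ) + 1)) (w i - v i) hc
      have h2 : u ((i : ℕ) + 1) - (w i - v i) • Pi.single i (1 : ℚ) = u (i : ℕ) := by
        rw [hsucc, add_sub_cancel_right]
      rw [h2, abs_sub_comm] at h1
      refine h1.trans (mul_le_mul_of_nonneg_left ?_ (hCs0 i))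
      apply S_mono n (N_nonneg _) (huN _)
      · exact_mod_cast hc.le
      · have h3 : ((w i - v i : ℚ) : ℝ) = |((w i - v i : ℚ) : ℝ)| := by
          rw [abs_of_pos (by exact_mod_cast hc)]
        rw [h3]
        exact hcD i
  have htel : f w - f v = ∑ i : Fin r, (f (u ((i : ℕ) + 1)) - f (u (i : ℕ))) := by
    rw [Fin.sum_univ_eq_sum_range (fun k => f (u (k + 1)) - f (u k)) r,
      Finset.sum_range_sub (fun k => f (u k)) r, hu0, hur]
  rw [abs_sub_comm, htel]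
  calc |∑ i : Fin r, (f (u ((i : ℕ) + 1)) - f (u (i : ℕ)))|
      ≤ ∑ i : Fin r, |f (u ((i : ℕ) + 1)) - f (u (i : ℕ))| := Finset.abs_sum_le_sum_abs _ _
    _ ≤ ∑ i : Fin r, Cs i * S n T D := Finset.sum_le_sum (fun i _ => hstep i)
    _ = (∑ i, Cs i) * S n T D := by rw [Finset.sum_mul]


/-- Let r and n be natural numbers and f : ℚ^r → ℝ a nonnegative function which is homogeneous of degree
n for positive rational scalars, f(q · v) = q^n · f(v) for q > 0; give ℚ^r the maximum norm ‖v‖ =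
max_j |v_j| of its standard basis. Suppose that for every standard basis vector e_i there is a
constant C_i with |f(v − b · e_i) − f(v)| ≤ C_i · Σ_{q=1}^{n} ‖v‖^{n−q} · b^q for all v ∈ ℚ^r and
all integers b ≥ 1. Then there is a constant C > 0 such that |f(v) − f(w)| ≤ C · Σ_{q=1}^{n}
max(‖v‖, ‖w‖)^{n−q} · ‖v − w‖^q for all v, w ∈ ℚ^r. (The source allows any norm on an r-dimensional
rational vector space with a chosen basis and argues with the maximum norm of that basis, which is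
the case stated here.) -/
theorem result (r n : ℕ) (f : (Fin r → ℚ) → ℝ)
    (hf0 : ∀ v, 0 ≤ f v)
    (hhom : ∀ (q : ℚ) (v : Fin r → ℚ), 0 < q → f (q • v) = (q : ℝ) ^ n * f v)
    (hdir : ∀ i : Fin r, ∃ Ci : ℝ, ∀ (v : Fin r → ℚ) (b : ℕ), 1 ≤ b →
      |f (v - (b : ℚ) • Pi.single i 1) - f v| ≤
        Ci * (Finset.Icc 1 n).sum (fun q => ‖(fun j => ((v j : ℚ) : ℝ))‖ ^ (n - q) * (b : ℝ) ^ q)) :
    ∃ C : ℝ, 0 < C ∧ ∀ v w : Fin r → ℚ,
      |f v - f w| ≤ C * (Finset.Icc 1 n).sum (fun q =>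
        (max ‖(fun j => ((v j : ℚ) : ℝ))‖ ‖(fun j => ((w j : ℚ) : ℝ))‖) ^ (n - q) *
          ‖(fun j => ((v j - w j : ℚ) : ℝ))‖ ^ q) := by
  classical
  have hstep1 : ∀ i : Fin r, ∃ Ci : ℝ, 0 ≤ Ci ∧ ∀ (v : Fin r → ℚ) (β : ℚ), 0 < β →
      |f (v - β • Pi.single i 1) - f v| ≤ Ci * S n (N v) (β : ℝ) := by
    intro i
    obtain ⟨Ci, hCi⟩ := hdir i
    exact ⟨|Ci|, abs_nonneg _, fun v β hβ => step1 r n f hhom i Ci hCi v β hβ⟩
  choose Cs hCs0 hCs using hstep1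
  refine ⟨(∑ i, Cs i) + 1, ?_, ?_⟩
  · have : 0 ≤ ∑ i, Cs i := Finset.sum_nonneg (fun i _ => hCs0 i)
    linarith
  · intro v w
    have h1 := main r n f Cs hCs0 hCs v w
    have hS : 0 ≤ S n (max (N v) (N w)) (N (v - w)) :=
      S_nonneg n (le_trans (N_nonneg v) (le_max_left _ _)) (N_nonneg _)
    have h2 : (∑ i, Cs i) * S n (max (N v) (N w)) (N (v - w)) ≤
        ((∑ i, Cs i) + 1) * S n (max (N v) (N w)) (N (v - w)) :=
      mul_le_mul_of_nonneg_right (by linarith) hS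
    exact h1.trans h2

end Groth.Agent.S17635
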