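import Groth.Statements.S17649
import Groth.Agent.Lead.QCoh10
import Groth.Agent.S9525
-- import your own Groth.Agent.* helpers here

set_option autoImplicit false
universe u
open CategoryTheory CategoryTheory.Limits AlgebraicGeometry
open QCohCat

namespace Groth.Agent.S17649


section
open CategoryTheory CategoryTheory.Limits AlgebraicGeometry Opposite TopologicalSpace
open Groth.Agent.Lead.QCoh Groth.Agent.Lead.FinType Groth.Agent.Lead.EpiStalk

variable {X : Scheme.{u}}

theorem sections_eq_zero_of_isZero {Y : Scheme.{u}} (Z : Y.Modules) (h : IsZero Z) (O : Y.Opens)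
    (t : Γ(Z, O)) : t = 0 := by
  have h1 : (𝟙 Z : Z ⟶ Z) = 0 := h.eq_of_src _ _
  have e : (𝟙 Z : Z ⟶ Z).app O t = (0 : Z ⟶ Z).app O t := by rw [h1]
  exact e

theorem subsingleton_stalk_of_isZero_restrict (F : X.Modules) (W : X.Opens)
    (h : IsZero (F.restrict W.ι)) (z : X) (hz : z ∈ W) : Subsingleton (F.presheaf.stalk z) := by
  have key : ∀ c : F.presheaf.stalk z, c = 0 := by
    intro c
    obtain ⟨W0, hzW0, t, rfl⟩ := TopCat.Presheaf.exists_germ_eq F.presheaf c
    have hle : W.ι ''ᵁ (W.ι ⁻¹ᵁ W0) ≤ W0 := W.ι.image_preimage_le W0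
    have hz' : z ∈ W.ι ''ᵁ (W.ι ⁻¹ᵁ W0) := ⟨⟨z, hz⟩, hzW0, rfl⟩
    have e1 : F.presheaf.germ W0 z hzW0 t = F.presheaf.germ (W.ι ''ᵁ (W.ι ⁻¹ᵁ W0)) z hz'
        (F.presheaf.map (homOfLE hle).op t) :=
      (TopCat.Presheaf.germ_res_apply F.presheaf (homOfLE hle) z hz' t).symm
    have h0 : F.presheaf.map (homOfLE hle).op t = 0 :=
      sections_eq_zero_of_isZero (F.restrict W.ι) h (W.ι ⁻¹ᵁ W0) _
    rw [e1, h0, map_zero]
  exact ⟨fun a b => by rw [key a, key b]⟩

theorem push_sections_eq_zero (F : X.Modules) (U : X.Opens) (W' : X.Opens)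
    (hz : ∀ z ∈ U.ι ''ᵁ (U.ι ⁻¹ᵁ W'), Subsingleton (F.presheaf.stalk z))
    (t : Γ((Scheme.Modules.pushforward U.ι).obj (F.restrict U.ι), W')) : t = 0 := by
  obtain ⟨t', rfl⟩ : ∃ t' : Γ(F, U.ι ''ᵁ (U.ι ⁻¹ᵁ W')), t' = t := ⟨t, rfl⟩
  have : t' = 0 := by
    apply TopCat.Presheaf.section_ext ((SheafOfModules.toSheaf _).obj F) (U.ι ''ᵁ (U.ι ⁻¹ᵁ W'))
    intro z hz'
    exact @Subsingleton.elim _ (hz z hz') _ _
  rw [this]
  rfl

theorem main (U V : X.Opens) [QuasiCompact U.ι] (F : X.Modules) (hF : F.IsQuasicoherent)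
    (h : IsZero ((Scheme.Modules.restrictFunctor (U ⊓ V).ι).obj F)) :
    ∃ (A : X.Modules) (i : A ⟶ F), Mono i ∧ A.IsQuasicoherent ∧
      IsZero ((Scheme.Modules.restrictFunctor U.ι).obj A) ∧
      IsZero ((Scheme.Modules.restrictFunctor V.ι).obj (cokernel i)) := by
  let R := Scheme.Modules.restrictFunctor U.ι
  let P : X.Modules := (Scheme.Modules.pushforward U.ι).obj (R.obj F)
  let η : F ⟶ P := (Scheme.Modules.restrictAdjunction U.ι).unit.app F
  haveI : (R.obj F).IsQuasicoherent := inferInstance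
  haveI hP : P.IsQuasicoherent := isQuasicoherent_pushforward U.ι (R.obj F)
  refine ⟨kernel η, kernel.ι η, inferInstance, (isQuasicoherent_kernel_cokernel η).1, ?_, ?_⟩
  · -- restriction of the kernel to U vanishes
    have htri : R.map η ≫ (Scheme.Modules.restrictAdjunction U.ι).counit.app (R.obj F) = 𝟙 _ :=
      (Scheme.Modules.restrictAdjunction U.ι).left_triangle_components F
    haveI : Mono (R.map η) := mono_of_mono_fac htri
    exact (isZero_kernel_of_mono (R.map η)).of_iso (restrictKernelIso U.ι η)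
  · -- restriction of the cokernel to V vanishes
    have hstalk : ∀ y ∈ V, Subsingleton (P.presheaf.stalk y) := by
      intro y hy
      have key : ∀ c : P.presheaf.stalk y, c = 0 := by
        intro c
        obtain ⟨W0, hyW0, t, rfl⟩ := TopCat.Presheaf.exists_germ_eq P.presheaf c
        have e1 : P.presheaf.germ W0 y hyW0 t = P.presheaf.germ (W0 ⊓ V) y ⟨hyW0, hy⟩
            (P.presheaf.map (homOfLE inf_le_left).op t) :=
          (TopCat.Presheaf.germ_res_apply P.presheaf (homOfLE inf_le_left) y ⟨hyW0, hy⟩ t).symm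
        have h0 : P.presheaf.map (homOfLE (inf_le_left : W0 ⊓ V ≤ W0)).op t = 0 := by
          apply push_sections_eq_zero F U (W0 ⊓ V)
          rintro z ⟨z', hz', rfl⟩
          exact subsingleton_stalk_of_isZero_restrict F (U ⊓ V) h _ ⟨z'.2, hz'.2⟩
        rw [e1, h0, map_zero]
      exact ⟨fun a b => by rw [key a, key b]⟩
    have hPV : IsZero ((Scheme.Modules.restrictFunctor V.ι).obj P) :=
      Groth.Agent.S9525.isZero_restrict_of_subsingleton_stalk P V hstalk
    haveI := preservesFiniteLimits_restrictFunctor V.ι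
    haveI : Mono (Abelian.factorThruCoimage η) := inferInstance
    haveI : Mono ((Scheme.Modules.restrictFunctor V.ι).map (Abelian.factorThruCoimage η)) :=
      inferInstance
    exact IsZero.of_mono ((Scheme.Modules.restrictFunctor V.ι).map (Abelian.factorThruCoimage η))
      hPV

end

/-- Suppose the scheme X is quasi-compact and quasi-separated, and take two quasi-compact opens U, V ⊆
X. Given a quasi-compact open W, denote by S_W the class of quasi-coherent O_X-modules that restrict
to zero on W. Then S_{U ∩ V} is the smallest localizing subcategory of Qcoh(X) that contains both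
S_U and S_V; concretely (this is the inclusion that is not formal): any quasi-coherent O_X-module F
satisfying F|_{U ∩ V} = 0 arises as an extension of a quasi-coherent module that is zero on V by a
quasi-coherent submodule that is zero on U — one can find a monomorphism A ⟶ F where A is
quasi-coherent, A|_U = 0 and (F/A)|_V = 0. -/
theorem result {X : Scheme.{u}}
    [CompactSpace X] [QuasiSeparatedSpace X] (U V : X.Opens) [QuasiCompact U.ι] [QuasiCompact V.ι]
    (F : X.Modules) (hF : Coh.IsQCoh F) (h : IsZero ((Scheme.Modules.restrictFunctor (U ⊓ V).ι).obj F)) :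
    ∃ (A : X.Modules) (i : A ⟶ F), Mono i ∧ Coh.IsQCoh A ∧
      IsZero ((Scheme.Modules.restrictFunctor U.ι).obj A) ∧
      IsZero ((Scheme.Modules.restrictFunctor V.ι).obj (cokernel i)) := by
  obtain ⟨A, i, h1, h2, h3, h4⟩ := main U V F hF h
  exact ⟨A, i, h1, h2, h3, h4⟩

end Groth.Agent.S17649
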