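import Groth.Statements.S17679
import Mathlib

set_option autoImplicit false
open DiagMon

namespace Groth.Agent.S17679

/-- For n ≥ 1 the minimal number of generators of ℤ^n as an additive monoid is n + 1: some n + 1
elements generate ℤ^n as a monoid, and every finite set generating ℤ^n as a monoid has at least n +
1 elements. (For n = 0 the empty set generates the zero monoid, so the count n + 1 is stated for n ≥
1 only.) -/
theorem result (n : ℕ) (hn : 1 ≤ n) :
    (∃ s : Finset (Fin n → ℤ), s.card = n + 1 ∧ AddSubmonoid.closure (s : Set (Fin n → ℤ)) = ⊤) ∧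
    ∀ s : Finset (Fin n → ℤ), AddSubmonoid.closure (s : Set (Fin n → ℤ)) = ⊤ → n + 1 ≤ s.card := by
  classical
  constructor
  · -- existence of n + 1 generators
    let e : Fin n → (Fin n → ℤ) := fun i => Pi.single i (1 : ℤ)
    let w : Fin n → ℤ := fun _ => (-1 : ℤ)
    have he : Function.Injective e := by
      intro i j hij
      have h1 := congrFun hij i
      by_contra hne
      have h2 : e i i = 1 := Pi.single_eq_same i 1
      have h3 : e j i = 0 := Pi.single_eq_of_ne hne 1
      rw [h2, h3] at h1
      exact one_ne_zero h1
    have hw : w ∉ Finset.univ.image e := by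
      intro h
      obtain ⟨i, -, hi⟩ := Finset.mem_image.mp h
      have := congrFun hi i
      simp [e, w] at this
    refine ⟨insert w (Finset.univ.image e), ?_, ?_⟩
    · rw [Finset.card_insert_of_notMem hw, Finset.card_image_of_injective _ he,
        Finset.card_univ, Fintype.card_fin]
    · rw [eq_top_iff]
      intro v _
      let c : ℕ := Finset.univ.sup fun i => (-v i).toNat
      have hc : ∀ i, 0 ≤ v i + c := by
        intro i
        have h1 : (-v i).toNat ≤ c := Finset.le_sup (f := fun i => (-v i).toNat) (Finset.mem_univ i)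
        have h2 : -v i ≤ ((-v i).toNat : ℤ) := Int.self_le_toNat _
        have h3 : ((-v i).toNat : ℤ) ≤ (c : ℤ) := by exact_mod_cast h1
        linarith
      have hv : v = ∑ i, (v i + c).toNat • e i + c • w := by
        funext j
        have h1 : (∑ i, (v i + c).toNat • e i + c • w) j =
            ∑ i, (v i + c).toNat • (e i j) + c • (w j) := by
          simp only [Pi.add_apply, Finset.sum_apply, Pi.smul_apply]
        rw [h1, Finset.sum_eq_single j]
        · have h2 : e j j = 1 := Pi.single_eq_same j 1
          rw [h2]
          show v j = (v j + c).toNat • (1 : ℤ) + c • (-1 : ℤ)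
          rw [nsmul_eq_mul, nsmul_eq_mul, Int.toNat_of_nonneg (hc j)]
          ring
        · intro i _ hij
          have h2 : e i j = 0 := Pi.single_eq_of_ne hij.symm 1
          rw [h2, smul_zero]
        · intro h
          exact absurd (Finset.mem_univ j) h
      rw [hv]
      refine add_mem (sum_mem fun i _ => nsmul_mem (AddSubmonoid.subset_closure ?_) _)
        (nsmul_mem (AddSubmonoid.subset_closure ?_) _)
      · exact Finset.mem_coe.mpr
          (Finset.mem_insert_of_mem (Finset.mem_image.mpr ⟨i, Finset.mem_univ i, rfl⟩))
      · exact Finset.mem_coe.mpr (Finset.mem_insert_self _ _)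
  · -- lower bound
    intro s hs
    by_contra hcard
    have hle : s.card ≤ n := by omega
    have hspan : ⊤ ≤ Submodule.span ℤ (Set.range ((↑) : s → (Fin n → ℤ))) := by
      intro v _
      have hv : v ∈ AddSubmonoid.closure (s : Set (Fin n → ℤ)) := by rw [hs]; trivial
      have hle' : AddSubmonoid.closure (s : Set (Fin n → ℤ)) ≤
          (Submodule.span ℤ (Set.range ((↑) : s → (Fin n → ℤ)))).toAddSubmonoid := by
        rw [AddSubmonoid.closure_le]
        intro x hx
        exact Submodule.subset_span ⟨⟨x, hx⟩, rfl⟩
      exact hle' hv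
    have hli : LinearIndependent ℤ ((↑) : s → (Fin n → ℤ)) :=
      linearIndependent_of_top_le_span_of_card_le_finrank hspan (by
        rw [Fintype.card_coe, Module.finrank_fin_fun]
        exact hle)
    have hne : s.Nonempty := by
      rw [Finset.nonempty_iff_ne_empty]
      rintro rfl
      have h1 : (fun _ => 1 : Fin n → ℤ) ∈ AddSubmonoid.closure ((∅ : Finset (Fin n → ℤ)) : Set _) := by
        rw [hs]; trivial
      rw [Finset.coe_empty, AddSubmonoid.closure_empty, AddSubmonoid.mem_bot] at h1
      have := congrFun h1 ⟨0, hn⟩
      simp at this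
    have hw : -(∑ x ∈ s, x) ∈ AddSubmonoid.closure (s : Set (Fin n → ℤ)) := by rw [hs]; trivial
    obtain ⟨a, ha⟩ := AddSubmonoid.mem_closure_finset'.mp hw
    have hsum : ∑ i : s, ((a i : ℤ) + 1) • (i : Fin n → ℤ) = 0 := by
      have h1 : ∑ i : s, ((a i : ℤ) + 1) • (i : Fin n → ℤ) =
          ∑ i : s, a i • (i : Fin n → ℤ) + ∑ i : s, (i : Fin n → ℤ) := by
        rw [← Finset.sum_add_distrib]
        refine Finset.sum_congr rfl fun i _ => ?_
        rw [add_smul, one_smul, natCast_zsmul]
      rw [h1, ← ha, Finset.sum_coe_sort s (fun x => x)]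
      simp
    have hzero := Fintype.linearIndependent_iff.mp hli (fun i => (a i : ℤ) + 1) hsum
    obtain ⟨x, hx⟩ := hne
    have := hzero ⟨x, hx⟩
    omega

end Groth.Agent.S17679
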