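import Groth.Statements.S17683
import Mathlib

set_option autoImplicit false
universe u
open DiagMon

namespace Groth.Agent.S17683

/-- Let N be a commutative monoid and F a submonoid of N. The additive projection ℤ[N] → ℤ[F] of monoid
algebras keeping the monomials with exponent in F and killing the others is multiplicative, i.e. F
is a face of N, if and only if for all x, y in N the sum x + y lies in F exactly when both x and y
do. -/
theorem result {N : Type u} [AddCommMonoid N] (F : AddSubmonoid N) :
    (∀ a b : AddMonoidAlgebra ℤ N,
        AddMonoidAlgebra.comapDomain ((↑) : F → N) Subtype.val_injective (a * b) =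
          AddMonoidAlgebra.comapDomain ((↑) : F → N) Subtype.val_injective a *
            AddMonoidAlgebra.comapDomain ((↑) : F → N) Subtype.val_injective b) ↔
      ∀ x y : N, x + y ∈ F ↔ (x ∈ F ∧ y ∈ F) := by
  classical
  have hin : ∀ (n : N) (hn : n ∈ F) (r : ℤ),
      AddMonoidAlgebra.comapDomain ((↑) : F → N) Subtype.val_injective
        (AddMonoidAlgebra.single n r) = AddMonoidAlgebra.single (⟨n, hn⟩ : F) r := by
    intro n hn r
    exact AddMonoidAlgebra.comapDomain_single_map ((↑) : F → N) Subtype.val_injective ⟨n, hn⟩ r
  have hout : ∀ (n : N) (hn : n ∉ F) (r : ℤ),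
      AddMonoidAlgebra.comapDomain ((↑) : F → N) Subtype.val_injective
        (AddMonoidAlgebra.single n r) = 0 := by
    intro n hn r
    have hn' : n ∉ Set.range ((↑) : F → N) := by
      rintro ⟨⟨m, hm⟩, rfl⟩
      exact hn hm
    ext m
    have hne : n ≠ (m : N) := fun e => hn (e ▸ m.2)
    simp [hne]
  constructor
  · intro h x y
    constructor
    · intro hxy
      have h1 := h (AddMonoidAlgebra.single x 1) (AddMonoidAlgebra.single y 1)
      rw [AddMonoidAlgebra.single_mul_single, hin _ hxy] at h1
      have hne : AddMonoidAlgebra.single (⟨x + y, hxy⟩ : F) ((1 : ℤ) * 1) ≠ 0 :=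
        AddMonoidAlgebra.single_ne_zero.mpr (by norm_num)
      by_contra hcon
      rw [not_and_or] at hcon
      rcases hcon with hx | hy
      · rw [hout x hx, zero_mul] at h1
        exact hne h1
      · rw [hout y hy, mul_zero] at h1
        exact hne h1
    · rintro ⟨hx, hy⟩
      exact F.add_mem hx hy
  · intro h a b
    induction a using AddMonoidAlgebra.induction_linear with
    | zero => simp
    | add a₁ a₂ h₁ h₂ =>
      rw [add_mul, AddMonoidAlgebra.comapDomain_add, AddMonoidAlgebra.comapDomain_add, h₁, h₂,
        add_mul]
    | single x r =>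
      induction b using AddMonoidAlgebra.induction_linear with
      | zero => simp
      | add b₁ b₂ h₁ h₂ =>
        rw [mul_add, AddMonoidAlgebra.comapDomain_add, AddMonoidAlgebra.comapDomain_add, h₁, h₂,
          mul_add]
      | single y s =>
        rw [AddMonoidAlgebra.single_mul_single]
        by_cases hx : x ∈ F
        · by_cases hy : y ∈ F
          · rw [hin _ ((h x y).mpr ⟨hx, hy⟩), hin _ hx, hin _ hy,
              AddMonoidAlgebra.single_mul_single]
            rfl
          · rw [hout y hy, mul_zero]
            exact hout _ (fun hxy => hy ((h x y).mp hxy).2) _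
        · rw [hout x hx, zero_mul]
          exact hout _ (fun hxy => hx ((h x y).mp hxy).1) _

end Groth.Agent.S17683
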