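import Groth.Statements.S17687
import Mathlib

set_option autoImplicit false
universe u v w
open DiagMon

namespace Groth.Agent.S17687

/-- Let R be a commutative ring and A a commutative R-algebra of finite type graded by a commutative
monoid M. Then the set of ideals J_N, N running over all submonoids of M, where J_N is generated by
the homogeneous elements of degree not in N (the ideal of the attractor of Spec A for the magnet N),
is finite: Spec A has finitely many attractors and hence finitely many pure magnets. (The source
assumes Spec A of finite presentation over the base; its proof uses only a finite set of homogeneous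
algebra generators, so finite type is assumed here.) -/
theorem result (R : Type u) [CommRing R] (A : Type v) [CommRing A]
    [Algebra R A] [Algebra.FiniteType R A] (M : Type w) [AddCommMonoid M] [DecidableEq M]
    (𝒜 : M → Submodule R A) [GradedAlgebra 𝒜] :
    (Set.range fun N : AddSubmonoid M => Ideal.span {a : A | ∃ m : M, m ∉ N ∧ a ∈ 𝒜 m}).Finite := by
  classical
  obtain ⟨s, hs⟩ := (Algebra.FiniteType.out : (⊤ : Subalgebra R A).FG)
  -- the finite set of homogeneous components of the generators
  let T : Finset A := s.biUnion fun a =>
    (DirectSum.decompose 𝒜 a).support.image fun i => (DirectSum.decompose 𝒜 a i : A)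
  have hTadj : Algebra.adjoin R (T : Set A) = ⊤ := by
    rw [eq_top_iff, ← hs]
    apply Algebra.adjoin_le
    intro a ha
    rw [← DirectSum.sum_support_decompose 𝒜 a]
    apply Subalgebra.sum_mem
    intro i hi
    apply Algebra.subset_adjoin
    rw [Finset.mem_coe, Finset.mem_biUnion]
    exact ⟨a, ha, Finset.mem_image.mpr ⟨i, hi, rfl⟩⟩
  have hThom : ∀ t ∈ T, ∃ d, t ∈ 𝒜 d := by
    intro t ht
    rw [Finset.mem_biUnion] at ht
    obtain ⟨a, -, ht⟩ := ht
    obtain ⟨i, -, rfl⟩ := Finset.mem_image.mp ht
    exact ⟨i, (DirectSum.decompose 𝒜 a i).2⟩
  -- each attractor ideal is generated by a subset of `T`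
  have key : ∀ N : AddSubmonoid M,
      Ideal.span {a : A | ∃ m : M, m ∉ N ∧ a ∈ 𝒜 m} =
        Ideal.span ((T.filter fun t => ∃ m : M, m ∉ N ∧ t ∈ 𝒜 m : Finset A) : Set A) := by
    intro N
    set I : Ideal A :=
      Ideal.span ((T.filter fun t => ∃ m : M, m ∉ N ∧ t ∈ 𝒜 m : Finset A) : Set A) with hI
    apply le_antisymm
    · rw [Ideal.span_le]
      rintro a ⟨m, hm, ha⟩
      -- the property
      have hP : ∀ x : A, x ∈ Algebra.adjoin R (T : Set A) →
          ∀ m : M, m ∉ N → (DirectSum.decompose 𝒜 x m : A) ∈ I := by
        intro x hx
        induction hx using Algebra.adjoin_induction with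
        | mem t ht =>
          intro m hm
          obtain ⟨d, hd⟩ := hThom t ht
          by_cases hdm : d = m
          · subst hdm
            rw [DirectSum.decompose_of_mem_same 𝒜 hd]
            apply Ideal.subset_span
            rw [Finset.mem_coe, Finset.mem_filter]
            exact ⟨ht, d, hm, hd⟩
          · rw [DirectSum.decompose_of_mem_ne 𝒜 hd hdm]
            exact I.zero_mem
        | algebraMap r =>
          intro m hm
          have h0 : algebraMap R A r ∈ 𝒜 0 := SetLike.algebraMap_mem_graded 𝒜 r
          have hne : (0 : M) ≠ m := fun e => hm (e ▸ N.zero_mem)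
          rw [DirectSum.decompose_of_mem_ne 𝒜 h0 hne]
          exact I.zero_mem
        | add x y _ _ hx hy =>
          intro m hm
          rw [DirectSum.decompose_add, DirectSum.add_apply, Submodule.coe_add]
          exact I.add_mem (hx m hm) (hy m hm)
        | mul x y _ _ hx hy =>
          intro m hm
          rw [DirectSum.decompose_mul, DirectSum.coe_mul_apply]
          apply Ideal.sum_mem
          rintro ⟨i, j⟩ hij
          rw [Finset.mem_filter] at hij
          have hsum : i + j = m := hij.2
          by_cases hi : i ∈ N
          · have hj : j ∉ N := fun hj => hm (hsum ▸ N.add_mem hi hj)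
            exact I.mul_mem_left _ (hy j hj)
          · exact I.mul_mem_right _ (hx i hi)
      have := hP a (by rw [hTadj]; trivial) m hm
      rwa [DirectSum.decompose_of_mem_same 𝒜 ha] at this
    · apply Ideal.span_mono
      intro t ht
      rw [Finset.mem_coe, Finset.mem_filter] at ht
      exact ht.2
  refine Set.Finite.subset
    ((Finset.finite_toSet T.powerset).image fun T' : Finset A => Ideal.span (T' : Set A)) ?_
  rintro _ ⟨N, rfl⟩
  refine ⟨T.filter fun t => ∃ m : M, m ∉ N ∧ t ∈ 𝒜 m, ?_, (key N).symm⟩
  rw [Finset.mem_coe, Finset.mem_powerset]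
  exact Finset.filter_subset _ _

end Groth.Agent.S17687
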