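import Mathlib
import Groth.Statements.S17688
import Groth.Agent.Lib.Helper9.NeronProd
import Groth.Agent.S18063
-- import your own Groth.Agent.* helpers here

set_option autoImplicit false
universe u
open CategoryTheory CategoryTheory.Limits AlgebraicGeometry MonObj
open Neron

namespace Groth.Agent.S17688


open Groth.Agent.Helper9.NeronProd (pb_map_fst)
open Groth.Agent.S18063 (eq_of_std)

theorem pow_eq_one_of_generic {S S' : Scheme.{u}} (ψ : S' ⟶ S) [IsSchemeTheoreticallyDominant ψ]
    [QuasiCompact ψ] (G : Over S) [GrpObj G] [Flat G.hom] [IsSeparated G.hom] (n : ℕ)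
    (h : (𝟙 (Red.bc ψ G) : Red.bc ψ G ⟶ Red.bc ψ G) ^ n = 1) :
    (𝟙 G : G ⟶ G) ^ n = 1 := by
  haveI : IsSchemeTheoreticallyDominant (pullback.fst G.hom ψ) := inferInstance
  have h1 : (Over.pullback ψ).map ((𝟙 G : G ⟶ G) ^ n) = (Over.pullback ψ).map (1 : G ⟶ G) := by
    have e1 : (Over.pullback ψ).map ((𝟙 G : G ⟶ G) ^ n) =
        ((Over.pullback ψ).map (𝟙 G)) ^ n := map_pow (Over.pullback ψ).homMonoidHom (𝟙 G) n
    have e2 : (Over.pullback ψ).map (1 : G ⟶ G) = 1 := Functor.map_one _
    rw [e1, e2, CategoryTheory.Functor.map_id]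
    exact h
  apply Over.OverMorphism.ext
  apply eq_of_std G.hom _ _ ?_ (pullback.fst G.hom ψ)
  · have h2 := congrArg (fun t => Over.Hom.left t ≫ pullback.fst G.hom ψ) h1
    simp only [pb_map_fst] at h2
    exact h2
  · rw [Over.w, Over.w]

/-- Let R be a discrete valuation ring whose fraction field K has characteristic p > 0, and let U be a
flat, separated, commutative group scheme over Spec R whose generic fibre U_K is annihilated by a
power p^N of p (in the group of endomorphisms of U_K as a K-scheme, the p^N-th power of the identity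
is the unit). Then for every prime ℓ invertible in R the ℓ-th power map of U (the ℓ-th power of the
identity in the group of R-morphisms U → U) is an isomorphism. -/
theorem result
    (R : Type u) [CommRing R] [IsDomain R] [IsDiscreteValuationRing R]
    (p : ℕ) (hp : p.Prime) [CharP (FractionRing R) p]
    (U : Over (Spec (CommRingCat.of R))) [GrpObj U] [IsCommMonObj U] [Flat U.hom] [IsSeparated U.hom]
    (N : ℕ) (hN : (𝟙 (Red.bc (Neron.genPt R) U) : Red.bc (Neron.genPt R) U ⟶ Red.bc (Neron.genPt R) U) ^ (p ^ N) = 1)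
    (ℓ : ℕ) (hℓ : ℓ.Prime) (hℓu : IsUnit (ℓ : R)) :
    IsIso ((𝟙 U : U ⟶ U) ^ ℓ) := by
  haveI hdom : IsDominant (Neron.genPt R) := by
    constructor
    have hinj : Function.Injective (algebraMap R (FractionRing R)) :=
      IsFractionRing.injective R (FractionRing R)
    refine (PrimeSpectrum.denseRange_comap_iff_ker_le_nilRadical
      (f := algebraMap R (FractionRing R))).mpr ?_
    rw [(RingHom.injective_iff_ker_eq_bot _).mp hinj]
    exact bot_le
  haveI : IsSchemeTheoreticallyDominant (Neron.genPt R) :=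
    IsSchemeTheoreticallyDominant.of_isDominant _
  have key : (𝟙 U : U ⟶ U) ^ (p ^ N) = 1 := pow_eq_one_of_generic (Neron.genPt R) U _ hN
  -- ℓ ≠ p
  have hne : ℓ ≠ p := by
    intro hlp
    have h0 : ((p : ℕ) : FractionRing R) = 0 := CharP.cast_eq_zero _ p
    have hu : IsUnit ((ℓ : ℕ) : FractionRing R) := by
      have := hℓu.map (algebraMap R (FractionRing R))
      rwa [map_natCast] at this
    rw [hlp, h0] at hu
    exact not_isUnit_zero hu
  have hcop : Nat.Coprime ℓ (p ^ N) :=
    Nat.Coprime.pow_right N ((Nat.coprime_primes hℓ hp).mpr hne)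
  obtain ⟨a, b, hab⟩ : ∃ a b : ℕ, ℓ * a = p ^ N * b + 1 := by
    rcases Nat.lt_or_ge 1 (p ^ N) with hk | hk
    · obtain ⟨m, -, hm⟩ := Nat.exists_mul_mod_eq_one_of_coprime hcop hk
      refine ⟨m, ℓ * m / p ^ N, ?_⟩
      have := Nat.div_add_mod (ℓ * m) (p ^ N)
      rw [hm] at this
      exact this.symm
    · have hpos : 0 < p ^ N := Nat.pos_of_ne_zero (pow_ne_zero _ hp.ne_zero)
      have h1 : p ^ N = 1 := le_antisymm hk hpos
      refine ⟨1, ℓ - 1, ?_⟩
      have := hℓ.pos
      rw [h1]
      omega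
  have hone : (𝟙 U : U ⟶ U) ^ (ℓ * a) = 𝟙 U := by
    rw [hab, pow_succ, pow_mul, key, one_pow, _root_.one_mul]
  refine ⟨(𝟙 U : U ⟶ U) ^ a, ?_, ?_⟩
  · rw [MonObj.comp_pow, Category.comp_id, ← pow_mul, hone]
  · rw [MonObj.comp_pow, Category.comp_id, ← pow_mul, mul_comm, hone]

end Groth.Agent.S17688
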