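import Groth.Statements.S17689
import Groth.Agent.S0415

set_option autoImplicit false
universe u
open CategoryTheory AlgebraicGeometry
open Neron

namespace Groth.Agent.S17689

/-- Let R ⊆ S be a finite extension of discrete valuation rings (the structure map R → S is injective
and S is a finite R-module) such that the induced extension K ⊆ L of fraction fields is purely
inseparable. Then the morphism Spec S → Spec R is a universal homeomorphism: every base change of it
is a homeomorphism on underlying spaces. (No excellence hypothesis is needed here.) -/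
theorem result
    (R S K L : Type u) [CommRing R] [IsDomain R] [IsDiscreteValuationRing R]
    [CommRing S] [IsDomain S] [IsDiscreteValuationRing S] [Algebra R S] [Module.Finite R S] [FaithfulSMul R S]
    [Field K] [Field L] [Algebra R K] [IsFractionRing R K] [Algebra S L] [IsFractionRing S L]
    [Algebra K L] [Algebra R L] [IsScalarTower R S L] [IsScalarTower R K L] [IsPurelyInseparable K L] :
    FlatMor.IsUnivHomeo (Spec.map (CommRingCat.ofHom (algebraMap R S))) := by
  rw [Groth.Agent.S0415.result]
  have hint : (algebraMap R S).IsIntegral := fun s => Algebra.IsIntegral.isIntegral s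
  -- key algebraic fact
  have key : ∀ (q : ℕ) [ExpChar K q] (s : S), ∃ n : ℕ, ∃ r : R, s ^ q ^ n = algebraMap R S r := by
    intro q _ s
    obtain ⟨n, k, hk⟩ := IsPurelyInseparable.pow_mem K q (algebraMap S L s)
    refine ⟨n, ?_⟩
    have hs : IsIntegral R s := Algebra.IsIntegral.isIntegral s
    have h1 : IsIntegral R ((algebraMap S L s) ^ q ^ n) :=
      (hs.map (IsScalarTower.toAlgHom R S L)).pow _
    rw [← hk] at h1
    have h2 : IsIntegral R k := (isIntegral_algebraMap_iff (algebraMap K L).injective).1 h1
    obtain ⟨r, hr⟩ := IsIntegrallyClosed.isIntegral_iff.1 h2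
    refine ⟨r, ?_⟩
    apply IsFractionRing.injective S L
    rw [map_pow, ← hk, ← hr, ← IsScalarTower.algebraMap_apply, ← IsScalarTower.algebraMap_apply]
  refine ⟨?_, ?_, ?_⟩
  · rw [IsIntegralHom.SpecMap_iff]
    exact hint
  · refine ((tfae_universallyInjective _).out 0 1).2 ?_
    intro F _ g₁ g₂ hg
    dsimp only at hg
    obtain ⟨ψ₁, rfl⟩ : ∃ ψ, g₁ = Spec.map ψ := ⟨Spec.preimage g₁, (Spec.map_preimage g₁).symm⟩
    obtain ⟨ψ₂, rfl⟩ : ∃ ψ, g₂ = Spec.map ψ := ⟨Spec.preimage g₂, (Spec.map_preimage g₂).symm⟩
    rw [← Spec.map_comp, ← Spec.map_comp, Spec.map_inj] at hg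
    congr 1
    ext s
    have hcomm : ∀ r : R, ψ₁.hom (algebraMap R S r) = ψ₂.hom (algebraMap R S r) := fun r => by
      have := congr(($hg).hom r)
      simpa using this
    obtain ⟨q, hq⟩ := ExpChar.exists K
    cases hq with
    | zero =>
      haveI : ExpChar K 1 := ExpChar.zero
      obtain ⟨n, r, hr⟩ := key 1 s
      simp only [one_pow, pow_one] at hr
      rw [hr]; exact hcomm r
    | prime hp =>
      haveI : ExpChar K q := ExpChar.prime hp
      obtain ⟨n, r, hr⟩ := key q s
      have hRq : (q : R) = 0 := by
        apply IsFractionRing.injective R K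
        rw [map_natCast, map_zero]; exact CharP.cast_eq_zero K q
      have hF0 : (q : F) = 0 := by
        have := congr((ψ₁.hom.comp (algebraMap R S)) $hRq)
        rwa [map_natCast, map_zero] at this
      have hF : CharP F q := (CharP.charP_iff_prime_eq_zero hp).2 hF0
      have : ExpChar F q := ExpChar.prime hp
      apply iterateFrobenius_inj F q n
      rw [iterateFrobenius_def, iterateFrobenius_def, ← map_pow, ← map_pow, hr]
      exact hcomm r
  · refine ⟨?_⟩
    have := hint.comap_surjective (FaithfulSMul.algebraMap_injective R S)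
    exact this

end Groth.Agent.S17689
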