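import Groth.Statements.S17715
import Groth.Agent.Lib.Helper7.Jet3
-- import your own Groth.Agent.* helpers here

set_option autoImplicit false
open MoretBailly

namespace Groth.Agent.S17715

/-- Write B(x) = x/(1 - e^(-x)) for the exponential generating series of the Bernoulli numbers (B'_1 =
1/2). For all natural numbers d and p the coefficient of x^3 in B(-dx)^(-1) B(-dpx) B(x)^4
e^((dp-d-3)x), i.e. the case n = 3, s = 1 of the Todd-class integrand, equals
-d(d+2)(p-1)(dp-d-2)/24 = -(d^3+2d^2) p^2/24 + (d^3+3d^2+2d) p/12 - (d^3+4d^2+4d)/24. (The published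
closed form has the same p^2 and p coefficients but constant term -(d^3+2d^2+2d)/24; direct
expansion gives the value stated here, which vanishes at p = 1.) -/
theorem result (d p : ℕ) :
    PowerSeries.coeff 3 ((PowerSeries.rescale (-(d : ℚ)) (bernoulli'PowerSeries ℚ))⁻¹ * PowerSeries.rescale (-((d : ℚ) * p)) (bernoulli'PowerSeries ℚ) * bernoulli'PowerSeries ℚ ^ (4) * PowerSeries.rescale ((d : ℚ) * p - d - 3) (PowerSeries.exp ℚ)) =
      -((d : ℚ) * (d + 2) * (p - 1) * (d * p - d - 2)) / 24 := by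
  have hB0 : PowerSeries.coeff 0 (bernoulli'PowerSeries ℚ) = 1 := by
    simp [bernoulli'PowerSeries]
  have hB1 : PowerSeries.coeff 1 (bernoulli'PowerSeries ℚ) = 1 / 2 := by
    simp [bernoulli'PowerSeries, bernoulli'_one]
  have hB2 : PowerSeries.coeff 2 (bernoulli'PowerSeries ℚ) = 1 / 12 := by
    simp [bernoulli'PowerSeries, bernoulli'_two]
    norm_num
  have hB3 : PowerSeries.coeff 3 (bernoulli'PowerSeries ℚ) = 0 := by
    simp [bernoulli'PowerSeries, bernoulli'_three]
  have hr0 : ∀ a : ℚ, PowerSeries.coeff 0 (PowerSeries.rescale a (bernoulli'PowerSeries ℚ)) = 1 := by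
    intro a; rw [PowerSeries.coeff_rescale, hB0]; simp
  have hr1 : ∀ a : ℚ, PowerSeries.coeff 1 (PowerSeries.rescale a (bernoulli'PowerSeries ℚ)) = a / 2 := by
    intro a; rw [PowerSeries.coeff_rescale, hB1]; ring
  have hr2 : ∀ a : ℚ, PowerSeries.coeff 2 (PowerSeries.rescale a (bernoulli'PowerSeries ℚ)) = a ^ 2 / 12 := by
    intro a; rw [PowerSeries.coeff_rescale, hB2]; ring
  have hr3 : ∀ a : ℚ, PowerSeries.coeff 3 (PowerSeries.rescale a (bernoulli'PowerSeries ℚ)) = 0 := by
    intro a; rw [PowerSeries.coeff_rescale, hB3]; ring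
  have he0 : ∀ c : ℚ, PowerSeries.coeff 0 (PowerSeries.rescale c (PowerSeries.exp ℚ)) = 1 := by
    intro c; rw [PowerSeries.coeff_rescale, PowerSeries.coeff_exp]; simp
  have he1 : ∀ c : ℚ, PowerSeries.coeff 1 (PowerSeries.rescale c (PowerSeries.exp ℚ)) = c := by
    intro c; rw [PowerSeries.coeff_rescale, PowerSeries.coeff_exp]; simp
  have he2 : ∀ c : ℚ, PowerSeries.coeff 2 (PowerSeries.rescale c (PowerSeries.exp ℚ)) = c ^ 2 / 2 := by
    intro c; rw [PowerSeries.coeff_rescale, PowerSeries.coeff_exp]; simp [Nat.factorial]; ring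
  have he3 : ∀ c : ℚ, PowerSeries.coeff 3 (PowerSeries.rescale c (PowerSeries.exp ℚ)) = c ^ 3 / 6 := by
    intro c; rw [PowerSeries.coeff_rescale, PowerSeries.coeff_exp]; simp [Nat.factorial]; ring
  -- the inverse
  set a : ℚ := -(d : ℚ) with ha
  have hcc : PowerSeries.constantCoeff (PowerSeries.rescale a (bernoulli'PowerSeries ℚ)) ≠ 0 := by
    rw [← PowerSeries.coeff_zero_eq_constantCoeff_apply, hr0]; exact one_ne_zero
  set I := (PowerSeries.rescale a (bernoulli'PowerSeries ℚ))⁻¹ with hI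
  have hinv : I * PowerSeries.rescale a (bernoulli'PowerSeries ℚ) = 1 :=
    PowerSeries.inv_mul_cancel _ hcc
  have hi0 := congrArg (PowerSeries.coeff 0) hinv
  have hi1 := congrArg (PowerSeries.coeff 1) hinv
  have hi2 := congrArg (PowerSeries.coeff 2) hinv
  have hi3 := congrArg (PowerSeries.coeff 3) hinv
  rw [Groth.Agent.Helper7.coeff_mul_zero', hr0] at hi0
  rw [Groth.Agent.Helper7.coeff_mul_one', hr0, hr1] at hi1
  rw [Groth.Agent.Helper7.coeff_mul_two', hr0, hr1, hr2] at hi2
  rw [Groth.Agent.Helper7.coeff_mul_three', hr0, hr1, hr2, hr3] at hi3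
  simp only [PowerSeries.coeff_one] at hi0 hi1 hi2 hi3
  norm_num at hi0 hi1 hi2 hi3
  have i0 : PowerSeries.coeff 0 I = 1 := by
    rw [PowerSeries.coeff_zero_eq_constantCoeff_apply]; exact hi0
  have i1 : PowerSeries.coeff 1 I = -a / 2 := by rw [hi0] at hi1; linarith
  have i2 : PowerSeries.coeff 2 I = a ^ 2 / 6 := by rw [hi0, i1] at hi2; linarith
  have i3 : PowerSeries.coeff 3 I = -a ^ 3 / 24 := by rw [i1, i2] at hi3; linarith
  have h4 : bernoulli'PowerSeries ℚ ^ 4 =
      (bernoulli'PowerSeries ℚ * bernoulli'PowerSeries ℚ) *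
        (bernoulli'PowerSeries ℚ * bernoulli'PowerSeries ℚ) := by ring
  rw [h4]
  simp only [Groth.Agent.Helper7.coeff_mul_zero', Groth.Agent.Helper7.coeff_mul_one',
    Groth.Agent.Helper7.coeff_mul_two', Groth.Agent.Helper7.coeff_mul_three',
    hr0, hr1, hr2, hr3, he0, he1, he2, he3, i0, i1, i2, i3, hB0, hB1, hB2, hB3]
  rw [ha]
  ring

end Groth.Agent.S17715
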