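import Groth.Statements.S17717
import Mathlib
-- import your own Groth.Agent.* helpers here

set_option autoImplicit false
open MoretBailly

namespace Groth.Agent.S17717

open PowerSeries in
theorem coeff_one_inv_of_const_one (φ : PowerSeries ℚ) (h : constantCoeff φ = 1) :
    coeff 1 φ⁻¹ = - coeff 1 φ := by
  have h1 : φ * φ⁻¹ = 1 := PowerSeries.mul_inv_cancel φ (by rw [h]; exact one_ne_zero)
  have h2 := congrArg (coeff 1) h1
  rw [coeff_one_mul, constantCoeff_inv, h] at h2
  simp at h2
  linarith

open PowerSeries in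
theorem const_B : constantCoeff (bernoulli'PowerSeries ℚ) = 1 := by
  rw [← coeff_zero_eq_constantCoeff_apply, bernoulli'PowerSeries, coeff_mk]
  simp

open PowerSeries in
theorem coeff_one_B : coeff 1 (bernoulli'PowerSeries ℚ) = 1 / 2 := by
  rw [bernoulli'PowerSeries, coeff_mk]
  simp

open PowerSeries in
theorem const_rescale_B (a : ℚ) : constantCoeff (rescale a (bernoulli'PowerSeries ℚ)) = 1 := by
  rw [← coeff_zero_eq_constantCoeff_apply, coeff_rescale, coeff_zero_eq_constantCoeff_apply, const_B]
  simp

open PowerSeries in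
theorem coeff_one_rescale_B (a : ℚ) : coeff 1 (rescale a (bernoulli'PowerSeries ℚ)) = a / 2 := by
  rw [coeff_rescale, coeff_one_B]
  ring

open PowerSeries in
theorem const_rescale_exp (a : ℚ) : constantCoeff (rescale a (exp ℚ)) = 1 := by
  rw [← coeff_zero_eq_constantCoeff_apply, coeff_rescale, coeff_exp]
  simp

open PowerSeries in
theorem coeff_one_rescale_exp (a : ℚ) : coeff 1 (rescale a (exp ℚ)) = a := by
  rw [coeff_rescale, coeff_exp]
  simp

/-- Write B(x) = x/(1 - e^(-x)) for the exponential generating series of the Bernoulli numbers (B'_1 =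
1/2). For all natural numbers d, p and every integer s the coefficient of x in B(-dx)^(-1) B(-dpx)
B(x)^2 e^((dp-d-2+s)x), i.e. the case n = 1 of the Todd-class integrand, equals d(p-1)/2 + s - 1. -/
theorem result (d p : ℕ) (s : ℤ) :
    PowerSeries.coeff 1 ((PowerSeries.rescale (-(d : ℚ)) (bernoulli'PowerSeries ℚ))⁻¹ * PowerSeries.rescale (-((d : ℚ) * p)) (bernoulli'PowerSeries ℚ) * bernoulli'PowerSeries ℚ ^ (2) * PowerSeries.rescale ((d : ℚ) * p - d - 2 + s) (PowerSeries.exp ℚ)) =
      (d : ℚ) * (p - 1) / 2 + s - 1 := by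
  simp only [PowerSeries.coeff_one_mul, PowerSeries.coeff_one_pow, map_mul, map_pow,
    PowerSeries.constantCoeff_inv, const_rescale_B, const_B, const_rescale_exp,
    coeff_one_rescale_exp, coeff_one_rescale_B, coeff_one_B,
    coeff_one_inv_of_const_one _ (const_rescale_B _)]
  push_cast
  ring

end Groth.Agent.S17717
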