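import Groth.Statements.S17720
import Mathlib

set_option linter.style.haveILetI false

set_option autoImplicit false
universe u
open CAlg

namespace Groth.Agent.S17720

section Aux

open MvPowerSeries IsLocalRing

variable {A : Type u} [CommRing A]

/-- the coefficient of the linear monomial `X i`. -/
noncomputable def lin (i : Fin 2) (F : MvPowerSeries (Fin 2) A) : A :=
  coeff (Finsupp.single i 1) F

theorem lin_add (i : Fin 2) (F G : MvPowerSeries (Fin 2) A) : lin i (F + G) = lin i F + lin i G := by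
  unfold lin; rw [map_add]

theorem lin_sub (i : Fin 2) (F G : MvPowerSeries (Fin 2) A) : lin i (F - G) = lin i F - lin i G := by
  unfold lin; rw [map_sub]

theorem lin_C (i : Fin 2) (a : A) : lin i (C a : MvPowerSeries (Fin 2) A) = 0 := by
  classical
  unfold lin
  rw [coeff_C, if_neg]
  intro h
  have := DFunLike.congr_fun h i
  simp at this

theorem lin_X (i j : Fin 2) : lin i (X j : MvPowerSeries (Fin 2) A) = if i = j then 1 else 0 := by
  classical
  unfold lin
  rw [coeff_index_single_X]

theorem lin_C_mul (i : Fin 2) (a : A) (F : MvPowerSeries (Fin 2) A) :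
    lin i (C a * F) = a * lin i F := by
  unfold lin; rw [coeff_C_mul]

theorem lin_mul (i : Fin 2) (F G : MvPowerSeries (Fin 2) A) :
    lin i (F * G) = constantCoeff F * lin i G + lin i F * constantCoeff G := by
  classical
  unfold lin
  have h1 : Finset.HasAntidiagonal.antidiagonal (1 : ℕ) = {(0, 1), (1, 0)} := by decide
  rw [coeff_mul, Finsupp.antidiagonal_single, Finset.sum_map, h1, Finset.sum_pair (by decide)]
  simp only [Function.Embedding.coe_prodMap, Function.Embedding.coeFn_mk, Prod.map_apply,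
    Finsupp.single_zero, coeff_zero_eq_constantCoeff_apply]

theorem c0_rel (γ : A) (H : MvPowerSeries (Fin 2) A) :
    constantCoeff (H * (X 0 * X 1 - C γ)) = -(γ * constantCoeff H) := by
  rw [map_mul, map_sub, map_mul, constantCoeff_X, constantCoeff_C]
  ring

theorem lin_rel (γ : A) (H : MvPowerSeries (Fin 2) A) (i : Fin 2) :
    lin i (H * (X 0 * X 1 - C γ)) = -(γ * lin i H) := by
  rw [lin_mul, lin_sub, lin_mul, lin_C, map_sub, map_mul, constantCoeff_X, constantCoeff_X,
    constantCoeff_C]
  ring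

theorem decomp (R : MvPowerSeries (Fin 2) A) (h0 : constantCoeff R = 0) :
    ∃ R₁ R₂ : MvPowerSeries (Fin 2) A, R = X 0 * R₁ + X 1 * R₂ := by
  classical
  let R' : MvPowerSeries (Fin 2) A := fun n => if n 0 = 0 then coeff n R else 0
  have hR' : ∀ n, coeff n R' = if n 0 = 0 then coeff n R else 0 := fun n => rfl
  have h1 : (X 0 : MvPowerSeries (Fin 2) A) ∣ R - R' := by
    rw [X_dvd_iff]
    intro m hm
    rw [map_sub, hR', if_pos hm, sub_self]
  have h2 : (X 1 : MvPowerSeries (Fin 2) A) ∣ R' := by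
    rw [X_dvd_iff]
    intro m hm
    rw [hR']
    split_ifs with h
    · have hm0 : m = 0 := by
        ext i
        fin_cases i
        · simpa using h
        · simpa using hm
      rw [hm0, coeff_zero_eq_constantCoeff_apply, h0]
    · rfl
  obtain ⟨R₁, hR₁⟩ := h1
  obtain ⟨R₂, hR₂⟩ := h2
  exact ⟨R₁, R₂, by rw [← hR₁, ← hR₂]; ring⟩

theorem algebraMap_quot (I : Ideal (MvPowerSeries (Fin 2) A)) (a : A) :
    algebraMap A (MvPowerSeries (Fin 2) A ⧸ I) a = Ideal.Quotient.mk I (C a) := by
  rw [← Ideal.Quotient.mk_algebraMap, MvPowerSeries.algebraMap_apply, Algebra.algebraMap_self,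
    RingHom.id_apply]

theorem mem_span_of_equiv [IsLocalRing A] (α β : A) (hα : α ∈ maximalIdeal A)
    (hβ : β ∈ maximalIdeal A)
    (φ : (MvPowerSeries (Fin 2) A ⧸ Ideal.span {(X 0 * X 1 - C α : MvPowerSeries (Fin 2) A)}) ≃ₐ[A]
      (MvPowerSeries (Fin 2) A ⧸ Ideal.span {(X 0 * X 1 - C β : MvPowerSeries (Fin 2) A)})) :
    α ∈ Ideal.span {β} := by
  classical
  have hC : ∀ a : A, φ (Ideal.Quotient.mk _ (C a)) = Ideal.Quotient.mk _ (C a) := by
    intro a
    rw [← algebraMap_quot, ← algebraMap_quot]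
    exact φ.commutes a
  -- non-units go to non-units
  have key1 : ∀ T W : MvPowerSeries (Fin 2) A, constantCoeff T ∈ maximalIdeal A →
      Ideal.Quotient.mk _ W = φ (Ideal.Quotient.mk _ T) → constantCoeff W ∈ maximalIdeal A := by
    intro T W hT hW
    by_contra hc
    have hWu : IsUnit W := by
      rw [MvPowerSeries.isUnit_iff_constantCoeff]
      exact IsLocalRing.notMem_maximalIdeal.mp hc
    have h2 : IsUnit (φ (Ideal.Quotient.mk _ T)) := by
      rw [← hW]
      exact hWu.map (Ideal.Quotient.mk _)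
    have h3 : IsUnit (Ideal.Quotient.mk
        (Ideal.span {(X 0 * X 1 - C α : MvPowerSeries (Fin 2) A)}) T) := by
      have := h2.map φ.symm
      rwa [AlgEquiv.symm_apply_apply] at this
    obtain ⟨T', hT'⟩ := h3.exists_right_inv
    obtain ⟨T'', rfl⟩ := Ideal.Quotient.mk_surjective T'
    rw [← map_mul, ← map_one (Ideal.Quotient.mk _), Ideal.Quotient.eq,
      Ideal.mem_span_singleton'] at hT'
    obtain ⟨H, hH⟩ := hT'
    have e := congrArg constantCoeff hH
    rw [c0_rel, map_sub, map_mul, map_one] at e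
    apply (Ideal.ne_top_iff_one _).mp (IsLocalRing.maximalIdeal.isMaximal A).ne_top
    have e1 : (1 : A) = constantCoeff T * constantCoeff T'' + α * constantCoeff H := by
      linear_combination e
    rw [e1]
    exact add_mem (Ideal.mul_mem_right _ _ hT) (Ideal.mul_mem_right _ _ hα)
  obtain ⟨U, hU⟩ := Ideal.Quotient.mk_surjective (φ (Ideal.Quotient.mk _ (X 0)))
  obtain ⟨V, hV⟩ := Ideal.Quotient.mk_surjective (φ (Ideal.Quotient.mk _ (X 1)))
  have hUm : constantCoeff U ∈ maximalIdeal A :=
    key1 (X 0) U (by rw [constantCoeff_X]; exact zero_mem _) hU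
  have hVm : constantCoeff V ∈ maximalIdeal A :=
    key1 (X 1) V (by rw [constantCoeff_X]; exact zero_mem _) hV
  -- the image of an arbitrary series, up to second order
  have key2 : ∀ F : MvPowerSeries (Fin 2) A, ∃ G : MvPowerSeries (Fin 2) A,
      (∀ i, lin i G ∈ maximalIdeal A) ∧
      φ (Ideal.Quotient.mk _ F) = Ideal.Quotient.mk _
        (C (constantCoeff F) + C (lin 0 F) * U + C (lin 1 F) * V + G) := by
    intro F
    obtain ⟨R₁, R₂, hR⟩ := decomp (F - (C (constantCoeff F) + C (lin 0 F) * X 0 + C (lin 1 F) * X 1))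
      (by
        rw [map_sub, map_add, map_add, map_mul, map_mul, constantCoeff_C, constantCoeff_X,
          constantCoeff_X]
        ring)
    have hl : ∀ i : Fin 2,
        lin i (F - (C (constantCoeff F) + C (lin 0 F) * X 0 + C (lin 1 F) * X 1)) = 0 := by
      intro i
      rw [lin_sub, lin_add, lin_add, lin_C, lin_C_mul, lin_C_mul, lin_X, lin_X]
      fin_cases i <;> simp
    have hl' : ∀ i : Fin 2, lin i (X 0 * R₁ + X 1 * R₂) =
        (if i = 0 then 1 else 0) * constantCoeff R₁ + (if i = 1 then 1 else 0) * constantCoeff R₂ := by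
      intro i
      rw [lin_add, lin_mul, lin_mul, lin_X, lin_X, constantCoeff_X, constantCoeff_X]
      ring
    have hc1 : constantCoeff R₁ = 0 := by
      have := hl 0
      rw [hR, hl'] at this
      simpa using this
    have hc2 : constantCoeff R₂ = 0 := by
      have := hl 1
      rw [hR, hl'] at this
      simpa using this
    obtain ⟨W₁, hW₁⟩ := Ideal.Quotient.mk_surjective (φ (Ideal.Quotient.mk _ R₁))
    obtain ⟨W₂, hW₂⟩ := Ideal.Quotient.mk_surjective (φ (Ideal.Quotient.mk _ R₂))
    have hW₁m := key1 R₁ W₁ (by rw [hc1]; exact zero_mem _) hW₁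
    have hW₂m := key1 R₂ W₂ (by rw [hc2]; exact zero_mem _) hW₂
    refine ⟨U * W₁ + V * W₂, ?_, ?_⟩
    · intro i
      rw [lin_add, lin_mul, lin_mul]
      exact add_mem (add_mem (Ideal.mul_mem_right _ _ hUm) (Ideal.mul_mem_left _ _ hW₁m))
        (add_mem (Ideal.mul_mem_right _ _ hVm) (Ideal.mul_mem_left _ _ hW₂m))
    · have hF : F = (C (constantCoeff F) + C (lin 0 F) * X 0 + C (lin 1 F) * X 1) +
          (X 0 * R₁ + X 1 * R₂) := by
        rw [← hR]; ring
      conv_lhs => rw [hF]
      simp only [map_add, map_mul, hC, ← hU, ← hV, ← hW₁, ← hW₂]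
  -- the Jacobian determinant is a unit
  have hdu : IsUnit (lin 0 U * lin 1 V - lin 1 U * lin 0 V) := by
    obtain ⟨P', hP'⟩ := φ.surjective (Ideal.Quotient.mk _ (X 0))
    obtain ⟨P, rfl⟩ := Ideal.Quotient.mk_surjective P'
    obtain ⟨Q', hQ'⟩ := φ.surjective (Ideal.Quotient.mk _ (X 1))
    obtain ⟨Q, rfl⟩ := Ideal.Quotient.mk_surjective Q'
    obtain ⟨G, hG, hPG⟩ := key2 P
    obtain ⟨G', hG', hQG⟩ := key2 Q
    rw [hP', Ideal.Quotient.eq, Ideal.mem_span_singleton'] at hPG
    rw [hQ', Ideal.Quotient.eq, Ideal.mem_span_singleton'] at hQG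
    obtain ⟨H₁, hH₁⟩ := hPG
    obtain ⟨H₂, hH₂⟩ := hQG
    have e10 := congrArg (lin 0) hH₁
    have e11 := congrArg (lin 1) hH₁
    have e20 := congrArg (lin 0) hH₂
    have e21 := congrArg (lin 1) hH₂
    rw [lin_rel, lin_sub, lin_add, lin_add, lin_add, lin_C, lin_C_mul, lin_C_mul, lin_X] at e10 e11 e20 e21
    rw [if_pos rfl] at e10 e21
    rw [if_neg (by decide)] at e11 e20
    have m1 : 1 - (lin 0 P * lin 0 U + lin 1 P * lin 0 V) ∈ maximalIdeal A := by
      have : 1 - (lin 0 P * lin 0 U + lin 1 P * lin 0 V) = lin 0 G - β * lin 0 H₁ := by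
        first | linear_combination e10 | linear_combination (-1 : A) * e10
      rw [this]
      exact sub_mem (hG 0) (Ideal.mul_mem_right _ _ hβ)
    have m2 : lin 0 P * lin 1 U + lin 1 P * lin 1 V ∈ maximalIdeal A := by
      have : lin 0 P * lin 1 U + lin 1 P * lin 1 V = β * lin 1 H₁ - lin 1 G := by
        first | linear_combination e11 | linear_combination (-1 : A) * e11
      rw [this]
      exact sub_mem (Ideal.mul_mem_right _ _ hβ) (hG 1)
    have m3 : lin 0 Q * lin 0 U + lin 1 Q * lin 0 V ∈ maximalIdeal A := by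
      have : lin 0 Q * lin 0 U + lin 1 Q * lin 0 V = β * lin 0 H₂ - lin 0 G' := by
        first | linear_combination e20 | linear_combination (-1 : A) * e20
      rw [this]
      exact sub_mem (Ideal.mul_mem_right _ _ hβ) (hG' 0)
    have m4 : 1 - (lin 0 Q * lin 1 U + lin 1 Q * lin 1 V) ∈ maximalIdeal A := by
      have : 1 - (lin 0 Q * lin 1 U + lin 1 Q * lin 1 V) = lin 1 G' - β * lin 1 H₂ := by
        first | linear_combination e21 | linear_combination (-1 : A) * e21
      rw [this]
      exact sub_mem (hG' 1) (Ideal.mul_mem_right _ _ hβ)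
    rw [← IsLocalRing.notMem_maximalIdeal]
    intro hd
    apply (Ideal.ne_top_iff_one _).mp (IsLocalRing.maximalIdeal.isMaximal A).ne_top
    have e1 : (1 : A) = (1 - (lin 0 P * lin 0 U + lin 1 P * lin 0 V)) +
        (lin 0 P * lin 0 U + lin 1 P * lin 0 V) * (1 - (lin 0 Q * lin 1 U + lin 1 Q * lin 1 V)) +
        (lin 0 P * lin 1 U + lin 1 P * lin 1 V) * (lin 0 Q * lin 0 U + lin 1 Q * lin 0 V) +
        (lin 0 P * lin 1 Q - lin 1 P * lin 0 Q) * (lin 0 U * lin 1 V - lin 1 U * lin 0 V) := by
      ring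
    rw [e1]
    exact add_mem (add_mem (add_mem m1 (Ideal.mul_mem_left _ _ m4)) (Ideal.mul_mem_right _ _ m2))
      (Ideal.mul_mem_left _ _ hd)
  -- the relation `U V = α`
  have hUV : Ideal.Quotient.mk (Ideal.span {(X 0 * X 1 - C β : MvPowerSeries (Fin 2) A)}) (U * V) =
      Ideal.Quotient.mk _ (C α) := by
    rw [map_mul, hU, hV, ← map_mul, ← map_mul]
    have e1 : Ideal.Quotient.mk (Ideal.span {(X 0 * X 1 - C α : MvPowerSeries (Fin 2) A)})
        (X 0 * X 1) = Ideal.Quotient.mk _ (C α) := by
      rw [Ideal.Quotient.eq]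
      exact Ideal.mem_span_singleton_self _
    rw [e1]
    exact hC α
  rw [Ideal.Quotient.eq, Ideal.mem_span_singleton'] at hUV
  obtain ⟨H, hH⟩ := hUV
  have e00 := congrArg constantCoeff hH
  have e0 := congrArg (lin 0) hH
  have e1 := congrArg (lin 1) hH
  rw [c0_rel, map_sub, map_mul, constantCoeff_C] at e00
  rw [lin_rel, lin_sub, lin_mul, lin_C, sub_zero] at e0 e1
  obtain ⟨dinv, hd⟩ := hdu.exists_left_inv
  rw [Ideal.mem_span_singleton']
  refine ⟨dinv * (lin 1 U * lin 0 H - lin 0 U * lin 1 H) * constantCoeff V + constantCoeff H, ?_⟩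
  linear_combination (-1 : A) * e00 + constantCoeff U * constantCoeff V * hd -
    dinv * constantCoeff V * lin 1 U * e0 + dinv * constantCoeff V * lin 0 U * e1

end Aux

open MvPowerSeries IsLocalRing in
/-- Let A be a Noetherian local ring and α, β two elements of its maximal ideal. If the quotient of the
power series ring in two variables over A by xy − α is isomorphic, as an A-algebra, to the quotient
by xy − β, then αA = βA. (The published statement allows any local ring A; it is taken Noetherian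
here, the case in which an algebra isomorphism between these complete local rings is continuous for
their adic topologies.) -/
theorem result
    (A : Type u) [CommRing A] [IsLocalRing A] [IsNoetherianRing A]
    (α β : A) (hα : α ∈ maximalIdeal A) (hβ : β ∈ maximalIdeal A)
    (φ : (MvPowerSeries (Fin 2) A ⧸ Ideal.span {(X 0 * X 1 - C α : MvPowerSeries (Fin 2) A)}) ≃ₐ[A] (MvPowerSeries (Fin 2) A ⧸ Ideal.span {(X 0 * X 1 - C β : MvPowerSeries (Fin 2) A)})) :
    Ideal.span {α} = Ideal.span {β} := by
  apply le_antisymm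
  · rw [Ideal.span_singleton_le_iff_mem]
    exact mem_span_of_equiv α β hα hβ φ
  · rw [Ideal.span_singleton_le_iff_mem]
    exact mem_span_of_equiv β α hβ hα φ.symm

end Groth.Agent.S17720
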