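import Groth.Statements.S17721
import Mathlib
-- import your own Groth.Agent.* helpers here

set_option autoImplicit false
universe u
open CAlg

namespace Groth.Agent.S17721

theorem argmin (φ : ℕ → ℕ∞) : ∃ i₀, (∀ i, φ i₀ ≤ φ i) ∧ (∀ i < i₀, φ i₀ < φ i) := by
  classical
  obtain ⟨w, ⟨i₁, hi₁⟩, hwmin'⟩ :=
    (wellFounded_lt (α := ℕ∞)).has_min (Set.range φ) ⟨φ 0, 0, rfl⟩
  have hex : ∃ i, φ i = w := ⟨i₁, hi₁⟩
  have hwmin : ∀ i, w ≤ φ i := fun i => not_lt.mp (hwmin' _ ⟨i, rfl⟩)
  refine ⟨Nat.find hex, fun i => ?_, fun i hi => ?_⟩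
  · rw [Nat.find_spec hex]; exact hwmin i
  · rw [Nat.find_spec hex]
    exact lt_of_le_of_ne (hwmin i) (fun h => Nat.find_min hex hi h.symm)


open Polynomial IsLocalRing in
/-- Let R be a complete discrete valuation ring with fraction field K, and f a polynomial over R with
non-zero constant term a₀ such that a₀ does not divide some coefficient of f of positive degree
(equivalently, the Newton polygon of f has a side of negative slope). Let b be the power series over
K with b · f = a₀, the expansion of the geometric series in 1 − f/a₀. Then the valuations of the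
coefficients b_j are not bounded below: for every non-zero c in R there is an index j with c · b_j
outside R. -/
theorem result
    (R : Type u) [CommRing R] [IsDomain R] [IsDiscreteValuationRing R]
    [IsAdicComplete (maximalIdeal R) R]
    (K : Type u) [Field K] [Algebra R K] [IsFractionRing R K]
    (f : R[X]) (h0 : f.coeff 0 ≠ 0) (hslope : ∃ i : ℕ, 0 < i ∧ ¬ (f.coeff 0 ∣ f.coeff i))
    (b : PowerSeries K)
    (hb : b * ((f.map (algebraMap R K) : K[X]) : PowerSeries K) = PowerSeries.C (algebraMap R K (f.coeff 0))) :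
    ∀ c : R, c ≠ 0 → ∃ j : ℕ, algebraMap R K c * PowerSeries.coeff j b ∉ (algebraMap R K).range := by
  intro c hc
  by_contra hcon
  push Not at hcon
  have hcon' : ∀ j, ∃ x, algebraMap R K x = algebraMap R K c * PowerSeries.coeff j b :=
    fun j => RingHom.mem_range.mp (hcon j)
  choose gcoef hg using hcon'
  obtain ⟨g, hgdef⟩ : ∃ g : PowerSeries R, g = PowerSeries.mk gcoef := ⟨_, rfl⟩
  have hinj : Function.Injective (algebraMap R K) := IsFractionRing.injective R K
  have hmapg : PowerSeries.map (algebraMap R K) g = PowerSeries.C (algebraMap R K c) * b := by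
    ext j
    rw [PowerSeries.coeff_map, hgdef, PowerSeries.coeff_mk, PowerSeries.coeff_C_mul, hg j]
  have e1 : PowerSeries.map (algebraMap R K) (g * (f : PowerSeries R)) =
      PowerSeries.C (algebraMap R K c) * PowerSeries.C (algebraMap R K (f.coeff 0)) := by
    rw [map_mul (PowerSeries.map (algebraMap R K)), hmapg, ← Polynomial.polynomial_map_coe,
      mul_assoc, hb]
  have e2 : PowerSeries.map (algebraMap R K) (PowerSeries.C (c * f.coeff 0)) =
      PowerSeries.C (algebraMap R K c) * PowerSeries.C (algebraMap R K (f.coeff 0)) := by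
    rw [PowerSeries.map_C]
    simp only [map_mul]
  have hgf : g * (f : PowerSeries R) = PowerSeries.C (c * f.coeff 0) := by
    ext j
    apply hinj
    have := congrArg (PowerSeries.coeff j) (e1.trans e2.symm)
    rwa [PowerSeries.coeff_map, PowerSeries.coeff_map] at this
  obtain ⟨v, hv⟩ : ∃ v : AddValuation R ℕ∞, v = IsDiscreteValuationRing.addVal R := ⟨_, rfl⟩
  have hdvd : ∀ a b : R, v a ≤ v b ↔ a ∣ b := by
    intro a b; rw [hv]; exact IsDiscreteValuationRing.addVal_le_iff_dvd
  have htop : ∀ a : R, v a = ⊤ ↔ a = 0 := by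
    intro a; rw [hv]; exact IsDiscreteValuationRing.addVal_eq_top_iff
  obtain ⟨i₀, hi₀min, hi₀lt⟩ := argmin (fun i => v (f.coeff i))
  obtain ⟨j₀, hj₀min, hj₀lt⟩ := argmin (fun j => v (PowerSeries.coeff j g))
  obtain ⟨i₁, hi₁pos, hi₁⟩ := hslope
  have hlt : v (f.coeff i₁) < v (f.coeff 0) := by
    rw [← not_le]; intro hle; exact hi₁ ((hdvd _ _).mp hle)
  have hi₀pos : 0 < i₀ := by
    rcases Nat.eq_zero_or_pos i₀ with h | h
    · exfalso; rw [h] at hi₀min; exact absurd (hi₀min i₁) (not_le.mpr hlt)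
    · exact h
  have hai₀ : v (f.coeff i₀) ≠ ⊤ := ne_top_of_lt (lt_of_le_of_lt (hi₀min i₁) hlt)
  have hd : c * f.coeff 0 ≠ 0 := mul_ne_zero hc h0
  have hgne : ∃ j, PowerSeries.coeff j g ≠ 0 := by
    by_contra hall
    push Not at hall
    have hg0 : g = 0 := by ext j; rw [hall j, map_zero]
    rw [hg0, zero_mul] at hgf
    have := congrArg (PowerSeries.coeff 0) hgf
    rw [map_zero, PowerSeries.coeff_zero_C] at this
    exact hd this.symm
  obtain ⟨j₁, hj₁⟩ := hgne
  have hgj₀ : v (PowerSeries.coeff j₀ g) ≠ ⊤ := by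
    have h1 : v (PowerSeries.coeff j₁ g) ≠ ⊤ := fun h => hj₁ ((htop _).mp h)
    exact ne_top_of_le_ne_top h1 (hj₀min j₁)
  have hcoef := congrArg (PowerSeries.coeff (j₀ + i₀)) hgf
  rw [PowerSeries.coeff_mul, PowerSeries.coeff_C, if_neg (by omega)] at hcoef
  simp only [Polynomial.coeff_coe] at hcoef
  have hmem : (j₀, i₀) ∈ Finset.HasAntidiagonal.antidiagonal (j₀ + i₀) :=
    Finset.HasAntidiagonal.mem_antidiagonal.mpr rfl
  rw [← Finset.add_sum_erase _ _ hmem] at hcoef
  have hneg := eq_neg_of_add_eq_zero_left hcoef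
  have hval := congrArg v hneg
  rw [AddValuation.map_neg, AddValuation.map_mul] at hval
  have hbig : v (PowerSeries.coeff j₀ g) + v (f.coeff i₀) <
      v (∑ x ∈ (Finset.HasAntidiagonal.antidiagonal (j₀ + i₀)).erase (j₀, i₀),
        PowerSeries.coeff x.1 g * f.coeff x.2) := by
    apply AddValuation.map_lt_sum
    · exact WithTop.add_ne_top.mpr ⟨hgj₀, hai₀⟩
    · rintro ⟨j, i⟩ hx
      rw [Finset.mem_erase, Finset.HasAntidiagonal.mem_antidiagonal] at hx
      obtain ⟨hne, hsum⟩ := hx
      have hsum' : j + i = j₀ + i₀ := hsum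
      rw [AddValuation.map_mul]
      rcases lt_trichotomy j j₀ with hj | hj | hj
      · exact ENat.add_lt_add_of_lt_of_le hai₀ (hj₀lt j hj) (hi₀min i)
      · exfalso
        apply hne
        have : i = i₀ := by omega
        rw [hj, this]
      · exact ENat.add_lt_add_of_le_of_lt hgj₀ (hj₀min j) (hi₀lt i (by omega))
  exact absurd hval (ne_of_lt hbig)

end Groth.Agent.S17721
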