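import Groth.Statements.S17722
import Mathlib
-- import your own Groth.Agent.* helpers here

set_option autoImplicit false
universe u
open CAlg

namespace Groth.Agent.S17722

/-- Let R → R' be a faithfully flat ring map between Noetherian integrally closed local domains, and p
an ideal of R. If the ideal pR' generated by the image of p is principal, then p is principal. (The
second assertion of the published lemma, descent of unique factorization, is not part of this row.) -/
theorem result
    (R R' : Type u) [CommRing R] [CommRing R'] [IsDomain R] [IsDomain R']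
    [IsNoetherianRing R] [IsNoetherianRing R'] [IsLocalRing R] [IsLocalRing R']
    [IsIntegrallyClosed R] [IsIntegrallyClosed R']
    [Algebra R R'] [Module.FaithfullyFlat R R']
    (p : Ideal R) (hp : (p.map (algebraMap R R')).IsPrincipal) :
    p.IsPrincipal := by
  classical
  obtain ⟨s, hs⟩ : p.FG := IsNoetherian.noetherian p
  obtain ⟨y, hy⟩ := hp.principal
  have hy' : p.map (algebraMap R R') = Ideal.span {y} := hy
  have hmapspan : p.map (algebraMap R R') = Ideal.span ((s.image (algebraMap R R') : Finset R') : Set R') := by
    rw [← hs, Ideal.map_span, Finset.coe_image]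
  by_cases hy0 : y = 0
  · have : p = ⊥ := by
      rw [← Ideal.comap_map_eq_self_of_faithfullyFlat (B := R') p, hy', hy0, Ideal.span_singleton_zero]
      rw [← RingHom.ker_eq_comap_bot, (RingHom.injective_iff_ker_eq_bot _).1
        (FaithfulSMul.algebraMap_injective R R')]
    rw [this]; exact bot_isPrincipal
  have hymem : y ∈ Ideal.span ((s.image (algebraMap R R') : Finset R') : Set R') := by
    rw [← hmapspan, hy']; exact Ideal.mem_span_singleton_self y
  obtain ⟨g, -, hg⟩ := Submodule.mem_span_finset.1 hymem
  have ha : ∀ z ∈ s.image (algebraMap R R'), ∃ a : R', a * y = z := by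
    intro z hz
    have : z ∈ Ideal.span {y} := by
      rw [← hy', hmapspan]; exact Ideal.subset_span hz
    exact Ideal.mem_span_singleton'.1 this
  choose! a ha using ha
  have hsum : (∑ z ∈ s.image (algebraMap R R'), g z * a z) * y = y := by
    rw [Finset.sum_mul]
    conv_rhs => rw [← hg]
    refine Finset.sum_congr rfl fun z hz => ?_
    rw [mul_assoc, ha z hz, smul_eq_mul]
  have hone : ∑ z ∈ s.image (algebraMap R R'), g z * a z = 1 := by
    have : (∑ z ∈ s.image (algebraMap R R'), g z * a z - 1) * y = 0 := by
      rw [sub_mul, hsum, one_mul, sub_self]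
    rcases mul_eq_zero.1 this with h | h
    · exact sub_eq_zero.1 h
    · exact absurd h hy0
  obtain ⟨z, hz, hzu⟩ : ∃ z ∈ s.image (algebraMap R R'), IsUnit (g z * a z) := by
    by_contra hcon
    push Not at hcon
    have : (1 : R') ∈ IsLocalRing.maximalIdeal R' := by
      rw [← hone]
      exact Ideal.sum_mem _ fun z hz => (IsLocalRing.mem_maximalIdeal _).2 (hcon z hz)
    exact (IsLocalRing.maximalIdeal.isMaximal R').ne_top ((Ideal.eq_top_iff_one _).2 this)
  have hau : IsUnit (a z) := isUnit_of_mul_isUnit_right hzu
  obtain ⟨x, hxs, hxz⟩ := Finset.mem_image.1 hz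
  have hspan : Ideal.span {y} = Ideal.span {algebraMap R R' x} := by
    rw [hxz, ← ha z hz]
    exact (Ideal.span_singleton_mul_left_unit hau y).symm
  have : p = Ideal.span {x} := by
    rw [← Ideal.comap_map_eq_self_of_faithfullyFlat (B := R') p, hy', hspan,
      ← Set.image_singleton, ← Ideal.map_span, Ideal.comap_map_eq_self_of_faithfullyFlat]
  rw [this]
  exact ⟨⟨x, rfl⟩⟩

end Groth.Agent.S17722
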