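import Groth.Statements.S17723
import Mathlib
-- import your own Groth.Agent.* helpers here

set_option autoImplicit false
universe u
open LabGraph

namespace Groth.Agent.S17723

/-- Let G be a finite connected multigraph with endpoint map ends and edge labels l taking positive
integer values. We say g : V → ℤ is elementary-Cartier if, for some integer n ≥ 1, all values of g
are multiples of n and, for each edge whose label fails to divide n, g agrees at its two endpoints
(equivalently, once the edges with label dividing n are removed, g takes a single value on each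
connected piece of what remains). Then every Cartier function f (for each edge, the label divides
the difference of the values of f at its endpoints) lies in the ℤ-span of the elementary-Cartier
functions. -/
theorem result
    {V E : Type u} [Fintype V] [Fintype E] [DecidableEq V] [DecidableEq E]
    (ends : E → V × V) (l : E → ℕ) (hl : ∀ e, 0 < l e) (hconn : LabGraph.Connected ends)
    (f : V → ℤ) (hf : LabGraph.IsCartier ends l f) :
    f ∈ Submodule.span ℤ {g : V → ℤ | ∃ n : ℕ, 0 < n ∧ (∀ v, (n : ℤ) ∣ g v) ∧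
      ∀ e, ¬ (l e ∣ n) → g (ends e).1 = g (ends e).2} := by
  classical
  obtain ⟨S, hS⟩ : ∃ S : Submodule ℤ (V → ℤ), S = Submodule.span ℤ {g : V → ℤ | ∃ n : ℕ, 0 < n ∧
      (∀ v, (n : ℤ) ∣ g v) ∧ ∀ e, ¬ (l e ∣ n) → g (ends e).1 = g (ends e).2} := ⟨_, rfl⟩
  rw [← hS]
  have hE : ∀ (n : ℕ) (g : V → ℤ), 0 < n → (∀ e, ¬ (l e ∣ n) → g (ends e).1 = g (ends e).2) →
      ((n : ℤ) • g) ∈ S := by
    intro n g hn hg
    rw [hS]
    refine Submodule.subset_span ⟨n, hn, fun v => ?_, fun e he => ?_⟩
    · simp only [Pi.smul_apply, smul_eq_mul]; exact dvd_mul_right _ _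
    · simp only [Pi.smul_apply, smul_eq_mul]; rw [hg e he]
  have hB : ∀ (p a : ℕ), p.Prime → ∀ m : ℕ, 0 < m → (∀ e, l e ∣ m * p ^ a) →
      ∀ i k : ℕ, k + i = a → ∀ h : V → ℤ,
        (∀ e, (l e : ℤ) ∣ ((m * p ^ k : ℕ) : ℤ) * (h (ends e).1 - h (ends e).2)) →
        (((m * p ^ k : ℕ) : ℤ) • h) ∈ S := by
    intro p a hp m hm hdiv i
    induction i with
    | zero =>
      intro k hk h _
      have hka : k = a := by omega
      subst hka
      exact hE _ h (Nat.mul_pos hm (pow_pos hp.pos _)) (fun e he => absurd (hdiv e) he)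
    | succ i ih =>
      intro k hk h hh
      obtain ⟨g, hg⟩ : ∃ g : V → ℤ, g = fun v => h v % (p : ℤ) := ⟨_, rfl⟩
      obtain ⟨h₁, hh₁⟩ : ∃ h₁ : V → ℤ, h₁ = fun v => h v / (p : ℤ) := ⟨_, rfl⟩
      have hdecomp : ∀ v, h v = g v + (p : ℤ) * h₁ v := fun v => by
        rw [hg, hh₁]; exact (Int.emod_add_mul_ediv (h v) p).symm
      have hgconst : ∀ e, ¬ (l e ∣ m * p ^ k) → g (ends e).1 = g (ends e).2 := by
        intro e he
        have hpd : (p : ℤ) ∣ h (ends e).1 - h (ends e).2 := by
          by_contra hnd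
          apply he
          have hcop : IsCoprime (h (ends e).1 - h (ends e).2) ((p : ℤ) ^ (i + 1)) := by
            apply IsCoprime.pow_right
            rw [isCoprime_comm]
            exact (Nat.prime_iff_prime_int.1 hp).coprime_iff_not_dvd.2 hnd
          obtain ⟨x, y, hxy⟩ := hcop
          have h1 := hh e
          have h2 : (l e : ℤ) ∣ ((m * p ^ k : ℕ) : ℤ) * (p : ℤ) ^ (i + 1) := by
            have h3 := hdiv e
            rw [← hk] at h3
            have h4 : ((l e : ℕ) : ℤ) ∣ ((m * p ^ (k + (i + 1)) : ℕ) : ℤ) :=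
              Int.natCast_dvd_natCast.2 h3
            have e2 : ((m * p ^ (k + (i + 1)) : ℕ) : ℤ) =
                ((m * p ^ k : ℕ) : ℤ) * (p : ℤ) ^ (i + 1) := by
              push_cast; ring
            rwa [e2] at h4
          have h5 : (l e : ℤ) ∣ ((m * p ^ k : ℕ) : ℤ) := by
            have e1 : ((m * p ^ k : ℕ) : ℤ) =
                x * (((m * p ^ k : ℕ) : ℤ) * (h (ends e).1 - h (ends e).2)) +
                  y * (((m * p ^ k : ℕ) : ℤ) * (p : ℤ) ^ (i + 1)) := by
              linear_combination (-(((m * p ^ k : ℕ) : ℤ))) * hxy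
            rw [e1]; exact dvd_add (Dvd.dvd.mul_left h1 _) (Dvd.dvd.mul_left h2 _)
          exact Int.natCast_dvd_natCast.1 h5
        rw [hg]
        exact (Int.emod_eq_emod_iff_emod_sub_eq_zero).2 (Int.emod_eq_zero_of_dvd hpd)
      have hg_mem : (((m * p ^ k : ℕ) : ℤ) • g) ∈ S :=
        hE _ g (Nat.mul_pos hm (pow_pos hp.pos _)) hgconst
      have hh₁_mem : (((m * p ^ (k + 1) : ℕ) : ℤ) • h₁) ∈ S := by
        apply ih (k + 1) (by omega) h₁
        intro e
        have d1 := hdecomp (ends e).1
        have d2 := hdecomp (ends e).2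
        have e1 : ((m * p ^ (k + 1) : ℕ) : ℤ) * (h₁ (ends e).1 - h₁ (ends e).2) =
            ((m * p ^ k : ℕ) : ℤ) * (h (ends e).1 - h (ends e).2) -
              ((m * p ^ k : ℕ) : ℤ) * (g (ends e).1 - g (ends e).2) := by
          push_cast
          linear_combination (-((m : ℤ) * (p : ℤ) ^ k)) * d1 + ((m : ℤ) * (p : ℤ) ^ k) * d2
        rw [e1]
        by_cases he : l e ∣ m * p ^ k
        · have h6 : (l e : ℤ) ∣ ((m * p ^ k : ℕ) : ℤ) := Int.natCast_dvd_natCast.2 he
          exact dvd_sub (Dvd.dvd.mul_right h6 _) (Dvd.dvd.mul_right h6 _)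
        · rw [hgconst e he, sub_self, mul_zero, sub_zero]; exact hh e
      have e3 : ((m * p ^ k : ℕ) : ℤ) • h =
          ((m * p ^ k : ℕ) : ℤ) • g + ((m * p ^ (k + 1) : ℕ) : ℤ) • h₁ := by
        funext v
        simp only [Pi.add_apply, Pi.smul_apply, smul_eq_mul]
        have d := hdecomp v
        push_cast
        linear_combination ((m : ℤ) * (p : ℤ) ^ k) * d
      rw [e3]; exact S.add_mem hg_mem hh₁_mem
  have hP : ∀ t : ℕ, 0 < t → ∀ m : ℕ, 0 < m → (∀ e, l e ∣ m * t) → ∀ f : V → ℤ,
      LabGraph.IsCartier ends l f → ((m : ℤ) • f) ∈ S := by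
    intro t
    induction t using Nat.recOnPosPrimePosCoprime with
    | prime_pow p n hp hn =>
      intro _ m hm hdiv f hf
      have := hB p n hp m hm hdiv n 0 (by omega) f (fun e => by
        exact Dvd.dvd.mul_left (hf e) _)
      simpa using this
    | zero => intro h; omega
    | one =>
      intro _ m hm hdiv f hf
      exact hE m f hm (fun e he => absurd (by simpa using hdiv e) he)
    | coprime a b ha hb hab iha ihb =>
      intro _ m hm hdiv f hf
      obtain ⟨x, y, hxy⟩ := Nat.isCoprime_iff_coprime.2 hab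
      have h1 := iha (by omega) (m * b) (Nat.mul_pos hm (by omega))
        (fun e => by have := hdiv e; rwa [mul_assoc, mul_comm b a]) f hf
      have h2 := ihb (by omega) (m * a) (Nat.mul_pos hm (by omega))
        (fun e => by have := hdiv e; rwa [mul_assoc]) f hf
      have e4 : (m : ℤ) • f = x • (((m * a : ℕ) : ℤ) • f) + y • (((m * b : ℕ) : ℤ) • f) := by
        funext v
        simp only [Pi.add_apply, Pi.smul_apply, smul_eq_mul]
        push_cast
        linear_combination (-((m : ℤ) * f v)) * hxy
      rw [e4]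
      exact S.add_mem (S.smul_mem _ h2) (S.smul_mem _ h1)
  have := hP (∏ e, l e) (Finset.prod_pos fun e _ => hl e) 1 one_pos
    (fun e => by rw [one_mul]; exact Finset.dvd_prod_of_mem l (Finset.mem_univ e)) f hf
  simpa using this

end Groth.Agent.S17723
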