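import Groth.Statements.S17725
import Mathlib
-- import your own Groth.Agent.* helpers here

set_option autoImplicit false
universe u
open SpecSp

namespace Groth.Agent.S17725

theorem closed_of_saturated {X : Type*} [TopologicalSpace X] [TopologicalSpace.NoetherianSpace X]
    [QuasiSober X] (T : Set X) (hT : ∀ x y, x ∈ T → (x ⤳ y ∨ y ⤳ x) → y ∈ T) : IsClosed T := by
  have hTeq : T = ⋃₀ {Z | Z ∈ irreducibleComponents X ∧ (Z ∩ T).Nonempty} := by
    ext x
    constructor
    · intro hx
      exact ⟨irreducibleComponent x, ⟨irreducibleComponent_mem_irreducibleComponents x,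
        ⟨x, mem_irreducibleComponent, hx⟩⟩, mem_irreducibleComponent⟩
    · rintro ⟨Z, ⟨hZ, ⟨z, hzZ, hzT⟩⟩, hxZ⟩
      obtain ⟨η, hη⟩ := QuasiSober.sober hZ.1 (isClosed_of_mem_irreducibleComponents Z hZ)
      have h1 : η ⤳ z := by rw [specializes_iff_mem_closure, hη.def]; exact hzZ
      have h2 : η ⤳ x := by rw [specializes_iff_mem_closure, hη.def]; exact hxZ
      exact hT η x (hT z η hzT (Or.inr h1)) (Or.inl h2)
  rw [hTeq]
  rw [Set.sUnion_eq_biUnion]
  refine Set.Finite.isClosed_biUnion ?_ ?_
  · exact TopologicalSpace.NoetherianSpace.finite_irreducibleComponents.subset fun Z hZ => hZ.1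
  · intro Z hZ
    exact isClosed_of_mem_irreducibleComponents Z hZ.1

open AlgebraicGeometry in
/-- In a connected Noetherian scheme any two points p, q are linked by a finite chain of points p = x₁,
…, xₙ = q such that for each i one of x_i, x_{i+1} is a specialization of the other; equivalently, p
and q are related by the equivalence relation generated by the specialization relation. -/
theorem result
    (X : Scheme.{u}) [IsNoetherian X] [ConnectedSpace X] (p q : X) :
    Relation.EqvGen (fun x y : X => x ⤳ y) p q := by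
  have hS : ∀ x y, x ∈ {x : X | Relation.EqvGen (fun x y : X => x ⤳ y) p x} → (x ⤳ y ∨ y ⤳ x) →
      y ∈ {x : X | Relation.EqvGen (fun x y : X => x ⤳ y) p x} := by
    intro x y hx hxy
    rcases hxy with h | h
    · exact Relation.EqvGen.trans _ _ _ hx (Relation.EqvGen.rel _ _ h)
    · exact Relation.EqvGen.trans _ _ _ hx (Relation.EqvGen.symm _ _ (Relation.EqvGen.rel _ _ h))
  have hSc : ∀ x y, x ∈ {x : X | Relation.EqvGen (fun x y : X => x ⤳ y) p x}ᶜ → (x ⤳ y ∨ y ⤳ x) →
      y ∈ {x : X | Relation.EqvGen (fun x y : X => x ⤳ y) p x}ᶜ := by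
    intro x y hx hxy hy
    exact hx (hS y x hy hxy.symm)
  have hclopen : IsClopen {x : X | Relation.EqvGen (fun x y : X => x ⤳ y) p x} :=
    ⟨closed_of_saturated _ hS, isClosed_compl_iff.1 (closed_of_saturated _ hSc)⟩
  have := hclopen.eq_univ ⟨p, Relation.EqvGen.refl p⟩
  have hq : q ∈ {x : X | Relation.EqvGen (fun x y : X => x ⤳ y) p x} := by rw [this]; trivial
  exact hq

end Groth.Agent.S17725
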