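import Groth.Statements.S17726
import Mathlib
-- import your own Groth.Agent.* helpers here

set_option autoImplicit false
universe u
open CAlg

namespace Groth.Agent.S17726

/-- If `(f^a) = (f^b)` with `a < b` and `f` a non-zero-divisor then `f` is a unit. -/
theorem aux_unit (A : Type u) [CommRing A] (f : A) (hf : f ∈ nonZeroDivisors A) (a b : ℕ)
    (hab : a < b) (h : Ideal.span {f ^ a} = Ideal.span {f ^ b}) : IsUnit f := by
  have h1 : f ^ a ∈ Ideal.span {f ^ b} := by rw [← h]; exact Ideal.mem_span_singleton_self _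
  obtain ⟨c, hc⟩ := Ideal.mem_span_singleton'.mp h1
  obtain ⟨k, rfl⟩ := Nat.exists_eq_add_of_lt hab
  have hfa : f ^ a ∈ nonZeroDivisors A := pow_mem hf a
  have h2 : (c * f ^ (k + 1) - 1) * f ^ a = 0 := by
    have : f ^ (a + k + 1) = f ^ (k + 1) * f ^ a := by ring
    rw [this] at hc
    linear_combination hc
  have h3 : c * f ^ (k + 1) - 1 = 0 := (mem_nonZeroDivisors_iff_right.mp hfa) _ h2
  have h4 : f * (c * f ^ k) = 1 := by
    linear_combination h3
  exact IsUnit.of_mul_eq_one _ h4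

theorem aux_pow (A : Type u) [CommRing A] (f g : A) (m n k : ℕ)
    (h : Ideal.span {g ^ m} = Ideal.span {f ^ n}) :
    Ideal.span {g ^ (m * k)} = Ideal.span {f ^ (n * k)} := by
  rw [pow_mul, pow_mul, ← Ideal.span_singleton_pow (g ^ m), ← Ideal.span_singleton_pow (f ^ n), h]

theorem aux_main (A : Type u) [CommRing A] (f g : A)
    (hf : f ∈ nonZeroDivisors A) (hfu : ¬ IsUnit f)
    (m₁ n₁ m₂ n₂ : ℕ)
    (h₁ : Ideal.span {g ^ m₁} = Ideal.span {f ^ n₁})
    (h₂ : Ideal.span {g ^ m₂} = Ideal.span {f ^ n₂}) :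
    m₁ * n₂ = m₂ * n₁ := by
  have e1 := aux_pow A f g m₁ n₁ m₂ h₁
  have e2 := aux_pow A f g m₂ n₂ m₁ h₂
  rw [mul_comm m₂ m₁] at e2
  have e3 : Ideal.span {f ^ (n₁ * m₂)} = Ideal.span {f ^ (n₂ * m₁)} := by rw [← e1, ← e2]
  rcases lt_trichotomy (n₁ * m₂) (n₂ * m₁) with hlt | heq | hgt
  · exact absurd (aux_unit A f hf _ _ hlt e3) hfu
  · rw [mul_comm m₁ n₂, mul_comm m₂ n₁]; exact heq.symm
  · exact absurd (aux_unit A f hf _ _ hgt e3.symm) hfu

/-- Let f and g be non-zero-divisors of a commutative ring A, not both units; think of them as local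
equations, at a point of the union of the supports, of two effective Cartier divisors E and D. If
the ideals generated by g^{m₁} and f^{n₁} coincide, and likewise for g^{m₂} and f^{n₂}, then m₁ n₂ =
m₂ n₁. So all pairs (m, n) with m D = n E locally at the point are proportional, and the saturation
of the monoid they form is generated by a single element. -/
theorem result
    (A : Type u) [CommRing A] (f g : A)
    (hf : f ∈ nonZeroDivisors A) (hg : g ∈ nonZeroDivisors A) (hfg : ¬ (IsUnit f ∧ IsUnit g))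
    (m₁ n₁ m₂ n₂ : ℕ)
    (h₁ : Ideal.span {g ^ m₁} = Ideal.span {f ^ n₁})
    (h₂ : Ideal.span {g ^ m₂} = Ideal.span {f ^ n₂}) :
    m₁ * n₂ = m₂ * n₁ := by
  by_cases hfu : IsUnit f
  · by_cases hgu : IsUnit g
    · exact absurd ⟨hfu, hgu⟩ hfg
    · have := aux_main A g f hg hgu n₁ m₁ n₂ m₂ h₁.symm h₂.symm
      rw [mul_comm m₁ n₂, mul_comm m₂ n₁]
      exact this.symm
  · exact aux_main A f g hf hfu m₁ n₁ m₂ n₂ h₁ h₂

end Groth.Agent.S17726
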