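import Groth.Statements.S17727
import Mathlib

set_option autoImplicit false
universe u
open Neron

namespace Groth.Agent.S17727

section Helpers
open AlgebraicGeometry CategoryTheory CategoryTheory.Limits TopologicalSpace

set_option backward.isDefEq.respectTransparency false in
theorem ι_comp_eq_of_appLE_eq {X Y : Scheme.{u}} (f g : X ⟶ Y) {V : Y.Opens}
    (hV : IsAffineOpen V) (U : X.Opens) (hf : U ≤ f ⁻¹ᵁ V) (hg : U ≤ g ⁻¹ᵁ V)
    (H : f.appLE V U hf = g.appLE V U hg) : U.ι ≫ f = U.ι ≫ g := by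
  rw [← Scheme.Hom.resLE_comp_ι _ hf, ← Scheme.Hom.resLE_comp_ι _ hg]
  congr 1
  haveI : IsAffine V := hV
  apply ext_of_isAffine
  have h2 : (f.resLE V U hf).appTop = V.topIso.hom ≫ f.appLE V U hf ≫ U.topIso.inv :=
    Scheme.Hom.resLE_app_top _ _
  have h3 : (g.resLE V U hg).appTop = V.topIso.hom ≫ g.appLE V U hg ≫ U.topIso.inv :=
    Scheme.Hom.resLE_app_top _ _
  rw [h2, h3, H]

set_option backward.isDefEq.respectTransparency false in
theorem appLE_eq_of_ι_comp_eq {X Y : Scheme.{u}} (f g : X ⟶ Y) (V : Y.Opens) (D : X.Opens)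
    (e₁ : D ≤ f ⁻¹ᵁ V) (e₂ : D ≤ g ⁻¹ᵁ V) (h : D.ι ≫ f = D.ι ≫ g) :
    f.appLE V D e₁ = g.appLE V D e₂ := by
  have h1 : f.resLE V D e₁ = g.resLE V D e₂ := by
    rw [← cancel_mono V.ι, Scheme.Hom.resLE_comp_ι, Scheme.Hom.resLE_comp_ι, h]
  have h2 : (f.resLE V D e₁).appTop = V.topIso.hom ≫ f.appLE V D e₁ ≫ D.topIso.inv :=
    Scheme.Hom.resLE_app_top _ _
  have h3 : (g.resLE V D e₂).appTop = V.topIso.hom ≫ g.appLE V D e₂ ≫ D.topIso.inv :=
    Scheme.Hom.resLE_app_top _ _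
  rw [h1] at h2
  have h4 := h2.symm.trans h3
  rw [cancel_epi, cancel_mono] at h4
  exact h4

set_option backward.isDefEq.respectTransparency false in
theorem main17727 {E S : Scheme.{u}} (f : E ⟶ S) (U : S.Opens)
    (hiso : IsIso (morphismRestrict f U)) (hdense : CInt.IsSchematicallyDense (f ⁻¹ᵁ U))
    (σ : S ⟶ E) (hσ : σ ≫ f = 𝟙 S) (s : S) :
    ∃ W : E.Opens, σ s ∈ W ∧ IsOpenImmersion (W.ι ≫ f) := by
  haveI := hiso
  -- Step 1: `f ≫ σ` is the identity on `f⁻¹U`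
  have hU1 : (f ⁻¹ᵁ U).ι ≫ (f ≫ σ) = (f ⁻¹ᵁ U).ι ≫ 𝟙 E := by
    let τ : U.toScheme ⟶ E := U.ι ≫ σ
    have hτf : τ ≫ f = U.ι := by rw [Category.assoc, hσ, Category.comp_id]
    have hrange : Set.range ⇑τ ⊆ Set.range ⇑(f ⁻¹ᵁ U).ι := by
      rintro _ ⟨z, rfl⟩
      rw [Scheme.Opens.range_ι]
      show f (τ z) ∈ U
      rw [← Scheme.Hom.comp_apply, hτf]
      exact z.2
    let τ' : U.toScheme ⟶ (f ⁻¹ᵁ U).toScheme := IsOpenImmersion.lift (f ⁻¹ᵁ U).ι τ hrange
    have hτ' : τ' ≫ (f ⁻¹ᵁ U).ι = τ := IsOpenImmersion.lift_fac _ _ _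
    have h1 : τ' ≫ (f ∣_ U) = 𝟙 _ := by
      rw [← cancel_mono U.ι, Category.assoc, morphismRestrict_ι, ← Category.assoc, hτ', hτf,
        Category.id_comp]
    have h2 : (f ∣_ U) ≫ τ' = 𝟙 _ := by
      rw [← cancel_mono (f ∣_ U), Category.assoc, h1, Category.comp_id, Category.id_comp]
    rw [Category.comp_id, ← Category.assoc, ← morphismRestrict_ι, Category.assoc]
    show (f ∣_ U) ≫ τ = _
    rw [← hτ', ← Category.assoc, h2, Category.id_comp]
  -- Step 2: choose opens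
  obtain ⟨E₀, hE₀, heE₀, -⟩ := Opens.isBasis_iff_nbhd.mp E.isBasis_affineOpens
    (Opens.mem_top (σ s))
  have hfix : (f ≫ σ) (σ s) = σ s := by
    rw [← Scheme.Hom.comp_apply, ← Category.assoc, hσ, Category.id_comp]
  let W : E.Opens := E₀ ⊓ (f ≫ σ) ⁻¹ᵁ E₀
  have heW : σ s ∈ W := ⟨heE₀, by show (f ≫ σ) (σ s) ∈ E₀; rw [hfix]; exact heE₀⟩
  have hf' : W ≤ (f ≫ σ) ⁻¹ᵁ E₀ := inf_le_right
  have hg' : W ≤ (𝟙 E) ⁻¹ᵁ E₀ := fun z hz => hz.1
  -- Step 3
  have h3 : W.ι ≫ (f ≫ σ) = W.ι ≫ 𝟙 E := by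
    apply ι_comp_eq_of_appLE_eq (f ≫ σ) (𝟙 E) hE₀ W hf' hg'
    have hinj := hdense W
    haveI : Mono (E.presheaf.map (homOfLE (inf_le_left : W ⊓ f ⁻¹ᵁ U ≤ W)).op) :=
      ConcreteCategory.mono_of_injective _ hinj
    rw [← cancel_mono (E.presheaf.map (homOfLE (inf_le_left : W ⊓ f ⁻¹ᵁ U ≤ W)).op),
      Scheme.Hom.appLE_map, Scheme.Hom.appLE_map]
    apply appLE_eq_of_ι_comp_eq
    rw [← E.homOfLE_ι (inf_le_right : W ⊓ f ⁻¹ᵁ U ≤ f ⁻¹ᵁ U), Category.assoc, Category.assoc,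
      hU1]
  have h3' : W.ι ≫ f ≫ σ = W.ι := by rw [h3, Category.comp_id]
  -- Step 4
  let V : S.Opens := σ ⁻¹ᵁ W
  have hr₁ : Set.range ⇑(W.ι ≫ f) ⊆ Set.range ⇑V.ι := by
    rintro _ ⟨w, rfl⟩
    rw [Scheme.Opens.range_ι]
    show σ (f (W.ι w)) ∈ W
    have hpt : (W.ι ≫ f ≫ σ) w = W.ι w := by rw [h3']
    have hpt' : σ (f (W.ι w)) = W.ι w := hpt
    rw [hpt']
    exact w.2
  have hr₂ : Set.range ⇑(V.ι ≫ σ) ⊆ Set.range ⇑W.ι := by
    rintro _ ⟨z, rfl⟩
    rw [Scheme.Opens.range_ι]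
    exact z.2
  let fW : W.toScheme ⟶ V.toScheme := IsOpenImmersion.lift V.ι (W.ι ≫ f) hr₁
  let σV : V.toScheme ⟶ W.toScheme := IsOpenImmersion.lift W.ι (V.ι ≫ σ) hr₂
  have hfW : fW ≫ V.ι = W.ι ≫ f := IsOpenImmersion.lift_fac _ _ _
  have hσV : σV ≫ W.ι = V.ι ≫ σ := IsOpenImmersion.lift_fac _ _ _
  have h5 : fW ≫ σV = 𝟙 _ := by
    rw [← cancel_mono W.ι, Category.assoc, hσV, ← Category.assoc, hfW, Category.assoc, h3',
      Category.id_comp]
  have h6 : σV ≫ fW = 𝟙 _ := by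
    rw [← cancel_mono V.ι, Category.assoc, hfW, ← Category.assoc, hσV, Category.assoc, hσ,
      Category.comp_id, Category.id_comp]
  haveI : IsIso fW := ⟨σV, h5, h6⟩
  refine ⟨W, heW, ?_⟩
  rw [← hfW]
  infer_instance

end Helpers

open CategoryTheory AlgebraicGeometry in
/-- Let f : E → S be a morphism of schemes and U ⊆ S a schematically dense open subscheme such that f
restricts to an isomorphism over U and the preimage of U is schematically dense in E. Then for every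
section σ of f and every point s of S there is an open neighbourhood W of σ(s) in E on which f
restricts to an open immersion. (The published statements conclude that the section lands in the
étale locus of f, in one published form for an algebraic space E, in another for f locally of finite
type over a Noetherian base; the affine-local argument gives the sharper conclusion recorded here,
for schemes.) -/
theorem result
    {E S : Scheme.{u}} (f : E ⟶ S) (U : S.Opens) (hU : CInt.IsSchematicallyDense U)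
    (hiso : IsIso (morphismRestrict f U)) (hdense : CInt.IsSchematicallyDense (f ⁻¹ᵁ U))
    (σ : S ⟶ E) (hσ : σ ≫ f = 𝟙 S) (s : S) :
    ∃ W : E.Opens, σ.base s ∈ W ∧ IsOpenImmersion (W.ι ≫ f) := by
  exact main17727 f U hiso hdense σ hσ s

end Groth.Agent.S17727
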