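import Mathlib
import Groth.Statements.S17731
-- import your own Groth.Agent.* helpers here

set_option autoImplicit false
universe u
open Neron

namespace Groth.Agent.S17731


open CategoryTheory AlgebraicGeometry in
/-- Let S be a scheme, U ⊆ S a schematically dense open subscheme and N → S a smooth S-scheme having
uniqueness in the Néron mapping property with respect to U: for every smooth S-scheme Y, restriction
to U is injective on S-morphisms Y → N. Then for every smooth morphism g : S' → S the base change N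
×_S S' → S' has uniqueness in the Néron mapping property with respect to g⁻¹(U): for every smooth
S'-scheme Y', restriction to g⁻¹(U) is injective on S'-morphisms Y' → N ×_S S'. (The published
statement is for models which are algebraic spaces, tested against smooth algebraic spaces; this row
states the case of a scheme model tested against smooth schemes. The companion assertion that Néron
models are preserved by smooth base change is not restated here.) -/
theorem result
    {S S' : Scheme.{u}} (g : S' ⟶ S) [Smooth g]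
    (U : S.Opens) (hU : CInt.IsSchematicallyDense U) (N : Over S) [Smooth N.hom]
    (hN : ∀ Y : Over S, Smooth Y.hom →
      Function.Injective (fun f : Y ⟶ N => (Over.pullback U.ι).map f))
    (Y' : Over S') [Smooth Y'.hom] :
    Function.Injective (fun f : Y' ⟶ (Over.pullback g).obj N => (Over.pullback (g ⁻¹ᵁ U).ι).map f) := by
  intro f₁ f₂ h
  have h' : (Over.pullback (g ⁻¹ᵁ U).ι).map f₁ = (Over.pullback (g ⁻¹ᵁ U).ι).map f₂ := h
  have hfst : ∀ φ : Y' ⟶ (Over.pullback g).obj N, ((Over.pullback (g ⁻¹ᵁ U).ι).map φ).left ≫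
      Limits.pullback.fst ((Over.pullback g).obj N).hom (g ⁻¹ᵁ U).ι =
      Limits.pullback.fst Y'.hom (g ⁻¹ᵁ U).ι ≫ φ.left := fun φ => Limits.pullback.lift_fst _ _ _
  have hj : Limits.pullback.fst Y'.hom (g ⁻¹ᵁ U).ι ≫ f₁.left =
      Limits.pullback.fst Y'.hom (g ⁻¹ᵁ U).ι ≫ f₂.left := by
    rw [← hfst f₁, ← hfst f₂, h']
  have hrange : Set.range (Limits.pullback.fst (Y'.hom ≫ g) U.ι) ⊆
      Set.range (Limits.pullback.fst Y'.hom (g ⁻¹ᵁ U).ι) := by
    rw [Scheme.Pullback.range_fst, Scheme.Pullback.range_fst, Scheme.Opens.range_ι,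
      Scheme.Opens.range_ι]
    intro y hy
    exact hy
  have hj2 : Limits.pullback.fst (Y'.hom ≫ g) U.ι ≫ f₁.left =
      Limits.pullback.fst (Y'.hom ≫ g) U.ι ≫ f₂.left := by
    rw [← IsOpenImmersion.lift_fac (Limits.pullback.fst Y'.hom (g ⁻¹ᵁ U).ι)
      (Limits.pullback.fst (Y'.hom ≫ g) U.ι) hrange, Category.assoc, Category.assoc, hj]
  have hw : ∀ φ : Y' ⟶ (Over.pullback g).obj N,
      (φ.left ≫ Limits.pullback.fst N.hom g) ≫ N.hom = Y'.hom ≫ g := by
    intro φ
    have h1 : φ.left ≫ Limits.pullback.snd N.hom g = Y'.hom := Over.w φ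
    rw [Category.assoc, Limits.pullback.condition, ← Category.assoc, h1]
  obtain ⟨F₁, hF₁⟩ : ∃ F : Over.mk (Y'.hom ≫ g) ⟶ N,
      F.left = f₁.left ≫ Limits.pullback.fst N.hom g := ⟨Over.homMk _ (hw f₁), rfl⟩
  obtain ⟨F₂, hF₂⟩ : ∃ F : Over.mk (Y'.hom ≫ g) ⟶ N,
      F.left = f₂.left ≫ Limits.pullback.fst N.hom g := ⟨Over.homMk _ (hw f₂), rfl⟩
  have hsm : Smooth (Over.mk (Y'.hom ≫ g)).hom := (inferInstance : Smooth (Y'.hom ≫ g))
  have hF : F₁ = F₂ := by
    refine hN (Over.mk (Y'.hom ≫ g)) hsm ?_
    show (Over.pullback U.ι).map F₁ = (Over.pullback U.ι).map F₂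
    ext1
    refine Limits.pullback.hom_ext ?_ ?_
    · refine (Limits.pullback.lift_fst _ _ _).trans (Eq.trans ?_ (Limits.pullback.lift_fst _ _ _).symm)
      show Limits.pullback.fst (Y'.hom ≫ g) U.ι ≫ F₁.left = Limits.pullback.fst (Y'.hom ≫ g) U.ι ≫ F₂.left
      rw [hF₁, hF₂, ← Category.assoc, ← Category.assoc, hj2]
    · exact (Limits.pullback.lift_snd _ _ _).trans (Limits.pullback.lift_snd _ _ _).symm
  have hleft : f₁.left ≫ Limits.pullback.fst N.hom g = f₂.left ≫ Limits.pullback.fst N.hom g := by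
    rw [← hF₁, ← hF₂, hF]
  ext1
  refine Limits.pullback.hom_ext hleft ?_
  exact (Over.w f₁).trans (Over.w f₂).symm

end Groth.Agent.S17731
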