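import Groth.Statements.S17751
import Mathlib

set_option autoImplicit false
universe u
open LocCoh

namespace Groth.Agent.S17751

/-- Suppose R is a Noetherian ring, r is a natural number, and I is an ideal of R. Then there are
elements f_1, …, f_r of I such that for every prime ideal p of R of height less than r, p contains I
if and only if p contains f_1, …, f_r. (For r = 0 there is nothing to prove.) -/
theorem result (R : Type u) [CommRing R] [IsNoetherianRing R] (I : Ideal R) (r : ℕ) : ∃ f : Fin r → R, (∀ i, f i ∈ I) ∧ ∀ (p : Ideal R) [p.IsPrime], p.height < r → (I ≤ p ↔ Ideal.span (Set.range f) ≤ p) := by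
  classical
  induction r with
  | zero =>
    refine ⟨Fin.elim0, fun i => i.elim0, ?_⟩
    intro p _ hp
    exact absurd hp (by simp)
  | succ r ih =>
    obtain ⟨f, hfI, hf⟩ := ih
    have hJI : Ideal.span (Set.range f) ≤ I := Ideal.span_le.mpr (by rintro _ ⟨i, rfl⟩; exact hfI i)
    have hfin : ((Ideal.span (Set.range f)).minimalPrimes).Finite :=
      Ideal.finite_minimalPrimes_of_isNoetherianRing R _
    let S : Finset (Ideal R) := hfin.toFinset.filter (fun q => ¬ I ≤ q)
    have hSmem : ∀ q, q ∈ S ↔ q ∈ (Ideal.span (Set.range f)).minimalPrimes ∧ ¬ I ≤ q := by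
      intro q
      simp only [S, Finset.mem_filter, Set.Finite.mem_toFinset]
    have hSprime : ∀ q ∈ S, q.IsPrime := fun q hq => ((hSmem q).mp hq).1.1.1
    obtain ⟨g, hgI, hg⟩ : ∃ g ∈ I, ∀ q ∈ S, g ∉ q := by
      by_contra hcon
      push Not at hcon
      have hsub : (I : Set R) ⊆ ⋃ q ∈ (↑S : Set (Ideal R)), (q : Set R) := by
        intro g hg
        obtain ⟨q, hq, hgq⟩ := hcon g hg
        exact Set.mem_biUnion hq hgq
      obtain ⟨q, hq, hIq⟩ := (Ideal.subset_union_prime (f := fun q : Ideal R => q) ⊥ ⊥
        (fun q hq _ _ => hSprime q hq)).mp hsub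
      exact ((hSmem q).mp hq).2 hIq
    have hmemI : ∀ i, (Fin.snoc f g : Fin (r + 1) → R) i ∈ I := by
      intro i
      refine Fin.lastCases ?_ (fun j => ?_) i
      · rw [Fin.snoc_last]
        exact hgI
      · rw [Fin.snoc_castSucc]
        exact hfI j
    refine ⟨Fin.snoc f g, hmemI, ?_⟩
    intro p _ hp
    constructor
    · intro hIp
      refine le_trans (Ideal.span_le.mpr ?_) hIp
      rintro _ ⟨i, rfl⟩
      exact hmemI i
    · intro hspan
      have hJp : Ideal.span (Set.range f) ≤ p := by
        refine Ideal.span_le.mpr ?_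
        rintro _ ⟨i, rfl⟩
        apply hspan
        apply Ideal.subset_span
        exact ⟨Fin.castSucc i, by rw [Fin.snoc_castSucc]⟩
      have hgp : g ∈ p := hspan (Ideal.subset_span ⟨Fin.last r, by rw [Fin.snoc_last]⟩)
      obtain ⟨q, hq, hqp⟩ := Ideal.exists_minimalPrimes_le hJp
      have : q.IsPrime := hq.1.1
      rcases eq_or_lt_of_le hqp with heq | hlt
      · have hIq : I ≤ q := by
          by_contra hIq
          exact hg q ((hSmem q).mpr ⟨hq, hIq⟩) (by rw [heq]; exact hgp)
        rw [← heq]
        exact hIq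
      · have hht : q.height < p.height := Ideal.height_strict_mono_of_isPrime hlt
        have hpr : p.height ≤ r := by
          have hp' : p.height < (r : ℕ∞) + 1 := by exact_mod_cast hp
          exact (ENat.lt_add_one_iff (ENat.natCast_ne_top r)).mp hp'
        have hqr : q.height < r := lt_of_lt_of_le hht hpr
        exact ((hf q hqr).mpr hq.1.2).trans hqp

end Groth.Agent.S17751
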