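import Groth.Statements.S17752
import Mathlib
import Groth.Agent.S17751

set_option autoImplicit false
universe u
open LocCoh

namespace Groth.Agent.S17752

/-- Let R be a Noetherian ring of Krull dimension d and I an ideal of R. Then there are d + 1 elements
f_0, …, f_d of I such that I and the ideal they generate have the same radical; in other words the
arithmetic rank of I is at most d + 1. -/
theorem result (R : Type u) [CommRing R] [IsNoetherianRing R] (d : ℕ) (hd : ringKrullDim R = d) (I : Ideal R) : ∃ f : Fin (d + 1) → R, (∀ i, f i ∈ I) ∧ I.radical = (Ideal.span (Set.range f)).radical := by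
  classical
  obtain ⟨f, hfI, hf⟩ := Groth.Agent.S17751.result R I (d + 1)
  refine ⟨f, hfI, ?_⟩
  have hiff : ∀ p : Ideal R, p.IsPrime → (I ≤ p ↔ Ideal.span (Set.range f) ≤ p) := by
    intro p hp
    have hle : (p.height : WithBot ℕ∞) ≤ ringKrullDim R :=
      Ideal.height_le_ringKrullDim_of_ne_top hp.ne_top
    rw [hd] at hle
    have hle' : p.height ≤ (d : ℕ∞) := by exact_mod_cast hle
    have hlt : p.height < ((d + 1 : ℕ) : ℕ∞) := by
      push_cast
      exact (ENat.lt_add_one_iff (ENat.natCast_ne_top d)).mpr hle'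
    exact hf p hlt
  rw [Ideal.radical_eq_sInf, Ideal.radical_eq_sInf]
  congr 1
  ext p
  constructor
  · rintro ⟨h1, h2⟩
    exact ⟨(hiff p h2).mp h1, h2⟩
  · rintro ⟨h1, h2⟩
    exact ⟨(hiff p h2).mpr h1, h2⟩

end Groth.Agent.S17752
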