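import Groth.Statements.S17753
import Mathlib
import Groth.Agent.S17751

set_option autoImplicit false
universe u
open LocCoh

namespace Groth.Agent.S17753

/-- Let R be a Noetherian local ring of Krull dimension d and I a proper ideal of R. Then there are d
elements f_1, …, f_d of I such that I and the ideal they generate have the same radical, so the
arithmetic rank of I is at most d. (The published statement has no properness hypothesis; for the
unit ideal of a field, d = 0 and no empty family generates the unit ideal up to radical, and the
published proof uses that the maximal ideal contains I.) -/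
theorem result (R : Type u) [CommRing R] [IsNoetherianRing R] [IsLocalRing R] (d : ℕ) (hd : ringKrullDim R = d) (I : Ideal R) (hI : I ≠ ⊤) : ∃ f : Fin d → R, (∀ i, f i ∈ I) ∧ I.radical = (Ideal.span (Set.range f)).radical := by
  classical
  obtain ⟨f, hfI, hf⟩ := Groth.Agent.S17751.result R I d
  refine ⟨f, hfI, ?_⟩
  have hJI : Ideal.span (Set.range f) ≤ I := Ideal.span_le.mpr (by rintro _ ⟨i, rfl⟩; exact hfI i)
  have hiff : ∀ p : Ideal R, p.IsPrime → (I ≤ p ↔ Ideal.span (Set.range f) ≤ p) := by
    intro p hp
    by_cases hlt : p.height < (d : ℕ∞)
    · exact hf p hlt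
    · -- then `p` is the maximal ideal
      have hpm : p = IsLocalRing.maximalIdeal R := by
        by_contra hne
        have hlt' : p < IsLocalRing.maximalIdeal R :=
          lt_of_le_of_ne (IsLocalRing.le_maximalIdeal hp.ne_top) hne
        have hht : p.height < (IsLocalRing.maximalIdeal R).height :=
          Ideal.height_strict_mono_of_isPrime hlt'
        have hle : ((IsLocalRing.maximalIdeal R).height : WithBot ℕ∞) ≤ ringKrullDim R :=
          Ideal.height_le_ringKrullDim_of_ne_top (IsLocalRing.maximalIdeal.isMaximal R).ne_top
        rw [hd] at hle
        have hle' : (IsLocalRing.maximalIdeal R).height ≤ (d : ℕ∞) := by exact_mod_cast hle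
        exact hlt (lt_of_lt_of_le hht hle')
      rw [hpm]
      constructor
      · intro _
        exact hJI.trans (IsLocalRing.le_maximalIdeal hI)
      · intro _
        exact IsLocalRing.le_maximalIdeal hI
  rw [Ideal.radical_eq_sInf, Ideal.radical_eq_sInf]
  congr 1
  ext p
  constructor
  · rintro ⟨h1, h2⟩
    exact ⟨(hiff p h2).mp h1, h2⟩
  · rintro ⟨h1, h2⟩
    exact ⟨(hiff p h2).mpr h1, h2⟩

end Groth.Agent.S17753
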