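import Groth.Statements.S17755
import Groth.Agent.H13.LCDimLib2
import Groth.Agent.H13.LCFinLen

set_option autoImplicit false
universe u
open LocCoh

namespace Groth.Agent.S17755

/-- Let R be a Noetherian local ring with maximal ideal m which is a homomorphic image of a Gorenstein
local ring, and let M be a finitely generated R-module whose support has dimension n. Then the
following are equivalent: (1) M is generalized Cohen–Macaulay, i.e. the local cohomology module
H^i_m(M) has finite length for every i < n; (2) M is equidimensional, i.e. R ⧸ p has dimension n for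
every minimal prime p of the annihilator of M, and for every prime p ≠ m containing the annihilator
of M the localization M_p is a Cohen–Macaulay module over R_p (its depth equals the dimension of its
support). -/
theorem result (R : Type u) [CommRing R] [IsNoetherianRing R] [IsLocalRing R] (R' : Type u) [CommRing R'] [LocCoh.IsGorensteinLocalRing R'] (g : R' →+* R) (hg : Function.Surjective g) (M : Type u) [AddCommGroup M] [Module R M] [Module.Finite R M] (n : ℕ) (hn : Module.supportDim R M = n) : (∀ i : ℕ, i < n → IsFiniteLength R (LocCoh.H (IsLocalRing.maximalIdeal R) i M)) ↔ ((∀ p ∈ (Module.annihilator R M).minimalPrimes, ringKrullDim (R ⧸ p) = n) ∧ ∀ (p : Ideal R) [p.IsPrime], p ≠ IsLocalRing.maximalIdeal R → Module.annihilator R M ≤ p → LocCoh.IsCohenMacaulayModule (Localization.AtPrime p) (LocalizedModule p.primeCompl M)) := by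
  let _ : Algebra R' R := g.toAlgebra
  let _ : Module R' M := Module.compHom M g
  have hST : IsScalarTower R' R M := ⟨fun s r m => by
    change (g s * r) • m = g s • (r • m)
    rw [mul_smul]⟩
  have hgs : Function.Surjective (algebraMap R' R) := hg
  have hnoeth : ∀ (p : Ideal R) [p.IsPrime], IsNoetherianRing (Localization.AtPrime p) :=
    fun p _ => IsLocalization.isNoetherianRing p.primeCompl _ inferInstance
  have key : (∀ i : ℕ, i < n → IsFiniteLength R (LocCoh.H (IsLocalRing.maximalIdeal R) i M)) ↔
      ∀ (p : Ideal R) [p.IsPrime], p ≠ IsLocalRing.maximalIdeal R → ∀ a : ℕ,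
        ringKrullDim (R ⧸ p) = a →
        (n : ℕ∞) ≤ LocCoh.depth (Localization.AtPrime p) (LocalizedModule p.primeCompl M) + a := by
    constructor
    · intro h p _ hpm a ha
      rcases Nat.eq_zero_or_pos n with rfl | hpos
      · simp
      have hnotle : ¬ IsLocalRing.maximalIdeal R ≤ p := fun hle =>
        hpm ((IsLocalRing.maximalIdeal.isMaximal R).eq_of_le
          (Ideal.IsPrime.ne_top inferInstance) hle).symm
      have := hnoeth p
      have hlt := (Groth.Agent.H13.LC.forall_subsingleton_iff_lt_depth (Localization.AtPrime p)
        (LocalizedModule p.primeCompl M) (n - 1) a).mp (by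
          intro j hj
          have hi : j + a < n := by omega
          have h1 := (Groth.Agent.H13.LC.isFiniteLength_H_iff R M (j + a)).mp (h (j + a) hi)
          exact (Groth.Agent.H13.LC.le_radical_annihilator_iff_of_surjective (R' := R') (R := R)
            hgs M (IsLocalRing.maximalIdeal R) (j + a)).mp h1 p hnotle j (by
              rw [ha, Groth.Agent.H29.withBot_natCast_add]))
      have h2 := Order.add_one_le_of_lt hlt
      calc (n : ℕ∞) = ((n - 1 : ℕ) : ℕ∞) + 1 := by
            exact_mod_cast (by omega : n = n - 1 + 1)
        _ ≤ _ := h2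
    · intro h i hi
      rw [Groth.Agent.H13.LC.isFiniteLength_H_iff R M i,
        Groth.Agent.H13.LC.le_radical_annihilator_iff_of_surjective (R' := R') (R := R) hgs M
          (IsLocalRing.maximalIdeal R) i]
      intro p _ hnotle j hj
      have hpm : p ≠ IsLocalRing.maximalIdeal R := fun heq => hnotle (heq ▸ le_rfl)
      obtain ⟨a, ha⟩ := Groth.Agent.H29.withBot_exists_natCast
        (Groth.Agent.H29.ringKrullDim_quotient_ne_bot R p)
        (Groth.Agent.H29.ringKrullDim_quotient_ne_top R p)
      rw [ha, ← Groth.Agent.H29.withBot_natCast_add] at hj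
      have hja : j + a = i := Groth.Agent.H29.withBot_natCast_inj hj
      have h1 := h p hpm a ha
      have := hnoeth p
      exact (Groth.Agent.H13.LC.forall_subsingleton_iff_lt_depth (Localization.AtPrime p)
        (LocalizedModule p.primeCompl M) i a).mpr
        (lt_of_lt_of_le (by exact_mod_cast hi) h1) j (by omega)
  rw [key]
  have hsuppdim : ∀ (p : Ideal R) [p.IsPrime], Module.annihilator R M ≤ p → ∀ (c a : ℕ),
      Module.supportDim (Localization.AtPrime p) (LocalizedModule p.primeCompl M) = c →
      ringKrullDim (R ⧸ p) = a → c + a ≤ n := by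
    intro p _ hann c a hc ha
    have hp : (⟨p, inferInstance⟩ : PrimeSpectrum R) ∈ Module.support R M :=
      Module.mem_support_iff_of_finite.mpr hann
    have h1 := Groth.Agent.H29.supportDim_localizedModule_add_le R M ⟨p, inferInstance⟩ hp
    rw [hn] at h1
    change Module.supportDim (Localization.AtPrime p) _ + ringKrullDim (R ⧸ p) ≤ _ at h1
    rw [hc, ha, ← Groth.Agent.H29.withBot_natCast_add] at h1
    exact Groth.Agent.H29.withBot_natCast_le.mp h1
  constructor
  · intro h
    constructor
    · intro p hmin
      have hpprime : p.IsPrime := hmin.1.1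
      by_cases hpm : p = IsLocalRing.maximalIdeal R
      · have hq : ∀ q : Module.support R M, q.1.asIdeal = IsLocalRing.maximalIdeal R := by
          intro q
          have h1 : Module.annihilator R M ≤ q.1.asIdeal :=
            Module.mem_support_iff_of_finite.mp q.2
          have h2 : q.1.asIdeal ≤ IsLocalRing.maximalIdeal R :=
            IsLocalRing.le_maximalIdeal (Ideal.IsPrime.ne_top q.1.2)
          exact le_antisymm h2 (hpm ▸ hmin.2 ⟨q.1.2, h1⟩ (hpm ▸ h2))
        have hsub : Subsingleton (Module.support R M) := ⟨fun q q' =>
          Subtype.ext (PrimeSpectrum.ext ((hq q).trans (hq q').symm))⟩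
        have h0 : Module.supportDim R M ≤ 0 := Order.krullDim_nonpos_of_subsingleton
        rw [hn] at h0
        have hn0 : n = 0 := by
          have : n ≤ 0 := by exact_mod_cast h0
          omega
        rw [hpm, Groth.Agent.H29.ringKrullDim_quotient_maximalIdeal, hn0]
        rfl
      · have hass : p ∈ associatedPrimes R M :=
          Module.associatedPrimes.minimalPrimes_annihilator_subset_associatedPrimes R M hmin
        have hd := Groth.Agent.H13.LC.depth_localized_eq_zero_of_mem_ass M p hass
        obtain ⟨a, ha⟩ := Groth.Agent.H29.withBot_exists_natCast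
          (Groth.Agent.H29.ringKrullDim_quotient_ne_bot R p)
          (Groth.Agent.H29.ringKrullDim_quotient_ne_top R p)
        have h1 := h p hpm a ha
        rw [hd, zero_add] at h1
        have hna : n ≤ a := by exact_mod_cast h1
        have hp : (⟨p, inferInstance⟩ : PrimeSpectrum R) ∈ Module.support R M :=
          Module.mem_support_iff_of_finite.mpr hmin.1.2
        have hnt : Nontrivial (LocalizedModule p.primeCompl M) := Module.mem_support_iff.mp hp
        have := hnoeth p
        obtain ⟨c, hc⟩ := Groth.Agent.H29.withBot_exists_natCast
          (Module.supportDim_ne_bot_of_nontrivial (Localization.AtPrime p)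
            (LocalizedModule p.primeCompl M))
          (Groth.Agent.H29.supportDim_lt_top (Localization.AtPrime p)
            (LocalizedModule p.primeCompl M)).ne
        have h3 := hsuppdim p hmin.1.2 c a hc ha
        rw [ha]
        have : a = n := by omega
        rw [this]
    · intro p _ hpm hann
      have hp : (⟨p, inferInstance⟩ : PrimeSpectrum R) ∈ Module.support R M :=
        Module.mem_support_iff_of_finite.mpr hann
      have hnt : Nontrivial (LocalizedModule p.primeCompl M) := Module.mem_support_iff.mp hp
      have := hnoeth p
      obtain ⟨a, ha⟩ := Groth.Agent.H29.withBot_exists_natCast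
        (Groth.Agent.H29.ringKrullDim_quotient_ne_bot R p)
        (Groth.Agent.H29.ringKrullDim_quotient_ne_top R p)
      obtain ⟨c, hc⟩ := Groth.Agent.H29.withBot_exists_natCast
        (Module.supportDim_ne_bot_of_nontrivial (Localization.AtPrime p)
          (LocalizedModule p.primeCompl M))
        (Groth.Agent.H29.supportDim_lt_top (Localization.AtPrime p)
          (LocalizedModule p.primeCompl M)).ne
      have h1 := h p hpm a ha
      have h2 := Groth.Agent.H29.depth_le_supportDim (Localization.AtPrime p)
        (LocalizedModule p.primeCompl M)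
      have h3 := hsuppdim p hann c a hc ha
      rw [hc] at h2
      have hdfin : LocCoh.depth (Localization.AtPrime p) (LocalizedModule p.primeCompl M) ≠ ⊤ := by
        intro htop
        rw [htop] at h2
        have : ((⊤ : ℕ∞) : WithBot ℕ∞) ≤ ((c : ℕ∞) : WithBot ℕ∞) := h2
        rw [WithBot.coe_le_coe] at this
        exact absurd (top_le_iff.mp this) (ENat.natCast_ne_top c)
      obtain ⟨d, hd⟩ := ENat.ne_top_iff_exists.mp hdfin
      rw [← hd] at h1 h2
      have h1' : n ≤ d + a := by exact_mod_cast h1
      have h2' : d ≤ c := by exact_mod_cast h2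
      change Module.supportDim (Localization.AtPrime p) (LocalizedModule p.primeCompl M) = _
      rw [hc, ← hd]
      have : c = d := by omega
      rw [this]
      rfl
  · rintro ⟨hequi, hcm⟩ p _ hpm a ha
    by_cases hsub : Subsingleton (LocalizedModule p.primeCompl M)
    · rw [Groth.Agent.H29.depth_eq_top_of_subsingleton, top_add]
      exact le_top
    · have hnt : Nontrivial (LocalizedModule p.primeCompl M) :=
        not_subsingleton_iff_nontrivial.mp hsub
      have hp : (⟨p, inferInstance⟩ : PrimeSpectrum R) ∈ Module.support R M :=
        Module.mem_support_iff.mpr hnt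
      have hann : Module.annihilator R M ≤ p := Module.mem_support_iff_of_finite.mp hp
      have hcmp : Module.supportDim (Localization.AtPrime p) (LocalizedModule p.primeCompl M) =
          ((LocCoh.depth (Localization.AtPrime p) (LocalizedModule p.primeCompl M) : ℕ∞) :
            WithBot ℕ∞) := hcm p hpm hann
      obtain ⟨p₀, hmin, hle⟩ := Ideal.exists_minimalPrimes_le hann
      have hp₀prime : p₀.IsPrime := hmin.1.1
      have hdim0 := hequi p₀ hmin
      have hL6 := Groth.Agent.H13.LC.ringKrullDim_quotient_eq_height_add hgs p₀ p hle
      have hL2 := Groth.Agent.H13.LC.height_le_supportDim_localized M p₀ p hle hmin.1.2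
      rw [hcmp] at hL2
      have hL2' := WithBot.coe_le_coe.mp hL2
      rw [hdim0, ha] at hL6
      have hxfin : (p.map (Ideal.Quotient.mk p₀)).height ≠ ⊤ := by
        intro htop
        rw [htop] at hL6
        have h5 : ((n : ℕ∞) : WithBot ℕ∞) = (((⊤ : ℕ∞) + (a : ℕ∞) : ℕ∞) : WithBot ℕ∞) := by
          rw [WithBot.coe_add]
          exact hL6
        rw [top_add] at h5
        exact ENat.natCast_ne_top n (WithBot.coe_injective h5)
      obtain ⟨x, hx⟩ := ENat.ne_top_iff_exists.mp hxfin
      rw [← hx] at hL6 hL2'
      have hnx : n = x + a := by exact_mod_cast hL6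
      calc (n : ℕ∞) = (x : ℕ∞) + a := by exact_mod_cast hnx
        _ ≤ _ := add_le_add_left hL2' _

end Groth.Agent.S17755
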