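import Groth.Statements.S17756
import Mathlib
import Groth.Agent.Lib.Helper7.Matlis3

set_option autoImplicit false
universe u
open Matlis

namespace Groth.Agent.S17756

theorem length_quot {R : Type u} [CommRing R] [IsLocalRing R] (M : Type u) [AddCommGroup M]
    [Module R M] [Module.Finite R M] :
    Module.length R (M ⧸ (IsLocalRing.maximalIdeal R • ⊤ : Submodule R M)) =
      ((⊤ : Submodule R M).spanFinrank : ℕ∞) := by
  classical
  have hTfg : (⊤ : Submodule R M).FG := Module.Finite.fg_top
  have h1 := IsLocalRing.spanFinrank_eq_finrank_quotient (⊤ : Submodule R M) hTfg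
  let _ : Field (R ⧸ IsLocalRing.maximalIdeal R) := Ideal.Quotient.field _
  have hfinT : Module.Finite R (⊤ : Submodule R M) := Module.Finite.iff_fg.mpr hTfg
  have hfinW : Module.Finite (R ⧸ IsLocalRing.maximalIdeal R)
      ((⊤ : Submodule R M) ⧸ (IsLocalRing.maximalIdeal R • ⊤ : Submodule R (⊤ : Submodule R M))) :=
    Module.Finite.of_restrictScalars_finite R _ _
  have h2 := Module.length_eq_finrank (R ⧸ IsLocalRing.maximalIdeal R)
      ((⊤ : Submodule R M) ⧸ (IsLocalRing.maximalIdeal R • ⊤ : Submodule R (⊤ : Submodule R M)))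
  have h3 : Module.length R
      ((⊤ : Submodule R M) ⧸ (IsLocalRing.maximalIdeal R • ⊤ : Submodule R (⊤ : Submodule R M))) =
      Module.length (R ⧸ IsLocalRing.maximalIdeal R)
      ((⊤ : Submodule R M) ⧸ (IsLocalRing.maximalIdeal R • ⊤ : Submodule R (⊤ : Submodule R M))) :=
    Module.length_eq_of_surjective (S := R) (R := R ⧸ IsLocalRing.maximalIdeal R)
      Ideal.Quotient.mk_surjective
  let e : ((⊤ : Submodule R M) ⧸
      (IsLocalRing.maximalIdeal R • ⊤ : Submodule R (⊤ : Submodule R M))) ≃ₗ[R]
      (M ⧸ (IsLocalRing.maximalIdeal R • ⊤ : Submodule R M)) :=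
    Submodule.Quotient.equiv _ _ Submodule.topEquiv (by
      rw [Submodule.map_smul'', Submodule.map_top, LinearEquiv.range])
  rw [← e.length_eq, h3, h2, ← h1]

/-- Let R be a Noetherian local ring with maximal ideal m and residue field k, E an injective hull of k,
and M a finitely generated R-module with Matlis dual M^v = Hom_R(M, E). Then the minimal number of
generators of M equals the k-dimension of the socle of M^v, the submodule of elements of M^v killed
by m (stated as its length as an R-module). -/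
theorem result (R : Type u) [CommRing R] [IsNoetherianRing R] [IsLocalRing R] (E : Type u) [AddCommGroup E] [Module R E] (f : IsLocalRing.ResidueField R →ₗ[R] E) (hf : InjHull.IsInjectiveHull f) (M : Type u) [AddCommGroup M] [Module R M] [Module.Finite R M] : ((⊤ : Submodule R M).spanFinrank : ℕ∞) = Module.length R (LocCoh.torsionBy (IsLocalRing.maximalIdeal R) (M →ₗ[R] E)) := by
  classical
  have hlenV := length_quot (R := R) M
  let Ψ : ((M ⧸ (IsLocalRing.maximalIdeal R • ⊤ : Submodule R M)) →ₗ[R] E) →ₗ[R] (M →ₗ[R] E) :=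
    LinearMap.lcomp R E (IsLocalRing.maximalIdeal R • ⊤ : Submodule R M).mkQ
  have hΨmem : ∀ ψ, Ψ ψ ∈ LocCoh.torsionBy (IsLocalRing.maximalIdeal R) (M →ₗ[R] E) := by
    intro ψ
    rw [Submodule.mem_torsionBySet_iff]
    rintro ⟨a, ha⟩
    refine LinearMap.ext fun x => ?_
    change a • ψ (Submodule.Quotient.mk x) = 0
    rw [← map_smul, ← Submodule.Quotient.mk_smul,
      (Submodule.Quotient.mk_eq_zero _).2 (Submodule.smul_mem_smul ha Submodule.mem_top), map_zero]
  let Ψ' : ((M ⧸ (IsLocalRing.maximalIdeal R • ⊤ : Submodule R M)) →ₗ[R] E) →ₗ[R]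
      LocCoh.torsionBy (IsLocalRing.maximalIdeal R) (M →ₗ[R] E) :=
    LinearMap.codRestrict _ Ψ hΨmem
  have hΨ'bij : Function.Bijective Ψ' := by
    constructor
    · intro ψ₁ ψ₂ h
      have h' : Ψ ψ₁ = Ψ ψ₂ := congrArg Subtype.val h
      refine LinearMap.ext fun y => ?_
      obtain ⟨x, rfl⟩ := Submodule.Quotient.mk_surjective _ y
      exact LinearMap.congr_fun h' x
    · rintro ⟨φ, hφ⟩
      have hle : (IsLocalRing.maximalIdeal R • ⊤ : Submodule R M) ≤ LinearMap.ker φ := by
        rw [Submodule.smul_le]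
        intro a ha x _
        rw [LinearMap.mem_ker, map_smul]
        have := (Submodule.mem_torsionBySet_iff _ _).1 hφ ⟨a, ha⟩
        exact LinearMap.congr_fun this x
      refine ⟨(IsLocalRing.maximalIdeal R • ⊤ : Submodule R M).liftQ φ hle, Subtype.ext ?_⟩
      refine LinearMap.ext fun x => ?_
      rfl
  have e2 : Module.length R (LocCoh.torsionBy (IsLocalRing.maximalIdeal R) (M →ₗ[R] E)) =
      Module.length R ((M ⧸ (IsLocalRing.maximalIdeal R • ⊤ : Submodule R M)) →ₗ[R] E) :=
    ((LinearEquiv.ofBijective Ψ' hΨ'bij).length_eq).symm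
  have hVfin : IsFiniteLength R (M ⧸ (IsLocalRing.maximalIdeal R • ⊤ : Submodule R M)) := by
    rw [← Module.length_ne_top_iff, hlenV]
    exact ENat.coe_ne_top _
  rw [e2, Groth.Agent.Helper7.Matlis.length_hom_eq f hf _ hVfin, hlenV]

end Groth.Agent.S17756
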