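import Groth.Statements.S17763
import Groth.Agent.H13.LCLH

set_option autoImplicit false
universe u
open LocCoh

namespace Groth.Agent.S17763

/-- Let R be a Noetherian local ring of Krull dimension d. Then the following are equivalent: (1)
H^d_I(R) = 0 for every ideal I of R such that R ⧸ I has positive dimension; (2) H^d_p(R) = 0 for
every prime ideal p of R such that R ⧸ p has dimension one. -/
theorem result (R : Type u) [CommRing R] [IsNoetherianRing R] [IsLocalRing R] (d : ℕ) (hd : ringKrullDim R = d) : (∀ I : Ideal R, 0 < ringKrullDim (R ⧸ I) → Subsingleton (LocCoh.H I d R)) ↔ (∀ (p : Ideal R) [p.IsPrime], ringKrullDim (R ⧸ p) = 1 → Subsingleton (LocCoh.H p d R)) := by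
  constructor
  · intro h p _ hp
    exact h p (by rw [hp]; exact zero_lt_one)
  · intro h I hI
    by_contra hns
    rw [not_subsingleton_iff_nontrivial] at hns
    let S : Set (Ideal R) := {J | 0 < ringKrullDim (R ⧸ J) ∧ Nontrivial (LocCoh.H J d R)}
    have hne : S.Nonempty := ⟨I, hI, hns⟩
    obtain ⟨I₀, hI₀, hmax⟩ := (wellFounded_gt (α := Ideal R)).has_min S hne
    obtain ⟨hprime, hdim⟩ := Groth.Agent.H13.LC.isPrime_of_maximal_nonvanishing d hd I₀ hI₀.2
      hI₀.1 (fun b hb hbn hbd => hmax b ⟨hbd, hbn⟩ hb)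
    have hsub := h I₀ hdim
    have hnt := hI₀.2
    exact not_subsingleton _ hsub

end Groth.Agent.S17763
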