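import Groth.Statements.S17774
import Groth.Agent.H13.LCDual2
import Groth.Agent.H13.LCDual3
import Groth.Agent.H13.LCGor
import Groth.Agent.H13.ExtBridge2
import Groth.Agent.S0302
import Groth.Agent.H29.MinPrimeDim
import Groth.Agent.H29.DepthLib
import Groth.Agent.H29.CMLib

set_option autoImplicit false
universe u
open CategoryTheory Opposite
open LocCoh

namespace Groth.Agent.S17774

/-- Let (S, n) be a Gorenstein local ring, I an ideal of S of height g such that R = S ⧸ I is a
Cohen–Macaulay local ring, of Krull dimension d, and E an injective hull of the residue field of S.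
Then the canonical module of R is Ext^g_S(R, S), in the following sense: the Matlis dual
Hom_S(Ext^g_S(R, S), E) is isomorphic as an S-module to the top local cohomology H^d_n(R) of R
regarded as an S-module (existence of an S-linear isomorphism; Hom into E over S and local
cohomology with support in n agree with the corresponding notions over R for R-modules). -/
theorem result (S : Type u) [CommRing S] [LocCoh.IsGorensteinLocalRing S] (I : Ideal S) (g : ℕ) (hg : I.height = g) [LocCoh.IsCohenMacaulayLocalRing (S ⧸ I)] (d : ℕ) (hd : ringKrullDim (S ⧸ I) = d) (E : Type u) [AddCommGroup E] [Module S E] (f : IsLocalRing.ResidueField S →ₗ[S] E) (hf : InjHull.IsInjectiveHull f) : Nonempty ((((Ext S (ModuleCat.{u} S) g).obj (op (ModuleCat.of S (S ⧸ I)))).obj (ModuleCat.of S S) →ₗ[S] E) ≃ₗ[S] LocCoh.H (IsLocalRing.maximalIdeal S) d (S ⧸ I)) := by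
  classical
  obtain ⟨n', hn'⟩ : ∃ n' : ℕ, ringKrullDim S = n' :=
    Groth.Agent.H29.withBot_exists_natCast ringKrullDim_ne_bot (ringKrullDim_lt_top (R := S)).ne
  -- the dimension formula `d + g = n'`
  have hsum : d + g = n' := by
    apply le_antisymm
    · -- `g + d ≤ n'`
      obtain ⟨P, hP, hPd⟩ := Groth.Agent.H29.exists_minimalPrimes_ringKrullDim_quotient_eq (S ⧸ I)
      haveI hPprime : P.IsPrime := Ideal.minimalPrimes_isPrime hP
      have hφ : Function.Surjective ((Ideal.Quotient.mk P).comp (Ideal.Quotient.mk I)) :=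
        (Ideal.Quotient.mk_surjective).comp Ideal.Quotient.mk_surjective
      haveI hq : (RingHom.ker ((Ideal.Quotient.mk P).comp (Ideal.Quotient.mk I))).IsPrime :=
        RingHom.ker_isPrime _
      have hIq : I ≤ RingHom.ker ((Ideal.Quotient.mk P).comp (Ideal.Quotient.mk I)) := by
        intro x hx
        rw [RingHom.mem_ker, RingHom.comp_apply, Ideal.Quotient.eq_zero_iff_mem.mpr hx, map_zero]
      have hdimq : ringKrullDim
          (S ⧸ RingHom.ker ((Ideal.Quotient.mk P).comp (Ideal.Quotient.mk I))) = d := by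
        rw [← hd, ← hPd]
        exact ringKrullDim_eq_of_ringEquiv (RingHom.quotientKerEquivOfSurjective hφ)
      obtain ⟨h'', a'', hh'', ha'', hsum'', -⟩ := Groth.Agent.H13.LC.gor_prime_data S n' hn'
        (RingHom.ker ((Ideal.Quotient.mk P).comp (Ideal.Quotient.mk I)))
      have e1 : a'' = d := by
        have h1 : ((a'' : ℕ) : WithBot ℕ∞) = ((d : ℕ) : WithBot ℕ∞) := ha''.symm.trans hdimq
        exact_mod_cast h1
      have e2 : g ≤ h'' := by
        have h1 := Ideal.height_mono hIq
        rw [hg] at h1
        have h2 := IsLocalization.AtPrime.ringKrullDim_eq_height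
          (RingHom.ker ((Ideal.Quotient.mk P).comp (Ideal.Quotient.mk I)))
          (Localization.AtPrime (RingHom.ker ((Ideal.Quotient.mk P).comp (Ideal.Quotient.mk I))))
        rw [hh''] at h2
        have h3 : ((g : ℕ∞) : WithBot ℕ∞) ≤ ((h'' : ℕ) : WithBot ℕ∞) := by
          rw [h2]
          exact WithBot.coe_le_coe.mpr h1
        exact_mod_cast h3
      omega
    · -- `n' ≤ g + d`
      obtain ⟨p, hpprime, hIp, hph⟩ := Ideal.exists_isPrime_height_eq hg
      haveI := hpprime
      obtain ⟨h'', a'', hh'', ha'', hsum'', -⟩ := Groth.Agent.H13.LC.gor_prime_data S n' hn' p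
      have e1 : a'' ≤ d := by
        have h1 := Groth.Agent.H29.ringKrullDim_quotient_le_of_le S I p hIp
        rw [ha'', hd] at h1
        exact_mod_cast h1
      have e2 : h'' = g := by
        have h2 := IsLocalization.AtPrime.ringKrullDim_eq_height p (Localization.AtPrime p)
        rw [hh'', hph] at h2
        have h3 : ((h'' : ℕ) : WithBot ℕ∞) = ((g : ℕ) : WithBot ℕ∞) := h2
        exact_mod_cast h3
      omega
  obtain ⟨g', hg'⟩ := Groth.Agent.H13.LC.exists_isInjectiveHull_H_top S n' hn'
  obtain ⟨e₁⟩ := Groth.Agent.H13.LC.nonempty_H_equiv_dual_ext S n' hn' (S ⧸ I) d g hsum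
  obtain ⟨e₂, -⟩ := Groth.Agent.S0302.result S (IsLocalRing.ResidueField S) E
    ((localCohomology (IsLocalRing.maximalIdeal S) n').obj (ModuleCat.of S S)) f hf g' hg'
  obtain ⟨e₃⟩ := Groth.Agent.H13.ExtLES.nonempty_ext_equiv g (ModuleCat.of S (S ⧸ I))
    (ModuleCat.of S S)
  exact ⟨(LinearEquiv.arrowCongr e₃ e₂).trans e₁.symm⟩

end Groth.Agent.S17774
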