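import Groth.Statements.S9265
import Mathlib

set_option autoImplicit false
universe u
attribute [local instance] HasDerivedCategory.standard
open CategoryTheory
open DerCA

namespace Groth.Agent.S9265


section helpers
open CategoryTheory CategoryTheory.Limits HomologicalComplex

attribute [local instance] HasDerivedCategory.standard

variable {R : Type u} [CommRing R]

lemma hom_smul' {A B : ModuleCat.{u} R} (f : A ⟶ B) (r : R) (x : A) : f (r • x) = r • f x :=
  map_smul (ConcreteCategory.hom f) r x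

lemma hom_zero' {A B : ModuleCat.{u} R} (f : A ⟶ B) : f 0 = 0 :=
  map_zero (ConcreteCategory.hom f)

lemma exists_cycle (X : DRing.Cx R) (q : ℤ) (y : X.homology q) :
    ∃ c : X.cycles q, X.homologyπ q c = y :=
  (ModuleCat.epi_iff_surjective _).1 inferInstance y

lemma π_eq_zero_iff (X : DRing.Cx R) (q : ℤ) (c : X.cycles q) :
    X.homologyπ q c = 0 ↔ ∃ w : X.X (q - 1), X.d (q - 1) q w = X.iCycles q c := by
  constructor
  · intro h
    have hS : (ShortComplex.mk (X.toCycles (q - 1) q) (X.homologyπ q)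
        (X.toCycles_comp_homologyπ _ _)).Exact :=
      ShortComplex.exact_of_g_is_cokernel _ (X.homologyIsCokernel (q - 1) q (by simp))
    obtain ⟨w, hw⟩ := (ShortComplex.moduleCat_exact_iff _).1 hS c h
    refine ⟨w, ?_⟩
    have h1 : X.iCycles q (X.toCycles (q - 1) q w) = X.d (q - 1) q w :=
      ConcreteCategory.congr_hom (X.toCycles_i (q - 1) q) w
    rw [← h1]
    exact congrArg _ hw
  · rintro ⟨w, hw⟩
    have hm : Function.Injective (X.iCycles q) :=
      (ModuleCat.mono_iff_injective _).1 inferInstance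
    have h1 : X.toCycles (q - 1) q w = c := by
      apply hm
      rw [← hw]
      exact ConcreteCategory.congr_hom (X.toCycles_i (q - 1) q) w
    rw [← h1]
    exact ConcreteCategory.congr_hom (X.toCycles_comp_homologyπ (q - 1) q) w

lemma exists_cycle_of_d_eq_zero (X : DRing.Cx R) (q : ℤ) (z : X.X q)
    (hz : X.d q (q + 1) z = 0) : ∃ c : X.cycles q, X.iCycles q c = z := by
  have hS : (ShortComplex.mk (X.iCycles q) (X.d q (q + 1)) (X.iCycles_d _ _)).Exact :=
    ShortComplex.exact_of_f_is_kernel _ (X.cyclesIsKernel q (q + 1) (by simp))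
  exact (ShortComplex.moduleCat_exact_iff _).1 hS z hz

lemma iCycles_cyclesMap {X Y : DRing.Cx R} (φ : X ⟶ Y) (q : ℤ) (c : X.cycles q) :
    Y.iCycles q (cyclesMap φ q c) = φ.f q (X.iCycles q c) :=
  ConcreteCategory.congr_hom (cyclesMap_i φ q) c

lemma homologyMap_π {X Y : DRing.Cx R} (φ : X ⟶ Y) (q : ℤ) (c : X.cycles q) :
    homologyMap φ q (X.homologyπ q c) = Y.homologyπ q (cyclesMap φ q c) :=
  ConcreteCategory.congr_hom (homologyπ_naturality φ q) c

lemma smul_π_eq_zero (X : DRing.Cx R) (q : ℤ) (c : X.cycles q) (r : R) (w : X.X (q - 1))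
    (hw : X.d (q - 1) q w = r • X.iCycles q c) : r • X.homologyπ q c = 0 := by
  rw [← hom_smul' (X.homologyπ q), π_eq_zero_iff]
  exact ⟨w, by rw [hom_smul']; exact hw⟩

variable (S : Submonoid R)

/-- the identity, as a linear equivalence (a cast between defeq carriers) -/
noncomputable def ιe (X : DRing.Cx R) (q : ℤ) :
    LocalizedModule S (X.X q) ≃ₗ[R] ((DerCA.locCx S).obj X).X q := LinearEquiv.refl R _

lemma d_ιe (X : DRing.Cx R) (p q : ℤ) (m : X.X p) (s : S) :
    ((DerCA.locCx S).obj X).d p q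
        (ιe S X p (IsLocalizedModule.mk' (LocalizedModule.mkLinearMap S (X.X p)) m s)) =
      ιe S X q (IsLocalizedModule.mk' (LocalizedModule.mkLinearMap S (X.X q)) (X.d p q m) s) :=
  IsLocalizedModule.map_mk' S (LocalizedModule.mkLinearMap S (X.X p))
    (LocalizedModule.mkLinearMap S (X.X q)) (X.d p q).hom m s

lemma unit_ιe (X : DRing.Cx R) (q : ℤ) (m : X.X q) :
    (DerCA.locCxUnit S X).f q m = ιe S X q (LocalizedModule.mkLinearMap S (X.X q) m) := rfl

lemma exists_ιe (X : DRing.Cx R) (q : ℤ) (y : ((DerCA.locCx S).obj X).X q) :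
    ∃ (m : X.X q) (s : S),
      y = ιe S X q (IsLocalizedModule.mk' (LocalizedModule.mkLinearMap S (X.X q)) m s) := by
  obtain ⟨⟨m, s⟩, h⟩ := IsLocalizedModule.mk'_surjective S
    (LocalizedModule.mkLinearMap S (X.X q)) ((ιe S X q).symm y)
  have h' : IsLocalizedModule.mk' (LocalizedModule.mkLinearMap S (X.X q)) m s =
      (ιe S X q).symm y := h
  exact ⟨m, s, by rw [h', LinearEquiv.apply_symm_apply]⟩

lemma ker_locH (X : DRing.Cx R) (q : ℤ) (y : X.homology q)
    (hy : homologyMap (DerCA.locCxUnit S X) q y = 0) : ∃ s : S, (s : R) • y = 0 := by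
  obtain ⟨c, rfl⟩ := exists_cycle X q y
  rw [homologyMap_π, π_eq_zero_iff] at hy
  obtain ⟨w', hw'⟩ := hy
  rw [iCycles_cyclesMap] at hw'
  obtain ⟨w, s, rfl⟩ := exists_ιe S X (q - 1) w'
  rw [d_ιe, unit_ιe] at hw'
  have hw'' := (ιe S X q).injective hw'
  have h1 : LocalizedModule.mkLinearMap S (X.X q) (X.d (q - 1) q w) =
      s • LocalizedModule.mkLinearMap S (X.X q) (X.iCycles q c) :=
    IsLocalizedModule.mk'_eq_iff.1 hw''
  have h2 : LocalizedModule.mkLinearMap S (X.X q)
      (X.d (q - 1) q w - (s : R) • X.iCycles q c) = 0 := by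
    rw [map_sub, map_smul, h1, Submonoid.smul_def, sub_self]
  obtain ⟨s', hs'⟩ := (IsLocalizedModule.eq_zero_iff S _).1 h2
  rw [Submonoid.smul_def, smul_sub, sub_eq_zero] at hs'
  refine ⟨s' * s, smul_π_eq_zero X q c _ ((s' : R) • w) ?_⟩
  rw [hom_smul', hs', smul_smul, Submonoid.coe_mul]

lemma exists_cycle_rep (X : DRing.Cx R) (q : ℤ) (c' : ((DerCA.locCx S).obj X).cycles q) :
    ∃ (z : X.X q) (s s' : S) (c : X.cycles q),
      ((DerCA.locCx S).obj X).iCycles q c' =
        ιe S X q (IsLocalizedModule.mk' (LocalizedModule.mkLinearMap S (X.X q)) z s) ∧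
      X.iCycles q c = (s' : R) • z := by
  obtain ⟨z, s, hzs⟩ := exists_ιe S X q (((DerCA.locCx S).obj X).iCycles q c')
  have hd : ((DerCA.locCx S).obj X).d q (q + 1) (((DerCA.locCx S).obj X).iCycles q c') = 0 :=
    ConcreteCategory.congr_hom (((DerCA.locCx S).obj X).iCycles_d q (q + 1)) c'
  rw [hzs, d_ιe] at hd
  have hd' := (LinearEquiv.map_eq_zero_iff _).1 hd
  obtain ⟨s', hs'⟩ := (IsLocalizedModule.mk'_eq_zero' _ s).1 hd'
  have hd2 : X.d q (q + 1) ((s' : R) • z) = 0 := by
    rw [hom_smul']; rw [Submonoid.smul_def] at hs'; exact hs'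
  obtain ⟨c, hc⟩ := exists_cycle_of_d_eq_zero X q _ hd2
  exact ⟨z, s, s', c, hzs, hc⟩

lemma im_locH (X : DRing.Cx R) (q : ℤ) (y' : ((DerCA.locCx S).obj X).homology q) :
    ∃ (s : S) (y : X.homology q), (s : R) • y' = homologyMap (DerCA.locCxUnit S X) q y := by
  obtain ⟨c', rfl⟩ := exists_cycle _ q y'
  obtain ⟨z, s, s', c, hzs, hc⟩ := exists_cycle_rep S X q c'
  refine ⟨s' * s, X.homologyπ q c, ?_⟩
  rw [homologyMap_π, ← hom_smul' (((DerCA.locCx S).obj X).homologyπ q)]
  congr 1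
  have hm : Function.Injective (((DerCA.locCx S).obj X).iCycles q) :=
    (ModuleCat.mono_iff_injective _).1 inferInstance
  apply hm
  rw [hom_smul', iCycles_cyclesMap, hc, hzs, unit_ιe, ← LinearEquiv.map_smul]
  congr 1
  rw [Submonoid.coe_mul, mul_smul, ← Submonoid.smul_def s, IsLocalizedModule.mk'_cancel',
    map_smul]

lemma tors_loc (f : R) (X : DRing.Cx R)
    (hX : ∀ (q : ℤ) (y : X.homology q), ∃ n : ℕ, (f ^ n) • y = 0)
    (q : ℤ) (y' : ((DerCA.locCx S).obj X).homology q) : ∃ n : ℕ, (f ^ n) • y' = 0 := by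
  obtain ⟨c', rfl⟩ := exists_cycle _ q y'
  obtain ⟨z, s, s', c, hzs, hc⟩ := exists_cycle_rep S X q c'
  obtain ⟨m, hm⟩ := hX q (X.homologyπ q c)
  rw [← hom_smul' (X.homologyπ q), π_eq_zero_iff] at hm
  obtain ⟨w, hw⟩ := hm
  rw [hom_smul', hc] at hw
  refine ⟨m, smul_π_eq_zero _ q c' (f ^ m)
    (ιe S X (q - 1)
      (IsLocalizedModule.mk' (LocalizedModule.mkLinearMap S (X.X (q - 1))) w (s' * s))) ?_⟩
  rw [d_ιe, hw, IsLocalizedModule.mk'_smul, ← Submonoid.smul_def,
    IsLocalizedModule.mk'_cancel_left, LinearEquiv.map_smul, ← hzs]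

lemma tors_mid {A B C : ModuleCat.{u} R} (a : A ⟶ B) (b : B ⟶ C)
    (hex : ∀ x : B, b x = 0 → ∃ y : A, a y = x) (f : R)
    (hA : ∀ y : A, ∃ n : ℕ, (f ^ n) • y = 0) (x : B) (hx : ∃ n : ℕ, (f ^ n) • b x = 0) :
    ∃ n : ℕ, (f ^ n) • x = 0 := by
  obtain ⟨n, hn⟩ := hx
  rw [← hom_smul'] at hn
  obtain ⟨y, hy⟩ := hex _ hn
  obtain ⟨m, hm⟩ := hA y
  refine ⟨m + n, ?_⟩
  rw [pow_add, mul_smul, ← hy, ← hom_smul', hm, hom_zero']

lemma tors_mid' {A' A B C C' : ModuleCat.{u} R} (u₁ : A' ⟶ A) (a : A ⟶ B) (b : B ⟶ C)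
    (u₂ : C ⟶ C') (hex : ∀ x : B, b x = 0 → ∃ y : A, a y = x) (h1 : ∀ y, a (u₁ y) = 0)
    (h2 : ∀ x, u₂ (b x) = 0) (S : Submonoid R)
    (hker : ∀ z : C, u₂ z = 0 → ∃ s : S, (s : R) • z = 0)
    (him : ∀ y : A, ∃ (s : S) (y₀ : A'), (s : R) • y = u₁ y₀) (x : B) :
    ∃ s : S, (s : R) • x = 0 := by
  obtain ⟨s, hs⟩ := hker (b x) (h2 x)
  rw [← hom_smul'] at hs
  obtain ⟨y, hy⟩ := hex _ hs
  obtain ⟨t, y₀, ht⟩ := him y
  refine ⟨t * s, ?_⟩
  rw [Submonoid.coe_mul, mul_smul, ← hy, ← hom_smul', ht, h1]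

lemma tors_cocone (f : R) {X Z : DRing.Cx R} (φ : X ⟶ Z)
    (hX : ∀ (q : ℤ) (y : X.homology q), ∃ n : ℕ, (f ^ n) • y = 0)
    (hZ : ∀ (q : ℤ) (y : Z.homology q), ∃ n : ℕ, (f ^ n) • y = 0)
    (q : ℤ) (x : (CochainComplex.mappingCocone φ).homology q) : ∃ n : ℕ, (f ^ n) • x = 0 := by
  have hT := DerivedCategory.mappingCocone_triangle_distinguished φ
  have hex := CochainComplex.homologyMap_exact₁_of_distTriang _ hT (q - 1) q (by omega)
  exact tors_mid (A := Z.homology (q - 1)) (B := (CochainComplex.mappingCocone φ).homology q)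
    (C := X.homology q)
    (CochainComplex.homologyδOfTriangle (CochainComplex.mappingCocone.triangle φ) (q - 1) q
      (by omega))
    (homologyMap (CochainComplex.mappingCocone.fst φ) q)
    ((ShortComplex.moduleCat_exact_iff _).1 hex) f (hZ (q - 1)) x (hX q _)

lemma tors_cocone_unit (X : DRing.Cx R) (q : ℤ)
    (x : (CochainComplex.mappingCocone (DerCA.locCxUnit S X)).homology q) :
    ∃ s : S, (s : R) • x = 0 := by
  have hT := DerivedCategory.mappingCocone_triangle_distinguished (DerCA.locCxUnit S X)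
  have hex := CochainComplex.homologyMap_exact₁_of_distTriang _ hT (q - 1) q (by omega)
  exact tors_mid' (A' := X.homology (q - 1)) (A := ((DerCA.locCx S).obj X).homology (q - 1))
    (B := (CochainComplex.mappingCocone (DerCA.locCxUnit S X)).homology q)
    (C := X.homology q) (C' := ((DerCA.locCx S).obj X).homology q)
    (homologyMap (DerCA.locCxUnit S X) (q - 1))
    (CochainComplex.homologyδOfTriangle
      (CochainComplex.mappingCocone.triangle (DerCA.locCxUnit S X)) (q - 1) q (by omega))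
    (homologyMap (CochainComplex.mappingCocone.fst (DerCA.locCxUnit S X)) q)
    (homologyMap (DerCA.locCxUnit S X) q)
    ((ShortComplex.moduleCat_exact_iff _).1 hex)
    (fun y => ConcreteCategory.congr_hom
      (CochainComplex.homologyMap_homologyδOfTriangle _ hT (q - 1) q (by omega)) y)
    (fun x => ConcreteCategory.congr_hom
      (CochainComplex.homologyMap_comp_eq_zero_of_distTriang _ hT q) x)
    S (fun z hz => ker_locH S X q z hz) (fun y => im_locH S X (q - 1) y) x

theorem tors_all (M : ModuleCat.{u} R) : ∀ (fs : List R) (f : R), f ∈ fs →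
    ∀ (q : ℤ) (x : (DerCA.extCech M fs).homology q), ∃ n : ℕ, (f ^ n) • x = 0
  | [], f, hf => by simp at hf
  | g :: gs, f, hf => by
    intro q x
    rcases List.mem_cons.1 hf with rfl | h
    · obtain ⟨s, hs⟩ := tors_cocone_unit (Submonoid.powers f) (DerCA.extCech M gs) q x
      obtain ⟨n, hn⟩ := (Submonoid.mem_powers_iff _ _).1 s.2
      exact ⟨n, by rw [hn]; exact hs⟩
    · exact tors_cocone f _ (tors_all M gs f h)
        (tors_loc (Submonoid.powers g) f _ (tors_all M gs f h)) q x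

lemma exists_common {α : Type*} (l : List α) (P : α → ℕ → Prop)
    (hmono : ∀ a m n, m ≤ n → P a m → P a n) (h : ∀ a ∈ l, ∃ n, P a n) :
    ∃ N, 1 ≤ N ∧ ∀ a ∈ l, P a N := by
  induction l with
  | nil => exact ⟨1, le_rfl, by simp⟩
  | cons a l ih =>
    obtain ⟨N, hN1, hN⟩ := ih (fun b hb => h b (List.mem_cons_of_mem _ hb))
    obtain ⟨n, hn⟩ := h a List.mem_cons_self
    refine ⟨max N n, le_trans hN1 (le_max_left _ _), ?_⟩
    intro b hb
    rcases List.mem_cons.1 hb with rfl | hb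
    · exact hmono _ _ _ (le_max_right _ _) hn
    · exact hmono _ _ _ (le_max_left _ _) (hN b hb)

end helpers

/-- Every element of the cohomology of the extended alternating Cech complex of M with respect to f_1,
..., f_r is killed by a common power of the f_i; in particular these cohomology modules are
supported on V(f_1, ..., f_r). -/
theorem result (R : Type u) [CommRing R] (fs : List R) (M : ModuleCat.{u} R)
    (q : ℤ) (x : DerCA.extCechH fs M q) :
    ∃ n : ℕ, 1 ≤ n ∧ ∀ f ∈ fs, (f ^ n) • x = 0 := by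
  refine exists_common fs (fun f n => (f ^ n) • x = 0) ?_ (fun f hf => tors_all M fs f hf q x)
  intro a m n hmn h
  have h' : (a ^ m) • x = 0 := h
  obtain ⟨k, rfl⟩ := Nat.exists_eq_add_of_le hmn
  show (a ^ (m + k)) • x = 0
  rw [pow_add, mul_comm, mul_smul, h', smul_zero]

end Groth.Agent.S9265
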