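import Groth.Statements.S9266
import Mathlib
import Groth.Agent.S9265

set_option autoImplicit false
universe u
attribute [local instance] HasDerivedCategory.standard
open CategoryTheory
open DerCA

namespace Groth.Agent.S9266


section helpers
open CategoryTheory CategoryTheory.Limits HomologicalComplex
open Groth.Agent.S9265 (hom_smul' hom_zero' exists_cycle π_eq_zero_iff tors_all)

variable {R : Type u} [CommRing R]

def Bij (f : R) (N : ModuleCat.{u} R) : Prop := Function.Bijective (fun n : N => f • n)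

lemma bij_of_iso (f : R) {N N' : ModuleCat.{u} R} (e : N ≅ N') (h : Bij f N') : Bij f N := by
  constructor
  · intro a b hab
    have hab' : f • a = f • b := hab
    have h1 : f • e.hom a = f • e.hom b := by rw [← hom_smul', ← hom_smul', hab']
    have h2 : e.hom a = e.hom b := h.1 h1
    have h3 := congrArg e.inv h2
    simpa using h3
  · intro n
    obtain ⟨n', hn'⟩ := h.2 (e.hom n)
    have hn'' : f • n' = e.hom n := hn'
    refine ⟨e.inv n', ?_⟩
    show f • e.inv n' = n
    rw [← hom_smul', hn'']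
    simp

lemma bij_of_isZero (f : R) {N : ModuleCat.{u} R} (h : IsZero N) : Bij f N := by
  haveI : Subsingleton N := ModuleCat.isZero_iff_subsingleton.1 h
  exact ⟨fun a b _ => Subsingleton.elim a b, fun n => ⟨0, Subsingleton.elim _ _⟩⟩

lemma bij_biprod (f : R) (A B : ModuleCat.{u} R) (hA : Bij f A) (hB : Bij f B) :
    Bij f (A ⊞ B) := by
  have tot : ∀ a : (A ⊞ B : ModuleCat.{u} R),
      (biprod.inl : A ⟶ A ⊞ B) ((biprod.fst : A ⊞ B ⟶ A) a) +
        (biprod.inr : B ⟶ A ⊞ B) ((biprod.snd : A ⊞ B ⟶ B) a) = a :=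
    fun a => ConcreteCategory.congr_hom (biprod.total (X := A) (Y := B)) a
  constructor
  · intro a b hab
    have hab' : f • a = f • b := hab
    have h1 : (biprod.fst : A ⊞ B ⟶ A) a = (biprod.fst : A ⊞ B ⟶ A) b := by
      apply hA.1
      show f • _ = f • _
      rw [← hom_smul', ← hom_smul', hab']
    have h2 : (biprod.snd : A ⊞ B ⟶ B) a = (biprod.snd : A ⊞ B ⟶ B) b := by
      apply hB.1
      show f • _ = f • _
      rw [← hom_smul', ← hom_smul', hab']
    rw [← tot a, ← tot b, h1, h2]
  · intro a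
    obtain ⟨a₁, ha₁⟩ := hA.2 ((biprod.fst : A ⊞ B ⟶ A) a)
    obtain ⟨b₁, hb₁⟩ := hB.2 ((biprod.snd : A ⊞ B ⟶ B) a)
    have ha₁' : f • a₁ = (biprod.fst : A ⊞ B ⟶ A) a := ha₁
    have hb₁' : f • b₁ = (biprod.snd : A ⊞ B ⟶ B) a := hb₁
    refine ⟨(biprod.inl : A ⟶ A ⊞ B) a₁ + (biprod.inr : B ⟶ A ⊞ B) b₁, ?_⟩
    show f • _ = a
    rw [smul_add, ← hom_smul', ← hom_smul', ha₁', hb₁', tot]

lemma bij_loc (f : R) (S : Submonoid R) (N : ModuleCat.{u} R) (h : Bij f N) :
    Bij f ((DerCA.locFunctor S).obj N) := by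
  have key : Function.Bijective (fun a : LocalizedModule S N => f • a) := by
    constructor
    · intro a b hab
      have hab' : f • a = f • b := hab
      have h0 : f • (a - b) = 0 := by rw [smul_sub, hab', sub_self]
      obtain ⟨⟨n, s⟩, hns⟩ := IsLocalizedModule.mk'_surjective S
        (LocalizedModule.mkLinearMap S N) (a - b)
      have hns' : IsLocalizedModule.mk' (LocalizedModule.mkLinearMap S N) n s = a - b := hns
      rw [← hns', ← IsLocalizedModule.mk'_smul, IsLocalizedModule.mk'_eq_zero'] at h0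
      obtain ⟨s', hs'⟩ := h0
      have h1 : f • ((s' : R) • n) = f • (0 : N) := by
        rw [smul_zero, smul_comm, ← Submonoid.smul_def]; exact hs'
      have h2 : (s' : R) • n = 0 := h.1 h1
      have h3 : IsLocalizedModule.mk' (LocalizedModule.mkLinearMap S N) n s = 0 :=
        (IsLocalizedModule.mk'_eq_zero' _ s).2 ⟨s', by rw [Submonoid.smul_def]; exact h2⟩
      rw [hns'] at h3
      exact sub_eq_zero.1 h3
    · intro a
      obtain ⟨⟨n, s⟩, hns⟩ := IsLocalizedModule.mk'_surjective S
        (LocalizedModule.mkLinearMap S N) a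
      have hns' : IsLocalizedModule.mk' (LocalizedModule.mkLinearMap S N) n s = a := hns
      obtain ⟨n₁, hn₁⟩ := h.2 n
      have hn₁' : f • n₁ = n := hn₁
      refine ⟨IsLocalizedModule.mk' (LocalizedModule.mkLinearMap S N) n₁ s, ?_⟩
      show f • _ = a
      rw [← IsLocalizedModule.mk'_smul, hn₁', hns']
  exact key

lemma bij_extCech (f : R) (M : ModuleCat.{u} R) (hM : Bij f M) :
    ∀ (fs : List R) (p : ℤ), Bij f ((DerCA.extCech M fs).X p)
  | [], p => by
    show Bij f (((HomologicalComplex.single (ModuleCat.{u} R) (ComplexShape.up ℤ) 0).obj M).X p)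
    by_cases hp : p = 0
    · subst hp
      exact bij_of_iso f (HomologicalComplex.singleObjXSelf (ComplexShape.up ℤ) 0 M) hM
    · exact bij_of_isZero f (HomologicalComplex.isZero_single_obj_X (ComplexShape.up ℤ) 0 M p hp)
  | g :: gs, p => by
    show Bij f ((CochainComplex.mappingCocone
      (DerCA.locCxUnit (Submonoid.powers g) (DerCA.extCech M gs))).X p)
    refine bij_of_iso f (DerCA.mappingCoconeXIso _ p)
      (bij_biprod f _ _ (bij_extCech f M hM gs p) ?_)
    exact bij_loc f (Submonoid.powers g) _ (bij_extCech f M hM gs (p - 1))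

lemma smul_inj_homology (f : R) (X : DRing.Cx R) (hX : ∀ p, Bij f (X.X p)) (q : ℤ)
    (x : X.homology q) (hx : f • x = 0) : x = 0 := by
  obtain ⟨c, rfl⟩ := exists_cycle X q x
  rw [← hom_smul' (X.homologyπ q), π_eq_zero_iff] at hx
  obtain ⟨w, hw⟩ := hx
  rw [hom_smul'] at hw
  obtain ⟨w₁, hw₁⟩ := (hX (q - 1)).2 w
  have hw₁' : f • w₁ = w := hw₁
  rw [π_eq_zero_iff]
  refine ⟨w₁, ?_⟩
  apply (hX q).1
  show f • X.d (q - 1) q w₁ = f • X.iCycles q c
  rw [← hom_smul', hw₁', hw]

end helpers

/-- If some element f of the ideal (f_1, ..., f_r) acts invertibly on the module M, then the extended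
alternating Cech complex of M with respect to f_1, ..., f_r has zero cohomology in every degree. -/
theorem result (R : Type u) [CommRing R] (fs : List R)
    (M : ModuleCat.{u} R) (f : R) (hf : f ∈ Ideal.span {a : R | a ∈ fs})
    (hbij : Function.Bijective (fun m : M => f • m)) (q : ℤ) :
    Limits.IsZero (DerCA.extCechH fs M q) := by
  have hM : Bij f M := hbij
  have hB := bij_extCech f M hM fs
  rw [ModuleCat.isZero_iff_subsingleton]
  suffices h : ∀ x : DerCA.extCechH fs M q, x = 0 from ⟨fun a b => by rw [h a, h b]⟩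
  intro x
  let J : Ideal R := (Submodule.span R {x}).annihilator
  have hJ : ∀ r : R, r ∈ J ↔ r • x = 0 := fun r => Submodule.mem_annihilator_span_singleton _ _
  have hrad : Ideal.span {a : R | a ∈ fs} ≤ J.radical := by
    rw [Ideal.span_le]
    intro g hg
    obtain ⟨n, hn⟩ := Groth.Agent.S9265.tors_all M fs g hg q x
    exact ⟨n, (hJ _).2 hn⟩
  obtain ⟨k, hk⟩ := Ideal.exists_pow_le_of_le_radical_of_fg hrad
    (Submodule.fg_span (List.finite_toSet fs))
  have hfk : (f ^ k) • x = 0 := (hJ _).1 (hk (Ideal.pow_mem_pow hf k))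
  clear hk
  induction k with
  | zero => simpa using hfk
  | succ k ih =>
    apply ih
    apply smul_inj_homology f _ hB q
    rw [smul_smul, ← pow_succ']
    exact hfk

end Groth.Agent.S9266
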