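import Groth.Statements.S17776
import Mathlib
import Groth.Agent.S9265
import Groth.Agent.S9266

set_option autoImplicit false
universe u
open CategoryTheory CategoryTheory.Limits
attribute [local instance] HasDerivedCategory.standard
open LocCoh

namespace Groth.Agent.S17776

section helpers
open CategoryTheory CategoryTheory.Limits HomologicalComplex
open Groth.Agent.S9265 (hom_smul' hom_zero' exists_cycle π_eq_zero_iff ker_locH)

variable {R : Type u} [CommRing R]

lemma hom_sub' {A B : ModuleCat.{u} R} (f : A ⟶ B) (x y : A) : f (x - y) = f x - f y :=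
  map_sub (ConcreteCategory.hom f) x y

lemma isZero_extCech_neg (M : ModuleCat.{u} R) :
    ∀ (fs : List R) (p : ℤ), p < 0 → IsZero ((DerCA.extCech M fs).X p)
  | [], p, hp => by
    show IsZero (((HomologicalComplex.single (ModuleCat.{u} R) (ComplexShape.up ℤ) 0).obj M).X p)
    exact HomologicalComplex.isZero_single_obj_X (ComplexShape.up ℤ) 0 M p (by omega)
  | g :: gs, p, hp => by
    show IsZero ((CochainComplex.mappingCocone
      (DerCA.locCxUnit (Submonoid.powers g) (DerCA.extCech M gs))).X p)
    refine IsZero.of_iso ?_ (DerCA.mappingCoconeXIso _ p)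
    rw [biprod_isZero_iff]
    refine ⟨isZero_extCech_neg M gs p hp, ?_⟩
    exact (DerCA.locFunctor (Submonoid.powers g)).map_isZero
      (isZero_extCech_neg M gs (p - 1) (by omega))

lemma homology_eq_zero_of_isZero (X : DRing.Cx R) (q : ℤ) (h : IsZero (X.X q))
    (y : X.homology q) : y = 0 := by
  obtain ⟨c, rfl⟩ := exists_cycle X q y
  haveI : Subsingleton (X.X q) := ModuleCat.isZero_iff_subsingleton.1 h
  have hm : Function.Injective (X.iCycles q) := (ModuleCat.mono_iff_injective _).1 inferInstance
  have hc : c = 0 := hm (Subsingleton.elim _ _)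
  rw [hc, hom_zero']

lemma bij_loc_self (S : Submonoid R) (s : S) (N : ModuleCat.{u} R) :
    Groth.Agent.S9266.Bij (s : R) ((DerCA.locFunctor S).obj N) := by
  have key : Function.Bijective (fun a : LocalizedModule S N => (s : R) • a) := by
    have h := IsLocalizedModule.map_units (LocalizedModule.mkLinearMap S N) s
    exact (Module.End.isUnit_iff _).1 h
  exact key

lemma step (g : R) (X : DRing.Cx R) (hXneg : IsZero (X.X (-1))) (M : ModuleCat.{u} R)
    (P : M → Prop) (jX : X.homology 0 ⟶ M) (hjX : Function.Injective jX)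
    (hrX : ∀ m : M, (∃ y, jX y = m) ↔ P m) :
    ∃ j : (CochainComplex.mappingCocone
        (DerCA.locCxUnit (Submonoid.powers g) X)).homology 0 ⟶ M,
      Function.Injective j ∧
        ∀ m : M, (∃ y, j y = m) ↔ ((∃ n : ℕ, (g ^ n) • m = 0) ∧ P m) := by
  have hT := DerivedCategory.mappingCocone_triangle_distinguished
    (DerCA.locCxUnit (Submonoid.powers g) X)
  have hex₁ : ∀ x : (CochainComplex.mappingCocone
        (DerCA.locCxUnit (Submonoid.powers g) X)).homology 0,
      homologyMap (CochainComplex.mappingCocone.fst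
        (DerCA.locCxUnit (Submonoid.powers g) X)) 0 x = 0 →
      ∃ z : ((DerCA.locCx (Submonoid.powers g)).obj X).homology (-1),
        CochainComplex.homologyδOfTriangle (CochainComplex.mappingCocone.triangle
          (DerCA.locCxUnit (Submonoid.powers g) X)) (-1) 0 (by omega) z = x :=
    (ShortComplex.moduleCat_exact_iff _).1
      (CochainComplex.homologyMap_exact₁_of_distTriang _ hT (-1) 0 (by omega))
  have hex₂ : ∀ y : X.homology 0,
      homologyMap (DerCA.locCxUnit (Submonoid.powers g) X) 0 y = 0 →
      ∃ c : (CochainComplex.mappingCocone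
        (DerCA.locCxUnit (Submonoid.powers g) X)).homology 0,
        homologyMap (CochainComplex.mappingCocone.fst
          (DerCA.locCxUnit (Submonoid.powers g) X)) 0 c = y :=
    (ShortComplex.moduleCat_exact_iff _).1
      (CochainComplex.homologyMap_exact₂_of_distTriang _ hT 0)
  have hzero₂ : ∀ c : (CochainComplex.mappingCocone
        (DerCA.locCxUnit (Submonoid.powers g) X)).homology 0,
      homologyMap (DerCA.locCxUnit (Submonoid.powers g) X) 0
        (homologyMap (CochainComplex.mappingCocone.fst
          (DerCA.locCxUnit (Submonoid.powers g) X)) 0 c) = 0 := fun c =>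
    ConcreteCategory.congr_hom
      (CochainComplex.homologyMap_comp_eq_zero_of_distTriang _ hT 0) c
  have hZneg : IsZero (((DerCA.locCx (Submonoid.powers g)).obj X).X (-1)) :=
    (DerCA.locFunctor (Submonoid.powers g)).map_isZero hXneg
  have hfst_inj : Function.Injective (homologyMap (CochainComplex.mappingCocone.fst
      (DerCA.locCxUnit (Submonoid.powers g) X)) 0) := by
    intro a b hab
    have h0 : homologyMap (CochainComplex.mappingCocone.fst
        (DerCA.locCxUnit (Submonoid.powers g) X)) 0 (a - b) = 0 := by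
      rw [hom_sub', hab, sub_self]
    obtain ⟨z, hz⟩ := hex₁ (a - b) h0
    have hz0 : z = 0 := homology_eq_zero_of_isZero _ (-1) hZneg z
    have hz' : a - b = 0 := by
      rw [← hz, hz0]
      exact hom_zero' _
    exact sub_eq_zero.1 hz'
  refine ⟨homologyMap (CochainComplex.mappingCocone.fst
      (DerCA.locCxUnit (Submonoid.powers g) X)) 0 ≫ jX, ?_, ?_⟩
  · intro a b hab
    have hab' : jX (homologyMap (CochainComplex.mappingCocone.fst
        (DerCA.locCxUnit (Submonoid.powers g) X)) 0 a) =
      jX (homologyMap (CochainComplex.mappingCocone.fst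
        (DerCA.locCxUnit (Submonoid.powers g) X)) 0 b) := hab
    exact hfst_inj (hjX hab')
  · intro m
    constructor
    · rintro ⟨c, rfl⟩
      obtain ⟨s, hs⟩ := ker_locH (Submonoid.powers g) X 0 _ (hzero₂ c)
      obtain ⟨n, hn⟩ := (Submonoid.mem_powers_iff _ _).1 s.2
      refine ⟨⟨n, ?_⟩, (hrX _).1 ⟨homologyMap (CochainComplex.mappingCocone.fst
        (DerCA.locCxUnit (Submonoid.powers g) X)) 0 c, rfl⟩⟩
      show (g ^ n) • jX (homologyMap (CochainComplex.mappingCocone.fst
        (DerCA.locCxUnit (Submonoid.powers g) X)) 0 c) = 0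
      rw [← hom_smul', hn, hs, hom_zero']
    · rintro ⟨⟨n, hn⟩, hP⟩
      obtain ⟨y, rfl⟩ := (hrX m).2 hP
      have hy : (g ^ n) • y = 0 := hjX (by rw [hom_smul', hn, hom_zero'])
      have hφy : homologyMap (DerCA.locCxUnit (Submonoid.powers g) X) 0 y = 0 := by
        apply Groth.Agent.S9266.smul_inj_homology (g ^ n) _
          (fun p => bij_loc_self (Submonoid.powers g) ⟨g ^ n, n, rfl⟩ (X.X p)) 0
        rw [← hom_smul', hy, hom_zero']
      obtain ⟨c, hc⟩ := hex₂ y hφy
      refine ⟨c, ?_⟩
      show jX (homologyMap (CochainComplex.mappingCocone.fst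
        (DerCA.locCxUnit (Submonoid.powers g) X)) 0 c) = jX y
      rw [hc]

theorem main (M : ModuleCat.{u} R) : ∀ (fs : List R),
    ∃ j : (DerCA.extCech M fs).homology 0 ⟶ M, Function.Injective j ∧
      ∀ m : M, (∃ y, j y = m) ↔ ∀ f ∈ fs, ∃ n : ℕ, (f ^ n) • m = 0
  | [] => by
    refine ⟨(HomologicalComplex.singleObjHomologySelfIso (ComplexShape.up ℤ) 0 M).hom, ?_, ?_⟩
    · exact (ModuleCat.mono_iff_injective _).1 inferInstance
    · intro m
      constructor
      · intro _ f hf
        simp at hf
      · intro _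
        exact ⟨(HomologicalComplex.singleObjHomologySelfIso (ComplexShape.up ℤ) 0 M).inv m,
          ConcreteCategory.congr_hom
            (HomologicalComplex.singleObjHomologySelfIso (ComplexShape.up ℤ) 0 M).inv_hom_id m⟩
  | g :: gs => by
    obtain ⟨jX, hjX, hrX⟩ := main M gs
    obtain ⟨j, hj, hr⟩ := step g (DerCA.extCech M gs) (isZero_extCech_neg M gs (-1) (by omega)) M
      (fun m => ∀ f ∈ gs, ∃ n : ℕ, (f ^ n) • m = 0) jX hjX hrX
    refine ⟨j, hj, fun m => (hr m).trans ?_⟩
    constructor
    · rintro ⟨h1, h2⟩ f hf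
      rcases List.mem_cons.1 hf with rfl | h
      · exact h1
      · exact h2 f h
    · intro h
      exact ⟨h g List.mem_cons_self, fun f hf => h f (List.mem_cons_of_mem _ hf)⟩

lemma mem_torsionSub_iff (fs : List R) (M : Type u) [AddCommGroup M] [Module R M] (m : M) :
    m ∈ DRing.torsionSub (Ideal.span {x | x ∈ fs}) M ↔
      ∀ f ∈ fs, ∃ n : ℕ, (f ^ n) • m = 0 := by
  constructor
  · rintro ⟨n, hn⟩ f hf
    exact ⟨n, hn _ (Ideal.pow_mem_pow (Ideal.subset_span (show f ∈ {x | x ∈ fs} from hf)) n)⟩
  · intro h
    let J : Ideal R := (Submodule.span R {m}).annihilator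
    have hJ : ∀ r : R, r ∈ J ↔ r • m = 0 := fun r => Submodule.mem_annihilator_span_singleton _ _
    have hrad : Ideal.span {a : R | a ∈ fs} ≤ J.radical := by
      rw [Ideal.span_le]
      intro g hg
      obtain ⟨n, hn⟩ := h g hg
      exact ⟨n, (hJ _).2 hn⟩
    obtain ⟨k, hk⟩ := Ideal.exists_pow_le_of_le_radical_of_fg hrad
      (Submodule.fg_span (List.finite_toSet fs))
    exact ⟨k, fun a ha => (hJ a).1 (hk ha)⟩

end helpers

/-- Let R be an arbitrary commutative ring, x_1, …, x_n a finite list of elements of R generating the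
ideal I, and M an R-module. Then the degree-zero cohomology of the extended Čech complex 0 → M → ⊕
M_{x_i} → ⊕ M_{x_i x_j} → ⋯ is isomorphic to Γ_I(M), the submodule of elements of M annihilated by
some power of I (existence of an isomorphism of R-modules; R need not be Noetherian). -/
theorem result (R : Type u) [CommRing R] (fs : List R) (M : Type u) [AddCommGroup M] [Module R M] : Nonempty (DerCA.extCechH fs (ModuleCat.of R M) 0 ≅ (DRing.gammaI (Ideal.span {x | x ∈ fs})).obj (ModuleCat.of R M)) := by
  obtain ⟨j, hj, hr⟩ := main (ModuleCat.of R M) fs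
  have hrange : LinearMap.range j.hom = DRing.torsionSub (Ideal.span {x | x ∈ fs}) M := by
    ext m
    constructor
    · rintro ⟨y, rfl⟩
      exact (mem_torsionSub_iff fs M _).2 ((hr _).1 ⟨y, rfl⟩)
    · intro hm
      obtain ⟨y, hy⟩ := (hr m).2 ((mem_torsionSub_iff fs M m).1 hm)
      exact ⟨y, hy⟩
  exact ⟨((LinearEquiv.ofInjective j.hom hj).trans (LinearEquiv.ofEq _ _ hrange)).toModuleIso⟩

end Groth.Agent.S17776
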