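import Groth.Statements.S17778
import Mathlib
import Groth.Agent.S9265
import Groth.Agent.S9266
import Groth.Agent.S17776

set_option autoImplicit false
universe u
open CategoryTheory CategoryTheory.Limits
attribute [local instance] HasDerivedCategory.standard
open LocCoh

namespace Groth.Agent.S17778

section helpers
open CategoryTheory CategoryTheory.Limits HomologicalComplex
open Groth.Agent.S9265 (hom_smul' hom_zero' exists_cycle π_eq_zero_iff ker_locH im_locH)
open Groth.Agent.S17776 (bij_loc_self main mem_torsionSub_iff homology_eq_zero_of_isZero)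

variable {R : Type u} [CommRing R]

lemma key_inj [IsNoetherianRing R] (E : Type u) [AddCommGroup E] [Module R E]
    [Module.Injective R E]
    (J : Submodule R R) (f : R) (x : E) (hx : ∀ a ∈ J, a • x = 0) (k : ℕ) :
    ∃ (y : E) (m : ℕ), (∀ a ∈ J, a • y = 0) ∧ (f ^ (k + m)) • y = (f ^ m) • x := by
  have hmono : Monotone (fun i : ℕ => Submodule.comap (LinearMap.lsmul R R (f ^ i)) J) := by
    apply monotone_nat_of_le_succ
    intro i a ha
    rw [Submodule.mem_comap, LinearMap.lsmul_apply, smul_eq_mul] at ha ⊢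
    rw [pow_succ', mul_assoc]
    exact Submodule.smul_mem J f ha
  obtain ⟨m, hm⟩ := monotone_stabilizes_iff_noetherian.2 (inferInstance : IsNoetherian R R)
    ⟨_, hmono⟩
  have hkm : Submodule.comap (LinearMap.lsmul R R (f ^ m)) J =
      Submodule.comap (LinearMap.lsmul R R (f ^ (k + m))) J := hm (k + m) (by omega)
  obtain ⟨A', hA'⟩ : ∃ A' : Submodule R R,
    A' = Submodule.comap (LinearMap.lsmul R R (f ^ (k + m))) J := ⟨_, rfl⟩
  have hA'mem : ∀ a, a ∈ A' ↔ f ^ (k + m) * a ∈ J := by
    intro a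
    rw [hA']
    rfl
  have hA'm : ∀ a ∈ A', f ^ m * a ∈ J := by
    intro a ha
    rw [hA', ← hkm] at ha
    exact ha
  have hle : A' ≤ Submodule.comap (LinearMap.lsmul R R (f ^ (k + m))) J := hA'.le
  let fmap : (R ⧸ A') →ₗ[R] (R ⧸ J) :=
    Submodule.mapQ A' J (LinearMap.lsmul R R (f ^ (k + m))) hle
  have hinj : Function.Injective fmap := by
    rw [← LinearMap.ker_eq_bot, Submodule.eq_bot_iff]
    intro a ha
    obtain ⟨a, rfl⟩ := Submodule.Quotient.mk_surjective _ a
    rw [LinearMap.mem_ker] at ha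
    have ha' : Submodule.Quotient.mk (p := J) (f ^ (k + m) * a) = 0 := ha
    rw [Submodule.Quotient.mk_eq_zero] at ha' ⊢
    exact (hA'mem a).2 ha'
  have hker : A' ≤ LinearMap.ker (LinearMap.toSpanSingleton R E ((f ^ m) • x)) := by
    intro a ha
    rw [LinearMap.mem_ker, LinearMap.toSpanSingleton_apply, smul_smul, mul_comm]
    exact hx _ (hA'm a ha)
  let gmap : (R ⧸ A') →ₗ[R] E :=
    Submodule.liftQ A' (LinearMap.toSpanSingleton R E ((f ^ m) • x)) hker
  obtain ⟨h, hh⟩ := Module.Injective.extension_property R E (R ⧸ A') (R ⧸ J) fmap hinj gmap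
  refine ⟨h (Submodule.Quotient.mk 1), m, ?_, ?_⟩
  · intro a ha
    rw [← map_smul, ← Submodule.Quotient.mk_smul, smul_eq_mul, mul_one,
      (Submodule.Quotient.mk_eq_zero J).2 ha, map_zero]
  · have h1 := LinearMap.congr_fun hh (Submodule.Quotient.mk 1)
    have h2 : h (Submodule.Quotient.mk (f ^ (k + m) * 1)) = (1 : R) • ((f ^ m) • x) := h1
    rw [mul_one, one_smul] at h2
    rw [← h2, ← map_smul, ← Submodule.Quotient.mk_smul, smul_eq_mul, mul_one]

lemma step2 (g : R) (X : DRing.Cx R) (q₀ q₁ : ℤ) (h : q₀ + 1 = q₁)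
    (hK1 : ∀ y : X.homology q₁, y = 0)
    (hsurj : ∀ z : ((DerCA.locCx (Submonoid.powers g)).obj X).homology q₀,
       ∃ y : X.homology q₀, homologyMap (DerCA.locCxUnit (Submonoid.powers g) X) q₀ y = z)
    (c : (CochainComplex.mappingCocone
      (DerCA.locCxUnit (Submonoid.powers g) X)).homology q₁) : c = 0 := by
  have hT := DerivedCategory.mappingCocone_triangle_distinguished
    (DerCA.locCxUnit (Submonoid.powers g) X)
  have hex₁ : ∀ x : (CochainComplex.mappingCocone
        (DerCA.locCxUnit (Submonoid.powers g) X)).homology q₁,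
      homologyMap (CochainComplex.mappingCocone.fst
        (DerCA.locCxUnit (Submonoid.powers g) X)) q₁ x = 0 →
      ∃ z : ((DerCA.locCx (Submonoid.powers g)).obj X).homology q₀,
        CochainComplex.homologyδOfTriangle (CochainComplex.mappingCocone.triangle
          (DerCA.locCxUnit (Submonoid.powers g) X)) q₀ q₁ h z = x :=
    (ShortComplex.moduleCat_exact_iff _).1
      (CochainComplex.homologyMap_exact₁_of_distTriang _ hT q₀ q₁ h)
  have hδφ : ∀ y : X.homology q₀,
      CochainComplex.homologyδOfTriangle (CochainComplex.mappingCocone.triangle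
          (DerCA.locCxUnit (Submonoid.powers g) X)) q₀ q₁ h
        (homologyMap (DerCA.locCxUnit (Submonoid.powers g) X) q₀ y) = 0 := fun y =>
    ConcreteCategory.congr_hom
      (CochainComplex.homologyMap_homologyδOfTriangle _ hT q₀ q₁ h) y
  obtain ⟨z, rfl⟩ := hex₁ c (hK1 _)
  obtain ⟨y, rfl⟩ := hsurj z
  exact hδφ y

theorem vanish [IsNoetherianRing R] (E : Type u) [AddCommGroup E] [Module R E]
    [Module.Injective R E] :
    ∀ (fs : List R) (q : ℤ), 1 ≤ q →
      ∀ y : (DerCA.extCech (ModuleCat.of R E) fs).homology q, y = 0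
  | [], q, hq => by
    intro y
    exact homology_eq_zero_of_isZero _ q
      (HomologicalComplex.isZero_single_obj_X (ComplexShape.up ℤ) 0 _ q (by omega)) y
  | g :: gs, q, hq => by
    intro c
    have IH := vanish E gs
    have hinjZ : ∀ (p : ℤ) (i : ℕ) (w : ((DerCA.locCx (Submonoid.powers g)).obj
        (DerCA.extCech (ModuleCat.of R E) gs)).homology p), (g ^ i) • w = 0 → w = 0 :=
      fun p i w hw => Groth.Agent.S9266.smul_inj_homology (g ^ i) _
        (fun p' => bij_loc_self (Submonoid.powers g) ⟨g ^ i, i, rfl⟩ _) p w hw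
    rcases (show 2 ≤ q ∨ q = 1 by omega) with hq2 | rfl
    · refine step2 g (DerCA.extCech (ModuleCat.of R E) gs) (q - 1) q (by omega) (IH q hq) ?_ c
      intro z
      obtain ⟨s, y, hsy⟩ := im_locH (Submonoid.powers g)
        (DerCA.extCech (ModuleCat.of R E) gs) (q - 1) z
      obtain ⟨k, hk⟩ := (Submonoid.mem_powers_iff _ _).1 s.2
      have hy0 : y = 0 := IH (q - 1) (by omega) y
      rw [hy0, hom_zero'] at hsy
      have hz : z = 0 := hinjZ (q - 1) k z (by rw [hk]; exact hsy)
      exact ⟨0, by rw [hz]; exact hom_zero' _⟩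
    · refine step2 g (DerCA.extCech (ModuleCat.of R E) gs) 0 1 (by omega) (IH 1 hq) ?_ c
      intro z
      obtain ⟨s, y, hsy⟩ := im_locH (Submonoid.powers g)
        (DerCA.extCech (ModuleCat.of R E) gs) 0 z
      obtain ⟨k, hk⟩ := (Submonoid.mem_powers_iff _ _).1 s.2
      obtain ⟨j, hj, hr⟩ := main (ModuleCat.of R E) gs
      have hx : (j y : E) ∈ DRing.torsionSub (Ideal.span {x | x ∈ gs}) E :=
        (mem_torsionSub_iff gs E _).2 ((hr _).1 ⟨y, rfl⟩)
      obtain ⟨n, hn⟩ := hx
      obtain ⟨y₂', m, hy₂J, hy₂⟩ := key_inj E ((Ideal.span {x | x ∈ gs}) ^ n) g (j y) hn k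
      have hy₂mem : y₂' ∈ DRing.torsionSub (Ideal.span {x | x ∈ gs}) E := ⟨n, hy₂J⟩
      obtain ⟨y₂, hy₂j⟩ := (hr y₂').2 ((mem_torsionSub_iff gs E y₂').1 hy₂mem)
      have heq : (g ^ (k + m)) • y₂ = (g ^ m) • y := by
        apply hj
        rw [hom_smul', hom_smul', hy₂j]
        exact hy₂
      refine ⟨y₂, ?_⟩
      have h1 : (g ^ (k + m)) • (homologyMap (DerCA.locCxUnit (Submonoid.powers g)
          (DerCA.extCech (ModuleCat.of R E) gs)) 0 y₂ - z) = 0 := by
        rw [smul_sub, ← hom_smul', heq, hom_smul', pow_add, mul_comm, mul_smul, hk, hsy,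
          sub_self]
      exact sub_eq_zero.1 (hinjZ 0 (k + m) _ h1)

end helpers

/-- Let R be a Noetherian commutative ring, x_1, …, x_n a finite list of elements of R and E an
injective R-module. Then the cohomology of the extended Čech complex of E on x_1, …, x_n vanishes in
every positive degree. -/
theorem result (R : Type u) [CommRing R] [IsNoetherianRing R] (fs : List R) (E : Type u) [AddCommGroup E] [Module R E] [Module.Injective R E] (q : ℤ) (hq : 1 ≤ q) : IsZero (DerCA.extCechH fs (ModuleCat.of R E) q) := by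
  rw [ModuleCat.isZero_iff_subsingleton]
  exact ⟨fun a b => by rw [vanish E fs q hq a, vanish E fs q hq b]⟩

end Groth.Agent.S17778
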