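import Groth.Statements.S17779
import Mathlib

set_option autoImplicit false
open DRR

namespace Groth.Agent.S17779

open Finset in
theorem fwdDiff_pow_succ_zero (n : ℕ) :
    (fwdDiff (1 : ℤ))^[n] (fun (r : ℤ) ↦ r ^ (n + 1)) 0 = (((n + 1).choose 2 * n.factorial : ℕ) : ℤ) := by
  induction n with
  | zero => simp
  | succ n IH =>
    have : (fwdDiff (1 : ℤ) fun (r : ℤ) ↦ r ^ (n + 2)) =
      ∑ i ∈ range (n + 2), (n + 2).choose i • fun r ↦ r ^ i := by
      ext x
      simp [nsmul_eq_mul, fwdDiff, add_pow, sum_range_succ, mul_comm]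
    rw [Function.iterate_succ_apply, this, fwdDiff_iter_finsetSum]
    simp_rw [fwdDiff_iter_const_smul]
    rw [sum_range_succ, sum_range_succ, sum_eq_zero (fun i hi ↦ by
      rw [fwdDiff_iter_pow_eq_zero_of_lt (mem_range.mp hi), smul_zero])]
    simp only [zero_add, Pi.add_apply, Pi.smul_apply, IH, fwdDiff_iter_eq_factorial]
    simp only [Pi.natCast_apply, nsmul_eq_mul]
    have e1 : (n + 2).choose n = (n + 2).choose 2 := by
      exact Nat.choose_symm_of_eq_add (show n + 2 = n + 2 from rfl)
    have e2 : (n + 2).choose (n + 1) = n + 2 := by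
      rw [Nat.choose_symm_of_eq_add (show n + 2 = (n + 1) + 1 from rfl), Nat.choose_one_right]
    rw [e1, e2]
    push_cast
    have c1 : (((n + 2).choose 2 : ℕ) : ℤ) * 2 = (n + 2) * (n + 1) := by
      have := Nat.choose_two_right (n + 2)
      have h2 : (n + 2).choose 2 * 2 = (n + 2) * (n + 1) := by
        rw [this]
        have : 2 ∣ (n + 2) * (n + 2 - 1) := by
          have := Nat.even_mul_pred_self (n + 2)
          exact this.two_dvd
        rw [Nat.div_mul_cancel this]
        simp
      exact_mod_cast h2
    have c2 : (((n + 1).choose 2 : ℕ) : ℤ) * 2 = (n + 1) * n := by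
      have := Nat.choose_two_right (n + 1)
      have h2 : (n + 1).choose 2 * 2 = (n + 1) * n := by
        rw [this]
        have : 2 ∣ (n + 1) * (n + 1 - 1) := by
          have := Nat.even_mul_pred_self (n + 1)
          exact this.two_dvd
        rw [Nat.div_mul_cancel this]
        simp
      exact_mod_cast h2
    rw [Nat.factorial_succ]
    push_cast
    have : (2 : ℤ) ≠ 0 := by norm_num
    apply mul_right_cancel₀ this
    have e3 : (n + 1 + 1).choose 2 = (n + 2).choose 2 := rfl
    rw [e3]
    linear_combination (n.factorial : ℤ) * c1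
      + ((n : ℤ) + 2) * (n.factorial : ℤ) * c2 - ((n:ℤ)+1) * (n.factorial : ℤ) * c1

/-- For natural numbers n and k with k ≤ n + 1, the alternating sum over j = 0, …, n of (−1)^(n−j) C(n,
j) j^k (with the convention 0^0 = 1) equals n! · n(n+1)/2 when k = n + 1, equals n! when k = n, and
vanishes when k < n. (The published statement takes n ≥ 1 and divides through by n!; the case n = 0
holds as well and is included.) -/
theorem result (n k : ℕ) (hk : k ≤ n + 1) :
    (∑ j ∈ Finset.range (n + 1), (-1 : ℤ) ^ (n - j) * (n.choose j : ℤ) * (j : ℤ) ^ k) =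
      (if k = n + 1 then (((n + 1).choose 2 * n.factorial : ℕ) : ℤ)
        else if k = n then (n.factorial : ℤ) else 0) := by
  have key := fwdDiff_iter_eq_sum_shift (1 : ℤ) (fun (r : ℤ) ↦ r ^ k) n 0
  simp only [smul_eq_mul, zero_add, nsmul_eq_mul, mul_one] at key
  rw [← key]
  split_ifs with h1 h2
  · subst h1
    exact fwdDiff_pow_succ_zero n
  · subst h2
    rw [fwdDiff_iter_eq_factorial]
    simp
  · have hlt : k < n := by omega
    rw [fwdDiff_iter_pow_eq_zero_of_lt hlt]
    simp

end Groth.Agent.S17779
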