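import Groth.Statements.S17780
import Mathlib
import Groth.Agent.S17779

set_option autoImplicit false
universe u
open DRR

namespace Groth.Agent.S17780

/-- For x, y in a commutative ring and a natural number n, (n+1)! · x · y^n equals the sum over j = 0,
…, n of (−1)^(n−j) C(n, j) (x + j y)^(n+1), minus (n · (n+1)!/2) · y^(n+1). (The published identity
is stated in ℚ[x, y] with an overall factor 1/(n+1) and the coefficients C(n, j)(−1)^(n−j)/n!; it is
given here multiplied through by (n+1)!, which makes it an identity with integer coefficients valid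
in every commutative ring; n · (n+1)!/2 is an integer.) -/
theorem result (A : Type u) [CommRing A] (x y : A) (n : ℕ) :
    ((n + 1).factorial : A) * x * y ^ n =
      (∑ j ∈ Finset.range (n + 1), (-1 : A) ^ (n - j) * (n.choose j : A) * (x + (j : A) * y) ^ (n + 1))
        - ((n * (n + 1).factorial / 2 : ℕ) : A) * y ^ (n + 1) := by
  classical
  -- the inner alternating sums, cast to A
  have inner : ∀ m : ℕ, m ≤ n + 1 →
      (∑ j ∈ Finset.range (n + 1), (-1 : A) ^ (n - j) * (n.choose j : A) * (j : A) ^ m) =
      (if m = n + 1 then (((n + 1).choose 2 * n.factorial : ℕ) : A)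
        else if m = n then (n.factorial : A) else 0) := by
    intro m hm
    have h := congrArg (Int.cast : ℤ → A) (Groth.Agent.S17779.result n m hm)
    push_cast at h
    rw [h]
    split_ifs <;> simp
  have expand : ∀ j : ℕ, (x + (j : A) * y) ^ (n + 1) =
      ∑ m ∈ Finset.range (n + 2), ((n + 1).choose m : A) * y ^ m * x ^ (n + 1 - m) * (j : A) ^ m := by
    intro j
    rw [add_comm, add_pow]
    refine Finset.sum_congr rfl fun m _ => ?_
    rw [mul_pow]
    ring
  have hsum : (∑ j ∈ Finset.range (n + 1), (-1 : A) ^ (n - j) * (n.choose j : A) *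
      (x + (j : A) * y) ^ (n + 1)) =
      ∑ m ∈ Finset.range (n + 2), ((n + 1).choose m : A) * y ^ m * x ^ (n + 1 - m) *
        (∑ j ∈ Finset.range (n + 1), (-1 : A) ^ (n - j) * (n.choose j : A) * (j : A) ^ m) := by
    simp_rw [expand, Finset.mul_sum]
    rw [Finset.sum_comm]
    refine Finset.sum_congr rfl fun m _ => Finset.sum_congr rfl fun j _ => ?_
    ring
  rw [hsum, Finset.sum_range_succ, Finset.sum_range_succ]
  rw [Finset.sum_eq_zero (fun m hm => by
    have hm' := Finset.mem_range.mp hm
    rw [inner m (by omega), if_neg (by omega), if_neg (by omega), mul_zero])]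
  rw [inner n (by omega), inner (n + 1) le_rfl]
  have hne : ¬ (n = n + 1) := by omega
  simp only [hne, if_false, if_true, Nat.choose_self, Nat.cast_one, one_mul, zero_add]
  have hn1 : ((n + 1).choose n : A) = ((n + 1 : ℕ) : A) := by
    rw [Nat.choose_symm_of_eq_add (show n + 1 = n + 1 from rfl), Nat.choose_one_right]
  have hhalf : n * (n + 1).factorial / 2 = (n + 1).choose 2 * n.factorial := by
    have h2 : (n + 1).choose 2 * 2 = (n + 1) * n := by
      rw [Nat.choose_two_right]
      have : 2 ∣ (n + 1) * (n + 1 - 1) := (Nat.even_mul_pred_self (n + 1)).two_dvd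
      rw [Nat.div_mul_cancel this]
      simp
    apply Nat.div_eq_of_eq_mul_left (by norm_num)
    rw [Nat.factorial_succ]
    calc n * ((n + 1) * n.factorial) = ((n + 1) * n) * n.factorial := by ring
      _ = ((n + 1).choose 2 * 2) * n.factorial := by rw [h2]
      _ = (n + 1).choose 2 * n.factorial * 2 := by ring
  rw [hn1, hhalf, Nat.factorial_succ]
  simp only [Nat.sub_self, pow_zero, mul_one, Nat.add_sub_cancel_left, pow_one]
  push_cast
  ring

end Groth.Agent.S17780
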