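import Groth.Statements.S17781
import Mathlib

set_option autoImplicit false
open Variety

namespace Groth.Agent.S17781

theorem lucas_one (p : ℕ) [hp : Fact p.Prime] : ∀ (e m : ℕ), 1 ≤ m →
    Nat.choose (p ^ e * m - 1) (p ^ e - 1) ≡ 1 [MOD p] := by
  intro e
  induction e with
  | zero => intro m hm; simp [Nat.ModEq]
  | succ e ih =>
    intro m hm
    have hpos : 0 < p := hp.out.pos
    have aux : ∀ a : ℕ, 1 ≤ a → (p * a - 1) % p = p - 1 ∧ (p * a - 1) / p = a - 1 := by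
      intro a ha
      have h1 : p * a - 1 = p * (a - 1) + (p - 1) := by
        obtain ⟨b, rfl⟩ := Nat.exists_eq_add_of_le ha
        have h2 : p * (1 + b) = p * b + p := by ring
        rw [h2, Nat.add_sub_cancel_left]
        omega
      rw [h1]
      constructor
      · rw [Nat.mul_add_mod]
        exact Nat.mod_eq_of_lt (by omega)
      · rw [Nat.mul_add_div hpos, Nat.div_eq_of_lt (by omega : p - 1 < p), add_zero]
    have hpe : 1 ≤ p ^ e := Nat.one_le_pow _ _ hpos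
    have hpem : 1 ≤ p ^ e * m := Nat.mul_pos hpe hm
    have e1 : p ^ (e + 1) * m = p * (p ^ e * m) := by ring
    have e2 : p ^ (e + 1) = p * p ^ e := by ring
    have L := Choose.choose_modEq_choose_mod_mul_choose_div_nat (n := p ^ (e + 1) * m - 1)
      (k := p ^ (e + 1) - 1) (p := p)
    rw [e1] at L ⊢
    rw [e2] at L ⊢
    rw [(aux _ hpem).1, (aux _ hpem).2, (aux _ hpe).1, (aux _ hpe).2, Nat.choose_self,
      one_mul] at L
    exact L.trans (ih m hm)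

theorem div_gcd_dvd_choose (d j : ℕ) (hd : 1 ≤ d) (hj : 1 ≤ j) :
    d / Nat.gcd d j ∣ Nat.choose d j := by
  obtain ⟨d', rfl⟩ : ∃ d', d = d' + 1 := ⟨d - 1, by omega⟩
  obtain ⟨j', rfl⟩ : ∃ j', j = j' + 1 := ⟨j - 1, by omega⟩
  have h := Nat.add_one_mul_choose_eq d' j'
  have hgpos : 0 < Nat.gcd (d' + 1) (j' + 1) := Nat.gcd_pos_of_pos_left _ (by omega)
  have hcop := Nat.coprime_div_gcd_div_gcd hgpos
  have h2 : (d' + 1) / Nat.gcd (d' + 1) (j' + 1) * Nat.choose d' j' =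
      Nat.choose (d' + 1) (j' + 1) * ((j' + 1) / Nat.gcd (d' + 1) (j' + 1)) := by
    apply Nat.eq_of_mul_eq_mul_left hgpos
    calc Nat.gcd (d' + 1) (j' + 1) * ((d' + 1) / Nat.gcd (d' + 1) (j' + 1) * Nat.choose d' j')
        = (Nat.gcd (d' + 1) (j' + 1) * ((d' + 1) / Nat.gcd (d' + 1) (j' + 1))) *
            Nat.choose d' j' := by ring
      _ = (d' + 1) * Nat.choose d' j' := by
          rw [Nat.mul_div_cancel' (Nat.gcd_dvd_left _ _)]
      _ = Nat.choose (d' + 1) (j' + 1) * (j' + 1) := h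
      _ = Nat.choose (d' + 1) (j' + 1) *
            (Nat.gcd (d' + 1) (j' + 1) * ((j' + 1) / Nat.gcd (d' + 1) (j' + 1))) := by
          rw [Nat.mul_div_cancel' (Nat.gcd_dvd_right _ _)]
      _ = _ := by ring
  exact hcop.dvd_of_dvd_mul_right (Dvd.intro _ h2)

theorem dvd_div_of_forall (g d N δ : ℕ) (hd : 1 ≤ d) (hδd : δ ∣ d) (hδ1 : 1 ≤ δ) (hδN : δ ≤ N)
    (hg : ∀ j, 1 ≤ j → j ≤ N → g ∣ Nat.choose d j) : g ∣ d / δ := by
  rw [Nat.dvd_iff_prime_pow_dvd_dvd]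
  intro p k hp hpk
  haveI : Fact p.Prime := ⟨hp⟩
  obtain ⟨e, δ', hδ', rfl⟩ := Nat.exists_eq_pow_mul_and_not_dvd (by omega : δ ≠ 0) p hp.ne_one
  have hpe_pos : 0 < p ^ e := pow_pos hp.pos e
  obtain ⟨c, rfl⟩ := hδd
  have hδ'pos : 0 < δ' := by
    rcases Nat.eq_zero_or_pos δ' with h | h
    · simp [h] at hδ1
    · exact h
  have hcpos : 0 < c := by
    rcases Nat.eq_zero_or_pos c with h | h
    · simp [h] at hd
    · exact h
  rw [Nat.mul_div_cancel_left c (Nat.mul_pos hpe_pos hδ'pos)]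
  have hm1 : 1 ≤ δ' * c := Nat.mul_pos hδ'pos hcpos
  have hdm : p ^ e * δ' * c = p ^ e * (δ' * c) := by ring
  have hle : p ^ e ≤ N := le_trans (Nat.le_mul_of_pos_right _ hδ'pos) hδN
  have h1 := hg (p ^ e) hpe_pos hle
  rw [hdm] at h1
  have h2 : p ^ k ∣ Nat.choose (p ^ e * (δ' * c)) (p ^ e) := hpk.trans h1
  have h3 : Nat.choose (p ^ e * (δ' * c)) (p ^ e) =
      (δ' * c) * Nat.choose (p ^ e * (δ' * c) - 1) (p ^ e - 1) := by
    have h4 := Nat.add_one_mul_choose_eq (p ^ e * (δ' * c) - 1) (p ^ e - 1)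
    have e1 : p ^ e * (δ' * c) - 1 + 1 = p ^ e * (δ' * c) :=
      Nat.sub_add_cancel (Nat.mul_pos hpe_pos hm1)
    have e2 : p ^ e - 1 + 1 = p ^ e := Nat.sub_add_cancel hpe_pos
    rw [e1, e2] at h4
    apply Nat.eq_of_mul_eq_mul_left hpe_pos
    rw [mul_comm (p ^ e) (Nat.choose _ _), ← h4]
    ring
  have hu := lucas_one p e (δ' * c) hm1
  have hcop : Nat.Coprime (p ^ k) (Nat.choose (p ^ e * (δ' * c) - 1) (p ^ e - 1)) := by
    apply Nat.Coprime.pow_left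
    rw [Nat.Prime.coprime_iff_not_dvd hp]
    intro hdvd
    have h6 : Nat.choose (p ^ e * (δ' * c) - 1) (p ^ e - 1) ≡ 0 [MOD p] :=
      (Nat.modEq_zero_iff_dvd).mpr hdvd
    have h01 : 1 ≡ 0 [MOD p] := hu.symm.trans h6
    have h7 := Nat.modEq_zero_iff_dvd.mp h01
    exact hp.one_lt.ne' (Nat.dvd_one.mp h7)
  rw [h3] at h2
  have h5 : p ^ k ∣ δ' * c := hcop.dvd_of_dvd_mul_right h2
  have hcop2 : Nat.Coprime (p ^ k) δ' :=
    Nat.Coprime.pow_left _ ((Nat.Prime.coprime_iff_not_dvd hp).mpr hδ')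
  exact hcop2.dvd_of_dvd_mul_left h5

/-- Let d ≥ 1 and N ≥ 1 be integers and let I(d, N) be the greatest common divisor of the quotients d/δ
over the divisors δ of d with 1 ≤ δ ≤ N. Then I(d, N) equals the greatest common divisor of the
integers χ(d, n) = 1 − (−1)^n C(d − 1, n) for 1 ≤ n ≤ N (χ(d, n) is the Euler characteristic of O_H
for a degree-d hypersurface H in projective n-space). Both greatest common divisors are taken in ℤ,
normalised to be non-negative. -/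
theorem result (d N : ℕ) (hd : 1 ≤ d) (hN : 1 ≤ N) :
    (Finset.Icc 1 N).gcd (fun n => 1 - (-1 : ℤ) ^ n * ((d - 1).choose n : ℤ)) =
      ((Finset.Icc 1 N).filter (fun δ => δ ∣ d)).gcd (fun δ => ((d / δ : ℕ) : ℤ)) := by
  classical
  have hχ0 : (1 - (-1 : ℤ) ^ 0 * ((d - 1).choose 0 : ℤ)) = 0 := by simp
  have hχs : ∀ n, (1 - (-1 : ℤ) ^ (n + 1) * ((d - 1).choose (n + 1) : ℤ)) =
      (1 - (-1 : ℤ) ^ n * ((d - 1).choose n : ℤ)) + (-1 : ℤ) ^ n * (d.choose (n + 1) : ℤ) := by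
    intro n
    obtain ⟨d', rfl⟩ : ∃ d', d = d' + 1 := ⟨d - 1, by omega⟩
    simp only [Nat.add_sub_cancel, Nat.choose_succ_succ, Nat.cast_add, pow_succ]
    ring
  have key1 : ∀ z : ℤ, (∀ j, 1 ≤ j → j ≤ N → z ∣ (d.choose j : ℤ)) →
      ∀ n, n ≤ N → z ∣ (1 - (-1 : ℤ) ^ n * ((d - 1).choose n : ℤ)) := by
    intro z hz n
    induction n with
    | zero => intro _; rw [hχ0]; exact dvd_zero z
    | succ n ih =>
      intro hn
      rw [hχs]
      exact dvd_add (ih (by omega)) (Dvd.dvd.mul_left (hz (n + 1) (by omega) hn) _)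
  have key2 : ∀ z : ℤ, (∀ n, 1 ≤ n → n ≤ N → z ∣ (1 - (-1 : ℤ) ^ n * ((d - 1).choose n : ℤ))) →
      ∀ j, 1 ≤ j → j ≤ N → z ∣ (d.choose j : ℤ) := by
    intro z hz j hj1 hjN
    obtain ⟨n, rfl⟩ : ∃ n, j = n + 1 := ⟨j - 1, by omega⟩
    have h1 := hz (n + 1) hj1 hjN
    have h2 : z ∣ (1 - (-1 : ℤ) ^ n * ((d - 1).choose n : ℤ)) := by
      rcases Nat.eq_zero_or_pos n with h | h
      · rw [h, hχ0]; exact dvd_zero z
      · exact hz n h (by omega)
    have h4 : z ∣ (-1 : ℤ) ^ n * (d.choose (n + 1) : ℤ) := by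
      have h3 : (-1 : ℤ) ^ n * (d.choose (n + 1) : ℤ) =
          (1 - (-1 : ℤ) ^ (n + 1) * ((d - 1).choose (n + 1) : ℤ)) -
            (1 - (-1 : ℤ) ^ n * ((d - 1).choose n : ℤ)) := by rw [hχs]; ring
      rw [h3]; exact dvd_sub h1 h2
    have h5 : (d.choose (n + 1) : ℤ) =
        (-1 : ℤ) ^ n * ((-1 : ℤ) ^ n * (d.choose (n + 1) : ℤ)) := by
      rw [← mul_assoc, ← pow_add, ← two_mul, pow_mul]; simp
    rw [h5]; exact Dvd.dvd.mul_left h4 _
  apply dvd_antisymm_of_normalize_eq Finset.normalize_gcd Finset.normalize_gcd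
  · apply Finset.dvd_gcd
    intro δ hδ
    rw [Finset.mem_filter, Finset.mem_Icc] at hδ
    obtain ⟨⟨hδ1, hδN⟩, hδd⟩ := hδ
    have hG := key2 _ (fun n h1 h2 => Finset.gcd_dvd
      (f := fun n => 1 - (-1 : ℤ) ^ n * ((d - 1).choose n : ℤ)) (Finset.mem_Icc.mpr ⟨h1, h2⟩))
    rw [Int.dvd_natCast]
    apply dvd_div_of_forall _ d N δ hd hδd hδ1 hδN
    intro j h1 h2
    have h3 := hG j h1 h2
    rwa [Int.dvd_natCast] at h3
  · apply Finset.dvd_gcd
    intro n hn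
    rw [Finset.mem_Icc] at hn
    apply key1 _ _ n hn.2
    intro j hj1 hjN
    have hmem : Nat.gcd d j ∈ (Finset.Icc 1 N).filter (fun δ => δ ∣ d) := by
      rw [Finset.mem_filter, Finset.mem_Icc]
      exact ⟨⟨Nat.gcd_pos_of_pos_left _ (by omega),
        le_trans (Nat.gcd_le_right _ (by omega)) hjN⟩, Nat.gcd_dvd_left _ _⟩
    have h1 := Finset.gcd_dvd (f := fun δ => ((d / δ : ℕ) : ℤ)) hmem
    exact h1.trans (Int.natCast_dvd_natCast.mpr (div_gcd_dvd_choose d j hd hj1))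

end Groth.Agent.S17781
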