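import Groth.Statements.S17794
import Groth.Agent.H28.KerShear
import Groth.Agent.H28.FpqcFam
import Groth.Agent.Lib.Helper18.QuotShLib

set_option autoImplicit false
universe u
open CategoryTheory CategoryTheory.Limits MonoidalCategory CartesianMonoidalCategory MonObj GrpObj AlgebraicGeometry
open GrpSch

namespace Groth.Agent.S17794

/-- Let S be a scheme and f : G → H a homomorphism of S-group schemes, both of finite presentation over
S (locally of finite presentation, quasi-compact and quasi-separated), and let i : N → G be the
kernel of f (the square formed by i, f, the unit section of H and N → S is cartesian). Then f is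
faithfully flat (flat and surjective) if and only if the map of representable sheaves h_G → h_H
induced by f on the big fppf site of S is an epimorphism of sheaves of sets and N is flat over S. -/
theorem result {S : Scheme.{u}} {G H N : Over S} [GrpObj G] [GrpObj H] (f : G ⟶ H) [IsMonHom f] [LocallyOfFinitePresentation G.hom] [QuasiCompact G.hom] [QuasiSeparated G.hom] [LocallyOfFinitePresentation H.hom] [QuasiCompact H.hom] [QuasiSeparated H.hom] (i : N ⟶ G) (hi : AlgGrp.IsKernel i f) : (Flat f.left ∧ Surjective f.left) ↔ (Epi (QuotSh.repMap Scheme.fppfPrecoverage f) ∧ Flat N.hom) := by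
  constructor
  · rintro ⟨hfl, hsurj⟩
    have hw : f.left ≫ H.hom = G.hom := Over.w f
    have hlfp : LocallyOfFinitePresentation f.left := by
      apply Groth.Agent.H28.KerShear.lfp_of_comp f.left H.hom
      · rw [hw]; infer_instance
      · infer_instance
    have hsing : Presieve.singleton f.left ∈ Scheme.fppfPrecoverage H.left :=
      Scheme.Hom.singleton_mem_fppfPrecoverage f.left
    refine ⟨Groth.Agent.Helper18.QuotShLib.epi_repMap_of_generate_mem _ f
      (Groth.Agent.Helper18.QuotShLib.generate_mem_of_singleton_mem _ f hsing), ?_⟩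
    have sq : IsPullback i.left (toUnit N).left f.left η[H].left := hi.map (Over.forget S)
    have h1 : Flat (toUnit N).left := MorphismProperty.of_isPullback (P := @Flat) sq hfl
    rwa [Groth.Agent.H28.TorsRed.toUnit_left] at h1
  · rintro ⟨hepi, hN⟩
    obtain ⟨𝒮, h𝒮, hlift⟩ := Groth.Agent.Helper18.QuotShLib.exists_sieve_of_epi _ hepi
    rw [GrothendieckTopology.mem_over_iff,
      Precoverage.mem_toGrothendieck_iff_of_isStableUnderComposition] at h𝒮
    obtain ⟨R₀, hR₀, hle⟩ := h𝒮
    have hkey : ∀ ⦃Z : Scheme.{u}⦄ (g : Z ⟶ H.left), R₀ g →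
        ∃ b : Over.mk (g ≫ H.hom) ⟶ G, b ≫ f = Over.homMk g := by
      intro Z g hg
      have h2 := hle Z g hg
      rw [Sieve.overEquiv_iff] at h2
      exact hlift _ h2
    constructor
    · have hR₀' : R₀ ∈ Scheme.fpqcPrecoverage H.left :=
        Scheme.fppfPrecoverage_le_fpqcPrecoverage _ hR₀
      refine Groth.Agent.H28.FpqcFam.of_fpqcPrecoverage @Flat f.left hR₀' ?_
      intro Z g hg
      obtain ⟨b, hb⟩ := hkey g hg
      have sq1 := Groth.Agent.H28.CartPB.isPullback_whiskerRight b N
      have sq2 := (Groth.Agent.H28.KerShear.isPullback_shear i f hi).flip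
      have sq3 := sq1.paste_horiz sq2
      rw [hb] at sq3
      have sqS : IsPullback ((b ▷ N) ≫ (G ◁ i) ≫ μ[G]).left (fst (Over.mk (g ≫ H.hom)) N).left
          f.left g := sq3.map (Over.forget S)
      have hfst : Flat (fst (Over.mk (g ≫ H.hom)) N).left := by
        rw [Over.fst_left]
        infer_instance
      have e := sqS.isoPullback_hom_snd
      have e2 : pullback.snd f.left g = sqS.isoPullback.inv ≫ (fst (Over.mk (g ≫ H.hom)) N).left :=
        (Iso.eq_inv_comp _).mpr e
      rw [e2]
      infer_instance
    · constructor
      intro h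
      have hjs : R₀ ∈ Scheme.jointlySurjectivePrecoverage H.left := by
        rw [Scheme.fppfPrecoverage] at hR₀
        exact hR₀.1
      rw [Scheme.jointlySurjectivePrecoverage,
        Presieve.mem_comap_jointlySurjectivePrecoverage_iff] at hjs
      obtain ⟨Z, g, hg, z, hz⟩ := hjs h
      obtain ⟨b, hb⟩ := hkey g hg
      have hb' : b.left ≫ f.left = g := by
        have := congrArg (fun m => m.left) hb
        exact this
      refine ⟨b.left.base z, ?_⟩
      have h5 : (b.left ≫ f.left).base z = g.base z := congrArg (fun m => m.base z) hb'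
      exact h5.trans hz

end Groth.Agent.S17794
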