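import Groth.Statements.S17797
import Mathlib

set_option autoImplicit false
universe u
open CAlg

namespace Groth.Agent.S17797

/-- Suppose k is a field of characteristic zero and S is a local domain that is an essentially
finite-type k-algebra. Then there are an extension field K of k, a K-algebra A of finite type and a
maximal ideal m of A such that S is isomorphic over k to the localization A_m. -/
theorem result (k : Type u) [Field k] [CharZero k] (S : Type u) [CommRing S] [IsDomain S] [IsLocalRing S] [Algebra k S] [Algebra.EssFiniteType k S] : ∃ (K : Type u) (_ : Field K) (_ : Algebra k K) (A : Type u) (_ : CommRing A) (_ : Algebra K A) (_ : Algebra k A) (_ : IsScalarTower k K A) (_ : Algebra.FiniteType K A) (m : Ideal A) (_ : m.IsMaximal), Nonempty (S ≃ₐ[k] Localization.AtPrime m) := by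
  classical
  obtain ⟨ι, x, hx⟩ := exists_isTranscendenceBasis' k (IsLocalRing.ResidueField S)
  have hsurj := IsLocalRing.residue_surjective (R := S)
  choose t ht using fun i => hsurj (x i)
  obtain ⟨φ, hφ⟩ : ∃ φ : MvPolynomial ι k →ₐ[k] S, φ = MvPolynomial.aeval t := ⟨_, rfl⟩
  have hφX : ∀ i, φ (MvPolynomial.X i) = t i := fun i => by rw [hφ, MvPolynomial.aeval_X]
  have hcomp : (IsScalarTower.toAlgHom k S (IsLocalRing.ResidueField S)).comp φ
      = MvPolynomial.aeval x := by
    apply MvPolynomial.algHom_ext
    intro i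
    rw [AlgHom.comp_apply, hφX, MvPolynomial.aeval_X, IsScalarTower.toAlgHom_apply]
    exact ht i
  have hres : ∀ P, IsLocalRing.residue S (φ P) = MvPolynomial.aeval x P :=
    fun P => DFunLike.congr_fun hcomp P
  have hinj : Function.Injective (MvPolynomial.aeval x : MvPolynomial ι k →ₐ[k] _) :=
    algebraicIndependent_iff_injective_aeval.1 hx.1
  have hunit : ∀ P : MvPolynomial ι k, P ≠ 0 → IsUnit (φ P) := by
    intro P hP
    rw [← IsLocalRing.residue_ne_zero_iff_isUnit, hres]
    intro h0
    exact hP (hinj (h0.trans (map_zero _).symm))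
  have hM : ∀ y : nonZeroDivisors (MvPolynomial ι k),
      IsUnit ((φ : MvPolynomial ι k →+* S) y) := by
    intro y
    exact hunit y (nonZeroDivisors.ne_zero y.2)
  obtain ⟨ψ, hψ⟩ : ∃ ψ : FractionRing (MvPolynomial ι k) →+* S, ψ = IsLocalization.lift hM :=
    ⟨_, rfl⟩
  have hψ_eq : ∀ P, ψ (algebraMap _ _ P) = φ P := fun P => by
    rw [hψ]; exact IsLocalization.lift_eq hM P
  letI algKS : Algebra (FractionRing (MvPolynomial ι k)) S := ψ.toAlgebra
  haveI towerKS : IsScalarTower k (FractionRing (MvPolynomial ι k)) S := by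
    apply IsScalarTower.of_algebraMap_eq
    intro r
    have h1 : algebraMap k (FractionRing (MvPolynomial ι k)) r
        = algebraMap (MvPolynomial ι k) _ (algebraMap k (MvPolynomial ι k) r) :=
      IsScalarTower.algebraMap_apply k (MvPolynomial ι k) _ r
    rw [h1]
    change _ = ψ _
    rw [hψ_eq, AlgHom.commutes]
  haveI : Algebra.EssFiniteType (FractionRing (MvPolynomial ι k)) S :=
    Algebra.EssFiniteType.of_comp k _ S
  obtain ⟨σ, hσ⟩ := (Algebra.essFiniteType_iff (R := FractionRing (MvPolynomial ι k))
    (S := S)).1 inferInstance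
  obtain ⟨A, hA⟩ : ∃ A : Subalgebra (FractionRing (MvPolynomial ι k)) S,
      A = Algebra.adjoin _ (σ : Set S) := ⟨_, rfl⟩
  haveI hAft : Algebra.FiniteType (FractionRing (MvPolynomial ι k)) A := by
    rw [hA]; exact Algebra.FiniteType.adjoin_of_finite σ.finite_toSet
  haveI towerA : IsScalarTower k (FractionRing (MvPolynomial ι k)) A :=
    IsScalarTower.of_algebraMap_eq (fun r => Subtype.ext (by
      change algebraMap k S r = algebraMap (FractionRing (MvPolynomial ι k)) S (algebraMap k _ r)
      exact IsScalarTower.algebraMap_apply k _ S r))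
  obtain ⟨f, hf⟩ : ∃ f : A →ₐ[FractionRing (MvPolynomial ι k)] IsLocalRing.ResidueField S,
      f = (IsScalarTower.toAlgHom _ S (IsLocalRing.ResidueField S)).comp A.val := ⟨_, rfl⟩
  have hfa : ∀ a : A, f a = IsLocalRing.residue S (a : S) := fun a => by rw [hf]; rfl
  letI algR₀κ : Algebra (MvPolynomial ι k) (IsLocalRing.ResidueField S) :=
    (MvPolynomial.aeval x : MvPolynomial ι k →ₐ[k] IsLocalRing.ResidueField S).toRingHom.toAlgebra
  haveI towerR₀Kκ : IsScalarTower (MvPolynomial ι k) (FractionRing (MvPolynomial ι k))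
      (IsLocalRing.ResidueField S) := by
    apply IsScalarTower.of_algebraMap_eq
    intro P
    change MvPolynomial.aeval x P = IsLocalRing.residue S (ψ (algebraMap _ _ P))
    rw [hψ_eq, hres]
  haveI : Algebra.IsAlgebraic (MvPolynomial ι k) (IsLocalRing.ResidueField S) := by
    haveI := hx.isAlgebraic
    exact Algebra.IsAlgebraic.of_ringHom_of_comp_eq
      (hx.1.aevalEquiv : MvPolynomial ι k →+* Algebra.adjoin k (Set.range x))
      (RingHom.id (IsLocalRing.ResidueField S)) hx.1.aevalEquiv.surjective
      Function.injective_id (RingHom.ext fun P => rfl)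
  haveI : Algebra.IsAlgebraic (FractionRing (MvPolynomial ι k)) (IsLocalRing.ResidueField S) :=
    Algebra.IsAlgebraic.extendScalars (R := MvPolynomial ι k)
      (IsFractionRing.injective (MvPolynomial ι k) (FractionRing (MvPolynomial ι k)))
  haveI : Algebra.IsIntegral (FractionRing (MvPolynomial ι k)) (IsLocalRing.ResidueField S) :=
    inferInstance
  haveI hint : Algebra.IsIntegral (FractionRing (MvPolynomial ι k)) (A ⧸ RingHom.ker f) :=
    Algebra.IsIntegral.of_injective (Ideal.kerLiftAlg f) (Ideal.kerLiftAlg_injective f)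
  haveI : (RingHom.ker f).IsPrime := RingHom.ker_isPrime f
  have hmax : (RingHom.ker f).IsMaximal :=
    Ideal.Quotient.maximal_of_isField _
      (isField_of_isIntegral_of_isField' (R := FractionRing (MvPolynomial ι k))
        (S := A ⧸ RingHom.ker f) (Field.toIsField _))
  haveI hloc : IsLocalization.AtPrime S (RingHom.ker f) := by
    refine (isLocalization_iff (RingHom.ker f).primeCompl S).2 ⟨?_, ?_, ?_⟩
    · rintro ⟨a, ha⟩
      change IsUnit ((a : A) : S)
      rw [← IsLocalRing.residue_ne_zero_iff_isUnit, ← hfa]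
      exact fun h => ha ((RingHom.mem_ker).2 h)
    · intro s
      obtain ⟨t', ht', hu, hst⟩ := hσ s
      rw [← hA] at ht' hst
      refine ⟨(⟨s * t', hst⟩, ⟨⟨t', ht'⟩, ?_⟩), rfl⟩
      intro hker
      have h0 : IsLocalRing.residue S t' = 0 := by
        rw [← hfa ⟨t', ht'⟩]; exact (RingHom.mem_ker).1 hker
      exact (IsLocalRing.residue_ne_zero_iff_isUnit t').2 hu h0
    · intro a b hab
      exact ⟨1, by rw [Subtype.ext hab]⟩
  refine ⟨FractionRing (MvPolynomial ι k), inferInstance, inferInstance, A, inferInstance,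
    inferInstance, inferInstance, towerA, hAft, RingHom.ker f, hmax, ⟨?_⟩⟩
  have e : Localization.AtPrime (RingHom.ker f) ≃ₐ[A] S :=
    IsLocalization.algEquiv (RingHom.ker f).primeCompl _ _
  refine (AlgEquiv.ofRingEquiv (f := e.toRingEquiv) (fun r => ?_)).symm
  have h1 : algebraMap k (Localization.AtPrime (RingHom.ker f)) r
      = algebraMap A _ (algebraMap k A r) := IsScalarTower.algebraMap_apply k A _ r
  rw [h1]
  exact (e.commutes (algebraMap k A r))

end Groth.Agent.S17797
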