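import Groth.Statements.S17825
import Mathlib

set_option autoImplicit false
universe u
open CategoryTheory CategoryTheory.Limits AlgebraicGeometry
open JacVar

namespace Groth.Agent.S17825

/-- Let S be a scheme, Y an S-scheme separated over S, F a presheaf of sets on the category of
S-schemes, f : h_Y ⟶ F a morphism from the functor of points of Y, and s : F ⟶ h_Y a section of f (s
followed by f is the identity). Then F is represented by a closed subscheme of Y: there are an
S-scheme Z, a morphism i : Z ⟶ Y over S which is a closed immersion, and an isomorphism F ≅ h_Z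
whose composite with h_i : h_Z ⟶ h_Y is s. (The published lemma treats the case where Y is the r-th
symmetric power of a curve, F the functor of degree-r invertible families modulo twisting and f the
divisor-class map.) -/
theorem result {S : Scheme.{u}} (Y : Over S) [IsSeparated Y.hom]
    (F : (Over S)ᵒᵖ ⥤ Type u) (f : yoneda.obj Y ⟶ F) (s : F ⟶ yoneda.obj Y) (hsf : s ≫ f = 𝟙 F) :
    ∃ (Z : Over S) (i : Z ⟶ Y), IsClosedImmersion i.left ∧
      ∃ e : F ≅ yoneda.obj Z, e.hom ≫ yoneda.map i = s := by
  classical
  let γ : Y ⟶ Y := s.app (Opposite.op Y) (f.app (Opposite.op Y) (𝟙 Y))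
  have hγ : ∀ (T : (Over S)ᵒᵖ) (h : T.unop ⟶ Y), s.app T (f.app T h) = h ≫ γ := by
    intro T h
    have := ConcreteCategory.congr_hom ((f ≫ s).naturality h.op) (𝟙 Y)
    simp only [types_comp_apply, yoneda_obj_map, Quiver.Hom.unop_op, Category.comp_id,
      NatTrans.comp_app] at this
    exact this
  have hsf' : ∀ (T : (Over S)ᵒᵖ) (x : F.obj T), f.app T (s.app T x) = x := by
    intro T x
    have := ConcreteCategory.congr_hom (congrArg (fun n : F ⟶ F => n.app T) hsf) x
    simpa using this
  have hidem : ∀ (T : (Over S)ᵒᵖ) (x : F.obj T), s.app T x ≫ γ = s.app T x ≫ 𝟙 Y := by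
    intro T x
    rw [← hγ, hsf', Category.comp_id]
  refine ⟨equalizer γ (𝟙 Y), equalizer.ι γ (𝟙 Y), inferInstance, ?_⟩
  let e : F ≅ yoneda.obj (equalizer γ (𝟙 Y)) := NatIso.ofComponents (fun T =>
      { hom := TypeCat.ofHom fun x => equalizer.lift (s.app T x) (hidem T x)
        inv := TypeCat.ofHom fun z => f.app T (z ≫ equalizer.ι γ (𝟙 Y))
        hom_inv_id := by
          apply ConcreteCategory.hom_ext
          intro x
          simp only [types_comp_apply, types_id_apply, TypeCat.ofHom_apply, equalizer.lift_ι]
          exact hsf' T x
        inv_hom_id := by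
          apply ConcreteCategory.hom_ext
          intro z
          simp only [types_comp_apply, types_id_apply, TypeCat.ofHom_apply]
          apply equalizer.hom_ext
          rw [equalizer.lift_ι, hγ, Category.assoc, equalizer.condition, Category.comp_id] })
    (by
      intro T T' h
      apply ConcreteCategory.hom_ext
      intro x
      simp only [types_comp_apply, yoneda_obj_map, TypeCat.ofHom_apply]
      apply equalizer.hom_ext
      rw [equalizer.lift_ι, Category.assoc, equalizer.lift_ι]
      have := ConcreteCategory.congr_hom (s.naturality h) x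
      simpa using this)
  refine ⟨e, ?_⟩
  ext T x
  exact equalizer.lift_ι _ _

end Groth.Agent.S17825
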