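import Groth.Statements.S17843
import Mathlib

set_option linter.style.haveILetI false

set_option autoImplicit false
universe u v
open CAlg

namespace Groth.Agent.S17843

section Aux

open Polynomial

variable {R : Type u} [CommRing R] (r : R)

theorem lift_scaled (p : Polynomial (Localization.Away r)) :
    ∃ e₀ : ℕ, ∀ e : ℕ, e₀ ≤ e → ∃ P : Polynomial R,
      P.map (algebraMap R (Localization.Away r)) =
        C (algebraMap R (Localization.Away r) (r ^ e)) *
          Polynomial.aeval (C (algebraMap R (Localization.Away r) (r ^ e)) * X) p := by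
  induction p using Polynomial.induction_on' with
  | add p q hp hq =>
    obtain ⟨e₁, h₁⟩ := hp
    obtain ⟨e₂, h₂⟩ := hq
    refine ⟨max e₁ e₂, fun e he => ?_⟩
    obtain ⟨P₁, hP₁⟩ := h₁ e (le_trans (le_max_left _ _) he)
    obtain ⟨P₂, hP₂⟩ := h₂ e (le_trans (le_max_right _ _) he)
    exact ⟨P₁ + P₂, by rw [Polynomial.map_add, hP₁, hP₂, map_add, mul_add]⟩
  | monomial i s =>
    obtain ⟨k, a, hka⟩ := IsLocalization.Away.surj r s
    refine ⟨k, fun e he => ⟨monomial i (a * r ^ (e * (i + 1) - k)), ?_⟩⟩
    have hle : k ≤ e * (i + 1) := le_trans he (Nat.le_mul_of_pos_right e (Nat.succ_pos i))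
    ext n
    rw [Polynomial.coeff_map, coeff_monomial, coeff_C_mul, ← comp_eq_aeval, comp_C_mul_X_coeff,
      coeff_monomial]
    split_ifs with h
    · subst h
      have hd : e * (i + 1) = k + (e * (i + 1) - k) := by omega
      calc algebraMap R (Localization.Away r) (a * r ^ (e * (i + 1) - k))
          = algebraMap R (Localization.Away r) a *
              algebraMap R (Localization.Away r) r ^ (e * (i + 1) - k) := by
            rw [map_mul, map_pow]
        _ = s * algebraMap R (Localization.Away r) r ^ k *
              algebraMap R (Localization.Away r) r ^ (e * (i + 1) - k) := by rw [hka]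
        _ = s * algebraMap R (Localization.Away r) r ^ (e * (i + 1)) := by
            rw [mul_assoc, ← pow_add, ← hd]
        _ = algebraMap R (Localization.Away r) (r ^ e) *
              (s * algebraMap R (Localization.Away r) (r ^ e) ^ i) := by
            rw [map_pow]; ring
    · simp

theorem lift_scaled' (p : Polynomial (Localization.Away r)) (c : R)
    (hc : p.coeff 0 = algebraMap R (Localization.Away r) c) :
    ∃ e₀ : ℕ, ∀ e, e₀ ≤ e → ∃ P : Polynomial R, P.coeff 0 = c ∧
      P.map (algebraMap R (Localization.Away r)) =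
        Polynomial.aeval (C (algebraMap R (Localization.Away r) (r ^ e)) * X) p := by
  obtain ⟨e₀, h⟩ := lift_scaled r p.divX
  refine ⟨e₀, fun e he => ?_⟩
  obtain ⟨P', hP'⟩ := h e he
  refine ⟨C c + X * P', by simp, ?_⟩
  conv_rhs => rw [← Polynomial.divX_mul_X_add p]
  rw [Polynomial.map_add, Polynomial.map_mul, Polynomial.map_C, Polynomial.map_X, hP', map_add,
    map_mul, aeval_X, aeval_C, hc, ← C_eq_algebraMap]
  ring

theorem scale_kill (h : Polynomial R) (h1 : h.map (algebraMap R (Localization.Away r)) = 0)
    (h0 : h.coeff 0 = 0) :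
    ∃ k : ℕ, ∀ d, k ≤ d → Polynomial.aeval (C (r ^ d) * X) h = 0 := by
  have hk : ∀ i, ∃ k : ℕ, r ^ k * h.coeff i = 0 := by
    intro i
    have : algebraMap R (Localization.Away r) (h.coeff i) =
        algebraMap R (Localization.Away r) 0 := by
      rw [← Polynomial.coeff_map, h1, coeff_zero, map_zero]
    obtain ⟨k, hk⟩ := IsLocalization.Away.exists_of_eq r this
    exact ⟨k, by rw [hk, mul_zero]⟩
  choose k hk using hk
  refine ⟨h.support.sup k, fun d hd => ?_⟩
  ext i
  rw [← comp_eq_aeval, comp_C_mul_X_coeff, coeff_zero]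
  rcases Nat.eq_zero_or_pos i with rfl | hi
  · rw [h0, zero_mul]
  · by_cases hs : i ∈ h.support
    · have hki : k i ≤ d * i :=
        le_trans (le_trans (Finset.le_sup hs) hd) (Nat.le_mul_of_pos_right d hi)
      have : (r ^ d) ^ i = r ^ (d * i - k i) * r ^ k i := by
        rw [← pow_mul, ← pow_add]; congr 1; omega
      rw [this, mul_comm (h.coeff i), mul_assoc, hk i, mul_zero]
    · rw [Polynomial.notMem_support_iff.mp hs, zero_mul]

end Aux

/-- In the case of an affine scheme of finite presentation, let B be a finitely presented R-algebra, r ∈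
R, and x : B → R[1/r][T] an R-algebra homomorphism whose value at T = 0, a homomorphism B → R[1/r],
is induced by a homomorphism x̃₀ : B → R. Then for every large enough n, the homomorphism x(rⁿT) : B
→ R[1/r][T] is induced by a homomorphism x̃ : B → R[T] whose value at T = 0 is x̃₀. The published
statement is for algebraic spaces locally of finite presentation over R; this row takes an affine
scheme of finite presentation. -/
theorem result
    (R : Type u) (B : Type v) [CommRing R] [CommRing B] [Algebra R B]
    [Algebra.FinitePresentation R B] (r : R)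
    (x : B →ₐ[R] Polynomial (Localization.Away r))
    (x₀ : B →ₐ[R] R)
    (hx₀ : (algebraMap R (Localization.Away r)).comp x₀.toRingHom =
      (Polynomial.evalRingHom 0).comp x.toRingHom) :
    ∃ N : ℕ, ∀ n : ℕ, N ≤ n →
      ∃ y : B →ₐ[R] Polynomial R,
        (Polynomial.evalRingHom 0).comp y.toRingHom = x₀.toRingHom ∧
        (Polynomial.mapRingHom (algebraMap R (Localization.Away r))).comp y.toRingHom =
          (Polynomial.aeval (Polynomial.C (algebraMap R (Localization.Away r) (r ^ n)) * Polynomial.X) :
              Polynomial (Localization.Away r) →ₐ[Localization.Away r] Polynomial (Localization.Away r)).toRingHom.comp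
            x.toRingHom := by
  classical
  obtain ⟨m, f, hf, s, hs⟩ := Algebra.FinitePresentation.out (R := R) (A := B)
  have hc : ∀ j : Fin m, (x (f (MvPolynomial.X j))).coeff 0 =
      algebraMap R (Localization.Away r) (x₀ (f (MvPolynomial.X j))) := by
    intro j
    have h1 := RingHom.congr_fun hx₀ (f (MvPolynomial.X j))
    rw [Polynomial.coeff_zero_eq_eval_zero]
    exact h1.symm
  have hL1 : ∀ j : Fin m, ∃ e₀ : ℕ, ∀ e, e₀ ≤ e → ∃ P : Polynomial R,
      P.coeff 0 = x₀ (f (MvPolynomial.X j)) ∧
      P.map (algebraMap R (Localization.Away r)) =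
        Polynomial.aeval (Polynomial.C (algebraMap R (Localization.Away r) (r ^ e)) * Polynomial.X)
          (x (f (MvPolynomial.X j))) :=
    fun j => lift_scaled' r _ _ (hc j)
  choose e₀ he₀ using hL1
  have hE' : ∀ j, e₀ j ≤ Finset.univ.sup e₀ := fun j => Finset.le_sup (Finset.mem_univ j)
  generalize hEdef : Finset.univ.sup e₀ = E at hE'
  choose P hP0 hPmap using fun j => he₀ j E (hE' j)
  let yE : MvPolynomial (Fin m) R →ₐ[R] Polynomial R := MvPolynomial.aeval P
  have H1 : ∀ a, (yE a).coeff 0 = x₀ (f a) := by
    have h1 : (Polynomial.aeval (0 : R) : Polynomial R →ₐ[R] R).comp yE = x₀.comp f := by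
      apply MvPolynomial.algHom_ext
      intro j
      simp only [AlgHom.comp_apply, yE, MvPolynomial.aeval_X]
      rw [← Polynomial.coeff_zero_eq_aeval_zero, hP0]
    intro a
    rw [Polynomial.coeff_zero_eq_aeval_zero]
    exact AlgHom.congr_fun h1 a
  have H2 : ∀ a, (yE a).map (algebraMap R (Localization.Away r)) =
      Polynomial.aeval (Polynomial.C (algebraMap R (Localization.Away r) (r ^ E)) * Polynomial.X)
        (x (f a)) := by
    have h1 : (Polynomial.mapAlgHom (Algebra.ofId R (Localization.Away r))).comp yE =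
        ((Polynomial.aeval
            (Polynomial.C (algebraMap R (Localization.Away r) (r ^ E)) * Polynomial.X) :
          Polynomial (Localization.Away r) →ₐ[Localization.Away r]
            Polynomial (Localization.Away r)).restrictScalars R).comp (x.comp f) := by
      apply MvPolynomial.algHom_ext
      intro j
      simp only [AlgHom.comp_apply, yE, MvPolynomial.aeval_X, AlgHom.restrictScalars_apply]
      exact hPmap j
    intro a
    exact AlgHom.congr_fun h1 a
  have hsker : ∀ g ∈ s, f g = 0 := fun g hg => by
    have h1 : g ∈ RingHom.ker f.toRingHom := hs ▸ Ideal.subset_span hg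
    exact h1
  have hL2 : ∀ g : MvPolynomial (Fin m) R, ∃ k : ℕ, g ∈ s → ∀ d, k ≤ d →
      Polynomial.aeval (Polynomial.C (r ^ d) * Polynomial.X) (yE g) = 0 := by
    intro g
    by_cases hg : g ∈ s
    · have h1 : ∃ k : ℕ, ∀ d, k ≤ d →
          Polynomial.aeval (Polynomial.C (r ^ d) * Polynomial.X) (yE g) = 0 := by
        apply scale_kill r
        · rw [H2 g, hsker g hg, map_zero, map_zero]
        · rw [H1 g, hsker g hg, map_zero]
      obtain ⟨k, hk⟩ := h1
      exact ⟨k, fun _ => hk⟩
    · exact ⟨0, fun h => absurd h hg⟩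
  choose k hk using hL2
  refine ⟨E + s.sup k, fun n hn => ?_⟩
  obtain ⟨d, hnd, hdK⟩ : ∃ d : ℕ, n = E + d ∧ s.sup k ≤ d := ⟨n - E, by omega, by omega⟩
  let scR : Polynomial R →ₐ[R] Polynomial R :=
    Polynomial.aeval (Polynomial.C (r ^ d) * Polynomial.X)
  let y' : MvPolynomial (Fin m) R →ₐ[R] Polynomial R := scR.comp yE
  have hker : ∀ a ∈ RingHom.ker f, y' a = 0 := by
    intro a ha
    have ha' : a ∈ Ideal.span (s : Set (MvPolynomial (Fin m) R)) := by rw [hs]; exact ha
    have hle : Ideal.span (s : Set (MvPolynomial (Fin m) R)) ≤ RingHom.ker y' := by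
      rw [Ideal.span_le]
      intro g hg
      exact hk g hg d (le_trans (Finset.le_sup hg) hdK)
    exact hle ha'
  let φ := Ideal.quotientKerAlgEquivOfSurjective hf
  let y : B →ₐ[R] Polynomial R :=
    (Ideal.Quotient.liftₐ (RingHom.ker f) y' hker).comp φ.symm.toAlgHom
  have hy : ∀ a, y (f a) = y' a := by
    intro a
    have h1 : φ.symm (f a) = Ideal.Quotient.mk _ a := by
      rw [AlgEquiv.symm_apply_eq]
      exact (Ideal.quotientKerAlgEquivOfSurjective_mk hf a).symm
    show Ideal.Quotient.liftₐ (RingHom.ker f) y' hker (φ.symm (f a)) = y' a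
    rw [h1]
    rfl
  refine ⟨y, ?_, ?_⟩
  · apply RingHom.ext
    intro b
    obtain ⟨a, rfl⟩ := hf b
    show Polynomial.eval 0 (y (f a)) = x₀ (f a)
    rw [hy a, ← Polynomial.coeff_zero_eq_eval_zero]
    show (Polynomial.aeval (Polynomial.C (r ^ d) * Polynomial.X) (yE a)).coeff 0 = _
    rw [← Polynomial.comp_eq_aeval, Polynomial.comp_C_mul_X_coeff, pow_zero, mul_one, H1]
  · apply RingHom.ext
    intro b
    obtain ⟨a, rfl⟩ := hf b
    show Polynomial.map (algebraMap R (Localization.Away r)) (y (f a)) =
      Polynomial.aeval (Polynomial.C (algebraMap R (Localization.Away r) (r ^ n)) * Polynomial.X)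
        (x (f a))
    rw [hy a]
    show Polynomial.map (algebraMap R (Localization.Away r))
      (Polynomial.aeval (Polynomial.C (r ^ d) * Polynomial.X) (yE a)) = _
    ext i
    rw [Polynomial.coeff_map, ← Polynomial.comp_eq_aeval, Polynomial.comp_C_mul_X_coeff,
      ← Polynomial.comp_eq_aeval, Polynomial.comp_C_mul_X_coeff, map_mul,
      ← Polynomial.coeff_map, H2 a, ← Polynomial.comp_eq_aeval, Polynomial.comp_C_mul_X_coeff,
      hnd, pow_add, map_mul, map_pow, map_pow, map_pow]
    ring

end Groth.Agent.S17843
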