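-- Statement S17854: etale chart k[x₁..x_d] → R[1/g] with residue field iso (finite residue field).
import Groth.Statements.S17854
import Mathlib
import Groth.Agent.S2789

set_option autoImplicit false
set_option linter.style.haveILetI false
open TensorProduct
universe u
open EtAlg

namespace Groth.Agent.S17854

lemma finite_quot (k : Type u) [CommRing k] [IsLocalRing k] [Finite (IsLocalRing.ResidueField k)]
    (R : Type u) [CommRing R] [Algebra k R] [Algebra.FiniteType k R]
    (m : Ideal R) [m.IsMaximal] (hm : m.comap (algebraMap k R) = IsLocalRing.maximalIdeal k) :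
    Finite (R ⧸ m) := by
  letI : Field (R ⧸ m) := Ideal.Quotient.field m
  let f : IsLocalRing.ResidueField k →+* R ⧸ m :=
    Ideal.quotientMap m (algebraMap k R) (le_of_eq hm.symm)
  letI : Algebra (IsLocalRing.ResidueField k) (R ⧸ m) := f.toAlgebra
  haveI : IsScalarTower k (IsLocalRing.ResidueField k) (R ⧸ m) :=
    IsScalarTower.of_algebraMap_eq' (by ext x; rfl)
  haveI : Algebra.FiniteType (IsLocalRing.ResidueField k) (R ⧸ m) :=
    Algebra.FiniteType.of_restrictScalars_finiteType k _ _
  haveI : Module.Finite (IsLocalRing.ResidueField k) (R ⧸ m) :=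
    finite_of_finite_type_of_isJacobsonRing _ _
  exact Module.finite_of_finite (IsLocalRing.ResidueField k)

lemma frob_surj (F : Type*) [Field F] [Finite F] :
    ∃ p : ℕ, ((p : ℕ) : F) = 0 ∧ 0 < p ∧ ∀ y : F, ∃ c : F, c ^ p = y := by
  obtain ⟨p, hp⟩ := CharP.exists F
  haveI := hp
  have hprime : p.Prime := CharP.char_is_prime F p
  haveI : Fact p.Prime := ⟨hprime⟩
  haveI : ExpChar F p := ExpChar.prime hprime
  refine ⟨p, CharP.cast_eq_zero F p, hprime.pos, fun y => ?_⟩
  obtain ⟨c, hc⟩ := surjective_frobenius F p y
  exact ⟨c, by simpa [frobenius_def] using hc⟩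

lemma exists_gen (F : Type*) [Field F] [Finite F] :
    ∃ θ : F, ∀ c : F, c = 0 ∨ ∃ j : ℕ, c = θ ^ j := by
  obtain ⟨u, hu⟩ := IsCyclic.exists_generator (α := Fˣ)
  refine ⟨(u : F), fun c => ?_⟩
  by_cases hc : c = 0
  · exact Or.inl hc
  · right
    have h1 : Units.mk0 c hc ∈ Subgroup.zpowers u := hu _
    rw [← mem_powers_iff_mem_zpowers] at h1
    obtain ⟨j, hj⟩ := h1
    refine ⟨j, ?_⟩
    have := congrArg (Units.val) hj
    simpa using this.symm

lemma finrank_eq {k R : Type u} [CommRing k] [CommRing R] [Algebra k R] (m : Ideal R)
    [m.IsMaximal] :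
    Module.finrank (IsLocalRing.ResidueField (Localization.AtPrime m))
      (IsLocalRing.ResidueField (Localization.AtPrime m) ⊗[Localization.AtPrime m]
        Ω[Localization.AtPrime m⁄k])
      = Module.finrank (R ⧸ m) ((R ⧸ m) ⊗[R] Ω[R⁄k]) := by
  letI : Field (R ⧸ m) := Ideal.Quotient.field m
  haveI : Algebra.FormallyEtale R (Localization.AtPrime m) :=
    Algebra.FormallyEtale.of_isLocalization (Rₘ := Localization.AtPrime m) m.primeCompl
  have e1 : m.ResidueField ⊗[Localization.AtPrime m] Ω[Localization.AtPrime m⁄k]
      ≃ₗ[m.ResidueField] m.ResidueField ⊗[R ⧸ m] ((R ⧸ m) ⊗[R] Ω[R⁄k]) :=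
    (TensorProduct.AlgebraTensorModule.congr (LinearEquiv.refl m.ResidueField m.ResidueField)
      (KaehlerDifferential.tensorKaehlerEquivOfFormallyEtale k R (Localization.AtPrime m)).symm)
      ≪≫ₗ
    (TensorProduct.AlgebraTensorModule.cancelBaseChange R (Localization.AtPrime m)
      m.ResidueField m.ResidueField Ω[R⁄k]) ≪≫ₗ
    (TensorProduct.AlgebraTensorModule.cancelBaseChange R (R ⧸ m)
      m.ResidueField m.ResidueField Ω[R⁄k]).symm
  exact e1.finrank_eq.trans (Module.finrank_baseChange)

lemma exists_fin_basis {k R T : Type u} [CommRing k] [CommRing R] [CommRing T] [Algebra k R]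
    [Algebra k T] [Algebra R T] [IsScalarTower k R T] [IsLocalRing T] (M : Submonoid R)
    [IsLocalization M T] [Module.Finite T Ω[T⁄k]] (n : ℕ)
    (hn : Module.finrank (IsLocalRing.ResidueField T)
      (IsLocalRing.ResidueField T ⊗[T] Ω[T⁄k]) = n) :
    ∃ x : Fin n → R, Function.Bijective (Finsupp.linearCombination (IsLocalRing.ResidueField T)
      (fun i => (1 : IsLocalRing.ResidueField T) ⊗ₜ[T]
        KaehlerDifferential.D k T (algebraMap R T (x i)))) := by
  let w : R → IsLocalRing.ResidueField T ⊗[T] Ω[T⁄k] :=
    fun r => (1 : IsLocalRing.ResidueField T) ⊗ₜ[T] KaehlerDifferential.D k T (algebraMap R T r)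
  have hspanT : Submodule.span T
      (Set.range fun r : R => KaehlerDifferential.D k T (algebraMap R T r)) = ⊤ := by
    have := KaehlerDifferential.span_range_map_derivation_of_isLocalization k R T M
    rw [← this]
    congr 1
    ext ω
    simp [KaehlerDifferential.map_D]
  have hspan : Submodule.span (IsLocalRing.ResidueField T) (Set.range w) = ⊤ := by
    rw [eq_top_iff]
    rintro z -
    induction z using TensorProduct.induction_on with
    | zero => exact zero_mem _
    | add a b ha hb => exact add_mem ha hb
    | tmul a ω =>
      have hω : ω ∈ Submodule.span T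
          (Set.range fun r : R => KaehlerDifferential.D k T (algebraMap R T r)) := by
        rw [hspanT]; trivial
      have h1 : a ⊗ₜ[T] ω = a • ((1 : IsLocalRing.ResidueField T) ⊗ₜ[T] ω) := by
        rw [TensorProduct.smul_tmul', smul_eq_mul, mul_one]
      rw [h1]
      refine Submodule.smul_mem _ _ ?_
      have hle : Submodule.span T
          (Set.range fun r : R => KaehlerDifferential.D k T (algebraMap R T r)) ≤
          ((Submodule.span (IsLocalRing.ResidueField T) (Set.range w)).restrictScalars T).comap
            (TensorProduct.mk T (IsLocalRing.ResidueField T) Ω[T⁄k] 1) := by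
        rw [Submodule.span_le]
        rintro _ ⟨r, rfl⟩
        exact Submodule.subset_span ⟨r, rfl⟩
      exact hle hω
  obtain ⟨f, hfs, hfspan, hfli⟩ :=
    Submodule.exists_fun_fin_finrank_span_eq (IsLocalRing.ResidueField T) (Set.range w)
  have hcard : n = Module.finrank (IsLocalRing.ResidueField T)
      (Submodule.span (IsLocalRing.ResidueField T) (Set.range w)) := by
    rw [hspan, finrank_top, hn]
  let e : Fin n ≃ Fin (Module.finrank (IsLocalRing.ResidueField T)
      (Submodule.span (IsLocalRing.ResidueField T) (Set.range w))) := finCongr hcard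
  choose x hx using fun i => hfs (e i)
  refine ⟨x, ?_⟩
  have hfun : (fun i => (1 : IsLocalRing.ResidueField T) ⊗ₜ[T]
      KaehlerDifferential.D k T (algebraMap R T (x i))) = f ∘ e := by
    funext i; exact hx i
  rw [hfun]
  constructor
  · exact hfli.comp e e.injective
  · rw [← LinearMap.range_eq_top, Finsupp.range_linearCombination, e.surjective.range_comp,
      hfspan, hspan]

lemma surj_aux {R A : Type*} [CommRing R] [CommRing A] [Algebra R A] (m : Ideal R)
    [hmax : m.IsMaximal] (g : R) (hg : g ∉ m) [IsLocalization.Away g A] (z : A) :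
    ∃ b : R, z - algebraMap R A b ∈ m.map (algebraMap R A) := by
  obtain ⟨r, s, rfl⟩ := IsLocalization.exists_mk'_eq (Submonoid.powers g) z
  have hs : (s : R) ∉ m := by
    obtain ⟨n, hn⟩ := (Submonoid.mem_powers_iff _ _).mp s.2
    intro h
    rw [← hn] at h
    exact hg (hmax.isPrime.mem_of_pow_mem n h)
  obtain ⟨h, i, him, hi⟩ := hmax.exists_inv hs
  refine ⟨r * h, ?_⟩
  have h1 : IsLocalization.mk' A r s * algebraMap R A (s : R) = algebraMap R A r :=
    IsLocalization.mk'_spec A r s
  have h2 : algebraMap R A h * algebraMap R A (s : R) + algebraMap R A i = 1 := by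
    rw [← map_mul, ← map_add, hi, map_one]
  have h3 : IsLocalization.mk' A r s - algebraMap R A (r * h) =
      IsLocalization.mk' A r s * algebraMap R A i := by
    rw [map_mul]
    linear_combination (-(IsLocalization.mk' A r s)) * h2 + (algebraMap R A h) * h1
  rw [h3]
  exact Ideal.mul_mem_left _ _ (Ideal.mem_map_of_mem _ him)

/-- In the case of a base with finite residue field, let k be a local ring whose residue field is
finite, R a finitely presented k-algebra and m a maximal ideal of R over the maximal ideal of k such
that R is smooth over k at m of relative dimension d > 0 (the module of Kähler differentials of R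
over k has rank d at m). Then there are g ∉ m and an étale k-algebra homomorphism φ : k[x₁, …, x_d]
→ R[1/g] which induces an isomorphism of residue fields at m, i.e. k[x₁, …, x_d] → R[1/g]/m R[1/g]
is surjective. The published statement is for any local ring k; this row takes the residue field of
k finite. -/
theorem result
    (k : Type u) [CommRing k] [IsLocalRing k] [Finite (IsLocalRing.ResidueField k)]
    (R : Type u) [CommRing R] [Algebra k R] [Algebra.FinitePresentation k R]
    (m : Ideal R) [m.IsMaximal] (hm : m.comap (algebraMap k R) = IsLocalRing.maximalIdeal k)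
    [Algebra.IsSmoothAt k m] (d : ℕ) (hd : 0 < d)
    (hdim : Module.finrank (R ⧸ m) ((R ⧸ m) ⊗[R] KaehlerDifferential k R) = d) :
    ∃ g : R, g ∉ m ∧ ∃ φ : MvPolynomial (Fin d) k →ₐ[k] Localization.Away g,
      φ.toRingHom.Etale ∧
      Function.Surjective
        ((Ideal.Quotient.mk (m.map (algebraMap R (Localization.Away g)))).comp φ.toRingHom) := by
  classical
  haveI hfin : Finite (R ⧸ m) := finite_quot k R m hm
  letI : Field (R ⧸ m) := Ideal.Quotient.field m
  obtain ⟨p, hp0, hppos, hfrob⟩ := frob_surj (R ⧸ m)
  obtain ⟨θ, hθ⟩ := exists_gen (R ⧸ m)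
  haveI : Algebra.EssFiniteType R (Localization.AtPrime m) :=
    Algebra.EssFiniteType.of_isLocalization _ m.primeCompl
  haveI : Algebra.EssFiniteType k (Localization.AtPrime m) :=
    Algebra.EssFiniteType.comp k R _
  haveI : Module.Finite (Localization.AtPrime m) Ω[Localization.AtPrime m⁄k] := inferInstance
  haveI : Module.Flat (Localization.AtPrime m) Ω[Localization.AtPrime m⁄k] := inferInstance
  have hn : Module.finrank (IsLocalRing.ResidueField (Localization.AtPrime m))
      (IsLocalRing.ResidueField (Localization.AtPrime m) ⊗[Localization.AtPrime m]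
        Ω[Localization.AtPrime m⁄k]) = d := by
    rw [finrank_eq m, hdim]
  obtain ⟨x, hx⟩ := exists_fin_basis (k := k) (R := R) (T := Localization.AtPrime m)
    m.primeCompl d hn
  -- Frobenius modification of the first coordinate
  let i₀ : Fin d := ⟨0, hd⟩
  obtain ⟨c', hc'⟩ := hfrob (θ - Ideal.Quotient.mk m (x i₀))
  obtain ⟨c, rfl⟩ := Ideal.Quotient.mk_surjective c'
  let x' : Fin d → R := Function.update x i₀ (x i₀ + c ^ p)
  have hx'θ : Ideal.Quotient.mk m (x' i₀) = θ := by
    simp only [x', Function.update_self, map_add, map_pow, hc']; ring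
  have hpm : ((p : ℕ) : R) ∈ m := by
    rw [← Ideal.Quotient.eq_zero_iff_mem, map_natCast]; exact hp0
  have hpK : algebraMap (Localization.AtPrime m)
      (IsLocalRing.ResidueField (Localization.AtPrime m))
      ((p : ℕ) : Localization.AtPrime m) = 0 := by
    have h1 : ((p : ℕ) : Localization.AtPrime m) =
        algebraMap R (Localization.AtPrime m) ((p : ℕ) : R) :=
      (map_natCast (algebraMap R (Localization.AtPrime m)) p).symm
    rw [h1]
    show IsLocalRing.residue (Localization.AtPrime m)
      (algebraMap R (Localization.AtPrime m) ((p : ℕ) : R)) = 0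
    rw [IsLocalRing.residue_eq_zero_iff,
      IsLocalization.AtPrime.to_map_mem_maximal_iff (Localization.AtPrime m) m]
    exact hpm
  have key : ∀ (a b : Localization.AtPrime m),
      (1 : IsLocalRing.ResidueField (Localization.AtPrime m)) ⊗ₜ[Localization.AtPrime m]
        KaehlerDifferential.D k (Localization.AtPrime m) (a + b ^ p) =
      (1 : IsLocalRing.ResidueField (Localization.AtPrime m)) ⊗ₜ[Localization.AtPrime m]
        KaehlerDifferential.D k (Localization.AtPrime m) a := by
    intro a b
    rw [map_add, Derivation.leibniz_pow, TensorProduct.tmul_add, add_eq_left,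
      ← Nat.cast_smul_eq_nsmul (Localization.AtPrime m) p, ← TensorProduct.smul_tmul,
      Algebra.smul_def, mul_one, hpK, TensorProduct.zero_tmul]
  have hw : ∀ i, (1 : IsLocalRing.ResidueField (Localization.AtPrime m))
        ⊗ₜ[Localization.AtPrime m]
        KaehlerDifferential.D k (Localization.AtPrime m)
          (algebraMap R (Localization.AtPrime m) (x' i)) =
      (1 : IsLocalRing.ResidueField (Localization.AtPrime m)) ⊗ₜ[Localization.AtPrime m]
        KaehlerDifferential.D k (Localization.AtPrime m)
          (algebraMap R (Localization.AtPrime m) (x i)) := by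
    intro i
    by_cases hi : i = i₀
    · rw [hi]
      simp only [x', Function.update_self]
      rw [map_add, map_pow]
      exact key _ _
    · simp only [x', Function.update_of_ne hi]
  have hbij' : Function.Bijective (Finsupp.linearCombination (Localization.AtPrime m)
      (fun i => KaehlerDifferential.D k (Localization.AtPrime m)
        (algebraMap R (Localization.AtPrime m) (x' i)))) := by
    apply Module.IsLocalRing.linearCombination_bijective_of_flat
    have : (TensorProduct.mk (Localization.AtPrime m)
        (IsLocalRing.ResidueField (Localization.AtPrime m)) Ω[Localization.AtPrime m⁄k] 1 ∘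
        fun i => KaehlerDifferential.D k (Localization.AtPrime m)
          (algebraMap R (Localization.AtPrime m) (x' i))) =
        fun i => (1 : IsLocalRing.ResidueField (Localization.AtPrime m))
          ⊗ₜ[Localization.AtPrime m]
          KaehlerDifferential.D k (Localization.AtPrime m)
            (algebraMap R (Localization.AtPrime m) (x i)) := by
      funext i; exact hw i
    rw [this]; exact hx
  -- the polynomial algebra structure
  let φ₀ : MvPolynomial (Fin d) k →ₐ[k] R := MvPolynomial.aeval x'
  letI algPR : Algebra (MvPolynomial (Fin d) k) R := φ₀.toRingHom.toAlgebra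
  haveI : IsScalarTower k (MvPolynomial (Fin d) k) R :=
    IsScalarTower.of_algebraMap_eq' φ₀.comp_algebraMap.symm
  have halgX : ∀ i, algebraMap (MvPolynomial (Fin d) k) R (MvPolynomial.X i) = x' i := by
    intro i
    rw [RingHom.algebraMap_toAlgebra]
    simp [φ₀]
  have hmb : Function.Bijective (KaehlerDifferential.mapBaseChange k (MvPolynomial (Fin d) k)
      (Localization.AtPrime m)) := by
    let b₁ : Module.Basis (Fin d) (Localization.AtPrime m)
        ((Localization.AtPrime m) ⊗[MvPolynomial (Fin d) k] Ω[MvPolynomial (Fin d) k⁄k]) :=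
      (KaehlerDifferential.mvPolynomialBasis k (Fin d)).baseChange (Localization.AtPrime m)
    have hb : ∀ i, KaehlerDifferential.mapBaseChange k (MvPolynomial (Fin d) k)
        (Localization.AtPrime m) (b₁ i) =
        KaehlerDifferential.D k (Localization.AtPrime m)
          (algebraMap R (Localization.AtPrime m) (x' i)) := by
      intro i
      simp only [b₁, Module.Basis.baseChange_apply, KaehlerDifferential.mvPolynomialBasis_apply,
        KaehlerDifferential.mapBaseChange_tmul, one_smul, KaehlerDifferential.map_D]
      rw [IsScalarTower.algebraMap_apply (MvPolynomial (Fin d) k) R (Localization.AtPrime m),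
        halgX]
    have heq : KaehlerDifferential.mapBaseChange k (MvPolynomial (Fin d) k)
        (Localization.AtPrime m) =
        (Finsupp.linearCombination (Localization.AtPrime m)
          (fun i => KaehlerDifferential.D k (Localization.AtPrime m)
            (algebraMap R (Localization.AtPrime m) (x' i)))) ∘ₗ b₁.repr.toLinearMap := by
      apply b₁.ext
      intro i
      simp [hb]
    rw [heq]
    exact hbij'.comp b₁.repr.bijective
  haveI hEt : Algebra.IsEtaleAt (MvPolynomial (Fin d) k) m :=
    ((Groth.Agent.S2789.result k (MvPolynomial (Fin d) k) R m).mpr ⟨inferInstance, hmb⟩).1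
  haveI : Algebra.FinitePresentation (MvPolynomial (Fin d) k) R :=
    Algebra.FinitePresentation.of_restrict_scalars_finitePresentation k _ _
  obtain ⟨g, hg, hE⟩ := Algebra.exists_etale_of_isEtaleAt (R := MvPolynomial (Fin d) k) m
  refine ⟨g, hg, IsScalarTower.toAlgHom k (MvPolynomial (Fin d) k) (Localization.Away g), ?_, ?_⟩
  · have : (IsScalarTower.toAlgHom k (MvPolynomial (Fin d) k) (Localization.Away g)).toRingHom =
        algebraMap _ _ := rfl
    rw [this, RingHom.etale_algebraMap]
    exact hE
  · intro y
    obtain ⟨z, rfl⟩ := Ideal.Quotient.mk_surjective y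
    obtain ⟨b, hb⟩ := surj_aux (A := Localization.Away g) m g hg z
    obtain ⟨q, a, hqa, hma⟩ : ∃ (q : MvPolynomial (Fin d) k) (a : R),
        algebraMap (MvPolynomial (Fin d) k) R q = a ∧
        Ideal.Quotient.mk m a = Ideal.Quotient.mk m b := by
      rcases hθ (Ideal.Quotient.mk m b) with h0 | ⟨j, hj⟩
      · exact ⟨0, 0, map_zero _, by rw [h0, map_zero]⟩
      · refine ⟨MvPolynomial.X i₀ ^ j, x' i₀ ^ j, ?_, ?_⟩
        · rw [map_pow, halgX]
        · rw [map_pow, hx'θ, hj]
    refine ⟨q, ?_⟩
    have hφq : (IsScalarTower.toAlgHom k (MvPolynomial (Fin d) k)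
        (Localization.Away g)).toRingHom q = algebraMap R (Localization.Away g) a := by
      rw [← hqa]
      exact IsScalarTower.algebraMap_apply (MvPolynomial (Fin d) k) R (Localization.Away g) q
    rw [RingHom.comp_apply, hφq, Ideal.Quotient.eq]
    have h4 : algebraMap R (Localization.Away g) a - algebraMap R (Localization.Away g) b ∈
        m.map (algebraMap R (Localization.Away g)) := by
      rw [← map_sub]
      exact Ideal.mem_map_of_mem _ (Ideal.Quotient.eq.mp hma)
    have h5 : algebraMap R (Localization.Away g) a - z =
        (algebraMap R (Localization.Away g) a - algebraMap R (Localization.Away g) b) -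
          (z - algebraMap R (Localization.Away g) b) := by ring
    rw [h5]
    exact Ideal.sub_mem _ h4 hb

end Groth.Agent.S17854
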