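import Groth.Statements.S17859
import Mathlib

set_option autoImplicit false
open CategoryTheory MonoidalCategory
universe u
open Algz

namespace Groth.Agent.S17859

open TensorProduct in
theorem dual_triangle_A {R : Type u} [CommRing R] {M : Type u} [AddCommGroup M] [Module R M]
    {n : ℕ} (e : Fin n → M) (ε : Fin n → Module.Dual R M)
    (h : ∀ m : M, ∑ i, ε i m • e i = m) :
    ((contractLeft R M).rTensor (Module.Dual R M) ∘ₗ
        (TensorProduct.assoc R (Module.Dual R M) M (Module.Dual R M)).symm.toLinearMap) ∘ₗ
          (LinearMap.toSpanSingleton R (M ⊗[R] Module.Dual R M)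
            (∑ i, e i ⊗ₜ[R] ε i)).lTensor (Module.Dual R M) =
      (TensorProduct.lid R (Module.Dual R M)).symm.toLinearMap ∘ₗ
        (TensorProduct.rid R (Module.Dual R M)).toLinearMap := by
  apply TensorProduct.ext'
  intro ε' r
  have hε' : ∑ i, ε' (e i) • ε i = ε' := by
    ext m
    rw [LinearMap.sum_apply]
    conv_rhs => rw [← h m, map_sum]
    refine Finset.sum_congr rfl fun i _ => ?_
    rw [LinearMap.smul_apply, map_smul, smul_eq_mul, smul_eq_mul, mul_comm]
  have key : ∀ i, ((contractLeft R M).rTensor (Module.Dual R M))
      ((TensorProduct.assoc R (Module.Dual R M) M (Module.Dual R M)).symm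
        (ε' ⊗ₜ[R] (e i ⊗ₜ[R] ε i))) = (1 : R) ⊗ₜ[R] (ε' (e i) • ε i) := by
    intro i
    rw [TensorProduct.assoc_symm_tmul, LinearMap.rTensor_tmul, contractLeft_apply,
      ← TensorProduct.smul_tmul, smul_eq_mul, mul_one]
  show ((contractLeft R M).rTensor (Module.Dual R M))
      ((TensorProduct.assoc R (Module.Dual R M) M (Module.Dual R M)).symm
        (((LinearMap.toSpanSingleton R (M ⊗[R] Module.Dual R M)
            (∑ i, e i ⊗ₜ[R] ε i)).lTensor (Module.Dual R M)) (ε' ⊗ₜ[R] r))) =
      (TensorProduct.lid R (Module.Dual R M)).symm
        ((TensorProduct.rid R (Module.Dual R M)) (ε' ⊗ₜ[R] r))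
  rw [LinearMap.lTensor_tmul, LinearMap.toSpanSingleton_apply, TensorProduct.tmul_smul,
    map_smul, map_smul, TensorProduct.tmul_sum, map_sum, map_sum]
  simp only [key]
  rw [← TensorProduct.tmul_sum, hε', TensorProduct.rid_tmul, TensorProduct.lid_symm_apply,
    TensorProduct.tmul_smul]

open TensorProduct in
theorem dual_triangle_B {R : Type u} [CommRing R] {M : Type u} [AddCommGroup M] [Module R M]
    {n : ℕ} (e : Fin n → M) (ε : Fin n → Module.Dual R M)
    (h : ∀ m : M, ∑ i, ε i m • e i = m) :
    ((contractLeft R M).lTensor M ∘ₗ
        (TensorProduct.assoc R M (Module.Dual R M) M).toLinearMap) ∘ₗ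
          (LinearMap.toSpanSingleton R (M ⊗[R] Module.Dual R M)
            (∑ i, e i ⊗ₜ[R] ε i)).rTensor M =
      (TensorProduct.rid R M).symm.toLinearMap ∘ₗ (TensorProduct.lid R M).toLinearMap := by
  apply TensorProduct.ext'
  intro r m
  have key : ∀ i, ((contractLeft R M).lTensor M)
      ((TensorProduct.assoc R M (Module.Dual R M) M) ((e i ⊗ₜ[R] ε i) ⊗ₜ[R] m)) =
        (ε i m • e i) ⊗ₜ[R] (1 : R) := by
    intro i
    rw [TensorProduct.assoc_tmul, LinearMap.lTensor_tmul, contractLeft_apply,
      TensorProduct.smul_tmul, smul_eq_mul, mul_one]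
  show ((contractLeft R M).lTensor M)
      ((TensorProduct.assoc R M (Module.Dual R M) M)
        (((LinearMap.toSpanSingleton R (M ⊗[R] Module.Dual R M)
            (∑ i, e i ⊗ₜ[R] ε i)).rTensor M) (r ⊗ₜ[R] m))) =
      (TensorProduct.rid R M).symm ((TensorProduct.lid R M) (r ⊗ₜ[R] m))
  rw [LinearMap.rTensor_tmul, LinearMap.toSpanSingleton_apply, ← TensorProduct.smul_tmul',
    map_smul, map_smul, TensorProduct.sum_tmul, map_sum, map_sum]
  simp only [key]
  rw [← TensorProduct.sum_tmul, h m, TensorProduct.lid_tmul, TensorProduct.rid_symm_apply,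
    TensorProduct.smul_tmul']

/-- Over an affine scheme, that is for modules over a commutative ring `R`, a finitely generated
projective `R`-module `M`, viewed as an object of the monoidal category of `R`-modules (tensor
product over `R`), has a right dual. (The published statement is the equivalence, for quasi-coherent
sheaves on a quasi-compact quasi-separated scheme, between being dualizable and being a vector
bundle; stated here is the affine case of the implication from vector bundle to dualizable. The
converse implication, that a module admitting a dual is finitely generated projective, is stated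
separately and is not repeated here.) -/
theorem result (R : Type u) [CommRing R] (M : ModuleCat.{u} R)
    [Module.Finite R M] [Module.Projective R M] : Nonempty (HasRightDual M) := by
  classical
  obtain ⟨n, f, hf⟩ := Module.Finite.exists_fin' R M
  obtain ⟨s, hs⟩ := Module.projective_lifting_property f LinearMap.id hf
  let e : Fin n → M := fun i => f (fun j => if i = j then 1 else 0)
  let ε : Fin n → Module.Dual R M := fun i => LinearMap.proj i ∘ₗ s
  have h : ∀ m : M, ∑ i, ε i m • e i = m := fun m =>
    (LinearMap.pi_apply_eq_sum_univ f (s m)).symm.trans (by rw [← LinearMap.comp_apply, hs]; rfl)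
  exact ⟨{ rightDual := ModuleCat.of R (Module.Dual R M)
           exact :=
            { coevaluation' := ModuleCat.ofHom
                (LinearMap.toSpanSingleton R (TensorProduct R M (Module.Dual R M))
                  (∑ i, TensorProduct.tmul R (e i) (ε i)))
              evaluation' := ModuleCat.ofHom (contractLeft R M)
              coevaluation_evaluation' := ModuleCat.hom_ext (dual_triangle_A e ε h)
              evaluation_coevaluation' := ModuleCat.hom_ext (dual_triangle_B e ε h) } }⟩

end Groth.Agent.S17859
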