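import Groth.Statements.S17863
import Mathlib

set_option autoImplicit false
open CategoryTheory AlgebraicGeometry
universe u
open Algz

namespace Groth.Agent.S17863

/-- Let `A` be a commutative ring which is `I`-adically complete for an ideal `I` and let `X` be a
quasi-affine scheme. Then the natural map from `X(A)` to compatible systems in the `X(A/I^n)` is
bijective: two morphisms `Spec A ⟶ X` with the same restriction to every `Spec (A/I^n)` are equal,
and every family of morphisms `Spec (A/I^n) ⟶ X` compatible with the transition maps `Spec (A/I^n) ⟶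
Spec (A/I^(n+1))` is the family of restrictions of a morphism `Spec A ⟶ X`. -/
theorem result (A : Type u) [CommRing A] (I : Ideal A) [IsAdicComplete I A]
    (X : Scheme.{u}) [X.IsQuasiAffine] :
    (∀ f g : Spec (CommRingCat.of A) ⟶ X,
      (∀ n : ℕ, Spec.map (CommRingCat.ofHom (Ideal.Quotient.mk (I ^ n))) ≫ f =
        Spec.map (CommRingCat.ofHom (Ideal.Quotient.mk (I ^ n))) ≫ g) → f = g) ∧
    (∀ e : ∀ n : ℕ, Spec (CommRingCat.of (A ⧸ I ^ n)) ⟶ X,
      (∀ n : ℕ, Spec.map (CommRingCat.ofHom (Ideal.Quotient.factorPowSucc I n)) ≫ e (n + 1) = e n) →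
      ∃ f : Spec (CommRingCat.of A) ⟶ X,
        ∀ n : ℕ, Spec.map (CommRingCat.ofHom (Ideal.Quotient.mk (I ^ n))) ≫ f = e n) := by
  haveI : IsOpenImmersion X.toSpecΓ := inferInstance
  haveI : Mono X.toSpecΓ := inferInstance
  constructor
  · intro f g hfg
    rw [← cancel_mono X.toSpecΓ]
    have hf : f ≫ X.toSpecΓ = Spec.map (Spec.preimage (f ≫ X.toSpecΓ)) := (Spec.map_preimage _).symm
    have hg : g ≫ X.toSpecΓ = Spec.map (Spec.preimage (g ≫ X.toSpecΓ)) := (Spec.map_preimage _).symm
    rw [hf, hg]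
    congr 1
    apply CommRingCat.hom_ext
    apply RingHom.ext
    intro x
    have key : ∀ n : ℕ, (Ideal.Quotient.mk (I ^ n)) ((Spec.preimage (f ≫ X.toSpecΓ)).hom x) =
        (Ideal.Quotient.mk (I ^ n)) ((Spec.preimage (g ≫ X.toSpecΓ)).hom x) := by
      intro n
      have h1 : Spec.map (CommRingCat.ofHom (Ideal.Quotient.mk (I ^ n))) ≫
            Spec.map (Spec.preimage (f ≫ X.toSpecΓ)) =
          Spec.map (CommRingCat.ofHom (Ideal.Quotient.mk (I ^ n))) ≫
            Spec.map (Spec.preimage (g ≫ X.toSpecΓ)) := by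
        rw [← hf, ← hg, ← Category.assoc, ← Category.assoc, hfg n]
      rw [← Spec.map_comp, ← Spec.map_comp] at h1
      have h2 := Spec.map_injective h1
      exact congrArg (fun φ => φ.hom x) h2
    rw [IsHausdorff.eq_iff_smodEq (I := I)]
    intro n
    rw [SModEq.sub_mem, smul_eq_mul, Ideal.mul_top]
    exact Ideal.Quotient.eq.mp (key n)
  · intro e he
    -- the ring maps of the `e n`
    let ψn : ∀ n : ℕ, Γ(X, ⊤) →+* A ⧸ I ^ n := fun n => (Spec.preimage (e n ≫ X.toSpecΓ)).hom
    have hψn : ∀ n : ℕ, Spec.map (CommRingCat.ofHom (ψn n)) = e n ≫ X.toSpecΓ := fun n =>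
      Spec.map_preimage _
    have hcompat : ∀ m : ℕ, (Ideal.Quotient.factorPowSucc I m).comp (ψn (m + 1)) = ψn m := by
      intro m
      have h1 : Spec.map (CommRingCat.ofHom (Ideal.Quotient.factorPowSucc I m)) ≫
          Spec.map (CommRingCat.ofHom (ψn (m + 1))) = Spec.map (CommRingCat.ofHom (ψn m)) := by
        rw [hψn, hψn, ← Category.assoc, he m]
      rw [← Spec.map_comp] at h1
      have h2 := Spec.map_injective h1
      exact congrArg CommRingCat.Hom.hom h2
    let ψ : Γ(X, ⊤) →+* A := IsAdicComplete.StrictMono.liftRingHom I strictMono_id ψn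
      (fun {m} => hcompat m)
    have hψ : ∀ n : ℕ, (Ideal.Quotient.mk (I ^ n)).comp ψ = ψn n := fun n =>
      IsAdicComplete.StrictMono.mk_comp_liftRingHom I strictMono_id ψn (fun {m} => hcompat m)
    let ψc : Γ(X, ⊤) ⟶ CommRingCat.of A := CommRingCat.ofHom ψ
    have hkey : ∀ n : ℕ, Spec.map (CommRingCat.ofHom (Ideal.Quotient.mk (I ^ n))) ≫ Spec.map ψc =
        e n ≫ X.toSpecΓ := by
      intro n
      rw [← Spec.map_comp, ← hψn n]
      congr 1
      apply CommRingCat.hom_ext
      exact hψ n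
    -- the range condition
    have hopen : IsOpen ((Spec.map ψc) ⁻¹' (Set.range X.toSpecΓ)) :=
      X.toSpecΓ.isOpenEmbedding.isOpen_range.preimage (Spec.map ψc).continuous
    have hrange : Set.range (Spec.map ψc) ⊆ Set.range X.toSpecΓ := by
      rintro _ ⟨x, rfl⟩
      obtain ⟨M, hM, hle⟩ := Ideal.exists_le_maximal x.asIdeal x.isPrime.ne_top
      let m : PrimeSpectrum A := ⟨M, hM.isPrime⟩
      have hspec : x ⤳ m := (PrimeSpectrum.le_iff_specializes x m).mp hle
      have hIM : I ≤ M := (IsAdicComplete.le_jacobson_bot I).trans (sInf_le ⟨bot_le, hM⟩)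
      have hmr : m ∈ Set.range (PrimeSpectrum.comap (Ideal.Quotient.mk (I ^ 1))) := by
        rw [range_comap_of_surjective _ _ Ideal.Quotient.mk_surjective,
          Ideal.mk_ker, pow_one]
        exact hIM
      obtain ⟨m', hm'⟩ := hmr
      have hm1 : (Spec.map ψc) m ∈ Set.range X.toSpecΓ := by
        have h3 : (Spec.map ψc) m = (e 1 ≫ X.toSpecΓ) m' := by
          rw [← hkey 1, Scheme.Hom.comp_apply]
          exact congrArg (Spec.map ψc) hm'.symm
        rw [h3, Scheme.Hom.comp_apply]
        exact ⟨_, rfl⟩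
      exact hspec.mem_open hopen hm1
    refine ⟨IsOpenImmersion.lift X.toSpecΓ (Spec.map ψc) hrange, fun n => ?_⟩
    rw [← cancel_mono X.toSpecΓ, Category.assoc, IsOpenImmersion.lift_fac]
    exact hkey n

end Groth.Agent.S17863
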