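import Groth.Statements.S17864
import Mathlib
import Groth.Agent.H15.AdicProj

set_option linter.style.haveILetI false

set_option autoImplicit false
universe u
open Algz

namespace Groth.Agent.S17864

/-- The full-faithfulness assertion. Let `A` be a commutative ring which is `I`-adically complete for an
ideal `I`, and `P`, `Q` finitely generated projective `A`-modules. An `A`-linear map `P → Q` is
determined by its reductions modulo the powers `I^n`, and every family of `A`-linear maps `P/I^n P →
Q/I^n Q` compatible with the transition maps is the family of reductions of an `A`-linear map `P →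
Q`. (The companion assertion, that compatible systems of finite projective modules over the rings
`A/I^n` lift to `A`, is not restated here.) -/
theorem result (A : Type u) [CommRing A] (I : Ideal A)
    [IsAdicComplete I A] (P Q : Type u) [AddCommGroup P] [Module A P] [Module.Finite A P]
    [Module.Projective A P] [AddCommGroup Q] [Module A Q] [Module.Finite A Q] [Module.Projective A Q] :
    (∀ f f' : P →ₗ[A] Q, (∀ n : ℕ, f.reduceModIdeal (I ^ n) = f'.reduceModIdeal (I ^ n)) → f = f') ∧
    (∀ g : ∀ n : ℕ, P ⧸ (I ^ n • ⊤ : Submodule A P) →ₗ[A] Q ⧸ (I ^ n • ⊤ : Submodule A Q),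
      (∀ n : ℕ, AdicCompletion.transitionMap I Q (Nat.le_succ n) ∘ₗ g (n + 1) =
        g n ∘ₗ AdicCompletion.transitionMap I P (Nat.le_succ n)) →
      ∃ f : P →ₗ[A] Q, ∀ n : ℕ, f.reduceModIdeal (I ^ n) = g n) := by
  haveI : IsAdicComplete I Q :=
    Groth.Agent.H15.AdicProj.isAdicComplete_of_finite_projective I Q
  constructor
  · intro f f' h
    apply DFunLike.coe_injective
    apply IsHausdorff.funext I
    intro n x
    exact LinearMap.congr_fun (h n) (Submodule.Quotient.mk x)
  · intro g hg
    have hy : ∀ (x : P) {m n : ℕ} (hle : m ≤ n),
        g m (Submodule.Quotient.mk x) =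
          Submodule.factorPow I Q hle (g n (Submodule.Quotient.mk x)) := by
      intro x m n hle
      exact Submodule.eq_factor_of_eq_factor_succ (p := fun n => (I ^ n • ⊤ : Submodule A Q))
        (fun a b hab => Submodule.pow_smul_top_le I Q hab)
        (fun n => g n (Submodule.Quotient.mk x))
        (fun m => by
          have := LinearMap.congr_fun (hg m) (Submodule.Quotient.mk x)
          exact this.symm) hle
    have hcompat : ∀ {m n : ℕ} (hle : m ≤ n),
        Submodule.factorPow I Q hle ∘ₗ (g n ∘ₗ Submodule.mkQ (I ^ n • ⊤ : Submodule A P)) =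
          g m ∘ₗ Submodule.mkQ (I ^ m • ⊤ : Submodule A P) := by
      intro m n hle
      ext x
      exact (hy x hle).symm
    let F : P →ₗ[A] Q := IsAdicComplete.lift I
      (fun n => g n ∘ₗ Submodule.mkQ (I ^ n • ⊤ : Submodule A P)) @hcompat
    refine ⟨F, fun n => ?_⟩
    ext y
    exact IsAdicComplete.mk_lift I @hcompat n y

end Groth.Agent.S17864
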