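import Groth.Statements.S17875
import Mathlib

set_option autoImplicit false
universe u
open Polynomial
open GRRSing

namespace Groth.Agent.S17875

/-- Let R be a commutative ℚ-algebra, r an element of R and δ a natural number with (r - 1) ^ (δ + 1) =
0. Write s(k, j) for the signed Stirling numbers of the first kind, the coefficients of x (x - 1) ⋯
(x - k + 1) = Σ_j s(k, j) x ^ j. Then (i) for every natural number n, r ^ n = Σ_{k ≤ δ} [n (n - 1) ⋯
(n - k + 1) / k!] (r - 1) ^ k; and (ii) in the polynomial ring R[x], Σ_{k ≤ δ} [x (x - 1) ⋯ (x - k +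
1) / k!] (r - 1) ^ k = Σ_{j ≤ δ} [Σ_{k ≤ δ} Σ_{u ≤ k} (-1) ^ (k - u) s(k, j) / (u! (k - u)!) · r ^
u] x ^ j. -/
theorem result {R : Type u} [CommRing R] [Algebra ℚ R]
    (r : R) (δ : ℕ) (hr : (r - 1) ^ (δ + 1) = 0) :
    (∀ n : ℕ, r ^ n = ∑ k ∈ Finset.range (δ + 1), ((descPochhammer ℚ k).eval (n : ℚ) / (k.factorial : ℚ)) • (r - 1) ^ k) ∧
    (∑ k ∈ Finset.range (δ + 1), ((k.factorial : ℚ)⁻¹ • (descPochhammer R k * Polynomial.C ((r - 1) ^ k))) =
      ∑ j ∈ Finset.range (δ + 1), Polynomial.C (∑ k ∈ Finset.range (δ + 1), ∑ u ∈ Finset.range (k + 1),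
        (((-1 : ℚ) ^ (k - u) * (((descPochhammer ℤ k).coeff j : ℤ) : ℚ)) / ((u.factorial * (k - u).factorial : ℕ) : ℚ)) • r ^ u) * Polynomial.X ^ j) := by
  constructor
  · intro n
    have h1 : r ^ n = ∑ k ∈ Finset.range (n + 1), (n.choose k : ℚ) • (r - 1) ^ k := by
      conv_lhs => rw [show r = (r - 1) + 1 by ring]
      rw [add_pow]
      refine Finset.sum_congr rfl fun k _ => ?_
      rw [Nat.cast_smul_eq_nsmul, nsmul_eq_mul, one_pow, mul_one, mul_comm]
    have h2 : ∀ k : ℕ, (descPochhammer ℚ k).eval (n : ℚ) / (k.factorial : ℚ) = (n.choose k : ℚ) := by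
      intro k
      rw [descPochhammer_eval_eq_descFactorial, Nat.descFactorial_eq_factorial_mul_choose,
        Nat.cast_mul]
      have : (k.factorial : ℚ) ≠ 0 := by exact_mod_cast k.factorial_ne_zero
      field_simp
    simp_rw [h2]
    rw [h1]
    have e1 : ∑ k ∈ Finset.range (n + 1), (n.choose k : ℚ) • (r - 1) ^ k
        = ∑ k ∈ Finset.range (n + 1 + (δ + 1)), (n.choose k : ℚ) • (r - 1) ^ k := by
      refine Finset.sum_subset (Finset.range_subset_range.2 (by omega)) fun k _ hk => ?_
      have : n < k := by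
        rw [Finset.mem_range] at hk; omega
      rw [Nat.choose_eq_zero_of_lt this]; simp
    have e2 : ∑ k ∈ Finset.range (δ + 1), (n.choose k : ℚ) • (r - 1) ^ k
        = ∑ k ∈ Finset.range (n + 1 + (δ + 1)), (n.choose k : ℚ) • (r - 1) ^ k := by
      refine Finset.sum_subset (Finset.range_subset_range.2 (by omega)) fun k _ hk => ?_
      have : δ + 1 ≤ k := by
        rw [Finset.mem_range] at hk; omega
      rw [pow_eq_zero_of_le this hr, smul_zero]
    rw [e1, e2]
  · have key : ∀ (k u : ℕ) (s : ℤ), u ≤ k →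
        ((k.factorial : ℚ)⁻¹) • ((s : R) * (r ^ u * (-1) ^ (k - u) * (k.choose u : R))) =
        (((-1 : ℚ) ^ (k - u) * (s : ℚ)) / ((u.factorial * (k - u).factorial : ℕ) : ℚ)) • r ^ u := by
      intro k u s huk
      have hq : ((k.factorial : ℚ)⁻¹) * (s : ℚ) * (-1) ^ (k - u) * (k.choose u : ℚ) =
          ((-1 : ℚ) ^ (k - u) * (s : ℚ)) / ((u.factorial * (k - u).factorial : ℕ) : ℚ) := by
        have h := Nat.choose_mul_factorial_mul_factorial huk
        have h' : (k.choose u : ℚ) * u.factorial * (k - u).factorial = k.factorial := by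
          exact_mod_cast h
        have hk : (k.factorial : ℚ) ≠ 0 := by exact_mod_cast k.factorial_ne_zero
        have hu : (u.factorial : ℚ) ≠ 0 := by exact_mod_cast u.factorial_ne_zero
        have hku : ((k-u).factorial : ℚ) ≠ 0 := by exact_mod_cast (k-u).factorial_ne_zero
        have hc : (k.choose u : ℚ) ≠ 0 := by exact_mod_cast (Nat.choose_pos huk).ne'
        push_cast
        rw [← h']
        field_simp
      rw [← hq, Algebra.smul_def, Algebra.smul_def]
      simp only [map_mul, map_pow, map_neg, map_one, map_intCast, map_natCast]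
      ring
    have hcoeff : ∀ k m : ℕ,
        (descPochhammer R k).coeff m = (((descPochhammer ℤ k).coeff m : ℤ) : R) := by
      intro k m
      rw [← descPochhammer_map (Int.castRingHom R) k, Polynomial.coeff_map]; rfl
    ext m
    simp only [Polynomial.finsetSum_coeff, Polynomial.coeff_smul, Polynomial.coeff_mul_C,
      Polynomial.coeff_C_mul, Polynomial.coeff_X_pow, mul_ite, mul_one, mul_zero]
    rw [Finset.sum_ite_eq]
    split_ifs with hm
    · refine Finset.sum_congr rfl fun k _ => ?_
      rw [hcoeff, show r - 1 = r + (-1) by ring, add_pow, Finset.mul_sum, Finset.smul_sum]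
      refine Finset.sum_congr rfl fun u hu => ?_
      exact key k u _ (by rw [Finset.mem_range] at hu; omega)
    · refine Finset.sum_eq_zero fun k hk => ?_
      have : (descPochhammer ℤ k).coeff m = 0 := by
        apply Polynomial.coeff_eq_zero_of_natDegree_lt
        rw [descPochhammer_natDegree]
        rw [Finset.mem_range] at hk hm; omega
      rw [hcoeff, this, Int.cast_zero, zero_mul, smul_zero]

end Groth.Agent.S17875
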