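import Groth.Statements.S17878
import Mathlib

set_option autoImplicit false
universe u
open Filter Topology
open GRRSing

namespace Groth.Agent.S17878

/-- The scalar series `Σ k^n y^k`. -/
noncomputable def aS (n : ℕ) (y : ℂ) : ℂ := ∑' k : ℕ, (k : ℂ) ^ n * y ^ k

theorem aS_summable (n : ℕ) {y : ℂ} (hy : ‖y‖ < 1) :
    Summable (fun k : ℕ => (k : ℂ) ^ n * y ^ k) :=
  summable_pow_mul_geometric_of_norm_lt_one n hy

theorem aS_rec (n : ℕ) {y : ℂ} (hy : ‖y‖ < 1) :
    aS n y = (if n = 0 then 1 else 0) +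
      y * ∑ j ∈ Finset.range (n + 1), (n.choose j : ℂ) * aS j y := by
  have hs : ∀ j, Summable (fun k : ℕ => (k : ℂ) ^ j * y ^ k) := fun j => aS_summable j hy
  unfold aS
  rw [(hs n).tsum_eq_zero_add]
  congr 1
  · simp [zero_pow_eq]
  · have h : ∀ k : ℕ, ((k + 1 : ℕ) : ℂ) ^ n * y ^ (k + 1) =
        y * ∑ j ∈ Finset.range (n + 1), (n.choose j : ℂ) * ((k : ℂ) ^ j * y ^ k) := by
      intro k
      rw [Nat.cast_succ, add_pow, Finset.mul_sum, Finset.sum_mul]
      refine Finset.sum_congr rfl fun j _ => ?_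
      rw [one_pow, pow_succ]; ring
    simp_rw [h]
    rw [tsum_mul_left]
    congr 1
    rw [Summable.tsum_finsetSum]
    · refine Finset.sum_congr rfl fun j _ => ?_
      rw [tsum_mul_left]
    · intro j _
      exact (hs j).mul_left _

theorem euler_rec (E : ℕ → ℚ)
    (hE : PowerSeries.mk (fun j => E j / (j.factorial : ℚ)) * (PowerSeries.exp ℚ + 1) = 2)
    (n : ℕ) :
    (∑ i ∈ Finset.range (n + 1), (n.choose i : ℚ) * E i) + E n = if n = 0 then 2 else 0 := by
  have h := congrArg (PowerSeries.coeff n) hE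
  rw [mul_add, mul_one, map_add, PowerSeries.coeff_mul, PowerSeries.coeff_mk,
    Finset.Nat.sum_antidiagonal_eq_sum_range_succ_mk] at h
  simp only [PowerSeries.coeff_mk, PowerSeries.coeff_exp, Algebra.algebraMap_self,
    RingHom.id_apply] at h
  have h2 : PowerSeries.coeff n (2 : PowerSeries ℚ) = if n = 0 then 2 else 0 := by
    rw [← map_ofNat (PowerSeries.C (R := ℚ)) 2, PowerSeries.coeff_C]
  rw [h2] at h
  have hn : ((n.factorial : ℕ) : ℚ) ≠ 0 := by positivity
  have h3 : ∀ i ∈ Finset.range (n + 1), (n.choose i : ℚ) * E i =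
      (n.factorial : ℚ) * (E i / (i.factorial : ℚ) * (1 / ((n - i).factorial : ℚ))) := by
    intro i hi
    have hi' : i ≤ n := Nat.lt_succ_iff.1 (Finset.mem_range.1 hi)
    have hc : (n.choose i : ℚ) * (i.factorial : ℚ) * ((n - i).factorial : ℚ) = (n.factorial : ℚ) := by
      exact_mod_cast Nat.choose_mul_factorial_mul_factorial hi'
    have h1 : ((i.factorial : ℕ) : ℚ) ≠ 0 := by positivity
    have h2 : (((n - i).factorial : ℕ) : ℚ) ≠ 0 := by positivity
    rw [← hc]; field_simp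
  rw [Finset.sum_congr rfl h3, ← Finset.mul_sum]
  have h4 : E n = (n.factorial : ℚ) * (E n / (n.factorial : ℚ)) := by field_simp
  calc (n.factorial : ℚ) * ∑ i ∈ Finset.range (n + 1),
          E i / (i.factorial : ℚ) * (1 / ((n - i).factorial : ℚ)) + E n
      = (n.factorial : ℚ) * (∑ i ∈ Finset.range (n + 1),
          E i / (i.factorial : ℚ) * (1 / ((n - i).factorial : ℚ)) + E n / (n.factorial : ℚ)) := by
        rw [mul_add, ← h4]
    _ = (n.factorial : ℚ) * (if n = 0 then 2 else 0) := by rw [h]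
    _ = if n = 0 then 2 else 0 := by
        split_ifs with h0
        · subst h0; simp
        · simp

theorem aS_tendsto (E : ℕ → ℚ)
    (hE : PowerSeries.mk (fun j => E j / (j.factorial : ℚ)) * (PowerSeries.exp ℚ + 1) = 2)
    (n : ℕ) :
    Tendsto (fun y : ℝ => aS n (y : ℂ)) (𝓝[Set.Ioo (-1 : ℝ) 1] (-1 : ℝ))
      (𝓝 (((E n : ℚ) : ℂ) / 2)) := by
  induction n using Nat.strong_induction_on with
  | _ n ih =>
    have hy : Tendsto (fun y : ℝ => (y : ℂ)) (𝓝[Set.Ioo (-1 : ℝ) 1] (-1 : ℝ))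
        (𝓝 (((-1 : ℝ)) : ℂ)) :=
      (Complex.continuous_ofReal.tendsto _).mono_left nhdsWithin_le_nhds
    have hnum : Tendsto (fun y : ℝ => ((if n = 0 then 1 else 0 : ℂ) +
        (y : ℂ) * ∑ j ∈ Finset.range n, (n.choose j : ℂ) * aS j (y : ℂ)))
        (𝓝[Set.Ioo (-1 : ℝ) 1] (-1 : ℝ))
        (𝓝 ((if n = 0 then 1 else 0 : ℂ) + (((-1 : ℝ)) : ℂ) *
          ∑ j ∈ Finset.range n, (n.choose j : ℂ) * (((E j : ℚ) : ℂ) / 2))) := by
      refine tendsto_const_nhds.add (hy.mul ?_)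
      refine tendsto_finsetSum _ fun j hj => ?_
      exact tendsto_const_nhds.mul (ih j (Finset.mem_range.1 hj))
    have hden : Tendsto (fun y : ℝ => (1 : ℂ) - (y : ℂ)) (𝓝[Set.Ioo (-1 : ℝ) 1] (-1 : ℝ))
        (𝓝 ((1 : ℂ) - (((-1 : ℝ)) : ℂ))) := tendsto_const_nhds.sub hy
    have hden0 : (1 : ℂ) - (((-1 : ℝ)) : ℂ) ≠ 0 := by
      push_cast; norm_num
    have hdiv := hnum.div hden hden0
    have hA := euler_rec E hE n
    rw [Finset.sum_range_succ, Nat.choose_self, Nat.cast_one, one_mul] at hA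
    have hA' : (∑ j ∈ Finset.range n, (n.choose j : ℂ) * ((E j : ℚ) : ℂ)) + ((E n : ℚ) : ℂ)
        + ((E n : ℚ) : ℂ) = if n = 0 then 2 else 0 := by
      have : ((∑ x ∈ Finset.range n, (n.choose x : ℚ) * E x + E n + E n : ℚ) : ℂ) =
          ((if n = 0 then 2 else 0 : ℚ) : ℂ) := by rw [hA]
      push_cast at this
      rw [this]
      split_ifs <;> simp
    have hval : ((if n = 0 then 1 else 0 : ℂ) + (((-1 : ℝ)) : ℂ) *
          ∑ j ∈ Finset.range n, (n.choose j : ℂ) * (((E j : ℚ) : ℂ) / 2)) /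
          ((1 : ℂ) - (((-1 : ℝ)) : ℂ)) = ((E n : ℚ) : ℂ) / 2 := by
      have hS : ∑ j ∈ Finset.range n, (n.choose j : ℂ) * (((E j : ℚ) : ℂ) / 2) =
          (∑ j ∈ Finset.range n, (n.choose j : ℂ) * ((E j : ℚ) : ℂ)) / 2 := by
        rw [Finset.sum_div]
        refine Finset.sum_congr rfl fun j _ => ?_
        ring
      rw [hS]
      have hS2 : (∑ j ∈ Finset.range n, (n.choose j : ℂ) * ((E j : ℚ) : ℂ)) =
          (if n = 0 then 2 else 0 : ℂ) - 2 * ((E n : ℚ) : ℂ) := by
        rw [← hA']; ring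
      rw [hS2]
      push_cast
      split_ifs <;> ring
    rw [hval] at hdiv
    refine Tendsto.congr' ?_ hdiv
    filter_upwards [self_mem_nhdsWithin] with y hyI
    have hy1 : ‖(y : ℂ)‖ < 1 := by
      rw [Complex.norm_real, Real.norm_eq_abs, abs_lt]
      exact ⟨hyI.1, hyI.2⟩
    have hne : (1 : ℂ) - (y : ℂ) ≠ 0 := by
      intro h0
      have : (y : ℂ) = 1 := (sub_eq_zero.1 h0).symm
      have : y = 1 := by exact_mod_cast this
      linarith [hyI.2]
    have hrec := aS_rec n hy1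
    rw [Finset.sum_range_succ, Nat.choose_self, Nat.cast_one, one_mul] at hrec
    show _ / _ = aS n (y : ℂ)
    rw [div_eq_iff hne]
    linear_combination -hrec


/-- Let T be a nonzero commutative normed ℂ-algebra such that the map ℂ → T/nilradical(T) is surjective,
let P = Σ_j d_j x ^ j be a polynomial over T and put h_k = P(k). Let E_0, E_1, … be the rational
numbers with 2/(e^t + 1) = Σ_j E_j t ^ j / j! (so E_0 = 1, E_1 = -1/2). Then for every complex y
with |y| < 1 the series Σ_k h_k y ^ k converges in T, and as y → -1 along real y in (-1, 1) its sum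
tends to (1/2) Σ_j E_j d_j. (The published statement allows any norm topology on T as a complex
vector space; this row takes T a normed ℂ-algebra.) -/
theorem result {T : Type u} [NormedCommRing T] [NormedAlgebra ℂ T] [Nontrivial T]
    (hT : Function.Surjective (algebraMap ℂ (T ⧸ nilradical T)))
    (E : ℕ → ℚ) (hE : PowerSeries.mk (fun j => E j / (j.factorial : ℚ)) * (PowerSeries.exp ℚ + 1) = 2)
    (P : Polynomial T) :
    (∀ y : ℂ, ‖y‖ < 1 → Summable (fun k : ℕ => y ^ k • P.eval (k : T))) ∧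
    Tendsto (fun y : ℝ => ∑' k : ℕ, ((y : ℂ) ^ k) • P.eval (k : T)) (𝓝[Set.Ioo (-1 : ℝ) 1] (-1 : ℝ))
      (𝓝 ((2 : ℂ)⁻¹ • ∑ j ∈ Finset.range (P.natDegree + 1), ((E j : ℚ) : ℂ) • P.coeff j)) := by
  have key : ∀ (y : ℂ) (k : ℕ), y ^ k • P.eval (k : T) =
      ∑ j ∈ Finset.range (P.natDegree + 1), ((k : ℂ) ^ j * y ^ k) • P.coeff j := by
    intro y k
    rw [Polynomial.eval_eq_sum_range, Finset.smul_sum]
    refine Finset.sum_congr rfl fun j _ => ?_
    have h1 : ((k : T)) ^ j = algebraMap ℂ T ((k : ℂ) ^ j) := by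
      rw [map_pow, map_natCast]
    rw [h1, ← Algebra.commutes, ← Algebra.smul_def, smul_smul, mul_comm]
  have hsum : ∀ (y : ℂ), ‖y‖ < 1 → ∀ j ∈ Finset.range (P.natDegree + 1),
      Summable (fun k : ℕ => ((k : ℂ) ^ j * y ^ k) • P.coeff j) := fun y hy j _ =>
    (aS_summable j hy).smul_const _
  refine ⟨fun y hy => ?_, ?_⟩
  · exact (summable_congr (key y)).2 (summable_sum (hsum y hy))
  · have htsum : ∀ y : ℂ, ‖y‖ < 1 → ∑' k : ℕ, y ^ k • P.eval (k : T) =
        ∑ j ∈ Finset.range (P.natDegree + 1), aS j y • P.coeff j := by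
      intro y hy
      rw [tsum_congr (key y), Summable.tsum_finsetSum (hsum y hy)]
      refine Finset.sum_congr rfl fun j _ => ?_
      exact (aS_summable j hy).tsum_smul_const _
    have hlim : Tendsto (fun y : ℝ => ∑ j ∈ Finset.range (P.natDegree + 1),
        aS j (y : ℂ) • P.coeff j) (𝓝[Set.Ioo (-1 : ℝ) 1] (-1 : ℝ))
        (𝓝 ((2 : ℂ)⁻¹ • ∑ j ∈ Finset.range (P.natDegree + 1), ((E j : ℚ) : ℂ) • P.coeff j)) := by
      rw [Finset.smul_sum]
      refine tendsto_finsetSum _ fun j _ => ?_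
      have := (aS_tendsto E hE j).smul_const (P.coeff j)
      convert this using 2
      rw [smul_smul]
      congr 1
      ring
    refine Tendsto.congr' ?_ hlim
    filter_upwards [self_mem_nhdsWithin] with y hyI
    have hy1 : ‖(y : ℂ)‖ < 1 := by
      rw [Complex.norm_real, Real.norm_eq_abs, abs_lt]
      exact ⟨hyI.1, hyI.2⟩
    exact (htsum _ hy1).symm

end Groth.Agent.S17878
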