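import Groth.Statements.S17882
import Mathlib

set_option autoImplicit false
universe u
open CAlg

namespace Groth.Agent.S17882

/-- Let B be a commutative ring, r ≥ 1, N a finitely generated submodule of B^r, and n_1, …, n_r ∈ N.
Suppose the determinant of the matrix with rows n_1, …, n_r is a nonzerodivisor of B and that the
determinant of every matrix whose rows lie in N is a multiple of it (the image of the top exterior
power of N in that of B^r ≅ B is the principal ideal generated by n_1 ∧ ⋯ ∧ n_r, a nonzerodivisor).
Then n_1, …, n_r are linearly independent over B and span N: N is free of rank r with this basis. -/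
theorem result (B : Type u) [CommRing B] (r : ℕ) (hr : 0 < r)
    (N : Submodule B (Fin r → B)) (hN : N.FG) (n : Fin r → (Fin r → B)) (hn : ∀ i, n i ∈ N)
    (hgen : ∀ m : Fin r → (Fin r → B), (∀ i, m i ∈ N) →
      Matrix.det (Matrix.of m) ∈ Ideal.span {Matrix.det (Matrix.of n)})
    (hnzd : Matrix.det (Matrix.of n) ∈ nonZeroDivisors B) :
    LinearIndependent B n ∧ Submodule.span B (Set.range n) = N := by
  classical
  set M : Matrix (Fin r) (Fin r) B := Matrix.of n with hM
  set d := M.det with hd
  have k1 : ∀ v : Fin r → B, Matrix.vecMul (Matrix.vecMul v M) M.adjugate = d • v := by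
    intro v
    rw [Matrix.vecMul_vecMul, Matrix.mul_adjugate, Matrix.vecMul_smul, Matrix.vecMul_one]
  have k2 : ∀ v : Fin r → B, Matrix.vecMul (Matrix.vecMul v M.adjugate) M = d • v := by
    intro v
    rw [Matrix.vecMul_vecMul, Matrix.adjugate_mul, Matrix.vecMul_smul, Matrix.vecMul_one]
  have hsum : ∀ c : Fin r → B, ∑ i, c i • n i = Matrix.vecMul c M := by
    intro c; rw [Matrix.vecMul_eq_sum]; rfl
  have hcancel : ∀ v w : Fin r → B, d • v = d • w → v = w := by
    intro v w h
    funext j
    have := congrFun h j
    simp only [Pi.smul_apply, smul_eq_mul] at this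
    exact (mul_cancel_left_mem_nonZeroDivisors hnzd).mp this
  constructor
  · rw [Fintype.linearIndependent_iff]
    intro c hc
    rw [hsum] at hc
    have := k1 c
    rw [hc, Matrix.zero_vecMul] at this
    have h0 : c = 0 := hcancel c 0 (by rw [← this, smul_zero])
    intro i; rw [h0]; rfl
  · apply le_antisymm
    · rw [Submodule.span_le]
      rintro _ ⟨i, rfl⟩
      exact hn i
    · intro x hx
      have ha : ∀ i, ∃ a : B, a * d = (M.updateRow i x).det := by
        intro i
        have := hgen (Function.update n i x) (by
          intro k
          by_cases hk : k = i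
          · subst hk; rw [Function.update_self]; exact hx
          · rw [Function.update_of_ne hk]; exact hn k)
        rw [Ideal.mem_span_singleton'] at this
        obtain ⟨a, ha⟩ := this
        refine ⟨a, ?_⟩
        rw [ha]
        congr 1
      choose a ha using ha
      have hx' : x = ∑ i, a i • n i := by
        apply hcancel
        rw [hsum, ← Matrix.smul_vecMul, ← k2 x]
        congr 1
        funext i
        rw [Pi.smul_apply, smul_eq_mul, mul_comm, ha i, ← Matrix.cramer_transpose_apply,
          Matrix.cramer_eq_adjugate_mulVec, ← Matrix.adjugate_transpose, Matrix.mulVec_transpose]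
      rw [hx']
      exact Submodule.sum_mem _ (fun i _ => Submodule.smul_mem _ _ (Submodule.subset_span ⟨i, rfl⟩))

end Groth.Agent.S17882
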