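import Groth.Statements.S17886
import Mathlib
import Groth.Agent.S1437
import Groth.Agent.S2127
import Groth.Agent.S3584
import Groth.Agent.H28.ParaFLocal

set_option autoImplicit false
universe u
open CategoryTheory AlgebraicGeometry
open FlatMor

namespace Groth.Agent.S17886

section Helpers
open CategoryTheory CategoryTheory.Limits AlgebraicGeometry TopologicalSpace

lemma dense_affine_nhd17886 (X : Scheme.{u}) [IsNoetherian X] (x : X) :
    ∃ U : X.Opens, IsAffineOpen U ∧ x ∈ U ∧ Dense (U : Set X) := by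
  classical
  have hfin : (irreducibleComponents X).Finite :=
    TopologicalSpace.NoetherianSpace.finite_irreducibleComponents
  haveI : Fintype ↥(irreducibleComponents X) := hfin.fintype
  have hgen : ∀ C : ↥(irreducibleComponents X), ∃ η : X, IsGenericPoint η (C : Set X) :=
    fun C => QuasiSober.sober C.2.1 (isClosed_of_mem_irreducibleComponents _ C.2)
  choose η hη using hgen
  obtain ⟨O, hOdef⟩ : ∃ O : ↥(irreducibleComponents X) → Set X, ∀ C, O C =
      (⋃ C' ∈ (irreducibleComponents X \ {C.1}), C')ᶜ := ⟨_, fun _ => rfl⟩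
  have hO_open : ∀ C, IsOpen (O C) := by
    intro C
    rw [hOdef]
    exact ((hfin.subset Set.diff_subset).isClosed_biUnion fun C' hC' =>
      isClosed_of_mem_irreducibleComponents C' hC'.1).isOpen_compl
  have hO_mem : ∀ (C : ↥(irreducibleComponents X)) (x : X), x ∈ O C ↔
      ∀ C' ∈ irreducibleComponents X, C' ≠ C.1 → x ∉ C' := by
    intro C x
    rw [hOdef]
    constructor
    · intro h C' hC' hne hx
      exact h (Set.mem_biUnion (⟨hC', hne⟩ : C' ∈ irreducibleComponents X \ {C.1}) hx)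
    · intro h hx
      obtain ⟨C', hC', hxC'⟩ := Set.mem_iUnion₂.mp hx
      exact h C' hC'.1 hC'.2 hxC'
  have hη_O : ∀ C, η C ∈ O C := by
    intro C
    rw [hO_mem]
    intro C' hC' hne hx
    have hsub : C.1 ⊆ C' := by
      rw [← (hη C).def]
      exact closure_minimal (Set.singleton_subset_iff.mpr hx)
        (isClosed_of_mem_irreducibleComponents C' hC')
    exact hne (Set.Subset.antisymm (C.2.2 hC'.1 hsub) hsub)
  have hO_sub : ∀ (C : ↥(irreducibleComponents X)) (x : X), x ∈ O C → x ∈ C.1 := by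
    intro C x hx
    have hx' : x ∈ ⋃₀ irreducibleComponents X := by
      rw [sUnion_irreducibleComponents]; trivial
    obtain ⟨C'', hC'', hx''⟩ := Set.mem_sUnion.mp hx'
    by_cases h : C'' = C.1
    · rw [← h]; exact hx''
    · exact absurd hx'' ((hO_mem C x).mp hx C'' hC'' h)
  have hO_disj : ∀ C C' : ↥(irreducibleComponents X), C ≠ C' → ∀ x, x ∈ O C → x ∉ C'.1 := by
    intro C C' hne x hx
    exact (hO_mem C x).mp hx C'.1 C'.2 (fun h => hne (Subtype.ext h).symm)
  obtain ⟨V₀, hV₀aff, hxV₀, -⟩ := exists_isAffineOpen_mem_and_subset (X := X) (x := x)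
    (U := ⊤) trivial
  have hW : ∀ C : ↥(irreducibleComponents X), ∃ W : X.Opens, IsAffineOpen W ∧ η C ∈ W ∧
      (∀ y, y ∈ W → y ∈ O C) := by
    intro C
    have hmem : η C ∈ (⟨O C, hO_open C⟩ : X.Opens) := hη_O C
    obtain ⟨W, hWaff, hηW, hWsub⟩ := exists_isAffineOpen_mem_and_subset hmem
    exact ⟨W, hWaff, hηW, fun y hy => hWsub hy⟩
  choose W hWaff hηW hWO using hW
  have hdisj : ∀ C C' : ↥(irreducibleComponents X), C ≠ C' → Disjoint (W C) (W C') := by
    intro C C' hne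
    rw [disjoint_iff]
    ext y
    refine iff_of_false ?_ (by simp)
    rintro ⟨h1, h2⟩
    exact hO_disj C C' hne y (hWO C y h1) (hO_sub C' y (hWO C' y h2))
  obtain ⟨T, hTdef⟩ : ∃ T : Finset ↥(irreducibleComponents X),
      T = Finset.univ.filter (fun C => η C ∉ V₀) := ⟨_, rfl⟩
  have hV₀W : ∀ C ∈ T, Disjoint V₀ (W C) := by
    intro C hC
    have hηC : η C ∉ V₀ := by
      rw [hTdef] at hC; exact (Finset.mem_filter.mp hC).2
    rw [disjoint_iff]
    ext y
    refine iff_of_false ?_ (by simp)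
    rintro ⟨h1, h2⟩
    exact hηC (((hη C).mem_open_set_iff V₀.isOpen).mpr ⟨y, hO_sub C y (hWO C y h2), h1⟩)
  refine ⟨V₀ ⊔ T.sup W, ?_, Opens.mem_sup.mpr (Or.inl hxV₀), ?_⟩
  · exact Groth.Agent.S1437.affine_sup1437 V₀ (T.sup W) hV₀aff
      (Groth.Agent.S1437.affine_finset_sup1437 W T (fun C _ => hWaff C)
        (fun C _ C' _ hne => hdisj C C' hne))
      (Finset.disjoint_sup_right.mpr fun C hC => hV₀W C hC)
  · rw [dense_iff_inter_open]
    intro N hN hNne
    obtain ⟨y, hy⟩ := hNne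
    have hy' : y ∈ ⋃₀ irreducibleComponents X := by
      rw [sUnion_irreducibleComponents]; trivial
    obtain ⟨C, hC, hyC⟩ := Set.mem_sUnion.mp hy'
    have hηN : η ⟨C, hC⟩ ∈ N := ((hη ⟨C, hC⟩).mem_open_set_iff hN).mpr ⟨y, hyC, hy⟩
    refine ⟨η ⟨C, hC⟩, hηN, ?_⟩
    by_cases h : η ⟨C, hC⟩ ∈ V₀
    · exact Opens.mem_sup.mpr (Or.inl h)
    · refine Opens.mem_sup.mpr (Or.inr ?_)
      refine (Groth.Agent.S1437.mem_finset_sup1437 W T _).mpr ⟨⟨C, hC⟩, ?_, hηW _⟩
      rw [hTdef]; exact Finset.mem_filter.mpr ⟨Finset.mem_univ _, h⟩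

lemma qproj17886 {X S : Scheme.{u}} (f : X ⟶ S) [LocallyOfFiniteType f] [QuasiCompact f]
    [IsLocallyNoetherian X] (U : X.Opens) (hU : IsAffineOpen U) :
    RelProj.IsQuasiProjective (U.ι ≫ f) := by
  haveI : IsAffine U.toScheme := hU
  refine ⟨inferInstance, inferInstance, Coh.structureModule U.toScheme, inferInstance,
    fun V => ?_⟩
  have hcpt : IsCompact (((U.ι ≫ f) ⁻¹ᵁ V.1 : U.toScheme.Opens) : Set U.toScheme) :=
    QuasiCompact.isCompact_preimage (f := U.ι ≫ f) _ V.1.isOpen V.2.isCompact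
  haveI hcs : CompactSpace ((U.ι ≫ f) ⁻¹ᵁ V.1).toScheme := isCompact_iff_compactSpace.mp hcpt
  haveI : ((U.ι ≫ f) ⁻¹ᵁ V.1).toScheme.IsQuasiAffine :=
    Scheme.IsQuasiAffine.of_isImmersion ((U.ι ≫ f) ⁻¹ᵁ V.1).ι
  have hM : PicF.IsInvertible
      ((Coh.structureModule U.toScheme).restrict ((U.ι ≫ f) ⁻¹ᵁ V.1).ι) :=
    Groth.Agent.H28.ParaFAux.isInvertible_restrict _ _
      (Groth.Agent.H28.ParaFLocal.isInvertible_unit _)
  refine ⟨hM, hcs, fun x => ?_⟩
  have hM1 : PicF.IsInvertible (CohB1.tensorPow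
      ((Coh.structureModule U.toScheme).restrict ((U.ι ≫ f) ⁻¹ᵁ V.1).ι) 1) :=
    Groth.Agent.H28.ParaFAux.isInvertible_of_iso (Groth.Agent.S3584.e1 _).symm hM
  obtain ⟨s, hs1, hs2, -⟩ := Groth.Agent.S2127.result _ hM1 ⊤ {x} (Set.finite_singleton x)
    (fun _ _ => trivial)
  exact ⟨0, s, hs2 (Set.mem_singleton x), hs1⟩

end Helpers

/-- Let S be a Noetherian scheme and f : X → S separated and of finite type. Then X is covered by
finitely many affine opens U_1, …, U_n each of which is dense in X and quasi-projective over S (of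
finite type with a relatively ample invertible module). -/
theorem result {S X : Scheme.{u}} (f : X ⟶ S)
    [IsNoetherian S] [IsSeparated f] [QuasiCompact f] [LocallyOfFiniteType f] :
    ∃ (n : ℕ) (U : Fin n → X.Opens), (⨆ i, U i) = ⊤ ∧
      ∀ i, IsAffineOpen (U i) ∧ Dense ((U i : Set X)) ∧ RelProj.IsQuasiProjective ((U i).ι ≫ f) := by
  classical
  haveI : IsLocallyNoetherian X := LocallyOfFiniteType.isLocallyNoetherian f
  haveI : CompactSpace X := QuasiCompact.compactSpace_of_compactSpace f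
  haveI : IsNoetherian X := {}
  choose Ux haff hx hdense using dense_affine_nhd17886 X
  obtain ⟨t, ht⟩ := isCompact_univ.elim_finite_subcover
    (fun x : X => ((Ux x : X.Opens) : Set X))
    (fun x => (Ux x).isOpen) (fun y _ => Set.mem_iUnion.mpr ⟨y, hx y⟩)
  refine ⟨t.card, fun i => Ux (t.equivFin.symm i).1, ?_,
    fun i => ⟨haff _, hdense _, qproj17886 f _ (haff _)⟩⟩
  rw [eq_top_iff]
  intro y _
  obtain ⟨x, hxt, hy⟩ := Set.mem_iUnion₂.mp (ht (Set.mem_univ y))
  refine TopologicalSpace.Opens.mem_iSup.mpr ⟨t.equivFin ⟨x, hxt⟩, ?_⟩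
  have e : (t.equivFin.symm (t.equivFin ⟨x, hxt⟩)).1 = x := by
    rw [Equiv.symm_apply_apply]
  show y ∈ Ux (t.equivFin.symm (t.equivFin ⟨x, hxt⟩)).1
  rw [e]
  exact hy

end Groth.Agent.S17886
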