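import Mathlib
import Groth.Statements.S17897
-- import your own Groth.Agent.* helpers here

set_option autoImplicit false
universe u
open CategoryTheory AlgebraicGeometry
open ValCrit

namespace Groth.Agent.S17897

theorem range_subset_of_closedPoint {X : Scheme.{u}} (A : Type u) [CommRing A] [IsLocalRing A]
    (φ : Spec (CommRingCat.of A) ⟶ X) {Z : Scheme.{u}} (ι : Z ⟶ X) [IsOpenImmersion ι]
    (h : φ (IsLocalRing.closedPoint A) ∈ Set.range ι) : Set.range φ ⊆ Set.range ι := by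
  rintro _ ⟨p, rfl⟩
  have hs : p ⤳ IsLocalRing.closedPoint A := IsLocalRing.specializes_closedPoint p
  exact (hs.map φ.continuous).mem_open ι.isOpenEmbedding.isOpen_range h


/-- Let f : Y → X be a morphism of schemes (not assumed separated), R a valuation ring with fraction
field K, and i : Spec K → Y, φ : Spec R → X with i ≫ f = (Spec K → Spec R) ≫ φ. Let y be the point
of Y hit by i and g : κ(y) → K the induced embedding, R' = g⁻¹(R) the induced valuation ring of κ(y)
and ρ : R' → R the restriction of g. Then φ factors uniquely through Spec R → Spec R': there is a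
unique φ' : Spec R' → X with (Spec ρ) ≫ φ' = φ whose restriction to the generic point Spec κ(y) is
the canonical morphism Spec κ(y) → Y followed by f. (Here y and g are given as data with Spec g
followed by Spec κ(y) → Y equal to i, and ρ as data by its defining equation.) -/
theorem result {X Y : Scheme.{u}} (f : Y ⟶ X)
    (K : Type u) [Field K] (R : ValuationSubring K)
    (i : Spec (CommRingCat.of K) ⟶ Y) (φ : Spec (CommRingCat.of ↥R) ⟶ X)
    (w : Spec.map (CommRingCat.ofHom R.subtype) ≫ φ = i ≫ f)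
    (y : Y) (g : Y.residueField y ⟶ CommRingCat.of K) (hg : Spec.map g ≫ Y.fromSpecResidueField y = i)
    (ρ : ↥(R.comap g.hom) →+* ↥R)
    (hρ : ∀ x : ↥(R.comap g.hom), ((ρ x : ↥R) : K) = g.hom (x : ↑(Y.residueField y))) :
    ∃! φ' : Spec (CommRingCat.of ↥(R.comap g.hom)) ⟶ X,
      Spec.map (CommRingCat.ofHom ρ) ≫ φ' = φ ∧
      Spec.map (CommRingCat.ofHom (R.comap g.hom).subtype) ≫ φ' = Y.fromSpecResidueField y ≫ f := by
  obtain ⟨𝒰, h𝒰⟩ : ∃ 𝒰, 𝒰 = X.affineOpenCover := ⟨_, rfl⟩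
  obtain ⟨j, hj⟩ : ∃ j, j = 𝒰.idx (φ (IsLocalRing.closedPoint ↥R)) := ⟨_, rfl⟩
  have hx₀ : φ (IsLocalRing.closedPoint ↥R) ∈ Set.range (𝒰.f j) := by
    rw [hj]; exact 𝒰.covers _
  have hφr : Set.range φ ⊆ Set.range (𝒰.f j) := range_subset_of_closedPoint _ φ (𝒰.f j) hx₀
  have hψr : Set.range (Y.fromSpecResidueField y ≫ f) ⊆ Set.range (𝒰.f j) := by
    rintro _ ⟨p, rfl⟩
    have hp : p = Spec.map g (IsLocalRing.closedPoint K) :=
      (inferInstance : Subsingleton (PrimeSpectrum (Y.residueField y))).elim _ _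
    have h0 : (Spec.map g ≫ (Y.fromSpecResidueField y ≫ f)) (IsLocalRing.closedPoint K) =
        (Spec.map (CommRingCat.ofHom R.subtype) ≫ φ) (IsLocalRing.closedPoint K) := by
      rw [← Category.assoc, hg, w]
    rw [Scheme.Hom.comp_apply, Scheme.Hom.comp_apply (Spec.map (CommRingCat.ofHom R.subtype))] at h0
    rw [hp, h0]
    exact hφr ⟨_, rfl⟩
  obtain ⟨φt, hφt⟩ : ∃ φt, φt ≫ 𝒰.f j = φ :=
    ⟨IsOpenImmersion.lift (𝒰.f j) φ hφr, IsOpenImmersion.lift_fac _ _ _⟩
  obtain ⟨ψt, hψt⟩ : ∃ ψt, ψt ≫ 𝒰.f j = Y.fromSpecResidueField y ≫ f :=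
    ⟨IsOpenImmersion.lift (𝒰.f j) _ hψr, IsOpenImmersion.lift_fac _ _ _⟩
  obtain ⟨α, hα⟩ : ∃ α, Spec.map α = φt := ⟨Spec.preimage φt, Spec.map_preimage _⟩
  obtain ⟨β, hβ⟩ : ∃ β, Spec.map β = ψt := ⟨Spec.preimage ψt, Spec.map_preimage _⟩
  have compat : β ≫ g = α ≫ CommRingCat.ofHom R.subtype := by
    apply Spec.map_injective
    rw [Spec.map_comp, Spec.map_comp, hα, hβ, ← cancel_mono (𝒰.f j), Category.assoc,
      Category.assoc, hφt, hψt, w, ← hg, Category.assoc]
  have compat' : ∀ a, g.hom (β.hom a) = ((α.hom a : ↥R) : K) := fun a => by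
    have := congrArg (fun h => h.hom a) compat
    exact this
  obtain ⟨α', hα'⟩ : ∃ α' : 𝒰.X j →+* ↥(R.comap g.hom),
      ∀ a, ((α' a : ↥(R.comap g.hom)) : ↑(Y.residueField y)) = β.hom a :=
    ⟨β.hom.codRestrict (R.comap g.hom) (fun a => by
      rw [ValuationSubring.mem_comap, compat']; exact (α.hom a).2), fun a => rfl⟩
  have h1 : CommRingCat.ofHom α' ≫ CommRingCat.ofHom ρ = α := by
    ext a
    refine (hρ (α' a)).trans ?_
    rw [hα', compat']
  have h2 : CommRingCat.ofHom α' ≫ CommRingCat.ofHom (R.comap g.hom).subtype = β := by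
    ext a
    exact hα' a
  haveI hloc : IsLocalHom ρ := ⟨fun x hx => by
    obtain ⟨v, hv⟩ := hx.exists_right_inv
    have hv' : g.hom (x : ↑(Y.residueField y)) * (v : K) = 1 := by
      rw [← hρ x]
      have := congrArg Subtype.val hv
      exact this
    have hx0 : (x : ↑(Y.residueField y)) ≠ 0 := by
      intro h0
      rw [h0, map_zero, zero_mul] at hv'
      exact zero_ne_one hv'
    have hinv : g.hom ((x : ↑(Y.residueField y))⁻¹) = (v : K) := by
      rw [map_inv₀]
      exact inv_eq_of_mul_eq_one_right hv'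
    have hmem : (x : ↑(Y.residueField y))⁻¹ ∈ R.comap g.hom := by
      rw [ValuationSubring.mem_comap, hinv]
      exact v.2
    exact IsUnit.of_mul_eq_one (⟨_, hmem⟩ : ↥(R.comap g.hom)) (Subtype.ext (mul_inv_cancel₀ hx0))⟩
  refine ⟨Spec.map (CommRingCat.ofHom α') ≫ 𝒰.f j, ⟨?_, ?_⟩, ?_⟩
  · rw [← Category.assoc, ← Spec.map_comp, h1, hα, hφt]
  · rw [← Category.assoc, ← Spec.map_comp, h2, hβ, hψt]
  · rintro φ'' ⟨hφ1, hφ2⟩
    haveI : IsLocalHom (CommRingCat.ofHom ρ).hom := hloc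
    have hcl : φ'' (IsLocalRing.closedPoint ↥(R.comap g.hom)) ∈ Set.range (𝒰.f j) := by
      have hc : Spec.map (CommRingCat.ofHom ρ) (IsLocalRing.closedPoint ↥R) =
          IsLocalRing.closedPoint ↥(R.comap g.hom) := AlgebraicGeometry.Spec_closedPoint
      have h0 : (Spec.map (CommRingCat.ofHom ρ) ≫ φ'') (IsLocalRing.closedPoint ↥R) =
          φ (IsLocalRing.closedPoint ↥R) := by rw [hφ1]
      rw [Scheme.Hom.comp_apply, hc] at h0
      rw [h0]
      exact hx₀
    have hr := range_subset_of_closedPoint _ φ'' (𝒰.f j) hcl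
    obtain ⟨γt, hγt⟩ : ∃ γt, γt ≫ 𝒰.f j = φ'' :=
      ⟨IsOpenImmersion.lift (𝒰.f j) _ hr, IsOpenImmersion.lift_fac _ _ _⟩
    obtain ⟨γ, hγ⟩ : ∃ γ, Spec.map γ = γt := ⟨Spec.preimage γt, Spec.map_preimage _⟩
    have h3 : γ ≫ CommRingCat.ofHom (R.comap g.hom).subtype = β := by
      apply Spec.map_injective
      rw [Spec.map_comp, hγ, hβ, ← cancel_mono (𝒰.f j), Category.assoc, hγt, hψt, hφ2]
    have h4 : γ = CommRingCat.ofHom α' := by
      ext a
      have := congrArg (fun h => h.hom a) h3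
      exact this.trans (hα' a).symm
    rw [← hγt, ← hγ, h4]

end Groth.Agent.S17897
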