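import Mathlib
import Groth.Statements.S17898
import Groth.Agent.S17897
-- import your own Groth.Agent.* helpers here

set_option autoImplicit false
universe u
open CategoryTheory AlgebraicGeometry
open ValCrit

namespace Groth.Agent.S17898

open Groth.Agent.S17897 in
theorem pushout_ext {Z : Scheme.{u}} {A A' At : Type u} [CommRing A] [CommRing A'] [CommRing At]
    [IsLocalRing A] [IsLocalRing At]
    (ι : A →+* A') (hι : Function.Injective ι) (σ : A →+* At) [hσ : IsLocalHom σ]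
    (a b : Spec (CommRingCat.of A) ⟶ Z)
    (h1 : Spec.map (CommRingCat.ofHom ι) ≫ a = Spec.map (CommRingCat.ofHom ι) ≫ b)
    (h2 : Spec.map (CommRingCat.ofHom σ) ≫ a = Spec.map (CommRingCat.ofHom σ) ≫ b) : a = b := by
  haveI : IsLocalHom (CommRingCat.ofHom σ).hom := hσ
  have hc : Spec.map (CommRingCat.ofHom σ) (IsLocalRing.closedPoint At) =
      IsLocalRing.closedPoint A := AlgebraicGeometry.Spec_closedPoint
  have hab : a (IsLocalRing.closedPoint A) = b (IsLocalRing.closedPoint A) := by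
    have h0 : (Spec.map (CommRingCat.ofHom σ) ≫ a) (IsLocalRing.closedPoint At) =
        (Spec.map (CommRingCat.ofHom σ) ≫ b) (IsLocalRing.closedPoint At) := by rw [h2]
    rw [Scheme.Hom.comp_apply, Scheme.Hom.comp_apply, hc] at h0
    exact h0
  obtain ⟨𝒰, h𝒰⟩ : ∃ 𝒰, 𝒰 = Z.affineOpenCover := ⟨_, rfl⟩
  obtain ⟨j, hj⟩ : ∃ j, j = 𝒰.idx (a (IsLocalRing.closedPoint A)) := ⟨_, rfl⟩
  have ha0 : a (IsLocalRing.closedPoint A) ∈ Set.range (𝒰.f j) := by
    rw [hj]; exact 𝒰.covers _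
  have hb0 : b (IsLocalRing.closedPoint A) ∈ Set.range (𝒰.f j) := hab ▸ ha0
  have har := range_subset_of_closedPoint _ a (𝒰.f j) ha0
  have hbr := range_subset_of_closedPoint _ b (𝒰.f j) hb0
  obtain ⟨at', hat⟩ : ∃ t, t ≫ 𝒰.f j = a :=
    ⟨IsOpenImmersion.lift (𝒰.f j) _ har, IsOpenImmersion.lift_fac _ _ _⟩
  obtain ⟨bt, hbt⟩ : ∃ t, t ≫ 𝒰.f j = b :=
    ⟨IsOpenImmersion.lift (𝒰.f j) _ hbr, IsOpenImmersion.lift_fac _ _ _⟩
  obtain ⟨α, hα⟩ : ∃ α, Spec.map α = at' := ⟨Spec.preimage at', Spec.map_preimage _⟩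
  obtain ⟨β, hβ⟩ : ∃ β, Spec.map β = bt := ⟨Spec.preimage bt, Spec.map_preimage _⟩
  have h3 : α ≫ CommRingCat.ofHom ι = β ≫ CommRingCat.ofHom ι := by
    apply Spec.map_injective
    rw [Spec.map_comp, Spec.map_comp, hα, hβ, ← cancel_mono (𝒰.f j), Category.assoc,
      Category.assoc, hat, hbt, h1]
  have h4 : α = β := by
    ext x
    apply hι
    exact congrArg (fun h => h.hom x) h3
  rw [← hat, ← hbt, ← hα, ← hβ, h4]


/-- Let f : Y → X be a morphism of schemes (not assumed separated), K a field with valuation rings R ⊆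
R' (inclusion ι), i : Spec K → Y and φ : Spec R → X a commutative square over f, and g : Spec R' → Y
a lift of Spec R' → Spec R → X restricting to i on Spec K. Let K̃ be the residue field of R', R̃ ⊆
K̃ the image of R (a valuation ring of K̃) with the surjection σ : R → R̃. Then every h̃ : Spec R̃ →
Y whose restriction to Spec K̃ is Spec K̃ → Spec R' → Y (via g) and which lies over Spec R̃ → Spec R
→ X is induced by a unique h : Spec R → Y compatible with the whole diagram: h restricts to i on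
Spec K, lies over φ, restricts to g along Spec R' → Spec R and to h̃ along Spec R̃ → Spec R. (ι, R̃,
σ are given as data pinned by their defining equations.) -/
theorem result {X Y : Scheme.{u}} (f : Y ⟶ X)
    (K : Type u) [Field K] (R R' : ValuationSubring K) (hRR' : R ≤ R')
    (ι : ↥R →+* ↥R') (hι : ∀ x : ↥R, ((ι x : ↥R') : K) = (x : K))
    (i : Spec (CommRingCat.of K) ⟶ Y) (φ : Spec (CommRingCat.of ↥R) ⟶ X)
    (w : Spec.map (CommRingCat.ofHom R.subtype) ≫ φ = i ≫ f)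
    (g : Spec (CommRingCat.of ↥R') ⟶ Y) (hg₁ : Spec.map (CommRingCat.ofHom R'.subtype) ≫ g = i)
    (hg₂ : g ≫ f = Spec.map (CommRingCat.ofHom ι) ≫ φ)
    (Rt : ValuationSubring (IsLocalRing.ResidueField ↥R')) (σ : ↥R →+* ↥Rt) (hσs : Function.Surjective σ)
    (hσ : ∀ x : ↥R, ((σ x : ↥Rt) : IsLocalRing.ResidueField ↥R') = IsLocalRing.residue ↥R' (ι x))
    (ht : Spec (CommRingCat.of ↥Rt) ⟶ Y)
    (hht₁ : Spec.map (CommRingCat.ofHom Rt.subtype) ≫ ht =
      Spec.map (CommRingCat.ofHom (IsLocalRing.residue ↥R')) ≫ g)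
    (hht₂ : ht ≫ f = Spec.map (CommRingCat.ofHom σ) ≫ φ) :
    ∃! h : Spec (CommRingCat.of ↥R) ⟶ Y, Spec.map (CommRingCat.ofHom R.subtype) ≫ h = i ∧ h ≫ f = φ ∧
      Spec.map (CommRingCat.ofHom ι) ≫ h = g ∧ Spec.map (CommRingCat.ofHom σ) ≫ h = ht := by
  have hιinj : Function.Injective ι := fun x y hxy =>
    Subtype.ext (by rw [← hι x, ← hι y, hxy])
  haveI hσloc : IsLocalHom σ := IsLocalHom.of_surjective σ hσs
  obtain ⟨𝒱, h𝒱⟩ : ∃ 𝒱, 𝒱 = Y.affineOpenCover := ⟨_, rfl⟩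
  obtain ⟨j, hj⟩ : ∃ j, j = 𝒱.idx (ht (IsLocalRing.closedPoint ↥Rt)) := ⟨_, rfl⟩
  have hy₀ : ht (IsLocalRing.closedPoint ↥Rt) ∈ Set.range (𝒱.f j) := by
    rw [hj]; exact 𝒱.covers _
  have hhr : Set.range ht ⊆ Set.range (𝒱.f j) :=
    Groth.Agent.S17897.range_subset_of_closedPoint _ ht (𝒱.f j) hy₀
  have hgcl : g (IsLocalRing.closedPoint ↥R') ∈ Set.range (𝒱.f j) := by
    haveI : IsLocalHom (CommRingCat.ofHom (IsLocalRing.residue ↥R')).hom :=
      (inferInstance : IsLocalHom (IsLocalRing.residue ↥R'))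
    have hc : Spec.map (CommRingCat.ofHom (IsLocalRing.residue ↥R'))
        (IsLocalRing.closedPoint (IsLocalRing.ResidueField ↥R')) =
        IsLocalRing.closedPoint ↥R' := AlgebraicGeometry.Spec_closedPoint
    have h0 : (Spec.map (CommRingCat.ofHom Rt.subtype) ≫ ht)
          (IsLocalRing.closedPoint (IsLocalRing.ResidueField ↥R')) =
        (Spec.map (CommRingCat.ofHom (IsLocalRing.residue ↥R')) ≫ g)
          (IsLocalRing.closedPoint (IsLocalRing.ResidueField ↥R')) := by rw [hht₁]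
    rw [Scheme.Hom.comp_apply, Scheme.Hom.comp_apply, hc] at h0
    rw [← h0]
    exact hhr ⟨_, rfl⟩
  have hgr := Groth.Agent.S17897.range_subset_of_closedPoint _ g (𝒱.f j) hgcl
  obtain ⟨htt, hhtt⟩ : ∃ t, t ≫ 𝒱.f j = ht :=
    ⟨IsOpenImmersion.lift (𝒱.f j) _ hhr, IsOpenImmersion.lift_fac _ _ _⟩
  obtain ⟨gt, hgt⟩ : ∃ t, t ≫ 𝒱.f j = g :=
    ⟨IsOpenImmersion.lift (𝒱.f j) _ hgr, IsOpenImmersion.lift_fac _ _ _⟩
  obtain ⟨δ, hδ⟩ : ∃ δ, Spec.map δ = htt := ⟨Spec.preimage htt, Spec.map_preimage _⟩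
  obtain ⟨γ, hγ⟩ : ∃ γ, Spec.map γ = gt := ⟨Spec.preimage gt, Spec.map_preimage _⟩
  have compat : γ ≫ CommRingCat.ofHom (IsLocalRing.residue ↥R') =
      δ ≫ CommRingCat.ofHom Rt.subtype := by
    apply Spec.map_injective
    rw [Spec.map_comp, Spec.map_comp, hγ, hδ, ← cancel_mono (𝒱.f j), Category.assoc,
      Category.assoc, hgt, hhtt, hht₁]
  have compat' : ∀ b, IsLocalRing.residue ↥R' (γ.hom b) =
      ((δ.hom b : ↥Rt) : IsLocalRing.ResidueField ↥R') := fun b => by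
    have := congrArg (fun h => h.hom b) compat
    exact this
  have hmemR : ∀ b, ((γ.hom b : ↥R') : K) ∈ R := by
    intro b
    obtain ⟨r₀, hr₀⟩ := hσs (δ.hom b)
    have hres : IsLocalRing.residue ↥R' (γ.hom b - ι r₀) = 0 := by
      rw [map_sub, compat', ← hr₀, hσ, sub_self]
    rw [IsLocalRing.residue_eq_zero_iff] at hres
    have hc : (((γ.hom b - ι r₀ : ↥R')) : K) ∈ R := by
      by_cases h0 : ((γ.hom b - ι r₀ : ↥R') : K) = 0
      · rw [h0]; exact zero_mem R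
      · rcases R.mem_or_inv_mem ((γ.hom b - ι r₀ : ↥R') : K) with h | h
        · exact h
        · exfalso
          have h' : ((γ.hom b - ι r₀ : ↥R') : K)⁻¹ ∈ R' := hRR' h
          have hu : IsUnit (γ.hom b - ι r₀ : ↥R') :=
            IsUnit.of_mul_eq_one (⟨_, h'⟩ : ↥R') (Subtype.ext (mul_inv_cancel₀ h0))
          exact (IsLocalRing.mem_maximalIdeal _).mp hres hu
    have hsum : ((γ.hom b : ↥R') : K) = ((γ.hom b - ι r₀ : ↥R') : K) + (r₀ : K) := by
      rw [← hι r₀]; simp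
    rw [hsum]
    exact R.add_mem _ _ hc r₀.2
  obtain ⟨η, hη⟩ : ∃ η : 𝒱.X j →+* ↥R, ∀ b, ((η b : ↥R) : K) = ((γ.hom b : ↥R') : K) :=
    ⟨(R'.subtype.comp γ.hom).codRestrict R hmemR, fun b => rfl⟩
  have e1 : CommRingCat.ofHom η ≫ CommRingCat.ofHom ι = γ := by
    ext b
    exact (hι (η b)).trans (hη b)
  have e2 : CommRingCat.ofHom η ≫ CommRingCat.ofHom σ = δ := by
    ext b
    refine (hσ (η b)).trans ?_
    rw [← compat' b]
    exact congrArg _ (Subtype.ext ((hι (η b)).trans (hη b)))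
  have hsub : CommRingCat.ofHom R.subtype =
      CommRingCat.ofHom ι ≫ CommRingCat.ofHom R'.subtype := by
    ext x
    exact (hι x).symm
  have p3 : Spec.map (CommRingCat.ofHom ι) ≫ (Spec.map (CommRingCat.ofHom η) ≫ 𝒱.f j) = g := by
    rw [← Category.assoc, ← Spec.map_comp, e1, hγ, hgt]
  have p4 : Spec.map (CommRingCat.ofHom σ) ≫ (Spec.map (CommRingCat.ofHom η) ≫ 𝒱.f j) = ht := by
    rw [← Category.assoc, ← Spec.map_comp, e2, hδ, hhtt]
  refine ⟨Spec.map (CommRingCat.ofHom η) ≫ 𝒱.f j, ⟨?_, ?_, p3, p4⟩, ?_⟩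
  · rw [hsub, Spec.map_comp, Category.assoc, p3, hg₁]
  · apply pushout_ext ι hιinj σ
    · rw [← Category.assoc (Spec.map (CommRingCat.ofHom ι)), p3, hg₂]
    · rw [← Category.assoc (Spec.map (CommRingCat.ofHom σ)), p4, hht₂]
  · rintro h'' ⟨-, -, q3, q4⟩
    apply pushout_ext ι hιinj σ
    · rw [q3, p3]
    · rw [q4, p4]

end Groth.Agent.S17898
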