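import Groth.Statements.S17900
import Mathlib
import Groth.Agent.H10.FlatLemmas

set_option autoImplicit false
universe u
open TensorProduct
open Pinch

namespace Groth.Agent.S17900

/-- Let R be a commutative ring and let B' → B → A, B' → A' → A be a commutative square of R-algebras
which is a fibre square (B' = B ×_A A') with A' → A surjective. If B, A' and A are flat over R then
B' is flat over R. -/
theorem result (R B' B A' A : Type u) [CommRing R] [CommRing B'] [CommRing B] [CommRing A'] [CommRing A]
    [Algebra B' B] [Algebra B' A'] [Algebra B A] [Algebra A' A] [Algebra B' A]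
    [IsScalarTower B' B A] [IsScalarTower B' A' A]
    [Algebra R B'] [Algebra R B] [Algebra R A'] [Algebra R A]
    [IsScalarTower R B' B] [IsScalarTower R B' A'] [IsScalarTower R B' A] [IsScalarTower R B A] [IsScalarTower R A' A]
    (hsq : EtMil.IsFibreSquare B' B A' A)
    [Module.Flat R B] [Module.Flat R A'] [Module.Flat R A] :
    Module.Flat R B' := by
  obtain ⟨hsurj, huniq⟩ := hsq
  let f : B' →ₗ[R] B × A' :=
    ((IsScalarTower.toAlgHom R B' B).toLinearMap).prod ((IsScalarTower.toAlgHom R B' A').toLinearMap)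
  let g : B × A' →ₗ[R] A :=
    ((IsScalarTower.toAlgHom R B A).toLinearMap).coprod (-(IsScalarTower.toAlgHom R A' A).toLinearMap)
  have hfa : ∀ b', f b' = (algebraMap B' B b', algebraMap B' A' b') := fun b' => rfl
  have hga : ∀ x : B × A', g x = algebraMap B A x.1 - algebraMap A' A x.2 := by
    intro x
    simp [g, sub_eq_add_neg]
  have hcomp : ∀ b' : B', algebraMap B A (algebraMap B' B b') = algebraMap A' A (algebraMap B' A' b') := by
    intro b'
    rw [← IsScalarTower.algebraMap_apply, ← IsScalarTower.algebraMap_apply]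
  haveI : Module.Flat R (B × A') := Groth.Agent.H10.flat_prod B A'
  refine Groth.Agent.H10.flat_of_exact_of_flat_flat f g ?_ ?_ ?_
  · intro x y hxy
    rw [hfa, hfa, Prod.mk.injEq] at hxy
    obtain ⟨z, -, hz⟩ := huniq (algebraMap B' B x) (algebraMap B' A' x) (hcomp x)
    rw [hz x ⟨rfl, rfl⟩, hz y ⟨hxy.1.symm, hxy.2.symm⟩]
  · intro x
    constructor
    · intro hx
      rw [hga, sub_eq_zero] at hx
      obtain ⟨b', ⟨h1, h2⟩, -⟩ := huniq x.1 x.2 hx
      exact ⟨b', by rw [hfa, h1, h2]⟩
    · rintro ⟨b', rfl⟩
      rw [hga, hfa, sub_eq_zero]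
      exact hcomp b'
  · intro a
    obtain ⟨a', rfl⟩ := hsurj a
    refine ⟨(0, -a'), ?_⟩
    rw [hga]
    simp

end Groth.Agent.S17900
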