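import Groth.Statements.S17901
import Mathlib

set_option autoImplicit false
universe u
open TensorProduct
open Pinch

namespace Groth.Agent.S17901


section Aux

theorem map_eq_lTensor {R : Type u} [CommRing R] (R' : Type u) [CommRing R'] [Algebra R R']
    {M N : Type u} [CommRing M] [CommRing N] [Algebra R M] [Algebra R N] (φ : M →ₐ[R] N)
    (x : R' ⊗[R] M) :
    Algebra.TensorProduct.map (AlgHom.id R R') φ x = (φ.toLinearMap.lTensor R') x := by
  induction x using TensorProduct.induction_on with
  | zero => simp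
  | tmul a b => simp
  | add x y hx hy => rw [map_add, map_add, hx, hy]

theorem key {R : Type u} [CommRing R] {M N Q P T : Type u}
    [AddCommGroup M] [AddCommGroup N] [AddCommGroup Q] [AddCommGroup P] [AddCommGroup T]
    [Module R M] [Module R N] [Module R Q] [Module R P] [Module R T] [Module.Flat R P]
    (β : M →ₗ[R] N) (α : M →ₗ[R] Q) (f : N →ₗ[R] P) (g : Q →ₗ[R] P)
    (hg : Function.Surjective g) (hcomm : ∀ m, f (β m) = g (α m))
    (hfib : ∀ b a', f b = g a' → ∃! b', β b' = b ∧ α b' = a')
    (x : T ⊗[R] N) (y : T ⊗[R] Q) (h : f.lTensor T x = g.lTensor T y) :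
    ∃! z : T ⊗[R] M, β.lTensor T z = x ∧ α.lTensor T z = y := by
  obtain ⟨i, hi⟩ : ∃ i : M →ₗ[R] N × Q, i = β.prod α := ⟨_, rfl⟩
  obtain ⟨p, hp⟩ : ∃ p : N × Q →ₗ[R] P, p = f.coprod (-g) := ⟨_, rfl⟩
  have hpv : ∀ v, p v = f v.1 - g v.2 := by
    intro v
    rw [hp, LinearMap.coprod_apply, LinearMap.neg_apply, sub_eq_add_neg]
  have e1 : (LinearMap.fst R N Q) ∘ₗ i = β := by
    rw [hi]; apply LinearMap.ext; intro m; rfl
  have e2 : (LinearMap.snd R N Q) ∘ₗ i = α := by
    rw [hi]; apply LinearMap.ext; intro m; rfl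
  have e3 : p ∘ₗ (LinearMap.inl R N Q) = f := by
    apply LinearMap.ext; intro m
    rw [LinearMap.comp_apply, hpv]; simp
  have e4 : p ∘ₗ (LinearMap.inr R N Q) = -g := by
    apply LinearMap.ext; intro m
    rw [LinearMap.comp_apply, hpv]; simp
  have e5 : i = (LinearMap.inl R N Q) ∘ₗ β + (LinearMap.inr R N Q) ∘ₗ α := by
    rw [hi]; apply LinearMap.ext; intro m; apply Prod.ext <;> simp
  have e6 : (LinearMap.fst R N Q) ∘ₗ (LinearMap.inl R N Q) = LinearMap.id := by
    apply LinearMap.ext; intro m; simp
  have e7 : (LinearMap.fst R N Q) ∘ₗ (LinearMap.inr R N Q) = 0 := by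
    apply LinearMap.ext; intro m; simp
  have e8 : (LinearMap.snd R N Q) ∘ₗ (LinearMap.inl R N Q) = 0 := by
    apply LinearMap.ext; intro m; simp
  have e9 : (LinearMap.snd R N Q) ∘ₗ (LinearMap.inr R N Q) = LinearMap.id := by
    apply LinearMap.ext; intro m; simp
  have hi_inj : Function.Injective i := by
    intro m m' hmm
    rw [hi] at hmm
    have h1 : β m = β m' := congrArg Prod.fst hmm
    have h2 : α m = α m' := congrArg Prod.snd hmm
    exact (hfib (β m') (α m') (hcomm m')).unique ⟨h1, h2⟩ ⟨rfl, rfl⟩
  have hp_surj : Function.Surjective p := by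
    intro a
    obtain ⟨q, hq⟩ := hg a
    refine ⟨(0, -q), ?_⟩
    rw [hpv]; simp [hq]
  have H : Function.Exact i p := by
    intro v
    constructor
    · intro hv
      rw [hpv] at hv
      obtain ⟨m, hm1, hm2⟩ := (hfib v.1 v.2 (sub_eq_zero.mp hv)).exists
      exact ⟨m, by rw [hi]; exact Prod.ext hm1 hm2⟩
    · rintro ⟨m, rfl⟩
      rw [hpv, hi]
      show f (β m) - g (α m) = 0
      rw [hcomm]; exact sub_self _
  have inj : Function.Injective (i.lTensor T) :=
    LinearMap.lTensor_injective_of_exact_of_flat p hp_surj i hi_inj H T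
  have ex : Function.Exact (i.lTensor T) (p.lTensor T) := lTensor_exact T H hp_surj
  obtain ⟨w, hw⟩ : ∃ w : T ⊗[R] (N × Q), w = (LinearMap.inl R N Q).lTensor T x
      + (LinearMap.inr R N Q).lTensor T y := ⟨_, rfl⟩
  have hw0 : p.lTensor T w = 0 := by
    rw [hw, map_add, ← LinearMap.lTensor_comp_apply, ← LinearMap.lTensor_comp_apply, e3, e4,
      LinearMap.lTensor_neg, LinearMap.neg_apply, h]
    exact add_neg_cancel _
  obtain ⟨z, hz⟩ := (ex w).mp hw0
  have hw1 : (LinearMap.fst R N Q).lTensor T w = x := by
    rw [hw, map_add, ← LinearMap.lTensor_comp_apply, ← LinearMap.lTensor_comp_apply, e6, e7,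
      LinearMap.lTensor_id, LinearMap.lTensor_zero]
    simp
  have hw2 : (LinearMap.snd R N Q).lTensor T w = y := by
    rw [hw, map_add, ← LinearMap.lTensor_comp_apply, ← LinearMap.lTensor_comp_apply, e8, e9,
      LinearMap.lTensor_id, LinearMap.lTensor_zero]
    simp
  refine ⟨z, ⟨?_, ?_⟩, ?_⟩
  · have : β.lTensor T z = (LinearMap.fst R N Q).lTensor T (i.lTensor T z) := by
      rw [← LinearMap.lTensor_comp_apply, e1]
    rw [this, hz, hw1]
  · have : α.lTensor T z = (LinearMap.snd R N Q).lTensor T (i.lTensor T z) := by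
      rw [← LinearMap.lTensor_comp_apply, e2]
    rw [this, hz, hw2]
  · rintro z' ⟨h1, h2⟩
    apply inj
    rw [hz, hw, e5, LinearMap.lTensor_add, LinearMap.add_apply, LinearMap.lTensor_comp_apply,
      LinearMap.lTensor_comp_apply, h1, h2]

end Aux


/-- Let R be a commutative ring and let B' → B → A, B' → A' → A be a fibre square of R-algebras (B' = B
×_A A') with A' → A surjective, where B, A' and A are flat over R. Then for every commutative
R-algebra R' the square obtained by applying R' ⊗_R − is again a fibre square: R' ⊗_R A' → R' ⊗_R A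
is surjective and every pair of elements of R' ⊗_R B and R' ⊗_R A' with the same image in R' ⊗_R A
is the image of a unique element of R' ⊗_R B'. (The published lemma concludes that the base-changed
square of spectra is co-cartesian in ringed spaces; this row states the ring form, surjective edge
and fibre product, which its proof establishes before translating it to ringed spaces.) -/
theorem result (R B' B A' A : Type u) [CommRing R] [CommRing B'] [CommRing B] [CommRing A'] [CommRing A]
    [Algebra B' B] [Algebra B' A'] [Algebra B A] [Algebra A' A] [Algebra B' A]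
    [IsScalarTower B' B A] [IsScalarTower B' A' A]
    [Algebra R B'] [Algebra R B] [Algebra R A'] [Algebra R A]
    [IsScalarTower R B' B] [IsScalarTower R B' A'] [IsScalarTower R B' A] [IsScalarTower R B A] [IsScalarTower R A' A]
    (hsq : EtMil.IsFibreSquare B' B A' A)
    [Module.Flat R B] [Module.Flat R A'] [Module.Flat R A]
    (R' : Type u) [CommRing R'] [Algebra R R'] :
    Function.Surjective (Algebra.TensorProduct.map (AlgHom.id R R') (IsScalarTower.toAlgHom R A' A)) ∧
    ∀ (x : R' ⊗[R] B) (y : R' ⊗[R] A'),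
      Algebra.TensorProduct.map (AlgHom.id R R') (IsScalarTower.toAlgHom R B A) x =
        Algebra.TensorProduct.map (AlgHom.id R R') (IsScalarTower.toAlgHom R A' A) y →
      ∃! z : R' ⊗[R] B',
        Algebra.TensorProduct.map (AlgHom.id R R') (IsScalarTower.toAlgHom R B' B) z = x ∧
        Algebra.TensorProduct.map (AlgHom.id R R') (IsScalarTower.toAlgHom R B' A') z = y := by
  obtain ⟨hsurj, hfib⟩ := hsq
  have hsurj' : Function.Surjective (IsScalarTower.toAlgHom R A' A).toLinearMap := by
    intro a
    obtain ⟨a', ha'⟩ := hsurj a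
    exact ⟨a', ha'⟩
  constructor
  · intro y
    obtain ⟨x, hx⟩ := LinearMap.lTensor_surjective R' hsurj' y
    exact ⟨x, by rw [map_eq_lTensor]; exact hx⟩
  · intro x y h
    rw [map_eq_lTensor, map_eq_lTensor] at h
    have hk := key (T := R') (IsScalarTower.toAlgHom R B' B).toLinearMap
      (IsScalarTower.toAlgHom R B' A').toLinearMap
      (IsScalarTower.toAlgHom R B A).toLinearMap
      (IsScalarTower.toAlgHom R A' A).toLinearMap hsurj'
      (fun m => by
        show algebraMap B A (algebraMap B' B m) = algebraMap A' A (algebraMap B' A' m)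
        rw [← IsScalarTower.algebraMap_apply B' B A, ← IsScalarTower.algebraMap_apply B' A' A])
      (fun b a' hba => hfib b a' hba) x y h
    simp only [map_eq_lTensor]
    exact hk

end Groth.Agent.S17901
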