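import Mathlib
import Groth.Agent.H11.MultCrvLib
import Groth.Statements.S17933

set_option autoImplicit false
universe u
open MultCrv

namespace Groth.Agent.S17933

/-- Let R be a discrete valuation ring, n ≥ 1, A = R[X]/(X^n) with z the class of X, and M a finitely
generated A-module. Then M is torsion-free as an R-module if and only if the submodule M^(1) of
elements killed by z is a free R-module. (This is the statement at a closed point of the sheaf
statement: for a primitive multiple curve of multiplicity n the local ring at a closed point is of
the form R[X]/(X^n) with R the local ring of the reduced smooth curve, torsion-freeness is the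
absence of sections with finite support, and local freeness on the reduced curve is freeness of the
stalk; the row is stated for every discrete valuation ring R.) -/
theorem result (R : Type u) [CommRing R] [IsDomain R] [IsDiscreteValuationRing R] (n : ℕ) (hn : 1 ≤ n) (M : Type u) [AddCommGroup M] [Module (MultCrv.Rn R n) M] [Module R M] [IsScalarTower R (MultCrv.Rn R n) M] [Module.Finite (MultCrv.Rn R n) M] : Module.IsTorsionFree R M ↔ Module.Free R ↥(MultCrv.filt2 R n M 1) := by
  have hfinR : Module.Finite R M := Module.Finite.trans (MultCrv.Rn R n) M
  constructor
  · intro htf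
    have hfin1 : Module.Finite R ↥(MultCrv.filt2 R n M 1) := by
      have h1 : Module.Finite R ↥((MultCrv.filt2 R n M 1).restrictScalars R) := inferInstance
      exact h1
    have htf1 : Module.IsTorsionFree R ↥(MultCrv.filt2 R n M 1) :=
      Function.Injective.moduleIsTorsionFree (Subtype.val : ↥(MultCrv.filt2 R n M 1) → M)
        Subtype.val_injective (fun r m => rfl)
    infer_instance
  · intro hfree
    have htf1 : Module.IsTorsionFree R ↥(MultCrv.filt2 R n M 1) := inferInstance
    rw [Module.isTorsionFree_iff_smul_eq_zero] at htf1 ⊢
    intro r m hrm
    by_contra hcon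
    push_neg at hcon
    obtain ⟨k, hk1, hk2⟩ := Groth.Agent.H11.MC.exists_pow_smul_ne_zero (R := R) (n := n) hcon.2
    have hmem : MultCrv.z R n ^ k • m ∈ MultCrv.filt2 R n M 1 :=
      (Groth.Agent.H11.MC.mem_filt2_iff 1 _).2 (by rw [pow_one]; exact hk2)
    have h0 : r • (⟨MultCrv.z R n ^ k • m, hmem⟩ : ↥(MultCrv.filt2 R n M 1)) = 0 := by
      apply Subtype.ext
      show r • (MultCrv.z R n ^ k • m) = 0
      rw [← smul_algebra_smul_comm, hrm, smul_zero]
    rcases htf1 r _ h0 with h | h
    · exact hcon.1 h
    · exact hk1 (congrArg Subtype.val h)

end Groth.Agent.S17933
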