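import Mathlib
import Groth.Agent.H11.MultCrvLib
import Groth.Statements.S17934

set_option autoImplicit false
universe u
open MultCrv

namespace Groth.Agent.S17934

/-- Let R be a discrete valuation ring, n ≥ 1, A = R[X]/(X^n) with z the class of X, and M a finitely
generated A-module that is torsion-free as an R-module. Then for 1 ≤ i ≤ n the graded piece
M^(i)/M^(i-1) of the second canonical filtration (M^(i) the elements killed by z^i) is a free
R-module. (Statement at a closed point of the sheaf statement on a primitive multiple curve of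
multiplicity n, whose local rings are of the form R[X]/(X^n) with R the local ring of the reduced
smooth curve; stated for every discrete valuation ring R.) -/
theorem result (R : Type u) [CommRing R] [IsDomain R] [IsDiscreteValuationRing R] (n : ℕ) (hn : 1 ≤ n) (M : Type u) [AddCommGroup M] [Module (MultCrv.Rn R n) M] [Module R M] [IsScalarTower R (MultCrv.Rn R n) M] [Module.Finite (MultCrv.Rn R n) M] [Module.IsTorsionFree R M] (i : ℕ) (hi : 1 ≤ i) (hin : i ≤ n) : Module.Free R (MultCrv.G2 R n M i) := by
  have hfinR : Module.Finite R M := Module.Finite.trans (MultCrv.Rn R n) M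
  have hN : IsNoetherianRing (MultCrv.Rn R n) := inferInstance
  have hNM : IsNoetherian (MultCrv.Rn R n) M := isNoetherian_of_isNoetherianRing_of_finite _ _
  have hfinG' : Module.Finite (MultCrv.Rn R n) (MultCrv.G2 R n M i) := inferInstance
  have hfinG : Module.Finite R (MultCrv.G2 R n M i) := Module.Finite.trans (MultCrv.Rn R n) _
  -- the injective map `G2 i → M`, `u ↦ z^(i-1) u`
  obtain ⟨ψ, hψ⟩ : ∃ ψ : MultCrv.G2 R n M i →ₗ[MultCrv.Rn R n] M,
      ψ = Submodule.liftQ _ ((LinearMap.lsmul (MultCrv.Rn R n) M (MultCrv.z R n ^ (i - 1))).comp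
        (MultCrv.filt2 R n M i).subtype) (by
          intro u hu
          rw [Submodule.mem_comap, Groth.Agent.H11.MC.mem_filt2_iff] at hu
          rw [LinearMap.mem_ker, LinearMap.comp_apply, LinearMap.lsmul_apply]
          exact hu) := ⟨_, rfl⟩
  have hinj : Function.Injective ψ := by
    rw [← LinearMap.ker_eq_bot, hψ]
    apply Submodule.ker_liftQ_eq_bot
    intro u hu
    rw [LinearMap.mem_ker, LinearMap.comp_apply, LinearMap.lsmul_apply] at hu
    rw [Submodule.mem_comap, Groth.Agent.H11.MC.mem_filt2_iff]
    exact hu
  have htfG : Module.IsTorsionFree R (MultCrv.G2 R n M i) :=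
    Function.Injective.moduleIsTorsionFree ψ hinj (fun r x => by
      rw [← algebraMap_smul (MultCrv.Rn R n) r x, map_smul, algebraMap_smul])
  infer_instance

end Groth.Agent.S17934
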