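import Mathlib
import Groth.Agent.H11.MCFrob2
import Groth.Statements.S17935

set_option autoImplicit false
universe u
open MultCrv

namespace Groth.Agent.S17935

/-- Let R be a discrete valuation ring, n ≥ 1, A = R[X]/(X^n), and M a finitely generated A-module. Then
M is reflexive over A (the evaluation map into the double A-dual is bijective) if and only if M is
torsion-free as an R-module. (Statement at a closed point of the sheaf statement on a primitive
multiple curve of multiplicity n, whose local rings are of the form R[X]/(X^n) with R the local ring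
of the reduced smooth curve, torsion-freeness of a coherent sheaf there meaning no nonzero subsheaf
with finite support; stated for every discrete valuation ring R.) -/
theorem result (R : Type u) [CommRing R] [IsDomain R] [IsDiscreteValuationRing R] (n : ℕ) (hn : 1 ≤ n) (M : Type u) [AddCommGroup M] [Module (MultCrv.Rn R n) M] [Module R M] [IsScalarTower R (MultCrv.Rn R n) M] [Module.Finite (MultCrv.Rn R n) M] : Module.IsReflexive (MultCrv.Rn R n) M ↔ Module.IsTorsionFree R M := by
  classical
  have hn' : n - 1 < n := by omega
  haveI : Module.Finite R (MultCrv.Rn R n) := Groth.Agent.H11.MC.finite_Rn R n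
  haveI : Module.Finite R M := Module.Finite.trans (MultCrv.Rn R n) M
  constructor
  · intro hrefl
    have hinj : Function.Injective (Module.Dual.eval (MultCrv.Rn R n) M) :=
      (Module.bijective_dual_eval (MultCrv.Rn R n) M).1
    apply Module.IsTorsionFree.of_smul_eq_zero
    intro r m hrm
    by_cases hr : r = 0
    · exact Or.inl hr
    refine Or.inr (hinj ?_)
    rw [map_zero]
    ext φ
    rw [Module.Dual.eval_apply, LinearMap.zero_apply]
    apply Groth.Agent.H11.MC.eq_zero_of_coeffQ
    intro j hj
    have h1 : r • φ m = 0 := by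
      rw [← algebraMap_smul (MultCrv.Rn R n) r (φ m), ← map_smul, algebraMap_smul, hrm, map_zero]
    have h2 := congrArg (Groth.Agent.H11.MC.coeffQ (R := R) j hj) h1
    rw [map_smul, map_zero, smul_eq_mul] at h2
    exact (mul_eq_zero.1 h2).resolve_left hr
  · intro htf
    haveI : Module.Free R M := Module.free_of_finite_type_torsion_free'
    have hlift : ∀ φ : Module.Dual (MultCrv.Rn R n) M,
        Groth.Agent.H11.MC.liftA hn
          ((Groth.Agent.H11.MC.coeffQ (R := R) (n - 1) hn').comp (φ.restrictScalars R)) = φ := by
      intro φ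
      apply Groth.Agent.H11.MC.eq_of_coeffQ_eq hn
      intro x
      rw [Groth.Agent.H11.MC.coeffQ_liftA]
      rfl
    refine ⟨⟨?_, ?_⟩⟩
    · rw [← LinearMap.ker_eq_bot, LinearMap.ker_eq_bot']
      intro m hm
      rw [← Module.forall_dual_apply_eq_zero_iff R]
      intro g
      have := LinearMap.congr_fun hm (Groth.Agent.H11.MC.liftA hn g)
      rw [Module.Dual.eval_apply, LinearMap.zero_apply] at this
      rw [← Groth.Agent.H11.MC.coeffQ_liftA hn g m, this, map_zero]
    · intro ξ
      have hadd : ∀ g₁ g₂ : M →ₗ[R] R, Groth.Agent.H11.MC.liftA (n := n) hn (g₁ + g₂) =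
          Groth.Agent.H11.MC.liftA hn g₁ + Groth.Agent.H11.MC.liftA hn g₂ := by
        intro g₁ g₂
        apply Groth.Agent.H11.MC.eq_of_coeffQ_eq hn
        intro x
        rw [LinearMap.add_apply, map_add, Groth.Agent.H11.MC.coeffQ_liftA,
          Groth.Agent.H11.MC.coeffQ_liftA, Groth.Agent.H11.MC.coeffQ_liftA, LinearMap.add_apply]
      have hsmul : ∀ (r : R) (g : M →ₗ[R] R), Groth.Agent.H11.MC.liftA (n := n) hn (r • g) =
          (algebraMap R (MultCrv.Rn R n) r) • Groth.Agent.H11.MC.liftA hn g := by
        intro r g
        apply Groth.Agent.H11.MC.eq_of_coeffQ_eq hn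
        intro x
        rw [LinearMap.smul_apply, algebraMap_smul, map_smul, Groth.Agent.H11.MC.coeffQ_liftA,
          Groth.Agent.H11.MC.coeffQ_liftA, LinearMap.smul_apply]
      obtain ⟨η, hη⟩ : ∃ η : Module.Dual R (Module.Dual R M), ∀ g, η g =
          Groth.Agent.H11.MC.coeffQ (R := R) (n - 1) hn' (ξ (Groth.Agent.H11.MC.liftA hn g)) := by
        refine ⟨{ toFun := fun g => Groth.Agent.H11.MC.coeffQ (R := R) (n - 1) hn'
                    (ξ (Groth.Agent.H11.MC.liftA hn g))
                  map_add' := ?_
                  map_smul' := ?_ }, fun g => rfl⟩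
        · intro g₁ g₂
          rw [hadd, map_add, map_add]
        · intro r g
          rw [hsmul, map_smul, algebraMap_smul, map_smul, RingHom.id_apply]
      obtain ⟨m, hm⟩ := (Module.bijective_dual_eval R M).2 η
      refine ⟨m, ?_⟩
      ext φ
      rw [Module.Dual.eval_apply, ← sub_eq_zero]
      apply Groth.Agent.H11.MC.eq_zero_of_forall_coeffQ_mul hn
      intro a
      have key : ∀ φ' : Module.Dual (MultCrv.Rn R n) M,
          Groth.Agent.H11.MC.coeffQ (R := R) (n - 1) hn' (φ' m) =
          Groth.Agent.H11.MC.coeffQ (R := R) (n - 1) hn' (ξ φ') := by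
        intro φ'
        have h1 := hη ((Groth.Agent.H11.MC.coeffQ (R := R) (n - 1) hn').comp (φ'.restrictScalars R))
        rw [hlift, ← hm, Module.Dual.eval_apply] at h1
        exact h1
      rw [mul_sub, ← smul_eq_mul, ← smul_eq_mul, ← LinearMap.smul_apply, ← map_smul, map_sub, key,
        sub_self]

end Groth.Agent.S17935
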