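import Groth.Statements.S17962
import Mathlib

set_option autoImplicit false
open CategoryTheory CategoryTheory.Limits AlgebraicGeometry
universe u
open Hensel

namespace Groth.Agent.S17962

/-- Let i : X₀ ⟶ X be a closed immersion such that (X, X₀) is a henselian couple, i.e. for every finite
morphism g : Y ⟶ X every open-closed subset of Y ×_X X₀ is the inverse image under the first
projection of exactly one open-closed subset of Y. Then for every finite morphism h : Y ⟶ X the
couple (Y, Y ×_X X₀), with the first projection as closed immersion, is again henselian. -/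
theorem result {X X₀ : Scheme.{u}}
    (i : X₀ ⟶ X) [IsClosedImmersion i]
    (hX : ∀ (Y : Scheme.{u}) (g : Y ⟶ X), IsFinite g →
      ∀ V : Set ↥(pullback g (i)), IsClopen V →
        ∃! U : Set ↥Y, IsClopen U ∧ (pullback.fst g (i)).base ⁻¹' U = V)
    {Y : Scheme.{u}} (h : Y ⟶ X) [IsFinite h] :
    ∀ (Z : Scheme.{u}) (g : Z ⟶ Y), IsFinite g →
      ∀ V : Set ↥(pullback g (pullback.fst h i)), IsClopen V →
        ∃! U : Set ↥Z, IsClopen U ∧ (pullback.fst g (pullback.fst h i)).base ⁻¹' U = V := by
  intro Z g hg V hV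
  have hfin : IsFinite (g ≫ h) := inferInstance
  obtain ⟨e, he⟩ : ∃ e : pullback g (pullback.fst h i) ≅ pullback (g ≫ h) i,
      e.hom ≫ pullback.fst (g ≫ h) i = pullback.fst g (pullback.fst h i) :=
    ⟨pullbackRightPullbackFstIso h i g, pullbackRightPullbackFstIso_hom_fst h i g⟩
  have h1 : ∀ x, e.inv.base (e.hom.base x) = x := fun x => by
    have := congrArg (fun k => k.base x) e.hom_inv_id
    exact this
  have h2 : ∀ x, e.hom.base (e.inv.base x) = x := fun x => by
    have := congrArg (fun k => k.base x) e.inv_hom_id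
    exact this
  have hfst : ∀ x, (pullback.fst g (pullback.fst h i)).base x =
      (pullback.fst (g ≫ h) i).base (e.hom.base x) := fun x => by
    rw [← he]; rfl
  have hV' : IsClopen (e.inv.base ⁻¹' V) := hV.preimage e.inv.continuous
  have key : ∀ U : Set ↥Z, (pullback.fst g (pullback.fst h i)).base ⁻¹' U = V ↔
      (pullback.fst (g ≫ h) i).base ⁻¹' U = e.inv.base ⁻¹' V := by
    intro U
    constructor
    · intro hU
      ext y
      simp only [Set.mem_preimage]
      rw [← hU, Set.mem_preimage, hfst, h2]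
    · intro hU
      ext x
      rw [Set.mem_preimage, hfst, ← Set.mem_preimage, hU, Set.mem_preimage, h1]
  obtain ⟨U, ⟨hU1, hU2⟩, hU3⟩ := hX Z (g ≫ h) hfin (e.inv.base ⁻¹' V) hV'
  refine ⟨U, ⟨hU1, (key U).mpr hU2⟩, ?_⟩
  rintro U' ⟨hU'1, hU'2⟩
  exact hU3 U' ⟨hU'1, (key U').mp hU'2⟩

end Groth.Agent.S17962
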