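import Groth.Statements.S17969
import Mathlib

set_option autoImplicit false
universe u
open scoped TensorProduct
open CAlg

namespace Groth.Agent.S17969

/-- Let A be an integrally closed domain with fraction field K and B a commutative A-algebra which is
finite and torsion-free as an A-module and generated as an A-algebra by a single element x. Let P be
the characteristic polynomial of multiplication by 1 ⊗ x on the finite free K-module K ⊗_A B. Then P
has coefficients in A, namely P is the image of a monic polynomial over A, and the kernel of the
A-algebra map A[T] → B sending T to x is generated by that polynomial, so that B is A[T]/(P). -/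
theorem result
    (A : Type u) [CommRing A] [IsDomain A] [IsIntegrallyClosed A]
    (B : Type u) [CommRing B] [Algebra A B] [Module.Finite A B] [NoZeroSMulDivisors A B]
    (x : B) (hx : Algebra.adjoin A {x} = ⊤) :
    ∃ P : Polynomial A, P.Monic ∧
      Polynomial.map (algebraMap A (FractionRing A)) P =
        (LinearMap.mulLeft (FractionRing A) ((1 : FractionRing A) ⊗ₜ[A] x)).charpoly ∧
      RingHom.ker (Polynomial.aeval x).toRingHom = Ideal.span {P} := by
  classical
  have hxint : IsIntegral A x := Algebra.IsIntegral.isIntegral x
  have hyint : IsIntegral (FractionRing A) ((1 : FractionRing A) ⊗ₜ[A] x) :=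
    Algebra.IsIntegral.isIntegral _
  -- `1 ⊗ x` generates `K ⊗ B` over `K`
  have htop : Algebra.adjoin (FractionRing A) {(1 : FractionRing A) ⊗ₜ[A] x} = ⊤ := by
    rw [eq_top_iff]
    rintro z -
    induction z using TensorProduct.induction_on with
    | zero => exact zero_mem _
    | add a b ha hb => exact add_mem ha hb
    | tmul k b =>
      have hb : b ∈ Algebra.adjoin A {x} := hx ▸ Algebra.mem_top
      have h1 : (1 : FractionRing A) ⊗ₜ[A] b ∈
          Algebra.adjoin (FractionRing A) {(1 : FractionRing A) ⊗ₜ[A] x} := by
        induction hb using Algebra.adjoin_induction with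
        | mem z hz =>
          rw [Set.mem_singleton_iff] at hz
          subst hz
          exact Algebra.subset_adjoin rfl
        | algebraMap a =>
          rw [Algebra.algebraMap_eq_smul_one, TensorProduct.tmul_smul,
            ← IsScalarTower.algebraMap_smul (FractionRing A) a]
          exact Subalgebra.smul_mem _ (one_mem _) _
        | add a b _ _ ha hb => rw [TensorProduct.tmul_add]; exact add_mem ha hb
        | mul a b _ _ ha hb =>
          have : (1 : FractionRing A) ⊗ₜ[A] (a * b) =
              ((1 : FractionRing A) ⊗ₜ[A] a) * ((1 : FractionRing A) ⊗ₜ[A] b) := by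
            rw [Algebra.TensorProduct.tmul_mul_tmul, one_mul]
          rw [this]
          exact mul_mem ha hb
      have h2 : k ⊗ₜ[A] b = k • ((1 : FractionRing A) ⊗ₜ[A] b) := by
        rw [TensorProduct.smul_tmul', smul_eq_mul, mul_one]
      rw [h2]
      exact Subalgebra.smul_mem _ h1 k
  -- the characteristic polynomial is the minimal polynomial
  have hchar : (LinearMap.mulLeft (FractionRing A) ((1 : FractionRing A) ⊗ₜ[A] x)).charpoly =
      minpoly (FractionRing A) ((1 : FractionRing A) ⊗ₜ[A] x) := by
    have h1 := charpoly_leftMulMatrix (PowerBasis.ofAdjoinEqTop hyint htop)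
    rw [PowerBasis.ofAdjoinEqTop_gen, Algebra.leftMulMatrix_apply, LinearMap.charpoly_toMatrix] at h1
    exact h1
  have haevalinc : ∀ q : Polynomial A, Polynomial.aeval ((1 : FractionRing A) ⊗ₜ[A] x) q =
      (1 : FractionRing A) ⊗ₜ[A] (Polynomial.aeval x q) := by
    intro q
    exact Polynomial.aeval_algHom_apply
      (Algebra.TensorProduct.includeRight : B →ₐ[A] FractionRing A ⊗[A] B) x q
  have hdvd : minpoly (FractionRing A) ((1 : FractionRing A) ⊗ₜ[A] x) ∣
      (minpoly A x).map (algebraMap A (FractionRing A)) := by
    apply minpoly.dvd
    rw [Polynomial.aeval_map_algebraMap, haevalinc, minpoly.aeval, TensorProduct.tmul_zero]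
  obtain ⟨P, hP⟩ := IsIntegrallyClosed.eq_map_mul_C_of_dvd (FractionRing A) (minpoly.monic hxint) hdvd
  rw [(minpoly.monic hyint).leadingCoeff, Polynomial.C_1, mul_one] at hP
  have hinjAK : Function.Injective (algebraMap A (FractionRing A)) :=
    IsFractionRing.injective A (FractionRing A)
  have hPmonic : P.Monic := by
    have := minpoly.monic hyint
    rw [← hP] at this
    exact Polynomial.monic_of_injective hinjAK this
  -- `B → K ⊗ B` is injective
  have hinjBL : ∀ b : B, (1 : FractionRing A) ⊗ₜ[A] b = 0 → b = 0 := by
    intro b hb
    have : IsLocalizedModule (nonZeroDivisors A) (TensorProduct.mk A (FractionRing A) B 1) :=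
      (isLocalizedModule_iff_isBaseChange (nonZeroDivisors A) (FractionRing A) _).mpr
        (TensorProduct.isBaseChange A B (FractionRing A))
    have hb' : TensorProduct.mk A (FractionRing A) B 1 b = 0 := hb
    rw [IsLocalizedModule.eq_zero_iff (nonZeroDivisors A)] at hb'
    obtain ⟨c, hc⟩ := hb'
    have hc' : (c : A) • b = 0 := hc
    rcases smul_eq_zero.mp hc' with h0 | h0
    · exact absurd h0 (nonZeroDivisors.ne_zero c.2)
    · exact h0
  have hPx : Polynomial.aeval x P = 0 := by
    apply hinjBL
    rw [← haevalinc, ← Polynomial.aeval_map_algebraMap (FractionRing A), hP, minpoly.aeval]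
  refine ⟨P, hPmonic, ?_, ?_⟩
  · rw [hP, hchar]
  · ext g
    rw [RingHom.mem_ker, Ideal.mem_span_singleton]
    constructor
    · intro hg
      change Polynomial.aeval x g = 0 at hg
      rw [← Polynomial.modByMonic_eq_zero_iff_dvd hPmonic]
      have hr : Polynomial.aeval x (g %ₘ P) = 0 := by
        have h1 := Polynomial.modByMonic_add_div g P
        have h2 : Polynomial.aeval x g =
            Polynomial.aeval x (g %ₘ P) + Polynomial.aeval x P * Polynomial.aeval x (g /ₘ P) := by
          rw [← map_mul, ← map_add, h1]
        rw [hPx, zero_mul, add_zero] at h2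
        rw [← h2]
        exact hg
      by_contra hne
      have hdeg : ((g %ₘ P).map (algebraMap A (FractionRing A))).degree <
          (minpoly (FractionRing A) ((1 : FractionRing A) ⊗ₜ[A] x)).degree := by
        rw [Polynomial.degree_map_eq_of_injective hinjAK, ← hP,
          Polynomial.degree_map_eq_of_injective hinjAK]
        exact Polynomial.degree_modByMonic_lt g hPmonic
      have hr' : Polynomial.aeval ((1 : FractionRing A) ⊗ₜ[A] x)
          ((g %ₘ P).map (algebraMap A (FractionRing A))) = 0 := by
        rw [Polynomial.aeval_map_algebraMap, haevalinc, hr, TensorProduct.tmul_zero]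
      have hzero := Polynomial.eq_zero_of_dvd_of_degree_lt
        (minpoly.dvd (FractionRing A) _ hr') hdeg
      exact hne ((Polynomial.map_eq_zero_iff hinjAK).mp hzero)
    · rintro ⟨q, rfl⟩
      change Polynomial.aeval x (P * q) = 0
      rw [map_mul, hPx, zero_mul]

end Groth.Agent.S17969
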