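import Groth.Statements.S17982
import Mathlib

set_option autoImplicit false
universe u
open Hensel

namespace Groth.Agent.S17982

/-- Let A be a local ring and B a commutative A-algebra which is finitely generated as an A-module. Then
B is ring-isomorphic to a finite product of local rings if and only if the canonical homomorphism
from B to the product of the localizations of B at its maximal ideals is bijective. -/
theorem result
    (A : Type u) [CommRing A] [IsLocalRing A] (B : Type u) [CommRing B] [Algebra A B] [Module.Finite A B] :
    (∃ (ι : Type u) (_ : Fintype ι) (C : ι → Type u) (_ : ∀ j, CommRing (C j)),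
        (∀ j, IsLocalRing (C j)) ∧ Nonempty (B ≃+* (∀ j, C j))) ↔
    Function.Bijective
      (RingHom.pi (fun n : MaximalSpectrum B => algebraMap B (Localization.AtPrime n.asIdeal))) := by
  classical
  have hfun : ∀ (S : Type u) [CommRing S],
      (⇑(RingHom.pi (fun n : MaximalSpectrum S =>
        algebraMap S (Localization.AtPrime n.asIdeal))) : S → _) =
      ⇑(MaximalSpectrum.toPiLocalization S) := by
    intro S _
    funext r
    funext I
    rfl
  rw [hfun B]
  constructor
  · rintro ⟨ι, hι, C, hC, hloc, ⟨e⟩⟩
    have hS : Function.Surjective (MaximalSpectrum.toPiLocalization (∀ j, C j)) := by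
      intro x
      have hmaxj : ∀ j, (Ideal.comap (Pi.evalRingHom C j)
          (IsLocalRing.maximalIdeal (C j))).IsMaximal :=
        fun j => (IsLocalRing.maximalIdeal.isMaximal (C j)).comap_piEvalRingHom
      have hsj : ∀ j, ∃ c : C j,
          algebraMap (C j) (Localization.AtPrime (IsLocalRing.maximalIdeal (C j))) c =
          Localization.AtPrime.mapPiEvalRingHom (IsLocalRing.maximalIdeal (C j))
            (x ⟨_, hmaxj j⟩) := by
        intro j
        have H : (IsLocalRing.maximalIdeal (C j)).primeCompl ≤ IsUnit.submonoid (C j) :=
          fun y hy => IsLocalRing.notMem_maximalIdeal.mp hy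
        let eq := IsLocalization.atUnits (C j) (IsLocalRing.maximalIdeal (C j)).primeCompl
          (S := Localization.AtPrime (IsLocalRing.maximalIdeal (C j))) H
        obtain ⟨c, hc⟩ := eq.surjective
          (Localization.AtPrime.mapPiEvalRingHom (IsLocalRing.maximalIdeal (C j))
            (x ⟨_, hmaxj j⟩))
        refine ⟨c, ?_⟩
        rw [← hc]
        exact (eq.commutes c).symm
      choose s hs using hsj
      refine ⟨s, ?_⟩
      funext n
      obtain ⟨j, q, hq⟩ := PrimeSpectrum.exists_comap_evalRingHom_eq
        (⟨n.asIdeal, n.isMaximal.isPrime⟩ : PrimeSpectrum (∀ j, C j))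
      have hq' : Ideal.comap (Pi.evalRingHom C j) q.asIdeal = n.asIdeal :=
        congrArg PrimeSpectrum.asIdeal hq
      have hle : n.asIdeal ≤ Ideal.comap (Pi.evalRingHom C j)
          (IsLocalRing.maximalIdeal (C j)) := by
        rw [← hq']
        exact Ideal.comap_mono (IsLocalRing.le_maximalIdeal q.isPrime.ne_top)
      have hn : n = ⟨_, hmaxj j⟩ :=
        MaximalSpectrum.ext (n.isMaximal.eq_of_le (hmaxj j).ne_top hle)
      subst hn
      apply (Localization.AtPrime.mapPiEvalRingHom_bijective
        (IsLocalRing.maximalIdeal (C j))).1
      rw [← hs j]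
      exact Localization.AtPrime.mapPiEvalRingHom_algebraMap_apply _
    have hSb : Function.Bijective (MaximalSpectrum.toPiLocalization (∀ j, C j)) :=
      ⟨MaximalSpectrum.toPiLocalization_injective _, hS⟩
    have hnat := MaximalSpectrum.mapPiLocalization_naturality (e : B →+* (∀ j, C j)) e.bijective
    have hmb := MaximalSpectrum.mapPiLocalization_bijective (e : B →+* (∀ j, C j)) e.bijective
    have h1 : Function.Bijective
        (⇑(MaximalSpectrum.mapPiLocalization (e : B →+* (∀ j, C j)) e.bijective) ∘
          ⇑(MaximalSpectrum.toPiLocalization B)) := by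
      have h2 : ⇑(MaximalSpectrum.mapPiLocalization (e : B →+* (∀ j, C j)) e.bijective) ∘
          ⇑(MaximalSpectrum.toPiLocalization B) =
          ⇑(MaximalSpectrum.toPiLocalization (∀ j, C j)) ∘ ⇑e := by
        funext b
        exact RingHom.congr_fun hnat b
      rw [h2]
      exact hSb.comp e.bijective
    exact (Function.Bijective.of_comp_iff' hmb _).mp h1
  · intro hbij
    haveI : Finite (MaximalSpectrum B) :=
      MaximalSpectrum.finite_of_toPiLocalization_surjective hbij.2
    exact ⟨MaximalSpectrum B, Fintype.ofFinite _, fun n => Localization.AtPrime n.asIdeal,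
      fun n => inferInstance, fun n => inferInstance,
      ⟨RingEquiv.ofBijective (MaximalSpectrum.toPiLocalization B : B →+* _) hbij⟩⟩

end Groth.Agent.S17982
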