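import Groth.Statements.S17970
import Mathlib
import Groth.Agent.Lib.Helper12.FinLocDecomp
import Groth.Agent.S17982

set_option autoImplicit false
universe u
open Hensel

namespace Groth.Agent.S17970

/-- Let A be a local ring with maximal ideal m and B a commutative A-algebra which is finitely generated
as an A-module. Then B is ring-isomorphic to a finite product of local rings if and only if every
idempotent of B/mB is the image of an idempotent of B. (Reduction modulo mB is always injective on
the idempotents of B, because mB lies in the Jacobson radical of B; so this surjectivity amounts to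
the bijectivity on idempotents in the printed assertion.) -/
theorem result
    (A : Type u) [CommRing A] [IsLocalRing A] (B : Type u) [CommRing B] [Algebra A B] [Module.Finite A B] :
    (∃ (ι : Type u) (_ : Fintype ι) (C : ι → Type u) (_ : ∀ j, CommRing (C j)),
        (∀ j, IsLocalRing (C j)) ∧ Nonempty (B ≃+* (∀ j, C j))) ↔
      Set.SurjOn (Ideal.Quotient.mk (Ideal.map (algebraMap A B) (IsLocalRing.maximalIdeal A)))
        {e : B | IsIdempotentElem e} {e | IsIdempotentElem e} := by
  constructor
  · rintro ⟨ι, hι, C, hC, hloc, ⟨e⟩⟩
    intro ebar hebar
    obtain ⟨b, rfl⟩ := Ideal.Quotient.mk_surjective ebar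
    have hb : b * b - b ∈ Ideal.map (algebraMap A B) (IsLocalRing.maximalIdeal A) := by
      rw [← Ideal.Quotient.eq_zero_iff_mem, map_sub, map_mul, sub_eq_zero]
      exact hebar
    obtain ⟨g, hg, hgb⟩ := Groth.Agent.Helper12.FinLocDecomp.lift_idem_of_equiv e _ b hb
    exact ⟨g, hg, Ideal.Quotient.eq.mpr hgb⟩
  · intro hlift
    have hbij : Function.Bijective (MaximalSpectrum.toPiLocalization B) :=
      ⟨MaximalSpectrum.toPiLocalization_injective B,
        Groth.Agent.Helper12.FinLocDecomp.toPi_surjective hlift⟩
    refine (Groth.Agent.S17982.result A B).mpr ?_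
    have hfun : (⇑(RingHom.pi (fun n : MaximalSpectrum B =>
        algebraMap B (Localization.AtPrime n.asIdeal))) : B → _) =
        ⇑(MaximalSpectrum.toPiLocalization B) := by
      funext r
      funext I
      rfl
    rw [hfun]
    exact hbij

end Groth.Agent.S17970
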