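import Groth.Statements.S17972
import Mathlib
import Groth.Agent.H11.HensEtale

set_option autoImplicit false
universe u
open Hensel

namespace Groth.Agent.S17972

/-- Let A be a henselian local ring with maximal ideal m, let P_1, …, P_n be polynomials over A in n
variables and a₀ ∈ A^n a point with P_i(a₀) ∈ m for all i whose Jacobian determinant
det(∂P_i/∂T_j)(a₀) is a unit of A, i.e. nonzero in the residue field. Then there is a ∈ A^n
congruent to a₀ modulo m in each coordinate with P_i(a) = 0 for all i. -/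
theorem result
    (A : Type u) [CommRing A] [HenselianLocalRing A] (n : ℕ)
    (P : Fin n → MvPolynomial (Fin n) A) (a₀ : Fin n → A)
    (h₀ : ∀ i, MvPolynomial.eval a₀ (P i) ∈ IsLocalRing.maximalIdeal A)
    (hJ : IsUnit (Matrix.of (fun i j => MvPolynomial.eval a₀ (MvPolynomial.pderiv j (P i)))).det) :
    ∃ a : Fin n → A, (∀ i, MvPolynomial.eval a (P i) = 0) ∧
      ∀ j, a j - a₀ j ∈ IsLocalRing.maximalIdeal A := by
  classical
  obtain ⟨Pn, hjac, hval⟩ : ∃ Pn : Algebra.PreSubmersivePresentation A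
      (MvPolynomial (Fin n) A ⧸ Ideal.span (Set.range P)) (Fin n) (Fin n),
      (∀ i j, Pn.jacobiMatrix i j = MvPolynomial.pderiv i (P j)) ∧
      (∀ i, Pn.val i = Ideal.Quotient.mk _ (MvPolynomial.X i)) :=
    ⟨Algebra.PreSubmersivePresentation.naive id Function.injective_id,
      fun i j => Algebra.PreSubmersivePresentation.jacobiMatrix_naive _ _ _ _ i j, fun i => rfl⟩
  -- evaluation at the residue of a₀
  obtain ⟨ev₀, hev₀⟩ : ∃ ev₀ : MvPolynomial (Fin n) A →ₐ[A] IsLocalRing.ResidueField A,
      ∀ p, ev₀ p = IsLocalRing.residue A (MvPolynomial.eval a₀ p) := by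
    refine ⟨MvPolynomial.aeval (fun i => IsLocalRing.residue A (a₀ i)), fun p => ?_⟩
    rw [MvPolynomial.aeval_def]
    show _ = IsLocalRing.residue A (MvPolynomial.eval₂ (RingHom.id A) a₀ p)
    rw [MvPolynomial.eval₂_comp_left]
    rfl
  have hI : ∀ x ∈ Ideal.span (Set.range P), ev₀ x = 0 := by
    intro x hx
    have : Ideal.span (Set.range P) ≤ RingHom.ker ev₀.toRingHom := by
      rw [Ideal.span_le]
      rintro _ ⟨i, rfl⟩
      show ev₀ (P i) = 0
      rw [hev₀]
      exact (IsLocalRing.residue_eq_zero_iff _).mpr (h₀ i)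
    exact this hx
  obtain ⟨φB, hφB⟩ : ∃ φB : (MvPolynomial (Fin n) A ⧸ Ideal.span (Set.range P)) →ₐ[A]
      IsLocalRing.ResidueField A, ∀ p, φB (Ideal.Quotient.mk _ p) = ev₀ p :=
    ⟨Ideal.Quotient.liftₐ _ ev₀ hI, fun p => rfl⟩
  -- the image of the jacobian in the residue field
  have hcomp : ∀ p : MvPolynomial (Fin n) A, φB (algebraMap Pn.Ring _ p) = ev₀ p := by
    intro p
    have h1 : (φB.comp (IsScalarTower.toAlgHom A Pn.Ring _)) = ev₀ := by
      apply MvPolynomial.algHom_ext
      intro i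
      show φB (algebraMap Pn.Ring _ (MvPolynomial.X i)) = ev₀ (MvPolynomial.X i)
      rw [Algebra.Generators.algebraMap_apply, MvPolynomial.aeval_X, hval, hφB]
    exact AlgHom.congr_fun h1 p
  have hΔk : IsUnit (φB Pn.jacobian) := by
    rw [Algebra.PreSubmersivePresentation.jacobian_eq_jacobiMatrix_det, hcomp, hev₀,
      RingHom.map_det]
    have h2 : (MvPolynomial.eval a₀).mapMatrix Pn.jacobiMatrix =
        Matrix.transpose (Matrix.of (fun i j => MvPolynomial.eval a₀ (MvPolynomial.pderiv j (P i)))) := by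
      ext i j
      simp [hjac]
    rw [h2, Matrix.det_transpose]
    exact hJ.map _
  -- the étale algebra E = B[1/Δ]
  have hΔ : IsUnit (algebraMap (MvPolynomial (Fin n) A ⧸ Ideal.span (Set.range P))
      (Localization.Away Pn.jacobian) Pn.jacobian) :=
    IsLocalization.Away.algebraMap_isUnit _
  let PS : Algebra.SubmersivePresentation A (Localization.Away Pn.jacobian) _ _ :=
    { toPreSubmersivePresentation :=
        .comp (.localizationAway (Localization.Away Pn.jacobian) Pn.jacobian) Pn,
      jacobian_isUnit := by simpa [Algebra.smul_def, -isUnit_map_iff, hΔ] }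
  have hstd : Algebra.IsStandardSmoothOfRelativeDimension 0 A (Localization.Away Pn.jacobian) :=
    ⟨_, _, _, inferInstance, PS, by
      simp only [Algebra.PreSubmersivePresentation.dimension_comp_eq_dimension_add_dimension, PS]
      simp [Algebra.Presentation.dimension]⟩
  have het : Algebra.Etale A (Localization.Away Pn.jacobian) := inferInstance
  obtain ⟨ψ, hψ⟩ : ∃ ψ : Localization.Away Pn.jacobian →ₐ[A] IsLocalRing.ResidueField A,
      ∀ b, ψ (algebraMap _ _ b) = φB b :=
    ⟨IsLocalization.Away.liftAlgHom Pn.jacobian (f := φB) hΔk, fun b => by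
      rw [IsLocalization.Away.liftAlgHom_apply, IsLocalization.Away.lift_eq]
      rfl⟩
  obtain ⟨q, hq⟩ : ∃ q : Ideal (Localization.Away Pn.jacobian), q = RingHom.ker ψ.toRingHom :=
    ⟨_, rfl⟩
  have hqprime : q.IsPrime := hq ▸ RingHom.ker_isPrime _
  have hqmem : ∀ x, x ∈ q ↔ ψ x = 0 := fun x => by rw [hq]; exact RingHom.mem_ker
  obtain ⟨τ, hτ⟩ : ∃ τ : q.ResidueField →+* IsLocalRing.ResidueField A,
      ∀ x, τ (algebraMap _ _ x) = ψ x := by
    refine ⟨Ideal.ResidueField.lift q ψ.toRingHom (fun x hx => (hqmem x).mp hx) ?_, fun x => ?_⟩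
    · intro x hx
      show IsUnit (ψ x)
      rw [isUnit_iff_ne_zero]
      intro h0
      exact hx ((hqmem x).mpr h0)
    · exact Ideal.ResidueField.lift_algebraMap _ _ _ _ x
  have hτcomp : τ.comp (algebraMap A q.ResidueField) =
      (IsLocalRing.residue A).comp (algebraMap A A) := by
    ext r
    show τ (algebraMap A q.ResidueField r) = IsLocalRing.residue A r
    rw [IsScalarTower.algebraMap_apply A (Localization.Away Pn.jacobian) q.ResidueField, hτ,
      AlgHom.commutes]
    rfl
  obtain ⟨f, ⟨-, hf⟩, -⟩ := Groth.Agent.H11.HensEt.existsUnique_algHom A A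
    (Localization.Away Pn.jacobian) q τ hτcomp
  have hres : ∀ p : MvPolynomial (Fin n) A,
      IsLocalRing.residue A (f (algebraMap _ _ (Ideal.Quotient.mk (Ideal.span (Set.range P)) p))) =
        ev₀ p := by
    intro p
    rw [hf, hτ, hψ, hφB]
  obtain ⟨g, hg⟩ : ∃ g : MvPolynomial (Fin n) A →ₐ[A] A,
      ∀ p, g p = f (algebraMap _ _ (Ideal.Quotient.mk (Ideal.span (Set.range P)) p)) :=
    ⟨f.comp ((IsScalarTower.toAlgHom A (MvPolynomial (Fin n) A ⧸ Ideal.span (Set.range P))
      (Localization.Away Pn.jacobian)).comp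
      (Ideal.Quotient.mkₐ A (Ideal.span (Set.range P)))), fun p => rfl⟩
  refine ⟨fun j => g (MvPolynomial.X j), fun i => ?_, fun j => ?_⟩
  · have h3 : g = MvPolynomial.aeval (fun j => g (MvPolynomial.X j)) := by
      apply MvPolynomial.algHom_ext
      intro j
      rw [MvPolynomial.aeval_X]
    have h4 : MvPolynomial.eval (fun j => g (MvPolynomial.X j)) (P i) = g (P i) := by
      conv_rhs => rw [h3]
      exact (RingHom.congr_fun (MvPolynomial.coe_aeval_eq_eval _) (P i)).symm
    rw [h4, hg]
    have h5 : Ideal.Quotient.mk (Ideal.span (Set.range P)) (P i) = 0 :=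
      Ideal.Quotient.eq_zero_iff_mem.mpr (Ideal.subset_span ⟨i, rfl⟩)
    rw [h5, map_zero, map_zero]
  · show g (MvPolynomial.X j) - a₀ j ∈ _
    rw [← IsLocalRing.residue_eq_zero_iff, map_sub, hg, hres, hev₀, MvPolynomial.eval_X, sub_self]

end Groth.Agent.S17972
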