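import Groth.Statements.S17973
import Groth.Agent.Lib.Helper12.EssEt2

set_option autoImplicit false
universe u
open EGA4loc

namespace Groth.Agent.S17973

/-- Let A be a local ring, B a local ring which is a local-etale A-algebra (isomorphic over A to the
localization of an etale A-algebra at a prime ideal lying over the maximal ideal of A), and C a
local-etale B-algebra, regarded as an A-algebra through B. Then C is a local-etale A-algebra. -/
theorem result (A : Type u) [CommRing A] [IsLocalRing A]
    (B : Type u) [CommRing B] [IsLocalRing B] [Algebra A B]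
    (C : Type u) [CommRing C] [Algebra B C] [Algebra A C] [IsScalarTower A B C]
    (hB : EGA4loc.IsEssentiallyEtale A B) (hC : EGA4loc.IsEssentiallyEtale B C) :
    EGA4loc.IsEssentiallyEtale A C := by
  obtain ⟨hUB, hFB, hLB⟩ := Groth.Agent.Helper12.essEt_props A B hB
  obtain ⟨C1, _, _, q, _, hEt1, hq, ⟨e1⟩⟩ := hB
  obtain ⟨D, _, _, r, _, hEtD, hr, ⟨e2⟩⟩ := hC
  let algC1B : Algebra C1 B :=
    (e1.symm.toAlgHom.toRingHom.comp (algebraMap C1 (Localization.AtPrime q))).toAlgebra
  have htow1 : IsScalarTower A C1 B := IsScalarTower.of_algebraMap_eq fun a => by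
    change _ = e1.symm (algebraMap C1 (Localization.AtPrime q) (algebraMap A C1 a))
    rw [← IsScalarTower.algebraMap_apply A C1 (Localization.AtPrime q), e1.symm.commutes]
  let e1' : Localization.AtPrime q ≃ₐ[C1] B :=
    AlgEquiv.ofRingEquiv (f := e1.symm.toRingEquiv) (fun x => rfl)
  have hlocB : IsLocalization q.primeCompl B :=
    IsLocalization.isLocalization_of_algEquiv q.primeCompl e1'
  let algAD : Algebra A D := ((algebraMap B D).comp (algebraMap A B)).toAlgebra
  have htowABD : IsScalarTower A B D := IsScalarTower.of_algebraMap_eq' rfl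
  let algC1D : Algebra C1 D := ((algebraMap B D).comp (algebraMap C1 B)).toAlgebra
  have htowC1BD : IsScalarTower C1 B D := IsScalarTower.of_algebraMap_eq' rfl
  have htowAC1D : IsScalarTower A C1 D := IsScalarTower.of_algebraMap_eq fun a => by
    change algebraMap B D (algebraMap A B a) =
      algebraMap B D (algebraMap C1 B (algebraMap A C1 a))
    rw [← IsScalarTower.algebraMap_apply A C1 B]
  have hfpBD : Algebra.FinitePresentation B D := inferInstance
  obtain ⟨T₀, _, algC1T₀, algT₀D, htowC1T₀D, hfp, hlocD⟩ :=
    Groth.Agent.Helper12.exists_fp_model_of_isLocalization q.primeCompl B D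
  let algAT₀ : Algebra A T₀ := ((algebraMap C1 T₀).comp (algebraMap A C1)).toAlgebra
  have htowAC1T₀ : IsScalarTower A C1 T₀ := IsScalarTower.of_algebraMap_eq' rfl
  have hfpA : Algebra.FinitePresentation A T₀ := Algebra.FinitePresentation.trans A C1 T₀
  have htowAT₀D : IsScalarTower A T₀ D := IsScalarTower.of_algebraMap_eq fun a => by
    change _ = algebraMap T₀ D (algebraMap C1 T₀ (algebraMap A C1 a))
    rw [← IsScalarTower.algebraMap_apply C1 T₀ D, ← IsScalarTower.algebraMap_apply A C1 D]
  have hlocr : IsLocalization.AtPrime (Localization.AtPrime r) (r.comap (algebraMap T₀ D)) :=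
    IsLocalization.isLocalization_isLocalization_atPrime_isLocalization
      (Algebra.algebraMapSubmonoid T₀ q.primeCompl) (Localization.AtPrime r) r
  let ε : Localization.AtPrime (r.comap (algebraMap T₀ D)) ≃ₐ[T₀] Localization.AtPrime r :=
    IsLocalization.algEquiv (r.comap (algebraMap T₀ D)).primeCompl _ _
  have hfe1 : Algebra.FormallyEtale A (Localization.AtPrime q) := by
    have : Algebra.FormallyEtale C1 (Localization.AtPrime q) :=
      Algebra.FormallyEtale.of_isLocalization q.primeCompl
    exact Algebra.FormallyEtale.comp A C1 _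
  have hfeB : Algebra.FormallyEtale A B := Algebra.FormallyEtale.of_equiv e1.symm
  have hfeD : Algebra.FormallyEtale A D := Algebra.FormallyEtale.comp A B D
  have hfeLr : Algebra.FormallyEtale A (Localization.AtPrime r) := by
    have : Algebra.FormallyEtale D (Localization.AtPrime r) :=
      Algebra.FormallyEtale.of_isLocalization r.primeCompl
    exact Algebra.FormallyEtale.comp A D _
  have hfeL0 : Algebra.FormallyEtale A (Localization.AtPrime (r.comap (algebraMap T₀ D))) :=
    Algebra.FormallyEtale.of_equiv (ε.restrictScalars A).symm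
  have hpA : (r.comap (algebraMap T₀ D)).comap (algebraMap A T₀) =
      IsLocalRing.maximalIdeal A := by
    rw [Ideal.comap_comap, ← IsScalarTower.algebraMap_eq A T₀ D,
      IsScalarTower.algebraMap_eq A B D, ← Ideal.comap_comap, hr]
    exact ((IsLocalRing.local_hom_TFAE (algebraMap A B)).out 0 4 rfl rfl).mp hLB
  exact Groth.Agent.Helper12.essEt_of_fp_atPrime A T₀ _ hpA C
    ((e2.restrictScalars A).trans (ε.restrictScalars A).symm)

end Groth.Agent.S17973
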