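import Groth.Statements.S17974
import Mathlib

set_option autoImplicit false
universe u
open Unram

namespace Groth.Agent.S17974

/-- Let A be a commutative ring, B an unramified A-algebra (formally unramified and of finite type), C
an A-algebra, p a prime ideal of C, and u, v : B → C two A-algebra homomorphisms which agree after
composition with C → C/p. Then there is an element f of C not in p such that u and v agree after
composition with the localization map C → C[1/f]. -/
theorem result
    (A : Type u) [CommRing A] (B : Type u) [CommRing B] [Algebra A B]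
    [Algebra.FormallyUnramified A B] [Algebra.FiniteType A B]
    (C : Type u) [CommRing C] [Algebra A C] (p : Ideal C) [p.IsPrime]
    (u v : B →ₐ[A] C)
    (huv : (Ideal.Quotient.mk p).comp u.toRingHom = (Ideal.Quotient.mk p).comp v.toRingHom) :
    ∃ f : C, f ∉ p ∧
      (algebraMap C (Localization.Away f)).comp u.toRingHom =
        (algebraMap C (Localization.Away f)).comp v.toRingHom := by
  classical
  have hJfg : (KaehlerDifferential.ideal A B).FG := KaehlerDifferential.ideal_fg A B
  have hsub : Subsingleton (KaehlerDifferential.ideal A B).Cotangent :=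
    (inferInstance : Subsingleton (KaehlerDifferential A B))
  have hJid : IsIdempotentElem (KaehlerDifferential.ideal A B) :=
    (Ideal.cotangent_subsingleton_iff _).mp hsub
  obtain ⟨e, he, hJe⟩ := (Ideal.isIdempotentElem_iff_of_fg _ hJfg).mp hJid
  obtain ⟨w, hw⟩ : ∃ w : TensorProduct A B B →ₐ[A] C, ∀ b b' : B, w (b ⊗ₜ[A] b') = u b * v b' :=
    ⟨Algebra.TensorProduct.lift u v (fun _ _ => Commute.all _ _),
      fun b b' => Algebra.TensorProduct.lift_tmul _ _ _ _ _⟩
  have huv' : ∀ b : B, v b - u b ∈ p := by
    intro b
    have h1 := RingHom.congr_fun huv b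
    simp only [RingHom.comp_apply] at h1
    have h2 : Ideal.Quotient.mk p (v b - u b) = 0 := by
      rw [map_sub]
      exact sub_eq_zero.mpr h1.symm
    exact Ideal.Quotient.eq_zero_iff_mem.mp h2
  have hwJ : ∀ x ∈ KaehlerDifferential.ideal A B, w x ∈ p := by
    intro x hx
    rw [← KaehlerDifferential.span_range_eq_ideal] at hx
    refine Submodule.span_induction ?_ ?_ ?_ ?_ hx
    · rintro _ ⟨s, rfl⟩
      change w ((1 : B) ⊗ₜ[A] s - s ⊗ₜ[A] (1 : B)) ∈ p
      rw [map_sub, hw, hw, map_one, map_one, one_mul, mul_one]
      exact huv' s
    · rw [map_zero]; exact zero_mem _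
    · intro a b _ _ ha hb
      rw [map_add]; exact add_mem ha hb
    · intro a b _ hb
      rw [smul_eq_mul, map_mul]; exact Ideal.mul_mem_left _ _ hb
  have heJ : e ∈ KaehlerDifferential.ideal A B := by
    rw [hJe]; exact Submodule.mem_span_singleton_self e
  have hwe : w e ∈ p := hwJ e heJ
  have hwe_idem : w e * w e = w e := by rw [← map_mul, he.eq]
  refine ⟨1 - w e, ?_, ?_⟩
  · intro hf
    apply (inferInstance : p.IsPrime).ne_top
    rw [Ideal.eq_top_iff_one]
    have := add_mem hf hwe
    simpa using this
  · have hunit : IsUnit (algebraMap C (Localization.Away (1 - w e)) (1 - w e)) :=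
      IsLocalization.Away.algebraMap_isUnit (1 - w e)
    have hzero : algebraMap C (Localization.Away (1 - w e)) (w e) = 0 := by
      have h1 : algebraMap C (Localization.Away (1 - w e)) (w e) *
          algebraMap C (Localization.Away (1 - w e)) (1 - w e) = 0 := by
        rw [← map_mul, mul_sub, mul_one, hwe_idem, sub_self, map_zero]
      exact (hunit.mul_left_eq_zero).mp h1
    refine RingHom.ext fun b => ?_
    simp only [RingHom.comp_apply]
    have hx : (1 : B) ⊗ₜ[A] b - b ⊗ₜ[A] (1 : B) ∈ KaehlerDifferential.ideal A B := by
      rw [← KaehlerDifferential.span_range_eq_ideal]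
      exact Ideal.subset_span ⟨b, rfl⟩
    rw [hJe] at hx
    obtain ⟨a, ha⟩ := Ideal.mem_span_singleton'.mp hx
    have h2 : v b - u b = w a * w e := by
      have := congrArg w ha
      rw [map_mul, map_sub, hw, hw, map_one, map_one, one_mul, mul_one] at this
      exact this.symm
    have h3 : algebraMap C (Localization.Away (1 - w e)) (v b - u b) = 0 := by
      rw [h2, map_mul, hzero, mul_zero]
    rw [map_sub, sub_eq_zero] at h3
    exact h3.symm

end Groth.Agent.S17974
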