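import Groth.Statements.S17975
import Mathlib

set_option autoImplicit false
universe u
open Hensel

namespace Groth.Agent.S17975

open Polynomial in
/-- Let A be a local ring with maximal ideal m and residue field k, C a commutative A-algebra which is
finitely generated as an A-module, Q₀ a monic polynomial of degree n over k, e an A-algebra
isomorphism from C/mC to k[T]/(Q₀), and x an element of C whose class is sent by e to the class of
T. Then x generates C as an A-algebra, and x is a root of a monic polynomial Q over A of degree n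
whose reduction modulo m equals Q₀. -/
theorem result
    (A : Type u) [CommRing A] [IsLocalRing A] (C : Type u) [CommRing C] [Algebra A C] [Module.Finite A C]
    (Q₀ : Polynomial (IsLocalRing.ResidueField A)) (hQ₀ : Q₀.Monic)
    (e : (C ⧸ Ideal.map (algebraMap A C) (IsLocalRing.maximalIdeal A)) ≃ₐ[A] AdjoinRoot Q₀)
    (x : C) (hx : e (Ideal.Quotient.mk (Ideal.map (algebraMap A C) (IsLocalRing.maximalIdeal A)) x) = AdjoinRoot.root Q₀) :
    Algebra.adjoin A {x} = ⊤ ∧
      ∃ Q : Polynomial A, Q.Monic ∧ Q.natDegree = Q₀.natDegree ∧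
        Polynomial.map (IsLocalRing.residue A) Q = Q₀ ∧ Polynomial.aeval x Q = 0 := by
  classical
  set n := Q₀.natDegree with hn
  -- evaluation of `e` on polynomial expressions in `x`
  have hroot : ∀ P : A[X], e (Ideal.Quotient.mk (Ideal.map (algebraMap A C) (IsLocalRing.maximalIdeal A)) (aeval x P)) =
      AdjoinRoot.mk Q₀ (P.map (IsLocalRing.residue A)) := by
    intro P
    have h1 : Ideal.Quotient.mk (Ideal.map (algebraMap A C) (IsLocalRing.maximalIdeal A)) (aeval x P) = aeval (Ideal.Quotient.mk (Ideal.map (algebraMap A C) (IsLocalRing.maximalIdeal A)) x) P :=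
      (Polynomial.aeval_algHom_apply (Ideal.Quotient.mkₐ A (Ideal.map (algebraMap A C) (IsLocalRing.maximalIdeal A))) x P).symm
    have h2 : e (aeval (Ideal.Quotient.mk (Ideal.map (algebraMap A C) (IsLocalRing.maximalIdeal A)) x) P) = aeval (e (Ideal.Quotient.mk (Ideal.map (algebraMap A C) (IsLocalRing.maximalIdeal A)) x)) P :=
      (Polynomial.aeval_algHom_apply e.toAlgHom (Ideal.Quotient.mk (Ideal.map (algebraMap A C) (IsLocalRing.maximalIdeal A)) x) P).symm
    rw [h1, h2, hx, AdjoinRoot.aeval_eq_of_algebra]
    rfl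
  -- the span of `1, x, …, x^(n-1)`
  set N : Submodule A C := Submodule.span A (Set.range fun i : Fin n => x ^ (i : ℕ)) with hN
  have hNtop : N = ⊤ := by
    rw [eq_top_iff]
    apply Submodule.le_of_le_smul_of_le_jacobson_bot (I := IsLocalRing.maximalIdeal A) Module.Finite.fg_top
      (IsLocalRing.maximalIdeal_le_jacobson ⊥)
    intro c _
    obtain ⟨P₀, hP₀⟩ := AdjoinRoot.mk_surjective (e (Ideal.Quotient.mk (Ideal.map (algebraMap A C) (IsLocalRing.maximalIdeal A)) c))
    have hmod : AdjoinRoot.mk Q₀ P₀ = AdjoinRoot.mk Q₀ (P₀ %ₘ Q₀) := by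
      rw [AdjoinRoot.mk_eq_mk]
      refine ⟨P₀ /ₘ Q₀, ?_⟩
      have := Polynomial.modByMonic_add_div P₀ Q₀
      linear_combination (-1 : (IsLocalRing.ResidueField A)[X]) * this
    have hlift : P₀ %ₘ Q₀ ∈ Polynomial.lifts (IsLocalRing.residue A) := by
      rw [Polynomial.mem_lifts]
      exact Polynomial.map_surjective _ IsLocalRing.residue_surjective _
    obtain ⟨P, hP, hPdeg⟩ := Polynomial.exists_degree_eq_of_mem_lifts hlift
    have hPn : P.natDegree < n ∨ n = 0 := by
      rcases Nat.eq_zero_or_pos n with h0 | hpos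
      · exact Or.inr h0
      · left
        by_cases hP0 : P = 0
        · rw [hP0]; simpa using hpos
        · have h3 : (P₀ %ₘ Q₀).degree < Q₀.degree := Polynomial.degree_modByMonic_lt _ hQ₀
          rw [← hPdeg, Polynomial.degree_eq_natDegree hP0,
            Polynomial.degree_eq_natDegree hQ₀.ne_zero] at h3
          exact_mod_cast h3
    have hcP : c - aeval x P ∈ (Ideal.map (algebraMap A C) (IsLocalRing.maximalIdeal A)) := by
      rw [← Ideal.Quotient.eq]
      apply e.injective
      rw [hroot, hP, ← hmod, hP₀]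
    have hcP' : c - aeval x P ∈ IsLocalRing.maximalIdeal A • (⊤ : Submodule A C) := by
      rw [Ideal.smul_top_eq_map]
      exact hcP
    have hPN : aeval x P ∈ N := by
      rcases hPn with hlt | h0
      · rw [Polynomial.aeval_eq_sum_range' hlt]
        refine Submodule.sum_mem _ fun i hi => ?_
        apply Submodule.smul_mem
        apply Submodule.subset_span
        exact ⟨⟨i, Finset.mem_range.mp hi⟩, rfl⟩
      · -- `n = 0`: then `Q₀ = 1` and everything is zero modulo `m`
        have hQ1 : Q₀ = 1 := by
          have : Q₀.natDegree = 0 := h0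
          exact hQ₀.natDegree_eq_zero.mp this
        have hP0 : P₀ %ₘ Q₀ = 0 := by rw [hQ1]; exact Polynomial.modByMonic_one _
        have : P = 0 := by
          have hd : P.degree = ⊥ := by rw [hPdeg, hP0, Polynomial.degree_zero]
          exact Polynomial.degree_eq_bot.mp hd
        rw [this, map_zero]
        exact zero_mem _
    have : c = aeval x P + (c - aeval x P) := by ring
    rw [this]
    exact Submodule.add_mem_sup hPN hcP'
  have hNle : N ≤ Subalgebra.toSubmodule (Algebra.adjoin A {x}) := by
    rw [hN, Submodule.span_le]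
    rintro _ ⟨i, rfl⟩
    exact Subalgebra.pow_mem _ (Algebra.self_mem_adjoin_singleton A x) _
  refine ⟨?_, ?_⟩
  · rw [eq_top_iff]
    intro c _
    exact hNle (hNtop ▸ Submodule.mem_top)
  · have hxn : x ^ n ∈ N := hNtop ▸ Submodule.mem_top
    obtain ⟨a, ha⟩ := (Submodule.mem_span_range_iff_exists_fun A).mp hxn
    set r : A[X] := -∑ i : Fin n, Polynomial.C (a i) * X ^ (i : ℕ) with hr
    have hrdeg : r.degree < n := by
      rw [hr, Polynomial.degree_neg]
      rw [Polynomial.degree_lt_iff_coeff_zero]
      intro k hk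
      simp only [Polynomial.finsetSum_coeff, Polynomial.coeff_C_mul_X_pow]
      refine Finset.sum_eq_zero fun i _ => ?_
      have : (i : ℕ) < n := i.2
      have hne : ¬ (k = (i : ℕ)) := by omega
      rw [if_neg hne]
    set Q : A[X] := X ^ n + r with hQ
    have hQmonic : Q.Monic := Polynomial.monic_X_pow_add hrdeg
    have hQdeg : Q.natDegree = n := by
      rcases subsingleton_or_nontrivial A with hs | hnt
      · exact absurd (IsLocalRing.toNontrivial (R := A)) (not_nontrivial_iff_subsingleton.mpr hs)
      · rw [hQ, Polynomial.natDegree_add_eq_left_of_degree_lt]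
        · exact Polynomial.natDegree_X_pow n
        · rw [Polynomial.degree_X_pow]; exact hrdeg
    have hQx : aeval x Q = 0 := by
      rw [hQ, hr, map_add, map_neg, map_sum, map_pow, aeval_X, ← ha]
      simp only [map_mul, aeval_C, map_pow, aeval_X, Algebra.smul_def]
      ring
    refine ⟨Q, hQmonic, hQdeg, ?_, hQx⟩
    have hdvd : Q₀ ∣ Q.map (IsLocalRing.residue A) := by
      rw [← AdjoinRoot.mk_eq_zero, ← hroot, hQx, map_zero, map_zero]
    have hdeg' : (Q.map (IsLocalRing.residue A)).natDegree ≤ Q₀.natDegree := by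
      rw [hQmonic.natDegree_map, hQdeg]
    exact Polynomial.eq_of_monic_of_dvd_of_natDegree_le hQ₀
      (hQmonic.map _) hdvd hdeg'

end Groth.Agent.S17975
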