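import Groth.Statements.S17978
import Groth.Agent.Lib.Helper12.EssEt

set_option autoImplicit false
universe u
open EGA4loc

namespace Groth.Agent.S17978

/-- Let A be a local ring, B a local ring which is a local-etale A-algebra, and C a local ring with a
local structure map A → C. Then two A-algebra homomorphisms B → C which agree after composition with
the residue map of C are equal; in other words an A-algebra map B → C is determined by the map it
induces on residue fields. (The source states this for local ind-etale B and reduces to the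
local-etale case stated here; C is an arbitrary local A-algebra with local structure map.) -/
theorem result (A : Type u) [CommRing A] [IsLocalRing A]
    (B : Type u) [CommRing B] [IsLocalRing B] [Algebra A B] (hB : EGA4loc.IsEssentiallyEtale A B)
    (C : Type u) [CommRing C] [IsLocalRing C] [Algebra A C] [IsLocalHom (algebraMap A C)]
    (u v : B →ₐ[A] C)
    (h : (IsLocalRing.residue C).comp u.toRingHom = (IsLocalRing.residue C).comp v.toRingHom) :
    u = v := by
  classical
  obtain ⟨hU, hF, hL⟩ := Groth.Agent.Helper12.essEt_props A B hB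
  have hJfg : (KaehlerDifferential.ideal A B).FG := KaehlerDifferential.ideal_fg A B
  have hsub : Subsingleton (KaehlerDifferential.ideal A B).Cotangent :=
    (inferInstance : Subsingleton (KaehlerDifferential A B))
  have hJid : IsIdempotentElem (KaehlerDifferential.ideal A B) :=
    (Ideal.cotangent_subsingleton_iff _).mp hsub
  obtain ⟨e, he, hJe⟩ := (Ideal.isIdempotentElem_iff_of_fg _ hJfg).mp hJid
  obtain ⟨w, hw⟩ : ∃ w : TensorProduct A B B →ₐ[A] C, ∀ b b' : B, w (b ⊗ₜ[A] b') = u b * v b' :=
    ⟨Algebra.TensorProduct.lift u v (fun _ _ => Commute.all _ _),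
      fun b b' => Algebra.TensorProduct.lift_tmul _ _ _ _ _⟩
  have huv' : ∀ b : B, v b - u b ∈ IsLocalRing.maximalIdeal C := by
    intro b
    have h1 := RingHom.congr_fun h b
    simp only [RingHom.comp_apply] at h1
    have h2 : IsLocalRing.residue C (v b - u b) = 0 := by
      rw [map_sub]
      exact sub_eq_zero.mpr h1.symm
    exact (IsLocalRing.residue_eq_zero_iff _).mp h2
  have hwJ : ∀ x ∈ KaehlerDifferential.ideal A B, w x ∈ IsLocalRing.maximalIdeal C := by
    intro x hx
    rw [← KaehlerDifferential.span_range_eq_ideal] at hx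
    refine Submodule.span_induction ?_ ?_ ?_ ?_ hx
    · rintro _ ⟨s, rfl⟩
      change w ((1 : B) ⊗ₜ[A] s - s ⊗ₜ[A] (1 : B)) ∈ IsLocalRing.maximalIdeal C
      rw [map_sub, hw, hw, map_one, map_one, one_mul, mul_one]
      exact huv' s
    · rw [map_zero]; exact zero_mem _
    · intro a b _ _ ha hb
      rw [map_add]; exact add_mem ha hb
    · intro a b _ hb
      rw [smul_eq_mul, map_mul]; exact Ideal.mul_mem_left _ _ hb
  have heJ : e ∈ KaehlerDifferential.ideal A B := by
    rw [hJe]; exact Submodule.mem_span_singleton_self e
  have hwe : w e ∈ IsLocalRing.maximalIdeal C := hwJ e heJ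
  have hwe_idem : w e * w e = w e := by rw [← map_mul, he.eq]
  have hunit : IsUnit (1 - w e) := by
    by_contra hnu
    have h1 : (1 - w e) ∈ IsLocalRing.maximalIdeal C := (IsLocalRing.mem_maximalIdeal _).mpr hnu
    have h2 : (1 : C) ∈ IsLocalRing.maximalIdeal C := by
      have := add_mem h1 hwe
      simpa using this
    exact (IsLocalRing.maximalIdeal.isMaximal C).ne_top ((Ideal.eq_top_iff_one _).mpr h2)
  have hzero : w e = 0 := by
    have h1 : w e * (1 - w e) = 0 := by
      rw [mul_sub, mul_one, hwe_idem, sub_self]
    exact (hunit.mul_left_eq_zero).mp h1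
  refine AlgHom.ext fun b => ?_
  have hx : (1 : B) ⊗ₜ[A] b - b ⊗ₜ[A] (1 : B) ∈ KaehlerDifferential.ideal A B := by
    rw [← KaehlerDifferential.span_range_eq_ideal]
    exact Ideal.subset_span ⟨b, rfl⟩
  rw [hJe] at hx
  obtain ⟨a, ha⟩ := Ideal.mem_span_singleton'.mp hx
  have h2 : v b - u b = w a * w e := by
    have := congrArg w ha
    rw [map_mul, map_sub, hw, hw, map_one, map_one, one_mul, mul_one] at this
    exact this.symm
  rw [hzero, mul_zero, sub_eq_zero] at h2
  exact h2.symm

end Groth.Agent.S17978
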