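import Groth.Statements.S17989
import Mathlib
import Groth.Agent.H29.Gorenstein
import Groth.Agent.H13.LCDual3

set_option autoImplicit false
universe u
open CategoryTheory
open CAlg

namespace Groth.Agent.S17989


open CategoryTheory Abelian Groth.Agent.H29 in
/-- Over a Gorenstein ring of dimension `≤ 1`, `Ext²(C, S) = 0` for finite `C`. -/
theorem ext_two_vanish (S : Type u) [CommRing S] [hG : LocCoh.IsGorensteinRing S]
    (hdim : ringKrullDim S = 1) (C : Type u) [AddCommGroup C] [Module S C] [Module.Finite S C] :
    Subsingleton (Ext (ModuleCat.of S C) (ModuleCat.of S S) 2) := by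
  refine Module.subsingleton_of_localization_maximal (R := S)
    (M := Ext (ModuleCat.of S C) (ModuleCat.of S S) 2)
    (fun P _ => LocalizedModule P.primeCompl (Ext (ModuleCat.of S C) (ModuleCat.of S S) 2))
    (fun P _ => LocalizedModule.mkLinearMap P.primeCompl
      (Ext (ModuleCat.of S C) (ModuleCat.of S S) 2)) ?_
  intro P hP
  rw [Groth.Agent.H13.LC.subsingleton_localizedModule_ext_iff S P C 2]
  have hGP : LocCoh.IsGorensteinLocalRing (Localization.AtPrime P) :=
    hG.isGorensteinLocalRing_localization P
  obtain ⟨t, ht⟩ := exists_natCast_eq_depth (Localization.AtPrime P) (Localization.AtPrime P)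
  have hdimP := ringKrullDim_eq_depth_of_gorenstein_aux t (Localization.AtPrime P) hGP ht
  have hinj := hasInjectiveDimensionLT_of_gorenstein (Localization.AtPrime P) hGP t ht
  have hle : t ≤ 1 := by
    have h1 : ringKrullDim (Localization.AtPrime P) = P.height :=
      IsLocalization.AtPrime.ringKrullDim_eq_height P _
    have h2 : (P.height : WithBot ℕ∞) ≤ ringKrullDim S :=
      Ideal.height_le_ringKrullDim_of_ne_top hP.ne_top
    rw [← h1, hdimP, hdim] at h2
    exact_mod_cast h2
  haveI : HasInjectiveDimensionLT
      (ModuleCat.of (Localization.AtPrime P) (Localization.AtPrime P)) 2 :=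
    hasInjectiveDimensionLT_of_ge _ (t + 1) 2 (by omega)
  exact HasInjectiveDimensionLT.subsingleton _ 2 2 le_rfl _

/-- A finite reflexive module over a Noetherian ring embeds in a finite free module. -/
theorem exists_embedding (S : Type u) [CommRing S] [IsNoetherianRing S]
    (M : Type u) [AddCommGroup M] [Module S M] [Module.Finite S M] [Module.IsReflexive S M] :
    ∃ (n : ℕ) (ι : M →ₗ[S] (Fin n → S)), Function.Injective ι := by
  haveI : IsNoetherian S (M →ₗ[S] S) := isNoetherian_linearMap S S M
  obtain ⟨n, s, hs⟩ := Module.Finite.exists_fin (R := S) (M := M →ₗ[S] S)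
  refine ⟨n, LinearMap.pi (fun i => s i), ?_⟩
  rw [injective_iff_map_eq_zero]
  intro m hm
  have hsm : ∀ i, s i m = 0 := fun i => congrFun hm i
  have hall : ∀ φ : M →ₗ[S] S, φ m = 0 := by
    intro φ
    have hφ : φ ∈ Submodule.span S (Set.range s) := by rw [hs]; trivial
    induction hφ using Submodule.span_induction with
    | mem x hx =>
      obtain ⟨i, rfl⟩ := hx
      exact hsm i
    | zero => rfl
    | add x y _ _ hx hy => rw [LinearMap.add_apply, hx, hy, add_zero]
    | smul a x _ hx => rw [LinearMap.smul_apply, hx, smul_zero]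
  have he : Module.Dual.eval S M m = 0 := by
    ext φ
    exact hall φ
  exact (injective_iff_map_eq_zero _).mp (Module.bijective_dual_eval S M).injective m he

/-- Let S be a Gorenstein ring (a Noetherian ring all of whose localizations at prime ideals have finite
injective dimension as modules over themselves) of Krull dimension 1, and let M be a finitely
generated reflexive S-module (the canonical map M → M** is bijective). Then Ext¹_S(M, S) = 0. -/
theorem result (S : Type u) [CommRing S]
    [LocCoh.IsGorensteinRing S] (hdim : ringKrullDim S = 1)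
    (M : Type u) [AddCommGroup M] [Module S M] [Module.Finite S M] [Module.IsReflexive S M] :
    Subsingleton (Abelian.Ext (ModuleCat.of S M) (ModuleCat.of S S) 1) := by
  haveI : IsNoetherianRing S := inferInstance
  obtain ⟨n, ι, hι⟩ := exists_embedding S M
  let p : (Fin n → S) →ₗ[S] ((Fin n → S) ⧸ LinearMap.range ι) := (LinearMap.range ι).mkQ
  have hp : Function.Surjective p := Submodule.mkQ_surjective _
  have hip : Function.Exact ι p := LinearMap.exact_map_mkQ_range ι
  let T : ShortComplex (ModuleCat.{u} S) :=
    ShortComplex.mk (ModuleCat.ofHom ι) (ModuleCat.ofHom p) (by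
      ext x
      exact hip.apply_apply_eq_zero x)
  have hT : T.ShortExact := by
    refine ShortComplex.ShortExact.mk' ?_ ?_ ?_
    · rw [ShortComplex.moduleCat_exact_iff]
      intro y hy
      exact (hip y).1 hy
    · rw [ModuleCat.mono_iff_injective]
      exact hι
    · rw [ModuleCat.epi_iff_surjective]
      exact hp
  haveI hproj : Projective T.X₂ :=
    (IsProjective.iff_projective (R := S) (Fin n → S)).1 inferInstance
  haveI : Subsingleton (Abelian.Ext T.X₃ (ModuleCat.of S S) 2) :=
    ext_two_vanish S hdim ((Fin n → S) ⧸ LinearMap.range ι)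
  rw [subsingleton_iff_forall_eq 0]
  intro x
  obtain ⟨x₂, rfl⟩ := Abelian.Ext.contravariant_sequence_exact₁ hT (ModuleCat.of S S) x
    (show 1 + 1 = 2 from rfl) (Subsingleton.elim _ _)
  rw [Abelian.Ext.eq_zero_of_projective x₂, Abelian.Ext.comp_zero]


end Groth.Agent.S17989
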