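import Groth.Statements.S18015
import Mathlib.RingTheory.Ideal.AssociatedPrime.Finiteness
import Mathlib.Algebra.Homology.ShortComplex.ModuleCat

set_option autoImplicit false
universe u
open CategoryTheory
open Coh

namespace Groth.Agent.S18015

/-- Let A be a Noetherian commutative ring and F an additive functor from A-modules to A-modules which
is half-exact, i.e. for every short exact sequence 0 → M' → M → M'' → 0 the sequence F(M') → F(M) →
F(M'') is exact at F(M). Then F(M) is a finitely generated A-module for every finitely generated
A-module M if and only if F(A/p) is a finitely generated A-module for every prime ideal p of A. (The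
published statement takes F from quasi-coherent sheaves on Spec A to abelian groups, with A acting
on each F(M) through F; this row allows any additive functor between A-module categories, A-linear
or not, and the same argument applies, since it uses only that each map F(f) is A-linear.) -/
theorem result {A : Type u} [CommRing A] [IsNoetherianRing A]
    (F : ModuleCat.{u} A ⥤ ModuleCat.{u} A) [F.Additive]
    (hF : ∀ S : ShortComplex (ModuleCat.{u} A), S.ShortExact → (S.map F).Exact) :
    (∀ M : ModuleCat.{u} A, Module.Finite A M → Module.Finite A (F.obj M)) ↔
      ∀ p : PrimeSpectrum A, Module.Finite A (F.obj (ModuleCat.of A (A ⧸ p.asIdeal))) := by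
  constructor
  · intro h p
    exact h _ inferInstance
  · intro h M hM
    suffices key : ∀ (N : Type u) [AddCommGroup N] [Module A N] (hN : Module.Finite A N),
        Module.Finite A (F.obj (ModuleCat.of A N)) from key M hM
    intro N _ _ hN
    induction hN using IsNoetherianRing.induction_on_isQuotientEquivQuotientPrime A with
    | subsingleton N =>
      have hz : Limits.IsZero (ModuleCat.of A N) := ModuleCat.isZero_of_subsingleton _
      have hz' : Limits.IsZero (F.obj (ModuleCat.of A N)) := F.map_isZero hz
      haveI : Subsingleton (F.obj (ModuleCat.of A N)) := ModuleCat.subsingleton_of_isZero hz'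
      infer_instance
    | quotient N p e =>
      have i : F.obj (ModuleCat.of A N) ≅ F.obj (ModuleCat.of A (A ⧸ p.asIdeal)) :=
        F.mapIso e.toModuleIso
      haveI := h p
      exact Module.Finite.equiv i.toLinearEquiv.symm
    | exact N₁ N₂ N₃ f g hf hg hfg h₁ h₃ =>
      let S : ShortComplex (ModuleCat.{u} A) :=
        ModuleCat.shortComplexOfCompEqZero f g hfg.linearMap_comp_eq_zero
      have hS : S.ShortExact := ModuleCat.shortComplex_shortExact S hfg hf hg
      have hFS := hF S hS
      rw [ShortComplex.moduleCat_exact_iff_range_eq_ker] at hFS
      have i1 : IsNoetherian A (F.obj (ModuleCat.of A N₁)) := isNoetherian_of_isNoetherianRing_of_finite A _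
      have i3 : IsNoetherian A (F.obj (ModuleCat.of A N₃)) := isNoetherian_of_isNoetherianRing_of_finite A _
      haveI : IsNoetherian A ↑(S.map F).X₁ := i1
      haveI : IsNoetherian A ↑(S.map F).X₃ := i3
      have i2 : IsNoetherian A ↑(S.map F).X₂ :=
        isNoetherian_of_range_eq_ker (S.map F).f.hom (S.map F).g.hom hFS
      have i2' : IsNoetherian A (F.obj (ModuleCat.of A N₂)) := i2
      infer_instance

end Groth.Agent.S18015
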