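import Groth.Statements.S18019
import Mathlib

set_option autoImplicit false
universe u
open ClassStk

namespace Groth.Agent.S18019

open Polynomial in
/-- Let R be an integral domain of characteristic 2 and let a be a nonzero element of R, so that x ↦ x +
a defines an R-algebra involution of the polynomial ring R[x] (an action of the group of order two).
A polynomial f is invariant, f(x + a) = f(x), if and only if f belongs to the R-subalgebra generated
by u = x (x + a); in other words the ring of invariants is the polynomial ring R[u]. -/
theorem result (R : Type u) [CommRing R] [IsDomain R]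
    [CharP R 2] (a : R) (ha : a ≠ 0) (f : Polynomial R) :
    f.comp (X + C a) = f ↔ f ∈ Algebra.adjoin R ({X * (X + C a)} : Set (Polynomial R)) := by
  set u : Polynomial R := X * (X + C a) with hu
  have hu_monic : u.Monic := monic_X.mul (monic_X_add_C a)
  have hu_deg : u.natDegree = 2 := by
    rw [hu, natDegree_mul X_ne_zero (monic_X_add_C a).ne_zero, natDegree_X, natDegree_X_add_C]
  have hu_ne_one : u ≠ 1 := by
    intro h
    rw [h, natDegree_one] at hu_deg
    omega
  have h2a : C a + C a = (0 : Polynomial R) := by
    rw [← C_add, CharTwo.add_self_eq_zero, C_0]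
  have hσu : u.comp (X + C a) = u := by
    rw [hu]
    simp only [mul_comp, add_comp, X_comp, C_comp]
    rw [add_assoc, h2a, add_zero, mul_comm]
  have hdegs : (X + C a : Polynomial R).natDegree = 1 := natDegree_X_add_C a
  constructor
  · intro hf
    induction' hn : f.natDegree using Nat.strong_induction_on with n ih generalizing f
    by_cases hn0 : n = 0
    · rw [hn0] at hn
      rw [eq_C_of_natDegree_eq_zero hn]
      exact Subalgebra.algebraMap_mem _ _
    have hdiv := modByMonic_add_div f u
    have hrn : (f %ₘ u).natDegree < 2 := by
      rw [← hu_deg]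
      exact natDegree_modByMonic_lt f hu_monic hu_ne_one
    have hσ : ((f %ₘ u).comp (X + C a)) + u * ((f /ₘ u).comp (X + C a)) = f := by
      have := congrArg (fun g => g.comp (X + C a)) hdiv
      simp only [add_comp, mul_comp, hσu, hf] at this
      exact this
    have hrσdeg : ((f %ₘ u).comp (X + C a)).degree < u.degree := by
      rw [degree_eq_natDegree hu_monic.ne_zero, hu_deg]
      refine lt_of_le_of_lt degree_le_natDegree ?_
      rw [natDegree_comp, hdegs, mul_one]
      exact_mod_cast hrn
    obtain ⟨hq, hr⟩ := div_modByMonic_unique _ _ hu_monic ⟨hσ, hrσdeg⟩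
    -- the remainder is constant
    have hr1 : (f %ₘ u).natDegree ≤ 1 := by omega
    have hrform := eq_X_add_C_of_natDegree_le_one hr1
    have hc1 : (f %ₘ u).coeff 1 = 0 := by
      have h0 : (f %ₘ u).coeff 0 = ((f %ₘ u).comp (X + C a)).coeff 0 := congrArg (fun g => g.coeff 0) hr
      rw [hrform] at h0
      simp only [add_comp, mul_comp, C_comp, X_comp, coeff_add, coeff_C_zero, mul_coeff_zero,
        coeff_X_zero, mul_zero, zero_add] at h0
      have : (f %ₘ u).coeff 1 * a = 0 := by
        linear_combination (-1 : R) * h0
      rcases mul_eq_zero.mp this with h | h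
      · exact h
      · exact absurd h ha
    have hrC : f %ₘ u = C ((f %ₘ u).coeff 0) := by
      rw [hrform, hc1]
      simp
    -- the quotient is invariant of smaller degree
    have hqdeg : (f /ₘ u).natDegree < n := by
      rw [natDegree_divByMonic f hu_monic, hu_deg, hn]
      omega
    have hqmem := ih _ hqdeg (f /ₘ u) hq.symm rfl
    rw [← hdiv, hrC]
    refine Subalgebra.add_mem _ (Subalgebra.algebraMap_mem _ _) ?_
    exact Subalgebra.mul_mem _ (Algebra.subset_adjoin (Set.mem_singleton _)) hqmem
  · intro hf
    rw [Algebra.adjoin_singleton_eq_range_aeval] at hf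
    obtain ⟨g, rfl⟩ := hf
    show (aeval u g).comp (X + C a) = aeval u g
    rw [← comp_eq_aeval, comp_assoc, hσu]

end Groth.Agent.S18019
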