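import Groth.Statements.S18020
import Mathlib

set_option autoImplicit false
open W4c5stacksedinertia

namespace Groth.Agent.S18020

open W4c5stacksedinertia in
theorem card_of (H : Type) [Group H] [Finite H] : (Idx.of H).card = Nat.card H := by
  have h1 : Quotient.mk FinGrp.setoid (Quotient.out (s := FinGrp.setoid) (Idx.of H)) =
      Quotient.mk FinGrp.setoid (FinGrp.of H) := Quotient.out_eq _
  obtain ⟨e⟩ := Quotient.exact h1
  have h2 : Nat.card (Quotient.out (s := FinGrp.setoid) (Idx.of H)).carrier =
      Nat.card (FinGrp.of H).carrier := Nat.card_congr e.toEquiv
  have h3 : Nat.card (FinGrp.of H).carrier = Nat.card H := by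
    show Nat.card (Fin (Nat.card H)) = Nat.card H
    simp
  exact h2.trans h3


open W4c5stacksedinertia in
/-- In the rational vector space K with basis the isomorphism classes of finite groups (the class of a
group standing for its classifying groupoid), the inertia operator, which sends the class of a
finite group to the sum over its conjugacy classes of the classes of the centralizers of
representatives, preserves the subspace spanned by the classes of groups of order at most `n`. -/
theorem result (n : ℕ) (v : K) (hv : v ∈ Kle n) :
    inertia v ∈ Kle n := by
  unfold inertia inertiaR
  rw [Finsupp.linearCombination_apply]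
  apply Submodule.sum_mem
  intro i hi
  apply Submodule.smul_mem
  have hin : i.card ≤ n := by
    have h1 := (Finsupp.mem_supported ℚ v).mp hv
    exact h1 hi
  unfold inertiaROf
  apply finsum_induction (p := fun x => x ∈ Kle n) (zero_mem _) (fun x y hx hy => add_mem hx hy)
  intro O
  unfold cl Kle
  rw [Finsupp.mem_supported]
  intro j hj
  have hj' := Finsupp.support_single_subset hj
  rw [Finset.mem_singleton] at hj'
  subst hj'
  show (Idx.of _).card ≤ n
  rw [card_of]
  exact le_trans (Subgroup.card_le_card_group _) hin

end Groth.Agent.S18020
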