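import Groth.Statements.S18049
import Mathlib

set_option autoImplicit false
open STCI

namespace Groth.Agent.S18049

/-- For natural numbers 0 < k < N such that k does not divide N, ⌊N/k⌋ ≤ (N - k)/gcd(k, N); stated here
in the equivalent cleared form ⌊N/k⌋ · gcd(k, N) ≤ N - k. -/
theorem result (k N : ℕ) (hk : 0 < k) (hkN : k < N) (hndvd : ¬ k ∣ N) :
    N / k * Nat.gcd k N ≤ N - k := by
  have hgk : Nat.gcd k N ∣ k := Nat.gcd_dvd_left k N
  have hgN : Nat.gcd k N ∣ N := Nat.gcd_dvd_right k N
  have hgpos : 0 < Nat.gcd k N := Nat.gcd_pos_of_pos_left N hk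
  have hdm : k * (N / k) + N % k = N := Nat.div_add_mod N k
  have hr0 : N % k ≠ 0 := fun h => hndvd (Nat.dvd_of_mod_eq_zero h)
  have hgr : Nat.gcd k N ∣ N % k := (Nat.dvd_mod_iff hgk).mpr hgN
  have hgler : Nat.gcd k N ≤ N % k := Nat.le_of_dvd (Nat.pos_of_ne_zero hr0) hgr
  obtain ⟨c, hc⟩ := hgk
  have hc2 : 2 ≤ c := by
    rcases c with _ | _ | c
    · simp at hc; omega
    · exfalso
      apply hndvd
      have : k = Nat.gcd k N := by simpa using hc
      rw [this]
      exact hgN
    · omega
  have hq1 : 1 ≤ N / k := Nat.div_pos hkN.le hk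
  set g := Nat.gcd k N with hg
  set q := N / k with hq
  set r := N % k with hr
  have hN : N = g * c * q + r := by rw [← hc]; exact hdm.symm
  have hgoal : q * g + k ≤ N := by
    rw [hN]
    have hk' : k = g * c := hc
    rw [hk']
    rcases Nat.lt_or_ge q 2 with h | h
    · have : q = 1 := by omega
      rw [this]
      nlinarith
    · have h1 : g * c * q = g * c + g * c * (q - 1) := by
        have : q = 1 + (q - 1) := by omega
        conv_lhs => rw [this]
        ring
      have h2 : g * q ≤ g * c * (q - 1) := by
        have : q ≤ c * (q - 1) := by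
          have : q ≤ 2 * (q - 1) := by omega
          exact le_trans this (Nat.mul_le_mul_right _ hc2)
        calc g * q ≤ g * (c * (q - 1)) := Nat.mul_le_mul_left _ this
          _ = g * c * (q - 1) := by ring
      nlinarith
  omega

end Groth.Agent.S18049
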