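import Groth.Statements.S18050
import Mathlib

set_option autoImplicit false
open STCI

namespace Groth.Agent.S18050

open W4c5stcicurvesp3 in
theorem irem_shift (a b : ℕ) (h : a % b ≠ 0) : ∀ i, irem a b (i + 1) = irem b (a % b) i ∧
    irem a b (i + 2) = irem b (a % b) (i + 1) := by
  intro i
  induction i with
  | zero =>
    refine ⟨by simp [irem], ?_⟩
    show (if irem a b 1 = 0 then 0 else irem a b 0 % irem a b 1) = b % (a % b)
    have h1 : irem a b 1 = a % b := rfl
    have h0 : irem a b 0 = b := rfl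
    rw [h1, h0, if_neg h]
  | succ i ih =>
    refine ⟨ih.2, ?_⟩
    show (if irem a b (i + 2) = 0 then 0 else irem a b (i + 1) % irem a b (i + 2)) =
      (if irem b (a % b) (i + 1) = 0 then 0 else irem b (a % b) i % irem b (a % b) (i + 1))
    rw [ih.1, ih.2]

open W4c5stcicurvesp3 in
theorem idiv_shift (a b : ℕ) (h : a % b ≠ 0) (i : ℕ) :
    idiv a b (i + 2) = idiv b (a % b) (i + 1) := by
  cases i with
  | zero =>
    show (if irem a b 1 = 0 then 0 else irem a b 0 / irem a b 1) = b / (a % b)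
    have h1 : irem a b 1 = a % b := rfl
    have h0 : irem a b 0 = b := rfl
    rw [h1, h0, if_neg h]
  | succ i =>
    show (if irem a b (i + 2) = 0 then 0 else irem a b (i + 1) / irem a b (i + 2)) =
      (if irem b (a % b) (i + 1) = 0 then 0 else irem b (a % b) i / irem b (a % b) (i + 1))
    rw [(irem_shift a b h i).1, (irem_shift a b h i).2]

open W4c5stcicurvesp3 in
theorem main (s : ℕ) : ∀ (k N : ℕ), 0 < k → k ≤ N → irem N k (s + 1) = 0 →
    (∀ i, 0 < i → i < s + 1 → irem N k i ≠ 0) →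
    (∑ j ∈ Finset.range (s + 1), idiv N k (j + 1)) * Nat.gcd k N ≤ N := by
  induction s with
  | zero =>
    intro k N hk hkN hzero _
    have h1 : N % k = 0 := hzero
    have hd : k ∣ N := Nat.dvd_of_mod_eq_zero h1
    have hq : idiv N k 1 = N / k := rfl
    simp only [zero_add, Finset.range_one, Finset.sum_singleton, hq]
    rw [Nat.gcd_eq_left hd]
    exact Nat.div_mul_le_self N k
  | succ s ih =>
    intro k N hk hkN hzero hmin
    have hr : N % k ≠ 0 := hmin 1 Nat.one_pos (by omega)
    have hrk : N % k < k := Nat.mod_lt _ hk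
    have IH := ih (N % k) k (Nat.pos_of_ne_zero hr) hrk.le
      (by rw [← (irem_shift N k hr s).2]; exact hzero)
      (fun i hi hi' => by
        rw [← (irem_shift N k hr i).1]
        exact hmin (i + 1) (by omega) (by omega))
    rw [Finset.sum_range_succ']
    have hsum : ∑ j ∈ Finset.range (s + 1), idiv N k (j + 1 + 1) =
        ∑ j ∈ Finset.range (s + 1), idiv k (N % k) (j + 1) :=
      Finset.sum_congr rfl (fun j _ => idiv_shift N k hr j)
    rw [hsum]
    have hq : idiv N k (0 + 1) = N / k := rfl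
    rw [hq]
    have hg : Nat.gcd k N = Nat.gcd (N % k) k := Nat.gcd_rec k N
    rw [hg]
    set g := Nat.gcd (N % k) k with hgdef
    set S := ∑ j ∈ Finset.range (s + 1), idiv k (N % k) (j + 1)
    have hgr : g ≤ N % k := Nat.le_of_dvd (Nat.pos_of_ne_zero hr) (Nat.gcd_dvd_left _ _)
    have hgk : g ≤ k := hgr.trans hrk.le
    have hq1 : 1 ≤ N / k := (Nat.one_le_div_iff hk).2 hkN
    have hN : k * (N / k) + N % k = N := Nat.div_add_mod N k
    obtain ⟨q', hq'⟩ : ∃ q', N / k = q' + 1 := ⟨N / k - 1, by omega⟩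
    rw [hq'] at hN ⊢
    have h2 : q' * g ≤ q' * k := Nat.mul_le_mul_left _ hgk
    nlinarith [IH, h2, hgr]

open W4c5stcicurvesp3 in
/-- Let k ≤ N be positive integers, let t be the least positive integer with rem_t(N, k) = 0, where
rem_0 = k, rem_1 = N mod k and rem_i is the remainder of rem_{i-2} by rem_{i-1} (iterated Euclidean
remainders), and let d_i be the corresponding iterated quotients (d_1 = ⌊N/k⌋, d_i =
⌊rem_{i-2}/rem_{i-1}⌋). Then d_1 + ⋯ + d_t ≤ N/gcd(k, N); stated in the cleared form (d_1 + ⋯ + d_t)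
· gcd(k, N) ≤ N. -/
theorem result (k N t : ℕ) (hk : 0 < k) (hkN : k ≤ N) (ht : 0 < t)
    (hzero : irem N k t = 0) (hmin : ∀ i, 0 < i → i < t → irem N k i ≠ 0) :
    (∑ i ∈ Finset.Icc 1 t, idiv N k i) * Nat.gcd k N ≤ N := by
  have hconv : ∀ (f : ℕ → ℕ) (n : ℕ), ∑ i ∈ Finset.Icc 1 n, f i = ∑ j ∈ Finset.range n, f (j + 1) := by
    intro f n
    induction n with
    | zero => simp
    | succ n ih => rw [Finset.sum_Icc_succ_top (by omega), ih, Finset.sum_range_succ]
  rw [hconv]
  obtain ⟨s, rfl⟩ : ∃ s, t = s + 1 := ⟨t - 1, by omega⟩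
  exact main s k N hk hkN hzero hmin

end Groth.Agent.S18050
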