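import Groth.Statements.S18051
import Mathlib

set_option autoImplicit false
open STCI

namespace Groth.Agent.S18051


open W4c5stcicurvesp3 in
/-- Let k ≤ N/2 be positive integers and let r_i = rem_i(N, k), d_i = div_i(N, k) be the iterated
Euclidean remainders and quotients of (N, k) (r_0 = k, r_1 = N mod k, r_2 = r_0 mod r_1, d_1 =
⌊N/k⌋, d_2 = ⌊r_0/r_1⌋). If the least positive t with r_t = 0 satisfies t ≥ 3, i.e. r_1 ≠ 0 and r_2
≠ 0, then (r_0 - r_1)/d_1 + (r_1 - r_2)/(d_1 + d_2) + r_2/(d_1 + d_2 + 1) ≤ k²/N (in ℚ). -/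
theorem result (k N : ℕ) (hk : 0 < k) (hkN : 2 * k ≤ N)
    (h1 : irem N k 1 ≠ 0) (h2 : irem N k 2 ≠ 0) :
    ((irem N k 0 : ℚ) - irem N k 1) / (idiv N k 1)
      + ((irem N k 1 : ℚ) - irem N k 2) / ((idiv N k 1 : ℚ) + idiv N k 2)
      + (irem N k 2 : ℚ) / ((idiv N k 1 : ℚ) + idiv N k 2 + 1)
      ≤ (k : ℚ) ^ 2 / N := by
  have e0 : irem N k 0 = k := rfl
  have e1 : irem N k 1 = N % k := rfl
  have h1' : N % k ≠ 0 := h1
  have e2 : irem N k 2 = k % (N % k) := by
    change (if irem N k 1 = 0 then 0 else irem N k 0 % irem N k 1) = _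
    rw [if_neg h1, e0, e1]
  have d1 : idiv N k 1 = N / k := rfl
  have d2 : idiv N k 2 = k / (N % k) := by
    change (if irem N k 1 = 0 then 0 else irem N k 0 / irem N k 1) = _
    rw [if_neg h1, e0, e1]
  rw [e2] at h2
  rw [e0, e1, e2, d1, d2]
  set r1 := N % k with hr1
  set r2 := k % r1 with hr2
  set a := N / k with ha
  set b := k / r1 with hb
  have hN : N = k * a + r1 := (Nat.div_add_mod N k).symm
  have hk' : k = r1 * b + r2 := (Nat.div_add_mod k r1).symm
  have hr1k : r1 < k := Nat.mod_lt N hk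
  have hr2r1 : r2 < r1 := Nat.mod_lt k (Nat.pos_of_ne_zero h1')
  have ha2 : 2 ≤ a := by
    rw [ha, Nat.le_div_iff_mul_le hk]; exact hkN
  have hb1 : 1 ≤ b := by
    rw [hb, Nat.le_div_iff_mul_le (Nat.pos_of_ne_zero h1')]; omega
  obtain ⟨A, hA⟩ := Nat.exists_eq_add_of_le ha2
  obtain ⟨B, hB⟩ := Nat.exists_eq_add_of_le hb1
  obtain ⟨X, hX⟩ := Nat.exists_eq_add_of_le hr2r1.le
  have hNq : (N : ℚ) = (k : ℚ) * a + r1 := by exact_mod_cast hN
  have hkq : (k : ℚ) = (r1 : ℚ) * b + r2 := by exact_mod_cast hk'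
  have haq : (a : ℚ) = 2 + A := by exact_mod_cast hA
  have hbq : (b : ℚ) = 1 + B := by exact_mod_cast hB
  have hxq : (r1 : ℚ) = r2 + X := by exact_mod_cast hX
  have hy : (0 : ℚ) < r2 := by exact_mod_cast Nat.pos_of_ne_zero h2
  have hAq : (0 : ℚ) ≤ A := by positivity
  have hBq : (0 : ℚ) ≤ B := by positivity
  have hXq : (0 : ℚ) ≤ X := by positivity
  rw [hNq, hkq, haq, hbq, hxq]
  generalize (r2 : ℚ) = y at *
  generalize (A : ℚ) = A' at *
  generalize (B : ℚ) = B' at *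
  generalize (X : ℚ) = X' at *
  rw [div_add_div _ _ (by positivity) (by positivity), div_add_div _ _ (by positivity) (by positivity),
    div_le_div_iff₀ (by positivity) (by positivity), ← sub_nonneg]
  ring_nf
  positivity

end Groth.Agent.S18051
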