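import Groth.Statements.S18052
import Mathlib

set_option autoImplicit false
open STCI

namespace Groth.Agent.S18052

open W4c5stcicurvesp3 in
/-- shifted remainder sequence: `R 0 = N`, `R (i+1) = irem N k i`. -/
def Rseq (N k : ℕ) : ℕ → ℕ
  | 0 => N
  | (i + 1) => irem N k i

open W4c5stcicurvesp3 in
theorem Rseq_div (N k : ℕ) (i : ℕ) (h : Rseq N k (i + 1) ≠ 0) :
    Rseq N k i = idiv N k (i + 1) * Rseq N k (i + 1) + Rseq N k (i + 2) := by
  cases i with
  | zero =>
    change N = (N / k) * k + N % k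
    rw [mul_comm]; exact (Nat.div_add_mod N k).symm
  | succ i =>
    have h' : irem N k (i + 1) ≠ 0 := h
    change irem N k i = (if irem N k (i + 1) = 0 then 0 else irem N k i / irem N k (i + 1)) *
      irem N k (i + 1) + (if irem N k (i + 1) = 0 then 0 else irem N k i % irem N k (i + 1))
    rw [if_neg h', if_neg h', mul_comm]
    exact (Nat.div_add_mod _ _).symm

open W4c5stcicurvesp3 in
theorem Rseq_lt (N k : ℕ) (i : ℕ) (h : Rseq N k (i + 1) ≠ 0) :
    Rseq N k (i + 2) < Rseq N k (i + 1) := by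
  cases i with
  | zero =>
    change N % k < k
    exact Nat.mod_lt _ (Nat.pos_of_ne_zero h)
  | succ i =>
    have h' : irem N k (i + 1) ≠ 0 := h
    change (if irem N k (i + 1) = 0 then 0 else irem N k i % irem N k (i + 1)) < irem N k (i + 1)
    rw [if_neg h']
    exact Nat.mod_lt _ (Nat.pos_of_ne_zero h')

/-- the algebraic inequality for the inductive step -/
theorem step_ineq (u v e : ℚ) (hv : 0 ≤ v) (hvu : v ≤ u) (hu : 0 < u) (he : 1 ≤ e) :
    (u - v) / e + v ^ 2 / (u + e * v) ≤ u ^ 2 / (e * u + v) := by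
  have he0 : 0 < e := by linarith
  have h1 : 0 < u + e * v := by positivity
  have h2 : 0 < e * u + v := by positivity
  rw [div_add_div _ _ he0.ne' h1.ne', div_le_div_iff₀ (by positivity) h2]
  have key : 0 ≤ u * (e - 1) * v * (u - v) := by
    have : 0 ≤ e - 1 := by linarith
    have : 0 ≤ u - v := by linarith
    positivity
  nlinarith [key]

open W4c5stcicurvesp3 in
theorem tail_bound (N k : ℕ) (hD : ∀ j, 1 ≤ j → (1 : ℚ) ≤ ∑ l ∈ Finset.Icc 1 j, (idiv N k l : ℚ)) :
    ∀ (m : ℕ), 0 < m → ∀ j : ℕ, (∀ i, i < m → Rseq N k (j + i + 1) ≠ 0) → Rseq N k (j + m + 1) = 0 →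
      ∑ i ∈ Finset.range m, ((Rseq N k (j + i + 1) : ℚ) - Rseq N k (j + i + 2)) /
          (∑ l ∈ Finset.Icc 1 (j + i + 1), (idiv N k l : ℚ))
        ≤ (Rseq N k (j + 1) : ℚ) ^ 2 /
          (Rseq N k j + (∑ l ∈ Finset.Icc 1 j, (idiv N k l : ℚ)) * Rseq N k (j + 1)) := by
  intro m
  induction m with
  | zero => intro h; omega
  | succ m ih =>
    intro _ j hne hz
    have hne0 : Rseq N k (j + 1) ≠ 0 := by simpa using hne 0 (Nat.succ_pos _)
    have hdiv := Rseq_div N k j hne0
    have hlt := Rseq_lt N k j hne0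
    have hDsucc : ∑ l ∈ Finset.Icc 1 (j + 1), (idiv N k l : ℚ) =
        ∑ l ∈ Finset.Icc 1 j, (idiv N k l : ℚ) + idiv N k (j + 1) := by
      rw [Finset.sum_Icc_succ_top (by omega)]
    have he := hD (j + 1) (by omega)
    set e := ∑ l ∈ Finset.Icc 1 (j + 1), (idiv N k l : ℚ) with he_def
    set c := ∑ l ∈ Finset.Icc 1 j, (idiv N k l : ℚ) with hc_def
    have hu : (0 : ℚ) < Rseq N k (j + 1) := by exact_mod_cast Nat.pos_of_ne_zero hne0
    have hv : (0 : ℚ) ≤ Rseq N k (j + 2) := by positivity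
    have hvu : (Rseq N k (j + 2) : ℚ) ≤ Rseq N k (j + 1) := by exact_mod_cast hlt.le
    have hdivq : (Rseq N k j : ℚ) = idiv N k (j + 1) * Rseq N k (j + 1) + Rseq N k (j + 2) := by
      exact_mod_cast hdiv
    have hden : (Rseq N k j : ℚ) + c * Rseq N k (j + 1) = e * Rseq N k (j + 1) + Rseq N k (j + 2) := by
      rw [hdivq, hDsucc]; ring
    rw [hden]
    rcases Nat.eq_zero_or_pos m with hm | hm
    · subst hm
      rw [zero_add, Finset.sum_range_one]
      simp only [add_zero]
      have hz' : Rseq N k (j + 2) = 0 := by simpa using hz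
      rw [hz']
      simp only [Nat.cast_zero, sub_zero]
      rw [div_le_div_iff₀ (by positivity) (by positivity)]
      nlinarith
    · rw [Finset.sum_range_succ']
      simp only [add_zero]
      have ih' := ih hm (j + 1) (fun i hi => by
        have := hne (i + 1) (by omega)
        rwa [show j + (i + 1) + 1 = j + 1 + i + 1 by ring] at this) (by
        rwa [show j + (m + 1) + 1 = j + 1 + m + 1 by ring] at hz)
      have hsum : ∑ i ∈ Finset.range m, ((Rseq N k (j + (i + 1) + 1) : ℚ) - Rseq N k (j + (i + 1) + 2)) /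
          (∑ l ∈ Finset.Icc 1 (j + (i + 1) + 1), (idiv N k l : ℚ)) =
          ∑ i ∈ Finset.range m, ((Rseq N k (j + 1 + i + 1) : ℚ) - Rseq N k (j + 1 + i + 2)) /
          (∑ l ∈ Finset.Icc 1 (j + 1 + i + 1), (idiv N k l : ℚ)) := by
        apply Finset.sum_congr rfl
        intro i _
        rw [show j + (i + 1) + 1 = j + 1 + i + 1 by ring, show j + (i + 1) + 2 = j + 1 + i + 2 by ring]
      rw [hsum]
      have hstep := step_ineq (Rseq N k (j + 1)) (Rseq N k (j + 2)) e hv hvu hu he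
      have : (Rseq N k (j + 1 + 1) : ℚ) ^ 2 / (Rseq N k (j + 1) + e * Rseq N k (j + 1 + 1)) =
          (Rseq N k (j + 2) : ℚ) ^ 2 / (Rseq N k (j + 1) + e * Rseq N k (j + 2)) := rfl
      rw [this] at ih'
      linarith

open W4c5stcicurvesp3 in
/-- Let k ≤ N/2 be positive integers, let r_i = rem_i(N, k) and d_i = div_i(N, k) be the iterated
Euclidean remainders and quotients of (N, k) (r_0 = k, r_1 = N mod k, …; d_1 = ⌊N/k⌋, d_i =
⌊r_{i-2}/r_{i-1}⌋), and let t be the least positive integer with r_t = 0. Then the sum over i = 0,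
…, t - 1 of (r_i - r_{i+1})/(d_1 + ⋯ + d_{i+1}) is at most k²/N (in ℚ). -/
theorem result (k N t : ℕ) (hk : 0 < k) (hkN : 2 * k ≤ N) (ht : 0 < t)
    (hzero : irem N k t = 0) (hmin : ∀ i, 0 < i → i < t → irem N k i ≠ 0) :
    ∑ i ∈ Finset.range t, ((irem N k i : ℚ) - irem N k (i + 1)) / (∑ j ∈ Finset.Icc 1 (i + 1), (idiv N k j : ℚ))
      ≤ (k : ℚ) ^ 2 / N := by
  have hD : ∀ j, 1 ≤ j → (1 : ℚ) ≤ ∑ l ∈ Finset.Icc 1 j, (idiv N k l : ℚ) := by
    intro j hj
    have h1 : (idiv N k 1 : ℚ) ≤ ∑ l ∈ Finset.Icc 1 j, (idiv N k l : ℚ) := by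
      apply Finset.single_le_sum (f := fun l => (idiv N k l : ℚ)) (fun i _ => by positivity)
      simp [hj]
    have h2 : (1 : ℚ) ≤ idiv N k 1 := by
      have : 1 ≤ N / k := by
        rw [Nat.le_div_iff_mul_le hk]; omega
      exact_mod_cast this
    linarith
  have := tail_bound N k hD t ht 0 (fun i hi => by
    rcases Nat.eq_zero_or_pos i with h0 | h0
    · subst h0; simpa [Rseq, irem] using hk.ne'
    · simpa [Rseq] using hmin i h0 hi) (by simpa [Rseq] using hzero)
  simpa [Rseq, irem] using this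

end Groth.Agent.S18052
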