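import Groth.Statements.S18053
import Mathlib

set_option autoImplicit false
open STCI

namespace Groth.Agent.S18053


/-- Let (p_k)_{k ≥ 1} be a sequence of nonnegative integers and n a nonnegative integer such that (i)
p_1 ≤ 9 - (2/5)n, (ii) p_1 ≥ p_2 ≥ p_3 ≥ ⋯, (iii) Σ_k p_k ≤ 19 - n, and (iv) n/4 + Σ_{k ≥ 1}
p_k/(k(k+1)) ≥ 6. Then n = 0 and (p_k) is one of (9, 8, 2), (9, 9), (9, 9, 1) (followed by zeros).
Here the sequence is indexed from 0 (so p 0 is p_1 and the weight of p k is 1/((k+1)(k+2))), (iii)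
is stated for every partial sum, and the series in (iv) is the real sum Σ' over all k. -/
theorem result (p : ℕ → ℕ) (n : ℕ)
    (h1 : (p 0 : ℝ) ≤ 9 - (2 / 5 : ℝ) * n) (h2 : Antitone p)
    (h3 : ∀ m : ℕ, ((∑ k ∈ Finset.range m, p k : ℕ) : ℝ) ≤ 19 - (n : ℝ))
    (h4 : (6 : ℝ) ≤ (n : ℝ) / 4 + ∑' k : ℕ, (p k : ℝ) / (((k : ℝ) + 1) * ((k : ℝ) + 2))) :
    n = 0 ∧ (p = (fun k => if k = 0 then 9 else if k = 1 then 8 else if k = 2 then 2 else 0)
      ∨ p = (fun k => if k = 0 then 9 else if k = 1 then 9 else 0)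
      ∨ p = (fun k => if k = 0 then 9 else if k = 1 then 9 else if k = 2 then 1 else 0)) := by
  have h3' : ∀ m, (∑ k ∈ Finset.range m, p k) + n ≤ 19 := by
    intro m
    have h := h3 m
    have h' : ((∑ k ∈ Finset.range m, p k : ℕ) : ℝ) + (n : ℝ) ≤ 19 := by linarith
    exact_mod_cast h'
  have hz : ∀ k, 19 ≤ k → p k = 0 := by
    intro k hk
    by_contra hne
    have hpos : 1 ≤ p k := Nat.one_le_iff_ne_zero.mpr hne
    have hall : ∀ j ∈ Finset.range 20, 1 ≤ p j := fun j hj =>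
      le_trans hpos (h2 (by have := Finset.mem_range.mp hj; omega))
    have hsum : 20 ≤ ∑ j ∈ Finset.range 20, p j := by
      calc 20 = ∑ j ∈ Finset.range 20, 1 := by simp
        _ ≤ _ := Finset.sum_le_sum hall
    have := h3' 20
    omega
  have htsum : ∑' k : ℕ, (p k : ℝ) / (((k : ℝ) + 1) * ((k : ℝ) + 2)) =
      ∑ k ∈ Finset.range 19, (p k : ℝ) / (((k : ℝ) + 1) * ((k : ℝ) + 2)) := by
    apply tsum_eq_sum
    intro k hk
    rw [Finset.mem_range, not_lt] at hk
    rw [hz k hk]; simp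
  rw [htsum, ← Finset.sum_range_add_sum_Ico _ (show 3 ≤ 19 by norm_num)] at h4
  have htail : ∑ k ∈ Finset.Ico 3 19, (p k : ℝ) / (((k : ℝ) + 1) * ((k : ℝ) + 2)) ≤
      (1 / 20) * ∑ k ∈ Finset.Ico 3 19, (p k : ℝ) := by
    rw [Finset.mul_sum]
    apply Finset.sum_le_sum
    intro k hk
    rw [Finset.mem_Ico] at hk
    have hk3 : (3 : ℝ) ≤ k := by exact_mod_cast hk.1
    rw [div_le_iff₀ (by positivity)]
    have h20 : (20 : ℝ) ≤ ((k : ℝ) + 1) * ((k : ℝ) + 2) := by nlinarith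
    have hp : (0 : ℝ) ≤ p k := Nat.cast_nonneg _
    nlinarith
  have htot := h3 19
  rw [← Finset.sum_range_add_sum_Ico _ (show 3 ≤ 19 by norm_num)] at htot
  push_cast at htot
  simp only [Finset.sum_range_succ, Finset.sum_range_zero] at h4 htot
  norm_num at h4 htot
  have key : (303 : ℝ) ≤ 12 * n + 27 * p 0 + 7 * p 1 + 2 * p 2 := by linarith
  have key' : 303 ≤ 12 * n + 27 * p 0 + 7 * p 1 + 2 * p 2 := by exact_mod_cast key
  have h1' : 5 * p 0 + 2 * n ≤ 45 := by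
    have : (5 : ℝ) * p 0 + 2 * n ≤ 45 := by linarith
    exact_mod_cast this
  have h01 : p 1 ≤ p 0 := h2 (by norm_num)
  have h12 : p 2 ≤ p 1 := h2 (by norm_num)
  have h3_3 := h3' 3
  have h3_4 := h3' 4
  simp only [Finset.sum_range_succ, Finset.sum_range_zero] at h3_3 h3_4
  have hn : n = 0 := by omega
  refine ⟨hn, ?_⟩
  subst hn
  have hcases : (p 0 = 9 ∧ p 1 = 8 ∧ p 2 = 2 ∧ p 3 = 0) ∨ (p 0 = 9 ∧ p 1 = 9 ∧ p 2 = 0) ∨
      (p 0 = 9 ∧ p 1 = 9 ∧ p 2 = 1 ∧ p 3 = 0) := by omega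
  rcases hcases with ⟨e0, e1, e2, e3⟩ | ⟨e0, e1, e2⟩ | ⟨e0, e1, e2, e3⟩
  · left
    funext k
    match k with
    | 0 => simpa using e0
    | 1 => simpa using e1
    | 2 => simpa using e2
    | (k + 3) =>
      have : p (k + 3) ≤ p 3 := h2 (by omega)
      have h0 : p (k + 3) = 0 := by omega
      simp [h0]
  · right; left
    funext k
    match k with
    | 0 => simpa using e0
    | 1 => simpa using e1
    | (k + 2) =>
      have : p (k + 2) ≤ p 2 := h2 (by omega)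
      have h0 : p (k + 2) = 0 := by omega
      simp [h0]
  · right; right
    funext k
    match k with
    | 0 => simpa using e0
    | 1 => simpa using e1
    | 2 => simpa using e2
    | (k + 3) =>
      have : p (k + 3) ≤ p 3 := h2 (by omega)
      have h0 : p (k + 3) = 0 := by omega
      simp [h0]

end Groth.Agent.S18053
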