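import Groth.Statements.S18054
import Mathlib

set_option autoImplicit false
open STCI

namespace Groth.Agent.S18054


/-- Let s, t, d, g be integers with t ≥ s ≥ 4, d ≥ 1, g ≥ 0 and d dividing st; put n = st/d and assume n
≥ 2; put r = d[n(s - 4) + t] + (2 - 2g)n and assume r ≤ (s/3)(2s² - 6s + 7) - 1. Then d ≤ g + 3.
(The bound is written cleared of the denominator 3; s(2s² - 6s + 7) is always divisible by 3, so
this is the same condition.) -/
theorem result (s t d g n : ℤ) (hs : 4 ≤ s) (hst : s ≤ t) (hd : 1 ≤ d) (hg : 0 ≤ g)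
    (hn : s * t = d * n) (hn2 : 2 ≤ n)
    (hr : 3 * (d * (n * (s - 4) + t) + (2 - 2 * g) * n) ≤ s * (2 * s ^ 2 - 6 * s + 7) - 3) :
    d ≤ g + 3 := by
  by_contra hcon
  push Not at hcon
  have hd4 : 4 ≤ d := by omega
  -- (2 - 2g) n ≥ (10 - 2d) n
  have h1 : (10 - 2 * d) * n ≤ (2 - 2 * g) * n := by
    apply mul_le_mul_of_nonneg_right _ (by omega)
    omega
  -- main inequality (*)
  have hstar : 3 * (s * t * (s - 6)) + 3 * (d * t) + 30 * n ≤ 2 * s ^ 3 - 6 * s ^ 2 + 7 * s - 3 := by
    have h2 : d * (n * (s - 4) + t) = s * t * (s - 4) + d * t := by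
      rw [hn]; ring
    nlinarith [h1, hr, h2, hn]
  rcases eq_or_lt_of_le hs with h4 | h4
  · -- s = 4
    subst h4
    have h3 : n * (3 * d ^ 2 - 24 * d + 120) ≤ 228 := by nlinarith [hstar, hn]
    have h5 : n ≤ 3 := by nlinarith [h3, sq_nonneg (d - 4)]
    have h6 : 16 ≤ d * n := by nlinarith [hn, hst]
    interval_cases n
    · have : d ≤ 7 := by nlinarith [h3]
      omega
    · have : d ≤ 5 := by nlinarith [h3]
      omega
  rcases eq_or_lt_of_le (show (5 : ℤ) ≤ s by omega) with h5 | h5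
  · -- s = 5
    subst h5
    have h3 : n * (d ^ 2 - 5 * d + 50) ≤ 220 := by nlinarith [hstar, hn]
    have h6 : n ≤ 5 := by nlinarith [h3, sq_nonneg (2 * d - 5)]
    have h7 : 25 ≤ d * n := by nlinarith [hn, hst]
    interval_cases n
    · have : d ≤ 10 := by nlinarith [h3]
      omega
    · have : d ≤ 7 := by nlinarith [h3]
      omega
    · have : d ≤ 5 := by nlinarith [h3]
      omega
    · have : d ≤ 3 := by nlinarith [h3]
      omega
  · -- s ≥ 6
    have hs6 : 6 ≤ s := by omega
    have h3 : s * s * (s - 6) ≤ s * t * (s - 6) := by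
      have : 0 ≤ (t - s) * (s * (s - 6)) := mul_nonneg (by omega) (mul_nonneg (by omega) (by omega))
      nlinarith [this]
    have hX : 3 * (d * t) + 30 * n ≤ -s ^ 3 + 12 * s ^ 2 + 7 * s - 3 := by nlinarith [hstar, h3]
    have hXpos : 0 < 3 * (d * t) + 30 * n := by
      have : 0 ≤ d * t := mul_nonneg (by omega) (by omega)
      omega
    have hs12 : s ≤ 12 := by
      by_contra h13
      push Not at h13
      nlinarith [hX, hXpos, mul_nonneg (show (0:ℤ) ≤ s - 13 by omega) (sq_nonneg s)]
    have hX2 : 360 * s ^ 3 ≤ (3 * (d * t) + 30 * n) ^ 2 := by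
      have h7 : (3 * (d * t) + 30 * n) ^ 2 - 360 * (s * t * t) = (3 * (d * t) - 30 * n) ^ 2 := by
        have : d * t * n = s * t * t := by rw [mul_right_comm, ← hn]
        nlinarith [this]
      have h8 : s ^ 3 ≤ s * t * t := by
        have h9 : s * s ≤ t * t := mul_self_le_mul_self (by omega) hst
        nlinarith [h9]
      nlinarith [sq_nonneg (3 * (d * t) - 30 * n), h7, h8]
    interval_cases s <;> nlinarith [hX, hX2, hXpos]

end Groth.Agent.S18054
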