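import Groth.Statements.S18055
import Mathlib
-- import your own Groth.Agent.* helpers here

set_option autoImplicit false
open STCI

namespace Groth.Agent.S18055

/-- Let d ≥ 1, g ≥ 0 and 1 ≤ s ≤ t be integers with d dividing st, put n = st/d and r = d[n(s - 4) + t]
+ (2 - 2g)n, and assume n ≥ 2, r > 0 and (n - 1) divides r. Then s < 2d² and t < 2d⁴. This is the
statement about the degree data (d, g the degree and genus of the curve, s ≤ t the degrees of the
two surfaces) to which the published proof reduces the degree bound: there the divisibility and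
positivity express that r/(n - 1), the common value of the type numbers of the pair, is a positive
integer; the geometric hypotheses themselves are not part of this row. -/
theorem result (d g s t n : ℤ) (hd : 1 ≤ d) (hg : 0 ≤ g) (hs : 1 ≤ s) (hst : s ≤ t)
    (hn : s * t = d * n) (hn2 : 2 ≤ n)
    (hpos : 0 < d * (n * (s - 4) + t) + (2 - 2 * g) * n)
    (hdvd : (n - 1) ∣ d * (n * (s - 4) + t) + (2 - 2 * g) * n) :
    s < 2 * d ^ 2 ∧ t < 2 * d ^ 4 := by
  have hd0 : (0:ℤ) ≤ d := by linarith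
  have ht1 : 1 ≤ t := le_trans hs hst
  obtain ⟨W, hW⟩ : ∃ W : ℤ, W = d * (s - 4) + 2 - 2 * g := ⟨_, rfl⟩
  have hE : d * (n * (s - 4) + t) + (2 - 2 * g) * n = (n - 1) * W + (W + d * t) := by
    rw [hW]; ring
  have hWle : W ≤ d * s - 4 * d + 2 := by rw [hW]; nlinarith
  rw [hE] at hpos hdvd
  have hdvdK : (n - 1) ∣ W + d * t := (dvd_add_right (dvd_mul_right (n - 1) W)).mp hdvd
  obtain ⟨q, hq⟩ := hdvdK
  have hA : 1 ≤ s * W + d ^ 2 := by
    have h1 : t * (s * W + d ^ 2) = d * ((n - 1) * W + (W + d * t)) := by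
      have : t * (s * W + d ^ 2) = (s * t) * W + d ^ 2 * t := by ring
      rw [this, hn]; ring
    have h2 : 0 < t * (s * W + d ^ 2) := by rw [h1]; exact mul_pos (by linarith) hpos
    by_contra hcon
    push_neg at hcon
    have h3 : s * W + d ^ 2 ≤ 0 := by linarith
    nlinarith [mul_nonneg (by linarith : (0:ℤ) ≤ t) (by linarith : (0:ℤ) ≤ -(s * W + d ^ 2))]
  have hK : 0 < W + d * t := by
    by_contra hcon
    push_neg at hcon
    have h1 : s * W ≤ s * (-(d * t)) := mul_le_mul_of_nonneg_left (by linarith) (by linarith)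
    have h2 : s * (-(d * t)) = -(d * (d * n)) := by rw [← hn]; ring
    nlinarith [mul_nonneg (sq_nonneg d) (by linarith : (0:ℤ) ≤ n - 2)]
  have hq1 : 1 ≤ q := by
    by_contra hcon
    push_neg at hcon
    nlinarith [mul_nonneg (by linarith : (0:ℤ) ≤ n - 1) (by linarith : (0:ℤ) ≤ -q)]
  have hC : n - 1 ≤ W + d * t := by
    rw [hq]; nlinarith [mul_nonneg (by linarith : (0:ℤ) ≤ n - 1) (by linarith : (0:ℤ) ≤ q - 1)]
  have hD : s * t ≤ d ^ 2 * s + d ^ 2 * t - 4 * d ^ 2 + 3 * d := by
    have h1 := mul_le_mul_of_nonneg_left hC hd0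
    have h2 := mul_le_mul_of_nonneg_left hWle hd0
    nlinarith [hn]
  have hdd : d ≤ d ^ 2 := by nlinarith
  have hd2 : 1 ≤ d ^ 2 := by nlinarith
  have hd3 : d ^ 2 ≤ d ^ 3 := by nlinarith [mul_nonneg (sq_nonneg d) (by linarith : (0:ℤ) ≤ d - 1)]
  have hd4 : d ^ 3 ≤ d ^ 4 := by
    nlinarith [mul_nonneg (mul_nonneg (sq_nonneg d) hd0) (by linarith : (0:ℤ) ≤ d - 1)]
  have hs2 : s < 2 * d ^ 2 := by
    by_contra hcon
    push_neg at hcon
    have h1 : 2 * d ^ 2 * t ≤ s * t := mul_le_mul_of_nonneg_right hcon (by linarith)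
    have h2 : d ^ 2 * s ≤ d ^ 2 * t := mul_le_mul_of_nonneg_left hst (sq_nonneg d)
    nlinarith
  refine ⟨hs2, ?_⟩
  rcases lt_or_ge (d ^ 2) s with hsd | hsd
  · have h1 : t ≤ t * (s - d ^ 2) := by
      nlinarith [mul_nonneg (by linarith : (0:ℤ) ≤ t) (by linarith : (0:ℤ) ≤ s - d ^ 2 - 1)]
    have h2 : d ^ 2 * s < d ^ 2 * (2 * d ^ 2) := mul_lt_mul_of_pos_left hs2 (by linarith)
    nlinarith
  · have hI : t * (q * s - d ^ 2) = d * (W + q) := by
      have h1 : d * (W + d * t) = (d * n - d) * q := by rw [hq]; ring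
      rw [← hn] at h1
      linear_combination (-1 : ℤ) * h1
    rcases lt_trichotomy (q * s - d ^ 2) 0 with hu | hu | hu
    · have h1 : t ≤ t * (d ^ 2 - q * s) := by
        nlinarith [mul_nonneg (by linarith : (0:ℤ) ≤ t) (by linarith : (0:ℤ) ≤ d ^ 2 - q * s - 1)]
      have h2 : t * (d ^ 2 - q * s) = d * (-W - q) := by linear_combination (-1 : ℤ) * hI
      have h3 : -W ≤ d ^ 2 - 1 := by
        by_contra hcon
        push_neg at hcon
        nlinarith [mul_le_mul_of_nonneg_right hs (by linarith : (0:ℤ) ≤ -W)]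
      have h4 : d * (-W - q) ≤ d * (d ^ 2 - 1 - 1) := mul_le_mul_of_nonneg_left (by linarith) hd0
      nlinarith
    · have h1 : d * (W + q) = 0 := by rw [← hI, hu]; ring
      have h2 : W + q = 0 := by
        rcases mul_eq_zero.mp h1 with h | h
        · linarith
        · exact h
      have h3 : s * W = -(q * s) := by
        have : W = -q := by linarith
        rw [this]; ring
      linarith
    · by_contra hcon
      push_neg at hcon
      have hq2 : q ≤ q * s := by
        nlinarith [mul_nonneg (by linarith : (0:ℤ) ≤ q) (by linarith : (0:ℤ) ≤ s - 1)]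
      have h1 : d * q ≤ d * (q * s) := mul_le_mul_of_nonneg_left hq2 hd0
      have h2 : d * s ≤ d * d ^ 2 := mul_le_mul_of_nonneg_left hsd hd0
      have h3 : d * W ≤ d * (d * s - 4 * d + 2) := mul_le_mul_of_nonneg_left hWle hd0
      have h4 : d * (d * s) ≤ d * (d * d ^ 2) := mul_le_mul_of_nonneg_left h2 hd0
      have h5 : (t - d) ≤ (t - d) * (q * s - d ^ 2) := by
        nlinarith [mul_nonneg (by nlinarith : (0:ℤ) ≤ t - d) (by linarith : (0:ℤ) ≤ q * s - d ^ 2 - 1)]
      nlinarith

end Groth.Agent.S18055
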