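import Groth.Statements.S18056
import Mathlib
import Groth.Agent.H27.FieldSmooth

set_option autoImplicit false
universe u v
open STCI

namespace Groth.Agent.S18056

/-- Let A → B be a homomorphism of Artinian local rings that is flat and formally smooth, where A has a
subring that is a field. Then A and B have the same length, each as a module over itself. -/
theorem result (A : Type u) (B : Type v) [CommRing A] [CommRing B]
    [IsLocalRing A] [IsLocalRing B] [IsArtinianRing A] [IsArtinianRing B] [Algebra A B]
    [Module.Flat A B] [Algebra.FormallySmooth A B] (hK : ∃ K : Subring A, IsField K) :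
    Module.length A A = Module.length B B := by
  classical
  have hnilA : IsNilpotent (IsLocalRing.maximalIdeal A) := by
    have := IsArtinianRing.isNilpotent_jacobson_bot (R := A)
    rwa [IsLocalRing.jacobson_eq_maximalIdeal ⊥ bot_ne_top] at this
  haveI : IsLocalHom (algebraMap A B) := ⟨fun a ha => by
    by_contra hna
    have hm : a ∈ IsLocalRing.maximalIdeal A := (IsLocalRing.mem_maximalIdeal a).mpr hna
    obtain ⟨n, hn⟩ := hnilA
    have h1 : a ^ n ∈ IsLocalRing.maximalIdeal A ^ n := Ideal.pow_mem_pow hm n
    rw [hn] at h1
    have h2 : a ^ n = 0 := by simpa using h1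
    have h3 : IsUnit ((algebraMap A B a) ^ n) := ha.pow n
    rw [← map_pow, h2, map_zero] at h3
    exact not_isUnit_zero h3⟩
  have key : (IsLocalRing.maximalIdeal A).map (algebraMap A B) = IsLocalRing.maximalIdeal B := by
    have hne : (IsLocalRing.maximalIdeal A).map (algebraMap A B) ≠ ⊤ :=
      (IsLocalRing.map_maximalIdeal_lt_top (algebraMap A B)).ne
    haveI : Nontrivial (B ⧸ (IsLocalRing.maximalIdeal A).map (algebraMap A B)) :=
      Ideal.Quotient.nontrivial_iff.mpr hne
    haveI : IsLocalRing (B ⧸ (IsLocalRing.maximalIdeal A).map (algebraMap A B)) :=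
      IsLocalRing.of_surjective' (Ideal.Quotient.mk _) Ideal.Quotient.mk_surjective
    let e := Algebra.TensorProduct.quotIdealMapEquivTensorQuot B (IsLocalRing.maximalIdeal A)
    let c := Algebra.TensorProduct.comm A B (A ⧸ IsLocalRing.maximalIdeal A)
    let ρ : (B ⧸ (IsLocalRing.maximalIdeal A).map (algebraMap A B)) ≃+*
        TensorProduct A (IsLocalRing.ResidueField A) B := e.toRingEquiv.trans c.toRingEquiv
    haveI : IsLocalRing (TensorProduct A (IsLocalRing.ResidueField A) B) := ρ.isLocalRing
    haveI : IsArtinianRing (TensorProduct A (IsLocalRing.ResidueField A) B) :=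
      (show Function.Surjective (ρ.toRingHom.comp
          (Ideal.Quotient.mk ((IsLocalRing.maximalIdeal A).map (algebraMap A B)))) from
        ρ.surjective.comp Ideal.Quotient.mk_surjective).isArtinianRing
    have hnilC : IsNilpotent
        (IsLocalRing.maximalIdeal (TensorProduct A (IsLocalRing.ResidueField A) B)) := by
      have := IsArtinianRing.isNilpotent_jacobson_bot
        (R := TensorProduct A (IsLocalRing.ResidueField A) B)
      rwa [IsLocalRing.jacobson_eq_maximalIdeal ⊥ bot_ne_top] at this
    have hbot := Groth.Agent.H27.FieldSmooth.maximalIdeal_eq_bot_of_field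
      (k := IsLocalRing.ResidueField A) (S := TensorProduct A (IsLocalRing.ResidueField A) B) hnilC
    have hF : IsField (TensorProduct A (IsLocalRing.ResidueField A) B) :=
      IsLocalRing.isField_iff_maximalIdeal_eq.mpr hbot
    have hF' : IsField (B ⧸ (IsLocalRing.maximalIdeal A).map (algebraMap A B)) :=
      MulEquiv.isField hF ρ.toMulEquiv
    exact IsLocalRing.eq_maximalIdeal (Ideal.Quotient.maximal_of_isField _ hF')
  have h1 := IsLocalRing.length_baseChange A B A
  rw [key] at h1
  have h2 : Module.length B (B ⧸ IsLocalRing.maximalIdeal B) = 1 := by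
    haveI : IsSimpleModule B (B ⧸ IsLocalRing.maximalIdeal B) :=
      isSimpleModule_iff_quot_maximal.mpr ⟨IsLocalRing.maximalIdeal B, inferInstance,
        ⟨LinearEquiv.refl _ _⟩⟩
    exact Module.length_eq_one B _
  have h3 : Module.length B (TensorProduct A B A) = Module.length B B :=
    (TensorProduct.AlgebraTensorModule.rid A B B).length_eq
  rw [h2, mul_one, h3] at h1
  exact h1.symm

end Groth.Agent.S18056
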