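import Groth.Statements.S18811
import Mathlib.AlgebraicGeometry.Morphisms.Flat

set_option autoImplicit false
universe u
open CategoryTheory CategoryTheory.Limits AlgebraicGeometry
open Variety

namespace Groth.Agent.S18811

/-- Let k be a field and X, Y quasi-compact k-schemes whose diagonal morphisms over k are affine
(semi-separated; for instance X and Y separated over k). Then the canonical map Γ(X, O_X) ⊗_k Γ(Y,
O_Y) → Γ(X ×_k Y, O) is an isomorphism: the commutative square of rings of global sections formed by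
Spec k, X, Y and X ×_k Y with the pullback maps along the structure morphisms and the two
projections is a pushout square of commutative rings. -/
theorem result (k : Type u) [Field k]
    (X : Scheme.{u}) [X.Over (Spec (CommRingCat.of k))] [CompactSpace ↥X]
    [IsAffineHom (pullback.diagonal (X ↘ (Spec (CommRingCat.of k))))]
    (Y : Scheme.{u}) [Y.Over (Spec (CommRingCat.of k))] [CompactSpace ↥Y]
    [IsAffineHom (pullback.diagonal (Y ↘ (Spec (CommRingCat.of k))))] :
    IsPushout (X ↘ (Spec (CommRingCat.of k))).appTop (Y ↘ (Spec (CommRingCat.of k))).appTop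
      (pullback.fst (X ↘ (Spec (CommRingCat.of k))) (Y ↘ (Spec (CommRingCat.of k)))).appTop
      (pullback.snd (X ↘ (Spec (CommRingCat.of k))) (Y ↘ (Spec (CommRingCat.of k)))).appTop := by
  have hqsX : QuasiSeparated (X ↘ (Spec (CommRingCat.of k))) := ⟨inferInstance⟩
  have hqsY : QuasiSeparated (Y ↘ (Spec (CommRingCat.of k))) := ⟨inferInstance⟩
  have hX : QuasiSeparatedSpace ↥X :=
    quasiSeparatedSpace_of_quasiSeparated (X ↘ (Spec (CommRingCat.of k)))
  have hY : QuasiSeparatedSpace ↥Y :=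
    quasiSeparatedSpace_of_quasiSeparated (Y ↘ (Spec (CommRingCat.of k)))
  have H : IsPullback (pullback.fst (X ↘ (Spec (CommRingCat.of k))) (Y ↘ (Spec (CommRingCat.of k))))
      (pullback.snd (X ↘ (Spec (CommRingCat.of k))) (Y ↘ (Spec (CommRingCat.of k))))
      (X ↘ (Spec (CommRingCat.of k))) (Y ↘ (Spec (CommRingCat.of k))) :=
    IsPullback.of_hasPullback _ _
  have hUST : (⊤ : Y.Opens) ≤ (Y ↘ (Spec (CommRingCat.of k))) ⁻¹ᵁ ⊤ := by simp
  have hUSX : (⊤ : X.Opens) ≤ (X ↘ (Spec (CommRingCat.of k))) ⁻¹ᵁ ⊤ := by simp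
  have hUY : (⊤ : (pullback (X ↘ (Spec (CommRingCat.of k))) (Y ↘ (Spec (CommRingCat.of k)))).Opens) =
      pullback.fst (X ↘ (Spec (CommRingCat.of k))) (Y ↘ (Spec (CommRingCat.of k))) ⁻¹ᵁ ⊤ ⊓
        pullback.snd (X ↘ (Spec (CommRingCat.of k))) (Y ↘ (Spec (CommRingCat.of k))) ⁻¹ᵁ ⊤ := by
    simp
  have hflat : ((X ↘ (Spec (CommRingCat.of k))).appLE ⊤ ⊤ hUSX).hom.Flat := by
    have e1 : (X ↘ (Spec (CommRingCat.of k))).appLE ⊤ ⊤ hUSX =
        (Scheme.ΓSpecIso (CommRingCat.of k)).hom ≫ ((Scheme.ΓSpecIso (CommRingCat.of k)).inv ≫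
          (X ↘ (Spec (CommRingCat.of k))).appLE ⊤ ⊤ hUSX) := by
      rw [Iso.hom_inv_id_assoc]
    rw [e1, CommRingCat.hom_comp]
    refine RingHom.Flat.comp (RingHom.Flat.of_bijective
      (ConcreteCategory.bijective_of_isIso (Scheme.ΓSpecIso (CommRingCat.of k)).hom)) ?_
    algebraize [((Scheme.ΓSpecIso (CommRingCat.of k)).inv ≫
          (X ↘ (Spec (CommRingCat.of k))).appLE ⊤ ⊤ hUSX).hom]
    show Module.Flat k _
    infer_instance
  have hiso := isIso_pushoutSection_of_isCompact_of_flat_right_of_ringHomFlat H hUST hUSX hUY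
    (isAffineOpen_top _) isCompact_univ isQuasiSeparated_univ isCompact_univ
    isQuasiSeparated_univ hflat
  have P := (isIso_pushoutSection_iff H hUST hUSX hUY).mp hiso
  have happ : ∀ {A B : Scheme.{u}} (h : A ⟶ B) (e : (⊤ : A.Opens) ≤ h ⁻¹ᵁ ⊤),
      h.appLE ⊤ ⊤ e = h.appTop := by
    intro A B h e
    exact (Scheme.Hom.app_eq_appLE h).symm
  rw [happ, happ, happ, happ] at P
  exact P

end Groth.Agent.S18811
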